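import Cfsg.Agent.Helper17.ONTC.Facts39

set_option autoImplicit false
set_option linter.all false

noncomputable section

namespace Cfsg.Agent.Helper17.ONTC

theorem E86763 : n141552 = n31973 := (((F85415).symm.trans (sb E84526 (iv2 F224587)))).symm
theorem E86767 : n141547 = n68474 := ((((iv7 F104673)).symm.trans (sb E84526 F224586))).symm
theorem F322577 : act 0 n66393 = n68472 := (sb E84527 (iv1 F104668))
theorem E86768 : n144881 = n141548 := (((D141548).symm.trans (sb E84527 D144881))).symm
theorem E86769 : n141549 = n31974 := ((D141549).symm.trans (sb E84527 F103995))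
theorem E86770 : n144863 = n141220 := (((D141220).symm.trans (sb E84528 (iv1 F251545)))).symm
theorem E86771 : n144862 = n141221 := (((D141221).symm.trans (sb E84528 F251546))).symm
theorem E86772 : n141194 = n112696 := (((iv2 F224211)).symm.trans (sb E84528 F251542))
theorem E86773 : n141222 = n76394 := ((D141222).symm.trans (sb E84528 F251543))
theorem F322578 : act 7 n66239 = n76393 := (sb E84528 (iv7 D159676))
theorem F322579 : act 3 n86060 = n81819 := (sb E84529 (iv3 D170679))
theorem F322580 : act 5 n86060 = n123967 := (sb E84529 (iv5 F303386))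
theorem E86774 : n164051 = n130169 := (((D130169).symm.trans (sb E84530 D164051))).symm
theorem E86775 : n164052 = n130170 := (((D130170).symm.trans (sb E84530 D164052))).symm
theorem E86776 : n164053 = n130130 := ((((iv2 F208640)).symm.trans (sb E84530 D164053))).symm
theorem E86777 : n130171 = n55358 := ((D130171).symm.trans (sb E84530 (iv4 F299015)))
theorem F322581 : act 6 n61105 = n39835 := (sb E84530 F119963)
theorem E86778 : n130172 = n78508 := ((D130172).symm.trans (sb E84530 F119964))
theorem F322582 : act 4 n17371 = n28956 := (sb E84531 (iv4 D61113))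
theorem F322583 : act 0 n26919 = n28956 := (sb E84532 (iv1 D61112))
theorem E86780 : n130189 = n55780 := (((D55780).symm.trans (sb E84532 D130189))).symm
theorem F322584 : act 5 n26919 = n29401 := (sb E84532 F95625)
theorem F322585 : act 7 n35768 = n28956 := (sb E84533 (iv7 D61114))
theorem E86785 : n77890 = n28133 := ((((iv5 F45450)).symm.trans (sb E84535 (iv5 D162118)))).symm
theorem E86786 : n145685 = n118497 := ((D145685).symm.trans (sb E84536 (iv1 F303204)))
theorem E86787 : n167137 = n145686 := (((D145686).symm.trans (sb E84536 D167137))).symm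
theorem E86788 : n152614 = n126816 := ((((iv2 F204060)).symm.trans (sb E84536 (iv2 F239811)))).symm
theorem F322586 : act 3 n68288 = n36555 := (sb E84536 (iv3 D80236))
theorem E86789 : n145687 = n73699 := ((D145687).symm.trans (sb E84536 (iv4 F303206)))
theorem E86790 : n145688 = n117848 := ((D145688).symm.trans (sb E84536 (iv6 F303210)))
theorem E86791 : n117090 = n35482 := ((F320504).symm.trans (sb E84537 F117117))
theorem F322587 : act 5 n58621 = n36555 := (sb E84537 F300391)
theorem F322588 : act 3 n75114 = n39768 := (sb E84538 F131921)
theorem E86795 : n179914 = n157665 := (((D157665).symm.trans (sb E84538 (iv4 F280198)))).symm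
theorem E86796 : n157666 = n39767 := ((D157666).symm.trans (sb E84538 (iv6 D85991)))
theorem E86797 : n161386 = n117089 := (((D117089).symm.trans (sb E84539 (iv3 F255200)))).symm
theorem E86798 : n109827 = n35375 := (((iv5 F169808)).symm.trans (sb E84539 (iv5 D77473)))
theorem E86799 : n161395 = n145635 := ((((iv3 F228654)).symm.trans (sb E84540 (iv3 F255223)))).symm
theorem E86800 : n109825 = n35376 := (((iv5 F169803)).symm.trans (sb E84540 (iv5 D77478)))
theorem F322589 : act 5 n68264 = n36551 := (sb E84543 F300390)
theorem E86803 : n51686 = n17737 := (((F43709).symm.trans (sb E84544 F171377))).symm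
theorem E86804 : n51685 = n18315 := ((((iv4 F118399)).symm.trans (sb E84545 F171373))).symm
theorem F322590 : act 2 n80373 = n111892 := (sb E84546 (iv2 F173825))
theorem E86805 : n50472 = n36628 := (((F123480).symm.trans (sb E84546 (iv4 D109387)))).symm
theorem F322591 : act 6 n80373 = n111892 := (sb E84546 (iv6 F173826))
theorem E86806 : n111891 = n36526 := ((D111891).symm.trans (sb E84547 F302057))
theorem E86807 : n110320 = n36557 := (((iv0 F170551)).symm.trans (sb E84547 F123074))
theorem E86808 : n166971 = n111890 := ((((iv3 F173818)).symm.trans (sb E84547 (iv3 F262866)))).symm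
theorem E86809 : n50582 = n36504 := ((F81456).symm.trans (sb E84547 (iv7 D80155)))
theorem F322592 : act 7 n80152 = n111892 := (sb E84549 (iv7 F173827))
theorem E86812 : n85434 = n72982 := ((((iv5 F315035)).symm.trans (sb E84553 (iv5 D179068)))).symm
theorem F322593 : act 0 n39455 = n35504 := (sb E84555 (iv1 D77808))
theorem F322594 : act 5 n39455 = n36546 := (sb E84555 F302386)
theorem F322595 : act 3 n48894 = n75951 := (sb E84559 F250361)
theorem F322596 : act 3 n158426 = n78873 := (sb E84560 (iv3 D164188))
theorem F322597 : act 6 n158426 = n84810 := (sb E84560 F258759)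
theorem F322598 : act 5 n38776 = n78873 := (sb E84561 F193235)
theorem E86818 : n161561 = n108649 := ((((iv2 F168561)).symm.trans (sb E84562 D161561))).symm
theorem E86819 : n161506 = n109023 := ((((iv4 F169015)).symm.trans (sb E84562 (iv4 F255499)))).symm
theorem E86820 : n36486 = n24546 := ((((iv6 D50337)).symm.trans (sb E84562 F116491))).symm
theorem F322599 : act 4 n17179 = n24694 := (sb E84563 F80077)
theorem E86822 : n24693 = n8286 := (((F28137).symm.trans (sb E84563 (iv6 D50728)))).symm
theorem E86823 : n121549 = n24520 := ((((iv3 F49341)).symm.trans (sb E84565 D121549))).symm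
theorem E86824 : n27061 = n24639 := (((D24639).symm.trans (sb E84565 (iv4 D56140)))).symm
theorem E86826 : n35509 = n14646 := ((((iv6 F24326)).symm.trans (sb E84565 (iv6 F303072)))).symm
theorem E86828 : n27060 = n24596 := ((((iv4 F38604)).symm.trans (sb E84566 (iv4 D56135)))).symm
theorem E86834 : n24634 = n18341 := (((iv3 F38633)).symm.trans (sb E84568 F59251))
theorem E86835 : n24636 = n18317 := ((D24636).symm.trans (sb E84568 F59252))
theorem E86839 : n84795 = n51421 := (((D51421).symm.trans (sb E84570 F263680))).symm
theorem E86840 : n161426 = n51422 := (((D51422).symm.trans (sb E84570 F302583))).symm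
theorem E86842 : n80358 = n51689 := (((D51689).symm.trans (sb E84571 (iv3 F123463)))).symm
theorem E86843 : n51690 = n17656 := ((D51690).symm.trans (sb E84571 (iv5 D36627)))
theorem F322600 : act 6 n25107 = n35382 := (sb E84571 (iv6 F302259))
theorem E86845 : n161425 = n14643 := ((((iv0 F39347)).symm.trans (sb E84573 D161425))).symm
theorem F322601 : act 4 n25064 = n35382 := (sb E84573 (iv4 D77494))
theorem E86847 : n35525 = n11906 := ((((iv7 D25064)).symm.trans (sb E84573 F116344))).symm
theorem E86848 : n120282 = n51601 := ((((iv3 F81452)).symm.trans (sb E84575 (iv3 F197187)))).symm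
theorem E86849 : n51049 = n37371 := ((D51049).symm.trans (sb E84578 (iv5 F118729)))
theorem E86851 : n83343 = n50958 := (((D50958).symm.trans (sb E84579 D83343))).symm
theorem E86852 : n51681 = n37449 := ((D51681).symm.trans (sb E84580 (iv1 F117724)))
theorem E86853 : n82406 = n51682 := (((D51682).symm.trans (sb E84580 D82406))).symm
theorem E86854 : n51680 = n18452 := (((iv2 F81593)).symm.trans (sb E84580 F125825))
theorem E86855 : n82407 = n51659 := ((((iv4 F81567)).symm.trans (sb E84580 D82407))).symm
theorem E86856 : n51683 = n18124 := ((D51683).symm.trans (sb E84580 (iv5 D37796)))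
theorem E86858 : n51684 = n18457 := ((D51684).symm.trans (sb E84580 F125826))
theorem E86859 : n77730 = n25124 := ((((iv6 F39493)).symm.trans (sb E84581 (iv6 F297716)))).symm
theorem E86860 : n51688 = n18310 := ((D51688).symm.trans (sb E84581 F297311))
theorem E86862 : n79579 = n5405 := (((F8537).symm.trans (sb E84582 (iv7 D165692)))).symm
theorem E86863 : n34474 = n24606 := (((F39454).symm.trans (sb E84583 F59238))).symm
theorem E86869 : n84217 = n51667 := ((((iv4 F81581)).symm.trans (sb E84586 F300319))).symm
theorem F322602 : act 0 n90143 = n145918 := (sb E84588 (iv1 F229111))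
theorem F322603 : act 1 n90143 = n145917 := (sb E84588 F229107)
theorem F322604 : act 2 n90143 = n67937 := (sb E84588 (iv2 D144918))
theorem F322605 : act 3 n90143 = n145938 := (sb E84588 (iv3 F229166))
theorem F322606 : act 7 n90143 = n145919 := (sb E84588 (iv7 F229109))
theorem E86871 : n186164 = n67938 := (((iv3 F288906)).symm.trans (sb E84589 F227888))
theorem F322607 : act 5 n88691 = n67937 := (sb E84589 (iv5 D144919))
theorem E86872 : n186172 = n145920 := ((D186172).symm.trans (sb E84589 (iv7 F229114)))
theorem F322608 : act 6 n54470 = n65629 := (sb E84592 (iv6 D139805))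
theorem F322609 : act 6 n54471 = n65630 := (sb E84593 (iv6 D139808))
theorem F322610 : act 6 n30748 = n26342 := (sb E84595 (iv6 F320371))
theorem F322611 : act 3 n71143 = n66101 := (sb E84596 (iv3 D140919))
theorem E86873 : n157157 = n68163 := (E84597).trans E84602
theorem E86874 : n145386 = n74719 := ((D145386).symm.trans (sb E86873 (iv6 D157157)))
theorem F322612 : act 6 n60345 = n66101 := (sb E84598 (iv6 D140922))
theorem F322613 : act 7 n140821 = n72740 := (sb E84599 (iv7 D153751))
theorem F322614 : act 0 n140923 = n72740 := (sb E84600 (iv1 D153749))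
theorem F322615 : act 1 n140924 = n72740 := (sb E84601 F318453)
theorem F322616 : act 4 n140924 = n68243 := (sb E84601 (iv4 D145545))
theorem F322617 : act 6 n140924 = n108203 := (sb E84601 F318454)
theorem F322618 : act 4 n68163 = n66101 := (sb E84602 (iv4 D140920))
theorem F322619 : act 0 n105816 = n64995 := (sb E84603 (iv1 D138367))
theorem F322620 : act 1 n105777 = n64995 := (sb E84604 (iv0 D138366))
theorem F322621 : act 0 n71137 = n65475 := (sb E84605 (iv1 F222690))
theorem F322622 : act 7 n71137 = n65469 := (sb E84605 (iv7 D139511))
theorem F322623 : act 0 n33972 = n65469 := (sb E84606 (iv1 D139509))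
theorem F322624 : act 1 n71139 = n65469 := (sb E84607 (iv0 D139508))
theorem F322625 : act 7 n71141 = n65476 := (sb E84608 (iv7 D139539))
theorem F322626 : act 4 n59948 = n107456 := (sb E84609 F223231)
theorem F322627 : act 6 n139882 = n70349 := (sb E84616 F235544)
theorem F322628 : act 6 n32655 = n65667 := (sb E84617 (iv6 D139883))
theorem F322629 : act 6 n115841 = n179598 := (sb E84619 (iv6 F279698))
theorem F322630 : act 6 n109593 = n54719 := (sb E84620 (iv6 D118895))
theorem F322631 : act 6 n32583 = n65655 := (sb E84621 (iv6 D139867))
theorem F322632 : act 6 n139869 = n70221 := (sb E84622 F235132)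
theorem F322633 : act 6 n32590 = n65656 := (sb E84623 (iv6 D139871))
theorem F322634 : act 6 n30757 = n15428 := (sb E84625 (iv6 F320370))
theorem E86876 : n145466 = n40101 := ((D145466).symm.trans (sb E84628 F299973))
theorem E86877 : n145467 = n79712 := ((D145467).symm.trans (sb E84628 F299974))
theorem E86878 : n159115 = n140548 := ((((iv2 F223694)).symm.trans (sb E84628 (iv2 F250506)))).symm
theorem E86879 : n138479 = n115767 := ((((iv4 F180135)).symm.trans (sb E84628 (iv4 F312859)))).symm
theorem E86880 : n145468 = n37397 := ((D145468).symm.trans (sb E84628 (iv5 D81794)))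
theorem E86881 : n147882 = n145469 := (((D145469).symm.trans (sb E84628 (iv7 F306686)))).symm
theorem E86884 : n148311 = n72834 := (((F311118).symm.trans (sb E84629 (iv3 F232122)))).symm
theorem E86885 : n148314 = n143720 := (((D143720).symm.trans (sb E84629 (iv4 F232123)))).symm
theorem F322635 : act 6 n67313 = n32275 := (sb E84629 (iv6 D69513))
theorem F322636 : act 3 n55170 = n67748 := (sb E84630 F227404)
theorem F322637 : act 6 n55170 = n67742 := (sb E84630 (iv6 D144541))
theorem F322638 : act 1 n76689 = n67748 := (sb E84631 (iv0 D144557))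
theorem F322639 : act 0 n55624 = n67748 := (sb E84632 (iv1 D144558))
theorem F322640 : act 3 n144559 = n69525 := (sb E84633 (iv3 D148364))
theorem F322641 : act 7 n144559 = n130892 := (sb E84633 (iv7 F317640))
theorem F322642 : act 7 n73856 = n67748 := (sb E84634 (iv7 D144560))
theorem F322643 : act 6 n140547 = n81567 := (sb E84637 (iv6 D170071))
theorem E86890 : n164361 = n116161 := (((F182560).symm.trans (sb E84638 (iv2 F259017)))).symm
theorem E86891 : n142100 = n35937 := ((D142100).symm.trans (sb E84638 F120130))
theorem E86892 : n142101 = n114325 := ((D142101).symm.trans (sb E84638 (iv5 F178300)))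
theorem E86893 : n142102 = n35934 := ((D142102).symm.trans (sb E84638 (iv6 D78943)))
theorem E86894 : n164372 = n116162 := ((((iv7 F182559)).symm.trans (sb E84638 D164372))).symm
theorem F322644 : act 3 n37396 = n68221 := (sb E84639 F228508)
theorem F322645 : act 6 n37396 = n68209 := (sb E84639 (iv6 D145465))
theorem F322646 : act 1 n131256 = n68221 := (sb E84641 (iv0 D145485))
theorem F322647 : act 0 n55629 = n68221 := (sb E84642 (iv1 D145486))
theorem E86895 : n142837 = n114078 := (((D114078).symm.trans (sb E84643 F228538))).symm
theorem F322648 : act 4 n52653 = n68221 := (sb E84643 F228539)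
theorem E86896 : n114081 = n68220 := ((D114081).symm.trans (sb E84643 (iv6 D145484)))
theorem F322649 : act 5 n37395 = n68221 := (sb E84644 (iv5 D145487))
theorem F322650 : act 0 n145488 = n74998 := (sb E84645 (iv1 D157554))
theorem F322651 : act 1 n145488 = n120689 := (sb E84645 F248288)
theorem F322652 : act 2 n145488 = n120688 := (sb E84645 F248293)
theorem F322653 : act 3 n145488 = n81564 := (sb E84645 (iv3 F310832))
theorem F322654 : act 4 n145488 = n106309 := (sb E84645 F248292)
theorem F322655 : act 5 n145488 = n81563 := (sb E84645 F310545)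
theorem F322656 : act 3 n53728 = n85784 := (sb E84646 (iv3 D179644))
theorem F322657 : act 5 n53728 = n86237 := (sb E84646 F316327)
theorem F322658 : act 6 n53728 = n85790 := (sb E84646 F279762)
theorem F322659 : act 2 n70065 = n73861 := (sb E84647 F317620)
theorem E86897 : n149272 = n32599 := ((D149272).symm.trans (sb E84647 (iv3 D70237)))
theorem E86899 : n149565 = n131480 := ((((iv5 F210746)).symm.trans (sb E84647 D149565))).symm
theorem F322660 : act 6 n70065 = n139840 := (sb E84647 (iv6 F317430))
theorem F322661 : act 7 n70065 = n66401 := (sb E84647 (iv7 F316514))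
theorem F322662 : act 6 n60157 = n53383 := (sb E84648 (iv6 D115769))
theorem F322663 : act 4 n52905 = n103081 := (sb E84650 (iv4 F305022))
theorem F322664 : act 3 n71164 = n53391 := (sb E84660 F180148)
theorem F322665 : act 3 n140823 = n70197 := (sb E84661 (iv3 D149480))
theorem F322666 : act 6 n140823 = n166117 := (sb E84661 (iv6 F261567))
theorem F322667 : act 1 n115858 = n70328 := (sb E84662 (iv0 D149725))
theorem E86900 : n142089 = n70243 := ((D142089).symm.trans (sb E84663 (iv6 D149580)))
theorem F322668 : act 4 n115825 = n70331 := (sb E84664 (iv4 D149732))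
theorem F322669 : act 6 n115825 = n70334 := (sb E84664 F235483)
theorem E86901 : n142092 = n81734 := ((D142092).symm.trans (sb E84667 (iv6 D170509)))
theorem F322670 : act 6 n37355 = n31084 := (sb E84668 (iv6 D66634))
theorem E86905 : n142096 = n36767 := ((((iv7 F299198)).symm.trans (sb E84668 D142096))).symm
theorem F322671 : act 1 n30559 = n53414 := (sb E84670 (iv0 D115846))
theorem F322672 : act 0 n81477 = n53414 := (sb E84671 (iv1 D115847))
theorem F322673 : act 0 n115843 = n106007 := (sb E84672 F312843)
theorem F322674 : act 1 n115843 = n149328 := (sb E84672 F312844)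
theorem F322675 : act 2 n115843 = n179598 := (sb E84672 F312845)
theorem F322676 : act 5 n115843 = n71009 := (sb E84672 F312846)
theorem F322677 : act 7 n115843 = n179597 := (sb E84672 F312847)
theorem F322678 : act 7 n115845 = n180009 := (sb E84673 F312849)
theorem F322679 : act 5 n37356 = n53414 := (sb E84674 (iv5 D115848))
theorem E86906 : n180010 = n66065 := ((D180010).symm.trans (sb E84675 F180327))
theorem F322680 : act 7 n86023 = n53414 := (sb E84675 (iv7 D115849))
theorem F322681 : act 3 n117700 = n67204 := (sb E84681 F226209)
theorem F322682 : act 6 n116024 = n54179 := (sb E84685 (iv6 D117608))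
theorem F322683 : act 6 n116855 = n66102 := (sb E84690 F223925)
theorem F322684 : act 6 n136738 = n66143 := (sb E84691 F223981)
theorem F322685 : act 1 n61679 = n78596 := (sb E84698 (iv0 D163577))
theorem F322686 : act 0 n61664 = n78596 := (sb E84699 (iv1 D163578))
theorem F322687 : act 2 n149035 = n78596 := (sb E84700 (iv2 D163579))
theorem F322688 : act 5 n61699 = n78596 := (sb E84701 (iv5 D163580))
theorem E86907 : n112398 = n77622 := (((iv4 F174862)).symm.trans (sb E85381 (iv4 D161612)))
theorem F322689 : act 2 n77686 = n78594 := (sb E84705 F193253)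
theorem F322690 : act 4 n77686 = n55913 := (sb E84705 (iv4 D121177))
theorem E86908 : n161723 = n56205 := ((D161723).symm.trans (sb E84705 F193254))
theorem F322691 : act 4 n35629 = n35463 := (sb E84706 (iv4 D77685))
theorem F322692 : act 0 n124983 = n78858 := (sb E84707 (iv1 D164147))
theorem F322693 : act 1 n124984 = n78858 := (sb E84708 (iv0 D164146))
theorem F322694 : act 0 n124978 = n78860 := (sb E84709 (iv1 F258697))
theorem F322695 : act 1 n124978 = n78859 := (sb E84709 F258698)
theorem F322696 : act 6 n124978 = n79659 := (sb E84709 F304025)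
theorem F322697 : act 7 n124978 = n78858 := (sb E84709 (iv7 D164149))
theorem F322698 : act 3 n124985 = n78841 := (sb E84710 F258633)
theorem F322699 : act 6 n124985 = n79660 := (sb E84710 F298646)
theorem F322700 : act 7 n124985 = n78836 := (sb E84710 (iv7 D164101))
theorem E86910 : n180272 = n55053 := ((((iv1 F155139)).symm.trans (sb E84711 (iv1 F280594)))).symm
theorem F322701 : act 5 n36277 = n60796 := (sb E84712 F311726)
theorem F322702 : act 6 n36277 = n58433 := (sb E84712 (iv6 D124986))
theorem F322703 : act 1 n72003 = n55954 := (sb E84717 (iv0 D121296))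
theorem F322704 : act 1 n121297 = n152628 := (sb E84718 F272594)
theorem F322705 : act 2 n121297 = n152630 := (sb E84718 F272590)
theorem F322706 : act 3 n121297 = n83216 := (sb E84718 F272591)
theorem F322707 : act 5 n121297 = n83176 := (sb E84718 F272592)
theorem F322708 : act 7 n121297 = n83175 := (sb E84718 (iv7 D173940))
theorem F322709 : act 0 n121295 = n83175 := (sb E84719 (iv1 D173938))
theorem F322710 : act 1 n121295 = n152630 := (sb E84719 F272583)
theorem F322711 : act 5 n121295 = n85244 := (sb E84719 F305120)
theorem F322712 : act 7 n121295 = n152628 := (sb E84719 F272584)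
theorem F322713 : act 0 n121273 = n152589 := (sb E84720 F278728)
theorem F322714 : act 5 n39404 = n55954 := (sb E84721 (iv5 D121298))
theorem F322715 : act 0 n77683 = n78594 := (sb E84724 (iv1 F119867))
theorem E86911 : n163892 = n155084 := (((F243901).symm.trans (sb E84724 (iv3 F258321)))).symm
theorem E86912 : n161715 = n35847 := ((D161715).symm.trans (sb E84724 (iv6 D78728)))
theorem F322716 : act 2 n78411 = n77762 := (sb E84727 F255242)
theorem F322717 : act 6 n17591 = n24700 := (sb E84728 (iv6 D50746))
theorem E86915 : n110018 = n74100 := ((D110018).symm.trans (sb E84729 (iv5 F316338)))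
theorem F322718 : act 6 n50745 = n34805 := (sb E84729 (iv6 D76200))
theorem E86926 : n24666 = n17149 := (((iv1 F48934)).symm.trans (sb E84732 (iv1 F125983)))
theorem E86927 : n17217 = n11947 := ((((iv2 F19709)).symm.trans (sb E84732 F300885))).symm
theorem F322719 : act 3 n11693 = n17114 := (sb E84732 (iv3 D35261))
theorem E86928 : n24705 = n17168 := ((D24705).symm.trans (sb E84732 (iv5 F301595)))
theorem E86933 : n110032 = n55240 := ((D110032).symm.trans (sb E84734 (iv4 D120049)))
theorem E86934 : n74105 = n51857 := ((((iv7 F81895)).symm.trans (sb E84734 F189617))).symm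
theorem E86935 : n77892 = n28126 := (((D28126).symm.trans (sb E84736 D77892))).symm
theorem E86936 : n36244 = n25122 := ((((iv4 F47645)).symm.trans (sb E84736 F297597))).symm
theorem E86937 : n17239 = n13383 := (((F23369).symm.trans (sb E84736 (iv6 F297935)))).symm
theorem E86938 : n77887 = n28094 := (((F168078).symm.trans (sb E84737 D77887))).symm
theorem E86939 : n77888 = n25123 := ((((iv4 F47642)).symm.trans (sb E84737 D77888))).symm
theorem E86946 : n132326 = n79687 := ((D132326).symm.trans (sb E84741 (iv1 F261334)))
theorem E86947 : n132327 = n79682 := ((D132327).symm.trans (sb E84741 F194352))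
theorem F322720 : act 5 n62081 = n55800 := (sb E84741 (iv5 D120993))
theorem E86948 : n180582 = n132329 := (((D132329).symm.trans (sb E84741 (iv7 F281078)))).symm
theorem E86949 : n132343 = n79687 := ((D132343).symm.trans (sb E84742 F261337))
theorem E86950 : n132346 = n78707 := ((D132346).symm.trans (sb E84742 F261338))
theorem E86951 : n132348 = n79682 := ((D132348).symm.trans (sb E84742 F261339))
theorem E86952 : n132351 = n78708 := ((D132351).symm.trans (sb E84743 (iv5 F256349)))
theorem E86953 : n180592 = n132240 := (((D132240).symm.trans (sb E84744 (iv7 F281102)))).symm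
theorem F322721 : act 5 n62089 = n39919 := (sb E84745 (iv5 D86262))
theorem E86957 : n50503 = n8235 := (((D8235).symm.trans (sb E84747 (iv4 D109486)))).symm
theorem E86958 : n50716 = n12879 := (((D12879).symm.trans (sb E84748 (iv4 D109974)))).symm
theorem E86959 : n50715 = n12881 := (((D12881).symm.trans (sb E84749 (iv4 D109972)))).symm
theorem E86968 : n165986 = n132735 := (((D132735).symm.trans (sb E84753 D165986))).symm
theorem E86969 : n132736 = n98446 := ((D132736).symm.trans (sb E84753 (iv4 F295084)))
theorem F322722 : act 5 n62288 = n55796 := (sb E84753 F122373)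
theorem E86970 : n77414 = n29882 := (((D29882).symm.trans (sb E84754 (iv3 F116222)))).symm
theorem E86971 : n182303 = n130837 := ((((iv4 F209401)).symm.trans (sb E84756 (iv4 F295397)))).symm
theorem F322723 : act 5 n61380 = n77946 := (sb E84756 F192953)
theorem E86972 : n78023 = n29400 := (((D29400).symm.trans (sb E84758 D78023))).symm
theorem E86974 : n78021 = n29315 := (((F164056).symm.trans (sb E84759 D78021))).symm
theorem E86977 : n17240 = n13382 := (((D13382).symm.trans (sb E84761 F56057))).symm
theorem E86978 : n17152 = n11949 := ((((iv4 F19713)).symm.trans (sb E84761 (iv4 D35341)))).symm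
theorem E86980 : n133271 = n80061 := ((D133271).symm.trans (sb E84764 F262515))
theorem E86981 : n133273 = n80060 := ((D133273).symm.trans (sb E84764 (iv5 D166786)))
theorem E86983 : n34458 = n25152 := ((D34458).symm.trans (sb E84767 F81804))
theorem E86985 : n25151 = n17374 := ((((iv7 F28326)).symm.trans (sb E84767 (iv7 D51805)))).symm
theorem E86989 : n165732 = n132741 := (((D132741).symm.trans (sb E84769 (iv2 F261085)))).symm
theorem E86990 : n165736 = n132001 := ((((iv4 F211498)).symm.trans (sb E84769 D165736))).symm
theorem F322724 : act 5 n62296 = n36249 := (sb E84769 (iv5 D79599))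
theorem E86991 : n163374 = n61106 := ((((iv3 F95618)).symm.trans (sb E84770 (iv3 F257664)))).symm
theorem F322725 : act 5 n28957 = n35768 := (sb E84770 (iv5 D78509))
theorem E86995 : n165774 = n132749 := (((D132749).symm.trans (sb E84772 (iv2 F261168)))).symm
theorem F322726 : act 5 n62303 = n36257 := (sb E84772 (iv5 D79620))
theorem F322727 : act 5 n62108 = n55788 := (sb E84775 (iv5 D120960))
theorem E86998 : n80111 = n11686 := (((F23415).symm.trans (sb E84777 (iv5 D166877)))).symm
theorem F322728 : act 1 n162806 = n83547 := (sb E84779 (iv0 D174911))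
theorem F322729 : act 0 n162805 = n83547 := (sb E84780 (iv1 D174912))
theorem F322730 : act 6 n162807 = n83537 := (sb E84781 (iv6 D174881))
theorem F322731 : act 7 n162807 = n83547 := (sb E84781 F273782)
theorem F322732 : act 6 n162809 = n83581 := (sb E84782 (iv6 D175006))
theorem F322733 : act 7 n162809 = n83591 := (sb E84782 F273914)
theorem F322734 : act 0 n158421 = n78586 := (sb E84783 (iv1 D163548))
theorem F322735 : act 1 n131548 = n78586 := (sb E84784 (iv0 D163547))
theorem F322736 : act 0 n163549 = n83767 := (sb E84785 F305494)
theorem F322737 : act 1 n163549 = n83772 := (sb E84785 F305495)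
theorem F322738 : act 3 n163549 = n83537 := (sb E84785 F273637)
theorem F322739 : act 5 n163549 = n83509 := (sb E84785 F273638)
theorem F322740 : act 7 n163549 = n83508 := (sb E84785 (iv7 D174799))
theorem F322741 : act 5 n77437 = n78586 := (sb E84786 (iv5 D163551))
theorem F322742 : act 4 n58687 = n77683 := (sb E84788 F255615)
theorem F322743 : act 5 n163523 = n84126 := (sb E84791 (iv5 D176443))
theorem F322744 : act 5 n38777 = n78583 := (sb E84793 F257802)
theorem F322745 : act 7 n38777 = n78582 := (sb E84793 (iv7 D163537))
theorem F322746 : act 5 n36264 = n60814 := (sb E84794 (iv5 D129405))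
theorem F322747 : act 5 n77618 = n55907 := (sb E84798 (iv5 D121169))
theorem F322748 : act 6 n77618 = n78582 := (sb E84798 F193232)
theorem E87001 : n145674 = n80233 := ((((iv5 F123260)).symm.trans (sb E84802 (iv5 F228729)))).symm
theorem F322749 : act 5 n61614 = n65760 := (sb E84804 (iv5 D140120))
theorem F322750 : act 6 n89253 = n69184 := (sb E84807 F231397)
theorem F322751 : act 0 n114465 = n116908 := (sb E84809 (iv1 F233934))
theorem F322752 : act 1 n114465 = n145755 := (sb E84809 F233932)
theorem F322753 : act 2 n114465 = n145753 := (sb E84809 F233929)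
theorem F322754 : act 5 n114465 = n69786 := (sb E84809 (iv5 D148880))
theorem F322755 : act 0 n114440 = n145755 := (sb E84810 (iv1 F233925))
theorem F322756 : act 1 n114440 = n116908 := (sb E84810 (iv0 F233922))
theorem F322757 : act 5 n114440 = n69785 := (sb E84810 (iv5 D148877))
theorem F322758 : act 7 n114440 = n145753 := (sb E84810 F233921)
theorem F322759 : act 0 n114464 = n68328 := (sb E84811 (iv1 D145739))
theorem F322760 : act 1 n114464 = n69787 := (sb E84811 F228853)
theorem F322761 : act 2 n114464 = n69785 := (sb E84811 F228852)
theorem E87003 : n142510 = n114200 := (((F178520).symm.trans (sb E84811 (iv3 F228849)))).symm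
theorem F322762 : act 7 n114464 = n69786 := (sb E84811 F228850)
theorem F322763 : act 6 n71900 = n69493 := (sb E84812 (iv6 D148242))
theorem E87004 : n174203 = n86088 := ((D174203).symm.trans (sb E84813 (iv1 F201563)))
theorem F322764 : act 1 n83268 = n58684 := (sb E84813 (iv0 D125317))
theorem F322765 : act 2 n125318 = n98244 := (sb E84814 F273697)
theorem F322766 : act 5 n125318 = n83514 := (sb E84814 (iv5 D174821))
theorem E87005 : n98243 = n86087 := ((D98243).symm.trans (sb E84815 (iv1 F201568)))
theorem E87006 : n98244 = n86086 := ((D98244).symm.trans (sb E84815 F201566))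
theorem F322767 : act 2 n45915 = n58684 := (sb E84815 (iv2 D125319))
theorem F322768 : act 7 n45915 = n86088 := (sb E84815 F201565)
theorem F322769 : act 6 n77612 = n58684 := (sb E84816 (iv6 D125321))
theorem E87007 : n166602 = n161002 := ((D166602).symm.trans (sb E84817 F282156))
theorem F322770 : act 6 n79959 = n86506 := (sb E84817 (iv6 D181147))
theorem F322771 : act 1 n119232 = n73841 := (sb E84818 (iv0 D155368))
theorem F322772 : act 0 n119229 = n73841 := (sb E84819 (iv1 D155369))
theorem F322773 : act 4 n119229 = n124650 := (sb E84819 F306726)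
theorem E87008 : n178697 = n79564 := ((D178697).symm.trans (sb E84820 F306728))
theorem E87009 : n178698 = n79563 := ((D178698).symm.trans (sb E84820 F306729))
theorem F322774 : act 2 n85135 = n73841 := (sb E84820 (iv2 D155370))
theorem E87010 : n178699 = n79912 := ((D178699).symm.trans (sb E84820 F306730))
theorem E87011 : n119234 = n86101 := ((D119234).symm.trans (sb E84821 (iv1 F201606)))
theorem E87012 : n119235 = n86100 := ((D119235).symm.trans (sb E84821 F201604))
theorem F322775 : act 2 n54868 = n58694 := (sb E84821 (iv2 D125336))
theorem F322776 : act 3 n54868 = n86093 := (sb E84821 F201602)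
theorem F322777 : act 7 n54868 = n86102 := (sb E84821 F201603)
theorem F322778 : act 6 n77667 = n58694 := (sb E84822 (iv6 D125339))
theorem F322779 : act 1 n77684 = n78594 := (sb E84823 F201587)
theorem F322780 : act 4 n77684 = n58688 := (sb E84823 (iv4 D125326))
theorem E87016 : n35486 = n31777 := ((((iv3 F318616)).symm.trans (sb E84824 (iv3 D77770)))).symm
theorem E87022 : n155061 = n126649 := ((((iv2 F203801)).symm.trans (sb E84825 (iv2 F243843)))).symm
theorem E87023 : n126909 = n33834 := ((D126909).symm.trans (sb E84825 (iv5 D73623)))
theorem F322781 : act 6 n59558 = n33837 := (sb E84825 F110325)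
theorem E87024 : n155111 = n105678 := (((F166118).symm.trans (sb E84825 D155111))).symm
theorem F322782 : act 4 n128375 = n83588 := (sb E84827 F273849)
theorem F322783 : act 6 n128375 = n161182 := (sb E84827 F273850)
theorem E87026 : n161182 = n143955 := ((((iv3 F226591)).symm.trans (sb E84829 D161182))).symm
theorem F322784 : act 4 n67445 = n35323 := (sb E84829 (iv4 D77376))
theorem E87028 : n161184 = n66125 := (((F103297).symm.trans (sb E84829 D161184))).symm
theorem E87029 : n174930 = n109859 := (((D109859).symm.trans (sb E84830 F302723))).symm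
theorem F322785 : act 4 n66153 = n35484 := (sb E84834 (iv4 D77760))
theorem F322786 : act 6 n77480 = n78411 := (sb E84835 F316190)
theorem E87033 : n145676 = n119856 := ((((iv7 F304785)).symm.trans (sb E84837 (iv7 F228737)))).symm
theorem F322787 : act 4 n30918 = n35377 := (sb E84838 (iv4 D77482))
theorem E87036 : n161381 = n66134 := (((D66134).symm.trans (sb E84838 (iv6 F255187)))).symm
theorem F322788 : act 0 n68285 = n35485 := (sb E84841 (iv1 F116314))
theorem F322789 : act 1 n68285 = n35484 := (sb E84841 F116315)
theorem F322790 : act 2 n68285 = n35487 := (sb E84841 F116311)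
theorem F322791 : act 7 n68285 = n35377 := (sb E84841 (iv7 D77483))
theorem F322792 : act 4 n30915 = n35487 := (sb E84843 F117142)
theorem E87042 : n25165 = n8073 := (((F28160).symm.trans (sb E84844 (iv4 D51841)))).symm
theorem E87045 : n155146 = n107683 := ((((iv3 F321594)).symm.trans (sb E84845 (iv3 F243964)))).symm
theorem F322793 : act 6 n74139 = n35487 := (sb E84845 (iv6 D77773))
theorem E87047 : n109813 = n10302 := (((F28438).symm.trans (sb E84846 (iv3 F169794)))).symm
theorem E87048 : n36033 = n24660 := ((D36033).symm.trans (sb E84846 (iv5 D50640)))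
theorem E87050 : n114866 = n52995 := (((iv1 F178940)).symm.trans (sb E84847 (iv1 D114850)))
theorem F322794 : act 3 n114840 = n68684 := (sb E84849 F229839)
theorem F322795 : act 6 n114840 = n68682 := (sb E84849 (iv6 D146519))
theorem F322796 : act 0 n114714 = n121327 := (sb E84850 (iv1 F193456))
theorem F322798 : act 2 n114714 = n52995 := (sb E84850 (iv2 D114851))
theorem E87051 : n121338 = n52944 := ((((iv3 D114714)).symm.trans (sb E84850 (iv3 F193541)))).symm
theorem F322799 : act 3 n55975 = n54080 := (sb E84851 (iv3 D117343))
theorem F322800 : act 4 n55975 = n68438 := (sb E84851 F183761)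
theorem E87052 : n114905 = n68674 := (((iv7 F178986)).symm.trans (sb E84851 F183762))
theorem F322801 : act 0 n114507 = n119996 := (sb E84852 (iv1 F314416))
theorem F322802 : act 1 n114507 = n146332 := (sb E84852 (iv0 F229673))
theorem F322803 : act 2 n114507 = n68683 := (sb E84852 F183763)
theorem F322804 : act 4 n114507 = n147972 := (sb E84852 (iv4 F231792))
theorem F322805 : act 5 n114507 = n54080 := (sb E84852 (iv5 D117344))
theorem E87053 : n157730 = n68675 := (((iv7 F248590)).symm.trans (sb E84852 F183764))
theorem E87054 : n153517 = n111082 := ((((iv4 F172278)).symm.trans (sb E84853 (iv4 F241276)))).symm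
theorem F322806 : act 5 n65691 = n76781 := (sb E84853 F205965)
theorem F322807 : act 1 n80466 = n66328 := (sb E84854 (iv0 D141380))
theorem F322808 : act 0 n80469 = n66328 := (sb E84855 (iv1 D141381))
theorem E87055 : n142804 = n107396 := ((D142804).symm.trans (sb E84856 (iv1 F318311)))
theorem F322809 : act 3 n38891 = n66342 := (sb E84857 F224424)
theorem F322810 : act 5 n38891 = n66328 := (sb E84857 (iv5 D141382))
theorem F322811 : act 1 n47292 = n38496 := (sb E84861 (iv0 D83500))
theorem F322812 : act 3 n47292 = n72944 := (sb E84861 (iv3 F190694))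
theorem E87058 : n101724 = n84913 := ((D101724).symm.trans (sb E84861 F130127))
theorem E87060 : n174776 = n101726 := (((D101726).symm.trans (sb E84861 D174776))).symm
theorem F322813 : act 0 n46984 = n22735 := (sb E84862 (iv1 D47291))
theorem F322814 : act 1 n46984 = n99711 := (sb E84862 (iv0 F156710))
theorem E87061 : n101717 = n38496 := (((F74201).symm.trans (sb E84862 (iv2 F156613)))).symm
theorem E87066 : n101712 = n99710 := ((((iv7 F321039)).symm.trans (sb E84862 F156612))).symm
theorem E87067 : n101713 = n88642 := ((D101713).symm.trans (sb E84863 (iv3 F135898)))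
theorem E87068 : n101714 = n38502 := ((D101714).symm.trans (sb E84863 F128606))
theorem E87069 : n160330 = n101715 := (((D101715).symm.trans (sb E84863 (iv5 F304599)))).symm
theorem E87070 : n101716 = n100730 := ((D101716).symm.trans (sb E84863 (iv6 F154833)))
theorem E87071 : n101729 = n82888 := ((D101729).symm.trans (sb E84865 (iv3 D173212)))
theorem E87072 : n177035 = n174103 := (((iv4 F276451)).symm.trans (sb E84866 F272955))
theorem F322815 : act 0 n173393 = n173962 := (sb E84867 F272956)
theorem F322816 : act 1 n62346 = n132761 := (sb E84870 F213217)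
theorem F322817 : act 7 n62346 = n61091 := (sb E84870 (iv7 D130123))
theorem F322818 : act 1 n62474 = n61091 := (sb E84871 (iv0 D130120))
theorem F322819 : act 0 n75624 = n61091 := (sb E84872 (iv1 D130121))
theorem F322820 : act 2 n130115 = n164517 := (sb E84873 (iv2 F259291))
theorem F322821 : act 5 n130115 = n71961 := (sb E84873 (iv5 D152581))
theorem F322822 : act 5 n75331 = n61091 := (sb E84874 (iv5 D130122))
theorem E87074 : n152412 = n49768 := ((F321528).symm.trans (sb E84875 (iv3 D107739)))
theorem E87075 : n175963 = n108500 := ((D175963).symm.trans (sb E84875 (iv5 F167726)))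
theorem E87076 : n133482 = n80423 := (((F321529).symm.trans (sb E84875 (iv7 F214669)))).symm
theorem E87079 : n33225 = n29624 := (((F97723).symm.trans (sb E84876 F108395))).symm
theorem F322823 : act 4 n62645 = n38221 := (sb E84876 (iv4 F319551))
theorem F322824 : act 6 n62645 = n33223 := (sb E84876 (iv6 D71898))
theorem E87081 : n152406 = n38676 := (((F318987).symm.trans (sb E84876 D152406))).symm
theorem F322825 : act 3 n76090 = n63916 := (sb E84877 F218642)
theorem E87082 : n159161 = n63912 := ((D159161).symm.trans (sb E84877 F218643))
theorem E87083 : n159162 = n63911 := ((D159162).symm.trans (sb E84877 (iv7 D135927)))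
theorem F322826 : act 3 n84671 = n59615 := (sb E84878 F204280)
theorem F322827 : act 1 n127043 = n118200 := (sb E84879 F304497)
theorem F322828 : act 3 n127043 = n76874 := (sb E84879 F253315)
theorem F322829 : act 4 n127043 = n80610 := (sb E84879 F304498)
theorem F322830 : act 7 n127043 = n120631 := (sb E84879 F304500)
theorem F322831 : act 3 n35128 = n64051 := (sb E84880 F219233)
theorem E87085 : n76873 = n64041 := ((D76873).symm.trans (sb E84880 (iv5 D136212)))
theorem F322832 : act 2 n136246 = n64927 := (sb E84882 F221413)
theorem F322833 : act 7 n136246 = n64926 := (sb E84882 (iv7 D138233))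
theorem E87086 : n151771 = n137336 := (((iv1 F307781)).symm.trans (sb E84883 F221415))
theorem F322834 : act 4 n119775 = n64927 := (sb E84883 (iv4 D138235))
theorem E87087 : n138214 = n55114 := ((((iv5 D119775)).symm.trans (sb E84883 F221414))).symm
theorem F322835 : act 0 n118096 = n64410 := (sb E84884 F221397)
theorem E87088 : n138255 = n54402 := ((((iv0 D118096)).symm.trans (sb E84884 (iv0 F221444)))).symm
theorem F322836 : act 4 n118096 = n138224 := (sb E84884 (iv4 F221394))
theorem F322837 : act 5 n118096 = n64927 := (sb E84884 F220018)
theorem F322838 : act 6 n118096 = n64316 := (sb E84884 (iv6 D136811))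
theorem F322839 : act 6 n107952 = n64927 := (sb E84885 (iv6 D138236))
theorem F322840 : act 2 n57106 = n64926 := (sb E84886 (iv2 D138229))
theorem F322841 : act 7 n57106 = n64927 := (sb E84886 (iv7 F221410))
theorem F322842 : act 3 n72301 = n64926 := (sb E84887 (iv3 D138230))
theorem F322843 : act 4 n71542 = n64926 := (sb E84888 (iv4 D138231))
theorem E87089 : n138226 = n72938 := ((((iv5 F307787)).symm.trans (sb E84888 F221411))).symm
theorem F322844 : act 1 n118097 = n64410 := (sb E84889 (iv0 D137027))
theorem F322845 : act 4 n118097 = n138210 := (sb E84889 (iv4 F221373))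
theorem F322846 : act 5 n118097 = n64926 := (sb E84889 F220161)
theorem F322847 : act 6 n118097 = n133498 := (sb E84889 (iv6 F220162))
theorem F322848 : act 6 n55406 = n64926 := (sb E84890 (iv6 D138232))
theorem F322849 : act 0 n70707 = n64928 := (sb E84891 (iv1 D138238))
theorem E87090 : n150212 = n138272 := (((iv4 F236396)).symm.trans (sb E84891 (iv4 F221472)))
theorem E87091 : n138252 = n54387 := ((((iv5 F155324)).symm.trans (sb E84891 (iv5 F221474)))).symm
theorem F322850 : act 1 n70608 = n64928 := (sb E84892 (iv0 D138237))
theorem E87092 : n150068 = n138258 := (((iv4 F236135)).symm.trans (sb E84892 (iv4 F221453)))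
theorem E87093 : n138268 = n47316 := (((F321070).symm.trans (sb E84892 (iv5 F221463)))).symm
theorem F322851 : act 3 n76093 = n63917 := (sb E84893 F218644)
theorem E87094 : n159166 = n156027 := ((D159166).symm.trans (sb E84893 (iv4 F245128)))
theorem F322852 : act 3 n32707 = n64928 := (sb E84894 (iv3 D138239))
theorem F322853 : act 0 n138203 = n118238 := (sb E84895 (iv1 F234172))
theorem F322854 : act 1 n138203 = n118179 := (sb E84895 F234173)
theorem F322855 : act 2 n138203 = n80610 := (sb E84895 F234168)
theorem F322856 : act 3 n138203 = n70494 := (sb E84895 F234169)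
theorem F322857 : act 5 n138203 = n76137 := (sb E84895 F234170)
theorem F322858 : act 7 n138203 = n69865 := (sb E84895 (iv7 D148992))
theorem E87095 : n113705 = n30079 := (((F97445).symm.trans (sb E84898 (iv1 F288246)))).symm
theorem E87097 : n113707 = n61427 := (((F97442).symm.trans (sb E84898 F288242))).symm
theorem E87098 : n117430 = n29539 := ((((iv5 D62501)).symm.trans (sb E84898 F288244))).symm
theorem E87099 : n133197 = n88515 := ((D133197).symm.trans (sb E84898 (iv6 D185841)))
theorem E87100 : n113696 = n61424 := (((F97443).symm.trans (sb E84898 F288245))).symm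
theorem E87101 : n133196 = n43391 := ((D133196).symm.trans (sb E84899 (iv6 D92755)))
theorem E87102 : n117422 = n61423 := (((F97440).symm.trans (sb E84899 (iv7 F183924)))).symm
theorem F322859 : act 6 n41321 = n61430 := (sb E84900 (iv6 D130933))
theorem E87103 : n133207 = n90497 := ((D133207).symm.trans (sb E84901 F288257))
theorem F322860 : act 3 n60774 = n88516 := (sb E84902 (iv3 D185842))
theorem E87104 : n129307 = n92466 := ((D129307).symm.trans (sb E84902 F288248))
theorem E87105 : n129308 = n90508 := ((D129308).symm.trans (sb E84902 F288249))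
theorem F322861 : act 4 n68803 = n53663 := (sb E84903 (iv4 D116433))
theorem E87106 : n103791 = n71238 := ((D103791).symm.trans (sb E84907 (iv3 D151160)))
theorem E87107 : n99898 = n72725 := ((F293295).symm.trans (sb E84907 F237846))
theorem F322862 : act 3 n47990 = n54884 := (sb E84909 (iv3 D119250))
theorem F322863 : act 0 n48046 = n71291 := (sb E84910 (iv1 D151274))
theorem F322864 : act 1 n48005 = n71291 := (sb E84911 (iv0 D151273))
theorem E87108 : n71276 = n46896 := (((D46896).symm.trans (sb E84912 (iv5 D151229)))).symm
theorem F322865 : act 2 n47989 = n71291 := (sb E84914 F187694)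
theorem F322866 : act 5 n47989 = n54884 := (sb E84914 (iv5 D119251))
theorem F322867 : act 4 n116130 = n85479 := (sb E84915 (iv4 D179139))
theorem F322868 : act 0 n141690 = n68209 := (sb E84916 (iv1 D145464))
theorem F322869 : act 1 n141690 = n116626 := (sb E84916 F228502)
theorem F322870 : act 2 n141690 = n116542 := (sb E84916 F228506)
theorem F322871 : act 4 n141690 = n140740 := (sb E84916 F228507)
theorem F322872 : act 7 n141690 = n116621 := (sb E84916 F228503)
theorem F322873 : act 2 n126881 = n85473 := (sb E84917 F279075)
theorem F322874 : act 6 n126881 = n85472 := (sb E84917 (iv6 D179127))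
theorem E87109 : n130286 = n62398 := ((((iv2 F208594)).symm.trans (sb E84921 F213345))).symm
theorem E87110 : n129650 = n62184 := (((F96949).symm.trans (sb E84921 F213347))).symm
theorem E87111 : n130097 = n62338 := ((D130097).symm.trans (sb E84921 (iv6 D132829)))
theorem E87112 : n130102 = n62339 := ((D130102).symm.trans (sb E84922 (iv6 D132833)))
theorem F322875 : act 6 n29490 = n28947 := (sb E84923 (iv6 D61086))
theorem F322876 : act 4 n83733 = n66825 := (sb E84924 (iv4 D142539))
theorem F322877 : act 5 n106761 = n106675 := (sb E84926 (iv5 F217872))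
theorem E87116 : n110776 = n61950 := ((D110776).symm.trans (sb E84927 (iv5 D132016)))
theorem F322878 : act 3 n29346 = n49695 := (sb E84928 F165956)
theorem E87117 : n61954 = n49694 := ((D61954).symm.trans (sb E84928 (iv6 D107565)))
theorem F322879 : act 5 n29345 = n49695 := (sb E84929 (iv5 D107568))
theorem E87118 : n106853 = n61952 := (((D61952).symm.trans (sb E84929 F165957))).symm
theorem F322880 : act 6 n107548 = n62768 := (sb E84931 (iv6 D133714))
theorem F322881 : act 3 n49211 = n49691 := (sb E84932 (iv3 D107554))
theorem E87119 : n106847 = n106496 := (((D106496).symm.trans (sb E84932 (iv7 F165938)))).symm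
theorem F322882 : act 3 n107555 = n106495 := (sb E84933 F250825)
theorem F322883 : act 6 n107555 = n76217 := (sb E84933 (iv6 D159331))
theorem F322884 : act 1 n52526 = n63756 := (sb E84934 (iv0 D135587))
theorem F322885 : act 0 n135585 = n69717 := (sb E84935 (iv1 D148756))
theorem F322886 : act 1 n135585 = n113769 := (sb E84935 F233540)
theorem E87121 : n113905 = n63755 := ((((iv5 D135585)).symm.trans (sb E84935 (iv5 F233541)))).symm
theorem F322887 : act 0 n63855 = n113769 := (sb E84936 (iv1 F233547))
theorem F322888 : act 1 n63855 = n69717 := (sb E84936 (iv0 D148755))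
theorem E87123 : n131867 = n113761 := ((((iv2 F177015)).symm.trans (sb E84937 D131867))).symm
theorem E87124 : n113762 = n29319 := ((D113762).symm.trans (sb E84937 (iv3 D61878)))
theorem E87125 : n113763 = n29322 := ((D113763).symm.trans (sb E84937 F96459))
theorem E87126 : n113764 = n63773 := ((D113764).symm.trans (sb E84937 (iv5 F99135)))
theorem E87127 : n131868 = n113765 := (((D113765).symm.trans (sb E84937 D131868))).symm
theorem E87128 : n113756 = n106548 := ((F177012).symm.trans (sb E84937 (iv7 F163798)))
theorem F322889 : act 2 n132229 = n113768 := (sb E84938 F233538)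
theorem F322890 : act 4 n132229 = n69717 := (sb E84938 F233539)
theorem F322891 : act 6 n132229 = n69716 := (sb E84938 (iv6 D148754))
theorem F322892 : act 0 n61450 = n113670 := (sb E84939 (iv1 F220090))
theorem E87129 : n130974 = n126838 := (((iv3 F209678)).symm.trans (sb E84939 (iv3 F220091)))
theorem F322893 : act 4 n61450 = n69715 := (sb E84939 F220087)
theorem E87130 : n130984 = n64358 := ((D130984).symm.trans (sb E84939 (iv5 D136914)))
theorem F322895 : act 0 n113738 = n62539 := (sb E84940 (iv1 D133263))
theorem E87131 : n133262 = n29633 := (E84941).trans E85771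
theorem E87132 : n62674 = n62539 := ((D62674).symm.trans (sb E87131 (iv0 D133262)))
theorem F322896 : act 6 n139017 = n66933 := (sb E84945 (iv6 D142796))
theorem F322897 : act 2 n84436 = n66938 := (sb E84948 F165344)
theorem F322898 : act 6 n84436 = n49568 := (sb E84948 (iv6 D107280))
theorem F322900 : act 1 n137465 = n67089 := (sb E84956 (iv0 D143181))
theorem F322901 : act 1 n66431 = n67035 := (sb E84966 (iv0 D143036))
theorem E87133 : n140744 = n80571 := ((D140744).symm.trans (sb E84967 F313923))
theorem E87134 : n140745 = n32595 := ((D140745).symm.trans (sb E84967 (iv0 D70224)))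
theorem F322902 : act 2 n66044 = n37355 := (sb E84967 F313924)
theorem E87135 : n149529 = n140719 := ((((iv3 F223815)).symm.trans (sb E84967 D149529))).symm
theorem E87136 : n149530 = n140743 := ((((iv4 F223837)).symm.trans (sb E84967 D149530))).symm
theorem E87137 : n140746 = n37250 := ((D140746).symm.trans (sb E84967 (iv5 F316377)))
theorem E87138 : n140747 = n37350 := ((D140747).symm.trans (sb E84967 F313925))
theorem F322903 : act 1 n40134 = n30894 := (sb E84968 (iv0 D66046))
theorem F322904 : act 0 n39798 = n30894 := (sb E84969 (iv1 D66047))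
theorem E87149 : n159102 = n140722 := (((D140722).symm.trans (sb E84970 F280379))).symm
theorem E87150 : n140736 = n86532 := ((D140736).symm.trans (sb E84971 F302800))
theorem E87151 : n166028 = n140737 := (((D140737).symm.trans (sb E84971 F302801))).symm
theorem E87152 : n166325 = n140738 := (((D140738).symm.trans (sb E84971 F302802))).symm
theorem E87153 : n140758 = n80470 := ((D140758).symm.trans (sb E84972 F299193))
theorem E87154 : n140759 = n34730 := ((D140759).symm.trans (sb E84972 (iv0 D75995)))
theorem F322905 : act 2 n66048 = n37356 := (sb E84972 F148167)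
theorem E87155 : n140760 = n39993 := ((D140760).symm.trans (sb E84972 F299194))
theorem E87156 : n140761 = n138563 := ((D140761).symm.trans (sb E84972 (iv7 F312840)))
theorem E87157 : n140723 = n138561 := (((D138561).symm.trans (sb E84973 (iv3 F223817)))).symm
theorem E87158 : n140739 = n138562 := (((D138562).symm.trans (sb E84973 (iv4 F223835)))).symm
theorem E87159 : n138564 = n115838 := ((D138564).symm.trans (sb E84973 (iv6 F180280)))
theorem F322906 : act 7 n65066 = n30894 := (sb E84973 (iv7 D66049))
theorem F322907 : act 0 n142132 = n72183 := (sb E84974 (iv1 D152931))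
theorem F322908 : act 5 n60746 = n68348 := (sb E84975 (iv5 D145780))
theorem F322909 : act 3 n66261 = n76393 := (sb E84976 (iv3 D159675))
theorem E87160 : n164550 = n141281 := ((((iv4 F224301)).symm.trans (sb E84976 (iv4 F259368)))).symm
theorem E87161 : n146648 = n53487 := ((D146648).symm.trans (sb E84977 (iv6 D116052)))
theorem E87162 : n155911 = n120091 := (((iv2 F244900)).symm.trans (iv2 (sb E84978 (tr F219969 E85563))))
theorem F322910 : act 5 n120091 = n64295 := (sb E84978 F219970)
theorem F322911 : act 7 n120091 = n64294 := (sb E84978 (iv7 D136770))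
theorem F322912 : act 0 n64260 = n55256 := (sb E84979 (iv1 D120092))
theorem F322913 : act 4 n105770 = n76578 := (sb E84981 (iv4 D159946))
theorem F322914 : act 4 n67899 = n68574 := (sb E84982 (iv4 D146236))
theorem F322915 : act 1 n59605 = n61025 := (sb E84983 (iv0 F97388))
theorem F322916 : act 2 n59605 = n59654 := (sb E84983 F97384)
theorem E87163 : n133177 = n127007 := (((D127007).symm.trans (sb E84983 (iv3 F213956)))).symm
theorem E87164 : n127008 = n29533 := ((D127008).symm.trans (sb E84983 F97385))
theorem E87165 : n127009 = n29531 := ((D127009).symm.trans (sb E84983 (iv6 D62489)))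
theorem F322917 : act 7 n59605 = n59647 := (sb E84983 (iv7 F97386))
theorem F322918 : act 1 n65461 = n76655 := (sb E84984 (iv0 D160066))
theorem E87166 : n146354 = n117906 := ((((iv6 F320791)).symm.trans (sb E84984 F252605))).symm
theorem F322919 : act 0 n53940 = n76655 := (sb E84985 (iv1 D160067))
theorem F322920 : act 4 n115994 = n76655 := (sb E84986 (iv4 D160068))
theorem F322921 : act 6 n115994 = n76657 := (sb E84986 F252609)
theorem F322922 : act 2 n102645 = n143136 := (sb E84987 F225993)
theorem F322923 : act 4 n102645 = n50543 := (sb E84987 (iv4 D109557))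
theorem F322924 : act 7 n102645 = n111838 := (sb E84987 (iv7 F173658))
theorem E87167 : n112158 = n102513 := ((((iv2 F157440)).symm.trans (sb E84988 (iv2 F174396)))).symm
theorem F322925 : act 3 n89446 = n139834 := (sb E84988 F223042)
theorem F322926 : act 5 n89446 = n50699 := (sb E84988 (iv5 D109931))
theorem F322927 : act 7 n89446 = n112150 := (sb E84988 (iv7 F174380))
theorem E87168 : n143136 = n102512 := ((D143136).symm.trans (sb E84989 (iv1 F157861)))
theorem E87169 : n111838 = n102511 := (((iv0 F174382)).symm.trans (sb E84989 F157862))
theorem E87170 : n143137 = n102514 := ((D143137).symm.trans (sb E84989 F157858))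
theorem E87171 : n143138 = n99835 := ((D143138).symm.trans (sb E84989 F157859))
theorem F322928 : act 7 n67078 = n47606 := (sb E84989 (iv7 D102646))
theorem E87172 : n116488 = n74599 := ((D116488).symm.trans (sb E84990 (iv6 D156871)))
theorem E87175 : n142472 = n138934 := (((D138934).symm.trans (sb E84991 (iv3 F225386)))).symm
theorem F322929 : act 6 n65226 = n31139 := (sb E84991 (iv6 D66802))
theorem F322930 : act 6 n108252 = n66591 := (sb E84994 (iv6 D142003))
theorem F322931 : act 6 n124867 = n66597 := (sb E84999 (iv6 D142015))
theorem E87178 : n140911 = n57683 := (((F312132).symm.trans (sb E85005 F225058))).symm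
theorem E87179 : n156625 = n140799 := ((D156625).symm.trans (sb E85006 F225059))
theorem F322932 : act 5 n138546 = n66076 := (sb E85015 (iv5 D140831))
theorem E87180 : n143073 = n139094 := ((((iv4 F222282)).symm.trans (sb E85017 (iv4 F225927)))).symm
theorem F322933 : act 7 n138809 = n66610 := (sb E85017 (iv7 D142038))
theorem F322934 : act 7 n124874 = n66612 := (sb E85018 (iv7 D142043))
theorem F322935 : act 7 n138816 = n66617 := (sb E85019 (iv7 D142057))
theorem F322936 : act 4 n116629 = n66529 := (sb E85020 (iv4 D141906))
theorem F322937 : act 0 n141913 = n71119 := (sb E85021 (iv1 D150850))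
theorem F322938 : act 2 n141913 = n147902 := (sb E85021 F237419)
theorem F322939 : act 4 n141913 = n124886 := (sb E85021 (iv4 F237418))
theorem F322940 : act 7 n141913 = n147899 := (sb E85021 F237420)
theorem F322941 : act 2 n141915 = n154706 := (sb E85022 (iv2 F242876))
theorem F322942 : act 5 n141915 = n72641 := (sb E85022 (iv5 D153618))
theorem F322943 : act 1 n118231 = n66644 := (sb E85023 (iv0 D142129))
theorem F322944 : act 3 n83736 = n66646 := (sb E85024 F225162)
theorem F322945 : act 5 n83736 = n66644 := (sb E85024 (iv5 D142133))
theorem F322946 : act 2 n142136 = n153610 := (sb E85025 (iv2 F241464))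
theorem F322947 : act 4 n142136 = n72062 := (sb E85025 (iv4 D152724))
theorem F322948 : act 0 n80553 = n66651 := (sb E85026 (iv1 F225173))
theorem F322949 : act 1 n80553 = n66646 := (sb E85026 (iv0 D142142))
theorem F322950 : act 0 n35662 = n66646 := (sb E85027 (iv1 D142143))
theorem F322951 : act 1 n35662 = n66651 := (sb E85027 F225170)
theorem F322952 : act 2 n60346 = n66646 := (sb E85028 F225157)
theorem F322953 : act 7 n60346 = n66651 := (sb E85028 F225158)
theorem F322954 : act 4 n130266 = n66646 := (sb E85029 (iv4 D142144))
theorem F322955 : act 6 n58525 = n66646 := (sb E85030 (iv6 D142145))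
theorem F322956 : act 2 n80551 = n66651 := (sb E85031 F225171)
theorem F322957 : act 7 n80551 = n66646 := (sb E85031 (iv7 D142146))
theorem F322958 : act 1 n127964 = n66649 := (sb E85032 (iv0 D142151))
theorem F322959 : act 0 n127966 = n66649 := (sb E85033 (iv1 D142152))
theorem F322960 : act 2 n137952 = n66649 := (sb E85034 (iv2 D142153))
theorem F322961 : act 0 n142155 = n85419 := (sb E85035 F308961)
theorem F322962 : act 1 n142155 = n85424 := (sb E85035 F308962)
theorem F322963 : act 2 n142155 = n149875 := (sb E85035 F307633)
theorem F322964 : act 4 n142155 = n179042 := (sb E85035 F307635)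
theorem F322965 : act 6 n142155 = n71332 := (sb E85035 (iv6 D151359))
theorem F322966 : act 7 n142155 = n128345 := (sb E85035 F307637)
theorem F322967 : act 0 n142156 = n159394 := (sb E85036 F250980)
theorem F322968 : act 1 n142156 = n85675 := (sb E85036 (iv0 F237592))
theorem F322969 : act 2 n142156 = n159431 := (sb E85036 F278910)
theorem F322970 : act 5 n142156 = n144893 := (sb E85036 F237591)
theorem F322971 : act 7 n142156 = n156641 := (sb E85036 (iv7 F317004))
theorem F322972 : act 0 n142159 = n69295 := (sb E85037 (iv1 D147905))
theorem F322973 : act 4 n130313 = n66651 := (sb E85038 (iv4 D142160))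
theorem F322974 : act 6 n85787 = n66651 := (sb E85039 (iv6 D142161))
theorem F322975 : act 1 n32931 = n66652 := (sb E85040 (iv0 D142162))
theorem F322976 : act 0 n74478 = n66652 := (sb E85041 (iv1 D142163))
theorem F322977 : act 2 n74483 = n66652 := (sb E85042 F225174)
theorem F322978 : act 2 n142164 = n148867 := (sb E85043 F237588)
theorem F322979 : act 3 n142164 = n144893 := (sb E85043 (iv3 F237590))
theorem F322980 : act 6 n142164 = n144890 := (sb E85043 F237589)
theorem F322981 : act 7 n74484 = n66652 := (sb E85044 (iv7 D142165))
theorem F322982 : act 3 n53000 = n55969 := (sb E85047 (iv3 D121322))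
theorem F322983 : act 3 n121316 = n55981 := (sb E85048 (iv3 D121345))
theorem F322984 : act 3 n103177 = n74186 := (sb E85049 F245012)
theorem F322985 : act 5 n103177 = n136303 := (sb E85049 F245013)
theorem F322986 : act 6 n103177 = n74184 := (sb E85049 (iv6 D155975))
theorem E87181 : n164473 = n145915 := ((((iv4 F229102)).symm.trans (sb E85050 (iv4 F259199)))).symm
theorem F322987 : act 6 n68979 = n47821 := (sb E85050 (iv6 D103180))
theorem F322988 : act 2 n103185 = n64070 := (sb E85051 F219342)
theorem F322989 : act 3 n103185 = n136299 := (sb E85051 (iv3 F219358))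
theorem F322990 : act 5 n103185 = n64069 := (sb E85051 (iv5 D136279))
theorem F322991 : act 2 n44683 = n45339 := (sb E85054 F149578)
theorem F322992 : act 7 n44683 = n45338 := (sb E85054 (iv7 D96986))
theorem F322993 : act 1 n166607 = n170241 := (sb E85055 F301536)
theorem F322994 : act 2 n166607 = n181145 := (sb E85055 F282152)
theorem F322995 : act 5 n166607 = n84492 := (sb E85055 (iv5 D177356))
theorem F322996 : act 7 n166607 = n181144 := (sb E85055 F282148)
theorem E87182 : n166579 = n79965 := (((iv3 F262139)).symm.trans (sb E85056 F262207))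
theorem F322997 : act 5 n79951 = n79961 := (sb E85056 (iv5 D166608))
theorem F322998 : act 2 n133857 = n98215 := (sb E85057 F249638)
theorem E87183 : n167593 = n82442 := ((F315473).symm.trans (sb E85057 F249639))
theorem F322999 : act 6 n133857 = n75584 := (sb E85057 (iv6 D158440))
theorem F323000 : act 2 n134640 = n82442 := (sb E85058 F249270)
theorem F323001 : act 4 n134640 = n98215 := (sb E85058 F249271)
theorem F323002 : act 6 n134640 = n75378 := (sb E85058 (iv6 D158226))
theorem E87184 : n153947 = n33714 := ((D153947).symm.trans (sb E85059 (iv1 D73266)))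
theorem E87185 : n153948 = n153896 := ((D153948).symm.trans (sb E85059 F241859))
theorem E87186 : n154564 = n123213 := ((((iv2 F197509)).symm.trans (sb E85059 (iv2 F242636)))).symm
theorem F323003 : act 4 n72858 = n82960 := (sb E85059 F303662)
theorem E87189 : n154560 = n153950 := (((D153950).symm.trans (sb E85059 F242634))).symm
theorem F323004 : act 2 n123598 = n82960 := (sb E85060 (iv2 D173354))
theorem F323005 : act 7 n123598 = n82961 := (sb E85060 (iv7 F271817))
theorem F323006 : act 6 n52983 = n82960 := (sb E85061 (iv6 D173357))
theorem F323007 : act 6 n173777 = n83182 := (sb E85064 (iv6 D173964))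
theorem F323008 : act 6 n119441 = n83183 := (sb E85065 (iv6 D173966))
theorem F323009 : act 6 n38292 = n83102 := (sb E85067 (iv6 D173780))
theorem F323010 : act 0 n79565 = n119229 := (sb E85069 (iv1 F278534))
theorem F323011 : act 1 n79565 = n119232 := (sb E85069 F278535)
theorem F323012 : act 5 n79565 = n85136 := (sb E85069 F278533)
theorem F323013 : act 7 n79565 = n85135 := (sb E85069 (iv7 D178700))
theorem E87195 : n172496 = n155537 := (((iv1 F278510)).symm.trans (sb E85072 (iv1 F283111)))
theorem F323014 : act 2 n178689 = n86859 := (sb E85072 (iv2 D181863))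
theorem F323016 : act 2 n136725 = n78444 := (sb E85073 (iv2 D163208))
theorem F323017 : act 5 n136725 = n84572 := (sb E85073 F257490)
theorem F323018 : act 0 n121105 = n144348 := (sb E85074 (iv1 F247412))
theorem F323019 : act 1 n121105 = n138244 := (sb E85074 (iv0 F247413))
theorem F323020 : act 4 n121105 = n74754 := (sb E85074 F247410)
theorem F323021 : act 6 n121105 = n74753 := (sb E85074 (iv6 D157220))
theorem F323022 : act 1 n110994 = n71290 := (sb E85075 (iv0 D151268))
theorem F323023 : act 2 n48059 = n71290 := (sb E85076 (iv2 D151270))
theorem F323024 : act 3 n48058 = n71291 := (sb E85077 F237995)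
theorem F323025 : act 5 n48058 = n71290 := (sb E85077 (iv5 D151271))
theorem E87198 : n89999 = n50475 := (((F170950).symm.trans (sb E85088 D89999))).symm
theorem E87199 : n50473 = n41268 := (((iv2 F173286)).symm.trans (sb E85088 F64949))
theorem F323026 : act 3 n28155 = n35884 := (sb E85088 (iv3 F297387))
theorem E87200 : n78547 = n59311 := (((D59311).symm.trans (sb E85088 (iv4 F119732)))).symm
theorem E87201 : n59312 = n19836 := ((D59312).symm.trans (sb E85088 (iv6 D42064)))
theorem F323027 : act 7 n28155 = n39803 := (sb E85088 (iv7 F297395))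
theorem E87202 : n76896 = n50566 := (((iv0 F115514)).symm.trans (sb E85090 (iv0 D109616)))
theorem E87203 : n76898 = n59284 := (((iv2 F115521)).symm.trans (sb E85090 (iv2 F173311)))
theorem E87204 : n123502 = n111873 := (((iv4 F197915)).symm.trans (sb E85090 (iv4 F173747)))
theorem F323028 : act 5 n57557 = n51502 := (sb E85090 F173312)
theorem F323029 : act 2 n8267 = n11733 := (sb E85091 (iv2 D24783))
theorem E87213 : n40285 = n11761 := (((D11761).symm.trans (sb E85093 F301725))).symm
theorem F323030 : act 6 n19039 = n11760 := (sb E85094 (iv6 D24824))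
theorem E87216 : n51042 = n16413 := (((F53114).symm.trans (sb E85094 D51042))).symm
theorem F323031 : act 1 n41870 = n51029 := (sb E85095 F171276)
theorem E87217 : n77909 = n24725 := (((iv3 F119135)).symm.trans (sb E85095 F80188))
theorem E87218 : n109605 = n78831 := ((((iv4 F120001)).symm.trans (sb E85095 (iv4 F169611)))).symm
theorem F323032 : act 0 n47688 = n51029 := (sb E85096 (iv1 D110669))
theorem E87220 : n110136 = n78316 := (((F119526).symm.trans (sb E85096 (iv3 F171273)))).symm
theorem E87221 : n109606 = n102819 := ((((iv4 F158082)).symm.trans (sb E85096 (iv4 F171279)))).symm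
theorem F323033 : act 2 n47687 = n51029 := (sb E85097 F171336)
theorem E87222 : n102822 = n50540 := ((D102822).symm.trans (sb E85097 (iv4 D109548)))
theorem E87223 : n112002 = n78463 := (((F297231).symm.trans (sb E85097 (iv5 F174087)))).symm
theorem E87224 : n38865 = n25050 := ((((iv1 D51567)).symm.trans (sb E85098 (iv1 D84274)))).symm
theorem E87225 : n158875 = n50542 := (((F81393).symm.trans (sb E85098 F250142))).symm
theorem E87227 : n51898 = n35236 := (((F121379).symm.trans (sb E85099 F171056))).symm
theorem E87229 : n80069 = n50450 := ((D80069).symm.trans (sb E85099 F82282))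
theorem F323034 : act 5 n36458 = n51029 := (sb E85099 F171320)
theorem F323035 : act 7 n36458 = n50960 := (sb E85099 F171057)
theorem F323036 : act 0 n12000 = n17601 := (sb E85100 (iv1 F43821))
theorem F323037 : act 1 n12000 = n17306 := (sb E85100 (iv0 F43820))
theorem F323038 : act 2 n12000 = n17580 := (sb E85100 F43817)
theorem E87231 : n25277 = n12984 := ((D25277).symm.trans (sb E85100 (iv6 D27107)))
theorem F323039 : act 1 n86710 = n51034 := (sb E85102 (iv0 D110690))
theorem F323040 : act 2 n86710 = n51875 := (sb E85102 (iv2 F171297))
theorem E87235 : n181682 = n68195 := (((iv4 F282791)).symm.trans (sb E85102 F171296))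
theorem F323041 : act 0 n44984 = n51034 := (sb E85103 (iv1 F171299))
theorem E87236 : n76892 = n50468 := (((iv3 F115506)).symm.trans (sb E85103 (iv3 D109372)))
theorem E87237 : n96336 = n68196 := (((iv4 F148263)).symm.trans (sb E85103 F169373))
theorem F323042 : act 7 n44984 = n51875 := (sb E85103 F170454)
theorem F323043 : act 0 n95273 = n51875 := (sb E85104 F171301)
theorem F323044 : act 2 n95273 = n51034 := (sb E85104 (iv2 D110691))
theorem E87238 : n113656 = n104971 := ((((iv4 F201650)).symm.trans (sb E85104 (iv4 F176848)))).symm
theorem E87239 : n110142 = n78280 := (((F296828).symm.trans (sb E85104 (iv5 F171302)))).symm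
theorem F323045 : act 0 n110692 = n104974 := (sb E85105 F297457)
theorem E87240 : n110502 = n96428 := (((iv0 F171356)).symm.trans (sb E85105 F297458))
theorem F323046 : act 6 n110692 = n78327 := (sb E85105 F257237)
theorem F323047 : act 7 n110692 = n79867 := (sb E85105 F257238)
theorem E87241 : n110144 = n40216 := ((((iv0 F119072)).symm.trans (sb E85106 F171351))).symm
theorem E87242 : n112802 = n78315 := ((((iv4 F119524)).symm.trans (sb E85106 D112802))).symm
theorem F323048 : act 5 n35698 = n51034 := (sb E85106 (iv5 F171303))
theorem F323049 : act 7 n35698 = n50965 := (sb E85106 F171067)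
theorem F323050 : act 6 n35701 = n51034 := (sb E85107 (iv6 D110693))
theorem F323051 : act 6 n8110 = n11946 := (sb E85115 (iv6 D25162))
theorem F323052 : act 2 n25182 = n36440 := (sb E85116 (iv2 F57226))
theorem E87258 : n77198 = n11951 := ((((iv3 D25182)).symm.trans (sb E85116 (iv3 F115955)))).symm
theorem E87259 : n77201 = n51897 := (((D51897).symm.trans (sb E85116 (iv4 F115960)))).symm
theorem E87260 : n51899 = n17101 := ((D51899).symm.trans (sb E85116 (iv6 D35241)))
theorem F323053 : act 0 n80003 = n51821 := (sb E85117 (iv1 F170481))
theorem F323054 : act 1 n80003 = n51894 := (sb E85117 F170480)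
theorem F323055 : act 2 n80003 = n50846 := (sb E85117 (iv2 D110263))
theorem E87261 : n158857 = n112148 := (((iv4 F299576)).symm.trans (sb E85117 (iv4 F174368)))
theorem F323056 : act 1 n80002 = n50846 := (sb E85118 F170368)
theorem F323057 : act 2 n80002 = n51821 := (sb E85118 F170361)
theorem E87262 : n166688 = n51700 := ((D166688).symm.trans (sb E85118 F170364))
theorem F323058 : act 7 n80002 = n51894 := (sb E85118 F170363)
theorem E87263 : n77207 = n24677 := ((((iv1 D50676)).symm.trans (sb E85119 F254929))).symm
theorem E87264 : n166703 = n51702 := (((F81639).symm.trans (sb E85119 F262390))).symm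
theorem F323059 : act 0 n112331 = n121152 := (sb E85120 F254934)
theorem F323060 : act 1 n112331 = n121155 := (sb E85120 F254935)
theorem F323061 : act 2 n112331 = n162655 := (sb E85120 F256896)
theorem F323062 : act 5 n112331 = n109998 := (sb E85120 (tr F256899 E86651))
theorem F323063 : act 7 n112331 = n109998 := (sb E85120 (tr (iv7 F256898) E86651))
theorem E87265 : n112388 = n69214 := ((D112388).symm.trans (sb E85121 (iv3 F320738)))
theorem E87266 : n112389 = n39422 := ((D112389).symm.trans (sb E85121 F316263))
theorem E87267 : n112390 = n35851 := ((D112390).symm.trans (sb E85121 (iv6 D78746)))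
theorem F323064 : act 6 n17362 = n25167 := (sb E85122 (iv6 D51847))
theorem F323065 : act 1 n55913 = n51824 := (sb E85123 (iv0 D112335))
theorem F323066 : act 0 n35822 = n51824 := (sb E85124 (iv1 D112336))
theorem E87272 : n110006 = n51824 := ((D110006).symm.trans (sb E85126 (iv7 D112338)))
theorem E87273 : n133066 = n69213 := ((F216679).symm.trans (sb E85127 F231097))
theorem F323067 : act 6 n131530 = n69092 := (sb E85127 (iv6 D147381))
theorem F323068 : act 6 n161314 = n78755 := (sb E85128 (iv6 D163931))
theorem E87274 : n161989 = n84619 := (((E86655).symm.trans ((D110001).symm.trans (sb E85131 (iv5 F255984))))).symm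
theorem F323069 : act 0 n50792 = n78537 := (sb E85132 (iv1 F122708))
theorem E87275 : n166572 = n28109 := (((F170120).symm.trans (sb E85132 (iv4 F262114)))).symm
theorem E87276 : n110137 = n40086 := ((D110137).symm.trans (sb E85132 F122706))
theorem F323070 : act 7 n50792 = n36415 := (sb E85132 (iv7 D79947))
theorem F323071 : act 0 n35779 = n51826 := (sb E85133 (iv1 F170134))
theorem E87277 : n77345 = n24722 := (((iv3 F116156)).symm.trans (sb E85133 F80175))
theorem E87278 : n78535 = n28110 := (((iv4 F119713)).symm.trans (sb E85133 F170123))
theorem F323072 : act 7 n35779 = n24718 := (sb E85133 (iv7 D50796))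
theorem F323073 : act 1 n50791 = n36415 := (sb E85134 (iv0 D79945))
theorem E87281 : n110135 = n51872 := ((D110135).symm.trans (sb E85134 (tr (iv6 F296324) E86617)))
theorem F323074 : act 7 n50791 = n78537 := (sb E85134 (iv7 F255040))
theorem E87282 : n160510 = n52383 := (((F174756).symm.trans (sb E85135 (iv1 F297610)))).symm
theorem E87283 : n78605 = n59097 := (((F174755).symm.trans (sb E85135 (iv0 F254989)))).symm
theorem E87284 : n163635 = n112395 := (((D112395).symm.trans (sb E85136 F296327))).symm
theorem E87285 : n110009 = n51826 := ((D110009).symm.trans (sb E85137 (iv6 D112340)))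
theorem E87286 : n124500 = n112397 := (((D112397).symm.trans (sb E85138 (iv5 F199133)))).symm
theorem E87287 : n112401 = n35858 := ((D112401).symm.trans (sb E85139 (iv5 F119806)))
theorem E87288 : n112402 = n35858 := ((D112402).symm.trans (sb E85139 (iv7 F119880)))
theorem F323075 : act 6 n25159 = n24699 := (sb E85143 (iv6 D50744))
theorem F323076 : act 2 n50989 = n86225 := (sb E85145 F281001)
theorem F323077 : act 3 n69205 = n86225 := (sb E85146 (iv3 D180549))
theorem F323078 : act 4 n108915 = n86225 := (sb E85147 (iv4 D180550))
theorem F323079 : act 5 n148879 = n86225 := (sb E85148 (iv5 D180551))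
theorem F323080 : act 7 n108018 = n86225 := (sb E85149 (iv7 F281000))
theorem E87292 : n81903 = n24558 := ((((iv1 F79746)).symm.trans (sb E85154 (iv1 D170841)))).symm
theorem E87293 : n86201 = n24561 := ((((iv2 F79743)).symm.trans (sb E85154 (iv2 F268443)))).symm
theorem E87295 : n86200 = n24559 := (((F79745).symm.trans (sb E85154 F268441))).symm
theorem E87297 : n124192 = n109108 := (((D109108).symm.trans (sb E85156 (iv6 F297558)))).symm
theorem E87298 : n178133 = n109122 := (((D109122).symm.trans (sb E85157 (iv1 F280929)))).symm
theorem E87299 : n109126 = n86202 := ((D109126).symm.trans (sb E85157 (iv7 D180510)))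
theorem E87300 : n124332 = n109127 := (((D109127).symm.trans (sb E85158 (iv1 F198845)))).symm
theorem E87301 : n109128 = n77863 := ((D109128).symm.trans (sb E85158 (iv0 F118750)))
theorem F323081 : act 4 n50374 = n27678 := (sb E85158 F91803)
theorem E87302 : n124459 = n109129 := (((D109129).symm.trans (sb E85158 (iv5 F199046)))).symm
theorem E87303 : n109130 = n27677 := ((D109130).symm.trans (sb E85158 (iv7 D58040)))
theorem F323082 : act 7 n39896 = n24557 := (sb E85159 (iv7 D50375))
theorem E87305 : n75295 = n51772 := ((((iv4 F81762)).symm.trans (sb E85160 (iv4 F112896)))).symm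
theorem E87306 : n34666 = n25069 := (((F39563).symm.trans (sb E85160 (iv5 F54912)))).symm
theorem E87307 : n51796 = n16725 := ((D51796).symm.trans (sb E85160 (iv6 D34473)))
theorem E87309 : n84289 = n24649 := ((((iv4 F38649)).symm.trans (sb E85161 (iv4 F129361)))).symm
theorem E87310 : n38485 = n11665 := (((F19013).symm.trans (sb E85161 F59900))).symm
theorem E87311 : n38150 = n24659 := (((D24659).symm.trans (sb E85161 F59901))).symm
theorem E87312 : n84297 = n51794 := (((D51794).symm.trans (sb E85162 D84297))).symm
theorem E87313 : n84229 = n51795 := (((D51795).symm.trans (sb E85162 (iv6 F129372)))).symm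
theorem E87314 : n75812 = n50816 := (((F80187).symm.trans (sb E85163 F255016))).symm
theorem E87315 : n109770 = n84316 := ((D109770).symm.trans (sb E85163 F255017))
theorem E87318 : n112278 = n24656 := (((F81877).symm.trans (sb E85164 D112278))).symm
theorem E87319 : n50701 = n25145 := ((D50701).symm.trans (sb E85164 (iv6 D51791)))
theorem E87321 : n109775 = n78844 := ((D109775).symm.trans (sb E85165 F255011))
theorem E87322 : n109776 = n78847 := ((D109776).symm.trans (sb E85165 F255012))
theorem F323083 : act 3 n50628 = n58687 := (sb E85165 (iv3 D125324))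
theorem E87324 : n109778 = n51725 := ((D109778).symm.trans (sb E85165 (tr (iv7 F255009) E86695)))
theorem F323084 : act 1 n28148 = n57934 := (sb E85169 F91658)
theorem E87325 : n123345 = n50851 := (((F80207).symm.trans (sb E85169 (iv4 F197654)))).symm
theorem E87326 : n59285 = n27482 := ((D59285).symm.trans (sb E85169 (iv6 D57441)))
theorem F323085 : act 7 n28148 = n35139 := (sb E85169 F90623)
theorem F323086 : act 1 n27646 = n51793 := (sb E85170 F170503)
theorem E87327 : n57933 = n50850 := (((iv4 F91653)).symm.trans (sb E85170 (iv4 D110274)))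
theorem F323087 : act 7 n27646 = n51502 := (sb E85170 (iv7 F173290))
theorem F323088 : act 1 n50630 = n35139 := (sb E85171 (iv0 D76902))
theorem F323089 : act 2 n50630 = n57934 := (sb E85171 F254961)
theorem E87328 : n160426 = n109782 := (((D109782).symm.trans (sb E85171 D160426))).symm
theorem E87329 : n160440 = n25178 := ((((iv1 D51879)).symm.trans (sb E85172 F254979))).symm
theorem E87330 : n57942 = n25183 := (((F81921).symm.trans (sb E85172 F254980))).symm
theorem F323090 : act 4 n51879 = n57934 := (sb E85172 (iv4 D124267))
theorem F323091 : act 7 n51879 = n86244 := (sb E85172 F254964)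
theorem E87332 : n109783 = n51727 := (((F322515).symm.trans (sb E85173 F203202))).symm
theorem F323092 : act 0 n37506 = n51727 := (sb E85175 (iv1 F170026))
theorem F323093 : act 3 n37506 = n28064 := (sb E85175 F169962)
theorem E87333 : n109138 = n37504 := (((F58387).symm.trans (sb E85175 D109138))).symm
theorem F323094 : act 7 n37506 = n28060 := (sb E85175 F169963)
theorem F323095 : act 1 n39898 = n28060 := (sb E85176 F169774)
theorem E87335 : n86211 = n50797 := ((D86211).symm.trans (sb E85176 (iv4 F80176)))
theorem F323096 : act 5 n39898 = n50630 := (sb E85176 (iv5 F81887))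
theorem F323097 : act 7 n39898 = n51727 := (sb E85176 (iv7 F170014))
theorem E87337 : n81912 = n50802 := ((((iv1 F170133)).symm.trans (sb E85177 F268456))).symm
theorem F323098 : act 4 n108991 = n81905 := (sb E85177 (iv4 D170848))
theorem F323099 : act 6 n110122 = n109782 := (sb E85179 (tr (iv6 F302523) E87328))
theorem E87339 : n51730 = n24657 := ((((iv3 D50630)).symm.trans (sb E85180 F174392))).symm
theorem E87340 : n50485 = n39884 := ((((iv1 F297656)).symm.trans (sb E85181 F170343))).symm
theorem F323100 : act 3 n57890 = n28062 := (sb E85181 F93239)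
theorem E87341 : n124190 = n111372 := (((iv4 F198660)).symm.trans (sb E85181 F172854))
theorem F323101 : act 5 n57890 = n28060 := (sb E85181 (iv5 D59051))
theorem F323102 : act 3 n57892 = n28063 := (sb E85182 F93240)
theorem F323103 : act 6 n57892 = n28060 := (sb E85182 (iv6 D59052))
theorem F323104 : act 0 n51676 = n39190 := (sb E85184 F91788)
theorem E87347 : n124418 = n25101 := ((((iv3 D51676)).symm.trans (sb E85184 (iv3 F198992)))).symm
theorem E87348 : n124433 = n112047 := (((D112047).symm.trans (sb E85184 (iv4 F199022)))).symm
theorem E87349 : n112048 = n27673 := ((D112048).symm.trans (sb E85184 (iv6 D58023)))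
theorem E87350 : n123488 = n110170 := ((((iv1 F170332)).symm.trans (sb E85185 (iv1 F303758)))).symm
theorem E87352 : n178159 = n140703 := (((D140703).symm.trans (sb E85185 (iv3 F277713)))).symm
theorem F323105 : act 4 n66018 = n39190 := (sb E85185 F130013)
theorem E87353 : n178170 = n110281 := ((((iv5 F170518)).symm.trans (sb E85185 D178170))).symm
theorem E87354 : n140704 = n39189 := ((D140704).symm.trans (sb E85185 (iv6 D84808)))
theorem E87355 : n111371 = n39882 := ((F172845).symm.trans (sb E85185 F130014))
theorem F323106 : act 3 n24631 = n27913 := (sb E85187 (iv3 D58709))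
theorem E87357 : n125375 = n50562 := (((D50562).symm.trans (sb E85187 D125375))).symm
theorem E87358 : n50564 = n38821 := ((D50564).symm.trans (sb E85187 (iv6 F117757)))
theorem E87359 : n123320 = n108860 := (((iv4 F197623)).symm.trans (sb E85189 (iv4 F170781)))
theorem E87360 : n178381 = n50903 := ((D178381).symm.trans (sb E85190 (iv1 D110385)))
theorem E87361 : n178382 = n112729 := ((D178382).symm.trans (sb E85190 F175483))
theorem E87362 : n178303 = n112727 := (((iv2 F277883)).symm.trans (sb E85190 F175618))
theorem E87363 : n126053 = n44986 := ((D126053).symm.trans (sb E85193 (iv6 D96343)))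
theorem F323107 : act 6 n27914 = n28066 := (sb E85195 (iv6 D59078))
theorem F323108 : act 0 n113225 = n75182 := (sb E85196 (iv1 F201657))
theorem F323109 : act 1 n113225 = n75181 := (sb E85196 F201656)
theorem F323110 : act 2 n113225 = n58710 := (sb E85196 (iv2 D125377))
theorem F323111 : act 4 n113225 = n58717 := (sb E85196 F201654)
theorem F323112 : act 7 n113225 = n75183 := (sb E85196 F201655)
theorem E87370 : n177388 = n28012 := (((D28012).symm.trans (sb E85198 F276771))).symm
theorem E87371 : n81508 = n28013 := (((D28013).symm.trans (sb E85198 (iv0 F261000)))).symm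
theorem E87373 : n78870 = n59107 := ((((iv1 F93278)).symm.trans (sb E85201 (iv1 F201676)))).symm
theorem E87374 : n81496 = n59106 := (((F93277).symm.trans (sb E85201 (iv0 F201675)))).symm
theorem F323113 : act 0 n45025 = n31791 := (sb E85202 (iv1 F80395))
theorem F323114 : act 1 n45025 = n24779 := (sb E85202 (iv0 D50954))
theorem F323115 : act 5 n45025 = n28064 := (sb E85202 F170326)
theorem F323116 : act 7 n45025 = n28062 := (sb E85202 F170327)
theorem F323117 : act 6 n21558 = n28064 := (sb E85203 (iv6 D59069))
theorem F323118 : act 1 n14953 = n23670 := (sb E85204 (iv0 D48515))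
theorem E87381 : n104976 = n31746 := ((((iv4 F50048)).symm.trans (sb E85204 D104976))).symm
theorem E87382 : n38901 = n31786 := ((((iv6 F50082)).symm.trans (sb E85204 F76351))).symm
theorem F323119 : act 1 n48516 = n28062 := (sb E85205 (iv0 F170983))
theorem F323120 : act 2 n48516 = n24779 := (sb E85205 (iv2 D50956))
theorem E87383 : n110498 = n104978 := (((D104978).symm.trans (sb E85205 (iv4 F170920)))).symm
theorem E87384 : n110507 = n39801 := ((((iv6 F126017)).symm.trans (sb E85205 D110507))).symm
theorem F323121 : act 7 n48516 = n31791 := (sb E85205 F80398)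
theorem E87385 : n113238 = n104969 := ((((iv3 F160848)).symm.trans (sb E85206 (iv3 F176424)))).symm
theorem F323122 : act 6 n39055 = n51015 := (sb E85212 (iv6 D110637))
theorem E87406 : n78422 = n58974 := (((D58974).symm.trans (sb E85215 (iv6 D163115)))).symm
theorem E87407 : n78434 = n58982 := (((D58982).symm.trans (sb E85217 (iv1 F119625)))).symm
theorem E87408 : n78433 = n58983 := (((D58983).symm.trans (sb E85217 F119624))).symm
theorem F323123 : act 3 n28030 = n17323 := (sb E85217 F56418)
theorem E87409 : n78440 = n58984 := (((D58984).symm.trans (sb E85217 (iv5 F119630)))).symm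
theorem E87410 : n58985 = n17321 := ((D58985).symm.trans (sb E85217 (iv7 D35743)))
theorem F323124 : act 0 n35845 = n50915 := (sb E85222 (iv1 F82262))
theorem F323125 : act 1 n35845 = n50914 := (sb E85222 F82261)
theorem F323126 : act 2 n35845 = n25264 := (sb E85222 (iv2 D52046))
theorem E87411 : n112711 = n78713 := ((((iv3 F119855)).symm.trans (sb E85222 (iv3 F175422)))).symm
theorem E87413 : n112404 = n59597 := ((D112404).symm.trans (sb E85223 F320643))
theorem E87414 : n112405 = n26928 := ((D112405).symm.trans (sb E85223 (iv6 D55807)))
theorem E87415 : n112415 = n77450 := (((F300358).symm.trans (sb E85224 (iv2 F174903)))).symm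
theorem E87416 : n161717 = n50747 := ((D161717).symm.trans (sb E85224 (iv6 D110026)))
theorem F323127 : act 6 n110027 = n86237 := (sb E85225 (iv6 D180569))
theorem F323128 : act 6 n39909 = n50748 := (sb E85226 (iv6 D110029))
theorem E87419 : n78696 = n50888 := (((iv2 F119845)).symm.trans (sb E85227 (iv2 D110354)))
theorem E87420 : n55926 = n50890 := (((D50890).symm.trans (sb E85231 (iv6 D121225)))).symm
theorem E87422 : n55929 = n11723 := (((D11723).symm.trans (sb E85232 (iv6 D121239)))).symm
theorem E87423 : n55927 = n50923 := (((D50923).symm.trans (sb E85233 D55927))).symm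
theorem E87424 : n55928 = n50924 := (((D50924).symm.trans (sb E85233 D55928))).symm
theorem F323129 : act 3 n24763 = n12907 := (sb E85233 F43527)
theorem E87425 : n50925 = n12906 := ((D50925).symm.trans (sb E85233 (iv5 D26973)))
theorem E87426 : n50926 = n12985 := ((D50926).symm.trans (sb E85233 F43528))
theorem E87427 : n56255 = n25266 := (((D25266).symm.trans (sb E85234 F193313))).symm
theorem F323130 : act 3 n110357 = n78435 := (sb E85237 F193129)
theorem F323131 : act 5 n110357 = n55876 := (sb E85237 (iv5 D121099))
theorem F323132 : act 5 n26953 = n50922 := (sb E85239 (iv5 D110433))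
theorem F323133 : act 3 n110434 = n55883 := (sb E85240 F193132)
theorem F323134 : act 5 n110434 = n55878 := (sb E85240 F193133)
theorem F323135 : act 2 n108861 = n126864 := (sb E85241 F321261)
theorem F323136 : act 5 n108861 = n64537 := (sb E85241 F321262)
theorem F323137 : act 6 n108861 = n58085 := (sb E85241 F193314)
theorem F323138 : act 5 n34005 = n50914 := (sb E85242 (iv5 D110411))
theorem F323139 : act 6 n27692 = n50914 := (sb E85243 (iv6 D110412))
theorem F323140 : act 6 n110414 = n79557 := (sb E85244 F305508)
theorem F323141 : act 4 n110415 = n60438 := (sb E85245 F189654)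
theorem F323142 : act 6 n110415 = n74115 := (sb E85245 F189655)
theorem F323143 : act 6 n36233 = n50915 := (sb E85246 (iv6 D110416))
theorem E87428 : n12970 = n11734 := (((D11734).symm.trans (sb E85247 (iv6 D27076)))).symm
theorem F323144 : act 6 n6166 = n11733 := (sb E85248 (iv6 D24784))
theorem F323145 : act 6 n27106 = n25264 := (sb E85253 (iv6 D52048))
theorem F323146 : act 6 n110589 = n73841 := (sb E85254 (iv6 D155371))
theorem F323147 : act 0 n110638 = n85784 := (sb E85255 F316320)
theorem F323148 : act 1 n110638 = n86247 := (sb E85255 F244346)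
theorem F323149 : act 4 n110638 = n74106 := (sb E85255 F316321)
theorem F323150 : act 6 n110638 = n121461 := (sb E85255 (iv6 F317221))
theorem F323151 : act 6 n33911 = n51016 := (sb E85256 (iv6 D110639))
theorem E87438 : n78529 = n25207 := (((D25207).symm.trans (sb E85257 (iv6 D163405)))).symm
theorem F323152 : act 0 n51948 = n86247 := (sb E85258 F316322)
theorem F323153 : act 1 n51948 = n85784 := (sb E85258 F316145)
theorem F323154 : act 4 n51948 = n74101 := (sb E85258 F316146)
theorem E87439 : n112585 = n62233 := ((D112585).symm.trans (sb E85258 (iv6 D132637)))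
theorem F323155 : act 6 n35775 = n25205 := (sb E85259 (iv6 D51949))
theorem F323156 : act 2 n39883 = n51676 := (sb E85260 (iv2 D112046))
theorem E87444 : n110172 = n86171 := (((D86171).symm.trans (sb E85260 (iv4 F174175)))).symm
theorem E87445 : n75803 = n24601 := ((((iv1 F39444)).symm.trans (sb E85261 F296963))).symm
theorem E87446 : n82946 = n24600 := (((F173321).symm.trans (sb E85261 (iv2 F127822)))).symm
theorem F323157 : act 3 n25100 = n18621 := (sb E85261 F117754)
theorem E87447 : n51674 = n18338 := ((D51674).symm.trans (sb E85261 (iv6 D38475)))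
theorem F323158 : act 0 n86264 = n58973 := (sb E85263 (iv1 D125951))
theorem F323159 : act 1 n86265 = n58973 := (sb E85264 (iv0 D125950))
theorem E87448 : n180604 = n113387 := ((D180604).symm.trans (sb E85264 F202450))
theorem F323160 : act 2 n59247 = n39920 := (sb E85265 F132212)
theorem E87449 : n180583 = n59009 := (((F93465).symm.trans (sb E85265 (iv4 F281082)))).symm
theorem E87450 : n126349 = n39918 := ((D126349).symm.trans (sb E85265 (iv6 D86259)))
theorem E87451 : n180594 = n113166 := ((D180594).symm.trans (sb E85266 (iv1 F176326)))
theorem E87452 : n180595 = n113165 := ((D180595).symm.trans (sb E85266 F176325))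
theorem F323161 : act 3 n86263 = n51853 := (sb E85266 (iv3 D112403))
theorem F323162 : act 7 n86263 = n110017 := (sb E85266 F174873)
theorem F323163 : act 2 n51706 = n79928 := (sb E85267 F262049)
theorem F323164 : act 4 n51706 = n79925 := (sb E85267 (iv4 D166514))
theorem F323165 : act 3 n125970 = n79935 := (sb E85269 F262055)
theorem F323166 : act 6 n125970 = n79929 := (sb E85269 (iv6 D166530))
theorem F323167 : act 4 n34706 = n67906 := (sb E85272 F227819)
theorem F323168 : act 6 n34706 = n67905 := (sb E85272 (iv6 D144872))
theorem E87458 : n146228 = n39444 := (((F305201).symm.trans (sb E85272 (iv7 F243398)))).symm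
theorem F323169 : act 0 n79592 = n51845 := (sb E85273 (iv1 D112387))
theorem F323170 : act 1 n79592 = n51850 := (sb E85273 F174837)
theorem F323171 : act 2 n79592 = n59306 := (sb E85273 (iv2 F174840))
theorem E87459 : n165712 = n107592 := (((iv3 F261049)).symm.trans (sb E85273 (iv3 F174841)))
theorem E87460 : n166587 = n52387 := (((F176675).symm.trans (sb E85274 (iv4 F262160)))).symm
theorem F323172 : act 6 n113484 = n79200 := (sb E85274 (iv6 D164829))
theorem F323173 : act 6 n36058 = n59306 := (sb E85275 (iv6 D126412))
theorem F323174 : act 0 n76964 = n51850 := (sb E85276 (iv1 F174833))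
theorem F323175 : act 1 n76964 = n51845 := (sb E85276 (iv0 D112386))
theorem E87461 : n160516 = n52384 := (((iv3 F253573)).symm.trans (sb E85276 (iv3 F174834)))
theorem F323176 : act 7 n76964 = n59306 := (sb E85276 (iv7 F174836))
theorem F323177 : act 4 n109329 = n80070 := (sb E85277 F262521)
theorem F323178 : act 6 n109329 = n173322 := (sb E85277 (iv6 F299364))
theorem E87462 : n180468 = n112004 := ((((iv7 F174094)).symm.trans (sb E85277 (iv7 F280876)))).symm
theorem F323179 : act 1 n52032 = n39888 := (sb E85280 (iv0 D86185))
theorem E87463 : n180455 = n112729 := (((D112729).symm.trans (sb E85280 D180455))).symm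
theorem E87468 : n180460 = n50903 := (((F82228).symm.trans (sb E85280 D180460))).symm
theorem E87469 : n180461 = n112719 := ((D180461).symm.trans (sb E85281 (iv3 F175441)))
theorem F323180 : act 0 n52224 = n78353 := (sb E85283 (iv1 D162964))
theorem E87470 : n180474 = n113145 := (((D113145).symm.trans (sb E85283 F280896))).symm
theorem F323181 : act 1 n35783 = n50965 := (sb E85285 (iv0 D110533))
theorem E87475 : n109400 = n78544 := ((((iv4 F119728)).symm.trans (sb E85285 F171044))).symm
theorem E87476 : n161131 = n24720 := (((F80173).symm.trans (sb E85286 (iv3 F254737)))).symm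
theorem E87477 : n181237 = n109401 := (((F169603).symm.trans (sb E85286 (iv4 F282300)))).symm
theorem E87478 : n110143 = n40116 := ((D110143).symm.trans (sb E85286 (iv6 D86545)))
theorem F323182 : act 2 n86724 = n50965 := (sb E85287 (iv2 D110534))
theorem E87479 : n169888 = n59295 := ((((iv0 F171083)).symm.trans (sb E85288 (iv0 F297640)))).symm
theorem F323183 : act 2 n110535 = n124611 := (sb E85288 (iv2 F299409))
theorem F323184 : act 3 n110535 = n180475 := (sb E85288 (iv3 F280897))
theorem F323185 : act 6 n110535 = n79541 := (sb E85288 (iv6 F297647))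
theorem F323186 : act 6 n36224 = n50965 := (sb E85289 (iv6 D110536))
theorem F323187 : act 3 n44794 = n54886 := (sb E85294 (iv3 D119256))
theorem E87480 : n151266 = n95973 := (((D95973).symm.trans (sb E85295 (iv1 F237992)))).symm
theorem E87481 : n151263 = n95974 := (((D95974).symm.trans (sb E85295 (iv0 F237988)))).symm
theorem F323188 : act 5 n44789 = n54886 := (sb E85295 (iv5 D119257))
theorem F323189 : act 4 n144190 = n159405 := (sb E85337 (iv4 F251013))
theorem F323190 : act 4 n76251 = n67550 := (sb E85338 (iv4 D144191))
theorem F323191 : act 1 n144193 = n72195 := (sb E85339 (iv0 D152949))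
theorem F323192 : act 4 n144193 = n148996 := (sb E85339 F240192)
theorem F323193 : act 2 n118963 = n67551 := (sb E85340 F226895)
theorem F323194 : act 7 n118963 = n67550 := (sb E85340 (iv7 D144194))
theorem F323195 : act 2 n144199 = n95973 := (sb E85343 (tr (iv2 F240326) E87480))
theorem F323196 : act 5 n144199 = n118413 := (sb E85343 F240325)
theorem F323197 : act 7 n144199 = n95974 := (sb E85343 (tr (iv7 F240327) E87481))
theorem F323198 : act 2 n144200 = n95974 := (sb E85344 (tr (iv2 F240330) E87481))
theorem F323199 : act 5 n144200 = n118414 := (sb E85344 F240329)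
theorem F323200 : act 7 n144200 = n95973 := (sb E85344 (tr F240328 E87480))
theorem E87482 : n155736 = n48121 := (((F294887).symm.trans (sb E85345 (iv0 F244749)))).symm
theorem E87483 : n139933 = n74018 := ((D139933).symm.trans (sb E85347 (iv6 D155583)))
theorem F323201 : act 6 n33970 = n67717 := (sb E85348 (iv6 D144491))
theorem F323202 : act 7 n117064 = n67733 := (sb E85349 (iv7 D144526))
theorem F323203 : act 2 n109672 = n67733 := (sb E85354 (iv2 D144521))
theorem E87484 : n82544 = n39782 := ((D82544).symm.trans (sb E85355 (iv1 D86020)))
theorem F323204 : act 1 n37894 = n39860 := (sb E85355 F131959)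
theorem F323205 : act 2 n37894 = n180000 := (sb E85355 (iv2 F280377))
theorem F323206 : act 7 n37894 = n179995 := (sb E85355 F280375)
theorem E87489 : n179998 = n82444 := ((D179998).symm.trans (sb E85356 (iv5 D172145)))
theorem E87492 : n180000 = n39858 := ((F323205).symm.trans (sb E85363 (iv2 D86106)))
theorem E87494 : n180249 = n82546 := (((D82546).symm.trans (sb E85363 D180249))).symm
theorem E87496 : n180251 = n73614 := ((((iv6 F110306)).symm.trans (sb E85363 D180251))).symm
theorem E87497 : n179995 = n39859 := ((F323206).symm.trans (sb E85363 (iv7 F132061)))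
theorem E87498 : n180254 = n75484 := ((D180254).symm.trans (sb E85364 F249437))
theorem E87499 : n180256 = n75480 := ((D180256).symm.trans (sb E85364 (iv5 D158316)))
theorem F323207 : act 5 n37891 = n39858 := (sb E85366 (iv5 D86109))
theorem E87505 : n180273 = n85255 := ((D180273).symm.trans (sb E85367 F188737))
theorem E87506 : n180258 = n179996 := (((D179996).symm.trans (sb E85368 (iv3 F280582)))).symm
theorem E87507 : n180264 = n179997 := (((D179997).symm.trans (sb E85368 (iv4 F280587)))).symm
theorem E87508 : n180274 = n179999 := (((D179999).symm.trans (sb E85368 D180274))).symm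
theorem F323208 : act 3 n37829 = n39859 := (sb E85369 (iv3 D86112))
theorem E87514 : n180280 = n82451 := ((((iv6 F127026)).symm.trans (sb E85369 D180280))).symm
theorem F323209 : act 5 n37825 = n39859 := (sb E85371 (iv5 D86114))
theorem E87517 : n180288 = n71881 := ((D180288).symm.trans (sb E85372 (iv5 D152360)))
theorem E87518 : n158975 = n86246 := ((D158975).symm.trans (sb E85373 F280519))
theorem F323210 : act 4 n39845 = n77326 := (sb E85374 (iv4 D161112))
theorem F323211 : act 6 n39914 = n77326 := (sb E85375 (iv6 D161113))
theorem F323212 : act 6 n161333 = n112413 := (sb E85376 (tr (iv6 F281058) E86698))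
theorem F323214 : act 0 n163574 = n172456 := (sb E85380 F283013)
theorem F323215 : act 6 n53721 = n74631 := (sb E85385 (iv6 D156951))
theorem F323216 : act 6 n141409 = n85188 := (sb E85386 (iv6 D178764))
theorem F323217 : act 6 n39382 = n66347 := (sb E85388 (iv6 D141411))
theorem F323218 : act 6 n111159 = n66350 := (sb E85395 (iv6 D141417))
theorem E87519 : n139966 = n65122 := (((D65122).symm.trans (sb E85402 F224464))).symm
theorem E87520 : n185762 = n38687 := (((D38687).symm.trans (sb E85412 F288053))).symm
theorem E87521 : n182287 = n38625 := ((((iv6 F59437)).symm.trans (sb E85412 (iv6 F288054)))).symm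
theorem E87523 : n76372 = n38222 := ((((iv1 D83058)).symm.trans (sb E85414 F234986))).symm
theorem E87524 : n148717 = n38688 := (((F128007).symm.trans (sb E85414 F251466))).symm
theorem E87525 : n173674 = n149420 := ((D173674).symm.trans (sb E85414 (iv3 F234984)))
theorem E87526 : n173675 = n48732 := ((D173675).symm.trans (sb E85414 (iv6 D105397)))
theorem E87527 : n176052 = n159500 := ((D176052).symm.trans (sb E85415 (iv2 F251175)))
theorem E87528 : n176053 = n72860 := ((D176053).symm.trans (sb E85415 F178491))
theorem E87529 : n158748 = n137371 := (((iv5 F249932)).symm.trans (sb E85415 (iv5 F220580)))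
theorem E87530 : n176054 = n52823 := ((D176054).symm.trans (sb E85415 (iv6 D114445)))
theorem E87531 : n148727 = n61355 := (((F317505).symm.trans (sb E85416 (iv0 F233500)))).symm
theorem E87532 : n126960 = n34624 := ((((iv4 D75722)).symm.trans (sb E85416 (iv4 F204220)))).symm
theorem E87533 : n158749 = n76298 := ((D158749).symm.trans (sb E85416 F178505))
theorem F323219 : act 6 n25642 = n38685 := (sb E85417 (iv6 D83995))
theorem E87538 : n173673 = n164200 := ((D173673).symm.trans (sb E85418 F258797))
theorem F323220 : act 2 n160728 = n83967 := (sb E85419 F275301)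
theorem F323221 : act 4 n160728 = n83966 := (sb E85419 (iv4 D175957))
theorem F323222 : act 2 n158984 = n83969 := (sb E85420 F275303)
theorem F323223 : act 6 n158984 = n83966 := (sb E85420 (iv6 D175959))
theorem F323224 : act 1 n160726 = n83967 := (sb E85421 (iv0 D175960))
theorem F323225 : act 4 n160726 = n178619 := (sb E85421 F278410)
theorem F323226 : act 0 n160725 = n83967 := (sb E85422 (iv1 D175961))
theorem F323227 : act 4 n160725 = n174378 := (sb E85422 (iv4 F275304))
theorem F323228 : act 4 n83108 = n83969 := (sb E85423 F275306)
theorem F323229 : act 6 n83108 = n83967 := (sb E85423 (iv6 D175964))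
theorem F323230 : act 0 n175967 = n86325 := (sb E85424 (iv1 D180729))
theorem F323231 : act 1 n175968 = n86325 := (sb E85425 (iv0 D180728))
theorem F323232 : act 7 n76996 = n83969 := (sb E85426 (iv7 D175970))
theorem E87539 : n89077 = n63492 := ((F294575).symm.trans (sb E85429 (iv5 D135094)))
theorem F323233 : act 3 n29988 = n43582 := (sb E85430 F143645)
theorem E87540 : n98460 = n14239 := ((((iv5 D29988)).symm.trans (sb E85430 F295320))).symm
theorem E87541 : n63495 = n43580 := ((D63495).symm.trans (sb E85430 (iv6 D93141)))
theorem E87542 : n85844 = n60580 := ((((iv7 F95198)).symm.trans (sb E85430 F295321))).symm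
theorem E87545 : n98635 = n58837 := ((((iv4 F93021)).symm.trans (sb E85431 (iv4 F152029)))).symm
theorem F323234 : act 5 n29987 = n43582 := (sb E85431 (iv5 F294938))
theorem E87546 : n63494 = n22021 := ((D63494).symm.trans (sb E85431 (iv6 D46110)))
theorem E87547 : n98563 = n60579 := ((((iv7 F95196)).symm.trans (sb E85431 (iv7 F151940)))).symm
theorem F323235 : act 6 n174719 = n83730 := (sb E85436 (iv6 D175331))
theorem F323236 : act 6 n174723 = n83889 := (sb E85437 (iv6 D175735))
theorem E87548 : n130925 = n52509 := (((F161480).symm.trans (sb E85442 F211312))).symm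
theorem F323237 : act 3 n105311 = n62506 := (sb E85442 (iv3 F211314))
theorem F323238 : act 4 n105311 = n61884 := (sb E85442 (iv4 D131880))
theorem E87549 : n159564 = n130924 := (((iv5 F251322)).symm.trans (sb E85442 F211315))
theorem E87550 : n130930 = n48689 := ((((iv7 D105311)).symm.trans (sb E85442 F211313))).symm
theorem F323239 : act 0 n90455 = n130917 := (sb E85443 (iv1 F209527))
theorem F323240 : act 1 n90455 = n61097 := (sb E85443 (iv0 D130136))
theorem F323241 : act 2 n90455 = n62500 := (sb E85443 (iv2 F208656))
theorem F323242 : act 5 n90455 = n62506 := (sb E85443 F208657)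
theorem E87551 : n159561 = n130918 := (((iv7 F251317)).symm.trans (sb E85443 (iv7 F209529)))
theorem F323243 : act 6 n41295 = n62506 := (sb E85444 (iv6 D133206))
theorem E87552 : n130932 = n48688 := ((D130932).symm.trans (sb E85445 (iv6 D105308)))
theorem F323244 : act 3 n101822 = n63956 := (sb E85446 F218836)
theorem F323245 : act 6 n101822 = n64369 := (sb E85446 F218837)
theorem F323246 : act 7 n101822 = n63951 := (sb E85446 (iv7 D136009))
theorem F323247 : act 3 n101823 = n64261 := (sb E85447 F219867)
theorem F323248 : act 4 n101823 = n64369 := (sb E85447 F219868)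
theorem F323249 : act 7 n101823 = n64256 := (sb E85447 (iv7 D136718))
theorem E87553 : n137108 = n47300 := (((iv2 F220281)).symm.trans (sb E85448 F156695))
theorem E87554 : n137111 = n46580 := ((D137111).symm.trans (sb E85448 (iv5 D99697)))
theorem F323250 : act 7 n64455 = n47320 := (sb E85448 F156696)
theorem F323251 : act 4 n61675 = n46293 := (sb E85449 (iv4 D98938))
theorem E87555 : n126760 = n120093 := ((D126760).symm.trans (sb E85450 (iv3 F189697)))
theorem E87556 : n126761 = n74109 := ((D126761).symm.trans (sb E85450 (iv5 F110842)))
theorem E87566 : n144680 = n74107 := (((D74107).symm.trans (sb E85453 D144680))).symm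
theorem E87567 : n144681 = n74108 := (((D74108).symm.trans (sb E85453 D144681))).symm
theorem F323252 : act 5 n34002 = n31483 := (sb E85453 (iv5 D67794))
theorem E87573 : n151060 = n116902 := (((D116902).symm.trans (sb E85454 D151060))).symm
theorem E87583 : n151072 = n126744 := ((((iv3 F203969)).symm.trans (sb E85456 D151072))).symm
theorem E87599 : n151089 = n51103 := ((((iv4 F80619)).symm.trans (sb E85460 D151089))).symm
theorem E87602 : n126626 = n74033 := (((iv3 F203706)).symm.trans (sb E85461 (iv3 F110783)))
theorem E87603 : n151092 = n126628 := (((D126628).symm.trans (sb E85461 D151092))).symm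
theorem F323253 : act 2 n32866 = n66671 := (sb E85465 (iv2 D142211))
theorem F323254 : act 4 n133136 = n66671 := (sb E85466 (iv4 D142213))
theorem F323255 : act 5 n32835 = n66671 := (sb E85467 (iv5 D142214))
theorem F323256 : act 7 n32861 = n66671 := (sb E85468 (iv7 D142216))
theorem F323257 : act 4 n142224 = n74102 := (sb E85469 F244776)
theorem F323258 : act 6 n142224 = n74100 := (sb E85469 (iv6 D155770))
theorem E87611 : n142224 = n77713 := (((D77713).symm.trans (sb E85470 D142224))).symm
theorem F323259 : act 3 n35472 = n59558 := (sb E85470 (iv3 F166117))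
theorem E87612 : n77715 = n31096 := ((D77715).symm.trans (sb E85470 (iv4 D66674)))
theorem E87614 : n116357 = n77716 := (((D77716).symm.trans (sb E85470 (iv7 F181369)))).symm
theorem F323260 : act 0 n141355 = n179892 := (sb E86387 (iv1 F280159))
theorem F323261 : act 4 n141355 = n72603 := (sb E86387 (iv4 D153551))
theorem F323262 : act 7 n141355 = n179940 := (sb E86387 F280256)
theorem F323263 : act 1 n142252 = n179892 := (sb E85482 (iv0 F280158))
theorem F323264 : act 2 n142252 = n179940 := (sb E85482 F280255)
theorem F323265 : act 4 n142252 = n72608 := (sb E85482 (iv4 D153557))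
theorem F323266 : act 0 n49756 = n85547 := (sb E85483 (iv1 D179275))
theorem E87615 : n85543 = n74299 := (((D74299).symm.trans (sb E85484 (iv1 D179259)))).symm
theorem E87616 : n179179 = n107671 := (((F245079).symm.trans (sb E85485 F279181))).symm
theorem F323267 : act 4 n156188 = n85546 := (sb E85486 F279185)
theorem F323268 : act 4 n156192 = n85550 := (sb E85489 F279195)
theorem F323269 : act 4 n156183 = n85541 := (sb E85490 (iv4 D179248))
theorem F323270 : act 5 n53132 = n69684 := (sb E85491 (iv5 D148694))
theorem E87617 : n115150 = n69683 := (((iv2 F179301)).symm.trans (sb E85492 F313145))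
theorem E87618 : n115153 = n55581 := ((D115153).symm.trans (sb E85492 (iv4 D120644)))
theorem F323271 : act 7 n53131 = n69684 := (sb E85492 F313146)
theorem E87619 : n132618 = n126680 := ((((iv1 F203853)).symm.trans (sb E85493 (iv1 F212864)))).symm
theorem E87622 : n132625 = n126674 := ((((iv3 F203841)).symm.trans (sb E85495 (iv3 F212877)))).symm
theorem E87623 : n84671 = n63456 := (((iv3 F322826)).symm.trans (sb E85496 F208121))
theorem E87624 : n132619 = n127044 := (((D127044).symm.trans (sb E85496 (iv7 F212869)))).symm
theorem F323272 : act 3 n59618 = n29447 := (sb E85498 (iv3 D62226))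
theorem F323273 : act 0 n59601 = n35472 := (sb E85500 F307878)
theorem F323274 : act 2 n59601 = n60876 := (sb E85500 F96890)
theorem E87625 : n132476 = n126993 := ((((iv3 F204246)).symm.trans (sb E85500 (iv3 F212600)))).symm
theorem E87626 : n126998 = n29423 := ((D126998).symm.trans (sb E85500 (iv5 D62159)))
theorem E87627 : n132495 = n126999 := (((D126999).symm.trans (sb E85500 D132495))).symm
theorem F323275 : act 5 n126997 = n77470 := (sb E85501 F306856)
theorem F323276 : act 7 n126997 = n77469 := (sb E85501 F306857)
theorem E87628 : n148043 = n64824 := ((D148043).symm.trans (sb E85502 (iv1 F221105)))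
theorem F323277 : act 1 n69338 = n64803 := (sb E85502 (iv0 D137876))
theorem F323278 : act 0 n76259 = n127150 := (sb E85503 (iv1 F221159))
theorem E87629 : n159418 = n64814 := ((D159418).symm.trans (sb E85503 (iv0 D137902)))
theorem F323279 : act 1 n127219 = n133136 := (sb E85504 F213848)
theorem F323280 : act 2 n127219 = n133134 := (sb E85504 F213842)
theorem F323281 : act 5 n127219 = n130073 := (sb E85504 (iv5 F208956))
theorem F323282 : act 7 n127219 = n133133 := (sb E85504 F213837)
theorem F323283 : act 2 n143380 = n67211 := (sb E85509 F226216)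
theorem F323284 : act 4 n143380 = n70114 := (sb E85509 F314576)
theorem F323285 : act 7 n143380 = n67210 := (sb E85509 (iv7 D143495))
theorem F323286 : act 1 n64305 = n68025 := (sb E85510 (iv0 D145116))
theorem F323287 : act 0 n108128 = n68025 := (sb E85511 (iv1 D145117))
theorem F323288 : act 2 n108117 = n68025 := (sb E85512 (iv2 D145118))
theorem F323289 : act 3 n142374 = n81998 := (sb E85523 F230395)
theorem F323290 : act 5 n142374 = n175811 := (sb E85523 F298371)
theorem F323291 : act 6 n142374 = n68904 := (sb E85523 (iv6 D146992))
theorem F323292 : act 6 n117045 = n54889 := (sb E85524 (iv6 D119268))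
theorem F323293 : act 0 n116689 = n68840 := (sb E85527 (iv1 F184015))
theorem F323294 : act 1 n116689 = n54138 := (sb E85527 (iv0 D117487))
theorem F323295 : act 2 n116689 = n68905 := (sb E85527 (iv2 F184014))
theorem F323296 : act 3 n116689 = n56693 := (sb E85527 (iv3 F184017))
theorem F323297 : act 4 n116689 = n70047 := (sb E85527 F184013)
theorem F323298 : act 5 n116689 = n56692 := (sb E85527 F184012)
theorem F323299 : act 7 n116689 = n68904 := (sb E85527 F184016)
theorem F323300 : act 0 n112557 = n71914 := (sb E85528 (iv1 F298720))
theorem F323301 : act 1 n112557 = n60230 := (sb E85528 F298362)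
theorem E87630 : n110611 = n71694 := ((F175085).symm.trans (sb E85528 F187472))
theorem F323302 : act 3 n112557 = n68905 := (sb E85528 F298363)
theorem F323303 : act 4 n112557 = n70053 := (sb E85528 F298364)
theorem F323304 : act 5 n112557 = n54827 := (sb E85528 (iv5 D119148))
theorem F323305 : act 7 n112557 = n127985 := (sb E85528 F298365)
theorem F323306 : act 0 n139969 = n105898 := (sb E85531 F228054)
theorem F323307 : act 2 n139969 = n68012 := (sb E85531 F228051)
theorem F323308 : act 3 n139969 = n114618 := (sb E85531 F228052)
theorem F323309 : act 4 n139969 = n71873 := (sb E85531 F228056)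
theorem F323310 : act 5 n139969 = n68010 := (sb E85531 (iv5 D145098))
theorem F323311 : act 7 n139969 = n72116 := (sb E85531 F228053)
theorem F323312 : act 6 n96202 = n50535 := (sb E85532 (iv6 D109537))
theorem F323313 : act 4 n140713 = n69200 := (sb E85533 F231422)
theorem F323314 : act 6 n140713 = n69198 := (sb E85533 (iv6 D147653))
theorem F323315 : act 0 n116690 = n66782 := (sb E85534 (iv1 F225294))
theorem F323316 : act 1 n116690 = n66766 := (sb E85534 (iv0 D142373))
theorem F323317 : act 4 n116690 = n105721 := (sb E85534 F225293)
theorem F323318 : act 7 n116690 = n127706 := (sb E85534 (iv7 F225295))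
theorem E87631 : n112080 = n77548 := (((D77548).symm.trans (sb E85535 D112080))).symm
theorem F323319 : act 4 n35404 = n25104 := (sb E85535 (iv4 D51687))
theorem E87632 : n77489 = n51742 := (((iv6 F299910)).symm.trans (sb E85535 (iv6 F81687)))
theorem E87634 : n25278 = n12964 := ((((iv1 F297159)).symm.trans (sb E85537 (iv1 D52076)))).symm
theorem F323320 : act 3 n120231 = n68264 := (sb E85538 (iv3 D145625))
theorem F323321 : act 5 n17636 = n31784 := (sb E85539 (iv5 D68308))
theorem F323322 : act 3 n115377 = n72131 := (sb E85554 F240068)
theorem F323323 : act 2 n49761 = n74116 := (sb E85555 (iv2 D155801))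
theorem F323324 : act 7 n49761 = n74117 := (sb E85555 (iv7 F244807))
theorem F323325 : act 4 n50430 = n74116 := (sb E85556 (iv4 D155803))
theorem E87639 : n155804 = n74107 := (E85557).trans E87566
theorem E87640 : n155780 = n74116 := ((D155780).symm.trans (sb E87639 (iv5 D155804)))
theorem F323326 : act 6 n49711 = n74116 := (sb E85558 (iv6 D155805))
theorem E87641 : n155809 = n74108 := (E85559).trans E87567
theorem E87642 : n155785 = n74117 := ((D155785).symm.trans (sb E87641 (iv5 D155809)))
theorem F323327 : act 6 n136455 = n74117 := (sb E85560 (iv6 D155810))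
theorem F323328 : act 0 n74149 = n64260 := (sb E85561 (iv1 D136727))
theorem F323329 : act 0 n64294 = n120093 := (sb E85562 (iv1 F189700))
theorem F323330 : act 1 n64294 = n34013 := (sb E85562 (iv0 D74147))
theorem E87643 : n155906 = n64260 := (((F100121).symm.trans (sb E85562 D155906))).symm
theorem E87648 : n155914 = n64261 := ((D155914).symm.trans (sb E85563 F219885))
theorem E87649 : n155889 = n144710 := (((D144710).symm.trans (sb E85590 (iv3 F244880)))).symm
theorem E87650 : n153769 = n109277 := ((((iv3 F169283)).symm.trans (sb E85591 F241625))).symm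
theorem F323331 : act 3 n67820 = n118284 := (sb E85593 F237791)
theorem E87653 : n136035 = n135883 := ((((iv3 F221978)).symm.trans (sb E85594 (iv3 F218903)))).symm
theorem E87655 : n139096 = n31219 := ((D139096).symm.trans (sb E85594 (iv6 D67050)))
theorem F323332 : act 3 n143929 = n76843 := (sb E85595 (iv3 D160335))
theorem F323333 : act 3 n119948 = n76585 := (sb E85597 F252297)
theorem F323334 : act 4 n119948 = n117186 := (sb E85597 F252298)
theorem E87659 : n178993 = n127484 := ((((iv3 F243390)).symm.trans (sb E85600 D178993))).symm
theorem E87661 : n178995 = n105759 := ((((iv6 F243391)).symm.trans (sb E85600 D178995))).symm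
theorem F323335 : act 4 n48905 = n71536 := (sb E85601 (iv4 F232482))
theorem F323336 : act 4 n54024 = n67915 := (sb E85603 F227848)
theorem F323337 : act 4 n91341 = n71291 := (sb E85604 (iv4 D151275))
theorem F323338 : act 5 n91341 = n71812 := (sb E85604 F238002)
theorem F323339 : act 6 n104695 = n71291 := (sb E85605 (iv6 D151276))
theorem F323340 : act 5 n62063 = n68338 := (sb E85606 (iv5 D145758))
theorem F323341 : act 1 n48768 = n68438 := (sb E85607 (iv0 D145959))
theorem F323342 : act 0 n53066 = n68438 := (sb E85608 (iv1 D145960))
theorem F323343 : act 2 n34926 = n68438 := (sb E85609 (iv2 D145961))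
theorem F323344 : act 3 n52800 = n68439 := (sb E85610 F229198)
theorem F323345 : act 5 n52800 = n68438 := (sb E85610 (iv5 D145962))
theorem E87662 : n145024 = n105407 := ((((iv7 F161757)).symm.trans (sb E85610 F229199))).symm
theorem F323346 : act 3 n53063 = n54012 := (sb E85611 (iv3 D117188))
theorem F323347 : act 7 n53063 = n68438 := (sb E85611 F183352)
theorem F323348 : act 3 n117189 = n76469 := (sb E85612 F251804)
theorem F323349 : act 7 n117189 = n76461 := (sb E85612 (iv7 D159796))
theorem F323350 : act 6 n116175 = n79725 := (sb E85615 (iv6 D166055))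
theorem F323351 : act 6 n116176 = n79729 := (sb E85616 (iv6 D166069))
theorem F323352 : act 5 n44938 = n53542 := (sb E85617 (iv5 D116177))
theorem F323353 : act 6 n36311 = n53542 := (sb E85618 (iv6 D116178))
theorem F323354 : act 6 n129560 = n76724 := (sb E85620 (iv6 D160167))
theorem F323355 : act 0 n122342 = n136655 := (sb E85621 (iv1 F313528))
theorem F323356 : act 1 n122342 = n76073 := (sb E85621 (iv0 D159132))
theorem F323357 : act 3 n122342 = n132759 := (sb E85621 (iv3 F316606))
theorem E87663 : n132917 = n61123 := (((F208610).symm.trans (sb E85622 (iv2 F213533)))).symm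
theorem E87664 : n132767 = n61051 := ((D132767).symm.trans (sb E85622 (iv6 D129993)))
theorem E87667 : n176076 = n63763 := ((((iv3 F99132)).symm.trans (sb E85623 (iv3 F275347)))).symm
theorem E87668 : n175682 = n132768 := (((D132768).symm.trans (sb E85623 (iv5 F275059)))).symm
theorem E87669 : n132769 = n38687 := ((D132769).symm.trans (sb E85623 (iv6 D84001)))
theorem F323358 : act 6 n28935 = n29480 := (sb E85624 (iv6 D62314))
theorem F323359 : act 3 n125291 = n83049 := (sb E85626 F272118)
theorem F323360 : act 5 n125291 = n83046 := (sb E85626 (iv5 D173643))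
theorem F323361 : act 3 n39802 = n83962 := (sb E85641 (iv3 D175945))
theorem F323362 : act 3 n172487 = n86032 := (sb E85642 F280413)
theorem F323363 : act 3 n175943 = n86033 := (sb E85643 F280414)
theorem F323364 : act 5 n164070 = n83960 := (sb E85646 F275295)
theorem F323365 : act 7 n164070 = n83959 := (sb E85646 (iv7 D175944))
theorem E87678 : n133486 = n12142 := (((F28356).symm.trans (sb E85647 D133486))).symm
theorem E87680 : n173659 = n164201 := (((iv1 F272146)).symm.trans (sb E85648 F258963))
theorem F323366 : act 2 n83977 = n152462 := (sb E85648 (iv2 F239651))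
theorem F323367 : act 3 n83977 = n76996 := (sb E85648 F178514)
theorem E87681 : n175981 = n78889 := (((iv4 F275313)).symm.trans (sb E85648 F178515))
theorem F323368 : act 6 n83977 = n52831 := (sb E85648 (iv6 D114460))
theorem E87684 : n176005 = n69586 := (((F310970).symm.trans (sb E85649 (iv2 F275323)))).symm
theorem E87685 : n176010 = n145804 := ((((iv3 F228940)).symm.trans (sb E85649 D176010))).symm
theorem F323369 : act 4 n68358 = n38680 := (sb E85649 (iv4 D83981))
theorem E87687 : n173654 = n70131 := (((F106514).symm.trans (sb E85649 (iv7 F272141)))).symm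
theorem E87688 : n173653 = n158985 := ((D173653).symm.trans (sb E85650 (iv2 F250319)))
theorem E87689 : n173655 = n70133 := ((D173655).symm.trans (sb E85650 F234840))
theorem E87690 : n176021 = n78898 := ((D176021).symm.trans (sb E85651 F193596))
theorem E87691 : n127345 = n115164 := ((((iv5 F319756)).symm.trans (sb E85651 (iv5 F204588)))).symm
theorem F323370 : act 6 n83984 = n55990 := (sb E85651 (iv6 D121366))
theorem E87692 : n133471 = n52483 := ((D133471).symm.trans (sb E85652 (iv6 D113671)))
theorem F323371 : act 0 n83974 = n152462 := (sb E85653 F283751)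
theorem E87693 : n175984 = n55272 := ((D175984).symm.trans (sb E85653 (iv4 D120120)))
theorem E87694 : n175987 = n164201 := ((D175987).symm.trans (sb E85653 (iv7 F258799)))
theorem F323372 : act 2 n88486 = n61067 := (sb E85654 F208491)
theorem F323373 : act 7 n88486 = n61066 := (sb E85654 (iv7 D130047))
theorem F323374 : act 7 n130048 = n185781 := (sb E85655 F288341)
theorem F323375 : act 4 n41327 = n61067 := (sb E85656 (iv4 D130049))
theorem F323376 : act 5 n102943 = n61067 := (sb E85657 (iv5 D130050))
theorem F323377 : act 6 n102943 = n83974 := (sb E85657 F319785)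
theorem F323378 : act 2 n130051 = n185792 := (sb E85658 F288342)
theorem F323379 : act 4 n130051 = n88532 := (sb E85658 F288343)
theorem F323380 : act 2 n88483 = n61066 := (sb E85659 (iv2 D130042))
theorem F323381 : act 7 n88483 = n61067 := (sb E85659 (iv7 F208490))
theorem F323382 : act 7 n130043 = n185791 := (sb E85660 F288368)
theorem F323383 : act 4 n41328 = n61066 := (sb E85661 (iv4 D130044))
theorem F323384 : act 2 n130046 = n185782 := (sb E85662 F288369)
theorem F323385 : act 4 n130046 = n88535 := (sb E85662 F288370)
theorem F323386 : act 0 n62358 = n102577 := (sb E85663 F288406)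
theorem E87695 : n132881 = n88542 := ((D132881).symm.trans (sb E85663 (iv4 D185908)))
theorem E87696 : n148741 = n132883 := (((D132883).symm.trans (sb E85663 F288405))).symm
theorem E87697 : n130928 = n92710 := (((D92710).symm.trans (sb E85664 (iv0 F216425)))).symm
theorem F323387 : act 5 n43365 = n63165 := (sb E85664 F216424)
theorem E87698 : n94048 = n63162 := (((D63162).symm.trans (sb E85665 F144892))).symm
theorem F323388 : act 3 n29863 = n42356 := (sb E85665 F135136)
theorem E87702 : n132868 = n52491 := ((D132868).symm.trans (sb E85666 (iv1 D113683)))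
theorem E87703 : n132869 = n102578 := ((D132869).symm.trans (sb E85666 F176883))
theorem E87704 : n132853 = n102579 := (((iv2 F213401)).symm.trans (sb E85666 (iv2 F176882)))
theorem F323389 : act 7 n62353 = n92715 := (sb E85666 F176881)
theorem E87705 : n164252 = n29861 := (((D29861).symm.trans (sb E85670 F287421))).symm
theorem E87708 : n164988 = n61011 := ((((iv2 F95549)).symm.trans (sb E85671 (iv2 F260165)))).symm
theorem F323390 : act 5 n28923 = n36083 := (sb E85671 (iv5 D79271))
theorem F323391 : act 4 n55002 = n68478 := (sb E85673 (iv4 D146049))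
theorem F323392 : act 0 n128000 = n162828 := (sb E85674 (iv1 F280436))
theorem F323393 : act 1 n128000 = n162827 := (sb E85674 F280434)
theorem F323394 : act 2 n128000 = n86036 := (sb E85674 (iv2 D180046))
theorem F323395 : act 6 n128000 = n166812 := (sb E85674 F280432)
theorem F323396 : act 0 n139837 = n68594 := (sb E85675 (iv1 D146277))
theorem F323397 : act 1 n139838 = n68594 := (sb E85676 (iv0 D146276))
theorem F323398 : act 5 n43109 = n61374 := (sb E85684 F208314)
theorem E87715 : n132462 = n126991 := (((D126991).symm.trans (sb E85687 (iv2 F212567)))).symm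
theorem E87717 : n126992 = n29422 := ((D126992).symm.trans (sb E85687 (iv5 D62155)))
theorem F323399 : act 5 n13994 = n28285 := (sb E85688 (iv5 D59600))
theorem E87720 : n77752 = n53957 := ((((iv1 F85095)).symm.trans (sb E85689 F303221))).symm
theorem E87721 : n161988 = n53954 := ((((iv2 F85093)).symm.trans (sb E85689 (iv2 F304789)))).symm
theorem F323400 : act 2 n78987 = n49058 := (sb E85695 (iv2 D106139))
theorem E87722 : n164471 = n49059 := ((D164471).symm.trans (sb E85695 (iv7 F163152)))
theorem F323401 : act 7 n78988 = n49058 := (sb E85696 (iv7 D106144))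
theorem E87723 : n159950 = n117371 := (((iv2 F252269)).symm.trans (sb E85698 F252281))
theorem F323402 : act 3 n151765 = n147230 := (sb E85698 F252282)
theorem F323403 : act 5 n151765 = n160117 := (sb E85698 (iv5 F252719))
theorem F323404 : act 6 n151765 = n119550 := (sb E85698 (iv6 F252280))
theorem E87724 : n146649 = n71537 := ((((iv7 D151765)).symm.trans (sb E85698 (iv7 F259468)))).symm
theorem E87725 : n159948 = n117325 := ((D159948).symm.trans (sb E85699 F252285))
theorem F323405 : act 3 n151761 = n117380 := (sb E85700 F252289)
theorem F323406 : act 6 n151761 = n117417 := (sb E85700 F252290)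
theorem F323407 : act 4 n68722 = n141551 := (sb E85701 (tr F238670 E85702))
theorem F323408 : act 7 n68722 = n144891 := (sb E85701 (iv7 F238672))
theorem F323409 : act 0 n141551 = n67899 := (sb E85702 (iv1 D144859))
theorem F323410 : act 1 n141551 = n67915 := (sb E85702 F227793)
theorem F323411 : act 2 n141551 = n67914 := (sb E85702 F230322)
theorem F323412 : act 3 n141551 = n69780 := (sb E85702 F230323)
theorem F323413 : act 5 n141551 = n118679 := (sb E85702 (iv5 F306252))
theorem F323414 : act 7 n141551 = n67913 := (sb E85702 F230324)
theorem F323415 : act 3 n146148 = n85005 := (sb E85703 (iv3 D178528))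
theorem F323416 : act 4 n146148 = n114775 := (sb E85703 F278213)
theorem F323417 : act 7 n146148 = n152195 := (sb E85703 F278214)
theorem F323418 : act 4 n52965 = n68530 := (sb E85704 (iv4 F320066))
theorem E87726 : n78918 = n78910 := (((D78910).symm.trans (sb E85705 (iv1 D164293)))).symm
theorem F323419 : act 2 n35928 = n78911 := (sb E85707 F258913)
theorem F323420 : act 7 n164271 = n78919 := (sb E85708 (iv7 D164304))
theorem F323421 : act 2 n164272 = n78925 := (sb E85709 F258936)
theorem F323422 : act 7 n164272 = n78920 := (sb E85709 (iv7 D164310))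
theorem F323423 : act 2 n164274 = n78927 := (sb E85710 F258946)
theorem F323424 : act 7 n35927 = n78911 := (sb E85711 (iv7 F258912))
theorem F323425 : act 4 n105848 = n78921 := (sb E85712 (iv4 D164313))
theorem F323426 : act 3 n100098 = n62427 := (sb E85713 (iv3 D133040))
theorem E87727 : n172453 = n131670 := ((F275001).symm.trans (sb E85713 F217731))
theorem F323427 : act 3 n100107 = n63657 := (sb E85714 (iv3 D135415))
theorem F323428 : act 6 n100089 = n63656 := (sb E85715 (iv6 D135414))
theorem F323429 : act 3 n100090 = n62429 := (sb E85716 F213695)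
theorem F323430 : act 6 n100090 = n62426 := (sb E85716 (iv6 D133036))
theorem F323431 : act 1 n106015 = n66342 := (sb E85717 (iv0 D141404))
theorem F323432 : act 1 n141405 = n84440 := (sb E85718 F276319)
theorem F323433 : act 0 n116302 = n84439 := (sb E85719 F310026)
theorem F323434 : act 1 n116302 = n84391 := (sb E85719 F310187)
theorem F323435 : act 3 n116302 = n84429 := (sb E85719 F310028)
theorem F323436 : act 4 n116302 = n86587 := (sb E85719 F310029)
theorem F323437 : act 6 n116302 = n62780 := (sb E85719 (iv6 D133750))
theorem F323438 : act 7 n116302 = n84440 := (sb E85719 F310030)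
theorem F323439 : act 4 n55737 = n66342 := (sb E85720 (iv4 D141406))
theorem F323440 : act 3 n17288 = n31780 := (sb E85724 (iv3 D68300))
theorem F323441 : act 1 n30934 = n35382 := (sb E85725 (iv0 F302257))
theorem F323442 : act 3 n30934 = n26935 := (sb E85725 F301639)
theorem F323443 : act 5 n30934 = n17147 := (sb E85725 (iv5 D35328))
theorem F323444 : act 0 n17207 = n31784 := (sb E85726 (iv1 F50081))
theorem F323445 : act 1 n17207 = n31780 := (sb E85726 (iv0 F50074))
theorem E87731 : n66185 = n35498 := ((((iv3 F56184)).symm.trans (sb E85726 (iv3 F101796)))).symm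
theorem F323446 : act 7 n17207 = n14645 := (sb E85726 (iv7 D30937))
theorem E87733 : n112380 = n35380 := ((((iv5 D77488)).symm.trans (sb E85727 (iv5 F174816)))).symm
theorem E87734 : n51594 = n35520 := (((F116330).symm.trans (sb E85727 (iv7 D111887)))).symm
theorem F323447 : act 0 n17212 = n31780 := (sb E85729 (iv1 F78687))
theorem F323448 : act 1 n17212 = n31784 := (sb E85729 (iv0 F50080))
theorem F323449 : act 2 n17212 = n14645 := (sb E85729 F39338)
theorem E87737 : n121026 = n66181 := (((D66181).symm.trans (sb E85730 (iv1 F250564)))).symm
theorem E87738 : n77142 = n66182 := (((D66182).symm.trans (sb E85730 F300913))).symm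
theorem E87739 : n88643 = n66183 := (((D66183).symm.trans (sb E85730 (iv2 F135903)))).symm
theorem E87740 : n160357 = n66013 := ((((iv4 F101696)).symm.trans (sb E85730 (iv4 F303674)))).symm
theorem E87741 : n66184 = n35384 := ((D66184).symm.trans (sb E85730 (iv5 D77498)))
theorem E87745 : n66186 = n35385 := (((D35385).symm.trans (sb E85732 D66186))).symm
theorem F323450 : act 5 n17166 = n14645 := (sb E85732 (iv5 D30936))
theorem F323451 : act 5 n17637 = n31780 := (sb E85734 (iv5 D68301))
theorem E87746 : n51633 = n27067 := ((F81504).symm.trans (sb E85735 F91292))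
theorem F323452 : act 2 n50864 = n35568 := (sb E85735 (iv2 F301532))
theorem F323453 : act 3 n50864 = n26968 := (sb E85735 (iv3 D55914))
theorem E87747 : n77981 = n24736 := ((((iv5 D50864)).symm.trans (sb E85735 (iv5 F119196)))).symm
theorem F323454 : act 7 n50864 = n35568 := (sb E85735 (iv7 F91281))
theorem E87752 : n109510 = n35562 := ((((iv3 F56240)).symm.trans (sb E85739 (iv3 F169464)))).symm
theorem E87753 : n35567 = n24613 := (((iv4 F56248)).symm.trans (sb E85739 F79894))
theorem E87754 : n24612 = n8082 := ((((iv6 D17235)).symm.trans (sb E85739 (iv6 D50522)))).symm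
theorem F323455 : act 3 n24735 = n35802 := (sb E85740 F301952)
theorem F323456 : act 5 n24735 = n35568 := (sb E85740 F301953)
theorem F323457 : act 0 n55913 = n110315 := (sb E85743 (iv1 F170540))
theorem E87759 : n163574 = n59113 := ((D163574).symm.trans (sb E85744 F170532))
theorem F323458 : act 1 n35822 = n110315 := (sb E85746 D110315)
theorem E87762 : n174147 = n50212 := ((D174147).symm.trans (sb E85748 F168693))
theorem E87763 : n174149 = n50210 := ((D174149).symm.trans (sb E85748 (iv6 D108743)))
theorem E87766 : n173339 = n110608 := (((D110608).symm.trans (sb E85749 (iv2 F271787)))).symm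
theorem E87767 : n110609 = n82257 := ((D110609).symm.trans (sb E85749 F128633))
theorem F323459 : act 6 n51002 = n38518 := (sb E85749 (iv6 D83541))
theorem E87769 : n56166 = n25232 := (((F45352).symm.trans (sb E85751 F192895))).symm
theorem E87770 : n55787 = n50987 := ((((iv4 F80420)).symm.trans (sb E85751 F192896))).symm
theorem E87771 : n79150 = n30930 := ((((iv1 F80376)).symm.trans (sb E85754 F299765))).symm
theorem E87772 : n79149 = n30932 := ((((iv0 F49366)).symm.trans (sb E85754 F299766))).symm
theorem E87773 : n35481 = n31787 := (((D31787).symm.trans (sb E85754 (iv5 D77750)))).symm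
theorem E87781 : n110490 = n76942 := (((iv3 F170895)).symm.trans (sb E85757 F299663))
theorem E87782 : n51741 = n35476 := (((iv5 F81684)).symm.trans (sb E85757 (iv5 D77733)))
theorem E87786 : n27062 = n12004 := ((((iv1 F19852)).symm.trans (sb E85759 (iv1 D56143)))).symm
theorem E87788 : n121555 = n24828 := (((D24828).symm.trans (sb E85759 D121555))).symm
theorem F323460 : act 3 n145703 = n77762 := (sb E85763 F255903)
theorem F323461 : act 6 n145703 = n77759 := (sb E85763 (iv6 D161912))
theorem E87791 : n137113 = n33838 := ((D137113).symm.trans (sb E85765 F110270))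
theorem E87792 : n137114 = n33825 := ((D137114).symm.trans (sb E85765 (iv0 D73596)))
theorem F323462 : act 2 n64457 = n33835 := (sb E85765 F155339)
theorem E87793 : n137115 = n54405 := ((D137115).symm.trans (sb E85765 F110269))
theorem E87794 : n127035 = n124988 := (((iv6 F204271)).symm.trans (sb E85765 (iv6 F200761)))
theorem F323463 : act 7 n64457 = n33836 := (sb E85765 F155340)
theorem F323464 : act 0 n113160 = n73658 := (sb E85766 F300980)
theorem F323465 : act 1 n113160 = n73646 := (sb E85766 F300981)
theorem F323466 : act 2 n113160 = n152079 := (sb E85766 F300982)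
theorem F323467 : act 3 n113160 = n70737 := (sb E85766 (iv3 D150265))
theorem F323468 : act 4 n113160 = n160009 := (sb E85766 (iv4 F252406))
theorem E87795 : n155185 = n52233 := ((((iv5 D113160)).symm.trans (sb E85766 F300983))).symm
theorem F323469 : act 6 n113160 = n119528 := (sb E85766 F300984)
theorem F323470 : act 7 n113160 = n133871 := (sb E85766 (iv7 F308678))
theorem F323471 : act 1 n64567 = n62675 := (sb E85767 (iv0 D133555))
theorem F323472 : act 0 n64562 = n62675 := (sb E85768 (iv1 D133556))
theorem F323473 : act 0 n133543 = n127156 := (sb E85769 F221193)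
theorem F323474 : act 1 n133543 = n126827 := (sb E85769 (iv0 F221194))
theorem F323475 : act 4 n133543 = n64828 := (sb E85769 (iv4 D137939))
theorem E87796 : n113670 = n62672 := ((((iv5 D133543)).symm.trans (sb E85769 F221192))).symm
theorem F323476 : act 7 n133543 = n127157 := (sb E85769 F221191)
theorem F323477 : act 4 n30478 = n62675 := (sb E85770 (iv4 D133557))
theorem E87797 : n90571 = n62673 := (((D62673).symm.trans (sb E85771 F176987))).symm
theorem E87798 : n62646 = n52517 := (((iv4 F97726)).symm.trans (sb E85771 (iv4 D113740)))
theorem F323478 : act 0 n31950 = n63766 := (sb E85772 (iv1 D135610))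
theorem E87799 : n115097 = n68666 := ((((iv4 F104876)).symm.trans (sb E85772 (iv4 F218350)))).symm
theorem F323479 : act 2 n63845 = n68668 := (sb E85773 F229798)
theorem F323480 : act 3 n135585 = n68668 := (sb E85774 (iv3 D146473))
theorem F323481 : act 5 n63844 = n68668 := (sb E85775 (iv5 D146475))
theorem F323482 : act 7 n135607 = n68668 := (sb E85776 (iv7 F229797))
theorem E87800 : n173587 = n90252 := (((iv2 F273750)).symm.trans (sb E85781 F142240))
theorem E87801 : n175660 = n92749 := ((D175660).symm.trans (sb E85781 (iv5 F143023)))
theorem F323483 : act 6 n83864 = n43241 := (sb E85781 (iv6 D92454))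
theorem F323484 : act 1 n61450 = n62676 := (sb E85783 F214823)
theorem F323485 : act 1 n117364 = n83955 := (sb E85784 (iv0 D175927))
theorem F323486 : act 0 n117324 = n83955 := (sb E85785 (iv1 D175928))
theorem F323487 : act 2 n117361 = n83955 := (sb E85786 (iv2 D175929))
theorem F323488 : act 3 n117362 = n83039 := (sb E85787 (iv3 D173620))
theorem F323489 : act 5 n117362 = n115108 := (sb E85787 (iv5 F318050))
theorem F323490 : act 7 n117362 = n83955 := (sb E85787 F272092)
theorem E87804 : n131035 = n59451 := ((((iv2 F93840)).symm.trans (sb E85788 D131035))).symm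
theorem F323491 : act 3 n31412 = n29094 := (sb E85788 (iv3 D61468))
theorem E87805 : n131031 = n30452 := (((F49685).symm.trans (sb E85788 (iv4 F209730)))).symm
theorem E87806 : n130743 = n67629 := (((D67629).symm.trans (sb E85788 (iv6 F209302)))).symm
theorem F323492 : act 5 n60947 = n69534 := (sb E85791 (iv5 D148387))
theorem F323493 : act 0 n153598 = n180045 := (sb E85797 (iv1 F280435))
theorem F323494 : act 1 n153598 = n180044 := (sb E85797 F280431)
theorem F323495 : act 2 n153598 = n78269 := (sb E85797 F257096)
theorem F323496 : act 3 n153598 = n167937 := (sb E85797 (iv3 F264644))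
theorem F323497 : act 4 n153598 = n174680 := (sb E85797 F305015)
theorem F323498 : act 6 n153598 = n78267 := (sb E85797 (iv6 D162822))
theorem E87809 : n142056 = n131260 := ((D142056).symm.trans (sb E85798 F210347))
theorem F323499 : act 6 n66617 = n61592 := (sb E85798 (iv6 D131264))
theorem E87812 : n178258 = n45009 := (((D45009).symm.trans (sb E85800 D178258))).symm
theorem F323500 : act 4 n21488 = n39255 := (sb E85800 (iv4 D84839))
theorem E87814 : n79883 = n45011 := (((D45011).symm.trans (sb E85800 F130035))).symm
theorem E87815 : n178246 = n48020 := ((D178246).symm.trans (sb E85801 F148382))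
theorem E87816 : n178251 = n48021 := ((D178251).symm.trans (sb E85802 F148388))
theorem E87817 : n178252 = n104896 := ((D178252).symm.trans (sb E85802 (iv5 F160763)))
theorem E87818 : n178261 = n89209 := ((D178261).symm.trans (sb E85804 F293544))
theorem E87819 : n178262 = n89256 := ((D178262).symm.trans (sb E85804 F293545))
theorem F323501 : act 2 n84840 = n89253 := (sb E85804 F293546)
theorem E87820 : n178263 = n48243 := ((D178263).symm.trans (sb E85804 F293547))
theorem E87821 : n89252 = n79889 := (((F130037).symm.trans (sb E85804 F293548))).symm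
theorem F323502 : act 0 n175446 = n166160 := (sb E85808 (iv1 F277728))
theorem F323503 : act 1 n175446 = n166159 := (sb E85808 F277726)
theorem F323504 : act 2 n175446 = n84810 := (sb E85808 (iv2 D178175))
theorem F323505 : act 3 n175446 = n166154 := (sb E85808 F277724)
theorem F323506 : act 4 n59986 = n56091 := (sb E85813 F193851)
theorem E87822 : n83330 = n30733 := ((((iv0 F315528)).symm.trans (sb E85814 F193849))).symm
theorem F323507 : act 4 n54006 = n56088 := (sb E85814 (iv4 D121489))
theorem F323508 : act 2 n80322 = n109409 := (sb E85815 F171023)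
theorem F323509 : act 6 n80322 = n109409 := (sb E85815 F171024)
theorem F323510 : act 6 n53883 = n56088 := (sb E85816 (iv6 D121490))
theorem F323511 : act 4 n30621 = n56089 := (sb E85818 (iv4 D121492))
theorem F323512 : act 7 n80140 = n109409 := (sb E85819 F171401)
theorem E87824 : n25279 = n12963 := (((D12963).symm.trans (sb E85820 F82301))).symm
theorem E87827 : n152673 = n143723 := (((D143723).symm.trans (sb E85822 F239890))).symm
theorem F323513 : act 3 n67314 = n56091 := (sb E85822 F188778)
theorem E87828 : n143725 = n55060 := ((D143725).symm.trans (sb E85822 F188779))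
theorem E87829 : n116787 = n55059 := (((iv7 F182324)).symm.trans (sb E85822 (iv7 D119672)))
theorem F323514 : act 1 n121499 = n121750 := (sb E85823 (iv0 F312482))
theorem E87830 : n181856 = n148660 := ((F303155).symm.trans (sb E85823 F244862))
theorem F323515 : act 3 n121499 = n143726 := (sb E85823 F244867)
theorem F323516 : act 4 n121499 = n108006 := (sb E85823 F244864)
theorem F323517 : act 5 n121499 = n74139 := (sb E85823 (iv5 D155883))
theorem F323518 : act 7 n121499 = n148663 := (sb E85823 F244863)
theorem E87831 : n109681 = n83303 := ((D109681).symm.trans (sb E85824 (iv4 D174284)))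
theorem E87832 : n161519 = n65241 := ((((iv7 F100988)).symm.trans (sb E85824 F303095))).symm
theorem E87833 : n109662 = n83331 := (((iv4 F169638)).symm.trans (sb E85825 F273164))
theorem E87834 : n109408 = n79151 := (((iv1 F169393)).symm.trans (sb E85826 F128440))
theorem E87835 : n109407 = n79111 := ((F169392).symm.trans (sb E85826 F299486))
theorem E87836 : n109650 = n34735 := (((iv3 F169632)).symm.trans (sb E85826 F299487))
theorem F323519 : act 4 n50576 = n36591 := (sb E85826 F118573)
theorem E87837 : n109652 = n34534 := ((D109652).symm.trans (sb E85826 (iv6 D75472)))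
theorem E87838 : n109656 = n13230 := (((F296117).symm.trans (sb E85827 D109656))).symm
theorem E87839 : n56273 = n51802 := ((D56273).symm.trans (sb E85827 (iv5 F81798)))
theorem E87841 : n109653 = n17892 := (((F57706).symm.trans (sb E85828 D109653))).symm
theorem E87842 : n79616 = n51740 := (((iv5 F122311)).symm.trans (sb E85828 F81676))
theorem F323520 : act 5 n24827 = n12949 := (sb E85831 (iv5 D27027))
theorem E87847 : n25225 = n12950 := (((iv6 F39735)).symm.trans (sb E85831 F43670))
theorem E87851 : n68314 = n17201 := ((((iv1 F56082)).symm.trans (sb E85835 (iv1 F104492)))).symm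
theorem F323521 : act 5 n35378 = n68285 := (sb E85835 (iv5 F104451))
theorem E87852 : n170161 = n148266 := ((((iv2 F320886)).symm.trans (sb E85836 (iv2 F267688)))).symm
theorem F323522 : act 3 n69507 = n54849 := (sb E85836 F187549)
theorem E87853 : n148298 = n54864 := ((D148298).symm.trans (sb E85836 F187550))
theorem E87854 : n148299 = n54848 := ((D148299).symm.trans (sb E85836 (iv6 D119193)))
theorem F323523 : act 7 n69507 = n143733 := (sb E85836 (iv7 F308969))
theorem F323524 : act 2 n69512 = n143733 := (sb E85837 (iv2 F308966))
theorem E87855 : n148497 = n148310 := ((((iv3 F232121)).symm.trans (sb E85837 (iv3 F317815)))).symm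
theorem E87856 : n148315 = n82583 := ((D148315).symm.trans (sb E85837 F305803))
theorem E87857 : n148316 = n54583 := ((D148316).symm.trans (sb E85837 (iv6 D118525)))
theorem E87858 : n109406 = n37387 := (((iv3 F169390)).symm.trans (sb E85838 F125676))
theorem F323525 : act 3 n126623 = n59656 := (sb E85839 F204342)
theorem E87859 : n126890 = n59655 := ((F204662).symm.trans (sb E85839 (iv5 D127098)))
theorem F323526 : act 5 n64995 = n66393 := (sb E85841 (iv5 D141550))
theorem F323527 : act 0 n76582 = n76580 := (sb E85842 (iv1 F233099))
theorem F323528 : act 1 n76582 = n151765 := (sb E85842 F238678)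
theorem F323529 : act 4 n76582 = n67914 := (sb E85842 (iv4 D144896))
theorem F323530 : act 7 n76582 = n151761 := (sb E85842 (iv7 F238675))
theorem F323531 : act 2 n49014 = n103689 := (sb E85843 (iv2 F159134))
theorem E87860 : n106042 = n47809 := ((D106042).symm.trans (sb E85843 (iv6 D103128)))
theorem F323532 : act 1 n120672 = n84084 := (sb E85844 (iv0 D176330))
theorem E87861 : n112037 = n77188 := ((D112037).symm.trans (sb E85845 (iv1 F301335)))
theorem E87862 : n163255 = n112038 := (((D112038).symm.trans (sb E85845 F298677))).symm
theorem E87863 : n163253 = n50486 := (((F173327).symm.trans (sb E85845 F298678))).symm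
theorem E87864 : n174657 = n112040 := (((D112040).symm.trans (sb E85845 D174657))).symm
theorem E87865 : n112041 = n38473 := ((D112041).symm.trans (sb E85845 (iv6 D83458)))
theorem E87866 : n163252 = n50481 := (((F173328).symm.trans (sb E85845 F298679))).symm
theorem E87867 : n80231 = n66154 := (((iv1 F123256)).symm.trans (sb E85846 F224004))
theorem F323533 : act 6 n77377 = n78264 := (sb E85846 F318474)
theorem F323534 : act 4 n77374 = n50665 := (sb E85847 (iv4 D109858))
theorem E87868 : n112200 = n35403 := (((F299909).symm.trans (sb E85847 (iv5 F174464)))).symm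
theorem F323535 : act 4 n77375 = n53500 := (sb E85848 F169823)
theorem E87869 : n50646 = n35501 := (((F300404).symm.trans (sb E85848 (iv5 D109832)))).symm
theorem E87870 : n161179 = n117911 := ((D161179).symm.trans (sb E85848 F318348))
theorem F323536 : act 4 n36547 = n66124 := (sb E85849 (iv4 D140977))
theorem F323537 : act 3 n68910 = n142521 := (sb E85851 F230105)
theorem F323538 : act 6 n68910 = n68803 := (sb E85851 (iv6 D146752))
theorem F323539 : act 3 n59501 = n60885 := (sb E85852 F207787)
theorem F323540 : act 0 n53729 = n67731 := (sb E85853 (iv1 D144518))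
theorem F323541 : act 1 n53729 = n116438 := (sb E85853 (iv0 F321855))
theorem F323542 : act 0 n38385 = n68343 := (sb E85872 F317763)
theorem F323543 : act 1 n38385 = n65134 := (sb E85872 F101337)
theorem F323544 : act 0 n77550 = n65134 := (sb E85873 F174231)
theorem F323545 : act 1 n77550 = n68343 := (sb E85873 (iv0 F317405))
theorem E87873 : n161520 = n148653 := ((D161520).symm.trans (sb E85873 F316156))
theorem F323546 : act 5 n74495 = n80152 := (sb E85874 (iv5 D166981))
theorem F323547 : act 3 n38624 = n65134 := (sb E85875 (iv3 D138726))
theorem F323548 : act 5 n36618 = n65134 := (sb E85876 F174244)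
theorem F323549 : act 3 n116909 = n83028 := (sb E85877 F312938)
theorem F323550 : act 5 n116909 = n80373 := (sb E85877 F263654)
theorem E87874 : n178244 = n79887 := ((D178244).symm.trans (sb E85878 F261968))
theorem E87875 : n178249 = n79886 := ((D178249).symm.trans (sb E85878 (iv7 D166380)))
theorem F323551 : act 4 n47797 = n79887 := (sb E85879 (iv4 D166382))
theorem F323552 : act 5 n91380 = n79887 := (sb E85880 (iv5 D166383))
theorem F323553 : act 4 n41977 = n79886 := (sb E85882 (iv4 D166377))
theorem F323554 : act 4 n44543 = n79888 := (sb E85885 F261952)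
theorem F323555 : act 3 n96424 = n178285 := (sb E85888 (iv3 F277838))
theorem F323556 : act 5 n96424 = n79888 := (sb E85888 (iv5 D166385))
theorem E87876 : n96364 = n51659 := (E85889).trans E86855
theorem E87877 : n112013 = n44996 := ((D112013).symm.trans (sb E87876 (iv0 D96364)))
theorem E87878 : n112007 = n95483 := (((iv2 F174101)).symm.trans (sb E87876 (iv2 F148324)))
theorem E87879 : n112014 = n96117 := ((D112014).symm.trans (sb E87876 (iv5 F150273)))
theorem F323557 : act 0 n82413 = n44996 := (sb E85890 F148110)
theorem E87880 : n172076 = n44948 := ((D172076).symm.trans (sb E85890 (iv3 D96284)))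
theorem E87881 : n172077 = n95673 := ((D172077).symm.trans (sb E85890 F148108))
theorem E87882 : n95483 = n38822 := (((F126960).symm.trans (sb E85890 F148109))).symm
theorem F323558 : act 2 n84195 = n44996 := (sb E85891 F148307)
theorem E87883 : n176600 = n95309 := ((D176600).symm.trans (sb E85891 F148308))
theorem E87884 : n176601 = n44991 := ((D176601).symm.trans (sb E85891 (iv5 D96354)))
theorem F323559 : act 4 n27098 = n44996 := (sb E85892 (iv4 D96365))
theorem E87885 : n84232 = n44995 := (((D44995).symm.trans (sb E85893 (iv1 F303313)))).symm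
theorem E87886 : n84227 = n44945 := ((((iv0 F70652)).symm.trans (sb E85893 (iv0 F303315)))).symm
theorem E87887 : n79884 = n44997 := (((D44997).symm.trans (sb E85893 F194240))).symm
theorem F323560 : act 7 n36391 = n44996 := (sb E85894 (iv7 D96366))
theorem F323561 : act 2 n82570 = n60590 := (sb E85897 F207099)
theorem E87889 : n172462 = n60589 := ((D172462).symm.trans (sb E85897 (iv5 D128836)))
theorem E87890 : n158341 = n60594 := ((D158341).symm.trans (sb E85898 F207101))
theorem F323562 : act 6 n75502 = n60590 := (sb E85898 (iv6 D128841))
theorem F323563 : act 5 n49759 = n83906 := (sb E85899 (iv5 D175789))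
theorem F323564 : act 4 n135252 = n83045 := (sb E85900 (iv4 D173639))
theorem F323565 : act 7 n135252 = n83906 := (sb E85900 F272116)
theorem F323566 : act 6 n53117 = n52649 := (sb E85901 (iv6 D114075))
theorem E87892 : n134475 = n43376 := ((((iv0 F73768)).symm.trans (sb E85902 D134475))).symm
theorem E87893 : n115114 = n43377 := (((F68142).symm.trans (sb E85902 (iv2 F179259)))).symm
theorem F323567 : act 5 n41162 = n29863 := (sb E85902 (iv5 D63164))
theorem F323568 : act 7 n114072 = n63571 := (sb E85903 (iv7 D135257))
theorem F323569 : act 7 n84446 = n66938 := (sb E85904 (iv7 D142807))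
theorem F323570 : act 3 n140007 = n74904 := (sb E85905 F248041)
theorem F323571 : act 6 n140007 = n74899 := (sb E85905 (iv6 D157447))
theorem F323572 : act 4 n125005 = n61259 := (sb E85906 (iv4 D130567))
theorem F323573 : act 0 n148204 = n180567 := (sb E85907 (iv1 F281047))
theorem F323574 : act 1 n148204 = n78726 := (sb E85907 (iv0 D163887))
theorem F323575 : act 0 n148206 = n78726 := (sb E85908 (iv1 D163888))
theorem F323577 : act 0 n116643 = n180566 := (sb E85909 (iv1 F281048))
theorem F323579 : act 2 n116643 = n78726 := (sb E85909 (iv2 D163889))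
theorem F323580 : act 3 n116643 = n180578 := (sb E85909 (iv3 F281064))
theorem F323581 : act 7 n116643 = n180567 := (sb E85909 (iv7 F281046))
theorem F323582 : act 4 n109771 = n78726 := (sb E85910 (iv4 D163890))
theorem F323583 : act 3 n116596 = n78727 := (sb E85911 F258320)
theorem F323584 : act 5 n116596 = n78726 := (sb E85911 (iv5 D163891))
theorem F323585 : act 0 n51017 = n75955 := (sb E85912 (iv1 F229486))
theorem F323586 : act 1 n51017 = n78727 := (sb E85912 F318587)
theorem F323587 : act 4 n51017 = n75950 := (sb E85912 F229485)
theorem E87895 : n110641 = n68555 := ((D110641).symm.trans (sb E85912 (iv6 D146193)))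
theorem F323588 : act 2 n79706 = n51948 := (sb E85913 F175163)
theorem F323589 : act 7 n79706 = n110638 := (sb E85913 F175164)
theorem F323590 : act 0 n147174 = n180578 := (sb E85914 (iv1 F281066))
theorem F323591 : act 1 n147174 = n78722 := (sb E85914 (iv0 D163877))
theorem F323592 : act 0 n111560 = n180577 := (sb E85915 (iv1 F281067))
theorem F323593 : act 1 n111560 = n180576 := (sb E85915 F281063)
theorem F323594 : act 2 n111560 = n78722 := (sb E85915 (iv2 D163879))
theorem F323595 : act 3 n111560 = n180567 := (sb E85915 (iv3 F281045))
theorem F323596 : act 7 n111560 = n180578 := (sb E85915 (iv7 F281065))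
theorem F323597 : act 4 n111297 = n78722 := (sb E85916 (iv4 D163880))
theorem F323598 : act 4 n121086 = n113168 := (sb E85917 F202454)
theorem F323599 : act 6 n121086 = n58973 := (sb E85917 (iv6 D125952))
theorem E87896 : n147935 = n144994 := (((D144994).symm.trans (sb E85922 (iv1 F318919)))).symm
theorem F323600 : act 1 n67975 = n71315 := (sb E85922 (iv0 D151315))
theorem E87897 : n143432 = n123247 := ((D143432).symm.trans (sb E85923 (iv1 F197531)))
theorem E87898 : n123246 = n117533 := ((((iv0 F184135)).symm.trans (sb E85923 F197537))).symm
theorem E87899 : n143433 = n123249 := ((D143433).symm.trans (sb E85923 (iv2 F197534)))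
theorem F323601 : act 4 n67189 = n123253 := (sb E85923 (iv4 F197544))
theorem F323602 : act 6 n67189 = n123253 := (sb E85923 (iv6 F197545))
theorem F323603 : act 7 n67189 = n56974 := (sb E85923 (iv7 D122654))
theorem E87900 : n144492 = n67082 := ((D144492).symm.trans (sb E85924 (iv6 D143154)))
theorem E87901 : n139784 = n116874 := ((((iv1 F182606)).symm.trans (sb E85925 (iv1 F222967)))).symm
theorem E87902 : n145489 = n49977 := ((D145489).symm.trans (sb E85925 F167322))
theorem E87903 : n145490 = n74782 := ((D145490).symm.trans (sb E85925 F167323))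
theorem E87904 : n145493 = n49976 := ((D145493).symm.trans (sb E85925 (iv6 D108211)))
theorem E87905 : n145494 = n139785 := ((D145494).symm.trans (sb E85925 (iv7 F222965)))
theorem F323604 : act 0 n65619 = n31752 := (sb E85926 (iv1 D68224))
theorem E87910 : n145499 = n131610 := ((D145499).symm.trans (sb E85927 (iv1 F315238)))
theorem E87911 : n145501 = n74918 := ((D145501).symm.trans (sb E85927 F312764))
theorem F323605 : act 6 n68225 = n37395 := (sb E85927 (iv6 D81789))
theorem E87912 : n145502 = n131608 := ((D145502).symm.trans (sb E85927 F312765))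
theorem E87913 : n147870 = n116863 := (((F182571).symm.trans (sb E85928 (iv0 F240651)))).symm
theorem E87914 : n145531 = n117064 := ((D145531).symm.trans (sb E85928 (iv3 F318379)))
theorem E87915 : n145533 = n103725 := ((D145533).symm.trans (sb E85928 (iv5 F313061)))
theorem E87916 : n145534 = n69129 := ((D145534).symm.trans (sb E85928 (iv6 D147493)))
theorem E87917 : n145525 = n139715 := ((F228586).symm.trans (sb E85928 (iv7 F319432)))
theorem E87918 : n145535 = n68972 := ((D145535).symm.trans (sb E85929 (iv1 D147105)))
theorem E87919 : n146794 = n116862 := (((F182569).symm.trans (sb E85929 (iv2 F241586)))).symm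
theorem E87920 : n147888 = n145511 := ((((iv3 F228569)).symm.trans (sb E85929 F240654))).symm
theorem E87921 : n146793 = n145538 := (((D145538).symm.trans (sb E85929 (iv7 F241592)))).symm
theorem F323606 : act 4 n85518 = n77480 := (sb E85934 (iv4 D161402))
theorem E87922 : n84484 = n68194 := ((((iv4 F104365)).symm.trans (sb E85935 F276670))).symm
theorem E87923 : n75751 = n50948 := ((((iv1 F80367)).symm.trans (sb E85936 F117864))).symm
theorem E87924 : n75783 = n50947 := ((((iv0 F80383)).symm.trans (sb E85936 F299911))).symm
theorem E87925 : n68313 = n18496 := (((iv3 F104490)).symm.trans (sb E85936 F59981))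
theorem E87926 : n50645 = n18494 := ((F80010).symm.trans (sb E85936 (iv5 D38951)))
theorem E87928 : n57337 = n50946 := ((((iv3 F80366)).symm.trans (sb E85939 F197451))).symm
theorem E87929 : n57335 = n50644 := ((((iv5 F80006)).symm.trans (sb E85939 (iv5 D123189)))).symm
theorem F323607 : act 1 n35629 = n50739 := (sb E85943 (iv0 D110003))
theorem F323608 : act 4 n75744 = n50739 := (sb E85944 F170137)
theorem F323609 : act 6 n75744 = n50737 := (sb E85944 (iv6 D110002))
theorem E87933 : n126151 = n86831 := ((D126151).symm.trans (iv5 (sb E85946 (tr F258703 E87759))))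
theorem F323610 : act 5 n35873 = n60794 := (sb E85951 (iv5 D129372))
theorem F323611 : act 2 n124984 = n78859 := (sb E85955 (iv2 D164150))
theorem F323612 : act 7 n124984 = n78860 := (sb E85955 (iv7 F258699))
theorem F323613 : act 5 n164151 = n166899 := (sb E85956 (iv5 F298858))
theorem F323614 : act 5 n80123 = n78859 := (sb E85958 (iv5 D164153))
theorem F323615 : act 2 n124983 = n78860 := (sb E85960 F258700)
theorem F323616 : act 7 n124983 = n78859 := (sb E85960 (iv7 D164155))
theorem F323617 : act 5 n161331 = n78860 := (sb E85963 (iv5 D164158))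
theorem F323618 : act 5 n39398 = n78858 := (sb E85966 (iv5 D164148))
theorem F323619 : act 1 n55872 = n77762 := (sb E85980 (iv0 D161918))
theorem F323620 : act 0 n55870 = n77762 := (sb E85981 (iv1 D161919))
theorem F323621 : act 4 n58467 = n77762 := (sb E85982 F255911)
theorem F323622 : act 7 n78412 = n77762 := (sb E85983 (iv7 D161921))
theorem E87934 : n129329 = n125998 := (((D125998).symm.trans (iv5 (sb E85986 (tr (iv5 F261009) E86511))))).symm
theorem E87935 : n78017 = n60720 := (((F207395).symm.trans (sb E85987 (iv3 D162445)))).symm
theorem E87936 : n129327 = n126012 := (((D126012).symm.trans (sb E85988 (iv1 F207519)))).symm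
theorem E87937 : n129326 = n126013 := (((D126013).symm.trans (sb E85988 F207522))).symm
theorem E87938 : n112420 = n28842 := (((iv3 F174907)).symm.trans (sb E85988 F95366))
theorem E87939 : n129154 = n126014 := (((D126014).symm.trans (sb E85988 (iv4 F207396)))).symm
theorem F323623 : act 7 n59020 = n28837 := (sb E85988 (iv7 D60789))
theorem E87941 : n24787 = n6160 := ((((iv4 F9579)).symm.trans (sb E85991 (iv4 D50974)))).symm
theorem E87942 : n25073 = n8682 := (((F16952).symm.trans (sb E85992 (iv1 D51619)))).symm
theorem E87943 : n50506 = n16726 := ((((iv0 F27448)).symm.trans (sb E85992 F81468))).symm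
theorem E87944 : n111935 = n7774 := (((F12981).symm.trans (sb E85992 D111935))).symm
theorem E87945 : n25150 = n17442 := (((D17442).symm.trans (sb E85992 F81470))).symm
theorem E87947 : n111933 = n9004 := (((F21595).symm.trans (sb E85993 D111933))).symm
theorem E87948 : n27113 = n25149 := ((D27113).symm.trans (sb E85993 F81464))
theorem E87950 : n109475 = n7778 := ((((iv3 D16693)).symm.trans (sb E85994 (iv3 F169433)))).symm
theorem E87951 : n34421 = n24603 := ((D34421).symm.trans (sb E85994 (iv5 D50497)))
theorem E87953 : n109482 = n19123 := (((F43340).symm.trans (sb E85996 (iv3 F169437)))).symm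
theorem E87954 : n34476 = n24604 := (((iv5 F54706)).symm.trans (sb E85996 (iv5 D50501)))
theorem E87955 : n110113 = n17169 := (((D17169).symm.trans (sb E85997 D110113))).symm
theorem E87956 : n25077 = n12968 := ((((iv5 F21567)).symm.trans (sb E85997 F80157))).symm
theorem E87958 : n110112 = n17171 := (((D17171).symm.trans (sb E85998 D110112))).symm
theorem E87959 : n25080 = n12967 := (((F21677).symm.trans (sb E85998 F80150))).symm
theorem E87961 : n24697 = n12947 := (((F21519).symm.trans (sb E86000 (iv1 F80079)))).symm
theorem E87963 : n25224 = n8035 := ((((iv6 F13353)).symm.trans (sb E86002 (iv6 F39732)))).symm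
theorem E87965 : n98405 = n63474 := (((iv3 F294981)).symm.trans (sb E86005 F208303))
theorem F323624 : act 4 n95411 = n61024 := (sb E86005 (iv4 D129934))
theorem E87967 : n24605 = n17503 := ((((iv4 F28486)).symm.trans (sb E86006 (iv4 D50505)))).symm
theorem E87970 : n163832 = n132699 := ((((iv1 F213034)).symm.trans (sb E86009 D163832))).symm
theorem E87971 : n163833 = n132698 := (((F213040).symm.trans (sb E86009 D163833))).symm
theorem E87972 : n163791 = n132701 := ((((iv2 F213037)).symm.trans (sb E86009 (iv2 F258145)))).symm
theorem F323625 : act 5 n62281 = n35840 := (sb E86009 (iv5 D78709))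
theorem E87974 : n121416 = n29463 := ((((iv3 F47236)).symm.trans (sb E86010 (iv3 F193704)))).symm
theorem E87975 : n27029 = n11972 := (((F23372).symm.trans (sb E86010 (iv5 D56029)))).symm
theorem E87977 : n162185 = n14250 := ((((iv3 F23778)).symm.trans (sb E86012 (iv3 F256325)))).symm
theorem F323626 : act 3 n64896 = n61025 := (sb E86014 F208304)
theorem E87981 : n138127 = n61024 := ((D138127).symm.trans (sb E86014 (iv6 D129935)))
theorem E87984 : n56008 = n24696 := (((F48244).symm.trans (sb E86016 (iv5 D121388)))).symm
theorem F323627 : act 4 n129370 = n182304 := (sb E86020 F304022)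
theorem F323628 : act 5 n129370 = n78799 := (sb E86020 (iv5 D164019))
theorem E87985 : n62550 = n46038 := (((F151839).symm.trans (sb E86021 F207541))).symm
theorem F323629 : act 4 n98415 = n60794 := (sb E86021 (iv4 D129371))
theorem F323630 : act 6 n98415 = n130831 := (sb E86021 (iv6 F209388))
theorem E87986 : n56151 = n24980 := ((((iv5 F164324)).symm.trans (sb E86022 (iv5 D121579)))).symm
theorem E87987 : n38860 = n5585 := ((((iv1 D11912)).symm.trans (sb E86023 (iv1 F59887)))).symm
theorem E87988 : n56153 = n25081 := (((D25081).symm.trans (sb E86023 D56153))).symm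
theorem F323631 : act 5 n129377 = n79659 := (sb E86026 (iv5 D165878))
theorem E87993 : n56167 = n25227 := ((((iv5 F164083)).symm.trans (sb E86037 (iv5 D121616)))).symm
theorem E87995 : n78016 = n50934 := ((((iv2 F170644)).symm.trans (sb E86040 F261355))).symm
theorem E87996 : n56170 = n50892 := (((F80288).symm.trans (sb E86040 (iv5 D121624)))).symm
theorem E87998 : n56171 = n50891 := ((((iv5 F80286)).symm.trans (sb E86041 (iv5 D121628)))).symm
theorem E87999 : n78001 = n28135 := (((F45590).symm.trans (sb E86042 (iv5 D162392)))).symm
theorem E88000 : n78007 = n28139 := (((D28139).symm.trans (sb E86044 (iv1 F256562)))).symm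
theorem E88001 : n78002 = n28140 := (((D28140).symm.trans (sb E86044 F256559))).symm
theorem E88002 : n28141 = n17241 := ((D28141).symm.trans (sb E86044 (iv7 D35589)))
theorem E88004 : n77520 = n28100 := (((F100174).symm.trans (sb E86046 D77520))).symm
theorem E88006 : n77517 = n28145 := (((D28145).symm.trans (sb E86047 D77517))).symm
theorem F323632 : act 4 n8087 = n6380 := (sb E86048 F19023)
theorem F323633 : act 6 n8087 = n5428 := (sb E86048 (iv6 D11695))
theorem F323634 : act 5 n8086 = n13749 := (sb E86050 (iv5 F23004))
theorem F323635 : act 7 n8086 = n6380 := (sb E86050 (iv7 D13433))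
theorem E88010 : n116558 = n59017 := (((iv5 F321866)).symm.trans (sb E86054 (iv5 D126007)))
theorem F323636 : act 6 n62156 = n59020 := (sb E86054 F202700)
theorem F323637 : act 0 n66163 = n77377 := (sb E86067 (iv1 F123261))
theorem F323638 : act 1 n66163 = n36547 := (sb E86067 (iv0 D80230))
theorem F323639 : act 2 n66163 = n77374 := (sb E86067 F193746)
theorem E88011 : n167119 = n141082 := (((D141082).symm.trans (sb E86067 D167119))).symm
theorem E88012 : n109833 = n38124 := (((iv5 F169826)).symm.trans (sb E86067 F300342))
theorem F323640 : act 6 n66163 = n133133 := (sb E86067 (iv6 F303088))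
theorem F323641 : act 7 n66163 = n77375 := (sb E86067 F193744)
theorem E88015 : n112329 = n8026 := ((((iv3 F12804)).symm.trans (sb E86070 (iv3 F174728)))).symm
theorem E88016 : n25157 = n8037 := (((D8037).symm.trans (sb E86070 (iv5 D51819)))).symm
theorem E88020 : n109503 = n8075 := (((D8075).symm.trans (sb E86072 (iv3 F169459)))).symm
theorem E88021 : n24609 = n8077 := (((D8077).symm.trans (sb E86072 (iv5 D50514)))).symm
theorem E88024 : n50711 = n34462 := (((D34462).symm.trans (sb E86074 F170075))).symm
theorem E88025 : n50710 = n17326 := ((((iv7 F28260)).symm.trans (sb E86074 (iv7 D109961)))).symm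
theorem F323642 : act 5 n24690 = n17431 := (sb E86075 (iv5 D36004))
theorem F323643 : act 4 n24689 = n17879 := (sb E86077 F296175)
theorem F323644 : act 7 n24689 = n17431 := (sb E86077 F43408)
theorem F323645 : act 5 n129952 = n79208 := (sb E86081 (iv5 D164847))
theorem E88031 : n169924 = n61042 := (((D61042).symm.trans (sb E86090 (iv4 F267347)))).symm
theorem F323646 : act 5 n129398 = n78501 := (sb E86093 (iv5 D163347))
theorem F323647 : act 5 n35766 = n60807 := (sb E86095 (iv5 D129399))
theorem F323648 : act 5 n129404 = n79633 := (sb E86099 (iv5 D165808))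
theorem F323649 : act 5 n128747 = n165805 := (sb E86100 (iv5 F261216))
theorem E88036 : n35565 = n24496 := ((((iv5 F164314)).symm.trans (sb E86105 (iv5 D77954)))).symm
theorem E88039 : n162199 = n50342 := ((((iv2 F164327)).symm.trans (sb E86107 (iv2 F256350)))).symm
theorem E88040 : n98402 = n61378 := (((D61378).symm.trans (sb E86107 (iv4 F295468)))).symm
theorem E88041 : n35554 = n24608 := (((F46693).symm.trans (sb E86107 (iv5 D77925)))).symm
theorem E88046 : n161239 = n25142 := (((D25142).symm.trans (sb E86110 D161239))).symm
theorem E88048 : n161241 = n25136 := ((((iv2 F39551)).symm.trans (sb E86110 D161241))).symm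
theorem E88049 : n38868 = n25141 := ((((iv4 F39558)).symm.trans (sb E86110 F116216))).symm
theorem E88052 : n35345 = n25156 := (((D25156).symm.trans (sb E86112 D35345))).symm
theorem F323650 : act 0 n67032 = n73377 := (sb E86116 (iv1 D154726))
theorem E88057 : n147247 = n143030 := (((D143030).symm.trans (sb E86116 (iv5 F243405)))).symm
theorem F323651 : act 1 n67127 = n142299 := (sb E86117 (iv0 F225246))
theorem E88058 : n143294 = n66649 := ((D143294).symm.trans (sb E86117 (iv4 D142154)))
theorem F323652 : act 6 n126670 = n62228 := (sb E86119 (iv6 D132628))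
theorem F323653 : act 4 n29872 = n59603 := (sb E86120 (iv4 D127002))
theorem E88059 : n177587 = n141177 := ((D177587).symm.trans (sb E86121 (iv4 F224200)))
theorem F323654 : act 6 n84589 = n59547 := (sb E86121 (iv6 D126886))
theorem F323655 : act 5 n129806 = n85473 := (sb E86122 (iv5 D179130))
theorem F323656 : act 3 n106397 = n133543 := (sb E86126 (iv3 F214825))
theorem F323657 : act 5 n106397 = n61456 := (sb E86126 (iv5 D131003))
theorem E88060 : n126722 = n61458 := (((D61458).symm.trans (sb E86128 (iv0 F227075)))).symm
theorem F323658 : act 5 n29089 = n59720 := (sb E86128 (iv5 D127214))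
theorem F323659 : act 5 n127215 = n61204 := (sb E86129 (iv5 D130441))
theorem F323660 : act 1 n83552 = n59722 := (sb E86132 (iv0 D127218))
theorem E88062 : n142990 = n34996 := (((iv3 F225834)).symm.trans (sb E86133 (iv3 D76583)))
theorem E88063 : n143018 = n68435 := ((D143018).symm.trans (sb E86133 F114838))
theorem E88064 : n159958 = n31210 := ((((iv5 D67026)).symm.trans (sb E86133 D159958))).symm
theorem E88065 : n77847 = n30922 := (((F317400).symm.trans (sb E86134 F255843))).symm
theorem F323661 : act 1 n126700 = n66484 := (sb E86140 (iv0 D141801))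
theorem F323662 : act 0 n126699 = n66484 := (sb E86141 (iv1 D141802))
theorem F323663 : act 5 n126699 = n135445 := (sb E86141 (iv5 F224812))
theorem F323664 : act 2 n64250 = n66484 := (sb E86142 F224811)
theorem E88069 : n126943 = n66483 := (((iv5 F204196)).symm.trans (sb E86142 (iv5 D141800)))
theorem F323665 : act 2 n141803 = n67669 := (sb E86143 (iv2 D144409))
theorem F323666 : act 3 n141803 = n67678 := (sb E86143 F227188)
theorem F323667 : act 7 n141803 = n139813 := (sb E86143 F227190)
theorem F323668 : act 4 n59877 = n75947 := (sb E86144 F250359)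
theorem E88070 : n121339 = n119940 := (((D119940).symm.trans (sb E86146 F251257))).symm
theorem F323669 : act 4 n55200 = n76314 := (sb E86146 (iv4 D159518))
theorem F323670 : act 4 n55201 = n76435 := (sb E86147 (iv4 D159756))
theorem E88071 : n52990 = n52943 := ((((iv4 F317609)).symm.trans (sb E86150 (iv4 D114841)))).symm
theorem F323671 : act 4 n67100 = n76438 := (sb E86152 F251714)
theorem E88072 : n143215 = n76454 := ((D143215).symm.trans (sb E86153 F251730))
theorem E88073 : n143216 = n114413 := ((D143216).symm.trans (sb E86153 F251731))
theorem F323672 : act 7 n67099 = n76438 := (sb E86153 (iv7 D159769))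
theorem F323673 : act 5 n78822 = n62361 := (sb E86156 F213460)
theorem F323674 : act 7 n78822 = n62360 := (sb E86156 (iv7 D132892))
theorem F323675 : act 3 n163524 = n83608 := (sb E86158 F273973)
theorem F323676 : act 5 n163524 = n83596 := (sb E86158 (iv5 D175049))
theorem F323677 : act 6 n163524 = n83599 := (sb E86158 F273974)
theorem F323678 : act 3 n79035 = n78580 := (sb E86159 (iv3 D163525))
theorem F323679 : act 5 n79031 = n78580 := (sb E86160 (iv5 D163527))
theorem F323680 : act 6 n163025 = n78580 := (sb E86161 (iv6 D163528))
theorem F323681 : act 0 n163534 = n84126 := (sb E86162 (iv1 F272178))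
theorem F323682 : act 2 n163534 = n84125 := (sb E86162 F274306)
theorem F323683 : act 3 n163534 = n101605 := (sb E86162 F310250)
theorem F323684 : act 7 n163534 = n83310 := (sb E86162 F310251)
theorem F323685 : act 1 n163535 = n84126 := (sb E86163 F310248)
theorem F323686 : act 2 n163535 = n83310 := (sb E86163 F271469)
theorem F323687 : act 4 n163535 = n83314 := (sb E86163 F271470)
theorem F323688 : act 6 n163535 = n82880 := (sb E86163 (iv6 D173198))
theorem F323689 : act 7 n163535 = n84125 := (sb E86163 F310249)
theorem F323690 : act 0 n163522 = n84125 := (sb E86164 (iv1 F272185))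
theorem F323691 : act 1 n163522 = n83310 := (sb E86164 F310245)
theorem F323692 : act 3 n163522 = n134528 := (sb E86164 (iv3 F313254))
theorem F323693 : act 4 n163522 = n83069 := (sb E86164 F272182)
theorem F323694 : act 6 n163522 = n134528 := (sb E86164 (iv6 F313255))
theorem F323695 : act 7 n163522 = n84126 := (sb E86164 F272183)
theorem F323696 : act 4 n38231 = n78582 := (sb E86165 (iv4 D163536))
theorem F323697 : act 2 n44743 = n45398 := (sb E86169 F149859)
theorem E88077 : n95814 = n67890 := ((D95814).symm.trans (sb E86169 F317686))
theorem E88078 : n103736 = n95816 := (((D95816).symm.trans (sb E86169 F317687))).symm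
theorem F323698 : act 7 n44743 = n45397 := (sb E86169 (iv7 D97132))
theorem E88079 : n136723 = n74149 := ((D136723).symm.trans (sb E86172 F189662))
theorem E88080 : n136724 = n120062 := ((D136724).symm.trans (sb E86172 F189664))
theorem E88081 : n120061 = n107717 := ((D120061).symm.trans (sb E86173 F182650))
theorem F323699 : act 5 n55245 = n53872 := (sb E86173 (iv5 D116904))
theorem F323700 : act 3 n116902 = n120002 := (sb E86181 (iv3 F237776))
theorem F323701 : act 0 n132858 = n164067 := (sb E86184 (iv1 F258558))
theorem F323702 : act 1 n132858 = n80060 := (sb E86184 F299795)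
theorem F323703 : act 4 n132858 = n185531 := (sb E86184 F299796)
theorem F323704 : act 7 n132858 = n164068 := (sb E86184 (iv7 F258556))
theorem F323705 : act 0 n132889 = n164068 := (sb E86185 (iv1 F258557))
theorem F323706 : act 3 n132889 = n78704 := (sb E86185 F299793)
theorem F323707 : act 7 n132889 = n80060 := (sb E86185 F299794)
theorem F323708 : act 1 n132890 = n164068 := (sb E86186 F258559)
theorem F323709 : act 4 n88378 = n62360 := (sb E86187 (iv4 D132891))
theorem E88082 : n153723 = n96211 := ((D153723).symm.trans (sb E86190 (iv1 F147967)))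
theorem E88083 : n153724 = n103854 := ((D153724).symm.trans (sb E86190 (iv0 F159271)))
theorem E88084 : n153725 = n48067 := ((D153725).symm.trans (sb E86190 F147623))
theorem F323710 : act 4 n72731 = n44794 := (sb E86190 (iv4 D95990))
theorem F323711 : act 6 n72731 = n51167 := (sb E86190 F302681)
theorem E88085 : n152986 = n48064 := (((iv7 F240263)).symm.trans (sb E86190 F147624))
theorem E88086 : n154136 = n141028 := (((D141028).symm.trans (sb E86192 (iv3 F317248)))).symm
theorem F323712 : act 5 n66141 = n35321 := (sb E86192 (iv5 D77370))
theorem E88087 : n161167 = n125006 := ((((iv3 F200791)).symm.trans (sb E86193 (iv3 F254848)))).symm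
theorem F323713 : act 5 n58444 = n35322 := (sb E86193 (iv5 D77372))
theorem E88089 : n141034 = n83571 := ((D141034).symm.trans (sb E86194 F308417))
theorem E88090 : n141035 = n83576 := ((D141035).symm.trans (sb E86194 F308418))
theorem E88091 : n141037 = n77491 := ((D141037).symm.trans (sb E86194 (iv5 D161418)))
theorem E88092 : n141038 = n77845 := ((D141038).symm.trans (sb E86194 F255285))
theorem F323714 : act 5 n35381 = n30921 := (sb E86195 (iv5 D66144))
theorem F323715 : act 0 n35523 = n39455 := (sb E86196 F318621)
theorem F323716 : act 7 n35523 = n30921 := (sb E86196 (iv7 D66145))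
theorem F323717 : act 3 n113679 = n53565 := (sb E86197 (iv3 D116225))
theorem F323718 : act 6 n113679 = n66469 := (sb E86197 F181146)
theorem F323719 : act 7 n113679 = n66479 := (sb E86197 F181147)
theorem E88095 : n113834 = n53562 := ((((iv3 F84493)).symm.trans (sb E86198 F223087))).symm
theorem F323720 : act 1 n142350 = n66880 := (sb E86199 (iv0 D142680))
theorem F323721 : act 0 n31238 = n66880 := (sb E86200 (iv1 D142681))
theorem F323722 : act 2 n67719 = n66880 := (sb E86201 (iv2 D142682))
theorem F323723 : act 3 n116320 = n66841 := (sb E86202 (iv3 D142606))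
theorem F323724 : act 4 n116320 = n66880 := (sb E86202 F225462)
theorem E88096 : n143150 = n116435 := ((D143150).symm.trans (iv2 (sb E86203 (tr (iv2 F227335) E87900))))
theorem F323725 : act 4 n69651 = n83557 := (sb E86204 (iv4 D174944))
theorem F323726 : act 6 n69650 = n83557 := (sb E86205 (iv6 D174945))
theorem F323728 : act 7 n139324 = n150891 := (sb E86206 F244616)
theorem F323731 : act 7 n139510 = n150892 := (sb E86207 F244618)
theorem F323732 : act 2 n30782 = n23896 := (sb E86210 (iv2 F320861))
theorem F323733 : act 7 n30782 = n32915 := (sb E86210 (iv7 F320859))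
theorem F323734 : act 7 n48962 = n65757 := (sb E86211 F223278)
theorem F323735 : act 2 n48978 = n65753 := (sb E86212 F223279)
theorem F323736 : act 7 n48978 = n65758 := (sb E86212 F223280)
theorem F323737 : act 2 n30783 = n32915 := (sb E86215 (iv2 F320858))
theorem F323738 : act 7 n30783 = n23896 := (sb E86215 (iv7 F320862))
theorem F323739 : act 0 n74020 = n65758 := (sb E86222 (iv1 F223293))
theorem F323740 : act 1 n74020 = n65753 := (sb E86222 (iv0 D140091))
theorem F323741 : act 0 n74018 = n65753 := (sb E86223 (iv1 D140092))
theorem F323742 : act 1 n74018 = n65758 := (sb E86223 F223289)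
theorem F323743 : act 4 n140093 = n127983 := (sb E86224 F250945)
theorem F323744 : act 7 n140093 = n150753 := (sb E86224 F250946)
theorem F323745 : act 0 n140094 = n118699 := (sb E86225 F250949)
theorem F323746 : act 1 n140094 = n146361 := (sb E86225 F250950)
theorem F323747 : act 2 n140094 = n105941 := (sb E86225 F250947)
theorem F323748 : act 7 n140094 = n150754 := (sb E86225 F250948)
theorem F323749 : act 6 n138405 = n65753 := (sb E86226 (iv6 D140095))
theorem F323750 : act 2 n71079 = n65758 := (sb E86227 F223291)
theorem F323751 : act 7 n71079 = n65753 := (sb E86227 (iv7 D140096))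
theorem F323752 : act 2 n71080 = n65760 := (sb E86236 F223300)
theorem F323753 : act 1 n139969 = n65757 := (sb E86237 (iv0 D140107))
theorem F323754 : act 0 n54467 = n65757 := (sb E86238 (iv1 D140108))
theorem F323755 : act 2 n60350 = n65757 := (sb E86239 (iv2 D140109))
theorem F323756 : act 4 n72098 = n65757 := (sb E86240 (iv4 D140110))
theorem F323757 : act 5 n48963 = n65757 := (sb E86241 (iv5 D140111))
theorem F323758 : act 1 n67414 = n65760 := (sb E86244 (iv0 D140118))
theorem F323759 : act 7 n138412 = n65760 := (sb E86245 (iv7 D140121))
theorem F323760 : act 7 n71139 = n65475 := (sb E86246 (iv7 F222700))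
theorem F323761 : act 2 n33972 = n65475 := (sb E86251 F222701)
theorem F323762 : act 7 n139532 = n150897 := (sb E86252 F238077)
theorem F323763 : act 0 n139534 = n118331 := (sb E86253 F238080)
theorem F323764 : act 1 n139534 = n150759 := (sb E86253 F238081)
theorem F323765 : act 2 n139534 = n74024 := (sb E86253 F238078)
theorem F323767 : act 0 n139535 = n143883 := (sb E86254 (iv1 F320338))
theorem F323768 : act 2 n139535 = n74025 := (sb E86254 F238082)
theorem F323769 : act 4 n139535 = n71351 := (sb E86254 F238083)
theorem F323770 : act 1 n74061 = n65476 := (sb E86255 (iv0 D139536))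
theorem F323771 : act 1 n139537 = n150892 := (sb E86256 (iv0 F237607))
theorem F323773 : act 5 n139537 = n71091 := (sb E86256 (iv5 D150784))
theorem F323775 : act 2 n77807 = n66141 := (sb E86257 (iv2 F180826))
theorem F323776 : act 7 n77807 = n58444 := (sb E86257 (iv7 F320502))
theorem E88097 : n150584 = n83882 := ((((iv7 F274693)).symm.trans (sb E86258 F320767))).symm
theorem F323777 : act 2 n70979 = n35523 := (sb E86260 F116360)
theorem F323778 : act 7 n70979 = n35504 := (sb E86260 F116361)
theorem E88101 : n161840 = n145633 := (((D145633).symm.trans (sb E86261 (iv2 F255809)))).symm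
theorem E88103 : n145634 = n35475 := ((D145634).symm.trans (sb E86261 (iv5 D77727)))
theorem F323779 : act 6 n68266 = n141807 := (sb E86261 (iv6 F309891))
theorem F323780 : act 5 n17200 = n31765 := (sb E86262 (iv5 D68267))
theorem E88105 : n116236 = n59426 := ((D116236).symm.trans (sb E86263 (iv1 F93804)))
theorem E88106 : n116237 = n30379 := ((D116237).symm.trans (sb E86263 F84882))
theorem E88107 : n116238 = n59576 := ((D116238).symm.trans (sb E86263 F94001))
theorem E88108 : n116127 = n30294 := (((iv4 F180920)).symm.trans (sb E86263 F84881))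
theorem F323781 : act 5 n53576 = n26029 := (sb E86263 (iv5 D53844))
theorem F323782 : act 7 n53576 = n31412 := (sb E86263 F84880)
theorem F323783 : act 0 n134704 = n65670 := (sb E86266 (iv1 D139889))
theorem E88111 : n129292 = n116845 := (((iv3 F207490)).symm.trans (sb E86267 F223111))
theorem F323784 : act 5 n60769 = n65670 := (sb E86267 (iv5 D139890))
theorem E88112 : n79689 = n62274 := (((D62274).symm.trans (sb E86270 (iv6 D165961)))).symm
theorem E88113 : n79692 = n62255 := (((D62255).symm.trans (sb E86271 (iv6 D165971)))).symm
theorem E88114 : n79690 = n62278 := (((D62278).symm.trans (sb E86272 D79690))).symm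
theorem E88115 : n79691 = n62279 := (((D62279).symm.trans (sb E86272 D79691))).symm
theorem F323785 : act 5 n29468 = n17520 := (sb E86272 (iv5 D36286))
theorem F323786 : act 6 n67736 = n74783 := (sb E86291 (iv6 D157287))
theorem F323787 : act 4 n67743 = n83562 := (sb E86292 (iv4 D174956))
theorem E88118 : n142353 = n85505 := ((D142353).symm.trans (sb E86293 (iv1 F279102)))
theorem E88119 : n142354 = n85504 := ((D142354).symm.trans (sb E86293 F279103))
theorem F323788 : act 2 n66756 = n85506 := (sb E86293 F279101)
theorem F323789 : act 7 n66756 = n85498 := (sb E86293 (iv7 D179151))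
theorem E88120 : n66770 = n53817 := ((F320418).symm.trans (sb E86294 (iv1 D116804)))
theorem F323790 : act 2 n31310 = n66769 := (sb E86296 (iv2 D142382))
theorem F323791 : act 3 n116393 = n66769 := (sb E86297 (iv3 D142383))
theorem F323792 : act 2 n142384 = n67352 := (sb E86298 F226440)
theorem F323793 : act 2 n142386 = n67354 := (sb E86299 F226442)
theorem F323794 : act 7 n116475 = n66769 := (sb E86300 (iv7 D142387))
theorem F323795 : act 1 n123531 = n66771 := (sb E86301 (iv0 D142392))
theorem F323796 : act 0 n116814 = n66771 := (sb E86302 (iv1 D142393))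
theorem F323797 : act 0 n142355 = n106037 := (sb E86303 (iv1 F306942))
theorem F323798 : act 1 n142355 = n105434 := (sb E86303 (iv0 F307951))
theorem F323799 : act 2 n142355 = n70455 := (sb E86303 (iv2 D149878))
theorem F323800 : act 7 n142355 = n151725 := (sb E86303 (iv7 F309754))
theorem F323801 : act 4 n85316 = n62592 := (sb E86304 (iv4 D133361))
theorem E88123 : n143020 = n108241 := ((((iv4 F245503)).symm.trans (sb E86305 (iv4 F225884)))).symm
theorem F323802 : act 6 n65282 = n31212 := (sb E86305 (iv6 D67030))
theorem E88128 : n141874 = n138746 := (((D138746).symm.trans (sb E86306 (iv3 F224918)))).symm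
theorem F323803 : act 6 n65152 = n31049 := (sb E86306 (iv6 D66518))
theorem E88134 : n162382 = n31364 := (((F168053).symm.trans (sb E86307 (iv3 F256506)))).symm
theorem F323804 : act 0 n142765 = n66938 := (sb E86308 (iv1 D142805))
theorem F323805 : act 0 n127935 = n68225 := (sb E86310 (iv1 D145500))
theorem E88137 : n116474 = n31310 := ((D116474).symm.trans (sb E86311 (iv1 D67350)))
theorem E88148 : n67401 = n65108 := ((((iv3 F317704)).symm.trans (sb E86313 (iv3 D143886)))).symm
theorem F323806 : act 6 n60160 = n66035 := (sb E86314 (iv6 D140726))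
theorem E88149 : n110492 = n34657 := (((F117070).symm.trans (sb E86329 (iv2 F170899)))).symm
theorem E88151 : n110494 = n34642 := ((((iv7 F297345)).symm.trans (sb E86329 (iv7 F170908)))).symm
theorem F323808 : act 3 n111594 = n77966 := (sb E86333 F256432)
theorem E88153 : n77964 = n51467 := ((((iv6 D111594)).symm.trans (sb E86333 (iv6 D162292)))).symm
theorem E88155 : n77971 = n11880 := ((((iv0 D25012)).symm.trans (sb E86334 D77971))).symm
theorem E88156 : n162659 = n110323 := ((((iv4 F170554)).symm.trans (sb E86335 (iv4 F256902)))).symm
theorem E88157 : n110330 = n58235 := (((iv3 F170562)).symm.trans (sb E86336 F297967))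
theorem E88158 : n110331 = n75784 := ((D110331).symm.trans (sb E86336 (iv5 F299468)))
theorem E88159 : n138731 = n84231 := ((D138731).symm.trans (sb E86339 F256457))
theorem F323809 : act 4 n38846 = n30585 := (sb E86340 (iv4 D65143))
theorem E88161 : n110510 = n75352 := (((F112985).symm.trans (sb E86340 (iv5 F171019)))).symm
theorem E88162 : n77980 = n28161 := ((D77980).symm.trans (sb E86342 F80237))
theorem E88163 : n77982 = n49780 := ((D77982).symm.trans (sb E86343 (iv4 D107765)))
theorem F323810 : act 4 n8085 = n11943 := (sb E86346 (iv4 D25154))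
theorem E88167 : n77408 = n24682 := ((((iv3 F38675)).symm.trans (sb E86347 D77408))).symm
theorem F323811 : act 2 n126815 = n75114 := (sb E86351 F239812)
theorem F323812 : act 5 n126815 = n71993 := (sb E86351 (iv5 D152615))
theorem F323813 : act 7 n126815 = n164529 := (sb E86351 (iv7 F259337))
theorem E88168 : n152346 = n115374 := (((D115374).symm.trans (sb E86352 (iv3 F239539)))).symm
theorem F323814 : act 3 n65822 = n33300 := (sb E86355 F108576)
theorem E88182 : n152864 = n140268 := (((D140268).symm.trans (sb E86355 D152864))).symm
theorem F323815 : act 6 n106987 = n49550 := (sb E86372 (iv6 D107246))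
theorem F323816 : act 1 n145536 = n69284 := (sb E86373 (iv0 F240649))
theorem F323817 : act 2 n145536 = n74579 := (sb E86373 F314720)
theorem F323818 : act 3 n145536 = n68831 := (sb E86373 F230155)
theorem F323819 : act 5 n145536 = n72730 := (sb E86373 F230156)
theorem F323820 : act 6 n145536 = n69246 := (sb E86373 F230157)
theorem F323821 : act 7 n145536 = n68823 := (sb E86373 (iv7 D146795))
theorem F323822 : act 6 n68258 = n66036 := (sb E86374 (iv6 D140728))
theorem F323823 : act 3 n111543 = n86083 := (sb E86376 (iv3 D180167))
theorem E88224 : n123330 = n51445 := (((D51445).symm.trans (sb E86377 F303050))).symm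
theorem E88227 : n77343 = n51758 := (((iv6 F298029)).symm.trans (sb E86378 (iv6 D112216)))
theorem F323824 : act 5 n25132 = n17150 := (sb E86380 F56049)
theorem F323825 : act 6 n25132 = n27058 := (sb E86380 F300469)
theorem E88233 : n166872 = n24655 := ((((iv3 F38657)).symm.trans (sb E86382 (iv3 F262678)))).symm
theorem F323826 : act 1 n141355 = n66682 := (sb E86385 (iv0 D142251))
theorem F323827 : act 6 n66912 = n72603 := (sb E86386 (iv6 D153552))
theorem F323828 : act 4 n66226 = n85506 := (sb E86388 F279120)
theorem E88238 : n141182 = n85503 := ((D141182).symm.trans (sb E86388 (iv7 D179167)))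
theorem F323829 : act 3 n64409 = n118904 := (sb E86406 F240461)
theorem F323830 : act 0 n116873 = n157438 := (sb E86407 (iv1 F247990))
theorem F323831 : act 1 n116873 = n61751 := (sb E86407 (iv0 D131607))
theorem F323832 : act 4 n116873 = n153231 := (sb E86407 F247991)
theorem F323833 : act 6 n116873 = n81787 := (sb E86407 F315241)
theorem F323834 : act 7 n116873 = n157468 := (sb E86407 (iv7 F248109))
theorem E88240 : n137934 = n137617 := ((F221183).symm.trans (sb E86409 (iv0 F322384)))
theorem E88242 : n137969 = n31246 := ((D137969).symm.trans (sb E86409 (iv4 D67144)))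
theorem E88244 : n139124 = n137971 := (((D137971).symm.trans (sb E86409 F226121))).symm
theorem E88245 : n137962 = n137619 := ((F221227).symm.trans (sb E86409 (iv7 F322299)))
theorem F323835 : act 2 n116378 = n64837 := (sb E86410 F221228)
theorem E88248 : n174367 = n50441 := (((F79813).symm.trans (sb E86411 D174367))).symm
theorem E88249 : n50552 = n38482 := (((iv4 F79922)).symm.trans (sb E86411 F128462))
theorem F323836 : act 0 n18316 = n24780 := (sb E86412 (iv1 F38795))
theorem F323837 : act 1 n18316 = n24829 := (sb E86412 F38854)
theorem F323838 : act 2 n18316 = n25105 := (sb E86412 (iv2 F39452))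
theorem F323839 : act 4 n18316 = n11669 := (sb E86412 F38634)
theorem E88252 : n25074 = n16728 := (((F29516).symm.trans (sb E86412 (iv6 F39366)))).symm
theorem F323840 : act 7 n18316 = n11666 := (sb E86412 (iv7 D24637))
theorem E88253 : n50713 = n36256 := ((F111848).symm.trans (sb E86415 (iv1 D79615)))
theorem E88254 : n50643 = n38395 := ((F111849).symm.trans (sb E86415 (iv0 F297969)))
theorem F323841 : act 2 n74503 = n38846 := (sb E86415 F122308)
theorem E88255 : n156676 = n38452 := ((D156676).symm.trans (sb E86415 (iv3 F298205)))
theorem F323842 : act 6 n74503 = n38846 := (sb E86415 (iv6 F297968))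
theorem E88256 : n172078 = n112526 := ((((iv4 F174983)).symm.trans (sb E86417 (iv4 F270211)))).symm
theorem E88257 : n112531 = n37803 := (((iv3 F174992)).symm.trans (sb E86418 F123965))
theorem F323843 : act 7 n51916 = n38846 := (sb E86418 F123964)
theorem E88263 : n162073 = n50311 := (((D50311).symm.trans (sb E86421 (iv4 F256146)))).symm
theorem E88266 : n77596 = n49985 := ((D77596).symm.trans (sb E86422 (iv4 D108230)))
theorem E88268 : n77593 = n28083 := ((D77593).symm.trans (sb E86423 F80228))
theorem F323844 : act 6 n35418 = n24735 := (sb E86423 (iv6 D50862))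
theorem E88269 : n50661 = n35532 := ((((iv6 D77865)).symm.trans (sb E86424 (iv6 D109850)))).symm
theorem F323845 : act 0 n17214 = n11693 := (sb E86425 F48931)
theorem E88270 : n25166 = n8072 := ((((iv0 D17214)).symm.trans (sb E86425 F48932))).symm
theorem F323846 : act 2 n17214 = n25132 := (sb E86425 (iv2 F39546))
theorem F323847 : act 4 n17214 = n11679 := (sb E86425 (iv4 D24670))
theorem E88271 : n25128 = n17638 := (((F299354).symm.trans (sb E86425 F39537))).symm
theorem F323848 : act 3 n66839 = n48904 := (sb E86436 (iv3 D105765))
theorem E88288 : n148787 = n142596 := (((D142596).symm.trans (sb E86436 (iv4 F233603)))).symm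
theorem E88289 : n144875 = n142459 := ((((iv7 F320288)).symm.trans (sb E86436 (iv7 F227828)))).symm
theorem E88290 : n108002 = n61704 := (((D61704).symm.trans (sb E86437 (iv1 F237448)))).symm
theorem F323849 : act 2 n108404 = n61705 := (sb E86439 F210747)
theorem F323850 : act 3 n29275 = n61705 := (sb E86440 (iv3 D131482))
theorem F323851 : act 7 n131483 = n133840 := (sb E86441 (iv7 F215494))
theorem F323852 : act 2 n131484 = n144984 := (sb E86442 (iv2 F278609))
theorem F323853 : act 3 n131484 = n61763 := (sb E86442 F210860)
theorem E88291 : n117113 = n105853 := ((F210748).symm.trans (sb E86442 (iv6 F210861)))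
theorem F323854 : act 7 n131484 = n133841 := (sb E86442 (iv7 F215496))
theorem F323855 : act 7 n62851 = n61705 := (sb E86443 (iv7 F210745))
theorem F323856 : act 4 n158427 = n166148 := (sb E86445 (iv4 F304978))
theorem F323857 : act 3 n39840 = n75575 := (sb E86458 (iv3 D158431))
theorem F323858 : act 3 n98255 = n86065 := (sb E86459 F280496)
theorem F323859 : act 3 n158425 = n86066 := (sb E86460 F280497)
theorem F323860 : act 4 n108805 = n64036 := (sb E86473 (iv4 D136191))
theorem F323861 : act 4 n30189 = n63094 := (sb E86474 F216319)
theorem E88293 : n64040 = n63093 := ((D64040).symm.trans (sb E86474 (iv6 D134299)))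
theorem E88294 : n135024 = n59614 := ((((iv7 F94026)).symm.trans (sb E86474 (iv7 F217248)))).symm
theorem E88295 : n129938 = n64901 := ((((iv1 F204297)).symm.trans (sb E86479 (iv1 F213086)))).symm
theorem E88296 : n129937 = n64898 := (((D64898).symm.trans (sb E86481 (iv1 F213091)))).symm
theorem E88297 : n129936 = n64899 := (((D64899).symm.trans (sb E86481 F213089))).symm
theorem E88298 : n129933 = n64897 := ((((iv3 F100703)).symm.trans (sb E86481 F213087))).symm
theorem E88299 : n129939 = n64048 := (((D64048).symm.trans (sb E86482 F213093))).symm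
theorem F323862 : act 6 n61026 = n59618 := (sb E86483 (iv6 D127055))
theorem F323863 : act 7 n61026 = n59619 := (sb E86483 F204294)
theorem F323864 : act 4 n48852 = n59604 := (sb E86484 (iv4 D127005))
theorem F323865 : act 1 n64689 = n30481 := (sb E86485 (iv0 D64836))
theorem E88304 : n137945 = n83156 := ((D137945).symm.trans (sb E86486 F128992))
theorem E88305 : n166204 = n137946 := (((D137946).symm.trans (sb E86486 (iv0 F303533)))).symm
theorem E88306 : n158600 = n137941 := ((((iv2 F221200)).symm.trans (sb E86486 (iv2 F249784)))).symm
theorem F323866 : act 4 n64831 = n38702 := (sb E86486 (iv4 D84031))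
theorem E88308 : n176177 = n137947 := (((D137947).symm.trans (sb E86486 D176177))).symm
theorem E88309 : n166230 = n137948 := (((D137948).symm.trans (sb E86486 (iv7 F302347)))).symm
theorem E88311 : n162046 = n74031 := (((D74031).symm.trans (sb E86488 (iv3 F256108)))).symm
theorem F323867 : act 6 n33976 = n35523 := (sb E86488 (iv6 D77848))
theorem F323868 : act 0 n82596 = n86093 := (sb E86492 (iv1 F201614))
theorem E88317 : n172525 = n58697 := ((D172525).symm.trans (sb E86492 (iv0 D125341)))
theorem F323869 : act 0 n17167 = n25132 := (sb E86496 (iv1 F47803))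
theorem F323870 : act 4 n17167 = n13427 := (sb E86496 F38685)
theorem F323871 : act 7 n17167 = n11693 := (sb E86496 (iv7 D24706))
theorem F323872 : act 3 n36245 = n28047 := (sb E86499 F81896)
theorem F323873 : act 6 n36245 = n25170 := (sb E86499 (iv6 D51858))
theorem E88323 : n162141 = n28032 := ((((iv1 F93183)).symm.trans (sb E86500 D162141))).symm
theorem E88325 : n35543 = n28033 := (((F93180).symm.trans (sb E86500 (iv2 D77898)))).symm
theorem E88326 : n125955 = n35741 := (((iv4 F202462)).symm.trans (sb E86500 F119119))
theorem E88328 : n59251 = n35587 := (((iv6 F93472)).symm.trans (sb E86500 F119120))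
theorem F323874 : act 4 n59014 = n120741 := (sb E86501 (iv4 F192515))
theorem E88334 : n161448 = n27994 := (((F100164).symm.trans (sb E86502 D161448))).symm
theorem E88335 : n38985 = n24661 := ((((iv4 F46777)).symm.trans (sb E86502 (iv4 F116391)))).symm
theorem E88336 : n83340 = n28042 := (((D28042).symm.trans (sb E86502 (iv6 F128444)))).symm
theorem F323875 : act 6 n13378 = n8086 := (sb E86504 F28163)
theorem F323876 : act 2 n13384 = n8086 := (sb E86506 F28133)
theorem F323877 : act 4 n13384 = n8054 := (sb E86506 (iv4 D17173))
theorem E88346 : n161489 = n108977 := ((((iv4 F202597)).symm.trans (sb E86508 D161489))).symm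
theorem F323878 : act 1 n59011 = n120739 := (sb E86511 F261011)
theorem E88354 : n125996 = n86258 := (((iv3 F202676)).symm.trans (sb E86511 F261007))
theorem F323879 : act 7 n59011 = n120741 := (sb E86511 F261010)
theorem F323880 : act 1 n59019 = n120741 := (sb E86512 F261012)
theorem F323881 : act 0 n59018 = n120741 := (sb E86513 (iv1 F261006))
theorem E88355 : n129344 = n126013 := ((D129344).symm.trans (sb E86514 F202709))
theorem E88356 : n129347 = n51953 := ((D129347).symm.trans (sb E86514 (iv5 D112598)))
theorem E88357 : n129349 = n126012 := ((D129349).symm.trans (sb E86514 F202706))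
theorem E88358 : n129352 = n51954 := ((D129352).symm.trans (sb E86515 (iv5 D112600)))
theorem E88359 : n135284 = n63217 := ((((iv2 F98968)).symm.trans (sb E86519 (iv2 F217518)))).symm
theorem E88360 : n129697 = n62208 := ((D129697).symm.trans (sb E86519 (iv6 D132586)))
theorem E88361 : n129698 = n62209 := ((D129698).symm.trans (sb E86520 (iv6 D132589)))
theorem F323882 : act 6 n29442 = n28892 := (sb E86521 (iv6 D60928))
theorem E88365 : n129702 = n28920 := ((((iv7 F207702)).symm.trans (sb E86521 D129702))).symm
theorem E88366 : n129881 = n62272 := (((D62272).symm.trans (sb E86522 F212830))).symm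
theorem E88367 : n132862 = n61095 := (((F98965).symm.trans (sb E86523 F216561))).symm
theorem E88368 : n135341 = n63238 := ((D135341).symm.trans (sb E86523 (iv6 D134583)))
theorem E88369 : n132784 = n61059 := ((D132784).symm.trans (sb E86524 (iv6 D130015)))
theorem F323883 : act 6 n132464 = n82523 := (sb E86525 (iv6 D172313))
theorem F323884 : act 6 n61001 = n62268 := (sb E86526 (iv6 D132685))
theorem E88370 : n129868 = n59400 := ((D129868).symm.trans (sb E86527 F203647))
theorem F323885 : act 6 n61002 = n59395 := (sb E86527 (iv6 D126606))
theorem E88371 : n129694 = n62206 := (((D62206).symm.trans (sb E86531 F213013))).symm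
theorem F323886 : act 0 n138142 = n80107 := (sb E86533 (iv1 D166866))
theorem F323887 : act 1 n138143 = n80107 := (sb E86534 (iv0 D166865))
theorem F323888 : act 0 n138145 = n120971 := (sb E86535 (iv1 F262668))
theorem F323889 : act 1 n138145 = n120970 := (sb E86535 F262666)
theorem F323890 : act 2 n138145 = n80107 := (sb E86535 (iv2 D166867))
theorem F323891 : act 3 n138145 = n120979 := (sb E86535 F262664)
theorem F323892 : act 6 n138145 = n84814 := (sb E86535 F303307)
theorem E88375 : n61019 = n51955 := (((D51955).symm.trans (iv5 (sb E86541 (tr F302169 E87438))))).symm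
theorem E88376 : n56173 = n28918 := ((((iv3 F46563)).symm.trans (sb E86542 (iv3 F88849)))).symm
theorem E88377 : n163836 = n110588 := ((D163836).symm.trans (sb E86543 (iv1 F175035)))
theorem E88378 : n163837 = n110587 := ((D163837).symm.trans (sb E86543 F175033))
theorem E88379 : n163792 = n51924 := (((iv2 F258152)).symm.trans (sb E86543 (iv2 D112542)))
theorem F323893 : act 7 n78710 = n110589 := (sb E86543 F175032)
theorem E88380 : n86859 = n24815 := (((D24815).symm.trans (sb E86545 (iv6 D181864)))).symm
theorem F323894 : act 6 n40287 = n24813 := (sb E86546 (iv6 D51018))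
theorem E88385 : n38823 = n25102 := ((((iv1 F39447)).symm.trans (sb E86547 (iv1 F296965)))).symm
theorem E88386 : n77185 = n11639 := ((((iv0 D24599)).symm.trans (sb E86547 (iv0 F128144)))).symm
theorem F323895 : act 3 n24599 = n39053 := (sb E86547 (iv3 F298619))
theorem E88387 : n50483 = n38267 := ((D50483).symm.trans (sb E86547 (iv6 D83129)))
theorem F323896 : act 0 n51609 = n27643 := (sb E86549 (iv1 D57929))
theorem F323897 : act 2 n51609 = n39179 := (sb E86549 F299670)
theorem E88388 : n124251 = n111906 := (((D111906).symm.trans (sb E86549 D124251))).symm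
theorem E88389 : n111907 = n39099 := ((D111907).symm.trans (sb E86549 F299672))
theorem E88390 : n111874 = n76895 := ((((iv4 F115511)).symm.trans (sb E86550 (iv4 F173756)))).symm
theorem E88391 : n124248 = n111875 := ((D124248).symm.trans (sb E86551 (iv1 F173763)))
theorem E88392 : n124249 = n50207 := ((D124249).symm.trans (sb E86551 (iv0 D108731)))
theorem E88393 : n124250 = n50383 := ((D124250).symm.trans (sb E86551 F170055))
theorem F323898 : act 1 n24597 = n39803 := (sb E86553 (iv0 F129685))
theorem E88395 : n124603 = n50476 := (((D50476).symm.trans (sb E86553 (iv4 F199293)))).symm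
theorem E88396 : n50477 = n27723 := ((D50477).symm.trans (sb E86553 (iv6 D58181)))
theorem F323899 : act 0 n50945 = n39803 := (sb E86554 (iv1 F297394))
theorem E88397 : n163436 = n110463 := ((((iv4 F170853)).symm.trans (sb E86554 (iv4 F257727)))).symm
theorem E88398 : n110487 = n38973 := ((D110487).symm.trans (sb E86554 (iv6 D84493)))
theorem F323900 : act 2 n28150 = n39803 := (sb E86555 (iv2 F126165))
theorem E88399 : n59296 = n37204 := ((D59296).symm.trans (sb E86555 (iv6 D81481)))
theorem F323901 : act 3 n28073 = n35162 := (sb E86557 F115671)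
theorem F323902 : act 5 n28073 = n39803 := (sb E86557 F115672)
theorem E88400 : n59103 = n35160 := ((D59103).symm.trans (sb E86557 (iv6 D76961)))
theorem E88401 : n50575 = n38963 := (((F126039).symm.trans (sb E86558 F171013))).symm
theorem E88402 : n110508 = n27899 := ((((iv7 F45049)).symm.trans (sb E86558 (iv7 F173403)))).symm
theorem E88403 : n77837 = n25060 := (((D25060).symm.trans (sb E86560 (iv3 F117651)))).symm
theorem F323903 : act 6 n11905 = n17212 := (sb E86560 (iv6 D35526))
theorem F323904 : act 3 n11969 = n17334 := (sb E86564 F297088)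
theorem F323905 : act 6 n17506 = n11948 := (sb E86565 (iv6 D25171))
theorem F323906 : act 0 n35754 = n50960 := (sb E86574 (iv1 D110518))
theorem E88422 : n109423 = n78461 := ((((iv4 F119654)).symm.trans (sb E86574 (iv4 F171034)))).symm
theorem F323907 : act 1 n95272 = n50952 := (sb E86575 (iv0 D110496))
theorem F323908 : act 5 n95272 = n59192 := (sb E86575 F170918)
theorem F323909 : act 1 n44511 = n51849 := (sb E86576 F170444)
theorem E88423 : n124240 = n50470 := (((F170927).symm.trans (sb E86577 (iv1 F253358)))).symm
theorem E88424 : n124241 = n50469 := ((((iv2 F170435)).symm.trans (sb E86577 F253355))).symm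
theorem E88425 : n163937 = n11950 := ((((iv5 D25179)).symm.trans (sb E86577 (iv5 F258384)))).symm
theorem E88426 : n77531 = n51887 := (((D51887).symm.trans (sb E86577 F297462))).symm
theorem F323910 : act 6 n110497 = n167904 := (sb E86578 (iv6 F264552))
theorem E88427 : n51876 = n36425 := ((D51876).symm.trans (sb E86579 (iv6 D79973)))
theorem F323911 : act 6 n80587 = n51875 := (sb E86580 (iv6 D112446))
theorem F323912 : act 0 n59062 = n79867 := (sb E86581 (iv1 D166328))
theorem E88428 : n126056 = n124173 := ((D126056).symm.trans (sb E86581 F261923))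
theorem F323913 : act 5 n126384 = n79867 := (sb E86582 (iv5 D166329))
theorem E88430 : n158807 = n111832 := ((F250015).symm.trans (sb E86583 (iv2 F173641)))
theorem F323914 : act 3 n88652 = n127546 := (sb E86583 (iv3 F205012))
theorem F323915 : act 6 n88652 = n50541 := (sb E86583 (iv6 D109552))
theorem F323916 : act 3 n50788 = n78109 := (sb E86584 F297263)
theorem E88432 : n166853 = n24717 := ((((iv5 D50788)).symm.trans (sb E86584 (iv5 F262612)))).symm
theorem E88433 : n110128 = n78097 := ((D110128).symm.trans (sb E86584 (iv6 F299327)))
theorem E88434 : n84276 = n51610 := ((((iv1 F173837)).symm.trans (sb E86585 F297264))).symm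
theorem F323917 : act 4 n111895 = n78109 := (sb E86585 F256874)
theorem F323918 : act 6 n111895 = n78108 := (sb E86585 (iv6 D162637))
theorem F323919 : act 5 n50786 = n78109 := (sb E86586 F297215)
theorem E88435 : n110121 = n41393 := ((D110121).symm.trans (sb E86586 (iv6 D88658)))
theorem E88436 : n102816 = n64523 := (((iv3 F158081)).symm.trans (sb E86587 F173844))
theorem F323920 : act 0 n43167 = n51844 := (sb E86588 F170200)
theorem F323921 : act 4 n51566 = n89645 := (sb E86589 (iv4 F250019))
theorem F323922 : act 2 n77189 = n50960 := (sb E86590 F171052)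
theorem E88440 : n160852 = n50449 := ((D160852).symm.trans (sb E86590 (iv4 D109325)))
theorem E88443 : n50544 = n38484 := ((D50544).symm.trans (sb E86591 (iv6 D83480)))
theorem E88444 : n158872 = n111790 := ((((iv3 F173508)).symm.trans (sb E86592 (iv3 F250135)))).symm
theorem E88446 : n111836 = n34665 := ((D111836).symm.trans (sb E86592 (iv6 D75806)))
theorem F323923 : act 1 n77191 = n50960 := (sb E86593 F173834)
theorem E88447 : n160851 = n109422 := (((iv4 F254013)).symm.trans (sb E86593 (iv4 F169407)))
theorem F323924 : act 5 n77191 = n50846 := (sb E86593 F170047)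
theorem E88448 : n78470 = n50451 := (((F81562).symm.trans (sb E86594 (iv0 F193056)))).symm
theorem E88449 : n112005 = n55851 := ((D112005).symm.trans (sb E86594 (iv6 D121056)))
theorem F323925 : act 6 n26942 = n50960 := (sb E86595 (iv6 D110520))
theorem F323926 : act 2 n96340 = n51849 := (sb E86600 F170282)
theorem F323927 : act 4 n96340 = n125766 := (sb E86600 (iv4 F202280))
theorem F323928 : act 5 n96340 = n50791 := (sb E86600 (iv5 D110134))
theorem E88450 : n126049 = n36423 := ((D126049).symm.trans (sb E86601 (iv1 D79964)))
theorem E88451 : n126050 = n38994 := ((D126050).symm.trans (sb E86601 F296392))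
theorem F323929 : act 2 n59058 = n38998 := (sb E86601 (iv2 F297491))
theorem E88452 : n166616 = n126043 := ((((iv3 F202747)).symm.trans (sb E86601 D166616))).symm
theorem E88453 : n166617 = n126051 := (((D126051).symm.trans (sb E86601 D166617))).symm
theorem E88454 : n126052 = n38905 := ((D126052).symm.trans (sb E86601 F296394))
theorem E88455 : n59310 = n36419 := ((D59310).symm.trans (sb E86602 (iv6 D79954)))
theorem E88456 : n78390 = n59291 := (((D59291).symm.trans (sb E86603 (iv6 D163017)))).symm
theorem F323930 : act 4 n113447 = n78537 := (sb E86604 (iv4 D163419))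
theorem F323931 : act 4 n126379 = n78754 := (sb E86606 F258353)
theorem E88473 : n166566 = n126125 := (((D126125).symm.trans (sb E86613 (iv3 F262100)))).symm
theorem F323932 : act 4 n59104 = n36415 := (sb E86613 F122702)
theorem E88475 : n126127 = n36414 := ((D126127).symm.trans (sb E86613 (iv6 D79944)))
theorem E88476 : n170864 = n24719 := (((D24719).symm.trans (sb E86614 (iv4 F268472)))).symm
theorem E88477 : n77777 = n24721 := (((D24721).symm.trans (sb E86614 F254741))).symm
theorem E88478 : n110140 = n78274 := ((D110140).symm.trans (sb E86615 (iv6 D162842)))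
theorem F323933 : act 6 n35685 = n24718 := (sb E86616 (iv6 D50795))
theorem F323934 : act 1 n51872 = n44511 := (sb E86617 (iv0 D95283))
theorem F323935 : act 5 n51872 = n78537 := (sb E86617 F296323)
theorem F323936 : act 7 n51872 = n96340 := (sb E86617 (iv7 F288778))
theorem F323937 : act 0 n51873 = n96340 := (sb E86618 (iv1 F148273))
theorem F323938 : act 3 n51873 = n80003 := (sb E86618 F146934)
theorem F323939 : act 5 n51873 = n86710 := (sb E86618 (iv5 F296833))
theorem E88483 : n112441 = n79940 := ((D112441).symm.trans (sb E86618 F296331))
theorem F323940 : act 7 n51873 = n44511 := (sb E86618 (iv7 D95285))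
theorem F323941 : act 0 n44985 = n50741 := (sb E86619 F170287)
theorem E88484 : n78759 = n24730 := (((iv3 F119918)).symm.trans (sb E86619 (iv3 D50841)))
theorem F323942 : act 7 n44985 = n25177 := (sb E86619 F170422)
theorem F323943 : act 6 n12884 = n25169 := (sb E86621 (iv6 D51854))
theorem F323944 : act 0 n76193 = n50737 := (sb E86622 (iv1 D109999))
theorem F323945 : act 1 n76193 = n50742 := (sb E86622 F170136)
theorem E88487 : n159254 = n111681 := (((iv3 F250742)).symm.trans (sb E86622 (iv3 F173265)))
theorem F323946 : act 5 n110010 = n124965 := (sb E86623 (iv5 F313880))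
theorem F323947 : act 6 n110010 = n112341 := (sb E86623 (iv6 F319450))
theorem F323948 : act 5 n58414 = n50742 := (sb E86624 (iv5 D110011))
theorem F323949 : act 6 n51827 = n50742 := (sb E86625 (iv6 D110012))
theorem E88488 : n110315 = n51852 := ((F323458).symm.trans (sb E86629 (iv0 D112399)))
theorem E88489 : n75797 = n51704 := (((D51704).symm.trans (sb E86631 (iv6 D158850)))).symm
theorem E88490 : n166700 = n109862 := ((((iv3 F169852)).symm.trans (sb E86632 (iv3 F262382)))).symm
theorem E88492 : n109884 = n36442 := ((D109884).symm.trans (sb E86632 (iv6 D80009)))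
theorem E88493 : n109880 = n84286 := ((D109880).symm.trans (sb E86633 F299352))
theorem E88494 : n84286 = n51770 := (((F105375).symm.trans (sb E86657 F288789))).symm
theorem F323950 : act 1 n68910 = n75947 := (sb E86636 (iv0 D159027))
theorem F323951 : act 0 n69054 = n75947 := (sb E86637 (iv1 D159028))
theorem F323952 : act 2 n144816 = n75947 := (sb E86638 (iv2 D159029))
theorem F323953 : act 3 n144816 = n178960 := (sb E86638 (iv3 F278846))
theorem F323954 : act 5 n144816 = n85316 := (sb E86638 F250363)
theorem E88496 : n77341 = n50849 := (((D50849).symm.trans (sb E86641 (iv6 F298032)))).symm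
theorem E88497 : n166685 = n50704 := ((((iv1 F170046)).symm.trans (sb E86642 (iv1 F262341)))).symm
theorem E88498 : n166684 = n50699 := (E86691).trans E86697
theorem F323955 : act 6 n109928 = n78167 := (sb E86642 F254038)
theorem F323956 : act 6 n35637 = n50846 := (sb E86643 (iv6 D110264))
theorem E88499 : n166682 = n74182 := (((iv3 F262337)).symm.trans (sb E86644 F170367))
theorem F323957 : act 1 n92311 = n50786 := (sb E86646 F170203)
theorem F323958 : act 2 n92311 = n50736 := (sb E86646 F169703)
theorem E88500 : n158075 = n50602 := ((F250023).symm.trans (sb E86646 (iv4 D109711)))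
theorem F323959 : act 5 n92311 = n51894 := (sb E86646 F169705)
theorem E88501 : n112485 = n50813 := (E86647).trans E86653
theorem E88502 : n109880 = n51770 := (E88493).trans E88494
theorem E88503 : n110201 = n51894 := ((D110201).symm.trans (sb E88501 (iv6 D112485)))
theorem F323960 : act 2 n24723 = n43167 := (sb E86648 (iv2 F67592))
theorem E88504 : n80088 = n11697 := ((((iv3 D24723)).symm.trans (sb E86648 (iv3 F122907)))).symm
theorem F323961 : act 5 n24723 = n41870 := (sb E86648 (iv5 F64538))
theorem E88505 : n50818 = n19500 := ((D50818).symm.trans (sb E86648 (iv6 D41399)))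
theorem F323962 : act 0 n77179 = n50736 := (sb E86649 (iv1 D109997))
theorem F323963 : act 2 n77179 = n50786 := (sb E86649 (iv2 F170117))
theorem F323964 : act 3 n77179 = n50792 := (sb E86649 (iv3 F170119))
theorem E88508 : n176658 = n112242 := (((D112242).symm.trans (sb E86650 (iv6 F288819)))).symm
theorem F323965 : act 0 n109998 = n78134 := (sb E86651 (iv1 D162656))
theorem F323966 : act 1 n109998 = n79823 := (sb E86651 F256897)
theorem F323967 : act 0 n50813 = n77179 := (sb E86653 F297209)
theorem F323968 : act 5 n50813 = n80002 := (sb E86653 (iv5 F299319))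
theorem F323969 : act 7 n50813 = n92311 := (sb E86653 F288780)
theorem E88509 : n127453 = n109714 := (((D109714).symm.trans (sb E86654 (iv3 F204880)))).symm
theorem E88510 : n109715 = n51701 := ((D109715).symm.trans (sb E86654 (iv6 D112110)))
theorem F323970 : act 5 n84619 = n50737 := (sb E86655 (iv5 D110001))
theorem F323971 : act 0 n35802 = n50739 := (sb E86656 (iv1 D110004))
theorem F323972 : act 6 n35850 = n51844 := (sb E86658 (iv6 D112385))
theorem F323973 : act 5 n51824 = n50739 := (sb E86659 (iv5 D110005))
theorem F323974 : act 3 n28072 = n35139 := (sb E86660 F67263)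
theorem E88511 : n59099 = n20277 := ((D59099).symm.trans (sb E86660 (iv6 D42930)))
theorem E88514 : n160419 = n51506 := (((D51506).symm.trans (sb E86661 (iv3 F253407)))).symm
theorem F323975 : act 4 n25027 = n35139 := (sb E86661 F115530)
theorem E88516 : n51509 = n35138 := ((D51509).symm.trans (sb E86661 (iv6 D76901)))
theorem E88517 : n76189 = n51504 := (((D51504).symm.trans (sb E86663 F302043))).symm
theorem F323976 : act 6 n34801 = n51502 := (sb E86664 (iv6 D111687))
theorem F323977 : act 2 n51878 = n86244 := (sb E86665 (iv2 F254982))
theorem F323978 : act 0 n112280 = n58683 := (sb E86666 F302527)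
theorem F323979 : act 1 n112280 = n57911 := (sb E86666 (iv0 D124212))
theorem F323980 : act 2 n112280 = n86078 := (sb E86666 (iv2 F254985))
theorem F323981 : act 5 n112280 = n86213 := (sb E86666 F302528)
theorem F323982 : act 7 n112280 = n86213 := (sb E86666 F302529)
theorem F323983 : act 1 n50842 = n86244 := (sb E86667 (iv0 F254950))
theorem E88518 : n160436 = n110256 := (((D110256).symm.trans (sb E86667 (iv3 F253429)))).symm
theorem E88520 : n110258 = n35140 := ((D110258).symm.trans (sb E86667 (iv6 D76906)))
theorem F323984 : act 0 n50847 = n86244 := (sb E86668 (iv1 F254951))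
theorem E88521 : n110267 = n81992 := ((D110267).symm.trans (sb E86668 (iv6 F300473)))
theorem F323985 : act 3 n51456 = n86244 := (sb E86669 (iv3 D180573))
theorem F323986 : act 4 n51456 = n86246 := (sb E86669 F281060)
theorem E88522 : n122324 = n24724 := (((F80177).symm.trans (sb E86670 (iv0 F261058)))).symm
theorem F323987 : act 4 n50798 = n39897 := (sb E86670 (iv4 D86206))
theorem E88525 : n110154 = n51879 := ((((iv4 F323090)).symm.trans (sb E86671 F202733))).symm
theorem E88526 : n28156 = n20248 := ((D28156).symm.trans (sb E86672 (iv6 D42861)))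
theorem F323988 : act 6 n35318 = n28153 := (sb E86673 (iv6 D59308))
theorem F323989 : act 0 n112410 = n126952 := (sb E86674 F214328)
theorem F323990 : act 1 n112410 = n64539 := (sb E86674 F207649)
theorem E88531 : n126949 = n108987 := ((((iv2 F174891)).symm.trans (sb E86674 F207647))).symm
theorem F323991 : act 5 n112410 = n60851 := (sb E86674 (iv5 D129497))
theorem F323992 : act 6 n112410 = n78722 := (sb E86674 F316325)
theorem E88532 : n126950 = n108992 := (((F174890).symm.trans (sb E86674 F207648))).symm
theorem F323993 : act 6 n35846 = n51855 := (sb E86675 (iv6 D112412))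
theorem E88533 : n51731 = n38272 := ((D51731).symm.trans (sb E86676 (iv6 D83143)))
theorem E88534 : n174267 = n109692 := ((((iv3 F169678)).symm.trans (sb E86677 (iv3 F273062)))).symm
theorem E88536 : n109717 = n38369 := ((D109717).symm.trans (sb E86677 (iv6 D83300)))
theorem E88537 : n50570 = n38175 := ((D50570).symm.trans (sb E86678 F113690))
theorem F323994 : act 6 n18308 = n24658 := (sb E86679 (iv6 D50634))
theorem E88544 : n84288 = n51773 := (((D51773).symm.trans (sb E86681 D84288))).symm
theorem E88545 : n51774 = n18470 := ((D51774).symm.trans (sb E86681 (iv6 D38870)))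
theorem E88546 : n25070 = n8684 := ((D25070).symm.trans (sb E86682 (iv6 D18468)))
theorem F323995 : act 3 n8686 = n11942 := (sb E86683 F39568)
theorem F323996 : act 6 n8686 = n11941 := (sb E86683 (iv6 D25148))
theorem E88550 : n51800 = n16713 := ((((iv7 F27405)).symm.trans (sb E86683 D51800))).symm
theorem F323997 : act 3 n24684 = n39898 := (sb E86685 (iv3 D86210))
theorem E88552 : n164122 = n50706 := (((D50706).symm.trans (sb E86685 (iv6 F298665)))).symm
theorem E88555 : n109789 = n25146 := ((((iv5 F81782)).symm.trans (sb E86686 D109789))).symm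
theorem F323998 : act 6 n110119 = n84306 := (sb E86687 F250168)
theorem F323999 : act 0 n38879 = n51790 := (sb E86688 F170373)
theorem E88557 : n84311 = n64077 := (((iv3 F129383)).symm.trans (sb E86688 F170372))
theorem F324000 : act 4 n112273 = n86237 := (sb E86689 F276193)
theorem F324001 : act 1 n50699 = n80000 := (sb E88498 (iv0 D166684))
theorem E88558 : n50707 = n34466 := ((D50707).symm.trans (sb E86692 (iv6 D75279)))
theorem E88559 : n34662 = n25121 := (((D25121).symm.trans (sb E86693 (iv6 D75798)))).symm
theorem E88560 : n176662 = n112151 := (((D112151).symm.trans (sb E86694 F298634))).symm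
theorem E88561 : n112152 = n38844 := ((D112152).symm.trans (sb E86695 (iv1 D84230)))
theorem E88562 : n124638 = n112153 := (((D112153).symm.trans (sb E86695 (iv0 F199371)))).symm
theorem F324002 : act 3 n51725 = n39846 := (sb E86695 F255008)
theorem E88563 : n35750 = n24686 := (((D24686).symm.trans (sb E86696 (iv6 D78453)))).symm
theorem E88564 : n109932 = n51790 := ((D109932).symm.trans (sb E86697 (iv6 D112275)))
theorem F324003 : act 5 n112413 = n163223 := (sb E86698 F281057)
theorem F324004 : act 4 n58938 = n44511 := (sb E86704 F146933)
theorem E88569 : n125862 = n44510 := ((D125862).symm.trans (sb E86704 (iv6 D95282)))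
theorem E88570 : n112444 = n79972 := ((D112444).symm.trans (sb E86705 (iv6 D166629)))
theorem E88571 : n37316 = n28151 := (((D28151).symm.trans (sb E86707 (iv6 D81645)))).symm
theorem E88572 : n126141 = n59107 := ((D126141).symm.trans (sb E86709 (tr F297408 E87373)))
theorem E88573 : n126142 = n57911 := ((D126142).symm.trans (sb E86709 F198700))
theorem E88574 : n126144 = n78868 := ((D126144).symm.trans (sb E86709 F297409))
theorem E88575 : n126145 = n57909 := ((D126145).symm.trans (sb E86709 (iv6 D124207)))
theorem F324005 : act 0 n39841 = n28076 := (sb E86710 (iv1 D59109))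
theorem E88578 : n126148 = n86066 := ((((iv4 F132003)).symm.trans (sb E86710 D126148))).symm
theorem F324006 : act 0 n59095 = n39841 := (sb E86714 (iv1 D86068))
theorem F324007 : act 6 n57879 = n28062 := (sb E86715 (iv6 D59063))
theorem F324008 : act 1 n18504 = n28063 := (sb E86716 (iv0 D59065))
theorem F324009 : act 0 n18503 = n28063 := (sb E86717 (iv1 D59066))
theorem F324010 : act 5 n18481 = n28063 := (sb E86718 (iv5 D59067))
theorem F324011 : act 7 n18480 = n28063 := (sb E86719 (iv7 D59068))
theorem E88600 : n110499 = n86540 := ((D110499).symm.trans (sb E86721 (iv6 D181223)))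
theorem E88601 : n110509 = n75982 := ((D110509).symm.trans (sb E86722 F126046))
theorem F324012 : act 1 n68197 = n95272 := (sb E86723 (iv0 F276732))
theorem E88602 : n177380 = n107530 := ((((iv3 F165901)).symm.trans (sb E86723 (iv3 F276759)))).symm
theorem E88604 : n145448 = n38978 := (((iv6 F228482)).symm.trans (sb E86723 (iv6 D84510)))
theorem F324013 : act 6 n18501 = n31791 := (sb E86724 F104488)
theorem F324014 : act 3 n37386 = n24829 := (sb E86725 (iv3 D51048))
theorem E88612 : n109824 = n27450 := ((((iv6 F296463)).symm.trans (sb E86728 (iv6 F169799)))).symm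
theorem E88613 : n137314 = n108856 := (((iv2 F322485)).symm.trans (sb E86729 F175550))
theorem E88614 : n163873 = n108605 := ((D163873).symm.trans (sb E86729 F175547))
theorem F324015 : act 7 n78719 = n108861 := (sb E86729 F175546)
theorem F324016 : act 1 n66440 = n50749 := (sb E86730 (iv0 D110030))
theorem F324017 : act 2 n66440 = n110415 := (sb E86730 F173352)
theorem E88615 : n158876 = n50567 := (((D50567).symm.trans (sb E86732 D158876))).symm
theorem E88616 : n50569 = n38145 := ((D50569).symm.trans (sb E86732 F113679))
theorem F324018 : act 1 n51605 = n47685 := (sb E86733 (iv0 F128346))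
theorem E88617 : n163866 = n111897 := (((D111897).symm.trans (sb E86733 (iv3 F258297)))).symm
theorem E88619 : n111899 = n38351 := ((D111899).symm.trans (sb E86733 (iv6 D83274)))
theorem F324019 : act 6 n18303 = n25067 := (sb E86734 (iv6 D51607))
theorem F324020 : act 7 n78717 = n110414 := (sb E86735 F175555)
theorem F324021 : act 0 n55246 = n50749 := (sb E86736 (iv1 D110031))
theorem F324022 : act 7 n55246 = n110415 := (sb E86736 (iv7 F173345))
theorem F324023 : act 1 n112119 = n166484 := (sb E86738 (iv0 F281087))
theorem F324024 : act 2 n112119 = n86266 := (sb E86738 F281084)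
theorem F324025 : act 6 n112119 = n121740 := (sb E86738 F281086)
theorem E88625 : n59248 = n35824 := ((D59248).symm.trans (sb E86739 (iv6 D78640)))
theorem E88638 : n59254 = n35830 := (((F254375).symm.trans (sb E86743 D59254))).symm
theorem E88639 : n59255 = n35825 := ((((iv0 F254377)).symm.trans (sb E86743 D59255))).symm
theorem F324026 : act 4 n17359 = n13430 := (sb E86743 F45498)
theorem F324027 : act 6 n17359 = n13429 := (sb E86743 (iv6 D28138))
theorem F324028 : act 3 n67632 = n85560 := (sb E86748 F316510)
theorem E88641 : n144352 = n76689 := ((D144352).symm.trans (sb E86748 F252720))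
theorem E88642 : n144353 = n76686 := ((D144353).symm.trans (sb E86748 (iv7 D160121)))
theorem F324029 : act 5 n77378 = n53960 := (sb E86749 (iv5 D117095))
theorem F324030 : act 7 n77378 = n68288 := (sb E86749 F183131)
theorem F324031 : act 5 n66121 = n35327 := (sb E86750 (iv5 D77379))
theorem F324032 : act 6 n60130 = n65691 := (sb E86752 (iv6 D139922))
theorem F324033 : act 6 n33563 = n68212 := (sb E86753 (iv6 D145471))
theorem F324034 : act 0 n92790 = n62676 := (sb E86754 (iv1 F214829))
theorem F324035 : act 2 n113738 = n62676 := (sb E86755 F214826)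
theorem F324036 : act 3 n113738 = n131004 := (sb E86755 F214827)
theorem F324037 : act 6 n113738 = n130811 := (sb E86755 F214828)
theorem E88644 : n62653 = n54114 := (((F85427).symm.trans (sb E86756 F214657))).symm
theorem F324038 : act 4 n52485 = n62676 := (sb E86756 F214658)
theorem E88645 : n130694 = n113673 := (((D113673).symm.trans (sb E86756 F214659))).symm
theorem E88646 : n129608 = n126639 := ((D129608).symm.trans (sb E86757 (iv1 F204663)))
theorem E88647 : n129231 = n126887 := (((iv0 F212092)).symm.trans (sb E86757 (iv0 F204143)))
theorem E88648 : n129610 = n126889 := ((D129610).symm.trans (sb E86757 (iv2 F204658)))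
theorem F324039 : act 5 n60884 = n59501 := (sb E86757 (iv5 D126791))
theorem E88649 : n113788 = n14443 := ((((iv1 F47591)).symm.trans (sb E86758 F183927))).symm
theorem E88650 : n113801 = n53140 := (((F83881).symm.trans (sb E86758 F183928))).symm
theorem F324040 : act 6 n145470 = n72741 := (sb E86759 (iv6 D153756))
theorem F324041 : act 0 n129577 = n126976 := (sb E86760 (iv1 F220451))
theorem F324042 : act 2 n129577 = n126975 := (sb E86760 F223435)
theorem F324043 : act 3 n129577 = n64532 := (sb E86760 (iv3 D137300))
theorem F324044 : act 7 n129577 = n126955 := (sb E86760 F220449)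
theorem F324045 : act 0 n129550 = n126975 := (sb E86761 (iv1 F223434))
theorem F324046 : act 1 n129550 = n126955 := (sb E86761 (iv0 F223433))
theorem F324047 : act 4 n129550 = n65861 := (sb E86761 (iv4 D140327))
theorem F324048 : act 7 n129550 = n126976 := (sb E86761 F223432)
theorem F324049 : act 4 n63318 = n60872 := (sb E86762 (iv4 D129579))
theorem F324050 : act 7 n31973 = n66393 := (sb E86763 (iv7 D141552))
theorem F324051 : act 2 n68474 = n66393 := (sb E86767 (iv2 D141547))
theorem F324052 : act 4 n141548 = n68807 := (sb E86768 F227839)
theorem F324053 : act 7 n141548 = n68720 := (sb E86768 F227840)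
theorem F324054 : act 4 n31974 = n66393 := (sb E86769 (iv4 D141549))
theorem F324055 : act 0 n141220 = n67903 := (sb E86770 (iv1 D144863))
theorem F324056 : act 2 n141220 = n105751 := (sb E86770 (iv2 F227808))
theorem F324057 : act 4 n141220 = n76558 := (sb E86770 F227807)
theorem F324058 : act 7 n141220 = n105763 := (sb E86770 F227806)
theorem F324059 : act 1 n141221 = n67903 := (sb E86771 (iv0 D144862))
theorem F324060 : act 2 n141221 = n105763 := (sb E86771 (iv2 F227804))
theorem F324061 : act 4 n141221 = n76557 := (sb E86771 F227803)
theorem F324062 : act 7 n141221 = n105751 := (sb E86771 (iv7 F227805))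
theorem F324063 : act 2 n112696 = n66239 := (sb E86772 F224211)
theorem F324064 : act 5 n112696 = n66232 := (sb E86772 (iv5 D141194))
theorem F324065 : act 4 n76394 = n66239 := (sb E86773 (iv4 D141222))
theorem F324066 : act 0 n130169 = n163372 := (sb E86774 (iv1 F258520))
theorem F324067 : act 1 n130170 = n163372 := (sb E86775 F258525)
theorem F324068 : act 0 n130130 = n163371 := (sb E86776 (iv1 F258526))
theorem F324069 : act 1 n130130 = n163370 := (sb E86776 F258524)
theorem F324070 : act 6 n130130 = n86060 := (sb E86776 F258522)
theorem F324071 : act 7 n130130 = n163372 := (sb E86776 F258523)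
theorem F324072 : act 4 n55358 = n61105 := (sb E86777 (iv4 D130171))
theorem F324073 : act 7 n78508 = n61105 := (sb E86778 (iv7 D130172))
theorem F324074 : act 5 n55780 = n62102 := (sb E86780 F208698)
theorem E88653 : n162114 = n59146 := ((((iv3 F168034)).symm.trans (sb E86785 (iv3 F256209)))).symm
theorem F324075 : act 1 n118497 = n68288 := (sb E86786 (iv0 D145685))
theorem F324076 : act 1 n145686 = n155191 := (sb E86787 (iv0 F304780))
theorem F324077 : act 0 n126816 = n80128 := (sb E86788 F306777)
theorem F324078 : act 1 n126816 = n155136 := (sb E86788 (iv0 F304778))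
theorem F324079 : act 3 n126816 = n71993 := (sb E86788 (iv3 D152614))
theorem F324080 : act 4 n126816 = n119392 := (sb E86788 (iv4 F305467))
theorem F324081 : act 7 n126816 = n155191 := (sb E86788 (iv7 F304783))
theorem F324082 : act 4 n73699 = n68288 := (sb E86789 (iv4 D145687))
theorem F324083 : act 5 n117848 = n144764 := (sb E86790 F228757)
theorem F324084 : act 6 n117848 = n68288 := (sb E86790 (iv6 D145688))
theorem F324085 : act 0 n35482 = n58621 := (sb E86791 (iv1 F320504))
theorem F324086 : act 1 n35482 = n68264 := (sb E86791 F183114)
theorem F324087 : act 2 n35482 = n68268 := (sb E86791 F183110)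
theorem E88654 : n77753 = n55214 := ((D77753).symm.trans (sb E86791 F318345))
theorem F324088 : act 7 n35482 = n53956 := (sb E86791 (iv7 D117090))
theorem F324089 : act 3 n157665 = n85970 := (sb E86795 F280197)
theorem F324090 : act 6 n157665 = n85968 := (sb E86795 (iv6 D179914))
theorem F324091 : act 6 n39767 = n75114 := (sb E86796 (iv6 D157666))
theorem F324092 : act 5 n117089 = n77472 := (sb E86797 (iv5 D161386))
theorem F324093 : act 7 n117089 = n77748 := (sb E86797 F255201)
theorem F324094 : act 5 n35375 = n53956 := (sb E86798 F169808)
theorem F324095 : act 5 n145635 = n77476 := (sb E86799 (iv5 D161395))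
theorem F324096 : act 5 n35376 = n68268 := (sb E86800 F169803)
theorem F324097 : act 0 n17737 = n25104 := (sb E86803 (iv1 D51686))
theorem F324098 : act 1 n18315 = n25104 := (sb E86804 (iv0 D51685))
theorem F324099 : act 2 n36628 = n51602 := (sb E86805 (iv2 F81454))
theorem E88659 : n109384 = n80359 := ((((iv3 F123467)).symm.trans (sb E86805 (iv3 F169376)))).symm
theorem F324100 : act 6 n36628 = n51602 := (sb E86805 (iv6 F81455))
theorem F324101 : act 1 n36526 = n51602 := (sb E86806 (iv0 D111891))
theorem F324102 : act 0 n36557 = n51602 := (sb E86807 F170551)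
theorem F324103 : act 0 n111890 = n80162 := (sb E86808 F299247)
theorem F324104 : act 1 n111890 = n80206 := (sb E86808 F262871)
theorem F324105 : act 2 n111890 = n98174 := (sb E86808 (iv2 F301027))
theorem F324106 : act 4 n111890 = n120635 := (sb E86808 (iv4 F302060))
theorem E88660 : n109668 = n80148 := ((F173820).symm.trans (sb E86808 (iv7 D166971)))
theorem F324107 : act 7 n36504 = n51602 := (sb E86809 (iv7 F81456))
theorem E88664 : n179065 = n124695 := ((((iv2 F199480)).symm.trans (sb E86812 (iv2 F279002)))).symm
theorem F324108 : act 3 n72982 = n39455 := (sb E86812 F130664)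
theorem E88665 : n179028 = n33636 := ((((iv4 D72982)).symm.trans (sb E86812 (iv4 F278955)))).symm
theorem E88666 : n154107 = n39454 := (((iv6 F242176)).symm.trans (sb E86812 (iv6 D85434)))
theorem E88669 : n80116 = n50167 := ((((iv6 D108649)).symm.trans (sb E86818 F255556))).symm
theorem F324109 : act 3 n109023 = n77540 := (sb E86819 (iv3 D161506))
theorem E88670 : n80089 = n50335 := ((((iv6 D109023)).symm.trans (sb E86819 F255500))).symm
theorem E88671 : n80114 = n50169 := ((((iv1 F79501)).symm.trans (sb E86820 D80114))).symm
theorem E88672 : n80115 = n11614 := ((((iv0 D24546)).symm.trans (sb E86820 D80115))).symm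
theorem F324110 : act 4 n8286 = n11689 := (sb E86822 (iv4 D24693))
theorem E88674 : n123489 = n50276 := (((D50276).symm.trans (sb E86823 (iv4 F197907)))).symm
theorem E88676 : n56139 = n50581 := (((D50581).symm.trans (sb E86824 D56139))).symm
theorem F324111 : act 5 n24639 = n36504 := (sb E86824 (iv5 F57335))
theorem F324112 : act 6 n24639 = n17207 := (sb E86824 (iv6 F301945))
theorem E88677 : n77816 = n25063 := ((((iv1 F39340)).symm.trans (sb E86826 D77816))).symm
theorem F324113 : act 4 n14646 = n17207 := (sb E86826 (iv4 D35509))
theorem E88681 : n56134 = n50471 := ((((iv3 F79833)).symm.trans (sb E86828 D56134))).symm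
theorem F324114 : act 5 n24596 = n36628 := (sb E86828 (iv5 F91374))
theorem E88687 : n50572 = n38172 := (((F59030).symm.trans (sb E86834 D50572))).symm
theorem F324115 : act 3 n18341 = n11666 := (sb E86834 F38633)
theorem F324116 : act 2 n18317 = n25104 := (sb E86835 (iv2 F39451))
theorem F324117 : act 5 n18317 = n11666 := (sb E86835 (iv5 D24636))
theorem E88689 : n38128 = n24662 := (((iv6 F58951)).symm.trans (sb E86835 (iv6 F38661)))
theorem E88695 : n111489 = n39186 := ((D111489).symm.trans (sb E86839 (iv3 D84795)))
theorem E88696 : n178138 = n111490 := (((D111490).symm.trans (sb E86839 D178138))).symm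
theorem E88697 : n178139 = n111491 := (((D111491).symm.trans (sb E86839 D178139))).symm
theorem E88698 : n77853 = n25059 := (((F81192).symm.trans (sb E86840 F255310))).symm
theorem E88699 : n110180 = n40092 := (((iv1 F170349)).symm.trans (sb E86842 F123464))
theorem E88700 : n110177 = n102781 := ((F170962).symm.trans (sb E86842 (iv2 F158034)))
theorem E88701 : n112084 = n36612 := ((D112084).symm.trans (sb E86842 (iv5 D80358)))
theorem F324118 : act 6 n51689 = n77488 := (sb E86842 (iv6 F299400))
theorem F324119 : act 5 n17656 = n25107 := (sb E86843 (iv5 D51690))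
theorem E88703 : n77957 = n24740 := (((F38714).symm.trans (sb E86845 F300397))).symm
theorem F324120 : act 4 n11906 = n17212 := (sb E86847 (iv4 D35525))
theorem E88704 : n111889 = n55353 := ((D111889).symm.trans (sb E86848 (iv0 D120282)))
theorem E88705 : n123486 = n110171 := ((((iv2 F170333)).symm.trans (sb E86848 (iv2 F197900)))).symm
theorem E88706 : n123039 = n111374 := ((((iv4 F172861)).symm.trans (sb E86848 F197188))).symm
theorem F324121 : act 2 n37371 = n50576 := (sb E86849 F80497)
theorem F324122 : act 5 n37371 = n24829 := (sb E86849 (iv5 D51049))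
theorem F324123 : act 7 n37371 = n50478 := (sb E86849 F80498)
theorem F324124 : act 4 n50958 = n80322 := (sb E86851 (iv4 F128447))
theorem F324125 : act 1 n37449 = n25103 := (sb E86852 (iv0 D51681))
theorem E88716 : n112065 = n38821 := ((((iv7 F117758)).symm.trans (sb E86852 D112065))).symm
theorem E88718 : n160606 = n112067 := (((D112067).symm.trans (sb E86853 (iv4 F298003)))).symm
theorem E88719 : n112068 = n75360 := ((D112068).symm.trans (sb E86853 (iv5 F126940)))
theorem F324126 : act 2 n18452 = n25103 := (sb E86854 F81593)
theorem E88723 : n112007 = n38822 := (E87878).trans E87882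
theorem E88725 : n112012 = n79880 := ((D112012).symm.trans (sb E86855 (iv1 F298068)))
theorem E88729 : n112015 = n38837 := ((D112015).symm.trans (sb E86855 F126944))
theorem F324127 : act 3 n18124 = n25104 := (sb E86856 F81595)
theorem F324128 : act 5 n18124 = n25103 := (sb E86856 (iv5 D51683))
theorem E88733 : n51734 = n37797 := (((D37797).symm.trans (sb E86856 (iv6 F81663)))).symm
theorem F324129 : act 3 n18457 = n25105 := (sb E86858 F81596)
theorem E88735 : n50493 = n35172 := (((F296210).symm.trans (sb E86858 F81597))).symm
theorem F324130 : act 7 n18457 = n25103 := (sb E86858 (iv7 D51684))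
theorem E88736 : n51743 = n36003 := ((D51743).symm.trans (sb E86859 F118585))
theorem F324131 : act 5 n18310 = n25105 := (sb E86860 F81604)
theorem F324132 : act 7 n18310 = n25104 := (sb E86860 (iv7 D51688))
theorem E88738 : n36241 = n11640 := (((D11640).symm.trans (sb E86862 (iv6 D79579)))).symm
theorem E88739 : n26921 = n24794 := ((((iv1 F79860)).symm.trans (sb E86863 F54700))).symm
theorem E88740 : n26918 = n24791 := ((((iv0 F79861)).symm.trans (sb E86863 (iv0 F54701)))).symm
theorem E88745 : n176638 = n112031 := ((((iv5 F174134)).symm.trans (sb E86869 D176638))).symm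
theorem E88746 : n78465 = n50460 := (((F81582).symm.trans (sb E86869 F298014))).symm
theorem F324133 : act 3 n67938 = n88691 := (sb E86871 F288906)
theorem E88747 : n144922 = n88689 := ((D144922).symm.trans (sb E86871 (iv6 D186164)))
theorem F324134 : act 0 n145920 = n186418 := (sb E86872 (iv1 F289203))
theorem F324135 : act 1 n145920 = n186417 := (sb E86872 F289208)
theorem F324136 : act 2 n145920 = n113032 := (sb E86872 (iv2 F291598))
theorem F324137 : act 6 n145920 = n186411 := (sb E86872 (iv6 F289190))
theorem F324138 : act 7 n145920 = n88691 := (sb E86872 (iv7 D186172))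
theorem F324139 : act 6 n74719 = n68163 := (sb E86874 (iv6 D145386))
theorem F324140 : act 1 n40101 = n68210 := (sb E86876 (iv0 D145466))
theorem F324141 : act 0 n79712 = n68210 := (sb E86877 (iv1 D145467))
theorem F324142 : act 0 n140548 = n85304 := (sb E86878 F306687)
theorem F324143 : act 1 n140548 = n86533 := (sb E86878 F300270)
theorem E88748 : n180011 = n65964 := (((F223695).symm.trans (sb E86878 (iv4 F280390)))).symm
theorem F324144 : act 5 n140548 = n76018 := (sb E86878 (iv5 D159115))
theorem F324145 : act 7 n140548 = n86530 := (sb E86878 F300271)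
theorem F324146 : act 0 n115767 = n65044 := (sb E86879 (iv1 D138479))
theorem F324147 : act 1 n115767 = n169883 := (sb E86879 F312857)
theorem F324148 : act 7 n115767 = n180012 := (sb E86879 F312860)
theorem F324149 : act 3 n37397 = n68225 := (sb E86880 F228510)
theorem F324150 : act 5 n37397 = n68210 := (sb E86880 (iv5 D145468))
theorem F324151 : act 0 n145469 = n86533 := (sb E86881 (iv1 F308495))
theorem F324152 : act 1 n145469 = n85304 := (sb E86881 (iv0 F231667))
theorem F324153 : act 2 n145469 = n86530 := (sb E86881 F306684)
theorem F324154 : act 4 n145469 = n180012 := (sb E86881 F306685)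
theorem F324155 : act 5 n145469 = n76023 := (sb E86881 (iv5 F308561))
theorem F324156 : act 6 n145469 = n69286 := (sb E86881 (iv6 D147882))
theorem E88749 : n153926 = n69510 := ((D153926).symm.trans (sb E86884 (iv6 D148311)))
theorem F324157 : act 6 n143720 = n69511 := (sb E86885 (iv6 D148314))
theorem F324158 : act 3 n116161 = n78970 := (sb E86890 F290494)
theorem F324159 : act 6 n116161 = n78940 := (sb E86890 (iv6 D164361))
theorem F324160 : act 3 n35937 = n66636 := (sb E86891 (iv3 D142100))
theorem E88750 : n145482 = n52656 := ((((iv4 F83210)).symm.trans (sb E86891 (iv4 F228534)))).symm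
theorem F324161 : act 0 n114325 = n115868 := (sb E86892 F225141)
theorem F324162 : act 1 n114325 = n140803 := (sb E86892 F225142)
theorem F324163 : act 2 n114325 = n140847 := (sb E86892 F225139)
theorem F324164 : act 5 n114325 = n66636 := (sb E86892 (iv5 D142101))
theorem E88751 : n140848 = n127786 := ((((iv7 F205543)).symm.trans (sb E86892 F225140))).symm
theorem F324165 : act 6 n35934 = n66636 := (sb E86893 (iv6 D142102))
theorem F324166 : act 3 n116162 = n78952 := (sb E86894 F259020)
theorem F324167 : act 4 n114078 = n66952 := (sb E86895 F225733)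
theorem F324168 : act 6 n114078 = n66950 := (sb E86895 (iv6 D142837))
theorem E88752 : n145483 = n113052 := ((D145483).symm.trans (sb E86896 (iv5 F177592)))
theorem F324169 : act 6 n68220 = n52653 := (sb E86896 (iv6 D114081))
theorem F324170 : act 3 n32599 = n70065 := (sb E86897 (iv3 D149272))
theorem F324171 : act 2 n131480 = n133842 := (sb E86899 F237533)
theorem F324172 : act 3 n131480 = n70239 := (sb E86899 F235175)
theorem F324173 : act 4 n131480 = n72044 := (sb E86899 F307253)
theorem F324174 : act 7 n131480 = n70916 := (sb E86899 F307254)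
theorem E88753 : n149579 = n143133 := ((D149579).symm.trans (sb E86900 (iv4 F225988)))
theorem F324175 : act 6 n70243 = n66631 := (sb E86900 (iv6 D142089))
theorem F324176 : act 6 n81734 = n66632 := (sb E86901 (iv6 D142092))
theorem E88754 : n140787 = n80573 := (((D80573).symm.trans (sb E86905 F225130))).symm
theorem F324177 : act 6 n66065 = n86023 := (sb E86906 (iv6 D180010))
theorem F324178 : act 4 n77622 = n51852 := (sb E86907 F174862)
theorem F324179 : act 6 n77622 = n51850 := (sb E86907 (iv6 D112398))
theorem F324180 : act 6 n56205 = n77686 := (sb E86908 (iv6 D161723))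
theorem F324181 : act 5 n55053 = n86110 := (sb E86910 (iv5 D180272))
theorem F324182 : act 6 n155084 = n78726 := (sb E86911 (iv6 D163892))
theorem F324183 : act 6 n35847 = n77683 := (sb E86912 (iv6 D161715))
theorem F324184 : act 0 n74100 = n110415 := (sb E86915 (iv1 F173355))
theorem F324185 : act 2 n74100 = n50749 := (sb E86915 F170146)
theorem F324186 : act 5 n74100 = n50745 := (sb E86915 (iv5 D110018))
theorem F324187 : act 1 n17149 = n11693 := (sb E86926 F48934)
theorem E88757 : n50653 = n35307 := ((((iv3 F56018)).symm.trans (sb E86926 D50653))).symm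
theorem F324188 : act 4 n17149 = n11678 := (sb E86926 (iv4 D24666))
theorem F324189 : act 7 n17149 = n25132 := (sb E86926 (iv7 F39532))
theorem F324190 : act 3 n11947 = n8110 := (sb E86927 F28164)
theorem F324191 : act 5 n17168 = n11693 := (sb E86928 (iv5 D24705))
theorem F324192 : act 4 n55240 = n50749 := (sb E86933 (iv4 D110032))
theorem E88761 : n112416 = n34000 := (((F185090).symm.trans (sb E86933 (iv7 F174905)))).symm
theorem F324193 : act 0 n51857 = n34005 := (sb E86934 F184307)
theorem E88763 : n112417 = n53716 := ((D112417).symm.trans (sb E86934 (iv6 F322421)))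
theorem E88767 : n162122 = n59237 := (((D59237).symm.trans (sb E86935 D162122))).symm
theorem E88768 : n35579 = n28056 := (((F45445).symm.trans (sb E86935 (iv6 F300308)))).symm
theorem E88769 : n51736 = n38904 := ((D51736).symm.trans (sb E86936 F296397))
theorem F324194 : act 5 n25122 = n18183 := (sb E86936 F56963)
theorem E88770 : n24688 = n17505 := (((iv6 F79848)).symm.trans (sb E86936 (iv6 D36244)))
theorem F324195 : act 1 n13383 = n8086 := (sb E86937 (iv0 D17239))
theorem E88774 : n162112 = n59144 := (((D59144).symm.trans (sb E86938 D162112))).symm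
theorem E88775 : n51738 = n45184 := ((D51738).symm.trans (sb E86939 F297938))
theorem F324196 : act 5 n25123 = n36034 := (sb E86939 F297939)
theorem F324197 : act 0 n79687 = n62089 := (sb E86946 (iv1 F212250))
theorem F324198 : act 1 n79687 = n62081 := (sb E86946 (iv0 D132326))
theorem F324199 : act 0 n79682 = n62081 := (sb E86947 (iv1 D132327))
theorem F324200 : act 1 n79682 = n62089 := (sb E86947 F212244)
theorem F324201 : act 5 n132329 = n86258 := (sb E86948 (iv5 D180582))
theorem F324202 : act 2 n79687 = n62086 := (sb E86949 (iv2 D132343))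
theorem F324203 : act 7 n79687 = n62087 := (sb E86949 (iv7 F212316))
theorem F324204 : act 5 n78707 = n62086 := (sb E86950 (iv5 D132346))
theorem F324205 : act 2 n79682 = n62087 := (sb E86951 F212317)
theorem F324206 : act 7 n79682 = n62086 := (sb E86951 (iv7 D132348))
theorem F324207 : act 5 n78708 = n62087 := (sb E86952 (iv5 D132351))
theorem F324208 : act 0 n132240 = n166755 := (sb E86953 F281103)
theorem F324209 : act 1 n132240 = n166788 := (sb E86953 F281104)
theorem E88785 : n24687 = n17510 := (((D17510).symm.trans (sb E86957 F79871))).symm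
theorem F324210 : act 0 n12879 = n24689 := (sb E86958 (iv1 D50716))
theorem F324211 : act 1 n12881 = n24689 := (sb E86959 (iv0 D50715))
theorem F324212 : act 4 n132735 = n95415 := (sb E86968 (iv4 F261397))
theorem F324213 : act 5 n132735 = n120979 := (sb E86968 F261392)
theorem E88796 : n63208 = n46045 := ((((iv3 D98446)).symm.trans (sb E86969 F213104))).symm
theorem F324214 : act 4 n98446 = n62288 := (sb E86969 (iv4 D132736))
theorem F324215 : act 6 n98446 = n129769 := (sb E86969 F213105)
theorem E88798 : n161268 = n29983 := ((((iv0 F168278)).symm.trans (sb E86970 D161268))).symm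
theorem F324216 : act 0 n130837 = n95417 := (sb E86971 (iv1 F283843))
theorem F324217 : act 1 n130837 = n87050 := (sb E86971 (iv0 D182303))
theorem F324218 : act 2 n130837 = n181979 := (sb E86971 F295092)
theorem F324219 : act 5 n130837 = n87188 := (sb E86971 F295398)
theorem F324220 : act 7 n130837 = n98415 := (sb E86971 F295094)
theorem E88803 : n162468 = n62101 := (((D62101).symm.trans (sb E86972 D162468))).symm
theorem E88804 : n120952 = n24793 := (((F47099).symm.trans (sb E86972 (iv5 F192893)))).symm
theorem E88809 : n120933 = n24790 := ((((iv5 F164065)).symm.trans (sb E86974 (iv5 F192845)))).symm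
theorem F324221 : act 0 n13382 = n8086 := (sb E86977 (iv1 D17240))
theorem E88815 : n35582 = n28002 := (((F168022).symm.trans (sb E86977 D35582))).symm
theorem F324222 : act 0 n11949 = n8085 := (sb E86978 (iv1 F28103))
theorem F324223 : act 2 n11949 = n8087 := (sb E86978 (iv2 F28102))
theorem F324224 : act 3 n11949 = n17506 := (sb E86978 F28502)
theorem F324225 : act 5 n11949 = n8055 := (sb E86978 F28101)
theorem F324226 : act 7 n11949 = n8054 := (sb E86978 F28104)
theorem F324227 : act 3 n80061 = n62541 := (sb E86980 (iv3 D133271))
theorem F324228 : act 5 n80060 = n62541 := (sb E86981 (iv5 D133273))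
theorem F324229 : act 5 n25152 = n16712 := (sb E86983 (iv5 D34458))
theorem F324230 : act 2 n17374 = n24689 := (sb E86985 F39570)
theorem F324231 : act 5 n17374 = n11942 := (sb E86985 (iv5 D25151))
theorem F324232 : act 5 n132741 = n79598 := (sb E86989 (iv5 D165732))
theorem E88818 : n162378 = n61943 := ((((iv3 D132001)).symm.trans (sb E86990 F261089))).symm
theorem F324233 : act 5 n61106 = n78508 := (sb E86991 (iv5 D163374))
theorem F324234 : act 5 n132749 = n79619 := (sb E86995 (iv5 D165774))
theorem E88826 : n78676 = n24680 := (((D24680).symm.trans (sb E86998 F122946))).symm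
theorem E88827 : n166875 = n24681 := (((D24681).symm.trans (sb E86998 D166875))).symm
theorem E88828 : n166876 = n24674 := ((((iv2 F38670)).symm.trans (sb E86998 D166876))).symm
theorem F324235 : act 4 n80233 = n68284 := (sb E87001 (iv4 D145674))
theorem F324236 : act 6 n80233 = n78385 := (sb E87001 F316195)
theorem F324237 : act 0 n114200 = n66813 := (sb E87003 (iv1 D142510))
theorem F324238 : act 1 n114200 = n66818 := (sb E87003 F225409)
theorem F324239 : act 2 n114200 = n144512 := (sb E87003 F227363)
theorem F324240 : act 4 n114200 = n140718 := (sb E87003 F225410)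
theorem F324241 : act 7 n114200 = n144513 := (sb E87003 (iv7 F227366))
theorem F324242 : act 1 n86088 = n83268 := (sb E87004 (iv0 D174203))
theorem F324243 : act 1 n86087 = n45915 := (sb E87005 (iv0 D98243))
theorem F324244 : act 0 n86086 = n45915 := (sb E87006 (iv1 D98244))
theorem E88832 : n180176 = n125318 := ((D180176).symm.trans (sb E87006 (iv2 F322765)))
theorem E88833 : n180179 = n174766 := ((D180179).symm.trans (sb E87006 (iv5 F273585)))
theorem F324245 : act 0 n161002 = n163607 := (sb E87007 F262201)
theorem F324246 : act 1 n161002 = n163606 := (sb E87007 F262202)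
theorem E88834 : n97374 = n79960 := (((iv2 F293099)).symm.trans (sb E87007 F262199))
theorem F324247 : act 3 n161002 = n185725 := (sb E87007 (iv3 F288004))
theorem F324248 : act 5 n161002 = n79959 := (sb E87007 (iv5 D166602))
theorem F324249 : act 7 n161002 = n163604 := (sb E87007 F262200)
theorem F324250 : act 1 n79564 = n85135 := (sb E87008 (iv0 D178697))
theorem E88835 : n165660 = n119232 := (((iv2 F260940)).symm.trans (sb E87008 (iv2 F278526)))
theorem E88836 : n165661 = n158325 := ((D165661).symm.trans (sb E87008 (iv3 F278531)))
theorem E88837 : n165663 = n119145 := ((D165663).symm.trans (sb E87008 F278527))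
theorem E88838 : n165655 = n119229 := ((F260939).symm.trans (sb E87008 F278528))
theorem F324251 : act 0 n79563 = n85135 := (sb E87009 (iv1 D178698))
theorem E88839 : n165658 = n119144 := ((D165658).symm.trans (sb E87009 F278523))
theorem E88840 : n152925 = n36403 := ((((iv1 F122660)).symm.trans (sb E87010 F278532))).symm
theorem F324252 : act 4 n79912 = n85135 := (sb E87010 (iv4 D178699))
theorem F324253 : act 1 n86101 = n54868 := (sb E87011 (iv0 D119234))
theorem E88841 : n180233 = n85133 := ((D180233).symm.trans (sb E87011 F278065))
theorem F324254 : act 0 n86100 = n54868 := (sb E87012 (iv1 D119235))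
theorem E88842 : n180228 = n84916 := ((D180228).symm.trans (sb E87012 (iv5 F187669)))
theorem F324255 : act 4 n31777 = n17202 := (sb E87016 (iv4 D35486))
theorem F324256 : act 5 n126649 = n73595 := (sb E87022 (iv5 D155061))
theorem F324257 : act 6 n126649 = n73598 := (sb E87022 F243844)
theorem E88843 : n136351 = n73622 := (((D73622).symm.trans (sb E87023 (iv0 F219437)))).symm
theorem F324258 : act 5 n33834 = n59558 := (sb E87023 (iv5 D126909))
theorem F324259 : act 5 n105678 = n73624 := (sb E87024 F243929)
theorem F324260 : act 4 n143955 = n175003 := (sb E87026 (iv4 F273907))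
theorem F324261 : act 6 n143955 = n128375 := (sb E87026 (iv6 F322783))
theorem F324262 : act 4 n66125 = n77377 := (sb E87028 F254861)
theorem F324263 : act 4 n109859 = n83552 := (sb E87029 (iv4 D174930))
theorem F324264 : act 3 n119856 = n68285 := (sb E87033 (iv3 D145676))
theorem F324265 : act 4 n66134 = n77469 := (sb E87036 (iv4 D161381))
theorem F324266 : act 5 n8073 = n11947 := (sb E87042 (iv5 D25165))
theorem F324267 : act 6 n107683 = n73638 := (sb E87045 (iv6 D155146))
theorem E88846 : n50639 = n21565 := (((D21565).symm.trans (sb E87047 (iv5 D109813)))).symm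
theorem F324268 : act 5 n24660 = n17441 := (sb E87048 (iv5 D36033))
theorem F324269 : act 0 n52995 = n53003 := (sb E87050 (iv1 D114866))
theorem F324270 : act 1 n52995 = n105432 := (sb E87050 F178940)
theorem E88847 : n151438 = n114853 := (((D114853).symm.trans (sb E87050 (iv5 F238178)))).symm
theorem E88850 : n114713 = n55977 := (((iv2 F178815)).symm.trans (sb E87051 (iv2 D121338)))
theorem E88851 : n114840 = n114708 := (((F178814).symm.trans (sb E87051 F193542))).symm
theorem E88852 : n146487 = n114848 := ((D146487).symm.trans (sb E87052 (iv1 F178987)))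
theorem E88853 : n146488 = n53019 := ((D146488).symm.trans (sb E87052 (iv0 D114905)))
theorem E88854 : n146489 = n114505 := ((D146489).symm.trans (sb E87052 (iv2 F178984)))
theorem F324271 : act 4 n68674 = n53063 := (sb E87052 F178983)
theorem E88855 : n146490 = n75154 := ((D146490).symm.trans (sb E87052 F178982))
theorem E88856 : n146491 = n105465 := ((D146491).symm.trans (sb E87052 F178985))
theorem F324272 : act 7 n68674 = n55975 := (sb E87052 F178986)
theorem F324273 : act 7 n68675 = n114507 := (sb E87053 F248590)
theorem F324274 : act 6 n111082 = n72580 := (sb E87054 (iv6 D153517))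
theorem F324275 : act 1 n107396 = n66938 := (sb E87055 (iv0 D142804))
theorem F324276 : act 1 n84913 = n173866 := (sb E87058 F286218)
theorem F324277 : act 2 n84913 = n47293 := (sb E87058 F156616)
theorem F324278 : act 4 n84913 = n47292 := (sb E87058 (iv4 D101724))
theorem F324280 : act 3 n101726 = n85982 := (sb E87060 F273598)
theorem F324281 : act 4 n101726 = n178452 := (sb E87060 (iv4 F278053))
theorem F324282 : act 7 n38496 = n47290 := (sb E87061 (iv7 D101717))
theorem F324283 : act 2 n99710 = n47290 := (sb E87066 (iv2 D101712))
theorem F324284 : act 3 n88642 = n47290 := (sb E87067 (iv3 D101713))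
theorem F324285 : act 4 n38502 = n47290 := (sb E87068 (iv4 D101714))
theorem F324286 : act 3 n101715 = n76842 := (sb E87069 (iv3 D160330))
theorem F324287 : act 7 n101715 = n83502 := (sb E87069 F304600)
theorem F324288 : act 6 n100730 = n47290 := (sb E87070 (iv6 D101716))
theorem F324289 : act 3 n82888 = n47293 := (sb E87071 (iv3 D101729))
theorem E88857 : n155114 = n47299 := (((iv4 F243930)).symm.trans (sb E87071 F156619))
theorem F324290 : act 4 n174103 = n173388 := (sb E87072 F276451)
theorem F324291 : act 7 n174103 = n84378 := (sb E87072 (iv7 D177035))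
theorem E88858 : n164241 = n24266 := ((((iv1 D49768)).symm.trans (sb E87074 (iv1 F258874)))).symm
theorem E88860 : n164243 = n62577 := ((((iv2 F97571)).symm.trans (sb E87074 (iv2 F258876)))).symm
theorem F324292 : act 3 n49768 = n83967 := (sb E87074 (iv3 F321528))
theorem E88861 : n71905 = n29028 := ((((iv4 F79298)).symm.trans (sb E87074 F239603))).symm
theorem E88862 : n164215 = n107740 := (((D107740).symm.trans (sb E87074 (iv6 F258840)))).symm
theorem E88863 : n71901 = n62649 := ((((iv7 F97738)).symm.trans (sb E87074 (iv7 D152412)))).symm
theorem F324293 : act 5 n108500 = n83967 := (sb E87075 (iv5 D175963))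
theorem E88864 : n167570 = n64101 := ((D167570).symm.trans (sb E87076 F214668))
theorem E88867 : n53138 = n35920 := (((iv2 F83866)).symm.trans (sb E87079 (iv2 F56600)))
theorem E88868 : n71904 = n14070 := ((((iv5 D29624)).symm.trans (sb E87079 D71904))).symm
theorem F324294 : act 6 n29624 = n16042 := (sb E87079 (iv6 D33225))
theorem E88869 : n164211 = n83973 := (((D83973).symm.trans (sb E87081 (iv6 F258832)))).symm
theorem F324295 : act 5 n63912 = n76090 := (sb E87082 (iv5 D159161))
theorem F324296 : act 6 n63912 = n76093 := (sb E87082 F250595)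
theorem F324297 : act 7 n63911 = n76090 := (sb E87083 (iv7 D159162))
theorem E88870 : n136210 = n57978 := ((D136210).symm.trans (sb E87085 (iv1 F304327)))
theorem E88871 : n136211 = n57981 := ((D136211).symm.trans (sb E87085 (iv0 F304330)))
theorem E88872 : n160285 = n136140 := ((((iv2 F219181)).symm.trans (sb E87085 (iv2 F253160)))).symm
theorem F324298 : act 5 n64041 = n35128 := (sb E87085 (iv5 D76873))
theorem F324299 : act 7 n64041 = n76093 := (sb E87085 (iv7 F303342))
theorem F324300 : act 0 n137336 = n71542 := (sb E87086 (iv1 D151771))
theorem F324301 : act 1 n137336 = n119775 := (sb E87086 F307781)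
theorem F324302 : act 2 n137336 = n154075 := (sb E87086 F307782)
theorem F324303 : act 3 n137336 = n119819 := (sb E87086 F307783)
theorem F324304 : act 5 n137336 = n120571 := (sb E87086 F307785)
theorem F324305 : act 7 n137336 = n154076 := (sb E87086 F307786)
theorem E88876 : n118072 = n64919 := (((iv4 F185501)).symm.trans (sb E87087 (iv4 D138214)))
theorem E88877 : n136416 = n118074 := ((((iv2 F185505)).symm.trans (sb E87088 F221441))).symm
theorem E88878 : n118098 = n64940 := ((D118098).symm.trans (sb E87088 (iv4 D138255)))
theorem E88879 : n115532 = n87750 := ((((iv6 F134714)).symm.trans (sb E87088 F221442))).symm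
theorem E88880 : n135991 = n118099 := (((D118099).symm.trans (sb E87088 F221443))).symm
theorem E88881 : n118073 = n64924 := ((F190613).symm.trans (sb E87089 (iv4 D138226)))
theorem E88882 : n136462 = n101078 := ((F221471).symm.trans (sb E87090 F242142))
theorem E88883 : n137335 = n118109 := ((F221469).symm.trans (sb E87090 F236395))
theorem F324306 : act 3 n138272 = n99727 := (sb E87090 (iv3 F287053))
theorem F324307 : act 4 n138272 = n70707 := (sb E87090 F236396)
theorem E88884 : n99725 = n64951 := ((((iv5 D138272)).symm.trans (sb E87090 F287054))).symm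
theorem F324308 : act 6 n138272 = n107982 := (sb E87090 (iv6 F312663))
theorem E88885 : n137334 = n70698 := ((F221470).symm.trans (sb E87090 (iv7 D150212)))
theorem E88886 : n72944 = n64938 := (((iv4 F190695)).symm.trans (sb E87091 (iv4 D138252)))
theorem F324309 : act 4 n138258 = n70608 := (sb E87092 F236135)
theorem F324310 : act 6 n138258 = n70606 := (sb E87092 (iv6 D150068))
theorem E88888 : n64949 = n22740 := ((((iv4 D47316)).symm.trans (sb E87093 (iv4 D138268)))).symm
theorem F324311 : act 4 n156027 = n76093 := (sb E87094 (iv4 D159166))
theorem E88889 : n62504 = n52500 := (((iv1 F97456)).symm.trans (sb E87095 (iv1 D113705)))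
theorem E88890 : n130927 = n68859 := ((D130927).symm.trans (sb E87097 F176930))
theorem E88891 : n92731 = n62502 := (((D62502).symm.trans (sb E87098 F183936))).symm
theorem E88893 : n185840 = n129118 := ((D185840).symm.trans (sb E87099 F214025))
theorem F324312 : act 6 n88515 = n62501 := (sb E87099 (iv6 D133197))
theorem E88894 : n130920 = n52496 := ((D130920).symm.trans (sb E87100 (iv6 D113696)))
theorem F324313 : act 6 n43391 = n62500 := (sb E87101 (iv6 D133196))
theorem E88895 : n137370 = n63393 := ((((iv4 F98707)).symm.trans (sb E87102 (iv4 F220576)))).symm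
theorem E88896 : n130919 = n54113 := ((D130919).symm.trans (sb E87102 (iv6 D117422)))
theorem E88897 : n132441 = n126959 := ((((iv4 F204217)).symm.trans (sb E87103 F214049))).symm
theorem F324314 : act 6 n90497 = n62507 := (sb E87103 (iv6 D133207))
theorem E88898 : n132456 = n97109 := ((((iv2 F149846)).symm.trans (sb E87104 (iv2 F212554)))).symm
theorem F324315 : act 5 n92466 = n60774 := (sb E87104 (iv5 D129307))
theorem F324316 : act 0 n90508 = n132455 := (sb E87105 (iv1 F212553))
theorem F324317 : act 1 n90508 = n132454 := (sb E87105 F212557)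
theorem F324318 : act 2 n90508 = n132457 := (sb E87105 (iv2 F212555))
theorem F324319 : act 6 n90508 = n132446 := (sb E87105 (iv6 F212521))
theorem F324320 : act 7 n90508 = n60774 := (sb E87105 (iv7 D129308))
theorem F324321 : act 3 n71238 = n48053 := (sb E87106 (iv3 D103791))
theorem E88899 : n153708 = n103876 := ((D153708).symm.trans (sb E87107 (iv1 F293321)))
theorem E88900 : n153709 = n103873 := ((D153709).symm.trans (sb E87107 (iv0 F293230)))
theorem E88901 : n153710 = n48061 := ((D153710).symm.trans (sb E87107 (iv2 F293294)))
theorem F324322 : act 4 n72725 = n47990 := (sb E87107 F292254)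
theorem E88902 : n153711 = n46651 := ((D153711).symm.trans (sb E87107 (iv5 D99898)))
theorem F324323 : act 7 n72725 = n48053 := (sb E87107 (iv7 F293295))
theorem E88903 : n151226 = n100519 := (((D100519).symm.trans (sb E87108 D151226))).symm
theorem E88904 : n151227 = n100520 := (((D100520).symm.trans (sb E87108 D151227))).symm
theorem E88905 : n114641 = n100517 := ((((iv2 F154566)).symm.trans (sb E87108 (iv2 F178739)))).symm
theorem E88906 : n151228 = n22525 := (((F74098).symm.trans (sb E87108 D151228))).symm
theorem E88907 : n100521 = n32985 := ((D100521).symm.trans (sb E87108 (iv4 D71276)))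
theorem E88908 : n151230 = n100522 := (((D100522).symm.trans (sb E87108 D151230))).symm
theorem E88909 : n114376 = n99378 := ((((iv7 F153044)).symm.trans (sb E87108 (iv7 F178398)))).symm
theorem E88910 : n132657 = n60981 := (((F97286).symm.trans (sb E87109 (iv4 F212956)))).symm
theorem E88911 : n132983 = n61145 := ((D132983).symm.trans (sb E87109 (iv6 D130286)))
theorem E88912 : n132544 = n60901 := ((D132544).symm.trans (sb E87110 (iv6 D129650)))
theorem F324324 : act 6 n62338 = n61083 := (sb E87111 (iv6 D130097))
theorem F324325 : act 6 n62339 = n61084 := (sb E87112 (iv6 D130102))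
theorem F324326 : act 5 n61950 = n51069 := (sb E87116 (iv5 D110776))
theorem E88913 : n132017 = n106804 := ((D132017).symm.trans (sb E87116 F171470))
theorem E88916 : n107564 = n106617 := ((D107564).symm.trans (sb E87117 (iv2 F164221)))
theorem F324327 : act 4 n49694 = n49211 := (sb E87117 F96556)
theorem E88917 : n132030 = n49368 := (((F78521).symm.trans (sb E87117 D132030))).symm
theorem F324328 : act 6 n49694 = n29346 := (sb E87117 (iv6 D61954))
theorem E88918 : n132031 = n49367 := (((F78522).symm.trans (sb E87117 D132031))).symm
theorem E88919 : n132024 = n49370 := ((D132024).symm.trans (sb E87118 (iv5 D106853)))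
theorem F324329 : act 3 n106496 = n107557 := (sb E87119 (iv3 F165942))
theorem E88920 : n63853 = n52615 := (((iv1 F99315)).symm.trans (sb E87121 F233542))
theorem E88921 : n135586 = n52586 := ((D135586).symm.trans (sb E87121 (iv6 D113905)))
theorem F324330 : act 4 n113761 = n61885 := (sb E87123 F211281)
theorem F324331 : act 5 n113761 = n135625 := (sb E87123 (iv5 F218102))
theorem F324332 : act 3 n29319 = n52525 := (sb E87124 (iv3 D113762))
theorem F324333 : act 4 n29322 = n52525 := (sb E87125 (iv4 D113763))
theorem E88922 : n130100 = n114000 := (((iv0 F208581)).symm.trans (sb E87126 (iv0 F177493)))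
theorem F324334 : act 5 n63773 = n52525 := (sb E87126 (iv5 D113764))
theorem E88923 : n159578 = n135626 := (((D135626).symm.trans (sb E87126 (iv6 F251343)))).symm
theorem F324335 : act 3 n113765 = n61879 := (sb E87127 F211282)
theorem F324336 : act 4 n113765 = n61887 := (sb E87127 F211283)
theorem F324337 : act 2 n106548 = n52524 := (sb E87128 (iv2 D113756))
theorem F324338 : act 7 n106548 = n52525 := (sb E87128 (iv7 F177012))
theorem F324339 : act 3 n126838 = n61450 := (sb E87129 F209678)
theorem E88924 : n148753 = n132230 := (((iv4 F233536)).symm.trans (sb E87129 (iv4 F211864)))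
theorem F324340 : act 6 n126838 = n61447 := (sb E87129 (iv6 D130974))
theorem E88925 : n135998 = n133264 := (((iv2 F218796)).symm.trans (sb E87130 (iv2 F214224)))
theorem F324341 : act 5 n64358 = n61450 := (sb E87130 (iv5 D130984))
theorem F324342 : act 0 n62539 = n29633 := (sb E87132 (iv1 D62674))
theorem E88926 : n133550 = n61450 := (((F209627).symm.trans (sb E87132 (iv2 F214833)))).symm
theorem E88931 : n133545 = n92790 := ((((iv7 F319949)).symm.trans (sb E87132 F214832))).symm
theorem F324343 : act 1 n80571 = n66044 := (sb E87133 (iv0 D140744))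
theorem F324344 : act 0 n32595 = n66044 := (sb E87134 (iv1 D140745))
theorem F324345 : act 5 n140719 = n81555 := (sb E87135 F316374)
theorem F324346 : act 7 n140719 = n81719 := (sb E87135 F316375)
theorem F324347 : act 0 n140743 = n167879 := (sb E87136 F315509)
theorem F324348 : act 1 n140743 = n76698 := (sb E87136 F316376)
theorem F324349 : act 2 n140743 = n81734 := (sb E87136 F315510)
theorem F324350 : act 5 n140743 = n167897 := (sb E87136 F315511)
theorem F324351 : act 7 n140743 = n81723 := (sb E87136 F315512)
theorem F324352 : act 5 n37250 = n66044 := (sb E87137 (iv5 D140746))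
theorem F324353 : act 6 n37250 = n66048 := (sb E87137 F223838)
theorem E88932 : n142088 = n81724 := (((D81724).symm.trans (sb E87138 (iv6 F225116)))).symm
theorem F324354 : act 7 n37350 = n66044 := (sb E87138 (iv7 D140747))
theorem F324355 : act 4 n140722 = n82586 := (sb E87149 F250471)
theorem F324356 : act 6 n140722 = n81555 := (sb E87149 F250472)
theorem F324357 : act 1 n86532 = n66039 := (sb E87150 (iv0 D140736))
theorem F324358 : act 1 n140737 = n180009 := (sb E87151 (iv0 F302798))
theorem F324359 : act 2 n140737 = n181208 := (sb E87151 (iv2 F282242))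
theorem F324360 : act 4 n140737 = n79712 := (sb E87151 (iv4 D166028))
theorem F324361 : act 5 n140737 = n181234 := (sb E87151 (iv5 F282293))
theorem F324362 : act 7 n140737 = n178902 := (sb E87151 (iv7 F306689))
theorem F324363 : act 4 n140738 = n79866 := (sb E87152 (iv4 D166325))
theorem F324364 : act 1 n80470 = n66048 := (sb E87153 (iv0 D140758))
theorem F324365 : act 0 n34730 = n66048 := (sb E87154 (iv1 D140759))
theorem E88933 : n142048 = n75997 := (((D75997).symm.trans (sb E87154 (iv5 F225066)))).symm
theorem F324366 : act 4 n39993 = n66048 := (sb E87155 (iv4 D140760))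
theorem F324367 : act 7 n138563 = n66048 := (sb E87156 (iv7 D140761))
theorem F324368 : act 4 n138561 = n144177 := (sb E87157 (iv4 F226877))
theorem F324369 : act 7 n138561 = n66033 := (sb E87157 (iv7 D140723))
theorem F324370 : act 7 n138562 = n66039 := (sb E87158 (iv7 D140739))
theorem F324371 : act 6 n115838 = n65066 := (sb E87159 (iv6 D138564))
theorem F324372 : act 3 n141281 = n79030 := (sb E87160 (iv3 D164550))
theorem E88934 : n138381 = n71138 := ((((iv1 F318716)).symm.trans (sb E87161 F322552))).symm
theorem E88936 : n116048 = n71144 := ((D116048).symm.trans (sb E87161 F322554))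
theorem F324373 : act 6 n53487 = n68721 := (sb E87161 (iv6 D146648))
theorem E88937 : n116053 = n71143 := ((D116053).symm.trans (sb E87161 F322555))
theorem F324374 : act 2 n120091 = n74148 := (sb E87162 F244900)
theorem F324375 : act 6 n127007 = n62487 := (sb E87163 (iv6 D133177))
theorem F324376 : act 7 n127007 = n127093 := (sb E87163 (iv7 F213957))
theorem F324377 : act 4 n29533 = n59605 := (sb E87164 (iv4 D127008))
theorem F324378 : act 6 n29531 = n59605 := (sb E87165 (iv6 D127009))
theorem F324379 : act 1 n117906 = n146619 := (sb E87166 (iv0 F233137))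
theorem E88938 : n68625 = n54310 := ((((iv5 D117906)).symm.trans (sb E87166 (iv5 D146354)))).symm
theorem F324380 : act 5 n102513 = n51728 := (sb E87167 (iv5 D112158))
theorem F324381 : act 7 n102513 = n109938 := (sb E87167 F174397)
theorem F324382 : act 1 n102512 = n67078 := (sb E87168 (iv0 D143136))
theorem F324383 : act 2 n102512 = n102645 := (sb E87168 (iv2 F322922))
theorem F324384 : act 4 n102512 = n109553 := (sb E87168 F225992)
theorem F324385 : act 5 n102512 = n112245 := (sb E87168 F225991)
theorem F324386 : act 0 n102511 = n67078 := (sb E87169 F174382)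
theorem F324387 : act 4 n102511 = n51569 := (sb E87169 (iv4 D111838))
theorem F324388 : act 7 n102511 = n102645 := (sb E87169 (iv7 F322924))
theorem F324389 : act 2 n102514 = n67078 := (sb E87170 (iv2 D143137))
theorem F324390 : act 4 n102514 = n109938 := (sb E87170 F225994)
theorem E88939 : n112010 = n47547 := ((((iv1 F153714)).symm.trans (sb E87171 F226162))).symm
theorem F324391 : act 3 n99835 = n67079 := (sb E87171 F225995)
theorem F324392 : act 4 n99835 = n112281 := (sb E87171 F225996)
theorem F324393 : act 5 n99835 = n67078 := (sb E87171 (iv5 D143138))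
theorem F324394 : act 6 n74599 = n53686 := (sb E87172 (iv6 D116488))
theorem F324395 : act 6 n138934 = n66800 := (sb E87175 (iv6 D142472))
theorem E88940 : n66099 = n34115 := ((((iv5 F310575)).symm.trans (sb E87178 (iv5 D140911)))).symm
theorem F324396 : act 2 n140799 = n74485 := (sb E87179 F246334)
theorem F324397 : act 3 n140799 = n138671 := (sb E87179 F246335)
theorem F324398 : act 5 n140799 = n74478 := (sb E87179 (iv5 D156625))
theorem F324399 : act 7 n139094 = n67048 := (sb E87180 (iv7 D143073))
theorem F324400 : act 6 n145915 = n78988 := (sb E87181 (iv6 D164473))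
theorem F324401 : act 3 n79965 = n79951 := (sb E87182 F262139)
theorem E88941 : n166621 = n160386 := ((D166621).symm.trans (sb E87182 F298909))
theorem E88942 : n166612 = n79949 := (((iv6 F262211)).symm.trans (sb E87182 (iv6 D166579)))
theorem E88943 : n166622 = n162840 := ((D166622).symm.trans (sb E87182 (iv7 F262140)))
theorem E88944 : n172135 = n118629 := ((D172135).symm.trans (sb E87183 (iv1 F317039)))
theorem E88945 : n172136 = n80431 := ((D172136).symm.trans (sb E87183 (iv0 D167593)))
theorem F324402 : act 4 n82442 = n133857 := (sb E87183 (iv4 F315473))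
theorem F324403 : act 1 n33714 = n72858 := (sb E87184 (iv0 D153947))
theorem F324404 : act 0 n153896 = n72858 := (sb E87185 (iv1 D153948))
theorem F324405 : act 7 n123213 = n73265 := (sb E87186 (iv7 D154564))
theorem F324406 : act 2 n153950 = n73265 := (sb E87189 (iv2 D154560))
theorem F324407 : act 1 n155537 = n178689 := (sb E87195 F278510)
theorem F324408 : act 2 n155537 = n82585 := (sb E87195 F270698)
theorem F324409 : act 5 n155537 = n82584 := (sb E87195 (iv5 D172496))
theorem F324411 : act 3 n50475 = n48516 := (sb E87198 (iv3 F138258))
theorem E88947 : n181706 = n109398 := (((D109398).symm.trans (sb E87198 (iv4 F282854)))).symm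
theorem F324412 : act 5 n50475 = n48516 := (sb E87198 (iv5 F299548))
theorem F324413 : act 6 n50475 = n58117 := (sb E87198 F297393)
theorem F324414 : act 0 n41268 = n50945 := (sb E87199 (iv1 F80363))
theorem F324415 : act 1 n41268 = n24597 := (sb E87199 (iv0 D50473))
theorem F324416 : act 2 n41268 = n28155 := (sb E87199 F173286)
theorem E88948 : n109390 = n88392 := ((((iv4 F135383)).symm.trans (sb E87199 D109390))).symm
theorem F324417 : act 5 n41268 = n28072 := (sb E87199 F170858)
theorem F324418 : act 7 n41268 = n28150 := (sb E87199 F173287)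
theorem E88950 : n162855 = n125675 := (((F202161).symm.trans (sb E87200 F257139))).symm
theorem E88951 : n163443 = n125604 := ((((iv3 F202056)).symm.trans (sb E87200 (iv3 F257730)))).symm
theorem E88952 : n163445 = n126424 := (((D126424).symm.trans (sb E87200 D163445))).symm
theorem E88953 : n126425 = n35784 := ((D126425).symm.trans (sb E87200 (iv6 D78547)))
theorem F324419 : act 7 n59311 = n86033 := (sb E87200 (iv7 F297299))
theorem F324420 : act 6 n19836 = n28155 := (sb E87201 (iv6 D59312))
theorem F324421 : act 0 n50566 = n57557 := (sb E87202 F115514)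
theorem F324422 : act 1 n50566 = n35137 := (sb E87202 (iv0 D76896))
theorem F324423 : act 2 n50566 = n57423 := (sb E87202 (iv2 F115513))
theorem E88958 : n160414 = n109619 := (((D109619).symm.trans (sb E87202 D160414))).symm
theorem E88959 : n109620 = n57230 := ((D109620).symm.trans (sb E87202 F115512))
theorem F324424 : act 1 n59284 = n57423 := (sb E87203 F115525)
theorem F324425 : act 2 n59284 = n57557 := (sb E87203 F115521)
theorem E88960 : n160413 = n108732 := ((((iv4 F170951)).symm.trans (sb E87203 (iv4 F253375)))).symm
theorem E88961 : n126372 = n56631 := ((D126372).symm.trans (sb E87203 (iv6 F299427)))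
theorem F324426 : act 7 n59284 = n35137 := (sb E87203 (iv7 D76898))
theorem E88962 : n108733 = n84794 := (((iv1 F173748)).symm.trans (sb E87204 F302661))
theorem E88963 : n160410 = n51587 := ((((iv0 D111873)).symm.trans (sb E87204 F253377))).symm
theorem F324427 : act 4 n111873 = n57557 := (sb E87204 F197915)
theorem F324428 : act 6 n111873 = n57556 := (sb E87204 (iv6 D123502))
theorem F324429 : act 7 n111873 = n57928 := (sb E87204 F197916)
theorem F324430 : act 3 n11761 = n19039 := (sb E87213 F61305)
theorem F324431 : act 5 n11761 = n19037 := (sb E87213 (iv5 D40285))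
theorem F324432 : act 3 n16413 = n24827 := (sb E87216 F80492)
theorem E88980 : n77344 = n50807 := ((((iv2 F80183)).symm.trans (sb E87217 F119134))).symm
theorem F324433 : act 3 n24725 = n41870 := (sb E87217 F119135)
theorem E88981 : n162163 = n50822 := (((D50822).symm.trans (sb E87217 (iv4 F256262)))).symm
theorem E88982 : n50823 = n35548 := ((D50823).symm.trans (sb E87217 (iv6 D77909)))
theorem F324434 : act 7 n78831 = n111895 := (sb E87218 F173839)
theorem F324435 : act 2 n78316 = n50794 := (sb E87220 F170289)
theorem E88983 : n162917 = n110461 := ((D162917).symm.trans (sb E87220 (iv4 F170954)))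
theorem F324436 : act 5 n78316 = n50792 := (sb E87220 (iv5 D110136))
theorem F324437 : act 2 n102819 = n111895 := (sb E87221 F173838)
theorem F324438 : act 3 n102819 = n111811 := (sb E87221 F173585)
theorem F324439 : act 4 n50540 = n47687 := (sb E87222 (iv4 D102822))
theorem F324440 : act 6 n50540 = n84195 := (sb E87222 F158088)
theorem E88984 : n83466 = n51655 := (((iv4 F298013)).symm.trans (sb E87223 (iv4 D112002)))
theorem E88985 : n84271 = n11899 := ((((iv3 D25050)).symm.trans (sb E87224 (iv3 F129350)))).symm
theorem E88986 : n84275 = n51569 := (((D51569).symm.trans (sb E87224 D84275))).symm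
theorem E88987 : n51570 = n18467 := ((D51570).symm.trans (sb E87224 (iv6 D38865)))
theorem E88988 : n109554 = n82951 := ((D109554).symm.trans (sb E87225 F250141))
theorem E88989 : n57925 = n25184 := (((iv3 F91647)).symm.trans (sb E87227 F81934))
theorem F324441 : act 5 n35236 = n25182 := (sb E87227 (iv5 D51898))
theorem E88991 : n121139 = n24589 := ((((iv1 D50450)).symm.trans (sb E87229 F254899))).symm
theorem E88992 : n84198 = n51657 := (((F81563).symm.trans (sb E87229 F298076))).symm
theorem F324442 : act 4 n50450 = n36458 := (sb E87229 (iv4 D80069))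
theorem E88994 : n109331 = n82947 := ((D109331).symm.trans (sb E87229 F298078))
theorem F324443 : act 3 n12984 = n12001 := (sb E87231 F39898)
theorem F324444 : act 6 n12984 = n12000 := (sb E87231 (iv6 D25277))
theorem F324445 : act 4 n68195 = n86710 := (sb E87235 F282791)
theorem E88999 : n145454 = n86709 := ((D145454).symm.trans (sb E87235 (iv6 D181682)))
theorem F324446 : act 7 n68195 = n95272 := (sb E87235 (iv7 F296831))
theorem F324447 : act 3 n50468 = n44984 := (sb E87236 F115506)
theorem E89001 : n121268 = n109373 := (((D109373).symm.trans (sb E87236 (iv4 F193373)))).symm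
theorem E89002 : n109375 = n35135 := ((D109375).symm.trans (sb E87236 (iv6 D76892)))
theorem F324448 : act 2 n68196 = n95272 := (sb E87237 F148262)
theorem F324449 : act 4 n68196 = n44984 := (sb E87237 F148263)
theorem E89003 : n145456 = n44983 := ((D145456).symm.trans (sb E87237 (iv6 D96336)))
theorem F324450 : act 0 n104971 = n59062 := (sb E87238 (iv1 F176850))
theorem F324451 : act 2 n104971 = n110692 := (sb E87238 (iv2 F176849))
theorem F324452 : act 3 n104971 = n52475 := (sb E87238 (iv3 D113656))
theorem F324453 : act 5 n104971 = n126385 := (sb E87238 (iv5 F203220))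
theorem F324454 : act 0 n78280 = n50794 := (sb E87239 (iv1 D110142))
theorem F324455 : act 0 n96428 = n110692 := (sb E87240 F171356)
theorem F324456 : act 7 n96428 = n59062 := (sb E87240 F170997)
theorem E89004 : n110462 = n86723 := ((((iv4 F133011)).symm.trans (sb E87241 F170944))).symm
theorem F324457 : act 7 n40216 = n50794 := (sb E87241 (iv7 D110144))
theorem F324458 : act 7 n78315 = n110535 := (sb E87242 F175634)
theorem E89023 : n35239 = n25185 := (((D25185).symm.trans (sb E87258 (iv6 D77198)))).symm
theorem F324459 : act 2 n51897 = n80000 := (sb E87259 (iv2 F122791))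
theorem E89024 : n160868 = n112487 := (((D112487).symm.trans (sb E87259 (iv3 F254034)))).symm
theorem E89025 : n160872 = n112488 := (((D112488).symm.trans (sb E87259 D160872))).symm
theorem E89026 : n112489 = n35240 := ((D112489).symm.trans (sb E87259 (iv6 D77201)))
theorem F324460 : act 6 n17101 = n25182 := (sb E87260 (iv6 D51899))
theorem F324461 : act 4 n112148 = n80003 := (sb E87261 F299576)
theorem F324462 : act 6 n112148 = n75800 := (sb E87261 (iv6 D158857))
theorem F324463 : act 7 n112148 = n80000 := (sb E87261 F299577)
theorem F324464 : act 4 n51700 = n80002 := (sb E87262 (iv4 D166688))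
theorem E89033 : n50679 = n35242 := ((D50679).symm.trans (sb E87263 (iv6 D77207)))
theorem E89034 : n112112 = n83142 := ((D112112).symm.trans (sb E87264 F262389))
theorem F324465 : act 3 n69214 = n51845 := (sb E87265 (iv3 D112388))
theorem F324466 : act 7 n69214 = n110000 := (sb E87265 F174843)
theorem F324467 : act 5 n39422 = n51845 := (sb E87266 (iv5 D112389))
theorem F324468 : act 6 n35851 = n51845 := (sb E87267 (iv6 D112390))
theorem F324469 : act 7 n51824 = n50739 := (sb E87272 (iv7 D110006))
theorem F324470 : act 2 n69213 = n131530 := (sb E87273 (iv2 F216679))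
theorem E89035 : n147695 = n62436 := ((D147695).symm.trans (sb E87273 (iv5 D133066)))
theorem E89036 : n147696 = n131534 := ((D147696).symm.trans (sb E87273 (iv7 F216678)))
theorem F324471 : act 6 n84619 = n77807 := (sb E87274 (iv6 D161989))
theorem E89037 : n81647 = n59186 := (((D59186).symm.trans (sb E87275 F299353))).symm
theorem F324472 : act 6 n40086 = n50792 := (sb E87276 (iv6 D110137))
theorem F324473 : act 3 n24722 = n35779 := (sb E87277 F116156)
theorem E89039 : n50812 = n35310 := ((D50812).symm.trans (sb E87277 (iv6 D77345)))
theorem E89040 : n163414 = n59188 := (((D59188).symm.trans (sb E87278 (iv3 F257694)))).symm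
theorem F324474 : act 4 n28110 = n35779 := (sb E87278 F119713)
theorem E89042 : n59190 = n35778 := ((D59190).symm.trans (sb E87278 (iv6 D78535)))
theorem E89043 : n126381 = n59055 := (((F169775).symm.trans (sb E87281 (iv4 F203214)))).symm
theorem E89044 : n112440 = n50791 := ((D112440).symm.trans (sb E87281 (iv6 D110135)))
theorem E89045 : n113479 = n76960 := ((D113479).symm.trans (sb E87282 (iv6 D160510)))
theorem E89046 : n163597 = n111698 := ((((iv3 F173417)).symm.trans (sb E87283 (iv3 F257863)))).symm
theorem E89048 : n126115 = n35808 := ((D126115).symm.trans (sb E87283 (iv6 D78605)))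
theorem F324475 : act 0 n112395 = n78620 := (sb E87284 (iv1 D163635))
theorem F324476 : act 1 n112395 = n95263 := (sb E87284 (iv0 F297304))
theorem F324477 : act 2 n112395 = n163491 := (sb E87284 F257907)
theorem F324478 : act 5 n112395 = n78754 := (sb E87284 (iv5 F257904))
theorem F324479 : act 7 n112395 = n78754 := (sb E87284 F257900)
theorem F324480 : act 6 n51826 = n50741 := (sb E87285 (iv6 D110009))
theorem F324481 : act 0 n112397 = n84621 := (sb E87286 (iv1 F199136))
theorem F324482 : act 1 n112397 = n58104 := (sb E87286 (iv0 D124500))
theorem F324483 : act 2 n112397 = n84619 := (sb E87286 (iv2 F199134))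
theorem F324484 : act 4 n112397 = n58417 := (sb E87286 (iv4 F313897))
theorem F324485 : act 6 n112397 = n66141 := (sb E87286 F322239)
theorem F324486 : act 7 n112397 = n58414 := (sb E87286 F313780)
theorem F324487 : act 5 n35858 = n51852 := (sb E87287 (iv5 D112401))
theorem F324488 : act 7 n35858 = n51852 := (sb E87288 (iv7 D112402))
theorem F324489 : act 2 n24558 = n39896 := (sb E87292 F126245)
theorem E89049 : n170839 = n50376 := (((D50376).symm.trans (sb E87292 (iv3 F268437)))).symm
theorem F324490 : act 4 n24558 = n37506 := (sb E87292 F126246)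
theorem E89050 : n170842 = n50378 := (((D50378).symm.trans (sb E87292 D170842))).symm
theorem E89051 : n50379 = n37505 := ((D50379).symm.trans (sb E87292 (iv6 D81903)))
theorem F324491 : act 0 n24561 = n39896 := (sb E87293 (iv1 D86201))
theorem F324492 : act 1 n24559 = n39896 := (sb E87295 (iv0 D86200))
theorem F324493 : act 0 n109108 = n58037 := (sb E87297 F297556)
theorem F324494 : act 1 n109108 = n58036 := (sb E87297 F297557)
theorem F324495 : act 4 n109108 = n57892 := (sb E87297 (iv4 D124192))
theorem F324496 : act 7 n109108 = n57965 := (sb E87297 F297559)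
theorem E89058 : n180508 = n108734 := (((F169606).symm.trans (sb E87298 (iv2 F280927)))).symm
theorem F324497 : act 7 n86202 = n50373 := (sb E87299 (iv7 D109126))
theorem F324498 : act 0 n109127 = n57965 := (sb E87300 (iv1 D124332))
theorem F324499 : act 2 n109127 = n58037 := (sb E87300 (iv2 F198848))
theorem F324500 : act 4 n109127 = n80196 := (sb E87300 F297554)
theorem F324501 : act 6 n109127 = n76805 := (sb E87300 F297555)
theorem F324502 : act 7 n109127 = n58036 := (sb E87300 F198846)
theorem F324503 : act 0 n77863 = n50374 := (sb E87301 (iv1 D109128))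
theorem F324504 : act 1 n109129 = n161962 := (sb E87302 (iv0 F255964))
theorem F324505 : act 7 n109129 = n58039 := (sb E87302 (iv7 D124459))
theorem F324506 : act 7 n27677 = n50374 := (sb E87303 (iv7 D109130))
theorem E89059 : n158065 = n112222 := ((((iv3 F174511)).symm.trans (sb E87305 (iv3 F249011)))).symm
theorem E89061 : n112244 = n34472 := ((D112244).symm.trans (sb E87305 (iv6 D75295)))
theorem E89062 : n51613 = n16789 := ((D51613).symm.trans (sb E87306 (iv6 D34666)))
theorem F324507 : act 6 n16725 = n25147 := (sb E87307 (iv6 D51796))
theorem E89069 : n82915 = n50606 := (((D50606).symm.trans (sb E87309 F129362))).symm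
theorem F324508 : act 6 n11665 = n18341 := (sb E87310 (iv6 D38485))
theorem E89070 : n50635 = n18306 := ((D50635).symm.trans (sb E87311 (iv1 F58997)))
theorem E89071 : n50636 = n18305 := ((D50636).symm.trans (sb E87311 F58999))
theorem F324509 : act 2 n24659 = n18308 := (sb E87311 F58994)
theorem E89072 : n50637 = n18238 := ((D50637).symm.trans (sb E87311 F58995))
theorem E89073 : n50638 = n18237 := ((D50638).symm.trans (sb E87311 (iv7 D38150)))
theorem F324510 : act 0 n51794 = n38879 := (sb E87312 F250151)
theorem E89077 : n112283 = n112153 := ((D112283).symm.trans (sb E87313 (tr (iv1 F199372) E88562)))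
theorem E89078 : n112284 = n38844 := ((D112284).symm.trans (sb E87313 (iv0 D84229)))
theorem F324511 : act 2 n50816 = n38879 := (sb E87314 F113699)
theorem E89081 : n158881 = n110205 := (((D110205).symm.trans (sb E87314 (iv3 F250162)))).symm
theorem E89082 : n158884 = n110206 := (((D110206).symm.trans (sb E87314 D158884))).symm
theorem E89083 : n110207 = n34667 := ((D110207).symm.trans (sb E87314 (iv6 D75812)))
theorem F324512 : act 0 n84316 = n50626 := (sb E87315 (iv1 D109770))
theorem F324513 : act 1 n84316 = n50631 := (sb E87315 F169767)
theorem F324514 : act 2 n84316 = n110119 := (sb E87315 (iv2 F170250))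
theorem E89084 : n176864 = n111954 := (((iv3 F276235)).symm.trans (sb E87315 F173962))
theorem E89085 : n112154 = n50628 := (((D50628).symm.trans (sb E87318 F174635))).symm
theorem F324515 : act 6 n25145 = n24683 := (sb E87319 (iv6 D50701))
theorem F324516 : act 1 n78844 = n50628 := (sb E87321 (iv0 D109775))
theorem F324517 : act 0 n78847 = n50628 := (sb E87322 (iv1 D109776))
theorem E89090 : n112155 = n50628 := ((D112155).symm.trans (sb E87324 (iv7 D109778)))
theorem E89093 : n110280 = n57440 := ((D110280).symm.trans (sb E87325 (iv6 D123345)))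
theorem F324518 : act 6 n27482 = n28148 := (sb E87326 (iv6 D59285))
theorem E89098 : n124259 = n110273 := (((D110273).symm.trans (sb E87327 (iv3 F198756)))).symm
theorem F324519 : act 4 n50850 = n27646 := (sb E87327 F91653)
theorem E89100 : n110276 = n27645 := ((D110276).symm.trans (sb E87327 (iv6 D57933)))
theorem E89101 : n84575 = n51882 := (((D51882).symm.trans (sb E87329 F253434))).symm
theorem E89102 : n124285 = n51900 := (((D51900).symm.trans (sb E87330 (iv3 F198777)))).symm
theorem E89104 : n51902 = n27648 := ((D51902).symm.trans (sb E87330 (iv6 D57942)))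
theorem F324520 : act 6 n51727 = n50630 := (sb E87332 (iv6 D109783))
theorem F324521 : act 0 n37504 = n51676 := (sb E87333 (iv1 F173314))
theorem E89105 : n81898 = n66019 := (((iv4 F126232)).symm.trans (sb E87333 F170323))
theorem F324522 : act 4 n50797 = n39898 := (sb E87335 (iv4 D86211))
theorem E89108 : n180524 = n110152 := (((D110152).symm.trans (sb E87335 D180524))).symm
theorem E89109 : n170861 = n110159 := ((((iv3 F170311)).symm.trans (sb E87337 (iv3 F268470)))).symm
theorem E89110 : n170863 = n110164 := ((((iv5 F170315)).symm.trans (sb E87337 D170863))).symm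
theorem E89111 : n110169 = n37508 := ((D110169).symm.trans (sb E87337 (iv6 D81912)))
theorem E89114 : n112159 = n50631 := (((D50631).symm.trans (sb E87339 (iv4 F174399)))).symm
theorem F324523 : act 6 n24657 = n25119 := (sb E87339 (iv6 D51730))
theorem E89117 : n109441 = n86173 := (((D86173).symm.trans (sb E87340 D109441))).symm
theorem F324524 : act 5 n39884 = n51609 := (sb E87340 (iv5 F171330))
theorem F324525 : act 7 n39884 = n51676 := (sb E87340 (iv7 F173315))
theorem E89119 : n86168 = n51365 := ((((iv1 D111372)).symm.trans (sb E87341 F297664))).symm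
theorem E89120 : n86167 = n66020 := (((F172852).symm.trans (sb E87341 F297665))).symm
theorem F324526 : act 4 n111372 = n57890 := (sb E87341 F198660)
theorem F324527 : act 6 n111372 = n57889 := (sb E87341 (iv6 D124190))
theorem E89121 : n160848 = n51677 := (((D51677).symm.trans (sb E87347 (iv4 F254011)))).symm
theorem E89122 : n58017 = n51679 := (((D51679).symm.trans (sb E87347 (iv6 D124418)))).symm
theorem E89123 : n157870 = n110176 := (((F174180).symm.trans (sb E87348 (iv0 F260987)))).symm
theorem F324528 : act 6 n112047 = n58022 := (sb E87348 (iv6 D124433))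
theorem F324529 : act 6 n27673 = n51676 := (sb E87349 (iv6 D112048))
theorem F324530 : act 6 n110170 = n57552 := (sb E87350 (iv6 D123488))
theorem F324531 : act 4 n140703 = n84872 := (sb E87352 F277714)
theorem F324532 : act 6 n140703 = n84802 := (sb E87352 (iv6 D178159))
theorem F324533 : act 7 n140703 = n86164 := (sb E87352 F277715)
theorem E89124 : n86169 = n51511 := ((((iv7 F172848)).symm.trans (sb E87353 F277718))).symm
theorem E89125 : n108735 = n84656 := (((F129869).symm.trans (sb E87354 (iv0 F223792)))).symm
theorem F324534 : act 6 n39189 = n66018 := (sb E87354 (iv6 D140704))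
theorem F324535 : act 7 n39882 = n66018 := (sb E87355 (iv7 F172845))
theorem F324536 : act 0 n50562 = n78831 := (sb E87357 (iv1 F201651))
theorem F324537 : act 1 n50562 = n102819 := (sb E87357 (iv0 F201649))
theorem E89126 : n109609 = n84193 := ((D109609).symm.trans (sb E87357 F201647))
theorem E89127 : n109611 = n18452 := ((((iv1 D38821)).symm.trans (sb E87358 D109611))).symm
theorem F324538 : act 2 n38821 = n51612 := (sb E87358 (iv2 F173340))
theorem F324539 : act 6 n38821 = n24631 := (sb E87358 (iv6 D50564))
theorem E89130 : n109614 = n37449 := (((F117758).symm.trans (sb E87358 D109614))).symm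
theorem E89131 : n78768 = n51903 := ((((iv0 F170971)).symm.trans (sb E87359 (iv0 F197625)))).symm
theorem F324540 : act 4 n108860 = n57423 := (sb E87359 F197623)
theorem F324541 : act 6 n108860 = n57422 := (sb E87359 (iv6 D123320))
theorem F324542 : act 7 n108860 = n84779 := (sb E87359 F302660)
theorem F324543 : act 0 n50903 = n86184 := (sb E87360 (iv1 F277931))
theorem F324544 : act 1 n50903 = n84872 := (sb E87360 (iv0 D178381))
theorem F324545 : act 0 n112729 = n84872 := (sb E87361 (iv1 D178382))
theorem F324546 : act 1 n112729 = n86184 := (sb E87361 F277932)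
theorem F324547 : act 0 n112727 = n86186 := (sb E87362 (iv1 F277885))
theorem F324548 : act 2 n112727 = n84872 := (sb E87362 F277883)
theorem F324549 : act 6 n112727 = n84853 := (sb E87362 (iv6 D178303))
theorem F324550 : act 7 n112727 = n86184 := (sb E87362 F277884)
theorem F324551 : act 6 n44986 = n59059 := (sb E87363 (iv6 D126053))
theorem E89132 : n84514 = n58937 := (((D58937).symm.trans (sb E87370 (iv6 D177388)))).symm
theorem E89133 : n169920 = n58939 := (((D58939).symm.trans (sb E87371 (iv3 F267342)))).symm
theorem F324552 : act 4 n28013 = n44985 := (sb E87371 F125359)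
theorem E89135 : n58941 = n37217 := ((D58941).symm.trans (sb E87371 (iv6 D81508)))
theorem E89136 : n126137 = n35904 := ((D126137).symm.trans (sb E87373 F120032))
theorem E89137 : n163624 = n126138 := (((D126138).symm.trans (sb E87373 (iv4 F300045)))).symm
theorem E89138 : n126139 = n35902 := ((D126139).symm.trans (sb E87373 (iv5 D78870)))
theorem E89139 : n126140 = n39214 := ((D126140).symm.trans (sb E87373 F120033))
theorem E89140 : n126131 = n39841 := ((F202835).symm.trans (sb E87373 F120034))
theorem E89141 : n126132 = n121281 := ((D126132).symm.trans (sb E87374 (iv3 F297669)))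
theorem E89142 : n169891 = n126133 := (((D126133).symm.trans (sb E87374 (iv4 F267322)))).symm
theorem E89143 : n126134 = n75177 := ((D126134).symm.trans (sb E87374 F125348))
theorem E89144 : n126135 = n37211 := ((D126135).symm.trans (sb E87374 (iv6 D81496)))
theorem E89145 : n84362 = n68192 := ((((iv6 F104364)).symm.trans (sb E87381 F160859))).symm
theorem E89146 : n81606 = n68309 := (((D68309).symm.trans (sb E87382 F297599))).symm
theorem E89147 : n68310 = n55603 := ((D68310).symm.trans (sb E87382 F117032))
theorem F324553 : act 2 n31786 = n18501 := (sb E87382 F116885)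
theorem F324554 : act 5 n31786 = n18479 := (sb E87382 (iv5 D38901))
theorem F324555 : act 0 n104978 = n68196 := (sb E87383 (iv1 F170980))
theorem F324556 : act 1 n104978 = n68195 := (sb E87383 F170922)
theorem F324557 : act 2 n104978 = n50952 := (sb E87383 (iv2 D110498))
theorem F324558 : act 3 n104978 = n113245 := (sb E87383 (iv3 F176438))
theorem F324559 : act 5 n104978 = n126246 := (sb E87383 (iv5 F203025))
theorem F324560 : act 7 n104978 = n68197 := (sb E87383 F170921)
theorem F324561 : act 2 n39801 = n50957 := (sb E87384 F171008)
theorem F324562 : act 0 n104969 = n107170 := (sb E87385 (iv1 F176425))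
theorem F324563 : act 1 n104969 = n52270 := (sb E87385 (iv0 D113238))
theorem F324564 : act 2 n104969 = n107169 := (sb E87385 F176433)
theorem F324565 : act 7 n104969 = n107168 := (sb E87385 (iv7 F176426))
theorem E89150 : n112134 = n35740 := ((F174343).symm.trans (sb E87406 (iv1 F119621)))
theorem E89151 : n125953 = n35739 := ((D125953).symm.trans (sb E87406 (iv0 D78422)))
theorem F324566 : act 3 n58974 = n121086 := (sb E87406 (iv3 F193121))
theorem E89152 : n163114 = n125954 := (((D125954).symm.trans (sb E87406 D163114))).symm
theorem E89154 : n163166 = n125971 := (((D125971).symm.trans (sb E87407 D163166))).symm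
theorem E89162 : n163164 = n125976 := (((D125976).symm.trans (sb E87408 D163164))).symm
theorem E89163 : n163171 = n110400 := (((F170765).symm.trans (sb E87409 (iv1 F257469)))).symm
theorem E89164 : n163170 = n125977 := (((D125977).symm.trans (sb E87409 F257468))).symm
theorem F324567 : act 3 n58984 = n35748 := (sb E87409 F119629)
theorem E89165 : n163189 = n125978 := (((D125978).symm.trans (sb E87409 (iv4 F257477)))).symm
theorem E89166 : n163193 = n125969 := ((((iv6 F202649)).symm.trans (sb E87409 D163193))).symm
theorem E89167 : n125979 = n35742 := ((D125979).symm.trans (sb E87409 (iv7 D78440)))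
theorem F324568 : act 7 n17321 = n28030 := (sb E87410 (iv7 D58985))
theorem E89168 : n163794 = n110353 := (((iv1 F258154)).symm.trans (sb E87411 (iv1 F175427)))
theorem E89169 : n163793 = n110352 := ((F258157).symm.trans (sb E87411 F175425))
theorem E89170 : n163795 = n52024 := (((iv2 F258155)).symm.trans (sb E87411 (iv2 D112711)))
theorem F324569 : act 4 n78713 = n110589 := (sb E87411 F175423)
theorem F324570 : act 2 n59597 = n51857 := (sb E87413 F174874)
theorem F324571 : act 5 n59597 = n51853 := (sb E87413 (iv5 D112404))
theorem F324572 : act 6 n26928 = n51853 := (sb E87414 (iv6 D112405))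
theorem F324573 : act 4 n77450 = n39846 := (sb E87415 (iv4 F322528))
theorem F324574 : act 6 n77450 = n51856 := (sb E87415 (iv6 D112415))
theorem F324575 : act 6 n50747 = n77684 := (sb E87416 (iv6 D161717))
theorem F324576 : act 2 n50888 = n35841 := (sb E87419 F119845)
theorem E89171 : n163173 = n110355 := (((D110355).symm.trans (sb E87419 (iv5 F257472)))).symm
theorem E89172 : n110356 = n35837 := ((D110356).symm.trans (sb E87419 (iv6 D78696)))
theorem E89173 : n109364 = n27109 := ((F169369).symm.trans (sb E87420 (iv1 F88481)))
theorem E89174 : n110358 = n27108 := ((D110358).symm.trans (sb E87420 F88482))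
theorem E89175 : n121224 = n24750 := (((F80285).symm.trans (sb E87420 D121224))).symm
theorem E89176 : n110359 = n26972 := ((D110359).symm.trans (sb E87420 (iv5 D55926)))
theorem E89177 : n110360 = n27110 := ((D110360).symm.trans (sb E87420 F88480))
theorem E89179 : n121236 = n24764 := (((D24764).symm.trans (sb E87422 D121236))).symm
theorem E89180 : n121237 = n24765 := (((D24765).symm.trans (sb E87422 D121237))).symm
theorem E89181 : n27073 = n24766 := (((D24766).symm.trans (sb E87422 F88486))).symm
theorem E89182 : n121227 = n110435 := (((D110435).symm.trans (sb E87423 D121227))).symm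
theorem E89184 : n110436 = n35838 := ((D110436).symm.trans (sb E87423 F256342))
theorem E89186 : n121232 = n110438 := (((D110438).symm.trans (sb E87424 D121232))).symm
theorem E89188 : n110439 = n35839 := ((D110439).symm.trans (sb E87424 F256346))
theorem E89189 : n121235 = n110440 := (((D110440).symm.trans (sb E87424 D121235))).symm
theorem F324577 : act 5 n12906 = n24763 := (sb E87425 (iv5 D50925))
theorem E89194 : n52052 = n27104 := ((((iv6 F43811)).symm.trans (sb E87426 (iv6 F82268)))).symm
theorem F324578 : act 7 n12985 = n24763 := (sb E87426 (iv7 D50926))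
theorem F324579 : act 3 n25266 = n27106 := (sb E87427 F88979)
theorem E89198 : n121562 = n11995 := (((F39865).symm.trans (sb E87427 (iv4 F193958)))).symm
theorem E89199 : n121744 = n52051 := (((D52051).symm.trans (sb E87427 (iv5 F194305)))).symm
theorem F324580 : act 3 n11734 = n6166 := (sb E87428 F21569)
theorem E89200 : n24788 = n6159 := ((D24788).symm.trans (sb E87428 (iv7 D12970)))
theorem E89216 : n163401 = n51953 := (((D51953).symm.trans (sb E87438 D163401))).symm
theorem E89218 : n163403 = n51925 := ((((iv2 F81974)).symm.trans (sb E87438 D163403))).symm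
theorem F324581 : act 3 n25207 = n35775 := (sb E87438 (iv3 D78529))
theorem E89219 : n51956 = n36083 := ((D51956).symm.trans (sb E87438 F299304))
theorem E89220 : n132611 = n51952 := (((iv3 F212845)).symm.trans (sb E87439 F175171))
theorem F324582 : act 6 n62233 = n51948 := (sb E87439 (iv6 D112585))
theorem E89221 : n178093 = n50805 := (((iv1 F277632)).symm.trans (sb E87444 (iv1 D110172)))
theorem F324583 : act 2 n86171 = n112047 := (sb E87444 (iv2 F174177))
theorem E89222 : n180429 = n51412 := ((D180429).symm.trans (sb E87444 F174176))
theorem E89223 : n180430 = n112461 := ((D180430).symm.trans (sb E87444 (iv5 F174948)))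
theorem E89224 : n50489 = n34664 := ((D50489).symm.trans (sb E87445 (iv6 D75803)))
theorem F324584 : act 3 n24600 = n39884 := (sb E87446 (iv3 F297658))
theorem E89225 : n50488 = n38172 := ((D50488).symm.trans (sb E87446 (iv6 D82946)))
theorem F324585 : act 6 n18338 = n25100 := (sb E87447 (iv6 D51674))
theorem F324586 : act 3 n113387 = n86265 := (sb E87448 (iv3 D180604))
theorem F324587 : act 2 n59009 = n86263 := (sb E87449 F281081)
theorem F324588 : act 6 n39918 = n59247 := (sb E87450 (iv6 D126349))
theorem F324589 : act 1 n113166 = n86263 := (sb E87451 (iv0 D180594))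
theorem F324590 : act 0 n113165 = n86263 := (sb E87452 (iv1 D180595))
theorem F324591 : act 4 n39444 = n68572 := (sb E87458 (iv4 D146228))
theorem F324592 : act 3 n107592 = n79592 := (sb E87459 F261049)
theorem F324593 : act 6 n107592 = n79590 := (sb E87459 (iv6 D165712))
theorem E89230 : n113494 = n79952 := ((D113494).symm.trans (sb E87460 (iv6 D166587)))
theorem F324594 : act 3 n52384 = n76964 := (sb E87461 F253573)
theorem E89231 : n113483 = n76962 := ((D113483).symm.trans (sb E87461 (iv6 D160516)))
theorem F324595 : act 4 n112004 = n86187 := (sb E87462 (iv4 D180468))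
theorem F324596 : act 6 n112004 = n121054 := (sb E87462 F280875)
theorem F324597 : act 7 n112729 = n86186 := (sb E87463 (iv7 F280865))
theorem F324598 : act 2 n50903 = n86186 := (sb E87468 F280866)
theorem F324599 : act 3 n112719 = n86186 := (sb E87469 (iv3 D180461))
theorem F324600 : act 1 n113145 = n162963 := (sb E87470 F280894)
theorem F324601 : act 2 n113145 = n86189 := (sb E87470 (iv2 D180474))
theorem F324602 : act 3 n113145 = n166812 := (sb E87470 F280892)
theorem F324603 : act 7 n113145 = n162958 := (sb E87470 F280893)
theorem E89232 : n163434 = n137286 := (((iv3 F257724)).symm.trans (sb E87475 (iv3 F220429)))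
theorem E89233 : n163438 = n58944 := ((D163438).symm.trans (sb E87475 (iv5 F171048)))
theorem E89234 : n86512 = n50806 := (((D50806).symm.trans (sb E87476 F254738))).symm
theorem F324604 : act 6 n109401 = n86544 := (sb E87477 (iv6 D181237))
theorem F324605 : act 6 n40116 = n50794 := (sb E87478 (iv6 D110143))
theorem F324606 : act 2 n59295 = n86033 := (sb E87479 F267318)
theorem E89235 : n126394 = n81480 := ((D126394).symm.trans (sb E87479 (iv6 D169888)))
theorem F324607 : act 0 n95973 = n118964 := (sb E87480 F237991)
theorem F324608 : act 5 n95973 = n71289 := (sb E87480 (iv5 D151266))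
theorem F324609 : act 1 n95974 = n118964 := (sb E87481 F237989)
theorem F324610 : act 5 n95974 = n71288 := (sb E87481 (iv5 D151263))
theorem E89236 : n87942 = n74086 := (((iv4 F134938)).symm.trans (sb E87482 (iv4 D155736)))
theorem F324611 : act 6 n74018 = n65697 := (sb E87483 (iv6 D139933))
theorem F324612 : act 1 n39782 = n37894 := (sb E87484 (iv0 D82544))
theorem F324613 : act 5 n82444 = n86019 := (sb E87489 (iv5 D179998))
theorem F324614 : act 2 n39858 = n37894 := (sb E87492 (iv2 F323205))
theorem F324615 : act 7 n39858 = n86019 := (sb E87492 (iv7 D180000))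
theorem F324616 : act 2 n82546 = n86108 := (sb E87494 F280573)
theorem F324617 : act 7 n82546 = n86113 := (sb E87494 F280574)
theorem F324618 : act 2 n73614 = n86110 := (sb E87496 F280577)
theorem F324619 : act 2 n39859 = n86019 := (sb E87497 (iv2 D179995))
theorem F324620 : act 7 n39859 = n37894 := (sb E87497 (iv7 F323206))
theorem F324621 : act 2 n75484 = n86107 := (sb E87498 (iv2 D180254))
theorem F324622 : act 5 n75480 = n86107 := (sb E87499 (iv5 D180256))
theorem F324623 : act 7 n85255 = n86110 := (sb E87505 (iv7 D180273))
theorem F324624 : act 7 n179996 = n86107 := (sb E87506 (iv7 D180258))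
theorem F324625 : act 2 n179997 = n86113 := (sb E87507 F280586)
theorem F324626 : act 7 n179997 = n86108 := (sb E87507 (iv7 D180264))
theorem F324627 : act 2 n179999 = n86115 := (sb E87508 F280595)
theorem F324628 : act 3 n82451 = n86115 := (sb E87514 F280598)
theorem F324629 : act 5 n71881 = n86115 := (sb E87517 (iv5 D180288))
theorem F324630 : act 6 n86246 = n75898 := (sb E87518 (iv6 D158975))
theorem E89241 : n138696 = n65709 := ((D138696).symm.trans (sb E87519 (iv1 D139966)))
theorem E89242 : n88474 = n75679 := ((((iv1 F113535)).symm.trans (sb E87520 (iv1 D185762)))).symm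
theorem E89243 : n88496 = n63241 := ((((iv0 F318970)).symm.trans (sb E87520 F288052))).symm
theorem E89244 : n114471 = n83867 := (((D83867).symm.trans (sb E87521 (iv1 F283788)))).symm
theorem E89245 : n87038 = n83868 := (((D83868).symm.trans (sb E87521 (iv0 D182287)))).symm
theorem E89246 : n159633 = n18401 := (((F59081).symm.trans (sb E87523 D159633))).symm
theorem E89247 : n83059 = n34895 := ((D83059).symm.trans (sb E87523 (iv3 D76372)))
theorem E89248 : n159634 = n18260 := ((((iv4 D38222)).symm.trans (sb E87523 D159634))).symm
theorem E89249 : n88494 = n62339 := (((F317540).symm.trans (sb E87523 F234988))).symm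
theorem E89250 : n113992 = n83030 := ((((iv6 F127943)).symm.trans (sb E87523 F177487))).symm
theorem E89251 : n75681 = n69699 := (((iv7 F113540)).symm.trans (sb E87523 (iv7 F193525)))
theorem E89252 : n159639 = n84000 := ((((iv3 F128966)).symm.trans (sb E87524 (iv3 F251484)))).symm
theorem F324631 : act 3 n149420 = n83058 := (sb E87525 (iv3 D173674))
theorem F324632 : act 7 n149420 = n83991 := (sb E87525 F272173)
theorem F324633 : act 6 n48732 = n83058 := (sb E87526 (iv6 D173675))
theorem F324634 : act 2 n159500 = n83994 := (sb E87527 (iv2 D176052))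
theorem F324635 : act 4 n72860 = n83994 := (sb E87528 (iv4 D176053))
theorem F324636 : act 3 n137371 = n75722 := (sb E87529 (iv3 D158748))
theorem F324637 : act 5 n137371 = n83994 := (sb E87529 F249932)
theorem F324638 : act 6 n52823 = n83994 := (sb E87530 (iv6 D176054))
theorem E89254 : n130779 = n69704 := ((D130779).symm.trans (sb E87531 (iv3 D148727)))
theorem E89255 : n130780 = n114891 := ((D130780).symm.trans (sb E87531 F233499))
theorem E89257 : n61351 = n59587 := (((iv3 F317503)).symm.trans (sb E87532 F204219))
theorem E89258 : n75723 = n59585 := ((D75723).symm.trans (sb E87532 (iv6 D126960)))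
theorem F324639 : act 6 n76298 = n75722 := (sb E87533 (iv6 D158749))
theorem E89259 : n114457 = n83992 := (((iv2 F258794)).symm.trans (sb E87538 F272172))
theorem F324640 : act 6 n164200 = n83057 := (sb E87538 (iv6 D173673))
theorem E89260 : n125655 = n98634 := (((iv4 F202127)).symm.trans (sb E87539 (iv4 F152027)))
theorem F324641 : act 5 n63492 = n42637 := (sb E87539 (iv5 F294575))
theorem E89261 : n135095 = n41605 := ((D135095).symm.trans (sb E87539 (iv6 D89077)))
theorem E89262 : n46048 = n29989 := (((D29989).symm.trans (sb E87540 (iv6 D98460)))).symm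
theorem E89263 : n123442 = n28769 := ((((iv7 F46408)).symm.trans (sb E87540 (iv7 F301989)))).symm
theorem E89266 : n134785 = n93136 := ((((iv2 F143635)).symm.trans (sb E87541 (iv2 F216892)))).symm
theorem E89267 : n108457 = n93140 := (((D93140).symm.trans (sb E87541 (iv4 F167692)))).symm
theorem F324642 : act 6 n43580 = n29988 := (sb E87541 (iv6 D63495))
theorem E89272 : n125113 = n29985 := (((F95197).symm.trans (sb E87542 (iv2 F201010)))).symm
theorem F324643 : act 3 n60580 = n93149 := (sb E87542 (iv3 F295322))
theorem E89273 : n179726 = n50128 := (((F95199).symm.trans (sb E87542 (iv4 F279948)))).symm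
theorem E89274 : n128815 = n39708 := ((D128815).symm.trans (sb E87542 (iv6 D85844)))
theorem E89275 : n125650 = n46109 := (((iv6 F202118)).symm.trans (sb E87545 (iv6 D98635)))
theorem F324644 : act 6 n22021 = n29987 := (sb E87546 (iv6 D63494))
theorem F324645 : act 5 n60579 = n93149 := (sb E87547 (iv5 F295323))
theorem E89280 : n128814 = n46077 := ((D128814).symm.trans (sb E87547 (iv6 D98563)))
theorem F324646 : act 3 n52509 = n61427 := (sb E87548 F209536)
theorem E89281 : n113468 = n106554 := (((iv4 F176649)).symm.trans (sb E87548 (iv4 F209537)))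
theorem E89282 : n113729 = n61426 := (((iv5 F176956)).symm.trans (sb E87548 (iv5 D130925)))
theorem E89284 : n133201 = n113727 := (((iv1 F214039)).symm.trans (sb E87549 (iv1 F251325)))
theorem E89285 : n133200 = n113726 := ((F214033).symm.trans (sb E87549 F251326))
theorem F324647 : act 3 n130924 = n90455 := (sb E87549 F251321)
theorem F324648 : act 5 n130924 = n105311 := (sb E87549 F251322)
theorem F324649 : act 6 n130924 = n90425 := (sb E87549 F251323)
theorem E89286 : n133202 = n76338 := (((iv7 F214037)).symm.trans (sb E87549 (iv7 D159564)))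
theorem F324650 : act 3 n48689 = n61429 := (sb E87550 (iv3 D130930))
theorem E89287 : n106555 = n105239 := ((((iv4 F161186)).symm.trans (sb E87550 F209541))).symm
theorem E89288 : n136903 = n134891 := ((((iv4 F217096)).symm.trans (sb E87551 F251315))).symm
theorem F324651 : act 6 n130918 = n76337 := (sb E87551 (iv6 D159561))
theorem F324652 : act 7 n130918 = n90455 := (sb E87551 F251317)
theorem F324653 : act 6 n48688 = n61429 := (sb E87552 (iv6 D130932))
theorem F324654 : act 2 n47300 = n64455 := (sb E87553 F220281)
theorem E89289 : n136002 = n101761 := (((D101761).symm.trans (sb E87553 F220282))).symm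
theorem E89290 : n101762 = n64454 := ((D101762).symm.trans (sb E87553 (iv6 D137108)))
theorem F324655 : act 3 n46580 = n64457 := (sb E87554 F220283)
theorem F324656 : act 5 n46580 = n64455 := (sb E87554 (iv5 D137111))
theorem F324657 : act 3 n120093 = n59475 := (sb E87555 (iv3 D126760))
theorem F324658 : act 5 n74109 = n59475 := (sb E87556 (iv5 D126761))
theorem E89291 : n155777 = n107717 := ((D155777).symm.trans (sb E87566 (iv2 F227504)))
theorem E89292 : n155626 = n120002 := (((F323700).symm.trans (sb E87573 (iv3 F244667)))).symm
theorem F324659 : act 2 n126744 = n155627 := (sb E87583 (iv2 F244668))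
theorem E89293 : n155623 = n110838 := ((((iv3 F171681)).symm.trans (sb E87599 (iv3 F244662)))).symm
theorem F324660 : act 3 n74033 = n59407 := (sb E87602 F203706)
theorem E89294 : n155625 = n59405 := ((D155625).symm.trans (sb E87602 (iv6 D126626)))
theorem F324661 : act 3 n126628 = n155624 := (sb E87603 (iv3 F244664))
theorem F324662 : act 0 n77713 = n126997 := (sb E87611 (iv1 F321548))
theorem E89295 : n161815 = n74102 := ((D161815).symm.trans (sb E87611 F323257))
theorem E89296 : n161817 = n74100 := ((D161817).symm.trans (sb E87611 F323258))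
theorem F324663 : act 4 n31096 = n35472 := (sb E87612 (iv4 D77715))
theorem E89300 : n161827 = n53625 := ((((iv7 F84598)).symm.trans (sb E87612 D161827))).symm
theorem F324664 : act 2 n77716 = n126997 := (sb E87614 F319647)
theorem F324665 : act 3 n77716 = n105678 := (sb E87614 F181368)
theorem F324666 : act 6 n77716 = n69673 := (sb E87614 F319648)
theorem E89302 : n156185 = n39488 := ((D156185).symm.trans (sb E87615 (iv4 D85543)))
theorem E89304 : n179262 = n156187 := (((D156187).symm.trans (sb E87615 D179262))).symm
theorem F324667 : act 3 n107671 = n85508 := (sb E87616 (iv3 D179179))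
theorem F324668 : act 2 n69683 = n53131 := (sb E87617 F179301)
theorem E89305 : n148687 = n115213 := ((D148687).symm.trans (sb E87617 (iv3 F179419)))
theorem E89306 : n148689 = n53130 := ((D148689).symm.trans (sb E87617 (iv5 D115150)))
theorem E89307 : n148690 = n63884 := ((D148690).symm.trans (sb E87617 F179302))
theorem F324669 : act 4 n55581 = n53131 := (sb E87618 (iv4 D115153))
theorem E89308 : n135673 = n120645 := (((D120645).symm.trans (sb E87618 (iv6 F218160)))).symm
theorem F324670 : act 3 n126680 = n129768 := (sb E87619 F212861)
theorem F324672 : act 1 n126674 = n129766 := (sb E87622 F212879)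
theorem F324673 : act 2 n126674 = n62228 := (sb E87622 (iv2 D132625))
theorem F324674 : act 7 n126674 = n129768 := (sb E87622 F212878)
theorem E89309 : n123029 = n29986 := (((F100852).symm.trans (sb E87623 (iv1 F301635)))).symm
theorem E89310 : n128818 = n39112 := ((F207083).symm.trans (sb E87623 (iv0 D84671)))
theorem E89311 : n128816 = n123431 := ((F207078).symm.trans (sb E87623 (iv2 F301627)))
theorem F324675 : act 3 n63456 = n59615 := (sb E87623 F322826)
theorem E89312 : n170793 = n29975 := ((((iv4 D63456)).symm.trans (sb E87623 (iv4 F268381)))).symm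
theorem E89313 : n135023 = n76874 := ((D135023).symm.trans (sb E87623 (iv5 F301786)))
theorem F324676 : act 3 n127044 = n63178 := (sb E87624 F212867)
theorem F324677 : act 0 n126993 = n84898 := (sb E87625 F317294)
theorem F324678 : act 5 n126993 = n62152 := (sb E87625 (iv5 D132476))
theorem F324679 : act 5 n29423 = n59601 := (sb E87626 (iv5 D126998))
theorem F324680 : act 0 n126999 = n77716 := (sb E87627 (iv1 F307880))
theorem F324681 : act 1 n126999 = n77469 := (sb E87627 F306854)
theorem F324682 : act 2 n126999 = n77713 := (sb E87627 F309888)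
theorem F324683 : act 5 n126999 = n62160 := (sb E87627 F212619)
theorem F324684 : act 1 n64824 = n69338 := (sb E87628 (iv0 D148043))
theorem F324685 : act 0 n64814 = n76259 := (sb E87629 (iv1 D159418))
theorem F324686 : act 2 n71694 = n112557 := (sb E87630 (iv2 F175085))
theorem F324687 : act 6 n71694 = n51003 := (sb E87630 (iv6 D110611))
theorem E89315 : n155164 = n112199 := (((iv6 F302726)).symm.trans (sb E87631 (iv6 F174461)))
theorem F324688 : act 1 n51742 = n35381 := (sb E87632 (iv0 D77489))
theorem F324689 : act 6 n51742 = n35404 := (sb E87632 F299910)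
theorem F324690 : act 5 n12964 = n12001 := (sb E87634 (iv5 D25278))
theorem F324691 : act 5 n74116 = n74107 := (sb E87640 (iv5 D155780))
theorem F324692 : act 5 n74117 = n74108 := (sb E87642 (iv5 D155785))
theorem F324693 : act 7 n64260 = n74148 := (sb E87643 (iv7 F244899))
theorem F324694 : act 5 n64261 = n74148 := (sb E87648 (iv5 D155914))
theorem F324695 : act 2 n144710 = n74141 := (sb E87649 (iv2 D155889))
theorem E89320 : n72745 = n59119 := (((F169284).symm.trans (sb E87650 (iv4 D153769)))).symm
theorem E89321 : n64648 = n64176 := (((F221977).symm.trans (sb E87653 F218902))).symm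
theorem F324696 : act 6 n135883 = n63965 := (sb E87653 (iv6 D136035))
theorem F324697 : act 6 n31219 = n65289 := (sb E87655 (iv6 D139096))
theorem F324698 : act 4 n127484 = n120613 := (sb E87659 (iv4 F306236))
theorem F324699 : act 4 n105759 = n85393 := (sb E87661 F278899)
theorem F324700 : act 3 n105407 = n67988 := (sb E87662 (iv3 D145024))
theorem E89322 : n144039 = n113045 := ((((iv4 F176123)).symm.trans (sb E87662 (iv4 F227974)))).symm
theorem E89323 : n135295 = n63223 := ((((iv4 F211563)).symm.trans (sb E87663 (iv4 F217530)))).symm
theorem E89324 : n130210 = n62376 := ((D130210).symm.trans (sb E87663 (iv6 D132917)))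
theorem F324701 : act 6 n61051 = n62311 := (sb E87664 (iv6 D132767))
theorem E89325 : n135602 = n83999 := ((D135602).symm.trans (sb E87667 (iv6 D176076)))
theorem F324702 : act 6 n132768 = n83870 := (sb E87668 (iv6 D175682))
theorem F324703 : act 6 n38687 = n62312 := (sb E87669 (iv6 D132769))
theorem E89327 : n62652 = n25545 := (((D25545).symm.trans (sb E87678 F214672))).symm
theorem F324704 : act 0 n164201 = n83053 := (sb E87680 (iv1 D173659))
theorem F324705 : act 1 n164201 = n83977 := (sb E87680 F272146)
theorem F324706 : act 4 n78889 = n83977 := (sb E87681 F275313)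
theorem E89329 : n148512 = n83980 := ((D148512).symm.trans (sb E87684 (iv4 D176005)))
theorem F324707 : act 4 n145804 = n83984 := (sb E87685 F275326)
theorem F324708 : act 4 n70131 = n83051 := (sb E87687 (iv4 D173654))
theorem F324709 : act 0 n158985 = n83938 := (sb E87688 F311094)
theorem F324710 : act 1 n158985 = n83321 := (sb E87688 F312327)
theorem F324711 : act 2 n158985 = n83051 := (sb E87688 (iv2 D173653))
theorem F324712 : act 3 n158985 = n83966 := (sb E87688 F272136)
theorem F324713 : act 7 n158985 = n83980 := (sb E87688 F272137)
theorem E89330 : n149364 = n83053 := ((D149364).symm.trans (sb E87689 F272142))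
theorem F324714 : act 6 n70133 = n83051 := (sb E87689 (iv6 D173655))
theorem F324715 : act 2 n78898 = n83984 := (sb E87690 (iv2 D176021))
theorem E89331 : n164237 = n53137 := ((((iv2 D115164)).symm.trans (sb E87691 (iv2 F258866)))).symm
theorem F324716 : act 6 n115164 = n59814 := (sb E87691 (iv6 D127345))
theorem F324717 : act 6 n52483 = n62644 := (sb E87692 (iv6 D133471))
theorem F324718 : act 4 n55272 = n83974 := (sb E87693 (iv4 D175984))
theorem F324719 : act 2 n164201 = n83975 := (sb E87694 F275316)
theorem F324720 : act 7 n164201 = n83974 := (sb E87694 (iv7 D175987))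
theorem F324721 : act 4 n88542 = n62358 := (sb E87695 (iv4 D132881))
theorem F324722 : act 0 n132883 = n113676 := (sb E87696 F233513)
theorem F324723 : act 1 n132883 = n113679 := (sb E87696 F233514)
theorem F324724 : act 2 n132883 = n137347 := (sb E87696 F233510)
theorem F324725 : act 3 n132883 = n126737 := (sb E87696 (iv3 F233515))
theorem F324726 : act 4 n132883 = n69710 := (sb E87696 (iv4 D148741))
theorem F324727 : act 5 n132883 = n126827 := (sb E87696 F233512)
theorem F324728 : act 7 n132883 = n137357 := (sb E87696 F233511)
theorem E89332 : n117460 = n61428 := (((iv5 F183974)).symm.trans (sb E87697 (iv5 D130928)))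
theorem E89333 : n134470 = n43967 := ((D134470).symm.trans (sb E87698 F144891))
theorem E89334 : n134471 = n43962 := ((D134471).symm.trans (sb E87698 (iv5 D94048)))
theorem F324729 : act 1 n52491 = n62353 := (sb E87702 (iv0 D132868))
theorem F324730 : act 0 n102578 = n62353 := (sb E87703 (iv1 D132869))
theorem F324731 : act 2 n102579 = n62353 := (sb E87704 F213401)
theorem F324732 : act 4 n102579 = n62349 := (sb E87704 F213402)
theorem F324733 : act 6 n102579 = n62347 := (sb E87704 (iv6 D132853))
theorem E89335 : n78903 = n61318 := ((((iv5 F95803)).symm.trans (sb E87705 (iv5 D164252)))).symm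
theorem F324734 : act 5 n61011 = n79270 := (sb E87708 (iv5 D164988))
theorem F324735 : act 3 n126991 = n129550 := (sb E87715 F212568)
theorem F324736 : act 5 n126991 = n62148 := (sb E87715 (iv5 D132462))
theorem F324737 : act 5 n29422 = n59599 := (sb E87717 (iv5 D126992))
theorem F324738 : act 4 n53957 = n35482 := (sb E87720 (iv4 D77752))
theorem F324739 : act 4 n53954 = n77807 := (sb E87721 (iv4 D161988))
theorem F324740 : act 2 n49059 = n78988 := (sb E87722 F259196)
theorem E89341 : n103177 = n102267 := ((((iv4 F314180)).symm.trans (sb E87722 F259197))).symm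
theorem F324741 : act 7 n49059 = n78987 := (sb E87722 (iv7 D164471))
theorem F324742 : act 1 n117371 = n151761 := (sb E87723 F252272)
theorem F324743 : act 2 n117371 = n151765 := (sb E87723 F252269)
theorem F324744 : act 4 n117371 = n76581 := (sb E87723 F252270)
theorem F324745 : act 7 n117371 = n76580 := (sb E87723 (iv7 D159950))
theorem F324746 : act 1 n71537 = n68722 := (sb E87724 (iv0 D146649))
theorem E89342 : n151763 = n69026 := ((D151763).symm.trans (sb E87724 F259467))
theorem F324747 : act 3 n117325 = n76580 := (sb E87725 (iv3 D159948))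
theorem F324748 : act 4 n117325 = n145953 := (sb E87725 F252266)
theorem F324749 : act 2 n78910 = n35927 := (sb E87726 (iv2 D78918))
theorem E89343 : n164294 = n164267 := (((D164267).symm.trans (sb E87726 D164294))).symm
theorem E89344 : n164295 = n164268 := (((D164268).symm.trans (sb E87726 D164295))).symm
theorem E89345 : n164269 = n127738 := ((D164269).symm.trans (sb E87726 (iv5 F319884)))
theorem E89346 : n164297 = n152522 := ((((iv6 F239695)).symm.trans (sb E87726 D164297))).symm
theorem F324750 : act 7 n78910 = n35928 := (sb E87726 (iv7 F120112))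
theorem F324751 : act 0 n131670 = n174478 := (sb E87727 (iv1 F273361))
theorem F324752 : act 1 n131670 = n89315 := (sb E87727 F270665)
theorem F324753 : act 2 n131670 = n174479 := (sb E87727 (iv2 F273366))
theorem F324754 : act 4 n131670 = n100107 := (sb E87727 (iv4 F275022))
theorem F324755 : act 5 n131670 = n82568 := (sb E87727 (iv5 D172453))
theorem F324756 : act 6 n131670 = n174492 := (sb E87727 (iv6 F273376))
theorem F324757 : act 7 n131670 = n100098 := (sb E87727 (iv7 F275001))
theorem E89347 : n141119 = n77787 := (((D77787).symm.trans (sb E87731 (iv1 F224099)))).symm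
theorem E89348 : n141118 = n77788 := (((D77788).symm.trans (sb E87731 F224098))).symm
theorem E89349 : n141108 = n77783 := ((((iv2 F117145)).symm.trans (sb E87731 F224091))).symm
theorem E89350 : n140695 = n77789 := (((D77789).symm.trans (sb E87731 (iv4 F223786)))).symm
theorem F324758 : act 7 n35498 = n30935 := (sb E87731 (iv7 D66185))
theorem E89353 : n55344 = n51891 := ((F121215).symm.trans (sb E87733 F174818))
theorem E89355 : n111885 = n77834 := (((D77834).symm.trans (sb E87734 D111885))).symm
theorem E89357 : n111884 = n77828 := ((((iv2 F117647)).symm.trans (sb E87734 (iv2 F173807)))).symm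
theorem E89358 : n111876 = n77836 := (((D77836).symm.trans (sb E87734 (iv4 F173766)))).symm
theorem E89359 : n141109 = n77788 := ((D141109).symm.trans (sb E87737 F192985))
theorem E89360 : n141110 = n55826 := ((D141110).symm.trans (sb E87737 (iv3 D121026)))
theorem E89361 : n141112 = n80195 := ((D141112).symm.trans (sb E87737 F299038))
theorem E89362 : n110291 = n77943 := ((F170932).symm.trans (sb E87737 F299039))
theorem E89363 : n141113 = n77787 := ((D141113).symm.trans (sb E87737 F192988))
theorem E89364 : n141114 = n35223 := ((D141114).symm.trans (sb E87738 F115853))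
theorem E89365 : n160778 = n141115 := (((D141115).symm.trans (sb E87738 D160778))).symm
theorem E89366 : n141116 = n35221 := ((D141116).symm.trans (sb E87738 (iv5 D77142)))
theorem E89367 : n141117 = n77835 := ((D141117).symm.trans (sb E87738 (iv6 F123184)))
theorem E89368 : n159183 = n140693 := ((((iv4 F223782)).symm.trans (sb E87739 (iv4 F250663)))).symm
theorem E89369 : n110192 = n41377 := (((iv5 F170939)).symm.trans (sb E87739 (iv5 D88643)))
theorem E89370 : n140691 = n76875 := ((D140691).symm.trans (sb E87740 (iv1 F253284)))
theorem E89371 : n140692 = n76865 := ((D140692).symm.trans (sb E87740 (iv0 D160357)))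
theorem E89372 : n140694 = n124456 := ((D140694).symm.trans (sb E87740 F303675))
theorem F324759 : act 5 n35384 = n30935 := (sb E87741 (iv5 D66184))
theorem F324760 : act 1 n35385 = n51742 := (sb E87745 F101798)
theorem F324761 : act 5 n35385 = n70979 := (sb E87745 F320863)
theorem F324762 : act 0 n27067 = n50864 := (sb E87746 F81503)
theorem F324763 : act 1 n27067 = n50864 := (sb E87746 (iv0 F81504))
theorem F324764 : act 3 n24736 = n35822 := (sb E87747 F119195)
theorem F324765 : act 6 n24736 = n35576 := (sb E87747 (iv6 D77981))
theorem E89379 : n50520 = n17231 := ((((iv6 D35562)).symm.trans (sb E87752 (iv6 D109510)))).symm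
theorem E89380 : n77955 = n50236 := ((((iv3 F164321)).symm.trans (sb E87753 (iv3 F119170)))).symm
theorem F324766 : act 4 n24613 = n17235 := (sb E87753 F56248)
theorem F324767 : act 0 n8082 = n11734 := (sb E87754 F80097)
theorem F324768 : act 4 n8082 = n11642 := (sb E87754 (iv4 D24612))
theorem E89383 : n172456 = n52247 := ((((iv1 F161318)).symm.trans (sb E87759 F323214))).symm
theorem F324769 : act 3 n59113 = n78594 := (sb E87759 (iv3 D163574))
theorem E89384 : n126152 = n79777 := ((D126152).symm.trans (sb E87759 F257838))
theorem E89385 : n86096 = n59320 := ((((iv7 F93539)).symm.trans (sb E87759 F257839))).symm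
theorem F324770 : act 3 n50212 = n83248 := (sb E87762 (iv3 D174147))
theorem F324771 : act 6 n50210 = n83248 := (sb E87763 (iv6 D174149))
theorem E89386 : n122365 = n116687 := ((((iv5 F182080)).symm.trans (sb E87766 (iv5 F298148)))).symm
theorem F324772 : act 6 n110608 = n82953 := (sb E87766 (iv6 D173339))
theorem E89387 : n171685 = n147651 := ((D171685).symm.trans (sb E87767 (iv1 F231418)))
theorem E89388 : n171686 = n86226 := ((D171686).symm.trans (sb E87767 F319461))
theorem F324773 : act 3 n82257 = n51003 := (sb E87767 F171194)
theorem E89389 : n145762 = n122498 := ((((iv4 F295809)).symm.trans (sb E87767 (iv4 F228896)))).symm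
theorem F324774 : act 5 n82257 = n51002 := (sb E87767 (iv5 D110609))
theorem E89390 : n171687 = n112567 := ((D171687).symm.trans (sb E87767 (iv7 F175134)))
theorem E89392 : n75298 = n50502 := ((((iv4 F79870)).symm.trans (sb E87769 (iv4 F112900)))).symm
theorem E89395 : n110580 = n39865 := (((iv3 F171139)).symm.trans (sb E87770 F88238))
theorem E89396 : n66169 = n58057 := ((D66169).symm.trans (sb E87771 F297974))
theorem F324775 : act 5 n30930 = n36032 := (sb E87771 (iv5 D79150))
theorem E89398 : n75257 = n66175 := (((D66175).symm.trans (sb E87772 F120432))).symm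
theorem F324776 : act 5 n30932 = n36031 := (sb E87772 (iv5 D79149))
theorem E89399 : n50647 = n18231 := ((F80013).symm.trans (sb E87773 F118584))
theorem F324777 : act 3 n31787 = n18479 := (sb E87773 (iv3 F56172))
theorem F324778 : act 3 n76942 = n50949 := (sb E87781 F170895)
theorem F324779 : act 0 n35476 = n25124 := (sb E87782 (iv1 D51741))
theorem F324780 : act 5 n35476 = n50949 := (sb E87782 F81684)
theorem E89403 : n56144 = n25269 := ((((iv3 F39868)).symm.trans (sb E87786 D56144))).symm
theorem E89405 : n170605 = n51047 := (((D51047).symm.trans (sb E87788 (iv4 F268048)))).symm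
theorem F324781 : act 1 n33838 = n64457 := (sb E87791 (iv0 D137113))
theorem F324782 : act 0 n33825 = n64457 := (sb E87792 (iv1 D137114))
theorem F324783 : act 4 n54405 = n64457 := (sb E87793 (iv4 D137115))
theorem E89407 : n63282 = n59613 := ((F309874).symm.trans (sb E87794 (iv5 D127035)))
theorem F324784 : act 6 n124988 = n64457 := (sb E87794 F204271)
theorem E89408 : n83613 = n59226 := ((((iv1 F202183)).symm.trans (sb E87795 (iv1 F244014)))).symm
theorem E89409 : n73696 = n59231 := (((F100411).symm.trans (sb E87795 (iv0 D155185)))).symm
theorem F324785 : act 0 n62672 = n92790 := (sb E87796 F176861)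
theorem F324786 : act 1 n62672 = n61450 := (sb E87796 (iv0 F322892))
theorem F324787 : act 4 n62672 = n52483 := (sb E87796 (iv4 D113670))
theorem F324788 : act 7 n62672 = n113738 := (sb E87796 (iv7 F176980))
theorem F324789 : act 0 n62673 = n113738 := (sb E87797 (iv1 F176981))
theorem E89410 : n133546 = n126729 := ((D133546).symm.trans (sb E87797 (iv3 F203955)))
theorem E89411 : n133547 = n42395 := ((D133547).symm.trans (sb E87797 (iv4 D90571)))
theorem E89412 : n133548 = n126727 := ((D133548).symm.trans (sb E87797 F203949))
theorem E89413 : n133549 = n42399 := ((D133549).symm.trans (sb E87797 F139403))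
theorem E89416 : n52636 = n29625 := (((iv3 F83163)).symm.trans (sb E87798 F97725))
theorem F324790 : act 4 n52517 = n29633 := (sb E87798 F97726)
theorem F324791 : act 6 n52517 = n29623 := (sb E87798 (iv6 D62646))
theorem E89418 : n146463 = n53112 := ((D146463).symm.trans (sb E87799 (iv1 D115097)))
theorem E89419 : n146464 = n115164 := ((D146464).symm.trans (sb E87799 F179312))
theorem F324792 : act 0 n90252 = n172416 := (sb E87800 (iv1 F274515))
theorem F324793 : act 2 n90252 = n83864 := (sb E87800 F273750)
theorem F324794 : act 4 n90252 = n83029 := (sb E87800 (iv4 D173587))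
theorem F324795 : act 7 n90252 = n83859 := (sb E87800 (iv7 F273753))
theorem F324796 : act 5 n92749 = n83864 := (sb E87801 (iv5 D175660))
theorem E89420 : n129593 = n126702 := ((((iv3 F203903)).symm.trans (sb E87804 F209734))).symm
theorem E89421 : n64738 = n61467 := ((D64738).symm.trans (sb E87805 (iv3 D131031)))
theorem F324797 : act 3 n67629 = n61343 := (sb E87806 F209301)
theorem E89422 : n144344 = n132631 := ((D144344).symm.trans (sb E87806 (iv5 F212893)))
theorem E89423 : n144345 = n61340 := ((D144345).symm.trans (sb E87806 (iv7 D130743)))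
theorem F324798 : act 4 n131260 = n66617 := (sb E87809 (iv4 D142056))
theorem E89425 : n166430 = n96396 := (((D96396).symm.trans (sb E87812 (iv4 F277805)))).symm
theorem F324799 : act 3 n45011 = n36391 := (sb E87814 (iv3 D79883))
theorem F324800 : act 4 n45011 = n36393 := (sb E87814 F122634)
theorem E89427 : n166368 = n96403 := (((D96403).symm.trans (sb E87814 D166368))).symm
theorem F324801 : act 4 n48020 = n84836 := (sb E87815 (iv4 D178246))
theorem F324802 : act 4 n48021 = n84837 := (sb E87816 (iv4 D178251))
theorem F324803 : act 5 n104896 = n84837 := (sb E87817 (iv5 D178252))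
theorem F324804 : act 1 n89209 = n84840 := (sb E87818 (iv0 D178261))
theorem F324805 : act 0 n89256 = n84840 := (sb E87819 (iv1 D178262))
theorem F324806 : act 4 n48243 = n84840 := (sb E87820 (iv4 D178263))
theorem E89428 : n166389 = n44554 := (((F292500).symm.trans (sb E87820 F277812))).symm
theorem F324807 : act 0 n79889 = n104804 := (sb E87821 F293418)
theorem F324808 : act 1 n79889 = n41700 := (sb E87821 (iv0 D89252))
theorem F324809 : act 2 n79889 = n96424 := (sb E87821 F293419)
theorem F324810 : act 4 n30733 = n38385 := (sb E87822 (iv4 D83330))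
theorem E89431 : n174329 = n65574 := ((((iv6 F101292)).symm.trans (sb E87822 (iv6 F273114)))).symm
theorem F324811 : act 0 n12963 = n24596 := (sb E87824 (iv1 F39904))
theorem F324812 : act 1 n12963 = n24639 := (sb E87824 F39905)
theorem F324813 : act 2 n12963 = n24827 := (sb E87824 F39901)
theorem F324814 : act 4 n12963 = n12004 := (sb E87824 F39902)
theorem F324815 : act 7 n12963 = n12001 := (sb E87824 (iv7 D25279))
theorem F324816 : act 0 n143723 = n119644 := (sb E87827 F239888)
theorem F324817 : act 2 n143723 = n119670 := (sb E87827 F239887)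
theorem F324818 : act 5 n143723 = n72020 := (sb E87827 (iv5 D152673))
theorem F324819 : act 5 n55060 = n67314 := (sb E87828 (iv5 D143725))
theorem E89432 : n119671 = n53807 := ((D119671).symm.trans (sb E87829 (iv4 D116787)))
theorem F324820 : act 7 n55059 = n67314 := (sb E87829 F182324)
theorem F324821 : act 2 n148660 = n121499 := (sb E87830 (iv2 F303155))
theorem F324822 : act 3 n148660 = n119853 := (sb E87830 F283088)
theorem F324823 : act 6 n148660 = n86855 := (sb E87830 (iv6 D181856))
theorem F324824 : act 0 n83303 = n116909 := (sb E87831 (iv1 F317970))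
theorem F324825 : act 1 n83303 = n74495 := (sb E87831 F169667)
theorem F324826 : act 4 n83303 = n50588 := (sb E87831 (iv4 D109681))
theorem E89433 : n142635 = n130075 := ((((iv6 F304928)).symm.trans (sb E87831 (iv6 F225521)))).symm
theorem F324827 : act 4 n65241 = n77550 := (sb E87832 (iv4 D161519))
theorem F324828 : act 0 n83331 = n74495 := (sb E87833 (iv1 F169640))
theorem F324829 : act 1 n83331 = n116909 := (sb E87833 (iv0 F317969))
theorem F324830 : act 4 n83331 = n65583 := (sb E87833 F169638)
theorem E89434 : n174352 = n157552 := ((D174352).symm.trans (sb E87833 F316829))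
theorem F324831 : act 0 n79151 = n50478 := (sb E87834 (iv1 D109408))
theorem F324832 : act 1 n79151 = n50576 := (sb E87834 F169393)
theorem F324833 : act 5 n79151 = n51916 := (sb E87834 F169394)
theorem F324834 : act 0 n79111 = n50576 := (sb E87835 (iv1 F169392))
theorem F324835 : act 1 n79111 = n50478 := (sb E87835 (iv0 D109407))
theorem F324836 : act 5 n79111 = n74503 := (sb E87835 F169391)
theorem F324837 : act 3 n34735 = n50576 := (sb E87836 F169632)
theorem F324838 : act 6 n34534 = n50576 := (sb E87837 (iv6 D109652))
theorem E89436 : n112309 = n27716 := (((D27716).symm.trans (sb E87838 F174679))).symm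
theorem F324839 : act 1 n51802 = n38846 := (sb E87839 (iv0 F117115))
theorem F324840 : act 5 n51802 = n27112 := (sb E87839 (iv5 D56273))
theorem E89437 : n112194 = n37214 := ((((iv5 F58167)).symm.trans (sb E87841 F174450))).symm
theorem F324841 : act 0 n51740 = n38846 := (sb E87842 (iv1 F122313))
theorem F324842 : act 5 n51740 = n36793 := (sb E87842 F122311)
theorem F324843 : act 6 n12950 = n24827 := (sb E87847 F39735)
theorem F324844 : act 7 n12950 = n11969 := (sb E87847 (iv7 D25225))
theorem F324845 : act 4 n17201 = n31787 := (sb E87851 (iv4 D68314))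
theorem F324846 : act 3 n148266 = n81613 := (sb E87852 F267689)
theorem F324847 : act 4 n148266 = n86095 := (sb E87852 F320691)
theorem F324848 : act 6 n148266 = n81612 := (sb E87852 (iv6 D170161))
theorem F324849 : act 4 n54864 = n69507 := (sb E87853 (iv4 D148298))
theorem F324850 : act 6 n54848 = n69507 := (sb E87854 (iv6 D148299))
theorem F324851 : act 0 n148310 = n81787 := (sb E87855 F317812)
theorem F324852 : act 1 n148310 = n81563 := (sb E87855 F317813)
theorem F324853 : act 2 n148310 = n81786 := (sb E87855 F317814)
theorem F324854 : act 4 n148310 = n69579 := (sb E87855 (iv4 D148497))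
theorem F324855 : act 6 n148310 = n72397 := (sb E87855 F317817)
theorem F324856 : act 7 n148310 = n81613 := (sb E87855 F317818)
theorem F324857 : act 4 n82583 = n69512 := (sb E87856 (iv4 D148315))
theorem F324858 : act 6 n54583 = n69512 := (sb E87857 (iv6 D148316))
theorem F324859 : act 3 n37387 = n50478 := (sb E87858 F169390)
theorem E89440 : n127095 = n59549 := ((D127095).symm.trans (sb E87859 (iv1 D126890)))
theorem E89441 : n127097 = n126788 := ((D127097).symm.trans (sb E87859 (iv2 F204661)))
theorem F324860 : act 5 n59655 = n126623 := (sb E87859 (iv5 F204662))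
theorem F324861 : act 6 n47809 = n49014 := (sb E87860 (iv6 D106042))
theorem F324862 : act 1 n77188 = n51672 := (sb E87861 (iv0 D112037))
theorem F324863 : act 4 n112038 = n78464 := (sb E87862 F257560)
theorem F324864 : act 6 n112038 = n79798 := (sb E87862 F257561)
theorem E89442 : n176870 = n109445 := (((D109445).symm.trans (sb E87863 F298641))).symm
theorem E89443 : n109446 = n82945 := ((D109446).symm.trans (sb E87863 F298642))
theorem F324865 : act 1 n112040 = n176872 := (sb E87864 F276244)
theorem E89444 : n176869 = n109425 := (((F174159).symm.trans (sb E87864 F276240))).symm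
theorem F324866 : act 6 n38473 = n51672 := (sb E87865 (iv6 D112041))
theorem E89445 : n109426 = n83128 := ((D109426).symm.trans (sb E87866 (iv6 F257557)))
theorem F324867 : act 0 n66154 = n36547 := (sb E87867 (iv1 D80231))
theorem F324868 : act 1 n66154 = n77377 := (sb E87867 F123256)
theorem F324869 : act 2 n66154 = n77375 := (sb E87867 (iv2 F193741))
theorem E89446 : n167122 = n141060 := (((D141060).symm.trans (sb E87867 D167122))).symm
theorem F324870 : act 7 n66154 = n77374 := (sb E87867 (iv7 F193745))
theorem F324871 : act 7 n35403 = n51742 := (sb E87868 (iv7 D112200))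
theorem F324872 : act 2 n35501 = n51742 := (sb E87869 (iv2 F81686))
theorem F324873 : act 6 n117911 = n77375 := (sb E87870 (iv6 D161179))
theorem F324874 : act 6 n148653 = n77550 := (sb E87873 (iv6 D161520))
theorem F324875 : act 2 n79887 = n84836 := (sb E87874 (iv2 D178244))
theorem F324876 : act 7 n79887 = n84837 := (sb E87874 (iv7 F277790))
theorem F324877 : act 2 n79886 = n84837 := (sb E87875 F277791)
theorem F324878 : act 7 n79886 = n84836 := (sb E87875 (iv7 D178249))
theorem F324879 : act 0 n44996 = n51659 := (sb E87877 (iv1 D112013))
theorem F324880 : act 2 n38822 = n51659 := (sb E88723 F174101)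
theorem F324881 : act 3 n96117 = n51666 := (sb E87879 F174113)
theorem F324882 : act 5 n96117 = n51659 := (sb E87879 (iv5 D112014))
theorem F324883 : act 3 n44948 = n82413 := (sb E87880 (iv3 D172076))
theorem E89449 : n96285 = n82949 := ((D96285).symm.trans (sb E87880 F298079))
theorem E89450 : n96286 = n84248 := ((D96286).symm.trans (sb E87880 F298080))
theorem E89451 : n84196 = n44605 := ((((iv7 F71454)).symm.trans (sb E87880 F270207))).symm
theorem E89452 : n121672 = n44854 := (((F147363).symm.trans (sb E87881 (iv1 F299346)))).symm
theorem F324884 : act 1 n95673 = n166208 := (sb E87881 F298081)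
theorem E89453 : n97052 = n84218 := (((iv2 F149719)).symm.trans (sb E87881 F270208))
theorem F324885 : act 5 n95673 = n82413 := (sb E87881 (iv5 D172077))
theorem E89454 : n97484 = n84197 := (((iv7 F150268)).symm.trans (sb E87881 F270209))
theorem F324886 : act 3 n95309 = n84195 := (sb E87883 (iv3 D176600))
theorem E89455 : n158766 = n22755 := (((F74041).symm.trans (sb E87884 F275967))).symm
theorem E89456 : n166369 = n96277 := (((F148092).symm.trans (sb E87884 (iv0 F302214)))).symm
theorem F324887 : act 5 n44991 = n84195 := (sb E87884 (iv5 D176601))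
theorem E89457 : n166361 = n96276 := ((((iv7 F148083)).symm.trans (sb E87884 (iv7 F300501)))).symm
theorem E89458 : n176666 = n96272 := ((((iv3 F148070)).symm.trans (sb E87885 (iv3 F276044)))).symm
theorem E89459 : n176183 = n22754 := (((F70758).symm.trans (sb E87885 (iv4 F275413)))).symm
theorem E89460 : n96362 = n38847 := ((D96362).symm.trans (sb E87885 (iv5 D84232)))
theorem E89462 : n176653 = n21451 := ((((iv3 D44945)).symm.trans (sb E87886 (iv3 F276032)))).symm
theorem E89463 : n176186 = n22326 := (((F70650).symm.trans (sb E87886 (iv4 F275414)))).symm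
theorem E89464 : n96278 = n38843 := ((D96278).symm.trans (sb E87886 (iv5 D84227)))
theorem F324888 : act 5 n44997 = n36391 := (sb E87887 (iv5 D79884))
theorem F324889 : act 5 n60589 = n82570 := (sb E87889 (iv5 D172462))
theorem F324890 : act 3 n60594 = n75502 := (sb E87890 (iv3 D158341))
theorem E89468 : n172184 = n128852 := (((D128852).symm.trans (sb E87890 (iv5 F303507)))).symm
theorem E89469 : n172543 = n128853 := (((D128853).symm.trans (sb E87890 F270726))).symm
theorem E89470 : n130929 = n54129 := ((((iv5 F85441)).symm.trans (sb E87892 F216423))).symm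
theorem F324891 : act 5 n43377 = n53118 := (sb E87893 (iv5 D115114))
theorem E89471 : n146191 = n51021 := ((D146191).symm.trans (sb E87895 F171247))
theorem F324892 : act 6 n68555 = n51017 := (sb E87895 (iv6 D110641))
theorem F324893 : act 0 n144994 = n151316 := (sb E87896 F318918)
theorem F324894 : act 2 n144994 = n151318 := (sb E87896 F318920)
theorem F324895 : act 3 n144994 = n69309 := (sb E87896 F231741)
theorem F324896 : act 6 n144994 = n69307 := (sb E87896 (iv6 D147935))
theorem F324897 : act 7 n144994 = n76549 := (sb E87896 F318921)
theorem F324898 : act 1 n123247 = n67189 := (sb E87897 (iv0 D143432))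
theorem F324899 : act 1 n117533 = n57368 := (sb E87898 (iv0 D123246))
theorem F324900 : act 2 n123249 = n67189 := (sb E87899 (iv2 D143433))
theorem E89472 : n143151 = n67731 := ((D143151).symm.trans (sb E87900 F227336))
theorem E89473 : n143152 = n141483 := ((D143152).symm.trans (sb E87900 F227337))
theorem F324901 : act 6 n67082 = n67719 := (sb E87900 (iv6 D144492))
theorem F324902 : act 0 n116874 = n65619 := (sb E87901 (iv1 D139784))
theorem F324903 : act 5 n116874 = n157468 := (sb E87901 F313624)
theorem F324904 : act 2 n49977 = n68223 := (sb E87902 (iv2 D145489))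
theorem F324905 : act 3 n74782 = n68223 := (sb E87903 (iv3 D145490))
theorem F324906 : act 6 n49976 = n68223 := (sb E87904 (iv6 D145493))
theorem F324907 : act 7 n139785 = n68223 := (sb E87905 (iv7 D145494))
theorem F324908 : act 1 n131610 = n68225 := (sb E87910 (iv0 D145499))
theorem F324909 : act 4 n74918 = n68225 := (sb E87911 (iv4 D145501))
theorem F324910 : act 5 n131608 = n68226 := (sb E87912 F228551)
theorem F324911 : act 7 n131608 = n68225 := (sb E87912 (iv7 D145502))
theorem F324912 : act 3 n116863 = n69286 := (sb E87913 F231649)
theorem F324913 : act 5 n116863 = n69284 := (sb E87913 (iv5 D147870))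
theorem F324914 : act 3 n117064 = n68239 := (sb E87914 (iv3 D145531))
theorem F324915 : act 5 n103725 = n68239 := (sb E87915 (iv5 D145533))
theorem F324916 : act 6 n69129 = n68239 := (sb E87916 (iv6 D145534))
theorem E89474 : n68238 = n65576 := ((((iv2 D139715)).symm.trans (sb E87917 (iv2 D145525)))).symm
theorem F324917 : act 7 n139715 = n68239 := (sb E87917 (iv7 F228586))
theorem F324918 : act 1 n68972 = n68240 := (sb E87918 (iv0 D145535))
theorem F324919 : act 0 n116862 = n68823 := (sb E87919 (iv1 D146794))
theorem F324920 : act 1 n116862 = n74579 := (sb E87919 F314718)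
theorem F324921 : act 3 n116862 = n68955 := (sb E87919 F241587)
theorem F324922 : act 4 n116862 = n127637 := (sb E87919 F241588)
theorem F324923 : act 7 n116862 = n69284 := (sb E87919 F241589)
theorem F324924 : act 2 n145511 = n69289 := (sb E87920 (iv2 D147888))
theorem F324925 : act 0 n145538 = n74579 := (sb E87921 F314719)
theorem F324926 : act 1 n145538 = n68823 := (sb E87921 (iv0 D146793))
theorem F324927 : act 2 n145538 = n69284 := (sb E87921 F241590)
theorem F324928 : act 4 n145538 = n127636 := (sb E87921 F241591)
theorem F324929 : act 6 n145538 = n157469 := (sb E87921 (iv6 F248117))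
theorem E89478 : n145450 = n38962 := (((iv3 F228484)).symm.trans (sb E87922 (iv3 D84484)))
theorem E89479 : n177342 = n125820 := ((((iv5 F202329)).symm.trans (sb E87922 D177342))).symm
theorem E89482 : n110493 = n34649 := ((D110493).symm.trans (sb E87923 F113613))
theorem E89483 : n110491 = n34659 := ((D110491).symm.trans (sb E87924 F113651))
theorem F324930 : act 3 n18496 = n31788 := (sb E87925 F104490)
theorem F324931 : act 7 n18496 = n31786 := (sb E87925 (iv7 D68313))
theorem F324932 : act 5 n18494 = n31788 := (sb E87926 (iv5 F80010))
theorem F324933 : act 7 n18494 = n31787 := (sb E87926 F80009)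
theorem E89484 : n110488 = n37313 := ((D110488).symm.trans (sb E87928 F297728))
theorem E89485 : n110489 = n34789 := ((D110489).symm.trans (sb E87928 F297729))
theorem E89486 : n123191 = n110465 := ((((iv4 F170871)).symm.trans (sb E87928 D123191))).symm
theorem F324934 : act 7 n50946 = n76942 := (sb E87928 F297730)
theorem F324935 : act 4 n50644 = n35376 := (sb E87929 F121182)
theorem F324936 : act 7 n50644 = n35476 := (sb E87929 F121183)
theorem F324937 : act 5 n86831 = n59113 := (sb E87933 (iv5 D126151))
theorem E89487 : n126444 = n56064 := (((F133127).symm.trans (sb E87933 (iv7 F203250)))).symm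
theorem F324938 : act 0 n125998 = n60787 := (sb E87934 (iv1 F207523))
theorem F324939 : act 1 n125998 = n60786 := (sb E87934 F207524)
theorem F324940 : act 3 n125998 = n132329 := (sb E87934 (iv3 F212248))
theorem F324941 : act 6 n125998 = n132463 := (sb E87934 (iv6 F212571))
theorem F324942 : act 7 n125998 = n60781 := (sb E87934 (iv7 D129329))
theorem E89490 : n162433 = n126482 := ((((iv2 F203356)).symm.trans (sb E87935 (iv2 F256642)))).symm
theorem E89491 : n162446 = n129167 := ((((iv5 F207400)).symm.trans (sb E87935 D162446))).symm
theorem F324943 : act 0 n126012 = n60781 := (sb E87936 (iv1 D129327))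
theorem F324944 : act 1 n126013 = n60781 := (sb E87937 (iv0 D129326))
theorem F324945 : act 3 n28842 = n59020 := (sb E87938 F174907)
theorem F324946 : act 3 n126014 = n60720 := (sb E87939 F207395)
theorem F324947 : act 6 n126014 = n132412 := (sb E87939 (iv6 F212484))
theorem F324948 : act 7 n126014 = n60715 := (sb E87939 (iv7 D129154))
theorem F324949 : act 5 n6160 = n11734 := (sb E87941 (iv5 D24787))
theorem E89494 : n18465 = n11910 := ((D18465).symm.trans (sb E87942 (iv5 D25073)))
theorem F324950 : act 5 n16726 = n24606 := (sb E87943 F79890)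
theorem E89496 : n51803 = n16689 := (((D16689).symm.trans (sb E87944 F173909))).symm
theorem F324951 : act 0 n17442 = n11942 := (sb E87945 (iv1 D25150))
theorem F324952 : act 1 n17442 = n24690 := (sb E87945 F39569)
theorem F324953 : act 4 n17442 = n13432 := (sb E87945 F79879)
theorem F324954 : act 6 n17442 = n24660 := (sb E87945 F79880)
theorem E89497 : n51801 = n19159 := (((D19159).symm.trans (sb E87947 F173905))).symm
theorem F324955 : act 5 n25149 = n12988 := (sb E87948 (iv5 D27113))
theorem E89498 : n50495 = n16694 := (((D16694).symm.trans (sb E87950 (iv5 D109475)))).symm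
theorem F324956 : act 5 n24603 = n16693 := (sb E87951 (iv5 D34421))
theorem E89499 : n50499 = n40460 := (((D40460).symm.trans (sb E87953 (iv5 D109482)))).symm
theorem F324957 : act 5 n24604 = n26877 := (sb E87954 F54706)
theorem E89500 : n51626 = n27068 := ((((iv5 F43728)).symm.trans (sb E87955 F170239))).symm
theorem F324958 : act 1 n12968 = n11969 := (sb E87956 F80093)
theorem F324959 : act 4 n12968 = n11911 := (sb E87956 (iv4 D25077))
theorem E89501 : n51632 = n27065 := ((((iv5 F43721)).symm.trans (sb E87958 F170236))).symm
theorem F324960 : act 0 n12967 = n11969 := (sb E87959 F80090)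
theorem F324961 : act 4 n12967 = n11912 := (sb E87959 (iv4 D25080))
theorem E89505 : n50733 = n27020 := ((((iv3 F43657)).symm.trans (sb E87961 D50733))).symm
theorem F324962 : act 4 n12947 = n11690 := (sb E87961 (iv4 D24697))
theorem F324963 : act 5 n8035 = n11969 := (sb E87963 (iv5 D25224))
theorem E89506 : n134787 = n46033 := (((iv1 F216900)).symm.trans (sb E87965 (iv1 D98405)))
theorem E89507 : n111429 = n46046 := (((iv2 F172921)).symm.trans (sb E87965 F154199))
theorem F324964 : act 3 n63474 = n95411 := (sb E87965 F294981)
theorem E89508 : n135054 = n46704 := ((D135054).symm.trans (sb E87965 (iv5 F151823)))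
theorem F324965 : act 6 n17503 = n24689 := (sb E87967 (iv6 F38678))
theorem E89511 : n132715 = n132699 := (((iv2 F213069)).symm.trans (iv2 (sb E87970 (tr (iv2 F258279) E88115))))
theorem F324966 : act 5 n132699 = n86260 := (sb E87970 F258277)
theorem E89512 : n132710 = n132698 := ((D132710).symm.trans (iv2 (sb E87971 (tr (iv2 F258284) E88114))))
theorem F324967 : act 5 n132698 = n86261 := (sb E87971 F258283)
theorem F324968 : act 5 n132701 = n78695 := (sb E87972 (iv5 D163791))
theorem E89513 : n56028 = n25210 := (((F47237).symm.trans (sb E87974 (iv5 D121416)))).symm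
theorem F324969 : act 4 n11972 = n12950 := (sb E87975 (iv4 D27029))
theorem E89514 : n163761 = n30019 := (((D30019).symm.trans (sb E87977 F258121))).symm
theorem F324970 : act 6 n61024 = n64896 := (sb E87981 (iv6 D138127))
theorem E89516 : n121386 = n25015 := ((((iv0 F163891)).symm.trans (sb E87984 D121386))).symm
theorem E89519 : n133286 = n98422 := (((D98422).symm.trans (sb E87985 D133286))).symm
theorem E89520 : n98423 = n61841 := ((D98423).symm.trans (sb E87985 (iv0 F164102)))
theorem E89521 : n98399 = n63015 := (((iv2 F152044)).symm.trans (sb E87985 (iv2 F164135)))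
theorem E89522 : n98424 = n29562 := ((D98424).symm.trans (sb E87985 (iv4 D62550)))
theorem E89523 : n133287 = n21996 := ((((iv5 D46038)).symm.trans (sb E87985 D133287))).symm
theorem E89524 : n98425 = n61373 := ((D98425).symm.trans (sb E87985 F97523))
theorem E89525 : n121576 = n11860 := ((((iv1 D24980)).symm.trans (sb E87986 D121576))).symm
theorem E89527 : n121578 = n51323 := ((((iv2 F164330)).symm.trans (sb E87986 D121578))).symm
theorem E89528 : n86158 = n51391 := (((D51391).symm.trans (sb E87986 (iv4 F132118)))).symm
theorem E89530 : n84261 = n11900 := ((((iv3 F19591)).symm.trans (sb E87987 D84261))).symm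
theorem F324971 : act 4 n25081 = n27067 := (sb E87988 F88815)
theorem E89541 : n121615 = n25448 := ((((iv2 F164090)).symm.trans (sb E87993 D121615))).symm
theorem E89542 : n75165 = n51989 := (((D51989).symm.trans (sb E87993 (iv4 F112712)))).symm
theorem E89544 : n162440 = n61842 := (((F167999).symm.trans (sb E87995 D162440))).symm
theorem E89547 : n121622 = n105282 := ((((iv3 F169873)).symm.trans (sb E87996 D121622))).symm
theorem E89548 : n121623 = n110364 := (((D110364).symm.trans (sb E87996 D121623))).symm
theorem E89553 : n121627 = n58794 := (((F168453).symm.trans (sb E87998 D121627))).symm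
theorem E89554 : n110362 = n86175 := ((D110362).symm.trans (sb E87998 (iv4 F132142)))
theorem E89556 : n59249 = n35586 := ((D59249).symm.trans (sb E87999 (iv1 F119213)))
theorem E89557 : n59228 = n35585 := (((iv0 F95457)).symm.trans (sb E87999 (iv0 D78001)))
theorem E89558 : n162405 = n59259 := (((D59259).symm.trans (sb E88000 (iv3 F256596)))).symm
theorem E89559 : n162410 = n59260 := (((D59260).symm.trans (sb E88000 (iv4 F256619)))).symm
theorem E89561 : n162396 = n59264 := (((D59264).symm.trans (sb E88001 D162396))).symm
theorem E89562 : n86351 = n59265 := (((D59265).symm.trans (sb E88001 F256558))).symm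
theorem F324972 : act 5 n17241 = n28816 := (sb E88002 (iv5 F46451))
theorem F324973 : act 7 n17241 = n13430 := (sb E88002 (iv7 D28141))
theorem E89570 : n87311 = n59156 := (((D59156).symm.trans (sb E88004 (iv4 F134051)))).symm
theorem E89574 : n161469 = n28003 := (((F168025).symm.trans (sb E88006 D161469))).symm
theorem E89575 : n75161 = n59274 := (((D59274).symm.trans (sb E88006 F116401))).symm
theorem E89589 : n53722 = n53265 := (((F93224).symm.trans (sb E88010 F181913))).symm
theorem F324974 : act 5 n59017 = n62156 := (sb E88010 F321866)
theorem E89590 : n126008 = n59599 := ((D126008).symm.trans (sb E88010 F181914))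
theorem F324975 : act 5 n141082 = n82882 := (sb E88011 F303085)
theorem F324976 : act 7 n141082 = n161177 := (sb E88011 F263222)
theorem F324977 : act 5 n38124 = n66163 := (sb E88012 F169826)
theorem E89591 : n51818 = n17140 := (((D17140).symm.trans (sb E88015 (iv5 D112329)))).symm
theorem F324978 : act 0 n8037 = n11949 := (sb E88016 F80103)
theorem F324979 : act 4 n8037 = n11944 := (sb E88016 (iv4 D25157))
theorem E89592 : n50513 = n17220 := (((D17220).symm.trans (sb E88020 (iv5 D109503)))).symm
theorem F324980 : act 1 n8077 = n11734 := (sb E88021 (iv0 F80096))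
theorem F324981 : act 4 n8077 = n11641 := (sb E88021 (iv4 D24609))
theorem F324982 : act 3 n34462 = n24690 := (sb E88024 F80058)
theorem E89597 : n51735 = n38246 := ((((iv6 F59124)).symm.trans (sb E88024 (iv6 F81665)))).symm
theorem F324983 : act 3 n17326 = n24689 := (sb E88025 F80056)
theorem E89602 : n129957 = n81509 := ((D129957).symm.trans (sb E88031 (iv5 D169924)))
theorem E89605 : n77952 = n50151 := (((F79456).symm.trans (sb E88036 D77952))).symm
theorem E89606 : n77940 = n50234 := (((D50234).symm.trans (sb E88036 (iv4 F119155)))).symm
theorem E89607 : n77924 = n24979 := ((((iv5 F79717)).symm.trans (sb E88039 (iv5 D162199)))).symm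
theorem E89608 : n130836 = n99853 := ((D130836).symm.trans (sb E88040 F289713))
theorem E89609 : n109027 = n46043 := (((iv2 F169021)).symm.trans (sb E88040 F152056))
theorem E89610 : n130838 = n46032 := ((D130838).symm.trans (sb E88040 (iv5 D98402)))
theorem F324984 : act 7 n61378 = n46038 := (sb E88040 F152057)
theorem E89612 : n77923 = n24956 := ((((iv0 F164127)).symm.trans (sb E88041 D77923))).symm
theorem E89613 : n75226 = n50510 := (((D50510).symm.trans (sb E88041 (iv4 F112773)))).symm
theorem E89614 : n166870 = n51766 := ((((iv1 F81752)).symm.trans (sb E88046 (iv1 F262673)))).symm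
theorem E89615 : n166869 = n51765 := (((D51765).symm.trans (sb E88048 (iv1 F262674)))).symm
theorem E89617 : n84282 = n51764 := ((((iv4 F81743)).symm.trans (sb E88048 F255056))).symm
theorem E89618 : n84280 = n51777 := (((D51777).symm.trans (sb E88049 D84280))).symm
theorem E89619 : n84281 = n51778 := (((D51778).symm.trans (sb E88049 D84281))).symm
theorem E89620 : n84283 = n51779 := (((D51779).symm.trans (sb E88049 D84283))).symm
theorem E89622 : n77411 = n24467 := ((((iv1 F168274)).symm.trans (sb E88052 D77411))).symm
theorem E89623 : n77412 = n24549 := ((((iv0 F168275)).symm.trans (sb E88052 D77412))).symm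
theorem E89624 : n77413 = n24547 := ((((iv2 F168270)).symm.trans (sb E88052 D77413))).symm
theorem E89625 : n77346 = n51817 := (((D51817).symm.trans (sb E88052 (iv4 F116158)))).symm
theorem F324985 : act 6 n143030 = n69026 := (sb E88057 (iv6 D147247))
theorem F324986 : act 4 n66649 = n67127 := (sb E88058 (iv4 D143294))
theorem F324987 : act 4 n141177 = n84589 := (sb E88059 (iv4 D177587))
theorem F324988 : act 7 n141177 = n163005 := (sb E88059 F277042)
theorem E89626 : n131011 = n59460 := ((D131011).symm.trans (sb E88060 F203941))
theorem E89627 : n131013 = n59459 := ((D131013).symm.trans (sb E88060 (iv5 D126722)))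
theorem E89628 : n131005 = n126848 := ((F209703).symm.trans (sb E88060 (iv7 F204093)))
theorem F324989 : act 3 n34996 = n67026 := (sb E88062 F225834)
theorem E89629 : n76584 = n67015 := ((D76584).symm.trans (sb E88062 (iv5 D142990)))
theorem F324990 : act 2 n68435 = n67099 := (sb E88063 F225883)
theorem F324991 : act 4 n68435 = n67026 := (sb E88063 (iv4 D143018))
theorem E89630 : n143480 = n67019 := ((((iv4 F103008)).symm.trans (sb E88064 F252303))).symm
theorem F324992 : act 4 n30922 = n35523 := (sb E88065 (iv4 D77847))
theorem F324993 : act 5 n66483 = n64250 := (sb E88069 F204196)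
theorem F324994 : act 4 n119940 = n55977 := (sb E88070 (iv4 D121339))
theorem E89635 : n114709 = n25721 := ((D114709).symm.trans (sb E88071 (iv3 D52990)))
theorem E89636 : n114842 = n114711 := (((D114711).symm.trans (sb E88071 D114842))).symm
theorem E89637 : n114843 = n114712 := (((D114712).symm.trans (sb E88071 D114843))).symm
theorem F324995 : act 3 n76454 = n67099 := (sb E88072 (iv3 D143215))
theorem F324996 : act 5 n114413 = n67099 := (sb E88073 (iv5 D143216))
theorem F324997 : act 4 n67890 = n44743 := (sb E88077 (iv4 D95814))
theorem F324998 : act 0 n95816 = n120579 := (sb E88078 F317723)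
theorem F324999 : act 1 n95816 = n48036 := (sb E88078 (iv0 D103736))
theorem F325000 : act 4 n95816 = n68461 := (sb E88078 F317724)
theorem F325001 : act 7 n95816 = n68458 := (sb E88078 F317725)
theorem F325002 : act 3 n74149 = n64259 := (sb E88079 (iv3 D136723))
theorem F325003 : act 4 n74149 = n144710 := (sb E88079 (iv4 F227542))
theorem F325004 : act 5 n120062 = n64259 := (sb E88080 (iv5 D136724))
theorem F325005 : act 0 n107717 = n55245 := (sb E88081 (iv1 D120061))
theorem F325006 : act 1 n107717 = n74109 := (sb E88081 F189647)
theorem F325007 : act 1 n96211 = n72731 := (sb E88082 (iv0 D153723))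
theorem F325008 : act 0 n103854 = n72731 := (sb E88083 (iv1 D153724))
theorem F325009 : act 2 n48067 = n72731 := (sb E88084 (iv2 D153725))
theorem E89638 : n103818 = n72211 := ((D103818).symm.trans (sb E88085 (iv3 D152986)))
theorem F325010 : act 7 n48064 = n72731 := (sb E88085 F240263)
theorem F325011 : act 0 n141028 = n88063 := (sb E88086 F308469)
theorem F325012 : act 2 n141028 = n184296 := (sb E88086 F308470)
theorem F325013 : act 4 n141028 = n72983 := (sb E88086 F242209)
theorem F325014 : act 5 n141028 = n77369 := (sb E88086 F317249)
theorem F325015 : act 7 n141028 = n72982 := (sb E88086 (iv7 D154136))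
theorem F325016 : act 5 n125006 = n77371 := (sb E88087 (iv5 D161167))
theorem F325017 : act 7 n125006 = n161987 := (sb E88087 (iv7 F303672))
theorem F325018 : act 1 n83571 = n66143 := (sb E88089 (iv0 D141034))
theorem F325019 : act 0 n83576 = n66143 := (sb E88090 (iv1 D141035))
theorem F325020 : act 5 n77491 = n66143 := (sb E88091 (iv5 D141037))
theorem F325021 : act 7 n77845 = n66143 := (sb E88092 (iv7 D141038))
theorem E89639 : n63579 = n52569 := ((F101962).symm.trans (sb E88095 (iv1 F177129)))
theorem E89640 : n63555 = n52566 := ((F101963).symm.trans (sb E88095 (iv0 D113834)))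
theorem E89641 : n117418 = n30404 := (((F101964).symm.trans (sb E88095 (iv2 F183912)))).symm
theorem E89642 : n116216 = n113678 := ((D116216).symm.trans (sb E88095 F177128))
theorem F325022 : act 2 n116435 = n67082 := (sb E88096 (iv2 D143150))
theorem E89644 : n67083 = n66866 := (((F181624).symm.trans (sb E88096 (iv7 F226010)))).symm
theorem F325023 : act 3 n83882 = n70979 := (sb E88097 F237106)
theorem E89645 : n175712 = n70978 := ((D175712).symm.trans (sb E88097 (iv6 D150584)))
theorem F325024 : act 5 n145633 = n77725 := (sb E88101 (iv5 D161840))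
theorem F325025 : act 5 n35475 = n68266 := (sb E88103 (iv5 D145634))
theorem F325026 : act 1 n59426 = n53576 := (sb E88105 (iv0 D116236))
theorem E89646 : n126655 = n60754 := ((D126655).symm.trans (sb E88105 F209324))
theorem F325027 : act 0 n30379 = n53576 := (sb E88106 (iv1 D116237))
theorem F325028 : act 2 n59576 = n53576 := (sb E88107 (iv2 D116238))
theorem F325029 : act 3 n59576 = n66483 := (sb E88107 F181170)
theorem E89647 : n126944 = n60766 := ((D126944).symm.trans (sb E88107 F181171))
theorem E89648 : n64313 = n53524 := (((iv3 F100146)).symm.trans (sb E88108 (iv3 D116127)))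
theorem F325030 : act 4 n30294 = n53576 := (sb E88108 F180920)
theorem E89649 : n64315 = n60767 := ((D64315).symm.trans (sb E88108 F180921))
theorem E89650 : n136705 = n135311 := (((iv2 F219849)).symm.trans (sb E88111 (iv2 F217547)))
theorem F325031 : act 3 n116845 = n60769 := (sb E88111 F207490)
theorem F325032 : act 6 n116845 = n60768 := (sb E88111 (iv6 D129292))
theorem E89651 : n132661 = n129167 := (((iv4 F212980)).symm.trans (sb E88112 (tr (iv4 F256650) E89491)))
theorem F325033 : act 5 n62274 = n36285 := (sb E88112 (iv5 D79689))
theorem E89652 : n165968 = n132664 := (((D132664).symm.trans (sb E88113 D165968))).symm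
theorem E89653 : n165969 = n132665 := (((D132665).symm.trans (sb E88113 D165969))).symm
theorem E89655 : n132666 = n126482 := ((D132666).symm.trans (sb E88113 (tr (iv5 F256643) E89490)))
theorem E89656 : n165962 = n132711 := (((D132711).symm.trans (sb E88114 D165962))).symm
theorem E89658 : n132713 = n55798 := ((D132713).symm.trans (sb E88114 F258150))
theorem E89660 : n165965 = n132716 := (((D132716).symm.trans (sb E88115 D165965))).symm
theorem E89662 : n132718 = n55799 := ((D132718).symm.trans (sb E88115 F248732))
theorem F325034 : act 1 n85505 = n66756 := (sb E88118 (iv0 D142353))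
theorem F325035 : act 0 n85504 = n66756 := (sb E88119 (iv1 D142354))
theorem F325036 : act 0 n53817 = n31129 := (sb E88120 (iv1 D66770))
theorem F325037 : act 1 n53817 = n58464 := (sb E88120 (iv0 F320418))
theorem F325038 : act 6 n108241 = n67028 := (sb E88123 (iv6 D143020))
theorem F325039 : act 6 n138746 = n66516 := (sb E88128 (iv6 D141874))
theorem E89674 : n77997 = n58906 := ((((iv5 F93120)).symm.trans (sb E88134 (iv5 D162382)))).symm
theorem F325040 : act 0 n31310 = n65216 := (sb E88137 F320422)
theorem F325041 : act 1 n31310 = n53682 := (sb E88137 (iv0 D116474))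
theorem E89675 : n116838 = n116301 := (((F320216).symm.trans (sb E88148 (iv1 F182437)))).symm
theorem E89676 : n116300 = n31330 := ((F320217).symm.trans (sb E88148 (iv0 D67401)))
theorem E89678 : n143887 = n138654 := ((((iv4 F221818)).symm.trans (sb E88148 D143887))).symm
theorem F325042 : act 5 n34657 = n50947 := (sb E88149 (iv5 D110492))
theorem F325043 : act 5 n34642 = n50948 := (sb E88151 (iv5 D110494))
theorem E89685 : n111592 = n35571 := ((D111592).symm.trans (sb E88153 (iv3 D77964)))
theorem E89686 : n162291 = n111593 := (((D111593).symm.trans (sb E88153 D162291))).symm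
theorem E89691 : n162302 = n25008 := ((((iv3 F39244)).symm.trans (sb E88155 D162302))).symm
theorem E89692 : n160449 = n25011 := ((((iv4 F39246)).symm.trans (sb E88155 (iv4 F253452)))).symm
theorem F325044 : act 3 n110323 = n78140 := (sb E88156 (iv3 D162659))
theorem F325045 : act 3 n58235 = n50875 := (sb E88157 F170562)
theorem E89695 : n112153 = n50873 := ((E88562).symm.trans ((D124638).symm.trans (sb E88157 (iv6 D110330))))
theorem F325046 : act 0 n75784 = n50958 := (sb E88158 F170565)
theorem F325047 : act 5 n75784 = n50875 := (sb E88158 (iv5 D110331))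
theorem E89696 : n176663 = n112258 := ((D176663).symm.trans (sb E88159 (iv1 F223591)))
theorem E89697 : n176664 = n112130 := ((D176664).symm.trans (sb E88159 (iv0 F227094)))
theorem E89698 : n176665 = n156130 := ((D176665).symm.trans (sb E88159 (iv2 F245345)))
theorem F325048 : act 4 n84231 = n65140 := (sb E88159 (iv4 D138731))
theorem E89699 : n174607 = n156669 := (((iv6 F273462)).symm.trans (sb E88159 (iv6 F246406)))
theorem F325049 : act 1 n75352 = n50958 := (sb E88161 (iv0 D110510))
theorem E89700 : n86094 = n59322 := ((((iv3 F93543)).symm.trans (sb E88162 (iv3 F132047)))).symm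
theorem F325050 : act 4 n28161 = n35576 := (sb E88162 (iv4 D77980))
theorem E89702 : n162331 = n107764 := ((((iv3 F166515)).symm.trans (sb E88163 D162331))).symm
theorem F325051 : act 4 n49780 = n35577 := (sb E88163 (iv4 D77982))
theorem E89709 : n161250 = n50671 := ((((iv2 F80029)).symm.trans (sb E88167 D161250))).symm
theorem E89710 : n80004 = n50687 := ((((iv4 F80048)).symm.trans (sb E88167 (iv4 F122800)))).symm
theorem F325052 : act 2 n115374 = n71874 := (sb E88168 (iv2 D152346))
theorem F325053 : act 3 n140268 = n72130 := (sb E88182 F240067)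
theorem E89711 : n111541 = n57436 := ((D111541).symm.trans (sb E88224 (iv3 D123330)))
theorem E89716 : n112212 = n79971 := ((D112212).symm.trans (sb E88227 F126136))
theorem E89717 : n112213 = n76803 := ((D112213).symm.trans (sb E88227 F298028))
theorem E89718 : n112214 = n98157 := ((D112214).symm.trans (sb E88227 (iv2 F151401)))
theorem F325054 : act 5 n51758 = n35308 := (sb E88227 F116154)
theorem F325055 : act 6 n51758 = n56124 := (sb E88227 F298029)
theorem E89720 : n82913 = n50613 := ((((iv4 F79992)).symm.trans (sb E88233 F262679))).symm
theorem F325056 : act 7 n85503 = n66226 := (sb E88238 (iv7 D141182))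
theorem F325057 : act 0 n137617 = n64837 := (sb E88240 (iv1 F221183))
theorem F325058 : act 2 n137617 = n64839 := (sb E88240 F221181)
theorem F325059 : act 6 n137617 = n64824 := (sb E88240 (iv6 D137934))
theorem F325060 : act 7 n137617 = n64825 := (sb E88240 F221182)
theorem F325061 : act 4 n31246 = n64837 := (sb E88242 (iv4 D137969))
theorem F325062 : act 4 n137971 = n65299 := (sb E88244 (iv4 D139124))
theorem F325063 : act 7 n137619 = n64837 := (sb E88245 (iv7 F221227))
theorem E89721 : n109305 = n83472 := ((D109305).symm.trans (sb E88248 F273201))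
theorem E89723 : n83470 = n51652 := ((D83470).symm.trans (sb E88249 (iv1 F81554)))
theorem E89724 : n109322 = n83471 := (((D83471).symm.trans (sb E88249 F169343))).symm
theorem F325064 : act 4 n38482 = n24629 := (sb E88249 F79922)
theorem E89726 : n109577 = n83473 := (((D83473).symm.trans (sb E88249 (iv5 F169522)))).symm
theorem E89727 : n51577 = n34480 := (((F59322).symm.trans (sb E88249 (iv6 F81409)))).symm
theorem F325065 : act 7 n38482 = n24626 := (sb E88249 (iv7 D50552))
theorem F325066 : act 0 n16728 = n24604 := (sb E88252 (iv1 F39368))
theorem F325067 : act 1 n16728 = n24603 := (sb E88252 F39369)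
theorem F325068 : act 2 n16728 = n24606 := (sb E88252 F39364)
theorem F325069 : act 4 n16728 = n11913 := (sb E88252 F39365)
theorem F325070 : act 0 n36256 = n51916 := (sb E88253 F81953)
theorem F325071 : act 1 n36256 = n74503 := (sb E88253 (iv0 F111848))
theorem F325072 : act 2 n36256 = n51802 := (sb E88253 (iv2 F81794))
theorem F325073 : act 4 n36256 = n28054 := (sb E88253 F80059)
theorem F325074 : act 7 n36256 = n51740 := (sb E88253 (iv7 F81675))
theorem F325075 : act 0 n38395 = n74503 := (sb E88254 (iv1 F111849))
theorem F325076 : act 1 n38395 = n51916 := (sb E88254 (iv0 F81952))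
theorem F325077 : act 2 n38395 = n51740 := (sb E88254 (iv2 F81673))
theorem F325078 : act 7 n38395 = n51802 := (sb E88254 (iv7 F81796))
theorem F325079 : act 3 n38452 = n74503 := (sb E88255 (iv3 D156676))
theorem F325080 : act 3 n112526 = n82414 := (sb E88256 (iv3 D172078))
theorem F325081 : act 7 n112526 = n84231 := (sb E88256 F270212)
theorem F325082 : act 3 n37803 = n51916 := (sb E88257 F174992)
theorem E89736 : n78847 = n51915 := (((iv6 F120011)).symm.trans (sb E88257 (iv6 D112531)))
theorem E89737 : n108965 = n77863 := ((D108965).symm.trans (sb E88263 (iv3 D162073)))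
theorem E89743 : n125344 = n108229 := ((((iv3 F167355)).symm.trans (sb E88266 (iv3 F201620)))).symm
theorem F325083 : act 4 n49985 = n35419 := (sb E88266 (iv4 D77596))
theorem E89745 : n161548 = n59115 := ((((iv3 F93283)).symm.trans (sb E88268 D161548))).symm
theorem F325084 : act 4 n28083 = n35418 := (sb E88268 (iv4 D77593))
theorem E89746 : n109846 = n24721 := (((E88477).symm.trans (((iv1 F132696)).symm.trans (sb E88269 D109846)))).symm
theorem F325085 : act 4 n8072 = n13378 := (sb E88270 F39602)
theorem F325086 : act 7 n8072 = n11947 := (sb E88270 (iv7 D25166))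
theorem F325087 : act 1 n17638 = n11947 := (sb E88271 F47801)
theorem F325088 : act 4 n17638 = n11935 := (sb E88271 (iv4 D25128))
theorem F325089 : act 3 n142596 = n69731 := (sb E88288 (iv3 D148787))
theorem F325090 : act 7 n142596 = n146893 := (sb E88288 F233604)
theorem F325091 : act 3 n142459 = n67908 := (sb E88289 (iv3 D144875))
theorem F325092 : act 4 n142459 = n146893 := (sb E88289 (iv4 F230274))
theorem F325093 : act 2 n61704 = n62851 := (sb E88290 F237449)
theorem E89752 : n131477 = n49880 := ((D131477).symm.trans (sb E88290 (iv3 D108002)))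
theorem F325094 : act 7 n61704 = n108404 := (sb E88290 F200034)
theorem F325095 : act 0 n105853 = n67972 := (sb E88291 (iv1 F183180))
theorem F325096 : act 1 n105853 = n53974 := (sb E88291 (iv0 D117113))
theorem F325097 : act 6 n105853 = n131484 := (sb E88291 (iv6 F210748))
theorem E89755 : n136192 = n108804 := ((((iv2 F168730)).symm.trans (sb E88293 (iv2 F219227)))).symm
theorem F325098 : act 3 n63093 = n30193 := (sb E88293 F99628)
theorem E89756 : n135926 = n134298 := (((D134298).symm.trans (sb E88293 (iv5 F218641)))).symm
theorem F325099 : act 6 n63093 = n30189 := (sb E88293 (iv6 D64040))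
theorem E89757 : n136209 = n63591 := (((F163914).symm.trans (sb E88293 D136209))).symm
theorem E89758 : n134449 = n127038 := (((D127038).symm.trans (sb E88294 (iv0 F217249)))).symm
theorem F325100 : act 4 n59614 = n63458 := (sb E88294 F217247)
theorem F325101 : act 6 n59614 = n63456 := (sb E88294 (iv6 D135024))
theorem F325102 : act 2 n64901 = n61026 := (sb E88295 (iv2 D129938))
theorem E89759 : n138131 = n132735 := (((iv3 F221332)).symm.trans (sb E88295 (iv3 F213098)))
theorem F325103 : act 0 n64898 = n61026 := (sb E88296 (iv1 D129937))
theorem F325104 : act 1 n64899 = n61026 := (sb E88297 (iv0 D129936))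
theorem E89761 : n138129 = n132733 := ((D138129).symm.trans (sb E88298 F213097))
theorem F325105 : act 2 n64897 = n61024 := (sb E88298 (iv2 D129933))
theorem F325106 : act 4 n64048 = n61026 := (sb E88299 (iv4 D129939))
theorem F325107 : act 1 n83156 = n64831 := (sb E88304 (iv0 D137945))
theorem F325108 : act 1 n137946 = n84028 := (sb E88305 F303534)
theorem F325109 : act 2 n137946 = n79814 := (sb E88305 F261682)
theorem F325110 : act 4 n137946 = n79800 := (sb E88305 (iv4 D166204))
theorem F325111 : act 7 n137946 = n98120 := (sb E88305 F303535)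
theorem F325112 : act 0 n137941 = n98120 := (sb E88306 F249786)
theorem F325113 : act 1 n137941 = n79814 := (sb E88306 F306245)
theorem F325114 : act 4 n137941 = n75655 := (sb E88306 (iv4 D158600))
theorem F325115 : act 7 n137941 = n84028 := (sb E88306 F249785)
theorem F325116 : act 4 n137947 = n84234 := (sb E88308 F275411)
theorem F325117 : act 0 n137948 = n79814 := (sb E88309 (iv1 D166230))
theorem F325118 : act 1 n137948 = n98120 := (sb E88309 F302344)
theorem F325119 : act 2 n137948 = n84028 := (sb E88309 F302345)
theorem F325120 : act 4 n137948 = n82400 := (sb E88309 F302346)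
theorem F325121 : act 6 n74031 = n77845 := (sb E88311 (iv6 D162046))
theorem F325122 : act 0 n58697 = n82596 := (sb E88317 (iv1 D172525))
theorem E89762 : n124482 = n58993 := (((D58993).symm.trans (sb E88323 (iv4 F256241)))).symm
theorem E89764 : n77897 = n58975 := (((F93182).symm.trans (sb E88325 D77897))).symm
theorem F325123 : act 4 n28033 = n17321 := (sb E88325 F56209)
theorem F325124 : act 6 n28033 = n17241 := (sb E88325 F56210)
theorem F325125 : act 0 n35741 = n58983 := (sb E88326 (iv1 F202463))
theorem F325126 : act 1 n35741 = n58982 := (sb E88326 F202464)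
theorem F325127 : act 4 n35741 = n58977 := (sb E88326 F202462)
theorem F325128 : act 7 n35741 = n58974 := (sb E88326 (iv7 D125955))
theorem F325129 : act 0 n35587 = n28140 := (sb E88328 (iv1 F93474))
theorem F325130 : act 1 n35587 = n28139 := (sb E88328 F93477)
theorem F325131 : act 3 n35587 = n59014 := (sb E88328 F93471)
theorem F325132 : act 5 n35587 = n59343 := (sb E88328 (iv5 F93613))
theorem F325133 : act 6 n35587 = n58977 := (sb E88328 F93472)
theorem F325134 : act 7 n35587 = n28135 := (sb E88328 (iv7 D59251))
theorem E89766 : n84516 = n58883 := (((D58883).symm.trans (sb E88334 F255376))).symm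
theorem E89768 : n50641 = n18503 := ((D50641).symm.trans (sb E88335 (iv3 D38985)))
theorem F325135 : act 5 n24661 = n37969 := (sb E88335 F297492)
theorem F325136 : act 6 n24661 = n38395 := (sb E88335 (iv6 F118438))
theorem F325137 : act 4 n28042 = n38395 := (sb E88336 (iv4 D83340))
theorem F325138 : act 3 n108977 = n165708 := (sb E88346 (iv3 F261039))
theorem F325139 : act 3 n86258 = n59011 := (sb E88354 F202676)
theorem F325140 : act 6 n86258 = n59009 := (sb E88354 (iv6 D125996))
theorem F325141 : act 2 n126013 = n60786 := (sb E88355 (iv2 D129344))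
theorem F325142 : act 7 n126013 = n60787 := (sb E88355 (iv7 F207533))
theorem F325143 : act 5 n51953 = n60786 := (sb E88356 (iv5 D129347))
theorem F325144 : act 2 n126012 = n60787 := (sb E88357 F207534)
theorem F325145 : act 7 n126012 = n60786 := (sb E88357 (iv7 D129349))
theorem F325146 : act 5 n51954 = n60787 := (sb E88358 (iv5 D129352))
theorem E89771 : n130230 = n62383 := ((((iv4 F207234)).symm.trans (sb E88359 F217520))).symm
theorem E89772 : n134526 = n63600 := ((D134526).symm.trans (sb E88359 (iv6 D135284)))
theorem F325147 : act 6 n62208 = n60925 := (sb E88360 (iv6 D129697))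
theorem F325148 : act 6 n62209 = n60926 := (sb E88361 (iv6 D129698))
theorem E89773 : n132695 = n61009 := (((D61009).symm.trans (sb E88365 (iv6 F213023)))).symm
theorem E89775 : n132693 = n132582 := ((D132693).symm.trans (sb E88366 F212816))
theorem E89776 : n130134 = n62350 := ((D130134).symm.trans (sb E88367 (iv6 D132862)))
theorem F325149 : act 6 n63238 = n63621 := (sb E88368 (iv6 D135341))
theorem E89777 : n130013 = n126611 := ((D130013).symm.trans (sb E88369 F213266))
theorem F325150 : act 6 n61059 = n62319 := (sb E88369 (iv6 D132784))
theorem F325151 : act 3 n59400 = n61002 := (sb E88370 (iv3 D129868))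
theorem E89778 : n132579 = n126614 := (((D126614).symm.trans (sb E88370 (iv7 F212806)))).symm
theorem F325152 : act 7 n62206 = n60924 := (sb E88371 (iv7 D129694))
theorem E89783 : n129885 = n112602 := (((D112602).symm.trans (sb E88375 (iv1 F208232)))).symm
theorem E89784 : n129884 = n112603 := (((D112603).symm.trans (sb E88375 F208235))).symm
theorem E89785 : n129887 = n112545 := ((((iv2 F175042)).symm.trans (sb E88375 (iv2 F208234)))).symm
theorem F325153 : act 3 n51955 = n28928 := (sb E88375 F95553)
theorem E89786 : n129840 = n112604 := (((D112604).symm.trans (sb E88375 (iv4 F208192)))).symm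
theorem E89787 : n112595 = n62221 := (((iv6 F175187)).symm.trans (sb E88375 (iv6 F96981)))
theorem E89788 : n112605 = n28923 := ((D112605).symm.trans (sb E88375 (iv7 D61019)))
theorem E89789 : n78005 = n60915 := (((F95456).symm.trans (sb E88376 (iv1 F256592)))).symm
theorem E89790 : n78010 = n60977 := ((((iv0 F95520)).symm.trans (sb E88376 (iv0 F248742)))).symm
theorem E89792 : n121633 = n60992 := ((((iv4 F95539)).symm.trans (sb E88376 D121633))).symm
theorem F325154 : act 1 n110588 = n78710 := (sb E88377 (iv0 D163836))
theorem F325155 : act 0 n110587 = n78710 := (sb E88378 (iv1 D163837))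
theorem F325156 : act 2 n51924 = n78710 := (sb E88379 F258152)
theorem E89793 : n112543 = n78695 := ((D112543).symm.trans (sb E88379 (iv6 D163792)))
theorem E89794 : n181861 = n51022 := (((D51022).symm.trans (sb E88380 D181861))).symm
theorem E89796 : n178689 = n50994 := ((((iv2 F80438)).symm.trans (sb E88380 (iv2 F323014)))).symm
theorem F325157 : act 3 n24815 = n40287 := (sb E88380 (iv3 D86859))
theorem E89797 : n86120 = n51024 := (((D51024).symm.trans (sb E88380 F133226))).symm
theorem E89798 : n73999 = n51025 := (((D51025).symm.trans (sb E88380 F133227))).symm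
theorem F325158 : act 6 n25102 = n18452 := (sb E88385 (iv6 D38823))
theorem E89799 : n35234 = n24602 := (((D24602).symm.trans (sb E88386 (iv6 D77185)))).symm
theorem F325159 : act 6 n38267 = n24599 := (sb E88387 (iv6 D50483))
theorem F325160 : act 2 n111906 = n84779 := (sb E88388 F302604)
theorem F325161 : act 6 n111906 = n84652 := (sb E88388 F302605)
theorem F325162 : act 3 n39099 = n51612 := (sb E88389 F173877)
theorem F325163 : act 6 n39099 = n51609 := (sb E88389 (iv6 D111907))
theorem E89804 : n160412 = n109155 := ((D160412).symm.trans (sb E88390 (iv5 F173757)))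
theorem F325164 : act 1 n111875 = n57928 := (sb E88391 (iv0 D124248))
theorem F325165 : act 6 n111875 = n160474 := (sb E88391 (iv6 F303610))
theorem F325166 : act 0 n50207 = n57928 := (sb E88392 (iv1 D124249))
theorem F325167 : act 5 n50383 = n57928 := (sb E88393 (iv5 D124250))
theorem F325168 : act 0 n50476 = n78544 := (sb E88395 F297636)
theorem E89805 : n109403 = n58179 := ((D109403).symm.trans (sb E88395 (iv6 D124603)))
theorem F325169 : act 3 n27723 = n24598 := (sb E88396 F79835)
theorem F325170 : act 6 n27723 = n24597 := (sb E88396 (iv6 D50477))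
theorem F325171 : act 1 n110463 = n78544 := (sb E88397 (iv0 D163436))
theorem F325172 : act 6 n110463 = n84492 := (sb E88397 (iv6 F257728))
theorem F325173 : act 2 n38973 = n50946 := (sb E88398 F170893)
theorem F325174 : act 6 n38973 = n50945 := (sb E88398 (iv6 D110487))
theorem F325175 : act 1 n37204 = n50957 := (sb E88399 (iv0 F170866))
theorem F325176 : act 6 n37204 = n28150 := (sb E88399 (iv6 D59296))
theorem F325177 : act 6 n35160 = n28073 := (sb E88400 (iv6 D59103))
theorem F325178 : act 3 n38963 = n24635 := (sb E88401 (iv3 D50575))
theorem E89812 : n109649 = n84486 := ((((iv4 F129613)).symm.trans (sb E88401 D109649))).symm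
theorem F325179 : act 7 n38963 = n50957 := (sb E88401 F80403)
theorem F325180 : act 0 n27899 = n50957 := (sb E88402 (iv1 D110508))
theorem F325181 : act 6 n25060 = n35520 := (sb E88403 (iv6 D77837))
theorem F325182 : act 0 n78461 = n50481 := (sb E88422 (iv1 D109423))
theorem F325183 : act 1 n78461 = n50486 := (sb E88422 F169408)
theorem E89823 : n163250 = n111979 := (((iv3 F257545)).symm.trans (sb E88422 F174091))
theorem F325184 : act 7 n78461 = n112038 := (sb E88422 (iv7 F174154))
theorem E89824 : n109381 = n84792 := ((D109381).symm.trans (sb E88423 F298075))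
theorem F325185 : act 3 n50469 = n77191 := (sb E88424 F198739)
theorem E89825 : n163959 = n109378 := (((D109378).symm.trans (sb E88424 (iv4 F258416)))).symm
theorem E89826 : n120285 = n109380 := (((D109380).symm.trans (sb E88424 F198740))).symm
theorem E89827 : n79971 = n25180 := (((D25180).symm.trans (sb E88425 (iv6 F297174)))).symm
theorem E89828 : n109667 = n98173 := (((iv1 F170052)).symm.trans (sb E88426 F151439))
theorem F325186 : act 3 n51887 = n80587 := (sb E88426 F126132)
theorem E89829 : n123478 = n112470 := ((((iv4 F174951)).symm.trans (sb E88426 (iv4 F299221)))).symm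
theorem E89830 : n112471 = n35398 := ((D112471).symm.trans (sb E88426 (iv5 D77531)))
theorem E89831 : n109665 = n57920 := (((iv7 F170936)).symm.trans (sb E88426 F297164))
theorem E89834 : n112449 = n35700 := ((((iv5 F119485)).symm.trans (sb E88427 D112449))).symm
theorem F325187 : act 6 n36425 = n25177 := (sb E88427 (iv6 D51876))
theorem F325188 : act 6 n124173 = n59062 := (sb E88428 (iv6 D126056))
theorem F325189 : act 0 n111832 = n83261 := (sb E88430 (iv1 F250014))
theorem F325190 : act 1 n111832 = n75768 := (sb E88430 (iv0 D158807))
theorem F325191 : act 2 n111832 = n88652 := (sb E88430 (iv2 F250015))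
theorem F325192 : act 4 n111832 = n77151 := (sb E88430 F299368)
theorem F325193 : act 5 n111832 = n83296 := (sb E88430 F250012)
theorem F325194 : act 7 n111832 = n88650 := (sb E88430 (iv7 F250016))
theorem E89836 : n160391 = n50787 := (((D50787).symm.trans (sb E88432 F299322))).symm
theorem E89837 : n80208 = n50789 := (((D50789).symm.trans (sb E88432 F299323))).symm
theorem F325195 : act 0 n78097 = n51689 := (sb E88433 (iv1 F170965))
theorem F325196 : act 6 n78097 = n50788 := (sb E88433 (iv6 D110128))
theorem E89838 : n109383 = n47668 := (((F299328).symm.trans (sb E88433 (iv7 F170961)))).symm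
theorem F325197 : act 0 n51610 = n47685 := (sb E88434 F250150)
theorem E89841 : n112067 = n111910 := (((D111910).symm.trans (sb E88434 (tr (iv6 F298005) E88718)))).symm
theorem F325198 : act 6 n41393 = n50786 := (sb E88435 (iv6 D110121))
theorem F325199 : act 3 n64523 = n47685 := (sb E88436 F158081)
theorem E89842 : n137288 = n47684 := ((D137288).symm.trans (sb E88436 (iv6 D102816)))
theorem F325200 : act 4 n50449 = n77189 := (sb E88440 (iv4 D160852))
theorem E89844 : n121041 = n109327 := (((D109327).symm.trans (sb E88440 F254016))).symm
theorem F325201 : act 3 n38484 = n24626 := (sb E88443 F79914)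
theorem E89847 : n109561 = n83479 := ((((iv5 F128580)).symm.trans (sb E88443 D109561))).symm
theorem F325202 : act 6 n38484 = n24624 := (sb E88443 (iv6 D50544))
theorem E89848 : n163268 = n109256 := (((F173509).symm.trans (sb E88444 (iv4 F257577)))).symm
theorem F325203 : act 6 n111790 = n75804 := (sb E88444 (iv6 D158872))
theorem F325204 : act 6 n34665 = n51568 := (sb E88446 (iv6 D111836))
theorem F325205 : act 4 n109422 = n77191 := (sb E88447 F254013)
theorem F325206 : act 6 n109422 = n121650 := (sb E88447 F254014)
theorem F325207 : act 7 n109422 = n77188 := (sb E88447 (iv7 D160851))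
theorem E89850 : n109333 = n35756 := ((D109333).symm.trans (sb E88448 (iv6 D78470)))
theorem F325208 : act 6 n55851 = n51656 := (sb E88449 (iv6 D112005))
theorem F325209 : act 1 n36423 = n59058 := (sb E88450 (iv0 D126049))
theorem F325210 : act 0 n38994 = n59058 := (sb E88451 (iv1 D126050))
theorem F325211 : act 7 n126043 = n84369 := (sb E88452 F297574)
theorem F325212 : act 0 n126051 = n84544 := (sb E88453 (iv1 F299650))
theorem F325213 : act 1 n126051 = n84543 := (sb E88453 F297575)
theorem F325214 : act 2 n126051 = n84547 := (sb E88453 F297576)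
theorem F325215 : act 4 n126051 = n84462 := (sb E88453 F297577)
theorem F325216 : act 7 n126051 = n84370 := (sb E88453 F297578)
theorem F325217 : act 7 n38905 = n59058 := (sb E88454 (iv7 D126052))
theorem F325218 : act 6 n36419 = n28154 := (sb E88455 (iv6 D59310))
theorem E89855 : n126388 = n35728 := ((D126388).symm.trans (sb E88456 (iv1 D78390)))
theorem E89856 : n126389 = n86502 := ((D126389).symm.trans (sb E88456 (iv0 F132688)))
theorem E89857 : n163016 = n126383 := ((((iv3 F203216)).symm.trans (sb E88456 D163016))).symm
theorem E89858 : n162912 = n126390 := (((D126390).symm.trans (sb E88456 (iv5 F257231)))).symm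
theorem E89859 : n126391 = n57341 := ((D126391).symm.trans (sb E88456 F121045))
theorem F325219 : act 6 n126125 = n79942 := (sb E88473 (iv6 D166566))
theorem F325220 : act 6 n36414 = n59104 := (sb E88475 (iv6 D126127))
theorem E89864 : n124436 = n50801 := (((D50801).symm.trans (sb E88476 F268473))).symm
theorem E89865 : n80196 = n50808 := (((D50808).symm.trans (sb E88477 F298905))).symm
theorem E89866 : n50809 = n35532 := ((D50809).symm.trans (sb E88477 F132696))
theorem F325221 : act 3 n24721 = n35685 := (sb E88477 F118686)
theorem E89867 : n50810 = n35494 := ((D50810).symm.trans (sb E88477 (iv5 D77777)))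
theorem E89868 : n79948 = n50811 := (((D50811).symm.trans (sb E88477 F122713))).symm
theorem F325222 : act 6 n78274 = n50793 := (sb E88478 (iv6 D110140))
theorem F325223 : act 6 n79940 = n51873 := (sb E88483 (iv6 D112441))
theorem F325224 : act 3 n24730 = n44985 := (sb E88484 F119918)
theorem E89869 : n50844 = n35859 := ((D50844).symm.trans (sb E88484 (iv6 D78759)))
theorem F325225 : act 3 n111681 = n76193 := (sb E88487 F250742)
theorem F325226 : act 6 n111681 = n76191 := (sb E88487 (iv6 D159254))
theorem F325227 : act 0 n51852 = n35822 := (sb E88488 (iv1 F323458))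
theorem F325228 : act 1 n51852 = n55913 := (sb E88488 (iv0 F323457))
theorem E89870 : n112115 = n83139 := ((D112115).symm.trans (sb E88489 F298635))
theorem E89871 : n112116 = n35721 := ((D112116).symm.trans (sb E88489 F298636))
theorem E89872 : n158849 = n112117 := (((D112117).symm.trans (sb E88489 D158849))).symm
theorem E89873 : n112118 = n80006 := ((D112118).symm.trans (sb E88489 F298637))
theorem F325229 : act 6 n109862 = n80007 := (sb E88490 (iv6 D166700))
theorem F325230 : act 6 n36442 = n50677 := (sb E88492 (iv6 D109884))
theorem E89874 : n112240 = n50675 := ((D112240).symm.trans (sb E88502 (iv6 D109880)))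
theorem E89877 : n110268 = n35307 := ((D110268).symm.trans (sb E88496 (iv1 D77341)))
theorem F325231 : act 3 n50849 = n35637 := (sb E88496 F298031)
theorem E89879 : n110270 = n35517 := ((D110270).symm.trans (sb E88496 (iv5 F298280)))
theorem E89880 : n110271 = n76803 := ((D110271).symm.trans (sb E88496 F298033))
theorem F325232 : act 0 n50704 = n80000 := (sb E88497 (iv1 D166685))
theorem F325233 : act 3 n74182 = n80000 := (sb E88499 F262337)
theorem E89881 : n155971 = n79998 := ((D155971).symm.trans (sb E88499 (iv6 D166682)))
theorem F325234 : act 4 n50602 = n92311 := (sb E88500 (iv4 F250023))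
theorem F325235 : act 6 n51894 = n50813 := (sb E88503 (iv6 D110201))
theorem E89882 : n36475 = n24726 := (((D24726).symm.trans (sb E88504 (iv6 D80088)))).symm
theorem F325236 : act 6 n19500 = n24723 := (sb E88505 (iv6 D50818))
theorem F325237 : act 1 n112242 = n84228 := (sb E88508 (iv0 D176658))
theorem F325238 : act 4 n109714 = n69214 := (sb E88509 F204881)
theorem F325239 : act 6 n109714 = n59862 := (sb E88509 (iv6 D127453))
theorem F325240 : act 6 n51701 = n50603 := (sb E88510 (iv6 D109715))
theorem F325241 : act 6 n20277 = n28072 := (sb E88511 (iv6 D59099))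
theorem E89891 : n111700 = n76899 := ((D111700).symm.trans (sb E88514 (iv6 D160419)))
theorem F325242 : act 6 n35138 = n25027 := (sb E88516 (iv6 D51509))
theorem E89896 : n111691 = n57437 := ((D111691).symm.trans (sb E88517 F299237))
theorem E89897 : n111692 = n57436 := ((D111692).symm.trans (sb E88517 (iv0 F299741)))
theorem E89898 : n159246 = n111683 := ((((iv3 F173254)).symm.trans (sb E88517 D159246))).symm
theorem F325243 : act 4 n51504 = n34801 := (sb E88517 (iv4 D76189))
theorem E89899 : n159247 = n111693 := (((D111693).symm.trans (sb E88517 D159247))).symm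
theorem E89900 : n111694 = n57234 := ((D111694).symm.trans (sb E88517 (iv7 F299730)))
theorem F325244 : act 6 n110256 = n76904 := (sb E88518 (iv6 D160436))
theorem F325245 : act 6 n35140 = n50842 := (sb E88520 (iv6 D110258))
theorem F325246 : act 4 n81992 = n50849 := (sb E88521 F170491)
theorem F325247 : act 6 n81992 = n50847 := (sb E88521 (iv6 D110267))
theorem E89901 : n56643 = n50821 := (((D50821).symm.trans (sb E88522 (iv6 D122324)))).symm
theorem F325248 : act 6 n51879 = n50798 := (sb E88525 (iv6 D110154))
theorem F325249 : act 6 n20248 = n13435 := (sb E88526 (iv6 D28156))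
theorem F325250 : act 0 n108987 = n137318 := (sb E88531 (iv1 F220484))
theorem F325251 : act 1 n108987 = n59580 := (sb E88531 (iv0 D126949))
theorem F325252 : act 5 n108987 = n107630 := (sb E88531 F204202)
theorem F325253 : act 7 n108987 = n137316 := (sb E88531 (iv7 F220478))
theorem F325254 : act 0 n108992 = n59580 := (sb E88532 (iv1 D126950))
theorem F325255 : act 1 n108992 = n137318 := (sb E88532 F220483)
theorem F325256 : act 2 n108992 = n137316 := (sb E88532 F220479)
theorem F325257 : act 5 n108992 = n117096 := (sb E88532 (iv5 F204203))
theorem F325258 : act 6 n38272 = n25120 := (sb E88533 (iv6 D51731))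
theorem F325259 : act 6 n109692 = n83294 := (sb E88534 (iv6 D174267))
theorem F325260 : act 6 n38369 = n50604 := (sb E88536 (iv6 D109717))
theorem F325261 : act 6 n38175 = n24633 := (sb E88537 (iv6 D50570))
theorem E89916 : n176798 = n112246 := (((D112246).symm.trans (sb E88544 (iv6 F276180)))).symm
theorem F325262 : act 3 n18470 = n25141 := (sb E88545 F81770)
theorem E89919 : n112249 = n38869 := (((D38869).symm.trans (sb E88545 D112249))).symm
theorem F325263 : act 6 n18470 = n25139 := (sb E88545 (iv6 D51774))
theorem E89920 : n112250 = n34459 := ((((iv7 F54672)).symm.trans (sb E88545 D112250))).symm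
theorem F325264 : act 6 n8684 = n11909 := (sb E88546 (iv6 D25070))
theorem F325265 : act 3 n16713 = n25152 := (sb E88550 F81791)
theorem E89936 : n109940 = n51915 := ((D109940).symm.trans (sb E88552 (tr (iv1 F258671) E89736)))
theorem E89937 : n109941 = n78844 := ((D109941).symm.trans (sb E88552 (iv0 D164122)))
theorem F325266 : act 3 n50706 = n86213 := (sb E88552 F298664)
theorem E89938 : n109942 = n51795 := (((D51795).symm.trans (sb E88555 (iv6 F170063)))).symm
theorem E89941 : n176856 = n111953 := (((F173966).symm.trans (sb E88557 (iv2 F276230)))).symm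
theorem F325267 : act 3 n64077 = n38879 := (sb E88557 F129383)
theorem E89942 : n176863 = n136297 := (((D136297).symm.trans (sb E88557 D176863))).symm
theorem E89943 : n136298 = n38877 := ((D136298).symm.trans (sb E88557 (iv6 D84311)))
theorem F325268 : act 6 n34466 = n24685 := (sb E88558 (iv6 D50707))
theorem E89944 : n51732 = n16787 := ((D51732).symm.trans (sb E88559 (iv1 D34662)))
theorem E89945 : n51733 = n38269 := ((D51733).symm.trans (sb E88559 (iv0 F296954)))
theorem F325269 : act 2 n25121 = n38272 := (sb E88559 (iv2 F296959))
theorem F325270 : act 0 n112151 = n84235 := (sb E88560 F276043)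
theorem F325271 : act 0 n38844 = n109943 := (sb E88561 (iv1 F174389))
theorem F325272 : act 1 n38844 = n51725 := (sb E88561 (iv0 D112152))
theorem E89946 : n124638 = n50873 := (E88562).trans E89695
theorem E89947 : n110328 = n78844 := ((D110328).symm.trans (sb E89946 F199368))
theorem E89948 : n162661 = n110321 := ((((iv4 F170553)).symm.trans (sb E89946 F298647))).symm
theorem E89949 : n110329 = n75789 := ((D110329).symm.trans (sb E89946 F199369))
theorem F325273 : act 6 n50873 = n58235 := (sb E89946 (iv6 D124638))
theorem E89950 : n50708 = n34464 := ((D50708).symm.trans (sb E88563 F56427))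
theorem E89951 : n50709 = n34434 := ((D50709).symm.trans (sb E88563 F56428))
theorem F325274 : act 2 n24686 = n34466 := (sb E88563 F56425)
theorem F325275 : act 5 n24686 = n17326 := (sb E88563 (iv5 D35750))
theorem F325276 : act 7 n24686 = n34462 := (sb E88563 F56426)
theorem F325277 : act 6 n51790 = n50699 := (sb E88564 (iv6 D109932))
theorem F325278 : act 6 n44510 = n58938 := (sb E88569 (iv6 D125862))
theorem F325279 : act 6 n79972 = n51874 := (sb E88570 (iv6 D112444))
theorem E89952 : n59298 = n17924 := ((D59298).symm.trans (sb E88571 (iv1 D37316)))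
theorem E89953 : n59299 = n45184 := ((D59299).symm.trans (sb E88571 F71202))
theorem F325280 : act 2 n28151 = n35160 := (sb E88571 (iv2 F126076))
theorem F325281 : act 3 n28151 = n27482 := (sb E88571 (iv3 F297525))
theorem E89954 : n59300 = n27452 := ((D59300).symm.trans (sb E88571 (iv5 F296464)))
theorem E89955 : n59301 = n27451 := ((D59301).symm.trans (sb E88571 F296375))
theorem E89956 : n126136 = n59108 := (((iv2 F202838)).symm.trans (sb E88572 (iv2 D126141)))
theorem F325282 : act 3 n57911 = n59108 := (sb E88573 (iv3 D126142))
theorem E89957 : n124211 = n110286 := (((iv4 F198704)).symm.trans (sb E88573 F202840))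
theorem F325283 : act 5 n78868 = n59108 := (sb E88574 (iv5 D126144))
theorem F325284 : act 6 n57909 = n59108 := (sb E88575 (iv6 D126145))
theorem E89958 : n158425 = n113525 := (((iv3 F323859)).symm.trans (sb E88578 (iv3 F202843)))
theorem E89959 : n181221 = n50953 := ((D181221).symm.trans (sb E88600 F170990))
theorem F325285 : act 4 n86540 = n50957 := (sb E88600 F170991)
theorem F325286 : act 6 n86540 = n50952 := (sb E88600 (iv6 D110499))
theorem F325287 : act 3 n75982 = n50958 := (sb E88601 F171016)
theorem F325288 : act 5 n75982 = n50957 := (sb E88601 (iv5 D110509))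
theorem F325289 : act 6 n107530 = n84508 := (sb E88602 (iv6 D177380))
theorem F325290 : act 6 n38978 = n68197 := (sb E88604 F228482)
theorem F325291 : act 3 n27450 = n50644 := (sb E88612 (iv3 D109824))
theorem F325292 : act 5 n27450 = n50946 := (sb E88612 F169798)
theorem F325293 : act 2 n108856 = n78719 := (sb E88613 F322485)
theorem F325294 : act 5 n108856 = n64538 := (sb E88613 (iv5 D137314))
theorem F325295 : act 7 n108856 = n126864 := (sb E88613 F220474)
theorem F325296 : act 3 n108605 = n84779 := (sb E88614 F302664)
theorem F325297 : act 4 n108605 = n78719 := (sb E88614 (iv4 D163873))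
theorem F325298 : act 6 n108605 = n84777 := (sb E88614 F302665)
theorem F325299 : act 0 n50567 = n102819 := (sb E88615 (iv1 F250149))
theorem F325300 : act 1 n50567 = n78831 := (sb E88615 F250153)
theorem E89960 : n109623 = n82908 := ((D109623).symm.trans (sb E88615 F250147))
theorem F325301 : act 6 n38145 = n24632 := (sb E88616 (iv6 D50569))
theorem F325302 : act 4 n111897 = n78717 := (sb E88617 (iv4 D163866))
theorem F325303 : act 6 n111897 = n83272 := (sb E88617 F258298)
theorem F325304 : act 6 n38351 = n51605 := (sb E88619 (iv6 D111899))
theorem E89966 : n113379 = n17355 := ((((iv0 D35824)).symm.trans (sb E88625 (iv0 F176582)))).symm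
theorem F325305 : act 4 n35824 = n28135 := (sb E88625 F93468)
theorem F325306 : act 6 n35824 = n28134 := (sb E88625 (iv6 D59248))
theorem E89967 : n126357 = n78653 := ((((iv3 F119822)).symm.trans (sb E88638 D126357))).symm
theorem E89968 : n78659 = n51452 := (((iv4 F119827)).symm.trans (sb E88638 F168297))
theorem E89971 : n78644 = n51453 := ((D78644).symm.trans (sb E88639 (iv4 F163877)))
theorem E89972 : n109748 = n78646 := (((D78646).symm.trans (sb E88639 (iv6 F169734)))).symm
theorem F325307 : act 4 n76689 = n67632 := (sb E88641 (iv4 D144352))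
theorem E89973 : n160118 = n107709 := ((D160118).symm.trans (sb E88642 (iv1 F227089)))
theorem E89974 : n160120 = n67633 := ((D160120).symm.trans (sb E88642 F227088))
theorem F325308 : act 7 n76686 = n67632 := (sb E88642 (iv7 D144353))
theorem E89975 : n61425 = n26187 := ((((iv1 D54114)).symm.trans (sb E88644 (iv1 F97743)))).symm
theorem E89976 : n115168 = n26193 := (((F85424).symm.trans (sb E88644 F179322))).symm
theorem E89977 : n115170 = n78907 := ((((iv2 F120098)).symm.trans (sb E88644 (iv2 F179324)))).symm
theorem F325309 : act 4 n54114 = n29628 := (sb E88644 F97741)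
theorem E89979 : n117424 = n61323 := ((D117424).symm.trans (sb E88644 F97742))
theorem F325310 : act 4 n113673 = n61367 := (sb E88645 F209261)
theorem F325311 : act 7 n113673 = n61317 := (sb E88645 (iv7 D130694))
theorem F325312 : act 1 n126639 = n60884 := (sb E88646 (iv0 D129608))
theorem F325313 : act 2 n126639 = n127096 := (sb E88646 (iv2 F212105))
theorem F325314 : act 0 n126887 = n60884 := (sb E88647 F212092)
theorem F325315 : act 6 n126887 = n60748 := (sb E88647 (iv6 D129231))
theorem F325316 : act 7 n126887 = n127096 := (sb E88647 (iv7 F212060))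
theorem F325317 : act 0 n126889 = n127096 := (sb E88648 (iv1 F207786))
theorem F325318 : act 2 n126889 = n60884 := (sb E88648 (iv2 D129610))
theorem F325319 : act 3 n126889 = n132507 := (sb E88648 (iv3 F212646))
theorem E89980 : n78906 = n25777 := (((F40725).symm.trans (sb E88649 F177048))).symm
theorem E89981 : n52549 = n29538 := ((((iv2 F47380)).symm.trans (sb E88649 F177046))).symm
theorem E89982 : n52543 = n30411 := (((D30411).symm.trans (sb E88649 (iv4 D113788)))).symm
theorem E89983 : n52558 = n29626 := ((((iv7 F83876)).symm.trans (sb E88649 F177047))).symm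
theorem E89984 : n115171 = n52551 := ((D115171).symm.trans (sb E88650 F177071))
theorem E89986 : n169901 = n126177 := ((((iv4 F202905)).symm.trans (sb E88653 F302611))).symm
theorem E89989 : n161891 = n119981 := (((D119981).symm.trans (sb E88654 (iv3 F255879)))).symm
theorem F325320 : act 6 n55214 = n35482 := (sb E88654 (iv6 D77753))
theorem F325321 : act 6 n80359 = n111890 := (sb E88659 (iv6 F173819))
theorem F325322 : act 7 n80148 = n111890 := (sb E88660 (iv7 F173820))
theorem F325323 : act 6 n124695 = n85433 := (sb E88664 (iv6 D179065))
theorem E89991 : n85412 = n72964 := ((((iv3 F109472)).symm.trans (sb E88665 F278954))).symm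
theorem E89992 : n85410 = n72968 := ((((iv6 F109474)).symm.trans (sb E88665 (iv6 D179028)))).symm
theorem F325324 : act 6 n39454 = n72982 := (sb E88666 F242176)
theorem E89993 : n166856 = n108648 := (((D108648).symm.trans (sb E88669 (iv4 F262620)))).symm
theorem E89994 : n166854 = n108665 := ((((iv1 F168602)).symm.trans (sb E88670 D166854))).symm
theorem E89996 : n109021 = n36476 := ((D109021).symm.trans (sb E88670 (iv3 D80089)))
theorem E89997 : n157933 = n109022 := (((D109022).symm.trans (sb E88670 (iv5 F248829)))).symm
theorem E89998 : n166883 = n105173 := ((((iv3 F161083)).symm.trans (sb E88671 D166883))).symm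
theorem E90000 : n166885 = n29810 := (((F79494).symm.trans (sb E88671 D166885))).symm
theorem E90003 : n166888 = n24544 := ((((iv4 F38538)).symm.trans (sb E88672 D166888))).symm
theorem E90004 : n166889 = n24548 := (((D24548).symm.trans (sb E88672 D166889))).symm
theorem E90009 : n108888 = n57553 := ((D108888).symm.trans (sb E88674 (iv3 D123489)))
theorem E90010 : n161961 = n66015 := ((((iv6 F101699)).symm.trans (sb E88674 F303766))).symm
theorem F325325 : act 5 n50581 = n80148 := (sb E88676 F123028)
theorem F325326 : act 6 n50581 = n35498 := (sb E88676 (iv6 F299210))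
theorem E90015 : n162006 = n51554 := ((((iv3 F161282)).symm.trans (sb E88677 D162006))).symm
theorem F325327 : act 5 n50471 = n80359 := (sb E88681 (iv5 F123468))
theorem F325328 : act 6 n38172 = n109641 := (sb E88687 D109641)
theorem F325329 : act 1 n24662 = n18494 := (sb E88689 F117662)
theorem F325330 : act 4 n24662 = n35501 := (sb E88689 F117663)
theorem F325331 : act 6 n24662 = n18317 := (sb E88689 F58951)
theorem F325332 : act 3 n39186 = n51421 := (sb E88695 (iv3 D111489))
theorem F325333 : act 4 n39186 = n51689 := (sb E88695 F173008)
theorem F325334 : act 3 n111490 = n84796 := (sb E88696 F277697)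
theorem F325335 : act 3 n111491 = n84797 := (sb E88697 F277698)
theorem E90033 : n162035 = n51588 := ((((iv4 F81424)).symm.trans (sb E88698 (iv4 F256075)))).symm
theorem F325336 : act 1 n40092 = n51689 := (sb E88699 F170349)
theorem F325337 : act 2 n102781 = n51689 := (sb E88700 (iv2 F170962))
theorem F325338 : act 5 n36612 = n51689 := (sb E88701 (iv5 D112084))
theorem E90034 : n162275 = n50870 := ((((iv3 F80238)).symm.trans (sb E88703 D162275))).symm
theorem F325339 : act 0 n55353 = n51601 := (sb E88704 (iv1 D111889))
theorem F325340 : act 4 n110171 = n57552 := (sb E88705 (iv4 D123486))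
theorem F325341 : act 5 n110171 = n98174 := (sb E88705 (iv5 F301029))
theorem F325342 : act 0 n111374 = n57556 := (sb E88706 (iv1 F197186))
theorem F325343 : act 1 n111374 = n57254 := (sb E88706 (iv0 D123039))
theorem F325344 : act 2 n111374 = n57552 := (sb E88706 F197181)
theorem F325345 : act 5 n111374 = n180173 := (sb E88706 F300431)
theorem E90038 : n51682 = n51612 := (((F324538).symm.trans (sb E88716 F174208))).symm
theorem E90039 : n160606 = n111910 := (E88718).trans E89841
theorem F325348 : act 0 n111910 = n79798 := (sb E90039 (iv1 F253695))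
theorem F325349 : act 1 n111910 = n77013 := (sb E90039 (iv0 D160606))
theorem F325350 : act 5 n111910 = n176673 := (sb E90039 F298004)
theorem F325351 : act 7 n111910 = n83266 := (sb E90039 (iv7 F298059))
theorem E90040 : n111913 = n75360 := ((D111913).symm.trans (iv5 (sb E88719 (tr (iv5 D112068) E90038))))
theorem F325352 : act 1 n79880 = n51659 := (sb E88725 (iv0 D112012))
theorem F325353 : act 3 n38837 = n51667 := (sb E88729 F174114)
theorem E90041 : n109341 = n35755 := (((F296592).symm.trans (sb E88729 F174116))).symm
theorem F325354 : act 7 n38837 = n51659 := (sb E88729 (iv7 D112015))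
theorem F325355 : act 3 n37797 = n25124 := (sb E88733 F81662)
theorem F325356 : act 5 n37797 = n25121 := (sb E88733 (iv5 D51734))
theorem F325357 : act 3 n35172 = n24606 := (sb E88735 F79840)
theorem F325358 : act 1 n36003 = n50644 := (sb E88736 F81691)
theorem F325359 : act 5 n36003 = n25125 := (sb E88736 F81689)
theorem F325360 : act 7 n36003 = n25124 := (sb E88736 (iv7 D51743))
theorem F325361 : act 5 n11640 = n17503 := (sb E88738 (iv5 D36241))
theorem E90048 : n50986 = n18863 := ((D50986).symm.trans (sb E88739 F43415))
theorem F325362 : act 5 n24794 = n12881 := (sb E88739 (iv5 D26921))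
theorem E90049 : n50980 = n34423 := ((D50980).symm.trans (sb E88740 F295960))
theorem F325363 : act 5 n24791 = n12879 := (sb E88740 (iv5 D26918))
theorem F325364 : act 3 n112031 = n84218 := (sb E88745 F276013)
theorem E90056 : n163259 = n109263 := ((((iv2 F169231)).symm.trans (sb E88746 D163259))).symm
theorem E90057 : n163260 = n109363 := ((((iv5 F169365)).symm.trans (sb E88746 D163260))).symm
theorem E90058 : n145941 = n94043 := ((((iv2 F291018)).symm.trans (sb E88747 (iv2 F229173)))).symm
theorem E90059 : n186163 = n145025 := ((D186163).symm.trans (sb E88747 (iv4 F227975)))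
theorem F325365 : act 6 n88689 = n67938 := (sb E88747 (iv6 D144922))
theorem E90060 : n140551 = n86578 := ((D140551).symm.trans (sb E88748 F303004))
theorem E90061 : n140552 = n86024 := ((D140552).symm.trans (sb E88748 (iv0 D180011)))
theorem E90062 : n140554 = n138478 := ((D140554).symm.trans (sb E88748 (iv7 F312856)))
theorem F325366 : act 6 n69510 = n72834 := (sb E88749 (iv6 D153926))
theorem E90063 : n148264 = n147298 := (((iv7 F320883)).symm.trans (sb E88749 F241934))
theorem F325367 : act 3 n52656 = n68220 := (sb E88750 (iv3 D145482))
theorem E90064 : n142825 = n106385 := (((F163449).symm.trans (sb E88750 F228535))).symm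
theorem F325368 : act 0 n127786 = n66084 := (sb E88751 (iv1 D140848))
theorem F325369 : act 2 n127786 = n142098 := (sb E88751 (iv2 F225135))
theorem F325370 : act 5 n127786 = n116162 := (sb E88751 F223918)
theorem F325371 : act 2 n113052 = n142836 := (sb E88752 F228536)
theorem F325372 : act 5 n113052 = n68220 := (sb E88752 (iv5 D145483))
theorem E90065 : n142826 = n112950 := (((F176132).symm.trans (sb E88752 F228537))).symm
theorem F325373 : act 1 n143133 = n76660 := (sb E88753 (iv0 F252513))
theorem F325374 : act 4 n143133 = n70243 := (sb E88753 (iv4 D149579))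
theorem F325375 : act 7 n143133 = n155541 := (sb E88753 (iv7 F321723))
theorem E90066 : n167883 = n142086 := ((D167883).symm.trans (sb E88754 (iv1 F225112)))
theorem E90067 : n167884 = n142085 := ((D167884).symm.trans (sb E88754 F225117))
theorem E90068 : n167886 = n66061 := ((D167886).symm.trans (sb E88754 (iv7 D140787)))
theorem F325376 : act 1 n35307 = n109840 := (sb E88757 D109840)
theorem E90070 : n109841 = n45851 := ((((iv2 F72407)).symm.trans (sb E88757 D109841))).symm
theorem E90071 : n109836 = n77342 := (((D77342).symm.trans (sb E88757 (iv4 F169830)))).symm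
theorem F325377 : act 7 n35307 = n51758 := (sb E88757 (iv7 F81723))
theorem E90072 : n115463 = n25997 := (((F320459).symm.trans (sb E88761 (iv3 F179764)))).symm
theorem F325378 : act 4 n34000 = n51857 := (sb E88761 (iv4 D112416))
theorem F325379 : act 3 n53716 = n59017 := (sb E88763 F174906)
theorem F325380 : act 6 n53716 = n51857 := (sb E88763 (iv6 D112417))
theorem E90074 : n112185 = n84365 := (((iv3 F174429)).symm.trans (sb E88767 F256222))
theorem E90075 : n77986 = n52347 := ((((iv6 F164027)).symm.trans (sb E88767 F297473))).symm
theorem E90077 : n77984 = n28102 := ((((iv0 F100254)).symm.trans (sb E88768 D77984))).symm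
theorem F325381 : act 3 n38904 = n25122 := (sb E88769 (iv3 D51736))
theorem F325382 : act 0 n17505 = n11688 := (sb E88770 (iv1 D24688))
theorem F325383 : act 1 n17505 = n25152 := (sb E88770 F39576)
theorem F325384 : act 4 n17505 = n13383 := (sb E88770 F79847)
theorem F325385 : act 6 n17505 = n25122 := (sb E88770 F79848)
theorem F325386 : act 7 n17505 = n25149 := (sb E88770 (iv7 F79884))
theorem E90082 : n112192 = n96710 := (((iv3 F174444)).symm.trans (sb E88774 (iv3 F298908)))
theorem F325387 : act 0 n45184 = n112189 := (sb E88775 D112189)
theorem F325388 : act 3 n45184 = n25123 := (sb E88775 (iv3 D51738))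
theorem F325389 : act 0 n17510 = n25152 := (sb E88785 (iv1 F39577))
theorem F325390 : act 1 n17510 = n11688 := (sb E88785 (iv0 D24687))
theorem F325391 : act 2 n17510 = n25149 := (sb E88785 (iv2 F79882))
theorem F325392 : act 4 n17510 = n13382 := (sb E88785 F79851)
theorem E90086 : n98407 = n63341 := (((iv1 F151829)).symm.trans (sb E88796 (iv1 F167636)))
theorem E90087 : n63499 = n21998 := ((((iv0 D46045)).symm.trans (sb E88796 (iv0 F167635)))).symm
theorem E90088 : n98404 = n63478 := (((iv2 F154202)).symm.trans (sb E88796 (iv2 F168307)))
theorem F325393 : act 4 n46045 = n29882 := (sb E88796 (iv4 D63208))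
theorem E90090 : n98449 = n63559 := ((D98449).symm.trans (sb E88796 (iv6 F98878)))
theorem F325394 : act 7 n46045 = n63474 := (sb E88796 (iv7 F168289))
theorem E90091 : n81873 = n63471 := ((((iv4 F98799)).symm.trans (sb E88798 F295520))).symm
theorem E90093 : n180321 = n132370 := (((D132370).symm.trans (sb E88803 (iv5 F280609)))).symm
theorem E90094 : n86124 = n50984 := (((D50984).symm.trans (sb E88804 F192892))).symm
theorem E90095 : n157761 = n50979 := (((D50979).symm.trans (sb E88809 F296566))).symm
theorem E90097 : n77994 = n13364 := ((((iv0 D28002)).symm.trans (sb E88815 D77994))).symm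
theorem E90098 : n77995 = n58782 := ((((iv2 F103381)).symm.trans (sb E88815 D77995))).symm
theorem E90099 : n58905 = n37218 := ((D58905).symm.trans (sb E88815 (iv4 F58172)))
theorem E90100 : n169927 = n106608 := ((((iv2 F164196)).symm.trans (sb E88818 (iv2 F267348)))).symm
theorem E90101 : n157747 = n132002 := (((D132002).symm.trans (sb E88818 (iv5 F256504)))).symm
theorem E90102 : n50689 = n35832 := ((D50689).symm.trans (sb E88826 (iv3 D78676)))
theorem E90103 : n163752 = n50690 := (((D50690).symm.trans (sb E88826 (iv4 F258113)))).symm
theorem E90105 : n163709 = n50693 := (((D50693).symm.trans (sb E88827 F262691))).symm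
theorem E90106 : n160885 = n50668 := ((((iv4 F80027)).symm.trans (sb E88828 F262694))).symm
theorem F325395 : act 2 n125318 = n86086 := (sb E88832 (iv2 D180176))
theorem F325397 : act 5 n174766 = n86086 := (sb E88833 (iv5 D180179))
theorem F325398 : act 2 n79960 = n161002 := (sb E88834 F293099)
theorem E90109 : n166604 = n45474 := ((D166604).symm.trans (sb E88834 F150116))
theorem E90110 : n166605 = n45472 := ((D166605).symm.trans (sb E88834 (iv6 D97374)))
theorem F325399 : act 2 n119232 = n79564 := (sb E88835 F260940)
theorem F325400 : act 7 n119232 = n79563 := (sb E88835 (iv7 D165660))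
theorem F325401 : act 3 n158325 = n79564 := (sb E88836 (iv3 D165661))
theorem F325402 : act 5 n119145 = n79564 := (sb E88837 (iv5 D165663))
theorem F325403 : act 2 n119229 = n79563 := (sb E88838 (iv2 D165655))
theorem F325404 : act 7 n119229 = n79564 := (sb E88838 (iv7 F260939))
theorem F325405 : act 5 n119144 = n79563 := (sb E88839 (iv5 D165658))
theorem E90111 : n79920 = n72179 := ((D79920).symm.trans (sb E88840 (iv4 D152925)))
theorem F325406 : act 5 n85133 = n86101 := (sb E88841 (iv5 D180233))
theorem F325407 : act 5 n84916 = n86100 := (sb E88842 (iv5 D180228))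
theorem E90112 : n155062 = n126912 := ((F243848).symm.trans (sb E88843 F219438))
theorem E90113 : n155103 = n130522 := (((iv2 F243926)).symm.trans (sb E88843 F219436))
theorem E90114 : n155106 = n64102 := ((D155106).symm.trans (sb E88843 (iv5 D136351)))
theorem F325408 : act 3 n21565 = n24660 := (sb E88846 (iv3 D50639))
theorem E90118 : n109812 = n45183 := (((D45183).symm.trans (sb E88846 D109812))).symm
theorem F325409 : act 6 n114853 = n71390 := (sb E88847 (iv6 D151438))
theorem F325410 : act 2 n55977 = n52944 := (sb E88850 F178815)
theorem F325411 : act 7 n55977 = n52943 := (sb E88850 (iv7 D114713))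
theorem F325413 : act 1 n114708 = n121336 := (sb E88851 F193540)
theorem F325414 : act 3 n114708 = n68684 := (sb E88851 F322794)
theorem F325415 : act 6 n114708 = n68682 := (sb E88851 F322795)
theorem F325416 : act 1 n114848 = n68674 := (sb E88852 (iv0 D146487))
theorem E90119 : n140528 = n114493 := ((((iv5 F178915)).symm.trans (sb E88852 F229814))).symm
theorem F325417 : act 0 n53019 = n68674 := (sb E88853 (iv1 D146488))
theorem F325418 : act 2 n114505 = n68674 := (sb E88854 (iv2 D146489))
theorem F325419 : act 3 n75154 = n68675 := (sb E88855 F229815)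
theorem F325420 : act 5 n75154 = n68674 := (sb E88855 (iv5 D146490))
theorem F325421 : act 3 n105465 = n68676 := (sb E88856 F229816)
theorem F325422 : act 6 n105465 = n68674 := (sb E88856 (iv6 D146491))
theorem E90120 : n101755 = n73626 := ((D101755).symm.trans (sb E88857 (iv2 D155114)))
theorem F325423 : act 4 n47299 = n82888 := (sb E88857 F243930)
theorem E90121 : n78901 = n49767 := (((D49767).symm.trans (sb E88858 (iv1 D164241)))).symm
theorem E90124 : n78905 = n53113 := (((F97573).symm.trans (sb E88860 F258877))).symm
theorem E90125 : n152438 = n133333 := (((D133333).symm.trans (sb E88860 F258878))).symm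
theorem E90126 : n78902 = n59332 := ((((iv0 F93587)).symm.trans (sb E88861 F120095))).symm
theorem E90128 : n78894 = n61319 := (((D61319).symm.trans (sb E88861 (iv6 F120066)))).symm
theorem F325424 : act 0 n107740 = n152436 := (sb E88862 (iv1 F258842))
theorem F325425 : act 1 n107740 = n152435 := (sb E88862 F258844)
theorem F325426 : act 3 n107740 = n83108 := (sb E88862 F258838)
theorem F325427 : act 7 n107740 = n78890 := (sb E88862 (iv7 D164215))
theorem F325428 : act 3 n62649 = n80423 := (sb E88863 (iv3 F123618))
theorem E90129 : n152411 = n30212 := (((F97737).symm.trans (sb E88863 D152411))).symm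
theorem F325429 : act 6 n62649 = n33224 := (sb E88863 (iv6 D71901))
theorem E90130 : n136348 = n84215 := ((D136348).symm.trans (sb E88864 (iv2 F300889)))
theorem F325430 : act 5 n64101 = n80423 := (sb E88864 (iv5 D167570))
theorem E90131 : n136349 = n82411 := ((D136349).symm.trans (sb E88864 F300828))
theorem F325431 : act 2 n35920 = n29624 := (sb E88867 F83866)
theorem E90142 : n115165 = n78898 := ((((iv3 F120078)).symm.trans (sb E88867 (iv3 F179313)))).symm
theorem E90143 : n78904 = n25776 := ((D78904).symm.trans (sb E88867 (iv5 D53138)))
theorem E90145 : n152424 = n29622 := (((D29622).symm.trans (sb E88868 D152424))).symm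
theorem E90146 : n185825 = n175978 := (((D175978).symm.trans (sb E88869 (iv1 F288141)))).symm
theorem F325432 : act 7 n83973 = n78889 := (sb E88869 (iv7 D164211))
theorem F325433 : act 1 n57978 = n64041 := (sb E88870 (iv0 D136210))
theorem F325434 : act 0 n57981 = n64041 := (sb E88871 (iv1 D136211))
theorem F325435 : act 0 n136140 = n77786 := (sb E88872 F303343)
theorem F325436 : act 1 n136140 = n123285 := (sb E88872 (iv0 F253162))
theorem F325437 : act 5 n136140 = n76821 := (sb E88872 (iv5 D160285))
theorem F325438 : act 7 n136140 = n76860 := (sb E88872 F253161)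
theorem E90147 : n138212 = n54403 := ((D138212).symm.trans (sb E88876 F185502))
theorem E90148 : n138213 = n54386 := ((D138213).symm.trans (sb E88876 (iv0 D118072)))
theorem E90149 : n136240 = n54400 := (((iv2 F219268)).symm.trans (sb E88876 F187212))
theorem F325439 : act 4 n64919 = n55114 := (sb E88876 F185501)
theorem E90150 : n138215 = n85860 := ((D138215).symm.trans (sb E88876 (iv6 F233014)))
theorem E90151 : n136243 = n54401 := (((iv7 F219273)).symm.trans (sb E88876 F187213))
theorem F325440 : act 4 n118074 = n64136 := (sb E88877 F219526)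
theorem E90152 : n101049 = n64135 := ((F185506).symm.trans (sb E88877 (iv6 D136416)))
theorem F325441 : act 7 n118074 = n64410 := (sb E88877 F219527)
theorem F325442 : act 4 n64940 = n54402 := (sb E88878 (iv4 D118098))
theorem E90153 : n183945 = n53298 := (((F100725).symm.trans (sb E88878 (iv6 F285798)))).symm
theorem E90154 : n183943 = n108038 := ((D183943).symm.trans (sb E88879 F179819))
theorem E90155 : n183944 = n156440 := ((D183944).symm.trans (sb E88879 F245933))
theorem E90156 : n136136 = n40891 := ((((iv5 D87750)).symm.trans (sb E88879 (iv5 F219168)))).symm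
theorem E90157 : n102414 = n64132 := (((iv7 F289754)).symm.trans (sb E88879 F179818))
theorem F325443 : act 2 n118099 = n64410 := (sb E88880 F218784)
theorem F325444 : act 4 n118099 = n63943 := (sb E88880 F218785)
theorem F325445 : act 6 n118099 = n63942 := (sb E88880 (iv6 D135991))
theorem F325446 : act 4 n64924 = n72938 := (sb E88881 (iv4 F190613))
theorem F325447 : act 0 n101078 = n138272 := (sb E88882 (iv1 F221471))
theorem F325448 : act 1 n101078 = n138258 := (sb E88882 (iv0 F221454))
theorem F325449 : act 5 n101078 = n64153 := (sb E88882 (iv5 D136462))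
theorem F325450 : act 7 n101078 = n64556 := (sb E88882 F219580)
theorem F325451 : act 0 n118109 = n64556 := (sb E88883 (iv1 D137335))
theorem F325452 : act 2 n118109 = n138272 := (sb E88883 (iv2 F221469))
theorem E90158 : n154072 = n136256 := (((iv5 F242127)).symm.trans (sb E88883 (iv5 F220517)))
theorem F325453 : act 7 n118109 = n138258 := (sb E88883 (iv7 F221451))
theorem E90159 : n154074 = n64386 := (((F220141).symm.trans (sb E88884 F287056))).symm
theorem E90160 : n154059 = n138256 := (((F221448).symm.trans (sb E88884 F287057))).symm
theorem E90161 : n138271 = n46588 := ((D138271).symm.trans (sb E88884 (iv3 D99725)))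
theorem E90162 : n136250 = n47334 := (((iv7 F219282)).symm.trans (sb E88884 (iv7 F156410)))
theorem F325454 : act 1 n70698 = n64556 := (sb E88885 (iv0 D137334))
theorem F325455 : act 2 n70698 = n138258 := (sb E88885 (iv2 F221450))
theorem F325456 : act 7 n70698 = n138272 := (sb E88885 (iv7 F221470))
theorem E90163 : n138250 = n47314 := ((D138250).symm.trans (sb E88886 F321044))
theorem E90164 : n138251 = n33625 := ((D138251).symm.trans (sb E88886 (iv0 D72944)))
theorem E90165 : n136249 = n46579 := (((iv2 F219279)).symm.trans (sb E88886 F321045))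
theorem E90166 : n138248 = n47292 := (((iv3 F221429)).symm.trans (sb E88886 (iv3 F322812)))
theorem F325457 : act 4 n64938 = n54387 := (sb E88886 F190695)
theorem E90167 : n154068 = n30508 := ((((iv5 D64938)).symm.trans (sb E88886 D154068))).symm
theorem E90168 : n138253 = n85982 := ((D138253).symm.trans (sb E88886 F190696))
theorem E90169 : n136254 = n47315 := (((iv7 F219295)).symm.trans (sb E88886 F321046))
theorem E90170 : n138266 = n10754 := ((((iv3 D22740)).symm.trans (sb E88888 (iv3 F221461)))).symm
theorem E90171 : n47317 = n30513 := ((D47317).symm.trans (sb E88888 (iv5 D64949)))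
theorem F325458 : act 0 n52500 = n29874 := (sb E88889 F97455)
theorem F325459 : act 1 n52500 = n30079 := (sb E88889 F97456)
theorem F325460 : act 2 n52500 = n61424 := (sb E88889 F97452)
theorem E90173 : n113703 = n60694 := (((iv4 F176925)).symm.trans (sb E88889 F97453))
theorem E90174 : n113706 = n29540 := ((D113706).symm.trans (sb E88889 (iv5 D62504)))
theorem F325461 : act 7 n52500 = n61427 := (sb E88889 F97454)
theorem E90176 : n146887 = n132381 := (((iv4 F230271)).symm.trans (sb E88890 (iv4 F212406)))
theorem F325462 : act 6 n68859 = n61427 := (sb E88890 (iv6 D130927))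
theorem E90177 : n133189 = n117459 := ((F214004).symm.trans (sb E88891 (iv1 F183967)))
theorem E90178 : n133190 = n90500 := (((iv0 F214008)).symm.trans (sb E88891 (iv0 F143040)))
theorem F325463 : act 3 n62502 = n43391 := (sb E88891 F142965)
theorem F325464 : act 5 n62502 = n43379 := (sb E88891 F142966)
theorem E90179 : n133199 = n43378 := ((D133199).symm.trans (sb E88891 (iv7 D92731)))
theorem F325465 : act 0 n129118 = n146885 := (sb E88893 (iv1 F288240))
theorem F325466 : act 1 n129118 = n146884 := (sb E88893 F288241)
theorem F325467 : act 4 n129118 = n88515 := (sb E88893 (iv4 D185840))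
theorem F325468 : act 7 n129118 = n90493 := (sb E88893 F288239)
theorem E90183 : n132384 = n113695 := (((D113695).symm.trans (sb E88894 (iv4 F212414)))).symm
theorem F325469 : act 6 n52496 = n61424 := (sb E88894 (iv6 D130920))
theorem E90184 : n134893 = n64573 := ((D134893).symm.trans (sb E88895 (iv6 D137370)))
theorem F325470 : act 6 n54113 = n61423 := (sb E88896 (iv6 D130919))
theorem F325471 : act 3 n126959 = n62141 := (sb E88897 F212514)
theorem F325472 : act 6 n126959 = n62138 := (sb E88897 (iv6 D132441))
theorem F325473 : act 5 n97109 = n62146 := (sb E88898 (iv5 D132456))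
theorem F325474 : act 1 n103876 = n72725 := (sb E88899 (iv0 D153708))
theorem F325475 : act 0 n103873 = n72725 := (sb E88900 (iv1 D153709))
theorem F325476 : act 2 n48061 = n72725 := (sb E88901 (iv2 D153710))
theorem E90186 : n99897 = n72726 := ((D99897).symm.trans (sb E88902 F241579))
theorem F325477 : act 5 n46651 = n72725 := (sb E88902 (iv5 D153711))
theorem F325478 : act 0 n100519 = n71812 := (sb E88903 (iv1 F237957))
theorem F325479 : act 4 n100519 = n71895 := (sb E88903 F237956)
theorem F325480 : act 1 n100520 = n71812 := (sb E88904 F237958)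
theorem F325481 : act 4 n100520 = n71894 := (sb E88904 F237959)
theorem F325482 : act 4 n100517 = n52914 := (sb E88905 (iv4 D114641))
theorem F325483 : act 7 n100517 = n71812 := (sb E88905 F178740)
theorem E90187 : n71282 = n46902 := (((D46902).symm.trans (sb E88906 F237960))).symm
theorem F325484 : act 4 n32985 = n46896 := (sb E88907 (iv4 D100521))
theorem F325485 : act 4 n100522 = n71277 := (sb E88908 F237962)
theorem F325486 : act 2 n99378 = n71812 := (sb E88909 F178397)
theorem F325487 : act 4 n99378 = n52783 := (sb E88909 (iv4 D114376))
theorem E90188 : n129827 = n62251 := ((D129827).symm.trans (sb E88910 (iv6 D132657)))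
theorem F325488 : act 6 n61145 = n62398 := (sb E88911 (iv6 D132983))
theorem F325489 : act 6 n60901 = n62184 := (sb E88912 (iv6 D132544))
theorem F325490 : act 2 n106804 = n61952 := (sb E88913 F211513)
theorem F325491 : act 6 n106804 = n61950 := (sb E88913 (iv6 D132017))
theorem F325492 : act 0 n106617 = n106846 := (sb E88916 (iv1 F165955))
theorem F325493 : act 1 n106617 = n106845 := (sb E88916 F165953)
theorem F325494 : act 2 n106617 = n49694 := (sb E88916 (iv2 D107564))
theorem F325495 : act 3 n106617 = n110772 := (sb E88916 (iv3 F171461))
theorem F325496 : act 5 n106617 = n106833 := (sb E88916 F165951)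
theorem F325497 : act 7 n106617 = n106844 := (sb E88916 F165952)
theorem E90189 : n106849 = n61957 := ((D106849).symm.trans (sb E88917 F211523))
theorem F325498 : act 4 n49367 = n106496 := (sb E88918 F211524)
theorem F325499 : act 5 n49370 = n61952 := (sb E88919 (iv5 D132024))
theorem F325500 : act 0 n52615 = n30123 := (sb E88920 (iv1 D63853))
theorem F325501 : act 1 n52615 = n63755 := (sb E88920 F99315)
theorem E90190 : n105366 = n63753 := (((iv2 F193489)).symm.trans (sb E88920 F213203))
theorem E90191 : n130101 = n113993 := ((((iv3 F177488)).symm.trans (sb E88920 (iv3 F211717)))).symm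
theorem E90192 : n135795 = n113996 := ((((iv4 F177489)).symm.trans (sb E88920 D135795))).symm
theorem E90194 : n114001 = n63754 := ((D114001).symm.trans (sb E88920 F213201))
theorem E90195 : n113901 = n63757 := ((D113901).symm.trans (sb E88921 F218047))
theorem E90196 : n135777 = n113902 := (((D113902).symm.trans (sb E88921 (iv3 F218354)))).symm
theorem F325502 : act 6 n52586 = n63755 := (sb E88921 (iv6 D135586))
theorem F325503 : act 0 n114000 = n63773 := (sb E88922 F208581)
theorem E90197 : n135639 = n113759 := ((((iv0 F177492)).symm.trans (sb E88922 F218125))).symm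
theorem E90198 : n148714 = n135582 := (((iv2 F233485)).symm.trans (sb E88922 (iv2 F218040)))
theorem E90199 : n185815 = n61084 := (((iv3 F288127)).symm.trans (sb E88922 (iv3 D130100)))
theorem F325504 : act 4 n114000 = n132543 := (sb E88922 (iv4 F212763))
theorem F325505 : act 7 n114000 = n132756 := (sb E88922 (iv7 F213198))
theorem F325506 : act 0 n135626 = n148740 := (sb E88923 (iv1 F251348))
theorem F325507 : act 1 n135626 = n76346 := (sb E88923 (iv0 D159578))
theorem F325508 : act 3 n132230 = n69716 := (sb E88924 (iv3 D148753))
theorem F325509 : act 4 n132230 = n126838 := (sb E88924 F233536)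
theorem F325510 : act 5 n132230 = n148736 := (sb E88924 F233537)
theorem F325511 : act 7 n132230 = n159565 := (sb E88924 (iv7 F251328))
theorem F325512 : act 0 n133264 = n139869 := (sb E88925 (iv1 F223080))
theorem F325513 : act 2 n133264 = n64358 := (sb E88925 F218796)
theorem F325514 : act 4 n133264 = n63947 := (sb E88925 (iv4 D135998))
theorem F325515 : act 7 n133264 = n64353 := (sb E88925 F218797)
theorem F325516 : act 7 n61450 = n62673 := (sb E88926 (iv7 D133550))
theorem F325517 : act 2 n92790 = n62673 := (sb E88931 (iv2 D133545))
theorem E90200 : n170479 = n140785 := ((D170479).symm.trans (sb E88932 (iv1 F225118)))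
theorem E90201 : n170480 = n140784 := ((D170480).symm.trans (sb E88932 F225119))
theorem E90202 : n170482 = n66629 := ((D170482).symm.trans (sb E88932 (iv7 D142088)))
theorem E90203 : n66615 = n53832 := ((((iv6 F313526)).symm.trans (sb E88933 (iv6 D142048)))).symm
theorem E90204 : n65000 = n53488 := (((F318715).symm.trans (sb E88934 (iv1 D138381)))).symm
theorem F325518 : act 2 n71144 = n53487 := (sb E88936 (iv2 D116048))
theorem F325519 : act 7 n71143 = n53487 := (sb E88937 (iv7 D116053))
theorem E90205 : n117902 = n31931 := ((D117902).symm.trans (sb E88938 (iv1 D68625)))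
theorem E90206 : n117903 = n117319 := ((D117903).symm.trans (sb E88938 F183690))
theorem E90210 : n146355 = n117907 := (((D117907).symm.trans (sb E88938 D146355))).symm
theorem E90212 : n102508 = n51658 := ((D102508).symm.trans (sb E88939 (iv4 D112010)))
theorem E90213 : n143398 = n102509 := (((D102509).symm.trans (sb E88939 (iv5 F226159)))).symm
theorem E90214 : n109336 = n102501 := (((F157438).symm.trans (sb E88939 F174111))).symm
theorem E90217 : n140897 = n30555 := ((((iv2 F245743)).symm.trans (sb E88940 (iv2 F223952)))).symm
theorem E90218 : n140903 = n74375 := (((D74375).symm.trans (sb E88940 (iv3 F223954)))).symm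
theorem E90219 : n140906 = n74376 := (((D74376).symm.trans (sb E88940 (iv4 F223955)))).symm
theorem E90220 : n74378 = n30907 := ((D74378).symm.trans (sb E88940 (iv6 D66099)))
theorem F325520 : act 4 n160386 = n79965 := (sb E88941 (iv4 D166621))
theorem F325521 : act 5 n160386 = n84453 := (sb E88941 F299627)
theorem E90222 : n185729 = n166577 := (((D166577).symm.trans (sb E88942 (iv2 F288008)))).symm
theorem E90223 : n97372 = n79962 := (((iv5 F293096)).symm.trans (sb E88942 (iv5 D166612)))
theorem F325522 : act 6 n79949 = n79965 := (sb E88942 F262211)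
theorem F325523 : act 0 n162840 = n177334 := (sb E88943 F297566)
theorem F325524 : act 1 n162840 = n177332 := (sb E88943 F297567)
theorem F325525 : act 2 n162840 = n84533 := (sb E88943 F297568)
theorem F325526 : act 5 n162840 = n79966 := (sb E88943 F262221)
theorem F325527 : act 7 n162840 = n79965 := (sb E88943 (iv7 D166622))
theorem F325528 : act 1 n118629 = n82442 := (sb E88944 (iv0 D172135))
theorem F325529 : act 0 n80431 = n82442 := (sb E88945 (iv1 D172136))
theorem F325530 : act 6 n109398 = n124517 := (sb E88947 (iv6 F297504))
theorem F325531 : act 2 n88392 = n59311 := (sb E88948 F173310)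
theorem F325532 : act 7 n88392 = n59295 := (sb E88948 (iv7 F173309))
theorem F325533 : act 2 n125675 = n78315 := (sb E88950 F257137)
theorem F325534 : act 4 n125675 = n78280 := (sb E88950 F257138)
theorem F325535 : act 6 n125675 = n78279 := (sb E88950 (iv6 D162855))
theorem F325536 : act 7 n125675 = n124611 := (sb E88950 (iv7 F299411))
theorem F325537 : act 6 n125604 = n78545 := (sb E88951 (iv6 D163443))
theorem F325538 : act 2 n126424 = n185561 := (sb E88952 (iv2 F287868))
theorem F325539 : act 6 n35784 = n59311 := (sb E88953 (iv6 D126425))
theorem F325540 : act 6 n109619 = n123010 := (sb E88958 F253393)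
theorem F325541 : act 6 n57230 = n50566 := (sb E88959 (iv6 D109620))
theorem F325542 : act 6 n108732 = n122310 := (sb E88960 (iv6 F301716))
theorem F325543 : act 7 n108732 = n76895 := (sb E88960 (iv7 D160413))
theorem F325544 : act 6 n56631 = n59284 := (sb E88961 (iv6 D126372))
theorem F325545 : act 1 n84794 = n111873 := (sb E88962 F173748)
theorem F325546 : act 2 n84794 = n50207 := (sb E88962 (iv2 D108733))
theorem F325547 : act 4 n84794 = n50470 := (sb E88962 F168686)
theorem F325548 : act 5 n84794 = n109122 := (sb E88962 F169605)
theorem F325549 : act 7 n84794 = n111875 := (sb E88962 (iv7 F173762))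
theorem F325550 : act 1 n51587 = n76895 := (sb E88963 (iv0 D160410))
theorem F325551 : act 3 n50807 = n40216 := (sb E88980 F116155)
theorem E90224 : n110181 = n35309 := ((D110181).symm.trans (sb E88980 (iv6 D77344)))
theorem F325552 : act 0 n50822 = n86171 := (sb E88981 (iv1 F256267))
theorem E90225 : n110226 = n77908 := ((D110226).symm.trans (sb E88981 (iv6 D162163)))
theorem F325553 : act 6 n35548 = n24725 := (sb E88982 (iv6 D50823))
theorem F325554 : act 4 n110461 = n78316 := (sb E88983 (iv4 D162917))
theorem F325555 : act 6 n110461 = n79713 := (sb E88983 F257235)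
theorem F325556 : act 7 n110461 = n78544 := (sb E88983 F257236)
theorem E90230 : n174671 = n112001 := (((D112001).symm.trans (sb E88984 (iv3 F273524)))).symm
theorem F325557 : act 4 n51655 = n78463 := (sb E88984 F298013)
theorem E90232 : n112003 = n38480 := ((D112003).symm.trans (sb E88984 (iv6 D83466)))
theorem E90235 : n176753 = n25041 := ((((iv2 F39288)).symm.trans (sb E88985 (iv2 F276142)))).symm
theorem E90237 : n38863 = n25052 := (((D25052).symm.trans (sb E88985 (iv6 D84271)))).symm
theorem E90241 : n176763 = n111839 := (((D111839).symm.trans (sb E88986 (iv6 F276149)))).symm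
theorem F325558 : act 6 n18467 = n25050 := (sb E88987 (iv6 D51570))
theorem F325559 : act 6 n82951 = n50542 := (sb E88988 (iv6 D109554))
theorem F325560 : act 3 n25184 = n35236 := (sb E88989 F91647)
theorem E90246 : n51904 = n27641 := ((D51904).symm.trans (sb E88989 (iv6 D57925)))
theorem E90247 : n55897 = n50453 := (((D50453).symm.trans (sb E88991 (iv6 D121139)))).symm
theorem E90248 : n176606 = n111962 := ((((iv3 F173984)).symm.trans (sb E88992 (iv3 F275970)))).symm
theorem F325561 : act 6 n51657 = n38822 := (sb E88992 (iv6 D84198))
theorem F325562 : act 6 n82947 = n50450 := (sb E88994 (iv6 D109331))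
theorem F325563 : act 6 n86709 = n68195 := (sb E88999 (iv6 D145454))
theorem F325564 : act 1 n109373 = n84779 := (sb E89001 F302662)
theorem F325565 : act 6 n109373 = n55944 := (sb E89001 (iv6 D121268))
theorem F325566 : act 6 n35135 = n50468 := (sb E89002 (iv6 D109375))
theorem F325567 : act 6 n44983 = n68196 := (sb E89003 (iv6 D145456))
theorem F325568 : act 0 n86723 = n50937 := (sb E89004 (iv1 D110462))
theorem F325569 : act 1 n86723 = n109398 := (sb E89004 F170856)
theorem E90263 : n181707 = n125873 := ((D181707).symm.trans (sb E89004 (iv5 F202364)))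
theorem F325570 : act 7 n86723 = n109401 := (sb E89004 F170945)
theorem E90264 : n51905 = n17236 := ((D51905).symm.trans (sb E89023 (iv1 F55977)))
theorem E90265 : n55340 = n51906 := (((D51906).symm.trans (sb E89023 (iv0 F87583)))).symm
theorem F325571 : act 3 n25185 = n17101 := (sb E89023 (iv3 D35239))
theorem E90266 : n51907 = n17228 := ((D51907).symm.trans (sb E89023 F55974))
theorem E90267 : n51908 = n35107 := ((D51908).symm.trans (sb E89023 F55975))
theorem F325572 : act 6 n112487 = n77199 := (sb E89024 (iv6 D160868))
theorem F325573 : act 2 n112488 = n166686 := (sb E89025 (iv2 F262343))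
theorem F325574 : act 6 n35240 = n51897 := (sb E89026 (iv6 D112489))
theorem F325575 : act 3 n35242 = n24679 := (sb E89033 F80037)
theorem F325576 : act 4 n35242 = n24686 := (sb E89033 F80038)
theorem E90270 : n109891 = n77206 := (((D77206).symm.trans (sb E89033 D109891))).symm
theorem F325577 : act 6 n35242 = n24677 := (sb E89033 (iv6 D50679))
theorem F325578 : act 2 n83142 = n51704 := (sb E89034 F174321)
theorem F325579 : act 6 n83142 = n51702 := (sb E89034 (iv6 D112112))
theorem F325580 : act 5 n62436 = n69213 := (sb E89035 (iv5 D147695))
theorem F325581 : act 7 n131534 = n69213 := (sb E89036 (iv7 D147696))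
theorem E90271 : n126249 = n37317 := ((D126249).symm.trans (sb E89037 (iv1 D81647)))
theorem E90272 : n126250 = n96710 := ((D126250).symm.trans (sb E89037 F149087))
theorem F325582 : act 2 n59186 = n78274 := (sb E89037 (iv2 F298912))
theorem E90273 : n170240 = n126245 := ((((iv3 F203024)).symm.trans (sb E89037 D170240))).symm
theorem F325583 : act 4 n59186 = n40086 := (sb E89037 F297282)
theorem E90274 : n170241 = n126251 := (((D126251).symm.trans (sb E89037 D170241))).symm
theorem E90275 : n126252 = n40085 := ((D126252).symm.trans (sb E89037 F297283))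
theorem F325584 : act 6 n35310 = n24722 := (sb E89039 (iv6 D50812))
theorem E90279 : n110196 = n36416 := ((((iv7 F57173)).symm.trans (sb E89039 (iv7 F170355)))).symm
theorem E90280 : n126256 = n78533 := ((D126256).symm.trans (sb E89040 (iv6 D163414)))
theorem F325585 : act 6 n35778 = n28110 := (sb E89042 (iv6 D59190))
theorem E90285 : n126039 = n59288 := ((D126039).symm.trans (sb E89043 (iv6 D126381)))
theorem F325586 : act 6 n50791 = n51872 := (sb E89044 (iv6 D112440))
theorem F325587 : act 2 n76960 = n59291 := (sb E89045 F176667)
theorem E90286 : n160508 = n52386 := ((D160508).symm.trans (sb E89045 F176668))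
theorem F325588 : act 6 n76960 = n52383 := (sb E89045 (iv6 D113479))
theorem F325589 : act 6 n111698 = n78604 := (sb E89046 (iv6 D163597))
theorem F325590 : act 6 n35808 = n59097 := (sb E89048 (iv6 D126115))
theorem E90287 : n109137 = n81901 := ((D109137).symm.trans (sb E89049 (iv6 D170839)))
theorem F325591 : act 2 n50378 = n86202 := (sb E89050 F268444)
theorem F325592 : act 6 n37505 = n24558 := (sb E89051 (iv6 D50379))
theorem F325593 : act 0 n108734 = n86202 := (sb E89058 (iv1 D180508))
theorem F325594 : act 6 n112222 = n75290 := (sb E89059 (iv6 D158065))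
theorem F325595 : act 6 n34472 = n51772 := (sb E89061 (iv6 D112244))
theorem F325596 : act 6 n16789 = n25069 := (sb E89062 (iv6 D51613))
theorem E90296 : n109722 = n38366 := ((D109722).symm.trans (sb E89069 (iv1 F127746)))
theorem E90297 : n109723 = n38365 := ((D109723).symm.trans (sb E89069 F127747))
theorem F325597 : act 2 n50606 = n38369 := (sb E89069 F127744)
theorem E90298 : n173268 = n109724 := (((D109724).symm.trans (sb E89069 (iv5 F271635)))).symm
theorem E90299 : n109725 = n38149 := ((D109725).symm.trans (sb E89069 (iv7 D82915)))
theorem F325598 : act 1 n18306 = n24659 := (sb E89070 (iv0 D50635))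
theorem F325599 : act 0 n18305 = n24659 := (sb E89071 (iv1 D50636))
theorem F325600 : act 3 n18238 = n24662 := (sb E89072 F80002)
theorem F325601 : act 5 n18238 = n24659 := (sb E89072 (iv5 D50637))
theorem F325602 : act 3 n18237 = n24663 := (sb E89073 F80004)
theorem F325603 : act 7 n18237 = n24659 := (sb E89073 (iv7 D50638))
theorem E90314 : n112283 = n50873 := (E89077).trans E89695
theorem E90315 : n110327 = n51795 := ((D110327).symm.trans (sb E90314 (iv0 D112283)))
theorem E90316 : n109943 = n51795 := ((F325271).symm.trans (sb E89078 (iv1 D112284)))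
theorem F325604 : act 6 n110205 = n75810 := (sb E89081 (iv6 D158881))
theorem F325605 : act 2 n110206 = n84315 := (sb E89082 F250165)
theorem F325606 : act 6 n34667 = n50816 := (sb E89083 (iv6 D110207))
theorem F325607 : act 3 n111954 = n84316 := (sb E89084 F276235)
theorem F325608 : act 6 n111954 = n160819 := (sb E89084 (iv6 F300937))
theorem F325609 : act 5 n50628 = n51725 := (sb E89085 (iv5 D112154))
theorem F325610 : act 7 n50628 = n51725 := (sb E89090 (iv7 D112155))
theorem F325611 : act 2 n57440 = n51504 := (sb E89093 F173296)
theorem F325612 : act 6 n57440 = n50851 := (sb E89093 (iv6 D110280))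
theorem F325613 : act 6 n110273 = n57931 := (sb E89098 (iv6 D124259))
theorem F325614 : act 6 n27645 = n50850 := (sb E89100 (iv6 D110276))
theorem E90317 : n112464 = n56715 := ((D112464).symm.trans (sb E89101 F299235))
theorem E90318 : n112465 = n39059 := ((D112465).symm.trans (sb E89101 (iv0 D84575)))
theorem F325615 : act 2 n51882 = n81992 := (sb E89101 (iv2 F300472))
theorem E90319 : n177539 = n112459 := ((((iv3 F174944)).symm.trans (sb E89101 D177539))).symm
theorem E90320 : n177503 = n112466 := (((D112466).symm.trans (sb E89101 (iv5 F276954)))).symm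
theorem E90321 : n112467 = n57939 := ((D112467).symm.trans (sb E89101 (iv7 F191488)))
theorem E90322 : n112497 = n57940 := ((D112497).symm.trans (sb E89102 (iv6 D124285)))
theorem F325616 : act 4 n27648 = n25185 := (sb E89104 F81936)
theorem F325617 : act 6 n27648 = n25183 := (sb E89104 (iv6 D51902))
theorem F325618 : act 2 n66019 = n39882 := (sb E89105 F126231)
theorem E90327 : n170829 = n140705 := (((D140705).symm.trans (sb E89105 (iv3 F268414)))).symm
theorem F325619 : act 4 n66019 = n37504 := (sb E89105 F126232)
theorem E90329 : n140706 = n37503 := ((D140706).symm.trans (sb E89105 (iv6 D81898)))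
theorem F325620 : act 4 n110152 = n86213 := (sb E89108 F280981)
theorem F325621 : act 6 n110159 = n81910 := (sb E89109 (iv6 D170861))
theorem F325622 : act 1 n110164 = n178105 := (sb E89110 (iv0 F277645))
theorem F325623 : act 6 n37508 = n50802 := (sb E89111 (iv6 D110169))
theorem F325624 : act 6 n50631 = n51728 := (sb E89114 (iv6 D112159))
theorem F325625 : act 0 n86173 = n50822 := (sb E89117 (iv1 F170342))
theorem E90330 : n180432 = n112460 := ((D180432).symm.trans (sb E89117 (iv5 F174945)))
theorem F325626 : act 7 n86173 = n112047 := (sb E89117 (iv7 F174178))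
theorem F325627 : act 0 n51365 = n39882 := (sb E89119 (iv1 D86168))
theorem F325628 : act 1 n66020 = n39882 := (sb E89120 (iv0 D86167))
theorem F325629 : act 1 n51677 = n77188 := (sb E89121 (iv0 D160848))
theorem E90335 : n124417 = n112051 := (((D112051).symm.trans (sb E89121 (iv6 F254012)))).symm
theorem E90336 : n112052 = n34659 := ((D112052).symm.trans (sb E89122 F298675))
theorem E90337 : n112053 = n34655 := ((D112053).symm.trans (sb E89122 F298676))
theorem F325630 : act 2 n51679 = n38267 := (sb E89122 F117834)
theorem F325631 : act 3 n51679 = n27673 := (sb E89122 F91785)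
theorem E90338 : n112054 = n27671 := ((D112054).symm.trans (sb E89122 (iv5 D58017)))
theorem E90339 : n112055 = n38262 := ((D112055).symm.trans (sb E89122 (iv7 F118724)))
theorem F325632 : act 1 n110176 = n123480 := (sb E89123 (iv0 F297661))
theorem F325633 : act 6 n110176 = n75208 := (sb E89123 (iv6 D157870))
theorem E90342 : n180415 = n111709 := (((D111709).symm.trans (sb E89124 (iv3 F280794)))).symm
theorem F325634 : act 5 n51511 = n39882 := (sb E89124 (iv5 D86169))
theorem E90344 : n180420 = n111711 := (((D111711).symm.trans (sb E89124 (iv6 F280799)))).symm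
theorem F325635 : act 3 n84656 = n50209 := (sb E89125 F168688)
theorem F325636 : act 4 n84656 = n50471 := (sb E89125 F168689)
theorem F325637 : act 6 n84656 = n50207 := (sb E89125 (iv6 D108735))
theorem F325638 : act 2 n84193 = n111910 := (sb E89126 (iv2 F173882))
theorem F325639 : act 6 n84193 = n50562 := (sb E89126 (iv6 D109609))
theorem E90345 : n111914 = n38338 := (((F59197).symm.trans (sb E89127 (iv1 F173891)))).symm
theorem E90346 : n111912 = n37801 := (((F117723).symm.trans (sb E89130 (iv1 F173884)))).symm
theorem E90347 : n111911 = n25103 := (((F324125).symm.trans (sb E89130 F173889))).symm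
theorem E90348 : n163957 = n108748 := ((((iv3 F170931)).symm.trans (sb E89131 (iv3 F258414)))).symm
theorem E90350 : n112505 = n35863 := ((D112505).symm.trans (sb E89131 (iv6 D78768)))
theorem E90351 : n125858 = n38991 := ((D125858).symm.trans (sb E89132 (iv1 F129661)))
theorem E90352 : n125859 = n38986 := ((D125859).symm.trans (sb E89132 (iv0 D84514)))
theorem F325640 : act 2 n58937 = n79972 := (sb E89132 (iv2 F297453))
theorem E90353 : n177387 = n125852 := ((((iv3 F202352)).symm.trans (sb E89132 D177387))).symm
theorem F325641 : act 4 n58937 = n79940 := (sb E89132 F296362)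
theorem E90354 : n177344 = n125860 := (((D125860).symm.trans (sb E89132 (iv5 F276726)))).symm
theorem E90355 : n125861 = n79969 := ((D125861).symm.trans (sb E89132 F296363))
theorem E90356 : n125866 = n81506 := ((D125866).symm.trans (sb E89133 (iv6 D169920)))
theorem F325642 : act 6 n37217 = n28013 := (sb E89135 (iv6 D58941))
theorem F325643 : act 3 n35904 = n59107 := (sb E89136 (iv3 D126137))
theorem F325644 : act 6 n126138 = n78614 := (sb E89137 (iv6 D163624))
theorem F325645 : act 7 n126138 = n86066 := (sb E89137 F300046)
theorem F325646 : act 5 n35902 = n59107 := (sb E89138 (iv5 D126139))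
theorem F325647 : act 6 n39214 = n59107 := (sb E89139 (iv6 D126140))
theorem F325648 : act 2 n39841 = n59106 := (sb E89140 (iv2 D126131))
theorem F325649 : act 7 n39841 = n59107 := (sb E89140 (iv7 F202835))
theorem F325650 : act 3 n121281 = n59106 := (sb E89141 (iv3 D126132))
theorem F325651 : act 4 n121281 = n109180 := (sb E89141 F202836)
theorem F325652 : act 2 n126133 = n86066 := (sb E89142 F267321)
theorem F325653 : act 6 n126133 = n81495 := (sb E89142 (iv6 D169891))
theorem F325654 : act 5 n75177 = n59106 := (sb E89143 (iv5 D126134))
theorem F325655 : act 6 n37211 = n59106 := (sb E89144 (iv6 D126135))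
theorem E90361 : n162747 = n145446 := (((D145446).symm.trans (sb E89145 F256977))).symm
theorem E90362 : n162900 = n145447 := (((D145447).symm.trans (sb E89145 (iv0 F299133)))).symm
theorem F325656 : act 2 n68192 = n38978 := (sb E89145 F129444)
theorem E90363 : n177002 = n145449 := (((D145449).symm.trans (sb E89145 D177002))).symm
theorem F325657 : act 0 n68309 = n38898 := (sb E89146 (iv1 F297598))
theorem E90364 : n145718 = n38961 := ((D145718).symm.trans (sb E89146 (iv2 F297416)))
theorem E90365 : n145719 = n76822 := ((D145719).symm.trans (sb E89146 F125513))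
theorem E90366 : n170156 = n145720 := (((D145720).symm.trans (sb E89146 D170156))).symm
theorem E90367 : n145721 = n37293 := ((D145721).symm.trans (sb E89146 (iv5 D81606)))
theorem F325658 : act 6 n68309 = n75177 := (sb E89146 F296432)
theorem E90368 : n145722 = n38960 := ((D145722).symm.trans (sb E89146 (iv7 F297676)))
theorem F325659 : act 0 n55603 = n31786 := (sb E89147 (iv1 D68310))
theorem F325660 : act 1 n35740 = n58974 := (sb E89150 (iv0 F174343))
theorem E90373 : n78428 = n58982 := (((iv2 F119623)).symm.trans (sb E89150 F174339))
theorem E90374 : n78430 = n51712 := ((D78430).symm.trans (sb E89150 (iv4 D112134)))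
theorem E90375 : n78432 = n59019 := ((D78432).symm.trans (sb E89150 F174340))
theorem E90376 : n78423 = n58983 := ((F119622).symm.trans (sb E89150 F174341))
theorem F325661 : act 0 n35739 = n58974 := (sb E89151 (iv1 D125953))
theorem E90377 : n105209 = n78425 := (((D78425).symm.trans (sb E89151 F202457))).symm
theorem E90378 : n112752 = n78437 := ((F202460).symm.trans (sb E89152 (iv1 F257428)))
theorem F325662 : act 1 n125954 = n78436 := (sb E89152 F257429)
theorem F325663 : act 7 n125954 = n78435 := (sb E89152 F257427)
theorem F325664 : act 4 n125971 = n84539 := (sb E89154 F257467)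
theorem F325665 : act 5 n125976 = n121742 := (sb E89162 F257465)
theorem F325666 : act 0 n110400 = n78435 := (sb E89163 (iv1 D163171))
theorem F325667 : act 1 n125977 = n78435 := (sb E89164 (iv0 D163170))
theorem F325668 : act 7 n125978 = n78438 := (sb E89165 (iv7 D163189))
theorem F325669 : act 3 n125969 = n78451 := (sb E89166 F257480)
theorem F325670 : act 7 n35742 = n58984 := (sb E89167 (iv7 D125979))
theorem F325671 : act 1 n110353 = n78713 := (sb E89168 F258154)
theorem F325672 : act 0 n110352 = n78713 := (sb E89169 (iv1 F258157))
theorem F325673 : act 0 n52024 = n78712 := (sb E89170 (iv1 F258158))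
theorem F325674 : act 1 n52024 = n78711 := (sb E89170 F258159)
theorem F325675 : act 2 n52024 = n78713 := (sb E89170 F258155)
theorem E90379 : n112713 = n79912 := ((D112713).symm.trans (sb E89170 F258156))
theorem F325676 : act 2 n110355 = n78439 := (sb E89171 F257471)
theorem F325677 : act 6 n110355 = n78435 := (sb E89171 (iv6 D163173))
theorem F325678 : act 3 n35837 = n50890 := (sb E89172 F170622)
theorem F325679 : act 6 n35837 = n50888 := (sb E89172 (iv6 D110356))
theorem F325680 : act 1 n27109 = n50890 := (sb E89173 (iv0 F169369))
theorem F325681 : act 2 n27109 = n50923 := (sb E89173 F169366)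
theorem E90380 : n56267 = n50462 := ((D56267).symm.trans (sb E89173 (iv4 D109364)))
theorem E90381 : n111861 = n56269 := (((D56269).symm.trans (sb E89173 (iv6 F173709)))).symm
theorem F325682 : act 7 n27109 = n50924 := (sb E89173 F169367)
theorem F325683 : act 0 n27108 = n50890 := (sb E89174 (iv1 D110358))
theorem F325684 : act 2 n27108 = n50924 := (sb E89174 F170628)
theorem E90382 : n56262 = n52228 := ((D56262).symm.trans (sb E89174 (iv4 F170627)))
theorem F325685 : act 7 n27108 = n50923 := (sb E89174 F170626)
theorem E90384 : n56172 = n50893 := (((D50893).symm.trans (sb E89175 F193297))).symm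
theorem F325686 : act 5 n26972 = n50890 := (sb E89176 (iv5 D110359))
theorem F325687 : act 0 n27110 = n50924 := (sb E89177 (iv1 F170632))
theorem F325688 : act 1 n27110 = n50923 := (sb E89177 F170633)
theorem E90385 : n112571 = n56253 := ((((iv6 F88977)).symm.trans (sb E89177 (iv6 F175141)))).symm
theorem F325689 : act 7 n27110 = n50890 := (sb E89177 (iv7 D110360))
theorem E90387 : n180434 = n50929 := (((D50929).symm.trans (sb E89179 (iv4 F280807)))).symm
theorem E90388 : n75238 = n50933 := (((D50933).symm.trans (sb E89180 (iv4 F193307)))).symm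
theorem F325690 : act 4 n24766 = n12985 := (sb E89181 F43733)
theorem F325691 : act 0 n110435 = n78854 := (sb E89182 F258046)
theorem F325692 : act 4 n110435 = n86138 := (sb E89182 F193303)
theorem F325693 : act 5 n110435 = n78698 := (sb E89182 (iv5 F256344))
theorem F325694 : act 7 n110435 = n56261 := (sb E89182 F258221)
theorem F325695 : act 5 n35838 = n50923 := (sb E89184 (iv5 D110436))
theorem F325696 : act 0 n110438 = n180621 := (sb E89186 (iv1 F281150))
theorem F325697 : act 1 n110438 = n78790 := (sb E89186 F257644)
theorem F325698 : act 2 n110438 = n180623 := (sb E89186 (iv2 F281160))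
theorem F325699 : act 4 n110438 = n163324 := (sb E89186 (iv4 F257633))
theorem F325700 : act 5 n110438 = n78703 := (sb E89186 (iv5 F256347))
theorem F325701 : act 7 n110438 = n56266 := (sb E89186 F258194)
theorem F325702 : act 5 n35839 = n50924 := (sb E89188 (iv5 D110439))
theorem F325703 : act 2 n110440 = n56264 := (sb E89189 F258206)
theorem E90390 : n56251 = n51010 := ((D56251).symm.trans (sb E89194 (iv1 F82269)))
theorem E90391 : n112032 = n56252 := (((D56252).symm.trans (sb E89194 (iv0 F174138)))).symm
theorem E90392 : n112775 = n56254 := (((D56254).symm.trans (sb E89194 (iv5 F175574)))).symm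
theorem F325704 : act 7 n27104 = n25266 := (sb E89194 (iv7 D52052))
theorem E90393 : n178313 = n25202 := ((((iv0 F39684)).symm.trans (sb E89198 (iv0 F277895)))).symm
theorem E90394 : n163142 = n112772 := (((D112772).symm.trans (sb E89199 (iv1 F257458)))).symm
theorem F325705 : act 3 n52051 = n56259 := (sb E89199 F194304)
theorem F325706 : act 4 n6159 = n11737 := (sb E89200 F38799)
theorem F325707 : act 7 n6159 = n11734 := (sb E89200 (iv7 D24788))
theorem E90397 : n112546 = n79270 := (((iv1 F175047)).symm.trans (sb E89216 F302162))
theorem E90398 : n79269 = n56269 := (((E90381).symm.trans ((F173712).symm.trans (sb E89218 F302164)))).symm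
theorem E90399 : n112544 = n79268 := ((D112544).symm.trans (sb E89218 F302165))
theorem F325708 : act 7 n36083 = n25207 := (sb E89219 (iv7 D51956))
theorem F325709 : act 3 n51952 = n62233 := (sb E89220 F212845)
theorem E90400 : n112596 = n62220 := ((D112596).symm.trans (sb E89220 (iv7 D132611)))
theorem F325710 : act 0 n50805 = n86173 := (sb E89221 (iv1 F277631))
theorem F325711 : act 1 n50805 = n86171 := (sb E89221 F277632)
theorem E90401 : n110175 = n84775 := ((D110175).symm.trans (sb E89221 (iv6 D178093)))
theorem F325712 : act 3 n51412 = n86171 := (sb E89222 (iv3 D180429))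
theorem F325713 : act 5 n112461 = n86171 := (sb E89223 (iv5 D180430))
theorem F325714 : act 6 n34664 = n24601 := (sb E89224 (iv6 D50489))
theorem E90406 : n109641 = n24600 := ((F325328).symm.trans (sb E89225 (iv6 D50488)))
theorem E90408 : n166585 = n52391 := ((D166585).symm.trans (sb E89230 F176682))
theorem F325715 : act 6 n79952 = n52387 := (sb E89230 (iv6 D113494))
theorem F325716 : act 6 n76962 = n52384 := (sb E89231 (iv6 D113483))
theorem F325717 : act 3 n137286 = n78544 := (sb E89232 F257724)
theorem F325718 : act 6 n137286 = n78542 := (sb E89232 (iv6 D163434))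
theorem F325719 : act 5 n58944 = n78544 := (sb E89233 (iv5 D163438))
theorem F325720 : act 0 n50806 = n102781 := (sb E89234 (iv1 F158031))
theorem F325721 : act 2 n50806 = n78097 := (sb E89234 (iv2 F299326))
theorem F325722 : act 3 n50806 = n40116 := (sb E89234 F132715)
theorem E90409 : n110179 = n40093 := ((D110179).symm.trans (sb E89234 F132717))
theorem F325723 : act 7 n50806 = n40092 := (sb E89234 (iv7 D86512))
theorem F325724 : act 6 n81480 = n59295 := (sb E89235 (iv6 D126394))
theorem E90412 : n184392 = n151261 := ((((iv2 F237985)).symm.trans (sb E89236 D184392))).symm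
theorem E90413 : n155732 = n41061 := (((iv3 F244740)).symm.trans (sb E89236 (iv3 D87942)))
theorem F325725 : act 4 n74086 = n48121 := (sb E89236 F134938)
theorem E90415 : n184394 = n155737 := (((D155737).symm.trans (sb E89236 D184394))).symm
theorem E90416 : n120014 = n97075 := (((iv7 F189498)).symm.trans (sb E89236 (iv7 F293247)))
theorem F325726 : act 1 n65709 = n65122 := (sb E89241 (iv0 D138696))
theorem E90417 : n84049 = n41305 := (((iv2 F301392)).symm.trans (sb E89242 F135454))
theorem E90418 : n185756 = n115201 := ((((iv3 F321098)).symm.trans (sb E89242 (iv3 F288048)))).symm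
theorem E90419 : n185760 = n38798 := ((((iv4 F113536)).symm.trans (sb E89242 (iv4 F288050)))).symm
theorem E90420 : n94262 = n38744 := (((F113537).symm.trans (sb E89242 (iv5 F145394)))).symm
theorem E90421 : n158658 = n41297 := ((D158658).symm.trans (sb E89242 (iv6 D88474)))
theorem E90422 : n185763 = n115207 := (((F318973).symm.trans (sb E89242 D185763))).symm
theorem E90423 : n134586 = n104369 := ((D134586).symm.trans (sb E89243 (iv3 F159999)))
theorem E90424 : n185809 = n29891 := ((((iv4 D63241)).symm.trans (sb E89243 (iv4 F288122)))).symm
theorem E90425 : n185819 = n38791 := ((((iv5 F321097)).symm.trans (sb E89243 (iv5 F288131)))).symm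
theorem E90426 : n134588 = n88544 := ((D134588).symm.trans (sb E89243 (iv6 F135601)))
theorem E90428 : n182289 = n175666 := (((D175666).symm.trans (sb E89244 (iv2 F283786)))).symm
theorem E90429 : n175669 = n52835 := ((D175669).symm.trans (sb E89244 (iv6 D114471)))
theorem E90430 : n175670 = n92473 := ((D175670).symm.trans (sb E89244 F178527))
theorem E90431 : n175671 = n89759 := ((D175671).symm.trans (sb E89245 (iv3 F137753)))
theorem E90432 : n182286 = n172415 := (((F273884).symm.trans (sb E89245 (iv4 F283784)))).symm
theorem E90433 : n175672 = n90544 := ((D175672).symm.trans (sb E89245 (iv5 F139358)))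
theorem E90434 : n175673 = n40432 := ((D175673).symm.trans (sb E89245 (iv6 D87038)))
theorem E90435 : n148716 = n38684 := (((D38684).symm.trans (sb E89246 (iv1 F251469)))).symm
theorem E90436 : n148715 = n38685 := (((D38685).symm.trans (sb E89246 F251465))).symm
theorem E90437 : n148707 = n38686 := (((D38686).symm.trans (sb E89246 F251463))).symm
theorem F325727 : act 3 n34895 = n38222 := (sb E89247 (iv3 D83059))
theorem E90442 : n173534 = n52632 := (((F177636).symm.trans (sb E89247 (iv4 F271971)))).symm
theorem E90443 : n132831 = n76374 := (((D76374).symm.trans (sb E89247 (iv5 F317539)))).symm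
theorem E90444 : n173591 = n52614 := ((((iv6 F83109)).symm.trans (sb E89247 (iv6 F272035)))).symm
theorem E90446 : n152441 = n38205 := ((((iv3 F59066)).symm.trans (sb E89248 F251470))).symm
theorem E90447 : n148718 = n38223 := (((D38223).symm.trans (sb E89248 F251471))).symm
theorem E90449 : n148719 = n34602 := ((((iv7 F316611)).symm.trans (sb E89249 F234990))).symm
theorem E90450 : n175666 = n173589 := (((D173589).symm.trans (sb E89250 (tr (iv1 F283789) E90428)))).symm
theorem E90451 : n173590 = n92473 := ((D173590).symm.trans (sb E89250 (iv0 F234991)))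
theorem E90452 : n173592 = n52612 := ((D173592).symm.trans (sb E89250 (iv5 D113992)))
theorem F325728 : act 2 n69699 = n38688 := (sb E89251 F113538)
theorem E90453 : n158664 = n148720 := (((D148720).symm.trans (sb E89251 D158664))).symm
theorem F325729 : act 7 n69699 = n38222 := (sb E89251 F113540)
theorem E90454 : n176071 = n148706 := (((iv1 F275345)).symm.trans (sb E89252 (iv1 F251488)))
theorem E90457 : n185810 = n115184 := ((((iv5 F317543)).symm.trans (sb E89252 (iv5 F288124)))).symm
theorem F325730 : act 3 n69704 = n61355 := (sb E89254 (iv3 D130779))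
theorem E90460 : n148728 = n132402 := ((D148728).symm.trans (sb E89254 (iv4 F212459)))
theorem E90461 : n133520 = n76380 := ((((iv7 F177842)).symm.trans (sb E89254 F214764))).symm
theorem F325731 : act 0 n114891 = n83073 := (sb E89255 F317523)
theorem F325732 : act 1 n114891 = n83084 := (sb E89255 F317524)
theorem F325733 : act 2 n114891 = n83917 := (sb E89255 (iv2 F319750))
theorem F325734 : act 4 n114891 = n83038 := (sb E89255 F317525)
theorem F325735 : act 5 n114891 = n61355 := (sb E89255 (iv5 D130780))
theorem F325736 : act 7 n114891 = n83914 := (sb E89255 (iv7 F319762))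
theorem E90462 : n126965 = n29042 := ((D126965).symm.trans (sb E89257 (iv1 D61351)))
theorem E90463 : n126966 = n60756 := ((D126966).symm.trans (sb E89257 F95857))
theorem F325737 : act 3 n59587 = n34624 := (sb E89257 F317503)
theorem E90464 : n130762 = n30395 := (((F94007).symm.trans (sb E89257 D130762))).symm
theorem E90465 : n126967 = n29899 := ((D126967).symm.trans (sb E89257 F211222))
theorem E90466 : n126968 = n60755 := ((D126968).symm.trans (sb E89257 (iv7 F216656)))
theorem E90469 : n158211 = n126957 := ((((iv2 F204207)).symm.trans (sb E89258 (iv2 F249227)))).symm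
theorem E90470 : n158752 = n28281 := ((((iv5 D59585)).symm.trans (sb E89258 D158752))).symm
theorem F325738 : act 6 n59585 = n34624 := (sb E89258 (iv6 D75723))
theorem E90472 : n176046 = n55272 := ((D176046).symm.trans (sb E89259 (iv1 F178510)))
theorem E90473 : n176047 = n151562 := ((D176047).symm.trans (sb E89259 F238454))
theorem F325739 : act 2 n83992 = n164200 := (sb E89259 F258794)
theorem E90474 : n176049 = n52829 := ((D176049).symm.trans (sb E89259 (iv7 D114457)))
theorem F325740 : act 0 n98634 = n60588 := (sb E89260 (iv1 F202131))
theorem F325741 : act 1 n98634 = n60587 := (sb E89260 F202129)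
theorem F325742 : act 2 n98634 = n58837 := (sb E89260 (iv2 D125655))
theorem F325743 : act 3 n98634 = n60613 := (sb E89260 F202126)
theorem F325744 : act 4 n98634 = n63492 := (sb E89260 F202127)
theorem F325745 : act 7 n98634 = n60589 := (sb E89260 F202128)
theorem F325746 : act 6 n41605 = n63492 := (sb E89261 (iv6 D135095))
theorem F325747 : act 3 n29989 = n22021 := (sb E89262 F72629)
theorem E90476 : n63498 = n21999 := ((D63498).symm.trans (sb E89262 F72630))
theorem E90477 : n60581 = n57498 := ((D60581).symm.trans (sb E89263 (iv6 D123442)))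
theorem F325748 : act 4 n93136 = n108552 := (sb E89266 F216893)
theorem F325749 : act 6 n93136 = n63340 := (sb E89266 (iv6 D134785))
theorem F325750 : act 2 n93140 = n108552 := (sb E89267 (iv2 F167876))
theorem F325751 : act 6 n93140 = n50080 := (sb E89267 (iv6 D108457))
theorem E90478 : n63485 = n58502 := ((D63485).symm.trans (sb E89272 (iv6 D125113)))
theorem E90479 : n108560 = n85843 := ((D108560).symm.trans (sb E89273 (iv6 D179726)))
theorem F325752 : act 6 n39708 = n60580 := (sb E89274 (iv6 D128815))
theorem E90480 : n98633 = n58835 := (((iv3 F152025)).symm.trans (sb E89275 (iv3 D125650)))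
theorem F325753 : act 6 n46109 = n58837 := (sb E89275 F202118)
theorem E90481 : n98562 = n60591 := (((iv4 F151939)).symm.trans (sb E89280 F207072))
theorem F325754 : act 6 n46077 = n60579 := (sb E89280 (iv6 D128814))
theorem F325755 : act 4 n106554 = n52509 := (sb E89281 F176649)
theorem F325756 : act 6 n106554 = n127408 := (sb E89281 (iv6 F204772))
theorem E90482 : n61883 = n52376 := (((iv7 F211307)).symm.trans (sb E89281 (iv7 D113468)))
theorem E90483 : n159563 = n130922 := (((D130922).symm.trans (sb E89282 (iv1 F251318)))).symm
theorem E90484 : n159562 = n130923 := (((D130923).symm.trans (sb E89282 F251324))).symm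
theorem F325757 : act 5 n61426 = n52509 := (sb E89282 F176956)
theorem E90485 : n159560 = n130926 := (((D130926).symm.trans (sb E89282 (iv6 F251310)))).symm
theorem E90486 : n62503 = n52508 := (((iv7 F97451)).symm.trans (sb E89282 (iv7 D113729)))
theorem F325758 : act 1 n113727 = n130924 := (sb E89284 F214039)
theorem F325759 : act 0 n113726 = n130924 := (sb E89285 (iv1 F214033))
theorem F325760 : act 3 n76338 = n130918 := (sb E89286 F214034)
theorem E90487 : n148761 = n129426 := (((iv4 F233561)).symm.trans (sb E89286 F214035))
theorem F325761 : act 7 n76338 = n130924 := (sb E89286 F214037)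
theorem F325762 : act 0 n105239 = n49239 := (sb E89287 (iv1 D106555))
theorem F325763 : act 1 n105239 = n61885 := (sb E89287 F163810)
theorem F325764 : act 5 n105239 = n131983 := (sb E89287 F211476)
theorem F325765 : act 7 n105239 = n61884 := (sb E89287 F211310)
theorem F325766 : act 6 n134891 = n64354 := (sb E89288 (iv6 D136903))
theorem F325767 : act 2 n101761 = n63951 := (sb E89289 F218801)
theorem F325768 : act 3 n101761 = n64477 := (sb E89289 F218802)
theorem F325769 : act 6 n101761 = n63949 := (sb E89289 (iv6 D136002))
theorem F325770 : act 6 n64454 = n47300 := (sb E89290 (iv6 D101762))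
theorem F325771 : act 2 n107717 = n74107 := (sb E89291 (iv2 D155777))
theorem F325772 : act 7 n107717 = n74108 := (sb E89291 (iv7 F244792))
theorem F325774 : act 7 n120002 = n74033 := (sb E89292 (iv7 D155626))
theorem F325775 : act 4 n110838 = n74033 := (sb E89293 (iv4 D155623))
theorem F325776 : act 6 n59405 = n74033 := (sb E89294 (iv6 D155625))
theorem F325777 : act 4 n74102 = n77713 := (sb E89295 (iv4 D161815))
theorem F325778 : act 6 n74100 = n77713 := (sb E89296 (iv6 D161817))
theorem F325779 : act 4 n53625 = n77716 := (sb E89300 F255802)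
theorem F325780 : act 4 n39488 = n74299 := (sb E89302 (iv4 D156185))
theorem F325781 : act 4 n156187 = n85545 := (sb E89304 F279183)
theorem F325782 : act 1 n115213 = n114551 := (sb E89305 (iv0 F235371))
theorem F325783 : act 3 n115213 = n69683 := (sb E89305 (iv3 D148687))
theorem F325784 : act 4 n115213 = n72924 := (sb E89305 F233443)
theorem E90488 : n135847 = n72923 := (((iv6 F218505)).symm.trans (sb E89305 (iv6 F233444)))
theorem F325785 : act 5 n53130 = n69683 := (sb E89306 (iv5 D148689))
theorem E90489 : n135871 = n73562 := ((D135871).symm.trans (sb E89307 F233450))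
theorem E90490 : n113829 = n30133 := ((((iv5 D63884)).symm.trans (sb E89307 F233451))).symm
theorem F325786 : act 6 n63884 = n69683 := (sb E89307 (iv6 D148690))
theorem F325787 : act 4 n120645 = n63787 := (sb E89308 (iv4 D135673))
theorem E90491 : n84672 = n63452 := ((((iv1 F164011)).symm.trans (sb E89309 F301634))).symm
theorem E90492 : n63488 = n57240 := ((D63488).symm.trans (sb E89309 (iv5 D123029)))
theorem E90493 : n63489 = n57493 := ((D63489).symm.trans (sb E89309 F197145))
theorem F325788 : act 0 n39112 = n63456 := (sb E89310 (iv1 F207083))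
theorem E90494 : n84673 = n60584 := ((D84673).symm.trans (sb E89310 F207081))
theorem F325789 : act 2 n123431 = n63456 := (sb E89311 (iv2 F207078))
theorem F325790 : act 4 n123431 = n63337 := (sb E89311 F207077)
theorem E90495 : n84819 = n14234 := ((((iv1 D29975)).symm.trans (sb E89312 F301985))).symm
theorem F325791 : act 5 n76874 = n63456 := (sb E89313 (iv5 D135023))
theorem E90496 : n134486 = n55570 := (((F301787).symm.trans (sb E89313 F217246))).symm
theorem F325792 : act 0 n112199 = n73655 := (sb E89315 (iv1 D155164))
theorem F325793 : act 4 n112199 = n78191 := (sb E89315 (iv4 F243984))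
theorem F325794 : act 6 n112199 = n77548 := (sb E89315 F302726)
theorem F325795 : act 7 n112199 = n77542 := (sb E89315 F243985)
theorem E90497 : n126160 = n33564 := ((D126160).symm.trans (sb E89320 (iv1 D72745)))
theorem E90498 : n153761 = n126161 := (((D126161).symm.trans (sb E89320 F241622))).symm
theorem E90499 : n153767 = n126159 := ((((iv2 F202858)).symm.trans (sb E89320 (iv2 F241624)))).symm
theorem E90503 : n153762 = n126163 := (((D126163).symm.trans (sb E89320 F241623))).symm
theorem E90506 : n137514 = n136509 := (((D136509).symm.trans (sb E89321 (iv3 F220713)))).symm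
theorem E90507 : n137519 = n136510 := (((D136510).symm.trans (sb E89321 (iv4 F220719)))).symm
theorem E90509 : n136512 = n30420 := ((D136512).symm.trans (sb E89321 (iv6 D64648)))
theorem F325796 : act 5 n113045 = n67488 := (sb E89322 (iv5 D144039))
theorem E90511 : n134538 = n63606 := ((D134538).symm.trans (sb E89323 (iv6 D135295)))
theorem F325797 : act 6 n62376 = n61123 := (sb E89324 (iv6 D130210))
theorem E90512 : n135775 = n115185 := ((((iv2 F321109)).symm.trans (sb E89325 (iv2 F218345)))).symm
theorem F325798 : act 6 n83999 = n63763 := (sb E89325 (iv6 D135602))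
theorem E90513 : n133490 = n52635 := (((D52635).symm.trans (sb E89327 D133490))).symm
theorem E90514 : n133491 = n34406 := (((F56607).symm.trans (sb E89327 D133491))).symm
theorem F325799 : act 4 n83980 = n69586 := (sb E89329 (iv4 D148512))
theorem F325800 : act 3 n83053 = n70133 := (sb E89330 (iv3 D149364))
theorem E90517 : n173660 = n85311 := ((D173660).symm.trans (sb E89330 F234842))
theorem E90518 : n158986 = n152462 := ((((iv7 F321690)).symm.trans (sb E89330 (iv7 F250322)))).symm
theorem E90519 : n146453 = n30106 := (((F83864).symm.trans (sb E89331 (iv4 F258869)))).symm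
theorem E90520 : n115166 = n78899 := ((D115166).symm.trans (sb E89331 F258868))
theorem E90521 : n130748 = n92719 := ((F209314).symm.trans (sb E89332 (iv1 F183975)))
theorem E90522 : n130916 = n92729 := (((iv0 F209522)).symm.trans (sb E89332 F183976))
theorem F325801 : act 5 n61428 = n92710 := (sb E89332 F183974)
theorem F325802 : act 3 n43967 = n63162 := (sb E89333 (iv3 D134470))
theorem E90523 : n135765 = n94054 := ((((iv6 F144896)).symm.trans (sb E89333 (iv6 F218320)))).symm
theorem F325803 : act 5 n43962 = n63162 := (sb E89334 (iv5 D134471))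
theorem F325804 : act 0 n61318 = n35920 := (sb E89335 (iv1 D78903))
theorem E90527 : n147835 = n130696 := (((D130696).symm.trans (sb E89335 (iv6 F321742)))).symm
theorem F325805 : act 2 n102267 = n47821 := (sb E89341 (iv2 D103177))
theorem F325806 : act 3 n102267 = n74186 := (sb E89341 F322984)
theorem F325807 : act 5 n102267 = n136303 := (sb E89341 F322985)
theorem F325808 : act 6 n102267 = n74184 := (sb E89341 F322986)
theorem F325809 : act 7 n102267 = n164468 := (sb E89341 F259128)
theorem F325810 : act 3 n69026 = n71537 := (sb E89342 (iv3 D151763))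
theorem E90529 : n143030 = n121373 := (((iv6 F324985)).symm.trans (sb E89342 F238676))
theorem F325811 : act 7 n164267 = n78924 := (sb E89343 F258923)
theorem F325812 : act 2 n164268 = n78920 := (sb E89344 F258924)
theorem F325813 : act 7 n164268 = n78925 := (sb E89344 F258925)
theorem F325814 : act 5 n127738 = n78910 := (sb E89345 (iv5 D164269))
theorem F325815 : act 2 n152522 = n78922 := (sb E89346 F258928)
theorem F325816 : act 0 n77787 = n66183 := (sb E89347 (iv1 D141119))
theorem F325817 : act 1 n77788 = n66183 := (sb E89348 (iv0 D141118))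
theorem E90530 : n121150 = n110306 := ((F299374).symm.trans (sb E89348 F224097))
theorem F325818 : act 0 n77783 = n66182 := (sb E89349 (iv1 F224094))
theorem F325819 : act 1 n77783 = n66181 := (sb E89349 (iv0 D141108))
theorem F325820 : act 7 n77783 = n66183 := (sb E89349 F224093)
theorem F325821 : act 7 n77789 = n66013 := (sb E89350 (iv7 D140695))
theorem E90531 : n112482 = n35518 := ((D112482).symm.trans (sb E89353 (iv1 F121218)))
theorem F325822 : act 1 n51891 = n35380 := (sb E89353 (iv0 F121215))
theorem E90532 : n112483 = n27525 := ((D112483).symm.trans (sb E89353 F87588))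
theorem E90533 : n112484 = n26744 := ((D112484).symm.trans (sb E89353 (iv7 D55344)))
theorem E90534 : n121572 = n110301 := (((iv6 F297302)).symm.trans (sb E89355 F173809))
theorem F325823 : act 3 n77828 = n66183 := (sb E89357 F173808)
theorem F325824 : act 6 n77828 = n51593 := (sb E89357 (iv6 D111884))
theorem F325825 : act 6 n77836 = n51587 := (sb E89358 (iv6 D111876))
theorem F325826 : act 2 n77788 = n66181 := (sb E89359 (iv2 D141109))
theorem F325827 : act 7 n77788 = n66182 := (sb E89359 (iv7 F224095))
theorem F325828 : act 3 n55826 = n66181 := (sb E89360 (iv3 D141110))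
theorem F325829 : act 5 n80195 = n66181 := (sb E89361 (iv5 D141112))
theorem E90535 : n161505 = n50854 := (((iv5 F301040)).symm.trans (sb E89362 (iv5 D110291)))
theorem F325830 : act 6 n77943 = n66181 := (sb E89362 (iv6 F170932))
theorem F325831 : act 2 n77787 = n66182 := (sb E89363 F224096)
theorem F325832 : act 7 n77787 = n66181 := (sb E89363 (iv7 D141113))
theorem F325833 : act 3 n35223 = n66182 := (sb E89364 (iv3 D141114))
theorem F325834 : act 0 n141115 = n123323 := (sb E89365 F253923)
theorem F325835 : act 1 n141115 = n123484 := (sb E89365 F253924)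
theorem F325836 : act 2 n141115 = n124407 := (sb E89365 (iv2 F301180))
theorem F325837 : act 6 n141115 = n123309 := (sb E89365 F253922)
theorem F325838 : act 7 n141115 = n124408 := (sb E89365 (iv7 F302252))
theorem F325839 : act 5 n35221 = n66182 := (sb E89366 (iv5 D141116))
theorem F325840 : act 6 n77835 = n66182 := (sb E89367 (iv6 D141117))
theorem F325841 : act 0 n140693 = n160286 := (sb E89368 (iv1 F299840))
theorem F325842 : act 1 n140693 = n76121 := (sb E89368 (iv0 D159183))
theorem F325843 : act 7 n140693 = n160358 := (sb E89368 (iv7 F303294))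
theorem F325844 : act 5 n41377 = n66183 := (sb E89369 F170939)
theorem F325845 : act 1 n76875 = n66013 := (sb E89370 (iv0 D140691))
theorem F325846 : act 0 n76865 = n66013 := (sb E89371 (iv1 D140692))
theorem F325847 : act 3 n124456 = n66014 := (sb E89372 F223784)
theorem F325848 : act 5 n124456 = n66013 := (sb E89372 (iv5 D140694))
theorem E90540 : n108801 = n35561 := (((D35561).symm.trans (sb E89379 (iv4 F168727)))).symm
theorem E90544 : n162234 = n108803 := ((((iv4 F168729)).symm.trans (sb E89380 (iv4 F256371)))).symm
theorem E90545 : n113190 = n82569 := (((iv3 F176351)).symm.trans (sb E89383 (iv3 D172456)))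
theorem E90546 : n174471 = n113196 := (((D113196).symm.trans (sb E89383 F273352))).symm
theorem F325849 : act 6 n79777 = n59113 := (sb E89384 (iv6 D126152))
theorem E90549 : n180206 = n110349 := ((((iv2 F170609)).symm.trans (sb E89385 (iv2 F280544)))).symm
theorem F325850 : act 3 n59320 = n39855 := (sb E89385 F132049)
theorem E90550 : n126445 = n39853 := ((D126445).symm.trans (sb E89385 (iv6 D86096)))
theorem F325851 : act 2 n116687 = n82257 := (sb E89386 F298147)
theorem F325852 : act 4 n116687 = n81998 := (sb E89386 F195725)
theorem F325853 : act 6 n116687 = n56693 := (sb E89386 (iv6 D122365))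
theorem F325854 : act 1 n147651 = n82257 := (sb E89387 (iv0 D171685))
theorem F325855 : act 0 n86226 = n82257 := (sb E89388 (iv1 D171686))
theorem F325856 : act 1 n122498 = n68342 := (sb E89389 (iv0 D145762))
theorem E90551 : n173616 = n76541 := (((iv5 F272081)).symm.trans (sb E89389 (iv5 F228897)))
theorem F325857 : act 7 n112567 = n82257 := (sb E89390 (iv7 D171687))
theorem E90552 : n109483 = n78867 := (((iv3 F169439)).symm.trans (sb E89392 F296568))
theorem F325858 : act 3 n39865 = n50987 := (sb E89395 F171139)
theorem F325859 : act 3 n58057 = n30930 := (sb E89396 (iv3 D66169))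
theorem E90556 : n137250 = n124466 := (((D124466).symm.trans (sb E89396 (iv4 F220388)))).symm
theorem E90557 : n110332 = n35892 := (((F117711).symm.trans (sb E89396 (iv6 F170568)))).symm
theorem E90558 : n141092 = n38267 := ((D141092).symm.trans (sb E89398 F298932))
theorem E90559 : n141093 = n38262 := ((D141093).symm.trans (sb E89398 F298933))
theorem E90560 : n141094 = n34655 := ((D141094).symm.trans (sb E89398 F113056))
theorem E90561 : n141090 = n78215 := (((iv4 F224083)).symm.trans (sb E89398 (iv4 F301560)))
theorem F325860 : act 5 n66175 = n34453 := (sb E89398 (iv5 D75257))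
theorem F325861 : act 1 n18231 = n31787 := (sb E89399 (iv0 F80013))
theorem F325862 : act 5 n18231 = n24663 := (sb E89399 F80012)
theorem F325863 : act 7 n18231 = n24662 := (sb E89399 (iv7 D50647))
theorem E90566 : n121559 = n51940 := (((F82021).symm.trans (sb E89403 D121559))).symm
theorem E90567 : n121560 = n51939 := (((F82012).symm.trans (sb E89403 D121560))).symm
theorem F325864 : act 4 n25269 = n27104 := (sb E89403 F88793)
theorem F325865 : act 3 n51047 = n81776 := (sb E89405 (iv3 D170605))
theorem E90568 : n124601 = n51968 := (((F82079).symm.trans (sb E89405 F268049))).symm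
theorem E90569 : n127033 = n29902 := ((D127033).symm.trans (sb E89407 (iv1 D63282)))
theorem E90570 : n127034 = n63592 := ((D127034).symm.trans (sb E89407 F98940))
theorem E90571 : n126677 = n63663 := (((iv2 F203845)).symm.trans (sb E89407 (iv2 F310708)))
theorem F325866 : act 5 n59613 = n124988 := (sb E89407 (iv5 F309874))
theorem E90575 : n127036 = n63664 := ((D127036).symm.trans (sb E89407 (iv7 F310711)))
theorem E90576 : n155186 = n126334 := (((D126334).symm.trans (sb E89408 (iv1 F244016)))).symm
theorem E90577 : n126318 = n119391 := (((iv2 F203119)).symm.trans (sb E89408 F189973))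
theorem E90578 : n174171 = n126335 := (((D126335).symm.trans (sb E89408 (iv3 F272963)))).symm
theorem E90580 : n126336 = n38553 := ((D126336).symm.trans (sb E89408 (iv5 D83613)))
theorem E90582 : n126320 = n119398 := (((iv7 F203130)).symm.trans (sb E89408 F189974))
theorem E90583 : n126340 = n38349 := ((D126340).symm.trans (sb E89409 (iv3 F117680)))
theorem E90585 : n126341 = n33862 := ((D126341).symm.trans (sb E89409 (iv5 D73696)))
theorem E90586 : n155188 = n126342 := (((D126342).symm.trans (sb E89409 D155188))).symm
theorem F325867 : act 3 n126729 = n62673 := (sb E89410 (iv3 D133546))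
theorem F325868 : act 4 n42395 = n62673 := (sb E89411 (iv4 D133547))
theorem F325869 : act 5 n126727 = n62673 := (sb E89412 (iv5 D133548))
theorem F325870 : act 6 n42399 = n62673 := (sb E89413 (iv6 D133549))
theorem E90587 : n62651 = n54117 := ((D62651).symm.trans (sb E89416 F85432))
theorem E90588 : n62505 = n52502 := (((iv0 F97459)).symm.trans (sb E89416 (iv0 F83164)))
theorem E90589 : n53139 = n35921 := (((iv2 F83869)).symm.trans (sb E89416 F83162))
theorem F325871 : act 3 n29625 = n52517 := (sb E89416 F83163)
theorem F325872 : act 5 n29625 = n25545 := (sb E89416 (iv5 D52636))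
theorem F325873 : act 7 n29625 = n54114 := (sb E89416 (iv7 F85425))
theorem F325874 : act 1 n53112 = n68666 := (sb E89418 (iv0 D146463))
theorem F325875 : act 0 n115164 = n68666 := (sb E89419 (iv1 D146464))
theorem F325876 : act 0 n126702 = n66482 := (sb E89420 (iv1 F207771))
theorem F325877 : act 1 n126702 = n66481 := (sb E89420 F207769)
theorem F325878 : act 2 n126702 = n60878 := (sb E89420 (iv2 D129593))
theorem F325879 : act 7 n126702 = n66483 := (sb E89420 F207768)
theorem E90592 : n137726 = n131029 := ((((iv2 F209722)).symm.trans (sb E89421 D137726))).symm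
theorem F325880 : act 3 n61467 = n30452 := (sb E89421 (iv3 D64738))
theorem E90593 : n131032 = n63921 := ((D131032).symm.trans (sb E89421 F100610))
theorem E90594 : n137728 = n130726 := ((((iv6 F209294)).symm.trans (sb E89421 D137728))).symm
theorem F325881 : act 5 n132631 = n67629 := (sb E89422 (iv5 D144344))
theorem F325882 : act 6 n132631 = n67632 := (sb E89422 F227082)
theorem E90595 : n137732 = n130721 := ((((iv4 F209291)).symm.trans (sb E89423 F227083))).symm
theorem F325883 : act 7 n61340 = n67629 := (sb E89423 (iv7 D144345))
theorem F325884 : act 3 n96396 = n79904 := (sb E89425 (iv3 D166430))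
theorem F325885 : act 3 n96403 = n79885 := (sb E89427 F261954)
theorem F325886 : act 4 n96403 = n79890 := (sb E89427 F261955)
theorem F325887 : act 4 n44554 = n79889 := (sb E89428 (iv4 D166389))
theorem F325888 : act 4 n65574 = n83321 := (sb E89431 (iv4 D174329))
theorem F325889 : act 4 n53807 = n55059 := (sb E89432 (iv4 D119671))
theorem F325890 : act 4 n130075 = n66858 := (sb E89433 (iv4 D142635))
theorem F325891 : act 6 n157552 = n83331 := (sb E89434 (iv6 D174352))
theorem F325892 : act 3 n27716 = n51802 := (sb E89436 F174677)
theorem F325893 : act 3 n37214 = n51740 := (sb E89437 F174448)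
theorem F325894 : act 1 n59549 = n59655 := (sb E89440 (iv0 D127095))
theorem E90596 : n126891 = n62058 := ((D126891).symm.trans (sb E89440 (iv6 F211921)))
theorem F325895 : act 2 n126788 = n59655 := (sb E89441 (iv2 D127097))
theorem F325896 : act 3 n126788 = n129233 := (sb E89441 (iv3 F207447))
theorem F325897 : act 6 n126788 = n62069 := (sb E89441 F204341)
theorem F325898 : act 0 n109445 = n84315 := (sb E89442 (iv1 D176870))
theorem F325899 : act 6 n82945 = n50486 := (sb E89443 (iv6 D109446))
theorem F325900 : act 1 n109425 = n84315 := (sb E89444 (iv0 D176869))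
theorem F325901 : act 6 n83128 = n50481 := (sb E89445 (iv6 D109426))
theorem F325902 : act 7 n141060 = n161173 := (sb E89446 F263228)
theorem E90597 : n173327 = n47807 := ((D173327).symm.trans (sb E89449 F148114))
theorem E90598 : n173328 = n48385 := ((D173328).symm.trans (sb E89449 F148115))
theorem E90599 : n173329 = n95487 := ((D173329).symm.trans (sb E89449 F148111))
theorem F325903 : act 4 n82949 = n44948 := (sb E89449 (iv4 D96285))
theorem E90600 : n173330 = n95616 := ((D173330).symm.trans (sb E89449 F148112))
theorem E90601 : n173331 = n95484 := ((D173331).symm.trans (sb E89449 F148113))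
theorem E90602 : n176709 = n95488 := ((D176709).symm.trans (sb E89450 F148116))
theorem E90603 : n160909 = n95677 := (((iv5 F254105)).symm.trans (sb E89450 F148117))
theorem F325904 : act 6 n84248 = n44948 := (sb E89450 (iv6 D96286))
theorem F325905 : act 3 n44605 = n38822 := (sb E89451 (iv3 D84196))
theorem E90607 : n176605 = n45524 := ((((iv5 F71798)).symm.trans (sb E89451 D176605))).symm
theorem E90608 : n111962 = n95485 := (((D95485).symm.trans (sb E89451 (tr D176606 E90248)))).symm
theorem E90609 : n98130 = n96112 := ((((iv2 F147761)).symm.trans (sb E89452 F299347))).symm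
theorem E90610 : n96118 = n56199 := ((D96118).symm.trans (sb E89452 (iv5 D121672)))
theorem E90611 : n89873 = n79827 := (((iv7 F137965)).symm.trans (sb E89452 F194168))
theorem F325906 : act 2 n84218 = n95673 := (sb E89453 F149719)
theorem E90612 : n176640 = n45367 := ((D176640).symm.trans (sb E89453 (iv6 D97052)))
theorem F325907 : act 7 n84218 = n96117 := (sb E89453 (iv7 F150274))
theorem F325908 : act 2 n84197 = n96117 := (sb E89454 F150272)
theorem E90613 : n176193 = n47432 := (((iv4 F275421)).symm.trans (sb E89454 F150265))
theorem E90614 : n176608 = n87946 := ((D176608).symm.trans (sb E89454 F295211))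
theorem F325909 : act 7 n84197 = n95673 := (sb E89454 F150268)
theorem E90615 : n75736 = n47370 := (((D47370).symm.trans (sb E89455 (iv5 D158766)))).symm
theorem F325910 : act 5 n96277 = n82414 := (sb E89456 F302215)
theorem F325911 : act 5 n96276 = n79880 := (sb E89457 (iv5 D166361))
theorem F325912 : act 5 n96272 = n84231 := (sb E89458 (iv5 D176666))
theorem E90616 : n84033 = n47368 := (((D47368).symm.trans (sb E89459 (iv5 D176183)))).symm
theorem F325913 : act 5 n38847 = n44995 := (sb E89460 (iv5 D96362))
theorem E90617 : n84226 = n44946 := (((D44946).symm.trans (sb E89462 (iv5 D176653)))).symm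
theorem E90618 : n84034 = n46603 := (((D46603).symm.trans (sb E89463 (iv5 D176186)))).symm
theorem F325914 : act 5 n38843 = n44945 := (sb E89464 (iv5 D96278))
theorem F325915 : act 3 n128852 = n82457 := (sb E89468 (iv3 D172184))
theorem F325916 : act 7 n128852 = n82602 := (sb E89468 F303508)
theorem F325917 : act 3 n128853 = n82603 := (sb E89469 F270725)
theorem F325918 : act 5 n128853 = n82602 := (sb E89469 (iv5 D172543))
theorem E90619 : n131864 = n117457 := ((((iv4 F183966)).symm.trans (sb E89470 (iv4 F211277)))).symm
theorem F325919 : act 7 n54129 = n61428 := (sb E89470 (iv7 D130929))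
theorem F325920 : act 3 n51021 = n68555 := (sb E89471 (iv3 D146191))
theorem F325921 : act 3 n67731 = n67082 := (sb E89472 (iv3 D143151))
theorem F325922 : act 4 n141483 = n67082 := (sb E89473 (iv4 D143152))
theorem E90620 : n139713 = n116863 := ((D139713).symm.trans (sb E89474 (iv1 F182573)))
theorem E90621 : n139714 = n31757 := ((D139714).symm.trans (sb E89474 (iv0 D68238)))
theorem E90626 : n145530 = n109674 := ((((iv7 F169656)).symm.trans (sb E89474 D145530))).symm
theorem F325923 : act 3 n38962 = n68194 := (sb E89478 F228484)
theorem F325924 : act 7 n38962 = n68192 := (sb E89478 (iv7 D145450))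
theorem F325925 : act 3 n125820 = n84485 := (sb E89479 F276724)
theorem F325926 : act 3 n34649 = n50948 := (sb E89482 (iv3 D110493))
theorem F325927 : act 6 n34649 = n66175 := (sb E89482 F170905)
theorem F325928 : act 3 n34659 = n50947 := (sb E89483 (iv3 D110491))
theorem F325929 : act 7 n34659 = n66175 := (sb E89483 F170898)
theorem F325930 : act 1 n37313 = n50946 := (sb E89484 (iv0 D110488))
theorem F325931 : act 0 n34789 = n50946 := (sb E89485 (iv1 D110489))
theorem F325932 : act 0 n110465 = n78306 := (sb E89486 (iv1 F197469))
theorem F325933 : act 1 n110465 = n78309 := (sb E89486 F197468)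
theorem F325934 : act 2 n110465 = n84492 := (sb E89486 F197467)
theorem F325935 : act 5 n110465 = n181145 := (sb E89486 (iv5 F282151))
theorem F325936 : act 7 n110465 = n160487 := (sb E89486 F299953)
theorem F325937 : act 5 n56064 = n59320 := (sb E89487 (iv5 D126444))
theorem F325938 : act 3 n11910 = n8684 := (sb E89494 F29646)
theorem F325939 : act 5 n11910 = n8682 := (sb E89494 (iv5 D18465))
theorem F325940 : act 7 n11910 = n16728 := (sb E89494 F29647)
theorem E90633 : n112313 = n34419 := (((D34419).symm.trans (sb E89496 D112313))).symm
theorem F325941 : act 3 n19159 = n25149 := (sb E89497 (iv3 D51801))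
theorem E90637 : n112308 = n40560 := (((D40560).symm.trans (sb E89497 D112308))).symm
theorem F325942 : act 3 n16694 = n24603 := (sb E89498 (iv3 D50495))
theorem E90641 : n109474 = n34422 := (((D34422).symm.trans (sb E89498 D109474))).symm
theorem F325943 : act 3 n40460 = n24604 := (sb E89499 (iv3 D50499))
theorem E90645 : n109481 = n77263 := ((((iv4 F116030)).symm.trans (sb E89499 D109481))).symm
theorem E90649 : n111944 = n55357 := ((((iv4 F87617)).symm.trans (sb E89500 (iv4 F173938)))).symm
theorem E90653 : n111427 = n39879 := ((((iv4 F60682)).symm.trans (sb E89501 (iv4 F172917)))).symm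
theorem E90656 : n109994 = n51906 := (((E90265).symm.trans (((iv2 F87580)).symm.trans (sb E89505 D109994)))).symm
theorem E90657 : n109990 = n55346 := ((((iv4 F87594)).symm.trans (sb E89505 (iv4 F170111)))).symm
theorem F325944 : act 1 n46033 = n63474 := (sb E89506 F216900)
theorem E90658 : n108515 = n98406 := (((D98406).symm.trans (sb E89506 F216897))).symm
theorem F325945 : act 2 n46046 = n63474 := (sb E89507 F172921)
theorem F325946 : act 4 n46046 = n51393 := (sb E89507 (iv4 D111429))
theorem E90659 : n141298 = n98454 := (((D98454).symm.trans (sb E89507 (iv6 F224317)))).symm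
theorem E90660 : n131794 = n47566 := ((((iv0 F289828)).symm.trans (sb E89508 F217287))).symm
theorem F325947 : act 5 n46704 = n63474 := (sb E89508 (iv5 D135054))
theorem F325948 : act 2 n132699 = n62279 := (sb E89511 F213069)
theorem F325949 : act 7 n132699 = n62278 := (sb E89511 (iv7 D132715))
theorem F325950 : act 2 n132698 = n62278 := (sb E89512 (iv2 D132710))
theorem F325951 : act 7 n132698 = n62279 := (sb E89512 (iv7 F213068))
theorem E90666 : n121415 = n51928 := ((((iv2 F81980)).symm.trans (sb E89513 D121415))).symm
theorem F325952 : act 4 n25210 = n36083 := (sb E89513 F88686)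
theorem E90667 : n78677 = n63577 := (((D63577).symm.trans (sb E89514 F258118))).symm
theorem E90668 : n78655 = n51454 := ((((iv3 F81233)).symm.trans (sb E89516 F257983))).symm
theorem E90669 : n124292 = n51464 := ((((iv4 F81237)).symm.trans (sb E89516 (iv4 F198781)))).symm
theorem F325953 : act 4 n98422 = n110790 := (sb E89519 F214245)
theorem F325954 : act 6 n98422 = n131030 := (sb E89519 (iv6 F214249))
theorem F325955 : act 7 n98422 = n110788 := (sb E89519 F214248)
theorem F325956 : act 0 n61841 = n46038 := (sb E89520 (iv1 D98423))
theorem E90670 : n131792 = n46083 := (((iv3 F211163)).symm.trans (sb E89520 F290058))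
theorem E90671 : n123422 = n29304 := ((((iv6 D61841)).symm.trans (sb E89520 (iv6 F306414)))).symm
theorem F325957 : act 2 n63015 = n46038 := (sb E89521 F152044)
theorem E90672 : n134154 = n46031 := ((D134154).symm.trans (sb E89521 (iv5 D98399)))
theorem F325958 : act 4 n29562 = n46038 := (sb E89522 (iv4 D98424))
theorem E90673 : n134786 = n46034 := ((((iv1 F72622)).symm.trans (sb E89523 (iv1 F216895)))).symm
theorem F325959 : act 6 n61373 = n46038 := (sb E89524 (iv6 D98425))
theorem E90675 : n182503 = n24981 := (((D24981).symm.trans (sb E89525 F284020))).symm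
theorem E90676 : n180399 = n111280 := (((D111280).symm.trans (sb E89527 (iv4 F280738)))).symm
theorem E90679 : n180400 = n109097 := ((((iv5 F169086)).symm.trans (sb E89528 D180400))).symm
theorem E90680 : n180401 = n111428 := (((D111428).symm.trans (sb E89528 D180401))).symm
theorem E90682 : n176742 = n25054 := (((D25054).symm.trans (sb E89530 D176742))).symm
theorem E90684 : n157759 = n52436 := (((D52436).symm.trans (sb E89541 (iv4 F248645)))).symm
theorem E90685 : n157757 = n105192 := (((F164336).symm.trans (sb E89542 D157757))).symm
theorem E90688 : n182717 = n63009 := ((((iv4 F168001)).symm.trans (sb E89544 (iv4 F284294)))).symm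
theorem E90690 : n84268 = n51575 := (((F169874).symm.trans (sb E89547 F194086))).symm
theorem E90691 : n180433 = n108595 := (((F170638).symm.trans (sb E89548 (iv1 F280805)))).symm
theorem E90692 : n113151 = n78575 := ((F176298).symm.trans (sb E89548 (iv0 F254259)))
theorem F325960 : act 3 n110364 = n180445 := (sb E89548 (iv3 F280841))
theorem F325961 : act 5 n110364 = n79681 := (sb E89548 F194359)
theorem E90693 : n180438 = n51382 := ((((iv4 F168455)).symm.trans (sb E89553 (iv4 F280828)))).symm
theorem F325962 : act 4 n86175 = n50891 := (sb E89554 (iv4 D110362))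
theorem E90694 : n180435 = n112547 := ((D180435).symm.trans (sb E89554 (iv6 F175049)))
theorem F325963 : act 1 n35586 = n28135 := (sb E89556 (iv0 D59249))
theorem F325964 : act 2 n35586 = n28139 := (sb E89556 F171882)
theorem E90695 : n106202 = n78008 := (((D78008).symm.trans (sb E89556 (iv3 F168554)))).symm
theorem E90696 : n111553 = n78009 := (((D78009).symm.trans (sb E89556 (iv4 F173085)))).symm
theorem E90697 : n78011 = n67642 := ((D78011).symm.trans (sb E89556 (iv6 F103662)))
theorem F325965 : act 7 n35586 = n28140 := (sb E89556 F171883)
theorem F325966 : act 0 n35585 = n28135 := (sb E89557 F95457)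
theorem F325967 : act 2 n35585 = n28140 := (sb E89557 F171875)
theorem E90698 : n78003 = n58890 := ((D78003).symm.trans (sb E89557 (iv3 F174541)))
theorem E90699 : n111554 = n78004 := (((D78004).symm.trans (sb E89557 (iv4 F173080)))).symm
theorem E90700 : n78006 = n28122 := ((D78006).symm.trans (sb E89557 (iv6 D59228)))
theorem F325968 : act 7 n35585 = n28139 := (sb E89557 F171876)
theorem E90702 : n158007 = n112226 := ((((iv4 F174523)).symm.trans (sb E89558 F256597))).symm
theorem E90703 : n163705 = n111556 := ((((iv1 F173096)).symm.trans (sb E89559 F258059))).symm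
theorem E90704 : n78629 = n52336 := (((F173087).symm.trans (sb E89559 (iv0 F256621)))).symm
theorem E90705 : n166716 = n126365 := (((D126365).symm.trans (sb E89559 F262422))).symm
theorem E90706 : n126366 = n120985 := ((D126366).symm.trans (sb E89559 F256620))
theorem E90707 : n180797 = n50330 := (((F168462).symm.trans (sb E89561 (iv4 F281434)))).symm
theorem E90708 : n126368 = n39971 := ((D126368).symm.trans (sb E89562 (iv3 D86351)))
theorem E90709 : n126369 = n120990 := ((D126369).symm.trans (sb E89562 F248733))
theorem E90710 : n180795 = n119391 := (((E90577).symm.trans (((iv6 F203120)).symm.trans (sb E89562 D180795)))).symm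
theorem E90712 : n166641 = n52349 := (((F163884).symm.trans (sb E89570 F262267))).symm
theorem E90714 : n182877 = n126186 := (((D126186).symm.trans (sb E89570 D182877))).symm
theorem E90715 : n126187 = n124587 := ((D126187).symm.trans (sb E89570 (iv6 F299381)))
theorem E90716 : n157749 = n58909 := (((D58909).symm.trans (sb E89574 F255431))).symm
theorem E90717 : n132002 = n52258 := ((((iv1 F168298)).symm.trans (sb E89575 (tr D157747 E90101)))).symm
theorem E90718 : n157748 = n58931 := ((((iv0 F168296)).symm.trans (sb E89575 D157748))).symm
theorem E90719 : n157750 = n126370 := (((D126370).symm.trans (sb E89575 D157750))).symm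
theorem E90720 : n115473 = n115450 := ((D115473).symm.trans (sb E89589 F179900))
theorem E90721 : n116576 = n115474 := (((D115474).symm.trans (sb E89589 D116576))).symm
theorem E90722 : n116577 = n107180 := ((((iv2 F165183)).symm.trans (sb E89589 D116577))).symm
theorem E90723 : n115464 = n25995 := (((iv3 F179765)).symm.trans (sb E89589 (iv3 D53722)))
theorem E90724 : n116578 = n115475 := (((D115475).symm.trans (sb E89589 D116578))).symm
theorem E90726 : n116580 = n115476 := (((D115476).symm.trans (sb E89589 D116580))).symm
theorem E90727 : n126993 = n126324 := ((D126993).symm.trans (sb E89590 (iv6 F203134)))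
theorem F325969 : act 7 n59599 = n59017 := (sb E89590 (iv7 D126008))
theorem E90731 : n112324 = n35311 := (((D35311).symm.trans (sb E89591 (iv4 F174716)))).symm
theorem E90735 : n109498 = n34445 := (((F54647).symm.trans (sb E89592 (iv4 F169454)))).symm
theorem F325970 : act 3 n38246 = n25125 := (sb E89597 F81664)
theorem F325971 : act 7 n38246 = n25121 := (sb E89597 (iv7 D51735))
theorem E90736 : n128670 = n58909 := (((E90716).symm.trans (((iv1 F248626)).symm.trans (sb E89602 F208336)))).symm
theorem E90737 : n132005 = n58931 := (((E90718).symm.trans (((iv2 F262726)).symm.trans (sb E89602 (iv2 F211506))))).symm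
theorem F325972 : act 5 n81509 = n61042 := (sb E89602 (iv5 D129957))
theorem E90747 : n162258 = n108613 := ((((iv4 F168443)).symm.trans (sb E89605 D162258))).symm
theorem E90752 : n162233 = n108802 := (((D108802).symm.trans (sb E89606 D162233))).symm
theorem E90753 : n157911 = n51388 := (((D51388).symm.trans (sb E89607 (iv4 F248813)))).symm
theorem F325973 : act 0 n99853 = n61378 := (sb E89608 (iv1 D130836))
theorem F325974 : act 1 n99853 = n63015 := (sb E89608 F209397)
theorem F325975 : act 4 n99853 = n61844 := (sb E89608 F209399)
theorem F325976 : act 6 n99853 = n116126 := (sb E89608 (iv6 F209400))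
theorem F325977 : act 7 n99853 = n61841 := (sb E89608 F209398)
theorem F325978 : act 0 n46043 = n61841 := (sb E89609 F169023)
theorem F325979 : act 2 n46043 = n61378 := (sb E89609 F169021)
theorem E90754 : n98439 = n50342 := ((D98439).symm.trans (sb E89609 (iv4 D109027)))
theorem F325980 : act 7 n46043 = n63015 := (sb E89609 F169022)
theorem F325981 : act 5 n46032 = n61378 := (sb E89610 (iv5 D130838))
theorem E90760 : n162196 = n51321 := ((((iv4 F80973)).symm.trans (sb E89612 D162196))).symm
theorem E90765 : n157912 = n109499 := (((D109499).symm.trans (sb E89613 D157912))).symm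
theorem E90766 : n158008 = n112229 := ((((iv4 F174529)).symm.trans (sb E89614 F262671))).symm
theorem E90767 : n176846 = n112230 := (((D112230).symm.trans (sb E89615 (iv4 F276225)))).symm
theorem E90769 : n158046 = n112224 := ((((iv3 F174519)).symm.trans (sb E89617 (iv3 F248999)))).symm
theorem E90771 : n176780 = n112257 := (((D112257).symm.trans (sb E89618 D176780))).symm
theorem E90774 : n159305 = n112259 := (((D112259).symm.trans (sb E89619 (iv3 F254270)))).symm
theorem E90779 : n176790 = n112262 := (((D112262).symm.trans (sb E89620 D176790))).symm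
theorem E90780 : n176791 = n112255 := ((((iv6 F174600)).symm.trans (sb E89620 D176791))).symm
theorem E90781 : n112263 = n94339 := ((D112263).symm.trans (sb E89620 (iv7 F293635)))
theorem E90784 : n161259 = n14164 := (((F38417).symm.trans (sb E89622 D161259))).symm
theorem E90787 : n161263 = n50332 := ((((iv4 F79710)).symm.trans (sb E89623 D161263))).symm
theorem E90790 : n161137 = n50340 := (((D50340).symm.trans (sb E89624 (iv4 F254742)))).symm
theorem E90793 : n161138 = n112325 := (((D112325).symm.trans (sb E89625 D161138))).symm
theorem F325982 : act 3 n59460 = n61458 := (sb E89626 (iv3 D131011))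
theorem F325983 : act 5 n59459 = n61458 := (sb E89627 (iv5 D131013))
theorem F325984 : act 2 n126848 = n61457 := (sb E89628 (iv2 D131005))
theorem F325985 : act 7 n126848 = n61458 := (sb E89628 (iv7 F209703))
theorem E90794 : n142988 = n55237 := ((D142988).symm.trans (sb E89629 F319492))
theorem E90795 : n142989 = n105796 := ((D142989).symm.trans (sb E89629 (iv0 F162493)))
theorem E90796 : n142351 = n121374 := (((iv2 F225270)).symm.trans (sb E89629 (iv2 F193616)))
theorem E90797 : n159960 = n142986 := ((((iv4 F225832)).symm.trans (sb E89629 D159960))).symm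
theorem F325986 : act 5 n67015 = n34996 := (sb E89629 (iv5 D76584))
theorem E90799 : n159962 = n141766 := ((((iv7 F319172)).symm.trans (sb E89629 D159962))).symm
theorem E90800 : n137339 = n67206 := (((iv3 F220526)).symm.trans (sb E89630 (iv3 D143480)))
theorem F325987 : act 3 n25721 = n52943 := (sb E89635 (iv3 D114709))
theorem F325988 : act 3 n114711 = n52992 := (sb E89636 F178908)
theorem F325989 : act 7 n114711 = n121340 := (sb E89636 (iv7 F193548))
theorem F325990 : act 3 n114712 = n52993 := (sb E89637 F178909)
theorem F325991 : act 5 n114712 = n157732 := (sb E89637 (iv5 F248597))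
theorem F325992 : act 3 n72211 = n48064 := (sb E89638 (iv3 D103818))
theorem E90801 : n113835 = n63792 := (((iv1 F177130)).symm.trans (sb E89639 F99153))
theorem F325993 : act 1 n52569 = n53562 := (sb E89639 (iv0 F101962))
theorem E90802 : n113821 = n64609 := (((iv2 F177097)).symm.trans (sb E89639 F100535))
theorem E90803 : n135265 = n113846 := (((D113846).symm.trans (sb E89639 (iv3 F217473)))).symm
theorem E90804 : n135268 = n25519 := ((((iv4 D52569)).symm.trans (sb E89639 (iv4 F217477)))).symm
theorem E90805 : n113847 = n64110 := ((D113847).symm.trans (sb E89639 F99734))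
theorem E90806 : n113848 = n30019 := ((D113848).symm.trans (sb E89639 (iv6 D63579)))
theorem E90807 : n113818 = n63749 := (((iv7 F177092)).symm.trans (sb E89639 (iv7 F99116)))
theorem F325994 : act 0 n52566 = n53562 := (sb E89640 (iv1 F101963))
theorem E90808 : n130538 = n113836 := (((D113836).symm.trans (sb E89640 (iv3 F209122)))).symm
theorem E90809 : n135239 = n25518 := ((((iv4 D52566)).symm.trans (sb E89640 (iv4 F217423)))).symm
theorem E90810 : n113837 = n64109 := ((D113837).symm.trans (sb E89640 (iv5 F99729)))
theorem E90811 : n113838 = n30007 := ((D113838).symm.trans (sb E89640 (iv6 D63555)))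
theorem E90812 : n64610 = n54111 := ((D64610).symm.trans (sb E89641 (iv4 D117418)))
theorem E90813 : n135259 = n67854 := ((((iv1 F176874)).symm.trans (sb E89642 (iv1 F218166)))).symm
theorem E90814 : n135229 = n67855 := (((F176875).symm.trans (sb E89642 F218168))).symm
theorem F325995 : act 4 n113678 = n53562 := (sb E89642 (iv4 D116216))
theorem F325996 : act 6 n113678 = n66460 := (sb E89642 F181124)
theorem E90815 : n64620 = n54112 := (((F176873).symm.trans (sb E89642 F181125))).symm
theorem E90816 : n142646 = n31227 := ((D142646).symm.trans (sb E89644 (iv1 D67083)))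
theorem E90817 : n142647 = n117373 := ((D142647).symm.trans (sb E89644 (iv0 F316971)))
theorem E90818 : n143155 = n142648 := (((D142648).symm.trans (sb E89644 (iv2 F226011)))).symm
theorem E90821 : n143158 = n142650 := (((D142650).symm.trans (sb E89644 D143158))).symm
theorem E90823 : n150583 = n101662 := ((D150583).symm.trans (sb E89645 F275140))
theorem F325997 : act 6 n70978 = n83882 := (sb E89645 (iv6 D175712))
theorem F325998 : act 2 n60754 = n59587 := (sb E89646 F203814)
theorem E90824 : n129246 = n63969 := ((D129246).symm.trans (sb E89646 F203815))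
theorem F325999 : act 6 n60754 = n59426 := (sb E89646 (iv6 D126655))
theorem E90825 : n129284 = n64741 := ((D129284).symm.trans (sb E89647 F204199))
theorem F326000 : act 6 n60766 = n59576 := (sb E89647 (iv6 D126944))
theorem E90828 : n136795 = n63043 := ((((iv2 F98356)).symm.trans (sb E89648 (iv2 F220011)))).symm
theorem F326001 : act 3 n53524 = n30294 := (sb E89648 F100146)
theorem E90829 : n116128 = n30293 := ((D116128).symm.trans (sb E89648 (iv5 D64313)))
theorem E90831 : n136805 = n129286 := (((D129286).symm.trans (sb E89649 D136805))).symm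
theorem E90833 : n136807 = n129288 := (((D129288).symm.trans (sb E89649 D136807))).symm
theorem F326002 : act 6 n60767 = n30294 := (sb E89649 (iv6 D64315))
theorem F326003 : act 2 n135311 = n116845 := (sb E89650 F219849)
theorem F326004 : act 5 n135311 = n64251 := (sb E89650 (iv5 D136705))
theorem F326005 : act 2 n129167 = n62255 := (sb E89651 F212979)
theorem F326006 : act 4 n129167 = n62274 := (sb E89651 F212980)
theorem F326007 : act 6 n129167 = n62253 := (sb E89651 (iv6 D132661))
theorem F326008 : act 4 n132664 = n121196 := (sb E89652 F261383)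
theorem F326009 : act 4 n132665 = n121216 := (sb E89653 (iv4 F262476))
theorem F326010 : act 3 n126482 = n62259 := (sb E89655 F212984)
theorem F326011 : act 5 n126482 = n62255 := (sb E89655 (iv5 D132666))
theorem F326012 : act 5 n132711 = n120984 := (sb E89656 F261381)
theorem F326013 : act 5 n55798 = n62278 := (sb E89658 (iv5 D132713))
theorem F326014 : act 5 n132716 = n120989 := (sb E89660 F261382)
theorem F326015 : act 5 n55799 = n62279 := (sb E89662 (iv5 D132718))
theorem E90837 : n162375 = n116989 := ((((iv2 F182894)).symm.trans (sb E89674 (iv2 F256503)))).symm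
theorem E90838 : n125790 = n81499 := (((iv4 F202306)).symm.trans (sb E89674 (iv4 F125350)))
theorem E90839 : n67402 = n53607 := ((((iv1 D116301)).symm.trans (sb E89675 (iv1 F182439)))).symm
theorem F326016 : act 2 n116301 = n53841 := (sb E89675 (iv2 D116838))
theorem F326017 : act 3 n116301 = n67440 := (sb E89675 F182435)
theorem F326018 : act 7 n116301 = n66340 := (sb E89675 F321898)
theorem F326019 : act 0 n31330 = n65108 := (sb E89676 (iv1 F320217))
theorem F326020 : act 0 n138654 = n143567 := (sb E89678 F226523)
theorem F326021 : act 3 n35571 = n51467 := (sb E89685 (iv3 D111592))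
theorem F326022 : act 3 n111593 = n77965 := (sb E89686 F256431)
theorem E90841 : n78654 = n25416 := ((((iv2 F40199)).symm.trans (sb E89691 F257923))).symm
theorem E90842 : n162406 = n51451 := ((((iv4 F81232)).symm.trans (sb E89691 (iv4 F256604)))).symm
theorem E90843 : n76910 = n51459 := ((((iv3 F81235)).symm.trans (sb E89692 (iv3 D160449)))).symm
theorem E90844 : n110326 = n51725 := ((D110326).symm.trans (sb E89695 (iv1 D112153)))
theorem F326023 : act 1 n112258 = n84231 := (sb E89696 (iv0 D176663))
theorem F326024 : act 0 n112130 = n84231 := (sb E89697 (iv1 D176664))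
theorem F326025 : act 2 n156130 = n84231 := (sb E89698 (iv2 D176665))
theorem F326026 : act 3 n156669 = n83440 := (sb E89699 (iv3 D174607))
theorem F326027 : act 6 n156669 = n84231 := (sb E89699 F273462)
theorem E90846 : n180208 = n67642 := ((((iv0 F166154)).symm.trans (sb E89700 D180208))).symm
theorem E90847 : n180204 = n110351 := ((((iv2 F170615)).symm.trans (sb E89700 (iv2 F280542)))).symm
theorem F326028 : act 4 n107764 = n121679 := (sb E89702 (iv4 F304737))
theorem E90849 : n166691 = n109869 := ((((iv4 F169862)).symm.trans (sb E89709 (iv4 F262357)))).symm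
theorem F326029 : act 3 n50687 = n36441 := (sb E89710 (iv3 D80004))
theorem E90852 : n166692 = n109912 := ((((iv5 F169917)).symm.trans (sb E89710 D166692))).symm
theorem F326030 : act 3 n57436 = n51445 := (sb E89711 (iv3 D111541))
theorem F326031 : act 4 n57436 = n51758 := (sb E89711 F173068)
theorem E90853 : n112212 = n25180 := (E89716).trans E89827
theorem E90854 : n51889 = n45851 := ((D51889).symm.trans (sb E90853 (tr (iv1 F174492) E90070)))
theorem E90855 : n51890 = n51758 := ((D51890).symm.trans (sb E90853 (iv0 D112212)))
theorem F326032 : act 0 n76803 = n51758 := (sb E89717 (iv1 D112213))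
theorem F326033 : act 0 n98157 = n109840 := (sb E89718 (iv1 F174497))
theorem F326034 : act 2 n98157 = n51758 := (sb E89718 (iv2 D112214))
theorem E90858 : n173261 = n109699 := ((((iv2 F169686)).symm.trans (sb E89720 D173261))).symm
theorem E90859 : n173262 = n109747 := ((((iv5 F169731)).symm.trans (sb E89720 D173262))).symm
theorem F326035 : act 0 n83472 = n50448 := (sb E89721 (iv1 F169328))
theorem F326036 : act 1 n83472 = n50549 := (sb E89721 F169329)
theorem F326037 : act 4 n83472 = n50441 := (sb E89721 (iv4 D109305))
theorem E90860 : n111794 = n75307 := (((F128575).symm.trans (sb E89721 (iv6 F173522)))).symm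
theorem F326038 : act 7 n83472 = n50529 := (sb E89721 F169327)
theorem F326039 : act 1 n51652 = n38482 := (sb E89723 (iv0 D83470))
theorem E90861 : n174686 = n50448 := (((F81552).symm.trans (sb E89723 D174686))).symm
theorem E90866 : n174691 = n50549 := ((((iv7 F169330)).symm.trans (sb E89723 D174691))).symm
theorem F326040 : act 1 n83471 = n50529 := (sb E89724 F169344)
theorem E90867 : n174693 = n52053 := ((D174693).symm.trans (sb E89724 F169342))
theorem E90868 : n174695 = n112000 := ((D174695).symm.trans (sb E89724 (iv6 F174081)))
theorem F326041 : act 7 n83473 = n50551 := (sb E89726 (iv7 D109577))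
theorem E90869 : n111792 = n75305 := (((D75305).symm.trans (sb E89727 (iv1 F173516)))).symm
theorem E90870 : n110446 = n75306 := (((D75306).symm.trans (sb E89727 (iv0 F170816)))).symm
theorem F326042 : act 4 n34480 = n25055 := (sb E89727 F81408)
theorem E90872 : n112528 = n50628 := ((D112528).symm.trans (sb E89736 F324517))
theorem E90873 : n112530 = n38844 := ((D112530).symm.trans (sb E89736 F120010))
theorem E90874 : n164127 = n112524 := ((((iv4 F174980)).symm.trans (sb E89736 D164127))).symm
theorem F326043 : act 6 n51915 = n37803 := (sb E89736 F120011)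
theorem F326044 : act 3 n77863 = n50311 := (sb E89737 (iv3 D108965))
theorem E90875 : n112202 = n58037 := (((F118749).symm.trans (sb E89737 (iv7 F174473)))).symm
theorem F326045 : act 4 n108229 = n58697 := (sb E89743 (iv4 D125344))
theorem F326046 : act 4 n59115 = n79777 := (sb E89745 F303176)
theorem E90876 : n112207 = n50808 := (((D50808).symm.trans (sb E89746 (iv1 F174482)))).symm
theorem F326047 : act 3 n49880 = n61704 := (sb E89752 (iv3 D131477))
theorem F326048 : act 3 n108804 = n64852 := (sb E89755 F219228)
theorem F326049 : act 6 n108804 = n64036 := (sb E89755 (iv6 D136192))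
theorem F326050 : act 3 n134298 = n63915 := (sb E89756 F218640)
theorem F326051 : act 6 n134298 = n63911 := (sb E89756 (iv6 D135926))
theorem F326052 : act 3 n63591 = n64048 := (sb E89757 F219232)
theorem F326053 : act 2 n127038 = n135204 := (sb E89758 (iv2 F217377))
theorem F326054 : act 4 n127038 = n129092 := (sb E89758 F216410)
theorem F326055 : act 6 n127038 = n63148 := (sb E89758 (iv6 D134449))
theorem F326056 : act 3 n132735 = n64901 := (sb E89759 F221332)
theorem F326057 : act 7 n132735 = n64897 := (sb E89759 (iv7 D138131))
theorem F326059 : act 0 n132733 = n64897 := (sb E89761 (iv1 D138129))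
theorem E90879 : n125987 = n58098 := ((D125987).symm.trans (sb E89762 (iv3 D124482)))
theorem E90887 : n162138 = n125957 := (((D125957).symm.trans (sb E89764 D162138))).symm
theorem E90893 : n109819 = n38986 := (((iv3 F169795)).symm.trans (sb E89766 (iv3 D84516)))
theorem E90894 : n177393 = n125747 := (((D125747).symm.trans (sb E89766 D177393))).symm
theorem E90895 : n177394 = n125748 := (((D125748).symm.trans (sb E89766 D177394))).symm
theorem F326060 : act 3 n18503 = n24661 := (sb E89768 (iv3 D50641))
theorem E90899 : n132937 = n61130 := ((D132937).symm.trans (sb E89771 (iv6 D130230)))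
theorem F326061 : act 6 n63600 = n63217 := (sb E89772 (iv6 D134526))
theorem F326062 : act 0 n61009 = n129692 := (sb E89773 (iv1 F213025))
theorem F326063 : act 1 n61009 = n129691 := (sb E89773 F213026)
theorem F326064 : act 7 n61009 = n62272 := (sb E89773 (iv7 D132695))
theorem F326066 : act 0 n132582 = n62272 := (sb E89775 (iv1 D132693))
theorem F326067 : act 6 n62350 = n61095 := (sb E89776 (iv6 D130134))
theorem F326068 : act 3 n126611 = n61059 := (sb E89777 (iv3 D130013))
theorem F326069 : act 7 n126611 = n132863 := (sb E89777 (iv7 F213427))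
theorem E90900 : n126533 = n115145 := (((iv1 F203663)).symm.trans (sb E89778 F212807))
theorem E90901 : n126532 = n115140 := ((F203664).symm.trans (sb E89778 (iv0 F213428)))
theorem F326070 : act 3 n126614 = n62204 := (sb E89778 (iv3 D132579))
theorem F326071 : act 4 n126614 = n132863 := (sb E89778 (iv4 F213426))
theorem F326072 : act 0 n112602 = n61011 := (sb E89783 (iv1 D129885))
theorem F326073 : act 1 n112603 = n61011 := (sb E89784 (iv0 D129884))
theorem F326074 : act 0 n112545 = n61017 := (sb E89785 (iv1 F208236))
theorem F326075 : act 1 n112545 = n61016 := (sb E89785 F208237)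
theorem F326076 : act 3 n112545 = n132701 := (sb E89785 (iv3 F213038))
theorem F326077 : act 6 n112545 = n132597 := (sb E89785 (iv6 F212839))
theorem F326078 : act 7 n112545 = n61011 := (sb E89785 (iv7 D129887))
theorem F326079 : act 3 n112604 = n60992 := (sb E89786 F208191)
theorem F326080 : act 6 n112604 = n132552 := (sb E89786 (iv6 F212778))
theorem F326081 : act 7 n112604 = n60985 := (sb E89786 (iv7 D129840))
theorem F326082 : act 5 n62221 = n51952 := (sb E89787 (iv5 D112595))
theorem F326083 : act 6 n62221 = n51955 := (sb E89787 F175187)
theorem F326084 : act 7 n28923 = n51955 := (sb E89788 (iv7 D112605))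
theorem F326085 : act 5 n60915 = n35585 := (sb E89789 (iv5 D78005))
theorem E90905 : n162424 = n108420 := (((F171898).symm.trans (sb E89790 (iv3 F256638)))).symm
theorem F326086 : act 5 n60977 = n35586 := (sb E89790 (iv5 D78010))
theorem E90908 : n163715 = n129668 := (((F207844).symm.trans (sb E89792 (iv1 F258072)))).symm
theorem F326087 : act 3 n78695 = n51925 := (sb E89793 F175036)
theorem F326088 : act 6 n78695 = n51924 := (sb E89793 (iv6 D112543))
theorem E90910 : n155538 = n110393 := (((F170760).symm.trans (sb E89794 (iv1 F283105)))).symm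
theorem E90911 : n155537 = n109578 := (((F169526).symm.trans (sb E89796 (iv1 F324407)))).symm
theorem E90912 : n98260 = n52040 := ((((iv0 F82247)).symm.trans (sb E89796 (iv0 F278509)))).symm
theorem E90913 : n110591 = n85135 := (((iv3 F171159)).symm.trans (sb E89796 F278508))
theorem E90914 : n110593 = n85130 := ((D110593).symm.trans (sb E89796 (iv5 D178689)))
theorem F326089 : act 3 n51024 = n39862 := (sb E89797 (iv3 D86120))
theorem E90917 : n118480 = n110657 := (((D110657).symm.trans (sb E89797 (iv4 F321401)))).symm
theorem E90918 : n110651 = n83160 := (((iv6 F171257)).symm.trans (sb E89797 (iv6 F321402)))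
theorem E90919 : n110658 = n61015 := ((D110658).symm.trans (sb E89797 F319401))
theorem F326090 : act 3 n51025 = n33961 := (sb E89798 (iv3 D73999))
theorem F326091 : act 6 n51025 = n36083 := (sb E89798 F301054)
theorem E90920 : n50490 = n20336 := ((D50490).symm.trans (sb E89799 F296004))
theorem E90921 : n50491 = n38853 := ((D50491).symm.trans (sb E89799 F59865))
theorem F326092 : act 2 n24602 = n34664 := (sb E89799 F55968)
theorem F326093 : act 5 n24602 = n17098 := (sb E89799 (iv5 D35234))
theorem F326094 : act 7 n24602 = n35172 := (sb E89799 F55969)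
theorem F326095 : act 5 n109155 = n76895 := (sb E89804 (iv5 D160412))
theorem F326096 : act 6 n58179 = n50476 := (sb E89805 (iv6 D109403))
theorem F326097 : act 3 n84486 = n52081 := (sb E89812 F169631)
theorem F326098 : act 3 n111979 = n78461 := (sb E89823 F257545)
theorem F326099 : act 6 n111979 = n78459 := (sb E89823 (iv6 D163250))
theorem F326100 : act 2 n84792 = n50471 := (sb E89824 F169375)
theorem F326101 : act 3 n84792 = n110171 := (sb E89824 (iv3 F170334))
theorem F326102 : act 6 n84792 = n50470 := (sb E89824 (iv6 D109381))
theorem F326103 : act 0 n109378 = n84779 := (sb E89825 F302663)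
theorem F326104 : act 6 n109378 = n84833 := (sb E89825 F258417)
theorem F326105 : act 3 n109380 = n56183 := (sb E89826 F191536)
theorem F326106 : act 4 n109380 = n84833 := (sb E89826 F191537)
theorem F326107 : act 5 n109380 = n55354 := (sb E89826 F191538)
theorem F326108 : act 7 n109380 = n55353 := (sb E89826 (iv7 D120285))
theorem F326109 : act 3 n25180 = n36425 := (sb E89827 (iv3 D79971))
theorem E90922 : n55343 = n51892 := (((D51892).symm.trans (sb E89827 F297175))).symm
theorem F326110 : act 1 n98173 = n51887 := (sb E89828 F170052)
theorem F326111 : act 2 n98173 = n50581 := (sb E89828 (iv2 D109667))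
theorem F326112 : act 7 n98173 = n110171 := (sb E89828 F170335)
theorem F326113 : act 0 n112470 = n57550 := (sb E89829 (iv1 F197889))
theorem F326114 : act 1 n112470 = n57545 := (sb E89829 (iv0 D123478))
theorem F326115 : act 2 n112470 = n84833 := (sb E89829 (iv2 F197888))
theorem F326116 : act 7 n112470 = n78766 := (sb E89829 F197890)
theorem F326117 : act 5 n35398 = n51887 := (sb E89830 (iv5 D112471))
theorem F326118 : act 6 n35398 = n51891 := (sb E89830 F174952)
theorem F326119 : act 0 n57920 = n110171 := (sb E89831 (iv1 F170336))
theorem F326120 : act 1 n57920 = n50581 := (sb E89831 (iv0 D109665))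
theorem F326121 : act 7 n57920 = n51887 := (sb E89831 F170936)
theorem F326122 : act 3 n35700 = n51891 := (sb E89834 F174938)
theorem E90923 : n110124 = n76888 := ((D110124).symm.trans (sb E89836 (iv6 D160391)))
theorem E90924 : n110129 = n36537 := ((D110129).symm.trans (sb E89837 (iv1 D80208)))
theorem E90925 : n110130 = n77862 := ((D110130).symm.trans (sb E89837 (iv0 F298900)))
theorem F326123 : act 3 n50789 = n41393 := (sb E89837 F297252)
theorem F326124 : act 5 n50789 = n41379 := (sb E89837 F297253)
theorem E90926 : n110132 = n41378 := ((D110132).symm.trans (sb E89837 F297254))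
theorem F326125 : act 0 n47668 = n50471 := (sb E89838 (iv1 D109383))
theorem F326126 : act 6 n47684 = n64523 := (sb E89842 (iv6 D137288))
theorem F326127 : act 0 n109327 = n78216 := (sb E89844 F193024)
theorem F326128 : act 1 n109327 = n78215 := (sb E89844 F193025)
theorem F326129 : act 2 n109327 = n55851 := (sb E89844 F193022)
theorem F326130 : act 4 n109327 = n55843 := (sb E89844 (iv4 D121041))
theorem F326131 : act 5 n109327 = n173856 := (sb E89844 (iv5 F272496))
theorem F326132 : act 7 n109327 = n78189 := (sb E89844 F193023)
theorem F326133 : act 3 n83479 = n50551 := (sb E89847 F169512)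
theorem F326134 : act 6 n109256 = n78468 := (sb E89848 (iv6 D163268))
theorem F326135 : act 6 n35756 = n50451 := (sb E89850 (iv6 D109333))
theorem F326136 : act 1 n35728 = n59291 := (sb E89855 (iv0 D126388))
theorem F326137 : act 0 n86502 = n59291 := (sb E89856 (iv1 D126389))
theorem F326138 : act 4 n126383 = n123339 := (sb E89857 F257372)
theorem F326139 : act 7 n126383 = n123195 := (sb E89857 F257373)
theorem F326140 : act 0 n126390 = n78314 := (sb E89858 (iv1 D162912))
theorem F326141 : act 1 n126390 = n181131 := (sb E89858 (iv0 F282124))
theorem F326142 : act 2 n126390 = n160509 := (sb E89858 F299704)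
theorem F326143 : act 4 n126390 = n149944 := (sb E89858 (iv4 F311617))
theorem F326144 : act 7 n126390 = n123196 := (sb E89858 F257230)
theorem F326145 : act 7 n57341 = n59291 := (sb E89859 (iv7 D126391))
theorem E90927 : n110165 = n58034 := ((D110165).symm.trans (sb E89864 (iv1 F199031)))
theorem E90928 : n110166 = n58030 := ((D110166).symm.trans (sb E89864 (iv0 D124436)))
theorem E90929 : n110168 = n76887 := ((D110168).symm.trans (sb E89864 F301535))
theorem E90930 : n110182 = n36537 := ((D110182).symm.trans (sb E89865 F123179))
theorem E90931 : n110183 = n45851 := ((D110183).symm.trans (sb E89865 F123180))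
theorem E90932 : n110184 = n109127 := ((D110184).symm.trans (sb E89865 (iv4 F324500)))
theorem E90933 : n110185 = n36532 := ((D110185).symm.trans (sb E89865 (iv5 D80196)))
theorem E90935 : n110187 = n77862 := ((D110187).symm.trans (sb E89865 (iv7 F298904)))
theorem F326146 : act 0 n35532 = n24721 := (sb E89866 (iv1 D50809))
theorem F326147 : act 5 n35494 = n24721 := (sb E89867 (iv5 D50810))
theorem E90941 : n110195 = n40032 := ((((iv7 F118768)).symm.trans (sb E89867 D110195))).symm
theorem F326148 : act 3 n50811 = n36418 := (sb E89868 F122711)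
theorem F326149 : act 2 n35859 = n25185 := (sb E89869 (iv2 F170430))
theorem F326150 : act 6 n35859 = n24730 := (sb E89869 (iv6 D50844))
theorem E90945 : n110262 = n26746 := (((F56517).symm.trans (sb E89869 D110262))).symm
theorem F326151 : act 1 n83139 = n51704 := (sb E89870 (iv0 D112115))
theorem F326152 : act 0 n35721 = n51704 := (sb E89871 (iv1 D112116))
theorem F326153 : act 0 n112117 = n173856 := (sb E89872 F301310)
theorem F326154 : act 1 n112117 = n78218 := (sb E89872 (iv0 F301328))
theorem F326155 : act 2 n112117 = n173859 := (sb E89872 (iv2 F301329))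
theorem F326156 : act 4 n112117 = n173813 := (sb E89872 F301311)
theorem F326157 : act 7 n112117 = n166695 := (sb E89872 F301312)
theorem F326158 : act 3 n80006 = n51710 := (sb E89873 F174326)
theorem F326159 : act 7 n80006 = n51704 := (sb E89873 (iv7 D112118))
theorem F326160 : act 6 n50675 = n51770 := (sb E89874 (iv6 D112240))
theorem E90946 : n109840 = n50849 := ((F325376).symm.trans (sb E89877 (iv0 D110268)))
theorem F326161 : act 2 n35517 = n51891 := (sb E89879 F170493)
theorem F326162 : act 5 n35517 = n50849 := (sb E89879 (iv5 D110270))
theorem F326163 : act 7 n76803 = n50849 := (sb E89880 (iv7 D110271))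
theorem F326164 : act 6 n79998 = n74182 := (sb E89881 (iv6 D155971))
theorem E90947 : n50824 = n17609 := ((D50824).symm.trans (sb E89882 (iv1 D36475)))
theorem E90948 : n50825 = n34437 := ((D50825).symm.trans (sb E89882 F57283))
theorem F326165 : act 2 n24726 = n35310 := (sb E89882 (iv2 F57286))
theorem F326166 : act 3 n24726 = n19500 := (sb E89882 (iv3 F57287))
theorem E90949 : n50826 = n19492 := ((D50826).symm.trans (sb E89882 F57285))
theorem E90950 : n50827 = n19491 := ((D50827).symm.trans (sb E89882 F57284))
theorem F326167 : act 6 n76899 = n51506 := (sb E89891 (iv6 D111700))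
theorem F326168 : act 1 n57437 = n51504 := (sb E89896 (iv0 D111691))
theorem F326169 : act 0 n57436 = n51504 := (sb E89897 (iv1 D111692))
theorem F326170 : act 0 n111683 = n83225 := (sb E89898 F318819)
theorem F326171 : act 1 n111683 = n83234 := (sb E89898 F318820)
theorem F326172 : act 2 n111683 = n174180 := (sb E89898 F318821)
theorem F326173 : act 4 n111683 = n76191 := (sb E89898 F250735)
theorem F326174 : act 7 n111683 = n123014 := (sb E89898 (iv7 F302624))
theorem F326175 : act 1 n111693 = n123340 := (sb E89899 (iv0 F302653))
theorem F326176 : act 7 n111693 = n123015 := (sb E89899 (iv7 F302625))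
theorem F326177 : act 7 n57234 = n51504 := (sb E89900 (iv7 D111694))
theorem E90951 : n110220 = n27232 := ((D110220).symm.trans (sb E89901 (iv1 D56643)))
theorem E90952 : n110221 = n34435 := ((D110221).symm.trans (sb E89901 F89578))
theorem F326178 : act 2 n50821 = n37508 := (sb E89901 (iv2 F89581))
theorem E90953 : n122322 = n110217 := ((((iv3 F170386)).symm.trans (sb E89901 D122322))).symm
theorem E90954 : n122323 = n110222 := (((D110222).symm.trans (sb E89901 D122323))).symm
theorem E90955 : n110223 = n37507 := ((D110223).symm.trans (sb E89901 F89579))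
theorem F326179 : act 5 n112246 = n84285 := (sb E89916 (iv5 D176798))
theorem F326180 : act 3 n38869 = n51779 := (sb E89919 F174592)
theorem F326181 : act 3 n34459 = n51780 := (sb E89920 F174593)
theorem E90980 : n112529 = n50706 := ((D112529).symm.trans (sb E89936 (iv0 D109940)))
theorem F326182 : act 0 n78844 = n50706 := (sb E89937 (iv1 D109941))
theorem F326183 : act 5 n51795 = n50706 := (sb E89938 (iv5 D109942))
theorem F326184 : act 6 n111953 = n84309 := (sb E89941 (iv6 D176856))
theorem F326185 : act 3 n136297 = n84315 := (sb E89942 F276234)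
theorem F326186 : act 6 n38877 = n64077 := (sb E89943 (iv6 D136298))
theorem F326187 : act 1 n16787 = n25121 := (sb E89944 (iv0 D51732))
theorem F326188 : act 0 n38269 = n25121 := (sb E89945 (iv1 D51733))
theorem F326189 : act 2 n78844 = n50873 := (sb E89947 (iv2 D110328))
theorem F326190 : act 2 n110321 = n164123 := (sb E89948 (iv2 F300880))
theorem F326191 : act 6 n110321 = n78140 := (sb E89948 (iv6 D162661))
theorem F326192 : act 3 n75789 = n50874 := (sb E89949 F170561)
theorem F326193 : act 5 n75789 = n50873 := (sb E89949 (iv5 D110329))
theorem F326194 : act 1 n34464 = n24686 := (sb E89950 (iv0 D50708))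
theorem F326195 : act 0 n34434 = n24686 := (sb E89951 (iv1 D50709))
theorem F326196 : act 1 n17924 = n28151 := (sb E89952 (iv0 D59298))
theorem E91007 : n112189 = n28151 := ((F325387).symm.trans (sb E89953 (iv1 D59299)))
theorem F326197 : act 5 n27452 = n28151 := (sb E89954 (iv5 D59300))
theorem F326198 : act 7 n27451 = n28151 := (sb E89955 (iv7 D59301))
theorem F326199 : act 2 n59108 = n59107 := (sb E89956 F202838)
theorem F326200 : act 7 n59108 = n59106 := (sb E89956 (iv7 D126136))
theorem F326201 : act 4 n110286 = n57911 := (sb E89957 F198704)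
theorem F326202 : act 6 n110286 = n57910 := (sb E89957 (iv6 D124211))
theorem F326203 : act 0 n113525 = n172452 := (sb E89958 F275030)
theorem E91014 : n172457 = n52399 := ((((iv0 D113525)).symm.trans (sb E89958 (iv0 F270668)))).symm
theorem F326204 : act 2 n113525 = n83776 := (sb E89958 F249611)
theorem F326205 : act 3 n113525 = n86066 := (sb E89958 F323859)
theorem F326206 : act 4 n113525 = n75561 := (sb E89958 (iv4 D158425))
theorem F326207 : act 6 n113525 = n75575 := (sb E89958 F249612)
theorem F326208 : act 3 n50953 = n86540 := (sb E89959 (iv3 D181221))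
theorem F326209 : act 6 n82908 = n50567 := (sb E89960 (iv6 D109623))
theorem E91015 : n52338 = n35827 := (((D35827).symm.trans (sb E89966 (iv4 D113379)))).symm
theorem E91016 : n59220 = n35829 := (((D35829).symm.trans (sb E89966 F176580))).symm
theorem E91017 : n125783 = n75182 := (((F254372).symm.trans (sb E89967 F203179))).symm
theorem F326210 : act 4 n51452 = n35830 := (sb E89968 F119827)
theorem E91021 : n163722 = n111557 := (((D111557).symm.trans (sb E89968 D163722))).symm
theorem F326211 : act 4 n51453 = n35825 := (sb E89971 (iv4 D78644))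
theorem E91023 : n163685 = n50615 := ((((iv6 F163876)).symm.trans (sb E89971 D163685))).symm
theorem E91024 : n163686 = n59223 := ((D163686).symm.trans (sb E89972 F169736))
theorem E91025 : n163687 = n52239 := ((D163687).symm.trans (sb E89972 (iv0 F169737)))
theorem E91026 : n163688 = n54938 := ((D163688).symm.trans (sb E89972 F320699))
theorem E91027 : n163689 = n59221 := ((D163689).symm.trans (sb E89972 F169735))
theorem F326212 : act 1 n107709 = n76686 := (sb E89973 (iv0 D160118))
theorem F326213 : act 5 n67633 = n76686 := (sb E89974 (iv5 D160120))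
theorem E91028 : n61876 = n54115 := (((D54115).symm.trans (sb E89975 (iv4 F96452)))).symm
theorem F326214 : act 6 n26187 = n29077 := (sb E89975 (iv6 D61425))
theorem E91030 : n62130 = n54128 := (((D54128).symm.trans (sb E89976 F179319))).symm
theorem F326215 : act 4 n78907 = n53141 := (sb E89977 F179325)
theorem E91031 : n164260 = n115105 := ((D164260).symm.trans (sb E89977 F179326))
theorem F326216 : act 3 n61323 = n113673 := (sb E89979 F183929)
theorem E91032 : n164232 = n130709 := ((((iv5 F209269)).symm.trans (sb E89979 (iv5 F258858)))).symm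
theorem F326217 : act 6 n61323 = n54114 := (sb E89979 (iv6 D117424))
theorem E91034 : n164259 = n30215 := ((((iv5 F48607)).symm.trans (sb E89980 D164259))).symm
theorem E91037 : n62499 = n25508 := (((iv4 F97439)).symm.trans (sb E89981 (iv4 D52549)))
theorem E91038 : n113799 = n14321 := (((F47381).symm.trans (sb E89981 D113799))).symm
theorem E91040 : n60553 = n52445 := ((F95168).symm.trans (sb E89982 F83030))
theorem E91041 : n67846 = n64621 := (((D64621).symm.trans (sb E89982 (iv0 F103890)))).symm
theorem E91042 : n69690 = n64622 := (((D64622).symm.trans (sb E89982 F106054))).symm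
theorem E91043 : n64623 = n25505 := ((D64623).symm.trans (sb E89982 (iv5 D52543)))
theorem E91045 : n62655 = n25513 := (((iv7 F97747)).symm.trans (sb E89982 F83029))
theorem E91047 : n113812 = n14444 := (((F83875).symm.trans (sb E89983 D113812))).symm
theorem F326218 : act 4 n52551 = n53140 := (sb E89984 (iv4 D115171))
theorem E91049 : n130915 = n113806 := (((D113806).symm.trans (sb E89984 (iv6 F209521)))).symm
theorem F326219 : act 3 n126177 = n81501 := (sb E89986 F267327)
theorem F326220 : act 6 n119981 = n77748 := (sb E89989 (iv6 D161891))
theorem E91050 : n154091 = n115954 := ((D154091).symm.trans (sb E89991 (iv1 F320756)))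
theorem E91051 : n82020 = n71142 := ((F302023).symm.trans (sb E89991 (iv0 F201445)))
theorem E91052 : n154084 = n115960 := (((iv2 F242166)).symm.trans (sb E89991 (iv2 F320762)))
theorem E91053 : n154093 = n39449 := ((D154093).symm.trans (sb E89991 F130655))
theorem E91055 : n154087 = n39448 := (((iv6 F242168)).symm.trans (sb E89991 (iv6 D85412)))
theorem E91056 : n154094 = n115959 := ((D154094).symm.trans (sb E89991 (iv7 F320760)))
theorem E91059 : n179026 = n124686 := ((((iv2 F199455)).symm.trans (sb E89992 D179026))).symm
theorem F326221 : act 4 n72968 = n39454 := (sb E89992 F130654)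
theorem E91061 : n154108 = n124940 := ((D154108).symm.trans (sb E89992 (iv7 F200672)))
theorem F326222 : act 3 n108648 = n180482 := (sb E89993 (iv3 F280907))
theorem E91062 : n162420 = n134822 := ((((iv4 F216958)).symm.trans (sb E89994 (iv4 F262618)))).symm
theorem F326223 : act 3 n36476 = n50335 := (sb E89996 (iv3 D109021))
theorem F326224 : act 3 n109022 = n75234 := (sb E89997 (iv3 D157933))
theorem F326225 : act 4 n109022 = n88932 := (sb E89997 (iv4 F294271))
theorem E91065 : n169932 = n62982 := (((F161085).symm.trans (sb E89998 F267352))).symm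
theorem E91066 : n90093 = n63012 := ((((iv4 F98324)).symm.trans (sb E90000 F262714))).symm
theorem E91067 : n157864 = n50327 := ((((iv3 F79709)).symm.trans (sb E90003 (iv3 F262734)))).symm
theorem E91068 : n90231 = n50331 := (((D50331).symm.trans (sb E90003 F262733))).symm
theorem E91069 : n182441 = n50343 := (((D50343).symm.trans (sb E90004 (iv4 F283985)))).symm
theorem F326226 : act 3 n57553 = n50276 := (sb E90009 (iv3 D108888))
theorem F326227 : act 4 n57553 = n50581 := (sb E90009 F168879)
theorem F326228 : act 7 n57553 = n111374 := (sb E90009 F172862)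
theorem F326229 : act 3 n66015 = n77789 := (sb E90010 (iv3 D161961))
theorem E91070 : n158809 = n111808 := (((D111808).symm.trans (sb E90015 F256007))).symm
theorem F326230 : act 3 n51588 = n77836 := (sb E90033 (iv3 D162035))
theorem E91071 : n164125 = n110325 := (((D110325).symm.trans (sb E90034 F303076))).symm
theorem F326231 : act 5 n75360 = n51612 := (sb E90040 (iv5 D111913))
theorem F326232 : act 3 n35755 = n50460 := (sb E90041 F169355)
theorem F326233 : act 3 n18863 = n24794 := (sb E90048 (iv3 D50986))
theorem E91075 : n110574 = n39864 := (((D39864).symm.trans (sb E90048 (iv4 F171129)))).symm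
theorem F326234 : act 3 n34423 = n24791 := (sb E90049 (iv3 D50980))
theorem E91079 : n110569 = n75167 := ((((iv4 F112714)).symm.trans (sb E90049 (iv4 F171118)))).symm
theorem F326235 : act 3 n109263 = n95488 := (sb E90056 (tr (iv3 F276067) E90602))
theorem F326236 : act 3 n109363 = n78466 := (sb E90057 F257567)
theorem F326237 : act 4 n94043 = n145954 := (sb E90058 (iv4 F229197))
theorem F326238 : act 6 n94043 = n68430 := (sb E90058 (iv6 D145941))
theorem F326239 : act 4 n145025 = n88689 := (sb E90059 (iv4 D186163))
theorem F326240 : act 7 n145025 = n186406 := (sb E90059 (iv7 F289184))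
theorem F326241 : act 1 n86578 = n65964 := (sb E90060 (iv0 D140551))
theorem F326242 : act 0 n86024 = n65964 := (sb E90061 (iv1 D140552))
theorem F326243 : act 7 n138478 = n65964 := (sb E90062 (iv7 D140554))
theorem F326244 : act 3 n147298 = n69500 := (sb E90063 (iv3 D148264))
theorem F326245 : act 7 n147298 = n69510 := (sb E90063 F320883)
theorem F326246 : act 3 n106385 = n66945 := (sb E90064 (iv3 D142825))
theorem F326247 : act 2 n112950 = n145519 := (sb E90065 (iv2 F228574))
theorem F326248 : act 4 n112950 = n144007 := (sb E90065 (iv4 F226669))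
theorem F326249 : act 5 n112950 = n66945 := (sb E90065 (iv5 D142826))
theorem F326250 : act 1 n142086 = n80573 := (sb E90066 (iv0 D167883))
theorem F326251 : act 0 n142085 = n80573 := (sb E90067 (iv1 D167884))
theorem F326252 : act 5 n142085 = n127483 := (sb E90067 (iv5 F310874))
theorem F326253 : act 7 n66061 = n80573 := (sb E90068 (iv7 D167886))
theorem F326254 : act 3 n77342 = n50651 := (sb E90071 (iv3 D109836))
theorem E91081 : n53724 = n53261 := (((iv4 F84754)).symm.trans (sb E90072 (iv4 D115463)))
theorem F326255 : act 3 n84365 = n59237 := (sb E90074 F174429)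
theorem E91083 : n109970 = n79580 := ((((iv6 F297049)).symm.trans (sb E90074 F174430))).symm
theorem E91084 : n162346 = n25419 := ((((iv1 D52347)).symm.trans (sb E90075 D162346))).symm
theorem E91085 : n162348 = n113406 := (((D113406).symm.trans (sb E90075 D162348))).symm
theorem E91092 : n162340 = n52380 := ((((iv4 F82744)).symm.trans (sb E90077 D162340))).symm
theorem F326256 : act 3 n96710 = n59144 := (sb E90082 F174444)
theorem F326257 : act 0 n63341 = n46046 := (sb E90086 (iv1 F151828))
theorem F326258 : act 1 n63341 = n46045 := (sb E90086 F151829)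
theorem F326259 : act 7 n63341 = n46033 := (sb E90086 (iv7 D98407))
theorem E91102 : n108422 = n46047 := (((D46047).symm.trans (sb E90087 (iv4 F167632)))).symm
theorem F326260 : act 7 n21998 = n29989 := (sb E90087 (iv7 D63499))
theorem F326261 : act 1 n63478 = n46033 := (sb E90088 (iv0 D98404))
theorem F326262 : act 2 n63478 = n46045 := (sb E90088 F154202)
theorem E91103 : n135057 = n90220 := ((D135057).symm.trans (sb E90088 (iv5 F294269)))
theorem F326263 : act 7 n63478 = n46046 := (sb E90088 F154203)
theorem F326264 : act 6 n63559 = n46045 := (sb E90090 (iv6 D98449))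
theorem E91105 : n170774 = n111430 := (((F172928).symm.trans (sb E90091 D170774))).symm
theorem E91106 : n111434 = n87226 := (((iv2 F172936)).symm.trans (sb E90091 F294995))
theorem E91107 : n170756 = n135042 := ((((iv3 F217271)).symm.trans (sb E90091 (iv3 F268346)))).symm
theorem E91108 : n135053 = n37484 := (((iv5 F217285)).symm.trans (sb E90091 (iv5 D81873)))
theorem E91109 : n134778 = n37487 := (((iv6 F216872)).symm.trans (sb E90091 F125896))
theorem E91116 : n106626 = n52436 := ((F212374).symm.trans (sb E90093 (tr (iv1 F280610) E90684)))
theorem E91117 : n132060 = n50984 := ((F212375).symm.trans (sb E90093 (tr (iv0 D180321) E90094)))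
theorem E91119 : n180323 = n52282 := ((((iv2 F164338)).symm.trans (sb E90094 D180323))).symm
theorem E91120 : n180324 = n110575 := (((D110575).symm.trans (sb E90094 D180324))).symm
theorem E91121 : n180325 = n110576 := (((D110576).symm.trans (sb E90094 D180325))).symm
theorem E91122 : n163513 = n110568 := (((D110568).symm.trans (sb E90095 F296310))).symm
theorem E91130 : n162371 = n28001 := ((((iv4 F45270)).symm.trans (sb E90097 D162371))).symm
theorem E91133 : n113213 = n81511 := (((iv4 F176387)).symm.trans (sb E90098 (iv4 F125360)))
theorem E91134 : n113215 = n81509 := (((D81509).symm.trans (sb E90099 (iv1 F176397)))).symm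
theorem E91135 : n81510 = n28011 := ((D81510).symm.trans (sb E90099 F164346))
theorem F326265 : act 4 n37218 = n28002 := (sb E90099 (iv4 D58905))
theorem E91136 : n113277 = n81512 := (((D81512).symm.trans (sb E90099 (iv5 F176475)))).symm
theorem F326266 : act 7 n37218 = n59274 := (sb E90099 F168023)
theorem E91137 : n106608 = n58930 := (((D58930).symm.trans (iv5 (sb E90100 (tr (iv5 D169927) E91135))))).symm
theorem F326267 : act 2 n35832 = n51452 := (sb E90102 (iv2 F163873))
theorem F326268 : act 3 n35832 = n24680 := (sb E90102 (iv3 D50689))
theorem E91138 : n109914 = n78678 := (((D78678).symm.trans (sb E90102 D109914))).symm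
theorem F326269 : act 7 n35832 = n51453 := (sb E90102 (iv7 F163871))
theorem E91139 : n109916 = n78673 := ((D109916).symm.trans (sb E90103 (iv3 D163752)))
theorem E91140 : n105172 = n78656 := ((F168354).symm.trans (sb E90105 (iv2 D163709)))
theorem E91141 : n166698 = n109864 := ((((iv3 F169854)).symm.trans (sb E90106 (iv3 F262374)))).symm
theorem E91142 : n182859 = n97370 := ((((iv3 F150111)).symm.trans (sb E90109 (iv3 F284405)))).symm
theorem F326270 : act 4 n45474 = n79960 := (sb E90109 (iv4 D166604))
theorem E91143 : n163608 = n97377 := (((D97377).symm.trans (sb E90109 F262205))).symm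
theorem F326271 : act 6 n45472 = n79960 := (sb E90110 (iv6 D166605))
theorem E91144 : n166472 = n152924 := (((D152924).symm.trans (sb E90111 (iv1 F262029)))).symm
theorem E91145 : n166471 = n83741 := ((((iv0 F188505)).symm.trans (sb E90111 F262033))).symm
theorem E91146 : n166476 = n119239 := ((((iv2 F187675)).symm.trans (sb E90111 (iv2 F262031)))).symm
theorem F326272 : act 4 n72179 = n36403 := (sb E90111 (iv4 D79920))
theorem E91149 : n166495 = n152926 := (((D152926).symm.trans (sb E90111 D166495))).symm
theorem E91150 : n166461 = n118913 := ((((iv7 F186975)).symm.trans (sb E90111 (iv7 F262019)))).symm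
theorem F326273 : act 0 n126912 = n73622 := (sb E90112 (iv1 F243848))
theorem F326274 : act 1 n126912 = n73621 := (sb E90112 F243849)
theorem F326275 : act 2 n126912 = n73624 := (sb E90112 F243845)
theorem F326276 : act 6 n126912 = n83080 := (sb E90112 F315791)
theorem F326277 : act 7 n126912 = n73595 := (sb E90112 (iv7 D155062))
theorem F326278 : act 2 n130522 = n73622 := (sb E90113 F243926)
theorem F326279 : act 7 n130522 = n73621 := (sb E90113 (iv7 D155103))
theorem F326280 : act 5 n64102 = n73622 := (sb E90114 (iv5 D155106))
theorem F326281 : act 3 n45183 = n52318 := (sb E90118 F169793)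
theorem F326282 : act 4 n114493 = n65953 := (sb E90119 (iv4 D140528))
theorem E91151 : n141930 = n115027 := ((((iv7 F179125)).symm.trans (sb E90119 (iv7 F224982)))).symm
theorem F326283 : act 2 n73626 = n47299 := (sb E90120 (iv2 D101755))
theorem E91152 : n147568 = n107737 := (((D107737).symm.trans (sb E90121 (iv3 F308685)))).symm
theorem F326284 : act 4 n49767 = n35920 := (sb E90121 F120089)
theorem F326285 : act 6 n49767 = n35919 := (sb E90121 (iv6 D78901))
theorem E91154 : n164238 = n115099 := ((((iv3 F179233)).symm.trans (sb E90124 (iv3 F258870)))).symm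
theorem E91156 : n115101 = n71913 := ((D115101).symm.trans (sb E90124 F120094))
theorem F326286 : act 7 n53113 = n35920 := (sb E90124 (iv7 D78905))
theorem F326287 : act 0 n133333 = n164213 := (sb E90125 (iv1 F258833))
theorem F326288 : act 1 n133333 = n164212 := (sb E90125 F258841)
theorem F326289 : act 7 n133333 = n71909 := (sb E90125 (iv7 D152438))
theorem F326290 : act 1 n59332 = n35920 := (sb E90126 (iv0 D78902))
theorem E91160 : n164248 = n126462 := (((D126462).symm.trans (sb E90126 D164248))).symm
theorem E91163 : n130697 = n71911 := ((D130697).symm.trans (sb E90128 (iv1 F120068)))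
theorem E91164 : n130698 = n71910 := ((D130698).symm.trans (sb E90128 F120069))
theorem E91165 : n164229 = n130699 := (((D130699).symm.trans (sb E90128 (iv5 F258852)))).symm
theorem F326291 : act 7 n61319 = n35914 := (sb E90128 (iv7 D78894))
theorem E91166 : n172072 = n64102 := (((D64102).symm.trans (sb E90129 (iv6 F300827)))).symm
theorem F326292 : act 2 n84215 = n64101 := (sb E90130 (iv2 D136348))
theorem E91167 : n176624 = n130520 := (((iv3 F275997)).symm.trans (sb E90130 F219428))
theorem E91168 : n176629 = n64120 := (((iv4 F276006)).symm.trans (sb E90130 F219429))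
theorem E91169 : n172074 = n64122 := ((D172074).symm.trans (sb E90131 F219431))
theorem F326293 : act 6 n82411 = n64101 := (sb E90131 (iv6 D136349))
theorem F326294 : act 5 n78898 = n53137 := (sb E90142 (iv5 D115165))
theorem F326295 : act 5 n25776 = n35920 := (sb E90143 (iv5 D78904))
theorem E91170 : n152387 = n62640 := (((D62640).symm.trans (sb E90145 (iv5 F239606)))).symm
theorem F326296 : act 0 n175978 = n114096 := (sb E90146 F288140)
theorem F326297 : act 2 n175978 = n102874 := (sb E90146 F292116)
theorem F326298 : act 3 n175978 = n114038 := (sb E90146 F288139)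
theorem F326299 : act 5 n175978 = n88721 := (sb E90146 F292117)
theorem F326300 : act 6 n175978 = n88502 := (sb E90146 (iv6 D185825))
theorem F326301 : act 7 n175978 = n164209 := (sb E90146 (iv7 F288176))
theorem F326302 : act 0 n54403 = n64924 := (sb E90147 (iv1 F221382))
theorem F326303 : act 1 n54403 = n64919 := (sb E90147 (iv0 D138212))
theorem E91171 : n137029 = n118075 := ((((iv2 F185507)).symm.trans (sb E90147 (iv2 F221383)))).symm
theorem F326304 : act 0 n54386 = n64919 := (sb E90148 (iv1 D138213))
theorem F326305 : act 1 n54386 = n64924 := (sb E90148 F221384)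
theorem F326306 : act 2 n54400 = n64919 := (sb E90149 F219268)
theorem E91172 : n118089 = n64049 := ((D118089).symm.trans (sb E90149 (iv5 D136240)))
theorem F326307 : act 7 n54400 = n64924 := (sb E90149 F219269)
theorem F326308 : act 6 n85860 = n64919 := (sb E90150 (iv6 D138215))
theorem F326309 : act 2 n54401 = n64924 := (sb E90151 F219272)
theorem E91173 : n118094 = n64050 := ((D118094).symm.trans (sb E90151 (iv5 D136243)))
theorem F326310 : act 7 n54401 = n64919 := (sb E90151 F219273)
theorem F326311 : act 2 n64135 = n87750 := (sb E90152 F155711)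
theorem E91174 : n64792 = n47077 := (((iv5 F166063)).symm.trans (sb E90152 (iv5 D101049)))
theorem F326312 : act 6 n64135 = n118074 := (sb E90152 (iv6 F185506))
theorem F326313 : act 4 n53298 = n87750 := (sb E90153 (iv4 D183945))
theorem F326314 : act 1 n108038 = n87750 := (sb E90154 (iv0 D183943))
theorem F326315 : act 0 n156440 = n87750 := (sb E90155 (iv1 D183944))
theorem E91176 : n64795 = n48235 := ((((iv1 F289720)).symm.trans (sb E90156 (iv1 F219175)))).symm
theorem E91177 : n64021 = n45359 := (((F293729).symm.trans (sb E90156 (iv0 D136136)))).symm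
theorem E91178 : n64793 = n47519 := ((((iv7 F289722)).symm.trans (sb E90156 (iv7 F219170)))).symm
theorem E91179 : n136414 = n47521 := ((D136414).symm.trans (sb E90157 F157370))
theorem F326316 : act 7 n64132 = n87750 := (sb E90157 F289754)
theorem E91180 : n135984 = n101799 := ((F219303).symm.trans (sb E90158 (iv1 F321055)))
theorem E91181 : n136410 = n72946 := ((F219515).symm.trans (sb E90158 (iv0 D154072)))
theorem F326317 : act 3 n136256 = n101840 := (sb E90158 F287066)
theorem F326318 : act 5 n136256 = n118109 := (sb E90158 F242127)
theorem E91182 : n136995 = n72947 := ((D136995).symm.trans (sb E90159 F242129))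
theorem F326319 : act 3 n138256 = n170755 := (sb E90160 (iv3 F268343))
theorem F326320 : act 5 n138256 = n72936 := (sb E90160 (iv5 D154059))
theorem E91183 : n115534 = n99420 := ((F221446).symm.trans (sb E90160 F242099))
theorem F326321 : act 3 n46588 = n64951 := (sb E90161 (iv3 D138271))
theorem E91184 : n136817 = n99728 := (((D99728).symm.trans (sb E90161 F221468))).symm
theorem F326322 : act 2 n47334 = n64941 := (sb E90162 F219281)
theorem E91185 : n101856 = n64055 := ((D101856).symm.trans (sb E90162 (iv4 D136250)))
theorem E91186 : n136362 = n54177 := (((F319207).symm.trans (sb E90162 (iv6 F219468)))).symm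
theorem F326323 : act 7 n47334 = n64951 := (sb E90162 F219282)
theorem F326324 : act 1 n47314 = n64938 := (sb E90163 (iv0 D138250))
theorem F326325 : act 0 n33625 = n64938 := (sb E90164 (iv1 D138251))
theorem F326326 : act 2 n46579 = n64938 := (sb E90165 F219279)
theorem E91187 : n99691 = n64054 := ((D99691).symm.trans (sb E90165 (iv5 D136249)))
theorem F326327 : act 3 n47292 = n64938 := (sb E90166 F221429)
theorem E91188 : n101725 = n64937 := ((D101725).symm.trans (sb E90166 (iv5 D138248)))
theorem E91189 : n101802 = n64058 := (((F99748).symm.trans (sb E90167 (iv7 F321065)))).symm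
theorem F326328 : act 6 n85982 = n64938 := (sb E90168 (iv6 D138253))
theorem F326329 : act 7 n47315 = n64938 := (sb E90169 F219295)
theorem E91190 : n64948 = n22742 := (((D22742).symm.trans (sb E90170 (iv5 D138266)))).symm
theorem F326330 : act 5 n30513 = n22740 := (sb E90171 (iv5 D47317))
theorem F326331 : act 4 n60694 = n52500 := (sb E90173 F176925)
theorem E91195 : n129105 = n52499 := ((D129105).symm.trans (sb E90173 (iv6 D113703)))
theorem F326332 : act 5 n29540 = n52500 := (sb E90174 (iv5 D113706))
theorem F326333 : act 4 n132381 = n68859 := (sb E90176 F230271)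
theorem F326334 : act 7 n132381 = n68856 := (sb E90176 (iv7 D146887))
theorem F326335 : act 1 n117459 = n62502 := (sb E90177 (iv0 F214004))
theorem F326336 : act 4 n117459 = n62494 := (sb E90177 (iv4 D133189))
theorem F326337 : act 6 n117459 = n135875 := (sb E90177 (iv6 F218545))
theorem F326338 : act 0 n90500 = n62502 := (sb E90178 F214008)
theorem F326339 : act 4 n90500 = n62495 := (sb E90178 (iv4 D133190))
theorem F326340 : act 6 n90500 = n130651 := (sb E90178 F214006)
theorem E91196 : n128758 = n92730 := (((D92730).symm.trans (sb E90179 F214029))).symm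
theorem F326341 : act 7 n43378 = n62502 := (sb E90179 (iv7 D133199))
theorem F326342 : act 3 n113695 = n132442 := (sb E90183 (iv3 F212516))
theorem F326343 : act 6 n113695 = n62113 := (sb E90183 (iv6 D132384))
theorem E91197 : n137369 = n63395 := ((D137369).symm.trans (sb E90184 F217098))
theorem F326344 : act 6 n64573 = n63393 := (sb E90184 (iv6 D134893))
theorem F326345 : act 3 n72726 = n46651 := (sb E90186 (iv3 D99897))
theorem E91202 : n100533 = n32987 := ((D100533).symm.trans (sb E90187 (iv3 D71282)))
theorem E91203 : n127819 = n90736 := ((((iv5 F291456)).symm.trans (sb E90187 (iv5 F205639)))).symm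
theorem E91204 : n151246 = n100535 := (((D100535).symm.trans (sb E90187 D151246))).symm
theorem E91205 : n114378 = n99379 := ((((iv7 F153046)).symm.trans (sb E90187 (iv7 F178403)))).symm
theorem F326346 : act 6 n62251 = n60981 := (sb E90188 (iv6 D129827))
theorem F326347 : act 3 n61957 = n49370 := (sb E90189 F164648)
theorem E91206 : n132538 = n132033 := (((D132033).symm.trans (sb E90189 (iv4 F212750)))).symm
theorem F326348 : act 6 n61957 = n49368 := (sb E90189 (iv6 D106849))
theorem F326349 : act 2 n63753 = n52615 := (sb E90190 F193489)
theorem E91207 : n135583 = n48707 := ((D135583).symm.trans (sb E90190 (iv6 D105366)))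
theorem F326350 : act 0 n113993 = n135344 := (sb E90191 F217583)
theorem F326351 : act 1 n113993 = n63863 := (sb E90191 F212513)
theorem F326352 : act 2 n113993 = n132768 := (sb E90191 (iv2 F213231))
theorem F326353 : act 7 n113993 = n132757 := (sb E90191 (iv7 F213207))
theorem F326354 : act 2 n113996 = n135581 := (sb E90192 F218390)
theorem F326355 : act 3 n113996 = n106612 := (sb E90192 F218392)
theorem F326356 : act 7 n113996 = n132036 := (sb E90192 F218391)
theorem E91208 : n164627 = n135584 := (((D135584).symm.trans (sb E90194 F259579))).symm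
theorem F326357 : act 7 n63754 = n52615 := (sb E90194 (iv7 D114001))
theorem F326358 : act 2 n63757 = n52586 := (sb E90195 (iv2 D113901))
theorem E91209 : n135592 = n52587 := ((D135592).symm.trans (sb E90195 (iv7 F177202)))
theorem F326359 : act 2 n113902 = n63846 := (sb E90196 F218353)
theorem F326360 : act 4 n113902 = n134312 := (sb E90196 F218355)
theorem F326361 : act 6 n113902 = n63844 := (sb E90196 (iv6 D135777))
theorem F326362 : act 1 n113759 = n135603 := (sb E90197 F218124)
theorem F326363 : act 2 n113759 = n63777 := (sb E90197 (iv2 D135639))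
theorem F326364 : act 3 n113759 = n135632 := (sb E90197 F218121)
theorem F326365 : act 4 n113759 = n132170 := (sb E90197 F218122)
theorem F326366 : act 7 n113759 = n135625 := (sb E90197 F218123)
theorem F326367 : act 2 n135582 = n114000 := (sb E90198 F233485)
theorem F326368 : act 6 n135582 = n69696 := (sb E90198 (iv6 D148714))
theorem F326369 : act 3 n61084 = n114000 := (sb E90199 F288127)
theorem F326370 : act 5 n61084 = n113993 := (sb E90199 F288128)
theorem F326371 : act 1 n140785 = n81724 := (sb E90200 (iv0 D170479))
theorem F326372 : act 0 n140784 = n81724 := (sb E90201 (iv1 D170480))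
theorem F326373 : act 7 n66629 = n81724 := (sb E90202 (iv7 D170482))
theorem E91210 : n116824 = n74471 := ((D116824).symm.trans (sb E90203 F321302))
theorem E91211 : n116825 = n31080 := ((D116825).symm.trans (sb E90203 (iv0 D66615)))
theorem F326374 : act 2 n53488 = n71143 := (sb E90204 F313380)
theorem E91217 : n138375 = n116054 := (((D116054).symm.trans (sb E90204 (iv3 F221604)))).symm
theorem E91218 : n138377 = n116055 := (((D116055).symm.trans (sb E90204 (iv4 F221605)))).symm
theorem E91219 : n138382 = n116056 := (((D116056).symm.trans (sb E90204 D138382))).symm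
theorem E91220 : n116057 = n30531 := ((D116057).symm.trans (sb E90204 (iv6 D65000)))
theorem F326375 : act 7 n53488 = n71144 := (sb E90204 (iv7 F315844))
theorem E91221 : n69639 = n68624 := (((D68624).symm.trans (sb E90205 (iv1 F184910)))).symm
theorem F326376 : act 1 n31931 = n54310 := (sb E90205 (iv0 D117902))
theorem F326377 : act 0 n117319 = n54310 := (sb E90206 (iv1 D117903))
theorem E91222 : n143004 = n116435 := ((((iv5 F318644)).symm.trans (sb E90210 (iv5 F316976)))).symm
theorem F326378 : act 4 n51658 = n47547 := (sb E90212 (iv4 D102508))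
theorem F326379 : act 1 n102509 = n67170 := (sb E90213 (iv0 D143398))
theorem F326380 : act 2 n102509 = n109887 := (sb E90213 (iv2 F226161))
theorem F326381 : act 4 n102509 = n109883 := (sb E90213 F226160)
theorem F326382 : act 4 n102501 = n50452 := (sb E90214 (iv4 D109336))
theorem E91223 : n66095 = n65054 := (((D65054).symm.trans (sb E90217 (iv6 D140897)))).symm
theorem E91224 : n150579 = n66096 := (((iv6 F312145)).symm.trans (sb E90218 (iv6 D140903)))
theorem E91225 : n156382 = n66097 := ((D156382).symm.trans (sb E90219 (iv6 D140906)))
theorem F326383 : act 6 n30907 = n34115 := (sb E90220 (iv6 D74378))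
theorem E91229 : n156386 = n66090 := (((F101746).symm.trans (sb E90220 D156386))).symm
theorem F326384 : act 5 n166577 = n88460 := (sb E90222 (iv5 D185729))
theorem F326385 : act 6 n166577 = n166558 := (sb E90222 F288009)
theorem F326386 : act 3 n79962 = n45472 := (sb E90223 (iv3 D97372))
theorem F326387 : act 5 n79962 = n79949 := (sb E90223 F293096)
theorem E91230 : n166613 = n163413 := ((D166613).symm.trans (sb E90223 F293097))
theorem F326388 : act 6 n35309 = n50807 := (sb E90224 (iv6 D110181))
theorem F326389 : act 6 n77908 = n50822 := (sb E90225 (iv6 D110226))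
theorem F326390 : act 6 n112001 = n83464 := (sb E90230 (iv6 D174671))
theorem F326391 : act 6 n38480 = n51655 := (sb E90232 (iv6 D112003))
theorem E91231 : n84269 = n51545 := (((D51545).symm.trans (sb E90235 (iv6 D176753)))).symm
theorem E91232 : n84267 = n51574 := (((D51574).symm.trans (sb E90237 D84267))).symm
theorem F326392 : act 3 n25052 = n18467 := (sb E90237 (iv3 D38863))
theorem E91233 : n84270 = n51576 := (((D51576).symm.trans (sb E90237 D84270))).symm
theorem F326393 : act 7 n25052 = n34480 := (sb E90237 F59890)
theorem F326394 : act 5 n111839 = n84272 := (sb E90241 (iv5 D176763))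
theorem F326395 : act 6 n27641 = n25184 := (sb E90246 (iv6 D51904))
theorem E91237 : n109338 = n35751 := ((D109338).symm.trans (sb E90247 (iv1 F88438)))
theorem E91238 : n109339 = n26963 := ((D109339).symm.trans (sb E90247 (iv0 D55897)))
theorem F326396 : act 2 n50453 = n35756 := (sb E90247 (iv2 F88437))
theorem E91239 : n109340 = n77212 := ((D109340).symm.trans (sb E90247 (iv5 F115967)))
theorem F326397 : act 7 n50453 = n35755 := (sb E90247 F88439)
theorem F326398 : act 5 n125873 = n86723 := (sb E90263 (iv5 D181707))
theorem F326399 : act 1 n17236 = n25185 := (sb E90264 (iv0 D51905))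
theorem E91240 : n112510 = n27324 := ((((iv2 F44221)).symm.trans (sb E90264 D112510))).symm
theorem E91245 : n112515 = n27020 := ((((iv7 F43658)).symm.trans (sb E90264 D112515))).symm
theorem E91246 : n112516 = n34437 := ((D112516).symm.trans (sb E90265 F87581))
theorem E91247 : n112517 = n76805 := ((D112517).symm.trans (sb E90265 (iv4 F115300)))
theorem E91248 : n112518 = n26743 := ((D112518).symm.trans (sb E90265 (iv5 D55340)))
theorem F326400 : act 5 n17228 = n25185 := (sb E90266 (iv5 D51907))
theorem F326401 : act 7 n35107 = n25185 := (sb E90267 (iv7 D51908))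
theorem F326402 : act 3 n77206 = n50686 := (sb E90270 F169901)
theorem F326403 : act 1 n37317 = n59186 := (sb E90271 (iv0 D126249))
theorem F326404 : act 0 n96710 = n59186 := (sb E90272 (iv1 D126250))
theorem F326405 : act 4 n126245 = n160819 := (sb E90273 F267761)
theorem F326406 : act 7 n126245 = n86505 := (sb E90273 F299393)
theorem F326407 : act 0 n126251 = n166607 := (sb E90274 (iv1 F322993))
theorem F326408 : act 2 n126251 = n162841 := (sb E90274 F299394)
theorem F326409 : act 7 n126251 = n86506 := (sb E90274 F299395)
theorem F326410 : act 7 n40085 = n59186 := (sb E90275 (iv7 D126252))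
theorem F326411 : act 6 n36416 = n50811 := (sb E90279 (iv6 D110196))
theorem F326412 : act 6 n78533 = n59188 := (sb E90280 (iv6 D126256))
theorem F326413 : act 6 n59288 = n59055 := (sb E90285 (iv6 D126039))
theorem F326414 : act 3 n52386 = n76960 := (sb E90286 (iv3 D160508))
theorem F326415 : act 4 n52386 = n76962 := (sb E90286 F253557)
theorem E91253 : n159236 = n113493 := (((D113493).symm.trans (sb E90286 F253558))).symm
theorem F326416 : act 6 n81901 = n50376 := (sb E90287 (iv6 D109137))
theorem F326417 : act 1 n38366 = n50606 := (sb E90296 (iv0 D109722))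
theorem F326418 : act 0 n38365 = n50606 := (sb E90297 (iv1 D109723))
theorem F326419 : act 0 n109724 = n83296 := (sb E90298 (iv1 F271636))
theorem F326420 : act 1 n109724 = n83295 := (sb E90298 F271637)
theorem F326421 : act 2 n109724 = n83299 := (sb E90298 F271633)
theorem F326422 : act 4 n109724 = n83250 := (sb E90298 F271634)
theorem F326423 : act 7 n109724 = n82914 := (sb E90298 (iv7 D173268))
theorem F326424 : act 3 n38149 = n50613 := (sb E90299 F169712)
theorem F326425 : act 7 n38149 = n50606 := (sb E90299 (iv7 D109725))
theorem F326426 : act 0 n51795 = n50873 := (sb E90315 (iv1 D110327))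
theorem F326427 : act 1 n51795 = n38844 := (sb E90316 (iv0 F325271))
theorem F326428 : act 7 n51795 = n50706 := (sb E90316 (iv7 D109943))
theorem F326429 : act 1 n56715 = n51882 := (sb E90317 (iv0 D112464))
theorem F326430 : act 0 n39059 = n51882 := (sb E90318 (iv1 D112465))
theorem F326431 : act 7 n112459 = n124278 := (sb E90319 F276974)
theorem F326432 : act 1 n112466 = n84562 := (sb E90320 (iv0 D177503))
theorem F326433 : act 7 n112466 = n124280 := (sb E90320 (iv7 F276955))
theorem F326434 : act 7 n57939 = n51882 := (sb E90321 (iv7 D112467))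
theorem F326435 : act 6 n57940 = n51900 := (sb E90322 (iv6 D112497))
theorem F326436 : act 6 n140705 = n81897 := (sb E90327 (iv6 D170829))
theorem F326437 : act 6 n37503 = n66019 := (sb E90329 (iv6 D140706))
theorem F326438 : act 5 n112460 = n86173 := (sb E90330 (iv5 D180432))
theorem F326439 : act 0 n112051 = n78212 := (sb E90335 (iv1 F198990))
theorem F326440 : act 1 n112051 = n78207 := (sb E90335 F198989)
theorem F326441 : act 2 n112051 = n83128 := (sb E90335 F198987)
theorem F326442 : act 7 n112051 = n83121 := (sb E90335 F198988)
theorem F326443 : act 1 n34659 = n51679 := (sb E90336 (iv0 D112052))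
theorem F326444 : act 0 n34655 = n51679 := (sb E90337 (iv1 D112053))
theorem F326445 : act 5 n27671 = n51679 := (sb E90338 (iv5 D112054))
theorem F326446 : act 7 n38262 = n51679 := (sb E90339 (iv7 D112055))
theorem F326447 : act 5 n111709 = n86164 := (sb E90342 (iv5 D180415))
theorem F326448 : act 5 n111711 = n86166 := (sb E90344 (iv5 D180420))
theorem F326449 : act 7 n38338 = n51612 := (sb E90345 (iv7 D111914))
theorem F326450 : act 0 n37801 = n51612 := (sb E90346 (iv1 D111912))
theorem F326451 : act 1 n25103 = n51612 := (sb E90347 (iv0 D111911))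
theorem F326452 : act 4 n108748 = n160846 := (sb E90348 F258415)
theorem F326453 : act 6 n108748 = n78767 := (sb E90348 (iv6 D163957))
theorem F326454 : act 6 n35863 = n51903 := (sb E90350 (iv6 D112505))
theorem F326455 : act 1 n38991 = n58937 := (sb E90351 (iv0 D125858))
theorem F326456 : act 0 n38986 = n58937 := (sb E90352 (iv1 D125859))
theorem F326457 : act 7 n125852 = n166624 := (sb E90353 (iv7 F296357))
theorem F326458 : act 0 n125860 = n84509 := (sb E90354 (iv1 F276727))
theorem F326459 : act 1 n125860 = n84485 := (sb E90354 (iv0 D177344))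
theorem F326460 : act 7 n125860 = n166625 := (sb E90354 (iv7 F296361))
theorem F326461 : act 7 n79969 = n58937 := (sb E90355 (iv7 D125861))
theorem F326462 : act 6 n81506 = n58939 := (sb E90356 (iv6 D125866))
theorem F326463 : act 0 n145446 = n84359 := (sb E90361 F256976)
theorem F326464 : act 2 n145446 = n80486 := (sb E90361 (iv2 F297862))
theorem F326465 : act 4 n145446 = n78211 := (sb E90361 (iv4 D162747))
theorem F326466 : act 5 n145446 = n177395 := (sb E90361 (iv5 F276778))
theorem F326467 : act 6 n145446 = n78564 := (sb E90361 F297677)
theorem F326468 : act 7 n145446 = n80480 := (sb E90361 (iv7 F297859))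
theorem F326469 : act 1 n145447 = n84359 := (sb E90362 (iv0 F299402))
theorem F326470 : act 2 n145447 = n80480 := (sb E90362 F257214)
theorem F326471 : act 4 n145447 = n78310 := (sb E90362 F257215)
theorem F326472 : act 5 n145447 = n177396 := (sb E90362 F299134)
theorem F326473 : act 6 n145447 = n78309 := (sb E90362 (iv6 D162900))
theorem F326474 : act 7 n145447 = n80486 := (sb E90362 (iv7 F257216))
theorem F326475 : act 0 n145449 = n166625 := (sb E90363 (iv1 F296359))
theorem F326476 : act 2 n145449 = n84509 := (sb E90363 F276388)
theorem F326477 : act 7 n145449 = n84485 := (sb E90363 F276389)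
theorem F326478 : act 2 n38961 = n68309 := (sb E90364 (iv2 D145718))
theorem F326479 : act 3 n76822 = n68309 := (sb E90365 (iv3 D145719))
theorem F326480 : act 0 n145720 = n120872 := (sb E90366 (iv1 F299806))
theorem F326481 : act 1 n145720 = n162858 := (sb E90366 F267672)
theorem F326482 : act 2 n145720 = n84481 := (sb E90366 (iv2 F299564))
theorem F326483 : act 5 n145720 = n166620 := (sb E90366 (iv5 F267673))
theorem F326484 : act 6 n145720 = n157784 := (sb E90366 F297671)
theorem F326485 : act 7 n145720 = n84480 := (sb E90366 (iv7 F299842))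
theorem F326486 : act 5 n37293 = n68309 := (sb E90367 (iv5 D145721))
theorem F326487 : act 7 n38960 = n68309 := (sb E90368 (iv7 D145722))
theorem F326488 : act 2 n58982 = n35740 := (sb E90373 F119623)
theorem E91256 : n163128 = n125971 := (((D125971).symm.trans (sb E90373 (iv3 F257446)))).symm
theorem E91257 : n163134 = n111291 := (((F172662).symm.trans (sb E90373 (iv4 F257451)))).symm
theorem E91258 : n163139 = n125972 := (((D125972).symm.trans (sb E90373 (iv5 F257455)))).symm
theorem F326489 : act 7 n58982 = n35739 := (sb E90373 (iv7 D78428))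
theorem E91260 : n163130 = n111293 := ((((iv1 F172673)).symm.trans (sb E90374 (iv1 F257448)))).symm
theorem E91261 : n163129 = n48650 := (((F168167).symm.trans (sb E90374 F257452))).symm
theorem F326490 : act 4 n51712 = n35740 := (sb E90374 (iv4 D78430))
theorem E91265 : n163119 = n111292 := ((((iv7 F172664)).symm.trans (sb E90374 (iv7 F257438)))).symm
theorem E91268 : n163150 = n126011 := (((D126011).symm.trans (sb E90375 (iv3 F257462)))).symm
theorem F326491 : act 6 n59019 = n35740 := (sb E90375 (iv6 D78432))
theorem F326492 : act 2 n58983 = n35739 := (sb E90376 (iv2 D78423))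
theorem E91271 : n163118 = n125974 := (((D125974).symm.trans (sb E90376 D163118))).symm
theorem E91272 : n163120 = n125975 := (((D125975).symm.trans (sb E90376 D163120))).symm
theorem E91273 : n163121 = n125976 := (((D125976).symm.trans (sb E90376 D163121))).symm
theorem F326493 : act 7 n58983 = n35740 := (sb E90376 (iv7 F119622))
theorem E91274 : n163131 = n50288 := ((D163131).symm.trans (sb E90377 F168336))
theorem E91275 : n163132 = n107421 := ((D163132).symm.trans (sb E90377 (iv5 F168335)))
theorem F326494 : act 1 n78437 = n125954 := (sb E90378 (iv0 F202460))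
theorem E91276 : n163179 = n110400 := (((iv2 F257474)).symm.trans (sb E90378 F175540))
theorem E91277 : n163182 = n52043 := ((D163182).symm.trans (sb E90378 (iv5 D112752)))
theorem E91278 : n163174 = n125977 := ((F257473).symm.trans (sb E90378 (iv7 F202655)))
theorem F326495 : act 3 n79912 = n52026 := (sb E90379 F175430)
theorem F326496 : act 6 n79912 = n52024 := (sb E90379 (iv6 D112713))
theorem F326497 : act 4 n50462 = n27109 := (sb E90380 (iv4 D56267))
theorem E91281 : n121786 = n51579 := ((((iv6 F81412)).symm.trans (sb E90380 D121786))).symm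
theorem E91282 : n121788 = n51925 := ((D121788).symm.trans (sb E90381 (iv0 F173712)))
theorem F326498 : act 2 n56269 = n51953 := (sb E90381 F173708)
theorem E91283 : n126013 = n121789 := (((D121789).symm.trans (sb E90381 (iv5 F202708)))).symm
theorem E91284 : n121790 = n51954 := ((D121790).symm.trans (sb E90381 F173710))
theorem F326499 : act 4 n52228 = n27108 := (sb E90382 (iv4 D56262))
theorem E91287 : n121767 = n113152 := (((D113152).symm.trans (sb E90382 D121767))).symm
theorem F326500 : act 4 n50893 = n27110 := (sb E90384 F88848)
theorem F326501 : act 0 n56253 = n51944 := (sb E90385 F175143)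
theorem F326502 : act 1 n56253 = n52050 := (sb E90385 (iv0 F175144))
theorem F326503 : act 7 n56253 = n52026 := (sb E90385 F175142)
theorem E91289 : n157947 = n110448 := (((D110448).symm.trans (sb E90387 (iv1 F280811)))).symm
theorem E91290 : n121121 = n52226 := (((F170829).symm.trans (sb E90387 F280810))).symm
theorem F326504 : act 2 n50929 = n86175 := (sb E90387 (iv2 D180434))
theorem E91291 : n157970 = n110449 := (((D110449).symm.trans (sb E90387 F280806))).symm
theorem E91292 : n163335 = n110450 := (((D110450).symm.trans (sb E90387 F280808))).symm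
theorem E91293 : n110456 = n34448 := ((D110456).symm.trans (sb E90388 (iv3 D75238)))
theorem E91294 : n110457 = n86143 := ((D110457).symm.trans (sb E90388 (iv5 F256337)))
theorem E91295 : n157950 = n110458 := (((D110458).symm.trans (sb E90388 D157950))).symm
theorem F326505 : act 7 n50933 = n86175 := (sb E90388 (iv7 F261307))
theorem F326506 : act 1 n51010 = n27104 := (sb E90390 (iv0 D56251))
theorem E91296 : n121728 = n51944 := ((((iv2 F82030)).symm.trans (sb E90390 D121728))).symm
theorem E91301 : n121733 = n52050 := (((F161139).symm.trans (sb E90390 D121733))).symm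
theorem F326507 : act 1 n56252 = n52026 := (sb E90391 (iv0 F174139))
theorem E91302 : n121734 = n103104 := ((D121734).symm.trans (sb E90391 (iv3 F321397)))
theorem E91303 : n121735 = n51668 := ((D121735).symm.trans (sb E90391 (iv4 D112032)))
theorem E91304 : n121737 = n110628 := ((D121737).symm.trans (sb E90391 F174136))
theorem F326508 : act 7 n56254 = n52051 := (sb E90392 (iv7 D112775))
theorem E91305 : n84855 = n51938 := ((((iv4 F82009)).symm.trans (sb E90393 (iv4 D178313)))).symm
theorem F326509 : act 0 n112772 = n121740 := (sb E90394 F257457)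
theorem F326510 : act 5 n112772 = n78427 := (sb E90394 (iv5 D163142))
theorem F326511 : act 0 n79270 = n51954 := (sb E90397 (iv1 F175046))
theorem F326512 : act 1 n79270 = n51953 := (sb E90397 F175047)
theorem F326513 : act 7 n79270 = n51925 := (sb E90397 (iv7 D112546))
theorem E91306 : n121787 = n36083 := ((D121787).symm.trans (sb E90398 (iv1 D79269)))
theorem E91307 : n164981 = n51953 := (((F326498).symm.trans (sb E90398 (iv2 F260162)))).symm
theorem E91312 : n164976 = n51954 := (((E91284).symm.trans ((D121790).symm.trans (sb E90398 F260160)))).symm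
theorem F326514 : act 0 n79268 = n51925 := (sb E90399 (iv1 D112544))
theorem E91313 : n164978 = n105183 := ((D164978).symm.trans (sb E90399 (iv4 F175040)))
theorem E91314 : n164979 = n126012 := ((D164979).symm.trans (sb E90399 (iv5 F202704)))
theorem E91315 : n118544 = n110652 := (((iv6 F186450)).symm.trans (sb E90400 F175188))
theorem F326515 : act 7 n62220 = n51952 := (sb E90400 (iv7 D112596))
theorem F326516 : act 4 n84775 = n50806 := (sb E90401 F170339)
theorem F326517 : act 6 n84775 = n50805 := (sb E90401 (iv6 D110175))
theorem F326518 : act 6 n24600 = n38172 := (sb E90406 (iv6 F325328))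
theorem E91316 : n163592 = n113502 := (((D113502).symm.trans (sb E90408 (iv1 F262156)))).symm
theorem E91317 : n163591 = n113503 := (((D113503).symm.trans (sb E90408 F262154))).symm
theorem F326519 : act 2 n52391 = n79952 := (sb E90408 (iv2 D166585))
theorem E91318 : n163596 = n113497 := ((((iv3 F176687)).symm.trans (sb E90408 F262151))).symm
theorem E91319 : n164827 = n113499 := ((((iv4 F176688)).symm.trans (sb E90408 F262152))).symm
theorem E91320 : n163593 = n113505 := (((D113505).symm.trans (sb E90408 F262153))).symm
theorem F326520 : act 5 n40093 = n50806 := (sb E90409 (iv5 D110179))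
theorem F326521 : act 4 n151261 = n103939 := (sb E90412 F286321)
theorem F326522 : act 3 n41061 = n74086 := (sb E90413 F244740)
theorem E91321 : n87943 = n74085 := ((D87943).symm.trans (sb E90413 (iv5 D155732)))
theorem F326523 : act 3 n155737 = n87944 := (sb E90415 F286323)
theorem F326524 : act 4 n155737 = n103941 := (sb E90415 F286324)
theorem F326525 : act 0 n97075 = n119264 := (sb E90416 F203261)
theorem F326526 : act 1 n97075 = n119267 := (sb E90416 F189499)
theorem E91322 : n103312 = n55229 := (((iv5 F158549)).symm.trans (sb E90416 (iv5 D120014)))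
theorem F326527 : act 7 n97075 = n74086 := (sb E90416 F189498)
theorem F326528 : act 0 n41305 = n62344 := (sb E90417 F317537)
theorem F326529 : act 1 n41305 = n62339 := (sb E90417 F317538)
theorem F326530 : act 2 n41305 = n75679 := (sb E90417 F301392)
theorem E91323 : n176231 = n48296 := ((((iv3 F75909)).symm.trans (sb E90417 D176231))).symm
theorem E91324 : n88492 = n38719 := (((iv4 F135472)).symm.trans (sb E90417 (iv4 D84049)))
theorem E91325 : n88495 = n83073 := ((D88495).symm.trans (sb E90417 F301393))
theorem F326531 : act 7 n41305 = n63241 := (sb E90417 (iv7 F318972))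
theorem F326532 : act 6 n115201 = n88471 := (sb E90418 (iv6 D185756))
theorem E91327 : n88473 = n84173 := (((D84173).symm.trans (sb E90419 (iv6 D185760)))).symm
theorem E91328 : n185805 = n18423 := ((((iv4 D38744)).symm.trans (sb E90420 (iv4 F288121)))).symm
theorem E91329 : n84096 = n44064 := ((D84096).symm.trans (sb E90420 (iv6 D94262)))
theorem F326533 : act 6 n41297 = n75679 := (sb E90421 (iv6 D158658))
theorem F326534 : act 6 n115207 = n185864 := (sb E90422 (iv6 F288297))
theorem F326535 : act 3 n104369 = n63241 := (sb E90423 (iv3 D134586))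
theorem F326536 : act 4 n104369 = n63244 := (sb E90423 F216565)
theorem F326537 : act 5 n104369 = n84160 := (sb E90423 F321095)
theorem E91330 : n185903 = n63243 := (((D63243).symm.trans (sb E90424 (iv6 F288397)))).symm
theorem E91331 : n185831 = n84161 := (((D84161).symm.trans (sb E90425 (iv6 F288165)))).symm
theorem F326538 : act 6 n88544 = n63241 := (sb E90426 (iv6 D134588))
theorem E91332 : n182289 = n173589 := (E90428).trans E90450
theorem F326539 : act 6 n173589 = n114441 := (sb E91332 F283787)
theorem F326540 : act 6 n52835 = n83867 := (sb E90429 (iv6 D175669))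
theorem F326541 : act 2 n92473 = n83868 := (sb E90430 F275053)
theorem F326542 : act 7 n92473 = n83867 := (sb E90430 (iv7 D175670))
theorem F326543 : act 3 n89759 = n83868 := (sb E90431 (iv3 D175671))
theorem F326544 : act 6 n172415 = n87037 := (sb E90432 (iv6 D182286))
theorem F326545 : act 5 n90544 = n83868 := (sb E90433 (iv5 D175672))
theorem F326546 : act 6 n40432 = n83868 := (sb E90434 (iv6 D175673))
theorem F326547 : act 0 n38684 = n69699 := (sb E90435 (iv1 D148716))
theorem F326548 : act 1 n38685 = n69699 := (sb E90436 (iv0 D148715))
theorem E91333 : n159638 = n83996 := (((D83996).symm.trans (sb E90437 (iv1 F251487)))).symm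
theorem E91335 : n83998 = n69694 := ((D83998).symm.trans (sb E90437 (iv2 D148707)))
theorem E91336 : n83016 = n71910 := (((F239633).symm.trans (sb E90442 (iv3 D173534)))).symm
theorem E91337 : n115139 = n76468 := (((F114610).symm.trans (sb E90443 F213354))).symm
theorem F326549 : act 3 n76374 = n62339 := (sb E90443 (iv3 D132831))
theorem E91338 : n159636 = n129649 := ((D159636).symm.trans (sb E90443 F213352))
theorem E91339 : n75680 = n69701 := ((((iv7 F193526)).symm.trans (sb E90443 (iv7 F318974)))).symm
theorem F326550 : act 3 n52614 = n83030 := (sb E90444 (iv3 D173591))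
theorem E91340 : n164508 = n83014 := (((D83014).symm.trans (sb E90446 (iv1 F259262)))).symm
theorem E91341 : n83015 = n71916 := ((D83015).symm.trans (sb E90446 (iv0 F239637)))
theorem E91342 : n164218 = n82995 := ((((iv2 F127915)).symm.trans (sb E90446 F258965))).symm
theorem F326551 : act 4 n38223 = n69699 := (sb E90447 (iv4 D148718))
theorem F326552 : act 5 n34602 = n69699 := (sb E90449 (iv5 D148719))
theorem F326553 : act 2 n173589 = n83867 := (sb E90450 (iv2 D175666))
theorem F326554 : act 7 n173589 = n83868 := (sb E90450 (iv7 F275052))
theorem F326555 : act 0 n92473 = n83030 := (sb E90451 (iv1 D173590))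
theorem F326556 : act 1 n92473 = n83871 := (sb E90451 F272034)
theorem E91344 : n113990 = n83870 := ((D113990).symm.trans (sb E90452 F272036))
theorem F326557 : act 5 n52612 = n83030 := (sb E90452 (iv5 D173592))
theorem F326558 : act 2 n148720 = n84002 := (sb E90453 F249819)
theorem F326559 : act 4 n148720 = n83060 := (sb E90453 F249820)
theorem F326560 : act 1 n148706 = n84000 := (sb E90454 F275345)
theorem E91345 : n159641 = n115129 := (((F208442).symm.trans (sb E90457 F288123))).symm
theorem F326563 : act 0 n132402 = n114034 := (sb E90460 F233501)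
theorem F326564 : act 1 n132402 = n159557 := (sb E90460 F251298)
theorem F326565 : act 2 n132402 = n159554 := (sb E90460 F251295)
theorem F326566 : act 4 n132402 = n69704 := (sb E90460 (iv4 D148728))
theorem E91346 : n159553 = n129142 := ((((iv7 F214763)).symm.trans (sb E90460 F251292))).symm
theorem F326567 : act 3 n76380 = n62664 := (sb E90461 (iv3 D133520))
theorem F326568 : act 1 n29042 = n59587 := (sb E90462 (iv0 D126965))
theorem F326569 : act 0 n60756 = n59587 := (sb E90463 (iv1 D126966))
theorem E91347 : n130989 = n64585 := (((D64585).symm.trans (sb E90464 (iv0 F214801)))).symm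
theorem E91348 : n129251 = n64587 := (((D64587).symm.trans (sb E90464 F216668))).symm
theorem F326570 : act 5 n29899 = n59587 := (sb E90465 (iv5 D126967))
theorem E91349 : n63273 = n59590 := ((D63273).symm.trans (sb E90465 F204223))
theorem E91350 : n137311 = n129253 := (((D129253).symm.trans (sb E90466 (iv6 F220466)))).symm
theorem F326571 : act 7 n60755 = n59587 := (sb E90466 (iv7 D126968))
theorem E91351 : n166225 = n59584 := ((((iv5 D126957)).symm.trans (sb E90469 F300834))).symm
theorem F326572 : act 6 n126957 = n75355 := (sb E90469 (iv6 D158211))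
theorem E91352 : n75726 = n59586 := (((D59586).symm.trans (sb E90470 F249934))).symm
theorem F326573 : act 1 n55272 = n83992 := (sb E90472 (iv0 D176046))
theorem F326574 : act 0 n151562 = n83992 := (sb E90473 (iv1 D176047))
theorem F326575 : act 7 n52829 = n83992 := (sb E90474 (iv7 D176049))
theorem F326576 : act 5 n21999 = n29989 := (sb E90476 (iv5 D63498))
theorem F326577 : act 0 n57498 = n63178 := (sb E90477 F168409)
theorem F326578 : act 2 n57498 = n29986 := (sb E90477 F95200)
theorem E91354 : n123441 = n28770 := ((D123441).symm.trans (sb E90477 F95201))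
theorem F326579 : act 6 n57498 = n28769 := (sb E90477 (iv6 D60581))
theorem E91358 : n135072 = n125111 := ((((iv3 F201003)).symm.trans (sb E90478 (iv3 F217299)))).symm
theorem E91359 : n125112 = n108465 := ((D125112).symm.trans (sb E90478 (iv4 F167700)))
theorem F326580 : act 6 n58502 = n29985 := (sb E90478 (iv6 D63485))
theorem F326581 : act 6 n85843 = n50128 := (sb E90479 (iv6 D108560))
theorem F326582 : act 3 n58835 = n46109 := (sb E90480 F152025)
theorem E91362 : n125651 = n89076 := ((D125651).symm.trans (sb E90480 F152026))
theorem E91363 : n125652 = n46107 := ((D125652).symm.trans (sb E90480 (iv7 D98633)))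
theorem F326583 : act 4 n60591 = n46077 := (sb E90481 F151939)
theorem E91364 : n128845 = n46076 := ((D128845).symm.trans (sb E90481 (iv7 D98562)))
theorem E91365 : n113465 = n106556 := ((D113465).symm.trans (sb E90482 (iv1 F163809)))
theorem E91366 : n113466 = n29322 := ((D113466).symm.trans (sb E90482 (iv0 D61883)))
theorem E91367 : n131875 = n113460 := ((((iv3 F176645)).symm.trans (sb E90482 D131875))).symm
theorem E91368 : n131877 = n113467 := (((D113467).symm.trans (sb E90482 D131877))).symm
theorem F326584 : act 7 n52376 = n106554 := (sb E90482 F211307)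
theorem F326585 : act 0 n130922 = n76338 := (sb E90483 (iv1 D159563))
theorem F326586 : act 5 n130922 = n113631 := (sb E90483 (iv5 F251319))
theorem F326587 : act 1 n130923 = n76338 := (sb E90484 (iv0 D159562))
theorem F326588 : act 0 n130926 = n90423 := (sb E90485 (iv1 F251311))
theorem F326589 : act 1 n130926 = n90422 := (sb E90485 F251312)
theorem F326590 : act 2 n130926 = n90425 := (sb E90485 F251307)
theorem F326591 : act 5 n130926 = n90415 := (sb E90485 F251309)
theorem F326592 : act 7 n130926 = n76336 := (sb E90485 (iv7 D159560))
theorem F326593 : act 3 n52508 = n29540 := (sb E90486 (iv3 D62503))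
theorem E91370 : n113728 = n60823 := ((D113728).symm.trans (sb E90486 F97450))
theorem F326594 : act 7 n52508 = n61426 := (sb E90486 F97451)
theorem F326595 : act 4 n129426 = n76338 := (sb E90487 F233561)
theorem F326596 : act 6 n129426 = n69719 := (sb E90487 (iv6 D148761))
theorem E91372 : n124727 = n115217 := (((iv2 F199562)).symm.trans (sb E90488 F218503))
theorem F326597 : act 3 n72923 = n63884 := (sb E90488 F218504)
theorem E91373 : n154048 = n63876 := ((D154048).symm.trans (sb E90488 (iv5 D135847)))
theorem F326598 : act 6 n72923 = n115213 := (sb E90488 F218505)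
theorem F326599 : act 4 n73562 = n63884 := (sb E90489 (iv4 D135871))
theorem E91374 : n63882 = n52564 := ((D63882).symm.trans (sb E90490 (iv1 D113829)))
theorem E91375 : n63883 = n52579 := ((D63883).symm.trans (sb E90490 F177114))
theorem F326600 : act 0 n63452 = n39112 := (sb E90491 (iv1 D84672))
theorem E91377 : n135021 = n120533 := ((D135021).symm.trans (sb E90491 (iv5 F301669)))
theorem F326601 : act 7 n63452 = n123431 := (sb E90491 (iv7 F301628))
theorem E91379 : n134100 = n27418 := ((((iv1 D57240)).symm.trans (sb E90492 (iv1 F216132)))).symm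
theorem E91380 : n135083 = n27500 := (((F90300).symm.trans (sb E90492 D135083))).symm
theorem E91381 : n135075 = n123028 := (((D123028).symm.trans (sb E90492 (iv3 F217300)))).symm
theorem F326602 : act 5 n57240 = n29986 := (sb E90492 (iv5 D63488))
theorem F326603 : act 1 n57493 = n63178 := (sb E90493 F167807)
theorem E91384 : n135076 = n123428 := ((((iv3 F197802)).symm.trans (sb E90493 (iv3 F217301)))).symm
theorem E91385 : n123433 = n108419 := ((D123433).symm.trans (sb E90493 (iv4 F167624)))
theorem F326604 : act 7 n57493 = n29986 := (sb E90493 (iv7 D63489))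
theorem E91386 : n177837 = n62198 := ((((iv1 F202544)).symm.trans (sb E90494 D177837))).symm
theorem E91387 : n177838 = n108417 := (((F167626).symm.trans (sb E90494 D177838))).symm
theorem F326605 : act 4 n60584 = n39112 := (sb E90494 (iv4 D84673))
theorem E91392 : n39236 = n29973 := ((((iv4 F48180)).symm.trans (sb E90495 (iv4 D84819)))).symm
theorem F326606 : act 5 n55570 = n63178 := (sb E90496 (iv5 D134486))
theorem F326607 : act 1 n33564 = n59119 := (sb E90497 (iv0 D126160))
theorem F326608 : act 1 n126161 = n72744 := (sb E90498 (iv0 D153761))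
theorem F326609 : act 2 n126161 = n72748 := (sb E90498 (iv2 F241620))
theorem F326610 : act 7 n126161 = n72746 := (sb E90498 F241621)
theorem F326611 : act 7 n126159 = n72744 := (sb E90499 (iv7 D153767))
theorem F326612 : act 2 n126163 = n72744 := (sb E90503 (iv2 D153762))
theorem E91395 : n137689 = n108548 := (((F219621).symm.trans (sb E90506 (iv4 F220862)))).symm
theorem F326613 : act 6 n136509 = n64645 := (sb E90506 (iv6 D137514))
theorem F326614 : act 6 n136510 = n64646 := (sb E90507 (iv6 D137519))
theorem F326615 : act 6 n30420 = n64176 := (sb E90509 (iv6 D136512))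
theorem F326616 : act 6 n63606 = n63223 := (sb E90511 (iv6 D134538))
theorem F326617 : act 6 n115185 = n63843 := (sb E90512 (iv6 D135775))
theorem E91396 : n135565 = n113854 := ((((iv5 F177148)).symm.trans (sb E90513 F217999))).symm
theorem E91397 : n137461 = n75131 := (((D75131).symm.trans (sb E90514 (iv5 F220660)))).symm
theorem E91398 : n178920 = n83976 := ((D178920).symm.trans (sb E90517 F272147))
theorem F326618 : act 5 n85311 = n83053 := (sb E90517 (iv5 D173660))
theorem E91399 : n178922 = n83433 := ((D178922).symm.trans (sb E90517 F272148))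
theorem F326619 : act 3 n152462 = n75905 := (sb E90518 (iv3 D158986))
theorem F326620 : act 5 n152462 = n85766 := (sb E90518 F250321)
theorem E91400 : n68662 = n63812 := (((D63812).symm.trans (sb E90519 (iv6 D146453)))).symm
theorem F326621 : act 6 n78899 = n53137 := (sb E90520 (iv6 D115166))
theorem F326622 : act 1 n92719 = n61428 := (sb E90521 (iv0 F209314))
theorem F326623 : act 4 n92719 = n61344 := (sb E90521 (iv4 D130748))
theorem F326624 : act 6 n92719 = n134716 := (sb E90521 (iv6 F216726))
theorem F326625 : act 0 n92729 = n61428 := (sb E90522 F209522)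
theorem F326626 : act 4 n92729 = n61421 := (sb E90522 (iv4 D130916))
theorem F326627 : act 6 n92729 = n133450 := (sb E90522 (iv6 F214599))
theorem F326628 : act 3 n94054 = n63832 := (sb E90523 (iv3 D135765))
theorem F326629 : act 7 n94054 = n134498 := (sb E90523 F218321)
theorem F326630 : act 5 n130696 = n69272 := (sb E90527 (iv5 D147835))
theorem F326631 : act 2 n121373 = n67043 := (sb E90529 F225893)
theorem F326632 : act 5 n121373 = n67032 := (sb E90529 (iv5 D143030))
theorem F326633 : act 6 n121373 = n69026 := (sb E90529 F324985)
theorem F326634 : act 0 n110306 = n56149 := (sb E90530 (iv1 F297397))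
theorem F326635 : act 1 n110306 = n77939 := (sb E90530 (iv0 F193211))
theorem F326636 : act 2 n110306 = n77943 := (sb E90530 F256093)
theorem F326637 : act 3 n110306 = n55901 := (sb E90530 (iv3 D121150))
theorem F326638 : act 4 n110306 = n157878 := (sb E90530 F297272)
theorem F326639 : act 6 n110306 = n77788 := (sb E90530 (iv6 F299374))
theorem F326640 : act 7 n110306 = n77944 := (sb E90530 (iv7 F256095))
theorem F326641 : act 1 n35518 = n51891 := (sb E90531 (iv0 D112482))
theorem F326642 : act 4 n27525 = n51891 := (sb E90532 (iv4 D112483))
theorem F326643 : act 7 n26744 = n51891 := (sb E90533 (iv7 D112484))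
theorem F326644 : act 0 n110301 = n77939 := (sb E90534 F297300)
theorem F326645 : act 1 n110301 = n56149 := (sb E90534 (iv0 D121572))
theorem F326646 : act 2 n110301 = n77944 := (sb E90534 (iv2 F298090))
theorem F326647 : act 3 n110301 = n78540 := (sb E90534 (iv3 F193992))
theorem F326648 : act 4 n110301 = n157877 := (sb E90534 (iv4 F248795))
theorem E91401 : n162295 = n50856 := ((((iv5 D110301)).symm.trans (sb E90534 F297301))).symm
theorem F326649 : act 6 n110301 = n77834 := (sb E90534 F297302)
theorem F326650 : act 7 n110301 = n77943 := (sb E90534 (iv7 F298415))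
theorem E91402 : n110289 = n78568 := ((D110289).symm.trans (sb E90535 F255497))
theorem F326651 : act 5 n50854 = n77943 := (sb E90535 F301040)
theorem E91403 : n110292 = n77538 := ((D110292).symm.trans (sb E90535 (iv6 D161505)))
theorem E91404 : n110293 = n50856 := ((D110293).symm.trans (sb E90535 (tr F301041 E91401)))
theorem F326652 : act 3 n35561 = n50234 := (sb E90540 (iv3 D108801))
theorem F326653 : act 3 n108803 = n77942 := (sb E90544 F256370)
theorem F326654 : act 3 n82569 = n52247 := (sb E90545 F176351)
theorem E91405 : n172458 = n52244 := ((D172458).symm.trans (sb E90545 (iv6 D113190)))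
theorem E91406 : n158331 = n125963 := (((iv7 F275034)).symm.trans (sb E90545 (iv7 F202639)))
theorem F326655 : act 3 n113196 = n83391 := (sb E90546 F273351)
theorem F326656 : act 6 n113196 = n83388 := (sb E90546 (iv6 D174471))
theorem F326657 : act 6 n110349 = n86093 := (sb E90549 (iv6 D180206))
theorem F326658 : act 4 n39853 = n59322 := (sb E90550 F203251)
theorem F326659 : act 6 n39853 = n59320 := (sb E90550 (iv6 D126445))
theorem E91407 : n159883 = n83915 := ((D159883).symm.trans (sb E90551 F272080))
theorem F326660 : act 5 n76541 = n122498 := (sb E90551 F272081)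
theorem E91408 : n159886 = n83037 := ((D159886).symm.trans (sb E90551 (iv6 D173616)))
theorem F326661 : act 3 n78867 = n50502 := (sb E90552 F169439)
theorem F326662 : act 3 n124466 = n64507 := (sb E90556 (iv3 D137250))
theorem F326663 : act 3 n35892 = n50876 := (sb E90557 (iv3 D110332))
theorem F326664 : act 5 n35892 = n51915 := (sb E90557 F170567)
theorem F326665 : act 1 n38267 = n66175 := (sb E90558 (iv0 D141092))
theorem F326666 : act 0 n38262 = n66175 := (sb E90559 (iv1 D141093))
theorem F326667 : act 2 n34655 = n66175 := (sb E90560 (iv2 D141094))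
theorem E91409 : n162750 = n66174 := ((D162750).symm.trans (sb E90561 (iv3 D141090)))
theorem F326668 : act 4 n78215 = n66175 := (sb E90561 F224083)
theorem E91410 : n178354 = n108835 := ((((iv4 F168814)).symm.trans (sb E90566 (iv4 F277917)))).symm
theorem F326669 : act 4 n51939 = n56253 := (sb E90567 F193954)
theorem F326670 : act 3 n51968 = n58179 := (sb E90568 (iv3 D124601))
theorem F326671 : act 1 n29902 = n59613 := (sb E90569 (iv0 D127033))
theorem F326672 : act 0 n63592 = n59613 := (sb E90570 (iv1 D127034))
theorem F326673 : act 2 n63663 = n59613 := (sb E90571 F203845)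
theorem E91411 : n135438 = n63932 := ((D135438).symm.trans (sb E90571 F203846))
theorem E91412 : n135440 = n59433 := ((D135440).symm.trans (sb E90571 (iv6 D126677)))
theorem E91413 : n135443 = n64377 := ((D135443).symm.trans (sb E90575 F204272))
theorem E91414 : n136722 = n135445 := (((D135445).symm.trans (sb E90575 (iv6 F219874)))).symm
theorem F326674 : act 7 n63664 = n59613 := (sb E90575 (iv7 D127036))
theorem F326675 : act 5 n126334 = n75609 := (sb E90576 F244017)
theorem F326676 : act 0 n119391 = n113161 := (sb E90577 F203122)
theorem F326677 : act 1 n119391 = n107580 := (sb E90577 (iv0 F203123))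
theorem F326678 : act 2 n119391 = n59226 := (sb E90577 F203119)
theorem F326679 : act 4 n119391 = n59216 := (sb E90577 (iv4 D126318))
theorem F326680 : act 6 n119391 = n59265 := (sb E90577 F203120)
theorem F326681 : act 7 n119391 = n59231 := (sb E90577 F203121)
theorem F326682 : act 2 n126335 = n83256 := (sb E90578 F272962)
theorem F326683 : act 5 n126335 = n83255 := (sb E90578 (iv5 D174171))
theorem F326684 : act 5 n38553 = n59226 := (sb E90580 (iv5 D126336))
theorem F326685 : act 0 n119398 = n107580 := (sb E90582 F203131)
theorem F326686 : act 1 n119398 = n113161 := (sb E90582 (iv0 F203132))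
theorem F326687 : act 2 n119398 = n59231 := (sb E90582 F203129)
theorem F326688 : act 4 n119398 = n59217 := (sb E90582 (iv4 D126320))
theorem F326689 : act 6 n119398 = n144358 := (sb E90582 (iv6 F227100))
theorem F326690 : act 7 n119398 = n59226 := (sb E90582 F203130)
theorem F326691 : act 3 n38349 = n59231 := (sb E90583 (iv3 D126340))
theorem F326692 : act 5 n33862 = n59231 := (sb E90585 (iv5 D126341))
theorem F326693 : act 3 n126342 = n83268 := (sb E90586 F244018)
theorem F326694 : act 1 n54117 = n29625 := (sb E90587 (iv0 D62651))
theorem E91415 : n117427 = n60554 := (((iv4 F183932)).symm.trans (sb E90587 (iv4 F102085)))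
theorem F326695 : act 0 n52502 = n29625 := (sb E90588 F97459)
theorem E91417 : n113708 = n60555 := ((D113708).symm.trans (sb E90588 F97458))
theorem F326696 : act 6 n52502 = n29540 := (sb E90588 (iv6 D62505))
theorem F326697 : act 2 n35921 = n29625 := (sb E90589 F83869)
theorem F326698 : act 4 n35921 = n25777 := (sb E90589 F83870)
theorem F326699 : act 6 n35921 = n25776 := (sb E90589 (iv6 D53139))
theorem F326700 : act 3 n131029 = n64816 := (sb E90592 F220945)
theorem F326701 : act 5 n131029 = n135945 := (sb E90592 F220946)
theorem F326702 : act 5 n63921 = n61467 := (sb E90593 (iv5 D131032))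
theorem F326703 : act 3 n130726 = n64739 := (sb E90594 F220952)
theorem F326704 : act 0 n130721 = n136833 := (sb E90595 (iv1 F220959))
theorem F326705 : act 1 n130721 = n136832 := (sb E90595 F220960)
theorem F326706 : act 2 n130721 = n136835 := (sb E90595 F220956)
theorem F326707 : act 7 n130721 = n64739 := (sb E90595 (iv7 D137732))
theorem E91419 : n132277 = n59551 := ((D132277).symm.trans (sb E90596 F204145))
theorem F326708 : act 6 n62058 = n59549 := (sb E90596 (iv6 D126891))
theorem F326709 : act 1 n47807 = n82949 := (sb E90597 (iv0 D173327))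
theorem F326710 : act 0 n48385 = n82949 := (sb E90598 (iv1 D173328))
theorem F326711 : act 2 n95487 = n82949 := (sb E90599 (iv2 D173329))
theorem F326712 : act 3 n95487 = n83472 := (sb E90599 F271760)
theorem F326713 : act 6 n95487 = n84258 := (sb E90599 F271761)
theorem F326714 : act 3 n95616 = n82950 := (sb E90600 F271762)
theorem F326715 : act 5 n95616 = n82949 := (sb E90600 (iv5 D173330))
theorem F326716 : act 3 n95484 = n82951 := (sb E90601 F271763)
theorem F326717 : act 7 n95484 = n82949 := (sb E90601 (iv7 D173331))
theorem F326718 : act 0 n95488 = n163265 := (sb E90602 (iv1 F276072))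
theorem F326719 : act 1 n95488 = n163264 := (sb E90602 F276070)
theorem F326720 : act 2 n95488 = n84248 := (sb E90602 (iv2 D176709))
theorem F326721 : act 4 n95488 = n84258 := (sb E90602 F276068)
theorem F326722 : act 7 n95488 = n163266 := (sb E90602 F276069)
theorem F326723 : act 3 n95677 = n77213 := (sb E90603 (iv3 D160909))
theorem F326724 : act 5 n95677 = n84248 := (sb E90603 F254105)
theorem F326725 : act 7 n95677 = n163267 := (sb E90603 (iv7 F257575))
theorem F326726 : act 3 n45524 = n84197 := (sb E90607 F275969)
theorem F326727 : act 0 n95485 = n109255 := (sb E90608 (iv1 F173989))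
theorem F326728 : act 1 n95485 = n109254 := (sb E90608 F173987)
theorem E91420 : n96283 = n51637 := (((iv2 F148107)).symm.trans (sb E90608 (iv2 D111962)))
theorem F326729 : act 3 n95485 = n51657 := (sb E90608 F173984)
theorem F326730 : act 4 n95485 = n109521 := (sb E90608 F173985)
theorem F326731 : act 7 n95485 = n109256 := (sb E90608 F173986)
theorem F326732 : act 0 n96112 = n84197 := (sb E90609 F151326)
theorem F326733 : act 1 n96112 = n84218 := (sb E90609 F151327)
theorem F326734 : act 5 n96112 = n45838 := (sb E90609 (iv5 D98130))
theorem E91421 : n121671 = n44859 := ((D121671).symm.trans (sb E90610 F147763))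
theorem F326735 : act 5 n56199 = n44854 := (sb E90610 (iv5 D96118))
theorem E91422 : n166259 = n41988 := (((iv3 F261758)).symm.trans (sb E90611 (iv3 D89873)))
theorem F326736 : act 7 n79827 = n44854 := (sb E90611 F137965)
theorem F326737 : act 6 n45367 = n84218 := (sb E90612 (iv6 D176640))
theorem E91423 : n102159 = n84036 := ((D102159).symm.trans (sb E90613 (iv1 D176193)))
theorem E91424 : n102160 = n84245 := ((D102160).symm.trans (sb E90613 F275419))
theorem F326738 : act 4 n47432 = n84197 := (sb E90613 F275421)
theorem E91425 : n84214 = n22785 := ((((iv5 D47432)).symm.trans (sb E90613 F275420))).symm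
theorem F326739 : act 6 n87946 = n84197 := (sb E90614 (iv6 D176608))
theorem F326740 : act 0 n47370 = n56199 := (sb E90615 F299342)
theorem E91426 : n101970 = n79802 := ((D101970).symm.trans (sb E90615 (iv0 F300479)))
theorem F326741 : act 2 n47370 = n38847 := (sb E90615 F113601)
theorem E91427 : n158765 = n44603 := (((F74563).symm.trans (sb E90615 D158765))).symm
theorem E91428 : n101971 = n34634 := ((D101971).symm.trans (sb E90615 (iv4 D75736)))
theorem E91429 : n101972 = n78141 := ((D101972).symm.trans (sb E90615 F299343))
theorem F326742 : act 7 n47370 = n38843 := (sb E90615 F113602)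
theorem E91430 : n172052 = n99775 := ((((iv1 F153599)).symm.trans (sb E90616 (iv1 F270128)))).symm
theorem E91431 : n99774 = n38703 := ((F153598).symm.trans (sb E90616 (iv0 D84033)))
theorem E91432 : n172049 = n22756 := (((F74561).symm.trans (sb E90616 F270117))).symm
theorem E91434 : n101964 = n79813 := ((D101964).symm.trans (sb E90616 F303531))
theorem E91436 : n158755 = n99772 := ((((iv7 F153593)).symm.trans (sb E90616 (iv7 F249937)))).symm
theorem F326743 : act 3 n44946 = n38843 := (sb E90617 (iv3 D84226))
theorem E91440 : n174605 = n96279 := (((D96279).symm.trans (sb E90617 F303536))).symm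
theorem E91441 : n176654 = n96280 := (((D96280).symm.trans (sb E90617 D176654))).symm
theorem E91443 : n99776 = n79812 := ((D99776).symm.trans (sb E90618 F303532))
theorem F326744 : act 0 n117457 = n129186 := (sb E90619 F211947)
theorem F326745 : act 3 n117457 = n62025 := (sb E90619 F211276)
theorem F326746 : act 5 n117457 = n67507 := (sb E90619 F211278)
theorem F326747 : act 7 n117457 = n61877 := (sb E90619 (iv7 D131864))
theorem F326748 : act 1 n116863 = n65576 := (sb E90620 (iv0 D139713))
theorem F326749 : act 0 n31757 = n65576 := (sb E90621 (iv1 D139714))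
theorem F326750 : act 2 n109674 = n68239 := (sb E90626 F228587)
theorem F326751 : act 3 n34419 = n59274 := (sb E90633 F174687)
theorem F326752 : act 3 n40560 = n59156 := (sb E90637 F174675)
theorem F326753 : act 3 n34422 = n51989 := (sb E90641 F169432)
theorem F326754 : act 3 n77263 = n51993 := (sb E90645 F169436)
theorem F326755 : act 3 n55357 = n51625 := (sb E90649 (iv3 D111944))
theorem F326756 : act 3 n39879 = n51391 := (sb E90653 (iv3 D111427))
theorem E91445 : n112519 = n50808 := ((D112519).symm.trans (sb E90656 (tr (iv6 F174480) E90876)))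
theorem F326757 : act 3 n55346 = n50732 := (sb E90657 (iv3 D109990))
theorem F326758 : act 0 n98406 = n108421 := (sb E90658 (iv1 F167769))
theorem F326759 : act 1 n98406 = n108420 := (sb E90658 F167770)
theorem F326760 : act 3 n98406 = n126457 := (sb E90658 (iv3 F203299))
theorem F326761 : act 5 n98406 = n110831 := (sb E90658 (iv5 F171665))
theorem F326762 : act 7 n98406 = n50108 := (sb E90658 (iv7 D108515))
theorem F326763 : act 0 n98454 = n135207 := (sb E90659 F224318)
theorem F326765 : act 4 n98454 = n66280 := (sb E90659 (iv4 D141298))
theorem F326766 : act 5 n47566 = n61841 := (sb E90660 (iv5 D131794))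
theorem F326767 : act 4 n51928 = n79270 := (sb E90666 F193703)
theorem F326768 : act 5 n63577 = n35832 := (sb E90667 (iv5 D78677))
theorem F326769 : act 1 n51454 = n35832 := (sb E90668 F119824)
theorem E91451 : n111577 = n57943 := (((iv3 F173114)).symm.trans (sb E90669 (iv3 D124292)))
theorem F326770 : act 3 n46083 = n61841 := (sb E90670 F211163)
theorem E91452 : n96161 = n61863 := (((iv4 F147844)).symm.trans (sb E90670 F211164))
theorem E91453 : n98580 = n61839 := ((D98580).symm.trans (sb E90670 (iv6 D131792)))
theorem E91454 : n57488 = n29547 := ((((iv1 F47398)).symm.trans (sb E90671 (iv1 D123422)))).symm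
theorem E91455 : n102553 = n61840 := (((D61840).symm.trans (sb E90671 F306413))).symm
theorem F326771 : act 5 n46031 = n63015 := (sb E90672 (iv5 D134154))
theorem F326772 : act 5 n46034 = n63341 := (sb E90673 (iv5 D134786))
theorem E91456 : n87127 = n51395 := (((D51395).symm.trans (sb E90675 (iv4 D182503)))).symm
theorem F326773 : act 3 n111280 = n157901 := (sb E90676 F280737)
theorem F326774 : act 3 n109097 = n86159 := (sb E90679 F280743)
theorem F326775 : act 4 n109097 = n90229 := (sb E90679 (iv4 F294983))
theorem F326776 : act 3 n111428 = n86160 := (sb E90680 F280767)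
theorem E91457 : n186307 = n51584 := (((D51584).symm.trans (sb E90682 (iv4 F289081)))).symm
theorem E91458 : n180330 = n113598 := (((D113598).symm.trans (sb E90684 (iv3 F280625)))).symm
theorem F326777 : act 3 n105192 = n165805 := (sb E90685 F261213)
theorem E91459 : n134145 = n87223 := ((D134145).symm.trans (sb E90688 (iv5 D182717)))
theorem E91460 : n164129 = n111854 := (((D111854).symm.trans (sb E90690 F261358))).symm
theorem E91461 : n176750 = n111855 := (((D111855).symm.trans (sb E90690 D176750))).symm
theorem E91462 : n176751 = n111856 := (((D111856).symm.trans (sb E90690 D176751))).symm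
theorem F326779 : act 0 n108595 = n86175 := (sb E90691 (iv1 D180433))
theorem F326780 : act 3 n108595 = n163500 := (sb E90691 (iv3 F280803))
theorem F326781 : act 5 n108595 = n157819 := (sb E90691 F280802)
theorem F326782 : act 0 n78575 = n110364 := (sb E90692 (iv1 F176298))
theorem F326783 : act 4 n78575 = n52230 := (sb E90692 F176296)
theorem E91463 : n163512 = n110601 := ((D163512).symm.trans (sb E90692 F176297))
theorem E91464 : n111418 = n86176 := ((D111418).symm.trans (sb E90693 (iv3 D180438)))
theorem E91465 : n157954 = n110454 := ((((iv7 F170838)).symm.trans (sb E90693 F280829))).symm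
theorem F326784 : act 3 n112547 = n86178 := (sb E90694 F280812)
theorem F326785 : act 6 n112547 = n86175 := (sb E90694 (iv6 D180435))
theorem E91466 : n162421 = n49076 := ((D162421).symm.trans (sb E90695 (iv0 D106202)))
theorem E91467 : n162422 = n109011 := ((D162422).symm.trans (sb E90695 F171889))
theorem E91468 : n162423 = n108644 := ((D162423).symm.trans (sb E90695 F168553))
theorem E91469 : n162425 = n144359 := ((D162425).symm.trans (sb E90695 (iv6 F227106)))
theorem F326786 : act 7 n78008 = n59264 := (sb E90695 (iv7 F171886))
theorem E91470 : n113378 = n79980 := ((((iv1 F257642)).symm.trans (sb E90696 (iv1 F176578)))).symm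
theorem F326787 : act 2 n78009 = n59260 := (sb E90696 (iv2 F173084))
theorem E91471 : n162426 = n144362 := ((D162426).symm.trans (sb E90696 (iv6 F227108)))
theorem F326788 : act 7 n78009 = n59265 := (sb E90696 F173086)
theorem F326789 : act 6 n67642 = n35586 := (sb E90697 (iv6 D78011))
theorem F326790 : act 3 n58890 = n35585 := (sb E90698 (iv3 D78003))
theorem F326791 : act 2 n78004 = n59265 := (sb E90699 (iv2 F173081))
theorem E91480 : n162409 = n59226 := ((D162409).symm.trans (sb E90699 (iv6 F173082)))
theorem F326792 : act 7 n78004 = n59260 := (sb E90699 (iv7 F173083))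
theorem F326793 : act 6 n28122 = n35585 := (sb E90700 (iv6 D78006))
theorem F326794 : act 3 n112226 = n86285 := (sb E90702 (iv3 F256599))
theorem F326795 : act 3 n111556 = n124293 := (sb E90703 F258057)
theorem F326796 : act 5 n111556 = n163336 := (sb E90703 (iv5 F258061))
theorem E91485 : n113375 = n35816 := (((iv3 F176571)).symm.trans (sb E90704 (iv3 D78629)))
theorem E91486 : n121162 = n113377 := (((D113377).symm.trans (sb E90704 (iv5 F250814)))).symm
theorem F326797 : act 0 n126365 = n80016 := (sb E90705 (iv1 D166716))
theorem F326798 : act 1 n126365 = n158895 := (sb E90705 F262419)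
theorem F326799 : act 2 n126365 = n86356 := (sb E90705 F262423)
theorem F326800 : act 4 n126365 = n86285 := (sb E90705 F262424)
theorem F326801 : act 5 n126365 = n166630 := (sb E90705 F262421)
theorem F326802 : act 7 n126365 = n160971 := (sb E90705 F262420)
theorem E91488 : n113150 = n77255 := ((((iv0 F254200)).symm.trans (sb E90706 F203194))).symm
theorem F326803 : act 5 n120985 = n59260 := (sb E90706 (iv5 D126366))
theorem E91489 : n109015 = n86352 := ((D109015).symm.trans (sb E90707 (iv3 D180797)))
theorem F326804 : act 3 n39971 = n59265 := (sb E90708 (iv3 D126368))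
theorem F326805 : act 5 n120990 = n59265 := (sb E90709 (iv5 D126369))
theorem E91490 : n86354 = n58055 := (((F188087).symm.trans (sb E90710 F281427))).symm
theorem E91491 : n113398 = n79981 := (((iv3 F176592)).symm.trans (sb E90712 (iv3 D166641)))
theorem F326806 : act 3 n126186 = n87312 := (sb E90714 F284450)
theorem F326807 : act 0 n124587 = n113570 := (sb E90715 (iv1 F202935))
theorem F326808 : act 2 n124587 = n113405 := (sb E90715 F202931)
theorem F326809 : act 4 n124587 = n59157 := (sb E90715 F202932)
theorem F326810 : act 5 n124587 = n113323 := (sb E90715 F202934)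
theorem F326811 : act 6 n124587 = n59156 := (sb E90715 (iv6 D126187))
theorem E91492 : n180814 = n125791 := (((D125791).symm.trans (sb E90716 (iv3 F281472)))).symm
theorem E91493 : n134082 = n59274 := (((F168298).symm.trans (sb E90717 (iv0 F216098)))).symm
theorem E91494 : n113214 = n61943 := ((D113214).symm.trans (sb E90717 (iv5 D132002)))
theorem F326812 : act 3 n126370 = n75162 := (sb E90719 F248629)
theorem F326813 : act 1 n115450 = n53265 := (sb E90720 (iv0 D115473))
theorem F326814 : act 2 n115474 = n126833 := (sb E90721 (iv2 F218825))
theorem F326815 : act 3 n115474 = n137355 := (sb E90721 (iv3 F220546))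
theorem F326816 : act 4 n115474 = n115587 := (sb E90721 (iv4 F181930))
theorem F326817 : act 7 n115474 = n126828 := (sb E90721 (iv7 F218816))
theorem F326818 : act 0 n107180 = n126828 := (sb E90722 (iv1 F218826))
theorem F326819 : act 1 n107180 = n126833 := (sb E90722 F204080)
theorem F326820 : act 3 n25995 = n53265 := (sb E90723 F179765)
theorem F326821 : act 3 n115475 = n53723 := (sb E90724 F181931)
theorem F326822 : act 0 n115476 = n126833 := (sb E90726 F204079)
theorem F326823 : act 1 n115476 = n126828 := (sb E90726 (iv0 F204076))
theorem F326824 : act 3 n115476 = n53725 := (sb E90726 F181933)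
theorem F326825 : act 4 n115476 = n59599 := (sb E90726 F181934)
theorem F326826 : act 0 n126324 = n84898 := (sb E90727 F324677)
theorem F326827 : act 3 n126324 = n59601 := (sb E90727 F204246)
theorem F326828 : act 5 n126324 = n62152 := (sb E90727 F324678)
theorem F326829 : act 6 n126324 = n59599 := (sb E90727 (iv6 D126993))
theorem F326830 : act 3 n35311 = n51817 := (sb E90731 (iv3 D112324))
theorem F326831 : act 3 n34445 = n50510 := (sb E90735 (iv3 D109498))
theorem E91495 : n113278 = n60515 := (((iv5 F176476)).symm.trans (sb E90736 (iv5 D128670)))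
theorem E91496 : n129050 = n59140 := ((((iv6 F93321)).symm.trans (sb E90736 (iv6 F207289)))).symm
theorem E91497 : n125845 = n61947 := (((iv5 F202341)).symm.trans (sb E90737 (iv5 D132005)))
theorem F326832 : act 3 n108613 = n78769 := (sb E90747 (iv3 F256418))
theorem F326833 : act 3 n108802 = n77941 := (sb E90752 F256369)
theorem E91498 : n180392 = n111426 := (((D111426).symm.trans (sb E90753 (iv3 F280725)))).symm
theorem F326834 : act 4 n50342 = n46043 := (sb E90754 (iv4 D98439))
theorem E91499 : n157871 = n111275 := ((((iv3 F172602)).symm.trans (sb E90760 (iv3 F256334)))).symm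
theorem E91500 : n111278 = n88934 := ((D111278).symm.trans (sb E90760 (iv5 F295143)))
theorem F326835 : act 3 n109499 = n75227 := (sb E90765 F248814)
theorem F326836 : act 4 n109499 = n88926 := (sb E90765 (iv4 F295256))
theorem F326837 : act 3 n112229 = n75288 := (sb E90766 F248923)
theorem F326838 : act 3 n112230 = n84307 := (sb E90767 (iv3 D176846))
theorem F326839 : act 0 n112224 = n75287 := (sb E90769 (iv1 F249001))
theorem F326840 : act 1 n112224 = n75286 := (sb E90769 (iv0 D158046))
theorem F326841 : act 2 n112224 = n75290 := (sb E90769 (iv2 F248998))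
theorem F326842 : act 7 n112224 = n75288 := (sb E90769 F249000)
theorem E91501 : n170850 = n109010 := (((F174602).symm.trans (sb E90771 F276166))).symm
theorem F326843 : act 0 n112259 = n76209 := (sb E90774 (iv1 D159305))
theorem F326844 : act 1 n112259 = n76214 := (sb E90774 F250782)
theorem F326845 : act 2 n112259 = n86284 := (sb E90774 (iv2 F256537))
theorem F326846 : act 4 n112259 = n160971 := (sb E90774 (iv4 F254269))
theorem F326847 : act 7 n112259 = n86285 := (sb E90774 F256565)
theorem F326848 : act 3 n112262 = n102905 := (sb E90779 F276175)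
theorem F326849 : act 3 n112255 = n84285 := (sb E90780 F276176)
theorem F326850 : act 0 n94339 = n111853 := (sb E90781 (iv1 F174611))
theorem F326851 : act 1 n94339 = n111855 := (sb E90781 F174612)
theorem F326852 : act 5 n94339 = n51780 := (sb E90781 F174610)
theorem F326853 : act 7 n94339 = n51779 := (sb E90781 (iv7 D112263))
theorem E91502 : n87107 = n29807 := ((((iv4 F47969)).symm.trans (sb E90784 F255081))).symm
theorem E91503 : n122325 = n109004 := ((((iv3 F169008)).symm.trans (sb E90787 (iv3 F255084)))).symm
theorem E91504 : n109020 = n93768 := (((iv5 F169013)).symm.trans (sb E90787 F255083))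
theorem E91505 : n180782 = n109025 := (((D109025).symm.trans (sb E90790 (iv3 F281403)))).symm
theorem F326854 : act 3 n112325 = n77347 := (sb E90793 F254743)
theorem F326855 : act 4 n112325 = n93138 := (sb E90793 (iv4 F295153))
theorem F326856 : act 1 n55237 = n67015 := (sb E90794 (iv0 D142988))
theorem F326857 : act 0 n105796 = n67015 := (sb E90795 (iv1 D142989))
theorem F326858 : act 2 n121374 = n67015 := (sb E90796 F225270)
theorem F326859 : act 3 n121374 = n67032 := (sb E90796 F225271)
theorem F326860 : act 4 n121374 = n141385 := (sb E90796 F225272)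
theorem F326861 : act 6 n121374 = n66753 := (sb E90796 (iv6 D142351))
theorem F326862 : act 3 n142986 = n137956 := (sb E90797 (iv3 F252302))
theorem F326863 : act 5 n142986 = n137955 := (sb E90797 F252301)
theorem F326864 : act 2 n141766 = n120038 := (sb E90799 (iv2 F319488))
theorem F326865 : act 5 n141766 = n76585 := (sb E90799 F252305)
theorem F326866 : act 3 n67206 = n67019 := (sb E90800 F220526)
theorem E91506 : n143481 = n64557 := ((D143481).symm.trans (sb E90800 (iv6 D137339)))
theorem F326867 : act 0 n63792 = n52566 := (sb E90801 (iv1 D113835))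
theorem F326868 : act 1 n63792 = n52569 := (sb E90801 F177130)
theorem E91507 : n135676 = n68410 := (((iv4 F218163)).symm.trans (sb E90801 F177131))
theorem F326869 : act 2 n64609 = n52569 := (sb E90802 F177097)
theorem E91508 : n137460 = n52562 := ((D137460).symm.trans (sb E90802 (iv4 D113821)))
theorem F326870 : act 7 n64609 = n52566 := (sb E90802 F177098)
theorem F326871 : act 0 n113846 = n116120 := (sb E90803 F217475)
theorem F326872 : act 1 n113846 = n107212 := (sb E90803 F217476)
theorem F326873 : act 2 n113846 = n134267 := (sb E90803 F217472)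
theorem F326874 : act 5 n113846 = n133326 := (sb E90803 F217474)
theorem F326875 : act 6 n113846 = n63577 := (sb E90803 (iv6 D135265))
theorem F326876 : act 7 n113846 = n135482 := (sb E90803 (iv7 F217859))
theorem E91509 : n135667 = n12129 := ((((iv1 D25519)).symm.trans (sb E90804 F218154))).symm
theorem E91510 : n63578 = n52570 := (((D52570).symm.trans (sb E90804 (iv6 D135268)))).symm
theorem E91511 : n135574 = n52561 := (((F83075).symm.trans (sb E90804 (iv7 F218022)))).symm
theorem E91512 : n136363 = n54173 := ((D136363).symm.trans (sb E90805 F177142))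
theorem F326877 : act 5 n64110 = n52569 := (sb E90805 (iv5 D113847))
theorem F326878 : act 6 n30019 = n52569 := (sb E90806 (iv6 D113848))
theorem F326879 : act 2 n63749 = n52566 := (sb E90807 F177091)
theorem F326880 : act 7 n63749 = n52569 := (sb E90807 F177092)
theorem F326881 : act 0 n113836 = n107218 := (sb E90808 F209125)
theorem F326882 : act 1 n113836 = n106807 := (sb E90808 (iv0 F209126))
theorem F326883 : act 2 n113836 = n133351 := (sb E90808 (iv2 F214399))
theorem F326884 : act 5 n113836 = n61246 := (sb E90808 (iv5 D130538))
theorem F326885 : act 6 n113836 = n63552 := (sb E90808 F209123)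
theorem F326886 : act 7 n113836 = n106778 := (sb E90808 F209124)
theorem E91513 : n63553 = n52567 := (((D52567).symm.trans (sb E90809 (iv6 D135239)))).symm
theorem F326887 : act 5 n64109 = n52566 := (sb E90810 (iv5 D113837))
theorem F326888 : act 6 n30007 = n52566 := (sb E90811 (iv6 D113838))
theorem F326889 : act 4 n54111 = n30404 := (sb E90812 (iv4 D64610))
theorem E91516 : n117419 = n115489 := ((D117419).symm.trans (sb E90812 (iv6 F179786)))
theorem E91517 : n128870 = n113824 := ((((iv4 F177107)).symm.trans (sb E90813 F217462))).symm
theorem E91518 : n144789 = n63572 := ((D144789).symm.trans (sb E90813 (iv6 D135259)))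
theorem E91519 : n144790 = n63544 := ((D144790).symm.trans (sb E90814 (iv6 D135229)))
theorem E91520 : n137474 = n90494 := ((((iv3 F139266)).symm.trans (sb E90815 D137474))).symm
theorem F326890 : act 4 n54112 = n30409 := (sb E90815 (iv4 D64620))
theorem E91522 : n117421 = n63681 := ((D117421).symm.trans (sb E90815 (iv6 F101995)))
theorem F326891 : act 1 n31227 = n66866 := (sb E90816 (iv0 D142646))
theorem F326892 : act 0 n117373 = n66866 := (sb E90817 (iv1 D142647))
theorem F326893 : act 7 n142648 = n67082 := (sb E90818 (iv7 D143155))
theorem F326894 : act 1 n142650 = n143533 := (sb E90821 (iv0 F226240))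
theorem F326895 : act 0 n101662 = n149520 := (sb E90823 (iv1 F237105))
theorem E91523 : n175011 = n149519 := (((iv0 F273918)).symm.trans (sb E90823 F237103))
theorem F326896 : act 2 n101662 = n70978 := (sb E90823 (iv2 D150583))
theorem F326897 : act 3 n101662 = n155619 := (sb E90823 (iv3 F244652))
theorem F326898 : act 5 n101662 = n155619 := (sb E90823 (iv5 F244653))
theorem F326899 : act 7 n101662 = n149521 := (sb E90823 F237102)
theorem E91524 : n136046 = n133257 := ((D136046).symm.trans (sb E90824 F214215))
theorem E91525 : n136047 = n134175 := ((D136047).symm.trans (sb E90824 (iv0 F216220)))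
theorem F326900 : act 4 n63969 = n60754 := (sb E90824 (iv4 D129246))
theorem E91526 : n136049 = n130757 := ((D136049).symm.trans (sb E90824 (iv7 F216670)))
theorem E91527 : n137736 = n130718 := ((D137736).symm.trans (sb E90825 (iv1 F209286)))
theorem E91528 : n137737 = n130717 := ((D137737).symm.trans (sb E90825 F209282))
theorem F326901 : act 2 n64741 = n60767 := (sb E90825 F207485)
theorem F326902 : act 4 n64741 = n60766 := (sb E90825 (iv4 D129284))
theorem E91529 : n137738 = n135118 := ((D137738).symm.trans (sb E90825 (iv5 F217336)))
theorem E91530 : n137739 = n130719 := ((D137739).symm.trans (sb E90825 (iv7 F209284)))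
theorem E91531 : n137733 = n134201 := (((D134201).symm.trans (sb E90828 (iv3 F220961)))).symm
theorem E91532 : n134202 = n64312 := ((D134202).symm.trans (sb E90828 (iv5 D136795)))
theorem F326903 : act 5 n30293 = n53524 := (sb E90829 (iv5 D116128))
theorem F326904 : act 6 n129286 = n136693 := (sb E90831 F220016)
theorem F326905 : act 6 n129288 = n64318 := (sb E90833 F220017)
theorem F326906 : act 4 n116989 = n169899 := (sb E90837 (iv4 F267324))
theorem E91533 : n169897 = n126305 := ((D169897).symm.trans (sb E90838 F203079))
theorem F326907 : act 4 n81499 = n58906 := (sb E90838 F202306)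
theorem F326908 : act 7 n81499 = n126177 := (sb E90838 (iv7 F202906))
theorem F326909 : act 0 n53607 = n31330 := (sb E90839 (iv1 D67402))
theorem F326910 : act 0 n25416 = n35832 := (sb E90841 (iv1 F119828))
theorem F326911 : act 0 n51451 = n78009 := (sb E90842 F256608)
theorem F326912 : act 1 n51451 = n78004 := (sb E90842 (iv0 D162406))
theorem E91541 : n160450 = n111551 := ((((iv3 F173078)).symm.trans (sb E90842 F256605))).symm
theorem E91542 : n166746 = n111555 := (((D111555).symm.trans (sb E90842 (iv5 F262480)))).symm
theorem E91543 : n111574 = n57945 := ((D111574).symm.trans (sb E90843 (iv1 F115546)))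
theorem E91544 : n111575 = n35142 := ((D111575).symm.trans (sb E90843 (iv0 D76910)))
theorem E91545 : n111569 = n57944 := (((iv2 F173110)).symm.trans (sb E90843 F257946))
theorem E91546 : n160451 = n111576 := (((D111576).symm.trans (sb E90843 D160451))).symm
theorem F326913 : act 1 n51725 = n50873 := (sb E90844 (iv0 D110326))
theorem E91548 : n180177 = n144362 := (((D144362).symm.trans (sb E90846 (iv4 F280545)))).symm
theorem F326914 : act 4 n110351 = n86093 := (sb E90847 (iv4 D180204))
theorem F326915 : act 3 n109869 = n158026 := (sb E90849 F262356)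
theorem F326916 : act 3 n109912 = n80005 := (sb E90852 F262362)
theorem F326917 : act 1 n45851 = n25180 := (sb E90854 (iv0 D51889))
theorem F326918 : act 3 n45851 = n112473 := (sb E90854 D112473)
theorem F326919 : act 0 n51758 = n25180 := (sb E90855 (iv1 D51890))
theorem F326920 : act 3 n109699 = n83292 := (sb E90858 F271615)
theorem F326921 : act 3 n109747 = n82914 := (sb E90859 F271617)
theorem F326922 : act 0 n75307 = n51575 := (sb E90860 (iv1 F173523))
theorem F326923 : act 4 n75307 = n51548 := (sb E90860 F173521)
theorem F326924 : act 7 n50448 = n83471 := (sb E90861 (iv7 F273544))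
theorem F326925 : act 2 n50549 = n83471 := (sb E90866 F273545)
theorem F326926 : act 4 n52053 = n83471 := (sb E90867 (iv4 D174693))
theorem F326927 : act 6 n112000 = n83471 := (sb E90868 (iv6 D174695))
theorem F326928 : act 2 n75305 = n51575 := (sb E90869 (iv2 F173518))
theorem F326929 : act 4 n75305 = n125579 := (sb E90869 F201999)
theorem E91558 : n158109 = n112260 := ((D158109).symm.trans (sb E90869 (iv5 F174607)))
theorem F326930 : act 4 n75306 = n50928 := (sb E90870 (iv4 D110446))
theorem E91559 : n158114 = n112261 := ((D158114).symm.trans (sb E90870 (iv5 F174603)))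
theorem E91560 : n158115 = n109260 := ((D158115).symm.trans (sb E90870 F170814))
theorem F326931 : act 7 n75306 = n51575 := (sb E90870 F170815)
theorem F326932 : act 1 n50628 = n51915 := (sb E90872 (iv0 D112528))
theorem F326933 : act 2 n38844 = n51915 := (sb E90873 (iv2 D112530))
theorem F326934 : act 2 n112524 = n84228 := (sb E90874 F258679)
theorem F326935 : act 6 n112524 = n82414 := (sb E90874 F258680)
theorem F326936 : act 3 n58037 = n51747 := (sb E90875 (iv3 D112202))
theorem F326937 : act 3 n58098 = n58993 := (sb E90879 (iv3 D125987))
theorem F326938 : act 3 n125957 = n124492 := (sb E90887 (iv3 F256239))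
theorem F326939 : act 3 n38986 = n58883 := (sb E90893 F169795)
theorem F326940 : act 3 n125747 = n84517 := (sb E90894 F276774)
theorem F326941 : act 3 n125748 = n84518 := (sb E90895 F276775)
theorem F326942 : act 7 n125748 = n124587 := (sb E90895 (iv7 F276777))
theorem F326943 : act 6 n61130 = n62383 := (sb E90899 (iv6 D132937))
theorem F326944 : act 0 n115145 = n59364 := (sb E90900 (iv1 D126533))
theorem F326945 : act 1 n115145 = n126614 := (sb E90900 F203663)
theorem F326946 : act 0 n115140 = n126614 := (sb E90901 (iv1 F203664))
theorem F326947 : act 1 n115140 = n59364 := (sb E90901 (iv0 D126532))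
theorem F326948 : act 5 n108420 = n78008 := (sb E90905 (iv5 D162424))
theorem E91561 : n106780 = n78657 := ((F207842).symm.trans (sb E90908 (iv4 D163715)))
theorem F326949 : act 3 n110393 = n79565 := (sb E90910 (iv3 F304720))
theorem F326950 : act 6 n110393 = n79270 := (sb E90910 F303796)
theorem E91562 : n82585 = n51022 := (((F169523).symm.trans (sb E90911 F324408))).symm
theorem F326951 : act 5 n109578 = n82584 := (sb E90911 F324409)
theorem E91563 : n112743 = n45947 := (((iv3 F175523)).symm.trans (sb E90912 F151633))
theorem E91564 : n112745 = n45946 := ((D112745).symm.trans (sb E90912 (iv5 D98260)))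
theorem F326952 : act 3 n85135 = n50994 := (sb E90913 F171159)
theorem E91565 : n178694 = n50992 := (((iv6 F278512)).symm.trans (sb E90913 (iv6 D110591)))
theorem F326953 : act 2 n85130 = n51024 := (sb E90914 F171162)
theorem F326954 : act 5 n85130 = n50994 := (sb E90914 (iv5 D110593))
theorem F326955 : act 0 n110657 = n61546 := (sb E90917 F186368)
theorem F326956 : act 1 n110657 = n69502 := (sb E90917 (iv0 F317236))
theorem F326957 : act 2 n110657 = n54588 := (sb E90917 F186365)
theorem F326958 : act 3 n110657 = n72354 := (sb E90917 F186366)
theorem F326959 : act 5 n110657 = n55624 := (sb E90917 F186367)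
theorem F326960 : act 6 n110657 = n54563 := (sb E90917 (iv6 D118480))
theorem F326961 : act 7 n110657 = n69515 := (sb E90917 F319521)
theorem E91566 : n173900 = n51021 := ((D173900).symm.trans (sb E90918 (iv5 D110651)))
theorem F326962 : act 6 n83160 = n51024 := (sb E90918 F171257)
theorem F326963 : act 5 n61015 = n51025 := (sb E90919 F171258)
theorem F326964 : act 7 n61015 = n51024 := (sb E90919 (iv7 D110658))
theorem F326965 : act 1 n20336 = n24602 := (sb E90920 (iv0 D50490))
theorem F326966 : act 0 n38853 = n24602 := (sb E90921 (iv1 D50491))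
theorem F326967 : act 0 n51892 = n98157 := (sb E90922 (iv1 F297177))
theorem F326968 : act 1 n51892 = n35307 := (sb E90922 (iv0 F297078))
theorem F326969 : act 2 n51892 = n76803 := (sb E90922 (iv2 F115290))
theorem F326970 : act 3 n51892 = n44509 := (sb E90922 F87585)
theorem F326971 : act 4 n51892 = n57939 := (sb E90922 (iv4 F91661))
theorem F326972 : act 5 n51892 = n26744 := (sb E90922 (iv5 D55343))
theorem F326973 : act 2 n76888 = n50801 := (sb E90923 F170265)
theorem F326974 : act 4 n76888 = n50789 := (sb E90923 F170266)
theorem F326975 : act 6 n76888 = n50787 := (sb E90923 (iv6 D110124))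
theorem F326976 : act 0 n36537 = n50811 := (sb E90924 (iv1 F170278))
theorem F326977 : act 1 n36537 = n50789 := (sb E90924 (iv0 D110129))
theorem F326978 : act 0 n77862 = n50789 := (sb E90925 (iv1 D110130))
theorem F326979 : act 1 n77862 = n50811 := (sb E90925 F170273)
theorem F326980 : act 1 n41378 = n50808 := (sb E90926 F170280)
theorem F326981 : act 2 n41378 = n50811 := (sb E90926 F170276)
theorem F326982 : act 7 n41378 = n50789 := (sb E90926 (iv7 D110132))
theorem F326983 : act 1 n58034 = n50801 := (sb E90927 (iv0 D110165))
theorem F326984 : act 0 n58030 = n50801 := (sb E90928 (iv1 D110166))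
theorem F326985 : act 4 n76887 = n50811 := (sb E90929 F170317)
theorem F326986 : act 7 n76887 = n50801 := (sb E90929 (iv7 D110168))
theorem F326987 : act 2 n36537 = n50808 := (sb E90930 (iv2 D110182))
theorem E91577 : n112473 = n50808 := ((F326918).symm.trans (sb E90931 (iv3 D110183)))
theorem F326988 : act 4 n109127 = n50808 := (sb E90932 (iv4 D110184))
theorem F326989 : act 5 n36532 = n50808 := (sb E90933 (iv5 D110185))
theorem F326990 : act 7 n77862 = n50808 := (sb E90935 (iv7 D110187))
theorem F326991 : act 5 n40032 = n50811 := (sb E90941 F170353)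
theorem F326992 : act 0 n26746 = n51906 := (sb E90945 (iv1 F170476))
theorem F326993 : act 6 n26746 = n51892 := (sb E90945 F170474)
theorem F326994 : act 0 n50849 = n35307 := (sb E90946 (iv1 F325376))
theorem F326995 : act 1 n50849 = n98157 := (sb E90946 (iv0 F326033))
theorem F326996 : act 1 n17609 = n24726 := (sb E90947 (iv0 D50824))
theorem F326997 : act 0 n34437 = n24726 := (sb E90948 (iv1 D50825))
theorem F326998 : act 3 n34437 = n110237 := (sb E90948 D110237)
theorem F326999 : act 5 n19492 = n24726 := (sb E90949 (iv5 D50826))
theorem F327000 : act 7 n19491 = n24726 := (sb E90950 (iv7 D50827))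
theorem F327001 : act 1 n27232 = n50821 := (sb E90951 (iv0 D110220))
theorem F327002 : act 0 n34435 = n50821 := (sb E90952 (iv1 D110221))
theorem F327003 : act 0 n110217 = n180805 := (sb E90953 F281451)
theorem F327004 : act 4 n110217 = n75810 := (sb E90953 F195601)
theorem F327005 : act 7 n110217 = n81907 := (sb E90953 F195602)
theorem F327006 : act 0 n110222 = n75210 := (sb E90954 F195606)
theorem F327007 : act 1 n110222 = n75218 := (sb E90954 F195607)
theorem F327008 : act 2 n110222 = n81911 := (sb E90954 F195603)
theorem F327009 : act 4 n110222 = n81908 := (sb E90954 F195604)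
theorem F327010 : act 7 n110222 = n81908 := (sb E90954 F195605)
theorem F327011 : act 7 n37507 = n50821 := (sb E90955 (iv7 D110223))
theorem F327012 : act 0 n50706 = n51915 := (sb E90980 (iv1 D112529))
theorem F327013 : act 1 n28151 = n45184 := (sb E91007 (iv0 F325387))
theorem E91591 : n175445 = n113526 := (((D113526).symm.trans (sb E91014 F274631))).symm
theorem E91592 : n175442 = n113473 := ((((iv2 F176653)).symm.trans (sb E91014 (iv2 F275040)))).symm
theorem F327014 : act 4 n52399 = n82569 := (sb E91014 (iv4 D172457))
theorem E91593 : n175441 = n113232 := ((((iv7 F176420)).symm.trans (sb E91014 F275038))).symm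
theorem F327015 : act 0 n35827 = n25416 := (sb E91015 (iv1 D52338))
theorem F327016 : act 1 n35827 = n51454 := (sb E91015 F82721)
theorem F327017 : act 2 n35827 = n51453 := (sb E91015 F168385)
theorem E91594 : n105212 = n78658 := (((D78658).symm.trans (sb E91015 (iv6 F168394)))).symm
theorem F327018 : act 7 n35827 = n51452 := (sb E91015 F168387)
theorem E91595 : n113171 = n78665 := (((D78665).symm.trans (sb E91016 (iv1 F176336)))).symm
theorem E91596 : n78666 = n28121 := ((D78666).symm.trans (sb E91016 (iv0 D59220)))
theorem E91597 : n126325 = n78652 := ((((iv3 F119821)).symm.trans (sb E91016 D126325))).symm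
theorem E91598 : n78667 = n39285 := ((D78667).symm.trans (sb E91016 (iv5 F320701)))
theorem E91599 : n113162 = n78668 := (((D78668).symm.trans (sb E91016 (iv7 F176317)))).symm
theorem E91600 : n157797 = n58899 := ((D157797).symm.trans (sb E91017 (iv3 D125783)))
theorem F327019 : act 4 n111557 = n78669 := (sb E91021 F258077)
theorem F327020 : act 4 n50615 = n78646 := (sb E91023 F258021)
theorem F327021 : act 1 n59223 = n78646 := (sb E91024 (iv0 D163686))
theorem F327022 : act 0 n52239 = n78646 := (sb E91025 (iv1 D163687))
theorem F327023 : act 5 n54938 = n78646 := (sb E91026 (iv5 D163688))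
theorem E91601 : n121222 = n119381 := (((D119381).symm.trans (sb E91026 F258024))).symm
theorem E91602 : n126329 = n78684 := ((D126329).symm.trans (sb E91027 F258026))
theorem F327024 : act 7 n59221 = n78646 := (sb E91027 (iv7 D163689))
theorem E91603 : n79030 = n59328 := (((iv1 F120216)).symm.trans (sb E91028 F96454))
theorem E91604 : n67847 = n60557 := (((iv0 F103892)).symm.trans (sb E91028 F96455))
theorem E91605 : n117425 = n60506 := ((D117425).symm.trans (sb E91028 F96451))
theorem E91606 : n113865 = n30451 := (((iv5 F177157)).symm.trans (sb E91028 F96453))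
theorem F327025 : act 6 n54115 = n29317 := (sb E91028 (iv6 D61876))
theorem E91607 : n117456 = n29414 := ((D117456).symm.trans (sb E91030 (iv3 D62130)))
theorem E91608 : n113866 = n105570 := (((iv5 F177161)).symm.trans (sb E91030 (iv5 F162164)))
theorem F327026 : act 3 n115105 = n127344 := (sb E91031 F258900)
theorem F327027 : act 5 n115105 = n119103 := (sb E91031 F258901)
theorem F327028 : act 6 n115105 = n78907 := (sb E91031 (iv6 D164260))
theorem E91609 : n135766 = n94046 := (((iv1 F218325)).symm.trans (sb E91032 F258859))
theorem F327029 : act 2 n130709 = n119103 := (sb E91032 F258857)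
theorem F327030 : act 6 n130709 = n78896 := (sb E91032 (iv6 D164232))
theorem E91611 : n117435 = n64108 := ((((iv4 F99728)).symm.trans (sb E91034 F258896))).symm
theorem E91612 : n126451 = n35968 := ((((iv1 F56678)).symm.trans (sb E91037 F203274))).symm
theorem E91613 : n128757 = n31517 := (((F82799).symm.trans (sb E91037 F207027))).symm
theorem F327031 : act 2 n25508 = n30411 := (sb E91037 F97438)
theorem E91614 : n133192 = n52545 := ((((iv3 F83033)).symm.trans (sb E91037 (iv3 F214015)))).symm
theorem F327032 : act 4 n25508 = n29538 := (sb E91037 F97439)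
theorem E91616 : n52550 = n29537 := ((D52550).symm.trans (sb E91037 (iv6 D62499)))
theorem E91617 : n54185 = n30168 := ((((iv4 F48528)).symm.trans (sb E91038 F177068))).symm
theorem F327033 : act 1 n52445 = n30411 := (sb E91040 (iv0 F95168))
theorem E91618 : n128755 = n25452 := (((F82797).symm.trans (sb E91040 (iv3 F207023)))).symm
theorem E91619 : n113603 = n28756 := ((D113603).symm.trans (sb E91040 F95167))
theorem E91621 : n113604 = n28755 := ((D113604).symm.trans (sb E91040 (iv6 D60553)))
theorem F327034 : act 1 n64621 = n52551 := (sb E91041 F103891)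
theorem E91622 : n137476 = n76394 := ((D137476).symm.trans (sb E91041 (iv3 F114526)))
theorem E91623 : n144766 = n126452 := ((((iv4 F203279)).symm.trans (sb E91041 D144766))).symm
theorem E91624 : n137477 = n31516 := ((D137477).symm.trans (sb E91041 (iv5 D67846)))
theorem E91625 : n144767 = n137478 := (((D137478).symm.trans (sb E91041 D144767))).symm
theorem E91626 : n137479 = n32348 := ((D137479).symm.trans (sb E91042 (iv1 D69690)))
theorem E91627 : n137480 = n59837 := ((D137480).symm.trans (sb E91042 F106050))
theorem E91628 : n133193 = n52552 := (((iv2 F214017)).symm.trans (sb E91042 (iv2 F106053)))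
theorem E91629 : n146858 = n129132 := ((((iv4 F207374)).symm.trans (sb E91042 (iv4 F230247)))).symm
theorem E91630 : n137481 = n52542 := ((D137481).symm.trans (sb E91042 F106052))
theorem E91632 : n133494 = n52554 := (((iv7 F214677)).symm.trans (sb E91042 F106051))
theorem F327035 : act 5 n25505 = n30411 := (sb E91043 (iv5 D64623))
theorem F327036 : act 4 n25513 = n29626 := (sb E91045 (iv4 D62655))
theorem E91637 : n133188 = n52559 := (((D52559).symm.trans (sb E91045 (iv6 F213998)))).symm
theorem F327037 : act 7 n25513 = n30411 := (sb E91045 F97747)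
theorem E91638 : n54184 = n30399 := ((((iv4 F48833)).symm.trans (sb E91047 F177084))).symm
theorem F327038 : act 0 n113806 = n133186 := (sb E91049 (iv1 F213990))
theorem F327039 : act 1 n113806 = n133185 := (sb E91049 (iv0 F213988))
theorem F327040 : act 4 n113806 = n61422 := (sb E91049 F209520)
theorem F327041 : act 7 n113806 = n61419 := (sb E91049 (iv7 D130915))
theorem F327042 : act 1 n115954 = n72964 := (sb E91050 (iv0 D154091))
theorem F327043 : act 0 n71142 = n72964 := (sb E91051 (iv1 F302023))
theorem E91640 : n150893 = n99293 := (((iv2 F237609)).symm.trans (sb E91051 (iv2 F152878)))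
theorem E91641 : n53467 = n37586 := (((iv3 F320495)).symm.trans (sb E91051 F126442))
theorem E91643 : n150907 = n37583 := ((D150907).symm.trans (sb E91051 (iv5 D82020)))
theorem E91644 : n99288 = n32940 := ((((iv6 D71142)).symm.trans (sb E91051 (iv6 F152867)))).symm
theorem E91645 : n171138 = n53462 := (((F318719).symm.trans (sb E91051 D171138))).symm
theorem F327044 : act 2 n115960 = n72964 := (sb E91052 F242166)
theorem F327045 : act 5 n115960 = n72960 := (sb E91052 (iv5 D154084))
theorem F327046 : act 4 n39449 = n72964 := (sb E91053 (iv4 D154093))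
theorem F327047 : act 3 n39448 = n72968 := (sb E91055 F242167)
theorem E91646 : n85411 = n72961 := ((D85411).symm.trans (sb E91055 (iv5 D154087)))
theorem F327048 : act 6 n39448 = n72964 := (sb E91055 F242168)
theorem F327049 : act 3 n115959 = n72983 := (sb E91056 F242171)
theorem F327050 : act 5 n115959 = n72965 := (sb E91056 F242172)
theorem F327051 : act 7 n115959 = n72964 := (sb E91056 (iv7 D154094))
theorem F327052 : act 4 n124686 = n85433 := (sb E91059 F278952)
theorem F327053 : act 5 n124940 = n72969 := (sb E91061 F242177)
theorem F327054 : act 7 n124940 = n72968 := (sb E91061 (iv7 D154108))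
theorem F327055 : act 1 n134822 = n78008 := (sb E91062 (iv0 D162420))
theorem E91647 : n128744 = n81512 := (((iv4 F207010)).symm.trans (sb E91065 (iv4 D169932)))
theorem E91648 : n170767 = n109029 := (((F169039).symm.trans (sb E91066 F294261))).symm
theorem E91649 : n134137 = n42110 := (((iv3 F216174)).symm.trans (sb E91066 F138493))
theorem E91650 : n134152 = n42109 := (((iv5 F216184)).symm.trans (sb E91066 (iv5 D90093)))
theorem E91651 : n122327 = n109001 := (((D109001).symm.trans (sb E91067 (iv1 F248781)))).symm
theorem E91652 : n109002 = n75206 := ((D109002).symm.trans (sb E91067 (iv0 D157864)))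
theorem E91653 : n122326 = n108996 := ((((iv2 F169005)).symm.trans (sb E91067 F262736))).symm
theorem E91654 : n109003 = n91127 := ((D109003).symm.trans (sb E91067 F248780))
theorem E91655 : n109019 = n42173 := ((D109019).symm.trans (sb E91068 (iv4 D90231)))
theorem E91656 : n109032 = n87106 := ((D109032).symm.trans (sb E91069 (iv5 D182441)))
theorem F327056 : act 3 n111808 = n75768 := (sb E91070 (iv3 D158809))
theorem F327057 : act 3 n110325 = n78846 := (sb E91071 (iv3 D164125))
theorem F327058 : act 3 n39864 = n50984 := (sb E91075 (iv3 D110574))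
theorem F327059 : act 3 n75167 = n50979 := (sb E91079 (iv3 D110569))
theorem E91659 : n116545 = n115459 := ((((iv2 F179762)).symm.trans (sb E91081 (iv2 F181888)))).symm
theorem F327060 : act 4 n53261 = n25997 := (sb E91081 F84754)
theorem F327061 : act 6 n53261 = n25995 := (sb E91081 (iv6 D53724))
theorem E91661 : n116589 = n115242 := ((((iv7 F179478)).symm.trans (sb E91081 D116589))).symm
theorem F327062 : act 3 n79580 = n52347 := (sb E91083 F170078)
theorem E91662 : n78630 = n52344 := ((((iv3 F82728)).symm.trans (sb E91084 F256489))).symm
theorem F327063 : act 3 n113406 = n97434 := (sb E91085 (iv3 F292821))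
theorem E91663 : n163583 = n113464 := ((((iv3 F176647)).symm.trans (sb E91092 (iv3 F257844)))).symm
theorem E91664 : n98455 = n60998 := ((D98455).symm.trans (sb E91102 (iv1 F168464)))
theorem E91665 : n108513 = n98456 := (((D98456).symm.trans (sb E91102 F167768))).symm
theorem E91666 : n98457 = n58836 := ((D98457).symm.trans (sb E91102 F167631))
theorem E91667 : n98458 = n58796 := ((D98458).symm.trans (sb E91102 F167633))
theorem F327064 : act 6 n46047 = n60584 := (sb E91102 F167634)
theorem F327065 : act 7 n46047 = n50063 := (sb E91102 (iv7 D108422))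
theorem F327066 : act 5 n90220 = n63478 := (sb E91103 (iv5 D135057))
theorem E91668 : n134149 = n87104 := (((iv5 F216182)).symm.trans (sb E91105 F294423))
theorem E91669 : n182725 = n63469 := ((D182725).symm.trans (sb E91106 (iv1 F172939)))
theorem E91670 : n182726 = n63468 := ((D182726).symm.trans (sb E91106 F172940))
theorem F327067 : act 2 n87226 = n63471 := (sb E91106 F172936)
theorem F327068 : act 4 n87226 = n51396 := (sb E91106 F172937)
theorem E91671 : n63449 = n56626 := ((((iv6 F295053)).symm.trans (sb E91106 F172938))).symm
theorem F327069 : act 0 n135042 = n182701 := (sb E91107 F294303)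
theorem F327070 : act 1 n135042 = n182700 := (sb E91107 F294304)
theorem F327071 : act 2 n135042 = n86951 := (sb E91107 F268345)
theorem F327072 : act 5 n135042 = n81866 := (sb E91107 (iv5 D170756))
theorem F327073 : act 6 n135042 = n81869 := (sb E91107 F268347)
theorem E91672 : n182698 = n63466 := ((((iv7 D135042)).symm.trans (sb E91107 F294305))).symm
theorem F327074 : act 5 n37484 = n63471 := (sb E91108 F217285)
theorem E91673 : n81874 = n63470 := ((D81874).symm.trans (sb E91108 (iv7 D135053)))
theorem E91674 : n81881 = n63447 := ((D81881).symm.trans (sb E91109 (iv1 F216873)))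
theorem E91675 : n81882 = n63446 := ((D81882).symm.trans (sb E91109 F216874))
theorem F327075 : act 4 n37487 = n63338 := (sb E91109 F216871)
theorem F327076 : act 6 n37487 = n63471 := (sb E91109 F216872)
theorem E91676 : n63335 = n57538 := ((((iv7 F301410)).symm.trans (sb E91109 (iv7 D134778)))).symm
theorem E91677 : n132370 = n48640 := (((F164132).symm.trans (sb E91116 (iv0 F212374)))).symm
theorem E91678 : n61967 = n51989 := ((((iv2 F164094)).symm.trans (sb E91116 F164240))).symm
theorem E91679 : n113599 = n49270 := ((D113599).symm.trans (sb E91116 (iv5 D106626)))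
theorem E91680 : n110575 = n61968 := ((D110575).symm.trans (sb E91117 F211539))
theorem E91681 : n157776 = n113274 := (((D113274).symm.trans (sb E91119 F280612))).symm
theorem E91682 : n180324 = n61968 := (E91120).trans E91680
theorem E91683 : n132054 = n86125 := (((iv3 F211536)).symm.trans (sb E91682 F280617))
theorem F327077 : act 3 n110576 = n86126 := (sb E91121 F280619)
theorem F327078 : act 3 n110568 = n78576 := (sb E91122 (iv3 D163513))
theorem E91684 : n157785 = n58897 := ((((iv3 F93117)).symm.trans (sb E91130 (iv3 F256501)))).symm
theorem F327079 : act 0 n81511 = n58931 := (sb E91133 (iv1 F176390))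
theorem F327080 : act 1 n81511 = n52258 := (sb E91133 (iv0 D113213))
theorem F327081 : act 4 n81511 = n58782 := (sb E91133 F176387)
theorem F327082 : act 7 n81511 = n58909 := (sb E91133 F176389)
theorem F327083 : act 0 n81509 = n58909 := (sb E91134 (iv1 F176396))
theorem F327084 : act 2 n81509 = n58931 := (sb E91134 F176393)
theorem F327085 : act 4 n81509 = n52261 := (sb E91134 F176394)
theorem E91685 : n169925 = n58921 := ((D169925).symm.trans (sb E91134 F176395))
theorem F327086 : act 7 n81509 = n52258 := (sb E91134 (iv7 D113215))
theorem F327087 : act 0 n28011 = n37218 := (sb E91135 (iv1 D81510))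
theorem E91688 : n169931 = n52283 := ((D169931).symm.trans (sb E91136 (iv0 D113277)))
theorem F327088 : act 7 n81512 = n126370 := (sb E91136 (iv7 F203199))
theorem E91689 : n125844 = n49262 := ((D125844).symm.trans (sb E91137 (iv4 D106608)))
theorem E91690 : n163765 = n111775 := ((D163765).symm.trans (sb E91138 F173467))
theorem F327089 : act 2 n78678 = n111557 := (sb E91138 (iv2 F173097))
theorem F327090 : act 3 n78678 = n50691 := (sb E91138 F169924)
theorem E91691 : n163767 = n64247 := ((D163767).symm.trans (sb E91138 F169925))
theorem E91692 : n163768 = n136744 := ((D163768).symm.trans (sb E91138 (iv7 F219930)))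
theorem F327091 : act 3 n78673 = n50690 := (sb E91139 (iv3 D109916))
theorem F327092 : act 0 n78656 = n48632 := (sb E91140 (iv1 D105172))
theorem F327093 : act 1 n78656 = n52261 := (sb E91140 F161078)
theorem F327094 : act 2 n78656 = n50693 := (sb E91140 (iv2 F168354))
theorem E91693 : n163693 = n125548 := (((iv4 F258040)).symm.trans (sb E91140 (iv4 F201953)))
theorem E91694 : n163710 = n49340 := ((D163710).symm.trans (sb E91140 (iv5 F161079)))
theorem E91695 : n163711 = n48651 := ((D163711).symm.trans (sb E91140 F161081))
theorem F327095 : act 7 n78656 = n52259 := (sb E91140 (iv7 F168356))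
theorem F327096 : act 0 n109864 = n158025 := (sb E91141 (iv1 F262379))
theorem F327097 : act 1 n109864 = n158024 := (sb E91141 F262377)
theorem F327098 : act 2 n109864 = n80007 := (sb E91141 (iv2 D166698))
theorem F327099 : act 7 n109864 = n158026 := (sb E91141 F262376)
theorem F327100 : act 4 n97370 = n87292 := (sb E91142 (iv4 D182859))
theorem F327101 : act 4 n97377 = n78609 := (sb E91143 (iv4 D163608))
theorem E91696 : n175355 = n79915 := (((iv1 F274402)).symm.trans (sb E91144 (iv1 D166472)))
theorem E91697 : n175356 = n166381 := ((D175356).symm.trans (sb E91145 F262028))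
theorem F327102 : act 4 n119239 = n79918 := (sb E91146 F262032)
theorem F327103 : act 4 n152926 = n79922 := (sb E91149 F262042)
theorem F327104 : act 4 n118913 = n79913 := (sb E91150 (iv4 D166461))
theorem F327105 : act 4 n115027 = n66535 := (sb E91151 (iv4 D141930))
theorem F327106 : act 2 n107737 = n160724 := (sb E91152 F308684)
theorem F327107 : act 6 n107737 = n69155 := (sb E91152 (iv6 D147568))
theorem F327108 : act 6 n115099 = n152432 := (sb E91154 F258871)
theorem F327109 : act 7 n115099 = n78898 := (sb E91154 (iv7 D164238))
theorem F327110 : act 2 n71913 = n61319 := (sb E91156 F179236)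
theorem F327111 : act 4 n71913 = n133333 := (sb E91156 (iv4 F214342))
theorem F327112 : act 6 n71913 = n53113 := (sb E91156 (iv6 D115101))
theorem F327113 : act 0 n126462 = n152278 := (sb E91160 (iv1 F258885))
theorem F327114 : act 1 n126462 = n152513 := (sb E91160 (iv0 F258884))
theorem E91698 : n146849 = n126551 := ((((iv5 F203516)).symm.trans (sb E91160 F258883))).symm
theorem F327115 : act 1 n71911 = n61319 := (sb E91163 (iv0 D130697))
theorem F327116 : act 0 n71910 = n61319 := (sb E91164 (iv1 D130698))
theorem F327117 : act 0 n130699 = n152450 := (sb E91165 (iv1 F258854))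
theorem F327118 : act 1 n130699 = n152449 := (sb E91165 F258855)
theorem F327119 : act 2 n130699 = n152452 := (sb E91165 F258851)
theorem F327120 : act 7 n130699 = n78893 := (sb E91165 (iv7 D164229))
theorem F327121 : act 3 n64102 = n82411 := (sb E91166 F270199)
theorem E91699 : n82410 = n73622 := (((F326280).symm.trans (sb E91166 (iv5 D172072)))).symm
theorem E91700 : n136352 = n84186 := ((D136352).symm.trans (sb E91166 F270200))
theorem F327122 : act 3 n130520 = n84215 := (sb E91167 F275997)
theorem F327123 : act 6 n130520 = n84212 := (sb E91167 (iv6 D176624))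
theorem E91701 : n136391 = n22785 := ((D136391).symm.trans (sb E91168 (tr (iv6 D176629) E91425)))
theorem E91702 : n170688 = n136397 := (((D136397).symm.trans (sb E91169 F270205))).symm
theorem E91703 : n136399 = n84190 := ((D136399).symm.trans (sb E91169 F270204))
theorem E91704 : n133463 = n71890 := ((D133463).symm.trans (sb E91170 (iv6 D152387)))
theorem F327126 : act 5 n118075 = n64410 := (sb E91171 (iv5 D137029))
theorem F327127 : act 5 n64049 = n54400 := (sb E91172 (iv5 D118089))
theorem F327128 : act 5 n64050 = n54401 := (sb E91173 (iv5 D118094))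
theorem E91705 : n136139 = n23390 := ((((iv1 F289745)).symm.trans (sb E91174 (iv1 F219180)))).symm
theorem E91706 : n97033 = n30469 := (((iv0 F293731)).symm.trans (sb E91174 (iv0 D64792)))
theorem E91707 : n137859 = n99955 := ((((iv3 F153892)).symm.trans (sb E91174 D137859))).symm
theorem E91708 : n137611 = n32485 := (((F74330).symm.trans (sb E91174 (iv4 F220768)))).symm
theorem F327129 : act 5 n47077 = n64135 := (sb E91174 F166063)
theorem E91710 : n136137 = n88295 := ((((iv7 F289748)).symm.trans (sb E91174 (iv7 F219172)))).symm
theorem E91711 : n137843 = n99816 := (((F153659).symm.trans (sb E91176 (iv3 F221057)))).symm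
theorem E91713 : n104234 = n30470 := ((D104234).symm.trans (sb E91176 F100635))
theorem E91715 : n136129 = n21633 := ((((iv3 D45359)).symm.trans (sb E91177 (iv3 F219150)))).symm
theorem E91717 : n97034 = n30185 := ((D97034).symm.trans (sb E91177 (iv5 D64021)))
theorem E91718 : n136134 = n40446 := (((F71496).symm.trans (sb E91177 (iv6 F219162)))).symm
theorem F327130 : act 5 n47519 = n64132 := (sb E91178 (iv5 F111434))
theorem E91721 : n137862 = n41212 := (((F289784).symm.trans (sb E91178 D137862))).symm
theorem F327131 : act 3 n47521 = n64132 := (sb E91179 (iv3 D136414))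
theorem E91722 : n156070 = n102421 := (((D102421).symm.trans (sb E91179 (iv4 F245232)))).symm
theorem E91723 : n102422 = n64398 := ((D102422).symm.trans (sb E91179 F219524))
theorem F327132 : act 1 n101799 = n136256 := (sb E91180 (iv0 F219303))
theorem F327133 : act 2 n101799 = n64386 := (sb E91180 F218765)
theorem F327134 : act 4 n101799 = n107465 := (sb E91180 F218766)
theorem F327135 : act 6 n101799 = n63934 := (sb E91180 (iv6 D135984))
theorem F327136 : act 7 n101799 = n138256 := (sb E91180 (iv7 F221449))
theorem F327137 : act 0 n72946 = n136256 := (sb E91181 (iv1 F219515))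
theorem F327138 : act 2 n72946 = n138256 := (sb E91181 F221447)
theorem E91724 : n64127 = n47062 := (((F109458).symm.trans (sb E91181 (iv6 D136410)))).symm
theorem F327139 : act 7 n72946 = n64386 := (sb E91181 F219514)
theorem F327140 : act 5 n72947 = n64386 := (sb E91182 (iv5 D136995))
theorem F327142 : act 1 n99420 = n64129 := (sb E91183 F179820)
theorem F327143 : act 4 n99420 = n74730 := (sb E91183 (iv4 F179821))
theorem E91725 : n136083 = n46486 := ((((iv5 D99420)).symm.trans (sb E91183 (iv5 F219010)))).symm
theorem F327144 : act 6 n99420 = n138256 := (sb E91183 (iv6 F221446))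
theorem E91726 : n64126 = n47404 := (((F290135).symm.trans (sb E91183 F179822))).symm
theorem F327145 : act 3 n99728 = n64321 := (sb E91184 (iv3 D136817))
theorem F327146 : act 4 n99728 = n144059 := (sb E91184 (iv4 F226772))
theorem F327147 : act 4 n64055 = n47334 := (sb E91185 (iv4 D101856))
theorem E91727 : n68724 = n64493 := (((iv1 F104918)).symm.trans (sb E91186 F219470))
theorem E91728 : n117588 = n64115 := ((F184190).symm.trans (sb E91186 F219471))
theorem E91729 : n133496 = n117505 := ((((iv2 F184074)).symm.trans (sb E91186 F219467))).symm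
theorem F327148 : act 4 n54177 = n64109 := (sb E91186 (iv4 D136362))
theorem E91730 : n133497 = n117502 := ((((iv7 F184068)).symm.trans (sb E91186 F219469))).symm
theorem E91731 : n136248 = n46581 := ((D136248).symm.trans (sb E91187 F153498))
theorem F327149 : act 5 n64054 = n46579 := (sb E91187 (iv5 D99691))
theorem E91732 : n138247 = n47294 := ((D138247).symm.trans (sb E91188 F156617))
theorem F327150 : act 5 n64937 = n47292 := (sb E91188 (iv5 D101725))
theorem F327151 : act 5 n64058 = n47315 := (sb E91189 (iv5 D101802))
theorem F327152 : act 3 n22742 = n30513 := (sb E91190 (iv3 D64948))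
theorem E91736 : n138259 = n47322 := (((D47322).symm.trans (sb E91190 (iv4 F221455)))).symm
theorem E91737 : n138267 = n47323 := (((D47323).symm.trans (sb E91190 D138267))).symm
theorem F327153 : act 6 n52499 = n60694 := (sb E91195 (iv6 D129105))
theorem F327154 : act 0 n92730 = n131863 := (sb E91196 (iv1 F211274))
theorem F327155 : act 1 n92730 = n131805 := (sb E91196 (iv0 F211693))
theorem F327156 : act 3 n92730 = n134170 := (sb E91196 (iv3 F216211))
theorem F327157 : act 5 n92730 = n126682 := (sb E91196 F207030)
theorem F327158 : act 7 n92730 = n106547 := (sb E91196 F207029)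
theorem F327159 : act 3 n63395 = n64573 := (sb E91197 (iv3 D137369))
theorem E91738 : n136000 = n134895 := (((D134895).symm.trans (sb E91197 F220573))).symm
theorem E91739 : n136912 = n63039 := (((F203284).symm.trans (sb E91197 F220574))).symm
theorem F327160 : act 3 n32987 = n46902 := (sb E91202 (iv3 D100533))
theorem F327161 : act 3 n90736 = n60022 := (sb E91203 (iv3 D127819))
theorem E91740 : n114362 = n90685 := (((F139666).symm.trans (sb E91203 F205640))).symm
theorem F327162 : act 3 n100535 = n71283 := (sb E91204 F237973)
theorem F327163 : act 3 n99379 = n52784 := (sb E91205 (iv3 D114378))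
theorem F327164 : act 3 n132033 = n62182 := (sb E91206 F212749)
theorem F327165 : act 6 n132033 = n62181 := (sb E91206 (iv6 D132538))
theorem F327166 : act 7 n132033 = n129641 := (sb E91206 F212751)
theorem F327167 : act 6 n48707 = n63753 := (sb E91207 (iv6 D135583))
theorem F327169 : act 1 n135584 = n113984 := (sb E91208 F259581)
theorem E91741 : n135794 = n113986 := (((iv2 F218389)).symm.trans (sb E91208 F259577))
theorem F327170 : act 5 n135584 = n79101 := (sb E91208 (iv5 D164627))
theorem F327171 : act 7 n135584 = n105362 := (sb E91208 F259578)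
theorem E91742 : n113907 = n63762 := ((D113907).symm.trans (sb E91209 F218051))
theorem E91743 : n135804 = n113910 := (((D113910).symm.trans (sb E91209 (iv6 F218415)))).symm
theorem F327172 : act 7 n52587 = n63757 := (sb E91209 (iv7 D135592))
theorem E91744 : n67440 = n66616 := ((((iv1 F321303)).symm.trans (sb E91210 (iv1 F182411)))).symm
theorem F327173 : act 1 n74471 = n53832 := (sb E91210 (iv0 D116824))
theorem F327174 : act 0 n31080 = n53832 := (sb E91211 (iv1 D116825))
theorem F327175 : act 6 n116054 = n64997 := (sb E91217 (iv6 D138375))
theorem F327176 : act 2 n116055 = n150910 := (sb E91218 (iv2 F313381))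
theorem F327177 : act 6 n116055 = n64998 := (sb E91218 (iv6 D138377))
theorem F327178 : act 2 n116056 = n150911 := (sb E91219 (iv2 F313383))
theorem F327179 : act 6 n30531 = n53488 := (sb E91220 (iv6 D116057))
theorem F327180 : act 2 n68624 = n32327 := (sb E91221 (iv2 D69639))
theorem E91745 : n146347 = n117231 := ((D146347).symm.trans (sb E91221 (iv3 F237512)))
theorem E91746 : n148588 = n146348 := (((D146348).symm.trans (sb E91221 D148588))).symm
theorem E91747 : n148589 = n146349 := (((D146349).symm.trans (sb E91221 D148589))).symm
theorem E91748 : n148590 = n146350 := (((D146350).symm.trans (sb E91221 D148590))).symm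
theorem F327181 : act 7 n68624 = n117317 := (sb E91221 (iv7 F247756))
theorem F327182 : act 0 n116435 = n67085 := (sb E91222 (iv1 F225878))
theorem F327183 : act 1 n116435 = n67023 := (sb E91222 (iv0 D143004))
theorem E91749 : n140870 = n138517 := (((D138517).symm.trans (sb E91223 (iv1 F223929)))).symm
theorem E91750 : n140869 = n138518 := (((D138518).symm.trans (sb E91223 F223928))).symm
theorem F327184 : act 2 n65054 = n30907 := (sb E91223 F101747)
theorem E91751 : n140881 = n138504 := ((((iv3 F221690)).symm.trans (sb E91223 (iv3 F223940)))).symm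
theorem E91752 : n140887 = n138510 := ((((iv4 F221694)).symm.trans (sb E91223 (iv4 F223944)))).symm
theorem E91753 : n140892 = n138519 := (((D138519).symm.trans (sb E91223 (iv5 F223948)))).symm
theorem E91754 : n138520 = n30906 := ((D138520).symm.trans (sb E91223 (iv7 D66095)))
theorem E91755 : n140899 = n70977 := ((D140899).symm.trans (sb E91224 (iv0 D150579)))
theorem E91756 : n140900 = n86798 := ((D140900).symm.trans (sb E91224 (iv2 F237099)))
theorem E91757 : n140902 = n116332 := ((D140902).symm.trans (sb E91224 (iv5 F319695)))
theorem F327185 : act 6 n66096 = n74375 := (sb E91224 F312145)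
theorem F327186 : act 6 n66097 = n74376 := (sb E91225 (iv6 D156382))
theorem E91758 : n140874 = n138535 := ((D140874).symm.trans (sb E91229 F245819))
theorem F327187 : act 0 n163413 = n185728 := (sb E91230 (iv1 F288007))
theorem F327188 : act 1 n163413 = n185727 := (sb E91230 F288012)
theorem F327189 : act 2 n163413 = n185730 := (sb E91230 (iv2 F288010))
theorem F327190 : act 4 n163413 = n182863 := (sb E91230 (iv4 F284409))
theorem F327191 : act 6 n163413 = n163621 := (sb E91230 F262212)
theorem F327192 : act 7 n163413 = n79962 := (sb E91230 (iv7 D166613))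
theorem F327193 : act 0 n51545 = n75306 := (sb E91231 (iv1 F129347))
theorem F327194 : act 1 n51545 = n75305 := (sb E91231 F129345)
theorem E91759 : n158870 = n111791 := ((((iv3 F173514)).symm.trans (sb E91231 (iv3 F250128)))).symm
theorem E91760 : n176752 = n111793 := (((D111793).symm.trans (sb E91231 D176752))).symm
theorem F327195 : act 7 n51545 = n75307 := (sb E91231 F129344)
theorem F327196 : act 0 n51574 = n75307 := (sb E91232 (iv1 F129343))
theorem F327197 : act 2 n51574 = n75306 := (sb E91232 F261360)
theorem E91761 : n176746 = n111852 := (((D111852).symm.trans (sb E91232 D176746))).symm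
theorem F327198 : act 7 n51574 = n75305 := (sb E91232 F261361)
theorem E91764 : n176754 = n111857 := (((D111857).symm.trans (sb E91233 D176754))).symm
theorem E91765 : n176755 = n111858 := (((D111858).symm.trans (sb E91233 D176755))).symm
theorem F327199 : act 3 n51576 = n38864 := (sb E91233 F129348)
theorem E91766 : n176756 = n111859 := (((D111859).symm.trans (sb E91233 D176756))).symm
theorem E91767 : n176757 = n111850 := ((((iv6 F173703)).symm.trans (sb E91233 D176757))).symm
theorem F327200 : act 7 n51576 = n75308 := (sb E91233 F129349)
theorem F327201 : act 1 n35751 = n50453 := (sb E91237 (iv0 D109338))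
theorem F327202 : act 0 n26963 = n50453 := (sb E91238 (iv1 D109339))
theorem F327203 : act 3 n77212 = n50459 := (sb E91239 F169354)
theorem F327204 : act 5 n77212 = n50453 := (sb E91239 (iv5 D109340))
theorem F327205 : act 7 n27324 = n51906 := (sb E91240 (iv7 F174977))
theorem F327206 : act 2 n27020 = n51906 := (sb E91245 F174978)
theorem E91768 : n110237 = n51906 := ((F326998).symm.trans (sb E91246 (iv3 D112516)))
theorem F327207 : act 4 n76805 = n51906 := (sb E91247 (iv4 D112517))
theorem F327208 : act 5 n26743 = n51906 := (sb E91248 (iv5 D112518))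
theorem F327209 : act 3 n113493 = n76181 := (sb E91253 (iv3 D159236))
theorem F327210 : act 4 n113493 = n76183 := (sb E91253 F250727)
theorem F327211 : act 6 n113493 = n78602 := (sb E91253 F299542)
theorem F327212 : act 7 n125971 = n78424 := (sb E91256 (iv7 D163128))
theorem F327213 : act 7 n111291 = n78425 := (sb E91257 (iv7 D163134))
theorem F327214 : act 2 n125972 = n78431 := (sb E91258 F257454)
theorem F327215 : act 7 n125972 = n78426 := (sb E91258 (iv7 D163139))
theorem F327216 : act 0 n111293 = n78425 := (sb E91260 (iv1 D163130))
theorem F327217 : act 1 n48650 = n78425 := (sb E91261 (iv0 D163129))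
theorem E91769 : n163039 = n105207 := ((((iv4 F161144)).symm.trans (sb E91261 F257447))).symm
theorem F327218 : act 2 n111292 = n78425 := (sb E91265 F257437)
theorem F327219 : act 6 n126011 = n78429 := (sb E91268 (iv6 D163150))
theorem F327220 : act 7 n125974 = n78429 := (sb E91271 F257436)
theorem F327221 : act 2 n125975 = n78426 := (sb E91272 F257439)
theorem F327222 : act 7 n125975 = n78431 := (sb E91272 F257440)
theorem F327223 : act 2 n125976 = n78427 := (sb E91273 F257441)
theorem F327224 : act 3 n50288 = n78425 := (sb E91274 (iv3 D163131))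
theorem F327225 : act 5 n107421 = n78425 := (sb E91275 (iv5 D163132))
theorem F327226 : act 2 n110400 = n78437 := (sb E91276 F257474)
theorem F327227 : act 7 n110400 = n78436 := (sb E91276 (iv7 D163179))
theorem F327228 : act 5 n52043 = n78437 := (sb E91277 (iv5 D163182))
theorem F327229 : act 2 n125977 = n78436 := (sb E91278 (iv2 D163174))
theorem F327230 : act 7 n125977 = n78437 := (sb E91278 (iv7 F257473))
theorem F327231 : act 4 n51579 = n56269 := (sb E91281 F194365)
theorem F327232 : act 0 n51925 = n56269 := (sb E91282 (iv1 D121788))
theorem F327233 : act 0 n121789 = n59020 := (sb E91283 (iv1 D126013))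
theorem F327234 : act 1 n121789 = n60781 := (sb E91283 F324944)
theorem F327235 : act 2 n121789 = n60786 := (sb E91283 F325141)
theorem F327236 : act 7 n121789 = n60787 := (sb E91283 F325142)
theorem F327237 : act 7 n51954 = n56269 := (sb E91284 (iv7 D121790))
theorem F327238 : act 4 n113152 = n56264 := (sb E91287 F194331)
theorem F327239 : act 2 n110448 = n78575 := (sb E91289 F258426)
theorem F327240 : act 3 n110448 = n163960 := (sb E91289 (iv3 F258424))
theorem F327241 : act 5 n110448 = n166725 := (sb E91289 (iv5 F262443))
theorem E91770 : n113148 = n55885 := (((iv3 F176293)).symm.trans (sb E91290 (iv3 D121121)))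
theorem F327242 : act 7 n52226 = n78575 := (sb E91290 (iv7 F254255))
theorem F327243 : act 0 n110449 = n78492 := (sb E91291 F261341)
theorem F327244 : act 1 n110449 = n164090 := (sb E91291 F261342)
theorem F327245 : act 2 n110449 = n75243 := (sb E91291 (iv2 D157970))
theorem F327246 : act 4 n110449 = n158112 := (sb E91291 F261343)
theorem F327247 : act 5 n110449 = n180372 := (sb E91291 (iv5 F280692))
theorem F327248 : act 7 n110449 = n180445 := (sb E91291 (iv7 F280843))
theorem F327249 : act 1 n110450 = n78497 := (sb E91292 (iv0 D163335))
theorem F327250 : act 2 n110450 = n79686 := (sb E91292 F261327)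
theorem F327251 : act 3 n110450 = n180372 := (sb E91292 (iv3 F280691))
theorem F327252 : act 4 n110450 = n78707 := (sb E91292 F257640)
theorem F327253 : act 7 n110450 = n79681 := (sb E91292 (iv7 F261325))
theorem F327254 : act 3 n34448 = n50933 := (sb E91293 (iv3 D110456))
theorem F327255 : act 5 n86143 = n50933 := (sb E91294 (iv5 D110457))
theorem F327256 : act 3 n110458 = n75241 := (sb E91295 F248845)
theorem F327257 : act 7 n51944 = n56252 := (sb E91296 (iv7 F194298))
theorem F327258 : act 2 n52050 = n56252 := (sb E91301 F194299)
theorem F327259 : act 3 n103104 = n56252 := (sb E91302 (iv3 D121734))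
theorem F327260 : act 4 n51668 = n56252 := (sb E91303 (iv4 D121735))
theorem F327261 : act 6 n110628 = n56252 := (sb E91304 (iv6 D121737))
theorem E91774 : n112568 = n39261 := (((iv3 F175135)).symm.trans (sb E91305 (iv3 D84855)))
theorem E91775 : n178314 = n112570 := (((D112570).symm.trans (sb E91305 D178314))).symm
theorem E91777 : n178316 = n108835 := ((((iv7 F168815)).symm.trans (sb E91305 D178316))).symm
theorem F327262 : act 1 n36083 = n56269 := (sb E91306 (iv0 D121787))
theorem F327263 : act 7 n51953 = n79268 := (sb E91307 (iv7 D164981))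
theorem F327264 : act 2 n51954 = n79268 := (sb E91312 (iv2 D164976))
theorem F327265 : act 4 n105183 = n79268 := (sb E91313 (iv4 D164978))
theorem F327266 : act 5 n126012 = n79268 := (sb E91314 (iv5 D164979))
theorem F327267 : act 2 n110652 = n133683 := (sb E91315 (iv2 F215113))
theorem F327268 : act 3 n110652 = n62224 := (sb E91315 F186449)
theorem F327269 : act 5 n110652 = n54590 := (sb E91315 (iv5 D118544))
theorem F327270 : act 6 n110652 = n62220 := (sb E91315 F186450)
theorem F327271 : act 0 n113502 = n78602 := (sb E91316 (iv1 D163592))
theorem F327272 : act 1 n113503 = n78602 := (sb E91317 (iv0 D163591))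
theorem F327273 : act 3 n113503 = n176852 := (sb E91317 F276228)
theorem F327274 : act 0 n113497 = n166592 := (sb E91318 (iv1 F262175))
theorem F327275 : act 1 n113497 = n166591 := (sb E91318 F262170)
theorem F327276 : act 2 n113497 = n78604 := (sb E91318 (iv2 D163596))
theorem F327277 : act 4 n113497 = n160417 := (sb E91318 F257862)
theorem F327278 : act 7 n113497 = n166593 := (sb E91318 (iv7 F262173))
theorem F327279 : act 0 n113499 = n133281 := (sb E91319 (iv1 F320960))
theorem F327280 : act 1 n113499 = n133280 := (sb E91319 (iv0 F320956))
theorem F327281 : act 2 n113499 = n79200 := (sb E91319 (iv2 D164827))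
theorem F327282 : act 3 n113499 = n165710 := (sb E91319 (iv3 F261041))
theorem F327283 : act 7 n113499 = n133268 := (sb E91319 (iv7 F320966))
theorem F327284 : act 0 n113505 = n166584 := (sb E91320 (iv1 F262155))
theorem F327285 : act 1 n113505 = n166583 := (sb E91320 F262150)
theorem F327286 : act 2 n113505 = n78602 := (sb E91320 (iv2 D163593))
theorem F327287 : act 3 n113505 = n166593 := (sb E91320 (iv3 F262171))
theorem F327288 : act 4 n113505 = n133268 := (sb E91320 (iv4 F320965))
theorem E91778 : n155729 = n47778 := ((D155729).symm.trans (sb E91321 F294021))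
theorem E91779 : n155730 = n47781 := ((D155730).symm.trans (sb E91321 F294022))
theorem E91780 : n155731 = n47870 := ((D155731).symm.trans (sb E91321 F294023))
theorem E91781 : n103221 = n33997 := (((F110829).symm.trans (sb E91321 (iv4 F294881)))).symm
theorem F327289 : act 5 n74085 = n41061 := (sb E91321 (iv5 D87943))
theorem E91783 : n120013 = n47869 := (((iv7 F189497)).symm.trans (sb E91321 F294024))
theorem F327290 : act 5 n55229 = n97075 := (sb E91322 F158549)
theorem E91784 : n173704 = n94244 := ((((iv5 F145319)).symm.trans (sb E91323 F304163))).symm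
theorem E91787 : n185804 = n29885 := (((F319066).symm.trans (sb E91324 (iv3 F288120)))).symm
theorem F327291 : act 4 n38719 = n41305 := (sb E91324 F135472)
theorem E91789 : n84050 = n41304 := ((D84050).symm.trans (sb E91324 (iv6 D88492)))
theorem F327292 : act 5 n83073 = n41305 := (sb E91325 (iv5 D88495))
theorem E91793 : n173705 = n41308 := ((D173705).symm.trans (sb E91325 F135473))
theorem E91794 : n176545 = n88537 := ((D176545).symm.trans (sb E91327 (iv1 F135588)))
theorem E91795 : n176546 = n88536 := ((D176546).symm.trans (sb E91327 F135587))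
theorem E91796 : n185759 = n132077 := ((((iv3 F321346)).symm.trans (sb E91327 D185759))).symm
theorem F327293 : act 4 n84173 = n41297 := (sb E91327 (iv4 D88473))
theorem E91797 : n88500 = n83074 := (((F129210).symm.trans (sb E91327 (iv5 F135485)))).symm
theorem E91798 : n176547 = n88522 := ((D176547).symm.trans (sb E91327 (iv7 F135554)))
theorem E91799 : n88491 = n38745 := (((D38745).symm.trans (sb E91328 (iv6 D185805)))).symm
theorem E91802 : n176370 = n94261 := (((D94261).symm.trans (sb E91329 (iv3 F275661)))).symm
theorem F327294 : act 6 n44064 = n38744 := (sb E91329 (iv6 D84096))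
theorem E91805 : n134592 = n113682 := ((D134592).symm.trans (sb E91330 (iv1 F288398)))
theorem F327295 : act 4 n63243 = n88544 := (sb E91330 F288396)
theorem E91806 : n134595 = n88540 := ((D134595).symm.trans (sb E91330 (iv7 D185903)))
theorem E91807 : n176513 = n88507 := ((D176513).symm.trans (sb E91331 (iv7 D185831)))
theorem F327296 : act 0 n83996 = n76376 := (sb E91333 (iv1 D159638))
theorem F327298 : act 2 n69694 = n38686 := (sb E91335 (iv2 D83998))
theorem E91808 : n175400 = n148708 := (((D148708).symm.trans (sb E91335 (iv4 F274439)))).symm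
theorem E91809 : n148709 = n115185 := ((D148709).symm.trans (sb E91335 (iv5 F321110)))
theorem E91810 : n175676 = n148710 := (((D148710).symm.trans (sb E91335 (iv6 F275054)))).symm
theorem E91813 : n173457 = n78891 := (((F258958).symm.trans (sb E91336 (iv2 F271912)))).symm
theorem F327299 : act 4 n71910 = n38205 := (sb E91336 (iv4 D83016))
theorem E91815 : n173480 = n152443 := (((D152443).symm.trans (sb E91336 (iv6 F271938)))).symm
theorem E91816 : n173536 = n76359 := (((F239632).symm.trans (sb E91336 D173536))).symm
theorem E91817 : n148711 = n126516 := ((F233481).symm.trans (sb E91337 (iv2 F203434)))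
theorem E91818 : n159795 = n53128 := (((iv3 F251803)).symm.trans (sb E91337 (iv3 D115139)))
theorem E91819 : n159800 = n126515 := ((D159800).symm.trans (sb E91337 F203433))
theorem E91820 : n148712 = n126520 := (((iv7 F233483)).symm.trans (sb E91337 (iv7 F203435)))
theorem F327300 : act 2 n129649 = n148713 := (sb E91338 F251481)
theorem F327301 : act 4 n129649 = n76374 := (sb E91338 (iv4 D159636))
theorem E91821 : n148721 = n132658 := ((((iv7 F212959)).symm.trans (sb E91338 F251482))).symm
theorem F327302 : act 3 n69701 = n34602 := (sb E91339 (iv3 D75680))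
theorem E91823 : n158548 = n148722 := (((D148722).symm.trans (sb E91339 (iv6 F249732)))).symm
theorem E91824 : n173458 = n152446 := (((iv1 F271918)).symm.trans (sb E91340 (iv1 F259261)))
theorem E91825 : n173522 = n152460 := ((D173522).symm.trans (sb E91340 F259258))
theorem E91826 : n173524 = n79007 := ((D173524).symm.trans (sb E91340 F259259))
theorem E91827 : n173526 = n152457 := ((D173526).symm.trans (sb E91340 F259260))
theorem E91828 : n173527 = n79004 := ((D173527).symm.trans (sb E91340 (iv7 D164508)))
theorem F327303 : act 0 n71916 = n38205 := (sb E91341 (iv1 D83015))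
theorem E91833 : n173455 = n152460 := ((D173455).symm.trans (sb E91342 (iv1 F258966)))
theorem E91834 : n173456 = n79004 := ((D173456).symm.trans (sb E91342 F258967))
theorem F327304 : act 2 n83870 = n52612 := (sb E91344 (iv2 D113990))
theorem F327305 : act 3 n115129 = n76378 := (sb E91345 F251490)
theorem F327306 : act 5 n115129 = n76376 := (sb E91345 (iv5 D159641))
theorem F327307 : act 1 n129142 = n76334 := (sb E91346 (iv0 D159553))
theorem F327308 : act 2 n129142 = n148725 := (sb E91346 (iv2 F251291))
theorem F327309 : act 4 n129142 = n76380 := (sb E91346 F251290)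
theorem E91835 : n137411 = n134175 := (((iv2 F220623)).symm.trans (sb E91347 F216218))
theorem E91836 : n137413 = n61452 := ((D137413).symm.trans (sb E91347 (iv4 D130989)))
theorem E91837 : n137406 = n133257 := ((F220621).symm.trans (sb E91347 (iv7 F214214)))
theorem E91838 : n137375 = n134111 := (((iv3 F220583)).symm.trans (sb E91348 (iv3 F216161)))
theorem F327310 : act 4 n64587 = n60755 := (sb E91348 (iv4 D129251))
theorem E91841 : n126656 = n118631 := (((iv2 F203816)).symm.trans (sb E91349 (iv2 F216646)))
theorem E91842 : n126963 = n34625 := (((iv3 F204221)).symm.trans (sb E91349 F319332))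
theorem E91843 : n134656 = n126971 := (((D126971).symm.trans (sb E91349 (iv4 F216688)))).symm
theorem F327311 : act 6 n59590 = n29899 := (sb E91349 (iv6 D63273))
theorem E91845 : n134660 = n126972 := (((D126972).symm.trans (sb E91349 D134660))).symm
theorem F327313 : act 1 n129253 = n126945 := (sb E91350 F220469)
theorem E91846 : n130759 = n126948 := (((iv2 F216672)).symm.trans (sb E91350 F220464))
theorem F327314 : act 4 n129253 = n136077 := (sb E91350 F220465)
theorem F327315 : act 7 n129253 = n64536 := (sb E91350 (iv7 D137311))
theorem E91847 : n126958 = n79812 := ((D126958).symm.trans (sb E91351 (iv6 D166225)))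
theorem E91848 : n126961 = n38279 := ((D126961).symm.trans (sb E91352 F113582))
theorem E91849 : n126962 = n79800 := ((D126962).symm.trans (sb E91352 F302138))
theorem E91850 : n99772 = n63989 := ((((iv4 F99564)).symm.trans (sb E91352 (tr D158755 E91436)))).symm
theorem E91851 : n126964 = n79813 := ((D126964).symm.trans (sb E91352 F302140))
theorem F327316 : act 4 n28770 = n57498 := (sb E91354 (iv4 D123441))
theorem F327317 : act 6 n125111 = n63482 := (sb E91358 (iv6 D135072))
theorem F327318 : act 0 n108465 = n120490 := (sb E91359 (iv1 F303684))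
theorem F327319 : act 1 n108465 = n120479 := (sb E91359 (iv0 F304517))
theorem F327320 : act 2 n108465 = n85843 := (sb E91359 F201007)
theorem F327321 : act 4 n108465 = n58502 := (sb E91359 (iv4 D125112))
theorem F327322 : act 5 n108465 = n82027 := (sb E91359 F201009)
theorem F327323 : act 7 n108465 = n84670 := (sb E91359 F201008)
theorem F327324 : act 2 n89076 = n60619 := (sb E91362 F202119)
theorem F327325 : act 5 n89076 = n58835 := (sb E91362 (iv5 D125651))
theorem E91855 : n98629 = n60618 := ((D98629).symm.trans (sb E91363 (iv1 F202123)))
theorem E91856 : n98630 = n60617 := ((D98630).symm.trans (sb E91363 F202124))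
theorem E91857 : n98631 = n60620 := ((D98631).symm.trans (sb E91363 F202120))
theorem E91858 : n98560 = n60598 := (((iv6 F151938)).symm.trans (sb E91363 F202122))
theorem F327326 : act 7 n46107 = n58835 := (sb E91363 (iv7 D125652))
theorem F327327 : act 7 n46076 = n60591 := (sb E91364 (iv7 D128845))
theorem F327328 : act 1 n106556 = n52376 := (sb E91365 (iv0 D113465))
theorem F327329 : act 0 n29322 = n52376 := (sb E91366 (iv1 D113466))
theorem F327330 : act 4 n113460 = n129103 := (sb E91367 F211302)
theorem F327331 : act 0 n113467 = n131980 := (sb E91368 (iv1 F211468))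
theorem F327332 : act 1 n113467 = n106585 := (sb E91368 (iv0 F211311))
theorem F327333 : act 2 n113467 = n131983 := (sb E91368 F211475)
theorem F327334 : act 7 n113467 = n131982 := (sb E91368 F211472)
theorem F327335 : act 4 n60823 = n52508 := (sb E91370 (iv4 D113728))
theorem E91859 : n129428 = n52511 := ((D129428).symm.trans (sb E91370 F176955))
theorem F327336 : act 2 n115217 = n72923 := (sb E91372 F199562)
theorem F327337 : act 4 n115217 = n58305 := (sb E91372 (iv4 D124727))
theorem F327338 : act 7 n115217 = n72907 := (sb E91372 F199563)
theorem F327339 : act 5 n63876 = n72923 := (sb E91373 (iv5 D154048))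
theorem E91860 : n113828 = n53136 := ((D113828).symm.trans (sb E91374 (iv1 F99355)))
theorem F327340 : act 1 n52564 = n30133 := (sb E91374 (iv0 D63882))
theorem E91861 : n63785 = n25521 := (((F83081).symm.trans (sb E91374 (iv2 F103582)))).symm
theorem E91862 : n135863 = n105322 := ((((iv3 F161512)).symm.trans (sb E91374 D135863))).symm
theorem E91863 : n126463 = n113827 := ((((iv4 F177113)).symm.trans (sb E91374 F203309))).symm
theorem E91864 : n135864 = n25694 := (((F83082).symm.trans (sb E91374 D135864))).symm
theorem E91866 : n113830 = n63786 := ((D113830).symm.trans (sb E91374 F103583))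
theorem F327341 : act 0 n52579 = n30133 := (sb E91375 (iv1 D63883))
theorem E91867 : n135866 = n25532 := (((F83089).symm.trans (sb E91375 D135866))).symm
theorem E91868 : n113873 = n62003 := (((iv4 F177171)).symm.trans (sb E91375 F102062))
theorem E91870 : n135868 = n113885 := (((D113885).symm.trans (sb E91375 D135868))).symm
theorem F327342 : act 5 n120533 = n63452 := (sb E91377 (iv5 D135021))
theorem E91871 : n62992 = n57241 := (((D57241).symm.trans (sb E91379 (iv5 D134100)))).symm
theorem E91872 : n133238 = n57503 := ((((iv5 F90661)).symm.trans (sb E91380 F217307))).symm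
theorem F327343 : act 5 n123028 = n63483 := (sb E91381 (iv5 D135075))
theorem F327344 : act 7 n123428 = n63483 := (sb E91384 (iv7 D135076))
theorem F327345 : act 4 n108419 = n57493 := (sb E91385 (iv4 D123433))
theorem F327346 : act 6 n108419 = n98406 := (sb E91385 F301632)
theorem E91873 : n132570 = n122303 := ((D132570).symm.trans (sb E91386 F277368))
theorem E91874 : n134776 = n122304 := (((iv4 F216864)).symm.trans (sb E91387 F277364))
theorem E91875 : n72921 = n63442 := ((((iv3 F98772)).symm.trans (sb E91392 (iv3 F190764)))).symm
theorem E91876 : n63448 = n18610 := ((D63448).symm.trans (sb E91392 (iv5 D39236)))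
theorem F327347 : act 6 n108548 = n64723 := (sb E91395 (iv6 D137689))
theorem F327348 : act 6 n113854 = n63739 := (sb E91396 (iv6 D135565))
theorem E91878 : n132679 = n52572 := ((((iv4 F112655)).symm.trans (sb E91397 F220661))).symm
theorem E91879 : n157690 = n115178 := ((D157690).symm.trans (sb E91397 (iv6 F220664)))
theorem E91880 : n179612 = n174993 := (((F273876).symm.trans (sb E91398 (iv1 F279732)))).symm
theorem E91881 : n179611 = n175992 := (((D175992).symm.trans (sb E91398 F279728))).symm
theorem F327349 : act 2 n83976 = n85311 := (sb E91398 (iv2 D178920))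
theorem E91882 : n179601 = n175969 := ((((iv3 F275307)).symm.trans (sb E91398 (iv3 F279700)))).symm
theorem E91883 : n179613 = n175994 := (((D175994).symm.trans (sb E91398 (iv7 F279730)))).symm
theorem E91884 : n174597 = n85312 := ((D174597).symm.trans (sb E91399 F278800))
theorem F327350 : act 6 n83433 = n85311 := (sb E91399 (iv6 D178922))
theorem E91885 : n135713 = n117321 := ((D135713).symm.trans (sb E91400 (iv1 F183701)))
theorem E91886 : n135714 = n31949 := ((D135714).symm.trans (sb E91400 (iv0 D68662)))
theorem E91887 : n135709 = n117335 := (((iv2 F218202)).symm.trans (sb E91400 F183740))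
theorem F327351 : act 4 n63812 = n78899 := (sb E91400 (iv4 F120084))
theorem E91888 : n146452 = n135715 := (((D135715).symm.trans (sb E91400 D146452))).symm
theorem E91889 : n135716 = n117334 := ((D135716).symm.trans (sb E91400 F183736))
theorem E91890 : n162241 = n110298 := (((D110298).symm.trans (sb E91401 F256434))).symm
theorem E91891 : n110299 = n95263 := ((D110299).symm.trans (sb E91401 F256435))
theorem E91892 : n124218 = n110300 := (((D110300).symm.trans (sb E91401 F256436))).symm
theorem E91893 : n110302 = n77967 := ((D110302).symm.trans (sb E91401 (iv6 D162295)))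
theorem F327352 : act 3 n78568 = n50854 := (sb E91402 (iv3 D110289))
theorem E91894 : n163497 = n126129 := ((D163497).symm.trans (sb E91402 F202832))
theorem F327353 : act 6 n77538 = n50854 := (sb E91403 (iv6 D110292))
theorem E91895 : n110298 = n50855 := ((D110298).symm.trans (sb E91404 F170529))
theorem E91896 : n110303 = n50854 := ((D110303).symm.trans (sb E91404 (iv7 D110293)))
theorem E91897 : n174475 = n110425 := ((((iv5 F170797)).symm.trans (sb E91405 (iv5 F273357)))).symm
theorem F327354 : act 6 n52244 = n82569 := (sb E91405 (iv6 D172458))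
theorem F327355 : act 0 n125963 = n82571 := (sb E91406 (iv1 F249460))
theorem F327356 : act 1 n125963 = n75488 := (sb E91406 (iv0 D158331))
theorem F327357 : act 2 n125963 = n82568 := (sb E91406 F275032)
theorem F327358 : act 5 n125963 = n174479 := (sb E91406 F275033)
theorem F327359 : act 7 n125963 = n82569 := (sb E91406 F275034)
theorem F327360 : act 2 n83915 = n76541 := (sb E91407 (iv2 D159883))
theorem E91898 : n175817 = n76542 := ((D175817).symm.trans (sb E91407 (iv7 F252116)))
theorem F327361 : act 6 n83037 = n76541 := (sb E91408 (iv6 D159886))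
theorem F327362 : act 3 n66174 = n78215 := (sb E91409 (iv3 D162750))
theorem F327363 : act 3 n108835 = n84865 := (sb E91410 (iv3 D178354))
theorem F327364 : act 4 n63932 = n63663 := (sb E91411 (iv4 D135438))
theorem F327365 : act 6 n59433 = n63663 := (sb E91412 (iv6 D135440))
theorem F327366 : act 4 n64377 = n63664 := (sb E91413 (iv4 D135443))
theorem F327367 : act 0 n135445 = n127029 := (sb E91414 (iv1 F219876))
theorem F327369 : act 2 n135445 = n127031 := (sb E91414 F219872)
theorem F327370 : act 4 n135445 = n136013 := (sb E91414 F219873)
theorem F327371 : act 7 n135445 = n64257 := (sb E91414 (iv7 D136722))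
theorem F327372 : act 2 n60554 = n54128 := (sb E91415 F183931)
theorem F327373 : act 4 n60554 = n54117 := (sb E91415 F183932)
theorem F327374 : act 6 n60554 = n92730 := (sb E91415 (iv6 F183933))
theorem F327375 : act 7 n60554 = n54115 := (sb E91415 (iv7 D117427))
theorem F327376 : act 2 n60555 = n54115 := (sb E91417 F176931)
theorem F327377 : act 4 n60555 = n52502 := (sb E91417 (iv4 D113708))
theorem F327378 : act 7 n60555 = n54128 := (sb E91417 F176932)
theorem E91899 : n126896 = n62537 := ((D126896).symm.trans (sb E91419 F214108))
theorem E91900 : n130988 = n126897 := (((D126897).symm.trans (sb E91419 (iv0 F211987)))).symm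
theorem E91901 : n130986 = n126645 := ((((iv2 F203789)).symm.trans (sb E91419 (iv2 F212050)))).symm
theorem F327379 : act 3 n59551 = n62058 := (sb E91419 (iv3 D132277))
theorem E91902 : n130751 = n30454 := (((F93978).symm.trans (sb E91419 F211986))).symm
theorem E91903 : n126898 = n62878 := ((D126898).symm.trans (sb E91419 F211985))
theorem E91904 : n129223 = n126899 := (((D126899).symm.trans (sb E91419 (iv7 F212046)))).symm
theorem F327380 : act 2 n51637 = n95485 := (sb E91420 F148107)
theorem E91905 : n111964 = n44947 := ((D111964).symm.trans (sb E91420 (iv6 D96283)))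
theorem F327381 : act 3 n44859 = n56199 := (sb E91421 (iv3 D121671))
theorem E91906 : n96126 = n56208 := ((D96126).symm.trans (sb E91421 F194166))
theorem E91907 : n96123 = n79613 := (((iv6 F147767)).symm.trans (sb E91421 F299344))
theorem E91908 : n89874 = n79826 := (((iv7 F137966)).symm.trans (sb E91421 F194167))
theorem F327382 : act 3 n41988 = n79827 := (sb E91422 F261758)
theorem F327383 : act 1 n84036 = n47432 := (sb E91423 (iv0 D102159))
theorem F327384 : act 0 n84245 = n47432 := (sb E91424 (iv1 D102160))
theorem E91909 : n176120 = n47361 := ((((iv1 F159816)).symm.trans (sb E91425 (iv1 F275375)))).symm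
theorem E91910 : n176118 = n46987 := (((F289605).symm.trans (sb E91425 (iv0 F275369)))).symm
theorem E91912 : n47431 = n38835 := ((D47431).symm.trans (sb E91425 (iv4 D84214)))
theorem E91913 : n172059 = n46610 := ((((iv7 F73613)).symm.trans (sb E91425 (iv7 F270154)))).symm
theorem F327385 : act 0 n79802 = n47370 := (sb E91426 (iv1 D101970))
theorem E91914 : n162662 = n95481 := (((D95481).symm.trans (sb E91427 (iv4 F256903)))).symm
theorem F327386 : act 4 n34634 = n47370 := (sb E91428 (iv4 D101971))
theorem E91915 : n95482 = n95481 := (((E91914).symm.trans ((D162662).symm.trans (sb E91429 F156945)))).symm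
theorem F327387 : act 6 n78141 = n47370 := (sb E91429 (iv6 D101972))
theorem F327388 : act 2 n99775 = n84006 := (sb E91430 F270124)
theorem F327389 : act 4 n99775 = n82402 := (sb E91430 F270125)
theorem F327390 : act 5 n99775 = n84245 := (sb E91430 F270126)
theorem F327392 : act 0 n38703 = n47368 := (sb E91431 (iv1 F153598))
theorem F327393 : act 1 n38703 = n46603 := (sb E91431 (iv0 D99774))
theorem E91916 : n84006 = n47372 := (((D47372).symm.trans (sb E91432 (iv1 F270119)))).symm
theorem E91917 : n82401 = n47373 := (((D47373).symm.trans (sb E91432 (iv0 D172049)))).symm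
theorem E91918 : n83155 = n47374 := (((D47374).symm.trans (sb E91432 F270116))).symm
theorem F327394 : act 4 n79813 = n47368 := (sb E91434 (iv4 D101964))
theorem E91919 : n158755 = n63989 := (E91436).trans E91850
theorem E91920 : n136070 = n47373 := ((D136070).symm.trans (sb E91919 (tr F249938 E91917)))
theorem E91921 : n136071 = n47372 := ((D136071).symm.trans (sb E91919 (tr F249939 E91916)))
theorem F327395 : act 3 n96279 = n83438 := (sb E91440 (iv3 D174605))
theorem F327396 : act 3 n96280 = n84228 := (sb E91441 F276033)
theorem F327397 : act 4 n79812 = n46603 := (sb E91443 (iv4 D99776))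
theorem F327398 : act 6 n50808 = n51906 := (sb E91445 (iv6 D112519))
theorem F327399 : act 3 n57943 = n51464 := (sb E91451 F173114)
theorem F327400 : act 7 n57943 = n51459 := (sb E91451 (iv7 D111577))
theorem E91922 : n131844 = n46115 := ((D131844).symm.trans (sb E91452 (iv1 F147846)))
theorem E91923 : n131845 = n44880 := ((D131845).symm.trans (sb E91452 (iv0 D96161)))
theorem E91924 : n131839 = n96146 := (((iv2 F211249)).symm.trans (sb E91452 (iv2 F147845)))
theorem F327401 : act 4 n61863 = n46083 := (sb E91452 F147844)
theorem E91925 : n131846 = n96146 := ((D131846).symm.trans (sb E91452 F147843))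
theorem E91926 : n131847 = n96145 := ((D131847).symm.trans (sb E91452 F147847))
theorem E91927 : n131790 = n102636 := ((D131790).symm.trans (sb E91453 (iv2 F157837)))
theorem E91928 : n131791 = n47567 := ((D131791).symm.trans (sb E91453 F151973))
theorem F327402 : act 6 n61839 = n46083 := (sb E91453 (iv6 D98580))
theorem E91930 : n123024 = n29801 := ((((iv2 F47962)).symm.trans (sb E91454 (iv2 F197129)))).symm
theorem E91931 : n123398 = n60757 := ((((iv3 F95349)).symm.trans (sb E91454 (iv3 F197781)))).symm
theorem E91932 : n123423 = n14036 := ((((iv4 D29547)).symm.trans (sb E91454 D123423))).symm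
theorem E91933 : n62523 = n27496 := ((D62523).symm.trans (sb E91454 (iv5 D57488)))
theorem E91934 : n62524 = n27499 := ((D62524).symm.trans (sb E91454 F90657))
theorem E91936 : n122869 = n29853 := (((F96395).symm.trans (sb E91455 (iv2 F306486)))).symm
theorem E91937 : n131793 = n47565 := ((D131793).symm.trans (sb E91455 (iv6 D102553)))
theorem E91938 : n111432 = n40480 := ((D111432).symm.trans (sb E91456 (iv3 D87127)))
theorem E91939 : n111433 = n43569 := ((D111433).symm.trans (sb E91456 F133719))
theorem F327403 : act 7 n51395 = n87226 := (sb E91456 (iv7 F133878))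
theorem E91941 : n111869 = n88754 := ((D111869).symm.trans (sb E91457 (iv3 D186307)))
theorem F327404 : act 0 n113598 = n157775 := (sb E91458 (iv1 F280629))
theorem F327405 : act 1 n113598 = n157774 := (sb E91458 F280627)
theorem F327406 : act 2 n113598 = n86128 := (sb E91458 (iv2 D180330))
theorem F327407 : act 5 n87223 = n63009 := (sb E91459 (iv5 D134145))
theorem F327408 : act 0 n111854 = n78850 := (sb E91460 (iv1 D164129))
theorem F327409 : act 1 n111854 = n78855 := (sb E91460 F258682)
theorem F327410 : act 2 n111854 = n180446 := (sb E91460 (iv2 F280847))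
theorem F327411 : act 4 n111854 = n180445 := (sb E91460 F280846)
theorem F327412 : act 5 n111854 = n180639 := (sb E91460 (iv5 F281173))
theorem F327413 : act 7 n111854 = n158112 := (sb E91460 F261345)
theorem F327414 : act 3 n111855 = n180639 := (sb E91461 F281174)
theorem F327415 : act 2 n111856 = n158110 := (sb E91462 F276137)
theorem F327416 : act 3 n110601 = n78578 := (sb E91463 F257791)
theorem F327417 : act 6 n110601 = n78575 := (sb E91463 (iv6 D163512))
theorem F327418 : act 3 n86176 = n51382 := (sb E91464 (iv3 D111418))
theorem E91942 : n180440 = n108785 := ((D180440).symm.trans (sb E91464 F172899))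
theorem F327419 : act 3 n110454 = n75239 := (sb E91465 (iv3 D157954))
theorem F327420 : act 0 n49076 = n78008 := (sb E91466 (iv1 D162421))
theorem F327421 : act 2 n109011 = n78008 := (sb E91467 (iv2 D162422))
theorem F327422 : act 3 n108644 = n86215 := (sb E91468 F256635)
theorem F327423 : act 4 n108644 = n78008 := (sb E91468 (iv4 D162423))
theorem F327424 : act 6 n144359 = n78008 := (sb E91469 (iv6 D162425))
theorem F327425 : act 2 n79980 = n111556 := (sb E91470 F176575)
theorem F327426 : act 4 n79980 = n52339 := (sb E91470 F176576)
theorem F327427 : act 7 n79980 = n52336 := (sb E91470 (iv7 D113378))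
theorem F327428 : act 3 n144362 = n86217 := (sb E91471 F256640)
theorem F327429 : act 6 n144362 = n78009 := (sb E91471 (iv6 D162426))
theorem F327430 : act 6 n59226 = n78004 := (sb E91480 (iv6 D162409))
theorem F327431 : act 3 n35816 = n52336 := (sb E91485 F176571)
theorem E91943 : n78632 = n52334 := ((D78632).symm.trans (sb E91485 (iv6 D113375)))
theorem F327432 : act 0 n113377 = n79681 := (sb E91486 (iv1 F256573))
theorem F327433 : act 1 n113377 = n79686 := (sb E91486 F258151)
theorem F327434 : act 3 n113377 = n55905 := (sb E91486 (iv3 D121162))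
theorem F327435 : act 4 n113377 = n163804 := (sb E91486 (iv4 F258173))
theorem F327436 : act 7 n113377 = n78497 := (sb E91486 F257942)
theorem F327437 : act 5 n77255 = n52226 := (sb E91488 (iv5 D113150))
theorem F327438 : act 3 n86352 = n50330 := (sb E91489 (iv3 D109015))
theorem E91944 : n180799 = n111529 := ((D180799).symm.trans (sb E91489 (iv6 F173054)))
theorem E91945 : n180800 = n77148 := (((F300916).symm.trans (sb E91490 D180800))).symm
theorem E91947 : n86222 = n38333 := ((((iv2 F118744)).symm.trans (sb E91490 (iv2 F256586)))).symm
theorem E91948 : n124462 = n111529 := ((D124462).symm.trans (sb E91490 (tr (iv4 F281441) E91944)))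
theorem E91950 : n124463 = n39971 := ((D124463).symm.trans (sb E91490 (iv6 D86354)))
theorem E91951 : n180803 = n38349 := ((((iv7 F117681)).symm.trans (sb E91490 D180803))).symm
theorem F327439 : act 3 n79981 = n52349 := (sb E91491 F176592)
theorem E91952 : n166643 = n126211 := ((D166643).symm.trans (sb E91491 (iv6 F202972)))
theorem F327440 : act 0 n125791 = n96677 := (sb E91492 (iv1 F281476))
theorem F327441 : act 1 n125791 = n96676 := (sb E91492 F281475)
theorem F327442 : act 2 n125791 = n86360 := (sb E91492 (iv2 D180814))
theorem E91953 : n170245 = n126173 := ((((iv6 F202897)).symm.trans (sb E91492 F281473))).symm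
theorem F327443 : act 7 n125791 = n96678 := (sb E91492 F281474)
theorem E91954 : n126370 = n62979 := ((D126370).symm.trans (sb E91493 (iv5 D134082)))
theorem E91955 : n113275 = n106627 := (((F164344).symm.trans (sb E91494 (iv1 F176472)))).symm
theorem E91956 : n112660 = n29350 := (((F164345).symm.trans (sb E91494 F176392))).symm
theorem F327444 : act 2 n61943 = n58930 := (sb E91494 F176391)
theorem F327445 : act 5 n61943 = n52258 := (sb E91494 (iv5 D113214))
theorem E91957 : n60545 = n52283 := (((iv1 F164341)).symm.trans (sb E91495 (iv1 D113278)))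
theorem F327446 : act 5 n60515 = n58909 := (sb E91495 F176476)
theorem E91958 : n126174 = n60672 := ((D126174).symm.trans (sb E91496 (iv5 D129050)))
theorem F327447 : act 5 n61947 = n58931 := (sb E91497 F202341)
theorem F327448 : act 7 n61947 = n58930 := (sb E91497 (iv7 D125845))
theorem F327449 : act 0 n111426 = n157900 := (sb E91498 (iv1 F280729))
theorem F327450 : act 1 n111426 = n157899 := (sb E91498 F280727)
theorem F327451 : act 2 n111426 = n86155 := (sb E91498 (iv2 D180392))
theorem F327452 : act 7 n111426 = n157901 := (sb E91498 F280726)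
theorem F327453 : act 0 n111275 = n163965 := (sb E91499 (iv1 F301268))
theorem F327454 : act 1 n111275 = n75209 := (sb E91499 (iv0 D157871))
theorem F327455 : act 2 n111275 = n163969 := (sb E91499 (iv2 F301264))
theorem F327456 : act 5 n111275 = n91209 := (sb E91499 F248792)
theorem F327457 : act 7 n111275 = n163968 := (sb E91499 (iv7 F301262))
theorem F327458 : act 0 n88934 = n109012 := (sb E91500 F172614)
theorem F327459 : act 1 n88934 = n109016 := (sb E91500 F172615)
theorem E91959 : n171155 = n51384 := (((iv2 F268897)).symm.trans (sb E91500 F172613))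
theorem F327460 : act 5 n88934 = n51321 := (sb E91500 (iv5 D111278))
theorem F327461 : act 0 n109010 = n81907 := (sb E91501 (iv1 D170850))
theorem E91962 : n63006 = n40473 := (((iv3 F98319)).symm.trans (sb E91502 F133709))
theorem E91963 : n63011 = n40472 := ((D63011).symm.trans (sb E91502 (iv5 D87107)))
theorem F327462 : act 0 n109004 = n157866 := (sb E91503 (iv1 F248784))
theorem F327463 : act 1 n109004 = n56644 := (sb E91503 (iv0 D122325))
theorem F327464 : act 2 n109004 = n157865 := (sb E91503 F262737)
theorem F327465 : act 5 n93768 = n50332 := (sb E91504 F169013)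
theorem F327466 : act 7 n93768 = n50331 := (sb E91504 (iv7 D109020))
theorem F327467 : act 0 n109025 = n180481 := (sb E91505 (iv1 F281407))
theorem F327468 : act 1 n109025 = n180480 := (sb E91505 F281405)
theorem F327469 : act 2 n109025 = n86343 := (sb E91505 (iv2 D180782))
theorem F327470 : act 7 n109025 = n180482 := (sb E91505 F281404)
theorem F327471 : act 6 n64557 = n67206 := (sb E91506 (iv6 D143481))
theorem F327472 : act 4 n68410 = n63792 := (sb E91507 F218163)
theorem E91965 : n145892 = n63790 := ((D145892).symm.trans (sb E91507 (iv6 D135676)))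
theorem F327473 : act 4 n52562 = n64609 := (sb E91508 (iv4 D137460))
theorem E91966 : n115182 = n113822 := (((D113822).symm.trans (sb E91508 F220656))).symm
theorem E91967 : n127083 = n25520 := (((D25520).symm.trans (sb E91509 F218153))).symm
theorem E91968 : n115199 = n113849 := (((D113849).symm.trans (sb E91510 (iv1 F179406)))).symm
theorem E91969 : n113850 = n53127 := ((D113850).symm.trans (sb E91510 F179362))
theorem F327474 : act 4 n52570 = n30019 := (sb E91510 (iv4 D63578))
theorem E91972 : n115183 = n113852 := (((D113852).symm.trans (sb E91510 (iv7 F179365)))).symm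
theorem F327475 : act 4 n52561 = n63749 := (sb E91511 F218021)
theorem E91973 : n113819 = n63748 := ((D113819).symm.trans (sb E91511 (iv6 D135574)))
theorem F327476 : act 4 n54173 = n64110 := (sb E91512 (iv4 D136363))
theorem E91974 : n117589 = n64323 := ((D117589).symm.trans (sb E91512 F219473))
theorem E91975 : n113839 = n30122 := ((D113839).symm.trans (sb E91513 F100301))
theorem E91976 : n113840 = n63762 := ((D113840).symm.trans (sb E91513 F100302))
theorem E91977 : n135237 = n113833 := ((((iv3 F177127)).symm.trans (sb E91513 D135237))).symm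
theorem F327477 : act 4 n52567 = n30007 := (sb E91513 (iv4 D63553))
theorem E91978 : n135238 = n113841 := (((D113841).symm.trans (sb E91513 D135238))).symm
theorem E91979 : n113842 = n63744 := ((D113842).symm.trans (sb E91513 F99781))
theorem F327478 : act 3 n115489 = n68618 := (sb E91516 F183916)
theorem F327479 : act 5 n115489 = n71945 := (sb E91516 F183917)
theorem F327480 : act 6 n115489 = n54111 := (sb E91516 (iv6 D117419))
theorem E91980 : n137434 = n52563 := ((((iv1 D113824)).symm.trans (sb E91517 F220637))).symm
theorem E91981 : n111036 = n52576 := (((F177105).symm.trans (sb E91517 (iv0 F207120)))).symm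
theorem F327481 : act 6 n113824 = n60608 := (sb E91517 (iv6 D128870))
theorem E91982 : n133224 = n120123 := (((iv5 F214064)).symm.trans (sb E91518 F227673))
theorem F327482 : act 6 n63572 = n67854 := (sb E91518 (iv6 D144789))
theorem E91983 : n135227 = n69725 := ((D135227).symm.trans (sb E91519 F227674))
theorem F327483 : act 6 n63544 = n67855 := (sb E91519 (iv6 D144790))
theorem F327484 : act 4 n90494 = n66479 := (sb E91520 F220673)
theorem F327485 : act 6 n90494 = n133160 := (sb E91520 F220674)
theorem E91984 : n135469 = n54786 := ((D135469).symm.trans (sb E91522 F183922))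
theorem F327486 : act 6 n63681 = n54112 := (sb E91522 (iv6 D117421))
theorem F327487 : act 0 n149519 = n101662 := (sb E91523 F273918)
theorem F327488 : act 5 n149519 = n83583 := (sb E91523 (iv5 D175011))
theorem F327489 : act 6 n149519 = n84013 := (sb E91523 F273917)
theorem F327490 : act 0 n133257 = n64587 := (sb E91524 (iv1 F218923))
theorem F327491 : act 1 n133257 = n63969 := (sb E91524 (iv0 D136046))
theorem F327492 : act 0 n134175 = n63969 := (sb E91525 (iv1 D136047))
theorem F327493 : act 1 n134175 = n64587 := (sb E91525 F218918)
theorem F327494 : act 0 n130757 = n64585 := (sb E91526 (iv1 F218924))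
theorem F327495 : act 1 n130757 = n64584 := (sb E91526 F218925)
theorem F327496 : act 2 n130757 = n64587 := (sb E91526 F218921)
theorem F327497 : act 6 n130757 = n64667 := (sb E91526 F218922)
theorem F327498 : act 7 n130757 = n63969 := (sb E91526 (iv7 D136049))
theorem F327499 : act 1 n130718 = n64741 := (sb E91527 (iv0 D137736))
theorem F327500 : act 0 n130717 = n64741 := (sb E91528 (iv1 D137737))
theorem F327501 : act 5 n135118 = n64741 := (sb E91529 (iv5 D137738))
theorem F327502 : act 6 n135118 = n109590 := (sb E91529 F220990)
theorem F327503 : act 6 n130719 = n136835 := (sb E91530 F220992)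
theorem F327504 : act 7 n130719 = n64741 := (sb E91530 (iv7 D137739))
theorem F327505 : act 0 n134201 = n64802 := (sb E91531 (iv1 F220967))
theorem F327506 : act 1 n134201 = n64820 := (sb E91531 (iv0 F220968))
theorem F327507 : act 2 n134201 = n64740 := (sb E91531 (iv2 D137733))
theorem F327508 : act 5 n134201 = n109594 := (sb E91531 F220962)
theorem F327509 : act 7 n134201 = n64816 := (sb E91531 F220963)
theorem F327510 : act 5 n64312 = n63043 := (sb E91532 (iv5 D134202))
theorem F327511 : act 1 n126305 = n81499 := (sb E91533 (iv0 D169897))
theorem F327512 : act 0 n111551 = n157840 := (sb E91541 (iv1 F256576))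
theorem F327513 : act 1 n111551 = n125399 := (sb E91541 F254412)
theorem F327514 : act 2 n111551 = n79975 := (sb E91541 (iv2 F257934))
theorem F327515 : act 5 n111551 = n157968 := (sb E91541 F253453)
theorem F327516 : act 7 n111551 = n124293 := (sb E91541 (iv7 F257951))
theorem F327517 : act 0 n111555 = n86143 := (sb E91542 F262482)
theorem F327518 : act 3 n111555 = n157968 := (sb E91542 (iv3 F262481))
theorem F327519 : act 4 n111555 = n80039 := (sb E91542 (iv4 D166746))
theorem F327520 : act 7 n111555 = n163336 := (sb E91542 F262479)
theorem F327521 : act 1 n57945 = n51459 := (sb E91543 (iv0 D111574))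
theorem F327522 : act 0 n35142 = n51459 := (sb E91544 (iv1 D111575))
theorem F327523 : act 2 n57944 = n51459 := (sb E91545 F173110)
theorem E91985 : n124299 = n51457 := ((D124299).symm.trans (sb E91545 (iv6 D111569)))
theorem F327524 : act 1 n111576 = n78772 := (sb E91546 F257966)
theorem F327525 : act 2 n111576 = n124298 := (sb E91546 F257964)
theorem F327526 : act 7 n111576 = n124294 := (sb E91546 F257954)
theorem E91986 : n86217 = n86086 := ((F327428).symm.trans (sb E91548 (iv3 D180177)))
theorem F327527 : act 5 n112260 = n75305 := (sb E91558 (iv5 D158109))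
theorem F327528 : act 5 n112261 = n75306 := (sb E91559 (iv5 D158114))
theorem F327529 : act 6 n109260 = n75306 := (sb E91560 (iv6 D158115))
theorem F327530 : act 0 n78657 = n52229 := (sb E91561 (iv1 F168392))
theorem F327531 : act 1 n78657 = n63080 := (sb E91561 F168391)
theorem F327532 : act 2 n78657 = n63079 := (sb E91561 F168377)
theorem F327533 : act 4 n78657 = n129668 := (sb E91561 (iv4 F207842))
theorem E91987 : n163716 = n63693 := ((D163716).symm.trans (sb E91561 (iv6 F168382)))
theorem F327534 : act 7 n78657 = n63078 := (sb E91561 (iv7 F168383))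
theorem E91990 : n110653 = n37911 := ((D110653).symm.trans (sb E91562 F127200))
theorem E91992 : n110654 = n37909 := ((D110654).symm.trans (sb E91562 (iv5 D82585)))
theorem E91993 : n172501 = n110401 := ((((iv6 F170767)).symm.trans (sb E91562 D172501))).symm
theorem F327535 : act 3 n45947 = n52040 := (sb E91563 F175523)
theorem E91994 : n113241 = n98262 := (((D98262).symm.trans (sb E91563 (iv4 F176436)))).symm
theorem E91995 : n98263 = n52038 := ((D98263).symm.trans (sb E91563 (iv6 D112743)))
theorem E91996 : n110408 = n98259 := (((D98259).symm.trans (sb E91564 F175526))).symm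
theorem F327536 : act 5 n45946 = n52040 := (sb E91564 (iv5 D112745))
theorem E91997 : n110590 = n85132 := ((D110590).symm.trans (sb E91565 (iv5 D178694)))
theorem F327537 : act 6 n50992 = n85135 := (sb E91565 F278512)
theorem E91998 : n110592 = n85129 := (((iv2 F171160)).symm.trans (sb E91566 F272550))
theorem F327538 : act 5 n51021 = n83160 := (sb E91566 (iv5 D173900))
theorem F327539 : act 3 n50808 = n45851 := (sb E91577 (iv3 F326918))
theorem F327540 : act 1 n113526 = n172452 := (sb E91591 (iv0 F274632))
theorem F327541 : act 4 n113526 = n83777 := (sb E91591 F274630)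
theorem F327542 : act 7 n113526 = n83776 := (sb E91591 (iv7 D175445))
theorem F327543 : act 0 n113473 = n83776 := (sb E91592 (iv1 D175442))
theorem F327544 : act 4 n113473 = n158332 := (sb E91592 F274628)
theorem F327545 : act 7 n113473 = n172452 := (sb E91592 F275039)
theorem F327546 : act 1 n113232 = n83776 := (sb E91593 (iv0 D175441))
theorem F327547 : act 2 n113232 = n172452 := (sb E91593 (iv2 F275037))
theorem E91999 : n163718 = n52236 := ((D163718).symm.trans (sb E91594 F168396))
theorem E92000 : n163719 = n50157 := ((D163719).symm.trans (sb E91594 (iv0 F168395)))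
theorem F327548 : act 2 n78658 = n50615 := (sb E91594 (iv2 F168352))
theorem E92001 : n163721 = n52235 := ((D163721).symm.trans (sb E91594 (iv7 F168363)))
theorem F327549 : act 0 n78665 = n59221 := (sb E91595 (iv1 F176335))
theorem E92002 : n163731 = n59223 := ((D163731).symm.trans (sb E91595 F176333))
theorem E92003 : n163732 = n120924 := ((D163732).symm.trans (sb E91595 F320695))
theorem E92004 : n163733 = n59218 := ((D163733).symm.trans (sb E91595 F176334))
theorem E92005 : n163734 = n75866 := ((D163734).symm.trans (sb E91595 F320698))
theorem E92006 : n163735 = n120741 := ((D163735).symm.trans (sb E91595 (iv6 F322465)))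
theorem E92007 : n163736 = n52239 := ((D163736).symm.trans (sb E91595 (iv7 D113171)))
theorem F327550 : act 0 n28121 = n35829 := (sb E91596 (iv1 D78666))
theorem E92012 : n163699 = n84913 := ((D163699).symm.trans (sb E91597 F320700))
theorem F327551 : act 5 n39285 = n35829 := (sb E91598 (iv5 D78667))
theorem E92016 : n163729 = n84916 := (((D84916).symm.trans (sb E91598 (iv6 F258089)))).symm
theorem E92017 : n163744 = n54939 := ((((iv7 F155328)).symm.trans (sb E91598 D163744))).symm
theorem F327552 : act 0 n78668 = n52239 := (sb E91599 F176318)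
theorem F327553 : act 1 n78668 = n59223 := (sb E91599 (iv0 F176319))
theorem F327554 : act 2 n78668 = n59221 := (sb E91599 F176316)
theorem F327555 : act 3 n58899 = n75182 := (sb E91600 (iv3 D157797))
theorem F327556 : act 5 n119381 = n55925 := (sb E91601 (iv5 D121222))
theorem F327557 : act 6 n78684 = n59221 := (sb E91602 (iv6 D126329))
theorem F327558 : act 0 n59328 = n54128 := (sb E91603 F120215)
theorem F327559 : act 1 n59328 = n54115 := (sb E91603 F120216)
theorem E92018 : n141281 = n50105 := (((F93578).symm.trans (sb E91603 (iv3 F324372)))).symm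
theorem F327560 : act 0 n60557 = n54115 := (sb E91604 F103892)
theorem F327561 : act 1 n60557 = n54128 := (sb E91604 F103893)
theorem E92021 : n144768 = n28767 := (((F95174).symm.trans (sb E91604 D144768))).symm
theorem F327562 : act 3 n60506 = n54115 := (sb E91605 (iv3 D117425))
theorem E92024 : n64735 = n54186 := ((D64735).symm.trans (sb E91606 (iv1 F177159)))
theorem E92025 : n59637 = n52574 := (((iv0 F102039)).symm.trans (sb E91606 (iv0 D113865)))
theorem E92026 : n54131 = n14461 := (((F48867).symm.trans (sb E91606 (iv4 F177158)))).symm
theorem F327563 : act 5 n30451 = n54115 := (sb E91606 F177157)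
theorem F327564 : act 3 n29414 = n54128 := (sb E91607 (iv3 D117456))
theorem E92027 : n148758 = n62131 := (((D62131).symm.trans (sb E91607 (iv4 F233551)))).symm
theorem E92028 : n64011 = n54121 := ((F162163).symm.trans (sb E91608 (iv4 F177162)))
theorem F327565 : act 5 n105570 = n54128 := (sb E91608 F177161)
theorem F327566 : act 0 n94046 = n115104 := (sb E91609 F218324)
theorem F327567 : act 1 n94046 = n130709 := (sb E91609 F218325)
theorem F327568 : act 2 n94046 = n130707 := (sb E91609 F218322)
theorem F327569 : act 5 n94046 = n63832 := (sb E91609 (iv5 D135766))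
theorem F327570 : act 7 n94046 = n130706 := (sb E91609 F218323)
theorem E92029 : n136360 = n117497 := ((D136360).symm.trans (sb E91611 (iv1 F184054)))
theorem E92030 : n136361 = n117491 := ((D136361).symm.trans (sb E91611 (iv0 F184029)))
theorem E92031 : n117540 = n62658 := (((F99727).symm.trans (sb E91611 F184140))).symm
theorem E92032 : n64746 = n54119 := (((iv5 F100617)).symm.trans (sb E91611 (iv5 D117435)))
theorem E92033 : n136025 = n117541 := (((iv7 F218873)).symm.trans (sb E91611 (iv7 F184143)))
theorem F327571 : act 4 n35968 = n59328 := (sb E91612 F203273)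
theorem E92034 : n79028 = n59327 := (((iv6 F120213)).symm.trans (sb E91612 (iv6 D126451)))
theorem F327572 : act 7 n35968 = n64621 := (sb E91612 (iv7 F203276))
theorem F327573 : act 2 n31517 = n64621 := (sb E91613 F207025)
theorem F327574 : act 4 n31517 = n60557 := (sb E91613 F207026)
theorem E92035 : n130711 = n67848 := (((D67848).symm.trans (sb E91613 F209278))).symm
theorem E92036 : n131900 = n113792 := (((D113792).symm.trans (sb E91614 F214016))).symm
theorem E92037 : n113793 = n62497 := ((D113793).symm.trans (sb E91614 (iv6 D133192)))
theorem E92040 : n113804 = n62498 := (((D62498).symm.trans (sb E91616 D113804))).symm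
theorem F327575 : act 6 n29537 = n25508 := (sb E91616 (iv6 D52550))
theorem E92042 : n63970 = n26211 := ((D63970).symm.trans (sb E91617 (iv1 D54185)))
theorem E92043 : n113867 = n63971 := (((D63971).symm.trans (sb E91617 (iv0 F177165)))).symm
theorem E92044 : n117513 = n14435 := (((F48527).symm.trans (sb E91617 F184094))).symm
theorem E92045 : n117624 = n63968 := ((((iv3 F99536)).symm.trans (sb E91617 D117624))).symm
theorem E92046 : n67859 = n63972 := (((D63972).symm.trans (sb E91617 F103914))).symm
theorem E92049 : n60566 = n52016 := ((((iv4 F82176)).symm.trans (sb E91618 F207024))).symm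
theorem E92050 : n60552 = n52446 := (((D52446).symm.trans (sb E91618 (iv6 D128755)))).symm
theorem F327576 : act 4 n28756 = n52445 := (sb E91619 (iv4 D113603))
theorem E92051 : n55613 = n53160 := ((((iv5 F83937)).symm.trans (sb E91621 F176777))).symm
theorem F327577 : act 6 n28755 = n52445 := (sb E91621 (iv6 D113604))
theorem F327578 : act 3 n76394 = n64621 := (sb E91622 (iv3 D137476))
theorem E92052 : n146653 = n137210 := ((((iv5 F220366)).symm.trans (sb E91623 (iv5 F229950)))).symm
theorem F327579 : act 5 n31516 = n64621 := (sb E91624 (iv5 D137477))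
theorem E92053 : n114783 = n111865 := ((((iv1 F220679)).symm.trans (sb E91625 F227645))).symm
theorem F327580 : act 3 n137478 = n159677 := (sb E91625 (iv3 F251548))
theorem F327581 : act 5 n137478 = n114597 := (sb E91625 F227644)
theorem F327582 : act 1 n32348 = n64622 := (sb E91626 (iv0 D137479))
theorem F327583 : act 0 n59837 = n64622 := (sb E91627 (iv1 D137480))
theorem F327584 : act 2 n52552 = n64622 := (sb E91628 F214017)
theorem E92054 : n129128 = n113807 := (((D113807).symm.trans (sb E91628 F214018))).symm
theorem F327585 : act 0 n129132 = n68850 := (sb E91629 (iv1 F230248))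
theorem F327586 : act 1 n129132 = n68848 := (sb E91629 (iv0 D146858))
theorem F327587 : act 7 n129132 = n113808 := (sb E91629 (iv7 F230250))
theorem F327588 : act 5 n52542 = n64622 := (sb E91630 (iv5 D137481))
theorem F327589 : act 7 n52554 = n64622 := (sb E91632 F214677)
theorem E92055 : n130913 = n113814 := (((D113814).symm.trans (sb E91637 (iv1 F213999)))).symm
theorem E92056 : n130912 = n113815 := (((D113815).symm.trans (sb E91637 F214000))).symm
theorem F327590 : act 4 n52559 = n62496 := (sb E91637 F213997)
theorem E92057 : n113816 = n62493 := ((D113816).symm.trans (sb E91637 (iv7 D133188)))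
theorem E92058 : n117622 = n64579 := ((((iv3 F100518)).symm.trans (sb E91638 D117622))).symm
theorem E92059 : n67858 = n64601 := ((((iv5 F100531)).symm.trans (sb E91638 F103910))).symm
theorem F327591 : act 0 n99293 = n115960 := (sb E91640 (iv1 F320761))
theorem F327592 : act 1 n99293 = n115959 := (sb E91640 (iv0 F320758))
theorem F327593 : act 2 n99293 = n71142 := (sb E91640 F237609)
theorem F327594 : act 4 n99293 = n71138 := (sb E91640 F237610)
theorem E92061 : n71137 = n46431 := (((F152880).symm.trans (sb E91640 (iv6 D150893)))).symm
theorem F327595 : act 7 n99293 = n115954 := (sb E91640 (iv7 F320757))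
theorem E92062 : n74407 = n27467 := ((((iv1 F299224)).symm.trans (sb E91641 (iv1 F111666)))).symm
theorem E92063 : n82023 = n68175 := ((D82023).symm.trans (sb E91641 (iv0 F104322)))
theorem E92064 : n111452 = n46698 := ((((iv2 F73808)).symm.trans (sb E91641 (iv2 F172966)))).symm
theorem F327596 : act 3 n37586 = n71142 := (sb E91641 F320495)
theorem E92065 : n82024 = n25904 := ((D82024).symm.trans (sb E91641 F84367))
theorem E92066 : n115975 = n18030 := ((((iv5 D37586)).symm.trans (sb E91641 (iv5 F180578)))).symm
theorem E92067 : n46694 = n30700 := (((iv6 F73800)).symm.trans (sb E91641 F84368))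
theorem E92068 : n82025 = n25901 := ((D82025).symm.trans (sb E91641 (iv7 D53467)))
theorem F327597 : act 5 n37583 = n71142 := (sb E91643 (iv5 D150907))
theorem E92069 : n87917 = n33972 := (((F53310).symm.trans (sb E91644 (iv1 F152903)))).symm
theorem E92070 : n98911 = n71139 := (((D71139).symm.trans (sb E91644 (iv0 F152868)))).symm
theorem E92071 : n71141 = n46426 := ((D71141).symm.trans (sb E91644 (iv5 D99288)))
theorem E92072 : n115961 = n82021 := ((D115961).symm.trans (sb E91645 F268872))
theorem E92073 : n156696 = n154085 := (((D154085).symm.trans (sb E91646 (iv1 F315859)))).symm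
theorem E92074 : n154086 = n65087 := ((D154086).symm.trans (sb E91646 (iv0 F315860)))
theorem E92075 : n154083 = n138306 := (((iv2 F242164)).symm.trans (sb E91646 (iv2 F315846)))
theorem F327598 : act 5 n72961 = n39448 := (sb E91646 (iv5 D85411))
theorem E92078 : n154088 = n124941 := ((D154088).symm.trans (sb E91646 (iv7 F200673)))
theorem E92079 : n169930 = n60548 := ((D169930).symm.trans (sb E91647 (iv1 F207012)))
theorem E92080 : n169929 = n128671 := (((iv2 F267350)).symm.trans (sb E91647 (iv2 F207011)))
theorem F327599 : act 4 n81512 = n62982 := (sb E91647 F207010)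
theorem E92081 : n169933 = n107224 := ((D169933).symm.trans (sb E91647 (iv6 F207014)))
theorem F327600 : act 3 n109029 = n172220 := (sb E91648 (iv3 F270431))
theorem F327601 : act 5 n109029 = n81871 := (sb E91648 (iv5 D170767))
theorem F327602 : act 3 n42110 = n63012 := (sb E91649 F216174)
theorem E92082 : n135051 = n90090 := (((D90090).symm.trans (sb E91650 (iv1 F217284)))).symm
theorem E92083 : n135048 = n90091 := (((D90091).symm.trans (sb E91650 (iv0 F217276)))).symm
theorem F327603 : act 5 n42109 = n63012 := (sb E91650 F216184)
theorem F327604 : act 0 n109001 = n157865 := (sb E91651 (iv1 F248785))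
theorem F327605 : act 2 n109001 = n56644 := (sb E91651 (iv2 D122327))
theorem F327606 : act 3 n109001 = n81915 := (sb E91651 F195610)
theorem F327607 : act 4 n109001 = n120979 := (sb E91651 F195611)
theorem F327608 : act 7 n109001 = n157866 := (sb E91651 (iv7 F248783))
theorem F327609 : act 0 n75206 = n50327 := (sb E91652 (iv1 D109002))
theorem F327610 : act 0 n108996 = n56644 := (sb E91653 (iv1 D122326))
theorem F327611 : act 1 n108996 = n157866 := (sb E91653 F248786)
theorem F327612 : act 4 n108996 = n165723 := (sb E91653 (iv4 F261080))
theorem F327613 : act 7 n108996 = n157865 := (sb E91653 (iv7 F262738))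
theorem F327614 : act 3 n91127 = n50331 := (sb E91654 F169007)
theorem F327615 : act 5 n91127 = n50327 := (sb E91654 (iv5 D109003))
theorem F327616 : act 4 n42173 = n50331 := (sb E91655 (iv4 D109019))
theorem F327617 : act 5 n87106 = n50343 := (sb E91656 (iv5 D109032))
theorem F327618 : act 4 n115459 = n53712 := (sb E91659 F181889)
theorem F327619 : act 6 n115459 = n53710 := (sb E91659 (iv6 D116545))
theorem F327620 : act 0 n115242 = n141535 := (sb E91661 F322130)
theorem F327621 : act 4 n115242 = n53734 := (sb E91661 F181943)
theorem E92084 : n163647 = n113395 := (((D113395).symm.trans (sb E91662 (iv1 F257987)))).symm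
theorem E92085 : n163646 = n113396 := (((D113396).symm.trans (sb E91662 F257985))).symm
theorem E92086 : n113391 = n79976 := (((iv2 F176588)).symm.trans (sb E91662 (iv2 F257980)))
theorem F327622 : act 4 n52344 = n35816 := (sb E91662 (iv4 D78630))
theorem E92087 : n163656 = n113397 := (((D113397).symm.trans (sb E91662 D163656))).symm
theorem F327623 : act 7 n52344 = n79981 := (sb E91662 (iv7 F257927))
theorem F327624 : act 0 n113464 = n166555 := (sb E91663 (iv1 F262068))
theorem F327625 : act 1 n113464 = n78598 := (sb E91663 (iv0 D163583))
theorem F327626 : act 1 n60998 = n46047 := (sb E91664 (iv0 D98455))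
theorem F327627 : act 1 n98456 = n50108 := (sb E91665 (iv0 D108513))
theorem F327628 : act 2 n98456 = n108420 := (sb E91665 F171895)
theorem F327629 : act 3 n98456 = n61928 := (sb E91665 (iv3 F168379))
theorem F327630 : act 4 n98456 = n63468 := (sb E91665 F169933)
theorem F327631 : act 5 n98456 = n109011 := (sb E91665 (iv5 F169932))
theorem F327632 : act 7 n98456 = n108421 := (sb E91665 F171893)
theorem F327633 : act 3 n58836 = n46047 := (sb E91666 (iv3 D98457))
theorem F327634 : act 4 n58836 = n46107 := (sb E91666 F151866)
theorem F327635 : act 5 n58796 = n46047 := (sb E91667 (iv5 D98458))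
theorem E92089 : n100841 = n90091 := (((iv2 F294415)).symm.trans (sb E91668 (tr (iv2 F217274) E92083)))
theorem F327636 : act 5 n87104 = n111430 := (sb E91668 F216182)
theorem F327637 : act 1 n63469 = n87226 := (sb E91669 (iv0 D182725))
theorem F327638 : act 0 n63468 = n87226 := (sb E91670 (iv1 D182726))
theorem E92090 : n135003 = n41135 := (((F89554).symm.trans (sb E91671 (iv3 F217225)))).symm
theorem F327639 : act 4 n56626 = n29976 := (sb E91671 F98785)
theorem F327640 : act 7 n56626 = n29973 := (sb E91671 (iv7 D63449))
theorem E92092 : n182059 = n135039 := (((D135039).symm.trans (sb E91672 (iv1 F294308)))).symm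
theorem E92093 : n182058 = n135040 := (((D135040).symm.trans (sb E91672 (iv0 F294306)))).symm
theorem E92094 : n135034 = n87216 := (((iv2 F217268)).symm.trans (sb E91672 F284270))
theorem E92095 : n135041 = n87215 := ((D135041).symm.trans (sb E91672 (iv5 D182698)))
theorem E92096 : n134147 = n87224 := (((iv1 F216180)).symm.trans (sb E91673 (iv1 F295208)))
theorem F327641 : act 1 n63470 = n87223 := (sb E91673 (iv0 F295207))
theorem E92097 : n135052 = n43579 := ((D135052).symm.trans (sb E91673 F294951))
theorem E92098 : n135045 = n94105 := (((iv6 F217272)).symm.trans (sb E91673 (iv6 F145029)))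
theorem F327642 : act 7 n63470 = n37484 := (sb E91673 (iv7 D81874))
theorem F327643 : act 1 n63447 = n37487 := (sb E91674 (iv0 D81881))
theorem E92099 : n135014 = n101481 := ((D135014).symm.trans (sb E91674 (iv3 F277375)))
theorem E92100 : n135015 = n76840 := ((D135015).symm.trans (sb E91674 (iv5 F303349)))
theorem E92101 : n170789 = n135016 := (((D135016).symm.trans (sb E91674 D170789))).symm
theorem F327644 : act 0 n63446 = n37487 := (sb E91675 (iv1 D81882))
theorem E92103 : n135013 = n122357 := ((D135013).symm.trans (sb E91675 (iv5 F195683)))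
theorem E92104 : n123995 = n63088 := ((((iv6 F168018)).symm.trans (sb E91675 (iv6 F304196)))).symm
theorem F327645 : act 2 n57538 = n29973 := (sb E91676 F98600)
theorem E92105 : n134774 = n123472 := ((((iv3 F197880)).symm.trans (sb E91676 (iv3 F216860)))).symm
theorem F327646 : act 4 n57538 = n29924 := (sb E91676 F98601)
theorem E92107 : n123475 = n29923 := ((D123475).symm.trans (sb E91676 (iv6 D63335)))
theorem E92109 : n105191 = n62101 := ((D105191).symm.trans (sb E91677 (iv5 D132370)))
theorem E92110 : n128748 = n105192 := (((D105192).symm.trans (sb E91677 F212373))).symm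
theorem E92113 : n132057 = n50979 := (((F82102).symm.trans (sb E91678 (iv6 F211537)))).symm
theorem F327647 : act 0 n49270 = n58930 := (sb E91679 F176756)
theorem F327648 : act 5 n49270 = n52436 := (sb E91679 (iv5 D113599))
theorem F327649 : act 1 n61968 = n58930 := (sb E91680 F171131)
theorem F327650 : act 5 n61968 = n50984 := (sb E91680 (iv5 D110575))
theorem F327651 : act 0 n113274 = n180329 := (sb E91681 (iv1 F280628))
theorem F327652 : act 1 n113274 = n180328 := (sb E91681 F280623)
theorem F327653 : act 2 n113274 = n75173 := (sb E91681 (iv2 D157776))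
theorem F327654 : act 3 n86125 = n61968 := (sb E91683 F211536)
theorem E92114 : n75166 = n61963 := ((F132066).symm.trans (sb E91683 (iv7 D132054)))
theorem E92115 : n125775 = n95288 := ((D125775).symm.trans (sb E91684 (iv1 F248677)))
theorem E92116 : n125776 = n75179 := ((D125776).symm.trans (sb E91684 (iv0 D157785)))
theorem F327655 : act 6 n58921 = n81509 := (sb E91685 (iv6 D169925))
theorem F327656 : act 0 n52283 = n81512 := (sb E91688 (iv1 D169931))
theorem F327657 : act 4 n49262 = n58930 := (sb E91689 (iv4 D125844))
theorem F327658 : act 1 n111775 = n78678 := (sb E91690 (iv0 D163765))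
theorem F327659 : act 5 n64247 = n78678 := (sb E91691 (iv5 D163767))
theorem F327660 : act 4 n136744 = n78684 := (sb E91692 F258122)
theorem F327661 : act 7 n136744 = n78678 := (sb E91692 (iv7 D163768))
theorem F327662 : act 3 n125548 = n78650 := (sb E91693 (iv3 D163693))
theorem F327663 : act 4 n125548 = n78656 := (sb E91693 F258040)
theorem F327664 : act 3 n49340 = n78657 := (sb E91694 F258064)
theorem F327665 : act 5 n49340 = n78656 := (sb E91694 (iv5 D163710))
theorem F327666 : act 3 n48651 = n78658 := (sb E91695 F258065)
theorem F327667 : act 6 n48651 = n78656 := (sb E91695 (iv6 D163711))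
theorem F327668 : act 0 n79915 = n83741 := (sb E91696 (iv1 D175355))
theorem F327669 : act 1 n79915 = n152924 := (sb E91696 F274402)
theorem F327670 : act 2 n79915 = n118913 := (sb E91696 F274400)
theorem E92117 : n172559 = n166473 := (((D166473).symm.trans (sb E91696 F274401))).symm
theorem E92118 : n166474 = n118910 := ((D166474).symm.trans (sb E91696 (iv5 F274399)))
theorem F327671 : act 7 n79915 = n119239 := (sb E91696 F274398)
theorem F327672 : act 4 n166381 = n83741 := (sb E91697 (iv4 D175356))
theorem F327673 : act 0 n126551 = n68844 := (sb E91698 (iv1 D146849))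
theorem E92119 : n172069 = n33834 := ((((iv1 D73622)).symm.trans (sb E91699 D172069))).symm
theorem E92120 : n172070 = n126912 := ((((iv0 F326273)).symm.trans (sb E91699 D172070))).symm
theorem E92121 : n155060 = n130522 := ((((iv2 F326278)).symm.trans (sb E91699 (iv2 F314828)))).symm
theorem E92122 : n155104 = n37800 := ((D155104).symm.trans (sb E91699 (iv3 D82410)))
theorem E92123 : n155105 = n38157 := ((D155105).symm.trans (sb E91699 (iv4 F298761)))
theorem E92124 : n155107 = n38151 := ((D155107).symm.trans (sb E91699 F298289))
theorem E92125 : n155098 = n38817 := ((F243925).symm.trans (sb E91699 F126954))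
theorem E92126 : n176577 = n74753 := ((D176577).symm.trans (sb E91700 (iv1 F219442)))
theorem E92127 : n176578 = n107650 := ((D176578).symm.trans (sb E91700 F219443))
theorem E92128 : n176575 = n130523 := (((iv2 F275935)).symm.trans (sb E91700 F219439))
theorem E92129 : n176579 = n64105 := ((D176579).symm.trans (sb E91700 F219440))
theorem E92130 : n176580 = n116844 := ((D176580).symm.trans (sb E91700 F219441))
theorem F327674 : act 7 n84186 = n64102 := (sb E91700 (iv7 D136352))
theorem E92131 : n64122 = n47430 := (((D47430).symm.trans (sb E91701 F219499))).symm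
theorem E92132 : n64120 = n47433 := (((D47433).symm.trans (sb E91701 (iv6 D136391)))).symm
theorem E92133 : n136397 = n99462 := ((((iv1 F289576)).symm.trans (iv1 (sb E91702 (tr (iv0 F270155) E91913))))).symm
theorem E92134 : n170688 = n99462 := (E91702).trans E92133
theorem F327675 : act 4 n99462 = n81823 := (sb E92134 (iv4 D170688))
theorem E92135 : n176589 = n64129 := ((D176589).symm.trans (sb E91703 F219503))
theorem E92136 : n99798 = n84190 := (((iv7 F153632)).symm.trans (iv7 (sb E91703 (tr (iv7 D136399) E92131))))
theorem E92137 : n152383 = n130666 := ((D152383).symm.trans (sb E91704 F214628))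
theorem F327676 : act 6 n71890 = n62640 := (sb E91704 (iv6 D133463))
theorem E92138 : n64022 = n48236 := (((D48236).symm.trans (sb E91705 F219178))).symm
theorem F327677 : act 0 n30469 = n47077 := (sb E91706 F293731)
theorem F327678 : act 1 n30469 = n47519 := (sb E91706 F293732)
theorem F327679 : act 2 n30469 = n45359 := (sb E91706 (iv2 D97033))
theorem E92139 : n64773 = n46683 := (((iv3 F100629)).symm.trans (sb E91706 (iv3 F293823)))
theorem E92140 : n64794 = n47069 := ((D64794).symm.trans (sb E91706 F293733))
theorem E92141 : n87049 = n64780 := ((((iv6 F100632)).symm.trans (sb E91706 F149671))).symm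
theorem F327680 : act 7 n30469 = n48235 := (sb E91706 F293734)
theorem F327681 : act 5 n99955 = n118797 := (sb E91707 (iv5 F318352))
theorem E92142 : n64680 = n22774 := ((((iv0 F289764)).symm.trans (sb E91708 (iv0 D137611)))).symm
theorem F327682 : act 5 n88295 = n74396 := (sb E91710 F219173)
theorem F327683 : act 5 n99816 = n64774 := (sb E91711 F221058)
theorem E92145 : n183033 = n53642 := ((((iv1 F166094)).symm.trans (sb E91713 F289752))).symm
theorem F327684 : act 5 n30470 = n48235 := (sb E91713 (iv5 D104234))
theorem E92146 : n64016 = n45360 := (((D45360).symm.trans (sb E91715 (iv5 D136129)))).symm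
theorem F327685 : act 5 n30185 = n45359 := (sb E91717 (iv5 D97034))
theorem E92147 : n87050 = n64018 := ((D87050).symm.trans (sb E91718 (iv5 D136134)))
theorem E92148 : n137016 = n88296 := (((D88296).symm.trans (sb E91721 F221070))).symm
theorem F327686 : act 3 n102421 = n74238 := (sb E91722 (iv3 D156070))
theorem F327687 : act 6 n102421 = n115374 := (sb E91722 F245233)
theorem F327688 : act 7 n102421 = n137637 := (sb E91722 F245234)
theorem F327689 : act 6 n64398 = n47521 := (sb E91723 (iv6 D102422))
theorem E92149 : n101008 = n30221 := ((D101008).symm.trans (sb E91724 (iv1 D64127)))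
theorem E92150 : n115537 = n101009 := (((D101009).symm.trans (sb E91724 F179838))).symm
theorem E92152 : n108040 = n101010 := (((D101010).symm.trans (sb E91724 F179828))).symm
theorem E92154 : n115533 = n99740 := ((((iv7 F290165)).symm.trans (sb E91724 F179825))).symm
theorem E92155 : n64681 = n22323 := ((((iv1 F290133)).symm.trans (sb E91725 (iv1 F219013)))).symm
theorem E92156 : n63993 = n22773 := ((((iv0 F290134)).symm.trans (sb E91725 (iv0 D136083)))).symm
theorem E92158 : n64679 = n22772 := ((((iv7 F290136)).symm.trans (sb E91725 (iv7 F219012)))).symm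
theorem E92159 : n136408 = n101369 := ((((iv3 F156133)).symm.trans (sb E91726 D136408))).symm
theorem E92160 : n108039 = n102062 := (((D102062).symm.trans (sb E91726 F166993))).symm
theorem E92161 : n102063 = n30318 := ((D102063).symm.trans (sb E91726 F100317))
theorem F327690 : act 0 n64493 = n54173 := (sb E91727 F104917)
theorem F327691 : act 1 n64493 = n54177 := (sb E91727 F104918)
theorem E92162 : n136016 = n79049 := (((iv2 F218850)).symm.trans (sb E91727 (iv2 F120261)))
theorem E92163 : n142623 = n137208 := ((((iv3 F220355)).symm.trans (sb E91727 (iv3 F225495)))).symm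
theorem E92164 : n64599 = n31975 := ((F100530).symm.trans (sb E91727 (iv5 D68724)))
theorem E92166 : n132188 = n67860 := (((iv7 F211763)).symm.trans (sb E91727 F104916))
theorem F327692 : act 0 n64115 = n54177 := (sb E91728 (iv1 F184190))
theorem F327693 : act 1 n64115 = n54173 := (sb E91728 (iv0 D117588))
theorem E92167 : n67856 = n64598 := ((((iv5 F100528)).symm.trans (sb E91728 F184188))).symm
theorem F327694 : act 4 n117505 = n62656 := (sb E91729 (iv4 D133496))
theorem E92168 : n137425 = n54145 := ((((iv5 D117505)).symm.trans (sb E91729 F220630))).symm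
theorem F327695 : act 6 n117505 = n64941 := (sb E91729 F214679)
theorem F327696 : act 4 n117502 = n62657 := (sb E91730 (iv4 D133497))
theorem F327697 : act 6 n117502 = n109585 := (sb E91730 F214680)
theorem F327698 : act 3 n46581 = n64054 := (sb E91731 (iv3 D136248))
theorem E92170 : n143991 = n99702 := (((D99702).symm.trans (sb E91731 (iv4 F226647)))).symm
theorem F327699 : act 2 n47294 = n64937 := (sb E91732 (iv2 D138247))
theorem E92171 : n101828 = n64945 := ((D101828).symm.trans (sb E91736 (iv3 D138259)))
theorem F327700 : act 3 n47323 = n64950 := (sb E91737 F221462)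
theorem F327701 : act 3 n134895 = n63948 := (sb E91738 (iv3 D136000))
theorem E92172 : n134193 = n64357 := ((F217102).symm.trans (sb E91738 F218799))
theorem F327702 : act 3 n63039 = n64359 := (sb E91739 F220084)
theorem E92173 : n134194 = n92752 := ((D134194).symm.trans (sb E91739 (iv6 F220085)))
theorem F327703 : act 3 n90685 = n52777 := (sb E91740 (iv3 D114362))
theorem F327704 : act 2 n113986 = n135584 := (sb E91741 F218389)
theorem F327705 : act 6 n113986 = n63852 := (sb E91741 (iv6 D135794))
theorem F327706 : act 3 n63762 = n52587 := (sb E91742 (iv3 D113907))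
theorem F327707 : act 3 n113910 = n63861 := (sb E91743 F218413)
theorem F327708 : act 4 n113910 = n131989 := (sb E91743 F218414)
theorem F327709 : act 7 n113910 = n63856 := (sb E91743 (iv7 D135804))
theorem F327710 : act 2 n66616 = n31341 := (sb E91744 (iv2 D67440))
theorem E92174 : n142050 = n116301 := ((D142050).symm.trans (sb E91744 (iv3 F326017)))
theorem E92175 : n143924 = n142051 := (((D142051).symm.trans (sb E91744 (iv4 F226561)))).symm
theorem E92176 : n142052 = n74909 := ((D142052).symm.trans (sb E91744 (iv5 F319707)))
theorem E92177 : n143948 = n142053 := (((D142053).symm.trans (sb E91744 D143948))).symm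
theorem F327711 : act 7 n66616 = n74908 := (sb E91744 F317425)
theorem F327712 : act 3 n117231 = n68624 := (sb E91745 (iv3 D146347))
theorem F327713 : act 2 n146348 = n69640 := (sb E91746 F233344)
theorem F327714 : act 2 n146349 = n69641 := (sb E91747 F233345)
theorem F327715 : act 2 n146350 = n69642 := (sb E91748 F233346)
theorem E92178 : n146535 = n130898 := ((F229844).symm.trans (sb E91748 (iv5 F233347)))
theorem F327716 : act 7 n146350 = n152011 := (sb E91748 F247840)
theorem F327717 : act 0 n138517 = n66090 := (sb E91749 (iv1 D140870))
theorem F327718 : act 1 n138518 = n66090 := (sb E91750 (iv0 D140869))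
theorem F327719 : act 7 n138504 = n66091 := (sb E91751 (iv7 D140881))
theorem F327720 : act 2 n138510 = n66097 := (sb E91752 F223943)
theorem F327721 : act 7 n138510 = n66092 := (sb E91752 (iv7 D140887))
theorem F327722 : act 2 n138519 = n66098 := (sb E91753 F223947)
theorem F327723 : act 7 n138519 = n66093 := (sb E91753 (iv7 D140892))
theorem E92179 : n156375 = n66094 := (((D66094).symm.trans (sb E91754 F245781))).symm
theorem F327724 : act 7 n30906 = n65054 := (sb E91754 (iv7 D138520))
theorem F327725 : act 0 n70977 = n66096 := (sb E91755 (iv1 D140899))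
theorem F327726 : act 2 n86798 = n66096 := (sb E91756 (iv2 D140900))
theorem F327727 : act 3 n116332 = n66098 := (sb E91757 F223953)
theorem F327728 : act 5 n116332 = n66096 := (sb E91757 (iv5 D140902))
theorem F327729 : act 6 n138535 = n66090 := (sb E91758 (iv6 D140874))
theorem F327730 : act 0 n111791 = n84257 := (sb E91759 (iv1 F250132))
theorem F327731 : act 1 n111791 = n84256 := (sb E91759 F250130)
theorem F327732 : act 2 n111791 = n75804 := (sb E91759 (iv2 D158870))
theorem E92180 : n163266 = n109258 := (((F173515).symm.trans (sb E91759 (iv4 F257573)))).symm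
theorem F327733 : act 7 n111791 = n84258 := (sb E91759 F250129)
theorem F327734 : act 0 n111793 = n158118 := (sb E91760 (iv1 F276140))
theorem F327735 : act 1 n111793 = n158117 := (sb E91760 F276141)
theorem F327736 : act 7 n111793 = n158116 := (sb E91760 F276139)
theorem F327737 : act 7 n111852 = n158107 := (sb E91761 F276129)
theorem F327738 : act 0 n111857 = n158116 := (sb E91764 (iv1 F276143))
theorem F327739 : act 1 n111858 = n158116 := (sb E91765 F276144)
theorem F327740 : act 3 n111859 = n94292 := (sb E91766 (iv3 F293804))
theorem F327741 : act 7 n111859 = n158119 := (sb E91766 F276146)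
theorem F327742 : act 3 n111850 = n84272 := (sb E91767 F276147)
theorem F327743 : act 3 n51906 = n34437 := (sb E91768 (iv3 F326998))
theorem E92181 : n126204 = n78397 := (((iv3 F202965)).symm.trans (sb E91769 (iv3 D163039)))
theorem F327744 : act 3 n55885 = n52226 := (sb E91770 F176293)
theorem E92182 : n125584 = n121122 := (((D121122).symm.trans (sb E91770 (iv4 F202013)))).symm
theorem E92183 : n121124 = n52224 := ((D121124).symm.trans (sb E91770 (iv6 D113148)))
theorem F327745 : act 3 n39261 = n51938 := (sb E91774 F175135)
theorem E92184 : n111482 = n84856 := (((D84856).symm.trans (sb E91774 F175136))).symm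
theorem E92185 : n84858 = n51936 := ((D84858).symm.trans (sb E91774 (iv6 D112568)))
theorem F327746 : act 3 n112570 = n84857 := (sb E91775 F277897)
theorem E92186 : n84865 = n84859 := ((F327363).symm.trans (sb E91777 F277899))
theorem F327747 : act 1 n47778 = n74085 := (sb E91778 (iv0 D155729))
theorem F327748 : act 0 n47781 = n74085 := (sb E91779 (iv1 D155730))
theorem F327749 : act 2 n47870 = n74085 := (sb E91780 (iv2 D155731))
theorem E92187 : n103316 = n74092 := ((D103316).symm.trans (sb E91780 F244739))
theorem E92188 : n74090 = n47836 := ((D74090).symm.trans (sb E91781 (iv1 D103221)))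
theorem E92189 : n74091 = n47843 := ((D74091).symm.trans (sb E91781 F158471))
theorem E92190 : n87918 = n33977 := (((F53329).symm.trans (sb E91781 F294882))).symm
theorem E92191 : n103313 = n55231 := ((((iv7 F87399)).symm.trans (sb E91781 (iv7 F158551)))).symm
theorem F327750 : act 3 n47869 = n55229 := (sb E91783 (iv3 D120013))
theorem F327751 : act 7 n47869 = n74085 := (sb E91783 F189497)
theorem F327752 : act 3 n94244 = n83073 := (sb E91784 (iv3 D173704))
theorem F327753 : act 7 n94244 = n84160 := (sb E91784 F272247)
theorem E92192 : n88490 = n63215 := (((D63215).symm.trans (sb E91787 (iv6 D185804)))).symm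
theorem F327754 : act 2 n41304 = n84173 := (sb E91789 F301395)
theorem F327755 : act 6 n41304 = n38719 := (sb E91789 (iv6 D84050))
theorem F327756 : act 6 n41308 = n83073 := (sb E91793 (iv6 D173705))
theorem F327757 : act 1 n88537 = n84173 := (sb E91794 (iv0 D176545))
theorem F327758 : act 0 n88536 = n84173 := (sb E91795 (iv1 D176546))
theorem E92196 : n185822 = n173699 := (((F321347).symm.trans (sb E91796 (iv5 F288132)))).symm
theorem F327759 : act 7 n132077 = n185860 := (sb E91796 (iv7 F288287))
theorem E92197 : n173706 = n43248 := ((D173706).symm.trans (sb E91797 F135486))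
theorem E92198 : n173707 = n90260 := ((D173707).symm.trans (sb E91797 F138826))
theorem F327760 : act 4 n83074 = n41308 := (sb E91797 (iv4 D88500))
theorem E92199 : n173708 = n88506 := ((D173708).symm.trans (sb E91797 (iv7 F135503)))
theorem F327761 : act 7 n88522 = n84173 := (sb E91798 (iv7 D176547))
theorem E92200 : n84097 = n42188 := ((D84097).symm.trans (sb E91799 F135471))
theorem E92201 : n90509 = n84098 := (((D84098).symm.trans (sb E91799 (iv0 F139309)))).symm
theorem E92202 : n185803 = n84084 := ((((iv3 F129063)).symm.trans (sb E91799 (iv3 F288119)))).symm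
theorem F327762 : act 4 n38745 = n44064 := (sb E91799 F135470)
theorem F327763 : act 5 n38745 = n41304 := (sb E91799 (iv5 D88491))
theorem E92203 : n88539 = n84100 := (((D84100).symm.trans (sb E91799 (iv7 F135597)))).symm
theorem F327764 : act 6 n94261 = n84095 := (sb E91802 (iv6 D176370))
theorem F327765 : act 1 n113682 = n63243 := (sb E91805 (iv0 D134592))
theorem E92204 : n185898 = n63252 := (((iv3 F288390)).symm.trans (sb E91806 F216577))
theorem F327766 : act 7 n88540 = n63243 := (sb E91806 (iv7 D134595))
theorem E92205 : n185828 = n84165 := (((iv4 F288164)).symm.trans (sb E91807 F275825))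
theorem F327767 : act 7 n88507 = n84161 := (sb E91807 (iv7 D176513))
theorem F327768 : act 2 n148708 = n83755 := (sb E91808 (iv2 D175400))
theorem F327769 : act 3 n115185 = n69696 := (sb E91809 F233475)
theorem F327770 : act 5 n115185 = n69694 := (sb E91809 (iv5 D148709))
theorem F327771 : act 2 n148710 = n83869 := (sb E91810 (iv2 D175676))
theorem F327772 : act 4 n78891 = n82995 := (sb E91813 (iv4 D173457))
theorem F327773 : act 4 n152443 = n83002 := (sb E91815 (iv4 D173480))
theorem F327774 : act 4 n76359 = n83017 := (sb E91816 F271972)
theorem F327775 : act 0 n126516 = n69701 := (sb E91817 (iv1 F233480))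
theorem F327776 : act 1 n126516 = n69696 := (sb E91817 (iv0 D148711))
theorem F327777 : act 2 n126516 = n76468 := (sb E91817 (iv2 F233481))
theorem F327778 : act 5 n126516 = n76317 := (sb E91817 F233479)
theorem F327779 : act 6 n126516 = n185868 := (sb E91817 (iv6 F288321))
theorem F327780 : act 7 n126516 = n159635 := (sb E91817 (iv7 F251473))
theorem F327781 : act 3 n53128 = n76468 := (sb E91818 F251803)
theorem E92206 : n115141 = n76461 := ((D115141).symm.trans (sb E91818 (iv5 D159795)))
theorem F327782 : act 4 n126515 = n76468 := (sb E91819 (iv4 D159800))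
theorem F327783 : act 0 n126520 = n69696 := (sb E91820 (iv1 D148712))
theorem F327784 : act 1 n126520 = n69701 := (sb E91820 F233482)
theorem F327785 : act 2 n126520 = n159635 := (sb E91820 (iv2 F251475))
theorem F327786 : act 5 n126520 = n76469 := (sb E91820 (iv5 F233484))
theorem F327787 : act 6 n126520 = n159584 := (sb E91820 F251357)
theorem F327788 : act 7 n126520 = n76468 := (sb E91820 F233483)
theorem F327789 : act 2 n132658 = n159643 := (sb E91821 (iv2 F251493))
theorem F327790 : act 4 n132658 = n69701 := (sb E91821 (iv4 D148721))
theorem F327791 : act 3 n148722 = n75626 := (sb E91823 (iv3 D158548))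
theorem F327792 : act 1 n152446 = n83014 := (sb E91824 F271918)
theorem F327793 : act 2 n152446 = n83017 := (sb E91824 F271913)
theorem F327794 : act 3 n152446 = n83663 := (sb E91824 F271914)
theorem F327795 : act 5 n152446 = n82996 := (sb E91824 F271915)
theorem F327796 : act 7 n152446 = n82995 := (sb E91824 (iv7 D173458))
theorem F327797 : act 2 n152460 = n83014 := (sb E91825 (iv2 D173522))
theorem F327798 : act 4 n79007 = n83014 := (sb E91826 (iv4 D173524))
theorem F327799 : act 6 n152457 = n83014 := (sb E91827 (iv6 D173526))
theorem F327800 : act 7 n79004 = n83014 := (sb E91828 (iv7 D173527))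
theorem F327801 : act 0 n152460 = n83017 := (sb E91833 (iv1 F271916))
theorem F327802 : act 1 n152460 = n82995 := (sb E91833 (iv0 D173455))
theorem F327803 : act 0 n79004 = n82995 := (sb E91834 (iv1 D173456))
theorem F327804 : act 1 n79004 = n83017 := (sb E91834 F271911)
theorem F327805 : act 2 n134175 = n64585 := (sb E91835 F220623)
theorem F327806 : act 7 n134175 = n64584 := (sb E91835 (iv7 D137411))
theorem F327807 : act 4 n61452 = n64585 := (sb E91836 (iv4 D137413))
theorem F327808 : act 2 n133257 = n64584 := (sb E91837 (iv2 D137406))
theorem F327809 : act 7 n133257 = n64585 := (sb E91837 (iv7 F220621))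
theorem F327810 : act 3 n134111 = n64587 := (sb E91838 F220583)
theorem F327811 : act 7 n134111 = n64575 := (sb E91838 (iv7 D137375))
theorem F327812 : act 1 n118631 = n129584 := (sb E91841 (iv0 F320671))
theorem F327813 : act 2 n118631 = n59590 := (sb E91841 F203816)
theorem F327814 : act 5 n118631 = n59427 := (sb E91841 (iv5 D126656))
theorem F327815 : act 3 n34625 = n59590 := (sb E91842 F204221)
theorem F327816 : act 5 n34625 = n59586 := (sb E91842 (iv5 D126963))
theorem F327817 : act 3 n126971 = n75704 := (sb E91843 F321357)
theorem F327818 : act 5 n126971 = n162607 := (sb E91843 F321358)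
theorem F327819 : act 6 n126971 = n63271 := (sb E91843 (iv6 D134656))
theorem F327820 : act 3 n126972 = n75727 := (sb E91845 F321360)
theorem E92207 : n166226 = n59591 := (((F204227).symm.trans (sb E91845 F321361))).symm
theorem F327821 : act 6 n126972 = n77127 := (sb E91845 F321362)
theorem F327822 : act 2 n126948 = n129253 := (sb E91846 F216672)
theorem F327823 : act 6 n126948 = n61350 := (sb E91846 (iv6 D130759))
theorem F327824 : act 2 n79812 = n59586 := (sb E91847 F204213)
theorem E92208 : n136068 = n46603 := (((F327397).symm.trans (sb E91847 (iv4 F218980)))).symm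
theorem F327825 : act 6 n79812 = n59584 := (sb E91847 (iv6 D126958))
theorem F327826 : act 1 n38279 = n59586 := (sb E91848 (iv0 D126961))
theorem F327827 : act 0 n79800 = n59586 := (sb E91849 (iv1 D126962))
theorem E92209 : n47407 = n30175 := (((F99563).symm.trans (sb E91850 F153592))).symm
theorem E92210 : n136072 = n46602 := ((D136072).symm.trans (sb E91850 (iv5 D99772)))
theorem E92211 : n136073 = n47368 := ((D136073).symm.trans (sb E91850 F153593))
theorem E92212 : n166228 = n137307 := ((D166228).symm.trans (sb E91851 (iv6 F220460)))
theorem F327828 : act 7 n79813 = n59586 := (sb E91851 (iv7 D126964))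
theorem F327829 : act 1 n60618 = n46107 := (sb E91855 (iv0 D98629))
theorem F327830 : act 0 n60617 = n46107 := (sb E91856 (iv1 D98630))
theorem F327831 : act 2 n60620 = n46107 := (sb E91857 (iv2 D98631))
theorem F327832 : act 3 n60598 = n46076 := (sb E91858 (iv3 D98560))
theorem F327833 : act 6 n60598 = n46107 := (sb E91858 F151938)
theorem E92213 : n113732 = n60825 := ((D113732).symm.trans (sb E91859 F207605))
theorem F327834 : act 6 n52511 = n60823 := (sb E91859 (iv6 D129428))
theorem E92214 : n132423 = n69718 := (((F106087).symm.trans (sb E91859 (iv7 F212491)))).symm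
theorem F327835 : act 0 n53136 = n52579 := (sb E91860 (iv1 F177117))
theorem F327836 : act 1 n53136 = n52564 := (sb E91860 (iv0 D113828))
theorem E92215 : n53164 = n52577 := (((D52577).symm.trans (sb E91861 (iv1 F99144)))).symm
theorem E92216 : n52578 = n30098 := ((D52578).symm.trans (sb E91861 (iv0 D63785)))
theorem E92217 : n135665 = n12134 := (((F40349).symm.trans (sb E91861 D135665))).symm
theorem E92218 : n60690 = n52575 := ((((iv4 F83087)).symm.trans (sb E91861 F102049))).symm
theorem F327837 : act 4 n105322 = n134444 := (sb E91862 F218519)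
theorem F327838 : act 7 n105322 = n135668 := (sb E91862 F218520)
theorem F327839 : act 0 n113827 = n59333 := (sb E91863 (iv1 D126463))
theorem F327840 : act 1 n113827 = n59339 := (sb E91863 F203306)
theorem F327841 : act 3 n113827 = n108523 := (sb E91863 (iv3 F203307))
theorem F327842 : act 7 n113827 = n126552 := (sb E91863 (iv7 F203518))
theorem E92220 : n135669 = n52927 := (((D52927).symm.trans (sb E91864 F218522))).symm
theorem F327843 : act 2 n63786 = n52579 := (sb E91866 F177115)
theorem F327844 : act 7 n63786 = n52564 := (sb E91866 (iv7 D113830))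
theorem E92221 : n132166 = n52605 := ((((iv4 F83106)).symm.trans (sb E91867 F218524))).symm
theorem F327845 : act 4 n62003 = n52579 := (sb E91868 F177171)
theorem F327846 : act 0 n113885 = n134484 := (sb E91870 (iv1 F218531))
theorem F327847 : act 1 n113885 = n134508 := (sb E91870 (iv0 F218530))
theorem F327848 : act 2 n113885 = n135670 := (sb E91870 F218528)
theorem F327849 : act 4 n113885 = n132165 := (sb E91870 F218529)
theorem E92222 : n134098 = n123030 := (((D123030).symm.trans (sb E91871 D134098))).symm
theorem E92223 : n134099 = n123031 := (((D123031).symm.trans (sb E91871 D134099))).symm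
theorem E92224 : n134096 = n123020 := ((((iv3 F197124)).symm.trans (sb E91871 (iv3 F216122)))).symm
theorem E92225 : n123032 = n29802 := ((D123032).symm.trans (sb E91871 F98301))
theorem E92226 : n134101 = n122308 := ((((iv7 F301624)).symm.trans (sb E91871 D134101))).symm
theorem E92227 : n123454 = n62527 := (((iv4 F197832)).symm.trans (sb E91872 F214079))
theorem E92228 : n123455 = n62683 := ((D123455).symm.trans (sb E91872 F214080))
theorem F327850 : act 2 n122303 = n63447 := (sb E91873 F212792)
theorem F327851 : act 4 n122303 = n62198 := (sb E91873 (iv4 D132570))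
theorem F327852 : act 7 n122303 = n63446 := (sb E91873 F212793)
theorem F327853 : act 2 n122304 = n63446 := (sb E91874 (iv2 F216865))
theorem F327854 : act 4 n122304 = n108417 := (sb E91874 F216864)
theorem F327855 : act 6 n122304 = n108807 := (sb E91874 F216866)
theorem F327856 : act 7 n122304 = n63447 := (sb E91874 F216867)
theorem E92229 : n135000 = n101273 := ((D135000).symm.trans (sb E91875 (iv1 F306916)))
theorem E92230 : n135001 = n101272 := ((D135001).symm.trans (sb E91875 (iv0 F306914)))
theorem E92231 : n134995 = n101275 := (((iv2 F217222)).symm.trans (sb E91875 (iv2 F306917)))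
theorem E92232 : n154044 = n106616 := ((((iv4 F164220)).symm.trans (sb E91875 D154044))).symm
theorem E92233 : n135002 = n33615 := ((D135002).symm.trans (sb E91875 (iv5 D72921)))
theorem E92235 : n134109 = n27428 := ((((iv1 F120795)).symm.trans (sb E91876 (iv1 F216157)))).symm
theorem E92236 : n135017 = n27536 := (((F120792).symm.trans (sb E91876 D135017))).symm
theorem F327857 : act 5 n18610 = n29973 := (sb E91876 (iv5 D63448))
theorem E92238 : n135010 = n27829 := ((((iv6 F300097)).symm.trans (sb E91876 (iv6 F217233)))).symm
theorem E92243 : n137723 = n113786 := ((((iv0 F177042)).symm.trans (sb E91878 (iv0 F220943)))).symm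
theorem E92244 : n113857 = n62264 := ((D113857).symm.trans (sb E91878 F213001))
theorem E92245 : n128760 = n113858 := (((D113858).symm.trans (sb E91878 F213002))).symm
theorem E92246 : n113859 = n62262 := ((D113859).symm.trans (sb E91878 (iv6 D132679)))
theorem F327858 : act 3 n115178 = n76526 := (sb E91879 F248489)
theorem E92247 : n135527 = n133291 := (((iv5 F217935)).symm.trans (sb E91879 F248491))
theorem F327859 : act 6 n115178 = n75131 := (sb E91879 (iv6 D157690))
theorem F327860 : act 0 n174993 = n85766 := (sb E91880 (iv1 D179612))
theorem F327861 : act 1 n175992 = n85766 := (sb E91881 (iv0 D179611))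
theorem F327862 : act 0 n175969 = n176156 := (sb E91882 (iv1 F313965))
theorem F327863 : act 1 n175969 = n176155 := (sb E91882 (iv0 F313964))
theorem F327864 : act 2 n175969 = n85758 := (sb E91882 (iv2 D179601))
theorem F327865 : act 7 n175969 = n160596 := (sb E91882 (iv7 F313969))
theorem F327866 : act 0 n175994 = n178919 := (sb E91883 (iv1 F279733))
theorem F327867 : act 1 n175994 = n178918 := (sb E91883 F279731)
theorem F327868 : act 2 n175994 = n85766 := (sb E91883 (iv2 D179613))
theorem F327869 : act 3 n175994 = n160596 := (sb E91883 (iv3 F313968))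
theorem F327870 : act 3 n85312 = n83433 := (sb E91884 (iv3 D174597))
theorem F327871 : act 1 n117321 = n63812 := (sb E91885 (iv0 D135713))
theorem F327872 : act 0 n31949 = n63812 := (sb E91886 (iv1 D135714))
theorem F327873 : act 2 n117335 = n63812 := (sb E91887 F218202)
theorem F327874 : act 3 n117335 = n130935 := (sb E91887 F218203)
theorem F327875 : act 6 n117335 = n63810 := (sb E91887 (iv6 D135709))
theorem F327876 : act 0 n135715 = n117736 := (sb E91888 F229789)
theorem F327877 : act 1 n135715 = n147936 := (sb E91888 (iv0 F231745))
theorem F327878 : act 2 n135715 = n147972 := (sb E91888 F231794)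
theorem F327879 : act 4 n135715 = n68683 := (sb E91888 F229788)
theorem F327880 : act 7 n135715 = n147973 := (sb E91888 (iv7 F231797))
theorem F327881 : act 3 n117334 = n63816 := (sb E91889 F218213)
theorem F327882 : act 6 n117334 = n135519 := (sb E91889 F218214)
theorem F327883 : act 7 n117334 = n63812 := (sb E91889 (iv7 D135716))
theorem E92248 : n162241 = n50855 := (E91890).trans E91895
theorem E92249 : n110294 = n78134 := ((D110294).symm.trans (sb E92248 F256387))
theorem E92250 : n110296 = n77944 := ((D110296).symm.trans (sb E92248 (iv5 D162241)))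
theorem E92251 : n110297 = n78131 := ((D110297).symm.trans (sb E92248 F256388))
theorem F327884 : act 3 n95263 = n50856 := (sb E91891 (iv3 D110299))
theorem F327885 : act 4 n95263 = n125894 := (sb E91891 F202385)
theorem F327886 : act 6 n110300 = n57916 := (sb E91892 (iv6 D124218))
theorem F327887 : act 6 n77967 = n50856 := (sb E91893 (iv6 D110302))
theorem F327888 : act 2 n126129 = n163634 := (sb E91894 (iv2 F257896))
theorem F327889 : act 4 n126129 = n78568 := (sb E91894 (iv4 D163497))
theorem F327890 : act 6 n126129 = n163590 := (sb E91894 (iv6 F257859))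
theorem F327891 : act 2 n50855 = n50856 := (sb E91895 (iv2 D110298))
theorem E92252 : n110288 = n50857 := ((F170528).symm.trans (sb E91895 (iv7 F170530)))
theorem F327892 : act 7 n50854 = n50856 := (sb E91896 (iv7 D110303))
theorem F327893 : act 6 n110425 = n83390 := (sb E91897 (iv6 D174475))
theorem E92253 : n171083 = n159890 := (((D159890).symm.trans (sb E91898 (iv5 F298376)))).symm
theorem F327894 : act 7 n76542 = n83915 := (sb E91898 (iv7 D175817))
theorem F327895 : act 1 n62537 = n59551 := (sb E91899 (iv0 D126896))
theorem F327896 : act 1 n126897 = n133255 := (sb E91900 F214206)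
theorem F327897 : act 2 n126897 = n61452 := (sb E91900 (iv2 D130988))
theorem F327898 : act 3 n126897 = n132227 := (sb E91900 F211857)
theorem F327899 : act 4 n126897 = n134175 := (sb E91900 (iv4 F216217))
theorem F327900 : act 5 n126897 = n119658 := (sb E91900 (iv5 F306862))
theorem F327901 : act 7 n126897 = n133256 := (sb E91900 (iv7 F214211))
theorem F327902 : act 0 n126645 = n133256 := (sb E91901 (iv1 F214212))
theorem F327903 : act 1 n126645 = n61452 := (sb E91901 (iv0 D130986))
theorem F327904 : act 3 n126645 = n133514 := (sb E91901 F214702)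
theorem E92254 : n129257 = n64007 := (((F203790).symm.trans (sb E91901 F209687))).symm
theorem F327905 : act 5 n126645 = n133858 := (sb E91901 (iv5 F215572))
theorem F327906 : act 7 n126645 = n133255 := (sb E91901 (iv7 F214207))
theorem E92255 : n64742 = n61348 := ((D64742).symm.trans (sb E91902 (iv1 D130751)))
theorem E92256 : n129254 = n64743 := (((D64743).symm.trans (sb E91902 F209321))).symm
theorem E92257 : n64744 = n63132 := ((D64744).symm.trans (sb E91902 (iv5 F211224)))
theorem F327907 : act 5 n62878 = n59551 := (sb E91903 (iv5 D126898))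
theorem E92259 : n133859 = n59554 := ((D133859).symm.trans (sb E91903 F204148))
theorem F327908 : act 0 n126899 = n61452 := (sb E91904 F212052)
theorem F327909 : act 1 n126899 = n133256 := (sb E91904 F214213)
theorem F327910 : act 2 n126899 = n133255 := (sb E91904 F214205)
theorem F327911 : act 3 n126899 = n60747 := (sb E91904 (iv3 D129223))
theorem F327912 : act 5 n126899 = n61173 := (sb E91904 F208882)
theorem E92260 : n96281 = n51639 := ((D96281).symm.trans (sb E91905 F173992))
theorem E92261 : n109523 = n96282 := (((D96282).symm.trans (sb E91905 F173993))).symm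
theorem F327913 : act 6 n44947 = n51637 := (sb E91905 (iv6 D111964))
theorem E92262 : n121680 = n48454 := ((D121680).symm.trans (sb E91906 F147772))
theorem E92263 : n121681 = n89255 := ((D121681).symm.trans (sb E91906 (iv0 F293494)))
theorem E92264 : n121682 = n104639 := ((D121682).symm.trans (sb E91906 F160349))
theorem F327914 : act 4 n56208 = n44859 := (sb E91906 (iv4 D96126))
theorem E92266 : n158123 = n44856 := (((iv5 F249061)).symm.trans (sb E91907 (iv5 D96123)))
theorem F327915 : act 6 n79613 = n44859 := (sb E91907 F147767)
theorem E92267 : n166256 = n45003 := ((D166256).symm.trans (sb E91908 (iv1 F137968)))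
theorem E92268 : n166257 = n45006 := ((D166257).symm.trans (sb E91908 F137967))
theorem E92269 : n166258 = n89719 := ((D166258).symm.trans (sb E91908 (iv2 F293444)))
theorem F327916 : act 5 n79826 = n41988 := (sb E91908 (iv5 D89874))
theorem F327917 : act 7 n79826 = n44859 := (sb E91908 F137966)
theorem E92270 : n101948 = n84013 := ((D101948).symm.trans (sb E91909 (iv4 D176120)))
theorem E92271 : n100771 = n84012 := ((D100771).symm.trans (sb E91910 (iv4 D176118)))
theorem E92272 : n102154 = n84189 := ((((iv1 F129237)).symm.trans (sb E91912 D102154))).symm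
theorem E92273 : n102155 = n80513 := ((((iv0 F301021)).symm.trans (sb E91912 D102155))).symm
theorem E92274 : n102151 = n82411 := ((((iv2 F126955)).symm.trans (sb E91912 (iv2 F157047)))).symm
theorem E92275 : n102156 = n84212 := ((((iv3 F129279)).symm.trans (sb E91912 D102156))).symm
theorem F327918 : act 4 n38835 = n22785 := (sb E91912 (iv4 D47431))
theorem E92277 : n102158 = n84215 := (((D84215).symm.trans (sb E91912 D102158))).symm
theorem E92278 : n99799 = n82404 := ((((iv7 F126935)).symm.trans (sb E91912 (iv7 F153636)))).symm
theorem F327919 : act 3 n95481 = n78141 := (sb E91914 (iv3 D162662))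
theorem E92279 : n96275 = n96274 := ((((iv2 F148077)).symm.trans (sb E91915 (iv2 F148082)))).symm
theorem E92280 : n95777 = n95630 := (((iv5 F147468)).symm.trans (sb E91915 (iv5 F147310)))
theorem F327920 : act 6 n95481 = n44603 := (sb E91915 (iv6 D95482))
theorem E92281 : n101975 = n99775 := ((D101975).symm.trans (sb E91916 (iv2 F327388)))
theorem E92282 : n176097 = n101976 := (((D101976).symm.trans (sb E91916 D176097))).symm
theorem E92283 : n101977 = n38690 := ((D101977).symm.trans (sb E91916 (iv4 D84006)))
theorem E92284 : n172092 = n101978 := (((D101978).symm.trans (sb E91916 (iv5 F270238)))).symm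
theorem E92285 : n176096 = n101979 := (((D101979).symm.trans (sb E91916 (iv6 F275354)))).symm
theorem E92286 : n101980 = n38703 := ((D101980).symm.trans (sb E91916 F128969))
theorem E92287 : n172050 = n101981 := (((D101981).symm.trans (sb E91917 D172050))).symm
theorem E92288 : n101982 = n37791 := ((D101982).symm.trans (sb E91917 (iv4 D82401)))
theorem E92289 : n172051 = n101983 := (((D101983).symm.trans (sb E91917 D172051))).symm
theorem E92290 : n101984 = n47282 := ((D101984).symm.trans (sb E91917 F126925))
theorem E92291 : n101985 = n79800 := ((D101985).symm.trans (sb E91918 F301443))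
theorem E92292 : n101986 = n38279 := ((D101986).symm.trans (sb E91918 (iv0 D83155)))
theorem F327921 : act 2 n47374 = n79813 := (sb E91918 F301444)
theorem E92294 : n101988 = n80511 := ((D101988).symm.trans (sb E91918 F301445))
theorem F327922 : act 7 n47374 = n79812 := (sb E91918 F301446)
theorem F327923 : act 1 n47373 = n63989 := (sb E91920 (iv0 D136070))
theorem F327924 : act 0 n47372 = n63989 := (sb E91921 (iv1 D136071))
theorem F327925 : act 1 n46115 = n61863 := (sb E91922 (iv0 D131844))
theorem F327926 : act 0 n44880 = n61863 := (sb E91923 (iv1 D131845))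
theorem F327927 : act 2 n96146 = n61863 := (sb E91924 F211249)
theorem F327928 : act 6 n96146 = n61861 := (sb E91924 (iv6 D131839))
theorem F327929 : act 3 n96146 = n61867 := (sb E91925 F211252)
theorem F327930 : act 5 n96146 = n61863 := (sb E91925 (iv5 D131846))
theorem F327931 : act 3 n96145 = n61868 := (sb E91926 F211253)
theorem F327932 : act 7 n96145 = n61863 := (sb E91926 (iv7 D131847))
theorem E92296 : n156449 = n98544 := (((F157839).symm.trans (sb E91927 (iv1 F245957)))).symm
theorem F327933 : act 1 n102636 = n156448 := (sb E91927 F245952)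
theorem F327934 : act 2 n102636 = n61839 := (sb E91927 (iv2 D131790))
theorem F327935 : act 4 n102636 = n61861 := (sb E91927 F211160)
theorem F327936 : act 7 n102636 = n156450 := (sb E91927 (iv7 F245955))
theorem F327937 : act 3 n47567 = n61840 := (sb E91928 F211161)
theorem F327938 : act 5 n47567 = n61839 := (sb E91928 (iv5 D131791))
theorem E92297 : n102558 = n63139 := ((D102558).symm.trans (sb E91928 F211162))
theorem E92298 : n159976 = n62990 := (((D62990).symm.trans (sb E91930 (iv3 F252345)))).symm
theorem E92299 : n62991 = n57238 := ((D62991).symm.trans (sb E91930 (iv5 D123024)))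
theorem F327939 : act 6 n29801 = n57241 := (sb E91930 F197130)
theorem E92300 : n129259 = n57481 := ((D129259).symm.trans (sb E91931 (iv5 D123398)))
theorem E92301 : n129260 = n57484 := ((D129260).symm.trans (sb E91931 F197782))
theorem E92302 : n57502 = n29548 := (((D29548).symm.trans (sb E91932 F197795))).symm
theorem E92303 : n57486 = n29843 := ((D57486).symm.trans (sb E91933 F97490))
theorem E92304 : n57487 = n29846 := ((D57487).symm.trans (sb E91933 F97491))
theorem E92305 : n64958 = n27521 := ((((iv4 F44419)).symm.trans (sb E91933 (iv4 F100752)))).symm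
theorem F327940 : act 5 n27496 = n29547 := (sb E91933 (iv5 D62523))
theorem E92307 : n61349 = n57489 := (((D57489).symm.trans (sb E91933 F97489))).symm
theorem E92309 : n133236 = n57501 := (((D57501).symm.trans (sb E91934 D133236))).symm
theorem F327941 : act 6 n27499 = n29547 := (sb E91934 (iv6 D62524))
theorem E92310 : n63138 = n57119 := ((D63138).symm.trans (sb E91936 (iv6 D122869)))
theorem E92311 : n111212 = n102552 := (((D102552).symm.trans (sb E91937 F211166))).symm
theorem F327942 : act 6 n47565 = n61840 := (sb E91937 (iv6 D131793))
theorem F327943 : act 3 n40480 = n51395 := (sb E91938 (iv3 D111432))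
theorem E92312 : n87128 = n51397 := ((D87128).symm.trans (sb E91938 F172934))
theorem F327944 : act 2 n43569 = n63470 := (sb E91939 F172935)
theorem F327945 : act 5 n43569 = n51395 := (sb E91939 (iv5 D111433))
theorem F327946 : act 3 n88754 = n51584 := (sb E91941 (iv3 D111869))
theorem F327947 : act 2 n108785 = n157976 := (sb E91942 F280832)
theorem F327948 : act 4 n108785 = n86178 := (sb E91942 F280833)
theorem F327949 : act 6 n108785 = n86176 := (sb E91942 (iv6 D180440))
theorem E92313 : n163658 = n112341 := (((F174760).symm.trans (sb E91943 D163658))).symm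
theorem E92315 : n113374 = n79978 := ((D113374).symm.trans (sb E91943 F257981))
theorem F327950 : act 6 n52334 = n35816 := (sb E91943 (iv6 D78632))
theorem E92317 : n163661 = n59164 := ((((iv7 F93358)).symm.trans (sb E91943 D163661))).symm
theorem F327951 : act 2 n111529 = n180534 := (sb E91944 F281440)
theorem F327952 : act 6 n111529 = n86352 := (sb E91944 (iv6 D180799))
theorem E92318 : n180538 = n82906 := ((((iv1 F300915)).symm.trans (sb E91945 (iv1 F281446)))).symm
theorem E92321 : n180532 = n83256 := ((((iv3 F128331)).symm.trans (sb E91947 (iv3 F280986)))).symm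
theorem E92322 : n180534 = n83259 := (((D83259).symm.trans (sb E91947 (iv4 F280987)))).symm
theorem E92323 : n180537 = n18297 := ((((iv5 D38333)).symm.trans (sb E91947 D180537))).symm
theorem E92324 : n83260 = n39901 := ((D83260).symm.trans (sb E91947 (iv6 D86222)))
theorem F327953 : act 4 n111529 = n58055 := (sb E91948 (iv4 D124462))
theorem F327954 : act 7 n111529 = n83267 := (sb E91948 F199056)
theorem E92325 : n98250 = n58715 := ((((iv5 F248734)).symm.trans (sb E91950 F199058))).symm
theorem F327955 : act 6 n39971 = n58055 := (sb E91950 (iv6 D124463))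
theorem E92326 : n180531 = n83268 := (((D83268).symm.trans (sb E91951 F281445))).symm
theorem F327956 : act 2 n126211 = n163650 := (sb E91952 F262271)
theorem F327957 : act 4 n126211 = n79983 := (sb E91952 F262272)
theorem F327958 : act 6 n126211 = n79981 := (sb E91952 (iv6 D166643))
theorem F327959 : act 2 n126173 = n81648 := (sb E91953 (iv2 D170245))
theorem E92327 : n113600 = n113280 := (((iv0 F176759)).symm.trans (sb E91954 F203201))
theorem E92328 : n134081 = n75162 := (((iv3 F216095)).symm.trans (sb E91954 F326812))
theorem F327960 : act 5 n62979 = n59274 := (sb E91954 (iv5 D126370))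
theorem F327961 : act 7 n62979 = n81512 := (sb E91954 (iv7 F327088))
theorem F327962 : act 5 n106627 = n52282 := (sb E91955 (iv5 D113275))
theorem F327963 : act 5 n29350 = n51989 := (sb E91956 (iv5 D112660))
theorem F327964 : act 1 n52283 = n60515 := (sb E91957 F164341)
theorem E92329 : n128745 = n113268 := ((((iv3 F176466)).symm.trans (sb E91957 D128745))).symm
theorem E92330 : n113279 = n28750 := ((D113279).symm.trans (sb E91957 (iv4 D60545)))
theorem E92331 : n113272 = n61871 := (((iv6 F176469)).symm.trans (sb E91957 (iv6 F96444)))
theorem E92332 : n128645 = n113355 := (((iv2 F206936)).symm.trans (sb E91958 F202899))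
theorem F327965 : act 5 n60672 = n59140 := (sb E91958 (iv5 D126174))
theorem E92333 : n129051 = n113357 := ((D129051).symm.trans (sb E91958 F202900))
theorem F327966 : act 2 n51384 = n88934 := (sb E91959 F268897)
theorem E92334 : n111423 = n82029 := ((D111423).symm.trans (sb E91959 (iv4 D171155)))
theorem E92335 : n111416 = n84670 := (((iv6 F172898)).symm.trans (sb E91959 F268898))
theorem E92338 : n134129 = n44292 := (((F292469).symm.trans (sb E91962 (iv2 F216171)))).symm
theorem F327967 : act 3 n40473 = n29807 := (sb E91962 F98319)
theorem E92340 : n87109 = n29805 := ((D87109).symm.trans (sb E91962 (iv6 D63006)))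
theorem E92341 : n134150 = n87105 := (((D87105).symm.trans (sb E91963 D134150))).symm
theorem F327968 : act 5 n40472 = n29807 := (sb E91963 (iv5 D63011))
theorem E92343 : n134142 = n87108 := (((D87108).symm.trans (sb E91963 (iv6 F216178)))).symm
theorem E92344 : n135674 = n117303 := ((D135674).symm.trans (sb E91965 F229059))
theorem E92345 : n135675 = n70595 := ((D135675).symm.trans (sb E91965 F229060))
theorem F327969 : act 6 n63790 = n68410 := (sb E91965 (iv6 D145892))
theorem F327970 : act 0 n113822 = n115136 := (sb E91966 (iv1 F179368))
theorem F327971 : act 1 n113822 = n53153 := (sb E91966 F179361)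
theorem F327972 : act 4 n113822 = n53145 := (sb E91966 (iv4 D115182))
theorem F327973 : act 7 n113822 = n63582 := (sb E91966 F179360)
theorem E92346 : n59639 = n52573 := (((D52573).symm.trans (sb E91967 F204325))).symm
theorem F327974 : act 0 n113849 = n63582 := (sb E91968 (iv1 F179405))
theorem F327975 : act 2 n113849 = n115136 := (sb E91968 F179402)
theorem F327976 : act 4 n113849 = n60610 := (sb E91968 F179403)
theorem F327977 : act 6 n113849 = n115127 := (sb E91968 F179404)
theorem F327978 : act 7 n113849 = n53153 := (sb E91968 (iv7 D115199))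
theorem F327979 : act 0 n53127 = n52570 := (sb E91969 (iv1 D113850))
theorem F327980 : act 0 n113852 = n53153 := (sb E91972 F179366)
theorem F327981 : act 1 n113852 = n115136 := (sb E91972 F179367)
theorem F327982 : act 2 n113852 = n63582 := (sb E91972 F179363)
theorem F327983 : act 4 n113852 = n53146 := (sb E91972 (iv4 D115183))
theorem F327984 : act 6 n113852 = n63549 := (sb E91972 F179364)
theorem F327985 : act 2 n63748 = n52567 := (sb E91973 F177093)
theorem F327986 : act 6 n63748 = n52561 := (sb E91973 (iv6 D113819))
theorem F327987 : act 6 n64323 = n54173 := (sb E91974 (iv6 D117589))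
theorem F327988 : act 1 n30122 = n52567 := (sb E91975 (iv0 D113839))
theorem F327989 : act 0 n63762 = n52567 := (sb E91976 (iv1 D113840))
theorem F327990 : act 7 n113833 = n135569 := (sb E91977 (iv7 F218011))
theorem F327991 : act 2 n113841 = n135573 := (sb E91978 (iv2 F218018))
theorem F327992 : act 7 n113841 = n135570 := (sb E91978 (iv7 F218013))
theorem F327993 : act 7 n63744 = n52567 := (sb E91979 (iv7 D113842))
theorem E92347 : n113826 = n64595 := ((D113826).symm.trans (sb E91980 (iv5 D137434)))
theorem E92348 : n105260 = n51203 := (((iv3 F161212)).symm.trans (sb E91981 F172207))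
theorem E92349 : n113869 = n51201 := (((iv5 F177170)).symm.trans (sb E91981 (iv5 D111036)))
theorem E92350 : n126817 = n113874 := (((D113874).symm.trans (sb E91981 (iv6 F204062)))).symm
theorem F327994 : act 0 n120123 = n135530 := (sb E91982 (iv1 F217947))
theorem F327995 : act 1 n120123 = n62514 := (sb E91982 (iv0 D133224))
theorem F327996 : act 5 n120123 = n63572 := (sb E91982 F214064)
theorem F327997 : act 7 n120123 = n135528 := (sb E91982 (iv7 F217940))
theorem F327998 : act 3 n69725 = n63544 := (sb E91983 (iv3 D135227))
theorem E92351 : n148775 = n135561 := ((D148775).symm.trans (sb E91983 (iv7 F217990)))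
theorem F327999 : act 5 n54786 = n63681 := (sb E91984 (iv5 D135469))
theorem E92352 : n134715 = n119055 := (((D119055).symm.trans (sb E91984 F217826))).symm
theorem E92353 : n166631 = n111549 := ((((iv4 F173076)).symm.trans (sb E91985 (iv4 F262241)))).symm
theorem F328000 : act 6 n51457 = n57944 := (sb E91985 (iv6 D124299))
theorem E92354 : n180528 = n45915 := (((F324244).symm.trans (sb E91986 D180528))).symm
theorem E92356 : n125318 = n86359 := (((iv2 F325395)).symm.trans (sb E91986 (iv2 F256587)))
theorem F328001 : act 3 n86086 = n144362 := (sb E91986 (iv3 F327428))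
theorem E92357 : n180527 = n180178 := (((D180178).symm.trans (sb E91986 (iv4 F280984)))).symm
theorem E92358 : n180530 = n174766 := ((((iv5 F325397)).symm.trans (sb E91986 D180530))).symm
theorem E92359 : n180180 = n39900 := ((D180180).symm.trans (sb E91986 (iv6 D86217)))
theorem E92360 : n180181 = n83268 := ((D180181).symm.trans (sb E91986 (tr D180531 E92326)))
theorem F328002 : act 6 n63693 = n78657 := (sb E91987 (iv6 D163716))
theorem F328003 : act 3 n37911 = n51022 := (sb E91990 (iv3 D110653))
theorem E92361 : n125692 = n82587 := (((D82587).symm.trans (sb E91990 (iv4 F202169)))).symm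
theorem F328004 : act 5 n37909 = n51022 := (sb E91992 (iv5 D110654))
theorem F328005 : act 3 n110401 = n82588 := (sb E91993 F270700)
theorem F328006 : act 3 n98262 = n52271 := (sb E91994 F176435)
theorem F328007 : act 6 n98262 = n52270 := (sb E91994 (iv6 D113241))
theorem E92362 : n112741 = n82580 := ((D112741).symm.trans (sb E91995 F151641))
theorem E92363 : n173305 = n112742 := (((D112742).symm.trans (sb E91995 (iv5 F271714)))).symm
theorem F328008 : act 6 n52038 = n45947 := (sb E91995 (iv6 D98263))
theorem F328009 : act 5 n98259 = n50913 := (sb E91996 (iv5 D110408))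
theorem E92364 : n178688 = n50993 := (((iv3 F278507)).symm.trans (sb E91997 F171157))
theorem F328010 : act 5 n85132 = n50992 := (sb E91997 (iv5 D110590))
theorem E92365 : n178695 = n109566 := ((D178695).symm.trans (sb E91997 F171158))
theorem F328011 : act 2 n85129 = n51021 := (sb E91998 F171160)
theorem E92366 : n178687 = n51573 := ((D178687).symm.trans (sb E91998 F171161))
theorem F328012 : act 1 n52236 = n78658 := (sb E91999 (iv0 D163718))
theorem F328013 : act 0 n50157 = n78658 := (sb E92000 (iv1 D163719))
theorem F328014 : act 4 n52235 = n78668 := (sb E92001 F258075)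
theorem F328015 : act 7 n52235 = n78658 := (sb E92001 (iv7 D163721))
theorem F328016 : act 2 n59223 = n78665 := (sb E92002 (iv2 D163731))
theorem F328017 : act 3 n120924 = n78665 := (sb E92003 (iv3 D163732))
theorem F328018 : act 4 n59218 = n78665 := (sb E92004 (iv4 D163733))
theorem F328019 : act 5 n75866 = n78665 := (sb E92005 (iv5 D163734))
theorem F328020 : act 6 n120741 = n78665 := (sb E92006 (iv6 D163735))
theorem F328021 : act 7 n52239 = n78665 := (sb E92007 (iv7 D163736))
theorem F328022 : act 5 n84913 = n78652 := (sb E92012 (iv5 D163699))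
theorem E92367 : n86100 = n78663 := ((F325407).symm.trans (sb E92016 (iv5 D163729)))
theorem F328023 : act 5 n54939 = n78668 := (sb E92017 F258097)
theorem E92368 : n66295 = n66261 := ((F102207).symm.trans (sb E92018 F224301))
theorem E92369 : n108512 = n66260 := ((D108512).symm.trans (sb E92018 (iv7 D141281)))
theorem E92370 : n67849 = n60571 := ((((iv4 F95182)).symm.trans (sb E92021 F227646))).symm
theorem F328024 : act 0 n54186 = n105570 := (sb E92024 (iv1 F162167))
theorem F328025 : act 1 n54186 = n30451 := (sb E92024 (iv0 D64735))
theorem E92371 : n117626 = n51119 := ((D117626).symm.trans (sb E92024 (iv3 F103609)))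
theorem E92372 : n125467 = n117627 := (((D117627).symm.trans (sb E92024 (iv6 F201772)))).symm
theorem F328026 : act 0 n52574 = n30451 := (sb E92025 F102039)
theorem F328027 : act 1 n52574 = n105570 := (sb E92025 F162166)
theorem E92373 : n113863 = n28298 := (((iv3 F177154)).symm.trans (sb E92025 (iv3 D59637)))
theorem E92374 : n127084 = n113868 := (((D113868).symm.trans (sb E92025 D127084))).symm
theorem E92375 : n117444 = n30403 := ((((iv1 F100005)).symm.trans (sb E92026 (iv1 F183947)))).symm
theorem E92376 : n117443 = n30408 := ((((iv0 F97744)).symm.trans (sb E92026 F183946))).symm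
theorem E92377 : n117446 = n30181 := ((((iv2 F48552)).symm.trans (sb E92026 (iv2 F183949)))).symm
theorem E92378 : n117464 = n30449 := ((((iv3 F48860)).symm.trans (sb E92026 (iv3 F183977)))).symm
theorem E92379 : n30457 = n26195 := ((D30457).symm.trans (sb E92026 (iv5 D54131)))
theorem E92381 : n117276 = n30458 := (((D30458).symm.trans (sb E92026 (iv7 F183526)))).symm
theorem E92382 : n148777 = n132424 := (((D132424).symm.trans (sb E92027 (iv5 F233578)))).symm
theorem E92383 : n136108 = n117440 := ((((iv3 F183942)).symm.trans (sb E92028 (iv3 F219063)))).symm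
theorem F328028 : act 4 n54121 = n105570 := (sb E92028 (iv4 F162163))
theorem E92385 : n117445 = n30470 := ((D117445).symm.trans (sb E92028 F99593))
theorem E92386 : n117432 = n64503 := ((F184053).symm.trans (sb E92029 (iv1 F219456)))
theorem F328029 : act 1 n117497 = n64108 := (sb E92029 (iv0 D136360))
theorem E92387 : n133498 = n54164 := (((F184051).symm.trans (sb E92029 F219458))).symm
theorem F328030 : act 4 n117497 = n132425 := (sb E92029 (iv4 F219457))
theorem E92388 : n133499 = n54157 := (((F184052).symm.trans (sb E92029 F219459))).symm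
theorem F328031 : act 0 n117491 = n64108 := (sb E92030 (iv1 D136361))
theorem F328032 : act 6 n117491 = n64317 := (sb E92030 F219466)
theorem E92389 : n133501 = n68427 := ((D133501).symm.trans (sb E92031 F184138))
theorem E92390 : n137754 = n117434 := (((D117434).symm.trans (sb E92032 D137754))).symm
theorem E92391 : n137446 = n59850 := (((F94296).symm.trans (sb E92032 (iv4 F220647)))).symm
theorem F328033 : act 5 n54119 = n64108 := (sb E92032 F100617)
theorem E92392 : n137755 = n117436 := (((D117436).symm.trans (sb E92032 D137755))).symm
theorem F328034 : act 4 n117541 = n63958 := (sb E92033 F218872)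
theorem F328035 : act 6 n117541 = n63957 := (sb E92033 (iv6 D136025))
theorem F328036 : act 7 n117541 = n64108 := (sb E92033 F218873)
theorem E92396 : n126450 = n76389 := ((D126450).symm.trans (sb E92034 F120212))
theorem E92397 : n53134 = n35967 := ((F93574).symm.trans (sb E92034 (iv5 D79028)))
theorem F328037 : act 6 n59327 = n35968 := (sb E92034 F120213)
theorem E92399 : n144771 = n61329 := ((D144771).symm.trans (sb E92035 (iv1 F209276)))
theorem E92400 : n144772 = n61326 := ((D144772).symm.trans (sb E92035 (iv0 D130711)))
theorem F328038 : act 2 n67848 = n137478 := (sb E92035 (iv2 F220676))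
theorem F328039 : act 4 n67848 = n125761 := (sb E92035 F209275)
theorem E92401 : n144773 = n125760 := ((D144773).symm.trans (sb E92035 F209277))
theorem F328040 : act 3 n113792 = n61890 := (sb E92036 (iv3 D131900))
theorem F328041 : act 6 n113792 = n128584 := (sb E92036 F211335)
theorem F328042 : act 6 n62497 = n52545 := (sb E92037 (iv6 D113793))
theorem F328043 : act 6 n62498 = n52552 := (sb E92040 F177073)
theorem F328044 : act 0 n26211 = n30399 := (sb E92042 (iv1 F99543))
theorem F328045 : act 1 n26211 = n30168 := (sb E92042 (iv0 D63970))
theorem E92402 : n54147 = n30396 := (((iv2 F85469)).symm.trans (sb E92042 F103590))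
theorem E92403 : n136050 = n54182 := ((((iv3 F85512)).symm.trans (sb E92042 D136050))).symm
theorem E92405 : n115382 = n54187 := (((D54187).symm.trans (sb E92042 F179670))).symm
theorem E92406 : n54188 = n30397 := ((D54188).symm.trans (sb E92042 F103591))
theorem F328046 : act 4 n63971 = n52574 := (sb E92043 (iv4 D113867))
theorem E92407 : n136053 = n54105 := ((D136053).symm.trans (sb E92043 F177164))
theorem E92408 : n68723 = n30398 := (((D30398).symm.trans (sb E92044 F184093))).symm
theorem E92409 : n128527 = n109334 := (((iv4 F206727)).symm.trans (sb E92045 (iv4 F184229)))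
theorem E92410 : n144797 = n136044 := (((D136044).symm.trans (sb E92045 (iv5 F227694)))).symm
theorem E92411 : n136055 = n31524 := ((D136055).symm.trans (sb E92046 (iv1 D67859)))
theorem E92412 : n136056 = n35976 := ((D136056).symm.trans (sb E92046 F103911))
theorem E92413 : n136057 = n52556 := ((D136057).symm.trans (sb E92046 (iv4 F103913)))
theorem E92414 : n144798 = n136048 := ((((iv6 F218920)).symm.trans (sb E92046 D144798))).symm
theorem E92415 : n136058 = n59851 := ((D136058).symm.trans (sb E92046 F103912))
theorem E92418 : n128777 = n49514 := (((F82174).symm.trans (sb E92049 (iv2 F207036)))).symm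
theorem E92419 : n112694 = n28764 := (((iv3 F175379)).symm.trans (sb E92049 F95181))
theorem E92421 : n112695 = n28762 := ((D112695).symm.trans (sb E92049 (iv6 D60566)))
theorem E92422 : n128785 = n31518 := (((F82175).symm.trans (sb E92049 D128785))).symm
theorem E92423 : n128752 = n113605 := (((D113605).symm.trans (sb E92050 D128752))).symm
theorem F328047 : act 3 n52446 = n28755 := (sb E92050 (iv3 D60552))
theorem E92426 : n115222 = n32736 := (((F82800).symm.trans (sb E92050 (iv5 F179431)))).symm
theorem E92427 : n126449 = n113607 := (((D113607).symm.trans (sb E92050 (iv7 F203268)))).symm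
theorem E92430 : n71915 = n49728 := ((((iv4 F83938)).symm.trans (sb E92051 (iv4 F108421)))).symm
theorem E92431 : n115223 = n26850 := ((D115223).symm.trans (sb E92051 (iv6 D55613)))
theorem E92432 : n120658 = n53133 := ((((iv7 F93569)).symm.trans (sb E92051 D120658))).symm
theorem E92433 : n128759 = n113855 := (((iv0 F220369)).symm.trans (sb E92052 F229952))
theorem F328048 : act 6 n111865 = n52967 := (sb E92053 (iv6 D114783))
theorem F328049 : act 2 n113807 = n129132 := (sb E92054 (iv2 F207372))
theorem F328050 : act 6 n113807 = n60706 := (sb E92054 (iv6 D129128))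
theorem F328051 : act 0 n113814 = n61419 := (sb E92055 (iv1 D130913))
theorem F328052 : act 2 n113814 = n133186 := (sb E92055 F213993)
theorem F328053 : act 4 n113814 = n129186 := (sb E92055 (iv4 F211946))
theorem F328054 : act 6 n113814 = n133447 := (sb E92055 F214583)
theorem F328055 : act 7 n113814 = n133185 := (sb E92055 F213987)
theorem F328056 : act 1 n113815 = n61419 := (sb E92056 (iv0 D130912))
theorem F328057 : act 2 n113815 = n133185 := (sb E92056 (iv2 F213989))
theorem F328058 : act 7 n113815 = n133186 := (sb E92056 (iv7 F213991))
theorem F328059 : act 7 n62493 = n52559 := (sb E92057 (iv7 D113816))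
theorem E92434 : n144795 = n137389 := ((((iv5 F220587)).symm.trans (sb E92058 (iv5 F227690)))).symm
theorem E92435 : n137450 = n52547 := (((iv4 F220649)).symm.trans (sb E92059 F103907))
theorem E92436 : n144796 = n137451 := (((D137451).symm.trans (sb E92059 D144796))).symm
theorem E92437 : n99299 = n65475 := ((D99299).symm.trans (sb E92061 F322621))
theorem E92438 : n99300 = n55222 := ((D99300).symm.trans (sb E92061 F107647))
theorem F328060 : act 2 n46431 = n32940 := (sb E92061 F107646)
theorem E92439 : n150891 = n22242 := (((F73283).symm.trans (sb E92061 D150891))).symm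
theorem E92440 : n99301 = n32939 := ((D99301).symm.trans (sb E92061 (iv4 D71137)))
theorem E92441 : n150892 = n22238 := ((((iv5 D46431)).symm.trans (sb E92061 D150892))).symm
theorem E92442 : n93030 = n65469 := (((iv7 F292325)).symm.trans (sb E92061 F322622))
theorem E92443 : n57384 = n51408 := ((D57384).symm.trans (sb E92062 F111665))
theorem E92444 : n57221 = n53465 := (((iv2 F90266)).symm.trans (sb E92062 F111663))
theorem E92445 : n156461 = n57365 := ((((iv3 F90554)).symm.trans (sb E92062 (iv3 F245980)))).symm
theorem E92446 : n57386 = n51114 := ((D57386).symm.trans (sb E92062 F111664))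
theorem E92447 : n156462 = n13144 := ((((iv5 D27467)).symm.trans (sb E92062 D156462))).symm
theorem E92448 : n57372 = n34132 := (((iv6 F90562)).symm.trans (sb E92062 (iv6 D74407)))
theorem E92449 : n57387 = n53464 := ((D57387).symm.trans (sb E92062 F111667))
theorem F328061 : act 0 n68175 = n37586 := (sb E92063 (iv1 D82023))
theorem E92450 : n150126 = n145419 := (((D145419).symm.trans (sb E92063 (iv3 F236294)))).symm
theorem E92452 : n145420 = n57222 := ((D145420).symm.trans (sb E92063 F299225))
theorem E92453 : n171141 = n141275 := ((((iv6 F224298)).symm.trans (sb E92063 D171141))).symm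
theorem E92454 : n99989 = n51410 := ((D99989).symm.trans (sb E92064 F172967))
theorem E92455 : n65400 = n22398 := (((F73810).symm.trans (sb E92064 F172968))).symm
theorem E92456 : n123058 = n25005 := ((((iv1 F40939)).symm.trans (sb E92065 (iv1 F302034)))).symm
theorem E92457 : n123575 = n51409 := (((F81172).symm.trans (sb E92065 (iv0 F302036)))).symm
theorem F328062 : act 4 n25904 = n37586 := (sb E92065 (iv4 D82024))
theorem E92462 : n53466 = n37587 := (((D37587).symm.trans (sb E92066 (iv7 D115975)))).symm
theorem E92464 : n99981 = n65397 := (((F101096).symm.trans (sb E92067 D99981))).symm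
theorem E92465 : n65494 = n22394 := (((iv5 F101175)).symm.trans (sb E92067 (iv5 D46694)))
theorem F328063 : act 6 n30700 = n37586 := (sb E92067 F73800)
theorem F328064 : act 7 n25901 = n37586 := (sb E92068 (iv7 D82025))
theorem E92468 : n74023 = n41021 := ((D74023).symm.trans (sb E92069 (iv3 D87917)))
theorem E92470 : n93057 = n74024 := (((D74024).symm.trans (sb E92069 (iv5 F292689)))).symm
theorem E92472 : n184341 = n150897 := (((D150897).symm.trans (sb E92070 (iv3 F286271)))).symm
theorem E92473 : n150791 = n46285 := (((iv5 F237349)).symm.trans (sb E92070 (iv5 D98911)))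
theorem E92474 : n120036 = n41012 := (((F135038).symm.trans (sb E92071 (iv1 F189586)))).symm
theorem E92475 : n150903 = n93027 := ((((iv0 F292310)).symm.trans (sb E92071 D150903))).symm
theorem E92476 : n150904 = n92677 := ((((iv4 F142816)).symm.trans (sb E92071 D150904))).symm
theorem F328065 : act 5 n46426 = n32940 := (sb E92071 (iv5 D71141))
theorem E92478 : n93029 = n65476 := (((iv7 F292322)).symm.trans (sb E92071 F322625))
theorem F328066 : act 5 n82021 = n53462 := (sb E92072 (iv5 D115961))
theorem F328067 : act 0 n154085 = n138619 := (sb E92073 (iv1 F246478))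
theorem F328068 : act 2 n154085 = n74518 := (sb E92073 F246473)
theorem F328069 : act 5 n154085 = n74517 := (sb E92073 (iv5 D156696))
theorem F328070 : act 7 n154085 = n138616 := (sb E92073 F246474)
theorem F328071 : act 0 n65087 = n72961 := (sb E92074 (iv1 D154086))
theorem E92479 : n154929 = n74518 := (((F221505).symm.trans (sb E92075 F243618))).symm
theorem F328072 : act 2 n138306 = n72961 := (sb E92075 F242164)
theorem F328073 : act 4 n138306 = n76755 := (sb E92075 F242165)
theorem F328074 : act 6 n138306 = n72959 := (sb E92075 (iv6 D154083))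
theorem F328075 : act 3 n124941 = n72969 := (sb E92078 F242169)
theorem F328076 : act 4 n124941 = n149467 := (sb E92078 F242170)
theorem F328077 : act 7 n124941 = n72961 := (sb E92078 (iv7 D154088))
theorem F328078 : act 1 n60548 = n81512 := (sb E92079 (iv0 D169930))
theorem F328079 : act 2 n128671 = n81512 := (sb E92080 F267350)
theorem F328080 : act 5 n128671 = n81511 := (sb E92080 (iv5 D169929))
theorem F328081 : act 3 n107224 = n81515 := (sb E92081 F267353)
theorem F328082 : act 6 n107224 = n81512 := (sb E92081 (iv6 D169933))
theorem F328083 : act 5 n90090 = n63469 := (sb E92082 (iv5 D135051))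
theorem F328084 : act 5 n90091 = n63468 := (sb E92083 (iv5 D135048))
theorem F328085 : act 0 n113395 = n78625 := (sb E92084 (iv1 D163647))
theorem F328086 : act 2 n113395 = n121212 := (sb E92084 F257989)
theorem F328087 : act 3 n113395 = n166576 := (sb E92084 F262131)
theorem F328088 : act 4 n113395 = n86279 := (sb E92084 (iv4 F257988))
theorem F328089 : act 7 n113395 = n166632 := (sb E92084 (iv7 F262243))
theorem F328090 : act 1 n113396 = n78625 := (sb E92085 (iv0 D163646))
theorem F328091 : act 2 n113396 = n166632 := (sb E92085 (iv2 F262245))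
theorem F328092 : act 4 n113396 = n78674 := (sb E92085 F257984)
theorem F328093 : act 7 n113396 = n121212 := (sb E92085 (iv7 F257986))
theorem F328094 : act 2 n79976 = n52344 := (sb E92086 F176588)
theorem E92480 : n166633 = n126226 := ((D166633).symm.trans (sb E92086 (iv3 F202997)))
theorem E92481 : n166635 = n52342 := ((D166635).symm.trans (sb E92086 (iv6 D113391)))
theorem F328095 : act 1 n113397 = n166779 := (sb E92087 (iv0 F262510))
theorem F328096 : act 2 n113397 = n166634 := (sb E92087 (iv2 F262253))
theorem F328097 : act 7 n113397 = n166642 := (sb E92087 (iv7 F262270))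
theorem F328098 : act 2 n90091 = n87104 := (sb E92089 F294415)
theorem F328099 : act 3 n90091 = n47015 := (sb E92089 F154941)
theorem F328100 : act 4 n90091 = n88235 := (sb E92089 F289941)
theorem F328101 : act 6 n90091 = n47012 := (sb E92089 (iv6 D100841))
theorem F328102 : act 7 n90091 = n87105 := (sb E92089 F294416)
theorem F328103 : act 7 n41135 = n63442 := (sb E92090 (iv7 D135003))
theorem F328104 : act 0 n135039 = n86951 := (sb E92092 (iv1 D182059))
theorem F328105 : act 1 n135040 = n86951 := (sb E92093 (iv0 D182058))
theorem F328106 : act 5 n135040 = n87095 := (sb E92093 F294307)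
theorem F328107 : act 2 n87216 = n63466 := (sb E92094 F217268)
theorem E92482 : n182703 = n63464 := ((D182703).symm.trans (sb E92094 (iv6 D135034)))
theorem F328108 : act 3 n87215 = n63470 := (sb E92095 F217270)
theorem F328109 : act 5 n87215 = n63466 := (sb E92095 (iv5 D135041))
theorem F328110 : act 1 n87224 = n63470 := (sb E92096 F216180)
theorem E92483 : n182721 = n63010 := ((D182721).symm.trans (sb E92096 (iv5 D134147)))
theorem F328111 : act 4 n43579 = n63470 := (sb E92097 (iv4 D135052))
theorem F328112 : act 5 n94105 = n63467 := (sb E92098 (iv5 D135045))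
theorem F328113 : act 6 n94105 = n63470 := (sb E92098 F217272)
theorem F328114 : act 3 n101481 = n63447 := (sb E92099 (iv3 D135014))
theorem F328115 : act 4 n101481 = n135563 := (sb E92099 (iv4 F217993))
theorem F328116 : act 5 n76840 = n63447 := (sb E92100 (iv5 D135015))
theorem E92484 : n160326 = n134197 := ((((iv5 F217237)).symm.trans (sb E92101 F304193))).symm
theorem F328117 : act 5 n122357 = n63446 := (sb E92103 (iv5 D135013))
theorem E92485 : n134293 = n57766 := ((D134293).symm.trans (sb E92104 (iv5 D123995)))
theorem F328118 : act 4 n123472 = n126502 := (sb E92105 F216861)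
theorem F328119 : act 6 n123472 = n63333 := (sb E92105 (iv6 D134774))
theorem E92486 : n85830 = n63334 := (((D63334).symm.trans (sb E92107 F304198))).symm
theorem F328120 : act 6 n29923 = n57538 := (sb E92107 (iv6 D123475))
theorem F328121 : act 2 n62101 = n52283 := (sb E92109 F161116)
theorem F328122 : act 5 n62101 = n48640 := (sb E92109 (iv5 D105191))
theorem E92487 : n126283 = n60806 := (((F96788).symm.trans (sb E92109 (iv6 F203048)))).symm
theorem F328123 : act 5 n105192 = n60548 := (sb E92110 (iv5 D128748))
theorem E92488 : n110570 = n61964 := ((D110570).symm.trans (sb E92113 (iv5 D132057)))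
theorem E92489 : n132051 = n87588 := ((D132051).symm.trans (sb E92114 F294522))
theorem E92490 : n132052 = n87585 := ((D132052).symm.trans (sb E92114 F294523))
theorem E92491 : n132046 = n86129 := (((iv2 F211532)).symm.trans (sb E92114 (iv2 F132075)))
theorem F328124 : act 4 n61963 = n40480 := (sb E92114 F112713)
theorem F328125 : act 5 n61963 = n34422 := (sb E92114 (iv5 D75166))
theorem F328126 : act 7 n61963 = n86125 := (sb E92114 (iv7 F132066))
theorem F328127 : act 1 n95288 = n58897 := (sb E92115 (iv0 D125775))
theorem F328128 : act 0 n75179 = n58897 := (sb E92116 (iv1 D125776))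
theorem F328129 : act 2 n166473 = n82609 := (sb E92117 F270740)
theorem F328130 : act 5 n166473 = n82608 := (sb E92117 (iv5 D172559))
theorem F328131 : act 5 n118910 = n79915 := (sb E92118 (iv5 D166474))
theorem E92493 : n84185 = n73621 := (((D73621).symm.trans (sb E92119 (iv1 F270191)))).symm
theorem E92494 : n83625 = n73620 := ((((iv4 F110323)).symm.trans (sb E92119 (iv4 F303627)))).symm
theorem F328132 : act 4 n126912 = n83626 := (sb E92120 F309736)
theorem F328133 : act 0 n130522 = n73595 := (sb E92121 (iv1 D155060))
theorem F328134 : act 1 n130522 = n73624 := (sb E92121 F243842)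
theorem F328135 : act 3 n130522 = n83358 := (sb E92121 F314829)
theorem F328136 : act 4 n130522 = n73617 := (sb E92121 F314830)
theorem F328137 : act 6 n130522 = n73616 := (sb E92121 F314831)
theorem F328138 : act 3 n37800 = n73622 := (sb E92122 (iv3 D155104))
theorem F328139 : act 4 n38157 = n73622 := (sb E92123 (iv4 D155105))
theorem F328140 : act 6 n38151 = n73622 := (sb E92124 (iv6 D155107))
theorem F328141 : act 7 n38817 = n73622 := (sb E92125 (iv7 F243925))
theorem F328142 : act 1 n74753 = n84186 := (sb E92126 (iv0 D176577))
theorem F328143 : act 0 n107650 = n84186 := (sb E92127 (iv1 D176578))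
theorem F328144 : act 2 n130523 = n84186 := (sb E92128 F275935)
theorem E92495 : n155101 = n130523 := ((D155101).symm.trans (iv5 (sb E92128 (tr (iv5 D176575) E92493))))
theorem F328145 : act 4 n64105 = n84186 := (sb E92129 (iv4 D176579))
theorem F328146 : act 3 n116844 = n84191 := (sb E92130 F275937)
theorem F328147 : act 6 n116844 = n84186 := (sb E92130 (iv6 D176580))
theorem E92497 : n99787 = n30221 := (((iv3 F153612)).symm.trans (sb E92131 F99808))
theorem E92498 : n136398 = n102152 := (((D102152).symm.trans (sb E92131 D136398))).symm
theorem E92499 : n102153 = n30219 := ((D102153).symm.trans (sb E92131 (iv6 D64122)))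
theorem E92500 : n135877 = n102161 := (((D102161).symm.trans (sb E92132 (iv1 F218551)))).symm
theorem E92501 : n135876 = n102162 := (((D102162).symm.trans (sb E92132 F218547))).symm
theorem E92502 : n132192 = n22788 := (((F74629).symm.trans (sb E92132 (iv3 F211768)))).symm
theorem E92503 : n136390 = n102163 := (((D102163).symm.trans (sb E92132 D136390))).symm
theorem E92504 : n135878 = n102164 := (((D102164).symm.trans (sb E92132 (iv7 F218549)))).symm
theorem F328148 : act 3 n64129 = n84190 := (sb E92135 (iv3 D176589))
theorem F328149 : act 0 n84190 = n46987 := (sb E92136 F289606)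
theorem F328150 : act 1 n84190 = n47361 := (sb E92136 F159819)
theorem F328151 : act 2 n84190 = n46610 := (sb E92136 (iv2 D99798))
theorem E92505 : n64129 = n47444 := (((iv3 F328148)).symm.trans (sb E92136 F153631))
theorem F328152 : act 7 n84190 = n47430 := (sb E92136 F153632)
theorem F328153 : act 2 n130666 = n71890 := (sb E92137 (iv2 D152383))
theorem F328154 : act 7 n130666 = n71891 := (sb E92137 (iv7 F239576))
theorem E92506 : n102442 = n30437 := ((F157403).symm.trans (sb E92138 F166061))
theorem E92507 : n104236 = n30432 := ((D104236).symm.trans (sb E92138 F166062))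
theorem F328155 : act 2 n48236 = n30470 := (sb E92138 F99613)
theorem E92508 : n136130 = n23391 := (((F75829).symm.trans (sb E92138 (iv3 F219151)))).symm
theorem E92509 : n136131 = n104237 := (((D104237).symm.trans (sb E92138 (iv4 F219155)))).symm
theorem E92510 : n104238 = n30458 := ((D104238).symm.trans (sb E92138 F99614))
theorem F328156 : act 7 n48236 = n30185 := (sb E92138 (iv7 D64022))
theorem E92513 : n137797 = n23410 := (((F148357).symm.trans (sb E92139 (iv2 F221038)))).symm
theorem F328157 : act 3 n46683 = n30469 := (sb E92139 F100629)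
theorem E92515 : n99949 = n30464 := ((D99949).symm.trans (sb E92139 (iv5 D64773)))
theorem E92516 : n137828 = n87177 := (((F293824).symm.trans (sb E92139 (iv6 F221053)))).symm
theorem F328158 : act 4 n47069 = n30469 := (sb E92140 (iv4 D64794))
theorem E92520 : n137857 = n90373 := ((((iv6 F293738)).symm.trans (sb E92140 (iv6 F221066)))).symm
theorem E92521 : n137855 = n44563 := ((D137855).symm.trans (sb E92141 (iv1 F133638)))
theorem E92522 : n137856 = n44562 := ((D137856).symm.trans (sb E92141 F133636))
theorem F328159 : act 2 n64780 = n40446 := (sb E92141 (iv2 D87049))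
theorem E92523 : n182302 = n30466 := ((((iv5 D64780)).symm.trans (sb E92141 D182302))).symm
theorem E92524 : n137858 = n44564 := ((D137858).symm.trans (sb E92141 F133635))
theorem E92527 : n30428 = n10764 := ((((iv4 D22774)).symm.trans (sb E92142 (iv4 D64680)))).symm
theorem E92528 : n137614 = n47411 := (((D47411).symm.trans (sb E92142 D137614))).symm
theorem E92531 : n116379 = n87379 := ((D116379).symm.trans (sb E92145 (iv5 D183033)))
theorem E92534 : n136123 = n23411 := (((F292845).symm.trans (sb E92146 (iv2 F219139)))).symm
theorem F328160 : act 3 n45360 = n30185 := (sb E92146 F99605)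
theorem E92535 : n106897 = n97038 := (((D97038).symm.trans (sb E92146 (iv4 F164768)))).symm
theorem E92536 : n97039 = n30182 := ((D97039).symm.trans (sb E92146 (iv6 D64016)))
theorem E92537 : n136132 = n130837 := ((D136132).symm.trans (sb E92147 (iv1 F324217)))
theorem E92538 : n182304 = n136133 := (((D136133).symm.trans (sb E92147 D182304))).symm
theorem E92539 : n136126 = n40447 := (((iv3 F219149)).symm.trans (sb E92147 F133639))
theorem E92540 : n182305 = n126641 := ((((iv4 F203778)).symm.trans (sb E92147 D182305))).symm
theorem F328161 : act 5 n64018 = n40446 := (sb E92147 (iv5 D87050))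
theorem E92542 : n136135 = n44565 := ((D136135).symm.trans (sb E92147 F133640))
theorem E92543 : n185324 = n64399 := ((D185324).symm.trans (sb E92148 (iv6 D137016)))
theorem F328162 : act 0 n30221 = n47404 := (sb E92149 F290163)
theorem F328163 : act 1 n30221 = n47062 := (sb E92149 (iv0 D101008))
theorem E92544 : n101009 = n22790 := ((((iv2 D47444)).symm.trans (iv2 (sb E92150 (tr F179835 E92505))))).symm
theorem E92545 : n115537 = n22790 := (E92150).trans E92544
theorem E92546 : n53300 = n47445 := (((D47445).symm.trans (sb E92545 F179836))).symm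
theorem E92547 : n64145 = n47447 := (((D47447).symm.trans (sb E92545 F179837))).symm
theorem E92548 : n53299 = n46607 := ((((iv7 F73609)).symm.trans (sb E92545 (iv7 D115537)))).symm
theorem F328164 : act 0 n101010 = n49898 := (sb E92152 (iv1 D108040))
theorem F328165 : act 1 n101010 = n125462 := (sb E92152 F201748)
theorem F328166 : act 2 n101010 = n74730 := (sb E92152 (iv2 F167029))
theorem F328167 : act 3 n101010 = n134019 := (sb E92152 F215962)
theorem F328168 : act 5 n101010 = n108046 := (sb E92152 (iv5 F167015))
theorem F328169 : act 7 n101010 = n125461 := (sb E92152 (iv7 F201743))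
theorem E92553 : n99785 = n99740 := ((F153611).symm.trans (iv0 (sb E92154 (tr (iv1 F179827) E92505))))
theorem F328170 : act 4 n99740 = n125461 := (sb E92154 (iv4 F201739))
theorem F328171 : act 6 n99740 = n63933 := (sb E92154 F179824)
theorem E92554 : n137575 = n10629 := ((((iv3 D22323)).symm.trans (sb E92155 (iv3 F220746)))).symm
theorem E92555 : n46595 = n30429 := ((D46595).symm.trans (sb E92155 F100567))
theorem E92557 : n136076 = n47408 := (((D47408).symm.trans (sb E92156 (iv6 F218989)))).symm
theorem E92559 : n137610 = n47071 := (((F290199).symm.trans (sb E92158 D137610))).symm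
theorem F328172 : act 6 n101369 = n64379 := (sb E92159 F219513)
theorem F328173 : act 0 n102062 = n125462 := (sb E92160 (iv1 F201749))
theorem F328174 : act 1 n102062 = n49898 := (sb E92160 (iv0 D108039))
theorem F328175 : act 2 n102062 = n125461 := (sb E92160 F201742)
theorem F328176 : act 3 n102062 = n51149 := (sb E92160 (iv3 F166992))
theorem F328177 : act 5 n102062 = n108047 := (sb E92160 F167017)
theorem F328178 : act 6 n102062 = n51174 := (sb E92160 F166991)
theorem F328179 : act 7 n102062 = n74730 := (sb E92160 F166994)
theorem F328180 : act 6 n30318 = n47404 := (sb E92161 (iv6 D102063))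
theorem F328181 : act 2 n79049 = n64493 := (sb E92162 F218850)
theorem F328182 : act 4 n79049 = n107511 := (sb E92162 F218851)
theorem E92560 : n164576 = n63953 := ((D164576).symm.trans (sb E92162 (iv6 D136016)))
theorem F328183 : act 7 n79049 = n64115 := (sb E92162 F218852)
theorem F328184 : act 0 n137208 = n117607 := (sb E92163 F225497)
theorem F328185 : act 1 n137208 = n117610 := (sb E92163 F225498)
theorem F328186 : act 2 n137208 = n143462 := (sb E92163 F226204)
theorem E92561 : n137443 = n66854 := (((iv5 F220644)).symm.trans (sb E92163 (iv5 D142623)))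
theorem F328187 : act 7 n137208 = n139759 := (sb E92163 F225496)
theorem F328188 : act 5 n31975 = n64493 := (sb E92164 (iv5 F100530))
theorem E92563 : n137445 = n68725 := (((D68725).symm.trans (sb E92164 D137445))).symm
theorem F328189 : act 2 n67860 = n64115 := (sb E92166 F211761)
theorem F328190 : act 4 n67860 = n110460 := (sb E92166 F211762)
theorem E92564 : n144800 = n62016 := ((D144800).symm.trans (sb E92166 (iv6 D132188)))
theorem F328191 : act 7 n67860 = n64493 := (sb E92166 F211763)
theorem E92565 : n144791 = n137440 := (((D137440).symm.trans (sb E92167 D144791))).symm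
theorem E92566 : n137441 = n31523 := ((D137441).symm.trans (sb E92167 (iv4 D67856)))
theorem E92567 : n144792 = n137442 := (((D137442).symm.trans (sb E92167 D144792))).symm
theorem E92568 : n64591 = n26201 := ((((iv1 D54145)).symm.trans (sb E92168 (iv1 D137425)))).symm
theorem E92569 : n64596 = n26213 := (((F85467).symm.trans (sb E92168 F220629))).symm
theorem F328192 : act 3 n99702 = n67457 := (sb E92170 (iv3 D143991))
theorem F328193 : act 3 n64945 = n47322 := (sb E92171 (iv3 D101828))
theorem F328194 : act 5 n64357 = n63039 := (sb E92172 (iv5 D134193))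
theorem F328195 : act 7 n64357 = n134895 := (sb E92172 (iv7 F217102))
theorem F328196 : act 0 n92752 = n134881 := (sb E92173 F217085)
theorem F328197 : act 1 n92752 = n134880 := (sb E92173 (iv0 F217079))
theorem F328198 : act 2 n92752 = n134888 := (sb E92173 (iv2 F217090))
theorem F328199 : act 4 n92752 = n134170 := (sb E92173 F216228)
theorem F328200 : act 5 n92752 = n134252 := (sb E92173 F216282)
theorem F328201 : act 6 n92752 = n63039 := (sb E92173 (iv6 D134194))
theorem F328202 : act 7 n92752 = n134169 := (sb E92173 F216229)
theorem F328203 : act 3 n116301 = n66616 := (sb E92174 (iv3 D142050))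
theorem F328204 : act 2 n142051 = n67430 := (sb E92175 (iv2 D143924))
theorem F328205 : act 5 n74909 = n66616 := (sb E92176 (iv5 D142052))
theorem F328206 : act 2 n142053 = n67442 := (sb E92177 F226589)
theorem E92570 : n133313 = n68687 := (((iv1 F214286)).symm.trans (sb E92178 (iv1 D146535)))
theorem E92571 : n133312 = n71670 := ((F214282).symm.trans (sb E92178 F229843))
theorem F328207 : act 5 n130898 = n146350 := (sb E92178 (iv5 F229844))
theorem E92572 : n140893 = n127554 := ((D140893).symm.trans (sb E92179 (iv1 F312811)))
theorem E92573 : n140894 = n116948 := ((D140894).symm.trans (sb E92179 (iv0 F312808)))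
theorem F328208 : act 2 n66094 = n138535 := (sb E92179 (iv2 F245759))
theorem E92574 : n140896 = n74373 := ((D140896).symm.trans (sb E92179 (iv7 D156375)))
theorem F328209 : act 0 n109258 = n176708 := (sb E92180 (iv1 F276071))
theorem F328210 : act 1 n109258 = n176707 := (sb E92180 F276066)
theorem F328211 : act 2 n109258 = n78468 := (sb E92180 (iv2 D163266))
theorem F328212 : act 7 n109258 = n95488 := (sb E92180 (iv7 F326722))
theorem F328213 : act 3 n78397 = n105207 := (sb E92181 F202965)
theorem E92575 : n163040 = n59166 := ((D163040).symm.trans (sb E92181 F202966))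
theorem E92576 : n163042 = n59164 := ((D163042).symm.trans (sb E92181 (iv6 D126204)))
theorem F328214 : act 3 n121122 = n58799 := (sb E92182 F202012)
theorem F328215 : act 6 n121122 = n58798 := (sb E92182 (iv6 D125584))
theorem E92577 : n113146 = n78573 := ((D113146).symm.trans (sb E92183 F254254))
theorem F328216 : act 6 n52224 = n55885 := (sb E92183 (iv6 D121124))
theorem E92578 : n178319 = n51418 := ((D178319).symm.trans (sb E92184 (iv3 D111482)))
theorem E92579 : n178321 = n65895 := ((D178321).symm.trans (sb E92184 F173000))
theorem E92582 : n178309 = n112566 := (((D112566).symm.trans (sb E92185 (iv2 F277894)))).symm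
theorem E92583 : n178330 = n112567 := (((D112567).symm.trans (sb E92185 D178330))).symm
theorem F328217 : act 6 n51936 = n39261 := (sb E92185 (iv6 D84858))
theorem E92585 : n178305 = n39263 := (((iv1 F277888)).symm.trans (sb E92186 (iv1 D84865)))
theorem E92586 : n178304 = n39265 := ((F277887).symm.trans (sb E92186 F130071))
theorem F328218 : act 3 n84859 = n108835 := (sb E92186 (iv3 F327363))
theorem E92592 : n120020 = n90727 := (((iv1 F189508)).symm.trans (sb E92187 F158558))
theorem E92593 : n120019 = n103044 := ((F189503).symm.trans (sb E92187 F158559))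
theorem F328219 : act 4 n74092 = n47870 := (sb E92187 (iv4 D103316))
theorem E92594 : n88068 = n74035 := (((F110832).symm.trans (sb E92187 F294495))).symm
theorem E92595 : n120021 = n103220 := (((iv7 F189506)).symm.trans (sb E92187 F158557))
theorem F328220 : act 1 n47836 = n33997 := (sb E92188 (iv0 D74090))
theorem E92597 : n155746 = n103222 := (((D103222).symm.trans (sb E92188 D155746))).symm
theorem F328221 : act 0 n47843 = n33997 := (sb E92189 (iv1 D74091))
theorem E92602 : n155751 = n103243 := (((D103243).symm.trans (sb E92189 D155751))).symm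
theorem E92606 : n88072 = n74033 := (((D74033).symm.trans (sb E92190 (iv1 F135069)))).symm
theorem E92607 : n74034 = n47139 := ((D74034).symm.trans (sb E92190 F135063))
theorem E92610 : n88069 = n55224 := ((((iv7 F87380)).symm.trans (sb E92190 (iv7 F135064)))).symm
theorem F328222 : act 4 n55231 = n47869 := (sb E92191 (iv4 D103313))
theorem E92611 : n185800 = n134521 := (((D134521).symm.trans (sb E92192 D185800))).symm
theorem E92613 : n185802 = n29889 := (((F98467).symm.trans (sb E92192 D185802))).symm
theorem F328223 : act 3 n63215 = n41304 := (sb E92192 (iv3 D88490))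
theorem E92614 : n134516 = n104364 := (((iv4 F216470)).symm.trans (sb E92192 (iv4 F159994)))
theorem E92615 : n134524 = n88538 := ((D134524).symm.trans (sb E92192 (iv7 F135594)))
theorem F328224 : act 7 n173699 = n185827 := (sb E92196 (iv7 F288163))
theorem F328225 : act 1 n43248 = n83074 := (sb E92197 (iv0 D173706))
theorem F328226 : act 0 n90260 = n83074 := (sb E92198 (iv1 D173707))
theorem F328227 : act 7 n88506 = n83074 := (sb E92199 (iv7 D173708))
theorem F328228 : act 1 n42188 = n38745 := (sb E92200 (iv0 D84097))
theorem E92616 : n176375 = n43248 := ((((iv2 F67774)).symm.trans (sb E92200 D176375))).symm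
theorem E92621 : n176380 = n90260 := (((D90260).symm.trans (sb E92200 D176380))).symm
theorem F328229 : act 1 n84098 = n88506 := (sb E92201 F139310)
theorem E92622 : n176382 = n43249 := ((D176382).symm.trans (sb E92201 F139307))
theorem E92623 : n176383 = n42360 := ((D176383).symm.trans (sb E92201 (iv5 D90509)))
theorem E92624 : n185897 = n176333 := (((D176333).symm.trans (sb E92202 (iv7 F288389)))).symm
theorem F328230 : act 0 n84100 = n90260 := (sb E92203 (iv1 F138827))
theorem F328231 : act 1 n84100 = n43248 := (sb E92203 (iv0 F135598))
theorem F328232 : act 2 n84100 = n88506 := (sb E92203 F135595)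
theorem F328233 : act 4 n84100 = n43868 := (sb E92203 F135596)
theorem F328234 : act 5 n84100 = n41329 := (sb E92203 (iv5 D88539))
theorem E92625 : n185899 = n173744 := ((((iv6 F272314)).symm.trans (sb E92203 D185899))).symm
theorem F328235 : act 3 n63252 = n88540 := (sb E92204 F288390)
theorem F328236 : act 4 n84165 = n88507 := (sb E92205 F288164)
theorem F328237 : act 6 n84165 = n88506 := (sb E92205 (iv6 D185828))
theorem F328238 : act 5 n76461 = n53128 := (sb E92206 (iv5 D115141))
theorem F328239 : act 3 n59591 = n79813 := (sb E92207 (iv3 D166226))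
theorem F328240 : act 2 n46603 = n63989 := (sb E92208 F218978)
theorem E92626 : n64655 = n22328 := (((F73603).symm.trans (sb E92208 F218979))).symm
theorem E92627 : n99777 = n63987 := ((D99777).symm.trans (sb E92208 (iv6 D136068)))
theorem E92630 : n22775 = n14451 := (((F48541).symm.trans (sb E92209 F74615))).symm
theorem F328241 : act 5 n30175 = n22773 := (sb E92209 (iv5 D47407))
theorem E92633 : n99746 = n63994 := (((D63994).symm.trans (sb E92209 (iv7 F153550)))).symm
theorem F328242 : act 5 n46602 = n63989 := (sb E92210 (iv5 D136072))
theorem E92634 : n101965 = n64579 := ((D101965).symm.trans (sb E92211 F218986))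
theorem F328243 : act 7 n47368 = n63989 := (sb E92211 (iv7 D136073))
theorem F328244 : act 5 n137307 = n160764 := (sb E92212 F261721)
theorem F328245 : act 6 n137307 = n79813 := (sb E92212 (iv6 D166228))
theorem E92635 : n137824 = n63415 := (((F98736).symm.trans (sb E92213 F221050))).symm
theorem F328246 : act 3 n60825 = n52511 := (sb E92213 (iv3 D113732))
theorem E92636 : n138096 = n129431 := (((D129431).symm.trans (sb E92213 F221320))).symm
theorem F328247 : act 3 n69718 = n62131 := (sb E92214 (iv3 D132423))
theorem F328248 : act 0 n52577 = n63786 := (sb E92215 (iv1 F99145))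
theorem E92637 : n113875 = n53136 := ((D113875).symm.trans (sb E92215 F83951))
theorem E92638 : n115219 = n113876 := (((D113876).symm.trans (sb E92215 (iv3 F179424)))).symm
theorem E92639 : n113877 = n25785 := ((D113877).symm.trans (sb E92215 F83952))
theorem E92640 : n115230 = n113878 := (((D113878).symm.trans (sb E92215 D115230))).symm
theorem E92641 : n113879 = n25784 := ((D113879).symm.trans (sb E92215 (iv6 D53164)))
theorem E92642 : n113880 = n30133 := ((D113880).symm.trans (sb E92215 F83953))
theorem F328249 : act 0 n30098 = n25521 := (sb E92216 (iv1 D52578))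
theorem E92645 : n113883 = n63787 := (((D63787).symm.trans (sb E92216 D113883))).symm
theorem E92647 : n129098 = n25529 := ((((iv4 F40359)).symm.trans (sb E92217 F218152))).symm
theorem E92648 : n113870 = n110798 := ((D113870).symm.trans (sb E92218 F171546))
theorem E92649 : n113871 = n59374 := ((D113871).symm.trans (sb E92218 F171547))
theorem E92650 : n113864 = n28803 := (((iv3 F177155)).symm.trans (sb E92218 (iv3 D60690)))
theorem E92651 : n129097 = n113872 := (((D113872).symm.trans (sb E92218 D129097))).symm
theorem F328250 : act 7 n52575 = n62003 := (sb E92218 (iv7 F103579))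
theorem F328251 : act 5 n52927 = n63786 := (sb E92220 (iv5 D135669))
theorem E92652 : n113946 = n62004 := (((iv3 F177299)).symm.trans (sb E92221 (iv3 D132166)))
theorem E92653 : n129184 = n123641 := ((((iv4 F198044)).symm.trans (sb E92222 F216124))).symm
theorem E92654 : n134839 = n123642 := ((((iv4 F198040)).symm.trans (sb E92223 F217007))).symm
theorem F328252 : act 6 n123031 = n134878 := (sb E92223 F217071)
theorem F328253 : act 4 n123020 = n134875 := (sb E92224 (iv4 F217060))
theorem E92655 : n170666 = n62994 := (((D62994).symm.trans (sb E92225 (iv0 F268133)))).symm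
theorem F328254 : act 4 n29802 = n57241 := (sb E92225 (iv4 D123032))
theorem F328255 : act 4 n122308 = n62995 := (sb E92226 F216134)
theorem F328256 : act 6 n122308 = n133567 := (sb E92226 F216135)
theorem F328257 : act 4 n62527 = n57503 := (sb E92227 F197832)
theorem E92656 : n141275 = n133569 := (((D133569).symm.trans (sb E92228 (tr F301983 E92453)))).symm
theorem F328258 : act 6 n62683 = n57503 := (sb E92228 (iv6 D123455))
theorem F328259 : act 1 n101273 = n63442 := (sb E92229 (iv0 D135000))
theorem F328260 : act 0 n101272 = n63442 := (sb E92230 (iv1 D135001))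
theorem F328261 : act 2 n101275 = n63442 := (sb E92231 F217222)
theorem E92657 : n182711 = n63440 := ((F295349).symm.trans (sb E92231 (iv6 D134995)))
theorem F328262 : act 0 n106616 = n183457 := (sb E92232 F306926)
theorem F328263 : act 1 n106616 = n183452 := (sb E92232 F306927)
theorem F328264 : act 7 n106616 = n88102 := (sb E92232 F306928)
theorem F328265 : act 5 n33615 = n63442 := (sb E92233 (iv5 D135002))
theorem E92660 : n62998 = n57273 := (((D57273).symm.trans (sb E92235 (iv5 D134109)))).symm
theorem E92661 : n134959 = n57638 := ((((iv5 F90774)).symm.trans (sb E92236 F217239))).symm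
theorem E92662 : n63445 = n58483 := (((D58483).symm.trans (sb E92238 (iv5 D135010)))).symm
theorem F328266 : act 3 n113786 = n110860 := (sb E92243 F220941)
theorem F328267 : act 3 n62264 = n52572 := (sb E92244 (iv3 D113857))
theorem E92663 : n159858 = n132682 := ((((iv4 F213008)).symm.trans (sb E92244 (iv4 F252015)))).symm
theorem F328268 : act 0 n113858 = n60556 := (sb E92245 (iv1 D128760))
theorem F328269 : act 1 n113858 = n137210 := (sb E92245 F220368)
theorem F328270 : act 3 n113858 = n68277 := (sb E92245 F213005)
theorem F328271 : act 6 n113858 = n68127 := (sb E92245 (iv6 F213004))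
theorem F328272 : act 7 n113858 = n132425 := (sb E92245 (iv7 F213006))
theorem F328273 : act 6 n62262 = n52572 := (sb E92246 (iv6 D113859))
theorem F328274 : act 0 n133291 = n133227 := (sb E92247 (iv1 F217938))
theorem F328275 : act 1 n133291 = n63723 := (sb E92247 (iv0 D135527))
theorem F328276 : act 5 n133291 = n115178 := (sb E92247 F217935)
theorem F328277 : act 7 n133291 = n133225 := (sb E92247 (iv7 F217937))
theorem F328278 : act 3 n78134 = n50855 := (sb E92249 (iv3 D110294))
theorem F328279 : act 5 n77944 = n50855 := (sb E92250 (iv5 D110296))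
theorem F328280 : act 6 n78131 = n50855 := (sb E92251 (iv6 D110297))
theorem F328281 : act 2 n50857 = n50854 := (sb E92252 (iv2 D110288))
theorem F328282 : act 7 n50857 = n50855 := (sb E92252 (iv7 F170528))
theorem F328283 : act 7 n159890 = n81998 := (sb E92253 (iv7 D171083))
theorem E92664 : n136109 = n130752 := ((D136109).symm.trans (sb E92254 (iv1 F209320)))
theorem E92665 : n136110 = n60757 := ((D136110).symm.trans (sb E92254 (iv0 D129257)))
theorem E92666 : n136111 = n134382 := ((D136111).symm.trans (sb E92254 (iv5 F216379)))
theorem E92667 : n136112 = n130750 := ((D136112).symm.trans (sb E92254 F212051))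
theorem F328284 : act 1 n61348 = n30454 := (sb E92255 (iv0 D64742))
theorem E92668 : n137740 = n130752 := (((D130752).symm.trans (sb E92255 D137740))).symm
theorem E92671 : n137743 = n130753 := (((D130753).symm.trans (sb E92255 D137743))).symm
theorem E92672 : n137744 = n66297 := ((((iv6 F102209)).symm.trans (sb E92255 D137744))).symm
theorem E92673 : n137745 = n60757 := (((F95852).symm.trans (sb E92255 D137745))).symm
theorem E92674 : n137746 = n134094 := ((D137746).symm.trans (sb E92256 (iv3 F216120)))
theorem E92675 : n137747 = n60756 := ((D137747).symm.trans (sb E92256 (iv4 D129254)))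
theorem E92678 : n137706 = n134388 := (((D134388).symm.trans (sb E92257 (iv3 F220926)))).symm
theorem F328285 : act 5 n63132 = n30454 := (sb E92257 (iv5 D64744))
theorem E92680 : n134390 = n26195 := ((D134390).symm.trans (sb E92257 (tr F100616 E92379)))
theorem E92681 : n137753 = n134381 := (((F216376).symm.trans (sb E92257 D137753))).symm
theorem E92682 : n126894 = n62881 := (((iv3 F204146)).symm.trans (sb E92259 F215576))
theorem E92683 : n134666 = n126907 := (((D126907).symm.trans (sb E92259 (iv4 F216690)))).symm
theorem F328286 : act 6 n59554 = n62878 := (sb E92259 (iv6 D133859))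
theorem F328287 : act 3 n51639 = n44947 := (sb E92260 (iv3 D96281))
theorem E92684 : n111820 = n95486 := (((iv7 F173612)).symm.trans (sb E92260 F148101))
theorem F328288 : act 3 n96282 = n50529 := (sb E92261 F169479)
theorem F328289 : act 6 n96282 = n50527 := (sb E92261 (iv6 D109523))
theorem E92685 : n104802 = n79857 := ((D104802).symm.trans (sb E92262 (iv1 F194185)))
theorem F328290 : act 1 n48454 = n56208 := (sb E92262 (iv0 D121680))
theorem F328291 : act 0 n89255 = n56208 := (sb E92263 (iv1 D121681))
theorem E92686 : n96406 = n79856 := (((iv1 F160348)).symm.trans (sb E92264 (iv1 F194190)))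
theorem E92687 : n79855 = n48389 := ((((iv0 D104639)).symm.trans (sb E92264 F194188))).symm
theorem F328292 : act 2 n104639 = n56208 := (sb E92264 (iv2 D121682))
theorem F328293 : act 3 n104639 = n79788 := (sb E92264 F194186)
theorem F328294 : act 5 n104639 = n178385 := (sb E92264 (iv5 F277935))
theorem F328295 : act 6 n104639 = n79619 := (sb E92264 F304732)
theorem E92688 : n96116 = n75310 := (((iv3 F147762)).symm.trans (sb E92266 (iv3 D158123)))
theorem F328296 : act 5 n44856 = n79613 := (sb E92266 F249061)
theorem E92689 : n158044 = n96124 := (((D96124).symm.trans (sb E92266 F249062))).symm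
theorem F328297 : act 1 n45003 = n79826 := (sb E92267 (iv0 D166256))
theorem F328298 : act 0 n45006 = n79826 := (sb E92268 (iv1 D166257))
theorem F328299 : act 2 n89719 = n79826 := (sb E92269 (iv2 D166258))
theorem F328300 : act 6 n89719 = n162984 := (sb E92269 F261757)
theorem F328301 : act 4 n84013 = n47361 := (sb E92270 (iv4 D101948))
theorem F328302 : act 4 n84012 = n46987 := (sb E92271 (iv4 D100771))
theorem E92690 : n176588 = n104229 := ((D176588).symm.trans (sb E92272 F159815))
theorem E92692 : n167785 = n100383 := ((D167785).symm.trans (sb E92273 (iv4 F157055)))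
theorem F328303 : act 4 n82411 = n47430 := (sb E92274 (iv4 D102151))
theorem E92693 : n176623 = n47436 := ((D176623).symm.trans (sb E92275 F157056))
theorem F328304 : act 4 n84215 = n47433 := (sb E92277 F157057)
theorem F328305 : act 4 n82404 = n46610 := (sb E92278 (iv4 D99799))
theorem E92694 : n97081 = n95629 := (((F148079).symm.trans (sb E92279 (iv5 F149768)))).symm
theorem F328306 : act 6 n96274 = n44944 := (sb E92279 (iv6 D96275))
theorem F328307 : act 0 n95630 = n44728 := (sb E92280 (iv1 D95777))
theorem F328308 : act 1 n95630 = n89901 := (sb E92280 F147466)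
theorem F328309 : act 4 n95630 = n45379 := (sb E92280 F147469)
theorem F328310 : act 5 n95630 = n95481 := (sb E92280 F147468)
theorem F328311 : act 7 n95630 = n95626 := (sb E92280 F147467)
theorem F328312 : act 2 n99775 = n47372 := (sb E92281 (iv2 D101975))
theorem F328313 : act 7 n99775 = n47373 := (sb E92281 (iv7 F156949))
theorem F328314 : act 7 n101976 = n84035 := (sb E92282 F275355)
theorem F328315 : act 4 n38690 = n47372 := (sb E92283 (iv4 D101977))
theorem F328316 : act 2 n101978 = n84245 := (sb E92284 F270237)
theorem F328317 : act 4 n101978 = n82418 := (sb E92284 (iv4 D172092))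
theorem F328318 : act 7 n101978 = n84036 := (sb E92284 (iv7 F270239))
theorem F328319 : act 4 n101979 = n84005 := (sb E92285 (iv4 D176096))
theorem F328320 : act 2 n38703 = n47373 := (sb E92286 F156950)
theorem F328321 : act 7 n38703 = n47372 := (sb E92286 (iv7 D101980))
theorem F328322 : act 6 n101981 = n101679 := (sb E92287 F270120)
theorem F328323 : act 4 n37791 = n47373 := (sb E92288 (iv4 D101982))
theorem F328324 : act 2 n101983 = n84036 := (sb E92289 F270121)
theorem F328325 : act 4 n101983 = n84175 := (sb E92289 F270122)
theorem F328326 : act 7 n101983 = n84245 := (sb E92289 (iv7 F270123))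
theorem F328327 : act 6 n47282 = n47373 := (sb E92290 (iv6 D101984))
theorem F328328 : act 1 n79800 = n47374 := (sb E92291 (iv0 D101985))
theorem E92695 : n137946 = n104241 := (((iv4 F325110)).symm.trans (sb E92291 F159835))
theorem F328329 : act 0 n38279 = n47374 := (sb E92292 (iv1 D101986))
theorem E92696 : n102591 = n83156 := (((D83156).symm.trans (sb E92292 (iv4 F157692)))).symm
theorem F328330 : act 5 n80511 = n47374 := (sb E92294 (iv5 D101988))
theorem F328331 : act 0 n98544 = n74399 := (sb E92296 (iv1 D156449))
theorem E92697 : n134417 = n102514 := ((D134417).symm.trans (sb E92297 F157523))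
theorem F328332 : act 7 n63139 = n47567 := (sb E92297 (iv7 D102558))
theorem E92698 : n151592 = n134094 := (((D134094).symm.trans (sb E92298 F252344))).symm
theorem E92699 : n134095 = n76596 := ((D134095).symm.trans (sb E92298 (iv5 D159976)))
theorem F328333 : act 6 n62990 = n123020 := (sb E92298 F252346)
theorem E92700 : n123022 = n61902 := ((D123022).symm.trans (sb E92299 F98298))
theorem E92701 : n123023 = n62968 := ((D123023).symm.trans (sb E92299 F98299))
theorem E92702 : n74405 = n57260 := ((((iv4 F90329)).symm.trans (sb E92299 (iv4 F111657)))).symm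
theorem F328334 : act 5 n57238 = n29801 := (sb E92299 (iv5 D62991))
theorem E92704 : n123025 = n63103 := ((D123025).symm.trans (sb E92299 (iv7 F98405)))
theorem E92705 : n123396 = n63123 := ((D123396).symm.trans (sb E92300 F216482))
theorem E92706 : n123397 = n63127 := ((D123397).symm.trans (sb E92300 F216483))
theorem F328335 : act 5 n57481 = n60757 := (sb E92300 (iv5 D129259))
theorem E92707 : n130753 = n123399 := (((D123399).symm.trans (sb E92300 (iv7 F209331)))).symm
theorem E92708 : n123409 = n60759 := ((D123409).symm.trans (sb E92301 F207471))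
theorem F328336 : act 6 n57484 = n60757 := (sb E92301 (iv6 D129260))
theorem E92709 : n123450 = n62525 := (((D62525).symm.trans (sb E92302 D123450))).symm
theorem E92710 : n123451 = n62526 := (((D62526).symm.trans (sb E92302 D123451))).symm
theorem F328337 : act 4 n29548 = n27499 := (sb E92302 (iv4 D57502))
theorem F328338 : act 1 n29843 = n27496 := (sb E92303 (iv0 D57486))
theorem E92717 : n123415 = n63104 := (((D63104).symm.trans (sb E92303 D123415))).symm
theorem F328339 : act 0 n29846 = n27496 := (sb E92304 (iv1 D57487))
theorem E92723 : n57581 = n51275 := ((D57581).symm.trans (sb E92305 F100754))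
theorem E92724 : n57582 = n51272 := ((D57582).symm.trans (sb E92305 F100755))
theorem E92725 : n138286 = n57576 := ((((iv3 F90735)).symm.trans (sb E92305 (iv3 F221494)))).symm
theorem E92726 : n57583 = n30518 := ((D57583).symm.trans (sb E92305 (iv5 D64958)))
theorem F328340 : act 5 n57489 = n29041 := (sb E92307 (iv5 D61349))
theorem E92731 : n131786 = n123448 := (((D123448).symm.trans (sb E92309 (iv4 F216141)))).symm
theorem E92732 : n130724 = n123449 := (((D123449).symm.trans (sb E92309 F214077))).symm
theorem E92735 : n134408 = n122866 := (((D122866).symm.trans (sb E92310 (iv3 F216392)))).symm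
theorem E92736 : n122867 = n74417 := ((D122867).symm.trans (sb E92310 (iv4 F111692)))
theorem F328341 : act 6 n57119 = n29853 := (sb E92310 (iv6 D63138))
theorem E92738 : n134412 = n102440 := ((((iv7 F306487)).symm.trans (sb E92310 D134412))).symm
theorem F328342 : act 6 n102552 = n51295 := (sb E92311 (iv6 D111212))
theorem E92741 : n111437 = n87218 := ((D111437).symm.trans (sb E92312 (iv2 F133873)))
theorem E92742 : n111438 = n91183 := ((D111438).symm.trans (sb E92312 (iv5 F294967)))
theorem F328343 : act 6 n51397 = n40480 := (sb E92312 (iv6 D87128))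
theorem E92743 : n166639 = n126199 := (((F202946).symm.trans (sb E92313 (iv1 F262264)))).symm
theorem E92744 : n166636 = n126202 := ((D166636).symm.trans (sb E92315 (iv1 F202956)))
theorem E92745 : n166637 = n78755 := ((D166637).symm.trans (sb E92315 F320732))
theorem F328344 : act 2 n79978 = n52334 := (sb E92315 (iv2 D113374))
theorem E92746 : n166638 = n147355 := ((D166638).symm.trans (sb E92315 (iv5 F231070)))
theorem F328345 : act 6 n59164 = n166647 := (sb E92317 (iv6 F262277))
theorem E92747 : n180811 = n173248 := (((D173248).symm.trans (sb E92318 (iv6 F281460)))).symm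
theorem E92748 : n180631 = n174175 := (((D174175).symm.trans (sb E92321 (iv4 F281166)))).symm
theorem E92749 : n174176 = n86219 := ((D174176).symm.trans (sb E92321 (iv6 D180532)))
theorem F328346 : act 2 n83259 = n111529 := (sb E92322 (iv2 F327951))
theorem E92750 : n174183 = n86220 := ((D174183).symm.trans (sb E92322 (iv6 D180534)))
theorem E92751 : n157848 = n38334 := (((D38334).symm.trans (sb E92323 F280988))).symm
theorem F328347 : act 6 n39901 = n38333 := (sb E92324 (iv6 D83260))
theorem E92756 : n172539 = n125395 := (((D125395).symm.trans (sb E92325 (iv4 F270724)))).symm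
theorem E92757 : n125397 = n45928 := ((D125397).symm.trans (sb E92325 (iv6 D98250)))
theorem E92758 : n180809 = n86088 := ((((iv1 F324242)).symm.trans (sb E92326 (iv1 F281457)))).symm
theorem E92759 : n180808 = n58684 := (((F322764).symm.trans (sb E92326 F281461))).symm
theorem F328348 : act 0 n113280 = n62979 := (sb E92327 F176759)
theorem F328349 : act 1 n113280 = n128671 := (sb E92327 F206971)
theorem F328350 : act 2 n113280 = n60548 := (sb E92327 F176757)
theorem F328351 : act 4 n113280 = n52437 := (sb E92327 (iv4 D113600))
theorem F328352 : act 3 n75162 = n62979 := (sb E92328 F216095)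
theorem E92760 : n157751 = n62978 := ((D157751).symm.trans (sb E92328 (iv6 D134081)))
theorem F328353 : act 4 n113268 = n131859 := (sb E92329 (iv4 F211268))
theorem F328354 : act 6 n113268 = n131859 := (sb E92329 (iv6 F211269))
theorem F328355 : act 4 n28750 = n52283 := (sb E92330 (iv4 D113279))
theorem E92761 : n128971 = n52280 := (((iv5 F207182)).symm.trans (sb E92331 (iv5 D113272)))
theorem F328356 : act 6 n61871 = n52283 := (sb E92331 F176469)
theorem F328357 : act 2 n113355 = n60672 := (sb E92332 F206936)
theorem F328358 : act 4 n113355 = n128595 := (sb E92332 F206937)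
theorem F328359 : act 6 n113355 = n60500 := (sb E92332 (iv6 D128645))
theorem F328360 : act 4 n113357 = n128789 := (sb E92333 F207290)
theorem F328361 : act 7 n113357 = n60672 := (sb E92333 (iv7 D129051))
theorem F328362 : act 4 n82029 = n51384 := (sb E92334 (iv4 D111423))
theorem E92762 : n123943 = n51381 := (((iv5 F302069)).symm.trans (sb E92335 (iv5 D111416)))
theorem F328363 : act 6 n84670 = n51384 := (sb E92335 F172898)
theorem E92763 : n94803 = n63004 := ((D94803).symm.trans (sb E92338 (iv6 D134129)))
theorem E92766 : n182451 = n63005 := (((D63005).symm.trans (sb E92340 D182451))).symm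
theorem F328364 : act 6 n29805 = n40473 := (sb E92340 (iv6 D87109))
theorem E92768 : n182439 = n111431 := ((D182439).symm.trans (sb E92341 F216183))
theorem E92769 : n182448 = n63008 := ((D182448).symm.trans (sb E92343 (iv5 D134142)))
theorem F328365 : act 3 n117303 = n63790 := (sb E92344 (iv3 D135674))
theorem F328366 : act 4 n117303 = n135872 := (sb E92344 (iv4 F218535))
theorem F328367 : act 7 n117303 = n135872 := (sb E92344 (iv7 F218536))
theorem F328368 : act 5 n70595 = n63790 := (sb E92345 (iv5 D135675))
theorem E92770 : n135873 = n68454 := ((((iv7 F317024)).symm.trans (sb E92345 (iv7 F218538)))).symm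
theorem E92771 : n113860 = n61927 := ((D113860).symm.trans (sb E92346 (iv1 F103613)))
theorem E92772 : n125647 = n113861 := (((D113861).symm.trans (sb E92346 (iv0 F202106)))).symm
theorem E92773 : n113862 = n51208 := ((D113862).symm.trans (sb E92346 F103572))
theorem E92774 : n127088 = n25528 := (((F83086).symm.trans (sb E92346 D127088))).symm
theorem F328369 : act 2 n64595 = n52574 := (sb E92347 F177109)
theorem F328370 : act 5 n64595 = n52563 := (sb E92347 (iv5 D113826))
theorem F328371 : act 7 n64595 = n54186 := (sb E92347 F177110)
theorem F328372 : act 3 n51203 = n52576 := (sb E92348 F161212)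
theorem E92775 : n111037 = n48665 := ((D111037).symm.trans (sb E92348 (iv4 D105260)))
theorem F328373 : act 7 n51203 = n52573 := (sb E92348 F161213)
theorem F328374 : act 2 n51201 = n54186 := (sb E92349 F177168)
theorem F328375 : act 5 n51201 = n52576 := (sb E92349 F177170)
theorem F328376 : act 7 n51201 = n52574 := (sb E92349 (iv7 D113869))
theorem F328377 : act 0 n113874 = n131974 := (sb E92350 F211459)
theorem F328378 : act 3 n113874 = n111012 := (sb E92350 F204061)
theorem F328379 : act 5 n113874 = n59511 := (sb E92350 (iv5 D126817))
theorem F328380 : act 7 n113874 = n132165 := (sb E92350 (iv7 F211699))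
theorem F328381 : act 0 n135561 = n159856 := (sb E92351 (iv1 F252008))
theorem F328382 : act 1 n135561 = n159855 := (sb E92351 F252012)
theorem F328383 : act 2 n135561 = n159857 := (sb E92351 (iv2 F252009))
theorem E92776 : n159862 = n135260 := (((F217989).symm.trans (sb E92351 (iv6 F252027)))).symm
theorem F328384 : act 7 n135561 = n69725 := (sb E92351 (iv7 D148775))
theorem F328385 : act 5 n119055 = n63304 := (sb E92352 (iv5 D134715))
theorem F328386 : act 3 n111549 = n79978 := (sb E92353 F262240)
theorem F328387 : act 6 n111549 = n79975 := (sb E92353 (iv6 D166631))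
theorem E92777 : n173248 = n86087 := ((((iv1 F324243)).symm.trans (sb E92354 (tr (iv1 F281463) E92747)))).symm
theorem E92778 : n180811 = n86087 := (E92747).trans E92777
theorem F328388 : act 2 n86359 = n86086 := (sb E92356 F325395)
theorem E92779 : n180810 = n83514 := ((D180810).symm.trans (sb E92356 F322766))
theorem F328389 : act 2 n180178 = n180807 := (sb E92357 (iv2 F281455))
theorem F328390 : act 6 n180178 = n86215 := (sb E92357 (iv6 D180527))
theorem E92780 : n157836 = n83496 := ((((iv6 D174766)).symm.trans (sb E92358 F280985))).symm
theorem F328391 : act 6 n39900 = n86086 := (sb E92359 (iv6 D180180))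
theorem E92781 : n174206 = n86086 := ((D174206).symm.trans (sb E92360 (iv7 D180181)))
theorem E92782 : n172505 = n58856 := ((D172505).symm.trans (sb E92361 (iv3 D125692)))
theorem E92783 : n172491 = n110395 := ((D172491).symm.trans (sb E92362 (iv1 F175520)))
theorem E92784 : n172492 = n110394 := ((D172492).symm.trans (sb E92362 F175518))
theorem F328392 : act 2 n82580 = n52038 := (sb E92362 (iv2 D112741))
theorem E92785 : n150670 = n110404 := (((iv3 F304290)).symm.trans (sb E92362 F175516))
theorem E92786 : n172490 = n113240 := (((iv4 F270694)).symm.trans (sb E92362 (iv4 F176427)))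
theorem E92787 : n172493 = n110396 := ((D172493).symm.trans (sb E92362 F175517))
theorem F328393 : act 2 n112742 = n83425 := (sb E92363 F271713)
theorem F328394 : act 4 n112742 = n175026 := (sb E92363 (iv4 F273935))
theorem F328395 : act 6 n112742 = n82939 := (sb E92363 (iv6 D173305))
theorem F328396 : act 3 n50993 = n85132 := (sb E92364 F278507)
theorem F328397 : act 6 n50993 = n85129 := (sb E92364 (iv6 D178688))
theorem F328398 : act 7 n109566 = n85132 := (sb E92365 (iv7 D178695))
theorem F328399 : act 4 n51573 = n85129 := (sb E92366 (iv4 D178687))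
theorem E92788 : n163727 = n54868 := ((D163727).symm.trans (sb E92367 F324254))
theorem E92789 : n163728 = n39856 := ((D163728).symm.trans (sb E92367 (iv0 D86100)))
theorem F328400 : act 5 n78663 = n84916 := (sb E92367 (iv5 F325407))
theorem E92795 : n141151 = n133567 := (((iv1 F224129)).symm.trans (sb E92368 (iv1 F214858)))
theorem E92796 : n141150 = n30971 := ((F224127).symm.trans (sb E92368 (iv0 D66295)))
theorem E92797 : n141153 = n108413 := (((iv2 F224134)).symm.trans (sb E92368 (iv2 F167606)))
theorem F328401 : act 4 n66261 = n50105 := (sb E92368 (iv4 F102207))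
theorem E92800 : n141282 = n50104 := ((D141282).symm.trans (sb E92368 F102206))
theorem E92801 : n133568 = n30959 := ((((iv7 D66261)).symm.trans (sb E92368 (iv7 F214863)))).symm
theorem E92802 : n141277 = n61838 := ((D141277).symm.trans (sb E92369 (iv1 F167757)))
theorem E92803 : n141278 = n108414 := ((D141278).symm.trans (sb E92369 F167764))
theorem E92804 : n141152 = n108415 := (((iv2 F224133)).symm.trans (sb E92369 F167754))
theorem E92805 : n141279 = n126452 := ((D141279).symm.trans (sb E92369 (iv3 F203278)))
theorem E92806 : n141280 = n126780 := ((D141280).symm.trans (sb E92369 (iv5 F204036)))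
theorem E92807 : n141250 = n108411 := (((iv6 F224280)).symm.trans (sb E92369 F167755))
theorem F328402 : act 7 n66260 = n50105 := (sb E92369 (iv7 D108512))
theorem E92810 : n144776 = n107225 := (((F165246).symm.trans (sb E92370 D144776))).symm
theorem E92811 : n128796 = n59819 := (((iv5 F207043)).symm.trans (sb E92370 F103896))
theorem E92812 : n144777 = n125794 := ((((iv6 F202311)).symm.trans (sb E92370 D144777))).symm
theorem F328403 : act 3 n51119 = n54186 := (sb E92371 (iv3 D117626))
theorem F328404 : act 0 n117627 = n58739 := (sb E92372 (iv1 D125467))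
theorem F328405 : act 1 n117627 = n134844 := (sb E92372 F217030)
theorem F328406 : act 2 n117627 = n67608 := (sb E92372 F201771)
theorem F328407 : act 3 n117627 = n110821 := (sb E92372 (iv3 F201770))
theorem F328408 : act 5 n117627 = n112961 := (sb E92372 F201769)
theorem F328409 : act 7 n117627 = n134843 := (sb E92372 (iv7 F217024))
theorem F328410 : act 3 n28298 = n52574 := (sb E92373 F177154)
theorem F328411 : act 5 n28298 = n52573 := (sb E92373 (iv5 D113863))
theorem F328412 : act 2 n113868 = n137435 := (sb E92374 (iv2 F220639))
theorem F328413 : act 3 n113868 = n59640 := (sb E92374 F204328)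
theorem F328414 : act 4 n113868 = n136054 := (sb E92374 (iv4 F218935))
theorem F328415 : act 5 n113868 = n128682 := (sb E92374 (iv5 F206979))
theorem F328416 : act 0 n30403 = n54121 := (sb E92375 (iv1 D117444))
theorem E92813 : n144991 = n53561 := ((((iv2 F101961)).symm.trans (sb E92375 (iv2 F227952)))).symm
theorem E92814 : n64608 = n54155 := ((D64608).symm.trans (sb E92375 F183948))
theorem F328417 : act 1 n30408 = n54121 := (sb E92376 (iv0 D117443))
theorem E92815 : n64618 = n54154 := ((D64618).symm.trans (sb E92376 F183945))
theorem E92816 : n64010 = n54123 := ((D64010).symm.trans (sb E92377 F183950))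
theorem F328418 : act 7 n30181 = n54121 := (sb E92377 (iv7 D117446))
theorem E92817 : n64732 = n54130 := ((D64732).symm.trans (sb E92378 (iv5 D117464)))
theorem E92818 : n64747 = n54118 := (((F85434).symm.trans (sb E92379 D64747))).symm
theorem F328419 : act 5 n26195 = n14461 := (sb E92379 (iv5 D30457))
theorem E92820 : n64749 = n54048 := ((((iv7 F85279)).symm.trans (sb E92379 D64749))).symm
theorem F328420 : act 2 n30458 = n54121 := (sb E92381 F183525)
theorem F328421 : act 2 n132424 = n138095 := (sb E92382 F233580)
theorem F328422 : act 3 n132424 = n69727 := (sb E92382 (iv3 D148777))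
theorem F328423 : act 6 n117440 = n64774 := (sb E92383 F219064)
theorem F328424 : act 7 n117440 = n64006 := (sb E92383 (iv7 D136108))
theorem F328425 : act 6 n30470 = n54121 := (sb E92385 (iv6 D117445))
theorem F328426 : act 0 n64503 = n117491 := (sb E92386 (iv1 F184030))
theorem F328427 : act 1 n64503 = n117497 := (sb E92386 (iv0 F184053))
theorem F328428 : act 2 n64503 = n117541 := (sb E92386 F184145)
theorem F328429 : act 1 n54164 = n62658 := (sb E92387 (iv0 D133498))
theorem E92822 : n118097 = n117562 := (((D117562).symm.trans (sb E92387 (iv6 F322847)))).symm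
theorem F328430 : act 0 n54157 = n62658 := (sb E92388 (iv1 D133499))
theorem E92824 : n117542 = n109588 := ((D117542).symm.trans (sb E92388 F214683))
theorem F328431 : act 5 n68427 = n62658 := (sb E92389 (iv5 D133501))
theorem F328432 : act 5 n117434 = n136358 := (sb E92390 F221000)
theorem E92825 : n67945 = n64600 := ((F104045).symm.trans (sb E92391 (iv0 D137446)))
theorem F328433 : act 5 n117436 = n136359 := (sb E92392 F221001)
theorem E92826 : n159669 = n130799 := ((D159669).symm.trans (sb E92396 F209361))
theorem F328434 : act 3 n76389 = n59327 := (sb E92396 (iv3 D126450))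
theorem E92827 : n159671 = n108510 := ((D159671).symm.trans (sb E92396 F203269))
theorem E92828 : n115156 = n34902 := ((((iv5 D76389)).symm.trans (sb E92396 F203270))).symm
theorem E92829 : n159672 = n107623 := ((D159672).symm.trans (sb E92396 F203271))
theorem E92830 : n79026 = n25773 := ((D79026).symm.trans (sb E92397 (iv1 D53134)))
theorem E92831 : n79027 = n53163 := ((D79027).symm.trans (sb E92397 F83949))
theorem F328435 : act 2 n35967 = n53160 := (sb E92397 (iv2 F93570))
theorem E92832 : n107597 = n79025 := ((((iv4 F120211)).symm.trans (sb E92397 (iv4 F166002)))).symm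
theorem F328436 : act 5 n35967 = n59327 := (sb E92397 (iv5 F93574))
theorem E92834 : n79029 = n53159 := ((D79029).symm.trans (sb E92397 (iv7 F93571)))
theorem F328437 : act 1 n61329 = n67848 := (sb E92399 (iv0 D144771))
theorem E92835 : n130715 = n68442 := ((D130715).symm.trans (sb E92399 F321876))
theorem E92836 : n130716 = n68445 := ((D130716).symm.trans (sb E92399 F321877))
theorem F328438 : act 0 n61326 = n67848 := (sb E92400 (iv1 D144772))
theorem F328439 : act 3 n125760 = n67853 := (sb E92401 F227652)
theorem F328440 : act 5 n125760 = n130622 := (sb E92401 F227653)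
theorem F328441 : act 7 n125760 = n67848 := (sb E92401 (iv7 D144773))
theorem F328442 : act 2 n30396 = n26211 := (sb E92402 F85469)
theorem E92838 : n117514 = n64183 := ((((iv6 F172080)).symm.trans (sb E92402 D117514))).symm
theorem E92839 : n117616 = n66250 := ((D117616).symm.trans (sb E92403 F218926))
theorem E92840 : n64594 = n31273 := (((F85513).symm.trans (sb E92403 F218927))).symm
theorem E92841 : n117628 = n53231 := ((D117628).symm.trans (sb E92405 (iv1 D115382)))
theorem E92842 : n117629 = n64185 := ((D117629).symm.trans (sb E92405 F179668))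
theorem E92843 : n117630 = n64388 := ((D117630).symm.trans (sb E92405 (iv5 F179669)))
theorem E92844 : n117631 = n64182 := ((D117631).symm.trans (sb E92405 (iv7 F179682)))
theorem F328443 : act 7 n30397 = n26211 := (sb E92406 (iv7 D54188))
theorem F328444 : act 5 n54105 = n63971 := (sb E92407 (iv5 D136053))
theorem F328445 : act 1 n30398 = n31975 := (sb E92408 (iv0 D68723))
theorem E92847 : n146652 = n64586 := ((((iv6 F100525)).symm.trans (sb E92408 D146652))).symm
theorem F328446 : act 3 n109334 = n60455 := (sb E92409 F206726)
theorem F328447 : act 4 n109334 = n63968 := (sb E92409 F206727)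
theorem F328448 : act 6 n109334 = n60453 := (sb E92409 (iv6 D128527))
theorem F328449 : act 4 n136044 = n109556 := (sb E92410 F227693)
theorem F328451 : act 0 n31524 = n64601 := (sb E92411 (iv1 F218941))
theorem F328452 : act 1 n31524 = n63972 := (sb E92411 (iv0 D136055))
theorem F328453 : act 2 n31524 = n64598 := (sb E92411 (iv2 F218939))
theorem F328454 : act 0 n35976 = n63972 := (sb E92412 (iv1 D136056))
theorem F328455 : act 1 n35976 = n64601 := (sb E92412 F218942)
theorem F328456 : act 7 n35976 = n64598 := (sb E92412 F218943)
theorem F328457 : act 4 n52556 = n63972 := (sb E92413 (iv4 D136057))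
theorem F328458 : act 0 n136048 = n117383 := (sb E92414 F227697)
theorem F328459 : act 4 n136048 = n113810 := (sb E92414 F227696)
theorem F328460 : act 7 n136048 = n147018 := (sb E92414 (iv7 F252890))
theorem F328461 : act 1 n59851 = n64598 := (sb E92415 F218950)
theorem F328462 : act 2 n59851 = n64601 := (sb E92415 F218947)
theorem F328463 : act 5 n59851 = n63973 := (sb E92415 F218948)
theorem F328464 : act 7 n59851 = n63972 := (sb E92415 (iv7 D136058))
theorem E92850 : n107172 = n60564 := ((D107172).symm.trans (sb E92418 (iv6 D128777)))
theorem F328465 : act 3 n28764 = n52016 := (sb E92419 F175379)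
theorem E92851 : n60570 = n52015 := ((D60570).symm.trans (sb E92419 (iv5 D112694)))
theorem F328466 : act 4 n28762 = n52446 := (sb E92421 F175382)
theorem F328467 : act 6 n28762 = n52016 := (sb E92421 (iv6 D112695))
theorem F328468 : act 3 n31518 = n60571 := (sb E92422 F207039)
theorem F328469 : act 3 n113605 = n135508 := (sb E92423 F217912)
theorem F328470 : act 3 n32736 = n53160 := (sb E92426 (iv3 D115222))
theorem E92852 : n115154 = n70569 := (((D70569).symm.trans (sb E92426 F179432))).symm
theorem F328471 : act 3 n113607 = n59326 := (sb E92427 (iv3 D126449))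
theorem F328472 : act 4 n113607 = n60478 := (sb E92427 F203266)
theorem E92855 : n152453 = n107642 := ((((iv3 F166249)).symm.trans (sb E92430 (iv3 F239642)))).symm
theorem E92857 : n107645 = n33229 := ((D107645).symm.trans (sb E92430 (iv6 D71915)))
theorem E92858 : n152457 = n107599 := ((((iv7 F166007)).symm.trans (sb E92430 D152457))).symm
theorem F328473 : act 6 n26850 = n53160 := (sb E92431 (iv6 D115223))
theorem E92859 : n115155 = n79007 := ((D115155).symm.trans (sb E92432 F192326))
theorem F328474 : act 0 n113855 = n137210 := (sb E92433 F220369)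
theorem F328475 : act 1 n113855 = n60556 := (sb E92433 (iv0 D128759))
theorem F328476 : act 2 n113855 = n132425 := (sb E92433 (iv2 F213007))
theorem F328477 : act 3 n113855 = n134823 := (sb E92433 F216966)
theorem F328478 : act 6 n113855 = n138210 := (sb E92433 (iv6 F221374))
theorem F328479 : act 4 n137389 = n146485 := (sb E92434 (iv4 F229811))
theorem F328480 : act 4 n52547 = n64601 := (sb E92435 F220649)
theorem F328481 : act 0 n137451 = n117452 := (sb E92436 F243203)
theorem F328482 : act 1 n137451 = n117287 := (sb E92436 (iv0 F243201))
theorem F328483 : act 2 n137451 = n127429 := (sb E92436 F227691)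
theorem F328484 : act 4 n137451 = n113795 := (sb E92436 F227692)
theorem F328485 : act 1 n65475 = n46431 := (sb E92437 (iv0 D99299))
theorem E92860 : n139534 = n89570 := ((D139534).symm.trans (sb E92437 (iv5 F286039)))
theorem F328486 : act 0 n55222 = n46431 := (sb E92438 (iv1 D99300))
theorem E92861 : n119997 = n48196 := ((D119997).symm.trans (sb E92438 F152899))
theorem E92862 : n119998 = n89571 := ((D119998).symm.trans (sb E92438 (iv5 F152897)))
theorem E92863 : n154682 = n46441 := (((D46441).symm.trans (sb E92439 (iv4 F242833)))).symm
theorem E92864 : n139324 = n43527 := ((((iv7 F293153)).symm.trans (sb E92439 (iv7 F323728)))).symm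
theorem F328487 : act 4 n32939 = n46431 := (sb E92440 (iv4 D99301))
theorem E92865 : n139537 = n46429 := (((D46429).symm.trans (sb E92441 (iv1 F323771)))).symm
theorem E92866 : n74061 = n46430 := (((D46430).symm.trans (sb E92441 F237608))).symm
theorem E92867 : n139510 = n43526 := (((F292327).symm.trans (sb E92441 (iv7 F323731)))).symm
theorem F328488 : act 7 n65469 = n46431 := (sb E92442 F292325)
theorem F328489 : act 1 n51408 = n27467 := (sb E92443 (iv0 D57384))
theorem E92868 : n111450 = n46740 := (((iv3 F172963)).symm.trans (sb E92443 (iv3 F304393)))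
theorem E92870 : n111451 = n46699 := ((D111451).symm.trans (sb E92443 F301650))
theorem F328490 : act 7 n51408 = n46698 := (sb E92443 F301651)
theorem F328491 : act 1 n53465 = n46698 := (sb E92444 F301642)
theorem F328492 : act 2 n53465 = n27467 := (sb E92444 F90266)
theorem E92872 : n122995 = n115970 := (((D115970).symm.trans (sb E92444 (iv3 F197051)))).symm
theorem E92874 : n115971 = n27411 := ((D115971).symm.trans (sb E92444 (iv5 D57221)))
theorem E92875 : n122999 = n30520 := (((F84366).symm.trans (sb E92444 (iv6 F197058)))).symm
theorem E92876 : n136017 = n123243 := (((D123243).symm.trans (sb E92445 F245981))).symm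
theorem E92877 : n123229 = n74406 := (((iv6 F197522)).symm.trans (sb E92445 (iv6 D156461)))
theorem E92878 : n123244 = n115967 := ((D123244).symm.trans (sb E92445 (iv7 F245982)))
theorem E92879 : n123294 = n24878 := ((((iv1 D51114)).symm.trans (sb E92446 D123294))).symm
theorem E92880 : n81983 = n59494 := (((F93919).symm.trans (sb E92446 F302033))).symm
theorem F328493 : act 4 n51114 = n27467 := (sb E92446 (iv4 D57386))
theorem E92885 : n115968 = n27468 := (((D27468).symm.trans (sb E92447 F245984))).symm
theorem E92888 : n65089 = n27464 := (((iv5 F100876)).symm.trans (sb E92448 (iv5 D57372)))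
theorem F328494 : act 6 n34132 = n27467 := (sb E92448 F90562)
theorem F328495 : act 0 n53464 = n46698 := (sb E92449 F301644)
theorem F328496 : act 7 n53464 = n27467 := (sb E92449 (iv7 D57387))
theorem F328497 : act 0 n145419 = n70656 := (sb E92450 (iv1 D150126))
theorem F328498 : act 5 n145419 = n106077 := (sb E92450 (iv5 F236293))
theorem F328499 : act 5 n57222 = n68175 := (sb E92452 (iv5 D145420))
theorem E92892 : n171042 = n25902 := (((F81180).symm.trans (sb E92454 (iv0 F268767)))).symm
theorem F328500 : act 4 n51410 = n46698 := (sb E92454 (iv4 D99989))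
theorem E92893 : n46712 = n30670 := (((F81178).symm.trans (sb E92454 F153929))).symm
theorem E92894 : n46710 = n30698 := ((D46710).symm.trans (sb E92455 (iv1 F101097)))
theorem E92895 : n46711 = n30697 := ((D46711).symm.trans (sb E92455 F101099))
theorem F328501 : act 2 n22398 = n30700 := (sb E92455 F101094)
theorem E92897 : n139344 = n10656 := ((((iv5 D22398)).symm.trans (sb E92455 (iv5 F222547)))).symm
theorem E92898 : n46713 = n30667 := ((D46713).symm.trans (sb E92455 (iv7 D65400)))
theorem E92899 : n57263 = n51448 := (((D51448).symm.trans (sb E92456 (iv4 D123058)))).symm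
theorem E92900 : n111453 = n57598 := ((D111453).symm.trans (sb E92457 F197988))
theorem F328502 : act 5 n37587 = n25901 := (sb E92462 (iv5 D53466))
theorem E92904 : n115965 = n55566 := ((((iv6 F91441)).symm.trans (sb E92462 (iv6 F180572)))).symm
theorem E92906 : n183022 = n139337 := (((D139337).symm.trans (sb E92464 (iv3 F284646)))).symm
theorem E92908 : n139338 = n88927 := ((D139338).symm.trans (sb E92464 (iv5 F153907)))
theorem E92909 : n139342 = n46692 := (((D46692).symm.trans (sb E92465 (iv1 F222541)))).symm
theorem E92910 : n139341 = n46693 := (((D46693).symm.trans (sb E92465 F222540))).symm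
theorem E92911 : n139579 = n37569 := ((((iv4 F58455)).symm.trans (sb E92465 (iv4 F222717)))).symm
theorem F328503 : act 5 n22394 = n30700 := (sb E92465 F101175)
theorem E92913 : n46695 = n30699 := ((D46695).symm.trans (sb E92465 (iv7 D65494)))
theorem E92916 : n155597 = n48195 := (((F133446).symm.trans (sb E92468 D155597))).symm
theorem F328504 : act 3 n41021 = n33972 := (sb E92468 (iv3 D74023))
theorem F328505 : act 4 n41021 = n33977 := (sb E92468 F110766)
theorem E92917 : n155598 = n87919 := (((D87919).symm.trans (sb E92468 D155598))).symm
theorem E92918 : n155599 = n87920 := (((D87920).symm.trans (sb E92468 D155599))).symm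
theorem E92919 : n155600 = n43544 := ((D155600).symm.trans (sb E92470 (iv1 D93057)))
theorem E92920 : n89565 = n71093 := (((F110767).symm.trans (sb E92470 F292685))).symm
theorem E92921 : n155601 = n92893 := ((D155601).symm.trans (sb E92470 F292688))
theorem E92922 : n155602 = n89585 := ((D155602).symm.trans (sb E92470 F292690))
theorem F328506 : act 2 n150897 = n87921 := (sb E92472 (iv2 D184341))
theorem E92923 : n119191 = n100883 := ((F237616).symm.trans (sb E92472 F286273))
theorem F328507 : act 5 n150897 = n98904 := (sb E92472 F286272)
theorem E92924 : n155576 = n93901 := ((((iv4 F144728)).symm.trans (sb E92473 (iv4 F244595)))).symm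
theorem F328508 : act 5 n46285 = n71139 := (sb E92473 F237349)
theorem E92925 : n87905 = n55236 := ((D87905).symm.trans (sb E92474 (iv5 D120036)))
theorem F328509 : act 5 n93027 = n71352 := (sb E92475 F237622)
theorem E92926 : n155573 = n152557 := ((((iv5 F239746)).symm.trans (sb E92476 (iv5 F244590)))).symm
theorem E92927 : n139538 = n90734 := ((D139538).symm.trans (sb E92478 F292320))
theorem E92928 : n139524 = n46858 := (((iv6 F222698)).symm.trans (sb E92478 F292321))
theorem F328510 : act 7 n65476 = n46426 := (sb E92478 F292322)
theorem E92929 : n156698 = n73486 := ((D156698).symm.trans (sb E92479 F243617))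
theorem E92930 : n156699 = n73485 := ((D156699).symm.trans (sb E92479 (iv6 D154929)))
theorem F328511 : act 3 n126226 = n79976 := (sb E92480 (iv3 D166633))
theorem F328512 : act 4 n126226 = n124297 := (sb E92480 F262251)
theorem F328513 : act 7 n126226 = n163648 := (sb E92480 F262252)
theorem F328514 : act 4 n52342 = n79978 := (sb E92481 F262256)
theorem F328515 : act 6 n52342 = n79976 := (sb E92481 (iv6 D166635))
theorem F328516 : act 6 n63464 = n87216 := (sb E92482 (iv6 D182703))
theorem F328517 : act 5 n63010 = n87224 := (sb E92483 (iv5 D182721))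
theorem F328518 : act 6 n134197 = n76839 := (sb E92484 (iv6 D160326))
theorem E92931 : n123993 = n111600 := ((D123993).symm.trans (sb E92485 F216314))
theorem E92932 : n134926 = n123994 := (((D123994).symm.trans (sb E92485 F217123))).symm
theorem E92933 : n134924 = n123150 := ((((iv2 F197353)).symm.trans (sb E92485 F217121))).symm
theorem F328519 : act 5 n57766 = n63088 := (sb E92485 (iv5 D134293))
theorem E92934 : n134923 = n123996 := (((D123996).symm.trans (sb E92485 F217118))).symm
theorem E92937 : n179689 = n134773 := ((((iv3 F216858)).symm.trans (sb E92486 (iv3 F279901)))).symm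
theorem E92938 : n179691 = n30591 := (((F98598).symm.trans (sb E92486 (iv4 F279902)))).symm
theorem E92939 : n134775 = n39685 := ((D134775).symm.trans (sb E92486 (iv6 D85830)))
theorem E92941 : n129395 = n59197 := ((D129395).symm.trans (sb E92487 (iv5 D126283)))
theorem E92942 : n132055 = n52348 := ((D132055).symm.trans (sb E92488 F171121))
theorem E92943 : n132056 = n126240 := ((D132056).symm.trans (sb E92488 F203020))
theorem E92944 : n125645 = n106625 := ((((iv2 F164238)).symm.trans (sb E92488 (iv2 F202094)))).symm
theorem F328520 : act 5 n61964 = n50979 := (sb E92488 (iv5 D110570))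
theorem E92945 : n132058 = n112663 := ((D132058).symm.trans (sb E92488 (iv7 F175330)))
theorem F328521 : act 1 n87588 = n61963 := (sb E92489 (iv0 D132051))
theorem F328522 : act 0 n87585 = n61963 := (sb E92490 (iv1 D132052))
theorem F328523 : act 2 n86129 = n61963 := (sb E92491 F211532)
theorem E92946 : n180333 = n61961 := ((D180333).symm.trans (sb E92491 (iv6 D132046)))
theorem F328524 : act 2 n73621 = n38817 := (sb E92493 (iv2 D84185))
theorem E92947 : n172055 = n155099 := (((D155099).symm.trans (sb E92493 (iv3 F270140)))).symm
theorem E92948 : n155100 = n155091 := ((D155100).symm.trans (sb E92493 F303528))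
theorem E92949 : n173771 = n135429 := ((((iv6 F309523)).symm.trans (sb E92493 (iv6 F304133)))).symm
theorem E92950 : n155094 = n60308 := ((D155094).symm.trans (sb E92494 (iv1 F305705)))
theorem E92951 : n155095 = n38559 := ((D155095).symm.trans (sb E92494 (iv0 D83625)))
theorem E92952 : n175094 = n114066 := ((((iv2 F177581)).symm.trans (sb E92494 D175094))).symm
theorem E92956 : n175098 = n152601 := ((((iv7 F314835)).symm.trans (sb E92494 D175098))).symm
theorem E92957 : n172377 = n136350 := ((((iv1 F219432)).symm.trans (sb E92495 F270601))).symm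
theorem F328525 : act 5 n130523 = n73621 := (sb E92495 (iv5 D155101))
theorem E92958 : n47443 = n47404 := (((F328162).symm.trans (sb E92497 (iv1 F153616)))).symm
theorem E92959 : n47442 = n47062 := (((F328163).symm.trans (sb E92497 F153614))).symm
theorem F328526 : act 3 n30221 = n47430 := (sb E92497 F153612)
theorem F328527 : act 3 n102152 = n64128 := (sb E92498 F219502)
theorem F328528 : act 2 n30219 = n47433 := (sb E92499 F157054)
theorem F328529 : act 6 n30219 = n47430 := (sb E92499 (iv6 D102153))
theorem F328530 : act 0 n102161 = n63894 := (sb E92500 (iv1 D135877))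
theorem F328531 : act 1 n102162 = n63894 := (sb E92501 (iv0 D135876))
theorem E92960 : n64138 = n47438 := (((D47438).symm.trans (sb E92502 (iv1 F211773)))).symm
theorem E92961 : n64137 = n47439 := (((D47439).symm.trans (sb E92502 F211771))).symm
theorem E92962 : n62018 = n46609 := ((((iv2 F73612)).symm.trans (sb E92502 (iv2 D132192)))).symm
theorem E92963 : n112903 = n47437 := ((((iv4 F74637)).symm.trans (sb E92502 F211769))).symm
theorem E92964 : n64139 = n47441 := (((D47441).symm.trans (sb E92502 F211770))).symm
theorem F328532 : act 2 n102163 = n64121 := (sb E92503 F219498)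
theorem F328533 : act 0 n102164 = n64119 := (sb E92504 (iv1 F218552))
theorem F328534 : act 1 n102164 = n64118 := (sb E92504 F218550)
theorem F328535 : act 2 n102164 = n63894 := (sb E92504 (iv2 D135878))
theorem E92965 : n99786 = n99420 := (((iv1 F153615)).symm.trans (sb E92505 (iv1 F327142)))
theorem F328536 : act 3 n47444 = n84190 := (sb E92505 F328148)
theorem E92966 : n102199 = n30224 := ((D102199).symm.trans (sb E92505 F99819))
theorem E92967 : n136412 = n102200 := (((D102200).symm.trans (sb E92505 (iv5 F219517)))).symm
theorem E92968 : n135575 = n102201 := (((D102201).symm.trans (sb E92505 (iv6 F218024)))).symm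
theorem F328537 : act 7 n47444 = n30221 := (sb E92505 (iv7 D64129))
theorem F328538 : act 1 n30437 = n48236 := (sb E92506 (iv0 F157403))
theorem E92969 : n64697 = n47530 := ((D64697).symm.trans (sb E92506 (iv3 D102442)))
theorem E92971 : n183005 = n64698 := (((D64698).symm.trans (sb E92506 F289965))).symm
theorem F328539 : act 0 n30432 = n48236 := (sb E92507 (iv1 D104236))
theorem E92972 : n183034 = n64690 := (((D64690).symm.trans (sb E92507 (iv5 F290035)))).symm
theorem E92973 : n64733 = n48241 := (((D48241).symm.trans (sb E92508 F219152))).symm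
theorem F328540 : act 0 n104237 = n64776 := (sb E92509 (iv1 F219158))
theorem F328541 : act 1 n104237 = n64775 := (sb E92509 F219159)
theorem F328542 : act 2 n104237 = n64777 := (sb E92509 F219153)
theorem F328543 : act 3 n104237 = n128522 := (sb E92509 F219154)
theorem F328544 : act 5 n104237 = n108048 := (sb E92509 F219156)
theorem F328545 : act 6 n104237 = n64737 := (sb E92509 F219157)
theorem F328546 : act 7 n104237 = n64017 := (sb E92509 (iv7 D136131))
theorem F328547 : act 6 n30458 = n48236 := (sb E92510 (iv6 D104238))
theorem E92974 : n64762 = n48257 := (((D48257).symm.trans (sb E92513 (iv5 D137797)))).symm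
theorem E92975 : n64771 = n47540 := ((D64771).symm.trans (sb E92515 F157430))
theorem F328548 : act 5 n30464 = n46683 := (sb E92515 (iv5 D99949))
theorem F328549 : act 3 n87177 = n64780 := (sb E92516 F221052)
theorem E92976 : n98590 = n64770 := (((iv5 F294470)).symm.trans (sb E92516 (iv5 D137828)))
theorem F328550 : act 4 n90373 = n64780 := (sb E92520 (iv4 D137857))
theorem F328551 : act 1 n44563 = n64780 := (sb E92521 (iv0 D137855))
theorem F328552 : act 0 n44562 = n64780 := (sb E92522 (iv1 D137856))
theorem E92977 : n95419 = n64778 := (((D64778).symm.trans (sb E92523 (iv1 F283841)))).symm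
theorem E92978 : n95418 = n64779 := (((D64779).symm.trans (sb E92523 F283842))).symm
theorem E92979 : n95417 = n64781 := (((D64781).symm.trans (sb E92523 F283840))).symm
theorem F328553 : act 7 n44564 = n64780 := (sb E92524 (iv7 D137858))
theorem E92980 : n64662 = n4919 := ((((iv3 D10764)).symm.trans (sb E92527 (iv3 F100561)))).symm
theorem E92981 : n64666 = n22776 := (((D22776).symm.trans (sb E92527 (iv6 F100563)))).symm
theorem E92982 : n156068 = n102085 := (((D102085).symm.trans (sb E92528 (iv4 F245221)))).symm
theorem E92983 : n156067 = n41215 := (((F74620).symm.trans (sb E92528 F245219))).symm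
theorem F328554 : act 5 n87379 = n53642 := (sb E92531 (iv5 D116379))
theorem E92984 : n64014 = n48260 := (((D48260).symm.trans (sb E92534 (iv6 D136123)))).symm
theorem F328555 : act 3 n97038 = n49391 := (sb E92535 F164767)
theorem F328556 : act 6 n97038 = n49389 := (sb E92535 (iv6 D106897))
theorem E92985 : n87051 = n64015 := (((D64015).symm.trans (sb E92536 F149687))).symm
theorem F328557 : act 6 n30182 = n45360 := (sb E92536 (iv6 D97039))
theorem F328558 : act 1 n130837 = n64018 := (sb E92537 (iv0 D136132))
theorem F328559 : act 2 n136133 = n98415 := (sb E92538 F295095)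
theorem F328560 : act 4 n136133 = n129370 := (sb E92538 (iv4 F323627))
theorem F328561 : act 5 n136133 = n87189 := (sb E92538 F295400)
theorem F328562 : act 7 n136133 = n181979 := (sb E92538 F295096)
theorem F328563 : act 3 n40447 = n64018 := (sb E92539 F219149)
theorem F328564 : act 3 n126641 = n165725 := (sb E92540 F283845)
theorem F328565 : act 5 n126641 = n165723 := (sb E92540 (iv5 F283847))
theorem F328566 : act 7 n126641 = n95420 := (sb E92540 F283846)
theorem E92986 : n95421 = n64745 := ((D95421).symm.trans (sb E92542 F219164))
theorem F328567 : act 7 n44565 = n64018 := (sb E92542 (iv7 D136135))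
theorem E92987 : n177899 = n137013 := ((((iv3 F220144)).symm.trans (sb E92543 F290128))).symm
theorem F328568 : act 6 n64399 = n88296 := (sb E92543 (iv6 D185324))
theorem E92988 : n149150 = n135990 := ((((iv7 F218782)).symm.trans (sb E92543 (iv7 F290127)))).symm
theorem E92989 : n102202 = n30223 := ((D102202).symm.trans (sb E92546 (iv1 F84147)))
theorem E92990 : n102203 = n30222 := ((D102203).symm.trans (sb E92546 F84148))
theorem E92991 : n102204 = n52114 := ((D102204).symm.trans (sb E92546 F84143))
theorem E92992 : n102205 = n25837 := ((D102205).symm.trans (sb E92546 F84144))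
theorem E92993 : n102206 = n30229 := ((D102206).symm.trans (sb E92546 F84145))
theorem E92994 : n99788 = n25836 := (((iv7 F153617)).symm.trans (sb E92546 (iv7 D53300)))
theorem E92995 : n102209 = n30309 := ((D102209).symm.trans (sb E92547 (iv1 F99855)))
theorem E92996 : n135880 = n102210 := (((D102210).symm.trans (sb E92547 F218556))).symm
theorem E92997 : n136436 = n22793 := (((F74639).symm.trans (sb E92547 (iv3 F219535)))).symm
theorem E92998 : n136446 = n102211 := (((D102211).symm.trans (sb E92547 (iv5 F219540)))).symm
theorem E92999 : n102212 = n30227 := ((D102212).symm.trans (sb E92547 (iv7 D64145)))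
theorem F328569 : act 2 n46607 = n30221 := (sb E92548 F84140)
theorem E93000 : n115535 = n22330 := ((((iv3 D46607)).symm.trans (sb E92548 D115535))).symm
theorem E93001 : n115536 = n99081 := ((((iv5 F152605)).symm.trans (sb E92548 D115536))).symm
theorem E93002 : n99789 = n29368 := ((D99789).symm.trans (sb E92548 F84141))
theorem F328570 : act 0 n99740 = n47444 := (sb E92553 (iv1 F153611))
theorem F328571 : act 1 n99740 = n46607 := (sb E92553 (iv0 D99785))
theorem E93003 : n64663 = n22324 := (((D22324).symm.trans (sb E92554 F220747))).symm
theorem F328572 : act 5 n30429 = n22323 := (sb E92555 (iv5 D46595))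
theorem E93005 : n99751 = n63973 := ((((iv6 F99542)).symm.trans (sb E92555 D99751))).symm
theorem E93006 : n102074 = n63990 := ((D102074).symm.trans (sb E92557 (iv5 D136076)))
theorem E93007 : n136983 = n101035 := ((((iv5 F155638)).symm.trans (sb E92559 F220767))).symm
theorem F328573 : act 6 n63953 = n79049 := (sb E92560 (iv6 D164576))
theorem F328574 : act 5 n66854 = n137208 := (sb E92561 F220644)
theorem E93010 : n146657 = n137214 := ((D146657).symm.trans (sb E92563 F220646))
theorem F328575 : act 6 n62016 = n67860 := (sb E92564 (iv6 D144800))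
theorem F328576 : act 2 n137440 = n143124 := (sb E92565 F227675)
theorem F328577 : act 4 n137440 = n146669 := (sb E92565 (iv4 F229979))
theorem F328578 : act 7 n137440 = n79048 := (sb E92565 F227676)
theorem F328579 : act 4 n31523 = n64598 := (sb E92566 (iv4 D137441))
theorem F328580 : act 2 n137442 = n67861 := (sb E92567 F227677)
theorem F328581 : act 4 n137442 = n67857 := (sb E92567 F227678)
theorem E93011 : n137423 = n54146 := (((D54146).symm.trans (sb E92568 (iv3 F220626)))).symm
theorem F328582 : act 5 n26201 = n30396 := (sb E92568 (iv5 D64591))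
theorem F328583 : act 5 n26213 = n30397 := (sb E92569 (iv5 D64596))
theorem E93017 : n146534 = n62566 := ((D146534).symm.trans (sb E92570 (iv1 D133313)))
theorem F328584 : act 1 n68687 = n130898 := (sb E92570 F214286)
theorem F328585 : act 0 n71670 = n130898 := (sb E92571 (iv1 F214282))
theorem F328586 : act 1 n127554 = n66094 := (sb E92572 (iv0 D140893))
theorem F328587 : act 0 n116948 = n66094 := (sb E92573 (iv1 D140894))
theorem F328588 : act 7 n74373 = n66094 := (sb E92574 (iv7 D140896))
theorem F328589 : act 4 n59166 = n78397 := (sb E92575 (iv4 D163040))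
theorem E93018 : n166647 = n78397 := ((F328345).symm.trans (sb E92576 (iv6 D163042)))
theorem E93019 : n163506 = n162958 := ((D163506).symm.trans (sb E92577 F321496))
theorem E93020 : n163507 = n86189 := ((D163507).symm.trans (sb E92577 F321497))
theorem F328590 : act 2 n78573 = n52224 := (sb E92577 (iv2 D113146))
theorem E93021 : n163505 = n125583 := (((iv4 F257786)).symm.trans (sb E92577 (iv4 F202007)))
theorem F328591 : act 3 n51418 = n84856 := (sb E92578 (iv3 D178319))
theorem F328592 : act 6 n65895 = n84856 := (sb E92579 (iv6 D178321))
theorem E93022 : n84864 = n84854 := ((F321453).symm.trans (sb E92582 (iv6 D178309)))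
theorem F328593 : act 0 n112567 = n180541 := (sb E92583 F280993)
theorem F328594 : act 1 n112567 = n180556 := (sb E92583 F281006)
theorem F328595 : act 1 n39263 = n84859 := (sb E92585 F277888)
theorem F328596 : act 0 n39265 = n84859 := (sb E92586 (iv1 F277887))
theorem F328597 : act 0 n90727 = n55231 := (sb E92592 (iv1 D120020))
theorem F328598 : act 1 n90727 = n74092 := (sb E92592 F189508)
theorem F328599 : act 0 n103044 = n74092 := (sb E92593 (iv1 F189503))
theorem F328600 : act 1 n103044 = n55231 := (sb E92593 (iv0 D120019))
theorem E93023 : n120003 = n93340 := (((iv1 F189451)).symm.trans (sb E92594 (iv1 F143963)))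
theorem E93024 : n120002 = n41125 := ((F189447).symm.trans (sb E92594 (iv0 D88068)))
theorem E93025 : n184693 = n119984 := ((((iv3 F189408)).symm.trans (sb E92594 D184693))).symm
theorem E93026 : n184695 = n155631 := (((D155631).symm.trans (sb E92594 D184695))).symm
theorem E93027 : n120004 = n87922 := (((iv7 F189449)).symm.trans (sb E92594 (iv7 F135062)))
theorem F328601 : act 2 n103220 = n55231 := (sb E92595 (iv2 D120021))
theorem F328602 : act 3 n103220 = n74068 := (sb E92595 F189504)
theorem F328603 : act 7 n103220 = n74092 := (sb E92595 F189506)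
theorem F328604 : act 4 n103222 = n155790 := (sb E92597 F244796)
theorem F328605 : act 4 n103243 = n155833 := (sb E92602 (iv4 F244828))
theorem E93028 : n155622 = n93340 := ((D155622).symm.trans (sb E92606 (iv2 F143960)))
theorem E93030 : n110838 = n41126 := (((iv4 F325775)).symm.trans (sb E92606 F135067))
theorem E93031 : n155624 = n97343 := ((D155624).symm.trans (sb E92606 (iv5 F293992)))
theorem F328606 : act 0 n47139 = n33977 := (sb E92607 (iv1 D74034))
theorem E93033 : n155627 = n101218 := (((D101218).symm.trans (sb E92607 D155627))).symm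
theorem E93038 : n184698 = n120005 := (((D120005).symm.trans (sb E92610 D184698))).symm
theorem E93039 : n185896 = n63236 := ((((iv1 F216498)).symm.trans (sb E92611 (iv1 F288385)))).symm
theorem E93040 : n185895 = n63233 := (((D63233).symm.trans (sb E92613 (iv1 F288386)))).symm
theorem E93041 : n185894 = n63234 := (((D63234).symm.trans (sb E92613 F288383))).symm
theorem F328607 : act 2 n104364 = n63226 := (sb E92614 F216469)
theorem F328608 : act 4 n104364 = n63215 := (sb E92614 F216470)
theorem F328609 : act 6 n104364 = n63213 := (sb E92614 (iv6 D134516))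
theorem F328610 : act 6 n88538 = n63252 := (sb E92615 F216497)
theorem F328611 : act 7 n88538 = n63215 := (sb E92615 (iv7 D134524))
theorem F328612 : act 7 n43248 = n84098 := (sb E92616 (iv7 F275663))
theorem F328613 : act 2 n90260 = n84098 := (sb E92621 F275664)
theorem F328614 : act 4 n43249 = n84098 := (sb E92622 (iv4 D176382))
theorem F328615 : act 5 n42360 = n84098 := (sb E92623 (iv5 D176383))
theorem F328616 : act 5 n176333 = n88538 := (sb E92624 (iv5 D185897))
theorem F328617 : act 4 n173744 = n93849 := (sb E92625 F288392)
theorem E93044 : n30424 = n10766 := (((F34837).symm.trans (sb E92626 F100559))).symm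
theorem E93045 : n137491 = n46605 := (((D46605).symm.trans (sb E92626 (iv4 F220686)))).symm
theorem E93047 : n46606 = n30422 := ((D46606).symm.trans (sb E92626 (iv6 D64655)))
theorem F328618 : act 6 n63987 = n46603 := (sb E92627 (iv6 D99777))
theorem F328619 : act 5 n14451 = n10764 := (sb E92630 (iv5 D22775))
theorem F328620 : act 3 n63994 = n47368 := (sb E92633 F153549)
theorem F328621 : act 5 n63994 = n46594 := (sb E92633 (iv5 D99746))
theorem E93053 : n137367 = n47375 := (((iv2 F220565)).symm.trans (sb E92634 F156933))
theorem F328622 : act 6 n64579 = n47368 := (sb E92634 (iv6 D101965))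
theorem E93054 : n134932 = n64769 := ((D134932).symm.trans (sb E92635 (iv5 D137824)))
theorem F328623 : act 0 n129431 = n64888 := (sb E92636 (iv1 D138096))
theorem F328624 : act 3 n129431 = n76523 := (sb E92636 F221319)
theorem F328625 : act 4 n129431 = n136925 := (sb E92636 (iv4 F221318))
theorem F328626 : act 2 n53136 = n52577 := (sb E92637 (iv2 D113875))
theorem F328627 : act 0 n113876 = n135843 := (sb E92638 (iv1 F218496))
theorem F328628 : act 1 n113876 = n135842 := (sb E92638 F218500)
theorem F328629 : act 2 n113876 = n135844 := (sb E92638 (iv2 F218497))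
theorem F328630 : act 4 n113876 = n106800 := (sb E92638 F179425)
theorem F328631 : act 6 n113876 = n53158 := (sb E92638 (iv6 D115219))
theorem F328632 : act 7 n113876 = n63876 := (sb E92638 F179426)
theorem F328633 : act 4 n25785 = n52577 := (sb E92639 (iv4 D113877))
theorem F328634 : act 0 n113878 = n135672 := (sb E92640 (iv1 F218159))
theorem F328635 : act 1 n113878 = n135671 := (sb E92640 F218158)
theorem F328636 : act 2 n113878 = n115161 := (sb E92640 F179447)
theorem F328637 : act 7 n113878 = n63884 := (sb E92640 F179448)
theorem F328638 : act 6 n25784 = n52577 := (sb E92641 (iv6 D113879))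
theorem F328639 : act 7 n30133 = n52577 := (sb E92642 (iv7 D113880))
theorem E93055 : n148679 = n53131 := (((F99147).symm.trans (sb E92645 (iv6 F233433)))).symm
theorem E93056 : n60691 = n52601 := ((((iv3 F83105)).symm.trans (sb E92647 (iv3 D129098)))).symm
theorem F328640 : act 1 n110798 = n52575 := (sb E92648 (iv0 D113870))
theorem F328641 : act 0 n59374 = n52575 := (sb E92649 (iv1 D113871))
theorem F328642 : act 3 n28803 = n52575 := (sb E92650 F177155)
theorem F328643 : act 6 n28803 = n52573 := (sb E92650 (iv6 D113864))
theorem F328644 : act 3 n113872 = n60692 := (sb E92651 F207327)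
theorem F328645 : act 6 n113872 = n128682 := (sb E92651 F207328)
theorem F328646 : act 7 n113872 = n132164 := (sb E92651 (iv7 F211691))
theorem F328647 : act 3 n62004 = n52605 := (sb E92652 F177299)
theorem F328648 : act 0 n123641 = n131787 := (sb E92653 F211159)
theorem E93057 : n63366 = n57637 := ((((iv0 D123641)).symm.trans (sb E92653 (iv0 F207417)))).symm
theorem F328649 : act 3 n123641 = n60731 := (sb E92653 (iv3 D129184))
theorem F328650 : act 6 n123641 = n129091 := (sb E92653 F207416)
theorem F328651 : act 1 n123642 = n131787 := (sb E92654 F217002)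
theorem F328652 : act 3 n123642 = n131863 := (sb E92654 (iv3 F217004))
theorem F328653 : act 6 n123642 = n134168 := (sb E92654 F217006)
theorem E93058 : n134103 = n81806 := ((D134103).symm.trans (sb E92655 (iv4 D170666)))
theorem F328654 : act 0 n133569 = n131040 := (sb E92656 (iv1 F224299))
theorem F328655 : act 1 n133569 = n138282 := (sb E92656 F224297)
theorem F328656 : act 2 n133569 = n115969 := (sb E92656 F224294)
theorem F328657 : act 4 n133569 = n68176 := (sb E92656 F224296)
theorem E93059 : n66259 = n62683 := ((((iv5 D133569)).symm.trans (sb E92656 (iv5 D141275)))).symm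
theorem F328658 : act 6 n133569 = n68175 := (sb E92656 F224298)
theorem E93060 : n74409 = n66298 := (((F214865).symm.trans (sb E92656 F224295))).symm
theorem F328659 : act 6 n63440 = n101275 := (sb E92657 (iv6 F295349))
theorem E93061 : n134102 = n123074 := (((D123074).symm.trans (sb E92660 F216146))).symm
theorem E93062 : n134021 = n27535 := (((F90349).symm.trans (sb E92660 (iv2 F215974)))).symm
theorem E93063 : n134107 = n123068 := ((((iv3 F197245)).symm.trans (sb E92660 (iv3 F216155)))).symm
theorem E93064 : n123075 = n61837 := ((D123075).symm.trans (sb E92660 F98313))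
theorem E93065 : n123072 = n29803 := (((iv6 F197250)).symm.trans (sb E92660 (iv6 D62998)))
theorem E93066 : n134110 = n122299 := (((F301408).symm.trans (sb E92660 D134110))).symm
theorem E93067 : n134840 = n123645 := ((((iv4 F198047)).symm.trans (sb E92661 F217169))).symm
theorem E93068 : n123646 = n63425 := ((D123646).symm.trans (sb E92661 (iv6 D134959)))
theorem E93071 : n134999 = n98101 := ((((iv3 F151241)).symm.trans (sb E92662 (iv3 F217223)))).symm
theorem E93072 : n125102 = n108539 := ((D125102).symm.trans (sb E92662 (iv4 F167831)))
theorem F328660 : act 6 n58483 = n29972 := (sb E92662 (iv6 D63445))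
theorem F328661 : act 3 n132682 = n76525 := (sb E92663 (iv3 D159858))
theorem F328662 : act 5 n132682 = n137823 := (sb E92663 F252016)
theorem F328663 : act 7 n132682 = n148771 := (sb E92663 F252017)
theorem F328664 : act 0 n130752 = n64745 := (sb E92664 (iv1 F219070))
theorem F328665 : act 1 n130752 = n64007 := (sb E92664 (iv0 D136109))
theorem F328666 : act 0 n60757 = n64007 := (sb E92665 (iv1 D136110))
theorem F328667 : act 1 n60757 = n64745 := (sb E92665 F219065)
theorem F328668 : act 5 n134382 = n64007 := (sb E92666 (iv5 D136111))
theorem E93074 : n134382 = n117451 := (((D117451).symm.trans (iv6 (sb E92666 (tr F219067 E92816))))).symm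
theorem F328669 : act 0 n130750 = n64743 := (sb E92667 (iv1 F219071))
theorem F328670 : act 2 n130750 = n64745 := (sb E92667 F219068)
theorem F328671 : act 6 n130750 = n64781 := (sb E92667 F219069)
theorem F328672 : act 7 n130750 = n64007 := (sb E92667 (iv7 D136112))
theorem F328673 : act 7 n130752 = n64743 := (sb E92668 (iv7 F220996))
theorem E93075 : n137743 = n123399 := (E92671).trans E92707
theorem F328674 : act 0 n123399 = n138188 := (sb E93075 F221363)
theorem E93076 : n141327 = n138114 := ((D141327).symm.trans (sb E92672 F221326))
theorem F328675 : act 2 n60757 = n64743 := (sb E92673 F220997)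
theorem F328676 : act 3 n134094 = n64743 := (sb E92674 (iv3 D137746))
theorem F328677 : act 4 n60756 = n64743 := (sb E92675 (iv4 D137747))
theorem F328678 : act 5 n134388 = n64729 := (sb E92678 (iv5 D137706))
theorem E93077 : n134388 = n117465 := (((D117465).symm.trans (iv6 (sb E92678 (tr F220927 E92817))))).symm
theorem E93079 : n63132 = n54132 := (((D54132).symm.trans (sb E92680 (iv6 D134390)))).symm
theorem F328679 : act 5 n134381 = n64745 := (sb E92681 F220999)
theorem F328680 : act 3 n62881 = n59554 := (sb E92682 F204146)
theorem E93080 : n133866 = n59550 := ((D133866).symm.trans (sb E92682 (iv5 D126894)))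
theorem F328681 : act 6 n126907 = n63275 := (sb E92683 (iv6 D134666))
theorem F328682 : act 0 n95486 = n51565 := (sb E92684 F173613)
theorem E93081 : n185450 = n51664 := (((iv0 F287713)).symm.trans (sb E92684 (iv0 F173614)))
theorem F328683 : act 2 n95486 = n51667 := (sb E92684 F173610)
theorem F328684 : act 4 n95486 = n51560 := (sb E92684 (iv4 D111820))
theorem F328685 : act 6 n95486 = n109263 := (sb E92684 F173611)
theorem F328686 : act 7 n95486 = n51639 := (sb E92684 F173612)
theorem F328687 : act 0 n79857 = n89255 := (sb E92685 (iv1 F293495))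
theorem F328688 : act 1 n79857 = n48454 := (sb E92685 (iv0 D104802))
theorem F328689 : act 4 n79857 = n89719 := (sb E92685 (iv4 F293445))
theorem F328690 : act 7 n79857 = n104639 := (sb E92685 F160623)
theorem F328691 : act 1 n79856 = n104639 := (sb E92686 F160348)
theorem E93082 : n166298 = n48454 := (((iv2 F261879)).symm.trans (sb E92686 F148407))
theorem E93083 : n166300 = n45013 := ((D166300).symm.trans (sb E92686 (iv4 D96406)))
theorem E93084 : n166301 = n89256 := ((D166301).symm.trans (sb E92686 (iv5 F293378)))
theorem E93085 : n166293 = n89255 := ((F261878).symm.trans (sb E92686 (iv7 F293498)))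
theorem F328692 : act 1 n48389 = n36375 := (sb E92687 (iv0 D79855))
theorem E93086 : n166294 = n104641 := (((D104641).symm.trans (sb E92687 D166294))).symm
theorem F328693 : act 3 n75310 = n44856 := (sb E92688 F147762)
theorem E93090 : n158124 = n44853 := ((D158124).symm.trans (sb E92688 (iv6 D96116)))
theorem F328694 : act 3 n96124 = n75285 := (sb E92689 F248996)
theorem F328695 : act 5 n96124 = n75284 := (sb E92689 (iv5 D158044))
theorem F328696 : act 0 n104229 = n166196 := (sb E92690 (iv1 F302331))
theorem F328697 : act 1 n104229 = n160605 := (sb E92690 (iv0 F302341))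
theorem F328698 : act 2 n104229 = n176121 := (sb E92690 F275949)
theorem F328699 : act 4 n104229 = n84189 := (sb E92690 (iv4 D176588))
theorem E93091 : n172511 = n87744 := (((F159814).symm.trans (sb E92690 F275950))).symm
theorem F328700 : act 0 n100383 = n160605 := (sb E92692 F264155)
theorem F328701 : act 1 n100383 = n166196 := (sb E92692 (iv0 F264218))
theorem F328702 : act 4 n100383 = n80513 := (sb E92692 (iv4 D167785))
theorem F328703 : act 7 n100383 = n176121 := (sb E92692 F303749)
theorem F328704 : act 4 n47436 = n84212 := (sb E92693 (iv4 D176623))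
theorem F328705 : act 2 n95629 = n95630 := (sb E92694 F149767)
theorem F328706 : act 6 n95629 = n45379 := (sb E92694 (iv6 D97081))
theorem F328707 : act 0 n104241 = n64831 := (sb E92695 (iv1 D137946))
theorem F328708 : act 1 n104241 = n84028 := (sb E92695 F325108)
theorem F328709 : act 2 n104241 = n79814 := (sb E92695 F325109)
theorem F328710 : act 4 n104241 = n79800 := (sb E92695 F325110)
theorem F328711 : act 7 n104241 = n98120 := (sb E92695 F325111)
theorem E93092 : n173891 = n47585 := ((D173891).symm.trans (sb E92696 (iv3 D102591)))
theorem F328712 : act 3 n102514 = n63140 := (sb E92697 F216393)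
theorem F328713 : act 6 n102514 = n63139 := (sb E92697 (iv6 D134417))
theorem F328714 : act 5 n134094 = n71457 := (sb E92698 (iv5 D151592))
theorem F328715 : act 5 n76596 = n62990 := (sb E92699 (iv5 D134095))
theorem E93093 : n159977 = n134321 := ((D159977).symm.trans (sb E92699 (iv7 F216331)))
theorem F328716 : act 0 n61902 = n57489 := (sb E92700 (iv1 F197133))
theorem F328717 : act 1 n61902 = n57238 := (sb E92700 (iv0 D123022))
theorem F328718 : act 0 n62968 = n57238 := (sb E92701 (iv1 D123023))
theorem F328719 : act 1 n62968 = n57489 := (sb E92701 F197128)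
theorem E93094 : n123052 = n51306 := ((D123052).symm.trans (sb E92702 F111659))
theorem E93095 : n123053 = n51303 := ((D123053).symm.trans (sb E92702 F111660))
theorem E93096 : n156456 = n114098 := ((((iv3 F177695)).symm.trans (sb E92702 (iv3 F245969)))).symm
theorem E93097 : n123054 = n34131 := ((D123054).symm.trans (sb E92702 (iv5 D74405)))
theorem E93099 : n123055 = n64953 := ((D123055).symm.trans (sb E92702 F111658))
theorem F328720 : act 2 n63103 = n57489 := (sb E92704 F197131)
theorem E93100 : n134322 = n57373 := ((D134322).symm.trans (sb E92704 F197132))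
theorem F328721 : act 7 n63103 = n57238 := (sb E92704 (iv7 D123025))
theorem F328722 : act 1 n63123 = n57481 := (sb E92705 (iv0 D123396))
theorem F328723 : act 0 n63127 = n57481 := (sb E92706 (iv1 D123397))
theorem F328724 : act 2 n123399 = n134361 := (sb E92707 F216485)
theorem F328725 : act 5 n123399 = n61348 := (sb E92707 (iv5 D130753))
theorem F328726 : act 4 n60759 = n57484 := (sb E92708 (iv4 D123409))
theorem E93101 : n133239 = n57635 := ((D133239).symm.trans (sb E92709 F197830))
theorem E93102 : n133241 = n57636 := ((D133241).symm.trans (sb E92710 F197831))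
theorem E93103 : n134325 = n122714 := ((D134325).symm.trans (sb E92717 F197793))
theorem F328727 : act 1 n51275 = n27521 := (sb E92723 (iv0 D57581))
theorem E93106 : n123555 = n29829 := (((F80881).symm.trans (sb E92723 D123555))).symm
theorem E93107 : n123556 = n24931 := ((((iv5 D51275)).symm.trans (sb E92723 D123556))).symm
theorem E93108 : n123557 = n111164 := (((D111164).symm.trans (sb E92723 D123557))).symm
theorem F328728 : act 0 n51272 = n27521 := (sb E92724 (iv1 D57582))
theorem E93114 : n123537 = n64957 := ((D123537).symm.trans (sb E92725 (iv5 D138286)))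
theorem E93115 : n134977 = n123538 := (((D123538).symm.trans (sb E92725 F221495))).symm
theorem F328729 : act 5 n30518 = n27521 := (sb E92726 (iv5 D57583))
theorem E93119 : n53470 = n27524 := (((iv6 F84372)).symm.trans (sb E92726 F90738))
theorem E93120 : n123566 = n29969 := (((F48911).symm.trans (sb E92726 D123566))).symm
theorem F328731 : act 3 n123448 = n61849 := (sb E92731 F216140)
theorem F328732 : act 5 n123448 = n134845 := (sb E92731 (iv5 F217033))
theorem F328733 : act 6 n123448 = n128654 := (sb E92731 F216142)
theorem F328734 : act 0 n123449 = n61333 := (sb E92732 (iv1 D130724))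
theorem F328735 : act 1 n123449 = n134879 := (sb E92732 F217075)
theorem F328736 : act 2 n123449 = n134878 := (sb E92732 F217070)
theorem F328737 : act 4 n123449 = n128654 := (sb E92732 (iv4 F214361))
theorem F328738 : act 7 n123449 = n134877 := (sb E92732 F217063)
theorem F328739 : act 6 n122866 = n63137 := (sb E92735 (iv6 D134408))
theorem F328740 : act 2 n74417 = n102552 := (sb E92736 F306484)
theorem F328741 : act 4 n74417 = n57119 := (sb E92736 (iv4 D122867))
theorem F328742 : act 4 n102440 = n156491 := (sb E92738 (iv4 F246026))
theorem F328743 : act 0 n87218 = n63439 := (sb E92741 (iv1 F172947))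
theorem F328744 : act 1 n87218 = n63438 := (sb E92741 F172945)
theorem F328745 : act 2 n87218 = n51397 := (sb E92741 (iv2 D111437))
theorem F328746 : act 3 n87218 = n63464 := (sb E92741 F172942)
theorem F328747 : act 7 n87218 = n63440 := (sb E92741 F172944)
theorem F328748 : act 3 n91183 = n51398 := (sb E92742 F172948)
theorem F328749 : act 5 n91183 = n51397 := (sb E92742 (iv5 D111438))
theorem F328750 : act 7 n91183 = n63441 := (sb E92742 F172949)
theorem F328751 : act 6 n126199 = n163654 := (sb E92743 F262261)
theorem F328752 : act 7 n126199 = n79978 := (sb E92743 (iv7 D166639))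
theorem F328753 : act 1 n126202 = n79978 := (sb E92744 (iv0 D166636))
theorem F328754 : act 0 n78755 = n79978 := (sb E92745 (iv1 D166637))
theorem F328755 : act 5 n147355 = n79978 := (sb E92746 (iv5 D166638))
theorem F328756 : act 6 n147355 = n163332 := (sb E92746 F262259)
theorem F328757 : act 7 n86087 = n86359 := (sb E92778 (iv7 D180811))
theorem F328758 : act 6 n174175 = n86284 := (sb E92748 (iv6 D180631))
theorem F328759 : act 6 n86219 = n83256 := (sb E92749 (iv6 D174176))
theorem F328760 : act 6 n86220 = n83259 := (sb E92750 (iv6 D174183))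
theorem E93122 : n75574 = n75197 := ((F118805).symm.trans (sb E92751 (iv5 D157848)))
theorem F328761 : act 6 n125395 = n82601 := (sb E92756 (iv6 D172539))
theorem F328762 : act 6 n45928 = n58715 := (sb E92757 (iv6 D125397))
theorem F328763 : act 0 n86088 = n86359 := (sb E92758 (iv1 D180809))
theorem F328764 : act 1 n58684 = n86359 := (sb E92759 (iv0 D180808))
theorem E93123 : n180816 = n134080 := (((D134080).symm.trans (sb E92760 (iv2 F281480)))).symm
theorem F328765 : act 6 n62978 = n75162 := (sb E92760 (iv6 D157751))
theorem E93124 : n113270 = n60649 := ((D113270).symm.trans (sb E92761 (iv1 D128971)))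
theorem F328766 : act 5 n52280 = n61871 := (sb E92761 F207182)
theorem E93125 : n111414 = n57742 := ((D111414).symm.trans (sb E92762 (iv1 D123943)))
theorem E93126 : n111415 = n57756 := ((D111415).symm.trans (sb E92762 F198373))
theorem E93127 : n124094 = n111276 := ((((iv2 F172603)).symm.trans (sb E92762 (iv2 F198492)))).symm
theorem E93128 : n110907 = n76081 := (((iv4 F171819)).symm.trans (sb E92762 F302068))
theorem F328767 : act 5 n51381 = n84670 := (sb E92762 F302069)
theorem E93129 : n111417 = n82027 := ((D111417).symm.trans (sb E92762 F302070))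
theorem E93130 : n134028 = n123673 := (((iv1 F216000)).symm.trans (sb E92763 (iv1 F306925)))
theorem E93131 : n134128 = n89248 := ((D134128).symm.trans (sb E92763 F146137))
theorem F328768 : act 6 n63004 = n44292 := (sb E92763 (iv6 D94803))
theorem E93132 : n134133 = n87110 := ((D134133).symm.trans (sb E92766 F283990))
theorem F328769 : act 5 n111431 = n87105 := (sb E92768 (iv5 D182439))
theorem F328770 : act 5 n63008 = n87108 := (sb E92769 (iv5 D182448))
theorem E93133 : n146016 = n63891 := ((D146016).symm.trans (sb E92770 (iv5 D135873)))
theorem F328771 : act 1 n61927 = n52573 := (sb E92771 (iv0 D113860))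
theorem F328772 : act 1 n113861 = n59635 := (sb E92772 (iv0 F202107))
theorem F328773 : act 2 n113861 = n60624 := (sb E92772 F202102)
theorem F328774 : act 3 n113861 = n106609 := (sb E92772 F202103)
theorem F328775 : act 5 n113861 = n60575 := (sb E92772 F202104)
theorem F328776 : act 6 n113861 = n58833 := (sb E92772 (iv6 D125647))
theorem F328777 : act 7 n113861 = n106593 := (sb E92772 F202105)
theorem F328778 : act 2 n51208 = n52573 := (sb E92773 (iv2 D113862))
theorem E93134 : n111038 = n52600 := ((D111038).symm.trans (sb E92773 F177153))
theorem E93135 : n131964 = n52598 := (((D52598).symm.trans (sb E92774 F211438))).symm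
theorem E93136 : n128897 = n105258 := (((D105258).symm.trans (sb E92775 (iv1 F207133)))).symm
theorem E93137 : n127082 = n105257 := ((((iv2 F161205)).symm.trans (sb E92775 (iv2 F204323)))).symm
theorem F328779 : act 4 n48665 = n51203 := (sb E92775 (iv4 D111037))
theorem F328780 : act 0 n135260 = n148780 := (sb E92776 (iv1 F252029))
theorem F328781 : act 1 n135260 = n148779 := (sb E92776 F252033)
theorem F328782 : act 2 n135260 = n148781 := (sb E92776 F252025)
theorem F328783 : act 5 n135260 = n133394 := (sb E92776 F252026)
theorem F328784 : act 7 n135260 = n76526 := (sb E92776 (iv7 D159862))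
theorem F328785 : act 2 n86087 = n83268 := (sb E92777 F271589)
theorem E93138 : n180185 = n82906 := ((D180185).symm.trans (sb E92777 (iv6 D173248)))
theorem F328786 : act 5 n83514 = n86359 := (sb E92779 (iv5 D180810))
theorem E93139 : n174765 = n75192 := ((D174765).symm.trans (sb E92780 (iv5 D157836)))
theorem F328787 : act 7 n86086 = n83268 := (sb E92781 (iv7 D174206))
theorem F328788 : act 3 n58856 = n82587 := (sb E92782 (iv3 D172505))
theorem E93140 : n172518 = n125693 := (((D125693).symm.trans (sb E92782 (iv5 F270709)))).symm
theorem F328789 : act 1 n110395 = n82580 := (sb E92783 (iv0 D172491))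
theorem F328790 : act 0 n110394 = n82580 := (sb E92784 (iv1 D172492))
theorem F328791 : act 3 n110404 = n82580 := (sb E92785 F304290)
theorem F328792 : act 5 n110404 = n174570 := (sb E92785 F304291)
theorem F328793 : act 6 n110404 = n71038 := (sb E92785 (iv6 D150670))
theorem F328794 : act 4 n113240 = n82580 := (sb E92786 F270694)
theorem F328795 : act 6 n113240 = n82579 := (sb E92786 (iv6 D172490))
theorem F328796 : act 5 n110396 = n174576 := (sb E92787 (iv5 F273434))
theorem F328797 : act 7 n110396 = n82580 := (sb E92787 (iv7 D172493))
theorem E93141 : n121223 = n86101 := ((((iv1 F324253)).symm.trans (sb E92788 (iv1 F258092)))).symm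
theorem F328798 : act 1 n54868 = n78663 := (sb E92788 (iv0 D163727))
theorem F328799 : act 0 n39856 = n78663 := (sb E92789 (iv1 D163728))
theorem E93142 : n66296 = n66205 := ((F214859).symm.trans (sb E92795 (iv1 D141151)))
theorem F328800 : act 1 n133567 = n66261 := (sb E92795 F224129)
theorem F328801 : act 5 n133567 = n115969 := (sb E92795 F224131)
theorem E93143 : n66258 = n63429 := (((F214857).symm.trans (sb E92795 F224130))).symm
theorem F328802 : act 0 n30971 = n66261 := (sb E92796 (iv1 F224127))
theorem F328803 : act 2 n108413 = n66261 := (sb E92797 F224134)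
theorem F328804 : act 5 n108413 = n66206 := (sb E92797 F224135)
theorem F328805 : act 6 n50104 = n66261 := (sb E92800 (iv6 D141282))
theorem E93144 : n130830 = n66247 := ((((iv6 F101838)).symm.trans (sb E92801 (iv6 F214864)))).symm
theorem F328806 : act 1 n61838 = n66260 := (sb E92802 (iv0 D141277))
theorem E93145 : n138281 = n63001 := ((((iv4 F98317)).symm.trans (sb E92802 F224300))).symm
theorem F328807 : act 0 n108414 = n66260 := (sb E92803 (iv1 D141278))
theorem F328808 : act 2 n108415 = n66260 := (sb E92804 F224133)
theorem F328809 : act 3 n126452 = n66260 := (sb E92805 (iv3 D141279))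
theorem F328810 : act 5 n126780 = n66260 := (sb E92806 (iv5 D141280))
theorem F328811 : act 6 n108411 = n66260 := (sb E92807 F224280)
theorem F328812 : act 5 n107225 = n127353 := (sb E92810 F227654)
theorem F328813 : act 5 n59819 = n60571 := (sb E92811 F207043)
theorem F328814 : act 3 n125794 = n67850 := (sb E92812 F227655)
theorem E93146 : n116215 = n67973 := ((D116215).symm.trans (sb E92813 (iv5 D144991)))
theorem E93147 : n137455 = n117533 := (((D117533).symm.trans (sb E92814 (iv3 F220650)))).symm
theorem F328815 : act 5 n54155 = n30403 := (sb E92814 (iv5 D64608))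
theorem E93150 : n136060 = n117489 := ((((iv7 F184024)).symm.trans (sb E92814 (iv7 F218953)))).symm
theorem E93151 : n137467 = n117531 := (((D117531).symm.trans (sb E92815 (iv3 F220670)))).symm
theorem F328816 : act 5 n54154 = n30408 := (sb E92815 (iv5 D64618))
theorem E93154 : n136107 = n117442 := ((((iv3 F183944)).symm.trans (sb E92816 (iv3 F219062)))).symm
theorem F328817 : act 5 n54123 = n30181 := (sb E92816 (iv5 D64010))
theorem E93157 : n137683 = n117463 := (((D117463).symm.trans (sb E92817 (iv2 F220850)))).symm
theorem F328818 : act 5 n54130 = n30449 := (sb E92817 (iv5 D64732))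
theorem E93159 : n137721 = n117275 := ((((iv7 F183524)).symm.trans (sb E92817 D137721))).symm
theorem E93160 : n137756 = n117431 := (((D117431).symm.trans (sb E92818 D137756))).symm
theorem E93161 : n137447 = n31615 := (((F85433).symm.trans (sb E92818 (iv4 F220648)))).symm
theorem F328819 : act 5 n54118 = n64503 := (sb E92818 (iv5 F100618))
theorem E93162 : n137757 = n117433 := (((D117433).symm.trans (sb E92818 D137757))).symm
theorem F328820 : act 5 n54048 = n30458 := (sb E92820 F100619)
theorem F328821 : act 0 n117562 = n54402 := (sb E92822 (iv1 D118097))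
theorem F328822 : act 1 n117562 = n64410 := (sb E92822 F322844)
theorem F328823 : act 2 n117562 = n122834 := (sb E92822 (iv2 F306512))
theorem F328824 : act 3 n117562 = n153180 := (sb E92822 (iv3 F307417))
theorem F328825 : act 4 n117562 = n138210 := (sb E92822 F322845)
theorem F328826 : act 5 n117562 = n64926 := (sb E92822 F322846)
theorem F328827 : act 6 n109588 = n54157 := (sb E92824 (iv6 D117542))
theorem F328828 : act 0 n64600 = n59850 := (sb E92825 (iv1 F104045))
theorem F328829 : act 2 n64600 = n52556 := (sb E92825 (iv2 F104044))
theorem E93166 : n137448 = n59870 := ((D137448).symm.trans (sb E92825 (iv3 F104047)))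
theorem E93167 : n137449 = n52548 := ((D137449).symm.trans (sb E92825 F104043))
theorem E93168 : n144930 = n137418 := ((((iv6 F220624)).symm.trans (sb E92825 D144930))).symm
theorem F328830 : act 7 n64600 = n52547 := (sb E92825 F104046)
theorem F328831 : act 0 n130799 = n144869 := (sb E92826 (iv1 F251534))
theorem F328832 : act 1 n130799 = n76389 := (sb E92826 (iv0 D159669))
theorem F328833 : act 2 n108510 = n144866 := (sb E92827 F251530)
theorem F328834 : act 4 n108510 = n76389 := (sb E92827 (iv4 D159671))
theorem F328835 : act 6 n108510 = n76393 := (sb E92827 F251531)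
theorem E93169 : n115220 = n76390 := (((D76390).symm.trans (sb E92828 (iv7 F179428)))).symm
theorem E93170 : n144868 = n133534 := (((F214811).symm.trans (sb E92829 (iv1 F251535)))).symm
theorem F328836 : act 1 n107623 = n144867 := (sb E92829 F251536)
theorem F328837 : act 2 n107623 = n144869 := (sb E92829 F251532)
theorem F328838 : act 7 n107623 = n76389 := (sb E92829 (iv7 D159672))
theorem F328839 : act 1 n25773 = n35967 := (sb E92830 (iv0 D79026))
theorem E93175 : n164541 = n53135 := (((D53135).symm.trans (sb E92830 D164541))).symm
theorem F328840 : act 0 n53163 = n35967 := (sb E92831 (iv1 D79027))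
theorem E93180 : n164533 = n113136 := ((D164533).symm.trans (sb E92832 (iv1 F176271)))
theorem E93181 : n164534 = n50102 := ((D164534).symm.trans (sb E92832 F166003))
theorem F328841 : act 2 n79025 = n49728 := (sb E92832 F166000)
theorem E93182 : n164535 = n49706 := ((D164535).symm.trans (sb E92832 (iv5 D107597)))
theorem E93183 : n164536 = n49737 := ((D164536).symm.trans (sb E92832 F166001))
theorem E93184 : n120662 = n115221 := (((D115221).symm.trans (sb E92834 (iv6 F192336)))).symm
theorem F328842 : act 7 n53159 = n35967 := (sb E92834 (iv7 D79029))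
theorem E93185 : n145971 = n135624 := ((D145971).symm.trans (sb E92835 (iv1 F218100)))
theorem E93186 : n145972 = n63860 := ((D145972).symm.trans (sb E92835 F209280))
theorem E93187 : n145899 = n135621 := (((iv2 F229070)).symm.trans (sb E92835 F218093))
theorem F328843 : act 5 n68442 = n61329 := (sb E92835 (iv5 D130715))
theorem E93188 : n145974 = n135622 := ((D145974).symm.trans (sb E92835 (iv7 F218095)))
theorem E93189 : n145987 = n61330 := ((D145987).symm.trans (sb E92836 F209281))
theorem F328844 : act 6 n68445 = n61329 := (sb E92836 (iv6 D130716))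
theorem E93190 : n133233 = n52962 := (((F320195).symm.trans (sb E92836 (iv7 F214075)))).symm
theorem F328845 : act 2 n64183 = n54187 := (sb E92838 F184095)
theorem E93191 : n141254 = n64866 := ((D141254).symm.trans (sb E92839 F184221))
theorem F328846 : act 4 n66250 = n54182 := (sb E92839 (iv4 D117616))
theorem E93192 : n141255 = n64851 := ((D141255).symm.trans (sb E92839 F184223))
theorem E93193 : n137431 = n67208 := (((iv7 F220632)).symm.trans (sb E92839 F184222))
theorem F328847 : act 3 n31273 = n30397 := (sb E92840 (iv3 D64594))
theorem E93197 : n137433 = n67209 := (((D67209).symm.trans (sb E92840 D137433))).symm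
theorem F328848 : act 1 n53231 = n54187 := (sb E92841 (iv0 D117628))
theorem F328849 : act 0 n64185 = n54187 := (sb E92842 (iv1 D117629))
theorem F328850 : act 5 n64388 = n54187 := (sb E92843 (iv5 D117630))
theorem E93198 : n137001 = n54191 := ((D137001).symm.trans (sb E92843 F184231))
theorem F328851 : act 7 n64182 = n54187 := (sb E92844 (iv7 D117631))
theorem E93199 : n137417 = n68927 := ((D137417).symm.trans (sb E92847 F252889))
theorem F328852 : act 4 n60564 = n52523 := (sb E92850 F165163)
theorem F328853 : act 6 n60564 = n49514 := (sb E92850 (iv6 D107172))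
theorem E93200 : n128793 = n112691 := (((D112691).symm.trans (sb E92851 D128793))).symm
theorem E93202 : n128596 = n112693 := (((D112693).symm.trans (sb E92851 (iv2 F206839)))).symm
theorem F328854 : act 5 n52015 = n28764 := (sb E92851 (iv5 D60570))
theorem E93204 : n128788 = n112688 := ((((iv6 F175370)).symm.trans (sb E92851 (iv6 F207040)))).symm
theorem F328855 : act 3 n70569 = n53133 := (sb E92852 (iv3 D115154))
theorem F328856 : act 4 n107642 = n95725 := (sb E92855 F239643)
theorem F328857 : act 6 n107642 = n71914 := (sb E92855 (iv6 D152453))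
theorem F328858 : act 6 n33229 = n49728 := (sb E92857 (iv6 D107645))
theorem F328859 : act 6 n107599 = n83014 := (sb E92858 F327799)
theorem F328860 : act 6 n79007 = n53133 := (sb E92859 (iv6 D115155))
theorem F328861 : act 0 n89570 = n118331 := (sb E92860 F323763)
theorem E93205 : n150759 = n41832 := ((((iv0 D89570)).symm.trans (sb E92860 F323764))).symm
theorem F328862 : act 2 n89570 = n74024 := (sb E92860 F323765)
theorem F328863 : act 5 n89570 = n65475 := (sb E92860 (iv5 D139534))
theorem F328864 : act 3 n48196 = n55222 := (sb E92861 (iv3 D119997))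
theorem F328865 : act 4 n48196 = n55224 := (sb E92861 F189440)
theorem F328866 : act 1 n89571 = n118331 := (sb E92862 F189443)
theorem F328867 : act 5 n89571 = n55222 := (sb E92862 (iv5 D119998))
theorem F328868 : act 7 n89571 = n74024 := (sb E92862 F189442)
theorem E93206 : n99324 = n73356 := ((D99324).symm.trans (sb E92863 (iv3 D154682)))
theorem E93207 : n128024 = n92927 := ((((iv7 F292043)).symm.trans (sb E92863 F242834))).symm
theorem E93208 : n65395 = n22421 := (((F293152).symm.trans (sb E92864 F222512))).symm
theorem F328869 : act 3 n43527 = n65469 := (sb E92864 F222513)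
theorem E93209 : n93031 = n65393 := ((D93031).symm.trans (sb E92864 (iv6 D139324)))
theorem F328870 : act 0 n46429 = n65476 := (sb E92865 (iv1 D139537))
theorem E93210 : n99296 = n71091 := ((D99296).symm.trans (sb E92865 F323773))
theorem F328871 : act 1 n46430 = n65476 := (sb E92866 F323770)
theorem E93211 : n155677 = n23321 := ((((iv3 F73278)).symm.trans (sb E92866 (iv3 F244709)))).symm
theorem E93212 : n155679 = n43320 := ((((iv4 F73279)).symm.trans (sb E92866 D155679))).symm
theorem E93213 : n99298 = n33988 := ((D99298).symm.trans (sb E92866 (iv5 D74061)))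
theorem F328872 : act 2 n43526 = n65476 := (sb E92867 F222686)
theorem F328873 : act 5 n43526 = n65469 := (sb E92867 (iv5 D139510))
theorem F328874 : act 3 n46740 = n51408 := (sb E92868 F172963)
theorem E93215 : n100137 = n65885 := (((iv4 F154058)).symm.trans (sb E92868 F172964))
theorem E93216 : n100138 = n51407 := ((D100138).symm.trans (sb E92868 (iv6 D111450)))
theorem F328875 : act 5 n46699 = n51408 := (sb E92870 (iv5 D111451))
theorem F328876 : act 5 n115970 = n57217 := (sb E92872 (iv5 D122995))
theorem F328877 : act 5 n27411 = n53465 := (sb E92874 (iv5 D115971))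
theorem E93217 : n64963 = n57218 := ((D64963).symm.trans (sb E92875 (iv5 D122999)))
theorem F328878 : act 3 n123243 = n63954 := (sb E92876 (iv3 D136017))
theorem F328879 : act 6 n123243 = n64116 := (sb E92876 F218856)
theorem F328880 : act 7 n123243 = n64490 := (sb E92876 F218857)
theorem E93218 : n159908 = n156460 := (((D156460).symm.trans (sb E92877 (iv2 F252171)))).symm
theorem E93219 : n138626 = n57362 := (((iv5 F221794)).symm.trans (sb E92877 (iv5 D123229)))
theorem F328881 : act 6 n74406 = n57365 := (sb E92877 F197522)
theorem F328882 : act 5 n115967 = n57366 := (sb E92878 F197529)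
theorem F328883 : act 7 n115967 = n57365 := (sb E92878 (iv7 D123244))
theorem E93220 : n57595 = n51112 := ((((iv4 F80631)).symm.trans (sb E92879 (iv4 F197645)))).symm
theorem E93222 : n171046 = n28259 := (((F93917).symm.trans (sb E92880 D171046))).symm
theorem E93223 : n115976 = n37544 := (((iv4 F180579)).symm.trans (sb E92880 (iv4 D81983)))
theorem F328884 : act 5 n27468 = n53464 := (sb E92885 (iv5 D115968))
theorem E93227 : n57370 = n51298 := ((D57370).symm.trans (sb E92888 (iv1 F100878)))
theorem E93228 : n57371 = n30567 := ((D57371).symm.trans (sb E92888 (iv0 D65089)))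
theorem E93229 : n63060 = n27532 := ((((iv4 F44423)).symm.trans (sb E92888 F100877))).symm
theorem F328885 : act 5 n27464 = n34132 := (sb E92888 F100876)
theorem E93231 : n64960 = n57373 := (((D57373).symm.trans (sb E92888 (iv7 F100880)))).symm
theorem E93234 : n81982 = n53468 := (((D53468).symm.trans (sb E92892 (iv4 D171042)))).symm
theorem E93236 : n100035 = n14550 := (((F49127).symm.trans (sb E92893 D100035))).symm
theorem E93237 : n100036 = n49379 := ((((iv3 F78085)).symm.trans (sb E92893 D100036))).symm
theorem F328886 : act 4 n30670 = n22398 := (sb E92893 (iv4 D46712))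
theorem F328887 : act 1 n30698 = n22398 := (sb E92894 (iv0 D46710))
theorem E93240 : n100027 = n65488 := (((D65488).symm.trans (sb E92894 D100027))).symm
theorem E93242 : n100029 = n65489 := (((D65489).symm.trans (sb E92894 D100029))).symm
theorem F328888 : act 0 n30697 = n22398 := (sb E92895 (iv1 D46711))
theorem E93246 : n93135 = n65485 := (((D65485).symm.trans (sb E92895 (iv5 F295319)))).symm
theorem E93248 : n65492 = n22396 := (((D22396).symm.trans (sb E92897 (iv1 F222548)))).symm
theorem E93249 : n65491 = n22397 := (((D22397).symm.trans (sb E92897 F222549))).symm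
theorem E93250 : n65399 = n22399 := (((D22399).symm.trans (sb E92897 (iv7 D139344)))).symm
theorem F328889 : act 7 n30667 = n22398 := (sb E92898 (iv7 D46713))
theorem E93252 : n81984 = n59492 := (((F93911).symm.trans (sb E92899 (iv1 F301684)))).symm
theorem E93253 : n110852 = n56702 := ((F171709).symm.trans (sb E92899 F299251))
theorem E93254 : n123050 = n111545 := (((D111545).symm.trans (sb E92899 (iv3 F197205)))).symm
theorem E93255 : n111546 = n27425 := ((D111546).symm.trans (sb E92899 (iv5 D57263)))
theorem F328890 : act 4 n57598 = n51409 := (sb E92900 (iv4 D111453))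
theorem E93256 : n134973 = n123576 := (((D123576).symm.trans (sb E92900 (iv6 F217192)))).symm
theorem E93257 : n57821 = n53463 := (((iv5 F301677)).symm.trans (sb E92904 (iv5 D115965)))
theorem F328891 : act 0 n139337 = n101036 := (sb E92906 F284647)
theorem F328892 : act 1 n139337 = n93321 := (sb E92906 F284648)
theorem F328893 : act 2 n139337 = n101058 := (sb E92906 F284645)
theorem F328894 : act 5 n139337 = n87374 := (sb E92906 (iv5 D183022))
theorem E93258 : n170921 = n74523 := (((iv1 F277426)).symm.trans (sb E92908 F222530))
theorem F328895 : act 5 n88927 = n65397 := (sb E92908 (iv5 D139338))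
theorem E93259 : n99976 = n66253 := ((D99976).symm.trans (sb E92909 F222543))
theorem E93260 : n111220 = n99978 := (((D99978).symm.trans (sb E92910 F222537))).symm
theorem E93261 : n82009 = n65493 := ((D82009).symm.trans (sb E92911 (iv7 D139579)))
theorem E93262 : n84677 = n65480 := ((((iv6 F101172)).symm.trans (sb E92913 (iv6 F129914)))).symm
theorem F328896 : act 7 n30699 = n22394 := (sb E92913 (iv7 D46695))
theorem F328897 : act 4 n48195 = n74035 := (sb E92916 F244623)
theorem F328898 : act 3 n87919 = n74024 := (sb E92917 F244624)
theorem F328899 : act 3 n87920 = n74025 := (sb E92918 F244625)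
theorem F328900 : act 4 n87920 = n74036 := (sb E92918 F244626)
theorem E93263 : n184339 = n162825 := ((D184339).symm.trans (sb E92918 F313873))
theorem F328901 : act 1 n43544 = n74024 := (sb E92919 (iv0 D155600))
theorem E93264 : n118331 = n93058 := (((D93058).symm.trans (sb E92919 (iv2 F244628)))).symm
theorem E93265 : n150767 = n46957 := ((((iv4 F74176)).symm.trans (sb E92919 F244631))).symm
theorem E93266 : n93059 = n74059 := ((D93059).symm.trans (sb E92919 F244627))
theorem F328902 : act 1 n71093 = n46285 := (sb E92920 F286037)
theorem E93267 : n150793 = n41830 := ((D150793).symm.trans (sb E92920 (iv6 D89565)))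
theorem F328903 : act 4 n92893 = n74024 := (sb E92921 (iv4 D155601))
theorem E93268 : n105423 = n43462 := ((((iv5 D92893)).symm.trans (sb E92921 F244632))).symm
theorem F328904 : act 6 n89585 = n74024 := (sb E92922 (iv6 D155602))
theorem F328905 : act 3 n100883 = n54847 := (sb E92923 (iv3 D119191))
theorem F328906 : act 4 n100883 = n150897 := (sb E92923 (iv4 F237616))
theorem F328907 : act 5 n93901 = n74016 := (sb E92924 (iv5 D155576))
theorem E93269 : n89572 = n71081 := ((((iv1 F107617)).symm.trans (sb E92925 F137320))).symm
theorem E93271 : n120035 = n41014 := ((D120035).symm.trans (sb E92925 F134903))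
theorem F328908 : act 5 n55236 = n41012 := (sb E92925 (iv5 D87905))
theorem E93273 : n184306 = n66237 := (((F321274).symm.trans (sb E92925 D184306))).symm
theorem F328909 : act 0 n152557 = n105914 := (sb E92926 F244591)
theorem F328910 : act 1 n152557 = n150751 := (sb E92926 F244592)
theorem E93274 : n114522 = n92680 := (((F239744).symm.trans (sb E92926 F244589))).symm
theorem F328911 : act 4 n152557 = n74015 := (sb E92926 (iv4 D155573))
theorem F328912 : act 4 n90734 = n65476 := (sb E92927 (iv4 D139538))
theorem E93275 : n100401 = n65473 := (((iv5 F154437)).symm.trans (sb E92928 (iv5 D139524)))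
theorem F328913 : act 6 n46858 = n65476 := (sb E92928 F222698)
theorem E93276 : n134315 = n67223 := (((F314559).symm.trans (sb E92929 F246482))).symm
theorem F328914 : act 4 n73486 = n74518 := (sb E92929 (iv4 D156698))
theorem E93277 : n149687 = n138620 := (((iv7 F235354)).symm.trans (sb E92929 F246483))
theorem E93278 : n154927 = n74520 := ((D154927).symm.trans (sb E92930 F246484))
theorem F328915 : act 6 n73485 = n74518 := (sb E92930 (iv6 D156699))
theorem F328916 : act 1 n111600 = n57766 := (sb E92931 (iv0 D123993))
theorem F328917 : act 1 n123994 = n134290 := (sb E92932 F217124)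
theorem F328918 : act 5 n123994 = n63405 := (sb E92932 F217122)
theorem F328919 : act 7 n123994 = n63404 := (sb E92932 (iv7 D134926))
theorem F328920 : act 0 n123150 = n63404 := (sb E92933 (iv1 D134924))
theorem F328921 : act 5 n123150 = n108807 := (sb E92933 F217120)
theorem F328922 : act 7 n123150 = n134290 := (sb E92933 F217119)
theorem F328923 : act 1 n123996 = n63404 := (sb E92934 (iv0 D134923))
theorem F328924 : act 2 n123996 = n134290 := (sb E92934 (iv2 F217117))
theorem F328925 : act 5 n123996 = n108806 := (sb E92934 F217116)
theorem F328926 : act 6 n134773 = n85828 := (sb E92937 (iv6 D179689))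
theorem E93279 : n85829 = n65159 := (((D65159).symm.trans (sb E92938 (iv6 D179691)))).symm
theorem F328927 : act 6 n39685 = n63334 := (sb E92939 (iv6 D134775))
theorem E93280 : n128623 = n113687 := ((((iv1 F288400)).symm.trans (sb E92941 F207571))).symm
theorem E93281 : n128973 = n113691 := ((((iv0 F288401)).symm.trans (sb E92941 F207572))).symm
theorem F328928 : act 5 n59197 = n60806 := (sb E92941 (iv5 D129395))
theorem E93282 : n128970 = n126284 := (((D126284).symm.trans (sb E92941 F207570))).symm
theorem F328929 : act 1 n52348 = n61964 := (sb E92942 (iv0 D132055))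
theorem F328930 : act 0 n126240 = n61964 := (sb E92943 (iv1 D132056))
theorem F328931 : act 0 n106625 = n59180 := (sb E92944 F202096)
theorem F328932 : act 1 n106625 = n113409 := (sb E92944 F202097)
theorem F328933 : act 5 n106625 = n58828 := (sb E92944 (iv5 D125645))
theorem F328934 : act 7 n106625 = n113407 := (sb E92944 F202095)
theorem F328935 : act 4 n112663 = n106490 := (sb E92945 F211538)
theorem F328936 : act 7 n112663 = n61964 := (sb E92945 (iv7 D132058))
theorem F328937 : act 4 n61961 = n87218 := (sb E92946 F280634)
theorem F328938 : act 6 n61961 = n86129 := (sb E92946 (iv6 D180333))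
theorem F328939 : act 0 n155099 = n83360 := (sb E92947 (iv1 F270144))
theorem F328940 : act 1 n155099 = n82730 := (sb E92947 F270143)
theorem F328941 : act 2 n155099 = n82403 := (sb E92947 (iv2 D172055))
theorem F328942 : act 4 n155099 = n161515 := (sb E92947 F270141)
theorem F328943 : act 7 n155099 = n83358 := (sb E92947 F270142)
theorem F328944 : act 4 n155091 = n73621 := (sb E92948 (iv4 D155100))
theorem F328945 : act 0 n135429 = n83102 := (sb E92949 (iv1 F272369))
theorem F328946 : act 1 n135429 = n83101 := (sb E92949 F272370)
theorem F328947 : act 2 n135429 = n83104 := (sb E92949 F272365)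
theorem F328948 : act 3 n135429 = n149939 := (sb E92949 (iv3 F314801))
theorem F328949 : act 4 n135429 = n83172 := (sb E92949 F272367)
theorem F328950 : act 7 n135429 = n83100 := (sb E92949 (iv7 D173771))
theorem F328951 : act 1 n60308 = n73620 := (sb E92950 (iv0 D155094))
theorem F328952 : act 0 n38559 = n73620 := (sb E92951 (iv1 D155095))
theorem F328953 : act 7 n114066 = n83626 := (sb E92952 (iv7 F274070))
theorem F328954 : act 2 n152601 = n83626 := (sb E92956 F274071)
theorem F328955 : act 5 n136350 = n82543 := (sb E92957 (iv5 D172377))
theorem F328956 : act 0 n47404 = n22790 := (sb E92958 (iv1 D47443))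
theorem F328957 : act 1 n47062 = n22790 := (sb E92959 (iv0 D47442))
theorem E93293 : n99795 = n30225 := (((iv1 F153629)).symm.trans (sb E92960 (iv1 D64138)))
theorem E93294 : n132190 = n102176 := (((D102176).symm.trans (sb E92960 (iv2 F247439)))).symm
theorem E93295 : n136423 = n102177 := (((D102177).symm.trans (sb E92960 D136423))).symm
theorem E93296 : n136424 = n102178 := (((D102178).symm.trans (sb E92960 D136424))).symm
theorem E93297 : n136425 = n102179 := (((D102179).symm.trans (sb E92960 D136425))).symm
theorem E93299 : n132191 = n102181 := (((D102181).symm.trans (sb E92960 (iv7 F247437)))).symm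
theorem E93301 : n136419 = n102183 := (((D102183).symm.trans (sb E92961 D136419))).symm
theorem E93304 : n102176 = n99792 := (((D99792).symm.trans (sb E92962 (tr D132190 E93294)))).symm
theorem E93305 : n102181 = n99793 := (((D99793).symm.trans (sb E92962 (tr D132191 E93299)))).symm
theorem E93306 : n99791 = n52110 := (((iv4 F153621)).symm.trans (sb E92962 F96631))
theorem E93307 : n132193 = n90915 := ((((iv5 F293916)).symm.trans (sb E92962 D132193))).symm
theorem E93308 : n113001 = n102172 := (((D102172).symm.trans (sb E92963 (iv1 F175985)))).symm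
theorem E93309 : n113000 = n102173 := (((D102173).symm.trans (sb E92963 F175980))).symm
theorem E93310 : n102171 = n61260 := (((iv3 F157063)).symm.trans (sb E92963 F175822))
theorem E93311 : n133417 = n102174 := (((D102174).symm.trans (sb E92963 (iv5 F214529)))).symm
theorem E93312 : n113002 = n102175 := (((D102175).symm.trans (sb E92963 (iv7 F175983)))).symm
theorem E93313 : n132191 = n99793 := (E93299).trans E93305
theorem E93315 : n136427 = n102188 := ((((iv5 F157071)).symm.trans (sb E92964 D136427))).symm
theorem F328958 : act 0 n99420 = n46607 := (sb E92965 (iv1 D99786))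
theorem F328959 : act 1 n99420 = n47444 := (sb E92965 F153615)
theorem F328960 : act 2 n30224 = n47445 := (sb E92966 F157074)
theorem F328961 : act 4 n30224 = n47444 := (sb E92966 (iv4 D102199))
theorem F328962 : act 0 n102200 = n64676 := (sb E92967 (iv1 F219518))
theorem F328963 : act 1 n102200 = n64671 := (sb E92967 F219519)
theorem F328964 : act 7 n102200 = n64128 := (sb E92967 (iv7 D136412))
theorem F328965 : act 0 n102201 = n63925 := (sb E92968 F218026)
theorem F328966 : act 1 n102201 = n64143 := (sb E92968 (iv0 F218027))
theorem F328967 : act 4 n102201 = n63750 := (sb E92968 (iv4 D135575))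
theorem F328968 : act 7 n102201 = n63895 := (sb E92968 F218025)
theorem F328969 : act 3 n47530 = n30437 := (sb E92969 (iv3 D64697))
theorem E93320 : n115530 = n102443 := (((D102443).symm.trans (sb E92969 (iv4 F179815)))).symm
theorem E93321 : n137631 = n93130 := ((((iv5 F295315)).symm.trans (sb E92969 D137631))).symm
theorem E93322 : n136502 = n102445 := (((D102445).symm.trans (sb E92969 (iv6 F219616)))).symm
theorem E93323 : n136087 = n99847 := ((((iv7 F290010)).symm.trans (sb E92969 (iv7 F219023)))).symm
theorem F328970 : act 2 n64698 = n87379 := (sb E92971 F284608)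
theorem E93324 : n181980 = n137632 := (((D137632).symm.trans (sb E92971 F284610))).symm
theorem E93325 : n137633 = n87364 := ((D137633).symm.trans (sb E92971 (iv6 D183005)))
theorem F328971 : act 7 n64690 = n87379 := (sb E92972 (iv7 D183034))
theorem E93326 : n137682 = n104248 := (((D104248).symm.trans (sb E92973 (iv1 F220849)))).symm
theorem E93327 : n137681 = n104249 := (((D104249).symm.trans (sb E92973 F220852))).symm
theorem E93328 : n137684 = n104206 := ((((iv2 F159760)).symm.trans (sb E92973 (iv2 F220851)))).symm
theorem F328972 : act 3 n48241 = n30458 := (sb E92973 F100601)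
theorem E93329 : n137696 = n104247 := ((((iv4 F159847)).symm.trans (sb E92973 (iv4 F220869)))).symm
theorem E93330 : n117275 = n104250 := (((D104250).symm.trans (sb E92973 (tr (iv5 F220932) E93159)))).symm
theorem E93331 : n104251 = n30449 := ((D104251).symm.trans (sb E92973 (iv7 D64733)))
theorem E93332 : n137795 = n102484 := ((((iv1 F157425)).symm.trans (sb E92974 D137795))).symm
theorem E93333 : n137796 = n99827 := ((((iv0 F156187)).symm.trans (sb E92974 D137796))).symm
theorem F328973 : act 2 n48257 = n30464 := (sb E92974 F100624)
theorem E93334 : n137792 = n104276 := (((D104276).symm.trans (sb E92974 (iv4 F221034)))).symm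
theorem E93335 : n104277 = n30461 := ((D104277).symm.trans (sb E92974 (iv6 D64762)))
theorem E93336 : n137798 = n99947 := ((((iv7 F153881)).symm.trans (sb E92974 D137798))).symm
theorem F328974 : act 1 n47540 = n30464 := (sb E92975 (iv0 D64771))
theorem E93337 : n137830 = n102484 := (((D102484).symm.trans (sb E92975 D137830))).symm
theorem E93342 : n137835 = n99827 := ((((iv7 F153700)).symm.trans (sb E92975 D137835))).symm
theorem E93343 : n137826 = n46089 := ((D137826).symm.trans (sb E92976 (iv1 D98590)))
theorem E93344 : n137827 = n87550 := ((D137827).symm.trans (sb E92976 F151986))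
theorem E93345 : n137794 = n87178 := (((iv2 F221036)).symm.trans (sb E92976 (iv2 F294516)))
theorem F328975 : act 5 n64770 = n87177 := (sb E92976 F294470)
theorem E93346 : n137829 = n96478 := ((D137829).symm.trans (sb E92976 F294471))
theorem F328976 : act 0 n64778 = n44565 := (sb E92977 (iv1 D95419))
theorem F328977 : act 1 n64779 = n44565 := (sb E92978 (iv0 D95418))
theorem F328978 : act 1 n64781 = n130837 := (sb E92979 (iv0 F324216))
theorem F328979 : act 2 n64781 = n44565 := (sb E92979 F147037)
theorem F328980 : act 5 n64781 = n44564 := (sb E92979 (iv5 D95417))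
theorem E93350 : n137560 = n10767 := (((D10767).symm.trans (sb E92980 (iv6 F220742)))).symm
theorem E93353 : n47419 = n30425 := ((D47419).symm.trans (sb E92981 (iv5 D64666)))
theorem F328981 : act 0 n102085 = n115522 := (sb E92982 (iv1 F245223))
theorem F328982 : act 1 n102085 = n115518 := (sb E92982 F245224)
theorem F328983 : act 2 n102085 = n137652 := (sb E92982 F245220)
theorem F328984 : act 5 n102085 = n74236 := (sb E92982 F245222)
theorem E93355 : n88307 = n74235 := ((F157029).symm.trans (sb E92982 (iv7 D156068)))
theorem E93356 : n142328 = n88306 := (((D88306).symm.trans (sb E92983 (iv0 F245230)))).symm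
theorem E93358 : n104281 = n30445 := ((D104281).symm.trans (sb E92984 (iv1 F99602)))
theorem E93359 : n104282 = n30444 := ((D104282).symm.trans (sb E92984 F99600))
theorem F328985 : act 2 n48260 = n30182 := (sb E92984 (iv2 D64014))
theorem E93360 : n106895 = n104280 := ((((iv4 F159902)).symm.trans (sb E92984 (iv4 F164757)))).symm
theorem E93361 : n136122 = n87179 := ((((iv5 F294517)).symm.trans (sb E92984 D136122))).symm
theorem E93362 : n104284 = n30446 := ((D104284).symm.trans (sb E92984 F99599))
theorem E93365 : n136125 = n96348 := ((D136125).symm.trans (sb E92985 (iv4 F148289)))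
theorem F328986 : act 6 n64015 = n40447 := (sb E92985 (iv6 D87051))
theorem E93366 : n182309 = n30448 := (((F99604).symm.trans (sb E92985 D182309))).symm
theorem E93367 : n137707 = n44569 := (((iv3 F220928)).symm.trans (sb E92986 F147038))
theorem F328987 : act 6 n64745 = n44565 := (sb E92986 (iv6 D95421))
theorem F328988 : act 6 n137013 = n84691 := (sb E92987 (iv6 D177899))
theorem F328989 : act 7 n137013 = n84727 := (sb E92987 F277469)
theorem F328990 : act 3 n135990 = n84727 := (sb E92988 F234526)
theorem F328991 : act 6 n135990 = n69989 := (sb E92988 (iv6 D149150))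
theorem F328992 : act 1 n30223 = n47445 := (sb E92989 (iv0 D102202))
theorem F328993 : act 0 n30222 = n47445 := (sb E92990 (iv1 D102203))
theorem F328994 : act 3 n52114 = n47445 := (sb E92991 (iv3 D102204))
theorem E93368 : n112906 = n47448 := (((iv4 F175826)).symm.trans (sb E92991 F157077))
theorem F328995 : act 5 n25837 = n47445 := (sb E92992 (iv5 D102205))
theorem F328996 : act 4 n30229 = n47447 := (sb E92993 F157078)
theorem F328997 : act 6 n30229 = n47445 := (sb E92993 (iv6 D102206))
theorem F328998 : act 4 n25836 = n46607 := (sb E92994 (iv4 D99788))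
theorem F328999 : act 7 n25836 = n47445 := (sb E92994 F153617)
theorem F329000 : act 1 n30309 = n47447 := (sb E92995 (iv0 D102209))
theorem F329001 : act 1 n102210 = n63895 := (sb E92996 (iv0 D135880))
theorem F329002 : act 2 n102210 = n64143 := (sb E92996 (iv2 F218555))
theorem F329003 : act 4 n102210 = n107437 := (sb E92996 F218554)
theorem F329004 : act 6 n102210 = n64341 := (sb E92996 (iv6 F218558))
theorem F329005 : act 7 n102210 = n63925 := (sb E92996 F218557)
theorem E93369 : n144097 = n47449 := ((((iv4 F74640)).symm.trans (sb E92997 (iv4 F226810)))).symm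
theorem E93370 : n64141 = n47453 := (((D47453).symm.trans (sb E92997 (iv7 D136436)))).symm
theorem F329006 : act 7 n102211 = n64144 := (sb E92998 (iv7 D136446))
theorem F329007 : act 7 n30227 = n47447 := (sb E92999 (iv7 D102212))
theorem E93371 : n112904 = n46608 := (((D46608).symm.trans (sb E93000 F179830))).symm
theorem F329008 : act 0 n99081 = n64671 := (sb E93001 F179833)
theorem F329009 : act 1 n99081 = n64676 := (sb E93001 F179834)
theorem F329010 : act 2 n99081 = n64128 := (sb E93001 F179832)
theorem F329011 : act 3 n29368 = n46609 := (sb E93002 F153618)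
theorem F329012 : act 6 n29368 = n46607 := (sb E93002 (iv6 D99789))
theorem F329013 : act 3 n22324 = n30429 := (sb E93003 F100562)
theorem E93372 : n137499 = n46598 := (((D46598).symm.trans (sb E93003 (iv4 F220690)))).symm
theorem E93373 : n136045 = n46599 := (((D46599).symm.trans (sb E93003 (iv6 F218917)))).symm
theorem E93374 : n89437 = n59851 := ((((iv5 F328463)).symm.trans (sb E93005 F153561))).symm
theorem E93375 : n136075 = n89166 := ((D136075).symm.trans (sb E93006 (iv0 F290132)))
theorem F329014 : act 5 n63990 = n47408 := (sb E93006 (iv5 D102074))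
theorem F329015 : act 6 n101035 = n64381 := (sb E93007 (iv6 D136983))
theorem F329016 : act 2 n137214 = n164570 := (sb E93010 (iv2 F259422))
theorem F329017 : act 5 n137214 = n68725 := (sb E93010 (iv5 D146657))
theorem F329018 : act 5 n54146 = n64589 := (sb E93011 (iv5 D137423))
theorem F329019 : act 0 n62566 = n71670 := (sb E93017 (iv1 F229850))
theorem F329020 : act 1 n62566 = n68687 := (sb E93017 (iv0 D146534))
theorem E93376 : n148032 = n133316 := (((D133316).symm.trans (sb E93017 (iv5 F278401)))).symm
theorem E93377 : n163652 = n35730 := ((((iv1 D78397)).symm.trans (sb E93018 (iv1 F262279)))).symm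
theorem E93379 : n163654 = n163038 := ((((iv2 F257392)).symm.trans (sb E93018 F262276))).symm
theorem F329021 : act 6 n78397 = n59164 := (sb E93018 (iv6 F328345))
theorem E93380 : n163033 = n79983 := ((F257391).symm.trans (sb E93018 (iv7 D166647)))
theorem F329022 : act 1 n162958 = n78573 := (sb E93019 (iv0 D163506))
theorem F329023 : act 0 n86189 = n78573 := (sb E93020 (iv1 D163507))
theorem F329024 : act 4 n125583 = n78573 := (sb E93021 F257786)
theorem F329025 : act 6 n125583 = n78571 := (sb E93021 (iv6 D163505))
theorem F329026 : act 0 n84854 = n39265 := (sb E93022 (iv1 F130070))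
theorem F329027 : act 1 n84854 = n39263 := (sb E93022 (iv0 D84864))
theorem F329028 : act 6 n84854 = n112566 := (sb E93022 (iv6 F321453))
theorem F329029 : act 0 n93340 = n55224 := (sb E93023 (iv1 D120003))
theorem F329030 : act 1 n93340 = n74035 := (sb E93023 F189451)
theorem F329031 : act 0 n41125 = n74035 := (sb E93024 (iv1 F189447))
theorem F329032 : act 1 n41125 = n55224 := (sb E93024 (iv0 D120002))
theorem E93384 : n116902 = n88070 := (((D88070).symm.trans (sb E93024 (iv3 F323700)))).symm
theorem F329033 : act 7 n41125 = n74033 := (sb E93024 F325774)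
theorem E93385 : n184344 = n74050 := (((F189409).symm.trans (sb E93025 F286692))).symm
theorem F329034 : act 4 n155631 = n104148 := (sb E93026 F286697)
theorem F329035 : act 1 n87922 = n74033 := (sb E93027 F189450)
theorem F329036 : act 2 n87922 = n55224 := (sb E93027 (iv2 D120004))
theorem F329037 : act 7 n87922 = n74035 := (sb E93027 F189449)
theorem F329038 : act 2 n93340 = n74033 := (sb E93028 (iv2 D155622))
theorem E93386 : n88050 = n51103 := (((iv3 F135050)).symm.trans (sb E93030 F171681))
theorem F329039 : act 4 n41126 = n74033 := (sb E93030 F325775)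
theorem E93387 : n88073 = n51101 := ((D88073).symm.trans (sb E93030 (iv6 D110838)))
theorem F329040 : act 3 n97343 = n126628 := (sb E93031 (iv3 F324661))
theorem F329041 : act 5 n97343 = n74033 := (sb E93031 (iv5 D155624))
theorem F329042 : act 2 n101218 = n126744 := (sb E93033 (iv2 F324659))
theorem F329043 : act 2 n120005 = n184346 := (sb E93038 F286702)
theorem F329044 : act 4 n120005 = n104149 := (sb E93038 F286703)
theorem F329045 : act 2 n63236 = n88538 := (sb E93039 (iv2 D185896))
theorem F329046 : act 0 n63233 = n88538 := (sb E93040 (iv1 D185895))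
theorem F329047 : act 1 n63234 = n88538 := (sb E93041 (iv0 D185894))
theorem F329048 : act 3 n10766 = n14451 := (sb E93044 F48851)
theorem E93391 : n64629 = n22778 := (((D22778).symm.trans (sb E93044 (iv4 F100550)))).symm
theorem E93392 : n22779 = n14449 := ((D22779).symm.trans (sb E93044 (iv6 D30424)))
theorem E93393 : n99781 = n64627 := ((D99781).symm.trans (sb E93045 (iv6 D137491)))
theorem E93395 : n99783 = n63964 := (((F99528).symm.trans (sb E93047 D99783))).symm
theorem E93396 : n96141 = n64654 := (((D64654).symm.trans (sb E93047 (iv5 F147802)))).symm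
theorem F329049 : act 6 n30422 = n22328 := (sb E93047 (iv6 D46606))
theorem E93397 : n99784 = n63966 := ((((iv7 F99530)).symm.trans (sb E93047 D99784))).symm
theorem E93416 : n101990 = n64577 := ((D101990).symm.trans (sb E93053 (iv1 F220567)))
theorem E93417 : n101991 = n64576 := ((D101991).symm.trans (sb E93053 F220568))
theorem F329050 : act 2 n47375 = n64579 := (sb E93053 F220565)
theorem E93418 : n101993 = n64571 := ((D101993).symm.trans (sb E93053 (iv7 D137367)))
theorem E93419 : n137793 = n135480 := (((iv2 F221035)).symm.trans (sb E93054 (iv2 F217852)))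
theorem F329051 : act 5 n64769 = n63415 := (sb E93054 (iv5 D134932))
theorem E93420 : n115151 = n69686 := ((D115151).symm.trans (sb E93055 F233434))
theorem E93421 : n115152 = n69681 := ((D115152).symm.trans (sb E93055 (iv0 D148679)))
theorem E93422 : n113943 = n106818 := ((D113943).symm.trans (sb E93056 (iv1 F164631)))
theorem E93423 : n113944 = n49348 := ((D113944).symm.trans (sb E93056 F103576))
theorem E93424 : n113942 = n62000 := (((iv2 F177297)).symm.trans (sb E93056 F103571))
theorem F329052 : act 4 n52601 = n28803 := (sb E93056 (iv4 D60691))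
theorem E93425 : n129099 = n113945 := (((D113945).symm.trans (sb E93056 D129099))).symm
theorem F329053 : act 7 n52601 = n62004 := (sb E93056 (iv7 F103574))
theorem E93426 : n126448 = n123643 := (((D123643).symm.trans (sb E93057 (iv3 F203263)))).symm
theorem E93427 : n123644 = n29939 := ((D123644).symm.trans (sb E93057 (iv5 D63366)))
theorem E93428 : n123635 = n29940 := (((iv6 F198034)).symm.trans (sb E93057 F98675))
theorem F329054 : act 4 n81806 = n62994 := (sb E93058 (iv4 D134103))
theorem E93429 : n170662 = n134881 := (((iv6 F268128)).symm.trans (sb E93058 (iv6 F217082)))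
theorem F329055 : act 0 n62683 = n30959 := (sb E93059 (iv1 D66259))
theorem E93433 : n141328 = n133570 := ((D141328).symm.trans (sb E93060 F214869))
theorem E93434 : n141329 = n134968 := ((D141329).symm.trans (sb E93060 (iv0 F217183)))
theorem E93435 : n134967 = n64961 := (((iv2 F217180)).symm.trans (sb E93060 F111671))
theorem E93436 : n156466 = n138114 := (((E93076).symm.trans (((iv3 F224342)).symm.trans (sb E93060 (iv3 F245992))))).symm
theorem E93437 : n141330 = n67614 := ((D141330).symm.trans (sb E93060 F111672))
theorem E93438 : n141331 = n34133 := ((D141331).symm.trans (sb E93060 (iv6 D74409)))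
theorem F329056 : act 4 n123074 = n62993 := (sb E93061 (iv4 D134102))
theorem F329057 : act 6 n123074 = n134460 := (sb E93061 (iv6 F216418))
theorem E93439 : n62955 = n57623 := ((((iv6 F90770)).symm.trans (sb E93062 (iv6 D134021)))).symm
theorem F329058 : act 4 n123068 = n132383 := (sb E93063 F216156)
theorem F329059 : act 6 n123068 = n62996 := (sb E93063 (iv6 D134107))
theorem F329060 : act 0 n61837 = n123444 := (sb E93064 (iv1 F198046))
theorem F329061 : act 1 n61837 = n123448 := (sb E93064 (iv0 F197828))
theorem F329062 : act 2 n61837 = n57637 := (sb E93064 F197261)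
theorem F329063 : act 4 n61837 = n57273 := (sb E93064 (iv4 D123075))
theorem E93440 : n62997 = n57270 := ((D62997).symm.trans (sb E93065 (iv5 D123072)))
theorem F329064 : act 6 n29803 = n57273 := (sb E93065 F197250)
theorem F329065 : act 4 n122299 = n131787 := (sb E93066 F216158)
theorem F329066 : act 6 n122299 = n134768 := (sb E93066 F216843)
theorem F329067 : act 2 n123645 = n131787 := (sb E93067 F217008)
theorem F329068 : act 3 n123645 = n131870 := (sb E93067 F217009)
theorem F329069 : act 5 n123645 = n63367 := (sb E93067 F217010)
theorem F329070 : act 6 n123645 = n108511 := (sb E93067 F217011)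
theorem E93441 : n171043 = n134958 := (((D134958).symm.trans (sb E93068 F304181))).symm
theorem F329071 : act 6 n63425 = n57638 := (sb E93068 (iv6 D123646))
theorem F329072 : act 6 n98101 = n63441 := (sb E93071 (iv6 D134999))
theorem F329073 : act 4 n108539 = n58483 := (sb E93072 (iv4 D125102))
theorem F329074 : act 5 n108539 = n82017 := (sb E93072 F200983)
theorem F329075 : act 7 n108539 = n81845 := (sb E93072 F200982)
theorem F329076 : act 0 n117451 = n63130 := (sb E93074 (iv1 D134382))
theorem F329077 : act 1 n117451 = n63135 := (sb E93074 F216377)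
theorem F329078 : act 5 n117451 = n64007 := (sb E93074 F328668)
theorem F329079 : act 7 n117451 = n63131 := (sb E93074 F216378)
theorem F329080 : act 3 n138114 = n66298 := (sb E93076 F224342)
theorem F329081 : act 5 n138114 = n66297 := (sb E93076 (iv5 D141327))
theorem F329082 : act 5 n117465 = n64729 := (sb E93077 F328678)
theorem E93442 : n117467 = n29851 := ((D117467).symm.trans (sb E93079 (iv1 D63132)))
theorem E93443 : n134356 = n117468 := (((D117468).symm.trans (sb E93079 (iv0 F216357)))).symm
theorem E93444 : n117469 = n30454 := ((D117469).symm.trans (sb E93079 F328285))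
theorem E93445 : n134381 = n117470 := (((D117470).symm.trans (sb E93079 F216376))).symm
theorem E93446 : n130367 = n126888 := ((((iv2 F204144)).symm.trans (sb E93080 F215590))).symm
theorem F329083 : act 5 n59550 = n62881 := (sb E93080 (iv5 D133866))
theorem F329084 : act 0 n51664 = n95486 := (sb E93081 F287713)
theorem E93447 : n112027 = n88343 := ((D112027).symm.trans (sb E93081 (iv5 D185450)))
theorem F329085 : act 2 n48454 = n79856 := (sb E93082 F261879)
theorem F329086 : act 4 n45013 = n79856 := (sb E93083 (iv4 D166300))
theorem F329087 : act 5 n89256 = n79856 := (sb E93084 (iv5 D166301))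
theorem F329088 : act 7 n89255 = n79856 := (sb E93085 (iv7 F261878))
theorem E93448 : n174615 = n48399 := (((F160353).symm.trans (sb E93086 F273472))).symm
theorem E93449 : n98136 = n96111 := ((((iv2 F147760)).symm.trans (sb E93090 F249063))).symm
theorem E93450 : n96115 = n88683 := ((D96115).symm.trans (sb E93090 F249064))
theorem F329089 : act 6 n44853 = n75310 := (sb E93090 (iv6 D158124))
theorem E93451 : n183926 = n84023 := ((D183926).symm.trans (sb E93091 F270704))
theorem E93452 : n183927 = n84014 := ((D183927).symm.trans (sb E93091 F270705))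
theorem F329090 : act 4 n87744 = n82590 := (sb E93091 (iv4 D172511))
theorem F329091 : act 3 n47585 = n83156 := (sb E93092 (iv3 D173891))
theorem F329092 : act 0 n134321 = n151568 := (sb E93093 (iv1 F252353))
theorem F329093 : act 1 n134321 = n151563 := (sb E93093 F252355)
theorem F329094 : act 2 n134321 = n151593 := (sb E93093 F252347)
theorem F329095 : act 4 n134321 = n76600 := (sb E93093 F252349)
theorem F329096 : act 6 n134321 = n123230 := (sb E93093 F252350)
theorem F329097 : act 7 n134321 = n76596 := (sb E93093 (iv7 D159977))
theorem F329098 : act 0 n51306 = n57584 := (sb E93094 (iv1 F197215))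
theorem F329099 : act 1 n51306 = n57260 := (sb E93094 (iv0 D123052))
theorem F329100 : act 0 n51303 = n57260 := (sb E93095 (iv1 D123053))
theorem F329101 : act 1 n51303 = n57584 := (sb E93095 F197209)
theorem E93453 : n154221 = n50243 := (((F80939).symm.trans (sb E93095 (iv4 F242334)))).symm
theorem F329102 : act 5 n114098 = n74404 := (sb E93096 (iv5 D156456))
theorem F329103 : act 7 n114098 = n138276 := (sb E93096 F245970)
theorem F329104 : act 5 n34131 = n57260 := (sb E93097 (iv5 D123054))
theorem F329105 : act 2 n64953 = n57584 := (sb E93099 F197212)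
theorem E93454 : n138278 = n57624 := ((D138278).symm.trans (sb E93099 F197214))
theorem F329106 : act 7 n64953 = n57260 := (sb E93099 (iv7 D123055))
theorem F329107 : act 6 n57373 = n63103 := (sb E93100 (iv6 D134322))
theorem F329108 : act 4 n57635 = n62525 := (sb E93101 (iv4 D133239))
theorem E93455 : n135214 = n123638 := (((D123638).symm.trans (sb E93101 (iv6 F217396)))).symm
theorem F329109 : act 4 n57636 = n62526 := (sb E93102 (iv4 D133241))
theorem E93456 : n130729 = n123640 := (((D123640).symm.trans (sb E93102 F214092))).symm
theorem F329110 : act 5 n122714 = n63104 := (sb E93103 (iv5 D134325))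
theorem F329111 : act 6 n122714 = n63107 := (sb E93103 F216333)
theorem E93457 : n123671 = n63057 := ((((iv3 F98370)).symm.trans (sb E93106 (iv3 F252354)))).symm
theorem E93458 : n123878 = n11835 := ((((iv1 D24931)).symm.trans (sb E93107 F198323))).symm
theorem F329112 : act 5 n111164 = n98072 := (sb E93108 (iv5 F298999))
theorem F329113 : act 5 n64957 = n57576 := (sb E93114 (iv5 D123537))
theorem E93459 : n115980 = n57579 := (((iv6 F180588)).symm.trans (sb E93114 F197966))
theorem F329114 : act 5 n123538 = n63434 := (sb E93115 (iv5 D134977))
theorem F329115 : act 2 n27524 = n51448 := (sb E93119 F84371)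
theorem F329116 : act 4 n27524 = n25903 := (sb E93119 (iv4 D53470))
theorem F329117 : act 6 n27524 = n30518 := (sb E93119 F84372)
theorem F329118 : act 5 n29969 = n57584 := (sb E93120 F197976)
theorem E93461 : n157846 = n34571 := ((D157846).symm.trans (sb E93122 (iv1 D75574)))
theorem E93462 : n157847 = n45930 := ((D157847).symm.trans (sb E93122 F113420))
theorem F329119 : act 2 n75197 = n45928 := (sb E93122 F118941)
theorem E93463 : n158429 = n157842 := ((((iv3 F248747)).symm.trans (sb E93122 D158429))).symm
theorem E93464 : n158340 = n157845 := ((((iv4 F248749)).symm.trans (sb E93122 (iv4 F249476)))).symm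
theorem F329120 : act 5 n75197 = n38334 := (sb E93122 (iv5 F118805))
theorem E93465 : n157849 = n45927 := ((D157849).symm.trans (sb E93122 (iv7 F118945)))
theorem F329121 : act 5 n134080 = n170251 := (sb E93123 F281482)
theorem F329122 : act 6 n134080 = n86361 := (sb E93123 (iv6 D180816))
theorem F329123 : act 1 n60649 = n52280 := (sb E93124 (iv0 D113270))
theorem F329124 : act 1 n57742 = n51381 := (sb E93125 (iv0 D111414))
theorem F329125 : act 0 n57756 = n51381 := (sb E93126 (iv1 D111415))
theorem F329126 : act 0 n111276 = n123139 := (sb E93127 F198494)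
theorem F329127 : act 1 n111276 = n123146 := (sb E93127 F198495)
theorem F329128 : act 7 n111276 = n122396 := (sb E93127 (iv7 F301675))
theorem F329129 : act 4 n76081 = n51381 := (sb E93128 F171819)
theorem E93466 : n159143 = n51139 := ((D159143).symm.trans (sb E93128 (iv6 D110907)))
theorem F329130 : act 7 n82027 = n51381 := (sb E93129 (iv7 D111417))
theorem F329131 : act 0 n123673 = n62958 := (sb E93130 (iv1 D134028))
theorem F329132 : act 1 n123673 = n63004 := (sb E93130 F216000)
theorem F329133 : act 4 n123673 = n128710 := (sb E93130 (iv4 F215995))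
theorem F329134 : act 2 n89248 = n63005 := (sb E93131 F216170)
theorem F329135 : act 5 n89248 = n63004 := (sb E93131 (iv5 D134128))
theorem F329136 : act 3 n87110 = n63008 := (sb E93132 F216172)
theorem F329137 : act 6 n87110 = n63005 := (sb E93132 (iv6 D134133))
theorem F329138 : act 5 n63891 = n68454 := (sb E93133 (iv5 D146016))
theorem F329139 : act 4 n52600 = n51208 := (sb E93134 (iv4 D111038))
theorem E93467 : n113934 = n106825 := ((D113934).symm.trans (sb E93135 F211435))
theorem E93468 : n113935 = n112691 := ((D113935).symm.trans (sb E93135 (tr (iv5 F211437) E93200)))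
theorem E93469 : n113936 = n61916 := ((D113936).symm.trans (sb E93135 (iv6 D131964)))
theorem E93470 : n113937 = n105258 := ((D113937).symm.trans (sb E93135 (tr F211436 E93136)))
theorem F329140 : act 4 n105258 = n107215 := (sb E93136 F207131)
theorem F329141 : act 6 n105258 = n60617 := (sb E93136 (iv6 D128897))
theorem F329142 : act 4 n105257 = n59635 := (sb E93137 (iv4 D127082))
theorem F329143 : act 6 n82906 = n86087 := (sb E93138 (iv6 D180185))
theorem E93471 : n125402 = n83513 := (((iv2 F256548)).symm.trans (sb E93139 F273663))
theorem F329144 : act 5 n75192 = n83496 := (sb E93139 (iv5 D174765))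
theorem E93472 : n157837 = n83518 := ((D157837).symm.trans (sb E93139 F273664))
theorem F329145 : act 3 n125693 = n82593 := (sb E93140 (iv3 D172518))
theorem F329146 : act 2 n86101 = n163730 := (sb E93141 (iv2 F258090))
theorem E93473 : n180234 = n163775 := ((D180234).symm.trans (sb E93141 (iv6 F258133)))
theorem F329147 : act 7 n86101 = n55925 := (sb E93141 (iv7 D121223))
theorem F329148 : act 0 n66205 = n30971 := (sb E93142 (iv1 D66296))
theorem F329149 : act 1 n66205 = n133567 := (sb E93142 (iv0 F214859))
theorem F329150 : act 4 n66205 = n108415 := (sb E93142 (iv4 F167612))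
theorem E93476 : n141144 = n128664 := (((iv6 F224113)).symm.trans (sb E93142 (iv6 F206965)))
theorem F329151 : act 7 n66205 = n108413 := (sb E93142 F167610)
theorem F329152 : act 1 n63429 = n30959 := (sb E93143 (iv0 D66258))
theorem E93477 : n141270 = n134966 := (((D134966).symm.trans (sb E93143 D141270))).symm
theorem E93480 : n141248 = n108799 := ((D141248).symm.trans (sb E93144 (iv1 F209385)))
theorem E93481 : n141249 = n61373 := ((D141249).symm.trans (sb E93144 (iv0 D130830)))
theorem F329153 : act 4 n66247 = n108411 := (sb E93144 F209383)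
theorem E93482 : n141251 = n108408 := ((D141251).symm.trans (sb E93144 F209386))
theorem E93483 : n141287 = n63332 := (((F98594).symm.trans (sb E93145 (iv1 F224307)))).symm
theorem E93484 : n133998 = n63428 := (((F98752).symm.trans (sb E93145 F221485))).symm
theorem E93485 : n134972 = n63426 := ((((iv2 F98749)).symm.trans (sb E93145 F221484))).symm
theorem E93486 : n134117 = n64954 := ((D134117).symm.trans (sb E93145 (iv5 D138281)))
theorem F329154 : act 5 n67973 = n53561 := (sb E93146 (iv5 D116215))
theorem F329155 : act 5 n117533 = n64607 := (sb E93147 (iv5 D137455))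
theorem F329156 : act 5 n117489 = n63980 := (sb E93150 (iv5 D136060))
theorem F329157 : act 5 n117531 = n64617 := (sb E93151 (iv5 D137467))
theorem F329158 : act 5 n117442 = n64006 := (sb E93154 (iv5 D136107))
theorem F329159 : act 5 n117463 = n64721 := (sb E93157 (iv5 D137683))
theorem F329160 : act 0 n117431 = n64823 := (sb E93160 F227114)
theorem F329161 : act 5 n117431 = n137239 := (sb E93160 F221002)
theorem F329162 : act 0 n31615 = n64600 := (sb E93161 (iv1 D137447))
theorem F329163 : act 5 n117433 = n137243 := (sb E93162 F221003)
theorem F329164 : act 3 n59870 = n64600 := (sb E93166 (iv3 D137448))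
theorem F329165 : act 5 n52548 = n64600 := (sb E93167 (iv5 D137449))
theorem F329166 : act 2 n137418 = n113810 := (sb E93168 F227907)
theorem F329167 : act 3 n137418 = n127471 := (sb E93168 F227908)
theorem F329168 : act 5 n137418 = n160201 := (sb E93168 (iv5 F252887))
theorem F329169 : act 3 n76390 = n53159 := (sb E93169 (iv3 D115220))
theorem F329170 : act 5 n76390 = n107623 := (sb E93169 F179427)
theorem F329171 : act 0 n133534 = n67904 := (sb E93170 (iv1 D144868))
theorem F329172 : act 5 n133534 = n151524 := (sb E93170 (iv5 F238391))
theorem E93487 : n146773 = n30097 := (((F83861).symm.trans (sb E93175 F259363))).symm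
theorem F329173 : act 1 n113136 = n79025 := (sb E93180 (iv0 D164533))
theorem F329174 : act 0 n50102 = n79025 := (sb E93181 (iv1 D164534))
theorem E93488 : n128108 = n85431 := ((((iv3 F318485)).symm.trans (sb E93182 F259353))).symm
theorem F329175 : act 5 n49706 = n79025 := (sb E93182 (iv5 D164535))
theorem E93489 : n128100 = n105608 := ((((iv6 F162217)).symm.trans (sb E93182 F259354))).symm
theorem E93490 : n128109 = n107658 := ((((iv3 F166279)).symm.trans (sb E93183 F259356))).symm
theorem E93491 : n152460 = n107660 := (((D107660).symm.trans (sb E93183 F259358))).symm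
theorem F329176 : act 7 n49737 = n79025 := (sb E93183 (iv7 D164536))
theorem F329177 : act 0 n115221 = n79006 := (sb E93184 (iv1 F192338))
theorem F329178 : act 1 n115221 = n79005 := (sb E93184 F192339)
theorem F329179 : act 2 n115221 = n79007 := (sb E93184 F192334)
theorem F329180 : act 3 n115221 = n71451 := (sb E93184 F192335)
theorem F329181 : act 7 n115221 = n55614 := (sb E93184 (iv7 D120662))
theorem F329182 : act 1 n135624 = n68442 := (sb E93185 (iv0 D145971))
theorem F329183 : act 0 n63860 = n68442 := (sb E93186 (iv1 D145972))
theorem F329184 : act 2 n135621 = n68442 := (sb E93187 F229070)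
theorem F329185 : act 4 n135621 = n117190 := (sb E93187 F229071)
theorem F329186 : act 6 n135621 = n68413 := (sb E93187 (iv6 D145899))
theorem F329187 : act 7 n135622 = n68442 := (sb E93188 (iv7 D145974))
theorem F329188 : act 4 n61330 = n68445 := (sb E93189 (iv4 D145987))
theorem E93492 : n135536 = n114669 := ((((iv2 F178784)).symm.trans (sb E93190 (iv2 F217963)))).symm
theorem E93493 : n114767 = n62522 := ((D114767).symm.trans (sb E93190 F214074))
theorem E93494 : n114768 = n62521 := ((D114768).symm.trans (sb E93190 (iv6 D133233)))
theorem F329189 : act 2 n64866 = n66250 := (sb E93191 (iv2 D141254))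
theorem E93495 : n137983 = n66252 := ((D137983).symm.trans (sb E93192 F224282))
theorem F329190 : act 5 n64851 = n66250 := (sb E93192 (iv5 D141255))
theorem E93496 : n143484 = n66204 := ((D143484).symm.trans (sb E93193 F220631))
theorem F329191 : act 7 n67208 = n66250 := (sb E93193 F220632)
theorem F329192 : act 3 n67209 = n64597 := (sb E93197 F220634)
theorem F329193 : act 6 n54191 = n64388 := (sb E93198 (iv6 D137001))
theorem F329194 : act 0 n68927 = n64586 := (sb E93199 (iv1 D137417))
theorem F329195 : act 5 n112693 = n60482 := (sb E93202 (iv5 D128596))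
theorem F329196 : act 5 n112688 = n60567 := (sb E93204 (iv5 D128788))
theorem F329197 : act 2 n41832 = n71093 := (sb E93205 F237316)
theorem F329198 : act 3 n73356 = n46441 := (sb E93206 (iv3 D99324))
theorem F329199 : act 3 n92927 = n60157 := (sb E93207 (iv3 D128024))
theorem F329200 : act 3 n22421 = n30667 := (sb E93208 F101090)
theorem E93499 : n106866 = n46771 := ((((iv4 F73885)).symm.trans (sb E93208 (iv4 F164694)))).symm
theorem E93501 : n46772 = n30665 := ((D46772).symm.trans (sb E93208 (iv6 D65395)))
theorem E93502 : n139323 = n46924 := ((D139323).symm.trans (sb E93209 F294171))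
theorem F329201 : act 6 n65393 = n43527 := (sb E93209 (iv6 D93031))
theorem F329202 : act 5 n71091 = n46429 := (sb E93210 (iv5 D99296))
theorem E93503 : n74060 = n48194 := (((D48194).symm.trans (sb E93211 (iv5 D155677)))).symm
theorem E93504 : n150762 = n92602 := (((D92602).symm.trans (sb E93212 F244712))).symm
theorem F329203 : act 5 n33988 = n46430 := (sb E93213 (iv5 D99298))
theorem F329204 : act 4 n65885 = n46740 := (sb E93215 F154058)
theorem E93505 : n140373 = n46739 := ((D140373).symm.trans (sb E93215 (iv7 D100137)))
theorem F329205 : act 6 n51407 = n46740 := (sb E93216 (iv6 D100138))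
theorem E93506 : n122997 = n34173 := ((D122997).symm.trans (sb E93217 F100762))
theorem E93507 : n122998 = n51266 := ((D122998).symm.trans (sb E93217 F100763))
theorem E93508 : n138297 = n122992 := ((((iv3 F197047)).symm.trans (sb E93217 (iv3 F221500)))).symm
theorem F329206 : act 5 n57218 = n30520 := (sb E93217 (iv5 D64963))
theorem E93510 : n123000 = n65090 := ((D123000).symm.trans (sb E93217 (iv7 F100882)))
theorem F329207 : act 5 n156460 = n76552 := (sb E93218 (iv5 D159908))
theorem F329208 : act 6 n156460 = n123225 := (sb E93218 F252172)
theorem F329209 : act 5 n57362 = n74406 := (sb E93219 F221794)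
theorem E93511 : n138291 = n123230 := (((D123230).symm.trans (sb E93219 F221795))).symm
theorem F329210 : act 1 n51112 = n27524 := (sb E93220 (iv0 D57595))
theorem E93513 : n110851 = n56703 := ((D110851).symm.trans (sb E93220 F299253))
theorem E93516 : n184681 = n59509 := ((((iv4 F93933)).symm.trans (sb E93222 (iv4 F286681)))).symm
theorem E93517 : n184658 = n53870 := ((((iv6 F101933)).symm.trans (sb E93222 (iv6 F286640)))).symm
theorem F329211 : act 4 n37544 = n59494 := (sb E93223 F180579)
theorem E93518 : n65506 = n41107 := ((((iv6 F62337)).symm.trans (sb E93223 (iv6 F180583)))).symm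
theorem F329212 : act 1 n51298 = n27464 := (sb E93227 (iv0 D57370))
theorem E93525 : n111219 = n82039 := ((D111219).symm.trans (sb E93227 F306622))
theorem F329213 : act 0 n30567 = n27464 := (sb E93228 (iv1 D57371))
theorem E93531 : n57621 = n29829 := ((D57621).symm.trans (sb E93229 (iv1 D63060)))
theorem E93532 : n57622 = n29837 := ((D57622).symm.trans (sb E93229 F98376))
theorem E93533 : n134240 = n57616 := ((((iv3 F90766)).symm.trans (sb E93229 D134240))).symm
theorem F329214 : act 5 n57373 = n30519 := (sb E93231 (iv5 D64960))
theorem F329215 : act 0 n53468 = n37544 := (sb E93234 (iv1 D81982))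
theorem F329216 : act 2 n53468 = n57598 := (sb E93234 F301680)
theorem E93537 : n171041 = n115977 := (((D115977).symm.trans (sb E93234 D171041))).symm
theorem E93538 : n115978 = n57264 := ((D115978).symm.trans (sb E93234 F301681))
theorem E93539 : n134958 = n115979 := (((D115979).symm.trans (sb E93234 (tr D171043 E93441)))).symm
theorem E93540 : n88048 = n30703 := (((D30703).symm.trans (sb E93236 F286608))).symm
theorem E93541 : n106870 = n46769 := (((iv4 F164702)).symm.trans (sb E93237 F153968))
theorem E93542 : n139562 = n47080 := ((D139562).symm.trans (sb E93240 F286644))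
theorem E93543 : n183023 = n139564 := (((D139564).symm.trans (sb E93240 (iv5 F284651)))).symm
theorem E93544 : n111221 = n82040 := (((iv0 F172494)).symm.trans (sb E93242 (iv0 F268929)))
theorem F329217 : act 7 n65489 = n88927 := (sb E93242 F153967)
theorem F329218 : act 2 n65485 = n88927 := (sb E93246 F295317)
theorem E93545 : n139559 = n46039 := ((D139559).symm.trans (sb E93246 F295318))
theorem E93546 : n139560 = n43578 := ((D139560).symm.trans (sb E93246 (iv6 D93135)))
theorem F329219 : act 0 n22396 = n30699 := (sb E93248 (iv1 D65492))
theorem E93547 : n139572 = n46701 := (((D46701).symm.trans (sb E93248 D139572))).symm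
theorem E93549 : n74522 = n46703 := (((D46703).symm.trans (sb E93248 (iv5 F171605)))).symm
theorem F329220 : act 1 n22397 = n30699 := (sb E93249 (iv0 D65491))
theorem E93551 : n139569 = n46706 := (((D46706).symm.trans (sb E93249 D139569))).symm
theorem E93553 : n74521 = n46708 := (((D46708).symm.trans (sb E93249 (iv5 F171601)))).symm
theorem F329221 : act 2 n22399 = n30699 := (sb E93250 F101093)
theorem E93555 : n139343 = n42755 := ((((iv4 F66991)).symm.trans (sb E93250 D139343))).symm
theorem F329222 : act 5 n22399 = n30667 := (sb E93250 (iv5 D65399))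
theorem E93556 : n139335 = n42551 := ((((iv6 F294347)).symm.trans (sb E93250 (iv6 F222521)))).symm
theorem F329223 : act 0 n59492 = n57598 := (sb E93252 F301683)
theorem E93557 : n126777 = n73102 := (((iv3 F204028)).symm.trans (sb E93252 (iv3 F304420)))
theorem E93558 : n126779 = n37545 := ((D126779).symm.trans (sb E93252 F126396))
theorem F329224 : act 7 n59492 = n37544 := (sb E93252 (iv7 D81984))
theorem F329225 : act 0 n56702 = n51448 := (sb E93253 (iv1 F171709))
theorem F329226 : act 4 n56702 = n51115 := (sb E93253 F171708)
theorem E93560 : n139345 = n88036 := ((((iv6 F135040)).symm.trans (sb E93253 F222554))).symm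
theorem F329227 : act 7 n56702 = n51112 := (sb E93253 (iv7 D110852))
theorem F329228 : act 5 n111545 = n57259 := (sb E93254 (iv5 D123050))
theorem F329229 : act 5 n27425 = n51448 := (sb E93255 (iv5 D111546))
theorem F329230 : act 0 n123576 = n138280 := (sb E93256 (iv1 F221483))
theorem F329231 : act 1 n123576 = n138279 := (sb E93256 F221482)
theorem F329232 : act 2 n123576 = n115979 := (sb E93256 F217190)
theorem F329233 : act 4 n123576 = n63433 := (sb E93256 F217191)
theorem F329234 : act 7 n123576 = n63432 := (sb E93256 (iv7 D134973))
theorem E93561 : n115963 = n27599 := ((D115963).symm.trans (sb E93257 (iv1 D57821)))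
theorem E93562 : n115964 = n27618 := ((D115964).symm.trans (sb E93257 F90979))
theorem F329235 : act 2 n53463 = n76081 := (sb E93257 F301676)
theorem F329236 : act 5 n53463 = n55566 := (sb E93257 F301677)
theorem E93565 : n115966 = n56719 := ((D115966).symm.trans (sb E93257 F301678))
theorem F329237 : act 1 n74523 = n88927 := (sb E93258 F277426)
theorem E93566 : n100005 = n34174 := ((((iv5 D74523)).symm.trans (sb E93258 (iv5 F268502)))).symm
theorem E93567 : n156706 = n81930 := (((iv6 F246489)).symm.trans (sb E93258 (iv6 D170921)))
theorem E93568 : n171198 = n51299 := (((F171640).symm.trans (sb E93259 F268936))).symm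
theorem F329238 : act 5 n66253 = n46692 := (sb E93259 (iv5 D99976))
theorem F329239 : act 0 n99978 = n74524 := (sb E93260 (iv1 F172492))
theorem F329240 : act 4 n99978 = n67604 := (sb E93260 F172489)
theorem F329241 : act 6 n99978 = n141269 := (sb E93260 (iv6 F224291))
theorem E93569 : n139575 = n46643 := ((D139575).symm.trans (sb E93261 (iv1 F126432)))
theorem E93570 : n139576 = n46642 := ((D139576).symm.trans (sb E93261 F126437))
theorem E93571 : n139577 = n87970 := ((D139577).symm.trans (sb E93261 (iv3 F134957)))
theorem E93572 : n171109 = n139578 := (((D139578).symm.trans (sb E93261 (iv5 F268839)))).symm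
theorem E93573 : n139552 = n88037 := (((iv6 F222707)).symm.trans (sb E93261 (iv6 F135043)))
theorem F329242 : act 7 n65493 = n37569 := (sb E93261 (iv7 D82009))
theorem E93574 : n139550 = n46459 := ((D139550).symm.trans (sb E93262 (iv1 F129916)))
theorem E93575 : n139551 = n46458 := ((D139551).symm.trans (sb E93262 F129917))
theorem F329243 : act 3 n65480 = n46858 := (sb E93262 F129913)
theorem E93576 : n177845 = n30696 := ((((iv5 D65480)).symm.trans (sb E93262 (iv5 F277383)))).symm
theorem E93577 : n139553 = n39114 := ((D139553).symm.trans (sb E93262 (iv7 D84677)))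
theorem F329244 : act 7 n162825 = n87920 := (sb E93263 (iv7 D184339))
theorem F329245 : act 0 n93058 = n89571 := (sb E93264 (iv1 F328866))
theorem F329246 : act 1 n93058 = n89570 := (sb E93264 (iv0 F328861))
theorem E93578 : n151538 = n100684 := ((((iv4 F154796)).symm.trans (sb E93264 (iv4 F238419)))).symm
theorem F329247 : act 5 n93058 = n54499 := (sb E93264 (iv5 D118331))
theorem F329248 : act 7 n93058 = n71093 := (sb E93264 F185939)
theorem E93579 : n100685 = n71084 := ((D100685).symm.trans (sb E93265 (iv5 D150767)))
theorem E93580 : n155672 = n43545 := ((D155672).symm.trans (sb E93266 F143540))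
theorem F329249 : act 5 n74059 = n43544 := (sb E93266 (iv5 D93059))
theorem F329250 : act 6 n41830 = n71093 := (sb E93267 (iv6 D150793))
theorem E93581 : n155574 = n92889 := (((D92889).symm.trans (sb E93268 (iv1 F244593)))).symm
theorem E93582 : n152556 = n92772 := ((((iv0 F286267)).symm.trans (sb E93268 (iv0 F239742)))).symm
theorem E93583 : n119995 = n92891 := (((D92891).symm.trans (sb E93268 (iv2 F189435)))).symm
theorem E93584 : n92892 = n48746 := ((D92892).symm.trans (sb E93268 (iv4 D105423)))
theorem E93585 : n151365 = n92608 := ((((iv7 F142664)).symm.trans (sb E93268 (iv7 F238074)))).symm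
theorem E93586 : n150758 = n41837 := ((D150758).symm.trans (sb E93269 F137319))
theorem F329251 : act 5 n71081 = n41832 := (sb E93269 (iv5 D89572))
theorem F329252 : act 3 n41014 = n55236 := (sb E93271 (iv3 D120035))
theorem E93587 : n87908 = n55238 := ((D87908).symm.trans (sb E93271 F189583))
theorem E93588 : n141211 = n87909 := ((D141211).symm.trans (sb E93273 F286248))
theorem F329253 : act 0 n92680 = n159383 := (sb E93274 (iv1 F250944))
theorem F329254 : act 4 n92680 = n52860 := (sb E93274 (iv4 D114522))
theorem E93589 : n145232 = n90735 := (((F142825).symm.trans (sb E93274 (iv7 F228214)))).symm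
theorem E93590 : n139522 = n46877 := ((D139522).symm.trans (sb E93275 (iv1 F154439)))
theorem E93591 : n139523 = n46876 := ((D139523).symm.trans (sb E93275 F154444))
theorem E93592 : n139507 = n46879 := (((iv2 F222684)).symm.trans (sb E93275 F154436))
theorem F329255 : act 5 n65473 = n46858 := (sb E93275 F154437)
theorem E93593 : n139525 = n46857 := ((D139525).symm.trans (sb E93275 (iv7 D100401)))
theorem E93594 : n143530 = n63101 := (((iv4 F226237)).symm.trans (sb E93276 (iv4 D134315)))
theorem F329256 : act 0 n138620 = n70302 := (sb E93277 (iv1 D149687))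
theorem F329257 : act 3 n138620 = n117376 := (sb E93277 F243611)
theorem F329258 : act 7 n138620 = n73486 := (sb E93277 F235354)
theorem F329259 : act 3 n74520 = n73485 := (sb E93278 (iv3 D154927))
theorem E93595 : n138766 = n120543 := ((D138766).symm.trans (sb E93279 (iv1 F305543)))
theorem E93596 : n138767 = n120523 := ((D138767).symm.trans (sb E93279 (iv0 F305168)))
theorem F329260 : act 4 n65159 = n39685 := (sb E93279 (iv4 D85829))
theorem E93598 : n138768 = n122363 := ((D138768).symm.trans (sb E93279 (iv5 F195719)))
theorem E93599 : n138769 = n122341 := ((D138769).symm.trans (sb E93279 (iv7 F195647)))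
theorem E93600 : n127395 = n60649 := (((iv2 F204731)).symm.trans (sb E93280 F206907))
theorem F329261 : act 5 n113687 = n60494 := (sb E93280 (iv5 D128623))
theorem F329262 : act 5 n113691 = n60650 := (sb E93281 F207183)
theorem F329263 : act 1 n126284 = n60649 := (sb E93282 (iv0 D128970))
theorem F329264 : act 5 n126284 = n61874 := (sb E93282 F207181)
theorem F329265 : act 0 n30225 = n47439 := (sb E93293 (iv1 F153628))
theorem F329266 : act 1 n30225 = n47438 := (sb E93293 F153629)
theorem F329267 : act 2 n30225 = n47441 := (sb E93293 F153625)
theorem F329268 : act 7 n30225 = n46609 := (sb E93293 (iv7 D99795))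
theorem F329269 : act 0 n102177 = n133576 := (sb E93295 (iv1 F245808))
theorem F329270 : act 1 n102177 = n133579 := (sb E93295 F245806)
theorem F329271 : act 2 n102177 = n86783 := (sb E93295 (iv2 F312253))
theorem F329272 : act 4 n102177 = n85666 := (sb E93295 F312129)
theorem F329273 : act 5 n102177 = n139103 := (sb E93295 (iv5 F245809))
theorem F329274 : act 7 n102177 = n86797 := (sb E93295 F312130)
theorem F329275 : act 3 n102178 = n108166 := (sb E93296 F219530)
theorem F329276 : act 7 n102178 = n157225 := (sb E93296 (iv7 F247434))
theorem F329277 : act 3 n102179 = n139103 := (sb E93297 F245810)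
theorem F329278 : act 4 n99793 = n157225 := (sb E93313 (iv4 F247435))
theorem F329279 : act 2 n102183 = n157225 := (sb E93301 (iv2 F247438))
theorem F329280 : act 2 n99792 = n47438 := (sb E93304 (iv2 D102176))
theorem F329281 : act 7 n99792 = n47439 := (sb E93304 (iv7 F157065))
theorem F329282 : act 2 n99793 = n47439 := (sb E93305 F157067)
theorem F329283 : act 7 n99793 = n47438 := (sb E93305 (iv7 D102181))
theorem F329284 : act 2 n52110 = n47437 := (sb E93306 F153620)
theorem F329285 : act 4 n52110 = n46609 := (sb E93306 F153621)
theorem F329286 : act 3 n90915 = n62019 := (sb E93307 F211774)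
theorem F329287 : act 7 n90915 = n64140 := (sb E93307 F211775)
theorem F329288 : act 0 n102172 = n52156 := (sb E93308 (iv1 D113001))
theorem F329289 : act 1 n102173 = n52156 := (sb E93309 (iv0 D113000))
theorem F329290 : act 3 n61260 = n47437 := (sb E93310 F157063)
theorem E93601 : n130571 = n47436 := ((D130571).symm.trans (sb E93310 (iv6 D102171)))
theorem F329291 : act 0 n102174 = n130624 := (sb E93311 (iv1 F214533))
theorem F329292 : act 1 n102174 = n130623 := (sb E93311 F214531)
theorem F329293 : act 2 n102174 = n62622 := (sb E93311 (iv2 D133417))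
theorem F329294 : act 3 n102174 = n130570 := (sb E93311 F214528)
theorem F329295 : act 7 n102174 = n130625 := (sb E93311 F214530)
theorem F329296 : act 0 n102175 = n112902 := (sb E93312 (iv1 F175986))
theorem F329297 : act 1 n102175 = n112901 := (sb E93312 F175984)
theorem F329298 : act 2 n102175 = n52156 := (sb E93312 (iv2 D113002))
theorem F329299 : act 3 n102175 = n62593 := (sb E93312 F175981)
theorem F329300 : act 5 n102175 = n130625 := (sb E93312 (iv5 F209199))
theorem F329301 : act 2 n102188 = n64140 := (sb E93315 F219531)
theorem F329302 : act 3 n102443 = n53296 := (sb E93320 (iv3 D115530))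
theorem F329303 : act 6 n102443 = n156128 := (sb E93320 (iv6 F245339))
theorem F329304 : act 3 n93130 = n64698 := (sb E93321 F220781)
theorem F329305 : act 3 n102445 = n64169 := (sb E93322 (iv3 D136502))
theorem F329306 : act 4 n102445 = n156128 := (sb E93322 (iv4 F245338))
theorem F329307 : act 3 n99847 = n63997 := (sb E93323 (iv3 D136087))
theorem F329308 : act 2 n137632 = n182631 := (sb E93324 (iv2 F295456))
theorem F329309 : act 5 n137632 = n102084 := (sb E93324 F289971)
theorem F329310 : act 6 n137632 = n86918 := (sb E93324 (iv6 D181980))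
theorem F329311 : act 7 n137632 = n185349 := (sb E93324 (iv7 F290014))
theorem F329312 : act 6 n87364 = n64698 := (sb E93325 (iv6 D137633))
theorem F329313 : act 0 n104248 = n64721 := (sb E93326 (iv1 D137682))
theorem F329314 : act 1 n104249 = n64721 := (sb E93327 (iv0 D137681))
theorem F329315 : act 0 n104206 = n64731 := (sb E93328 (iv1 F220853))
theorem F329316 : act 1 n104206 = n64730 := (sb E93328 F220854)
theorem F329317 : act 7 n104206 = n64721 := (sb E93328 (iv7 D137684))
theorem F329318 : act 3 n104247 = n134725 := (sb E93329 F220868)
theorem F329319 : act 7 n104247 = n64725 := (sb E93329 (iv7 D137696))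
theorem F329320 : act 3 n104250 = n54048 := (sb E93330 (iv3 D117275))
theorem F329321 : act 4 n104250 = n54063 := (sb E93330 F183523)
theorem F329322 : act 7 n104250 = n54130 := (sb E93330 F183524)
theorem F329323 : act 7 n30449 = n48241 := (sb E93331 (iv7 D104251))
theorem F329324 : act 0 n102484 = n64774 := (sb E93332 (iv1 F221040))
theorem F329325 : act 1 n99827 = n64774 := (sb E93333 F221037)
theorem F329326 : act 2 n104276 = n64766 := (sb E93334 F221033)
theorem F329327 : act 6 n104276 = n64760 := (sb E93334 (iv6 D137792))
theorem F329328 : act 3 n30461 = n48260 := (sb E93335 F159896)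
theorem F329329 : act 6 n30461 = n48257 := (sb E93335 (iv6 D104277))
theorem F329330 : act 0 n99947 = n64772 := (sb E93336 (iv1 F221041))
theorem F329331 : act 2 n99947 = n64774 := (sb E93336 F221039)
theorem F329332 : act 7 n102484 = n64772 := (sb E93337 (iv7 F221055))
theorem F329333 : act 2 n99827 = n64772 := (sb E93342 F221056)
theorem F329334 : act 1 n46089 = n64770 := (sb E93343 (iv0 D137826))
theorem F329335 : act 0 n87550 = n64770 := (sb E93344 (iv1 D137827))
theorem F329336 : act 2 n87178 = n64770 := (sb E93345 F221036)
theorem E93602 : n182600 = n64761 := ((D182600).symm.trans (sb E93345 (iv6 D137794)))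
theorem F329337 : act 3 n96478 = n64781 := (sb E93346 F221054)
theorem F329338 : act 7 n96478 = n64770 := (sb E93346 (iv7 D137829))
theorem E93603 : n64659 = n22782 := (((D22782).symm.trans (sb E93350 (iv5 D137560)))).symm
theorem F329339 : act 5 n30425 = n22776 := (sb E93353 (iv5 D47419))
theorem E93607 : n96142 = n64667 := (((D64667).symm.trans (sb E93353 (iv7 F147804)))).symm
theorem E93610 : n185339 = n64707 := (((F111096).symm.trans (sb E93355 (iv2 F287594)))).symm
theorem E93611 : n185353 = n156060 := ((((iv3 F245199)).symm.trans (sb E93355 D185353))).symm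
theorem F329340 : act 4 n74235 = n41215 := (sb E93355 (iv4 D88307))
theorem E93613 : n185355 = n156060 := ((((iv6 F245200)).symm.trans (sb E93355 D185355))).symm
theorem F329341 : act 7 n74235 = n102085 := (sb E93355 (iv7 F157029))
theorem E93614 : n185348 = n66739 := ((D185348).symm.trans (sb E93356 (iv4 D142328)))
theorem F329342 : act 1 n30445 = n48260 := (sb E93358 (iv0 D104281))
theorem F329343 : act 0 n30444 = n48260 := (sb E93359 (iv1 D104282))
theorem F329344 : act 0 n104280 = n64723 := (sb E93360 (iv1 F164764))
theorem F329345 : act 1 n104280 = n64722 := (sb E93360 F164759)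
theorem F329346 : act 2 n104280 = n49389 := (sb E93360 (iv2 D106895))
theorem F329347 : act 3 n104280 = n134728 := (sb E93360 (iv3 F216750))
theorem F329348 : act 7 n104280 = n64719 := (sb E93360 F164758)
theorem E93615 : n182601 = n64727 := ((D182601).symm.trans (sb E93361 (iv1 F219122)))
theorem E93616 : n182602 = n64726 := ((D182602).symm.trans (sb E93361 F219123))
theorem F329349 : act 2 n87179 = n64015 := (sb E93361 F219119)
theorem E93617 : n182603 = n64720 := ((D182603).symm.trans (sb E93361 F219121))
theorem F329350 : act 7 n30446 = n48260 := (sb E93362 (iv7 D104284))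
theorem F329351 : act 0 n96348 = n113496 := (sb E93365 (iv1 F220847))
theorem F329352 : act 1 n96348 = n126382 := (sb E93365 F219148)
theorem F329353 : act 3 n96348 = n113427 := (sb E93365 F219145)
theorem F329354 : act 4 n96348 = n64015 := (sb E93365 (iv4 D136125))
theorem F329355 : act 5 n96348 = n111397 := (sb E93365 F219147)
theorem F329356 : act 7 n96348 = n64728 := (sb E93365 F219146)
theorem E93618 : n95430 = n64729 := (((D64729).symm.trans (sb E93366 F283849))).symm
theorem F329357 : act 3 n44569 = n64745 := (sb E93367 F220928)
theorem E93619 : n102213 = n61265 := ((D102213).symm.trans (sb E93368 (iv1 F175828)))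
theorem E93620 : n102214 = n61264 := ((D102214).symm.trans (sb E93368 F175829))
theorem E93621 : n102215 = n61267 := ((D102215).symm.trans (sb E93368 F175825))
theorem F329358 : act 4 n47448 = n52114 := (sb E93368 F175826)
theorem E93622 : n102216 = n67515 := ((D102216).symm.trans (sb E93368 F175827))
theorem E93623 : n99790 = n52111 := (((iv7 F153619)).symm.trans (sb E93368 (iv7 D112906)))
theorem E93624 : n113003 = n102220 := (((D102220).symm.trans (sb E93369 F226811))).symm
theorem F329359 : act 3 n47453 = n30227 := (sb E93370 F99853)
theorem E93627 : n136435 = n102234 := ((((iv5 F157087)).symm.trans (sb E93370 D136435))).symm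
theorem F329360 : act 6 n47453 = n30225 := (sb E93370 (iv6 D64141))
theorem F329361 : act 6 n46608 = n52110 := (sb E93371 (iv6 D112904))
theorem E93628 : n99757 = n64634 := ((D99757).symm.trans (sb E93372 F220689))
theorem F329362 : act 3 n46599 = n63973 := (sb E93373 F218916)
theorem E93629 : n99761 = n63968 := ((D99761).symm.trans (sb E93373 (iv7 D136045)))
theorem E93630 : n127428 = n41764 := ((D127428).symm.trans (sb E93374 F137104))
theorem E93631 : n127429 = n41762 := ((D127429).symm.trans (sb E93374 (iv6 D89437)))
theorem F329363 : act 0 n89166 = n63990 := (sb E93375 (iv1 D136075))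
theorem F329364 : act 1 n133316 = n69335 := (sb E93376 (iv0 D148032))
theorem E93632 : n78627 = n78396 := (((D78396).symm.trans (sb E93377 (iv1 D163652)))).symm
theorem F329366 : act 1 n163038 = n166644 := (sb E93379 F262278)
theorem F329367 : act 6 n163038 = n126199 := (sb E93379 (iv6 F328751))
theorem F329368 : act 7 n79983 = n78397 := (sb E93380 (iv7 F257391))
theorem E93633 : n184699 = n59470 := ((D184699).symm.trans (sb E93384 F182643))
theorem E93634 : n184700 = n59469 := ((D184700).symm.trans (sb E93384 (iv0 F182644)))
theorem E93635 : n184701 = n59472 := ((D184701).symm.trans (sb E93384 F182640))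
theorem F329369 : act 7 n88070 = n59407 := (sb E93384 F182642)
theorem F329370 : act 3 n74050 = n87922 := (sb E93385 (iv3 D184344))
theorem E93636 : n184631 = n65403 := ((((iv1 F111411)).symm.trans (sb E93386 (iv1 F286599)))).symm
theorem E93637 : n100873 = n65406 := ((((iv0 F111408)).symm.trans (sb E93386 (iv0 F286630)))).symm
theorem E93638 : n184633 = n65409 := ((((iv2 F101109)).symm.trans (sb E93386 (iv2 F286604)))).symm
theorem F329371 : act 3 n51103 = n41126 := (sb E93386 F135050)
theorem E93639 : n110840 = n41108 := ((D110840).symm.trans (sb E93386 F135051))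
theorem E93641 : n184709 = n110834 := (((D110834).symm.trans (sb E93387 D184709))).symm
theorem E93643 : n110836 = n93341 := ((D110836).symm.trans (sb E93387 (iv2 F143964)))
theorem E93644 : n110837 = n91360 := ((D110837).symm.trans (sb E93387 (iv5 F140483)))
theorem F329372 : act 6 n51101 = n41126 := (sb E93387 (iv6 D88073))
theorem E93645 : n154286 = n59490 := ((((iv7 F93903)).symm.trans (sb E93387 (iv7 F306456)))).symm
theorem E93658 : n47421 = n30416 := ((D47421).symm.trans (sb E93391 F100549))
theorem E93660 : n47422 = n30414 := ((D47422).symm.trans (sb E93391 (iv6 D64629)))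
theorem E93661 : n47423 = n30420 := (((D30420).symm.trans (sb E93392 D47423))).symm
theorem E93662 : n47424 = n30421 := (((D30421).symm.trans (sb E93392 D47424))).symm
theorem E93663 : n47425 = n30423 := (((D30423).symm.trans (sb E93392 D47425))).symm
theorem F329373 : act 6 n14449 = n10766 := (sb E93392 (iv6 D22779))
theorem F329374 : act 6 n64627 = n46605 := (sb E93393 (iv6 D99781))
theorem E93665 : n136033 = n47304 := ((D136033).symm.trans (sb E93395 (iv6 F155837)))
theorem E93666 : n137539 = n44865 := ((D137539).symm.trans (sb E93396 (iv6 D96141)))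
theorem E93667 : n136037 = n47394 := ((D136037).symm.trans (sb E93397 F153607))
theorem F329375 : act 1 n64577 = n47375 := (sb E93416 (iv0 D101990))
theorem F329376 : act 0 n64576 = n47375 := (sb E93417 (iv1 D101991))
theorem F329377 : act 7 n64571 = n47375 := (sb E93418 (iv7 D101993))
theorem F329378 : act 0 n135480 = n148760 := (sb E93419 F233559)
theorem F329379 : act 2 n135480 = n64769 := (sb E93419 F221035)
theorem F329380 : act 4 n135480 = n64761 := (sb E93419 (iv4 D137793))
theorem F329381 : act 1 n69686 = n53131 := (sb E93420 (iv0 D115151))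
theorem F329382 : act 0 n69681 = n53131 := (sb E93421 (iv1 D115152))
theorem F329383 : act 1 n106818 = n52601 := (sb E93422 (iv0 D113943))
theorem F329384 : act 0 n49348 = n52601 := (sb E93423 (iv1 D113944))
theorem F329385 : act 2 n62000 = n52601 := (sb E93424 F177297)
theorem F329386 : act 6 n62000 = n52600 := (sb E93424 (iv6 D113942))
theorem F329387 : act 2 n113945 = n132162 := (sb E93425 (iv2 F211685))
theorem F329388 : act 7 n113945 = n132167 := (sb E93425 (iv7 F211704))
theorem F329389 : act 1 n123643 = n132274 := (sb E93426 (iv0 F214097))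
theorem F329390 : act 2 n123643 = n60551 := (sb E93426 F203262)
theorem F329391 : act 4 n123643 = n61309 := (sb E93426 F203264)
theorem F329392 : act 5 n123643 = n63361 := (sb E93426 F203265)
theorem F329393 : act 6 n123643 = n59325 := (sb E93426 (iv6 D126448))
theorem F329394 : act 7 n123643 = n131870 := (sb E93426 (iv7 F211286))
theorem F329395 : act 5 n29939 = n57637 := (sb E93427 (iv5 D123644))
theorem F329396 : act 6 n29940 = n57637 := (sb E93428 F198034)
theorem F329397 : act 3 n134881 = n154231 := (sb E93429 F268127)
theorem F329398 : act 5 n134881 = n81803 := (sb E93429 (iv5 D170662))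
theorem F329399 : act 6 n134881 = n81806 := (sb E93429 F268128)
theorem F329400 : act 1 n133570 = n66298 := (sb E93433 (iv0 D141328))
theorem F329401 : act 0 n134968 = n66298 := (sb E93434 (iv1 D141329))
theorem E93668 : n141257 = n135207 := (((iv5 F224284)).symm.trans (sb E93434 F224343))
theorem F329402 : act 2 n64961 = n66298 := (sb E93435 F217180)
theorem F329403 : act 5 n64961 = n63429 := (sb E93435 (iv5 D134967))
theorem F329404 : act 4 n138114 = n144312 := (sb E93436 F245993)
theorem F329405 : act 6 n138114 = n74408 := (sb E93436 (iv6 D156466))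
theorem F329406 : act 4 n67614 = n66298 := (sb E93437 (iv4 D141330))
theorem F329407 : act 6 n34133 = n66298 := (sb E93438 (iv6 D141331))
theorem E93669 : n123633 = n29782 := ((D123633).symm.trans (sb E93439 (iv1 F98227)))
theorem E93670 : n123634 = n29781 := ((D123634).symm.trans (sb E93439 (iv0 D62955)))
theorem F329408 : act 2 n57623 = n29803 := (sb E93439 (iv2 F98226))
theorem E93671 : n130663 = n123607 := ((((iv3 F198024)).symm.trans (sb E93439 (iv3 F209233)))).symm
theorem F329409 : act 4 n57623 = n29940 := (sb E93439 F98225)
theorem E93672 : n123636 = n29804 := ((D123636).symm.trans (sb E93439 F98228))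
theorem E93673 : n123070 = n62962 := ((D123070).symm.trans (sb E93440 F98311))
theorem E93674 : n123071 = n50243 := ((D123071).symm.trans (sb E93440 F98312))
theorem E93675 : n134106 = n123065 := ((((iv3 F197244)).symm.trans (sb E93440 (iv3 F216154)))).symm
theorem F329410 : act 5 n57270 = n29803 := (sb E93440 (iv5 D62997))
theorem E93677 : n123073 = n63059 := ((D123073).symm.trans (sb E93440 F98375))
theorem F329411 : act 1 n29851 = n54132 := (sb E93442 (iv0 D117467))
theorem F329412 : act 1 n117468 = n63131 := (sb E93443 F216358)
theorem F329413 : act 2 n117468 = n63135 := (sb E93443 F216355)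
theorem F329414 : act 5 n117468 = n63119 := (sb E93443 (iv5 D134356))
theorem F329415 : act 7 n117468 = n63130 := (sb E93443 F216356)
theorem F329416 : act 5 n30454 = n54132 := (sb E93444 (iv5 D117469))
theorem F329417 : act 0 n117470 = n63135 := (sb E93445 (iv1 F216374))
theorem F329418 : act 1 n117470 = n63130 := (sb E93445 (iv0 D134381))
theorem F329419 : act 2 n117470 = n63131 := (sb E93445 (iv2 F216375))
theorem F329420 : act 5 n117470 = n64745 := (sb E93445 F328679)
theorem F329421 : act 5 n126888 = n61181 := (sb E93446 (iv5 D130367))
theorem F329422 : act 5 n88343 = n51664 := (sb E93447 (iv5 D112027))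
theorem E93678 : n109538 = n96203 := ((((iv7 F289641)).symm.trans (sb E93447 F174133))).symm
theorem E93679 : n104669 = n83443 := ((D104669).symm.trans (sb E93448 (iv1 D174615)))
theorem F329423 : act 4 n96111 = n88789 := (sb E93449 F151337)
theorem F329424 : act 6 n96111 = n45841 := (sb E93449 (iv6 D98136))
theorem F329425 : act 4 n88683 = n44853 := (sb E93450 (iv4 D96115))
theorem F329426 : act 1 n84023 = n87744 := (sb E93451 (iv0 D183926))
theorem F329427 : act 0 n84014 = n87744 := (sb E93452 (iv1 D183927))
theorem E93680 : n108817 = n73061 := (((iv3 F168771)).symm.trans (sb E93453 (iv3 D154221)))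
theorem F329428 : act 6 n57624 = n64953 := (sb E93454 (iv6 D138278))
theorem F329429 : act 2 n123638 = n134460 := (sb E93455 F217395)
theorem F329430 : act 4 n123638 = n63534 := (sb E93455 (iv4 D135214))
theorem F329431 : act 7 n123638 = n134456 := (sb E93455 F217397)
theorem F329432 : act 0 n123640 = n134169 := (sb E93456 (iv1 F216208))
theorem F329433 : act 1 n123640 = n134888 := (sb E93456 F217093)
theorem F329434 : act 2 n123640 = n134881 := (sb E93456 (iv2 F217081))
theorem F329435 : act 4 n123640 = n61335 := (sb E93456 (iv4 D130729))
theorem F329436 : act 7 n123640 = n134880 := (sb E93456 (iv7 F217078))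
theorem E93681 : n134230 = n73063 := ((D134230).symm.trans (sb E93457 (iv1 F198102)))
theorem E93682 : n134231 = n57654 := ((D134231).symm.trans (sb E93457 (iv0 D123671)))
theorem E93683 : n57721 = n24933 := (((D24933).symm.trans (sb E93458 (iv5 D123878)))).symm
theorem F329437 : act 6 n57579 = n64957 := (sb E93459 F180588)
theorem F329438 : act 1 n34571 = n75197 := (sb E93461 (iv0 D157846))
theorem F329439 : act 0 n45930 = n75197 := (sb E93462 (iv1 D157847))
theorem F329440 : act 5 n157842 = n83257 := (sb E93463 F249623)
theorem F329441 : act 7 n157842 = n98247 := (sb E93463 F249624)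
theorem F329442 : act 0 n157845 = n75502 := (sb E93464 (iv1 D158340))
theorem F329443 : act 1 n157845 = n82457 := (sb E93464 F302491)
theorem F329444 : act 2 n157845 = n82601 := (sb E93464 (iv2 F249478))
theorem F329445 : act 5 n157845 = n122467 := (sb E93464 F249477)
theorem F329446 : act 7 n157845 = n82600 := (sb E93464 F249475)
theorem F329447 : act 7 n45927 = n75197 := (sb E93465 (iv7 D157849))
theorem F329448 : act 6 n51139 = n76081 := (sb E93466 (iv6 D159143))
theorem F329449 : act 4 n106825 = n52598 := (sb E93467 (iv4 D113934))
theorem F329450 : act 5 n112691 = n52598 := (sb E93468 (iv5 D113935))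
theorem F329451 : act 6 n61916 = n52598 := (sb E93469 (iv6 D113936))
theorem F329452 : act 2 n105258 = n52599 := (sb E93470 F177296)
theorem F329453 : act 7 n105258 = n52598 := (sb E93470 (iv7 D113937))
theorem F329454 : act 2 n83513 = n75192 := (sb E93471 F256548)
theorem E93684 : n174818 = n58716 := ((D174818).symm.trans (sb E93471 (iv6 D125402)))
theorem F329455 : act 7 n83518 = n75192 := (sb E93472 (iv7 D157837))
theorem F329456 : act 6 n163775 = n86101 := (sb E93473 (iv6 D180234))
theorem F329457 : act 2 n128664 = n66247 := (sb E93476 F224112)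
theorem F329458 : act 5 n128664 = n66202 := (sb E93476 (iv5 D141144))
theorem F329459 : act 6 n128664 = n66205 := (sb E93476 F224113)
theorem F329460 : act 5 n134966 = n138292 := (sb E93477 F224292)
theorem F329461 : act 1 n108799 = n66247 := (sb E93480 (iv0 D141248))
theorem F329462 : act 0 n61373 = n66247 := (sb E93481 (iv1 D141249))
theorem F329463 : act 5 n108408 = n66248 := (sb E93482 F224281)
theorem F329464 : act 7 n108408 = n66247 := (sb E93482 (iv7 D141251))
theorem E93685 : n134769 = n66275 := ((D134769).symm.trans (sb E93483 (iv5 D141287)))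
theorem E93686 : n133566 = n110859 := (((iv7 F214853)).symm.trans (sb E93483 F224306))
theorem E93687 : n134965 = n62946 := (((iv5 F217177)).symm.trans (sb E93484 (iv5 D133998)))
theorem E93688 : n134961 = n63432 := ((D134961).symm.trans (sb E93485 (iv5 D134972)))
theorem E93689 : n141301 = n138279 := (((D138279).symm.trans (sb E93486 (iv1 F224323)))).symm
theorem E93690 : n141319 = n138280 := (((D138280).symm.trans (sb E93486 (iv0 F224338)))).symm
theorem F329465 : act 5 n64954 = n63001 := (sb E93486 (iv5 D134117))
theorem E93691 : n68814 = n63782 := (((D63782).symm.trans (sb E93487 (iv1 D146773)))).symm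
theorem E93692 : n179058 = n60204 := ((D179058).symm.trans (sb E93488 (iv5 D128108)))
theorem E93693 : n179059 = n60207 := ((D179059).symm.trans (sb E93488 F206190))
theorem F329466 : act 3 n105608 = n60207 := (sb E93489 F206176)
theorem F329467 : act 5 n105608 = n60201 := (sb E93489 (iv5 D128100))
theorem F329468 : act 4 n107658 = n73091 := (sb E93490 F206191)
theorem F329469 : act 7 n107658 = n60204 := (sb E93490 (iv7 D128109))
theorem F329470 : act 0 n107660 = n83017 := (sb E93491 F327801)
theorem F329471 : act 1 n107660 = n82995 := (sb E93491 F327802)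
theorem F329472 : act 2 n107660 = n83014 := (sb E93491 F327797)
theorem F329473 : act 7 n107660 = n71916 := (sb E93491 (iv7 D152460))
theorem F329474 : act 4 n114669 = n63731 := (sb E93492 F217964)
theorem F329475 : act 6 n114669 = n63730 := (sb E93492 (iv6 D135536))
theorem F329476 : act 4 n62522 = n52962 := (sb E93493 (iv4 D114767))
theorem F329477 : act 6 n62521 = n52962 := (sb E93494 (iv6 D114768))
theorem F329478 : act 3 n66252 = n64851 := (sb E93495 (iv3 D137983))
theorem F329479 : act 3 n66204 = n67208 := (sb E93496 (iv3 D143484))
theorem E93694 : n100218 = n49378 := (((iv3 F154156)).symm.trans (sb E93499 F164693))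
theorem E93695 : n100222 = n49376 := ((D100222).symm.trans (sb E93499 (iv6 D106866)))
theorem E93698 : n90847 = n65394 := (((D65394).symm.trans (sb E93501 (iv5 F294184)))).symm
theorem F329480 : act 6 n30665 = n22421 := (sb E93501 (iv6 D46772))
theorem E93699 : n100459 = n65468 := (((iv3 F154514)).symm.trans (sb E93502 F222511))
theorem F329481 : act 5 n46924 = n65393 := (sb E93502 (iv5 D139323))
theorem E93702 : n155676 = n41019 := (((F75742).symm.trans (sb E93503 D155676))).symm
theorem F329482 : act 3 n48194 = n33988 := (sb E93503 (iv3 D74060))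
theorem E93703 : n104145 = n33990 := ((D104145).symm.trans (sb E93503 F110813))
theorem E93704 : n155678 = n104146 := (((D104146).symm.trans (sb E93503 D155678))).symm
theorem F329483 : act 0 n92602 = n118677 := (sb E93504 F237327)
theorem F329484 : act 1 n92602 = n146331 := (sb E93504 F237328)
theorem F329485 : act 2 n92602 = n151350 := (sb E93504 F238065)
theorem F329486 : act 4 n92602 = n71083 := (sb E93504 (iv4 D150762))
theorem E93705 : n151349 = n43442 := (((F142655).symm.trans (sb E93504 F238062))).symm
theorem E93706 : n100135 = n65889 := ((D100135).symm.trans (sb E93505 F223480))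
theorem F329487 : act 7 n46739 = n65885 := (sb E93505 (iv7 D140373))
theorem F329488 : act 0 n34173 = n57373 := (sb E93506 (iv1 F197061))
theorem F329489 : act 1 n34173 = n57218 := (sb E93506 (iv0 D122997))
theorem F329490 : act 0 n51266 = n57218 := (sb E93507 (iv1 D122998))
theorem F329491 : act 1 n51266 = n57373 := (sb E93507 F197056)
theorem F329492 : act 5 n122992 = n64962 := (sb E93508 (iv5 D138297))
theorem F329493 : act 7 n122992 = n138628 := (sb E93508 (iv7 F221799))
theorem F329494 : act 2 n65090 = n57373 := (sb E93510 F197059)
theorem E93707 : n138629 = n57489 := ((D138629).symm.trans (sb E93510 F197060))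
theorem F329495 : act 7 n65090 = n57218 := (sb E93510 (iv7 D123000))
theorem F329496 : act 5 n123230 = n64959 := (sb E93511 (iv5 D138291))
theorem F329497 : act 5 n56703 = n51112 := (sb E93513 (iv5 D110851))
theorem E93708 : n126801 = n88063 := (((iv3 F204053)).symm.trans (sb E93516 (iv3 D184681)))
theorem F329498 : act 6 n59509 = n88070 := (sb E93516 F286682)
theorem F329499 : act 4 n53870 = n88070 := (sb E93517 F286639)
theorem E93709 : n88047 = n30707 := ((D88047).symm.trans (sb E93518 (iv1 F101191)))
theorem F329500 : act 4 n41107 = n51106 := (sb E93518 F101947)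
theorem F329501 : act 7 n41107 = n51103 := (sb E93518 (iv7 F101948))
theorem E93711 : n170920 = n74520 := (((iv2 F277408)).symm.trans (sb E93525 F172488))
theorem E93712 : n171195 = n131924 := ((D171195).symm.trans (sb E93525 (iv4 F211390)))
theorem F329502 : act 6 n82039 = n51298 := (sb E93525 (iv6 D111219))
theorem F329503 : act 1 n29829 = n27532 := (sb E93531 (iv0 D57621))
theorem E93717 : n123627 = n63061 := (((D63061).symm.trans (sb E93531 D123627))).symm
theorem F329504 : act 0 n29837 = n27532 := (sb E93532 (iv1 D57622))
theorem E93722 : n123632 = n63086 := (((D63086).symm.trans (sb E93532 D123632))).symm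
theorem E93723 : n134114 = n123608 := (((D123608).symm.trans (sb E93533 F216277))).symm
theorem F329505 : act 0 n115977 = n100776 := (sb E93537 F268765)
theorem F329506 : act 1 n115977 = n100832 := (sb E93537 F268766)
theorem F329507 : act 5 n115977 = n101475 := (sb E93537 F268764)
theorem F329508 : act 5 n57264 = n53468 := (sb E93538 (iv5 D115978))
theorem F329509 : act 5 n115979 = n63425 := (sb E93539 (iv5 D134958))
theorem F329510 : act 0 n30703 = n41107 := (sb E93540 (iv1 D88048))
theorem E93725 : n100788 = n65508 := (((D65508).symm.trans (sb E93540 (iv3 F286609)))).symm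
theorem E93726 : n184654 = n65509 := (((D65509).symm.trans (sb E93540 D184654))).symm
theorem E93728 : n100214 = n53390 := ((D100214).symm.trans (sb E93541 (iv1 F164704)))
theorem E93729 : n100215 = n53389 := ((D100215).symm.trans (sb E93541 F164705))
theorem E93730 : n100216 = n53392 := ((D100216).symm.trans (sb E93541 F164701))
theorem F329511 : act 4 n46769 = n49379 := (sb E93541 F164702)
theorem F329512 : act 0 n47080 = n65488 := (sb E93542 (iv1 D139562))
theorem F329513 : act 7 n139564 = n87374 := (sb E93543 (iv7 D183023))
theorem F329514 : act 0 n82040 = n65489 := (sb E93544 F172494)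
theorem E93731 : n171197 = n65485 := ((D171197).symm.trans (sb E93544 F172495))
theorem F329515 : act 2 n82040 = n74523 := (sb E93544 F172493)
theorem F329516 : act 4 n46039 = n65485 := (sb E93545 (iv4 D139559))
theorem F329517 : act 6 n43578 = n65485 := (sb E93546 (iv6 D139560))
theorem E93732 : n156710 = n99998 := (((D99998).symm.trans (sb E93547 (iv5 F246499)))).symm
theorem E93733 : n111222 = n100006 := (((D100006).symm.trans (sb E93549 F172499))).symm
theorem F329518 : act 2 n46703 = n66253 := (sb E93549 (iv2 F171604))
theorem E93734 : n107686 = n100007 := (((D100007).symm.trans (sb E93549 (iv4 F171602)))).symm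
theorem E93735 : n100008 = n66203 := ((D100008).symm.trans (sb E93549 F171603))
theorem E93736 : n156708 = n100017 := (((D100017).symm.trans (sb E93551 (iv5 F246493)))).symm
theorem E93737 : n107685 = n100021 := (((D100021).symm.trans (sb E93553 F171600))).symm
theorem E93738 : n156709 = n100022 := (((D100022).symm.trans (sb E93553 D156709))).symm
theorem F329519 : act 7 n46708 = n66253 := (sb E93553 (iv7 F171639))
theorem F329520 : act 2 n42755 = n65493 := (sb E93555 F222545)
theorem F329521 : act 2 n42551 = n65480 := (sb E93556 F222520)
theorem E93739 : n90843 = n65396 := ((D90843).symm.trans (sb E93556 (iv5 D139335)))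
theorem F329522 : act 3 n73102 = n59492 := (sb E93557 F204028)
theorem E93740 : n154132 = n59504 := ((F242239).symm.trans (sb E93557 F204029))
theorem F329523 : act 5 n37545 = n59492 := (sb E93558 (iv5 D126779))
theorem F329524 : act 4 n88036 = n110810 := (sb E93560 F222550)
theorem F329525 : act 1 n27599 = n53463 := (sb E93561 (iv0 D115963))
theorem F329526 : act 0 n27618 = n53463 := (sb E93562 (iv1 D115964))
theorem E93741 : n84676 = n65481 := (((iv6 F129911)).symm.trans (sb E93565 F180573))
theorem F329527 : act 7 n56719 = n53463 := (sb E93565 (iv7 D115966))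
theorem F329528 : act 0 n34174 = n46708 := (sb E93566 (iv1 F153956))
theorem F329529 : act 1 n34174 = n46703 := (sb E93566 (iv0 D100005))
theorem F329530 : act 6 n81930 = n74523 := (sb E93567 F246489)
theorem F329531 : act 0 n51299 = n99978 := (sb E93568 (iv1 F268937))
theorem F329532 : act 5 n51299 = n82040 := (sb E93568 (iv5 D171198))
theorem F329533 : act 1 n46643 = n65493 := (sb E93569 (iv0 D139575))
theorem E93742 : n156713 = n41106 := (((F142704).symm.trans (sb E93569 (iv4 F246505)))).symm
theorem F329534 : act 0 n46642 = n65493 := (sb E93570 (iv1 D139576))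
theorem E93743 : n156716 = n41105 := (((F135046).symm.trans (sb E93570 F246515))).symm
theorem F329535 : act 3 n87970 = n65493 := (sb E93571 (iv3 D139577))
theorem F329536 : act 0 n139578 = n99877 := (sb E93572 (iv1 F268841))
theorem F329537 : act 1 n139578 = n99876 := (sb E93572 F268842)
theorem F329538 : act 2 n139578 = n91358 := (sb E93572 F268838)
theorem F329539 : act 3 n139578 = n184470 := (sb E93572 (iv3 F286367))
theorem F329540 : act 7 n139578 = n82008 := (sb E93572 (iv7 D171109))
theorem F329541 : act 4 n88037 = n65480 := (sb E93573 (iv4 D139552))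
theorem F329542 : act 6 n88037 = n65493 := (sb E93573 F222707)
theorem F329543 : act 1 n46459 = n65480 := (sb E93574 (iv0 D139550))
theorem F329544 : act 0 n46458 = n65480 := (sb E93575 (iv1 D139551))
theorem E93744 : n99357 = n65478 := (((D65478).symm.trans (sb E93576 (iv1 F277385)))).symm
theorem E93745 : n99356 = n65479 := (((D65479).symm.trans (sb E93576 F277390))).symm
theorem F329545 : act 7 n39114 = n65480 := (sb E93577 (iv7 D139553))
theorem F329546 : act 5 n100684 = n71438 := (sb E93578 (iv5 D151538))
theorem F329547 : act 7 n100684 = n150792 := (sb E93578 F238418)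
theorem E93746 : n150766 = n46958 := ((D150766).symm.trans (sb E93579 F154797))
theorem F329548 : act 5 n71084 = n46957 := (sb E93579 (iv5 D100685))
theorem F329549 : act 3 n43545 = n74059 := (sb E93580 (iv3 D155672))
theorem E93747 : n128018 = n92917 := ((((iv4 F143285)).symm.trans (sb E93580 F244704))).symm
theorem F329550 : act 0 n92889 = n74016 := (sb E93581 (iv1 D155574))
theorem F329551 : act 4 n92889 = n159382 := (sb E93581 (iv4 F250937))
theorem F329552 : act 7 n92889 = n160060 := (sb E93581 (iv7 F252598))
theorem F329553 : act 1 n92772 = n74016 := (sb E93582 F239743)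
theorem E93748 : n160060 = n90513 := (((F143085).symm.trans (sb E93582 (iv2 F252597)))).symm
theorem F329554 : act 4 n92772 = n71950 := (sb E93582 (iv4 D152556))
theorem F329555 : act 4 n92891 = n55220 := (sb E93583 (iv4 D119995))
theorem F329556 : act 7 n92891 = n74016 := (sb E93583 F189436)
theorem F329557 : act 4 n48746 = n43462 := (sb E93584 (iv4 D92892))
theorem F329558 : act 2 n92608 = n74016 := (sb E93585 F238073)
theorem F329559 : act 4 n92608 = n71349 := (sb E93585 (iv4 D151365))
theorem F329560 : act 3 n41837 = n71081 := (sb E93586 (iv3 D150758))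
theorem E93749 : n154709 = n89582 := (((D89582).symm.trans (sb E93586 (iv4 F242886)))).symm
theorem E93750 : n111216 = n89578 := ((((iv6 F137324)).symm.trans (sb E93586 (iv6 F317009)))).symm
theorem E93751 : n120041 = n93437 := ((D120041).symm.trans (sb E93587 (iv1 F144130)))
theorem E93752 : n120042 = n93435 := ((D120042).symm.trans (sb E93587 (iv0 F144123)))
theorem E93753 : n120043 = n104143 := ((D120043).symm.trans (sb E93587 (iv2 F159638)))
theorem F329561 : act 4 n55238 = n41014 := (sb E93587 (iv4 D87908))
theorem E93755 : n103294 = n55215 := (((F87411).symm.trans (sb E93587 (iv5 F294686)))).symm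
theorem E93756 : n184312 = n120044 := (((D120044).symm.trans (sb E93587 D184312))).symm
theorem F329562 : act 3 n87909 = n66237 := (sb E93588 (iv3 D141211))
theorem F329563 : act 0 n90735 = n150751 := (sb E93589 (iv1 F237312))
theorem F329564 : act 1 n90735 = n105914 := (sb E93589 F228215)
theorem F329565 : act 4 n90735 = n68084 := (sb E93589 (iv4 D145232))
theorem F329566 : act 1 n46877 = n65473 := (sb E93590 (iv0 D139522))
theorem F329567 : act 0 n46876 = n65473 := (sb E93591 (iv1 D139523))
theorem F329568 : act 2 n46879 = n65473 := (sb E93592 F222684)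
theorem F329569 : act 7 n46857 = n65473 := (sb E93593 (iv7 D139525))
theorem F329570 : act 4 n63101 = n67223 := (sb E93594 F226237)
theorem E93757 : n134316 = n67221 := ((D134316).symm.trans (sb E93594 (iv6 D143530)))
theorem F329571 : act 1 n120543 = n65159 := (sb E93595 (iv0 D138766))
theorem F329572 : act 0 n120523 = n65159 := (sb E93596 (iv1 D138767))
theorem F329573 : act 5 n122363 = n65159 := (sb E93598 (iv5 D138768))
theorem E93758 : n99878 = n65162 := ((F195718).symm.trans (sb E93598 F221907))
theorem F329574 : act 6 n122341 = n156590 := (sb E93599 (iv6 F246257))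
theorem F329575 : act 7 n122341 = n65159 := (sb E93599 (iv7 D138769))
theorem F329576 : act 2 n60649 = n113687 := (sb E93600 F204731)
theorem E93759 : n128972 = n59834 := ((D128972).symm.trans (sb E93600 (iv4 D127395)))
theorem F329577 : act 7 n60649 = n113691 := (sb E93600 F204732)
theorem E93760 : n102170 = n61262 := ((D102170).symm.trans (sb E93601 F209149))
theorem F329578 : act 6 n47436 = n61260 := (sb E93601 (iv6 D130571))
theorem F329579 : act 3 n64761 = n87179 := (sb E93602 F284108)
theorem F329580 : act 6 n64761 = n87178 := (sb E93602 (iv6 D182600))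
theorem F329581 : act 3 n22782 = n30425 := (sb E93603 F100560)
theorem E93764 : n137561 = n44866 := ((((iv7 F70472)).symm.trans (sb E93603 D137561))).symm
theorem F329582 : act 0 n64667 = n89166 := (sb E93607 (iv1 F290238))
theorem F329583 : act 5 n64667 = n47420 := (sb E93607 F147803)
theorem F329584 : act 4 n64707 = n88303 := (sb E93610 (iv4 D185339))
theorem F329585 : act 4 n156060 = n88319 := (sb E93611 F287601)
theorem E93765 : n88319 = n88308 := ((F329585).symm.trans (sb E93613 F287602))
theorem F329586 : act 4 n66739 = n88306 := (sb E93614 (iv4 D185348))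
theorem F329587 : act 1 n64727 = n87179 := (sb E93615 (iv0 D182601))
theorem F329588 : act 0 n64726 = n87179 := (sb E93616 (iv1 D182602))
theorem E93766 : n137680 = n96491 := ((D137680).symm.trans (sb E93617 F284111))
theorem F329589 : act 7 n64720 = n87179 := (sb E93617 (iv7 D182603))
theorem E93767 : n137704 = n96490 := ((D137704).symm.trans (sb E93618 (iv1 F148592)))
theorem E93768 : n137705 = n96489 := ((D137705).symm.trans (sb E93618 F148594))
theorem F329590 : act 7 n64729 = n44569 := (sb E93618 (iv7 D95430))
theorem F329591 : act 1 n61265 = n47448 := (sb E93619 (iv0 D102213))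
theorem F329592 : act 0 n61264 = n47448 := (sb E93620 (iv1 D102214))
theorem F329593 : act 2 n61267 = n47448 := (sb E93621 (iv2 D102215))
theorem F329594 : act 3 n67515 = n47449 := (sb E93622 F157081)
theorem F329595 : act 6 n67515 = n47448 := (sb E93622 (iv6 D102216))
theorem F329596 : act 3 n52111 = n46608 := (sb E93623 (iv3 D99790))
theorem F329597 : act 7 n52111 = n47448 := (sb E93623 F153619)
theorem F329598 : act 3 n102220 = n52157 := (sb E93624 F175987)
theorem F329599 : act 6 n102220 = n52156 := (sb E93624 (iv6 D113003))
theorem F329600 : act 3 n102234 = n64144 := (sb E93627 F219534)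
theorem F329601 : act 3 n64634 = n46598 := (sb E93628 (iv3 D99757))
theorem E93769 : n137510 = n102046 := (((iv5 F220707)).symm.trans (sb E93628 (iv5 F156995)))
theorem E93770 : n136042 = n47392 := ((D136042).symm.trans (sb E93629 (iv1 F153580)))
theorem E93771 : n136043 = n47391 := ((D136043).symm.trans (sb E93629 F153581))
theorem E93772 : n136044 = n89442 := ((D136044).symm.trans (sb E93629 F153577))
theorem F329602 : act 7 n63968 = n46599 := (sb E93629 (iv7 D99761))
theorem F329603 : act 3 n41764 = n59851 := (sb E93630 (iv3 D127428))
theorem E93773 : n89439 = n59861 := (((iv4 F137106)).symm.trans (sb E93630 F204828))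
theorem E93774 : n89433 = n68756 := ((D89433).symm.trans (sb E93631 F243334))
theorem E93775 : n137451 = n89435 := (((D89435).symm.trans (sb E93631 (iv2 F328483)))).symm
theorem E93776 : n89436 = n59852 := ((D89436).symm.trans (sb E93631 F204829))
theorem F329604 : act 6 n41762 = n59851 := (sb E93631 (iv6 D127429))
theorem F329605 : act 2 n78396 = n79983 := (sb E93632 (iv2 F257928))
theorem E93777 : n163644 = n163034 := (((D163034).symm.trans (sb E93632 (iv3 F257917)))).symm
theorem E93778 : n163650 = n163035 := (((D163035).symm.trans (sb E93632 (iv4 F257991)))).symm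
theorem E93779 : n163653 = n163036 := (((D163036).symm.trans (sb E93632 D163653))).symm
theorem E93780 : n163037 = n35815 := ((D163037).symm.trans (sb E93632 (iv6 D78627)))
theorem F329606 : act 1 n59470 = n88070 := (sb E93633 (iv0 D184699))
theorem F329607 : act 0 n59469 = n88070 := (sb E93634 (iv1 D184700))
theorem F329608 : act 2 n59472 = n88070 := (sb E93635 (iv2 D184701))
theorem F329609 : act 0 n65403 = n88036 := (sb E93636 (iv1 D184631))
theorem E93781 : n139347 = n98079 := ((D139347).symm.trans (sb E93636 (iv5 F286600)))
theorem F329610 : act 1 n65406 = n88036 := (sb E93637 F286631)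
theorem E93782 : n139348 = n47021 := ((D139348).symm.trans (sb E93637 (iv3 D100873)))
theorem E93783 : n139354 = n88037 := ((D139354).symm.trans (sb E93638 F286605))
theorem F329611 : act 7 n65409 = n88036 := (sb E93638 (iv7 D184633))
theorem E93784 : n141297 = n47012 := ((((iv0 F126435)).symm.trans (sb E93639 (iv0 F224315)))).symm
theorem F329612 : act 5 n41108 = n51103 := (sb E93639 (iv5 D110840))
theorem F329613 : act 6 n110834 = n185199 := (sb E93641 F287527)
theorem F329614 : act 0 n93341 = n126774 := (sb E93643 (iv1 F204024))
theorem F329615 : act 1 n93341 = n126773 := (sb E93643 F204019)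
theorem F329616 : act 2 n93341 = n51101 := (sb E93643 (iv2 D110836))
theorem F329617 : act 3 n93341 = n139352 := (sb E93643 (iv3 F222567))
theorem F329618 : act 4 n93341 = n126624 := (sb E93643 (iv4 F203700))
theorem F329619 : act 7 n93341 = n126775 := (sb E93643 (iv7 F204022))
theorem F329620 : act 3 n91360 = n51102 := (sb E93644 F171680)
theorem F329621 : act 5 n91360 = n51101 := (sb E93644 (iv5 D110837))
theorem F329622 : act 7 n91360 = n126776 := (sb E93644 (iv7 F204027))
theorem F329623 : act 6 n59490 = n73102 := (sb E93645 (iv6 D154286))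
theorem F329624 : act 3 n30416 = n22778 := (sb E93658 (iv3 D47421))
theorem E93788 : n89427 = n64633 := (((D64633).symm.trans (sb E93658 (iv5 F137101)))).symm
theorem F329625 : act 6 n30414 = n22778 := (sb E93660 (iv6 D47422))
theorem E93797 : n102133 = n64176 := (((F326615).symm.trans (sb E93661 D102133))).symm
theorem E93800 : n101530 = n64479 := (((F221259).symm.trans (sb E93662 (iv5 F156334)))).symm
theorem E93801 : n99701 = n64653 := (((D64653).symm.trans (sb E93662 (iv6 F156335)))).symm
theorem E93804 : n102138 = n64658 := (((D64658).symm.trans (sb E93663 D102138))).symm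
theorem F329626 : act 6 n30423 = n22782 := (sb E93663 F74627)
theorem F329627 : act 6 n47304 = n63964 := (sb E93665 (iv6 D136033))
theorem F329628 : act 6 n44865 = n64654 := (sb E93666 (iv6 D137539))
theorem F329629 : act 2 n47394 = n63968 := (sb E93667 F218909)
theorem F329630 : act 3 n47394 = n64571 := (sb E93667 F218910)
theorem F329631 : act 6 n47394 = n63966 := (sb E93667 (iv6 D136037))
theorem E93806 : n134259 = n66256 := ((F217384).symm.trans (sb E93668 (iv1 F224285)))
theorem E93807 : n98454 = n66252 := (((iv0 F326763)).symm.trans (sb E93668 (iv0 D141257)))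
theorem F329632 : act 5 n135207 = n134968 := (sb E93668 F224284)
theorem F329633 : act 1 n29782 = n57623 := (sb E93669 (iv0 D123633))
theorem F329634 : act 0 n29781 = n57623 := (sb E93670 (iv1 D123634))
theorem F329635 : act 4 n123607 = n61307 := (sb E93671 (iv4 D130663))
theorem F329636 : act 7 n123607 = n62999 := (sb E93671 F209234)
theorem F329637 : act 5 n29804 = n57624 := (sb E93672 F198035)
theorem F329638 : act 7 n29804 = n57623 := (sb E93672 (iv7 D123636))
theorem F329639 : act 0 n62962 = n57624 := (sb E93673 (iv1 F197254))
theorem F329640 : act 1 n62962 = n57270 := (sb E93673 (iv0 D123070))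
theorem F329641 : act 0 n50243 = n57270 := (sb E93674 (iv1 D123071))
theorem F329642 : act 1 n50243 = n57624 := (sb E93674 F197248)
theorem F329643 : act 5 n123065 = n62996 := (sb E93675 (iv5 D134106))
theorem F329644 : act 7 n123065 = n134238 := (sb E93675 (iv7 F216274))
theorem F329645 : act 2 n63059 = n57624 := (sb E93677 F197251)
theorem E93808 : n134239 = n57584 := ((D134239).symm.trans (sb E93677 F197253))
theorem F329646 : act 7 n63059 = n57270 := (sb E93677 (iv7 D123073))
theorem E93809 : n111830 = n87850 := (((F147950).symm.trans (sb E93678 (iv2 F173634)))).symm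
theorem F329647 : act 5 n96203 = n50536 := (sb E93678 (iv5 D109538))
theorem E93810 : n174614 = n104833 := ((D174614).symm.trans (sb E93679 (iv1 F160688)))
theorem F329648 : act 1 n83443 = n48399 := (sb E93679 (iv0 D104669))
theorem F329649 : act 3 n73061 = n50243 := (sb E93680 F168771)
theorem E93811 : n154223 = n50242 := ((D154223).symm.trans (sb E93680 (iv5 D108817)))
theorem E93812 : n154215 = n63057 := ((F242332).symm.trans (sb E93680 F168772))
theorem F329650 : act 1 n73063 = n63057 := (sb E93681 (iv0 D134230))
theorem F329651 : act 0 n57654 = n63057 := (sb E93682 (iv1 D134231))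
theorem E93815 : n123864 = n24949 := ((((iv2 F39124)).symm.trans (sb E93683 (iv2 F198319)))).symm
theorem E93816 : n123870 = n51280 := ((((iv3 F80883)).symm.trans (sb E93683 (iv3 F198321)))).symm
theorem E93817 : n123873 = n51284 := (((D51284).symm.trans (sb E93683 (iv4 F198322)))).symm
theorem E93818 : n51285 = n27561 := ((D51285).symm.trans (sb E93683 (iv6 D57721)))
theorem F329652 : act 6 n58716 = n83513 := (sb E93684 (iv6 D174818))
theorem E93820 : n133999 = n63427 := (((iv2 F215931)).symm.trans (sb E93685 F216844))
theorem F329653 : act 5 n66275 = n63332 := (sb E93685 (iv5 D134769))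
theorem F329654 : act 0 n110859 = n63426 := (sb E93686 F214854)
theorem F329655 : act 1 n110859 = n63425 := (sb E93686 (iv0 F214855))
theorem F329656 : act 2 n110859 = n63428 := (sb E93686 F214851)
theorem F329657 : act 4 n110859 = n62681 := (sb E93686 (iv4 D133566))
theorem F329658 : act 6 n110859 = n63405 := (sb E93686 F214852)
theorem F329659 : act 7 n110859 = n63332 := (sb E93686 F214853)
theorem F329660 : act 5 n62946 = n63428 := (sb E93687 F217177)
theorem F329661 : act 5 n63432 = n63426 := (sb E93688 (iv5 D134961))
theorem F329662 : act 5 n138279 = n66281 := (sb E93689 (iv5 D141301))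
theorem F329663 : act 5 n138280 = n66292 := (sb E93690 (iv5 D141319))
theorem E93822 : n135655 = n117234 := ((D135655).symm.trans (sb E93691 (iv2 F183435)))
theorem E93823 : n135656 = n113736 := ((D135656).symm.trans (sb E93691 (iv3 F176973)))
theorem E93824 : n146771 = n135657 := (((D135657).symm.trans (sb E93691 (iv4 F230136)))).symm
theorem E93825 : n135658 = n33181 := ((D135658).symm.trans (sb E93691 F105007))
theorem E93826 : n135659 = n32009 := ((D135659).symm.trans (sb E93691 (iv6 D68814)))
theorem E93827 : n146774 = n135660 := (((D135660).symm.trans (sb E93691 D146774))).symm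
theorem F329664 : act 5 n60204 = n85431 := (sb E93692 (iv5 D179058))
theorem F329665 : act 6 n60207 = n85431 := (sb E93693 (iv6 D179059))
theorem F329666 : act 3 n49378 = n46771 := (sb E93694 F154156)
theorem F329667 : act 7 n49378 = n46769 := (sb E93694 (iv7 D100218))
theorem F329668 : act 6 n49376 = n46771 := (sb E93695 (iv6 D100222))
theorem F329669 : act 2 n65394 = n46924 := (sb E93698 F294183)
theorem E93828 : n139328 = n42552 := ((D139328).symm.trans (sb E93698 (iv6 D90847)))
theorem F329670 : act 3 n65468 = n46924 := (sb E93699 F154514)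
theorem F329671 : act 6 n65468 = n46879 := (sb E93699 (iv6 D100459))
theorem E93829 : n87915 = n74068 := ((D87915).symm.trans (sb E93702 F244708))
theorem E93830 : n93346 = n74066 := (((D74066).symm.trans (sb E93703 F159646))).symm
theorem E93831 : n93343 = n74067 := (((D74067).symm.trans (sb E93703 F159647))).symm
theorem F329672 : act 4 n33990 = n48194 := (sb E93703 (iv4 D104145))
theorem E93832 : n96209 = n33982 := (((F53326).symm.trans (sb E93703 (iv5 F293904)))).symm
theorem F329673 : act 3 n104146 = n74062 := (sb E93704 F244710)
theorem F329674 : act 4 n104146 = n74069 := (sb E93704 F244711)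
theorem E93833 : n92841 = n71329 := ((D92841).symm.trans (sb E93705 (iv0 D151349)))
theorem E93834 : n115051 = n92838 := ((((iv2 F143207)).symm.trans (sb E93705 (iv2 F238061)))).symm
theorem E93835 : n92842 = n71436 := ((D92842).symm.trans (sb E93705 F238060))
theorem F329675 : act 3 n65889 = n46739 := (sb E93706 (iv3 D100135))
theorem F329676 : act 6 n65889 = n46769 := (sb E93706 F154057)
theorem F329677 : act 6 n57489 = n65090 := (sb E93707 (iv6 D138629))
theorem F329678 : act 3 n88063 = n59509 := (sb E93708 F204053)
theorem F329679 : act 1 n30707 = n41107 := (sb E93709 (iv0 D88047))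
theorem E93838 : n184651 = n65522 := (((D65522).symm.trans (sb E93709 D184651))).symm
theorem E93840 : n156704 = n102468 := ((D156704).symm.trans (sb E93711 F289927))
theorem E93841 : n156705 = n102463 := ((D156705).symm.trans (sb E93711 F289875))
theorem F329680 : act 2 n74520 = n82039 := (sb E93711 F277408)
theorem F329681 : act 5 n74520 = n81930 := (sb E93711 (iv5 D170920))
theorem E93842 : n156707 = n82034 := ((D156707).symm.trans (sb E93711 F277409))
theorem F329682 : act 4 n131924 = n82039 := (sb E93712 (iv4 D171195))
theorem E93843 : n134244 = n123793 := ((D134244).symm.trans (sb E93717 F198265))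
theorem E93844 : n134287 = n123855 := ((D134287).symm.trans (sb E93722 (iv5 F198313)))
theorem F329683 : act 5 n123608 = n62999 := (sb E93723 (iv5 D134114))
theorem E93845 : n139585 = n46993 := ((D139585).symm.trans (sb E93725 (iv1 D100788)))
theorem E93846 : n139586 = n47024 := ((D139586).symm.trans (sb E93725 F154881))
theorem E93847 : n139587 = n47022 := ((D139587).symm.trans (sb E93725 F270476))
theorem E93848 : n139588 = n89115 := ((D139588).symm.trans (sb E93725 (iv5 F154882)))
theorem E93849 : n170768 = n139590 := (((D139590).symm.trans (sb E93726 F286624))).symm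
theorem E93850 : n139591 = n89112 := ((D139591).symm.trans (sb E93726 F286625))
theorem F329684 : act 1 n53390 = n46769 := (sb E93728 (iv0 D100214))
theorem F329685 : act 0 n53389 = n46769 := (sb E93729 (iv1 D100215))
theorem F329686 : act 2 n53392 = n46769 := (sb E93730 (iv2 D100216))
theorem F329687 : act 0 n65485 = n82040 := (sb E93731 (iv1 D171197))
theorem F329688 : act 6 n99998 = n141146 := (sb E93732 F246500)
theorem F329689 : act 2 n100006 = n74524 := (sb E93733 F172496)
theorem F329690 : act 4 n100006 = n51301 := (sb E93733 F172497)
theorem F329691 : act 6 n100006 = n111147 := (sb E93733 F172498)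
theorem F329692 : act 7 n100006 = n51299 := (sb E93733 (iv7 D111222))
theorem F329693 : act 0 n100007 = n49749 := (sb E93734 (iv1 D107686))
theorem F329694 : act 1 n100007 = n110822 := (sb E93734 F171644)
theorem F329695 : act 2 n100007 = n110821 := (sb E93734 F171636)
theorem F329696 : act 3 n100007 = n58746 := (sb E93734 F171595)
theorem F329697 : act 5 n100007 = n108105 := (sb E93734 (iv5 F171594))
theorem F329698 : act 6 n100007 = n59633 := (sb E93734 (iv6 F171597))
theorem F329699 : act 7 n100007 = n67604 := (sb E93734 F171596)
theorem F329700 : act 6 n66203 = n46703 := (sb E93735 (iv6 D100008))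
theorem F329701 : act 4 n100017 = n136532 := (sb E93736 F246492)
theorem F329702 : act 7 n100017 = n141256 := (sb E93736 F246494)
theorem F329703 : act 0 n100021 = n110822 := (sb E93737 (iv1 F171645))
theorem F329704 : act 1 n100021 = n49749 := (sb E93737 (iv0 D107685))
theorem F329705 : act 2 n100021 = n67604 := (sb E93737 (iv2 F171598))
theorem F329706 : act 3 n100021 = n134843 := (sb E93737 (iv3 F217021))
theorem F329707 : act 5 n100021 = n108104 := (sb E93737 F171599)
theorem F329708 : act 7 n100021 = n110821 := (sb E93737 (iv7 F171634))
theorem F329709 : act 0 n100022 = n139311 := (sb E93738 F246497)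
theorem F329710 : act 1 n100022 = n135242 := (sb E93738 F246498)
theorem F329711 : act 2 n100022 = n141269 := (sb E93738 F246495)
theorem F329712 : act 7 n100022 = n141149 := (sb E93738 F246496)
theorem E93851 : n139333 = n98429 := ((D139333).symm.trans (sb E93739 F294179))
theorem E93852 : n177843 = n139334 := (((D139334).symm.trans (sb E93739 F294180))).symm
theorem F329713 : act 5 n65396 = n42551 := (sb E93739 (iv5 D90843))
theorem E93853 : n139336 = n46460 := ((D139336).symm.trans (sb E93739 F294182))
theorem E93854 : n184296 = n126798 := (((D126798).symm.trans (sb E93740 F306453))).symm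
theorem E93855 : n126799 = n72982 := ((D126799).symm.trans (sb E93740 (iv0 D154132)))
theorem F329714 : act 4 n59504 = n73102 := (sb E93740 (iv4 F242239))
theorem F329715 : act 7 n59504 = n88063 := (sb E93740 F306454)
theorem F329716 : act 3 n65481 = n46857 := (sb E93741 F129910)
theorem E93856 : n177844 = n111477 := ((((iv4 F172985)).symm.trans (sb E93741 D177844))).symm
theorem F329717 : act 5 n65481 = n39114 := (sb E93741 (iv5 D84676))
theorem F329718 : act 6 n65481 = n56719 := (sb E93741 F129911)
theorem E93857 : n88045 = n74525 := ((D88045).symm.trans (sb E93742 (iv5 D156713)))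
theorem E93858 : n88040 = n74527 := ((D88040).symm.trans (sb E93743 (iv5 D156716)))
theorem E93859 : n139540 = n98429 := ((D139540).symm.trans (sb E93744 F153011))
theorem E93860 : n139543 = n98400 := ((D139543).symm.trans (sb E93744 (iv5 F153010)))
theorem E93861 : n139545 = n139334 := ((D139545).symm.trans (sb E93744 (tr (iv7 F277386) E93852)))
theorem E93862 : n139546 = n87770 := ((D139546).symm.trans (sb E93745 F285850))
theorem E93863 : n139548 = n98430 := ((D139548).symm.trans (sb E93745 (iv5 F277389)))
theorem F329719 : act 3 n46958 = n71084 := (sb E93746 (iv3 D150766))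
theorem E93864 : n127828 = n90636 := ((((iv4 F291188)).symm.trans (sb E93746 F237333))).symm
theorem E93865 : n155855 = n47934 := (((F292694).symm.trans (sb E93747 F244842))).symm
theorem F329720 : act 3 n92917 = n60155 := (sb E93747 (iv3 D128018))
theorem F329721 : act 4 n90513 = n76650 := (sb E93748 (iv4 D160060))
theorem E93866 : n92889 = n92831 := (((F157814).symm.trans (sb E93748 (iv7 F329552)))).symm
theorem F329722 : act 3 n89582 = n73369 := (sb E93749 (iv3 D154709))
theorem F329723 : act 0 n89578 = n111139 := (sb E93750 (iv1 F172483))
theorem F329724 : act 1 n89578 = n111138 := (sb E93750 F172481)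
theorem F329725 : act 2 n89578 = n51297 := (sb E93750 (iv2 D111216))
theorem F329726 : act 3 n89578 = n74517 := (sb E93750 F172478)
theorem F329727 : act 4 n89578 = n108536 := (sb E93750 F172479)
theorem F329728 : act 7 n89578 = n111140 := (sb E93750 F172480)
theorem F329729 : act 1 n93437 = n55238 := (sb E93751 (iv0 D120041))
theorem F329730 : act 0 n93435 = n55238 := (sb E93752 (iv1 D120042))
theorem F329731 : act 2 n104143 = n55238 := (sb E93753 (iv2 D120043))
theorem F329732 : act 3 n104143 = n74092 := (sb E93753 F189591)
theorem E93867 : n119984 = n103255 := ((((iv5 F293906)).symm.trans (sb E93753 F189592))).symm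
theorem E93868 : n119982 = n97343 := ((D119982).symm.trans (sb E93755 F158533))
theorem E93869 : n119983 = n101219 := ((D119983).symm.trans (sb E93755 F294685))
theorem E93870 : n119273 = n47863 := (((iv4 F187736)).symm.trans (sb E93755 (iv4 D103294)))
theorem F329733 : act 4 n120044 = n87909 := (sb E93756 F286252)
theorem E93871 : n143528 = n63104 := ((D143528).symm.trans (sb E93757 F216327))
theorem F329734 : act 6 n67221 = n63101 := (sb E93757 (iv6 D134316))
theorem E93872 : n171108 = n108542 := ((((iv2 F167842)).symm.trans (sb E93758 (iv2 F268836)))).symm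
theorem E93873 : n138775 = n46644 := ((D138775).symm.trans (sb E93758 (iv4 D99878)))
theorem F329735 : act 6 n65162 = n122363 := (sb E93758 (iv6 F195718))
theorem F329736 : act 4 n59834 = n60649 := (sb E93759 (iv4 D128972))
theorem F329737 : act 2 n61262 = n47436 := (sb E93760 (iv2 D102170))
theorem F329738 : act 3 n44866 = n64667 := (sb E93764 F220743)
theorem E93877 : n41220 = n41219 := ((F135217).symm.trans (sb E93765 (iv3 D88319)))
theorem F329739 : act 4 n88308 = n156060 := (sb E93765 (iv4 F329585))
theorem E93878 : n185358 = n182213 := ((D185358).symm.trans (sb E93765 (iv5 F283653)))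
theorem E93880 : n185359 = n183906 := ((D185359).symm.trans (sb E93765 (iv7 F285755)))
theorem F329740 : act 2 n96491 = n64729 := (sb E93766 F220848)
theorem F329741 : act 6 n96491 = n64720 := (sb E93766 (iv6 D137680))
theorem F329742 : act 1 n96490 = n64729 := (sb E93767 (iv0 D137704))
theorem F329743 : act 0 n96489 = n64729 := (sb E93768 (iv1 D137705))
theorem F329744 : act 5 n102046 = n64634 := (sb E93769 F220707)
theorem F329745 : act 1 n47392 = n63968 := (sb E93770 (iv0 D136042))
theorem F329746 : act 0 n47391 = n63968 := (sb E93771 (iv1 D136043))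
theorem F329747 : act 3 n89442 = n63972 := (sb E93772 F218915)
theorem F329748 : act 4 n89442 = n109556 := (sb E93772 F328449)
theorem F329749 : act 5 n89442 = n63968 := (sb E93772 (iv5 D136044))
theorem E93881 : n109555 = n102044 := ((F169509).symm.trans (sb E93773 (iv2 F156986)))
theorem F329750 : act 4 n59861 = n41764 := (sb E93773 F137106)
theorem E93882 : n127450 = n41763 := ((D127450).symm.trans (sb E93773 (iv6 D89439)))
theorem F329751 : act 1 n68756 = n41762 := (sb E93774 (iv0 D89433))
theorem F329752 : act 0 n89435 = n117452 := (sb E93775 F328481)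
theorem F329753 : act 1 n89435 = n117287 := (sb E93775 F328482)
theorem F329754 : act 4 n89435 = n113795 := (sb E93775 F328484)
theorem F329755 : act 6 n89435 = n64601 := (sb E93775 (iv6 D137451))
theorem F329756 : act 4 n59852 = n41762 := (sb E93776 (iv4 D89436))
theorem E93883 : n163072 = n160456 := ((F257404).symm.trans (sb E93777 F257918))
theorem F329757 : act 6 n163034 = n78624 := (sb E93777 (iv6 D163644))
theorem F329758 : act 2 n163035 = n126211 := (sb E93778 (iv2 F327956))
theorem F329759 : act 6 n163035 = n78625 := (sb E93778 (iv6 D163650))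
theorem F329760 : act 2 n163036 = n166646 := (sb E93779 (iv2 F262274))
theorem F329761 : act 6 n35815 = n78396 := (sb E93780 (iv6 D163037))
theorem F329762 : act 0 n98079 = n111165 := (sb E93781 F222558)
theorem F329763 : act 2 n98079 = n65509 := (sb E93781 F222556)
theorem F329764 : act 5 n98079 = n65403 := (sb E93781 (iv5 D139347))
theorem F329765 : act 3 n47021 = n65406 := (sb E93782 (iv3 D139348))
theorem E93884 : n100874 = n67567 := ((D100874).symm.trans (sb E93782 F222559))
theorem F329766 : act 7 n47021 = n65508 := (sb E93782 F222560)
theorem F329767 : act 5 n88037 = n65409 := (sb E93783 (iv5 D139354))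
theorem E93885 : n100840 = n66278 := ((D100840).symm.trans (sb E93784 (iv5 D141297)))
theorem F329768 : act 3 n64633 = n41760 := (sb E93788 (iv3 D89427))
theorem F329769 : act 7 n64633 = n102046 := (sb E93788 (iv7 F156996))
theorem E93886 : n136511 = n102186 := ((D136511).symm.trans (sb E93797 F157069))
theorem E93887 : n137167 = n47232 := ((D137167).symm.trans (sb E93800 (iv6 D101530)))
theorem E93888 : n137534 = n46581 := ((D137534).symm.trans (sb E93801 (iv1 D99701)))
theorem E93889 : n137535 = n46586 := ((D137535).symm.trans (sb E93801 F153507))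
theorem F329770 : act 2 n64653 = n47304 := (sb E93801 F155835)
theorem E93890 : n137536 = n101140 := ((D137536).symm.trans (sb E93801 (iv5 F155845)))
theorem E93891 : n137537 = n47303 := ((D137537).symm.trans (sb E93801 F155833))
theorem F329771 : act 6 n64658 = n47427 := (sb E93804 F157043)
theorem F329772 : act 1 n66256 = n135207 := (sb E93806 (iv0 F217384))
theorem E93892 : n141266 = n63074 := ((D141266).symm.trans (sb E93806 F216285))
theorem E93893 : n141267 = n63072 := ((D141267).symm.trans (sb E93806 (iv6 D134259)))
theorem E93894 : n141147 = n135055 := (((iv7 F224121)).symm.trans (sb E93806 (iv7 F217289)))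
theorem F329773 : act 0 n66252 = n135207 := (sb E93807 F326763)
theorem E93895 : n141259 = n66280 := ((D141259).symm.trans (sb E93807 F326765))
theorem E93896 : n141260 = n46046 := ((D141260).symm.trans (sb E93807 (iv6 D98454)))
theorem F329774 : act 6 n57584 = n63059 := (sb E93808 (iv6 D134239))
theorem E93897 : n184185 = n51565 := ((D184185).symm.trans (sb E93809 (iv5 D111830)))
theorem F329775 : act 1 n104833 = n83443 := (sb E93810 (iv0 D174614))
theorem F329776 : act 5 n50242 = n73061 := (sb E93811 (iv5 D154223))
theorem E93898 : n134228 = n73060 := (((iv2 F216268)).symm.trans (sb E93812 (iv2 D154215)))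
theorem F329777 : act 7 n63057 = n73061 := (sb E93812 (iv7 F242332))
theorem E93899 : n57717 = n51315 := (((D51315).symm.trans (sb E93815 (iv6 D123864)))).symm
theorem E93900 : n111184 = n57718 := ((D111184).symm.trans (sb E93816 (iv6 D123870)))
theorem E93901 : n111192 = n57719 := ((D111192).symm.trans (sb E93817 (iv6 D123873)))
theorem E93904 : n62941 = n57720 := (((D57720).symm.trans (sb E93818 (iv5 F98192)))).symm
theorem F329778 : act 6 n27561 = n24933 := (sb E93818 (iv6 D51285))
theorem E93906 : n134962 = n66213 := ((D134962).symm.trans (sb E93820 (iv1 F215934)))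
theorem E93907 : n134963 = n66209 := ((D134963).symm.trans (sb E93820 F215935))
theorem F329779 : act 2 n63427 = n66275 := (sb E93820 F215931)
theorem E93908 : n134964 = n110812 := ((D134964).symm.trans (sb E93820 F215932))
theorem E93909 : n134955 = n110871 := (((iv6 F217164)).symm.trans (sb E93820 F215933))
theorem F329780 : act 7 n63427 = n62946 := (sb E93820 (iv7 D133999))
theorem F329781 : act 2 n117234 = n63782 := (sb E93822 (iv2 D135655))
theorem F329782 : act 7 n117234 = n63783 := (sb E93822 (iv7 F218150))
theorem F329783 : act 3 n113736 = n63782 := (sb E93823 (iv3 D135656))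
theorem F329784 : act 6 n135657 = n68813 := (sb E93824 (iv6 D146771))
theorem F329785 : act 5 n33181 = n63782 := (sb E93825 (iv5 D135658))
theorem F329786 : act 6 n32009 = n63782 := (sb E93826 (iv6 D135659))
theorem F329787 : act 5 n135660 = n71784 := (sb E93827 F230137)
theorem F329788 : act 3 n42552 = n65396 := (sb E93828 F222516)
theorem F329789 : act 6 n42552 = n65394 := (sb E93828 (iv6 D139328))
theorem F329790 : act 0 n74068 = n93435 := (sb E93829 (iv1 F144124))
theorem F329791 : act 1 n74068 = n93437 := (sb E93829 (iv0 F144129))
theorem F329792 : act 4 n74068 = n41019 := (sb E93829 (iv4 D87915))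
theorem E93911 : n95295 = n74050 := (((F110816).symm.trans (sb E93829 (iv5 F294684)))).symm
theorem E93912 : n184327 = n155705 := (((D155705).symm.trans (sb E93829 D184327))).symm
theorem F329793 : act 7 n74068 = n104143 := (sb E93829 (iv7 F159639))
theorem F329794 : act 0 n74066 = n104143 := (sb E93830 (iv1 F159641))
theorem E93913 : n155695 = n93435 := ((D155695).symm.trans (sb E93830 (iv2 F144121)))
theorem E93914 : n155697 = n43663 := ((D155697).symm.trans (sb E93830 (iv4 D93346)))
theorem E93915 : n155698 = n47836 := ((D155698).symm.trans (sb E93830 F293908))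
theorem E93916 : n155700 = n93437 := ((D155700).symm.trans (sb E93830 (iv7 F144128)))
theorem F329795 : act 1 n74067 = n104143 := (sb E93831 (iv0 F159640))
theorem E93917 : n155702 = n43662 := ((D155702).symm.trans (sb E93831 (iv4 D93343)))
theorem E93918 : n155703 = n47843 := ((D155703).symm.trans (sb E93831 F294142))
theorem E93919 : n74048 = n47849 := ((D74048).symm.trans (sb E93832 F147962))
theorem E93920 : n74049 = n47852 := ((D74049).symm.trans (sb E93832 F147963))
theorem E93921 : n54890 = n44919 := (((iv4 F86830)).symm.trans (sb E93832 (iv4 D96209)))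
theorem F329796 : act 0 n71329 = n43442 := (sb E93833 (iv1 D92841))
theorem F329797 : act 0 n92838 = n146331 := (sb E93834 (iv1 F229672))
theorem F329798 : act 1 n92838 = n118677 := (sb E93834 (iv0 F186666))
theorem F329799 : act 4 n92838 = n53088 := (sb E93834 (iv4 D115051))
theorem F329800 : act 7 n92838 = n151350 := (sb E93834 (iv7 F238063))
theorem F329801 : act 4 n71436 = n43442 := (sb E93835 (iv4 D92842))
theorem F329802 : act 7 n65522 = n98079 := (sb E93838 F286629)
theorem F329803 : act 1 n102468 = n74520 := (sb E93840 (iv0 D156704))
theorem F329804 : act 0 n102463 = n74520 := (sb E93841 (iv1 D156705))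
theorem E93922 : n171178 = n134326 := ((D171178).symm.trans (sb E93842 F246490))
theorem E93923 : n171179 = n138633 := ((D171179).symm.trans (sb E93842 F246491))
theorem F329805 : act 7 n82034 = n74520 := (sb E93842 (iv7 D156707))
theorem F329806 : act 5 n123793 = n63061 := (sb E93843 (iv5 D134244))
theorem F329807 : act 6 n123793 = n63064 := (sb E93843 F216279)
theorem F329808 : act 5 n123855 = n63086 := (sb E93844 (iv5 D134287))
theorem F329809 : act 6 n123855 = n63089 := (sb E93844 F216311)
theorem F329810 : act 1 n46993 = n65508 := (sb E93845 (iv0 D139585))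
theorem F329811 : act 0 n47024 = n65508 := (sb E93846 (iv1 D139586))
theorem F329812 : act 2 n47022 = n65508 := (sb E93847 (iv2 D139587))
theorem F329813 : act 3 n89115 = n65509 := (sb E93848 F222726)
theorem F329814 : act 5 n89115 = n65508 := (sb E93848 (iv5 D139588))
theorem F329815 : act 0 n139590 = n86988 := (sb E93849 F289694)
theorem F329816 : act 3 n139590 = n172221 := (sb E93849 (iv3 F270432))
theorem F329817 : act 5 n139590 = n99877 := (sb E93849 F268358)
theorem F329818 : act 6 n139590 = n81871 := (sb E93849 (iv6 D170768))
theorem F329819 : act 6 n89112 = n65509 := (sb E93850 (iv6 D139591))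
theorem F329820 : act 0 n98429 = n65481 := (sb E93851 (iv1 F222523))
theorem F329821 : act 1 n98429 = n65396 := (sb E93851 (iv0 D139333))
theorem F329822 : act 0 n46460 = n65479 := (sb E93853 (iv1 F222524))
theorem F329823 : act 1 n46460 = n65478 := (sb E93853 F222525)
theorem F329824 : act 2 n46460 = n65481 := (sb E93853 F222522)
theorem F329825 : act 7 n46460 = n65396 := (sb E93853 (iv7 D139336))
theorem F329826 : act 0 n126798 = n101214 := (sb E93854 F286243)
theorem F329827 : act 2 n126798 = n141028 := (sb E93854 (iv2 F325012))
theorem F329828 : act 4 n126798 = n87901 := (sb E93854 (iv4 D184296))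
theorem F329829 : act 7 n126798 = n124695 := (sb E93854 (iv7 F308468))
theorem F329830 : act 0 n72982 = n59504 := (sb E93855 (iv1 D126799))
theorem F329831 : act 2 n111477 = n99358 := (sb E93856 F277379)
theorem F329832 : act 6 n111477 = n122396 := (sb E93856 F277380)
theorem E93926 : n184628 = n111223 := ((((iv2 F172501)).symm.trans (sb E93857 (iv2 F286595)))).symm
theorem E93927 : n156712 = n100785 := ((D156712).symm.trans (sb E93857 (iv3 F154879)))
theorem F329833 : act 5 n74525 = n41106 := (sb E93857 (iv5 D88045))
theorem E93930 : n184634 = n156715 := (((D156715).symm.trans (sb E93858 (iv3 F286613)))).symm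
theorem F329834 : act 5 n74527 = n41105 := (sb E93858 (iv5 D88040))
theorem F329835 : act 2 n98429 = n65478 := (sb E93859 (iv2 D139540))
theorem F329836 : act 7 n98429 = n65479 := (sb E93859 (iv7 F222705))
theorem F329837 : act 5 n98400 = n65478 := (sb E93860 (iv5 D139543))
theorem F329838 : act 2 n139334 = n65479 := (sb E93861 F222706)
theorem F329839 : act 7 n139334 = n65478 := (sb E93861 (iv7 D139545))
theorem F329840 : act 3 n87770 = n65479 := (sb E93862 (iv3 D139546))
theorem F329841 : act 5 n98430 = n65479 := (sb E93863 (iv5 D139548))
theorem F329842 : act 3 n90636 = n60026 := (sb E93864 (iv3 D127828))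
theorem E93933 : n127821 = n46913 := (((F291189).symm.trans (sb E93864 F205649))).symm
theorem E93934 : n114385 = n90757 := ((((iv7 F139682)).symm.trans (sb E93864 F205650))).symm
theorem E93935 : n103450 = n74131 := ((D103450).symm.trans (sb E93865 (iv3 D155855)))
theorem F329843 : act 0 n92831 = n74016 := (sb E93866 F329550)
theorem F329844 : act 1 n92831 = n43462 := (sb E93866 (iv0 D92889))
theorem F329845 : act 4 n92831 = n159382 := (sb E93866 F329551)
theorem F329846 : act 2 n103255 = n55215 := (sb E93867 (iv2 D119984))
theorem F329847 : act 3 n103255 = n74035 := (sb E93867 F189408)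
theorem F329848 : act 1 n97343 = n55215 := (sb E93868 (iv0 D119982))
theorem F329849 : act 0 n101219 = n55215 := (sb E93869 (iv1 D119983))
theorem E93936 : n103293 = n54892 := (((iv3 F158529)).symm.trans (sb E93870 F187735))
theorem F329850 : act 4 n47863 = n55215 := (sb E93870 F187736)
theorem F329851 : act 3 n63104 = n67221 := (sb E93871 (iv3 D143528))
theorem F329852 : act 4 n108542 = n82008 := (sb E93872 (iv4 D171108))
theorem F329853 : act 6 n108542 = n82017 := (sb E93872 F268837)
theorem F329854 : act 4 n46644 = n65162 := (sb E93873 (iv4 D138775))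
theorem E93937 : n88321 = n88208 := ((((iv1 F135147)).symm.trans (sb E93877 D88321))).symm
theorem E93939 : n87724 = n87723 := ((((iv2 F134651)).symm.trans (sb E93877 (iv2 F134653)))).symm
theorem F329855 : act 3 n41219 = n88308 := (sb E93877 (iv3 F135217))
theorem E93940 : n88320 = n19384 := ((((iv4 D41219)).symm.trans (sb E93877 (iv4 F135235)))).symm
theorem E93941 : n88323 = n86998 := ((((iv5 F133514)).symm.trans (sb E93877 D88323))).symm
theorem E93942 : n88324 = n87726 := ((((iv7 F134657)).symm.trans (sb E93877 D88324))).symm
theorem F329856 : act 5 n182213 = n88308 := (sb E93878 (iv5 D185358))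
theorem F329857 : act 6 n182213 = n88311 := (sb E93878 F287604)
theorem F329858 : act 7 n183906 = n88308 := (sb E93880 (iv7 D185359))
theorem F329859 : act 0 n102044 = n111835 := (sb E93881 (iv1 F173651))
theorem F329860 : act 1 n102044 = n50543 := (sb E93881 (iv0 D109555))
theorem F329861 : act 2 n102044 = n59861 := (sb E93881 (iv2 F169509))
theorem F329862 : act 5 n102044 = n50675 := (sb E93881 F169510)
theorem F329863 : act 7 n102044 = n111837 := (sb E93881 (iv7 F173657))
theorem E93943 : n89438 = n59863 := ((D89438).symm.trans (sb E93882 F204872))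
theorem F329864 : act 6 n41763 = n59861 := (sb E93882 (iv6 D127450))
theorem F329865 : act 0 n160456 = n78409 := (sb E93883 (iv1 D163072))
theorem F329866 : act 4 n160456 = n163034 := (sb E93883 (iv4 F257404))
theorem F329867 : act 4 n67567 = n47021 := (sb E93884 (iv4 D100874))
theorem E93944 : n141292 = n47014 := (((iv3 F224309)).symm.trans (sb E93885 F154940))
theorem F329868 : act 5 n66278 = n47012 := (sb E93885 (iv5 D100840))
theorem F329869 : act 5 n102186 = n64176 := (sb E93886 (iv5 D136511))
theorem F329870 : act 6 n47232 = n64479 := (sb E93887 (iv6 D137167))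
theorem F329871 : act 1 n46581 = n64653 := (sb E93888 (iv0 D137534))
theorem F329872 : act 0 n46586 = n64653 := (sb E93889 (iv1 D137535))
theorem F329873 : act 5 n101140 = n64653 := (sb E93890 (iv5 D137536))
theorem F329874 : act 7 n47303 = n64653 := (sb E93891 (iv7 D137537))
theorem F329875 : act 4 n63074 = n66256 := (sb E93892 (iv4 D141266))
theorem F329876 : act 6 n63072 = n66256 := (sb E93893 (iv6 D141267))
theorem F329877 : act 2 n135055 = n66252 := (sb E93894 F224120)
theorem F329878 : act 5 n135055 = n66203 := (sb E93894 (iv5 D141147))
theorem F329879 : act 7 n135055 = n66256 := (sb E93894 F224121)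
theorem F329880 : act 4 n66280 = n66252 := (sb E93895 (iv4 D141259))
theorem F329881 : act 6 n46046 = n66252 := (sb E93896 (iv6 D141260))
theorem F329882 : act 5 n51565 = n87850 := (sb E93897 (iv5 D184185))
theorem F329883 : act 2 n73060 = n63057 := (sb E93898 F216268)
theorem E93945 : n154218 = n63056 := ((D154218).symm.trans (sb E93898 (iv5 D134228)))
theorem E93946 : n123837 = n111263 := (((D111263).symm.trans (sb E93899 (iv1 F198298)))).symm
theorem E93947 : n123836 = n111264 := (((D111264).symm.trans (sb E93899 F198297))).symm
theorem F329884 : act 2 n51315 = n27561 := (sb E93899 F90893)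
theorem E93948 : n123848 = n111257 := ((((iv3 F172557)).symm.trans (sb E93899 (iv3 F198307)))).symm
theorem E93949 : n123854 = n63146 := ((((iv4 F98424)).symm.trans (sb E93899 (iv4 F198311)))).symm
theorem E93950 : n123859 = n62952 := ((((iv5 F98216)).symm.trans (sb E93899 (iv5 F198316)))).symm
theorem E93951 : n111265 = n27560 := ((D111265).symm.trans (sb E93899 (iv7 D57717)))
theorem E93952 : n133985 = n123869 := (((D123869).symm.trans (sb E93900 (iv5 F215910)))).symm
theorem F329885 : act 6 n57718 = n51280 := (sb E93900 (iv6 D111184))
theorem F329886 : act 6 n57719 = n51284 := (sb E93901 (iv6 D111192))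
theorem E93955 : n133987 = n123874 := (((D123874).symm.trans (sb E93904 (iv4 F215914)))).symm
theorem E93956 : n123875 = n29774 := ((D123875).symm.trans (sb E93904 (iv6 D62941)))
theorem E93957 : n133990 = n123840 := ((((iv7 F198303)).symm.trans (sb E93904 D133990))).symm
theorem F329887 : act 1 n66213 = n63427 := (sb E93906 (iv0 D134962))
theorem E93958 : n141158 = n134250 := ((D141158).symm.trans (sb E93906 F217176))
theorem F329888 : act 0 n66209 = n63427 := (sb E93907 (iv1 D134963))
theorem E93959 : n141299 = n141155 := (((D141155).symm.trans (sb E93907 (iv5 F224319)))).symm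
theorem F329889 : act 4 n110812 = n63427 := (sb E93908 (iv4 D134964))
theorem F329890 : act 5 n110871 = n63424 := (sb E93909 (iv5 D134955))
theorem F329891 : act 6 n110871 = n63427 := (sb E93909 F217164)
theorem F329892 : act 0 n74050 = n101219 := (sb E93911 F294683)
theorem F329893 : act 1 n74050 = n97343 := (sb E93911 (iv0 F150091))
theorem E93960 : n119271 = n44515 := (((iv4 F187733)).symm.trans (sb E93911 (iv4 D95295)))
theorem F329894 : act 7 n74050 = n103255 := (sb E93911 (iv7 F158500))
theorem F329895 : act 4 n155705 = n87916 := (sb E93912 F286259)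
theorem F329896 : act 2 n93435 = n74066 := (sb E93913 (iv2 D155695))
theorem F329897 : act 7 n93435 = n74067 := (sb E93913 (iv7 F244718))
theorem E93961 : n155852 = n20660 := ((((iv1 D43663)).symm.trans (sb E93914 F244839))).symm
theorem F329898 : act 4 n43663 = n74066 := (sb E93914 (iv4 D155697))
theorem F329899 : act 5 n47836 = n74066 := (sb E93915 (iv5 D155698))
theorem F329900 : act 2 n93437 = n74067 := (sb E93916 F244720)
theorem F329901 : act 7 n93437 = n74066 := (sb E93916 (iv7 D155700))
theorem F329902 : act 4 n43662 = n74067 := (sb E93917 (iv4 D155702))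
theorem F329903 : act 5 n47843 = n74067 := (sb E93918 (iv5 D155703))
theorem F329904 : act 1 n47849 = n33982 := (sb E93919 (iv0 D74048))
theorem E93963 : n155649 = n103256 := (((D103256).symm.trans (sb E93919 D155649))).symm
theorem F329905 : act 0 n47852 = n33982 := (sb E93920 (iv1 D74049))
theorem E93974 : n96207 = n26552 := (((iv3 F147956)).symm.trans (sb E93921 (iv3 D54890)))
theorem F329906 : act 4 n44919 = n33982 := (sb E93921 F86830)
theorem E93976 : n119246 = n95589 := ((((iv6 F147255)).symm.trans (sb E93921 (iv6 F187687)))).symm
theorem F329907 : act 4 n134326 = n82034 := (sb E93922 (iv4 D171178))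
theorem F329908 : act 6 n138633 = n82034 := (sb E93923 (iv6 D171179))
theorem F329909 : act 5 n111223 = n88035 := (sb E93926 (iv5 D184628))
theorem F329910 : act 3 n100785 = n74525 := (sb E93927 (iv3 D156712))
theorem F329911 : act 5 n156715 = n88039 := (sb E93930 (iv5 D184634))
theorem E93977 : n100565 = n60023 := ((D100565).symm.trans (sb E93933 (iv3 D127821)))
theorem F329912 : act 3 n90757 = n52787 := (sb E93934 (iv3 D114385))
theorem F329913 : act 3 n74131 = n47934 := (sb E93935 (iv3 D103450))
theorem E93979 : n93350 = n34007 := ((((iv4 D74131)).symm.trans (sb E93935 F158752))).symm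
theorem E93980 : n155823 = n100262 := (((iv7 F244820)).symm.trans (sb E93935 F158753))
theorem F329914 : act 3 n54892 = n47863 := (sb E93936 F158529)
theorem E93981 : n119278 = n47862 := (((iv5 F187739)).symm.trans (sb E93936 (iv5 D103293)))
theorem E93982 : n183903 = n41251 := (((F135146).symm.trans (sb E93937 (iv1 F285744)))).symm
theorem E93995 : n183899 = n183895 := ((D183899).symm.trans (sb E93939 (iv3 F285729)))
theorem E93996 : n183900 = n40863 := ((((iv4 D87723)).symm.trans (sb E93939 (iv4 F285738)))).symm
theorem F329915 : act 6 n19384 = n41219 := (sb E93940 (iv6 D88320))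
theorem E94004 : n185409 = n41258 := ((((iv4 F133513)).symm.trans (sb E93941 D185409))).symm
theorem E94005 : n182214 = n41223 := ((D182214).symm.trans (sb E93941 F135236))
theorem E94006 : n185410 = n181970 := ((((iv7 F283274)).symm.trans (sb E93941 D185410))).symm
theorem E94007 : n183911 = n183907 := (((D183907).symm.trans (sb E93942 (iv6 F285762)))).symm
theorem F329916 : act 3 n59863 = n41763 := (sb E93943 (iv3 D89438))
theorem E94008 : n127456 = n47389 := ((D127456).symm.trans (sb E93943 F137105))
theorem F329917 : act 3 n47014 = n66278 := (sb E93944 F224309)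
theorem E94009 : n100851 = n66276 := ((D100851).symm.trans (sb E93944 (iv6 D141292)))
theorem E94010 : n154394 = n108815 := ((((iv1 F168769)).symm.trans (sb E93945 F242459))).symm
theorem F329918 : act 5 n63056 = n73060 := (sb E93945 (iv5 D154218))
theorem F329919 : act 0 n111263 = n57712 := (sb E93946 (iv1 D123837))
theorem F329920 : act 1 n111264 = n57712 := (sb E93947 (iv0 D123836))
theorem F329921 : act 7 n111257 = n57713 := (sb E93948 (iv7 D123848))
theorem F329922 : act 2 n63146 = n57719 := (sb E93949 F198310)
theorem E94011 : n134440 = n57714 := (((iv7 F216407)).symm.trans (sb E93949 (iv7 D123854)))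
theorem F329923 : act 2 n62952 = n57720 := (sb E93950 F198315)
theorem E94012 : n134016 = n57715 := ((D134016).symm.trans (sb E93950 (iv7 D123859)))
theorem E94013 : n134429 = n57716 := (((D57716).symm.trans (sb E93951 (iv6 F216403)))).symm
theorem F329924 : act 7 n27560 = n51315 := (sb E93951 (iv7 D111265))
theorem F329925 : act 6 n123869 = n62939 := (sb E93952 (iv6 D133985))
theorem F329926 : act 2 n123874 = n111411 := (sb E93955 F215913)
theorem F329927 : act 6 n123874 = n62940 := (sb E93955 (iv6 D133987))
theorem F329928 : act 6 n29774 = n57720 := (sb E93956 (iv6 D123875))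
theorem F329929 : act 0 n123840 = n134015 := (sb E93957 (iv1 F215947))
theorem F329930 : act 1 n123840 = n134014 := (sb E93957 F215950)
theorem F329931 : act 6 n123840 = n139299 := (sb E93957 (iv6 F222496))
theorem F329932 : act 2 n134250 = n66290 := (sb E93958 F224145)
theorem F329933 : act 5 n134250 = n66213 := (sb E93958 (iv5 D141158))
theorem E94014 : n135049 = n66277 := (((iv7 F217278)).symm.trans (sb E93958 F224146))
theorem F329934 : act 0 n141155 = n66292 := (sb E93959 (iv1 F224321))
theorem F329935 : act 1 n141155 = n66281 := (sb E93959 (iv0 D141299))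
theorem F329936 : act 6 n141155 = n111430 := (sb E93959 F224322)
theorem F329937 : act 4 n44515 = n74050 := (sb E93960 F187733)
theorem E94015 : n74130 = n43664 := (((D43664).symm.trans (sb E93961 (iv4 D155852)))).symm
theorem F329938 : act 4 n103256 = n155888 := (sb E93963 F244879)
theorem F329939 : act 3 n26552 = n44919 := (sb E93974 F147956)
theorem E94016 : n54891 = n44918 := ((D54891).symm.trans (sb E93974 (iv5 D96207)))
theorem F329940 : act 3 n95589 = n54882 := (sb E93976 (iv3 D119246))
theorem F329941 : act 4 n95589 = n74051 := (sb E93976 F187686)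
theorem F329942 : act 3 n60023 = n46913 := (sb E93977 (iv3 D100565))
theorem E94017 : n101169 = n52776 := (((F94512).symm.trans (sb E93977 (iv7 F155865)))).symm
theorem E94018 : n93441 = n74124 := (((F110846).symm.trans (sb E93979 (iv7 F144140)))).symm
theorem F329943 : act 2 n100262 = n74126 := (sb E93980 F244819)
theorem F329944 : act 7 n100262 = n74131 := (sb E93980 F244820)
theorem E94019 : n150027 = n103291 := (((D103291).symm.trans (sb E93981 (iv0 F236021)))).symm
theorem F329945 : act 5 n47862 = n54892 := (sb E93981 F187739)
theorem E94021 : n88369 = n88365 := (((D88365).symm.trans (sb E93982 F285741))).symm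
theorem F329946 : act 3 n183895 = n87723 := (sb E93995 (iv3 D183899))
theorem E94022 : n185525 = n185414 := (((iv5 F287804)).symm.trans (sb E93995 (iv5 F287642)))
theorem F329947 : act 7 n183895 = n88364 := (sb E93995 F285736)
theorem F329948 : act 6 n40863 = n87723 := (sb E93996 (iv6 D183900))
theorem F329949 : act 6 n41258 = n88327 := (sb E94004 F287633)
theorem F329950 : act 6 n41223 = n86998 := (sb E94005 (iv6 D182214))
theorem F329951 : act 6 n181970 = n185447 := (sb E94006 (iv6 F287712))
theorem F329952 : act 0 n183907 = n88367 := (sb E94007 (iv1 F285764))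
theorem F329953 : act 1 n183907 = n88366 := (sb E94007 F285765)
theorem F329954 : act 7 n183907 = n87727 := (sb E94007 (iv7 D183911))
theorem F329955 : act 5 n47389 = n59863 := (sb E94008 (iv5 D127456))
theorem F329956 : act 6 n66276 = n47014 := (sb E94009 (iv6 D100851))
theorem F329957 : act 5 n108815 = n73133 := (sb E94010 (iv5 D154394))
theorem E94025 : n123853 = n63145 := ((D123853).symm.trans (sb E94011 (iv6 D134440)))
theorem F329958 : act 7 n57714 = n63146 := (sb E94011 F216407)
theorem F329959 : act 7 n57715 = n62952 := (sb E94012 (iv7 D134016))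
theorem E94026 : n123863 = n63142 := ((D123863).symm.trans (sb E94013 (iv7 D134429)))
theorem E94027 : n141296 = n63468 := ((D141296).symm.trans (sb E94014 (iv6 D135049)))
theorem F329960 : act 7 n66277 = n134250 := (sb E94014 F217278)
theorem F329961 : act 3 n43664 = n34007 := (sb E94015 (iv3 D74130))
theorem E94031 : n155853 = n93351 := (((D93351).symm.trans (sb E94015 D155853))).symm
theorem E94032 : n155854 = n93352 := (((D93352).symm.trans (sb E94015 D155854))).symm
theorem E94033 : n155822 = n43700 := ((((iv7 F68686)).symm.trans (sb E94015 (iv7 F244818)))).symm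
theorem E94034 : n119274 = n96205 := (((D96205).symm.trans (sb E94016 D119274))).symm
theorem E94035 : n119275 = n96206 := (((D96206).symm.trans (sb E94016 D119275))).symm
theorem E94036 : n119192 = n96204 := ((((iv2 F147953)).symm.trans (sb E94016 (iv2 F187548)))).symm
theorem F329962 : act 5 n44918 = n26552 := (sb E94016 (iv5 D54891))
theorem F329963 : act 3 n52776 = n47120 := (sb E94017 (iv3 D101169))
theorem F329964 : act 4 n74124 = n100262 := (sb E94018 (iv4 F154250))
theorem F329965 : act 5 n103291 = n70584 := (sb E94019 (iv5 D150027))
theorem E94039 : n185501 = n183909 := ((D185501).symm.trans (sb E94021 (iv1 F285758)))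
theorem E94040 : n185502 = n183908 := ((D185502).symm.trans (sb E94021 F285763))
theorem E94041 : n185500 = n185491 := (((iv3 F287776)).symm.trans (sb E94021 (iv3 F287755)))
theorem E94042 : n185504 = n41252 := (((F135327).symm.trans (sb E94021 (iv4 F287777)))).symm
theorem E94043 : n185517 = n185503 := (((D185503).symm.trans (sb E94021 (iv5 F287783)))).symm
theorem F329966 : act 5 n185414 = n183895 := (sb E94022 F287804)
theorem F329967 : act 6 n185414 = n88376 := (sb E94022 (iv6 D185525))
theorem F329968 : act 4 n63145 = n57716 := (sb E94025 F198309)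
theorem F329969 : act 6 n63145 = n57714 := (sb E94025 (iv6 D123853))
theorem F329970 : act 7 n63142 = n57716 := (sb E94026 (iv7 D123863))
theorem F329971 : act 6 n63468 = n66277 := (sb E94027 (iv6 D141296))
theorem F329972 : act 3 n93351 = n74132 := (sb E94031 F244840)
theorem F329973 : act 3 n93352 = n74133 := (sb E94032 F244841)
theorem F329974 : act 3 n43700 = n74124 := (sb E94033 (iv3 D155822))
theorem F329975 : act 5 n96205 = n74083 := (sb E94034 F187737)
theorem F329976 : act 5 n96206 = n74084 := (sb E94035 F187738)
theorem F329977 : act 5 n96204 = n54847 := (sb E94036 (iv5 D119192))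
theorem F329978 : act 1 n183909 = n88365 := (sb E94039 (iv0 D185501))
theorem F329979 : act 0 n183908 = n88365 := (sb E94040 (iv1 D185502))
theorem F329980 : act 3 n185491 = n88365 := (sb E94041 F287776)
theorem F329981 : act 6 n185491 = n88364 := (sb E94041 (iv6 D185500))
theorem F329982 : act 7 n41252 = n88365 := (sb E94042 (iv7 D185504))
theorem F329983 : act 7 n185503 = n88368 := (sb E94043 (iv7 D185517))
theorem E94044 : n100883 = n96350 := (c6_2 F329977 (iv3 F328905) (iv5 D96350) (iv3 F147954))
theorem F329984 : act 0 n96350 = n47023 := (sb E94044 (iv1 D100883))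
theorem E94045 : n184342 = n46999 := (((F148294).symm.trans (sb E94044 (iv2 F286274)))).symm
theorem F329985 : act 3 n96350 = n54847 := (sb E94044 F328905)
theorem F329986 : act 4 n96350 = n150897 := (sb E94044 F328906)
theorem E94046 : n100800 = n100789 := ((D100800).symm.trans (sb E94045 (iv1 F286277)))
theorem E94047 : n100886 = n100801 := (((D100801).symm.trans (sb E94045 (iv0 F286276)))).symm
theorem E94048 : n100802 = n87921 := ((D100802).symm.trans (sb E94045 (iv4 D184342)))
theorem E94049 : n100882 = n100803 := (((D100803).symm.trans (sb E94045 F286275))).symm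
theorem F329987 : act 1 n100789 = n46999 := (sb E94046 (iv0 D100800))
theorem F329988 : act 3 n100789 = n87864 := (sb E94046 F158987)
theorem F329989 : act 4 n100801 = n47024 := (sb E94047 F155010)
theorem F329990 : act 7 n100801 = n47023 := (sb E94047 (iv7 D100886))
theorem F329991 : act 4 n87921 = n46999 := (sb E94048 (iv4 D100802))
theorem F329992 : act 1 n100803 = n47023 := (sb E94049 (iv0 D100882))
theorem F329993 : act 4 n100803 = n104147 := (sb E94049 F159650)
theorem F329994 : act 5 n118409 = n103292 := d13_3 F158526 F329977 (iv7 F186061)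
theorem E94050 : n119108 = n91343 := (c16_7 (iv4 F147955) F329977 (iv4 D54847) (iv5 D26533) (iv4 F42440) D54810 D119108 (iv5 D91343) F66959 (iv2 F73780))
theorem E94051 : n145256 = n46912 := ((((iv0 F140434)).symm.trans (sb E94050 (iv0 F228236)))).symm
theorem F329995 : act 2 n91343 = n54862 := (sb E94050 F187380)
theorem F329996 : act 4 n91343 = n54810 := (sb E94050 (iv4 D119108))
theorem E94052 : n115073 = n99945 := ((((iv0 F283730)).symm.trans (sb E94051 F228237))).symm
theorem E94053 : n114643 = n100561 := (((D100561).symm.trans (sb E94051 F228234))).symm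
theorem E94054 : n100562 = n68093 := ((D100562).symm.trans (sb E94051 (iv4 D145256)))
theorem E94055 : n114516 = n99383 := ((((iv7 F153052)).symm.trans (sb E94051 F228235))).symm
theorem F329997 : act 4 n99945 = n53097 := (sb E94052 (iv4 D115073))
theorem F329998 : act 7 n99945 = n54862 := (sb E94052 F179181)
theorem F329999 : act 0 n100561 = n54862 := (sb E94053 F178743)
theorem F330000 : act 4 n100561 = n52915 := (sb E94053 (iv4 D114643))
theorem F330001 : act 4 n68093 = n46912 := (sb E94054 (iv4 D100562))
theorem F330002 : act 1 n99383 = n54862 := (sb E94055 F178583)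
theorem F330003 : act 4 n99383 = n52858 := (sb E94055 (iv4 D114516))
theorem F330004 : act 5 n120012 = n103290 := d17_1 D120012 (iv1 F158520) F329977 (iv4 D54847) (iv5 D26533) F26795 D15887 (iv0 F42774) D55229
theorem E94056 : n144499 = n119190 := (c21_10 (iv5 F329977) F158522 F329965 (iv6 F155446) (iv1 D85458) F319063 D66780 (iv1 F225289) F225290 D144499 (iv1 D119190))
theorem F330005 : act 6 n119190 = n67723 := (sb E94056 (iv6 D144499))
theorem E94057 : n183233 = n155734 := (c21_6 (iv5 F134280) (iv1 D87463) (iv5 D40693) D40694 D87466 D183233 F244743 (iv1 D119190) (iv5 F329977) (iv6 D96204) (iv1 F70586))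
theorem F330006 : act 6 n155734 = n87466 := (sb E94057 (iv6 D183233))
theorem F330007 : act 6 n97409 = n119267 := d3_2 F330006 F270442 F244744
theorem F330008 : act 6 n183232 = n142366 := d12_2 F330006 D183232 F225290 (iv6 F330005) (iv5 F244743)
theorem F330009 : act 6 n115819 = n114618 := d10_2 F330005 F180704 (iv4 F187546)
theorem F330010 : act 6 n116454 = n155739 := d21_3 D67725 D144504 F227347 (iv1 D155739) (iv6 D74087) D74086 D155734 F244743 F330005 (iv1 D67723)
theorem F330011 : act 2 n155739 = n142361 := d3_1 F330010 (iv6 D142361) F181711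
theorem F330012 : act 6 n146991 = n127705 := d12_4 F330009 (iv5 F227897) (iv6 F227903) (iv5 F230391) F205310
theorem F330013 : act 5 n115822 = n144966 := d21_6 F114296 D144928 F227897 (iv6 F330009) (iv1 D115819) D115822 (iv1 D144966) (iv5 F185792) (iv6 D118251) (iv1 F114298)
theorem F330014 : act 0 n141341 = n159414 := d21_4 (iv5 F180308) (iv1 F224366) (iv5 D141340) D141341 (iv6 D159414) F114296 D144928 F227897 (iv6 F330009) (iv1 D115819)
theorem F330015 : act 3 n144966 = n115837 := d6_1 F330013 (iv5 D115837) (iv3 F180215)
theorem F330016 : act 4 n147053 = n115837 := d20_2 (iv4 F105509) (iv1 F230530) (iv3 F330015) (iv1 D144966) F104079 (iv4 F104081) D144976 F278625 (iv3 D147057) (iv1 F105130)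
theorem F330017 : act 2 n140800 = n147053 := d1_3 F330016 (iv2 F180271) D140800
theorem E94058 : n156645 = n115837 := (c20_11 (iv4 F330016) (iv1 D147053) F105123 (iv3 F85404) D117406 F316827 (iv4 F324830) F324828 (iv4 D74495) (iv3 F111803) D156645)
theorem F330018 : act 1 n115837 = n74485 := (sb E94058 (iv0 D156645))
theorem E94059 : n156646 = n140801 := (c15_2 F330018 D156646 (iv7 D140801) F180271)
theorem F330019 : act 0 n140801 = n74485 := (sb E94059 (iv1 D156646))
theorem F330020 : act 1 n127434 = n115837 := d15_0 F330018 (iv7 F317008) (iv2 F204833)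

end Cfsg.Agent.Helper17.ONTC
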