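import Cfsg.Agent.Helper17.ONTC.Facts40

set_option autoImplicit false
set_option linter.all false

noncomputable section

namespace Cfsg.Agent.Helper17.ONTC

theorem F330021 : act 0 n156637 = n147065 := d18_2 D74483 D156637 (iv4 D147065) (iv5 D68956) (iv4 F105123) D147053 F330016 F330018 (iv5 D74485)
theorem F330022 : act 5 n140819 = n156644 := d21_8 D74485 (iv1 F330018) (iv5 D115837) (iv6 D53409) (iv1 F40875) D30901 D66070 D140819 (iv6 D156644) (iv1 D74484)
theorem E94060 : n138517 = n30901 := (c21_11 D66070 D140819 F330022 (iv6 D156644) (iv1 D74484) (iv6 D34158) D34157 (iv1 F232820) (iv5 D65053) D65054 D138517)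
theorem E94061 : n66090 = n66068 := (((D66068).symm.trans (sb E94060 F327717))).symm
theorem E94062 : n66069 = n65054 := ((D66069).symm.trans (sb E94060 (iv0 D138517)))
theorem E94063 : n138518 = n30909 := ((((iv1 F101735)).symm.trans (sb E94061 (iv1 F327718)))).symm
theorem E94064 : n140809 = n30906 := ((D140809).symm.trans (sb E94061 (iv2 D66090)))
theorem E94065 : n140871 = n140810 := (((D140810).symm.trans (sb E94061 D140871))).symm
theorem E94066 : n140872 = n140811 := (((D140811).symm.trans (sb E94061 D140872))).symm
theorem E94067 : n140873 = n140812 := (((D140812).symm.trans (sb E94061 D140873))).symm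
theorem E94068 : n140813 = n138535 := ((D140813).symm.trans (sb E94061 (iv6 F327729)))
theorem E94069 : n140814 = n30907 := ((D140814).symm.trans (sb E94061 (iv7 F101746)))
theorem F330023 : act 0 n65054 = n30901 := (sb E94062 (iv1 D66069))
theorem E94070 : n140815 = n138504 := ((((iv3 F221690)).symm.trans (sb E94062 D140815))).symm
theorem F330024 : act 0 n30909 = n65054 := (sb E94063 (iv1 D138518))
theorem F330025 : act 2 n30906 = n66068 := (sb E94064 (iv2 D140809))
theorem F330026 : act 7 n140810 = n66096 := (sb E94065 F223930)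
theorem F330027 : act 2 n140811 = n66092 := (sb E94066 F223931)
theorem F330028 : act 7 n140811 = n66097 := (sb E94066 F223932)
theorem F330029 : act 2 n140812 = n66093 := (sb E94067 F223933)
theorem F330030 : act 7 n140812 = n66098 := (sb E94067 F223934)
theorem F330031 : act 5 n138535 = n116180 := (sb E94068 F223888)
theorem F330032 : act 6 n138535 = n66068 := (sb E94068 (iv6 D140813))
theorem F330033 : act 7 n30907 = n66068 := (sb E94069 (iv7 D140814))
theorem F330034 : act 4 n138504 = n117014 := (sb E94070 F223890)
theorem F330035 : act 0 n142053 = n156644 := d21_10 (iv5 F330022) (iv1 F223896) F101749 (iv6 F318620) F86049 D118309 F185879 F185325 F328205 D142053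
theorem F330036 : act 0 n156643 = n139739 := d21_7 F185879 F185325 F328205 D142053 F330035 (iv6 D156644) D156643 (iv5 D139739) (iv6 F103300) (iv1 F320342)
theorem E94074 : n156643 = n146631 := ((c20_7 (iv4 F298225) F298223 (iv4 F315402) (iv3 D146732) (iv1 D68795) D68796 (iv4 F229918) F330036 F319653 F253864 D160717)).symm
theorem F330037 : act 0 n146631 = n139739 := (sb E94074 F330036)
theorem F330038 : act 5 n146631 = n74484 := (sb E94074 (iv5 D156643))
theorem F330039 : act 2 n150855 = n146631 := d2_3 F330038 (iv2 F316999) D150855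
theorem E94075 : n156641 = n146632 := (c6_2 F330038 D156641 (iv5 D146632) D146631)
theorem F330040 : act 0 n146632 = n136615 := (sb E94075 F317001)
theorem F330041 : act 1 n146632 = n76264 := (sb E94075 F317002)
theorem F330042 : act 2 n146632 = n179559 := (sb E94075 F317003)
theorem F330043 : act 3 n146632 = n74484 := (sb E94075 (iv3 D156641))
theorem F330044 : act 7 n146632 = n142156 := (sb E94075 (iv7 F322971))
theorem F330045 : act 6 n140819 = n146645 := d12_4 (iv6 F229919) F330038 D156644 (iv5 F330022) (iv5 D146645)
theorem E94076 : n178293 = n142164 := ((c13_4 (iv7 F321716) F330038 F322981 D142164)).symm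
theorem F330046 : act 4 n142164 = n84849 := (sb E94076 (iv4 D178293))
theorem F330047 : act 7 n142164 = n146631 := (sb E94076 (iv7 F321716))
theorem E94077 : n147054 = n79872 := (c17_2 (iv1 D147053) D147054 (iv1 D79872) (iv5 F319815) (iv4 F229918) F330038 (iv0 F316993) (iv5 F204834) F330020 (iv4 F330016))
theorem E94078 : n166338 = n69239 := (((iv2 F261931)).symm.trans (sb E94077 F230531))
theorem E94079 : n166341 = n68953 := ((D166341).symm.trans (sb E94077 (iv5 D147054)))
theorem F330048 : act 2 n69239 = n79872 := (sb E94078 F261931)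
theorem E94080 : n147784 = n79871 := (((iv7 F231533)).symm.trans (sb E94078 (iv7 D166338)))
theorem F330049 : act 5 n68953 = n79872 := (sb E94079 (iv5 D166341))
theorem E94081 : n166336 = n69236 := ((D166336).symm.trans (sb E94080 (iv5 D147784)))
theorem F330050 : act 7 n79871 = n69239 := (sb E94080 F231533)
theorem F330051 : act 5 n69236 = n79871 := (sb E94081 (iv5 D166336))
theorem F330052 : act 6 n154436 = n146643 := d21_3 (iv5 F235633) (iv1 F237041) (iv5 F242478) (iv1 D146643) (iv6 F229919) F330038 (iv1 D74484) D74485 F314690 (iv1 F310859)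
theorem E94082 : n179643 = n146642 := ((c21_11 (iv5 F320649) F320647 F205285 (iv6 D69179) (iv1 F94302) D127434 F204834 F316993 (iv5 F330038) F229919 D146642)).symm
theorem F330053 : act 3 n146642 = n85783 := (sb E94082 (iv3 D179643))
theorem F330054 : act 5 n146642 = n127131 := (sb E94082 (iv5 F320649))
theorem F330055 : act 6 n146642 = n127482 := (sb E94082 F279759)
theorem F330056 : act 7 n146642 = n179994 := (sb E94082 (iv7 F280372))
theorem F330057 : act 5 n127482 = n142086 := d21_6 F204834 F316993 (iv5 F330038) F229919 D146642 F330055 (iv1 D142086) D142087 F225114 (iv1 F330020)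
theorem F330058 : act 6 n127130 = n142086 := d12_4 (iv6 F330055) F330054 (iv6 D127131) D127130 (iv5 F330057)
theorem E94083 : n142086 = n141589 := (c7_1 F330058 (iv3 D141589) F320304 (iv3 F204380))
theorem F330059 : act 0 n141589 = n66629 := (sb E94083 (iv1 D142086))
theorem F330060 : act 1 n141589 = n80573 := (sb E94083 F326250)
theorem F330061 : act 5 n141589 = n127482 := (sb E94083 (iv5 F330057))
theorem F330062 : act 6 n141589 = n127130 := (sb E94083 (iv6 F330058))
theorem E94084 : n139924 = n97240 := ((c21_3 (iv5 D45436) D45434 D97240 (iv6 D139924) (iv1 F221133) (iv6 F330062) F330061 (iv1 F233908) (iv5 F253055) (iv6 F308834) (iv1 D97248))).symm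
theorem F330063 : act 3 n97240 = n65705 := (sb E94084 F223152)
theorem F330064 : act 6 n97240 = n65693 := (sb E94084 (iv6 D139924))
theorem E94085 : n139927 = n97241 := (c12_4 F330064 (iv5 D65693) D65694 D139927 (iv6 D97241) D97240)
theorem F330065 : act 3 n97241 = n65709 := (sb E94085 F223153)
theorem E94086 : n84424 = n65694 := ((F149999).symm.trans (sb E94085 (iv5 D139927)))
theorem E94087 : n139925 = n38926 := ((D139925).symm.trans (sb E94086 (iv1 D84424)))
theorem E94088 : n139926 = n103711 := ((D139926).symm.trans (sb E94086 F159161))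
theorem E94089 : n177177 = n139923 := ((((iv2 F223150)).symm.trans (sb E94086 (iv2 F276577)))).symm
theorem F330066 : act 5 n65694 = n97241 := (sb E94086 (iv5 F149999))
theorem E94093 : n177172 = n139928 := (((D139928).symm.trans (sb E94086 F276576))).symm
theorem F330067 : act 1 n38926 = n65694 := (sb E94087 (iv0 D139925))
theorem F330068 : act 0 n103711 = n65694 := (sb E94088 (iv1 D139926))
theorem F330069 : act 7 n139923 = n84423 := (sb E94089 (iv7 D177177))
theorem F330070 : act 2 n139928 = n84423 := (sb E94093 (iv2 D177172))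
theorem F330071 : act 0 n116146 = n97240 := d21_4 (iv5 F103123) (iv1 F40986) D53535 D116146 F330064 (iv5 D65693) (iv1 F180285) F320922 (iv6 D30905) D30902
theorem E94094 : n146274 = n97240 := ((c21_4 (iv5 F322806) (iv1 D65691) D65693 (iv6 F330064) (iv1 D146274) (iv6 F104798) D70138 (iv1 F310797) F310798 F320406 F318253)).symm
theorem F330072 : act 0 n97240 = n68593 := (sb E94094 (iv1 D146274))
theorem E94095 : n127687 = n45434 := ((((iv5 D97240)).symm.trans (sb E94094 (iv5 F229597)))).symm
theorem E94096 : n97241 = n59945 := ((D97241).symm.trans (sb E94095 (iv6 D127687)))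
theorem E94097 : n127684 = n65709 := ((D127684).symm.trans (sb E94096 F330065))
theorem E94098 : n127686 = n65694 := ((D127686).symm.trans (sb E94096 (iv5 F330066)))
theorem F330073 : act 6 n59945 = n45434 := (sb E94096 (iv6 D97241))
theorem F330074 : act 3 n65709 = n59945 := (sb E94097 (iv3 D127684))
theorem F330075 : act 5 n65694 = n59945 := (sb E94098 (iv5 D127686))
theorem F330076 : act 5 n127683 = n139923 := d2_2 F330075 (iv2 F205279) F223150
theorem F330077 : act 5 n127678 = n139928 := d13_3 (iv7 D139928) F330075 F205278
theorem F330078 : act 4 n127418 = n97276 := d17_9 (iv1 D97276) D97277 F150032 (iv5 D47987) F36226 D38926 F330067 F330075 F204799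
theorem E94099 : n177181 = n145517 := ((c18_6 (iv1 D59945) (iv4 F94414) D127636 (iv4 F324928) F228589 (iv4 F228572) (iv0 D177181) (iv4 D84425) F330067 F330075)).symm
theorem F330079 : act 1 n145517 = n84425 := (sb E94099 (iv0 D177181))
theorem F330080 : act 6 n179637 = n103711 := d21_9 F330075 (iv1 D59945) D59946 F94420 D59949 D127692 F205285 D147605 (iv5 F279744) F330068
theorem F330081 : act 6 n103146 = n147605 := d12_4 F330080 F159159 F75494 (iv5 F158416) (iv5 F279744)
theorem F330082 : act 7 n167686 = n179637 := d14_0 F330080 (iv7 D103711) F75491 (iv7 F297848) D167686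
theorem F330083 : act 5 n147464 = n167686 := d13_3 F330082 F279744 (iv7 F243355)
theorem F330084 : act 1 n179636 = n167686 := d15_1 D179636 F330082 (iv2 D179637)
theorem F330085 : act 1 n177292 = n179637 := d15_1 D177292 (iv7 F330082) F300150
theorem F330086 : act 5 n177292 = n148868 := d21_2 (iv5 F279744) (iv1 F330085) (iv6 D148868) (iv1 D69780) F51446 (iv5 D15295) D15293 (iv5 F51134) D69179 D147605
theorem E94100 : n177153 = n150534 := ((c21_5 F330086 F280374 F280370 F206499 D150534 (iv6 D177153) (iv5 D84416) (iv1 F75497) (iv5 F159159) (iv6 F330080) (iv1 F330085))).symm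
theorem F330087 : act 6 n150534 = n84416 := (sb E94100 (iv6 D177153))
theorem F330088 : act 6 n103701 = n127211 := d3_2 F330087 (iv2 F311194) F321314
theorem F330089 : act 5 n181402 = n150534 := d12_5 F330087 (iv5 D84416) F307167 F302873 D181402
theorem E94101 : n181430 = n181402 := (c21_2 (iv5 F308733) D181430 F330089 F330087 (iv1 F319124) F204795 (iv5 D59846) F50826 D28578 (iv6 F94685) (iv1 F241037))
theorem F330090 : act 1 n181402 = n86614 := (sb E94101 (iv0 D181430))
theorem F330091 : act 1 n154112 = n181402 := d15_0 F330090 (iv7 F310917) (iv2 F242180)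
theorem E94102 : n183100 = n181423 := ((c17_10 (iv1 D183100) (iv5 F308823) (iv1 D153658) (iv5 D72660) D72659 (iv5 F321588) F321587 (iv5 F330089) F330090 (iv4 F282535))).symm
theorem F330092 : act 0 n181423 = n87402 := (sb E94102 (iv1 D183100))
theorem E94103 : n182082 = n152939 := (c18_2 F307171 D182082 (iv1 F240174) (iv4 D72717) (iv5 F92134) (iv4 F308445) F309030 (iv4 F282518) F330090 F308733)
theorem F330093 : act 2 n152939 = n167665 := (sb E94103 F283481)
theorem F330094 : act 4 n152939 = n86959 := (sb E94103 (iv4 D182082))
theorem F330095 : act 6 n152939 = n167648 := (sb E94103 F283482)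
theorem F330096 : act 5 n142818 = n152939 := d17_3 (iv1 D66940) D66941 D142818 F330094 (iv5 D86959) (iv0 F305233) F321590 D127211 F321586
theorem F330097 : act 0 n182069 = n152757 := d20_4 D72190 D152939 F330094 (iv3 F283474) F239954 (iv4 F241373) (iv1 D153563) (iv4 D72612) F52832 F190600
theorem F330098 : act 7 n182069 = n148982 := d15_2 F239963 (iv0 F330097) F234147
theorem F330099 : act 2 n138409 = n182069 := d4_3 F330098 F234147 (iv7 F315878)
theorem F330100 : act 1 n182069 = n152752 := d15_0 F239952 (iv7 F315878) F330099
theorem E94104 : n181747 = n179929 := (c21_11 F280211 (iv1 F330100) (iv5 D182069) (iv6 D86956) F303952 (iv6 F310489) (iv5 F312679) (iv1 F280165) (iv5 D86792) D86793 D181747)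
theorem F330101 : act 1 n179929 = n86793 := (sb E94104 (iv0 D181747))
theorem E94105 : n181748 = n118103 := (c15_2 F330101 D181748 (iv7 F185552) D179929)
theorem F330102 : act 0 n118103 = n86793 := (sb E94105 (iv1 D181748))
theorem F330103 : act 1 n153687 = n142818 := d17_6 F190541 (iv5 D72138) F190095 D33544 D72708 D153687 F330096 (iv0 D152939) (iv4 D72190)
theorem F330104 : act 2 n142821 = n153687 := d15_3 F330103 (iv0 D142818) D142821
theorem F330105 : act 7 n153687 = n142774 := d4_2 D142821 F330104 F225669
theorem F330106 : act 1 n142819 = n153687 := d15_1 D142819 F330105 F225669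
theorem F330107 : act 5 n142820 = n153683 := d16_1 D142820 (iv4 D153683) (iv5 D72706) (iv4 D33543) D33544 D72708 D153687 F330105 F225669
theorem F330108 : act 7 n127980 = n167665 := d15_2 (iv0 D152939) (iv0 F205958) (iv2 F330093)
theorem F330109 : act 6 n167691 = n107456 := d14_3 F330108 F263953 D167691 F322061 (iv6 F205956)
theorem E94106 : n181431 = n123753 := ((c18_10 (iv1 D181431) (iv4 F282535) F330092 F307010 F320569 D66968 F225771 F322372 (iv0 F319687) F319689)).symm
theorem F330110 : act 0 n123753 = n86614 := (sb E94106 (iv1 D181431))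
theorem F330111 : act 4 n119799 = n131166 := d20_6 (iv4 F282535) F330092 F307010 (iv3 F200489) (iv1 F242146) F190952 (iv1 F312139) (iv4 D149917) (iv3 F198239) F330110
theorem F330112 : act 3 n157673 = n181423 := d20_9 F307010 F190867 (iv4 F109491) F190623 (iv1 F123544) (iv3 F311985) F187494 F131031 (iv4 F248447) F330092
theorem F330113 : act 0 n153297 = n181422 := d21_1 D153297 (iv5 D181422) D181423 F330092 (iv6 D87402) D87401 (iv1 F308831) F240876 (iv6 F240482) (iv1 F240483)
theorem F330114 : act 1 n181423 = n124747 := d15_1 (iv0 F330092) (iv7 F268181) F308821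
theorem F330115 : act 7 n181423 = n124690 := d15_2 F308464 (iv0 F330092) F199466
theorem F330116 : act 2 n124823 = n181423 := d4_3 F330115 F199466 F240089
theorem F330117 : act 3 n124690 = n131169 := d8_1 F330115 F248448 F330112
theorem F330118 : act 5 n131169 = n153672 := d6_2 (iv5 F199468) F330117 (iv3 D153672)
theorem F330119 : act 6 n131169 = n124688 := d7_2 D124690 F330117 (iv3 D124688)
theorem F330120 : act 4 n101297 = n124823 := d1_0 F330116 F282535 (iv2 F310903)
theorem F330121 : act 7 n154112 = n101297 := d11_0 F330120 (iv7 F240089) (iv4 F242182)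
theorem F330122 : act 3 n101297 = n119781 := d8_1 F330121 (iv7 F232970) (iv3 F308963)
theorem E94107 : n179754 = n124823 := (c5_6 (iv4 F330120) F330122 F188995 (iv3 F188985) F233012 D179754)
theorem F330123 : act 3 n124823 = n85860 := (sb E94107 (iv3 D179754))
theorem F330124 : act 4 n149875 = n128345 := d20_0 (iv1 F307708) F188995 (iv3 F188985) F241310 F92215 (iv4 F92216) D124823 (iv4 F330120) F330122 F307707
theorem F330125 : act 4 n124668 = n130311 := d20_0 (iv1 D130311) (iv4 F314468) (iv3 F206470) (iv1 F307708) (iv3 F330122) F330120 (iv1 F268183) (iv4 D170678) D170677 (iv1 F268177)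
theorem F330126 : act 2 n130311 = n128149 := d1_1 F330125 F206279 (iv2 F199420)
theorem F330127 : act 6 n130311 = n124667 := d10_2 D124668 F330125 (iv4 D124667)
theorem F330128 : act 5 n130311 = n128003 := d17_5 (iv1 F108902) (iv5 F109167) (iv1 F199424) F199425 F330125 F264243 (iv5 D167808) F188373 (iv4 F190139)
theorem E94108 : n180045 = n130312 := ((c17_2 (iv1 D130311) D130312 (iv1 D180045) F321727 (iv4 D72636) D72637 (iv0 F322136) F322138 F314341 F330125)).symm
theorem F330129 : act 0 n130312 = n86036 := (sb E94108 (iv1 D180045))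
theorem F330130 : act 1 n130312 = n153598 := (sb E94108 (iv0 F323493))
theorem F330131 : act 1 n130311 = n167838 := d18_6 F190681 D167809 F264248 F206001 F199425 F330125 (iv4 D167838) (iv0 D80551) (iv5 F86020)
theorem E94109 : n167838 = n162693 := (c15_1 F330131 (iv0 D162693) (iv7 F317565) (iv2 F330126))
theorem F330132 : act 0 n162693 = n130311 := (sb E94109 (iv1 F330131))
theorem F330133 : act 2 n162693 = n130313 := (sb E94109 (iv2 F315320))
theorem F330134 : act 4 n162693 = n80551 := (sb E94109 (iv4 D167838))
theorem F330135 : act 6 n162693 = n130265 := (sb E94109 (iv6 F315344))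
theorem F330136 : act 7 n162693 = n130266 := (sb E94109 (iv7 F310694))
theorem F330137 : act 3 n175334 = n162693 := d7_3 F330135 F315342 D175334
theorem F330138 : act 5 n180044 = n162693 := d21_2 (iv5 F321727) D180044 F330135 F315339 (iv6 D83593) (iv5 F128378) (iv1 F128381) (iv5 F87534) (iv6 F302420) F190292
theorem E94110 : n150266 = n79986 := (c21_7 (iv5 F330138) (iv1 F323494) (iv5 D153598) (iv6 F313048) (iv1 F215593) F310812 D150266 (iv1 D79986) D79987 F122764 D162693)
theorem E94111 : n166660 = n70737 := ((D166660).symm.trans (sb E94110 (iv5 D150266)))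
theorem F330139 : act 5 n70737 = n79986 := (sb E94111 (iv5 D166660))
theorem E94112 : n166657 = n162913 := (c2_2 F330139 (iv2 F262292) (iv5 F311611) F234245)
theorem F330140 : act 2 n162913 = n79986 := (sb E94112 F262292)
theorem F330141 : act 7 n162913 = n79985 := (sb E94112 (iv7 D166657))
theorem E94113 : n166658 = n52233 := (c6_2 F330139 D166658 D113160 F323467)
theorem E94114 : n113157 = n79986 := (((iv3 F176311)).symm.trans (sb E94113 (iv3 D166658)))
theorem F330142 : act 3 n79986 = n52233 := (sb E94114 F176311)
theorem E94115 : n166659 = n58916 := ((D166659).symm.trans (sb E94114 F176312))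
theorem E94116 : n166661 = n52231 := ((D166661).symm.trans (sb E94114 (iv6 D113157)))
theorem F330143 : act 4 n58916 = n79986 := (sb E94115 (iv4 D166659))
theorem F330144 : act 6 n52231 = n79986 := (sb E94116 (iv6 D166661))
theorem E94117 : n166652 = n133875 := (c13_3 (iv7 F308679) F330139 F262291 (iv5 D133875))
theorem E94118 : n130356 = n79985 := ((F215614).symm.trans (sb E94117 (iv2 D166652)))
theorem F330145 : act 7 n133875 = n79986 := (sb E94117 (iv7 F262291))
theorem F330146 : act 2 n79985 = n133875 := (sb E94118 (iv2 F215614))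
theorem E94119 : n166655 = n61176 := ((D166655).symm.trans (sb E94118 (iv5 D130356)))
theorem F330147 : act 5 n61176 = n79985 := (sb E94119 (iv5 D166655))
theorem E94120 : n125812 = n78279 := (c16_4 D70737 F330139 (iv4 F330143) D125812 (iv4 D78279) (iv5 D35688) D35687 (iv5 F310560) F234215 F234212)
theorem E94121 : n162853 = n58920 := ((D162853).symm.trans (sb E94120 F202320))
theorem E94122 : n162854 = n58916 := ((D162854).symm.trans (sb E94120 (iv5 D125812)))
theorem F330148 : act 3 n58920 = n78279 := (sb E94121 (iv3 D162853))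
theorem E94123 : n181130 = n125822 := (((D125822).symm.trans (sb E94121 (iv7 F282120)))).symm
theorem E94124 : n125810 = n123196 := ((D125810).symm.trans (sb E94122 F257136))
theorem E94125 : n125805 = n78314 := (((iv2 F202317)).symm.trans (sb E94122 F257135))
theorem F330149 : act 5 n58916 = n78279 := (sb E94122 (iv5 D162854))
theorem E94126 : n181131 = n125813 := (((D125813).symm.trans (sb E94122 (iv7 F282123)))).symm
theorem F330150 : act 3 n125822 = n86501 := (sb E94123 (iv3 D181130))
theorem F330151 : act 4 n125822 = n162711 := (sb E94123 F282119)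
theorem F330152 : act 1 n123196 = n58916 := (sb E94124 (iv0 D125810))
theorem F330153 : act 2 n78314 = n58916 := (sb E94125 F202317)
theorem E94127 : n162914 = n58914 := ((D162914).symm.trans (sb E94125 (iv6 D125805)))
theorem F330154 : act 0 n125813 = n126390 := (sb E94126 (iv1 F326141))
theorem F330155 : act 1 n125813 = n159237 := (sb E94126 (iv0 F299543))
theorem F330156 : act 2 n125813 = n121031 := (sb E94126 F282121)
theorem F330157 : act 4 n125813 = n133875 := (sb E94126 (iv4 F313045))
theorem F330158 : act 5 n125813 = n86501 := (sb E94126 (iv5 D181131))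
theorem F330159 : act 6 n58914 = n78314 := (sb E94127 (iv6 D162914))
theorem E94128 : n166654 = n121031 := (c16_1 D166654 (iv5 D121031) (iv4 D55827) (iv5 D26934) D26933 (iv5 F309470) D70737 F330139 (iv7 F330145) (iv2 F330146))
theorem F330160 : act 4 n121031 = n79985 := (sb E94128 (iv4 D166654))
theorem E94129 : n175057 = n166651 := ((c17_7 F310561 (iv5 D57328) (iv1 F121185) (iv5 F309470) D70737 F330139 F262289 (iv5 D175057) (iv0 F310176) F94852)).symm
theorem F330161 : act 5 n166651 = n83598 := (sb E94129 (iv5 D175057))
theorem F330162 : act 4 n166606 = n157619 := d18_3 (iv1 D79986) (iv4 F122749) D166606 (iv5 D157619) (iv4 D75041) (iv0 F130976) (iv4 F106989) F206092 F330139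
theorem F330163 : act 2 n181144 = n166606 := d16_9 F330162 (iv5 D157619) (iv4 D75041) F309753 (iv4 D38972) D38973 D84492 (iv5 F322995) F322996
theorem F330164 : act 5 n160487 = n166606 := d16_1 D160487 F330162 (iv5 D157619) (iv4 D75041) F309753 (iv4 D38972) D38973 (iv7 F121531) (iv2 F297505)
theorem F330165 : act 4 n181144 = n150248 := d1_2 (iv4 F330162) (iv2 F330163) (iv2 F248372)
theorem F330166 : act 4 n181145 = n150251 := d9_9 (iv5 F282147) F330165 (iv5 D150248) F155557 F308249 F121184 F325292 (iv4 F170871) F325935 (iv5 D150251) (iv4 F131033) F308247 F121174 D57333 D123188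
theorem F330167 : act 7 n181145 = n166606 := d16_8 F330165 (iv5 D150248) F155557 F308249 F121184 F325292 (iv4 F170871) F325935 (iv2 F330163)
theorem E94130 : n174081 = n150248 := ((c18_8 (iv1 F304754) F310098 F297912 D86497 (iv5 F317070) (iv4 F319350) F282149 F330165 (iv0 D174081) (iv5 D83221))).symm
theorem F330168 : act 1 n150248 = n83221 := (sb E94130 (iv0 D174081))
theorem E94131 : n174083 = n123196 := ((c18_1 (iv1 F330152) (iv4 D174083) (iv1 F330168) (iv4 F330165) F282147 (iv4 D123188) (iv0 F297411) D81639 (iv0 F301855) (iv5 F330149))).symm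
theorem F330169 : act 4 n123196 = n83221 := (sb E94131 (iv4 D174083))
theorem E94132 : n159275 = n150248 := (c20_6 (iv4 D34802) (iv1 D16862) D16863 D34806 D76201 D159275 (iv4 F330165) (iv1 F282149) F319350 F122765 (iv1 F57207))
theorem F330170 : act 3 n150248 = n76201 := (sb E94132 (iv3 D159275))
theorem E94133 : n159277 = n63650 := (c6_3 D150248 F330170 D159277 F313646)
theorem E94134 : n135398 = n76201 := ((D135398).symm.trans (sb E94133 (iv5 D159277)))
theorem E94135 : n159274 = n152173 := ((D159274).symm.trans (sb E94134 (iv2 F239252)))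
theorem F330171 : act 5 n76201 = n63650 := (sb E94134 (iv5 D135398))
theorem F330172 : act 2 n152173 = n76201 := (sb E94135 (iv2 D159274))
theorem F330173 : act 7 n152173 = n76202 := (sb E94135 (iv7 F250762))
theorem E94136 : n159282 = n152174 := (c13_2 F330173 D159282 (iv7 D152174) D152173)
theorem F330174 : act 5 n152174 = n76202 := (sb E94136 (iv5 D159282))
theorem F330175 : act 5 n159279 = n135399 := d2_2 F330174 (iv2 F250763) (iv2 F239253)
theorem F330176 : act 5 n129278 = n159278 := d12_5 (iv6 D159278) F330171 (iv6 D63650) F211046 D129278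
theorem E94137 : n159286 = n123077 := ((c21_10 (iv5 D76204) D76201 F330171 (iv6 D63650) (iv1 F52399) (iv6 F108214) F304774 F302363 (iv5 F302743) D123077 (iv1 D159286))).symm
theorem F330177 : act 0 n123077 = n76204 := (sb E94137 (iv1 D159286))
theorem E94138 : n135366 = n58702 := (c21_5 F52397 (iv1 F48253) D30036 D63630 D135366 (iv6 F114168) (iv5 D76204) D76201 F330171 (iv6 D63650) (iv1 F52399))
theorem E94139 : n125359 = n63630 := ((D125359).symm.trans (sb E94138 (iv0 D135366)))
theorem F330178 : act 0 n63630 = n58702 := (sb E94139 (iv1 D125359))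
theorem F330179 : act 6 n98298 = n135397 := d21_9 (iv5 F330171) (iv1 F250701) F319513 (iv6 F323007) (iv1 F273683) F242274 (iv5 F185439) (iv1 D118049) (iv5 F151714) (iv1 D135397)
theorem E94140 : n158817 = n29901 := (c21_2 F321521 D158817 (iv5 F48261) (iv6 D30044) D30041 D63650 (iv5 F330171) (iv1 F250701) F319513 (iv6 F323007) (iv1 F273683))
theorem E94141 : n75775 = n63279 := (((D63279).symm.trans (sb E94140 (iv0 D158817)))).symm
theorem E94143 : n154163 = n134680 := ((((iv2 F216693)).symm.trans (sb E94141 (iv2 F312581)))).symm
theorem E94144 : n134681 = n34654 := ((D134681).symm.trans (sb E94141 (iv3 D75775)))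
theorem E94145 : n134682 = n118636 := ((D134682).symm.trans (sb E94141 (iv4 F321352)))
theorem E94146 : n154162 = n134683 := (((D134683).symm.trans (sb E94141 (iv5 F321521)))).symm
theorem E94147 : n134684 = n80431 := ((D134684).symm.trans (sb E94141 F299492))
theorem E94148 : n134675 = n98200 := ((F216692).symm.trans (sb E94141 (iv7 F151519)))
theorem F330180 : act 3 n134680 = n73037 := (sb E94143 F242275)
theorem F330181 : act 5 n134680 = n73036 := (sb E94143 (iv5 D154163))
theorem F330182 : act 3 n34654 = n63279 := (sb E94144 (iv3 D134681))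
theorem F330183 : act 4 n118636 = n63279 := (sb E94145 (iv4 D134682))
theorem F330184 : act 1 n134683 = n173777 := (sb E94146 F273683)
theorem F330185 : act 2 n134683 = n73036 := (sb E94146 (iv2 D154162))
theorem F330186 : act 3 n134683 = n75776 := (sb E94146 F321520)
theorem F330187 : act 4 n134683 = n101185 := (sb E94146 F242273)
theorem F330188 : act 6 n134683 = n101184 := (sb E94146 F242274)
theorem F330189 : act 6 n80431 = n63279 := (sb E94147 (iv6 D134684))
theorem F330190 : act 2 n98200 = n63278 := (sb E94148 (iv2 D134675))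
theorem F330191 : act 7 n98200 = n63279 := (sb E94148 (iv7 F216692))
theorem E94149 : n154168 = n134676 := ((c0_3 D98200 F330190 D134676 F312590 (iv3 D75785) (iv2 F113032))).symm
theorem F330192 : act 0 n134676 = n75479 := (sb E94149 F312588)
theorem F330193 : act 1 n134676 = n82716 := (sb E94149 F312589)
theorem F330194 : act 2 n134676 = n75785 := (sb E94149 F312590)
theorem F330195 : act 4 n134676 = n167114 := (sb E94149 F312591)
theorem F330196 : act 5 n134676 = n73038 := (sb E94149 F242286)
theorem F330197 : act 7 n134676 = n73037 := (sb E94149 (iv7 D154168))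
theorem E94150 : n160760 = n134677 := ((c1_3 (iv4 F151518) F330190 D134677 (iv2 D160760))).symm
theorem F330198 : act 2 n134677 = n77127 := (sb E94150 (iv2 D160760))
theorem E94151 : n134677 = n134649 := ((c4_1 D134649 F330198 (iv7 F321353) F216657)).symm
theorem F330199 : act 2 n134649 = n77127 := (sb E94151 F330198)
theorem F330200 : act 4 n134649 = n63278 := (sb E94151 (iv4 D134677))
theorem E94152 : n134680 = n134644 := (c11_3 D134649 F330200 D134680 F216614)
theorem F330201 : act 2 n134644 = n63279 := (sb E94152 F216693)
theorem F330202 : act 3 n134644 = n73037 := (sb E94152 F330180)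
theorem F330203 : act 5 n134644 = n73036 := (sb E94152 F330181)
theorem F330204 : act 7 n134644 = n63278 := (sb E94152 (iv7 D134680))
theorem F330205 : act 5 n160548 = n134649 := d19_1 (iv1 F253626) F330200 D134676 F330192 F310294 (iv4 F303543) F303542 (iv1 F305386) F307742 F309475 (iv3 F309469) (iv1 D32791) (iv5 F38250) (iv4 F309141) (iv3 D16853) (iv1 F12761) (iv5 F28009) (iv4 F55906) (iv3 F115702)
theorem E94153 : n143867 = n134678 := (c17_3 (iv1 F319375) (iv5 D143870) D143867 (iv5 D134678) (iv4 F330200) (iv5 F330205) F253626 F315012 F128229 (iv4 F128112))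
theorem F330206 : act 1 n134678 = n67377 := (sb E94153 (iv0 D143867))
theorem E94154 : n172140 = n134649 := ((c20_1 (iv4 F330200) (iv1 D172140) (iv4 F306784) F248865 F316720 (iv3 D61215) F314969 (iv1 F316184) F42207 (iv3 F48038) D63278)).symm
theorem F330207 : act 0 n134649 = n82443 := (sb E94154 (iv1 D172140))
theorem E94155 : n173782 = n82525 := (c17_7 F330207 (iv5 F303496) (iv1 D83187) (iv5 D38293) (iv4 F59137) D83103 D173782 (iv5 F307460) (iv0 F308711) (iv4 F330200))
theorem E94156 : n83103 = n63661 := ((((iv1 F307461)).symm.trans (sb E94155 (iv1 D173782)))).symm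
theorem E94158 : n173770 = n135431 := ((((iv2 F217752)).symm.trans (sb E94156 (iv2 F272363)))).symm
theorem E94159 : n135432 = n38257 := ((D135432).symm.trans (sb E94156 F128110))
theorem E94161 : n135434 = n38253 := ((D135434).symm.trans (sb E94156 (iv5 D83103)))
theorem E94162 : n164214 = n135435 := (((D135435).symm.trans (sb E94156 (iv6 F258836)))).symm
theorem E94163 : n173784 = n135426 := (((F217751).symm.trans (sb E94156 D173784))).symm
theorem F330208 : act 5 n135431 = n83100 := (sb E94158 (iv5 D173770))
theorem F330209 : act 6 n135431 = n152437 := (sb E94158 F272364)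
theorem F330210 : act 3 n38257 = n63661 := (sb E94159 (iv3 D135432))
theorem F330211 : act 5 n38253 = n63661 := (sb E94161 (iv5 D135434))
theorem F330212 : act 2 n135435 = n152437 := (sb E94162 F258834)
theorem F330213 : act 3 n135435 = n83107 := (sb E94162 F258835)
theorem F330214 : act 5 n135435 = n78890 := (sb E94162 (iv5 D164214))
theorem F330215 : act 3 n135426 = n83115 := (sb E94163 F272375)
theorem F330216 : act 5 n135426 = n83104 := (sb E94163 F272376)
theorem E94164 : n160271 = n135428 := (c18_7 D63278 (iv4 F330200) F330207 (iv4 F306784) (iv5 D157987) (iv4 F115320) D160271 (iv4 D135428) (iv0 D63660) F48261)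
theorem F330217 : act 0 n135428 = n76810 := (sb E94164 (iv1 D160271))
theorem F330218 : act 1 n135428 = n153281 := (sb E94164 F253117)
theorem E94165 : n172139 = n118636 := ((c15_4 (iv0 D172139) (iv0 F330207) (iv7 D134649) (iv2 F216657))).symm
theorem F330219 : act 1 n118636 = n82443 := (sb E94165 (iv0 D172139))
theorem F330220 : act 4 n173983 = n134673 := d18_3 (iv1 D83187) D83188 D173983 (iv5 D134673) F98495 D63279 (iv4 F330183) F330219 (iv5 F303496)
theorem F330221 : act 0 n130381 = n157987 := d20_10 F306784 (iv1 F330219) F330183 (iv3 F330182) F72488 (iv3 F151509) (iv4 F303552) F205225 F309698 D130381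
theorem F330222 : act 5 n118636 = n160547 := d21_0 (iv1 F253625) F315012 (iv6 F312569) F319374 (iv6 D83100) F59135 (iv1 F108401) F108403 D82443 (iv1 F330219)
theorem F330223 : act 2 n160547 = n134648 := d2_1 F330222 (iv5 D134648) (iv2 F216657)
theorem F330224 : act 3 n160547 = n158221 := d6_1 F330222 (iv5 D158221) (iv3 F321351)
theorem F330225 : act 7 n160547 = n160761 := d13_2 (iv7 F321353) F330222 (iv5 D160761)
theorem F330226 : act 5 n173768 = n173777 := d17_1 D173768 (iv1 F330184) (iv5 D134683) (iv4 F330183) F330222 (iv0 D160547) F319515 (iv0 D83169) (iv4 F128109)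
theorem E94166 : n135431 = n135388 := (c21_1 (iv5 F330208) (iv1 D135388) F98979 (iv6 D63263) (iv1 F86350) D118636 F330222 (iv1 F253625) F315012 (iv6 F312569) F319374)
theorem F330227 : act 2 n135388 = n63661 := (sb E94166 F217752)
theorem F330228 : act 5 n135388 = n83100 := (sb E94166 F330208)
theorem F330229 : act 6 n135388 = n152437 := (sb E94166 F330209)
theorem F330230 : act 7 n135388 = n63660 := (sb E94166 (iv7 D135431))
theorem E94167 : n173737 = n86116 := (c21_5 F42204 (iv1 F211578) (iv5 F98479) D134564 F321663 F319517 (iv5 F319515) D160547 (iv5 F330222) (iv6 D118636) (iv1 D54626))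
theorem E94168 : n148421 = n83083 := (((iv1 F232173)).symm.trans (sb E94167 (iv1 D173737)))
theorem E94169 : n148420 = n134564 := ((F232169).symm.trans (sb E94167 (iv0 F321663)))
theorem E94170 : n173736 = n69546 := ((D173736).symm.trans (sb E94168 (iv1 D148421)))
theorem F330231 : act 1 n83083 = n86116 := (sb E94168 F232173)
theorem F330232 : act 0 n134564 = n86116 := (sb E94169 (iv1 F232169))
theorem F330233 : act 0 n69546 = n134564 := (sb E94170 (iv1 F321664))
theorem F330234 : act 1 n69546 = n83083 := (sb E94170 (iv0 D173736))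
theorem E94171 : n134608 = n39861 := (c17_1 D134608 (iv5 D39861) D39858 (iv5 F323207) (iv4 F127021) F324613 (iv0 D86019) (iv5 F105831) F330234 (iv4 F319732))
theorem E94172 : n173731 = n86117 := (((D86117).symm.trans (sb E94171 F321667))).symm
theorem E94173 : n86118 = n63248 := ((D86118).symm.trans (sb E94171 (iv0 D134608)))
theorem E94174 : n148422 = n134609 := (((iv1 F232172)).symm.trans (sb E94172 (iv1 F321668)))
theorem E94175 : n180291 = n83083 := ((D180291).symm.trans (sb E94172 F272299))
theorem E94176 : n180292 = n84151 := ((D180292).symm.trans (sb E94172 F272300))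
theorem E94177 : n180294 = n165633 := ((D180294).symm.trans (sb E94172 (iv5 F322453)))
theorem E94178 : n180295 = n83081 := ((D180295).symm.trans (sb E94172 (iv6 D173731)))
theorem E94179 : n180296 = n134564 := ((D180296).symm.trans (sb E94172 (iv7 F321666)))
theorem F330235 : act 0 n63248 = n39861 := (sb E94173 (iv1 D86118))
theorem F330236 : act 1 n134609 = n86117 := (sb E94174 F232172)
theorem F330237 : act 2 n134609 = n69546 := (sb E94174 (iv2 D148422))
theorem F330238 : act 5 n134609 = n86021 := (sb E94174 F232170)
theorem F330239 : act 7 n134609 = n86116 := (sb E94174 F232171)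
theorem F330240 : act 2 n83083 = n86117 := (sb E94175 (iv2 D180291))
theorem F330241 : act 3 n84151 = n86117 := (sb E94176 (iv3 D180292))
theorem F330242 : act 5 n165633 = n86117 := (sb E94177 (iv5 D180294))
theorem F330243 : act 6 n83081 = n86117 := (sb E94178 (iv6 D180295))
theorem F330244 : act 7 n134564 = n86117 := (sb E94179 (iv7 D180296))
theorem F330245 : act 5 n134640 = n173733 := d21_6 F105831 D86019 (iv5 F324613) (iv6 D82444) (iv1 F113135) (iv6 F323002) (iv1 D173733) (iv5 D83082) D83083 (iv1 F330234)
theorem E94184 : n173733 = n142444 := (c2_1 F330245 F225361 F316737 (iv2 F323000))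
theorem F330246 : act 0 n142444 = n83082 := (sb E94184 (iv1 D173733))
theorem F330247 : act 1 n142444 = n84079 := (sb E94184 F272302)
theorem F330248 : act 5 n142444 = n134640 := (sb E94184 (iv5 F330245))
theorem F330249 : act 7 n176323 = n134640 := d13_0 (iv5 F330248) F319107 D176323
theorem F330250 : act 4 n117382 = n134537 := d16_4 (iv4 F323001) (iv5 F330248) F225362 (iv5 F320614) (iv5 D134537) F211563 D130209 (iv7 F215564) F322998
theorem E94185 : n147019 = n63222 := (c16_2 D68927 D147019 F98471 (iv5 F321374) (iv4 F323001) (iv5 F330248) F225362 (iv5 F320614) F183990 (iv2 F183988))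
theorem E94186 : n134535 = n68927 := ((D134535).symm.trans (sb E94185 (iv5 D147019)))
theorem F330251 : act 5 n68927 = n63222 := (sb E94186 (iv5 D134535))
theorem E94187 : n149667 = n134643 := (c17_1 F252888 (iv5 D134643) D134640 (iv5 F330248) F225362 (iv5 F320614) F183816 (iv5 F106738) (iv0 F186345) D147026)
theorem F330252 : act 1 n134643 = n147026 := (sb E94187 (iv0 F252888))
theorem F330253 : act 3 n134643 = n124713 := (sb E94187 F235309)
theorem F330254 : act 4 n134643 = n160201 := (sb E94187 (iv4 F252886))
theorem F330255 : act 6 n134643 = n70293 := (sb E94187 (iv6 D149667))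
theorem F330256 : act 0 n173734 = n134669 := d18_2 F330246 D173734 (iv4 D134669) (iv5 D63276) (iv4 D29900) D29899 D63271 F216608 (iv5 F330248)
theorem E94188 : n154161 = n139278 := ((c21_7 (iv5 F330248) F330246 (iv5 D83082) D83083 (iv1 F330234) F319373 (iv5 F319372) (iv1 D154161) (iv5 F330203) (iv6 D134644) D134640)).symm
theorem F330257 : act 0 n139278 = n73036 := (sb E94188 (iv1 D154161))
theorem F330258 : act 5 n142536 = n134641 := d9_8 F330248 F323001 F321374 (iv4 F98471) (iv5 F330251) (iv4 D68927) F318643 (iv4 F225427) (iv4 F216610) (iv5 D130209) (iv4 F211563) D134537 (iv4 F330250) F320614 (iv4 F225362)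
theorem F330259 : act 2 n117383 = n134537 := d16_9 (iv4 F330250) F320614 (iv4 F225362) F330248 F323001 F321374 (iv4 F98471) (iv5 F330251) (iv7 F183819)
theorem F330260 : act 2 n176323 = n134641 := d16_9 (iv4 F216610) (iv5 D130209) (iv4 F211563) D134537 (iv4 F330250) F320614 (iv4 F225362) F330248 (iv7 F330249)
theorem E94189 : n176323 = n167594 := ((c1_1 F315475 F330260 (iv4 F216610) (iv2 F213224))).symm
theorem F330261 : act 2 n167594 = n134641 := (sb E94189 F330260)
theorem F330262 : act 5 n167594 = n84082 := (sb E94189 (iv5 D176323))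
theorem F330263 : act 7 n167594 = n134640 := (sb E94189 F330249)
theorem E94190 : n172138 = n134641 := (c4_3 F330263 F323000 D172138 (iv2 F330261))
theorem F330264 : act 7 n134641 = n82442 := (sb E94190 (iv7 D172138))
theorem F330265 : act 6 n172142 = n167594 := d14_5 F330263 F323002 F113136 D82443 D172142
theorem F330266 : act 2 n129358 = n172142 := d3_3 F330265 F330261 (iv6 F216612)
theorem E94191 : n172142 = n134646 := ((c21_5 F95482 D61350 F211219 D63268 D134646 F330265 F330262 (iv1 D84082) (iv5 D38740) F299437 (iv1 F318040))).symm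
theorem F330267 : act 2 n134646 = n129358 := (sb E94191 (iv2 F330266))
theorem F330268 : act 6 n134646 = n167594 := (sb E94191 F330265)
theorem F330269 : act 7 n134646 = n82443 := (sb E94191 (iv7 D172142))
theorem E94192 : n158225 = n131099 := (c4_2 F330269 (iv2 F249268) F209956 (iv2 F330267))
theorem F330270 : act 2 n131099 = n82443 := (sb E94192 F249268)
theorem F330271 : act 4 n131099 = n152207 := (sb E94192 F249269)
theorem F330272 : act 5 n131099 = n173934 := (sb E94192 F298219)
theorem F330273 : act 6 n131099 = n75377 := (sb E94192 (iv6 D158225))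
theorem F330274 : act 5 n173973 = n134646 := d13_3 F330269 (iv5 F303496) F272617
theorem F330275 : act 1 n129358 = n118636 := d15_0 F330219 (iv7 F330269) F330267
theorem F330276 : act 1 n134649 = n129358 := d15_0 F330275 F321353 (iv2 F330199)
theorem E94193 : n173976 = n129358 := (c17_8 (iv1 D63279) (iv5 F48261) D63660 D135429 F328949 (iv5 F272575) F272578 D173976 F330275 F330183)
theorem E94194 : n83186 = n79909 := (((F313287).symm.trans (sb E94193 (iv5 D173976)))).symm
theorem E94195 : n173936 = n166450 := (((D166450).symm.trans (sb E94194 (iv1 F272578)))).symm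
theorem E94196 : n166451 = n38293 := ((D166451).symm.trans (sb E94194 (iv0 D83186)))
theorem E94197 : n173973 = n166441 := ((((iv2 F262001)).symm.trans (sb E94194 D173973))).symm
theorem E94201 : n173978 = n124477 := ((((iv7 F199106)).symm.trans (sb E94194 D173978))).symm
theorem F330277 : act 0 n166450 = n83187 := (sb E94195 (iv1 F272577))
theorem F330278 : act 2 n166450 = n83189 := (sb E94195 F272574)
theorem F330279 : act 5 n166450 = n83172 := (sb E94195 F272575)
theorem F330280 : act 7 n166450 = n83171 := (sb E94195 (iv7 D173936))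
theorem F330281 : act 0 n38293 = n79909 := (sb E94196 (iv1 D166451))
theorem F330282 : act 5 n166441 = n134646 := (sb E94197 F330274)
theorem F330283 : act 7 n166441 = n83187 := (sb E94197 (iv7 F272617))
theorem F330284 : act 2 n124477 = n83187 := (sb E94201 F272618)
theorem E94202 : n166433 = n35870 := (c21_6 (iv5 F330222) (iv1 F330275) F313287 (iv6 D79909) D79904 D166433 (iv5 F250799) (iv1 F55012) (iv5 F55912) (iv6 F115699) D160547)
theorem E94203 : n79904 = n78793 := (((D78793).symm.trans (sb E94202 (iv6 D166433)))).symm
theorem E94204 : n164005 = n121713 := ((D164005).symm.trans (sb E94203 (iv1 F194261)))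
theorem E94205 : n164006 = n36399 := ((D164006).symm.trans (sb E94203 (iv0 D79904)))
theorem E94207 : n163999 = n96396 := (((iv3 F258464)).symm.trans (sb E94203 (iv3 F325884)))
theorem E94211 : n180694 = n79905 := ((((iv1 F194263)).symm.trans (sb E94204 (iv1 F281231)))).symm
theorem F330285 : act 1 n121713 = n78793 := (sb E94204 (iv0 D164005))
theorem F330286 : act 0 n36399 = n78793 := (sb E94205 (iv1 D164006))
theorem F330287 : act 3 n96396 = n78793 := (sb E94207 F258464)
theorem F330288 : act 6 n96396 = n78790 := (sb E94207 (iv6 D163999))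
theorem F330289 : act 2 n79905 = n164008 := (sb E94211 F281227)
theorem E94212 : n166438 = n164016 := ((D166438).symm.trans (sb E94211 F281228))
theorem F330290 : act 7 n79905 = n86310 := (sb E94211 (iv7 D180694))
theorem F330291 : act 6 n164016 = n79905 := (sb E94212 (iv6 D166438))
theorem E94213 : n173732 = n142536 := ((c21_7 F216478 (iv1 F95858) F209328 D118636 (iv1 F330275) F216612 (iv5 F330258) (iv1 F272301) (iv5 D84079) (iv6 F317953) D63228)).symm
theorem F330292 : act 0 n142536 = n84079 := (sb E94213 (iv1 F272301))
theorem F330293 : act 1 n142536 = n83082 := (sb E94213 (iv0 D173732))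
theorem F330294 : act 5 n175332 = n130112 := d17_1 F315283 (iv1 F208592) D130209 F216610 (iv5 F330258) F330293 (iv5 D83082) D83080 (iv4 F315285)
theorem F330295 : act 4 n175144 = n142446 := d18_5 F315773 (iv4 F188746) F306860 (iv4 F315329) D175144 F225363 (iv4 F225427) F330293 (iv5 D83082)
theorem F330296 : act 3 n116165 = n173734 := d20_5 F110652 (iv1 D26174) (iv4 F40993) (iv3 F84452) D116165 (iv4 D173734) (iv1 F330293) F225427 F102672 (iv1 F84663)
theorem E94214 : n173735 = n116594 := ((c21_9 F330258 (iv1 D134641) D134643 F330255 (iv1 F106739) F321868 D69494 (iv1 F232049) F232050 (iv6 D173735) (iv1 F330293))).symm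
theorem E94215 : n83085 = n69038 := ((((iv3 F224519)).symm.trans (sb E94214 F272304))).symm
theorem F330297 : act 6 n116594 = n83082 := (sb E94214 (iv6 D173735))
theorem E94216 : n173741 = n32117 := ((((iv1 D69038)).symm.trans (sb E94215 D173741))).symm
theorem E94218 : n147273 = n38792 := (((iv2 F230886)).symm.trans (sb E94215 F128066))
theorem E94219 : n173740 = n142842 := ((((iv4 F225735)).symm.trans (sb E94215 (iv4 F272309)))).symm
theorem E94220 : n167773 = n112572 := ((((iv5 F226692)).symm.trans (sb E94215 (iv5 F303681)))).symm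
theorem E94221 : n147274 = n38240 := ((D147274).symm.trans (sb E94215 (iv6 D83085)))
theorem E94222 : n173744 = n147268 := (((F230885).symm.trans (sb E94215 D173744))).symm
theorem E94223 : n84165 = n69037 := (((D69037).symm.trans (sb E94216 (iv1 F272315)))).symm
theorem F330298 : act 2 n38792 = n69038 := (sb E94218 F230886)
theorem F330299 : act 2 n142842 = n84161 := (sb E94219 F272308)
theorem F330300 : act 6 n142842 = n83084 := (sb E94219 (iv6 D173740))
theorem F330301 : act 2 n112572 = n84164 := (sb E94220 F303680)
theorem F330302 : act 6 n112572 = n80508 := (sb E94220 (iv6 D167773))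
theorem F330303 : act 6 n38240 = n69038 := (sb E94221 (iv6 D147274))
theorem F330304 : act 0 n147268 = n84163 := (sb E94222 (iv1 F272316))
theorem F330306 : act 4 n147268 = n93849 := (sb E94222 F328617)
theorem F330307 : act 6 n147268 = n84100 := (sb E94222 F272314)
theorem E94224 : n176496 = n147269 := (((D147269).symm.trans (sb E94223 (iv3 F275810)))).symm
theorem E94225 : n147270 = n88507 := ((D147270).symm.trans (sb E94223 F328236))
theorem E94226 : n176526 = n147271 := (((D147271).symm.trans (sb E94223 (iv5 F275835)))).symm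
theorem E94227 : n147272 = n88506 := ((D147272).symm.trans (sb E94223 F328237))
theorem F330308 : act 7 n69037 = n38792 := (sb E94223 (iv7 D84165))
theorem F330309 : act 7 n147269 = n84155 := (sb E94224 (iv7 D176496))
theorem F330310 : act 4 n88507 = n69037 := (sb E94225 (iv4 D147270))
theorem F330311 : act 7 n147271 = n84164 := (sb E94226 (iv7 D176526))
theorem F330312 : act 6 n88506 = n69037 := (sb E94227 (iv6 D147272))
theorem F330313 : act 6 n147269 = n185827 := d7_2 F330312 D147269 (iv3 D185827)
theorem E94228 : n147271 = n112573 := (c21_7 F109314 (iv1 F109313) (iv5 F138813) F138811 (iv1 F135504) F330312 D147271 (iv1 D112573) F105446 (iv6 F308680) (iv1 F178495))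
theorem F330314 : act 5 n112573 = n69037 := (sb E94228 (iv5 D147271))
theorem F330315 : act 7 n112573 = n84164 := (sb E94228 F330311)
theorem E94229 : n147233 = n90255 := (c17_1 D147233 (iv5 F144857) F164526 (iv5 F187318) F313050 (iv5 F105446) D112573 F330314 (iv0 D69037) (iv4 F105236))
theorem F330316 : act 1 n90255 = n69023 := (sb E94229 (iv0 D147233))
theorem E94230 : n146171 = n114072 := ((((iv3 F177585)).symm.trans (sb E94229 F230823))).symm
theorem F330317 : act 4 n114072 = n68543 := (sb E94230 (iv4 D146171))
theorem F330318 : act 5 n114072 = n142480 := (sb E94230 F229441)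
theorem F330319 : act 3 n142480 = n94023 := d6_1 F330318 F144857 (iv3 F177585)
theorem E94231 : n186395 = n142480 := ((c12_2 D114072 F330318 (iv6 D186395) (iv5 F293458) (iv6 F292415) F143470)).symm
theorem F330320 : act 6 n142480 = n88785 := (sb E94231 (iv6 D186395))
theorem E94232 : n144162 = n135256 := (c13_3 (iv7 F323568) F330318 (iv7 F226867) (iv5 D135256))
theorem F330321 : act 2 n135256 = n142483 := (sb E94232 F226866)
theorem F330322 : act 4 n135256 = n67538 := (sb E94232 (iv4 D144162))
theorem F330323 : act 7 n135256 = n142480 := (sb E94232 F226867)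
theorem F330324 : act 0 n142480 = n112925 := d21_7 F26864 (iv1 D12143) D12145 D25552 D52648 D114072 F330318 F175867 (iv6 D52712) (iv1 F40490)
theorem E94233 : n107707 = n68542 := (c16_1 F179345 F223810 (iv4 F223809) (iv5 D140715) (iv4 F180260) (iv5 F181606) D142480 (iv5 F330318) F323568 (iv2 F179344))
theorem E94234 : n143603 = n135253 := ((F226293).symm.trans (sb E94233 (iv2 F217457)))
theorem E94235 : n146168 = n115177 := ((D146168).symm.trans (sb E94233 (iv4 F179345)))
theorem E94236 : n146169 = n49757 := ((D146169).symm.trans (sb E94233 (iv6 D107707)))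
theorem F330325 : act 0 n135253 = n67251 := (sb E94234 (iv1 D143603))
theorem F330326 : act 1 n135253 = n68544 := (sb E94234 F226290)
theorem F330327 : act 2 n135253 = n68542 := (sb E94234 (iv2 F226293))
theorem F330328 : act 5 n135253 = n116499 := (sb E94234 F226292)
theorem F330329 : act 7 n135253 = n68543 := (sb E94234 F226291)
theorem F330330 : act 4 n115177 = n68542 := (sb E94235 (iv4 D146168))
theorem F330331 : act 5 n115177 = n142483 := (sb E94235 F229439)
theorem F330332 : act 6 n49757 = n68542 := (sb E94236 (iv6 D146169))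
theorem F330333 : act 0 n112935 = n142480 := d21_1 (iv5 F175878) (iv5 F330318) (iv6 D114072) (iv1 F142385) F142382 F319018 (iv1 F319014) D164342 F258971 (iv1 F177985)
theorem F330334 : act 4 n142530 = n114194 := d17_9 (iv1 F177985) (iv5 F175878) F330333 (iv5 F330318) F330317 F181775 (iv0 F181774) (iv5 F248517) F248519
theorem F330335 : act 4 n142531 = n114195 := d18_7 F330333 (iv4 D142480) (iv1 F181768) (iv4 F227976) F316732 F314385 D142531 F177982 (iv5 F175878)
theorem F330336 : act 4 n144504 = n112935 := d18_1 D144504 F330333 (iv4 D142480) F181606 F180260 (iv0 F180262) (iv4 F103764) (iv0 D67722) D67725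
theorem F330337 : act 1 n112935 = n142483 := d15_1 (iv0 F330333) (iv7 F226875) F226874
theorem F330338 : act 5 n142463 = n114195 := d17_5 (iv1 D66804) (iv5 D31140) D31138 D66798 D142463 F177982 (iv5 F175878) F330337 (iv4 D142483)
theorem F330339 : act 5 n142473 = n114194 := d9_8 F330338 (iv4 F330335) F225423 (iv4 F103162) F103122 F49493 D66801 D142473 (iv4 F330334) F225422 (iv4 F205306) F205305 (iv4 D66797) D66798 D142463
theorem F330340 : act 5 n164502 = n142407 := d18_9 F225320 (iv4 D67548) (iv1 F181802) D142463 F330338 (iv4 F330335) F248520 F248516 F319092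
theorem F330341 : act 4 n142376 = n164502 := d16_2 D66766 D142376 F330340 (iv4 D142407) (iv5 D66780) (iv4 D31132) D31133 (iv7 F102960) F102959
theorem F330342 : act 6 n142776 = n114775 := d21_3 F330340 F225320 F225676 F258995 (iv6 D54550) (iv5 D26380) F40564 (iv5 F56647) D79002 D164502
theorem E94237 : n142376 = n114198 := ((c18_1 D114198 F330341 (iv1 F319092) (iv4 F248516) F248517 (iv4 D116480) F84696 D66813 (iv0 F324237) (iv5 D114200))).symm
theorem F330343 : act 4 n114198 = n164502 := (sb E94237 F330341)
theorem F330344 : act 5 n114198 = n66766 := (sb E94237 (iv5 D142376))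
theorem F330345 : act 5 n164503 = n142367 := d18_9 F229208 F229204 (iv1 F182947) D142473 F330339 (iv4 F330334) (iv0 D142530) (iv4 F314385) D164503
theorem F330346 : act 4 n142414 = n164503 := d9_15 F330345 (iv4 D142367) (iv5 D66761) (iv4 D31127) D31128 D66766 (iv5 F330344) F330343 F330340 (iv4 D142407) (iv5 D66780) (iv4 D31132) D31133 D66782 D142414
theorem E94238 : n142414 = n114199 := ((c17_9 (iv1 D164503) (iv5 F316732) (iv1 F227980) F229065 F229064 (iv5 D142512) (iv0 F324237) (iv5 D114200) D114199 F330346)).symm
theorem E94239 : n164503 = n151440 := ((((iv4 F238180)).symm.trans (sb E94238 F330346))).symm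
theorem F330347 : act 5 n114199 = n66782 := (sb E94238 (iv5 D142414))
theorem F330348 : act 0 n151440 = n79002 := (sb E94239 (iv1 D164503))
theorem F330349 : act 1 n151440 = n142488 := (sb E94239 (iv0 F319091))
theorem F330350 : act 5 n151440 = n142367 := (sb E94239 F330345)
theorem F330351 : act 3 n142367 = n151442 := d6_1 F330350 (iv5 D151442) D151440
theorem E94240 : n142358 = n112932 := (c18_3 D142485 F225393 (iv1 F225278) F175876 F82404 (iv4 F83305) D114199 (iv4 F238180) F330349 (iv5 D142488))
theorem F330352 : act 0 n112932 = n117061 := (sb E94240 F225277)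
theorem F330353 : act 1 n112932 = n117048 := (sb E94240 F225278)
theorem F330354 : act 2 n112932 = n144505 := (sb E94240 F227354)
theorem F330355 : act 5 n112932 = n66758 := (sb E94240 (iv5 D142358))
theorem F330356 : act 7 n112932 = n144504 := (sb E94240 F227350)
theorem E94241 : n151441 = n143456 := (c20_7 F318234 F172106 D67281 (iv3 F225399) (iv1 F330349) (iv3 D151440) D151441 (iv1 D143456) (iv4 F321916) (iv3 F114465) F290344)
theorem F330357 : act 4 n143456 = n71391 := (sb E94241 (iv4 D151441))
theorem E94242 : n144172 = n112934 := (c18_2 (iv1 F181607) D144172 (iv1 D112934) (iv4 F175876) F330355 F102626 F162314 F84701 F84700 D66789)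
theorem F330358 : act 2 n112934 = n142480 := (sb E94242 F226874)
theorem F330359 : act 4 n112934 = n67542 := (sb E94242 (iv4 D144172))
theorem F330360 : act 7 n112934 = n142483 := (sb E94242 F226875)
theorem E94243 : n183229 = n110765 := ((c21_5 (iv5 D66761) D66758 (iv5 F330355) (iv6 D112932) F171456 F284877 (iv5 D87468) D87466 D183232 F330008 (iv1 D142366))).symm
theorem E94244 : n106798 = n87473 := ((F171454).symm.trans (sb E94243 F284876))
theorem F330361 : act 5 n110765 = n87465 := (sb E94243 (iv5 D183229))
theorem F330362 : act 6 n110765 = n87468 := (sb E94243 F284877)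
theorem F330363 : act 3 n87473 = n110765 := (sb E94244 (iv3 F171454))
theorem E94245 : n183257 = n49345 := ((D183257).symm.trans (sb E94244 (iv4 D106798)))
theorem E94246 : n183258 = n110762 := ((D183258).symm.trans (sb E94244 F171452))
theorem F330364 : act 4 n49345 = n87473 := (sb E94245 (iv4 D183257))
theorem E94247 : n106799 = n87476 := ((D106799).symm.trans (sb E94245 F284901))
theorem F330365 : act 5 n110762 = n87474 := (sb E94246 F284902)
theorem F330366 : act 7 n110762 = n87473 := (sb E94246 (iv7 D183258))
theorem E94248 : n183261 = n49347 := ((D183261).symm.trans (sb E94247 F164593))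
theorem E94249 : n135694 = n75171 := ((((iv5 F294094)).symm.trans (sb E94247 (iv5 F218191)))).symm
theorem F330367 : act 6 n87476 = n49345 := (sb E94247 (iv6 D106799))
theorem F330368 : act 3 n49347 = n87476 := (sb E94248 (iv3 D183261))
theorem E94250 : n157768 = n63807 := ((D157768).symm.trans (sb E94249 F218190))
theorem E94251 : n157770 = n63806 := ((D157770).symm.trans (sb E94249 (iv6 D135694)))
theorem F330369 : act 3 n63807 = n75171 := (sb E94250 (iv3 D157768))
theorem E94252 : n128730 = n75173 := (((iv4 F207003)).symm.trans (sb E94250 F248657))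
theorem E94253 : n161005 = n135697 := (((D135697).symm.trans (sb E94250 (iv7 F254516)))).symm
theorem E94254 : n163429 = n135691 := (((D135691).symm.trans (sb E94251 (iv1 F257721)))).symm
theorem E94255 : n162896 = n135692 := (((D135692).symm.trans (sb E94251 (iv0 F257208)))).symm
theorem E94256 : n161004 = n135690 := ((((iv2 F218188)).symm.trans (sb E94251 (iv2 F254512)))).symm
theorem E94257 : n135693 = n75172 := ((D135693).symm.trans (sb E94251 F248661))
theorem F330370 : act 6 n63806 = n75171 := (sb E94251 (iv6 D157770))
theorem E94258 : n128729 = n75175 := (((iv7 F207002)).symm.trans (sb E94251 F296420))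
theorem F330371 : act 4 n75173 = n63807 := (sb E94252 F207003)
theorem E94259 : n157778 = n60537 := ((D157778).symm.trans (sb E94252 (iv6 D128730)))
theorem F330372 : act 3 n135697 = n77264 := (sb E94253 (iv3 D161005))
theorem F330373 : act 4 n135697 = n86128 := (sb E94253 F254515)
theorem F330374 : act 6 n135697 = n86128 := (sb E94253 F296075)
theorem E94260 : n135840 = n86126 := (((iv1 F218493)).symm.trans (sb E94254 F297303))
theorem F330375 : act 2 n135691 = n78564 := (sb E94254 F257718)
theorem F330376 : act 4 n135691 = n78540 := (sb E94254 (iv4 D163429))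
theorem F330377 : act 6 n135691 = n80486 := (sb E94254 F257719)
theorem F330378 : act 7 n135691 = n78567 := (sb E94254 F257720)
theorem F330379 : act 2 n135692 = n78567 := (sb E94255 F257205)
theorem F330380 : act 4 n135692 = n78308 := (sb E94255 F257206)
theorem F330381 : act 6 n135692 = n78306 := (sb E94255 (iv6 D162896))
theorem F330382 : act 7 n135692 = n78564 := (sb E94255 (iv7 F257207))
theorem F330383 : act 0 n135690 = n78564 := (sb E94256 F256412)
theorem F330384 : act 1 n135690 = n78567 := (sb E94256 (iv0 F254514))
theorem F330385 : act 4 n135690 = n78867 := (sb E94256 F297288)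
theorem F330386 : act 6 n135690 = n77263 := (sb E94256 (iv6 D161004))
theorem F330387 : act 4 n75172 = n63806 := (sb E94257 (iv4 D135693))
theorem E94261 : n157782 = n60585 := ((D157782).symm.trans (sb E94258 F207001))
theorem F330388 : act 7 n75175 = n63806 := (sb E94258 F207002)
theorem F330389 : act 3 n60537 = n75175 := (sb E94259 F248673)
theorem F330390 : act 6 n60537 = n75173 := (sb E94259 (iv6 D157778))
theorem F330391 : act 0 n86126 = n135692 := (sb E94260 (iv1 F218492))
theorem F330392 : act 1 n86126 = n135691 := (sb E94260 F218493)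
theorem E94262 : n180327 = n63874 := ((D180327).symm.trans (sb E94260 (iv5 D135840)))
theorem F330393 : act 7 n86126 = n135690 := (sb E94260 F218491)
theorem F330394 : act 5 n60585 = n75175 := (sb E94261 (iv5 D157782))
theorem F330395 : act 5 n63874 = n86126 := (sb E94262 (iv5 D180327))
theorem F330396 : act 5 n110576 = n135839 := d6_2 F330395 (iv3 F327077) (iv3 D135839)
theorem E94263 : n184753 = n135841 := (c12_6 (iv6 D135841) F330395 (iv6 D86126) D86125 (iv6 F295054) D184753)
theorem F330397 : act 5 n135841 = n88102 := (sb E94263 (iv5 D184753))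
theorem E94264 : n135683 = n125894 := ((c17_1 (iv1 F202802) (iv5 D135683) (iv1 F99339) F330395 F132071 F60657 (iv0 F117091) F88565 (iv0 F324006) (iv4 F202800))).symm
theorem F330398 : act 5 n125894 = n63803 := (sb E94264 (iv5 D135683))
theorem E94265 : n163634 = n135688 := (c17_5 (iv1 F119721) F56458 (iv1 F119517) (iv5 F119795) (iv4 F257897) (iv5 D135688) F99338 F330395 F330392 F330376)
theorem F330399 : act 2 n135688 = n126129 := (sb E94265 (iv2 F327888))
theorem F330400 : act 4 n135688 = n78620 := (sb E94265 F257897)
theorem F330401 : act 6 n135688 = n78619 := (sb E94265 (iv6 D163634))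
theorem F330402 : act 7 n135688 = n163493 := (sb E94265 F257898)
theorem E94266 : n163482 = n63864 := (c18_1 D163482 (iv4 D63864) (iv1 F48432) D63874 F330395 F132071 (iv0 F117091) (iv4 F297414) (iv0 D78559) D78561)
theorem E94267 : n180342 = n135816 := (((D135816).symm.trans (sb E94266 F302553))).symm
theorem E94268 : n135817 = n78561 := ((D135817).symm.trans (sb E94266 (iv0 D163482)))
theorem E94269 : n135819 = n86066 := ((D135819).symm.trans (sb E94266 F302554))
theorem F330403 : act 2 n135816 = n163485 := (sb E94267 (iv2 F297431))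
theorem F330404 : act 5 n135816 = n86133 := (sb E94267 (iv5 D180342))
theorem F330405 : act 0 n78561 = n63864 := (sb E94268 (iv1 D135817))
theorem E94270 : n163483 = n63869 := ((D163483).symm.trans (sb E94268 F218454))
theorem E94271 : n128985 = n126133 := ((((iv2 F325652)).symm.trans (sb E94269 F218462))).symm
theorem F330406 : act 5 n86066 = n63864 := (sb E94269 (iv5 D135819))
theorem F330407 : act 0 n63869 = n78561 := (sb E94270 (iv1 D163483))
theorem F330408 : act 3 n126133 = n60655 := (sb E94271 F207200)
theorem F330409 : act 5 n126133 = n60653 := (sb E94271 (iv5 D128985))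
theorem F330410 : act 7 n126133 = n135831 := (sb E94271 (iv7 F218480))
theorem F330411 : act 6 n95261 = n125894 := d21_5 D95271 F146897 (iv5 D45162) (iv6 F71154) (iv1 F146878) F330398 (iv1 F99339) F330395 (iv6 D86126) (iv1 F70014)
theorem F330412 : act 0 n124598 = n181690 := d21_1 D124598 (iv5 D181690) F296077 F70011 D86126 (iv5 F330395) (iv1 F99338) D135688 F330401 F299098
theorem F330413 : act 2 n125894 = n163493 := d3_1 F330411 F257774 (iv2 F299566)
theorem F330414 : act 7 n125894 = n126129 := d14_2 (iv7 F299567) F330411 F327890 F257860 (iv6 F122426)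
theorem F330415 : act 0 n169906 = n181008 := d21_1 (iv5 F267332) (iv5 D181008) F132561 (iv1 F112718) (iv6 F330370) (iv5 D63806) D63803 (iv5 F330398) (iv6 F330411) F146870
theorem F330416 : act 1 n169906 = n181236 := d15_1 (iv0 F330415) (iv7 D181236) (iv2 F281849)
theorem F330417 : act 1 n96674 = n181008 := d15_0 (iv0 F330415) (iv7 D169906) (iv2 F148991)
theorem F330418 : act 1 n181236 = n96674 := d15_0 F330417 F281850 (iv2 F282297)
theorem F330419 : act 5 n126129 = n135685 := d13_1 F330414 (iv7 D135685) (iv5 F330398)
theorem E94272 : n135688 = n125893 := (c15_4 (iv0 D125893) D125894 F330414 (iv2 F330399))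
theorem E94273 : n128696 = n126113 := ((((iv1 F202803)).symm.trans (sb E94272 F218187))).symm
theorem F330420 : act 2 n125893 = n126129 := (sb E94272 F330399)
theorem F330421 : act 4 n125893 = n78620 := (sb E94272 F330400)
theorem F330422 : act 5 n125893 = n63804 := (sb E94272 (iv5 D135688))
theorem F330423 : act 6 n125893 = n78619 := (sb E94272 F330401)
theorem F330424 : act 7 n125893 = n163493 := (sb E94272 F330402)
theorem F330425 : act 3 n126113 = n60527 := (sb E94273 F206987)
theorem F330426 : act 5 n126113 = n60526 := (sb E94273 (iv5 D128696))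
theorem E94274 : n128846 = n125847 := (((F202801).symm.trans (sb E94273 (iv7 F207105)))).symm
theorem F330427 : act 3 n125847 = n60592 := (sb E94274 (iv3 D128846))
theorem F330428 : act 5 n125847 = n128584 := (sb E94274 F207104)
theorem E94275 : n163493 = n126128 := (c15_4 (iv0 D126128) D126129 (iv7 F330414) F330413)
theorem F330429 : act 2 n126128 = n125894 := (sb E94275 (iv2 F330413))
theorem F330430 : act 4 n126128 = n78565 := (sb E94275 (iv4 D163493))
theorem F330431 : act 6 n126128 = n79735 := (sb E94275 F257774)
theorem F330432 : act 7 n126128 = n125893 := (sb E94275 (iv7 F330424))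
theorem F330433 : act 5 n135680 = n126128 := d13_3 F330432 F330422 F218182
theorem E94276 : n135680 = n128823 := ((c17_1 (iv1 F207089) F330433 (iv1 F202830) F330428 F206818 F214014 F214012 F209504 F207225 (iv4 F99174))).symm
theorem F330434 : act 2 n128823 = n63803 := (sb E94276 (iv2 D135680))
theorem F330435 : act 5 n128823 = n126128 := (sb E94276 F330433)
theorem F330436 : act 7 n128823 = n63804 := (sb E94276 (iv7 F218182))
theorem E94277 : n135685 = n128822 := (c15_4 (iv0 D128822) D128823 F330436 (iv2 F218185))
theorem F330437 : act 2 n128822 = n63804 := (sb E94277 F218185)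
theorem F330438 : act 5 n128822 = n126129 := (sb E94277 (iv5 F330419))
theorem F330439 : act 7 n128822 = n63803 := (sb E94277 (iv7 D135685))
theorem F330440 : act 7 n135681 = n106636 := d8_2 F330439 D135681 (iv3 F207087)
theorem E94278 : n106639 = n106629 := ((c11_3 F330440 (iv4 D106636) F164251 (iv4 F218183))).symm
theorem F330441 : act 0 n106629 = n49275 := (sb E94278 (iv1 F164253))
theorem F330442 : act 1 n106629 = n49273 := (sb E94278 (iv0 D106639))
theorem F330443 : act 4 n106629 = n135681 := (sb E94278 (iv4 F218183))
theorem F330444 : act 2 n135681 = n106631 := d1_1 F330443 (iv4 D106631) D106629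
theorem F330445 : act 1 n128832 = n106636 := d15_1 (iv0 F207260) (iv7 F330440) F330444
theorem E94279 : n106640 = n106634 := (c15_2 F330442 D106640 (iv7 D106634) D106629)
theorem F330446 : act 0 n106634 = n49273 := (sb E94279 (iv1 D106640))
theorem F330447 : act 1 n106634 = n49275 := (sb E94279 F164254)
theorem F330448 : act 3 n106634 = n136336 := (sb E94279 (iv3 F219420))
theorem F330449 : act 7 n136336 = n106630 := d8_2 D106634 F330448 (iv3 D106630)
theorem E94280 : n136329 = n132536 := ((c11_2 F330449 F212742 (iv7 F219416) D136336)).symm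
theorem F330450 : act 2 n132536 = n64096 := (sb E94280 (iv2 D136329))
theorem F330451 : act 7 n132536 = n64097 := (sb E94280 (iv7 F219416))
theorem E94281 : n136334 = n132535 := (c15_4 (iv0 D132535) D132536 F330451 (iv2 F219419))
theorem F330452 : act 2 n132535 = n64097 := (sb E94281 F219419)
theorem F330453 : act 7 n132535 = n64096 := (sb E94281 (iv7 D136334))
theorem F330454 : act 2 n136331 = n106630 := d1_3 F212742 F330450 D136331
theorem E94282 : n128695 = n126130 := ((c17_4 D128822 F330438 (iv1 D126129) D126130 (iv4 F209512) (iv5 F209515) D130908 (iv5 F209509) F207229 (iv4 F95203))).symm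
theorem F330455 : act 2 n126130 = n60526 := (sb E94282 (iv2 D128695))
theorem F330456 : act 4 n126130 = n130909 := (sb E94282 (iv4 F209512))
theorem E94283 : n125486 = n110247 := ((c19_7 D128822 F330438 F327889 F327352 (iv1 F80213) (iv5 F80200) (iv4 F170404) F201820 (iv1 F164829) (iv5 D106942) F78135 (iv3 F47956) (iv1 D29797) (iv5 D14160) (iv4 D6738) D6737 F22511 (iv5 F23847) (iv4 F46414) D60585)).symm
theorem F330457 : act 3 n110247 = n58749 := (sb E94283 F201820)
theorem F330458 : act 5 n110247 = n58748 := (sb E94283 (iv5 D125486))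
theorem E94284 : n109102 = n106990 := ((F170405).symm.trans (sb E94283 F201821))
theorem F330459 : act 0 n106990 = n110286 := (sb E94284 (iv1 F170525))
theorem F330460 : act 1 n106990 = n110285 := (sb E94284 F170524)
theorem F330461 : act 2 n106990 = n50388 := (sb E94284 F169093)
theorem F330462 : act 4 n106990 = n50783 := (sb E94284 F169094)
theorem F330463 : act 6 n106990 = n50369 := (sb E94284 (iv6 D109102))
theorem F330464 : act 7 n106990 = n110247 := (sb E94284 (iv7 F170405))
theorem E94285 : n109181 = n106989 := (c16_4 F80211 (iv5 F38708) (iv4 F79758) D109181 (iv4 F220001) (iv5 F220005) F100142 D106990 F330464 F170403)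
theorem E94286 : n125492 = n50401 := (((iv3 F201829)).symm.trans (sb E94285 F169159))
theorem F330465 : act 5 n106989 = n50388 := (sb E94285 (iv5 D109181))
theorem E94287 : n125485 = n110287 := (((iv7 F201816)).symm.trans (sb E94285 (iv7 F170527)))
theorem E94288 : n109229 = n106973 := ((D109229).symm.trans (sb E94286 (iv1 F201834)))
theorem E94289 : n109230 = n106972 := ((D109230).symm.trans (sb E94286 F201832))
theorem E94290 : n108692 = n58751 := (((iv2 F168628)).symm.trans (sb E94286 (iv2 D125492)))
theorem F330466 : act 3 n50401 = n106989 := (sb E94286 F201829)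
theorem E94291 : n109231 = n74278 := ((D109231).symm.trans (sb E94286 F201830))
theorem F330467 : act 0 n110287 = n106988 := (sb E94287 (iv1 F201819))
theorem F330468 : act 1 n110287 = n106987 := (sb E94287 F201817)
theorem F330469 : act 2 n110287 = n58748 := (sb E94287 (iv2 D125485))
theorem F330470 : act 4 n110287 = n108120 := (sb E94287 F201815)
theorem F330471 : act 7 n110287 = n106989 := (sb E94287 F201816)
theorem E94293 : n111359 = n49422 := ((((iv1 D106973)).symm.trans (sb E94288 (iv1 F172812)))).symm
theorem F330472 : act 1 n106973 = n50401 := (sb E94288 (iv0 D109229))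
theorem F330473 : act 5 n106973 = n140688 := (sb E94288 (iv5 F223778))
theorem F330474 : act 0 n106972 = n50401 := (sb E94289 (iv1 D109230))
theorem E94294 : n125490 = n111768 := ((D125490).symm.trans (sb E94290 (iv1 F173453)))
theorem E94295 : n125491 = n111767 := ((D125491).symm.trans (sb E94290 F173452))
theorem F330475 : act 2 n58751 = n50401 := (sb E94290 F168628)
theorem E94296 : n125493 = n50184 := ((D125493).symm.trans (sb E94290 (iv5 D108692)))
theorem F330476 : act 4 n74278 = n50401 := (sb E94291 (iv4 D109231))
theorem E94297 : n111769 = n74279 := ((((iv7 F111474)).symm.trans (sb E94291 (iv7 F173454)))).symm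
theorem F330477 : act 2 n49422 = n51527 := (sb E94293 F172809)
theorem E94298 : n106975 = n51358 := ((D106975).symm.trans (sb E94293 (iv5 D111359)))
theorem F330478 : act 1 n111768 = n58751 := (sb E94294 (iv0 D125490))
theorem F330479 : act 0 n111767 = n58751 := (sb E94295 (iv1 D125491))
theorem E94299 : n108684 = n58752 := (((iv3 F168614)).symm.trans (sb E94296 F201835))
theorem F330480 : act 5 n50184 = n58751 := (sb E94296 (iv5 D125493))
theorem F330481 : act 4 n74279 = n51527 := (sb E94297 (iv4 D111769))
theorem E94300 : n111351 = n49423 := (((iv3 F172794)).symm.trans (sb E94298 F164889))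
theorem F330482 : act 5 n51358 = n49422 := (sb E94298 (iv5 D106975))
theorem F330483 : act 3 n58752 = n50184 := (sb E94299 F168614)
theorem E94301 : n125495 = n50180 := ((D125495).symm.trans (sb E94299 (iv6 D108684)))
theorem F330484 : act 3 n49423 = n51358 := (sb E94300 F172794)
theorem E94302 : n106977 = n51354 := ((D106977).symm.trans (sb E94300 (iv6 D111351)))
theorem E94303 : n108666 = n106992 := ((F168603).symm.trans (sb E94301 F201839))
theorem F330485 : act 6 n50180 = n58752 := (sb E94301 (iv6 D125495))
theorem E94304 : n125488 = n110245 := ((((iv2 F170394)).symm.trans (sb E94302 (iv2 F201824)))).symm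
theorem F330486 : act 6 n51354 = n49423 := (sb E94302 (iv6 D106977))
theorem F330487 : act 0 n106992 = n50177 := (sb E94303 (iv1 F168606))
theorem F330488 : act 1 n106992 = n50176 := (sb E94303 (iv0 D108666))
theorem F330489 : act 2 n106992 = n50180 := (sb E94303 (iv2 F168603))
theorem F330490 : act 3 n106992 = n50369 := (sb E94303 F168604)
theorem F330491 : act 7 n106992 = n50178 := (sb E94303 F168605)
theorem F330492 : act 4 n110245 = n106992 := (sb E94304 F201825)
theorem F330493 : act 6 n110245 = n58749 := (sb E94304 (iv6 D125488))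
theorem E94305 : n137317 = n108673 := ((c20_6 (iv4 D24719) D24716 (iv4 F79744) (iv3 F330490) F330487 D108673 (iv4 D137317) (iv1 F323990) F174889 F170034 (iv1 D50798))).symm
theorem F330494 : act 2 n108673 = n126951 := (sb E94305 F220480)
theorem F330495 : act 4 n108673 = n64539 := (sb E94305 (iv4 D137317))
theorem F330496 : act 4 n137306 = n111494 := d5_2 F330495 (iv3 F220457) F173027 (iv4 D108674) D108673
theorem F330497 : act 4 n108626 = n137316 := d20_0 (iv1 D137316) (iv4 F330495) (iv3 D108673) (iv1 D50177) (iv3 D24470) (iv4 D11561) D11559 D24464 D50158 D108626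
theorem F330498 : act 1 n108862 = n108995 := d17_6 (iv1 D137316) (iv5 D64539) D64537 (iv5 F323136) (iv4 D108861) D108862 (iv5 D108995) F168504 F330497
theorem E94306 : n126642 = n108973 := (c18_5 (iv1 F100484) (iv4 F162108) (iv1 D59418) (iv4 F93780) D126642 F168975 F168504 F330497 F220477 F204204)
theorem E94307 : n59527 = n50316 := ((((iv2 D108973)).symm.trans (sb E94306 F203779))).symm
theorem F330499 : act 5 n108973 = n59416 := (sb E94306 (iv5 D126642))
theorem E94308 : n126859 = n108971 := (((D108971).symm.trans (sb E94307 D126859))).symm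
theorem E94309 : n126860 = n108972 := (((D108972).symm.trans (sb E94307 D126860))).symm
theorem E94310 : n126844 = n24540 := ((((iv3 D50316)).symm.trans (sb E94307 (iv3 F204086)))).symm
theorem E94312 : n108974 = n28264 := ((D108974).symm.trans (sb E94307 (iv5 D59527)))
theorem E94313 : n126852 = n108975 := (((D108975).symm.trans (sb E94307 (iv6 F204096)))).symm
theorem E94314 : n126862 = n107578 := ((((iv7 F165966)).symm.trans (sb E94307 D126862))).symm
theorem F330500 : act 5 n108971 = n107636 := (sb E94308 F204100)
theorem F330501 : act 5 n108972 = n126808 := (sb E94309 (iv5 F204101))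
theorem E94315 : n59521 = n50317 := (((D50317).symm.trans (sb E94310 (iv5 D126844)))).symm
theorem F330502 : act 5 n28264 = n50316 := (sb E94312 (iv5 D108974))
theorem F330503 : act 5 n108975 = n59524 := (sb E94313 (iv5 D126852))
theorem F330504 : act 5 n107578 = n59528 := (sb E94314 F204102)
theorem E94318 : n126837 = n107582 := ((((iv2 F165976)).symm.trans (sb E94315 (iv2 F204083)))).symm
theorem F330505 : act 3 n50317 = n28264 := (sb E94315 F93942)
theorem E94319 : n115254 = n25841 := (((F79702).symm.trans (sb E94315 (iv4 F179505)))).symm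
theorem E94320 : n108976 = n28262 := ((D108976).symm.trans (sb E94315 (iv6 D59521)))
theorem E94321 : n126845 = n107579 := ((((iv7 F165968)).symm.trans (sb E94315 D126845))).symm
theorem F330506 : act 6 n107582 = n59519 := (sb E94318 (iv6 D126837))
theorem E94322 : n53305 = n53177 := (((iv3 F84151)).symm.trans (sb E94319 F179504))
theorem E94323 : n53309 = n53175 := ((D53309).symm.trans (sb E94319 (iv6 D115254)))
theorem F330507 : act 6 n28262 = n50317 := (sb E94320 (iv6 D108976))
theorem F330508 : act 3 n107579 = n59528 := (sb E94321 F204087)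
theorem E94326 : n115549 = n25842 := (((F83990).symm.trans (sb E94322 (iv2 F179849)))).symm
theorem F330509 : act 3 n53177 = n25841 := (sb E94322 F84151)
theorem E94328 : n115256 = n25839 := ((D115256).symm.trans (sb E94322 (iv5 D53305)))
theorem E94330 : n115261 = n115257 := (((D115257).symm.trans (sb E94322 (iv7 F179521)))).symm
theorem E94333 : n115255 = n115252 := (((D115252).symm.trans (sb E94323 (iv2 F179506)))).symm
theorem E94334 : n115569 = n115253 := (((D115253).symm.trans (sb E94323 D115569))).symm
theorem F330510 : act 6 n53175 = n25841 := (sb E94323 (iv6 D53309))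
theorem E94336 : n53312 = n53303 := ((D53312).symm.trans (sb E94326 (iv5 D115549)))
theorem E94337 : n130960 = n53301 := (((D53301).symm.trans (sb E94328 (iv1 F209571)))).symm
theorem F330511 : act 5 n25839 = n53177 := (sb E94328 (iv5 D115256))
theorem F330512 : act 3 n115257 = n53179 := (sb E94330 F179520)
theorem F330513 : act 5 n115257 = n53178 := (sb E94330 (iv5 D115261))
theorem F330514 : act 6 n115252 = n53176 := (sb E94333 (iv6 D115255))
theorem E94338 : n115550 = n115253 := ((D115550).symm.trans (iv6 (sb E94334 (tr F179882 E94336))))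
theorem E94339 : n115571 = n115259 := ((((iv1 F179518)).symm.trans (sb E94336 D115571))).symm
theorem E94340 : n115572 = n115258 := (((F179513).symm.trans (sb E94336 D115572))).symm
theorem E94341 : n115561 = n115252 := ((((iv3 F179496)).symm.trans (sb E94336 (iv3 F179864)))).symm
theorem F330515 : act 5 n53303 = n25842 := (sb E94336 (iv5 D53312))
theorem E94343 : n115574 = n115260 := ((((iv7 F179516)).symm.trans (sb E94336 D115574))).symm
theorem E94344 : n115538 = n115259 := ((D115538).symm.trans (sb E94337 (tr F209569 E94339)))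
theorem E94345 : n115541 = n61442 := ((D115541).symm.trans (sb E94337 (iv5 D130960)))
theorem E94346 : n115543 = n115258 := ((D115543).symm.trans (sb E94337 (tr F209570 E94340)))
theorem F330516 : act 2 n115253 = n53306 := (sb E94338 F179850)
theorem F330517 : act 6 n115253 = n53303 := (sb E94338 (iv6 D115550))
theorem F330518 : act 5 n115259 = n63820 := (sb E94339 F179883)
theorem F330519 : act 5 n115258 = n115428 := (sb E94340 (iv5 F179884))
theorem F330520 : act 5 n115252 = n53306 := (sb E94341 (iv5 D115561))
theorem F330521 : act 5 n115260 = n53313 := (sb E94343 F179885)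
theorem F330522 : act 2 n115259 = n53301 := (sb E94344 (iv2 D115538))
theorem F330523 : act 7 n115259 = n53302 := (sb E94344 (iv7 F179840))
theorem F330524 : act 5 n61442 = n53301 := (sb E94345 (iv5 D115541))
theorem F330525 : act 2 n115258 = n53302 := (sb E94346 F179842)
theorem F330526 : act 7 n115258 = n53301 := (sb E94346 (iv7 D115543))
theorem F330527 : act 5 n108626 = n129486 := d16_1 (iv4 F330497) (iv4 D129486) (iv5 D60845) F46497 D28863 D60851 (iv5 F323991) F174890 F325256
theorem F330528 : act 2 n129486 = n108993 := d2_1 F330527 (iv5 D108993) (iv2 F170037)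
theorem F330529 : act 7 n129486 = n108988 := d13_2 (iv7 F170038) F330527 (iv5 D108988)
theorem F330530 : act 4 n108988 = n129487 := d11_1 F330529 (iv7 D129487) D129486
theorem F330531 : act 4 n108993 = n129423 := d16_0 (iv5 D129423) F95389 (iv5 F78588) (iv4 F166228) (iv5 F325252) (iv4 D108987) D108988 (iv7 F330529) F330528
theorem F330532 : act 5 n115545 = n130950 := d16_1 D115545 (iv4 D130950) (iv5 D61436) F46723 D29083 D61442 F330524 (iv7 F330526) F330525
theorem E94347 : n135734 = n115546 := (c16_1 (iv4 F218253) (iv5 D115546) D115545 F330532 (iv4 D130950) (iv5 D61436) F46723 D29083 (iv7 F84094) (iv2 F99211))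
theorem F330533 : act 0 n115546 = n130958 := (sb E94347 (iv1 F218256))
theorem F330534 : act 1 n115546 = n130957 := (sb E94347 F218263)
theorem F330535 : act 2 n115546 = n115428 := (sb E94347 F218252)
theorem F330536 : act 4 n115546 = n63821 := (sb E94347 F218253)
theorem F330537 : act 6 n115546 = n115238 := (sb E94347 F218254)
theorem F330538 : act 7 n115546 = n63820 := (sb E94347 (iv7 D135734))
theorem E94348 : n116571 = n115483 := ((c18_5 F330533 (iv4 F211293) (iv1 D131872) (iv4 F111079) (iv5 F179778) F181928 (iv0 D115551) (iv4 D53304) D53302 D115546)).symm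
theorem F330539 : act 3 n115483 = n53720 := (sb E94348 (iv3 D116571))
theorem F330540 : act 4 n115483 = n115551 := (sb E94348 F181928)
theorem F330541 : act 7 n115483 = n141409 := (sb E94348 (iv7 F224447))
theorem F330542 : act 5 n141409 = n156048 := d13_1 F330541 (iv7 D156048) (iv5 F179778)
theorem E94349 : n115497 = n115484 := ((c2_3 F330542 F245178 F179781 (iv2 F224445))).symm
theorem F330543 : act 2 n115484 = n141409 := (sb E94349 (iv2 F224445))
theorem F330544 : act 3 n115484 = n53280 := (sb E94349 (iv3 D115497))
theorem F330545 : act 4 n115484 = n115552 := (sb E94349 F179857)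
theorem F330546 : act 3 n156048 = n141410 := d6_1 F330542 (iv5 D141410) D141409
theorem F330547 : act 0 n115486 = n141409 := d17_2 (iv1 F165190) (iv5 F179782) F330542 F245179 F211298 F96469 F95403 F179870 F179866
theorem E94350 : n136154 = n107183 := ((c17_6 F99215 F99212 (iv1 F48389) F46668 (iv4 F78278) D107183 (iv0 F224448) F330542 F245182 (iv4 D130955))).symm
theorem F330548 : act 1 n107183 = n141409 := (sb E94350 (iv0 F224448))
theorem F330549 : act 3 n107183 = n64026 := (sb E94350 (iv3 D136154))
theorem F330550 : act 4 n107183 = n141165 := (sb E94350 (iv4 F224187))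
theorem F330551 : act 2 n141165 = n115485 := d1_1 F330550 (iv4 D115485) (iv2 F165186)
theorem E94351 : n115467 = n115442 := ((c0_4 F330549 (iv2 F219186) F224171 F224183 F179766 (iv2 F165186))).symm
theorem F330552 : act 3 n115442 = n53268 := (sb E94351 F179766)
theorem F330553 : act 5 n115442 = n53262 := (sb E94351 (iv5 D115467))
theorem E94352 : n136155 = n107179 := (c6_3 D107183 F330549 D136155 F165181)
theorem F330554 : act 5 n107179 = n64026 := (sb E94352 (iv5 D136155))
theorem F330555 : act 5 n115460 = n128560 := d2_2 F330553 (iv2 F179763) F224183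
theorem E94353 : n116584 = n115442 := (c12_1 D116584 F330553 (iv6 D53262) D53261 F327061 D53723)
theorem F330556 : act 6 n115442 = n53723 := (sb E94353 (iv6 D116584))
theorem F330557 : act 5 n115468 = n128561 := d13_3 (iv7 F224184) F330553 D115468
theorem F330558 : act 3 n128561 = n115486 := d6_1 F330557 F179782 (iv3 F179767)
theorem F330559 : act 6 n116544 = n128560 := d3_2 F330556 (iv2 F181886) F224183
theorem E94354 : n156047 = n116572 := ((c8_3 D156048 F330546 F224452 F245176)).symm
theorem F330560 : act 3 n116572 = n74227 := (sb E94354 F245176)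
theorem F330561 : act 4 n116572 = n131913 := (sb E94354 F245177)
theorem F330562 : act 6 n116572 = n74226 := (sb E94354 (iv6 D156047))
theorem E94355 : n139973 = n115478 := (c17_5 (iv1 D115552) D115553 F223210 (iv5 D139981) (iv4 F223199) (iv5 D115478) (iv0 D53266) D53268 D115484 F330545)
theorem F330563 : act 2 n115478 = n115394 := (sb E94355 F223198)
theorem F330564 : act 3 n115478 = n65715 := (sb E94355 (iv3 D139973))
theorem F330565 : act 4 n115478 = n65718 := (sb E94355 F223199)
theorem F330566 : act 5 n139629 = n107185 := d18_9 F165203 F83991 D59511 (iv4 F165193) D115478 F330565 (iv0 F101434) (iv4 F101265) D139629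
theorem F330567 : act 2 n115491 = n139629 := d2_3 F330566 F165201 D115491
theorem F330568 : act 7 n115488 = n139629 := d13_0 F330566 F165202 D115488
theorem F330569 : act 0 n141723 = n139629 := d17_2 (iv1 F218250) (iv5 F224770) F330566 (iv4 D107185) (iv5 F99364) (iv0 F99365) F99207 F99206 (iv4 F179724)
theorem F330570 : act 4 n139352 = n141723 := d20_0 F330569 (iv4 F222795) (iv3 D139314) (iv1 F172960) F172957 F84356 (iv1 F40945) D30773 D65718 (iv1 F222569)
theorem F330571 : act 7 n141723 = n139630 := d15_2 D139629 (iv0 F330569) (iv2 D139630)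
theorem F330572 : act 2 n113142 = n141723 := d4_3 F330571 (iv2 D139630) (iv7 F176279)
theorem F330573 : act 5 n139630 = n130957 := d13_1 F330571 (iv7 F218262) (iv5 F224770)
theorem E94356 : n141724 = n65533 := (c2_3 F330573 F218258 (iv5 F224771) D139630)
theorem E94357 : n139628 = n66459 := ((D139628).symm.trans (sb E94356 (iv1 D141724)))
theorem E94358 : n135731 = n115287 := ((((iv5 F179550)).symm.trans (sb E94356 F224771))).symm
theorem F330574 : act 1 n66459 = n65533 := (sb E94357 (iv0 D139628))
theorem F330575 : act 0 n115287 = n115428 := (sb E94358 (iv1 F218255))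
theorem F330576 : act 1 n115287 = n63820 := (sb E94358 (iv0 D135731))
theorem F330577 : act 2 n115287 = n130957 := (sb E94358 (iv2 F218258))
theorem F330578 : act 4 n115287 = n129490 := (sb E94358 F218257)
theorem E94359 : n130958 = n53346 := (((F179551).symm.trans (sb E94358 (iv7 F218259)))).symm
theorem E94360 : n115671 = n61442 := ((D115671).symm.trans (sb E94359 (iv1 D130958)))
theorem E94361 : n115672 = n115546 := ((D115672).symm.trans (sb E94359 (iv0 F330533)))
theorem E94362 : n135732 = n115673 := (((D115673).symm.trans (sb E94359 F218260))).symm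
theorem E94363 : n131872 = n115674 := (((D115674).symm.trans (sb E94359 (iv4 F211293)))).symm
theorem E94364 : n115675 = n65542 := ((D115675).symm.trans (sb E94359 F211294))
theorem F330579 : act 1 n61442 = n53346 := (sb E94360 (iv0 D115671))
theorem F330580 : act 0 n115546 = n53346 := (sb E94361 (iv1 D115672))
theorem F330581 : act 0 n115673 = n63820 := (sb E94362 (iv1 D135732))
theorem F330582 : act 1 n115673 = n115428 := (sb E94362 F218250)
theorem F330583 : act 5 n115673 = n141723 := (sb E94362 (iv5 F224770))
theorem F330584 : act 6 n115673 = n115306 := (sb E94362 F218261)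
theorem F330585 : act 7 n115673 = n130957 := (sb E94362 F218262)
theorem F330586 : act 0 n115674 = n61881 := (sb E94363 (iv1 D131872))
theorem F330587 : act 3 n115674 = n107632 := (sb E94363 F211290)
theorem F330588 : act 5 n115674 = n129856 := (sb E94363 (iv5 F211289))
theorem F330589 : act 6 n115674 = n116976 := (sb E94363 F211291)
theorem F330590 : act 7 n115674 = n129490 := (sb E94363 (iv7 F211292))
theorem E94365 : n139652 = n53347 := ((D139652).symm.trans (sb E94364 F180037))
theorem F330591 : act 6 n65542 = n53346 := (sb E94364 (iv6 D115675))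
theorem F330592 : act 3 n53347 = n65542 := (sb E94365 (iv3 D139652))
theorem F330593 : act 1 n115488 = n139630 := d17_6 D61440 (iv5 F179282) F179284 (iv5 D53273) D53272 D115488 F330573 (iv0 D130957) (iv4 D61442)
theorem F330594 : act 1 n139630 = n115491 := d15_1 F330593 F179789 (iv2 F179784)
theorem F330595 : act 1 n113142 = n115488 := d15_0 F330593 (iv7 F330571) (iv2 F330572)
theorem F330596 : act 1 n115491 = n113142 := d15_0 F330595 F330568 (iv2 F330567)
theorem F330597 : act 5 n107181 = n115394 := d18_4 F97707 (iv4 F84155) D115563 F179866 F222566 F222570 (iv4 F222796) F330594 (iv5 D115491)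
theorem F330598 : act 3 n115396 = n107181 := d6_3 F330597 (iv3 D115394) D115396
theorem F330599 : act 7 n115394 = n115481 := d13_2 F165200 F330597 (iv5 D115481)
theorem F330600 : act 3 n115481 = n107046 := d8_1 F330599 F180678 D115394
theorem F330601 : act 4 n115481 = n110846 := d11_1 F330599 F222572 (iv4 F222566)
theorem F330602 : act 4 n115294 = n141722 := d20_8 (iv4 F330570) (iv1 F222574) (iv4 F330601) F330600 (iv1 F164988) (iv3 F179450) (iv4 F227208) (iv1 F227212) F224769 D141723
theorem F330603 : act 1 n115459 = n115339 := d18_8 (iv1 F179452) (iv4 F227208) (iv1 F227212) F330602 (iv5 D141722) F102354 F320929 (iv4 F327618) (iv5 D115339)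
theorem F330604 : act 0 n141722 = n139635 := d20_1 F330602 (iv4 F227255) (iv3 D144452) F104393 (iv3 F202847) (iv4 D126154) (iv1 F93286) (iv4 F165109) (iv3 F227207) (iv1 F227212)
theorem F330605 : act 3 n141723 = n126686 := d20_5 (iv4 F227208) (iv1 F227212) F330602 F224769 D141723 F203869 (iv1 F203717) (iv4 F203713) (iv3 D115337) (iv1 F179452)
theorem E94366 : n141535 = n115339 := ((c15_1 F330603 (iv0 F327620) F179478 (iv2 F179762))).symm
theorem F330606 : act 1 n115339 = n115242 := (sb E94366 (iv0 F327620))
theorem F330607 : act 4 n115339 = n66389 := (sb E94366 (iv4 D141535))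
theorem F330608 : act 4 n154734 = n116150 := d20_2 (iv4 F110083) D154734 F180958 (iv1 F102269) D66389 (iv4 F330607) (iv1 F330603) F327618 (iv3 F320599) (iv1 D73382)
theorem F330609 : act 2 n116101 = n154734 := d1_3 F330608 F180957 (iv4 F180893)
theorem F330610 : act 6 n128009 = n154734 := d10_0 F330608 (iv6 F317017) D128009
theorem F330611 : act 7 n116093 = n154734 := d11_0 F330608 (iv7 D116150) (iv4 F180886)
theorem E94367 : n141518 = n141385 := (c20_2 D66390 (iv1 F224573) (iv4 F326860) F326859 F323650 F110082 (iv4 F110083) D154734 F330608 F180958 (iv1 F102269))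
theorem F330612 : act 0 n141385 = n66385 := (sb E94367 (iv1 D141518))
theorem F330613 : act 1 n141385 = n66390 := (sb E94367 F224573)
theorem F330614 : act 7 n141517 = n142986 := d15_2 F330613 F224577 F225831
theorem F330615 : act 5 n121371 = n141517 := d13_3 F330614 F326863 F221221
theorem F330616 : act 6 n143252 = n141517 := d14_5 F330614 (iv6 D142986) F102992 D67112 D143252
theorem F330617 : act 2 n141517 = n159926 := d16_9 (iv4 F319489) F319490 (iv4 D68680) (iv5 F50315) (iv4 F88621) (iv5 F193612) (iv4 F221220) (iv5 F326863) (iv7 F330614)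
theorem F330618 : act 7 n159926 = n141385 := d4_2 (iv7 F330614) F330617 (iv2 F225831)
theorem F330619 : act 5 n159927 = n141385 := d16_7 F224799 F326865 F114840 F55453 (iv4 F55425) (iv5 F114807) (iv4 F252192) (iv7 F330618) (iv2 F330617)
theorem E94368 : n141520 = n105326 := (c17_4 (iv1 F252194) F330619 F330612 D141520 (iv4 D105326) F76633 F55242 (iv5 F114527) F114529 D144861)
theorem F330620 : act 5 n105326 = n66385 := (sb E94368 (iv5 D141520))
theorem E94369 : n141539 = n105323 := (c17_8 F163281 F163279 F82324 (iv5 F114807) (iv4 F252192) F330619 F330613 D141539 (iv0 F229692) (iv4 D146362))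
theorem F330621 : act 5 n105323 = n66390 := (sb E94369 (iv5 D141539))
theorem F330622 : act 5 n138363 = n117410 := d17_5 (iv1 D30997) D30998 D66393 (iv5 F323526) (iv4 F221600) F252193 F330619 F330613 (iv4 D66390)
theorem F330623 : act 0 n179013 = n138661 := d21_1 D179013 (iv5 D138661) F321518 (iv1 F102246) D141385 (iv5 F330619) (iv1 F252193) (iv5 F330622) (iv6 D138363) F314744
theorem F330624 : act 0 n115998 = n179014 := d21_4 D141384 F224428 (iv5 D115997) D115998 (iv6 D179014) D179013 F330623 (iv5 D138661) F321518 (iv1 F102246)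
theorem F330625 : act 1 n179013 = n138653 := d15_1 (iv0 F330623) (iv7 F246520) F246519
theorem E94370 : n142624 = n138653 := (c19_20 (iv1 F330625) (iv5 D179013) (iv4 D85405) F310066 (iv1 D64983) (iv5 F96019) F307942 F312238 (iv1 F311418) F311419 F71284 F56751 (iv1 F297834) (iv5 D17678) (iv4 F29959) D26809 (iv1 F130874) (iv5 F50333) (iv4 F104919) (iv3 F225499))
theorem F330626 : act 3 n138653 = n68725 := (sb E94370 F225499)
theorem F330627 : act 4 n138653 = n66855 := (sb E94370 F225500)
theorem F330628 : act 6 n138653 = n66854 := (sb E94370 (iv6 D142624))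
theorem E94371 : n149468 = n138376 := ((c21_3 (iv5 D179013) (iv1 F314743) D138376 (iv6 D149468) (iv1 D70192) F321912 D117610 (iv1 F328185) (iv5 F328574) (iv6 F330628) (iv1 F330625))).symm
theorem F330629 : act 0 n138376 = n146287 := (sb E94371 F235301)
theorem E94372 : n156506 = n149685 := (((iv2 F246073)).symm.trans (sb E94371 (iv2 F235349)))
theorem F330630 : act 3 n138376 = n123079 := (sb E94371 F235082)
theorem F330631 : act 4 n138376 = n149664 := (sb E94371 (iv4 F235298))
theorem F330632 : act 6 n138376 = n70192 := (sb E94371 (iv6 D149468))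
theorem F330633 : act 0 n149685 = n139144 := (sb E94372 (iv1 F246117))
theorem F330634 : act 2 n149685 = n138376 := (sb E94372 F246073)
theorem F330635 : act 5 n149685 = n74424 := (sb E94372 (iv5 D156506))
theorem F330636 : act 7 n149685 = n138362 := (sb E94372 F246074)
theorem F330637 : act 4 n138362 = n149688 := d11_1 F330636 (iv7 D149688) (iv4 F235350)
theorem F330638 : act 3 n158976 = n138362 := d5_5 F330637 F235355 F309373 (iv3 F184515) D158976
theorem F330639 : act 0 n146287 = n138362 := d18_2 F229618 D146287 F330637 (iv5 F321734) (iv4 D144891) (iv0 D67913) F321732 (iv0 F243393) (iv5 F106646)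
theorem F330640 : act 0 n120655 = n128167 := d20_7 D146287 F330639 F330637 F235355 F309372 (iv3 F184509) (iv4 F192319) (iv4 F234628) F234627 F229618
theorem E94373 : n154097 = n75906 := (c20_9 F113805 F57123 D55610 D120655 F330640 F206306 F94806 D72966 D154097 (iv3 D75906) D75904)
theorem E94374 : n158981 = n72966 := (((iv4 F250315)).symm.trans (sb E94373 (iv4 D154097)))
theorem E94375 : n154096 = n75901 := ((D154096).symm.trans (sb E94374 (iv3 D158981)))
theorem F330641 : act 4 n72966 = n75906 := (sb E94374 F250315)
theorem F330642 : act 3 n75901 = n72966 := (sb E94375 (iv3 D154096))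
theorem F330643 : act 1 n115224 = n128167 := d15_0 (iv0 F330640) F192322 (iv2 F320635)
theorem F330644 : act 0 n107658 = n154102 := d20_10 (iv4 D154102) (iv1 D72967) (iv4 F94806) (iv3 F206306) (iv1 F330643) (iv3 D115224) (iv4 D53161) D53159 (iv4 F83934) (iv3 F166279)
theorem F330645 : act 5 n124627 = n128090 := d21_8 (iv5 F114724) (iv1 D60251) D60253 D128167 (iv1 F330643) F320638 (iv5 F320192) (iv1 F199327) F206159 (iv1 D76685)
theorem E94376 : n125356 = n124627 := (c21_6 F330279 (iv1 F128235) D83184 (iv6 F319514) (iv1 F201460) D125356 F330645 F206161 (iv5 F321875) D79909 D166450)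
theorem F330646 : act 6 n124627 = n58700 := (sb E94376 (iv6 D125356))
theorem E94377 : n184474 = n125355 := ((c12_4 (iv6 F206159) (iv5 F330645) F330646 D125355 (iv6 D184474) F134969)).symm
theorem F330647 : act 2 n125355 = n150241 := (sb E94377 F286382)
theorem F330648 : act 3 n125355 = n153590 := (sb E94377 F286383)
theorem F330649 : act 4 n125355 = n87975 := (sb E94377 F286384)
theorem F330650 : act 6 n125355 = n87974 := (sb E94377 (iv6 D184474))
theorem E94378 : n148385 = n143599 := (c21_5 (iv5 F330645) (iv1 D124627) F317879 (iv6 F317783) D148385 (iv6 D143599) (iv5 F225422) (iv1 F248519) F248517 F320893 (iv1 F206160))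
theorem F330651 : act 1 n143599 = n69534 := (sb E94378 (iv0 D148385))
theorem E94379 : n178529 = n121713 := ((c21_11 (iv5 D178529) (iv1 F206160) (iv5 F330645) F330646 (iv1 D58700) F45069 (iv5 F27600) D34808 F250799 D78793 (iv1 F330285))).symm
theorem F330652 : act 5 n121713 = n85005 := (sb E94379 (iv5 D178529))
theorem E94380 : n166540 = n164007 := (c17_1 D166540 (iv5 D164007) (iv1 F330285) F330652 (iv4 D85005) D85006 F315907 F112085 (iv0 F313430) F318012)
theorem F330653 : act 1 n164007 = n79932 := (sb E94380 (iv0 D166540))
theorem E94381 : n179228 = n142529 := ((c21_6 (iv5 D164007) (iv1 F330285) F330652 (iv6 F320893) F181774 D142529 (iv5 D179228) (iv1 D85532) (iv5 F113958) F317871 (iv1 F330653))).symm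
theorem F330654 : act 5 n142529 = n85532 := (sb E94381 (iv5 D179228))
theorem E94382 : n164007 = n148205 := ((c21_6 (iv5 F181775) (iv1 D68543) F84825 F320388 D69477 D148205 (iv5 D164007) (iv1 F330285) F330652 (iv6 F320893) F181774)).symm
theorem F330655 : act 1 n148205 = n79932 := (sb E94382 F330653)
theorem F330656 : act 2 n148205 = n180693 := (sb E94382 (iv2 F281225))
theorem F330657 : act 5 n148205 = n78793 := (sb E94382 (iv5 D164007))
theorem E94383 : n159317 = n69477 := ((((iv6 D148205)).symm.trans (sb E94382 F258472))).symm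
theorem E94384 : n116671 = n86313 := ((F182045).symm.trans (sb E94383 (iv2 F254483)))
theorem E94385 : n148204 = n76211 := ((D148204).symm.trans (sb E94383 (iv5 D159317)))
theorem E94386 : n180705 = n53765 := ((D180705).symm.trans (sb E94384 (iv1 D116671)))
theorem E94387 : n180706 = n53770 := ((D180706).symm.trans (sb E94384 F182043))
theorem F330658 : act 2 n86313 = n69477 := (sb E94384 (iv2 F182045))
theorem E94388 : n180677 = n69150 := (((iv3 F281211)).symm.trans (sb E94384 F223258))
theorem E94389 : n180707 = n140041 := ((D180707).symm.trans (sb E94384 (iv4 F223253)))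
theorem E94390 : n180708 = n69478 := ((D180708).symm.trans (sb E94384 F182044))
theorem E94391 : n180567 = n159315 := (((D159315).symm.trans (sb E94385 F323573))).symm
theorem E94392 : n159316 = n78726 := ((D159316).symm.trans (sb E94385 F323574))
theorem E94393 : n159308 = n112234 := (((iv4 F250783)).symm.trans (sb E94385 F232032))
theorem F330659 : act 5 n76211 = n69477 := (sb E94385 (iv5 D148204))
theorem F330660 : act 1 n53765 = n86313 := (sb E94386 (iv0 D180705))
theorem F330661 : act 0 n53770 = n86313 := (sb E94387 (iv1 D180706))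
theorem F330662 : act 3 n69150 = n86313 := (sb E94388 F281211)
theorem E94394 : n147552 = n86305 := ((D147552).symm.trans (sb E94388 (iv5 D180677)))
theorem F330663 : act 4 n140041 = n86313 := (sb E94389 (iv4 D180707))
theorem E94395 : n148206 = n86314 := ((D148206).symm.trans (sb E94390 F281234))
theorem F330664 : act 7 n69478 = n86313 := (sb E94390 (iv7 D180708))
theorem F330665 : act 2 n159315 = n86237 := (sb E94391 (iv2 D180567))
theorem F330666 : act 3 n159315 = n111560 := (sb E94391 (iv3 F323595))
theorem F330667 : act 7 n159315 = n116643 := (sb E94391 (iv7 F323581))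
theorem F330668 : act 0 n78726 = n76211 := (sb E94392 (iv1 D159316))
theorem F330669 : act 2 n112234 = n86308 := (sb E94393 (iv2 F254482))
theorem F330670 : act 4 n112234 = n76211 := (sb E94393 F250783)
theorem F330671 : act 6 n112234 = n76209 := (sb E94393 (iv6 D159308))
theorem E94396 : n180670 = n113141 := (((iv2 F281206)).symm.trans (sb E94394 F232041))
theorem F330672 : act 5 n86305 = n69150 := (sb E94394 (iv5 D147552))
theorem E94397 : n180678 = n113140 := ((D180678).symm.trans (sb E94394 (iv7 F232040)))
theorem F330673 : act 0 n86314 = n78726 := (sb E94395 F323575)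
theorem E94398 : n180687 = n112235 := (((iv4 F281217)).symm.trans (sb E94395 F232036))
theorem F330674 : act 5 n86314 = n69478 := (sb E94395 (iv5 D148206))
theorem F330675 : act 2 n113141 = n86305 := (sb E94396 F281206)
theorem F330676 : act 6 n113141 = n86302 := (sb E94396 (iv6 D180670))
theorem F330677 : act 3 n113140 = n86314 := (sb E94397 F281212)
theorem F330678 : act 7 n113140 = n86305 := (sb E94397 (iv7 D180678))
theorem F330679 : act 4 n112235 = n86314 := (sb E94398 F281217)
theorem F330680 : act 7 n112235 = n86308 := (sb E94398 (iv7 D180687))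
theorem E94399 : n175118 = n166444 := ((c16_2 D79907 D166444 (iv4 D175118) D175119 F274102 (iv5 D85006) D85005 (iv5 F330652) F194260 (iv2 D79906))).symm
theorem F330681 : act 0 n166444 = n84955 := (sb E94399 F274099)
theorem F330682 : act 4 n166444 = n83644 := (sb E94399 (iv4 D175118))
theorem F330683 : act 1 n147550 = n180675 := d15_0 (iv0 D180675) (iv7 F330678) F232039
theorem E94400 : n163701 = n37914 := (c21_6 (iv5 F171210) D147320 (iv5 F232043) F330676 (iv1 F254371) D163701 (iv5 F300666) (iv1 F300726) (iv5 F301018) (iv6 F330302) (iv1 F175145))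
theorem E94401 : n180668 = n75501 := ((((iv2 F127214)).symm.trans (sb E94400 (iv2 F281199)))).symm
theorem E94402 : n82596 = n78669 := ((D82596).symm.trans (sb E94400 F258052))
theorem E94403 : n157799 = n82597 := (((D82597).symm.trans (sb E94400 F258053))).symm
theorem E94404 : n82599 = n78653 := ((D82599).symm.trans (sb E94400 (iv6 D163701)))
theorem E94405 : n163751 = n153594 := ((((iv3 F302488)).symm.trans (sb E94401 F281200))).symm
theorem E94406 : n158338 = n86300 := ((D158338).symm.trans (sb E94401 (iv6 D180668)))
theorem E94407 : n163746 = n86093 := ((D163746).symm.trans (sb E94402 F323868))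
theorem E94408 : n163747 = n58697 := ((D163747).symm.trans (sb E94402 (iv0 F325122)))
theorem F330684 : act 3 n78669 = n37914 := (sb E94402 (iv3 D82596))
theorem E94411 : n163748 = n129901 := ((D163748).symm.trans (sb E94402 (iv5 F314285)))
theorem E94413 : n163745 = n158335 := (((iv7 F258099)).symm.trans (sb E94402 (iv7 F249464)))
theorem E94414 : n172531 = n75182 := ((D172531).symm.trans (sb E94403 (iv6 D157799)))
theorem E94417 : n172534 = n55917 := (((F254373).symm.trans (sb E94404 D172534))).symm
theorem F330685 : act 6 n78653 = n37914 := (sb E94404 (iv6 D82599))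
theorem F330686 : act 2 n153594 = n78675 := (sb E94405 F258112)
theorem F330687 : act 6 n153594 = n78672 := (sb E94405 (iv6 D163751))
theorem E94419 : n121189 = n83226 := (((iv5 F254361)).symm.trans (sb E94406 F249469))
theorem F330688 : act 6 n86300 = n75501 := (sb E94406 (iv6 D158338))
theorem E94420 : n125342 = n78684 := (((iv1 F201618)).symm.trans (sb E94407 (iv1 F258102)))
theorem F330689 : act 1 n86093 = n78669 := (sb E94407 (iv0 D163746))
theorem F330690 : act 0 n58697 = n78669 := (sb E94408 (iv1 D163747))
theorem F330691 : act 2 n129901 = n78683 := (sb E94411 F258104)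
theorem F330692 : act 5 n129901 = n78669 := (sb E94411 (iv5 D163748))
theorem E94421 : n121206 = n82896 := (((F314286).symm.trans (sb E94411 F258105))).symm
theorem F330693 : act 0 n158335 = n78682 := (sb E94413 (iv1 F258100))
theorem F330694 : act 1 n158335 = n78681 := (sb E94413 F258101)
theorem F330695 : act 2 n158335 = n78684 := (sb E94413 F258098)
theorem F330696 : act 6 n158335 = n78668 := (sb E94413 (iv6 D163745))
theorem F330697 : act 7 n158335 = n78669 := (sb E94413 F258099)
theorem F330698 : act 6 n75182 = n82597 := (sb E94414 (iv6 D172531))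
theorem E94422 : n121191 = n82897 := ((D121191).symm.trans (sb E94417 F270721))
theorem E94423 : n174095 = n125446 := ((D174095).symm.trans (sb E94419 (iv1 F254405)))
theorem E94424 : n174096 = n76986 := ((D174096).symm.trans (sb E94419 F254358))
theorem F330699 : act 2 n83226 = n55917 := (sb E94419 (iv2 D121189))
theorem E94425 : n174084 = n159299 := (((iv3 F272888)).symm.trans (sb E94419 F254359))
theorem E94426 : n174094 = n86345 := (((iv4 F272899)).symm.trans (sb E94419 F254360))
theorem F330700 : act 5 n83226 = n86300 := (sb E94419 F254361)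
theorem E94427 : n174097 = n125444 := ((D174097).symm.trans (sb E94419 (iv7 F254357)))
theorem F330701 : act 0 n78684 = n58697 := (sb E94420 (iv1 D125342))
theorem F330702 : act 1 n78684 = n86093 := (sb E94420 F201618)
theorem E94428 : n163774 = n119371 := (((F188027).symm.trans (sb E94421 (iv2 F258130)))).symm
theorem E94429 : n173224 = n55920 := ((D173224).symm.trans (sb E94421 (iv5 D121206)))
theorem E94430 : n180486 = n173225 := (((D173225).symm.trans (sb E94422 (iv4 F280910)))).symm
theorem F330703 : act 6 n82897 = n55917 := (sb E94422 (iv6 D121191))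
theorem F330704 : act 1 n125446 = n83226 := (sb E94423 (iv0 D174095))
theorem F330705 : act 0 n76986 = n83226 := (sb E94424 (iv1 D174096))
theorem F330706 : act 3 n159299 = n83226 := (sb E94425 F272888)
theorem F330707 : act 6 n159299 = n83221 := (sb E94425 (iv6 D174084))
theorem F330708 : act 4 n86345 = n83226 := (sb E94426 F272899)
theorem E94431 : n180786 = n83225 := ((D180786).symm.trans (sb E94426 (iv6 D174094)))
theorem F330709 : act 7 n125444 = n83226 := (sb E94427 (iv7 D174097))
theorem F330710 : act 5 n119371 = n78680 := (sb E94428 (iv5 D163774))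
theorem F330711 : act 6 n119371 = n78683 := (sb E94428 F258131)
theorem F330712 : act 3 n55920 = n82897 := (sb E94429 F271534)
theorem F330713 : act 5 n55920 = n82896 := (sb E94429 (iv5 D173224))
theorem E94432 : n121207 = n83230 := ((D121207).symm.trans (sb E94429 F271535))
theorem F330714 : act 6 n173225 = n86194 := (sb E94430 (iv6 D180486))
theorem F330715 : act 6 n83225 = n86345 := (sb E94431 (iv6 D180786))
theorem E94434 : n174107 = n163772 := ((D174107).symm.trans (sb E94432 F258134))
theorem E94435 : n174100 = n163775 := (((iv2 F272908)).symm.trans (sb E94432 (iv2 F258132)))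
theorem E94436 : n174109 = n163730 := ((D174109).symm.trans (sb E94432 (iv6 F258091)))
theorem F330716 : act 7 n83230 = n55920 := (sb E94432 (iv7 D121207))
theorem F330718 : act 0 n163772 = n83230 := (sb E94434 (iv1 D174107))
theorem F330719 : act 2 n163775 = n83230 := (sb E94435 F272908)
theorem F330720 : act 5 n163775 = n83228 := (sb E94435 (iv5 D174100))
theorem F330721 : act 3 n163730 = n83235 := (sb E94436 F272916)
theorem F330722 : act 6 n163730 = n83230 := (sb E94436 (iv6 D174109))
theorem E94437 : n163730 = n125334 := ((c21_5 (iv5 D61664) F314518 D77667 F322778 D125334 F330722 (iv5 D83230) F119015 D119372 (iv6 F310744) (iv1 D131384))).symm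
theorem E94438 : n121221 = n86102 := ((((iv1 F201601)).symm.trans (sb E94437 (iv1 F258093)))).symm
theorem F330723 : act 2 n125334 = n86101 := (sb E94437 (iv2 F329146))
theorem F330724 : act 3 n125334 = n83235 := (sb E94437 F330721)
theorem F330725 : act 6 n125334 = n83230 := (sb E94437 F330722)
theorem F330726 : act 7 n125334 = n78663 := (sb E94437 (iv7 D163730))
theorem E94440 : n125335 = n55925 := (((iv1 F201605)).symm.trans (sb E94438 (iv1 D121221)))
theorem F330727 : act 0 n55925 = n58694 := (sb E94440 (iv1 D125335))
theorem F330728 : act 1 n55925 = n86102 := (sb E94440 F201605)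
theorem F330729 : act 1 n158445 = n121217 := d18_6 (iv1 F187464) (iv4 F190307) (iv1 D114614) F83596 D75588 D158445 F193295 F330728 F321836
theorem F330730 : act 5 n166477 = n166149 := d21_2 D79916 D166477 F261631 (iv1 F330728) (iv6 D55925) F254385 F254377 F28295 (iv6 F28557) D36402
theorem E94441 : n112541 = n79917 := (c21_5 (iv5 F327556) (iv1 F278302) (iv5 F321017) (iv6 F323146) (iv1 F175034) (iv6 D79917) D79916 D166477 F330730 F261631 (iv1 F330728))
theorem E94442 : n166482 = n51924 := ((D166482).symm.trans (sb E94441 (iv1 D112541)))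
theorem E94443 : n166483 = n110589 := ((D166483).symm.trans (sb E94441 F175034))
theorem F330731 : act 1 n51924 = n79917 := (sb E94442 (iv0 D166482))
theorem F330732 : act 0 n110589 = n79917 := (sb E94443 (iv1 D166483))
theorem F330733 : act 7 n112540 = n166463 := d15_2 (iv0 F330732) F175029 F262022
theorem F330734 : act 2 n166485 = n112540 := d4_3 F330733 F262022 D166485
theorem F330735 : act 6 n166501 = n112540 := d14_5 F330733 (iv6 D166463) (iv7 F122661) D79922 D166501
theorem F330736 : act 5 n166501 = n132340 := d21_6 F326013 (iv1 F213042) F324968 F326088 D112540 (iv6 F330735) (iv1 D132340) (iv5 F316541) F88204 D55798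
theorem F330737 : act 7 n132340 = n166500 := d13_2 D166501 F330736 (iv5 D166500)
theorem F330738 : act 2 n166500 = n120146 := d15_3 F215118 D132340 F330737
theorem E94444 : n132340 = n127868 := (c4_1 (iv7 F330737) F205776 (iv7 F311406) (iv2 F330738))
theorem F330739 : act 0 n127868 = n62085 := (sb E94444 (iv1 D132340))
theorem E94445 : n167733 = n166501 := (((iv5 F318805)).symm.trans (sb E94444 (iv5 F330736)))
theorem F330740 : act 7 n127868 = n166500 := (sb E94444 F330737)
theorem F330741 : act 0 n166501 = n80491 := (sb E94445 (iv1 D167733))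
theorem F330742 : act 1 n166501 = n160926 := (sb E94445 F264048)
theorem F330743 : act 2 n166501 = n83244 := (sb E94445 F318804)
theorem F330744 : act 5 n166501 = n127868 := (sb E94445 F318805)
theorem F330745 : act 3 n127871 = n166500 := d8_3 (iv7 F330740) F205777 D127871
theorem F330746 : act 6 n118547 = n166500 := d14_5 (iv7 F330740) (iv6 D127868) (iv7 F106166) (iv6 F307884) (iv7 F186454)
theorem F330747 : act 1 n160650 = n166500 := d15_1 D160650 (iv7 F330740) F205776
theorem E94446 : n160650 = n132342 := (c19_1 (iv1 F330747) F313451 (iv4 F304261) F88383 (iv1 F43487) D35737 F316242 F45844 F94129 (iv5 F314102) F208005 F314479 F187420 F306121 (iv4 F149207) F149206 (iv1 F116770) (iv5 F311664) (iv4 F205784) F330745)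
theorem F330748 : act 0 n132342 = n77048 := (sb E94446 (iv1 D160650))
theorem F330749 : act 1 n132342 = n166500 := (sb E94446 F330747)
theorem F330750 : act 3 n148834 = n118547 := d7_3 F330746 (iv3 F330745) (iv6 F233710)
theorem F330751 : act 4 n166500 = n131285 := d10_1 F330746 (iv6 D131285) (iv4 F186451)
theorem F330752 : act 5 n166497 = n118547 := d12_5 F330746 (iv5 D166500) (iv6 D79922) D79921 D166497
theorem E94447 : n176358 = n166497 := (c2_4 F330752 (iv2 F186452) (iv5 F312862) D176358)
theorem F330753 : act 1 n166497 = n85129 := (sb E94447 F275650)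
theorem F330754 : act 2 n166497 = n84091 := (sb E94447 (iv2 D176358))
theorem F330755 : act 7 n120142 = n166497 := d13_0 F330752 F186454 D120142
theorem F330756 : act 1 n110652 = n166497 := d17_6 (iv1 F86252) F86250 (iv1 F42131) D26399 D54590 (iv5 F327269) F330752 (iv0 D118547) (iv4 D54592)
theorem E94448 : n183226 = n118554 := ((c21_3 F330752 (iv1 F186453) D118554 (iv6 D183226) (iv1 F147517) F309692 (iv5 D51942) (iv1 F39685) D50993 F328397 (iv1 F330753))).symm
theorem F330757 : act 4 n118554 = n87465 := (sb E94448 F284875)
theorem F330758 : act 6 n118554 = n87464 := (sb E94448 (iv6 D183226))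
theorem F330759 : act 6 n95743 = n166477 := d21_3 F303649 F186525 F298806 (iv1 F262037) D166497 F330752 (iv1 F186453) D118554 F330758 (iv1 F147517)
theorem E94449 : n159265 = n55920 := (c21_2 F313451 D159265 F330713 (iv6 F314286) F314282 (iv6 D85130) D85129 (iv1 F330753) F330752 F330746 (iv1 F330749))
theorem E94450 : n121204 = n120924 := ((D121204).symm.trans (sb E94449 (iv1 F303779)))
theorem E94451 : n121205 = n76198 := ((D121205).symm.trans (sb E94449 (iv0 D159265)))
theorem E94452 : n163775 = n159266 := ((((iv1 F304983)).symm.trans (sb E94450 (iv1 F258136)))).symm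
theorem F330760 : act 1 n120924 = n55920 := (sb E94450 (iv0 D121204))
theorem F330761 : act 0 n76198 = n55920 := (sb E94451 (iv1 D121205))
theorem F330762 : act 2 n159266 = n83230 := (sb E94452 F330719)
theorem F330763 : act 5 n159266 = n83228 := (sb E94452 F330720)
theorem F330764 : act 6 n159266 = n86101 := (sb E94452 F329456)
theorem F330765 : act 7 n159266 = n78680 := (sb E94452 (iv7 D163775))
theorem E94453 : n112931 = n111848 := ((c17_1 D111848 (iv5 D112931) F171456 F330361 (iv4 F330757) (iv5 D118554) F186453 (iv5 F330752) F330753 (iv4 F328399))).symm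
theorem F330766 : act 5 n111848 = n52128 := (sb E94453 (iv5 D112931))
theorem F330767 : act 0 n132325 = n166500 := d21_4 (iv5 D60857) (iv1 F47083) D62080 D132325 (iv6 F330746) (iv5 F330752) (iv1 F330756) F327269 F185310 F208668
theorem E94454 : n166498 = n77223 := (c17_3 F330767 (iv5 D166500) D166498 F315912 (iv4 F244130) F309668 (iv0 D119615) (iv5 F186385) F208108 (iv4 F212243))
theorem E94455 : n160925 = n79922 := ((D160925).symm.trans (sb E94454 (iv0 D166498)))
theorem F330768 : act 0 n79922 = n77223 := (sb E94455 (iv1 D160925))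
theorem E94456 : n166499 = n119372 := ((D166499).symm.trans (sb E94455 (iv0 F318806)))
theorem F330769 : act 0 n119372 = n79922 := (sb E94456 (iv1 D166499))
theorem F330770 : act 5 n120924 = n132325 := d21_0 F330767 (iv5 D166500) (iv6 D79922) (iv1 D36403) F28557 (iv5 F28295) F254375 (iv5 F254376) D55920 (iv1 F330760)
theorem E94457 : n180589 = n166518 := ((c21_3 D36405 D79926 D166518 (iv6 D180589) (iv1 F132214) (iv6 F192837) F330770 F330767 (iv5 D166500) (iv6 D79922) (iv1 D36403))).symm
theorem F330771 : act 2 n166518 = n120992 := (sb E94457 F281096)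
theorem F330772 : act 6 n166518 = n86260 := (sb E94457 (iv6 D180589))
theorem E94458 : n166518 = n166147 := ((c21_5 (iv5 D119229) F320088 (iv5 D86104) (iv6 F122480) D166147 F330772 (iv5 F324966) (iv1 D132699) F325033 (iv6 F122195) F323010)).symm
theorem F330773 : act 2 n166147 = n120992 := (sb E94458 F330771)
theorem F330774 : act 5 n166147 = n79926 := (sb E94458 (iv5 D166518))
theorem F330775 : act 6 n166147 = n86260 := (sb E94458 F330772)
theorem E94459 : n165957 = n8266 := (c21_5 (iv5 F322720) (iv1 F324198) (iv5 D79687) D79688 D165957 (iv6 F28557) D36405 D79926 (iv5 F330774) F330775 (iv1 F132214))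
theorem E94460 : n79688 = n17599 := (((D17599).symm.trans (sb E94459 (iv0 D165957)))).symm
theorem E94462 : n163828 = n35838 := ((((iv2 F258198)).symm.trans (sb E94460 F261333))).symm
theorem E94463 : n165953 = n36454 := (((D36454).symm.trans (sb E94460 (iv3 F261377)))).symm
theorem E94464 : n165954 = n36455 := (((D36455).symm.trans (sb E94460 (iv4 F261379)))).symm
theorem E94466 : n36457 = n36284 := ((D36457).symm.trans (sb E94460 (iv6 D79688)))
theorem E94468 : n78707 = n78701 := (((D78701).symm.trans (sb E94462 (iv6 D163828)))).symm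
theorem E94469 : n80059 = n79685 := ((D80059).symm.trans (sb E94463 (iv6 D165953)))
theorem E94470 : n125367 = n80060 := (((D80060).symm.trans (sb E94464 F261378))).symm
theorem E94471 : n80062 = n79686 := ((D80062).symm.trans (sb E94464 (iv6 D165954)))
theorem E94474 : n80067 = n79687 := (((D79687).symm.trans (sb E94466 D80067))).symm
theorem F330776 : act 6 n36284 = n17599 := (sb E94466 (iv6 D36457))
theorem E94475 : n80068 = n78708 := (((F261321).symm.trans (sb E94466 D80068))).symm
theorem E94476 : n163810 = n36285 := ((D163810).symm.trans (sb E94468 (iv1 F119849)))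
theorem E94477 : n163811 = n35840 := ((D163811).symm.trans (sb E94468 (iv0 D78707)))
theorem F330777 : act 2 n78701 = n36284 := (sb E94468 F261322)
theorem E94478 : n163826 = n163802 := ((((iv3 F258168)).symm.trans (sb E94468 D163826))).symm
theorem E94479 : n163808 = n110450 := (((iv4 F258186)).symm.trans (sb E94468 (iv4 F327252)))
theorem E94480 : n163812 = n62086 := ((D163812).symm.trans (sb E94468 F324204))
theorem E94481 : n163813 = n36283 := ((D163813).symm.trans (sb E94468 F261323))
theorem E94484 : n166777 = n165950 := (((D165950).symm.trans (sb E94469 (iv2 F262508)))).symm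
theorem E94485 : n166780 = n165951 := (((D165951).symm.trans (sb E94469 (iv4 F262512)))).symm
theorem F330778 : act 6 n79685 = n36454 := (sb E94469 (iv6 D80059))
theorem E94488 : n166785 = n86151 := ((D166785).symm.trans (sb E94470 (iv2 F261368)))
theorem E94489 : n166787 = n58705 := ((D166787).symm.trans (sb E94470 (iv6 D125367)))
theorem F330779 : act 6 n79686 = n36455 := (sb E94471 (iv6 D80062))
theorem E94507 : n165956 = n121789 := ((D165956).symm.trans (sb E94474 (iv6 F194366)))
theorem E94509 : n163831 = n163824 := ((D163831).symm.trans (sb E94475 (iv6 F258270)))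
theorem F330780 : act 1 n36285 = n78701 := (sb E94476 (iv0 D163810))
theorem F330781 : act 0 n35840 = n78701 := (sb E94477 (iv1 D163811))
theorem E94510 : n157925 = n120292 := ((F258169).symm.trans (sb E94478 F258275))
theorem F330782 : act 7 n163802 = n79680 := (sb E94478 (iv7 F261324))
theorem F330783 : act 4 n110450 = n78701 := (sb E94479 F258186)
theorem F330784 : act 6 n110450 = n78699 := (sb E94479 (iv6 D163808))
theorem F330785 : act 5 n62086 = n78701 := (sb E94480 (iv5 D163812))
theorem E94511 : n80052 = n79683 := (((D79683).symm.trans (sb E94481 (iv6 F258251)))).symm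
theorem F330786 : act 7 n36283 = n78701 := (sb E94481 (iv7 D163813))
theorem F330787 : act 6 n165950 = n80056 := (sb E94484 (iv6 D166777))
theorem F330788 : act 6 n165951 = n80057 := (sb E94485 (iv6 D166780))
theorem F330789 : act 2 n86151 = n80060 := (sb E94488 (iv2 D166785))
theorem F330790 : act 6 n58705 = n80060 := (sb E94489 (iv6 D166787))
theorem F330791 : act 6 n121789 = n79687 := (sb E94507 (iv6 D165956))
theorem F330792 : act 4 n163824 = n180362 := (sb E94509 (iv4 F280679))
theorem F330793 : act 6 n163824 = n78708 := (sb E94509 (iv6 D163831))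
theorem E94512 : n180406 = n124242 := (((F261330).symm.trans (sb E94510 (iv2 F280777)))).symm
theorem F330794 : act 4 n120292 = n163802 := (sb E94510 (iv4 F258169))
theorem F330795 : act 6 n120292 = n75230 := (sb E94510 (iv6 D157925))
theorem E94514 : n165945 = n163821 := ((D165945).symm.trans (sb E94511 F258271))
theorem E94515 : n166742 = n165940 := ((((iv3 F261371)).symm.trans (sb E94511 (iv3 F262472)))).symm
theorem E94518 : n165947 = n36452 := ((D165947).symm.trans (sb E94511 (iv7 D80052)))
theorem F330797 : act 6 n124242 = n86161 := (sb E94512 (iv6 D180406))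
theorem F330799 : act 0 n163821 = n79683 := (sb E94514 (iv1 D165945))
theorem F330800 : act 7 n165940 = n80036 := (sb E94515 (iv7 D166742))
theorem F330803 : act 7 n36452 = n79683 := (sb E94518 (iv7 D165947))
theorem F330804 : act 0 n163848 = n126978 := d21_1 D163848 F320642 (iv6 D86263) D86260 (iv6 F330775) F330774 (iv1 F262014) (iv5 D166457) F326496 F325673
theorem E94519 : n166506 = n110587 := (c17_8 F325673 D163848 F330804 F320642 F132220 D86266 D180609 (iv5 F281113) (iv0 D110587) (iv4 F82199))
theorem F330805 : act 5 n110587 = n180609 := (sb E94519 F281113)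
theorem F330806 : act 6 n110587 = n79923 := (sb E94519 (iv6 D166506))
theorem E94520 : n163849 = n119229 := ((c21_5 (iv5 F324966) (iv1 D132699) F325033 (iv6 F122195) F323010 (iv6 D163849) D163848 F330804 F320642 (iv6 D86263) D86260)).symm
theorem F330807 : act 6 n119229 = n78712 := (sb E94520 (iv6 D163849))
theorem E94521 : n165659 = n163845 := ((c3_2 F330807 (iv2 F258292) (iv6 D165659) (iv2 F325403))).symm
theorem F330808 : act 6 n163845 = n79563 := (sb E94521 (iv6 D165659))
theorem F330809 : act 6 n163846 = n176503 := d7_2 F330807 D163846 F275814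
theorem F330810 : act 6 n163847 = n124650 := d10_2 F330807 D163847 (iv4 F322773)
theorem F330811 : act 6 n163848 = n119343 := d12_2 F330807 D163848 (iv5 F187935) (iv6 D119230) D119229
theorem F330812 : act 5 n163190 = n131497 := d21_2 (iv5 F119628) D163190 (iv6 D131497) (iv1 F313004) F187599 (iv5 D54868) D54866 D119229 F330807 (iv1 D78712)
theorem F330813 : act 6 n131500 = n163190 := d12_0 F330812 (iv6 D131497) (iv5 D61710) D61711 D131500
theorem E94522 : n131386 = n78706 := (c21_3 (iv5 D119224) (iv1 F312919) (iv5 F210597) (iv6 D78706) (iv1 D35839) D35841 (iv5 F119628) D163190 F330812 (iv6 D131497) (iv1 F313004))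
theorem E94523 : n163821 = n80264 := ((D163821).symm.trans (sb E94522 F314840))
theorem E94524 : n163822 = n149035 := ((D163822).symm.trans (sb E94522 (iv0 F234353)))
theorem E94525 : n61679 = n36452 := ((((iv2 F258202)).symm.trans (sb E94522 F210596))).symm
theorem E94526 : n163820 = n131440 := (((iv4 F258266)).symm.trans (sb E94522 F210682))
theorem E94527 : n163823 = n61666 := ((D163823).symm.trans (sb E94522 F210597))
theorem E94528 : n163824 = n61664 := ((D163824).symm.trans (sb E94522 (iv7 D131386)))
theorem E94529 : n131351 = n79683 := (((iv1 F314839)).symm.trans (sb E94523 F330799))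
theorem F330814 : act 1 n80264 = n78706 := (sb E94523 (iv0 D163821))
theorem F330815 : act 0 n149035 = n78706 := (sb E94524 (iv1 D163822))
theorem E94530 : n131384 = n80049 := (((D80049).symm.trans (sb E94525 (iv1 F210594)))).symm
theorem E94531 : n80050 = n78596 := ((D80050).symm.trans (sb E94525 F322685))
theorem E94532 : n83214 = n80036 := ((((iv3 F122844)).symm.trans (sb E94525 (iv3 F315397)))).symm
theorem E94533 : n80042 = n61727 := (((iv4 F122848)).symm.trans (sb E94525 F96324))
theorem E94534 : n80051 = n29240 := ((D80051).symm.trans (sb E94525 (iv5 D61679)))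
theorem F330816 : act 4 n131440 = n78706 := (sb E94526 F258266)
theorem F330817 : act 6 n131440 = n78704 := (sb E94526 (iv6 D163820))
theorem F330818 : act 5 n61666 = n78706 := (sb E94527 (iv5 D163823))
theorem E94536 : n180362 = n61728 := (((F96326).symm.trans (sb E94528 F330792))).symm
theorem E94537 : n131385 = n78708 := ((D131385).symm.trans (sb E94528 F330793))
theorem F330819 : act 7 n61664 = n78706 := (sb E94528 (iv7 D163824))
theorem F330820 : act 0 n79683 = n149035 := (sb E94529 (iv1 F234354))
theorem F330821 : act 1 n79683 = n80264 := (sb E94529 F314839)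
theorem F330822 : act 2 n79683 = n61664 := (sb E94529 F210548)
theorem E94538 : n165941 = n131441 := (((iv4 F261372)).symm.trans (sb E94529 F210688))
theorem E94539 : n165946 = n61647 := ((D165946).symm.trans (sb E94529 (iv5 D131351)))
theorem F330823 : act 0 n80049 = n61664 := (sb E94530 (iv1 D131384))
theorem E94540 : n166761 = n80264 := ((D166761).symm.trans (sb E94530 (iv2 F312403)))
theorem E94541 : n166762 = n119376 := ((D166762).symm.trans (sb E94530 F310743))
theorem E94542 : n166763 = n149035 := ((D166763).symm.trans (sb E94530 (iv4 F234351)))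
theorem E94543 : n166764 = n61700 := ((D166764).symm.trans (sb E94530 F210595))
theorem E94544 : n166765 = n119372 := ((D166765).symm.trans (sb E94530 F310744))
theorem E94545 : n166766 = n149035 := ((D166766).symm.trans (sb E94530 (iv7 F234352)))
theorem F330824 : act 0 n78596 = n36452 := (sb E94531 (iv1 D80050))
theorem E94550 : n166739 = n38301 := ((D166739).symm.trans (sb E94532 (iv1 D83214)))
theorem E94551 : n173223 = n166740 := (((D166740).symm.trans (sb E94532 F271532))).symm
theorem E94552 : n172437 = n166735 := ((((iv2 F262462)).symm.trans (sb E94532 (iv2 F272694)))).symm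
theorem E94553 : n174058 = n166738 := ((((iv4 F262470)).symm.trans (sb E94532 D174058))).symm
theorem E94554 : n166741 = n61678 := ((D166741).symm.trans (sb E94532 F315398))
theorem E94556 : n173221 = n165940 := ((((iv7 F330800)).symm.trans (sb E94532 F272721))).symm
theorem E94559 : n166752 = n131546 := (((D131546).symm.trans (sb E94533 (iv3 F262493)))).symm
theorem F330825 : act 4 n61727 = n36452 := (sb E94533 F122848)
theorem E94561 : n131547 = n36450 := ((D131547).symm.trans (sb E94533 (iv6 D80042)))
theorem F330826 : act 5 n29240 = n36452 := (sb E94534 (iv5 D80051))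
theorem E94565 : n121776 = n61680 := (((D61680).symm.trans (sb E94534 (iv6 F194351)))).symm
theorem E94566 : n131548 = n86146 := ((D131548).symm.trans (sb E94536 F280678))
theorem E94567 : n131549 = n86143 := ((D131549).symm.trans (sb E94536 (iv6 D180362)))
theorem F330827 : act 6 n78708 = n61664 := (sb E94537 (iv6 D131385))
theorem F330828 : act 4 n131441 = n79683 := (sb E94538 F261372)
theorem F330829 : act 6 n131441 = n79681 := (sb E94538 (iv6 D165941))
theorem F330830 : act 5 n61647 = n79683 := (sb E94539 (iv5 D165946))
theorem F330831 : act 2 n80264 = n80049 := (sb E94540 (iv2 D166761))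
theorem F330832 : act 3 n119376 = n80049 := (sb E94541 (iv3 D166762))
theorem F330833 : act 4 n149035 = n80049 := (sb E94542 (iv4 D166763))
theorem F330834 : act 5 n61700 = n80049 := (sb E94543 (iv5 D166764))
theorem F330835 : act 6 n119372 = n80049 := (sb E94544 (iv6 D166765))
theorem F330836 : act 7 n149035 = n80049 := (sb E94545 (iv7 D166766))
theorem F330837 : act 1 n38301 = n80036 := (sb E94550 (iv0 D166739))
theorem F330838 : act 1 n166740 = n83213 := (sb E94551 F271533)
theorem F330839 : act 2 n166740 = n83216 := (sb E94551 F271529)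
theorem F330840 : act 5 n166740 = n82895 := (sb E94551 F271530)
theorem F330841 : act 7 n166740 = n82894 := (sb E94551 (iv7 D173223))
theorem F330842 : act 0 n166735 = n82894 := (sb E94552 F270658)
theorem F330843 : act 1 n166735 = n83216 := (sb E94552 F270657)
theorem E94568 : n174877 = n157921 := (((F262463).symm.trans (sb E94552 (iv4 F273771)))).symm
theorem F330844 : act 5 n166735 = n82562 := (sb E94552 (iv5 D172437))
theorem F330845 : act 7 n166735 = n83213 := (sb E94552 F272691)
theorem F330846 : act 0 n166738 = n163541 := (sb E94553 (iv1 F320317))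
theorem F330847 : act 1 n166738 = n174880 := (sb E94553 F273780)
theorem F330848 : act 7 n166738 = n174876 := (sb E94553 (iv7 F273776))
theorem F330849 : act 5 n61678 = n80036 := (sb E94554 (iv5 D166741))
theorem F330850 : act 0 n165940 = n83216 := (sb E94556 (iv1 F271531))
theorem F330851 : act 1 n165940 = n82894 := (sb E94556 (iv0 D173221))
theorem F330852 : act 2 n165940 = n83213 := (sb E94556 (iv2 F272693))
theorem F330853 : act 4 n165940 = n174876 := (sb E94556 (iv4 F273775))
theorem F330854 : act 6 n131546 = n80040 := (sb E94559 (iv6 D166752))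
theorem F330855 : act 6 n36450 = n61727 := (sb E94561 (iv6 D131547))
theorem E94569 : n131418 = n56264 := ((D131418).symm.trans (sb E94565 (iv5 D121776)))
theorem E94570 : n180368 = n83508 := ((D180368).symm.trans (sb E94566 F315651))
theorem E94571 : n180369 = n78586 := ((D180369).symm.trans (sb E94566 F322735))
theorem E94572 : n125371 = n83767 := (((iv2 F261365)).symm.trans (sb E94566 F315653))
theorem F330856 : act 3 n86146 = n61728 := (sb E94566 (iv3 D131548))
theorem E94573 : n180367 = n128829 := (((iv4 F280689)).symm.trans (sb E94566 (iv4 F210798)))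
theorem E94574 : n180370 = n75559 := ((D180370).symm.trans (sb E94566 F315654))
theorem E94575 : n180371 = n83772 := ((D180371).symm.trans (sb E94566 F315655))
theorem F330857 : act 6 n86143 = n61728 := (sb E94567 (iv6 D131549))
theorem F330858 : act 0 n157921 = n83536 := (sb E94568 (iv1 D174877))
theorem F330859 : act 7 n157921 = n174055 := (sb E94568 (iv7 F273773))
theorem F330860 : act 5 n56264 = n61680 := (sb E94569 (iv5 D131418))
theorem F330861 : act 1 n83508 = n86146 := (sb E94570 (iv0 D180368))
theorem F330862 : act 0 n78586 = n86146 := (sb E94571 (iv1 D180369))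
theorem F330863 : act 2 n83767 = n86146 := (sb E94572 F261365)
theorem E94576 : n175430 = n58706 := ((D175430).symm.trans (sb E94572 (iv6 D125371)))
theorem F330864 : act 4 n128829 = n86146 := (sb E94573 F280689)
theorem F330865 : act 6 n128829 = n86144 := (sb E94573 (iv6 D180367))
theorem F330866 : act 5 n75559 = n86146 := (sb E94574 (iv5 D180370))
theorem E94577 : n157965 = n77610 := ((((iv6 F308850)).symm.trans (sb E94574 F280690))).symm
theorem F330867 : act 7 n83772 = n86146 := (sb E94575 (iv7 D180371))
theorem F330868 : act 6 n58706 = n83767 := (sb E94576 (iv6 D175430))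
theorem E94578 : n180453 = n83760 := ((((iv2 F198136)).symm.trans (sb E94577 (iv2 F280859)))).symm
theorem E94579 : n83535 = n75241 := (((iv5 F311018)).symm.trans (sb E94577 (iv5 D157965)))
theorem E94580 : n163539 = n86183 := (((iv5 F320325)).symm.trans (sb E94578 (iv5 D180453)))
theorem E94581 : n157963 = n38505 := ((D157963).symm.trans (sb E94579 (iv1 D83535)))
theorem E94582 : n157964 = n78877 := ((D157964).symm.trans (sb E94579 F322023))
theorem E94584 : n174061 = n157956 := ((((iv4 F248849)).symm.trans (sb E94579 (iv4 F272868)))).symm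
theorem F330869 : act 5 n75241 = n77610 := (sb E94579 F311018)
theorem E94586 : n163538 = n157966 := (((D157966).symm.trans (sb E94579 (iv7 F320322)))).symm
theorem E94587 : n180451 = n78584 := ((D180451).symm.trans (sb E94580 (iv1 D163539)))
theorem E94588 : n180452 = n83537 := ((D180452).symm.trans (sb E94580 (iv0 F322024)))
theorem E94589 : n180447 = n152247 := (((iv3 F280851)).symm.trans (sb E94580 F320324))
theorem F330870 : act 5 n86183 = n83760 := (sb E94580 F320325)
theorem E94590 : n180454 = n83534 := ((D180454).symm.trans (sb E94580 F320326))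
theorem F330871 : act 1 n38505 = n75241 := (sb E94581 (iv0 D157963))
theorem F330872 : act 0 n78877 = n75241 := (sb E94582 (iv1 D157964))
theorem F330873 : act 0 n157956 = n83215 := (sb E94584 (iv1 D174061))
theorem F330874 : act 5 n157966 = n83761 := (sb E94586 F320321)
theorem F330875 : act 0 n78584 = n157966 := (sb E94587 (iv1 F280862))
theorem F330876 : act 1 n78584 = n86183 := (sb E94587 (iv0 D180451))
theorem F330877 : act 0 n83537 = n86183 := (sb E94588 (iv1 D180452))
theorem F330878 : act 1 n83537 = n157966 := (sb E94588 F280858)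
theorem F330879 : act 3 n152247 = n86183 := (sb E94589 F280851)
theorem F330880 : act 6 n152247 = n86180 := (sb E94589 (iv6 D180447))
theorem F330881 : act 2 n83534 = n157966 := (sb E94590 F280860)
theorem E94591 : n157982 = n130820 := ((((iv6 F318969)).symm.trans (sb E94590 F280861))).symm
theorem F330882 : act 7 n83534 = n86183 := (sb E94590 (iv7 D180454))
theorem F330883 : act 0 n130820 = n180442 := (sb E94591 (iv1 F280834))
theorem F330884 : act 1 n130820 = n180441 := (sb E94591 F280838)
theorem F330885 : act 2 n130820 = n180444 := (sb E94591 (iv2 F280836))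
theorem F330886 : act 7 n130820 = n75246 := (sb E94591 (iv7 D157982))
theorem E94592 : n157981 = n130812 := (c13_2 F330886 D157981 (iv7 F209369) D130820)
theorem E94593 : n180443 = n61364 := ((((iv2 D130812)).symm.trans (sb E94592 (iv2 F280835)))).symm
theorem F330887 : act 5 n130812 = n75246 := (sb E94592 (iv5 D157981))
theorem F330888 : act 6 n130812 = n180380 := (sb E94592 (iv6 F280705))
theorem E94594 : n130815 = n86178 := ((D130815).symm.trans (sb E94593 (iv5 D180443)))
theorem F330889 : act 5 n86178 = n61364 := (sb E94594 (iv5 D130815))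
theorem F330890 : act 5 n130813 = n112547 := d6_2 F330889 D130813 F326784
theorem E94595 : n130816 = n62541 := (c12_3 D86178 F330889 D130816 (iv5 F324228) (iv6 F330790) F194349)
theorem E94596 : n133274 = n61364 := ((D133274).symm.trans (sb E94595 (iv6 D130816)))
theorem F330891 : act 6 n61364 = n62541 := (sb E94596 (iv6 D133274))
theorem F330892 : act 5 n130817 = n180444 := d13_3 (iv7 D180444) F330889 D130817
theorem E94597 : n180441 = n130130 := (c21_2 (iv5 F330889) D180441 (iv5 D130130) (iv6 D61094) (iv1 F47277) (iv6 F323358) F314220 (iv1 F54725) (iv5 F311788) D29046 D61364)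
theorem E94598 : n163371 = n130820 := ((F324068).symm.trans (sb E94597 (iv1 F330884)))
theorem E94599 : n163370 = n86178 := ((F324069).symm.trans (sb E94597 (iv0 D180441)))
theorem E94600 : n180442 = n78508 := ((F330883).symm.trans (sb E94598 (iv1 D163371)))
theorem F330893 : act 1 n130820 = n130130 := (sb E94598 (iv0 F324068))
theorem F330894 : act 0 n86178 = n130130 := (sb E94599 (iv1 F324069))
theorem F330895 : act 0 n78508 = n86178 := (sb E94600 (iv1 D180442))
theorem F330896 : act 1 n78508 = n130820 := (sb E94600 (iv0 F330883))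
theorem F330897 : act 6 n132780 = n137357 := d21_5 D130820 (iv1 F330896) (iv5 F324233) (iv6 F97194) (iv1 F213255) (iv5 D137357) (iv1 F204416) F204415 F324037 (iv1 F209367)
theorem F330898 : act 4 n159575 = n132780 := d10_3 F330897 F220552 D159575
theorem E94601 : n175791 = n122333 := (c21_2 F319565 D175791 F319755 (iv6 D62671) (iv1 D29631) D29633 D62675 (iv1 F323471) D137357 (iv6 F330897) (iv1 D132780))
theorem F330899 : act 1 n122333 = n83907 := (sb E94601 (iv0 D175791))
theorem E94602 : n175792 = n172116 := (c15_2 F330899 D175792 (iv7 D172116) (iv2 F195629))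
theorem F330900 : act 0 n172116 = n83907 := (sb E94602 (iv1 D175792))
theorem F330901 : act 5 n130791 = n172116 := d21_0 F330900 (iv5 F319565) (iv6 D62317) (iv1 F47278) D61091 (iv5 F322822) (iv1 F112950) D75622 (iv6 F306715) F319753
theorem E94603 : n131009 = n130791 := (c21_6 F321379 (iv1 F319780) F46606 D29089 D61457 D131009 F330901 F330900 (iv5 F319565) (iv6 D62317) (iv1 F47278))
theorem E94604 : n133527 = n61457 := (((iv6 F214788)).symm.trans (sb E94603 (iv6 D131009)))
theorem E94605 : n131004 = n130805 := (((iv1 F209702)).symm.trans (sb E94604 (iv1 F214782)))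
theorem E94607 : n130807 = n126848 := ((((iv2 F325984)).symm.trans (sb E94604 (iv2 F214781)))).symm
theorem F330902 : act 6 n61457 = n130791 := (sb E94604 F214788)
theorem E94608 : n131010 = n62666 := ((D131010).symm.trans (sb E94604 (iv7 D133527)))
theorem E94609 : n61458 = n61362 := ((((iv1 D130805)).symm.trans (sb E94605 (iv1 F209701)))).symm
theorem F330903 : act 1 n130805 = n61457 := (sb E94605 F209702)
theorem F330904 : act 2 n130805 = n61460 := (sb E94605 F209699)
theorem F330905 : act 3 n130805 = n113738 := (sb E94605 (iv3 F324036))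
theorem F330906 : act 6 n130805 = n133269 := (sb E94605 (iv6 F214235))
theorem F330907 : act 7 n130805 = n61456 := (sb E94605 (iv7 D131004))
theorem F330908 : act 0 n126848 = n133525 := (sb E94607 (iv1 F214783))
theorem F330909 : act 1 n126848 = n133524 := (sb E94607 F214785)
theorem F330910 : act 6 n126848 = n133540 := (sb E94607 (iv6 F214819))
theorem F330911 : act 7 n62666 = n61457 := (sb E94608 (iv7 D131010))
theorem F330912 : act 0 n61362 = n29089 := (sb E94609 (iv1 D61458))
theorem E94610 : n130798 = n59460 := (((iv3 F209360)).symm.trans (sb E94609 (iv3 F325982)))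
theorem E94612 : n83453 = n59459 := (((iv5 F317533)).symm.trans (sb E94609 (iv5 F325983)))
theorem F330913 : act 7 n61362 = n126848 := (sb E94609 (iv7 F325985))
theorem F330914 : act 3 n59460 = n61362 := (sb E94610 F209360)
theorem E94614 : n126724 = n61359 := ((D126724).symm.trans (sb E94610 (iv6 D130798)))
theorem E94616 : n174644 = n126720 := (((D126720).symm.trans (sb E94612 D174644))).symm
theorem E94617 : n126721 = n124634 := ((D126721).symm.trans (sb E94612 (iv2 F199346)))
theorem E94618 : n174638 = n28237 := ((((iv3 D59459)).symm.trans (sb E94612 (iv3 F273496)))).symm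
theorem E94619 : n174642 = n31725 := (((F93859).symm.trans (sb E94612 (iv4 F273497)))).symm
theorem F330915 : act 5 n59459 = n61362 := (sb E94612 F317533)
theorem E94620 : n126723 = n38466 := ((D126723).symm.trans (sb E94612 (iv6 D83453)))
theorem E94622 : n130795 = n126847 := ((D130795).symm.trans (sb E94614 (iv2 F204090)))
theorem E94623 : n130796 = n64583 := ((D130796).symm.trans (sb E94614 F203944))
theorem F330916 : act 6 n61359 = n59460 := (sb E94614 (iv6 D126724))
theorem F330917 : act 5 n126720 = n158541 := (sb E94616 (iv5 F273498))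
theorem F330918 : act 0 n124634 = n136739 := (sb E94617 (iv1 F219913))
theorem F330919 : act 1 n124634 = n136738 := (sb E94617 F219907)
theorem F330920 : act 2 n124634 = n59459 := (sb E94617 (iv2 D126721))
theorem F330921 : act 3 n124634 = n136747 := (sb E94617 (iv3 F219935))
theorem F330922 : act 4 n124634 = n68141 := (sb E94617 F203940)
theorem F330923 : act 7 n124634 = n136740 := (sb E94617 (iv7 F219911))
theorem E94624 : n83450 = n59461 := (((D59461).symm.trans (sb E94618 (iv6 D174638)))).symm
theorem E94625 : n83452 = n68142 := (((D68142).symm.trans (sb E94619 (iv6 D174642)))).symm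
theorem F330924 : act 6 n38466 = n59459 := (sb E94620 (iv6 D126723))
theorem F330925 : act 0 n126847 = n132293 := (sb E94622 F212456)
theorem F330926 : act 1 n126847 = n133529 := (sb E94622 (iv0 F214732))
theorem F330927 : act 2 n126847 = n61359 := (sb E94622 (iv2 D130795))
theorem F330928 : act 3 n126847 = n132398 := (sb E94622 F212450)
theorem F330929 : act 7 n126847 = n133531 := (sb E94622 (iv7 F214792))
theorem E94626 : n137402 = n130737 := ((D137402).symm.trans (sb E94623 F214130))
theorem E94627 : n137403 = n130732 := ((D137403).symm.trans (sb E94623 (iv0 F209358)))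
theorem F330930 : act 4 n64583 = n61359 := (sb E94623 (iv4 D130796))
theorem E94628 : n137404 = n135300 := ((D137404).symm.trans (sb E94623 (iv5 F217541)))
theorem E94629 : n137405 = n133532 := ((D137405).symm.trans (sb E94623 (iv7 F214806)))
theorem E94632 : n173435 = n64285 := ((((iv2 F100104)).symm.trans (sb E94624 (iv2 F317279)))).symm
theorem F330931 : act 3 n59461 = n38466 := (sb E94624 F128553)
theorem E94634 : n126725 = n38465 := ((D126725).symm.trans (sb E94624 (iv5 D83450)))
theorem E94635 : n170731 = n107661 := (((F166282).symm.trans (sb E94624 (iv7 F298754)))).symm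
theorem E94636 : n174518 = n145336 := (((D145336).symm.trans (sb E94625 (iv1 F273398)))).symm
theorem E94637 : n174515 = n145337 := (((D145337).symm.trans (sb E94625 (iv0 F273395)))).symm
theorem E94638 : n145335 = n124633 := (((iv2 F228381)).symm.trans (sb E94625 (iv2 F199344)))
theorem F330932 : act 4 n68142 = n38466 := (sb E94625 (iv4 D83452))
theorem E94640 : n174589 = n145338 := (((D145338).symm.trans (sb E94625 (iv5 F273445)))).symm
theorem E94641 : n170737 = n145339 := (((D145339).symm.trans (sb E94625 (iv7 F298759)))).symm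
theorem E94642 : n136866 = n134940 := (((F217157).symm.trans (sb E94626 (iv1 F220618)))).symm
theorem F330933 : act 1 n130737 = n64583 := (sb E94626 (iv0 D137402))
theorem F330934 : act 0 n130732 = n64583 := (sb E94627 (iv1 D137403))
theorem F330935 : act 2 n135300 = n136865 := (sb E94628 F220614)
theorem F330936 : act 5 n135300 = n64583 := (sb E94628 (iv5 D137404))
theorem F330937 : act 6 n135300 = n135950 := (sb E94628 F220615)
theorem E94643 : n136864 = n129281 := (((F214807).symm.trans (sb E94629 (iv1 F220619)))).symm
theorem E94644 : n136863 = n129276 := ((((iv0 F214808)).symm.trans (sb E94629 F220620))).symm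
theorem F330938 : act 6 n133532 = n136889 := (sb E94629 F220617)
theorem F330939 : act 7 n133532 = n64583 := (sb E94629 (iv7 D137405))
theorem E94645 : n136748 = n83641 := (((iv3 F219941)).symm.trans (sb E94632 F317280))
theorem E94646 : n136750 = n82989 := ((D136750).symm.trans (sb E94632 (iv5 D173435)))
theorem F330940 : act 5 n38465 = n59461 := (sb E94634 (iv5 D126725))
theorem F330941 : act 3 n107661 = n81851 := (sb E94635 F268300)
theorem F330942 : act 5 n107661 = n81849 := (sb E94635 (iv5 D170731))
theorem F330943 : act 0 n145336 = n83434 := (sb E94636 F273397)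
theorem F330944 : act 4 n145336 = n83408 := (sb E94636 (iv4 D174518))
theorem F330945 : act 1 n145337 = n83434 := (sb E94637 F273396)
theorem F330946 : act 4 n145337 = n83407 := (sb E94637 (iv4 D174515))
theorem F330947 : act 2 n124633 = n68142 := (sb E94638 F228381)
theorem F330948 : act 6 n124633 = n68141 := (sb E94638 (iv6 D145335))
theorem F330949 : act 0 n145338 = n83429 := (sb E94640 (iv1 D174589))
theorem F330950 : act 1 n145338 = n83477 := (sb E94640 F273444)
theorem F330951 : act 4 n145338 = n83444 := (sb E94640 F273446)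
theorem F330952 : act 0 n145339 = n162605 := (sb E94641 F268302)
theorem F330953 : act 1 n145339 = n162608 := (sb E94641 F268303)
theorem F330954 : act 2 n145339 = n83434 := (sb E94641 F298758)
theorem F330955 : act 4 n145339 = n81851 := (sb E94641 (iv4 D170737))
theorem F330956 : act 6 n134940 = n137396 := (sb E94642 (iv6 F220600))
theorem F330957 : act 7 n134940 = n64338 := (sb E94642 (iv7 D136866))
theorem F330958 : act 0 n129281 = n64338 := (sb E94643 (iv1 D136864))
theorem F330959 : act 1 n129276 = n64338 := (sb E94644 (iv0 D136863))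
theorem F330960 : act 3 n83641 = n64285 := (sb E94645 F219941)
theorem E94647 : n175114 = n115744 := ((D175114).symm.trans (sb E94645 F219942))
theorem E94648 : n175115 = n64284 := ((D175115).symm.trans (sb E94645 (iv6 D136748)))
theorem F330961 : act 5 n82989 = n64285 := (sb E94646 (iv5 D136750))
theorem F330962 : act 4 n115744 = n83641 := (sb E94647 (iv4 D175114))
theorem F330963 : act 6 n64284 = n83641 := (sb E94648 (iv6 D175115))
theorem F330964 : act 1 n172116 = n132812 := d15_1 (iv0 F330900) (iv7 D132812) (iv2 F317261)
theorem F330965 : act 6 n119358 = n136747 := d3_2 F330963 F188454 (iv2 D136747)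
theorem F330966 : act 6 n132398 = n126846 := d12_4 F330963 (iv5 D83641) D83642 (iv5 F315449) F204088
theorem F330967 : act 2 n126846 = n133516 := d3_1 F330966 (iv6 D133516) (iv2 F214749)
theorem F330968 : act 4 n126846 = n132400 := d10_1 F330966 (iv6 D132400) D132398
theorem F330969 : act 3 n132400 = n136857 := d5_1 F330968 (iv4 D136857) F100291 (iv4 F93944) D126846
theorem F330970 : act 0 n129477 = n132400 := d20_7 F45779 D30452 (iv4 F49685) F323491 (iv1 F46736) (iv3 F95418) (iv4 F207635) (iv4 F330968) (iv3 D126846) (iv1 F93945)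
theorem E94649 : n136855 = n63037 := (c20_8 F207354 (iv1 F95308) (iv4 F95402) (iv3 F207634) F330970 F330969 (iv4 D136857) D136855 (iv4 F216190) F216189 (iv1 F207356))
theorem E94650 : n137390 = n134184 := (((D134184).symm.trans (sb E94649 (iv1 F220591)))).symm
theorem E94651 : n134185 = n64336 := ((D134185).symm.trans (sb E94649 (iv0 D136855)))
theorem E94652 : n134186 = n110735 := ((D134186).symm.trans (sb E94649 (iv5 F220822)))
theorem F330971 : act 0 n134184 = n136856 := (sb E94650 (iv1 F220593))
theorem F330972 : act 2 n134184 = n64580 := (sb E94650 (iv2 D137390))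
theorem F330973 : act 3 n134184 = n136877 := (sb E94650 F220588)
theorem F330974 : act 5 n134184 = n135954 := (sb E94650 F220589)
theorem F330975 : act 7 n134184 = n136853 := (sb E94650 F220590)
theorem F330976 : act 0 n64336 = n63037 := (sb E94651 (iv1 D134185))
theorem F330977 : act 3 n110735 = n63041 := (sb E94652 F216224)
theorem F330978 : act 5 n110735 = n63037 := (sb E94652 (iv5 D134186))
theorem F330979 : act 1 n129469 = n132400 := d15_0 (iv0 F330970) (iv7 D129477) (iv2 F207630)
theorem F330980 : act 5 n129121 = n108999 := d19_5 D110735 F330978 (iv4 F216190) F216189 (iv1 F207356) (iv4 D108999) F79708 (iv1 F79678) F79680 (iv4 D30839) D30838 (iv1 F49294) (iv5 D27975) F22217 (iv3 F18096) F18104 D11768 D24833 D51050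
theorem F330981 : act 2 n108999 = n129489 := d2_1 F330980 (iv5 D129489) (iv2 F207353)
theorem F330982 : act 7 n108999 = n129120 := d13_2 D129121 F330980 (iv5 D129120)
theorem F330983 : act 4 n129120 = n108629 := d11_1 F330982 F168511 D108999
theorem F330984 : act 4 n129489 = n108995 := d16_0 (iv5 D108995) (iv4 F168975) F330499 F93780 (iv5 F46444) (iv4 F95294) D129120 (iv7 F330982) F330981
theorem E94653 : n134199 = n115277 := (c20_7 D14464 (iv1 F37124) D24833 D51050 D110735 F330977 D134199 (iv1 F179540) F84002 F48565 (iv1 F23941))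
theorem F330985 : act 4 n115277 = n63041 := (sb E94653 (iv4 D134199))
theorem E94654 : n136162 = n131030 := ((c18_9 F224172 (iv4 F83999) D115277 F330985 (iv5 D63041) F47987 D29822 D63043 F209728 F219205)).symm
theorem E94655 : n116126 = n64032 := (((iv2 F209727)).symm.trans (sb E94654 F219204))
theorem F330986 : act 5 n131030 = n64029 := (sb E94654 F219205)
theorem E94656 : n110800 = n64027 := ((F209729).symm.trans (sb E94654 (iv7 D136162)))
theorem E94657 : n136159 = n53524 := (((iv1 F219203)).symm.trans (sb E94655 (iv1 D116126)))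
theorem E94658 : n136158 = n131029 := ((F219206).symm.trans (sb E94655 (iv0 F209725)))
theorem F330987 : act 2 n64032 = n131030 := (sb E94655 F209727)
theorem E94659 : n136175 = n74403 := ((D136175).symm.trans (sb E94655 (iv4 F180919)))
theorem E94660 : n136176 = n99853 := ((D136176).symm.trans (sb E94655 (iv6 F325976)))
theorem E94661 : n136145 = n74400 := (((iv7 F219190)).symm.trans (sb E94655 F180918))
theorem E94662 : n136160 = n51083 := ((D136160).symm.trans (sb E94656 F171550))
theorem E94663 : n136161 = n51082 := ((D136161).symm.trans (sb E94656 (iv6 D110800)))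
theorem F330988 : act 7 n64027 = n131030 := (sb E94656 (iv7 F209729))
theorem F330989 : act 0 n53524 = n64027 := (sb E94657 (iv1 D136159))
theorem F330990 : act 1 n53524 = n64032 := (sb E94657 F219203)
theorem F330991 : act 0 n131029 = n64032 := (sb E94658 (iv1 F219206))
theorem F330992 : act 1 n131029 = n64027 := (sb E94658 (iv0 D136158))
theorem F330993 : act 4 n74403 = n64032 := (sb E94659 (iv4 D136175))
theorem F330994 : act 6 n99853 = n64032 := (sb E94660 (iv6 D136176))
theorem F330995 : act 2 n74400 = n64027 := (sb E94661 F219189)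
theorem E94664 : n156452 = n64024 := ((D156452).symm.trans (sb E94661 (iv5 D136145)))
theorem F330996 : act 7 n74400 = n64032 := (sb E94661 F219190)
theorem F330997 : act 4 n51083 = n64027 := (sb E94662 (iv4 D136160))
theorem F330998 : act 6 n51082 = n64027 := (sb E94663 (iv6 D136161))
theorem F330999 : act 5 n64024 = n74400 := (sb E94664 (iv5 D156452))
theorem E94665 : n136146 = n134420 := ((D136146).symm.trans (sb E94664 F245961))
theorem F331000 : act 2 n134420 = n64028 := (sb E94665 F219191)
theorem F331001 : act 6 n134420 = n64024 := (sb E94665 (iv6 D136146))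
theorem E94666 : n136065 = n134197 := ((c20_2 F330985 D134197 (iv4 F219197) (iv3 F219198) (iv1 F326823) F326824 F84756 (iv1 F181455) (iv4 F40838) (iv3 F83998) D115277)).symm
theorem F331002 : act 3 n134197 = n63986 := (sb E94666 (iv3 D136065))
theorem F331003 : act 4 n134197 = n136153 := (sb E94666 (iv4 F219197))
theorem F331004 : act 7 n134197 = n64566 := (sb E94666 F218970)
theorem E94667 : n137354 = n134198 := (c20_10 (iv4 F330985) (iv1 F179540) F84002 F48565 (iv1 F23941) D14463 D30462 D64763 F103034 (iv3 F220543) (iv1 D134198))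
theorem F331005 : act 2 n134198 = n64566 := (sb E94667 (iv2 D137354))
theorem F331006 : act 3 n134198 = n67051 := (sb E94667 F220543)
theorem F331007 : act 4 n134198 = n115455 := (sb E94667 (iv4 F220544))
theorem E94668 : n136927 = n134291 := (c13_2 F331004 (iv5 F220110) (iv7 F217236) (iv5 F217237))
theorem F331008 : act 3 n134291 = n64364 := (sb E94668 (iv3 D136927))
theorem F331009 : act 5 n134291 = n64566 := (sb E94668 F220110)
theorem F331010 : act 7 n137356 = n124007 := d14_2 F331004 D137356 (iv6 F253131) F253132 (iv6 F328518)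
theorem F331011 : act 3 n124007 = n137362 := d8_1 F331010 (iv7 D137362) (iv3 F220551)
theorem F331012 : act 5 n124008 = n137356 := d13_3 F331010 (iv5 D124007) D124008
theorem F331013 : act 3 n137361 = n124008 := d6_3 F331012 F220551 D137361
theorem F331014 : act 6 n134290 = n124008 := d12_0 F331012 (iv6 D137356) (iv5 F331009) (iv6 D134291) D134290
theorem F331015 : act 7 n124002 = n137361 := d8_0 F331013 (iv7 D124008) (iv3 F198406)
theorem F331016 : act 5 n137362 = n124002 := d13_3 F331015 (iv5 D137361) D137362
theorem E94669 : n134034 = n115269 := ((c21_8 (iv5 F98372) (iv1 F98373) (iv5 D29837) D29838 D63087 D134291 F331009 F179537 (iv5 D134034) (iv6 D62960) (iv1 F95290))).symm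
theorem F331017 : act 2 n115269 = n63041 := (sb E94669 F216012)
theorem F331018 : act 5 n115269 = n62960 := (sb E94669 (iv5 D134034))
theorem F331019 : act 4 n139621 = n115275 := d16_6 D115269 F331018 F98241 (iv5 F49158) (iv4 F101249) D139621 (iv5 D115275) F179536 (iv2 D115267)
theorem E94670 : n134200 = n115274 := ((c16_5 (iv4 F101249) D139621 F331019 (iv5 D115275) D115274 F216232 F98355 (iv5 F98361) (iv7 D63047) (iv2 F49157))).symm
theorem F331020 : act 5 n115274 = n63042 := (sb E94670 F216232)
theorem F331021 : act 7 n115274 = n63041 := (sb E94670 (iv7 D134200))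
theorem F331022 : act 1 n115275 = n116114 := d18_6 (iv1 F221666) (iv4 D133571) F163937 (iv4 F101249) D139621 F331019 (iv4 D116114) D116113 (iv5 F221664)
theorem F331023 : act 5 n139622 = n115282 := d17_3 D116112 F180902 (iv1 F222784) (iv4 D115282) (iv5 D53184) D53182 D115275 F331022 (iv4 D116114)
theorem F331024 : act 4 n127039 = n134779 := d16_0 F216877 D139622 F331023 (iv4 D115282) (iv5 D53184) F40759 D30189 (iv7 F94026) D127039
theorem F331025 : act 6 n123431 = n127039 := d10_0 F331024 (iv6 D134779) (iv4 F325790)
theorem E94671 : n136201 = n135944 := ((c17_7 F216879 (iv5 D106882) (iv1 F78103) (iv5 F46733) D61467 (iv5 F326702) D135944 (iv5 D136201) F204279 F331024)).symm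
theorem F331026 : act 5 n135944 = n64038 := (sb E94671 (iv5 D136201))
theorem F331027 : act 1 n135213 = n134291 := d18_8 F179537 (iv4 D115269) D115266 F179533 (iv5 F204275) F331024 (iv0 F216880) (iv4 F217393) F331009
theorem F331028 : act 5 n105663 = n136200 := d18_4 (iv1 D49384) (iv4 F78098) D106877 F164719 (iv4 D136200) F204279 F331024 (iv0 F216880) F98851
theorem E94672 : n140886 = n111025 := (c19_15 D65529 (iv5 F216877) (iv4 F331024) F204274 (iv1 F100638) (iv5 F169581) (iv4 F103664) (iv3 D67645) (iv1 F49691) (iv5 F204429) (iv4 F318142) (iv3 F180986) (iv1 F223951) (iv5 D140895) (iv4 F223942) F172181 D111032 F172193 F167301 F95177)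
theorem F331029 : act 4 n111025 = n66094 := (sb E94672 F223942)
theorem E94673 : n68164 = n66092 := ((F172182).symm.trans (sb E94672 (iv6 D140886)))
theorem E94676 : n145375 = n140811 := ((((iv2 F330027)).symm.trans (sb E94673 (iv2 F228418)))).symm
theorem E94677 : n140884 = n31735 := ((D140884).symm.trans (sb E94673 F104316))
theorem E94679 : n140885 = n31732 := ((D140885).symm.trans (sb E94673 (iv5 D68164)))
theorem F331030 : act 6 n66092 = n111025 := (sb E94673 (iv6 F172182))
theorem E94680 : n145390 = n138510 := ((((iv7 F327721)).symm.trans (sb E94673 D145390))).symm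
theorem F331031 : act 5 n140811 = n68161 := (sb E94676 (iv5 D145375))
theorem F331032 : act 3 n31735 = n66092 := (sb E94677 (iv3 D140884))
theorem F331033 : act 5 n31732 = n66092 := (sb E94679 (iv5 D140885))
theorem F331034 : act 3 n138510 = n68174 := (sb E94680 F228426)
theorem F331035 : act 5 n138510 = n68165 := (sb E94680 F228427)
theorem E94681 : n145376 = n140905 := (c2_2 F331035 (iv2 F228419) (iv5 D140905) (iv2 F327720))
theorem F331036 : act 0 n140905 = n68163 := (sb E94681 (iv1 F228421))
theorem F331037 : act 1 n140905 = n68162 := (sb E94681 F228422)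
theorem F331038 : act 2 n140905 = n68165 := (sb E94681 F228419)
theorem F331039 : act 4 n140905 = n68245 := (sb E94681 F228420)
theorem F331040 : act 6 n140905 = n72211 := (sb E94681 F318460)
theorem F331041 : act 7 n140905 = n68161 := (sb E94681 (iv7 D145376))
theorem E94682 : n152993 = n138509 := (c12_5 D138510 F331035 (iv6 F318464) D72213 D152993 (iv5 D138509))
theorem F331042 : act 6 n138509 = n72213 := (sb E94682 (iv6 D152993))
theorem F331043 : act 6 n150956 = n156381 := d3_2 F331042 (iv2 F237665) F245812
theorem F331044 : act 4 n156381 = n150957 := d10_1 F331043 (iv6 D150957) D150956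
theorem F331045 : act 5 n150957 = n123740 := d16_1 F331044 (iv4 D123740) (iv5 D57679) D57678 F312250 D74371 D156364 (iv7 F245765) (iv2 F245812)
theorem E94683 : n123740 = n115773 := (c12_2 D150957 F331045 (iv6 D115773) (iv5 D53384) (iv6 F320900) D71164)
theorem F331046 : act 0 n115773 = n87796 := (sb E94683 F306668)
theorem F331047 : act 4 n115773 = n57679 := (sb E94683 (iv4 D123740))
theorem F331048 : act 5 n115773 = n150957 := (sb E94683 (iv5 F331045))
theorem F331049 : act 3 n150957 = n115784 := d6_1 F331048 (iv5 D115784) (iv3 F180147)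
theorem E94684 : n123741 = n115772 := (c10_3 D115773 F331047 D123741 (iv4 D115772))
theorem F331050 : act 6 n115772 = n57679 := (sb E94684 (iv6 D123741))
theorem E94685 : n184124 = n116092 := (c21_10 F180318 (iv1 D53382) D53384 D115773 F331046 F134770 F294321 F293297 F140573 D184124 (iv1 F180884))
theorem E94686 : n91280 = n53508 := (((F180879).symm.trans (sb E94685 F286062))).symm
theorem F331051 : act 4 n116092 = n87825 := (sb E94685 F286063)
theorem F331052 : act 6 n116092 = n87824 := (sb E94685 (iv6 D184124))
theorem E94687 : n116096 = n42724 := ((D116096).symm.trans (sb E94686 F140343))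
theorem E94688 : n116097 = n42723 := ((D116097).symm.trans (sb E94686 (iv6 D91280)))
theorem E94689 : n140734 = n91281 := (((D91281).symm.trans (sb E94687 (iv1 F223834)))).symm
theorem E94690 : n140775 = n91282 := (((D91282).symm.trans (sb E94687 (iv0 F223869)))).symm
theorem F331053 : act 4 n42724 = n53508 := (sb E94687 (iv4 D116096))
theorem E94691 : n91284 = n66527 := ((D91284).symm.trans (sb E94687 F180889))
theorem E94692 : n91278 = n53510 := ((D91278).symm.trans (sb E94688 F180890))
theorem F331054 : act 6 n42723 = n53508 := (sb E94688 (iv6 D116097))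
theorem E94693 : n184127 = n141884 := (((iv1 F286068)).symm.trans (sb E94689 (iv1 F224922)))
theorem F331055 : act 2 n91281 = n141897 := (sb E94689 (iv2 F224947))
theorem F331056 : act 4 n91281 = n66038 := (sb E94689 (iv4 D140734))
theorem F331057 : act 7 n91281 = n141896 := (sb E94689 F224944)
theorem F331058 : act 2 n91282 = n141896 := (sb E94690 F224943)
theorem F331059 : act 4 n91282 = n66058 := (sb E94690 (iv4 D140775))
theorem F331060 : act 7 n91282 = n141897 := (sb E94690 (iv7 F224945))
theorem E94694 : n184126 = n141896 := (((D141896).symm.trans (sb E94691 (iv1 F286064)))).symm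
theorem E94695 : n184125 = n141897 := (((D141897).symm.trans (sb E94691 F286066))).symm
theorem E94696 : n109053 = n90920 := (((iv3 F169053)).symm.trans (sb E94691 (iv3 F295010)))
theorem E94697 : n141899 = n91376 := ((D141899).symm.trans (sb E94691 (iv6 F140513)))
theorem F331061 : act 7 n66527 = n42724 := (sb E94691 (iv7 D91284))
theorem F331062 : act 3 n53510 = n42723 := (sb E94692 (iv3 D91278))
theorem E94698 : n108663 = n90916 := (((iv4 F168597)).symm.trans (sb E94692 (iv4 F295008)))
theorem E94699 : n116105 = n91370 := ((D116105).symm.trans (sb E94692 (iv7 F140505)))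
theorem F331063 : act 0 n141884 = n91282 := (sb E94693 (iv1 F286067))
theorem F331064 : act 1 n141884 = n91281 := (sb E94693 F286068)
theorem F331065 : act 7 n141884 = n87825 := (sb E94693 (iv7 D184127))
theorem F331066 : act 0 n141896 = n87825 := (sb E94694 (iv1 D184126))
theorem F331067 : act 1 n141897 = n87825 := (sb E94695 (iv0 D184125))
theorem F331068 : act 3 n90920 = n66527 := (sb E94696 F169053)
theorem F331069 : act 4 n90920 = n50349 := (sb E94696 (iv4 D109053))
theorem F331070 : act 4 n91376 = n66528 := (sb E94697 F224949)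
theorem F331071 : act 6 n91376 = n66527 := (sb E94697 (iv6 D141899))
theorem F331072 : act 2 n90916 = n50364 := (sb E94698 F168596)
theorem F331073 : act 4 n90916 = n53510 := (sb E94698 F168597)
theorem F331074 : act 6 n90916 = n50174 := (sb E94698 (iv6 D108663))
theorem F331075 : act 6 n91370 = n66540 := (sb E94699 F180896)
theorem F331076 : act 7 n91370 = n53510 := (sb E94699 (iv7 D116105))
theorem E94700 : n141903 = n91372 := (c7_2 F331075 (iv3 F224952) (iv6 D91372) D91370)
theorem F331077 : act 3 n91372 = n66540 := (sb E94700 F224952)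
theorem F331078 : act 7 n91372 = n66528 := (sb E94700 (iv7 D141903))
theorem F331079 : act 6 n109068 = n104011 := d10_2 F331075 (iv4 F169071) F159469
theorem F331080 : act 3 n104013 = n109068 := d7_3 F331079 (iv3 D104011) D104013
theorem F331081 : act 2 n109068 = n153700 := d0_1 F331080 F241571 (iv2 F241046) F241047 F295004
theorem F331082 : act 7 n109054 = n104013 := d8_0 F331080 (iv7 D109068) (iv3 F169054)
theorem F331083 : act 4 n104016 = n109054 := d11_3 F331082 F159477 D104016
theorem E94701 : n108661 = n90917 := ((c14_4 F331082 (iv6 D104013) (iv7 F294353) D90917 F168594 D109054)).symm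
theorem F331084 : act 3 n90917 = n50174 := (sb E94701 F168593)
theorem F331085 : act 5 n90917 = n50173 := (sb E94701 (iv5 D108661))
theorem F331086 : act 7 n90917 = n50349 := (sb E94701 F168594)
theorem F331087 : act 4 n134734 = n91229 := d19_18 (iv1 D42705) (iv5 F66418) (iv4 F139922) F331084 (iv1 F79559) (iv5 D50202) (iv4 D24486) (iv3 F19314) (iv1 F19287) (iv5 D5570) D5569 F10148 (iv1 F10171) D6759 D14205 D29915 D63317 D134734 (iv3 D91229)
theorem F331088 : act 4 n153700 = n141832 := d1_2 (iv4 F169071) F331081 F224857
theorem F331089 : act 5 n153699 = n109068 := d2_0 F331081 (iv5 D153700) D153699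
theorem F331090 : act 7 n153700 = n108655 := d4_2 D109068 F331081 F168578
theorem F331091 : act 1 n153700 = n109065 := d15_0 (iv0 D109065) D109068 F331081
theorem F331092 : act 3 n108655 = n153706 := d8_1 F331090 (iv7 D153706) (iv3 F241571)
theorem F331093 : act 5 n108655 = n153701 := d13_1 F331090 (iv7 D153701) D153700
theorem F331094 : act 6 n109096 = n153700 := d14_5 F331090 (iv6 D108655) F79505 D50364 D109096
theorem F331095 : act 1 n109066 = n153700 := d15_1 D109066 F331090 F168578
theorem F331096 : act 5 n109066 = n107251 := d21_8 (iv5 F172122) (iv1 D106424) F77664 D59119 (iv1 F326607) (iv6 F109214) D153700 (iv1 F331095) (iv6 D107251) (iv1 F163631)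
theorem F331097 : act 2 n107254 = n109066 := d2_3 F331096 F165299 D107254
theorem F331098 : act 5 n111366 = n142745 := d21_2 F169072 D111366 (iv6 D142745) (iv1 F102877) D107251 (iv5 F331096) (iv1 D109066) D109067 F169070 D109069
theorem E94702 : n140687 = n107250 := ((c2_2 F331098 F225658 (iv5 D140687) F175471)).symm
theorem F331099 : act 0 n107250 = n108963 := (sb E94702 F223776)
theorem F331100 : act 1 n107250 = n108966 := (sb E94702 F223777)
theorem F331101 : act 5 n107250 = n66011 := (sb E94702 (iv5 D140687))
theorem F331102 : act 3 n142749 = n111366 := d6_3 F331098 F225659 D142749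
theorem F331103 : act 7 n142745 = n140690 := d13_2 F175469 F331098 (iv5 D140690)
theorem F331104 : act 0 n142745 = n112203 := d17_2 D111366 F331098 (iv5 D112203) (iv4 D51747) D51748 F163910 F111785 (iv0 D51362) (iv4 F81076)
theorem F331105 : act 6 n109072 = n126161 := d21_3 (iv5 D112203) (iv1 F168527) (iv5 F169076) (iv1 D126161) (iv6 D59119) (iv5 F77664) D106423 F172093 D142745 F331104
theorem F331106 : act 2 n153780 = n109072 := d3_3 F331105 F326609 D153780
theorem F331107 : act 7 n153699 = n109067 := d14_4 D109072 F331105 F326610 (iv6 F241570) F169070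
theorem F331108 : act 2 n109067 = n153701 := d4_1 F331107 (iv7 D153701) D153699
theorem F331109 : act 1 n153698 = n109067 := d15_1 D153698 (iv7 F331107) (iv2 D153699)
theorem F331110 : act 6 n153701 = n108656 := d3_2 (iv6 F169070) F331108 F168580
theorem F331111 : act 1 n109067 = n153697 := d15_0 (iv0 D153697) D153701 (iv2 F331108)
theorem F331112 : act 3 n108656 = n153707 := d7_1 F331110 (iv6 D153707) (iv3 F241572)
theorem F331113 : act 7 n108656 = n153780 := d14_2 D153701 F331110 (iv6 D153780) (iv7 D72748) (iv6 F109214)
theorem F331114 : act 0 n107254 = n108655 := d21_7 (iv5 D66014) D66011 (iv5 F331101) (iv6 D107250) (iv1 D49551) D49553 D107254 F331093 F331110 F168581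
theorem F331115 : act 5 n109219 = n107089 := d21_0 (iv1 D107089) D107090 (iv6 F165301) F331114 (iv6 D108655) (iv5 D50171) (iv1 F38420) (iv5 F38553) D50398 D109219
theorem F331116 : act 1 n107254 = n109068 := d15_1 (iv0 F331114) (iv7 D109068) (iv2 F168578)
theorem E94703 : n153773 = n126159 := ((c21_4 F172110 (iv1 F163676) F163674 D126159 (iv1 D153773) (iv6 F241570) F331089 (iv1 F331116) (iv5 D107254) (iv6 D49553) D49550)).symm
theorem F331117 : act 0 n126159 = n72746 := (sb E94703 (iv1 D153773))
theorem F331118 : act 1 n126159 = n72748 := (sb E94703 F241627)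
theorem E94704 : n153772 = n126163 := (c15_2 F331118 F241626 (iv7 D126163) (iv2 F202858))
theorem F331119 : act 0 n126163 = n72748 := (sb E94704 (iv1 F241626))
theorem F331120 : act 1 n126163 = n72746 := (sb E94704 (iv0 D153772))
theorem F331121 : act 5 n108657 = n153780 := d21_2 (iv5 D108963) (iv1 F168586) (iv6 D153780) (iv1 F331118) (iv6 D126159) (iv5 F163674) (iv1 F163678) (iv5 F172113) D107250 F331099
theorem F331122 : act 3 n153792 = n108657 := d6_3 F331121 F241635 D153792
theorem F331123 : act 6 n153779 = n109100 := d12_4 (iv6 F168584) F331121 (iv6 D153780) (iv5 F241634) F169088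
theorem F331124 : act 0 n153780 = n109070 := d17_2 (iv1 F168586) F331121 (iv5 F169075) F101698 F49339 F49265 (iv5 F79481) F79485 D50307
theorem F331125 : act 1 n153780 = n109069 := d17_6 (iv1 D108850) (iv5 D50263) D50261 F101680 (iv4 F168583) F331121 F169072 D111367 F172825
theorem F331126 : act 3 n109100 = n153789 := d7_1 F331123 (iv6 D153789) (iv3 F241633)
theorem F331127 : act 7 n109095 = n153778 := d14_4 D153779 F331123 (iv7 D109100) (iv6 F169085) (iv6 D153778)
theorem F331128 : act 3 n153788 = n109095 := d8_3 F331127 F241632 D153788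
theorem F331129 : act 5 n153778 = n109096 := d13_1 F331127 (iv7 D109096) D109095
theorem F331130 : act 3 n109096 = n153705 := d6_1 F331129 F241575 (iv3 F241632)
theorem F331131 : act 2 n104011 = n109096 := d0_5 F331130 F241574 F139617 F294349 D104011
theorem F331132 : act 7 n153705 = n109088 := d8_2 D109096 F331130 F169082
theorem F331133 : act 5 n109088 = n153788 := d13_1 F331132 (iv7 D153788) (iv5 F241575)
theorem F331134 : act 6 n108653 = n153706 := d14_3 F331132 (iv6 D109088) (iv7 F168575) (iv7 D153706) D153705
theorem F331135 : act 5 n153707 = n108654 := d12_3 F331134 F241576 D153707 (iv6 D108654) D108653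
theorem F331136 : act 2 n108654 = n177281 := d2_1 F331135 (iv5 D177281) (iv2 F308520)
theorem F331137 : act 7 n108654 = n153792 := d13_2 (iv7 F241578) F331135 (iv5 D153792)
theorem E94705 : n113433 = n84363 := (c16_4 (iv4 F241577) F331135 F168577 D113433 (iv4 D84363) (iv5 F296395) F310136 (iv5 F107724) F310146 F308109)
theorem E94706 : n177004 = n52368 := ((D177004).symm.trans (sb E94705 F176621))
theorem E94707 : n177005 = n52364 := ((D177005).symm.trans (sb E94705 (iv5 D113433)))
theorem F331138 : act 3 n52368 = n84363 := (sb E94706 (iv3 D177004))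
theorem E94708 : n170247 = n113441 := (((D113441).symm.trans (sb E94706 (iv4 F299388)))).symm
theorem E94709 : n124597 = n113437 := ((((iv6 F176624)).symm.trans (sb E94706 F276396))).symm
theorem E94710 : n113442 = n84524 := ((D113442).symm.trans (sb E94706 F276397))
theorem E94711 : n167723 = n113431 := (((D113431).symm.trans (sb E94707 (iv1 F300190)))).symm
theorem E94712 : n167710 = n113432 := (((D113432).symm.trans (sb E94707 (iv0 F300172)))).symm
theorem E94713 : n113426 = n84517 := (((iv2 F176616)).symm.trans (sb E94707 F276398))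
theorem F331139 : act 5 n52364 = n84363 := (sb E94707 (iv5 D177005))
theorem E94714 : n113434 = n84525 := ((D113434).symm.trans (sb E94707 F276399))
theorem F331140 : act 3 n113441 = n81650 := (sb E94708 F267764)
theorem F331141 : act 7 n113441 = n81648 := (sb E94708 (iv7 D170247))
theorem F331142 : act 3 n113437 = n58173 := (sb E94709 (iv3 D124597))
theorem E94715 : n177411 = n52369 := ((D177411).symm.trans (sb E94710 F176628))
theorem F331143 : act 7 n84524 = n52368 := (sb E94710 (iv7 D113442))
theorem F331144 : act 0 n113431 = n177007 := (sb E94711 F300189)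
theorem F331145 : act 2 n113431 = n177395 := (sb E94711 F300191)
theorem F331146 : act 5 n113431 = n80486 := (sb E94711 (iv5 D167723))
theorem F331147 : act 7 n113431 = n177396 := (sb E94711 F300192)
theorem F331148 : act 1 n113432 = n177007 := (sb E94712 F300173)
theorem F331149 : act 2 n113432 = n177396 := (sb E94712 F300174)
theorem F331150 : act 5 n113432 = n80480 := (sb E94712 (iv5 D167710))
theorem F331151 : act 7 n113432 = n177395 := (sb E94712 F300175)
theorem F331152 : act 2 n84517 = n52364 := (sb E94713 F176616)
theorem E94716 : n177397 = n52362 := ((D177397).symm.trans (sb E94713 (iv6 D113426)))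
theorem F331153 : act 7 n84525 = n52364 := (sb E94714 (iv7 D113434))
theorem F331154 : act 3 n52369 = n84525 := (sb E94715 F276823)
theorem F331155 : act 5 n52369 = n84524 := (sb E94715 (iv5 D177411))
theorem F331156 : act 6 n52362 = n84517 := (sb E94716 (iv6 D177397))
theorem F331157 : act 6 n125747 = n105229 := d7_2 F331156 (iv3 F326940) F161160
theorem F331158 : act 6 n177281 = n108652 := d10_2 F331156 (iv4 F276661) F168569
theorem F331159 : act 6 n177400 = n113425 := d12_4 F331156 (iv5 D84517) D84518 D177400 (iv5 D113425)
theorem F331160 : act 6 n127364 = n177345 := d21_5 F204629 (iv1 D127361) (iv5 D59823) D59824 D127364 F276730 (iv1 D84515) D84517 (iv6 F331156) (iv1 F161179)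
theorem F331161 : act 5 n183498 = n127364 := d12_5 F331160 F276730 F129665 F294527 D183498
theorem E94717 : n124598 = n113430 := ((c3_3 F331159 F176615 D113430 (iv2 F276795))).symm
theorem F331162 : act 0 n113430 = n181690 := (sb E94717 F330412)
theorem F331163 : act 2 n113430 = n177400 := (sb E94717 (iv2 F276795))
theorem F331164 : act 5 n113430 = n58173 := (sb E94717 (iv5 D124598))
theorem E94718 : n154677 = n92723 := (c16_2 (iv4 F109947) D154677 (iv4 F176620) F331164 (iv4 D58173) (iv5 D27721) D27720 D58171 F309612 F109982)
theorem F331165 : act 5 n92723 = n73343 := (sb E94718 (iv5 D154677))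
theorem F331166 : act 0 n181681 = n113430 := d17_2 (iv1 F297514) D181681 F331164 (iv4 D58173) (iv5 D27721) (iv0 F296479) D57879 F296371 D58179
theorem F331167 : act 0 n166628 = n145449 := d21_1 D166628 (iv5 D145449) F104364 D68195 (iv6 F325563) D181681 F331166 F331164 (iv6 F129447) (iv1 F297452)
theorem F331168 : act 2 n90259 = n124595 := d16_9 (iv4 D124595) (iv5 D58171) (iv4 D27720) D27721 D58173 (iv5 F331164) F176620 F331165 (iv7 F310541)
theorem F331169 : act 5 n103670 = n166248 := d19_17 F299098 (iv5 F331164) F176620 (iv3 D92723) D92721 F142937 (iv4 D87042) (iv3 F64678) F291316 (iv5 D47655) F72216 (iv3 F290711) F73744 (iv5 F291371) (iv4 F36280) (iv3 F75443) (iv1 F159095) F302348 (iv3 D163632)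
theorem F331170 : act 2 n166248 = n103675 := d2_1 F331169 (iv5 D103675) (iv2 F159099)
theorem E94719 : n166249 = n100752 := (c6_3 F331169 (iv3 D166248) D166249 F289601)
theorem E94720 : n176597 = n46983 := ((((iv1 D100752)).symm.trans (sb E94719 F302350))).symm
theorem E94721 : n174200 = n47360 := (((F289599).symm.trans (sb E94719 F302351))).symm
theorem E94722 : n103655 = n84234 := ((F289600).symm.trans (sb E94719 F302352))
theorem F331171 : act 5 n100752 = n79822 := (sb E94719 (iv5 D166249))
theorem E94723 : n103673 = n84237 := ((F289603).symm.trans (sb E94719 F302353))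
theorem E94724 : n166246 = n100751 := (((D100751).symm.trans (sb E94720 (iv1 F302356)))).symm
theorem E94725 : n176673 = n99459 := ((((iv2 F153206)).symm.trans (sb E94720 F276048))).symm
theorem E94726 : n100753 = n84193 := ((D100753).symm.trans (sb E94720 (iv5 D176597)))
theorem E94727 : n170690 = n99769 := ((((iv7 F289604)).symm.trans (sb E94720 F275962))).symm
theorem E94728 : n101944 = n83266 := ((D101944).symm.trans (sb E94721 (iv5 D174200)))
theorem F331172 : act 2 n84234 = n100752 := (sb E94722 (iv2 F289600))
theorem E94729 : n176671 = n48008 := (((iv3 F276045)).symm.trans (sb E94722 (iv3 D103655)))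
theorem E94730 : n137947 = n100382 := (((iv4 F325116)).symm.trans (sb E94722 F159063))
theorem E94731 : n176681 = n48016 := (((iv3 F276057)).symm.trans (sb E94723 (iv3 D103673)))
theorem E94732 : n176166 = n100381 := (((iv4 F275408)).symm.trans (sb E94723 F159109))
theorem E94733 : n176682 = n159797 := ((D176682).symm.trans (sb E94723 (iv6 F251806)))
theorem F331173 : act 7 n84237 = n100752 := (sb E94723 (iv7 F289603))
theorem F331174 : act 2 n100751 = n84237 := (sb E94724 F302357)
theorem F331175 : act 5 n100751 = n79820 := (sb E94724 (iv5 D166246))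
theorem F331176 : act 7 n100751 = n84234 := (sb E94724 F302358)
theorem F331177 : act 0 n99459 = n84237 := (sb E94725 (iv1 F276049))
theorem F331178 : act 1 n99459 = n84234 := (sb E94725 (iv0 D176673))
theorem F331179 : act 5 n99459 = n111910 := (sb E94725 (iv5 F325350))
theorem E94734 : n165636 = n103582 := (((iv3 F300489)).symm.trans (sb E94726 (iv3 F158895)))
theorem F331180 : act 5 n84193 = n46983 := (sb E94726 (iv5 D100753))
theorem F331181 : act 0 n99769 = n84234 := (sb E94727 F268196)
theorem F331182 : act 1 n99769 = n84237 := (sb E94727 F268197)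
theorem F331183 : act 5 n99769 = n81825 := (sb E94727 (iv5 D170690))
theorem F331184 : act 5 n83266 = n47360 := (sb E94728 (iv5 D101944))
theorem F331185 : act 3 n48008 = n84234 := (sb E94729 F276045)
theorem E94735 : n103656 = n84233 := ((D103656).symm.trans (sb E94729 (iv5 D176671)))
theorem E94736 : n99582 = n64838 := (((iv3 F154396)).symm.trans (sb E94730 F221209))
theorem F331186 : act 4 n100382 = n84234 := (sb E94730 F325116)
theorem F331187 : act 5 n100382 = n64831 := (sb E94730 (iv5 D137947))
theorem F331188 : act 3 n48016 = n84237 := (sb E94731 F276057)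
theorem E94737 : n103674 = n84236 := ((D103674).symm.trans (sb E94731 (iv5 D176681)))
theorem F331189 : act 4 n100381 = n84237 := (sb E94732 F275408)
theorem F331190 : act 5 n100381 = n84028 := (sb E94732 (iv5 D176166))
theorem F331191 : act 6 n159797 = n84237 := (sb E94733 (iv6 D176682))
theorem F331192 : act 3 n103582 = n84193 := (sb E94734 F300489)
theorem F331193 : act 4 n103582 = n79557 := (sb E94734 (iv4 D165636))
theorem E94738 : n170689 = n104599 := (((F289628).symm.trans (sb E94734 F300490))).symm
theorem E94739 : n176668 = n48457 := ((D176668).symm.trans (sb E94735 F159068))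
theorem E94740 : n176669 = n104647 := ((D176669).symm.trans (sb E94735 F160360))
theorem E94741 : n176670 = n104619 := ((D176670).symm.trans (sb E94735 (iv2 F160306)))
theorem F331194 : act 5 n84233 = n48008 := (sb E94735 (iv5 D103656))
theorem E94742 : n166245 = n104621 := (((iv7 F302354)).symm.trans (sb E94735 (iv7 F160313)))
theorem E94743 : n137972 = n99955 := ((D137972).symm.trans (sb E94736 (iv1 F289732)))
theorem E94744 : n137973 = n99842 := ((D137973).symm.trans (sb E94736 (iv0 F153728)))
theorem E94745 : n137937 = n46571 := (((iv2 F221187)).symm.trans (sb E94736 F153416))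
theorem F331195 : act 3 n64838 = n100382 := (sb E94736 F154396)
theorem E94746 : n137974 = n46543 := ((D137974).symm.trans (sb E94736 (iv4 D99582)))
theorem E94747 : n137975 = n46566 := ((D137975).symm.trans (sb E94736 F153417))
theorem F331196 : act 5 n84236 = n48016 := (sb E94737 (iv5 D103674))
theorem F331197 : act 3 n104599 = n81825 := (sb E94738 (iv3 D170689))
theorem F331198 : act 4 n104599 = n81828 := (sb E94738 F268194)
theorem F331199 : act 6 n104599 = n124469 := (sb E94738 F268195)
theorem F331200 : act 1 n48457 = n84233 := (sb E94739 (iv0 D176668))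
theorem F331201 : act 0 n104647 = n84233 := (sb E94740 (iv1 D176669))
theorem F331202 : act 2 n104619 = n84233 := (sb E94741 (iv2 D176670))
theorem F331203 : act 3 n104621 = n79820 := (sb E94742 (iv3 D166245))
theorem F331204 : act 7 n104621 = n84233 := (sb E94742 F302354)
theorem F331205 : act 1 n99955 = n64838 := (sb E94743 (iv0 D137972))
theorem F331206 : act 0 n99842 = n64838 := (sb E94744 (iv1 D137973))
theorem F331207 : act 2 n46571 = n64838 := (sb E94745 F221187)
theorem E94748 : n99657 = n64825 := ((D99657).symm.trans (sb E94745 (iv5 D137937)))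
theorem F331208 : act 4 n46543 = n64838 := (sb E94746 (iv4 D137974))
theorem E94749 : n99639 = n64839 := ((D99639).symm.trans (sb E94747 F221229))
theorem F331209 : act 7 n46566 = n64838 := (sb E94747 (iv7 D137975))
theorem E94750 : n137893 = n102397 := (((iv3 F221119)).symm.trans (sb E94748 (iv3 F157220)))
theorem F331210 : act 5 n64825 = n46571 := (sb E94748 (iv5 D99657))
theorem E94751 : n183922 = n137948 := ((((iv3 F221210)).symm.trans (sb E94749 (iv3 F285785)))).symm
theorem F331211 : act 5 n64839 = n46566 := (sb E94749 (iv5 D99639))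
theorem F331212 : act 3 n102397 = n64825 := (sb E94750 F221119)
theorem F331213 : act 4 n102397 = n110744 := (sb E94750 F221120)
theorem F331214 : act 6 n102397 = n64809 := (sb E94750 (iv6 D137893))
theorem F331215 : act 5 n137948 = n87742 := (sb E94751 (iv5 D183922))
theorem E94752 : n183924 = n137941 := ((c9_8 F331215 (iv4 F289597) F331175 (iv4 D79820) (iv5 F299290) F113490 D75655 (iv4 F325114) (iv5 D183924) (iv4 F289602) F331171 (iv4 D79822) F120815 (iv4 F115927) (iv5 F299448) (iv4 F325120))).symm
theorem F331216 : act 5 n137941 = n87743 := (sb E94752 (iv5 D183924))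
theorem F331217 : act 5 n99820 = n176121 := d17_3 (iv1 F325118) F331215 F153676 (iv4 F300831) F264158 F300498 (iv5 F300734) F300733 D98120
theorem F331218 : act 4 n96112 = n166232 := d17_4 D44995 (iv5 F325913) (iv1 F121806) (iv5 F326734) (iv5 D166232) (iv0 F325117) F331215 (iv0 D87742) F61987
theorem F331219 : act 6 n166232 = n91009 := d21_3 (iv5 F331215) F325117 D166232 F294845 (iv6 D87335) (iv5 F127855) F127856 F61730 D40882 D87742
theorem F331220 : act 2 n96106 = n166232 := d3_3 F331219 (iv2 F295296) D96106
theorem F331221 : act 3 n89584 = n166232 := d7_3 F331219 (iv3 D91009) (iv6 F294850)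
theorem E94753 : n166231 = n99823 := (c6_4 F153688 F331221 (iv5 D166232) D166231)
theorem F331222 : act 3 n99823 = n79814 := (sb E94753 (iv3 D166231))
theorem F331223 : act 0 n102586 = n116266 := d20_1 D102586 F181222 (iv3 D64669) (iv1 F99573) F328620 (iv4 F327394) (iv1 D79813) D79814 (iv3 F331222) (iv1 F153689)
theorem F331224 : act 7 n173892 = n166232 := d16_8 F147745 (iv5 F326735) (iv4 D56199) (iv5 D27081) (iv4 F297184) D38279 D83156 D173892 (iv2 F331220)
theorem F331225 : act 3 n102593 = n173892 := d8_3 F331224 (iv3 F331221) (iv7 F157694)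
theorem F331226 : act 1 n96106 = n176123 := d15_0 F275379 F331224 (iv2 F331220)
theorem F331227 : act 2 n173892 = n166261 := d16_9 (iv4 D166261) (iv5 D79827) (iv4 D36362) (iv5 D17556) D17555 D36358 D79814 D166232 (iv7 F331224)
theorem F331228 : act 3 n166261 = n89872 := d0_2 F331225 F331227 F137960 F137340 (iv2 F157693)
theorem F331229 : act 4 n166208 = n173892 := d1_0 F331227 (iv4 D166261) (iv2 F261689)
theorem F331230 : act 5 n166261 = n98120 := d2_2 D173892 F331227 F151294
theorem F331231 : act 7 n166261 = n96106 := d4_2 (iv7 F331224) F331227 F331220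
theorem F331232 : act 1 n176153 = n96106 := d15_1 (iv0 F275399) (iv7 F331231) (iv2 F331227)
theorem F331233 : act 0 n176698 = n89865 := d20_4 (iv4 F147745) (iv1 F331232) F275398 D176698 (iv3 D89865) (iv4 F135311) F135310 (iv4 F70261) (iv3 F147361) F147363
theorem F331234 : act 0 n176191 = n89490 := d20_4 F275398 (iv1 F270246) F270243 (iv3 F275415) F137167 F64436 F72328 (iv4 F70442) (iv3 F147744) (iv1 F331232)
theorem F331235 : act 6 n95974 = n176698 := d21_9 F137942 (iv1 F160316) (iv5 D103653) D103654 F161633 F323339 (iv5 D71291) D71288 (iv5 F324610) F331233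
theorem F331236 : act 3 n176699 = n95974 := d7_3 F331235 (iv3 D176698) D176699
theorem E94754 : n103251 = n103206 := (c21_8 (iv5 D71291) D71288 (iv5 F324610) F331235 F331233 (iv6 F138088) F138087 D103251 (iv5 D103206) F177395 F322863)
theorem F331237 : act 1 n103206 = n47848 := (sb E94754 (iv0 D103251))
theorem F331238 : act 5 n104625 = n176698 := d21_2 D103651 (iv1 F160327) (iv6 F331235) (iv1 D95974) (iv6 D44789) D44788 D95969 (iv5 F251253) F251254 (iv1 F76047)
theorem F331239 : act 3 n121650 = n104625 := d6_3 F331238 (iv3 D176698) (iv5 F298010)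
theorem F331240 : act 4 n104625 = n178238 := d5_2 D121650 F331239 (iv3 D178238) (iv4 F326106) F326105
theorem F331241 : act 7 n104625 = n160608 := d8_2 (iv7 F194108) F331239 (iv3 D160608)
theorem F331242 : act 0 n111387 = n178238 := d20_7 F128338 F59195 D38837 F325353 (iv1 F81583) (iv3 F169497) (iv4 F172877) (iv4 F331240) (iv3 F331239) (iv1 F298058)
theorem F331243 : act 2 n160608 = n104624 := d15_3 (iv0 D104624) D104625 F331241
theorem F331244 : act 6 n104624 = n160618 := d3_2 (iv6 F253700) F331243 (iv2 D160618)
theorem E94755 : n155582 = n92830 := ((c19_4 (iv1 F331237) (iv5 D103206) D103205 F158451 F244598 (iv5 D150773) (iv4 D71086) F94436 (iv1 D59950) (iv5 D28471) F22736 F11530 (iv1 F9364) D12747 D26685 D55224 (iv1 F329032) F294116 (iv4 D47849) D47848)).symm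
theorem F331245 : act 0 n92830 = n150773 := (sb E94755 F244598)
theorem F331246 : act 1 n92830 = n150780 := (sb E94755 F244599)
theorem F331247 : act 2 n92830 = n160071 := (sb E94755 (iv2 F252618))
theorem F331248 : act 5 n92830 = n74018 := (sb E94755 (iv5 D155582))
theorem E94756 : n136735 = n45502 := (c20_10 F329906 (iv1 F329904) (iv4 D47849) D47848 (iv1 F331237) F296435 F111278 F78221 (iv4 F100075) (iv3 F219898) F71753)
theorem E94757 : n97429 = n64277 := (((iv3 F150170)).symm.trans (sb E94756 F219898))
theorem E94758 : n97443 = n64291 := ((D97443).symm.trans (sb E94756 F219899))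
theorem E94759 : n97440 = n64276 := (((iv6 F150187)).symm.trans (sb E94756 (iv6 D136735)))
theorem E94760 : n96214 = n31394 := (((F111242).symm.trans (sb E94757 F205517))).symm
theorem F331249 : act 3 n64277 = n45502 := (sb E94757 F150170)
theorem E94761 : n136736 = n45496 := ((D136736).symm.trans (sb E94757 (iv5 D97429)))
theorem E94762 : n136763 = n47775 := ((D136763).symm.trans (sb E94758 F150193))
theorem E94763 : n136764 = n47858 := ((D136764).symm.trans (sb E94758 F150194))
theorem E94764 : n136762 = n47855 := (((iv2 F219957)).symm.trans (sb E94758 F150191))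
theorem F331250 : act 4 n64291 = n45502 := (sb E94758 (iv4 D97443))
theorem E94765 : n136765 = n87928 := ((D136765).symm.trans (sb E94758 F293995))
theorem E94766 : n136766 = n47854 := ((D136766).symm.trans (sb E94758 F150192))
theorem E94767 : n136734 = n87953 := ((D136734).symm.trans (sb E94759 F294705))
theorem E94768 : n128578 = n45500 := (((iv5 F206806)).symm.trans (sb E94759 (iv5 D97440)))
theorem F331251 : act 6 n64276 = n45502 := (sb E94759 F150187)
theorem E94769 : n95305 = n67480 := ((((iv2 F103497)).symm.trans (sb E94760 F147969))).symm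
theorem E94770 : n95299 = n67587 := (((D67587).symm.trans (sb E94760 F147970))).symm
theorem E94771 : n67588 = n44923 := ((D67588).symm.trans (sb E94760 (iv5 D96214)))
theorem E94772 : n159447 = n61264 := ((((iv6 F165092)).symm.trans (sb E94760 (iv6 F251083)))).symm
theorem E94774 : n135942 = n97422 := ((((iv2 F150168)).symm.trans (sb E94761 F219900))).symm
theorem F331252 : act 5 n45496 = n64277 := (sb E94761 (iv5 D136736))
theorem F331253 : act 1 n47775 = n64291 := (sb E94762 (iv0 D136763))
theorem F331254 : act 0 n47858 = n64291 := (sb E94763 (iv1 D136764))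
theorem F331255 : act 2 n47855 = n64291 := (sb E94764 F219957)
theorem E94775 : n136712 = n103275 := (((D103275).symm.trans (sb E94764 F219958))).symm
theorem E94776 : n103277 = n64290 := ((D103277).symm.trans (sb E94764 (iv6 D136762)))
theorem E94777 : n184359 = n64294 := (((iv3 F286289)).symm.trans (sb E94765 F219959))
theorem F331256 : act 5 n87928 = n64291 := (sb E94765 (iv5 D136765))
theorem E94778 : n103272 = n64295 := ((D103272).symm.trans (sb E94766 F219960))
theorem F331257 : act 7 n47854 = n64291 := (sb E94766 (iv7 D136766))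
theorem E94779 : n184423 = n137071 := ((D184423).symm.trans (sb E94767 (iv1 F220242)))
theorem E94780 : n184424 = n67744 := ((D184424).symm.trans (sb E94767 F219897))
theorem F331258 : act 2 n87953 = n64276 := (sb E94767 (iv2 D136734))
theorem E94781 : n184414 = n135940 := (((iv3 F286337)).symm.trans (sb E94767 F219895))
theorem E94782 : n184425 = n137072 := ((D184425).symm.trans (sb E94767 (iv7 F220240)))
theorem E94783 : n97426 = n60474 := (((iv3 F150169)).symm.trans (sb E94768 (iv3 D128578)))
theorem F331259 : act 5 n45500 = n64276 := (sb E94768 F206806)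
theorem E94784 : n128555 = n97441 := (((D97441).symm.trans (sb E94768 F206807))).symm
theorem E94785 : n144031 = n44520 := ((D144031).symm.trans (sb E94769 (iv5 D95305)))
theorem E94786 : n144276 = n96072 := ((D144276).symm.trans (sb E94770 (iv0 F205520)))
theorem E94787 : n144277 = n96219 := ((D144277).symm.trans (sb E94770 (iv2 F147982)))
theorem E94788 : n144278 = n44517 := ((D144278).symm.trans (sb E94770 (iv5 D95299)))
theorem E94789 : n130584 = n106137 := (((iv6 F209156)).symm.trans (sb E94770 (iv6 F163150)))
theorem E94790 : n144032 = n103857 := (((iv7 F226732)).symm.trans (sb E94770 (iv7 F176038)))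
theorem E94791 : n107113 = n47866 := ((((iv1 F205447)).symm.trans (sb E94771 (iv1 F165090)))).symm
theorem E94792 : n144279 = n42441 := ((((iv0 F205448)).symm.trans (sb E94771 D144279))).symm
theorem F331260 : act 5 n44923 = n31394 := (sb E94771 (iv5 D67588))
theorem E94795 : n144033 = n47864 := (((F176023).symm.trans (sb E94771 (iv7 F226734)))).symm
theorem E94796 : n130585 = n76271 := ((D130585).symm.trans (sb E94772 (iv5 D159447)))
theorem F331261 : act 5 n97422 = n63919 := (sb E94774 (iv5 D135942))
theorem F331262 : act 7 n97422 = n144274 := (sb E94774 (iv7 F226963))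
theorem F331263 : act 2 n103275 = n64256 := (sb E94775 F219858)
theorem F331264 : act 4 n103275 = n64362 := (sb E94775 F219859)
theorem F331265 : act 6 n103275 = n64254 := (sb E94775 (iv6 D136712))
theorem F331266 : act 4 n64290 = n87953 := (sb E94776 F294121)
theorem F331267 : act 6 n64290 = n47855 := (sb E94776 (iv6 D103277))
theorem F331268 : act 3 n64294 = n87928 := (sb E94777 F286289)
theorem E94797 : n120091 = n87926 := (((iv7 F322911)).symm.trans (sb E94777 (iv7 D184359)))
theorem F331269 : act 3 n64295 = n47854 := (sb E94778 (iv3 D103272))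
theorem F331270 : act 1 n137071 = n87953 := (sb E94779 (iv0 D184423))
theorem F331271 : act 0 n67744 = n87953 := (sb E94780 (iv1 D184424))
theorem F331272 : act 3 n135940 = n87953 := (sb E94781 F286337)
theorem F331273 : act 5 n135940 = n181931 := (sb E94781 F286338)
theorem F331274 : act 6 n135940 = n87948 := (sb E94781 (iv6 D184414))
theorem F331275 : act 5 n137072 = n181935 := (sb E94782 F286346)
theorem F331276 : act 7 n137072 = n87953 := (sb E94782 (iv7 D184425))
theorem F331277 : act 3 n60474 = n45500 := (sb E94783 F150169)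
theorem E94798 : n128579 = n45495 := ((D128579).symm.trans (sb E94783 (iv6 D97426)))
theorem E94799 : n181934 = n142405 := ((F294706).symm.trans (sb E94784 F225321))
theorem F331278 : act 3 n97441 = n60464 := (sb E94784 (iv3 D128555))
theorem F331279 : act 5 n97441 = n64434 := (sb E94784 F206775)
theorem E94800 : n112874 = n23040 := ((((iv1 F176021)).symm.trans (sb E94785 F226730))).symm
theorem F331280 : act 5 n44520 = n67480 := (sb E94785 (iv5 D144031))
theorem E94801 : n90657 = n67599 := (((iv7 F205453)).symm.trans (sb E94785 F226729))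
theorem F331281 : act 0 n96072 = n67587 := (sb E94786 (iv1 D144276))
theorem F331282 : act 2 n96219 = n67587 := (sb E94787 (iv2 D144277))
theorem F331283 : act 5 n44517 = n67587 := (sb E94788 (iv5 D144278))
theorem F331284 : act 3 n106137 = n61264 := (sb E94789 (iv3 D130584))
theorem F331285 : act 6 n106137 = n67587 := (sb E94789 F209156)
theorem F331286 : act 3 n103857 = n67483 := (sb E94790 (iv3 D144032))
theorem F331287 : act 4 n103857 = n115788 := (sb E94790 F226731)
theorem F331288 : act 7 n103857 = n67587 := (sb E94790 F226732)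
theorem E94802 : n103303 = n49483 := ((D103303).symm.trans (sb E94791 (iv5 D107113)))
theorem E94803 : n131143 = n103304 := (((D103304).symm.trans (sb E94791 (iv6 F210046)))).symm
theorem E94804 : n112875 = n90658 := (((D90658).symm.trans (sb E94792 F226967))).symm
theorem F331289 : act 5 n47864 = n67483 := (sb E94795 (iv5 D144033))
theorem E94805 : n159445 = n64633 := ((D159445).symm.trans (sb E94796 F209157))
theorem F331290 : act 5 n76271 = n61264 := (sb E94796 (iv5 D130585))
theorem E94806 : n184355 = n74149 := ((D184355).symm.trans (sb E94797 (iv1 F189696)))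
theorem E94807 : n184356 = n55256 := ((D184356).symm.trans (sb E94797 (iv0 D120091)))
theorem E94808 : n184357 = n74148 := ((D184357).symm.trans (sb E94797 F324374))
theorem F331291 : act 5 n87926 = n64295 := (sb E94797 F322910)
theorem F331292 : act 7 n87926 = n64294 := (sb E94797 F322911)
theorem E94809 : n128554 = n97421 := ((((iv2 F150167)).symm.trans (sb E94798 F206808))).symm
theorem E94810 : n128556 = n97425 := (((D97425).symm.trans (sb E94798 F206809))).symm
theorem F331293 : act 6 n45495 = n60474 := (sb E94798 (iv6 D128579))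
theorem F331294 : act 0 n142405 = n86897 := (sb E94799 (iv1 D181934))
theorem F331295 : act 1 n142405 = n97441 := (sb E94799 (iv0 F294706))
theorem E94811 : n52100 = n47867 := (((D47867).symm.trans (sb E94800 (iv5 D112874)))).symm
theorem F331296 : act 0 n67599 = n42441 := (sb E94801 (iv1 D90657))
theorem F331297 : act 1 n67599 = n47866 := (sb E94801 F139570)
theorem F331298 : act 2 n67599 = n47864 := (sb E94801 F205452)
theorem E94812 : n144292 = n43489 := ((D144292).symm.trans (sb E94801 (iv4 F139571)))
theorem E94813 : n144293 = n90739 := ((D144293).symm.trans (sb E94801 (iv6 F205445)))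
theorem F331299 : act 7 n67599 = n44520 := (sb E94801 F205453)
theorem F331300 : act 5 n49483 = n47866 := (sb E94802 (iv5 D103303))
theorem F331301 : act 5 n103304 = n61523 := (sb E94803 (iv5 D131143))
theorem F331302 : act 0 n90658 = n107111 := (sb E94804 (iv1 F175794))
theorem F331303 : act 1 n90658 = n107110 := (sb E94804 F175795)
theorem F331304 : act 2 n90658 = n107114 := (sb E94804 F175792)
theorem F331305 : act 4 n90658 = n52187 := (sb E94804 F175793)
theorem F331306 : act 6 n90658 = n112979 := (sb E94804 (iv6 F175942))
theorem F331307 : act 1 n64633 = n76271 := (sb E94805 (iv0 D159445))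
theorem F331308 : act 1 n74149 = n87926 := (sb E94806 (iv0 D184355))
theorem F331309 : act 0 n55256 = n87926 := (sb E94807 (iv1 D184356))
theorem F331310 : act 2 n74148 = n87926 := (sb E94808 (iv2 D184357))
theorem F331311 : act 4 n97421 = n64443 := (sb E94809 F206774)
theorem F331312 : act 6 n97421 = n60463 := (sb E94809 (iv6 D128554))
theorem F331313 : act 2 n97425 = n64443 := (sb E94810 F206776)
theorem F331314 : act 6 n97425 = n60464 := (sb E94810 (iv6 D128556))
theorem E94814 : n107470 = n103305 := (((D103305).symm.trans (sb E94811 (iv1 F165806)))).symm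
theorem E94815 : n107473 = n103306 := (((D103306).symm.trans (sb E94811 (iv0 F165803)))).symm
theorem F331315 : act 2 n47867 = n49483 := (sb E94811 F82362)
theorem E94816 : n112872 = n23041 := (((F75140).symm.trans (sb E94811 (iv3 F175788)))).symm
theorem E94817 : n103307 = n25347 := ((D103307).symm.trans (sb E94811 F82363))
theorem E94818 : n103308 = n25295 := ((D103308).symm.trans (sb E94811 (iv6 D52100)))
theorem F331316 : act 4 n43489 = n67599 := (sb E94812 (iv4 D144292))
theorem F331317 : act 6 n90739 = n67599 := (sb E94813 (iv6 D144293))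
theorem F331318 : act 0 n103305 = n107114 := (sb E94814 F165790)
theorem F331319 : act 2 n103305 = n107110 := (sb E94814 F165791)
theorem F331320 : act 4 n103305 = n49645 := (sb E94814 (iv4 D107470))
theorem F331321 : act 7 n103305 = n107111 := (sb E94814 F165789)
theorem F331322 : act 1 n103306 = n107114 := (sb E94815 (iv0 F165804))
theorem F331323 : act 2 n103306 = n107111 := (sb E94815 F165801)
theorem F331324 : act 4 n103306 = n49646 := (sb E94815 (iv4 D107473))
theorem F331325 : act 6 n103306 = n111011 := (sb E94815 (iv6 F172139))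
theorem F331326 : act 7 n103306 = n107110 := (sb E94815 F165802)
theorem E94819 : n52098 = n47872 := (((D47872).symm.trans (sb E94816 (iv6 D112872)))).symm
theorem F331327 : act 4 n25347 = n47867 := (sb E94817 (iv4 D103307))
theorem F331328 : act 6 n25295 = n47867 := (sb E94818 (iv6 D103308))
theorem E94820 : n103320 = n85459 := ((D103320).symm.trans (sb E94819 F319049))
theorem E94821 : n112869 = n103321 := (((D103321).symm.trans (sb E94819 D112869))).symm
theorem E94822 : n112870 = n103057 := ((((iv2 F158315)).symm.trans (sb E94819 D112870))).symm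
theorem F331329 : act 3 n47872 = n25295 := (sb E94819 (iv3 D52098))
theorem E94823 : n107607 = n103319 := ((((iv4 F158561)).symm.trans (sb E94819 (iv4 F166029)))).symm
theorem E94824 : n112871 = n103322 := (((D103322).symm.trans (sb E94819 D112871))).symm
theorem E94825 : n103323 = n52147 := ((D103323).symm.trans (sb E94819 (iv7 F82434)))
theorem F331330 : act 1 n85459 = n47872 := (sb E94820 (iv0 D103320))
theorem F331331 : act 1 n103321 = n112976 := (sb E94821 F175935)
theorem F331332 : act 2 n103321 = n112974 := (sb E94821 (iv2 F222102))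
theorem F331333 : act 7 n103321 = n112975 := (sb E94821 (iv7 F222104))
theorem F331334 : act 0 n103057 = n112975 := (sb E94822 (iv1 F175934))
theorem F331335 : act 1 n103057 = n112974 := (sb E94822 F175929)
theorem F331336 : act 3 n103057 = n107117 := (sb E94822 F175785)
theorem F331337 : act 7 n103057 = n112976 := (sb E94822 (iv7 F175932))
theorem F331338 : act 3 n103319 = n49711 := (sb E94823 (iv3 D107607))
theorem F331339 : act 7 n103319 = n49756 := (sb E94823 F166030)
theorem F331340 : act 3 n103322 = n52099 := (sb E94824 F175786)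
theorem F331341 : act 4 n103322 = n133717 := (sb E94824 (iv4 F215221))
theorem F331342 : act 7 n103322 = n110333 := (sb E94824 F175787)
theorem F331343 : act 7 n52147 = n47872 := (sb E94825 (iv7 D103323))
theorem F331344 : act 7 n103062 = n112977 := d14_4 F331343 (iv6 D47872) (iv7 F75064) D103062 (iv6 D112977)
theorem F331345 : act 2 n112977 = n103364 := d4_1 F331344 (iv7 D103364) (iv2 F158330)
theorem F331346 : act 3 n112979 = n103062 := d8_3 F331344 F175936 D112979
theorem F331347 : act 1 n103362 = n112977 := d15_1 D103362 (iv7 F331344) F158330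
theorem F331348 : act 3 n103362 = n148655 := d20_5 F175752 (iv1 D52205) (iv4 F82436) (iv3 F175936) (iv1 F331347) (iv4 D148655) F200085 (iv4 F107785) (iv3 F319664) (iv1 F175750)
theorem F331349 : act 4 n103362 = n148656 := d20_8 (iv4 D59997) D59995 (iv4 F110859) (iv3 F321594) F166316 (iv3 F166347) (iv4 F175937) (iv1 F331347) (iv3 D148656) F167440
theorem F331350 : act 6 n103364 = n112976 := d3_2 D112977 F331345 (iv2 D112976)
theorem F331351 : act 1 n112977 = n103361 := d15_0 (iv0 D103361) D103364 (iv2 F331345)
theorem F331352 : act 2 n133717 = n96040 := d1_1 F331341 (iv4 F147782) (iv2 F158562)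
theorem F331353 : act 6 n133717 = n95542 := d10_2 (iv6 F158563) F331341 (iv4 F147179)
theorem F331354 : act 3 n95542 = n133719 := d7_1 F331353 (iv6 D133719) D133717
theorem E94826 : n112873 = n103311 := (c5_5 F147179 F331354 F215226 F97943 (iv4 F175790) F158547)
theorem F331355 : act 2 n103311 = n61523 := (sb E94826 F175789)
theorem F331356 : act 4 n103311 = n52117 := (sb E94826 F175790)
theorem F331357 : act 6 n103311 = n52099 := (sb E94826 (iv6 D112873))
theorem F331358 : act 7 n133719 = n96037 := d8_2 (iv7 F147181) F331354 (iv3 D96037)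
theorem F331359 : act 4 n96037 = n94281 := d11_1 F331358 F157681 (iv4 F215226)
theorem F331360 : act 4 n93927 = n96096 := d5_2 F331359 F145411 F147720 F70430 D96037
theorem F331361 : act 2 n96096 = n131144 := d1_1 F331360 F210047 (iv2 F157678)
theorem F331362 : act 4 n93811 = n97151 := d16_4 F331360 (iv5 D96096) (iv4 F292764) (iv5 F293764) (iv5 D97151) F71640 F55310 D61526 (iv2 F157678)
theorem F331363 : act 4 n93964 = n97349 := d16_0 (iv5 D97349) (iv4 F144585) D93927 F331360 (iv5 D96096) (iv4 F292764) (iv5 F293764) F144611 D93964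
theorem E94827 : n186224 = n96096 := ((c18_2 (iv1 F157680) F331360 (iv1 D186224) (iv4 D88710) (iv5 D41414) (iv4 F63786) D88628 (iv4 F292586) (iv0 F293643) F293645)).symm
theorem F331364 : act 0 n96096 = n88710 := (sb E94827 (iv1 D186224))
theorem E94828 : n131145 = n95787 := ((c18_1 F292590 (iv4 D131145) (iv1 F157680) F331360 (iv5 D96096) (iv4 F292764) (iv0 F293465) F293467 F135862 (iv5 F292594))).symm
theorem F331365 : act 4 n95787 = n61524 := (sb E94828 (iv4 D131145))
theorem F331366 : act 4 n95568 = n113009 := d18_7 F205487 (iv4 F293677) F293675 (iv4 F144585) D93927 F331360 (iv0 F235286) (iv0 D113009) F82471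
theorem F331367 : act 5 n91853 = n93965 := d18_4 (iv1 F205492) (iv4 F68918) F157582 (iv4 F293687) (iv4 D93965) (iv0 F157806) F331360 (iv0 F235286) (iv5 D95568)
theorem E94829 : n94333 = n94281 := (c20_5 D46142 (iv1 F74901) (iv4 D44096) D44095 D94333 F145411 F331360 F331364 (iv4 D88710) F63858 (iv1 F291039))
theorem F331368 : act 1 n94281 = n44095 := (sb E94829 (iv0 D94333))
theorem F331369 : act 1 n102901 = n94281 := d15_0 F331368 (iv7 F292772) (iv2 F158203)
theorem F331370 : act 1 n94226 = n102901 := d15_0 F331369 F157681 (iv2 F145276)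
theorem F331371 : act 7 n102901 = n94335 := d15_2 (iv0 F151791) F331370 (iv2 D94335)
theorem F331372 : act 3 n94348 = n102901 := d8_3 F331371 (iv3 F293785) F293787
theorem F331373 : act 1 n102904 = n94335 := d15_1 D102904 (iv7 F331371) F158203
theorem F331374 : act 2 n94281 = n102904 := d15_3 F331373 (iv0 F157710) (iv7 F157681)
theorem F331375 : act 5 n102904 = n92323 := d21_8 D93807 (iv1 F288413) (iv5 F288409) F288410 F288148 (iv6 F292543) F292542 (iv1 F331373) F294240 (iv1 D93805)
theorem F331376 : act 7 n94226 = n102904 := d13_0 F331375 F294241 D94226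
theorem F331377 : act 2 n93965 = n97349 := d2_1 F331367 (iv5 D97349) (iv2 F293685)
theorem F331378 : act 5 n96095 = n131144 := d9_12 F331367 (iv4 D93965) (iv5 F135606) F135605 D103311 F331356 F82384 (iv4 F70313) D95787 F331365 (iv5 F293645) F293644 F210047 (iv5 F114668) (iv4 F293687)
theorem F331379 : act 7 n93965 = n97151 := d13_2 (iv7 F293689) F331367 (iv5 D97151)
theorem F331380 : act 0 n131144 = n186211 := d17_2 (iv1 F158545) F331378 (iv5 F293683) (iv4 F144762) D94393 F292445 F136052 F288941 (iv4 F292438)
theorem E94830 : n159773 = n96068 := (c17_9 (iv1 F292630) F292631 (iv1 F158545) F331378 F210047 (iv5 F114668) (iv0 F157582) D93801 (iv0 F251774) (iv4 D96068))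
theorem F331381 : act 0 n96068 = n93801 := (sb E94830 F251774)
theorem F331382 : act 1 n96068 = n93930 := (sb E94830 (iv0 F251766))
theorem F331383 : act 2 n96068 = n93935 := (sb E94830 (iv2 F251937))
theorem F331384 : act 5 n96068 = n76449 := (sb E94830 (iv5 D159773))
theorem F331385 : act 6 n96068 = n76453 := (sb E94830 F251765)
theorem F331386 : act 7 n96068 = n93936 := (sb E94830 (iv7 F251950))
theorem F331387 : act 1 n131144 = n96957 := d17_6 (iv1 F157586) F55310 D61524 (iv5 F293645) F293644 F331378 (iv5 D96957) F178361 (iv4 D43906)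
theorem F331388 : act 4 n93936 = n93934 := d11_1 F331386 F144765 D96068
theorem F331389 : act 4 n159833 = n97354 := d16_0 F293468 (iv4 F293467) F251948 F331388 (iv5 D93934) (iv4 D43906) D43907 (iv7 F144589) (iv2 F251932)
theorem F331390 : act 0 n93934 = n186201 := d17_0 (iv5 D186201) (iv1 F292564) F331301 F96054 (iv5 F55310) F157586 D43907 D93936 F331388
theorem F331391 : act 1 n93934 = n186186 := d18_8 (iv1 F292562) (iv4 F292764) D102956 F158245 (iv5 F294676) (iv4 D93937) D93936 F331388 (iv5 D186186)
theorem F331392 : act 4 n96064 = n93935 := d9_9 D93934 (iv4 F331388) (iv5 F251948) F293467 (iv5 F293468) (iv4 F331389) (iv5 D159833) F157578 D96064 (iv5 F293761) F158245 (iv5 F294676) (iv4 D93937) (iv5 D43907) D43906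
theorem F331393 : act 0 n112955 = n94399 := d18_0 F291630 (iv1 F331391) (iv4 F331388) (iv5 F251948) F293467 F135862 F135858 (iv0 F288943) (iv5 F292578)
theorem E94831 : n97353 = n93937 := (c17_7 (iv1 F288944) (iv5 F292578) F331393 (iv5 D94399) (iv4 F293677) (iv5 F288984) (iv0 F294055) F294676 (iv0 D88434) (iv4 F63860))
theorem F331394 : act 0 n93937 = n186203 := (sb E94831 F294055)
theorem F331395 : act 1 n93937 = n45467 := (sb E94831 (iv0 D97353))
theorem F331396 : act 0 n186066 = n90054 := d18_0 (iv4 F292577) F331393 F291630 (iv5 D186186) (iv4 D88697) (iv0 D41411) (iv4 F63786) D88628 D186066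
theorem F331397 : act 1 n112955 = n89650 := d15_1 (iv0 F331393) F291541 (iv2 F145561)
theorem F331398 : act 1 n186181 = n94399 := d15_0 (iv0 F331393) F292579 (iv2 F288935)
theorem F331399 : act 1 n186186 = n96064 := d18_8 (iv1 F144761) (iv4 F144762) F292632 (iv4 F293175) D97351 F294057 F331398 F291630 (iv5 D96064)
theorem F331400 : act 1 n96064 = n186201 := d15_1 F331399 (iv7 F291633) F291631
theorem F331401 : act 1 n89650 = n186181 := d18_8 (iv1 F288941) F63860 D88434 (iv4 F158245) F293761 (iv4 F331392) F331400 F288981 (iv5 D186181)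
theorem F331402 : act 0 n97351 = n186066 := d17_0 (iv5 D186066) (iv1 D88628) (iv5 F291603) F294191 F82471 F292075 D89650 F331401 (iv4 F294057)
theorem F331403 : act 1 n97351 = n186061 := d18_8 (iv1 F135856) (iv4 F136041) (iv1 F136043) D88702 D186201 F288981 F331401 (iv4 F294057) (iv5 D186061)
theorem F331404 : act 1 n186061 = n90054 := d15_1 F331403 (iv7 F293066) (iv2 F150103)
theorem F331405 : act 5 n186188 = n89649 := d17_3 D41411 D88698 D186188 (iv4 F293175) D97351 F331403 (iv5 D186061) (iv0 D88627) F63786
theorem F331406 : act 4 n186061 = n93801 := d18_7 F157810 F135605 D103309 F292438 D186181 (iv4 F294057) F331403 (iv0 F331381) F331384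
theorem F331407 : act 2 n97354 = n186061 := d1_3 F331406 (iv2 F251932) F331389
theorem F331408 : act 7 n93937 = n186061 := d11_0 F331406 F144589 D93937
theorem F331409 : act 7 n186066 = n97354 := d16_8 F331406 (iv5 D93801) F68918 D44827 D96068 F331384 F292586 D186066 F331407
theorem F331410 : act 2 n93937 = n186066 := d4_3 F331409 F331407 (iv7 F331408)
theorem F331411 : act 4 n93930 = n186066 := d11_3 F331409 (iv4 F331389) F251934
theorem F331412 : act 6 n186066 = n130632 := d10_2 F157671 F331411 (iv4 D130632)
theorem E94832 : n157237 = n130632 := (c21_5 (iv5 D61244) F46620 D34258 D74768 D157237 (iv6 F331412) (iv5 D186066) (iv1 D88628) (iv5 F291603) (iv6 F294946) (iv1 F95709))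
theorem F331413 : act 1 n130632 = n74768 := (sb E94832 (iv0 D157237))
theorem F331414 : act 2 n89650 = n186188 := d2_3 F331405 (iv2 D89649) D89650
theorem F331415 : act 3 n94443 = n186188 := d6_3 F331405 (iv3 F292643) D94443
theorem F331416 : act 4 n96067 = n186188 := d9_15 F331405 (iv4 F293175) D97351 F294057 (iv5 D186181) (iv4 F292438) (iv5 F292631) (iv4 D94403) (iv5 D44120) (iv4 F292636) (iv5 F138381) (iv4 F292577) F292578 (iv4 F292568) (iv5 F251775)
theorem F331417 : act 7 n94399 = n186188 := d13_0 F331405 (iv7 F292629) D94399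
theorem F331418 : act 2 n186201 = n96067 := d16_9 F331416 F331405 (iv4 F293175) D97351 F294057 (iv5 D186181) (iv4 F292438) (iv5 F292631) F291633
theorem F331419 : act 5 n148779 = n186190 := d21_8 F331405 (iv1 F292634) (iv5 F82389) (iv6 D52120) (iv1 F46642) D61278 (iv5 F106102) D148779 (iv6 D186190) D186188
theorem F331420 : act 6 n113035 = n186188 := d21_5 (iv5 D29009) F23063 (iv5 F40035) D52173 D113035 F331405 (iv1 F292634) (iv5 F82389) (iv6 D52120) (iv1 F46642)
theorem F331421 : act 0 n94036 = n94002 := d21_7 (iv5 F331405) (iv1 F288971) (iv5 D88703) (iv6 F291601) F290537 (iv6 F290553) D94036 (iv5 D94002) F178327 F292632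
theorem F331422 : act 5 n114038 = n186230 := d21_8 (iv5 D94393) F292632 (iv5 F331405) (iv6 F331420) (iv1 F176093) (iv6 F176100) F176099 (iv1 F177524) (iv6 D186230) (iv1 F292445)
theorem F331423 : act 2 n186230 = n164460 := d2_1 F331422 (iv5 D164460) (iv2 F288173)
theorem F331424 : act 7 n186230 = n164458 := d13_2 (iv7 F288175) F331422 (iv5 D164458)
theorem F331425 : act 0 n114226 = n186230 := d21_10 (iv5 F331422) (iv1 D114038) F83149 (iv6 D49224) F37556 D25315 F39978 D25590 D52721 D114226
theorem F331426 : act 3 n164458 = n186262 := d8_1 F331424 F289014 (iv3 F289000)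
theorem F331427 : act 6 n164458 = n186229 := d14_1 F331424 (iv7 D186229) (iv6 D88711) D88712 D186230
theorem F331428 : act 5 n186262 = n164209 := d6_2 D164458 F331426 F283775
theorem F331429 : act 2 n112939 = n113035 := d3_3 F331420 (iv2 F331414) F291540
theorem F331430 : act 7 n113036 = n112939 := d15_2 (iv0 D113035) D113036 F331429
theorem F331431 : act 7 n112940 = n113035 := d15_2 (iv0 D112939) D112940 (iv2 F331429)
theorem F331432 : act 2 n113036 = n112940 := d4_3 F331431 (iv2 F331429) (iv7 F331430)
theorem F331433 : act 6 n186194 = n148779 := d12_0 F331419 (iv6 D186190) (iv5 D88698) D88699 D186194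
theorem F331434 : act 7 n186190 = n113051 := d13_2 (iv7 F252032) F331419 F252023
theorem F331435 : act 2 n90420 = n186194 := d3_3 F331433 (iv2 F252031) F252020
theorem F331436 : act 7 n90417 = n186194 := d14_0 F331433 F252032 (iv6 F252022) F251270 F177665
theorem F331437 : act 3 n186194 = n113689 := d8_1 F331436 (iv7 F176892) F142872
theorem E94833 : n148779 = n113686 := ((c7_4 (iv6 F331433) F331437 (iv6 D113689) D113686)).symm
theorem F331438 : act 0 n113686 = n135260 := (sb E94833 (iv1 F328781))
theorem F331439 : act 1 n113686 = n69728 := (sb E94833 (iv0 D148779))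
theorem F331440 : act 2 n113686 = n159860 := (sb E94833 (iv2 F252031))
theorem F331441 : act 5 n113686 = n186190 := (sb E94833 F331419)
theorem F331442 : act 6 n113686 = n186194 := (sb E94833 (iv6 F331433))
theorem E94834 : n159861 = n127397 := ((((iv7 F204735)).symm.trans (sb E94833 F252032))).symm
theorem F331443 : act 0 n127397 = n76526 := (sb E94834 (iv1 D159861))
theorem F331444 : act 1 n127397 = n148781 := (sb E94834 F252021)
theorem F331445 : act 2 n127397 = n148780 := (sb E94834 F252024)
theorem F331446 : act 5 n127397 = n113051 := (sb E94834 (iv5 F252023))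
theorem F331447 : act 6 n127397 = n159537 := (sb E94834 (iv6 F252022))
theorem F331448 : act 3 n159537 = n127400 := d7_1 F331447 (iv6 D127400) D127397
theorem F331449 : act 3 n113051 = n127399 := d6_1 F331446 (iv5 D127399) D127397
theorem E94835 : n113049 = n106741 := ((c7_3 D113051 F331449 (iv6 F204740) (iv3 D113049))).symm
theorem F331450 : act 3 n106741 = n52177 := (sb E94835 (iv3 D113049))
theorem E94836 : n112953 = n106523 := ((((iv7 F204743)).symm.trans (sb E94835 F176128))).symm
theorem F331451 : act 3 n106523 = n52136 := (sb E94836 (iv3 D112953))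
theorem F331452 : act 3 n113688 = n186190 := d8_3 F331434 F331449 F204739
theorem F331453 : act 3 n142836 = n106742 := d0_4 F331451 F161683 D113052 F325371 F204744
theorem F331454 : act 5 n144168 = n112954 := d19_1 D144168 (iv4 D112954) (iv3 F331451) (iv1 D106523) F77748 F77435 F71682 (iv1 F316561) D59891 F94367 (iv3 F84788) (iv1 F166913) (iv5 F222862) F222863 F223814 (iv1 D140718) (iv5 D66032) F49643 D67541
theorem F331455 : act 5 n114509 = n115754 := d16_1 (iv4 F178571) (iv4 F226869) F331454 (iv4 D112954) (iv5 F161606) F161605 F94474 (iv7 F161680) (iv2 F161681)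
theorem F331456 : act 5 n112946 = n116969 := d18_9 (iv1 D116969) F85010 D115754 (iv4 F226869) F331454 (iv4 D112954) F82500 (iv4 F176118) F176127
theorem E94837 : n144037 = n116969 := ((c2_1 F331456 (iv2 D144037) (iv5 F325796) F176124)).symm
theorem F331457 : act 2 n116969 = n67488 := (sb E94837 (iv2 D144037))
theorem F331458 : act 7 n116969 = n67489 := (sb E94837 (iv7 F226756))
theorem E94838 : n144043 = n113046 := (c13_4 (iv7 F176126) F331456 F331458 D144043)
theorem F331459 : act 5 n113046 = n67489 := (sb E94838 (iv5 D144043))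
theorem F331460 : act 1 n144045 = n143973 := d17_8 F161905 (iv5 D105476) F161859 (iv5 F161795) (iv4 F176125) F331456 F182840 D144045 (iv4 F321214)
theorem F331461 : act 6 n116971 = n133654 := d21_3 F331456 (iv1 D116969) D116971 (iv1 D133654) (iv6 D62733) F47691 (iv1 F40002) F40000 D52134 D112946
theorem F331462 : act 3 n133654 = n116973 := d7_1 F331461 (iv6 D116973) (iv3 F182842)
theorem F331463 : act 1 n143973 = n116971 := d15_1 F331460 F182843 (iv2 F226763)
theorem F331464 : act 1 n143976 = n144045 := d15_0 F331460 F226626 (iv2 F226631)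
theorem E94839 : n141927 = n141857 := ((c17_2 D66508 D141857 (iv1 F224975) (iv5 D140524) (iv4 F103353) D144045 F331460 (iv5 D143973) (iv0 D67451) F49608)).symm
theorem F331465 : act 0 n141857 = n140524 := (sb E94839 (iv1 F224975))
theorem F331466 : act 1 n141857 = n66535 := (sb E94839 (iv0 D141927))
theorem F331467 : act 4 n106386 = n144045 := d18_5 F323342 (iv4 F322800) (iv1 F178573) F177654 D106386 F331460 (iv4 F321214) F179080 F179079
theorem E94840 : n144049 = n106190 := (c1_3 F331467 F226763 D144049 F163515)
theorem F331468 : act 3 n106190 = n144149 := (sb E94840 (iv3 F226856))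
theorem F331469 : act 4 n106190 = n67491 := (sb E94840 (iv4 D144049))
theorem F331470 : act 4 n140524 = n157719 := d16_6 F177654 D106386 F331467 (iv5 D144045) F103353 D140524 F248562 (iv7 D114906) F177829
theorem F331471 : act 5 n116968 = n112947 := d17_7 (iv1 F82500) (iv5 F161606) (iv1 F163452) D106386 F331467 (iv5 D144045) F182835 F176121 F176118
theorem E94841 : n143982 = n25343 := (c17_5 (iv1 F331464) (iv5 D143976) (iv1 D67452) D67454 D143982 F40048 D48724 D105393 (iv0 F178182) F331467)
theorem E94842 : n144214 = n52171 := ((((iv3 F82484)).symm.trans (sb E94841 (iv3 F226904)))).symm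
theorem E94843 : n67454 = n52176 := ((((iv4 F82495)).symm.trans (sb E94841 (iv4 D143982)))).symm
theorem E94845 : n113030 = n67556 := (((iv4 F176083)).symm.trans (sb E94842 (iv4 D144214)))
theorem E94846 : n144969 = n48722 := (((F82485).symm.trans (sb E94842 (iv5 F227937)))).symm
theorem E94847 : n143980 = n113045 := (((D113045).symm.trans (sb E94843 D143980))).symm
theorem E94849 : n143978 = n52134 := (((F82494).symm.trans (sb E94843 (iv2 F226634)))).symm
theorem E94850 : n113044 = n31349 := (((iv3 F176111)).symm.trans (sb E94843 F103313))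
theorem E94851 : n113047 = n31348 := ((D113047).symm.trans (sb E94843 (iv5 D67454)))
theorem E94853 : n113048 = n60462 := ((D113048).symm.trans (sb E94843 F103314))
theorem F331472 : act 4 n67556 = n52171 := (sb E94845 F176083)
theorem E94854 : n144215 = n52170 := ((D144215).symm.trans (sb E94845 (iv6 D113030)))
theorem E94855 : n105386 = n67967 := ((D105386).symm.trans (sb E94846 (iv0 D144969)))
theorem E94856 : n128548 = n112949 := ((((iv1 F176120)).symm.trans (sb E94847 (iv1 F226640)))).symm
theorem E94857 : n128550 = n112946 := (((D112946).symm.trans (sb E94849 (iv1 F226636)))).symm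
theorem E94858 : n128549 = n112947 := (((D112947).symm.trans (sb E94849 F226637))).symm
theorem E94859 : n112948 = n67453 := ((D112948).symm.trans (sb E94849 (iv5 D143978)))
theorem F331473 : act 3 n31349 = n52176 := (sb E94850 F176111)
theorem E94860 : n67456 = n52175 := ((D67456).symm.trans (sb E94850 (iv6 D113044)))
theorem F331474 : act 5 n31348 = n52176 := (sb E94851 (iv5 D113047))
theorem E94861 : n112899 = n67455 := (((D67455).symm.trans (sb E94851 F176116))).symm
theorem F331475 : act 4 n60462 = n52179 := (sb E94853 F176118)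
theorem E94862 : n128552 = n112897 := ((D128552).symm.trans (sb E94853 F176119))
theorem F331476 : act 7 n60462 = n52176 := (sb E94853 (iv7 D113048))
theorem E94863 : n113028 = n67557 := ((D113028).symm.trans (sb E94854 F226905))
theorem E94864 : n113081 = n113029 := (((D113029).symm.trans (sb E94854 F226906))).symm
theorem F331477 : act 6 n52170 = n67556 := (sb E94854 (iv6 D144215))
theorem F331478 : act 0 n67967 = n48722 := (sb E94855 (iv1 D105386))
theorem F331479 : act 2 n112949 = n60462 := (sb E94856 F206769)
theorem F331480 : act 3 n112949 = n128573 := (sb E94856 (iv3 F206801))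
theorem F331481 : act 5 n112949 = n60461 := (sb E94856 (iv5 D128548))
theorem F331482 : act 0 n112946 = n60462 := (sb E94857 (iv1 D128550))
theorem F331483 : act 1 n112947 = n60462 := (sb E94858 (iv0 D128549))
theorem F331484 : act 5 n67453 = n52134 := (sb E94859 (iv5 D112948))
theorem E94865 : n143979 = n112999 := ((D143979).symm.trans (sb E94859 (iv6 F175979)))
theorem E94868 : n116966 = n113043 := (((D113043).symm.trans (sb E94860 (iv2 F182831)))).symm
theorem F331485 : act 6 n52175 = n31349 := (sb E94860 (iv6 D67456))
theorem E94871 : n143986 = n52107 := ((D143986).symm.trans (sb E94861 (iv5 D112899)))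
theorem E94872 : n112894 = n67459 := (((iv7 F175812)).symm.trans (sb E94861 F175817))
theorem F331486 : act 3 n112897 = n60465 := (sb E94862 F206770)
theorem E94873 : n128559 = n112893 := (((iv5 F206777)).symm.trans (sb E94862 F206771))
theorem F331487 : act 6 n112897 = n60462 := (sb E94862 (iv6 D128552))
theorem F331488 : act 3 n67557 = n52170 := (sb E94863 (iv3 D113028))
theorem F331489 : act 4 n67557 = n52175 := (sb E94863 F176081)
theorem E94874 : n144218 = n112892 := ((D144218).symm.trans (sb E94863 (iv7 F176082)))
theorem F331490 : act 3 n113029 = n52193 := (sb E94864 F176168)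
theorem F331491 : act 6 n113029 = n52191 := (sb E94864 (iv6 D113081))
theorem F331492 : act 2 n112999 = n67455 := (sb E94865 F226638)
theorem F331493 : act 4 n112999 = n141864 := (sb E94865 F226639)
theorem F331494 : act 6 n112999 = n67453 := (sb E94865 (iv6 D143979))
theorem F331495 : act 4 n113043 = n113101 := (sb E94868 F182832)
theorem F331496 : act 6 n113043 = n53906 := (sb E94868 (iv6 D116966))
theorem F331497 : act 5 n52107 = n67455 := (sb E94871 (iv5 D143986))
theorem F331498 : act 3 n67459 = n52107 := (sb E94872 F175811)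
theorem E94875 : n143998 = n134864 := ((D143998).symm.trans (sb E94872 (iv4 F217048)))
theorem F331499 : act 6 n67459 = n52105 := (sb E94872 (iv6 D112894))
theorem F331500 : act 7 n67459 = n67455 := (sb E94872 F175812)
theorem F331501 : act 0 n112893 = n128581 := (sb E94873 (iv1 F206810))
theorem F331502 : act 1 n112893 = n128580 := (sb E94873 F206813)
theorem F331503 : act 2 n112893 = n128582 := (sb E94873 (iv2 F206811))
theorem F331504 : act 5 n112893 = n112897 := (sb E94873 F206777)
theorem F331505 : act 7 n112893 = n60465 := (sb E94873 (iv7 D128559))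
theorem F331506 : act 5 n112892 = n113085 := (sb E94874 F226908)
theorem F331507 : act 7 n112892 = n67557 := (sb E94874 (iv7 D144218))
theorem F331508 : act 4 n134864 = n67459 := (sb E94875 (iv4 D143998))
theorem F331509 : act 4 n143976 = n105405 := d18_3 F163453 F331467 (iv1 F331464) (iv5 D105405) F145381 F54597 F40548 F76720 D105390
theorem E94876 : n128541 = n114407 := ((c1_3 F331509 F161746 D114407 (iv2 F226631))).symm
theorem F331510 : act 2 n114407 = n143976 := (sb E94876 (iv2 F226631))
theorem F331511 : act 5 n114407 = n60459 := (sb E94876 (iv5 D128541))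
theorem F331512 : act 7 n114407 = n143973 := (sb E94876 (iv7 F226626))
theorem E94877 : n128546 = n114397 := ((c11_4 (iv7 F226632) F331509 F161747 D114397)).symm
theorem F331513 : act 2 n114397 = n143973 := (sb E94877 (iv2 F226625))
theorem F331514 : act 5 n114397 = n60460 := (sb E94877 (iv5 D128546))
theorem F331515 : act 7 n114397 = n143976 := (sb E94877 (iv7 F226632))
theorem F331516 : act 5 n157728 = n142013 := d16_5 F331509 (iv5 D105405) F145381 D75152 D157728 (iv4 F225052) D143973 (iv7 F331512) F331510
theorem F331517 : act 5 n157720 = n106905 := d16_1 D157720 F164776 D143976 F331509 (iv5 D105405) F145381 D75152 (iv7 F145384) (iv2 F145385)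
theorem F331518 : act 1 n116971 = n143976 := d17_8 (iv1 F179081) F179079 F323342 (iv5 F323345) (iv4 F175890) (iv5 F331471) (iv0 D116968) D116971 F331509
theorem E94878 : n141928 = n141862 := ((c17_2 (iv1 F180867) D141862 (iv1 D141928) F102404 (iv4 F85010) D116971 F331518 (iv5 D143976) F103311 (iv4 F180862))).symm
theorem F331519 : act 0 n141862 = n66535 := (sb E94878 (iv1 D141928))
theorem F331520 : act 1 n141862 = n140524 := (sb E94878 F224980)
theorem E94879 : n114513 = n65981 := (c17_5 (iv1 D157719) (iv5 D75147) (iv1 F54602) (iv5 F83502) (iv4 F178575) F101672 D66509 D141862 F331520 F331470)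
theorem E94880 : n140608 = n114326 := ((D140608).symm.trans (sb E94879 (iv1 F178576)))
theorem E94881 : n140609 = n114323 := ((D140609).symm.trans (sb E94879 F178577))
theorem E94882 : n157736 = n140610 := (((D140610).symm.trans (sb E94879 (iv2 F248603)))).symm
theorem E94883 : n140611 = n52857 := ((D140611).symm.trans (sb E94879 F178575))
theorem E94884 : n115780 = n52856 := (((iv7 F180157)).symm.trans (sb E94879 (iv7 D114513)))
theorem F331521 : act 1 n114326 = n65981 := (sb E94880 (iv0 D140608))
theorem F331522 : act 0 n114323 = n65981 := (sb E94881 (iv1 D140609))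
theorem F331523 : act 0 n140610 = n114510 := (sb E94882 (iv1 F248605))
theorem F331524 : act 1 n140610 = n114509 := (sb E94882 F248606)
theorem F331525 : act 4 n140610 = n75157 := (sb E94882 F248604)
theorem F331526 : act 7 n140610 = n75156 := (sb E94882 (iv7 D157736))
theorem F331527 : act 4 n52857 = n65981 := (sb E94883 (iv4 D140611))
theorem E94885 : n114511 = n53387 := ((D114511).symm.trans (sb E94884 (iv3 D115780)))
theorem E94886 : n114512 = n53504 := ((D114512).symm.trans (sb E94884 F180156))
theorem F331528 : act 7 n52856 = n65981 := (sb E94884 F180157)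
theorem F331529 : act 3 n53387 = n52856 := (sb E94885 (iv3 D114511))
theorem E94887 : n115781 = n52864 := ((D115781).symm.trans (sb E94885 F178574))
theorem E94888 : n157735 = n116087 := (((D116087).symm.trans (sb E94886 (iv2 F248602)))).symm
theorem F331530 : act 5 n53504 = n52856 := (sb E94886 (iv5 D114512))
theorem E94889 : n114531 = n65980 := ((D114531).symm.trans (sb E94887 F180158))
theorem E94890 : n114484 = n108777 := (((iv4 F178543)).symm.trans (sb E94887 F180159))
theorem E94891 : n114532 = n63380 := ((D114532).symm.trans (sb E94887 F180160))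
theorem F331531 : act 6 n52864 = n53387 := (sb E94887 (iv6 D115781))
theorem F331532 : act 5 n116087 = n75156 := (sb E94888 (iv5 D157735))
theorem F331533 : act 2 n65980 = n52864 := (sb E94889 (iv2 D114531))
theorem E94892 : n157744 = n140604 := ((((iv3 F223723)).symm.trans (sb E94889 (iv3 F248621)))).symm
theorem F331534 : act 3 n108777 = n52843 := (sb E94890 (iv3 D114484))
theorem F331535 : act 4 n108777 = n52864 := (sb E94890 F178543)
theorem E94893 : n134863 = n52865 := (((iv3 F217046)).symm.trans (sb E94891 F178592))
theorem F331536 : act 5 n63380 = n52864 := (sb E94891 (iv5 D114532))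
theorem E94894 : n134867 = n75159 := ((D134867).symm.trans (sb E94891 (iv7 F178593)))
theorem F331537 : act 2 n140604 = n75159 := (sb E94892 (iv2 D157744))
theorem F331538 : act 3 n52865 = n63380 := (sb E94893 F217046)
theorem E94895 : n114534 = n63378 := ((D114534).symm.trans (sb E94893 (iv6 D134863)))
theorem F331539 : act 7 n75159 = n63380 := (sb E94894 (iv7 D134867))
theorem E94896 : n134859 = n114535 := (((iv2 F217045)).symm.trans (sb E94895 (iv2 F178597)))
theorem E94897 : n134862 = n75160 := ((D134862).symm.trans (sb E94895 F178596))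
theorem F331540 : act 6 n63378 = n52865 := (sb E94895 (iv6 D114534))
theorem F331541 : act 2 n114535 = n63378 := (sb E94896 F217045)
theorem F331542 : act 5 n114535 = n63377 := (sb E94896 (iv5 D134859))
theorem F331543 : act 4 n75160 = n63378 := (sb E94897 (iv4 D134862))
theorem E94898 : n141862 = n114307 := ((c18_6 (iv1 D34413) (iv4 F37036) D48723 F94481 D52754 D114307 F331520 F331470 F248560 (iv5 D75152))).symm
theorem F331544 : act 0 n114307 = n66535 := (sb E94898 F331519)
theorem F331545 : act 1 n114307 = n140524 := (sb E94898 F331520)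
theorem F331546 : act 5 n114307 = n66509 := (sb E94898 (iv5 D141862))
theorem F331547 : act 5 n141859 = n127777 := d2_2 F331546 (iv2 F224903) F205417
theorem F331548 : act 5 n141854 = n127783 := d13_3 F205533 F331546 F224898
theorem E94899 : n141857 = n114320 := ((c2_2 F331548 F205532 (iv5 D141857) D141854)).symm
theorem F331549 : act 0 n114320 = n140524 := (sb E94899 F331465)
theorem F331550 : act 1 n114320 = n66535 := (sb E94899 F331466)
theorem F331551 : act 5 n114320 = n66508 := (sb E94899 (iv5 D141857))
theorem E94900 : n141854 = n116086 := ((c17_3 (iv1 F331524) F223724 (iv1 F180866) F331548 (iv4 D127783) (iv5 D60007) F46012 (iv5 F83355) F94479 (iv4 F178571))).symm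
theorem F331552 : act 2 n116086 = n66508 := (sb E94900 (iv2 D141854))
theorem F331553 : act 5 n116086 = n127783 := (sb E94900 F331548)
theorem F331554 : act 7 n116086 = n66509 := (sb E94900 (iv7 F224898))
theorem E94901 : n141859 = n116085 := (c15_4 (iv0 D116085) D116086 F331554 (iv2 F224903))
theorem F331555 : act 2 n116085 = n66509 := (sb E94901 F224903)
theorem F331556 : act 5 n116085 = n127777 := (sb E94901 F331547)
theorem F331557 : act 7 n116085 = n66508 := (sb E94901 (iv7 D141859))
theorem F331558 : act 5 n142469 = n114237 := d16_1 (iv4 F225384) (iv4 D114237) (iv5 D52726) (iv4 F114632) D60007 D127783 (iv5 F331553) F331554 (iv2 F331555)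
theorem E94902 : n142471 = n114419 := ((c17_1 (iv1 F178453) (iv5 D142471) D142469 F331558 (iv4 D114237) (iv5 D52726) F76721 (iv5 F82498) F82501 D112951)).symm
theorem F331559 : act 3 n114419 = n66801 := (sb E94902 F225385)
theorem F331560 : act 5 n114419 = n66800 := (sb E94902 (iv5 D142471))
theorem E94903 : n144048 = n114397 := (c18_9 (iv1 D60460) (iv4 F84417) D116085 (iv4 F225384) F331558 (iv4 D114237) F178015 F331469 D144048 F331514)
theorem F331561 : act 0 n114397 = n67491 := (sb E94903 (iv1 D144048))
theorem E94904 : n140527 = n127783 := (c17_7 (iv1 F103312) (iv5 F331514) F331561 (iv5 D67491) F49630 D65953 D140527 (iv5 F331553) F180866 (iv4 F103308))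
theorem F331562 : act 0 n127783 = n65953 := (sb E94904 (iv1 D140527))
theorem F331563 : act 1 n127783 = n141929 := (sb E94904 F224981)
theorem F331564 : act 6 n144051 = n143992 := d21_5 (iv5 F331514) F331561 (iv5 D67491) D67492 D144051 (iv5 D143992) (iv1 F103317) D112999 F331494 (iv1 F103312)
theorem E94905 : n144047 = n114407 := ((c15_4 (iv0 D144047) (iv0 F331561) F331515 (iv2 F331510))).symm
theorem F331565 : act 1 n114407 = n67491 := (sb E94905 (iv0 D144047))
theorem F331566 : act 4 n144170 = n114396 := d18_5 D67488 F223826 (iv1 D140729) (iv4 F103434) D144170 F178422 D114407 F331565 (iv5 D67491)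
theorem F331567 : act 4 n95986 = n114221 := d20_8 F331469 (iv1 F331565) (iv4 D114407) (iv3 F178433) F318217 (iv3 F306968) F147620 D95986 F178002 F163182
theorem F331568 : act 2 n114221 = n142752 := d1_1 F331567 F226682 (iv2 F306959)
theorem F331569 : act 7 n114221 = n142713 := d11_2 (iv7 F306961) F331567 F226685
theorem F331570 : act 1 n106725 = n142836 := d17_8 F226667 (iv5 D142434) (iv1 F165367) (iv5 F306960) F331567 (iv5 D114221) (iv0 F290344) (iv5 F164508) (iv4 F226666)
theorem F331571 : act 1 n112950 = n106725 := d15_0 F331570 (iv7 F228575) (iv2 F326247)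
theorem E94906 : n114078 = n106308 := ((c21_5 (iv5 D16915) D16912 F54362 D49134 D106308 F324168 D142836 (iv1 F331570) F164508 (iv6 D76349) (iv1 D34883))).symm
theorem F331572 : act 2 n106308 = n52653 := (sb E94906 (iv2 D114078))
theorem F331573 : act 3 n106308 = n78994 := (sb E94906 F177588)
theorem F331574 : act 4 n106308 = n66952 := (sb E94906 F324167)
theorem F331575 : act 6 n106308 = n66950 := (sb E94906 F324168)
theorem E94907 : n164485 = n142835 := ((c7_2 F331575 D142835 (iv6 D164485) (iv3 F331573))).symm
theorem F331576 : act 5 n142835 = n106742 := (sb E94907 F259224)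
theorem F331577 : act 6 n142835 = n78994 := (sb E94907 (iv6 D164485))
theorem F331578 : act 6 n164408 = n144913 := d21_3 F83149 D106517 (iv5 F290526) F227881 F331577 D164484 (iv1 F288037) D185824 F288136 (iv1 D114038)
theorem F331579 : act 3 n144915 = n164408 := d7_3 F331578 (iv3 D144913) D144915
theorem F331580 : act 7 n106143 = n164408 := d14_0 F331578 (iv7 F229103) F324400 F323401 D106143
theorem F331581 : act 7 n106517 = n113039 := d13_2 F331580 F290526 (iv5 F176097)
theorem F331582 : act 7 n130581 = n133419 := d11_2 F331581 F258978 (iv4 F259154)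
theorem F331583 : act 2 n113039 = n106518 := d15_3 F176102 F176103 F331581
theorem F331584 : act 2 n106517 = n113038 := d15_3 (iv0 D113038) D113039 (iv7 F331581)
theorem F331585 : act 2 n130580 = n133419 := d1_3 (iv4 F259154) F331584 F259103
theorem F331586 : act 7 n113038 = n106518 := d4_2 (iv7 F331581) F331584 (iv2 F331583)
theorem F331587 : act 7 n133420 = n130580 := d11_2 F331586 F288203 (iv4 F259103)
theorem F331588 : act 2 n130581 = n133420 := d4_3 F331587 F331585 (iv7 F331582)
theorem F331589 : act 2 n164470 = n106143 := d2_3 F176097 F331583 (iv5 F259195)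
theorem F331590 : act 4 n117366 = n114966 := d20_8 (iv4 F83752) F178922 F83207 (iv3 F120139) D164408 (iv3 F331579) F227886 (iv1 F242773) (iv3 D114966) (iv1 D53049)
theorem F331591 : act 2 n114966 = n147245 := d1_1 F331590 (iv4 D147245) (iv2 F230844)
theorem F331592 : act 3 n114895 = n117367 := d5_3 F331590 (iv3 D114966) (iv4 F178969) (iv4 D117367) D117366
theorem F331593 : act 6 n114966 = n143060 := d10_2 (iv6 F319179) F331590 (iv4 D143060)
theorem E94908 : n121341 = n117192 := (c11_3 (iv7 F230845) F331590 F193550 F230846)
theorem F331594 : act 3 n117192 = n55980 := (sb E94908 F193549)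
theorem F331595 : act 6 n117192 = n55977 := (sb E94908 (iv6 D121341))
theorem F331596 : act 7 n117192 = n114966 := (sb E94908 (iv7 F193550))
theorem E94909 : n114966 = n114770 := (c20_1 F331590 (iv1 D114770) F318646 F85214 (iv1 F41410) D31907 D68592 (iv1 F229594) F229243 (iv3 F105230) (iv1 F242773))
theorem F331597 : act 2 n114770 = n147245 := (sb E94909 F331591)
theorem F331598 : act 3 n114770 = n53049 := (sb E94909 (iv3 D114966))
theorem F331599 : act 4 n114770 = n117366 := (sb E94909 (iv4 F331590))
theorem F331600 : act 6 n114770 = n143060 := (sb E94909 F331593)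
theorem F331601 : act 7 n114770 = n117192 := (sb E94909 (iv7 F331596))
theorem F331602 : act 0 n117182 = n114770 := d20_1 (iv4 F183339) F331599 (iv3 D117366) (iv1 F183718) F183714 (iv4 F230179) (iv1 F230180) D146956 F230343 (iv1 D117184)
theorem F331603 : act 5 n143060 = n145043 := d21_6 D67982 (iv1 F104648) F104646 D117182 F331602 F331600 (iv1 D145043) (iv5 D67993) (iv6 D31642) D31639
theorem F331604 : act 7 n117182 = n114670 := d15_2 D114770 (iv0 F331602) F178786
theorem F331605 : act 4 n114670 = n117185 := d11_1 F331604 (iv7 D117185) (iv4 F183339)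
theorem F331606 : act 1 n117192 = n114670 := d15_1 D117192 (iv7 F331604) F183338
theorem F331607 : act 0 n147245 = n114670 := d18_2 D69026 D147245 F331605 (iv5 F310976) F310975 F148700 (iv4 F234575) (iv0 D147253) (iv5 D69028)
theorem E94910 : n147245 = n117191 := (c15_1 (iv0 F331607) (iv0 D117191) (iv7 F318647) (iv2 F178786))
theorem F331608 : act 0 n117191 = n114670 := (sb E94910 F331607)
theorem F331609 : act 2 n117191 = n114770 := (sb E94910 (iv2 F331597))
theorem F331610 : act 4 n117191 = n69026 := (sb E94910 (iv4 D147245))
theorem F331611 : act 3 n117351 = n117191 := d5_5 F331610 F325810 (iv4 D71537) (iv3 F85355) (iv4 F183779)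
theorem F331612 : act 6 n117349 = n117191 := d10_0 F331610 (iv6 F326633) F193615
theorem E94911 : n134386 = n117380 := ((c20_6 (iv4 F85210) D117191 F331610 F325810 D151761 F323405 (iv4 D134386) (iv1 F329412) (iv4 F228933) (iv3 D117201) (iv1 D54016))).symm
theorem F331613 : act 4 n117380 = n63131 := (sb E94911 (iv4 D134386))
theorem E94912 : n134385 = n75879 := (c5_2 F331613 D134385 F230317 (iv3 F230318) (iv4 F238674) F323405)
theorem E94913 : n158957 = n63131 := ((D158957).symm.trans (sb E94912 (iv3 D134385)))
theorem F331614 : act 3 n63131 = n75879 := (sb E94913 (iv3 D158957))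
theorem E94914 : n134387 = n117450 := (c10_3 (iv6 F183986) F331613 D134387 F183951)
theorem F331615 : act 6 n117450 = n63131 := (sb E94914 (iv6 D134387))
theorem E94915 : n134662 = n117483 := (c16_6 F331613 F214209 (iv4 F214204) F315479 (iv4 F315477) D134662 (iv4 D117483) (iv5 D54135) D54136 (iv2 F183985))
theorem F331616 : act 5 n117483 = n63274 := (sb E94915 (iv5 D134662))
theorem F331617 : act 4 n134665 = n149666 := d16_2 F98494 D134665 F235305 F331613 F214209 (iv4 F214204) F315479 (iv7 F315443) (iv2 D133858)
theorem E94916 : n142545 = n134375 := ((c17_5 (iv1 F329412) F329414 (iv1 F98411) D63127 D134375 (iv5 D142545) (iv0 F318659) (iv5 D117479) (iv0 F183984) F331613)).symm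
theorem F331618 : act 5 n134375 = n66826 := (sb E94916 (iv5 D142545))
theorem F331619 : act 5 n134272 = n117478 := d18_4 D29848 (iv4 F208351) (iv1 F208629) (iv4 F216300) (iv4 D117478) (iv0 F183984) F331613 (iv0 D63131) (iv5 D29851)
theorem F331620 : act 5 n117371 = n156479 := d19_5 D130750 (iv5 F214209) (iv4 F331613) (iv3 F323405) (iv1 F324742) (iv4 D156479) F111679 D74415 F111683 F53723 F38895 F45692 (iv5 F45686) (iv4 F79303) (iv3 F79308) (iv1 F38347) (iv5 F23082) D29041 D61348
theorem F331621 : act 3 n117478 = n134181 := d20_3 (iv4 F331613) F183984 D117478 (iv1 D134181) F98353 F80886 (iv1 F80887) (iv4 D29855) (iv3 F48003) D63131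
theorem E94917 : n134182 = n75957 := (c20_1 D134182 (iv1 D75957) (iv4 F113791) (iv3 D75881) D75879 (iv3 F331614) (iv4 F331613) F183984 D117478 F331621 (iv1 D134181))
theorem E94918 : n159057 = n63036 := ((D159057).symm.trans (sb E94917 (iv4 D134182)))
theorem F331622 : act 4 n63036 = n75957 := (sb E94918 (iv4 D159057))
theorem E94919 : n146951 = n134393 := (c20_5 F324744 (iv1 F114834) (iv4 F323335) (iv3 F162420) (iv1 F234631) (iv3 D134393) (iv4 D63133) D63131 (iv4 F331613) (iv3 F323405) (iv1 F324742))
theorem F331623 : act 1 n134393 = n105761 := (sb E94919 F234631)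
theorem F331624 : act 2 n134393 = n117196 := (sb E94919 F230350)
theorem E94920 : n68884 = n63141 := (((F216383).symm.trans (sb E94919 (iv4 D146951)))).symm
theorem E94921 : n146830 = n134422 := (((D134422).symm.trans (sb E94920 (iv1 F230181)))).symm
theorem E94922 : n134423 = n32038 := ((D134423).symm.trans (sb E94920 (iv0 D68884)))
theorem E94923 : n146827 = n134424 := (((D134424).symm.trans (sb E94920 (iv2 F230346)))).symm
theorem E94927 : n146828 = n51311 := (((F98422).symm.trans (sb E94920 (iv7 F230349)))).symm
theorem E94928 : n111253 = n68885 := (((iv1 F216394)).symm.trans (sb E94921 (iv1 F230180)))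
theorem F331625 : act 2 n134422 = n68887 := (sb E94921 F230178)
theorem F331626 : act 4 n134422 = n68839 := (sb E94921 F230179)
theorem F331627 : act 7 n134422 = n68835 := (sb E94921 (iv7 D146830))
theorem F331628 : act 0 n32038 = n63141 := (sb E94922 (iv1 D134423))
theorem E94929 : n111255 = n68887 := (((iv1 F216399)).symm.trans (sb E94923 F230175))
theorem E94930 : n111254 = n68835 := ((F216397).symm.trans (sb E94923 (iv0 D146827)))
theorem F331629 : act 4 n134424 = n117196 := (sb E94923 F230174)
theorem E94931 : n111257 = n73960 := ((D111257).symm.trans (sb E94927 (iv6 F244506)))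
theorem F331630 : act 1 n68885 = n134422 := (sb E94928 F216394)
theorem F331631 : act 2 n68885 = n51311 := (sb E94928 F172555)
theorem E94932 : n146955 = n111180 := ((D146955).symm.trans (sb E94928 F172556))
theorem E94933 : n146957 = n51310 := ((D146957).symm.trans (sb E94928 (iv5 D111253)))
theorem F331632 : act 7 n68885 = n134424 := (sb E94928 (iv7 F216396))
theorem F331633 : act 0 n68887 = n51311 := (sb E94929 (iv1 D111255))
theorem F331634 : act 1 n68887 = n134424 := (sb E94929 F216399)
theorem F331635 : act 0 n68835 = n134424 := (sb E94930 (iv1 F216397))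
theorem F331636 : act 1 n68835 = n51311 := (sb E94930 (iv0 D111254))
theorem E94934 : n155497 = n51315 := ((D155497).symm.trans (sb E94931 F172557))
theorem E94935 : n155499 = n134011 := ((D155499).symm.trans (sb E94931 (iv5 F215942)))
theorem F331637 : act 6 n73960 = n51311 := (sb E94931 (iv6 D111257))
theorem E94936 : n119862 = n57713 := ((F244510).symm.trans (sb E94931 F329921))
theorem F331638 : act 3 n111180 = n68885 := (sb E94932 (iv3 D146955))
theorem F331639 : act 5 n51310 = n68885 := (sb E94933 (iv5 D146957))
theorem F331640 : act 3 n51315 = n73960 := (sb E94934 (iv3 D155497))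
theorem F331641 : act 0 n134011 = n148518 := (sb E94935 F244504)
theorem F331642 : act 1 n134011 = n117847 := (sb E94935 F244505)
theorem F331643 : act 2 n134011 = n148531 := (sb E94935 F244512)
theorem F331644 : act 5 n134011 = n73960 := (sb E94935 (iv5 D155499))
theorem F331645 : act 7 n134011 = n148530 := (sb E94935 (iv7 F244522))
theorem E94937 : n123842 = n73921 := ((D123842).symm.trans (sb E94936 (iv1 F189201)))
theorem E94938 : n123843 = n55164 := ((D123843).symm.trans (sb E94936 (iv0 D119862)))
theorem E94939 : n123844 = n73961 := ((D123844).symm.trans (sb E94936 (iv2 F244509)))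
theorem E94940 : n148530 = n123846 := (((D123846).symm.trans (sb E94936 (iv5 F244521)))).symm
theorem F331646 : act 7 n57713 = n73960 := (sb E94936 (iv7 F244510))
theorem F331647 : act 1 n73921 = n57713 := (sb E94937 (iv0 D123842))
theorem F331648 : act 0 n55164 = n57713 := (sb E94938 (iv1 D123843))
theorem F331649 : act 2 n73961 = n57713 := (sb E94939 (iv2 D123844))
theorem F331650 : act 1 n123846 = n69608 := (sb E94940 (iv0 D148530))
theorem F331651 : act 2 n123846 = n155502 := (sb E94940 (iv2 F244520))
theorem F331652 : act 7 n123846 = n134011 := (sb E94940 (iv7 F331645))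
theorem F331653 : act 2 n123838 = n155500 := d0_5 (iv3 D155500) F331649 (iv3 D57713) D57712 D123838
theorem F331654 : act 2 n123845 = n155501 := d1_3 (iv4 D155501) F331649 D123845
theorem F331655 : act 2 n123847 = n155503 := d3_3 (iv6 D155503) F331649 D123847
theorem F331656 : act 7 n155498 = n123845 := d4_0 F331654 F244513 (iv2 F244511)
theorem F331657 : act 1 n154434 = n155498 := d15_1 F244516 F331656 F331654
theorem F331658 : act 4 n119576 = n128274 := d20_2 D55030 (iv1 F188564) (iv3 F244503) (iv1 F331657) F242475 (iv4 F231509) (iv1 F231512) (iv4 D73282) (iv3 F190154) (iv1 F87023)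
theorem E94941 : n134400 = n119576 := (c5_6 F331658 (iv3 F244503) (iv4 D155498) (iv3 F331640) (iv4 F98424) (iv3 F216389))
theorem F331659 : act 3 n119576 = n63146 := (sb E94941 F216389)
theorem F331660 : act 6 n119576 = n63135 := (sb E94941 (iv6 D134400))
theorem F331661 : act 6 n128274 = n134396 := d10_2 (iv6 F331660) F331658 F216387
theorem F331662 : act 6 n111256 = n155498 := d7_2 F331661 F216386 F244503
theorem F331663 : act 2 n146956 = n111256 := d3_3 F331662 F244511 F230344
theorem F331664 : act 2 n134396 = n117201 := d0_3 (iv3 F230343) F331663 (iv3 F216386) (iv3 D117201) (iv2 F187652)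
theorem F331665 : act 7 n117201 = n134383 := d4_2 D134396 F331664 F216381
theorem F331666 : act 1 n117201 = n134391 := d15_0 (iv0 D134391) D134396 F331664
theorem F331667 : act 3 n134383 = n117183 := d8_1 F331665 F187656 D117201
theorem F331668 : act 1 n134392 = n117201 := d15_1 D134392 F331665 F216381
theorem F331669 : act 5 n134669 = n117201 := d16_7 (iv4 D63133) (iv5 D29851) F23694 D14199 D29900 D63276 D134669 F331665 F216381
theorem F331670 : act 3 n117203 = n134669 := d6_3 F331669 (iv3 D117201) D117203
theorem E94942 : n137418 = n134392 := ((c17_3 F330256 F331669 (iv1 F331668) F329168 (iv4 F330254) (iv5 D134643) D134641 (iv5 F330258) F330293 D173734)).symm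
theorem F331671 : act 2 n134392 = n113810 := (sb E94942 F329166)
theorem F331672 : act 3 n134392 = n127471 := (sb E94942 F329167)
theorem F331673 : act 4 n134392 = n64586 := (sb E94942 (iv4 D137418))
theorem F331674 : act 5 n134392 = n160201 := (sb E94942 F329168)
theorem F331675 : act 6 n134392 = n64600 := (sb E94942 F220624)
theorem E94943 : n175337 = n63276 := (c18_3 D66825 (iv4 F322876) D175337 D134669 F331669 F228933 F329412 (iv4 F331613) (iv0 D117380) F318483)
theorem E94944 : n134668 = n83733 := ((D134668).symm.trans (sb E94943 (iv0 D175337)))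
theorem F331676 : act 0 n83733 = n63276 := (sb E94944 (iv1 D134668))
theorem F331677 : act 6 n141467 = n173734 := d21_9 F331669 (iv1 F331668) F331674 (iv6 D160201) F115146 (iv6 F319634) F182083 (iv1 F180701) (iv5 F224514) F330256
theorem F331678 : act 6 n128088 = n134669 := d21_5 (iv5 D70047) F55301 D74172 F110917 D128088 F331669 (iv1 F331668) F331674 (iv6 D160201) F115146
theorem E94945 : n134670 = n119365 := (c10_3 F331678 (iv4 D134669) D134670 (iv4 F206151))
theorem F331679 : act 6 n119365 = n63276 := (sb E94945 (iv6 D134670))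
theorem E94946 : n178536 = n134627 := ((c3_2 F331679 (iv2 F216586) (iv6 D178536) (iv2 F206155))).symm
theorem F331680 : act 6 n134627 = n85008 := (sb E94946 (iv6 D178536))
theorem F331681 : act 6 n118566 = n144512 := d14_3 F206154 F331679 (iv7 F186482) (iv7 F227364) F319629
theorem F331682 : act 3 n144512 = n118570 := d7_1 F331681 (iv6 D118570) (iv3 F186481)
theorem F331683 : act 5 n144512 = n114193 := d12_1 F331681 (iv6 D114193) F83297 (iv6 F307026) D118566
theorem F331684 : act 4 n112925 = n144505 := d16_4 (iv4 F227361) F331683 F177981 (iv5 F175867) F227353 (iv4 F181715) D142001 F225025 (iv2 F224362)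
theorem F331685 : act 6 n114067 = n144515 := d21_5 (iv5 F86967) F86968 (iv5 D52646) D52647 D114067 (iv5 D144515) D144512 F331683 (iv6 D114193) F83299
theorem F331686 : act 5 n114201 = n144513 := d9_8 (iv5 F331683) F227361 (iv5 D141340) (iv4 F181709) (iv5 F227347) F330336 F175878 (iv4 F177990) F227367 (iv5 D142001) F181715 (iv5 F227353) (iv4 F331684) F175867 (iv4 F177981)
theorem F331687 : act 6 n144555 = n107602 := d21_9 (iv5 D107638) (iv1 D49726) D49728 (iv6 F328858) (iv1 F83300) D114193 (iv5 F331683) (iv1 F227362) D144555 (iv1 F166248)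
theorem E94947 : n142512 = n107676 := ((c3_3 F331687 F166015 D107676 (iv2 F227418))).symm
theorem F331688 : act 2 n107676 = n144555 := (sb E94947 (iv2 F227418))
theorem E94948 : n145896 = n115197 := ((((iv4 F179400)).symm.trans (sb E94947 (iv4 F229064)))).symm
theorem F331689 : act 5 n107676 = n66813 := (sb E94947 (iv5 D142512))
theorem F331690 : act 7 n107676 = n144515 := (sb E94947 (iv7 F227373))
theorem F331691 : act 1 n115197 = n68412 := (sb E94948 (iv0 D145896))
theorem F331692 : act 5 n115197 = n142486 := (sb E94948 (iv5 F229065))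
theorem F331693 : act 4 n115133 = n144555 := d10_3 F331687 F166016 D115133
theorem F331694 : act 5 n107603 = n144556 := d12_3 F331687 (iv5 D107602) D107603 (iv6 D144556) D144555
theorem E94949 : n142513 = n107679 := (c2_2 F331694 F227420 (iv5 D107679) (iv2 F166018))
theorem F331695 : act 2 n107679 = n144556 := (sb E94949 (iv2 F227420))
theorem F331696 : act 4 n107679 = n66815 := (sb E94949 F225411)
theorem F331697 : act 6 n107679 = n66813 := (sb E94949 (iv6 D142513))
theorem F331698 : act 4 n144559 = n110661 := d16_4 (iv4 F166019) F331694 F227421 D144559 (iv5 D110661) (iv4 D51027) F80302 (iv7 D49748) (iv2 F78546)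
theorem F331699 : act 0 n144556 = n136742 := d17_2 F246288 F331694 (iv5 D136742) F100087 F48694 (iv0 F79623) F79622 F165262 D156601
theorem F331700 : act 1 n120676 = n144351 := d18_8 (iv1 F219553) F219555 (iv1 D107605) (iv4 F166019) F331694 F227421 (iv0 F322639) (iv4 F192378) F227086
theorem F331701 : act 1 n136454 = n120676 := d15_0 F331700 (iv7 F227087) (iv2 F219557)
theorem F331702 : act 5 n126708 = n120676 := d17_5 F166075 (iv5 F80302) (iv1 F80312) (iv5 F93850) (iv4 F203918) F331700 F227086 (iv0 F167738) (iv4 D108228)
theorem F331703 : act 6 n179223 = n144351 := d21_3 F113958 D85531 D179223 (iv1 F331700) (iv6 D120676) (iv5 F151703) F151705 (iv5 F108410) D149668 F315585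
theorem F331704 : act 6 n144350 = n166541 := d21_3 (iv5 F331702) (iv1 F203919) D144350 (iv1 D166541) (iv6 F317871) F113958 D85531 D179223 F331703 (iv1 F331700)
theorem F331705 : act 6 n178231 = n120670 := d21_3 F122669 D84830 D178231 (iv1 F192363) D120676 (iv5 F331702) (iv1 F203919) D144350 F331704 (iv1 D166541)
theorem F331706 : act 2 n128090 = n178231 := d3_3 F331705 F192365 (iv6 F206159)
theorem E94950 : n182965 = n178231 := (c7_4 F331705 (iv3 F192364) (iv6 F309575) D182965)
theorem F331707 : act 3 n178231 = n87352 := (sb E94950 (iv3 D182965))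
theorem F331708 : act 4 n119416 = n178231 := d10_3 F331705 F192362 (iv6 F188163)
theorem F331709 : act 5 n150241 = n178232 := d12_3 F331705 F192361 D150241 (iv6 D178232) D178231
theorem F331710 : act 0 n116500 = n178231 := d21_4 (iv5 F248512) (iv1 D157707) F112674 D116500 F331705 F192361 (iv1 F151722) F151719 (iv6 F312524) (iv1 F182176)
theorem F331711 : act 5 n124628 = n119356 := d17_3 F331710 (iv5 D178231) (iv1 F199326) (iv4 D119356) (iv5 D54925) (iv0 D26565) D26567 F317982 (iv4 F181820)
theorem E94951 : n178533 = n160684 := (c20_4 (iv4 F331708) (iv1 F278232) (iv4 D178534) D178533 (iv1 F315400) (iv3 D146732) F181016 (iv1 D53994) (iv4 F85172) (iv3 F181819) F331710)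
theorem F331712 : act 3 n160684 = n85008 := (sb E94951 (iv3 D178533))
theorem F331713 : act 1 n119361 = n178231 := d15_0 (iv0 F331710) F317986 (iv2 F188001)
theorem E94952 : n178544 = n178291 := (c20_4 (iv4 D119361) (iv1 F86884) (iv4 F130353) (iv3 F278244) (iv1 F321712) F321713 (iv4 F137671) (iv1 D87351) D87352 (iv3 F331707) (iv1 F331713))
theorem F331714 : act 3 n178291 = n85012 := (sb E94952 F278244)
theorem F331715 : act 7 n178291 = n85010 := (sb E94952 (iv7 D178544))
theorem E94953 : n121712 = n86310 := (c21_2 F321874 (iv1 F194262) D180693 F281226 (iv1 F330660) (iv6 F320148) (iv5 F151714) F151715 (iv5 F192361) (iv6 F331705) (iv1 F331713))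
theorem E94954 : n180691 = n56245 := ((D180691).symm.trans (sb E94953 (iv1 D121712)))
theorem E94955 : n180692 = n79906 := ((D180692).symm.trans (sb E94953 F194262))
theorem E94956 : n164008 = n121711 := (((D121711).symm.trans (sb E94954 (iv1 F281229)))).symm
theorem F331716 : act 1 n56245 = n86310 := (sb E94954 (iv0 D180691))
theorem F331717 : act 0 n79906 = n86310 := (sb E94955 (iv1 D180692))
theorem F331718 : act 2 n121711 = n79905 := (sb E94956 (iv2 F330289))
theorem F331719 : act 6 n121711 = n180653 := (sb E94956 (iv6 F281192))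
theorem F331720 : act 7 n121711 = n78793 := (sb E94956 (iv7 D164008))
theorem F331721 : act 3 n95361 = n121711 := d8_3 F331720 (iv3 F330287) F148378
theorem E94957 : n160540 = n63268 := (c21_1 D160540 D134646 (iv5 F330282) (iv6 D166441) F331717 (iv6 D86310) (iv5 D39933) (iv1 D18883) (iv5 F28014) (iv6 F55902) D76972)
theorem E94958 : n134648 = n76972 := ((D134648).symm.trans (sb E94957 (iv5 D160540)))
theorem E94959 : n160547 = n160537 := (((D160537).symm.trans (sb E94958 (iv2 F330223)))).symm
theorem F331722 : act 5 n76972 = n63268 := (sb E94958 (iv5 D134648))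
theorem F331723 : act 0 n160537 = n76976 := (sb E94959 (iv1 F253625))
theorem F331724 : act 1 n160537 = n76974 := (sb E94959 (iv0 D160547))
theorem F331725 : act 3 n160537 = n158221 := (sb E94959 F330224)
theorem F331726 : act 5 n160537 = n118636 := (sb E94959 (iv5 F330222))
theorem E94960 : n160761 = n76973 := ((((iv7 F253623)).symm.trans (sb E94959 F330225))).symm
theorem E94961 : n160543 = n77128 := ((D160543).symm.trans (sb E94960 F253915))
theorem E94962 : n160545 = n77127 := ((D160545).symm.trans (sb E94960 (iv5 D160761)))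
theorem F331727 : act 3 n77128 = n76973 := (sb E94961 (iv3 D160543))
theorem F331728 : act 5 n77127 = n76973 := (sb E94962 (iv5 D160545))
theorem E94963 : n160548 = n160542 := ((c2_2 F331728 (iv2 F253624) F330205 F330199)).symm
theorem F331729 : act 0 n160542 = n76974 := (sb E94963 (iv1 D160548))
theorem F331730 : act 1 n160542 = n76976 := (sb E94963 F253626)
theorem F331731 : act 5 n160542 = n134649 := (sb E94963 F330205)
theorem E94964 : n160546 = n137318 := (c12_3 F327821 F331728 D160546 F220482 F100488 (iv5 F204227))
theorem F331732 : act 6 n137318 = n76973 := (sb E94964 (iv6 D160546))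
theorem E94965 : n160759 = n134646 := ((c21_10 F331728 (iv1 D76973) F317228 (iv6 F317230) D86117 (iv6 F330243) (iv5 F319104) F319101 (iv5 F330262) (iv6 F330268) (iv1 D160759))).symm
theorem F331733 : act 0 n134646 = n77127 := (sb E94965 (iv1 D160759))
theorem E94966 : n172375 = n126972 := (c21_5 (iv5 F330242) F322452 (iv5 D82542) D82543 D172375 F327821 F331728 (iv1 D76973) F317228 (iv6 F317230) D86117)
theorem F331734 : act 1 n126972 = n82543 := (sb E94966 (iv0 D172375))
theorem F331735 : act 5 n155793 = n155091 := d21_8 D83184 (iv1 F319510) (iv5 F331728) (iv6 F327821) (iv1 F320672) F318539 (iv5 D155795) D155793 F243914 (iv1 F128235)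
theorem F331736 : act 2 n173290 = n155793 := d2_3 F331735 F243912 (iv5 F271675)
theorem F331737 : act 3 n174400 = n155793 := d6_3 F331735 F243913 (iv5 F273268)
theorem F331738 : act 7 n155090 = n155793 := d13_0 F331735 (iv7 D155091) D155090
theorem F331739 : act 4 n105625 = n155793 := d16_2 F78301 D105625 F331735 F328944 (iv5 F328525) F209091 F95706 (iv7 D49549) (iv2 F78299)
theorem F331740 : act 5 n173289 = n107240 := d9_10 (iv5 F331735) (iv4 F331739) (iv5 D105625) (iv4 F78301) F78302 (iv4 F99714) F326280 (iv4 F328139) D82928 D173289 F165294 (iv5 F95706) (iv4 F209091) F328525 (iv4 F328944)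
theorem F331741 : act 0 n155793 = n173288 := d21_1 (iv5 F331735) (iv5 F303502) (iv6 D172155) (iv1 D82446) (iv6 D37825) (iv5 F52455) D71879 (iv5 F108368) (iv6 F312382) (iv1 F243918)
theorem F331742 : act 2 n155796 = n173288 := d15_3 (iv0 F331741) (iv0 D155793) D155796
theorem F331743 : act 3 n173288 = n137315 := d0_2 (iv3 F244801) F331742 F220475 (iv3 F312223) F189637
theorem F331744 : act 7 n173288 = n155788 := d4_2 D155796 F331742 F244795
theorem F331745 : act 1 n173290 = n155788 := d15_1 F318951 (iv7 F331744) (iv2 F331742)
theorem F331746 : act 1 n155788 = n155090 := d15_1 F331745 F331738 (iv2 F331736)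
theorem E94967 : n127030 = n126700 := ((c21_5 F271675 (iv1 F307986) (iv5 F224814) (iv6 D141804) (iv1 F323661) F204268 (iv5 D64294) (iv1 F111274) (iv5 F324658) D155788 (iv1 F331745))).symm
theorem F331747 : act 2 n126700 = n136721 := (sb E94967 (iv2 F219870))
theorem F331748 : act 5 n126700 = n59611 := (sb E94967 (iv5 D127030))
theorem F331749 : act 6 n126700 = n64294 := (sb E94967 F204268)
theorem F331750 : act 3 n184361 = n126700 := d7_3 F331749 F331268 D184361
theorem F331751 : act 5 n127027 = n184361 := d6_0 F331750 F331748 (iv3 F204267)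
theorem E94968 : n139484 = n87929 := (c20_2 D126787 (iv1 F222673) (iv4 F286290) F331750 (iv1 D126700) (iv3 D59450) (iv4 D28234) (iv1 F22627) D13490 D28254 D59500)
theorem E94969 : n184362 = n65460 := ((D184362).symm.trans (sb E94968 (iv1 D139484)))
theorem E94970 : n184363 = n126787 := ((D184363).symm.trans (sb E94968 F222673))
theorem F331752 : act 1 n65460 = n87929 := (sb E94969 (iv0 D184362))
theorem F331753 : act 0 n126787 = n87929 := (sb E94970 (iv1 D184363))
theorem F331754 : act 7 n139464 = n93323 := d15_2 (iv0 F331753) F222658 F143911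
theorem F331755 : act 2 n184303 = n139464 := d4_3 F331754 F143911 (iv7 F286247)
theorem F331756 : act 3 n93323 = n139459 := d8_1 F331754 (iv7 F222652) D139464
theorem F331757 : act 5 n184063 = n139464 := d13_3 F331754 F143912 (iv7 F286009)
theorem E94971 : n154128 = n139464 := (c14_6 F331754 (iv6 D93323) F68585 (iv6 F75729) (iv7 F306636) D154128)
theorem F331758 : act 6 n139464 = n72980 := (sb E94971 (iv6 D154128))
theorem E94972 : n154125 = n139465 := (c7_2 F331758 D154125 (iv6 D139465) D139464)
theorem F331759 : act 3 n139465 = n72980 := (sb E94972 (iv3 D154125))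
theorem F331760 : act 5 n101054 = n139465 := d6_0 F331759 F306635 (iv3 F155723)
theorem F331761 : act 7 n101053 = n139465 := d8_0 F331759 F306636 (iv3 F155720)
theorem F331762 : act 0 n139465 = n145419 := d20_4 D123662 F242200 (iv4 D154126) (iv3 F331759) (iv3 D145419) (iv4 D68175) (iv1 F93920) (iv4 F329211) (iv3 F62339) (iv1 F304418)
theorem E94973 : n150090 = n145421 := ((c20_2 F228445 D145421 (iv4 D150090) F107089 D99447 F306450 D123662 F242200 (iv4 D154126) (iv3 F331759) F331762)).symm
theorem F331763 : act 2 n145421 = n149019 := (sb E94973 F236188)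
theorem F331764 : act 4 n145421 = n70621 := (sb E94973 (iv4 D150090))
theorem F331765 : act 6 n145421 = n99435 := (sb E94973 F236189)
theorem F331766 : act 4 n150088 = n145383 := d20_2 F331764 D150088 (iv3 D145383) (iv1 D68163) F50036 F24591 D14929 D31738 D68177 D145421
theorem F331767 : act 4 n99447 = n140371 := d20_0 (iv1 D140371) F329204 F328874 F104323 D145419 F228445 D145421 F331764 F107089 D99447
theorem F331768 : act 2 n140371 = n100954 := d1_1 F331767 (iv4 D100954) (iv2 F156760)
theorem F331769 : act 7 n140371 = n100134 := d11_2 (iv7 F156761) F331767 F155571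
theorem F331770 : act 1 n140371 = n99314 := d18_6 (iv1 F275137) F311766 (iv1 F311765) (iv4 F308329) F153183 F331767 (iv4 D99314) (iv0 F151926) (iv5 D98531)
theorem F331771 : act 7 n99314 = n140365 := d15_2 D140371 F331770 F223476
theorem F331772 : act 3 n140571 = n99314 := d8_3 F331771 F223477 D140571
theorem F331773 : act 4 n140365 = n99315 := d11_1 F331771 (iv7 D99315) D99314
theorem F331774 : act 6 n106864 = n92927 := d14_3 F331771 (iv6 D140365) (iv7 F164687) F292043 (iv6 F152913)
theorem F331775 : act 1 n100134 = n140365 := d15_1 D100134 (iv7 F331771) F152912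
theorem F331776 : act 3 n115954 = n99315 := d20_5 D101214 (iv1 F306640) (iv4 D72982) (iv3 F109472) (iv1 F327042) (iv4 F331773) (iv1 F331775) F155571 D100957 F184733
theorem E94974 : n107505 = n100961 := ((c20_4 F155571 (iv1 D47047) D47048 D100961 (iv1 F165856) (iv3 F331034) F221694 F330023 (iv4 F101666) (iv3 F223477) (iv1 F331775))).symm
theorem F331777 : act 0 n100961 = n68174 := (sb E94974 (iv1 F165856))
theorem F331778 : act 1 n100961 = n49661 := (sb E94974 (iv0 D107505))
theorem F331779 : act 2 n100961 = n68171 := (sb E94974 (iv2 F172228))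
theorem F331780 : act 7 n100961 = n68172 := (sb E94974 F172227)
theorem E94975 : n145410 = n100963 := (c8_2 F331780 D145410 (iv7 D100963) D100961)
theorem F331781 : act 3 n100963 = n68172 := (sb E94975 (iv3 D145410))
theorem F331782 : act 0 n126179 = n145411 := d20_7 (iv4 D100131) (iv1 D46738) D46739 (iv3 F329675) (iv1 F101559) D65991 (iv4 F202910) (iv4 D145411) (iv3 F331781) (iv1 F155578)
theorem F331783 : act 5 n145411 = n173848 := d19_1 F331782 F299350 F248682 (iv1 F296412) D123196 F330169 F128294 (iv1 F113618) (iv5 D75762) F54895 (iv3 F54894) F297342 (iv5 F324196) F47642 F168078 (iv1 D28094) D28095 D59147 D126179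
theorem E94976 : n145415 = n140878 := (c20_4 (iv4 D145411) (iv1 D68172) D68173 D145415 F223936 F182953 F85067 (iv1 F45400) D59147 D126179 F331782)
theorem F331784 : act 3 n140878 = n68173 := (sb E94976 (iv3 D145415))
theorem E94977 : n117030 = n107152 := (c15_3 (iv0 F228442) (iv0 F331782) F202912 (iv2 F175349))
theorem F331785 : act 3 n107152 = n53935 := (sb E94977 (iv3 D117030))
theorem E94978 : n140378 = n49503 := ((((iv4 D107152)).symm.trans (sb E94977 (iv4 F223488)))).symm
theorem F331786 : act 7 n107152 = n126179 := (sb E94977 (iv7 F202912))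
theorem E94979 : n107148 = n65887 := (((iv3 F165124)).symm.trans (sb E94978 (iv3 D140378)))
theorem E94980 : n107153 = n65991 := ((D107153).symm.trans (sb E94978 F223489))
theorem F331787 : act 3 n65887 = n49503 := (sb E94979 F165124)
theorem E94981 : n140379 = n49500 := ((D140379).symm.trans (sb E94979 (iv5 D107148)))
theorem E94982 : n138464 = n107200 := (((iv6 F221665)).symm.trans (sb E94979 (iv6 F165216)))
theorem E94983 : n140641 = n112682 := ((D140641).symm.trans (sb E94980 (iv1 F175347)))
theorem E94984 : n140642 = n112681 := ((D140642).symm.trans (sb E94980 F175352))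
theorem E94985 : n140643 = n112684 := ((D140643).symm.trans (sb E94980 (iv2 F175350)))
theorem E94986 : n140644 = n49504 := ((D140644).symm.trans (sb E94980 F165126))
theorem F331788 : act 7 n65991 = n49503 := (sb E94980 (iv7 D107153))
theorem E94987 : n143931 = n107146 := (((D107146).symm.trans (sb E94981 (iv1 F226570)))).symm
theorem E94988 : n107145 = n65989 := (((iv2 F165123)).symm.trans (sb E94981 F223490))
theorem F331789 : act 5 n49500 = n65887 := (sb E94981 (iv5 D140379))
theorem E94989 : n107149 = n65992 := ((D107149).symm.trans (sb E94981 F223491))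
theorem F331790 : act 0 n107200 = n133571 := (sb E94982 (iv1 F221666))
theorem F331791 : act 1 n107200 = n139622 := (sb E94982 (iv0 F222783))
theorem F331792 : act 2 n107200 = n65990 := (sb E94982 F221662)
theorem F331793 : act 4 n107200 = n108848 := (sb E94982 F221663)
theorem E94990 : n116113 = n49525 := ((((iv5 D107200)).symm.trans (sb E94982 F221664))).symm
theorem F331794 : act 6 n107200 = n65887 := (sb E94982 F221665)
theorem F331795 : act 7 n107200 = n65039 := (sb E94982 (iv7 D138464))
theorem F331796 : act 1 n112682 = n65991 := (sb E94983 (iv0 D140641))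
theorem F331797 : act 0 n112681 = n65991 := (sb E94984 (iv1 D140642))
theorem F331798 : act 2 n112684 = n65991 := (sb E94985 (iv2 D140643))
theorem F331799 : act 6 n112684 = n156312 := (sb E94985 (iv6 F245636))
theorem F331800 : act 5 n49504 = n65991 := (sb E94986 (iv5 D140644))
theorem F331801 : act 0 n107146 = n138456 := (sb E94987 F226569)
theorem F331802 : act 2 n107146 = n140636 := (sb E94987 F226567)
theorem F331803 : act 5 n107146 = n67432 := (sb E94987 (iv5 D143931))
theorem F331804 : act 7 n107146 = n140637 := (sb E94987 F226568)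
theorem E94991 : n145585 = n140637 := (((D140637).symm.trans (sb E94988 F228627))).symm
theorem F331805 : act 2 n65989 = n49500 := (sb E94988 F165123)
theorem E94992 : n140634 = n112676 := (((iv3 F223731)).symm.trans (sb E94988 (iv3 F175343)))
theorem E94993 : n140639 = n49499 := ((D140639).symm.trans (sb E94988 (iv6 D107145)))
theorem F331806 : act 3 n65992 = n49504 := (sb E94989 F165125)
theorem E94994 : n145645 = n140645 := (((D140645).symm.trans (sb E94989 (iv4 F228663)))).symm
theorem E94995 : n140646 = n126163 := ((D140646).symm.trans (sb E94989 (iv6 F202862)))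
theorem F331807 : act 7 n65992 = n49500 := (sb E94989 (iv7 D107149))
theorem E94996 : n107198 = n53513 := ((D107198).symm.trans (sb E94990 (iv1 D116113)))
theorem E94997 : n140640 = n107197 := ((((iv2 F165214)).symm.trans (sb E94990 (iv2 F223737)))).symm
theorem E94998 : n138463 = n107201 := (((D107201).symm.trans (sb E94990 F221661))).symm
theorem F331808 : act 3 n140637 = n68253 := (sb E94991 (iv3 D145585))
theorem F331809 : act 3 n112676 = n65989 := (sb E94992 F223731)
theorem F331810 : act 5 n112676 = n65987 := (sb E94992 (iv5 D140634))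
theorem F331811 : act 6 n49499 = n65989 := (sb E94993 (iv6 D140639))
theorem F331812 : act 3 n140645 = n68273 := (sb E94994 (iv3 D145645))
theorem F331813 : act 7 n140645 = n107129 := (sb E94994 F228664)
theorem F331814 : act 5 n126163 = n138765 := (sb E94995 F223742)
theorem F331815 : act 6 n126163 = n65992 := (sb E94995 (iv6 D140646))
theorem F331816 : act 1 n53513 = n49525 := (sb E94996 (iv0 D107198))
theorem F331817 : act 0 n107197 = n106879 := (sb E94997 F223739)
theorem F331818 : act 1 n107197 = n116115 := (sb E94997 F223740)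
theorem F331819 : act 5 n107197 = n65990 := (sb E94997 (iv5 D140640))
theorem F331820 : act 7 n107197 = n116112 := (sb E94997 F223738)
theorem F331821 : act 0 n107201 = n116115 := (sb E94998 F221659)
theorem F331822 : act 1 n107201 = n106879 := (sb E94998 F221660)
theorem F331823 : act 2 n107201 = n116112 := (sb E94998 F221658)
theorem F331824 : act 5 n107201 = n65039 := (sb E94998 (iv5 D138463))
theorem E94999 : n138461 = n107210 := (c6_2 F331824 (iv3 F221655) F165224 (iv3 F165217))
theorem F331825 : act 3 n107210 = n65039 := (sb E94999 F221655)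
theorem F331826 : act 4 n107210 = n130552 := (sb E94999 F221656)
theorem F331827 : act 6 n107210 = n65037 := (sb E94999 (iv6 D138461))
theorem F331828 : act 7 n130552 = n107209 := d11_2 D107210 F331826 (iv4 D107209)
theorem F331829 : act 3 n107209 = n117032 := d8_1 F331828 F182966 (iv3 F209137)
theorem F331830 : act 4 n116112 = n136173 := d16_0 (iv5 D136173) (iv4 D64031) D64032 (iv4 F330993) (iv5 F168851) (iv4 F331793) (iv5 D107200) D107201 F331823
theorem F331831 : act 0 n115270 = n116114 := d18_0 (iv4 D116114) D116112 F331830 (iv5 D136173) (iv4 D64031) F99621 (iv4 F179533) (iv0 D115266) D115270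
theorem E95000 : n141785 = n137357 := (c19_9 F331821 F180903 F84431 F40981 (iv1 F20427) D14682 D31037 D66479 D141785 (iv5 D137357) (iv4 D64567) D64566 F179537 F331018 F98241 F47913 (iv1 F99522) F78298 (iv4 F78290) (iv3 F165217))
theorem F331832 : act 1 n137357 = n66479 := (sb E95000 (iv0 D141785))
theorem F331833 : act 5 n130821 = n101649 := d21_6 (iv5 D137357) (iv1 F204416) F204415 F324037 (iv1 F209367) D130821 (iv1 D101649) (iv5 F308631) (iv6 F102365) (iv1 F331832)
theorem F331834 : act 2 n158517 = n130821 := d2_3 F331833 (iv2 F307527) F307529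
theorem F331835 : act 7 n158516 = n130821 := d13_0 F331833 F249608 (iv5 F249703)
theorem F331836 : act 0 n158174 = n130821 := d17_2 (iv1 F112943) D158174 F331833 F156563 D101785 (iv0 F274864) (iv5 D89346) F74288 F74285
theorem E95001 : n167466 = n130821 := ((c21_7 F308602 (iv1 F271996) (iv5 D83026) D83027 F309546 (iv6 F310669) (iv5 F331833) (iv1 D167466) (iv5 D80365) D80366 D167469)).symm
theorem F331837 : act 0 n130821 = n80365 := (sb E95001 (iv1 D167466))
theorem F331838 : act 0 n162043 = n175691 := d21_7 (iv5 F331833) F331837 (iv5 D80365) D80366 D167469 F308603 (iv5 F311770) (iv5 D175691) (iv6 F311717) (iv1 F249725)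
theorem E95002 : n130129 = n130046 := ((c21_10 D130130 (iv1 F330893) (iv5 D130820) D130821 F331837 (iv6 F317744) (iv5 F319946) (iv1 F319784) (iv5 D130045) D130046 (iv1 D130129))).symm
theorem F331839 : act 0 n130046 = n61094 := (sb E95002 (iv1 D130129))
theorem F331840 : act 1 n130046 = n61106 := (sb E95002 F208639)
theorem F331841 : act 7 n130128 = n185782 := d15_2 F331840 F208642 (iv2 F323384)
theorem F331842 : act 4 n185785 = n130128 := d11_3 F331841 F288111 D185785
theorem F331843 : act 3 n135613 = n185785 := d20_5 (iv4 F203490) (iv1 D126545) F93654 (iv3 F99134) D135613 F331842 (iv1 F208642) (iv4 F208661) F208660 (iv1 F99233)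
theorem F331844 : act 7 n185780 = n135613 := d8_0 F331843 (iv7 D185785) (iv3 F288110)
theorem E95003 : n175691 = n141036 := ((c15_4 (iv0 F331838) (iv0 D162043) F325021 D141036)).symm
theorem F331845 : act 1 n141036 = n162043 := (sb E95003 (iv0 F331838))
theorem F331846 : act 3 n141036 = n83877 := (sb E95003 F275080)
theorem F331847 : act 5 n141036 = n83875 := (sb E95003 (iv5 D175691))
theorem F331848 : act 7 n141036 = n101656 := (sb E95003 F275081)
theorem F331849 : act 1 n162044 = n141036 := d15_1 D162044 F331848 F312798
theorem F331850 : act 6 n126720 = n141036 := d12_0 F331847 (iv6 F311717) (iv5 D158540) D158541 (iv5 F330917)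
theorem F331851 : act 0 n127215 = n173352 := d21_4 F330915 F330912 F323658 D127215 F309566 F307525 F309561 (iv5 F331847) (iv6 F331850) (iv1 D126720)
theorem F331852 : act 5 n173350 = n174596 := d21_2 (iv5 D173352) D173350 (iv6 D174596) (iv1 F128539) F330924 F330915 F330912 F323658 D127215 F331851
theorem F331853 : act 1 n127215 = n174738 := d15_1 (iv0 F331851) (iv7 D174738) (iv2 F271810)
theorem F331854 : act 3 n107274 = n174738 := d20_3 F203818 (iv1 F163537) D107274 (iv1 F331853) F204494 F94109 F321580 F324663 F323259 (iv1 F203821)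
theorem E95004 : n176101 = n174738 := (c21_1 D176101 (iv1 F331853) F323659 (iv6 D61204) (iv1 F208573) F317541 (iv5 D75684) (iv1 F112799) (iv5 F317074) (iv6 F301546) D84007)
theorem E95005 : n84007 = n83487 := (((F273570).symm.trans (sb E95004 (iv5 D176101)))).symm
theorem E95006 : n173351 = n101478 := (((iv1 F271809)).symm.trans (sb E95005 (iv1 F184755)))
theorem E95007 : n173350 = n38692 := ((F271814).symm.trans (sb E95005 (iv0 D84007)))
theorem E95009 : n174719 = n119512 := (((iv3 F273562)).symm.trans (sb E95005 (iv3 F304227)))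
theorem E95010 : n174723 = n72862 := (((iv4 F273563)).symm.trans (sb E95005 (iv4 F306343)))
theorem E95013 : n84008 = n82959 := (((iv1 F184756)).symm.trans (sb E95006 (iv1 D173351)))
theorem F331855 : act 1 n101478 = n83487 := (sb E95006 F271809)
theorem F331856 : act 0 n38692 = n83487 := (sb E95007 (iv1 F271814))
theorem E95014 : n174596 = n84010 := (((D84010).symm.trans (sb E95007 F331852))).symm
theorem F331857 : act 3 n119512 = n83487 := (sb E95009 F273562)
theorem F331858 : act 6 n119512 = n83730 := (sb E95009 F323235)
theorem F331859 : act 7 n119512 = n83481 := (sb E95009 (iv7 D174719))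
theorem F331860 : act 4 n72862 = n83487 := (sb E95010 F273563)
theorem E95015 : n153968 = n83889 := ((D153968).symm.trans (sb E95010 F323236))
theorem E95016 : n153959 = n83482 := ((F241980).symm.trans (sb E95010 (iv7 D174723)))
theorem F331861 : act 0 n82959 = n38692 := (sb E95013 (iv1 D84008))
theorem F331862 : act 1 n82959 = n101478 := (sb E95013 F184756)
theorem E95018 : n173349 = n72861 := (((iv4 F271808)).symm.trans (sb E95013 (iv4 F304601)))
theorem E95021 : n176113 = n83432 := ((D176113).symm.trans (sb E95014 (iv6 D174596)))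
theorem F331863 : act 6 n83889 = n72862 := (sb E95015 (iv6 D153968))
theorem F331864 : act 7 n83482 = n72862 := (sb E95016 (iv7 F241980))
theorem F331865 : act 2 n72861 = n83482 := (sb E95018 F271806)
theorem E95022 : n124314 = n123018 := ((((iv3 F241982)).symm.trans (sb E95018 F271807))).symm
theorem F331866 : act 4 n72861 = n82959 := (sb E95018 F271808)
theorem E95023 : n153963 = n82958 := ((D153963).symm.trans (sb E95018 (iv6 D173349)))
theorem E95024 : n174594 = n84015 := ((D174594).symm.trans (sb E95021 F275364))
theorem F331867 : act 6 n83432 = n84010 := (sb E95021 (iv6 D176113))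
theorem F331868 : act 2 n123018 = n84626 := (sb E95022 F198793)
theorem E95025 : n154829 = n99603 := ((F243537).symm.trans (sb E95022 F198794))
theorem F331869 : act 6 n123018 = n57951 := (sb E95022 (iv6 D124314))
theorem F331870 : act 6 n82958 = n72861 := (sb E95023 (iv6 D153963))
theorem F331871 : act 3 n84015 = n83432 := (sb E95024 (iv3 D174594))
theorem F331872 : act 0 n99603 = n131182 := (sb E95025 (iv1 F307620))
theorem F331873 : act 1 n99603 = n73428 := (sb E95025 (iv0 D154829))
theorem F331874 : act 4 n99603 = n123018 := (sb E95025 (iv4 F243537))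
theorem F331875 : act 0 n123018 = n145288 := d20_1 F331874 (iv4 D145288) (iv3 D68111) (iv1 D31710) (iv3 F50010) (iv4 F104238) (iv1 F311006) F188252 (iv3 F302280) (iv1 F331873)
theorem E95026 : n157293 = n79081 := (c20_5 (iv4 F49088) F308768 F308188 (iv3 F112226) D157293 (iv3 F153353) F331874 F331875 (iv4 D145288) (iv3 D68111) (iv1 D31710))
theorem E95027 : n164601 = n74785 := ((D164601).symm.trans (sb E95026 (iv0 D157293)))
theorem F331876 : act 0 n74785 = n79081 := (sb E95027 (iv1 D164601))
theorem F331877 : act 4 n153954 = n178422 := d20_0 (iv1 F278013) F156294 F74493 (iv1 F64283) D89183 F304747 (iv1 F331873) F331874 F241982 (iv1 F241976)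
theorem E95028 : n164600 = n120139 := (c20_5 (iv4 F90298) D123018 (iv4 F331874) F153353 D164600 F240173 D157428 F316299 (iv4 F315629) F313275 (iv1 D86569))
theorem F331878 : act 1 n120139 = n79081 := (sb E95028 (iv0 D164600))
theorem F331879 : act 4 n120139 = n166201 := d20_0 (iv1 D166201) F300731 F129505 F297800 (iv3 F61023) (iv4 F90298) D123018 (iv4 F331874) F153353 (iv1 F331878)
theorem F331880 : act 2 n166201 = n98110 := d1_1 F331879 F309895 F189770
theorem E95029 : n166201 = n77704 := (c5_1 F331879 (iv3 D77704) D77705 (iv3 F309886) (iv4 D157428) (iv3 F240173))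
theorem E95030 : n161775 = n79799 := ((D161775).symm.trans (sb E95029 (iv1 D166201)))
theorem E95031 : n161776 = n98107 := ((D161776).symm.trans (sb E95029 (iv0 F300729)))
theorem E95032 : n161777 = n98110 := ((D161777).symm.trans (sb E95029 F331880))
theorem E95033 : n161778 = n120139 := ((D161778).symm.trans (sb E95029 (iv4 F331879)))
theorem F331881 : act 1 n79799 = n77704 := (sb E95030 (iv0 D161775))
theorem F331882 : act 0 n98107 = n77704 := (sb E95031 (iv1 D161776))
theorem F331883 : act 2 n98110 = n77704 := (sb E95032 (iv2 D161777))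
theorem F331884 : act 4 n120139 = n77704 := (sb E95033 (iv4 D161778))
theorem E95034 : n161375 = n119595 := (c11_3 (iv7 F189769) F331884 (iv7 F310822) (iv4 F305793))
theorem F331885 : act 3 n119595 = n77468 := (sb E95034 (iv3 D161375))
theorem F331886 : act 7 n119595 = n77704 := (sb E95034 F310822)
theorem F331887 : act 3 n120138 = n128099 := d20_3 (iv4 F331884) (iv1 D120139) (iv4 F189768) (iv1 D128099) F94759 F46189 D28618 D60211 F302135 F331882
theorem F331888 : act 6 n128099 = n120136 := d7_2 D120138 F331887 (iv3 D120136)
theorem F331889 : act 0 n119289 = n128099 := d20_4 (iv4 F94553) F184589 F86846 D119289 (iv3 F331887) F189768 F311237 (iv4 F311239) (iv3 D55027) (iv1 F184588)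
theorem F331890 : act 0 n120138 = n177047 := d20_10 (iv4 D177047) (iv1 D84381) (iv4 F72372) F72371 (iv1 F121802) D38817 F300728 (iv1 F307986) F307987 (iv3 F331887)
theorem F331891 : act 0 n98461 = n153946 := d20_7 F300728 (iv1 F307986) F307987 (iv3 F331887) F331890 (iv3 F276463) F310882 F321380 F319368 F317087
theorem F331892 : act 5 n107649 = n119289 := d18_9 F331889 (iv4 F307987) F307985 (iv4 F328136) (iv5 D130522) F95703 D61241 D130525 F209101
theorem E95035 : n128099 = n126904 := ((c17_6 (iv1 F99721) (iv5 F165270) (iv1 F165272) F163551 (iv4 F166477) D126904 (iv0 F331889) (iv5 F331892) (iv0 F209097) (iv4 D130524))).symm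
theorem F331893 : act 0 n126904 = n60201 := (sb E95035 (iv1 D128099))
theorem F331894 : act 1 n126904 = n119289 := (sb E95035 (iv0 F331889))
theorem F331895 : act 3 n126904 = n120138 := (sb E95035 (iv3 F331887))
theorem F331896 : act 4 n126904 = n129740 := (sb E95035 (iv4 F307987))
theorem F331897 : act 6 n126904 = n120136 := (sb E95035 F331888)
theorem F331898 : act 2 n119512 = n126904 := d3_3 F331897 (iv2 F318041) (iv6 F331858)
theorem F331899 : act 7 n119437 = n126904 := d14_0 F331897 F314813 (iv6 D83624) F86957 D119437
theorem F331900 : act 5 n126646 = n119437 := d13_3 F331899 (iv5 D126904) (iv7 F203793)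
theorem E95036 : n174717 = n60201 := (c15_1 D174717 (iv0 F331893) (iv7 F331899) F188199)
theorem E95037 : n128098 = n83481 := ((D128098).symm.trans (sb E95036 (iv1 D174717)))
theorem F331901 : act 1 n83481 = n60201 := (sb E95037 (iv0 D128098))
theorem E95038 : n123599 = n38490 := (((F128583).symm.trans (sb E95037 F241975))).symm
theorem E95039 : n173270 = n155088 := (((iv4 F271641)).symm.trans (sb E95037 F243917))
theorem E95040 : n84009 = n83484 := (((D83484).symm.trans (sb E95038 F302336))).symm
theorem E95041 : n83485 = n57613 := ((D83485).symm.trans (sb E95038 (iv0 D123599)))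
theorem E95042 : n153951 = n83482 := ((((iv4 F128584)).symm.trans (sb E95038 F241974))).symm
theorem F331902 : act 2 n155088 = n82926 := (sb E95039 F314814)
theorem F331903 : act 4 n155088 = n83481 := (sb E95039 F271641)
theorem F331904 : act 6 n155088 = n82917 := (sb E95039 (iv6 D173270))
theorem F331905 : act 7 n155088 = n82927 := (sb E95039 F314815)
theorem E95043 : n173353 = n123600 := (((iv1 F271816)).symm.trans (sb E95040 (iv1 F302337)))
theorem E95044 : n174725 = n38692 := ((D174725).symm.trans (sb E95040 (iv2 D84009)))
theorem E95045 : n174726 = n79423 := ((D174726).symm.trans (sb E95040 F313346))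
theorem E95046 : n174727 = n101459 := ((D174727).symm.trans (sb E95040 (iv4 F184670)))
theorem E95047 : n176108 = n174728 := (((D174728).symm.trans (sb E95040 D176108))).symm
theorem E95048 : n174729 = n75691 := ((D174729).symm.trans (sb E95040 F318028))
theorem E95049 : n174730 = n101478 := ((D174730).symm.trans (sb E95040 F184754))
theorem F331906 : act 0 n57613 = n38490 := (sb E95041 (iv1 D83485))
theorem E95054 : n174720 = n72864 := ((D174720).symm.trans (sb E95042 (iv1 F241972)))
theorem E95055 : n174721 = n72859 := ((D174721).symm.trans (sb E95042 (iv0 D153951)))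
theorem F331907 : act 1 n123600 = n83484 := (sb E95043 F271816)
theorem F331908 : act 2 n123600 = n83487 := (sb E95043 F271812)
theorem F331909 : act 6 n123600 = n83043 := (sb E95043 F319564)
theorem F331910 : act 7 n123600 = n82959 := (sb E95043 (iv7 D173353))
theorem F331911 : act 2 n38692 = n83484 := (sb E95044 (iv2 D174725))
theorem F331912 : act 3 n79423 = n83484 := (sb E95045 (iv3 D174726))
theorem F331913 : act 4 n101459 = n83484 := (sb E95046 (iv4 D174727))
theorem F331914 : act 2 n174728 = n84010 := (sb E95047 F275362)
theorem F331915 : act 6 n75691 = n83484 := (sb E95048 (iv6 D174729))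
theorem F331916 : act 7 n101478 = n83484 := (sb E95049 (iv7 D174730))
theorem F331917 : act 1 n72864 = n83482 := (sb E95054 (iv0 D174720))
theorem F331918 : act 0 n72859 = n83482 := (sb E95055 (iv1 D174721))
theorem E95056 : n174716 = n119289 := (c20_5 F306405 F331918 F128584 (iv3 F128583) D174716 (iv3 D119289) (iv4 F86846) D60300 F131203 D119557 (iv1 F188542))
theorem F331919 : act 1 n119289 = n83481 := (sb E95056 (iv0 D174716))
theorem E95057 : n153964 = n153952 := ((c15_2 (iv0 F331918) D153952 (iv7 D153964) F331865)).symm
theorem F331920 : act 2 n153952 = n72862 := (sb E95057 F241983)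
theorem F331921 : act 7 n153952 = n72861 := (sb E95057 (iv7 D153964))
theorem F331922 : act 6 n173632 = n153952 := d14_5 F331921 (iv6 F331870) F127861 D83490 (iv7 F319031)
theorem F331923 : act 2 n128101 = n119289 := d15_3 F331919 F331901 D128101
theorem E95058 : n174718 = n59552 := (c17_8 D28274 (iv5 F103697) F161998 F161995 (iv4 F166258) F331892 F331919 D174718 (iv0 D59552) F45780)
theorem E95059 : n126900 = n83486 := ((D126900).symm.trans (sb E95058 F273560))
theorem E95060 : n126901 = n83481 := ((D126901).symm.trans (sb E95058 (iv5 D174718)))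
theorem E95061 : n152205 = n126902 := (((D126902).symm.trans (sb E95058 F273561))).symm
theorem F331924 : act 3 n83486 = n59552 := (sb E95059 (iv3 D126900))
theorem E95062 : n174737 = n111043 := ((D174737).symm.trans (sb E95059 F204150))
theorem F331925 : act 5 n83481 = n59552 := (sb E95060 (iv5 D126901))
theorem F331926 : act 3 n126902 = n173372 := (sb E95061 (iv3 F309556))
theorem F331927 : act 5 n126902 = n71787 := (sb E95061 (iv5 D152205))
theorem F331928 : act 4 n111043 = n83486 := (sb E95062 (iv4 D174737))
theorem F331929 : act 5 n172354 = n130525 := d17_5 (iv1 F243915) (iv5 F271675) (iv1 F318951) F318952 (iv4 F270586) F209101 F331892 F331919 (iv4 F331903)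
theorem F331930 : act 0 n173425 = n126902 := d21_4 (iv5 F330961) (iv1 D82989) D82990 (iv6 F271890) (iv6 D126902) (iv5 F331925) (iv1 F331919) (iv5 F331892) F219947 (iv1 D136749)
theorem E95063 : n174988 = n173424 := (c17_10 (iv1 D173424) D173425 F331930 F331927 (iv4 F162781) F162782 (iv0 F190052) (iv5 F236365) (iv0 F305403) (iv4 F273873))
theorem F331931 : act 2 n173424 = n83574 := (sb E95063 (iv2 D174988))
theorem F331932 : act 3 n173424 = n83630 := (sb E95063 F273868)
theorem F331933 : act 4 n173424 = n168081 := (sb E95063 F273873)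
theorem F331934 : act 4 n145686 = n150198 := d18_5 F331930 F220311 F220310 F219289 F228756 F266075 (iv4 F239770) F304841 D173425
theorem F331935 : act 4 n126319 = n173425 := d18_1 F203128 F331930 F220311 (iv5 D137123) (iv4 F317719) (iv0 F319913) F171198 F82001 D112563
theorem E95064 : n155157 = n28212 := (c21_4 F331927 F190064 D73642 D155157 F48698 D64285 (iv5 F330961) (iv1 D82989) D82990 (iv6 F271890) F331930)
theorem E95065 : n73642 = n59413 := (((D59413).symm.trans (sb E95064 (iv6 D155157)))).symm
theorem E95066 : n155154 = n64459 := (((F100394).symm.trans (sb E95065 D155154))).symm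
theorem E95067 : n155155 = n64462 := (((F100412).symm.trans (sb E95065 D155155))).symm
theorem E95068 : n155074 = n28256 := (((F93772).symm.trans (sb E95065 (iv2 F243878)))).symm
theorem E95069 : n155152 = n126633 := ((((iv3 F203721)).symm.trans (sb E95065 (iv3 F243965)))).symm
theorem E95071 : n126635 = n33841 := ((D126635).symm.trans (sb E95065 (iv5 D73642)))
theorem E95072 : n155076 = n117092 := ((((iv7 F183119)).symm.trans (sb E95065 (iv7 F243888)))).symm
theorem E95073 : n73656 = n59509 := (((F100393).symm.trans (sb E95066 (iv1 F243967)))).symm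
theorem E95074 : n155193 = n137118 := (((D137118).symm.trans (sb E95066 (iv5 F244030)))).symm
theorem E95075 : n137120 = n83576 := ((D137120).symm.trans (sb E95067 F309530))
theorem E95076 : n137121 = n83574 := ((D137121).symm.trans (sb E95067 F309531))
theorem E95077 : n73601 = n59508 := (((D59508).symm.trans (sb E95068 (iv5 D155074)))).symm
theorem F331936 : act 5 n126633 = n73641 := (sb E95069 (iv5 D155152))
theorem F331937 : act 5 n33841 = n59413 := (sb E95071 (iv5 D126635))
theorem F331938 : act 5 n117092 = n73603 := (sb E95072 (iv5 D155076))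
theorem E95078 : n155166 = n88063 := ((((iv3 F329678)).symm.trans (sb E95073 (iv3 F243987)))).symm
theorem E95080 : n126814 = n33846 := (((iv5 F204059)).symm.trans (sb E95073 (iv5 D73656)))
theorem F331939 : act 0 n137118 = n84928 := (sb E95074 (iv1 F244032))
theorem F331940 : act 1 n137118 = n73700 := (sb E95074 (iv0 D155193))
theorem E95082 : n152586 = n126807 := (((F220289).symm.trans (sb E95074 (iv2 F244033)))).symm
theorem F331941 : act 4 n137118 = n150196 := (sb E95074 F244031)
theorem F331942 : act 6 n137118 = n79034 := (sb E95074 (iv6 F244034))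
theorem F331943 : act 3 n83576 = n64462 := (sb E95075 (iv3 D137120))
theorem E95083 : n174992 = n107158 := ((D174992).symm.trans (sb E95075 F220296))
theorem E95084 : n174993 = n107637 := ((D174993).symm.trans (sb E95075 F220297))
theorem E95085 : n162044 = n126806 := (((iv7 F311774)).symm.trans (sb E95075 F220298))
theorem E95086 : n173424 = n126810 := (((iv2 F331931)).symm.trans (sb E95076 F220299))
theorem F331944 : act 5 n83574 = n64462 := (sb E95076 (iv5 D137121))
theorem E95087 : n152206 = n126811 := (((D126811).symm.trans (sb E95077 (iv1 F239283)))).symm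
theorem E95088 : n126812 = n105982 := ((D126812).symm.trans (sb E95077 (iv0 F190954)))
theorem F331945 : act 2 n59508 = n33841 := (sb E95077 F110279)
theorem E95089 : n155073 = n126800 := ((((iv3 F204052)).symm.trans (sb E95077 D155073))).symm
theorem E95090 : n126813 = n33826 := ((D126813).symm.trans (sb E95077 (iv4 D73601)))
theorem E95091 : n126804 = n125001 := (((iv6 F204054)).symm.trans (sb E95077 (iv6 F200784)))
theorem E95092 : n184682 = n73655 := ((D184682).symm.trans (sb E95078 (iv5 D155166)))
theorem F331946 : act 5 n33846 = n59509 := (sb E95080 F204059)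
theorem F331947 : act 7 n33846 = n59508 := (sb E95080 (iv7 D126814))
theorem F331948 : act 0 n126807 = n119393 := (sb E95082 F239771)
theorem F331949 : act 1 n126807 = n82987 := (sb E95082 F304841)
theorem F331950 : act 3 n126807 = n82964 := (sb E95082 F305493)
theorem F331951 : act 4 n126807 = n148986 := (sb E95082 F239770)
theorem F331952 : act 6 n126807 = n71963 := (sb E95082 (iv6 D152586))
theorem F331953 : act 7 n126807 = n83574 := (sb E95082 (iv7 F307482))
theorem F331954 : act 4 n107158 = n83576 := (sb E95083 (iv4 D174992))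
theorem F331955 : act 0 n107637 = n85766 := (sb E95084 F327860)
theorem F331956 : act 1 n107637 = n83976 := (sb E95084 (iv0 F273876))
theorem F331957 : act 5 n107637 = n175579 := (sb E95084 (iv5 F274922))
theorem F331958 : act 6 n107637 = n83576 := (sb E95084 (iv6 D174993))
theorem F331959 : act 0 n126806 = n77845 := (sb E95085 (iv1 D162044))
theorem F331960 : act 1 n126806 = n141036 := (sb E95085 F331849)
theorem F331961 : act 2 n126806 = n83571 := (sb E95085 F311772)
theorem F331962 : act 5 n126806 = n82964 := (sb E95085 F311773)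
theorem F331963 : act 7 n126806 = n83576 := (sb E95085 F311774)
theorem F331964 : act 0 n126810 = n82987 := (sb E95086 (iv1 D173424))
theorem F331965 : act 2 n126810 = n83574 := (sb E95086 F331931)
theorem F331966 : act 3 n126810 = n83630 := (sb E95086 F331932)
theorem F331967 : act 4 n126810 = n168081 := (sb E95086 F331933)
theorem F331968 : act 0 n126811 = n73603 := (sb E95087 (iv1 F239282))
theorem F331969 : act 2 n126811 = n73639 := (sb E95087 F239280)
theorem F331970 : act 3 n126811 = n77843 := (sb E95087 F239281)
theorem F331971 : act 4 n126811 = n155117 := (sb E95087 (iv4 F243937))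
theorem F331972 : act 7 n126811 = n71787 := (sb E95087 (iv7 D152206))
theorem F331973 : act 0 n105982 = n59508 := (sb E95088 (iv1 D126812))
theorem F331974 : act 1 n126800 = n77542 := (sb E95089 (iv0 F243877))
theorem F331975 : act 7 n126800 = n73655 := (sb E95089 F243876)
theorem F331976 : act 4 n33826 = n59508 := (sb E95090 (iv4 D126813))
theorem F331977 : act 5 n125001 = n59505 := (sb E95091 (iv5 D126804))
theorem F331978 : act 6 n125001 = n59508 := (sb E95091 F204054)
theorem F331979 : act 5 n73655 = n88063 := (sb E95092 (iv5 D184682))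
theorem F331980 : act 5 n101214 = n155165 := d2_2 F331979 (iv2 F155925) (iv2 D155165)
theorem F331981 : act 5 n103258 = n101616 := d12_5 F316743 F331979 F135055 F294116 D103258
theorem F331982 : act 5 n124667 = n128150 := d16_1 D124667 F206280 F331979 (iv4 D88063) (iv5 D41111) (iv4 F60972) (iv5 F304233) (iv7 F190599) (iv2 F109541)
theorem F331983 : act 4 n126794 = n101215 := d16_0 F155928 (iv4 F305739) (iv5 F109542) D124667 F331982 F206280 F331979 (iv7 F329715) (iv2 F204048)
theorem F331984 : act 5 n124695 = n167114 := d17_3 F325792 F331979 (iv1 F308467) (iv4 F330195) F330196 (iv0 F190665) D78196 F314797 (iv4 F325793)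
theorem F331985 : act 0 n154148 = n141060 := d17_0 F224068 F325792 F331979 (iv4 D88063) (iv5 D41111) D41110 D88059 (iv0 F306440) D154148
theorem F331986 : act 5 n154289 = n161356 := d18_4 (iv1 F308467) (iv4 D124695) F306637 (iv4 F307395) (iv4 F314799) F256948 F317078 F243986 F331979
theorem F331987 : act 6 n162819 = n154148 := d21_9 F224068 F325792 F331979 F135055 F329031 D155631 F313871 (iv1 F193078) D162819 F331985
theorem F331988 : act 4 n154149 = n162819 := d10_3 F331987 (iv4 D154148) D154149
theorem F331989 : act 2 n161356 = n149941 := d2_1 F331986 (iv5 F242195) F242390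
theorem F331990 : act 3 n161358 = n154289 := d6_3 F331986 (iv3 D161356) D161358
theorem F331991 : act 7 n161356 = n184301 := d13_2 (iv7 F307396) F331986 (iv5 D184301)
theorem F331992 : act 2 n184301 = n162721 := d16_9 (iv4 D162721) (iv5 D78196) F56317 D35661 F305353 (iv5 F134902) (iv4 F307395) F331986 F331991
theorem E95093 : n174389 = n133078 := (c17_1 (iv1 F273234) F311889 D154289 F331986 (iv4 F314799) (iv5 D128158) F190668 (iv5 F330196) F330193 (iv4 F128501))
theorem F331993 : act 0 n133078 = n83361 := (sb E95093 (iv1 D174389))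
theorem F331994 : act 1 n133078 = n83372 := (sb E95093 F273234)
theorem F331995 : act 1 n174423 = n184664 := d17_8 (iv1 F306441) (iv5 D73019) (iv1 F190550) D33674 D73104 (iv5 F311889) F331994 (iv5 F273299) (iv4 D184664)
theorem E95094 : n157986 = n133077 := ((c20_4 (iv4 F128501) (iv1 F331994) (iv4 D133078) D133077 (iv1 D157986) F112792 F54652 D34453 (iv4 F113033) F315030 F312578)).symm
theorem F331996 : act 0 n133077 = n75249 := (sb E95094 (iv1 D157986))
theorem E95095 : n160270 = n135433 := (c20_2 (iv4 F115320) D160270 (iv4 D135433) (iv3 F330210) D83112 (iv3 F310296) (iv4 F128501) (iv1 F331994) (iv4 D133078) D133077 F331996)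
theorem F331997 : act 0 n135433 = n153281 := (sb E95095 (iv1 F253124))
theorem F331998 : act 1 n135433 = n76810 := (sb E95095 (iv0 D160270))
theorem F331999 : act 5 n133077 = n162770 := d18_9 F257002 (iv4 D83183) (iv1 D38292) (iv4 F59137) F330211 D135433 F331998 F115320 (iv0 F331996)
theorem F332000 : act 0 n158443 = n180303 := d21_7 (iv5 F331999) F331996 D157987 F306785 (iv1 F113350) D75585 D158443 (iv5 D180303) F319518 F257004
theorem F332001 : act 4 n124691 = n174423 := d18_5 F190565 (iv4 F190966) F190964 F190958 D124691 F331995 (iv4 D184664) (iv0 F306442) (iv5 D73000)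
theorem F332002 : act 2 n174423 = n154122 := d1_1 F332001 (iv4 D154122) (iv2 F199469)
theorem F332003 : act 4 n124689 = n174390 := d9_9 D124691 F332001 F273299 F128501 (iv5 F312593) (iv4 F303552) F107272 (iv4 F190610) D124689 (iv5 D174390) F128479 F310294 (iv4 F303543) F94798 F190958
theorem E95096 : n174422 = n72973 := (c11_4 (iv7 F199470) F332001 (iv7 D174423) D174422)
theorem E95097 : n154115 = n83371 := ((D154115).symm.trans (sb E95096 (iv4 D174422)))
theorem E95098 : n154116 = n83385 := ((D154116).symm.trans (sb E95096 F273297))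
theorem F332004 : act 4 n83371 = n72973 := (sb E95097 (iv4 D154115))
theorem F332005 : act 6 n83385 = n72973 := (sb E95098 (iv6 D154116))
theorem F332006 : act 0 n174423 = n184672 := d18_2 (iv1 F312388) F332001 (iv4 D184672) (iv5 D88059) (iv4 F304417) F119424 F306432 F75734 D87893
theorem E95099 : n184271 = n161173 := ((c20_6 (iv4 F273900) (iv1 D175002) (iv4 D83580) F59362 D77374 D161173 (iv4 D184271) (iv1 F312388) F332001 F273298 (iv1 F271116))).symm
theorem F332007 : act 4 n161173 = n87893 := (sb E95099 (iv4 D184271))
theorem F332008 : act 7 n174390 = n154122 := d16_8 (iv4 F332001) (iv5 D124691) (iv4 F190958) (iv5 F94798) F303543 (iv5 F310294) (iv4 F128479) D174390 (iv2 F332002)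
theorem F332009 : act 5 n154122 = n174391 := d13_1 F332008 (iv7 D174391) D174390
theorem F332010 : act 1 n184664 = n174390 := d15_1 F331995 F332008 (iv2 F332002)
theorem F332011 : act 1 n174421 = n154122 := d15_1 D174421 (iv7 F332008) F273235
theorem F332012 : act 4 n100941 = n174421 := d18_5 (iv1 F75732) (iv4 F305353) D78244 F306420 D100941 F332011 (iv4 D154122) (iv0 F307356) (iv5 D104128)
theorem F332013 : act 2 n174421 = n184672 := d1_1 F332012 (iv4 D184672) (iv2 F156898)
theorem F332014 : act 7 n174421 = n184664 := d11_2 F156900 F332012 (iv4 D184664)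
theorem F332015 : act 3 n174421 = n167234 := d19_3 F155087 D100941 F332012 (iv1 D167234) (iv5 D80279) (iv4 F71178) F71177 F310099 (iv5 F51792) (iv4 F106989) F306589 (iv1 D61197) (iv5 F313456) (iv4 D35158) (iv3 F297548) F120664 (iv5 F300691) (iv4 F58438) (iv3 F62341)
theorem F332016 : act 2 n184664 = n174420 := d15_3 (iv0 D174420) D174421 F332014
theorem F332017 : act 7 n184672 = n174420 := d4_2 (iv7 F332014) F332013 (iv2 F332016)
theorem F332018 : act 4 n174420 = n101210 := d11_1 F332017 (iv7 F156887) D184672
theorem F332019 : act 1 n174390 = n184672 := d15_1 F332010 F332017 (iv2 F332016)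
theorem F332020 : act 1 n154122 = n174420 := d15_1 F332011 (iv7 F332017) (iv2 F332013)
theorem E95100 : n174418 = n123662 := ((c17_5 F156120 (iv5 D101349) F308267 D57648 D123662 (iv5 D174418) F273243 (iv5 F332009) F332020 F332018)).symm
theorem F332021 : act 5 n123662 = n83370 := (sb E95100 (iv5 D174418))
theorem F332022 : act 1 n101210 = n123659 := d18_8 (iv1 F90797) (iv4 F94800) F190004 F190662 D72978 D154122 F332020 F332018 (iv5 D123659)
theorem F332023 : act 1 n123659 = n100941 := d15_1 F332022 (iv7 F156900) F156890
theorem E95101 : n174413 = n154293 := (c17_4 (iv1 D174421) (iv5 D83371) D83369 D174413 F242395 F109606 F90797 D123659 F332023 F332012)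
theorem F332024 : act 5 n154293 = n83369 := (sb E95101 (iv5 D174413))
theorem E95102 : n174415 = n133078 := (c13_3 D154293 F332024 D174415 F311889)
theorem F332025 : act 2 n133078 = n83370 := (sb E95102 F273295)
theorem F332026 : act 7 n133078 = n83369 := (sb E95102 (iv7 D174415))
theorem E95103 : n174412 = n128052 := (c16_3 (iv4 F242395) F332024 D174412 (iv5 D128052) F94726 (iv5 F90788) F90787 D57648 (iv7 F306428) F306426)
theorem F332027 : act 4 n128052 = n83369 := (sb E95103 (iv4 D174412))
theorem E95104 : n174417 = n128156 := (c16_1 D174417 F206285 F94794 (iv5 F94801) F94800 (iv5 F109606) (iv4 F242395) F332024 (iv7 F332026) F332025)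
theorem F332028 : act 4 n128156 = n83370 := (sb E95104 (iv4 D174417))
theorem F332029 : act 4 n154158 = n184301 := d17_4 (iv1 F310293) (iv5 D73037) D73034 D154158 (iv5 D184301) (iv0 F306451) F332024 (iv0 D83369) F59272
theorem F332030 : act 6 n184301 = n172786 := d21_3 (iv5 F332024) F306451 D184301 (iv1 D172786) (iv6 D82729) F87067 (iv1 D18319) D18321 D38409 D83369
theorem F332031 : act 5 n172786 = n103274 := d12_1 F332030 (iv6 D103274) (iv5 F294119) (iv6 F134901) D184301
theorem F332032 : act 0 n172399 = n184301 := d20_10 (iv4 F332029) F317080 F128085 F116428 (iv1 F117657) F311708 F156573 (iv1 F136510) F136506 (iv3 F270612)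
theorem F332033 : act 3 n119854 = n184301 := d20_5 (iv4 D17206) (iv1 F28118) (iv4 F56080) (iv3 F302745) D119854 (iv4 F332029) F317080 F128085 F116428 (iv1 F117657)
theorem F332034 : act 3 n162721 = n99717 := d0_2 F332033 F331992 F156719 (iv3 F315068) (iv2 F280224)
theorem F332035 : act 5 n184300 = n119854 := d6_0 F332033 (iv5 D184301) D184300
theorem E95105 : n172786 = n155065 := (c7_3 (iv6 F280225) F332033 F332030 (iv3 D155065))
theorem F332036 : act 0 n155065 = n82729 := (sb E95105 (iv1 D172786))
theorem F332037 : act 5 n155065 = n103274 := (sb E95105 F332031)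
theorem F332038 : act 6 n155065 = n184301 := (sb E95105 (iv6 F332030))
theorem F332039 : act 4 n119854 = n101290 := d20_6 F156573 (iv1 F136510) F136506 (iv3 F270612) F332032 (iv3 F332033) (iv1 D101290) F74452 F35295 D22730
theorem F332040 : act 2 n101290 = n155129 := d1_1 F332039 F243952 (iv2 F280224)
theorem F332041 : act 6 n101290 = n155066 := d10_2 (iv6 F280225) F332039 (iv4 D155066)
theorem F332042 : act 7 n101290 = n161357 := d11_2 (iv7 F305104) F332039 (iv4 D161357)
theorem F332043 : act 1 n152634 = n155057 := d17_6 (iv1 D101290) D101291 F309063 F210759 (iv4 F108490) (iv5 F239845) (iv5 D155057) (iv0 F305108) F332039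
theorem F332044 : act 1 n101290 = n162940 := d18_8 (iv1 F215548) F205735 (iv1 F214912) (iv4 D133594) (iv5 F304075) F188906 (iv0 F305108) F332039 F257302
theorem F332045 : act 3 n101290 = n178459 := d20_3 (iv4 F87257) D119854 F332039 F278069 F206405 (iv4 F305602) F311612 (iv4 D162838) F306113 (iv1 D55167)
theorem F332046 : act 4 n128280 = n128137 := d20_0 (iv1 F302560) F188488 F113928 (iv1 D26666) (iv3 F42721) (iv4 F87257) D119854 F332039 F332045 F278069
theorem E95106 : n173216 = n154158 := ((c5_3 (iv4 F332039) F332033 (iv4 F332029) F271521 (iv4 F278068) (iv3 F332045))).symm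
theorem F332047 : act 3 n154158 = n84921 := (sb E95106 F271521)
theorem F332048 : act 6 n154158 = n82889 := (sb E95106 (iv6 D173216))
theorem F332049 : act 0 n119502 = n178459 := d20_4 (iv4 F307897) (iv1 F189987) F189988 F307439 (iv3 F332045) (iv4 F332039) F305108 (iv4 F188906) F188905 (iv1 F305956)
theorem E95107 : n178462 = n119570 := (c20_2 F278068 D178462 F188552 (iv3 F188537) (iv1 F232965) (iv3 D73815) (iv4 F307897) (iv1 F189987) F189988 F307439 F332049)
theorem F332050 : act 1 n119570 = n84921 := (sb E95107 (iv0 D178462))
theorem F332051 : act 5 n178459 = n180820 := d21_8 F60841 D41137 (iv5 F305094) (iv6 F307021) (iv1 F71249) D96744 F310083 F332049 (iv6 D180820) (iv1 D86363)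
theorem F332052 : act 0 n124539 = n144906 := d21_7 F310083 F332049 F332051 (iv6 D180820) (iv1 D86363) (iv6 F296507) D124539 F227873 (iv6 F234280) (iv1 F310081)
theorem E95108 : n181126 = n180820 := (c21_2 D149000 F307433 (iv5 F332051) (iv6 D178459) F190052 (iv6 D54964) F42572 F26820 D15354 D32450 D69875)
theorem F332053 : act 0 n180820 = n86499 := (sb E95108 (iv1 D181126))
theorem F332054 : act 1 n180820 = n149000 := (sb E95108 (iv0 F307433))
theorem E95109 : n181125 = n181018 := (c15_2 F332054 F307434 (iv7 D181018) (iv2 F281496))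
theorem F332055 : act 0 n181018 = n149000 := (sb E95109 (iv1 F307434))
theorem F332056 : act 1 n181018 = n86499 := (sb E95109 (iv0 D181125))
theorem F332057 : act 0 n128057 = n178464 := d17_2 F187400 F311320 (iv5 D178464) (iv4 F278068) F332051 F332054 (iv5 D149000) (iv0 D69875) (iv4 F86744)
theorem E95110 : n162706 = n120223 := (c17_1 (iv1 F256939) (iv5 D120223) F187420 F306121 (iv4 F149207) F311343 (iv0 F278069) F332051 F332054 F307436)
theorem F332058 : act 0 n120223 = n78186 := (sb E95110 (iv1 D162706))
theorem F332059 : act 1 n120223 = n128157 := (sb E95110 F256939)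
theorem F332060 : act 7 n162705 = n128057 := d15_2 F332059 F256938 (iv2 F314480)
theorem F332061 : act 5 n119568 = n128157 := d21_6 (iv5 F316075) (iv1 F130428) (iv5 D39364) D39365 D85133 (iv6 F278064) (iv1 F332059) (iv5 D120223) F312189 (iv1 F189782)
theorem F332062 : act 2 n173801 = n119568 := d2_3 F332061 F206286 D173801
theorem F332063 : act 3 n128158 = n119568 := d6_3 F332061 (iv3 D128157) D128158
theorem E95111 : n178464 = n154157 := ((c13_3 (iv7 F188550) F332061 (iv7 F242263) (iv5 D178464))).symm
theorem E95112 : n173799 = n128057 := ((F272381).symm.trans (sb E95111 (iv0 F332057)))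
theorem F332064 : act 5 n154157 = n84921 := (sb E95111 (iv5 D178464))
theorem F332065 : act 0 n128057 = n154157 := (sb E95112 (iv1 F272381))
theorem F332066 : act 1 n128057 = n83109 := (sb E95112 (iv0 D173799))
theorem F332067 : act 0 n120158 = n119568 := d17_0 F332061 (iv1 F332059) (iv5 D120223) (iv4 D55316) D55317 (iv0 F188575) (iv5 D119583) F187811 F308895
theorem F332068 : act 4 n162705 = n119583 := d17_9 F188575 (iv5 D55317) (iv1 F86743) (iv5 F186468) (iv4 F209854) (iv5 F314638) D119568 F332061 F256938
theorem F332069 : act 5 n120230 = n119399 := d18_4 (iv1 F332059) F314482 F188129 D120230 F188123 F113931 (iv4 F87015) D119568 F332061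
theorem F332070 : act 6 n119603 = n120158 := d21_9 F332061 (iv1 F332059) (iv5 D120223) F312189 (iv1 F189782) (iv6 F316076) (iv5 F301496) F149932 (iv5 F300858) F332067
theorem E95113 : n173233 = n167732 := ((c21_2 (iv5 F316538) D167732 (iv5 F311405) (iv6 D120146) (iv1 D55287) D55290 D120158 F332067 F332061 F304131 (iv1 F188031))).symm
theorem F332071 : act 3 n167732 = n82901 := (sb E95113 (iv3 D173233))
theorem F332072 : act 5 n167732 = n120146 := (sb E95113 (iv5 F311405))
theorem F332073 : act 7 n167732 = n83244 := (sb E95113 F271556)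
theorem E95114 : n181014 = n120206 := (c16_3 F188073 F309986 (iv4 F281861) (iv5 D120206) (iv4 F187395) D149000 F307436 (iv5 F332061) F188550 (iv2 F188072))
theorem F332074 : act 4 n120206 = n86453 := (sb E95114 F281861)
theorem F332075 : act 6 n120206 = n86452 := (sb E95114 (iv6 D181014))
theorem E95115 : n162705 = n120228 := ((c21_1 D120228 (iv1 F256938) (iv5 F332061) F278064 F318020 (iv6 D62277) (iv5 D29467) D29464 (iv5 F96873) F318558 F187421)).symm
theorem F332076 : act 0 n120228 = n128157 := (sb E95115 (iv1 F256938))
theorem F332077 : act 1 n120228 = n78186 := (sb E95115 (iv0 D162705))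
theorem F332078 : act 4 n120228 = n119583 := (sb E95115 F332068)
theorem F332079 : act 7 n120228 = n128057 := (sb E95115 F332060)
theorem F332080 : act 2 n135453 = n120228 := d4_3 F332079 (iv2 F314480) F314484
theorem F332081 : act 6 n98110 = n120228 := d14_5 F332079 (iv6 D128057) F123976 (iv6 F298300) F162722
theorem E95116 : n173800 = n135453 := ((c15_4 F272382 (iv0 F332065) (iv7 F332079) (iv2 F332080))).symm
theorem F332082 : act 0 n135453 = n83109 := (sb E95116 (iv1 D173800))
theorem F332083 : act 1 n135453 = n154157 := (sb E95116 F272382)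
theorem E95117 : n178463 = n119303 := (c17_9 F184256 D73703 F187414 (iv5 D119118) (iv4 F314063) D135453 F332083 F332064 D178463 F187797)
theorem F332084 : act 0 n119303 = n84921 := (sb E95117 (iv1 D178463))
theorem F332085 : act 5 n162844 = n128278 := d17_1 (iv1 F257117) (iv1 D128278) F312799 F71253 F306119 (iv0 F314061) D135453 F332083 F242262
theorem F332086 : act 5 n157081 = n119342 := d21_0 (iv1 F187939) F130201 (iv6 F86895) (iv1 F86897) D84921 (iv5 F332064) (iv1 F332083) (iv5 D135453) D135454 (iv1 F247170)
theorem F332087 : act 6 n163789 = n154157 := d21_9 (iv5 D135453) F314061 (iv5 F306119) (iv6 D37883) F42496 D54864 (iv5 F322450) (iv1 F330702) (iv5 F258139) (iv1 F332083)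
theorem E95118 : n163789 = n129902 := ((c3_4 F332087 F242261 (iv6 F301024) (iv2 F314281))).symm
theorem F332088 : act 5 n129902 = n78684 := (sb E95118 F258139)
theorem F332089 : act 6 n129902 = n154157 := (sb E95118 F332087)
theorem F332090 : act 7 n129902 = n78683 := (sb E95118 (iv7 D163789))
theorem E95119 : n176528 = n163786 := (c15_1 D176528 (iv0 D163786) (iv7 F332090) F314281)
theorem F332091 : act 0 n163786 = n84166 := (sb E95119 (iv1 D176528))
theorem E95120 : n170518 = n144350 := (c16_3 (iv4 F201395) F201396 D170518 (iv5 D144350) F103654 F327659 F119837 D78683 (iv7 F332090) F314281)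
theorem F332092 : act 4 n144350 = n81739 := (sb E95120 (iv4 D170518))
theorem F332093 : act 4 n149185 = n166541 := d10_3 (iv6 F331704) F332092 (iv6 F316530)
theorem F332094 : act 4 n158335 = n113164 := d16_6 (iv4 F103654) D144350 F332092 (iv5 F201396) F201395 (iv5 F249463) F176324 F169536 (iv2 F169535)
theorem E95121 : n177197 = n163788 := (c16_10 (iv4 D163788) (iv5 D78683) (iv4 F119837) (iv5 F327659) (iv4 F103654) D144350 F332092 (iv5 F201396) F201397 (iv2 F276588))
theorem F332095 : act 2 n163788 = n84431 := (sb E95121 F276588)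
theorem F332096 : act 6 n163788 = n84429 := (sb E95121 (iv6 D177197))
theorem F332097 : act 0 n148265 = n144350 := d20_7 (iv4 F299887) (iv1 F125657) (iv4 F125724) (iv3 F309884) (iv1 F240642) F326244 D148265 F332092 (iv3 D81739) F299886
theorem E95122 : n110655 = n84166 := (c18_3 (iv1 F326956) (iv4 D110657) D110655 (iv4 F201395) F201396 (iv4 F332092) (iv0 F332097) (iv4 D148265) (iv0 D69500) D69502)
theorem E95123 : n163786 = n51024 := (((iv0 F332091)).symm.trans (sb E95122 (iv0 D110655)))
theorem F332098 : act 0 n51024 = n84166 := (sb E95123 F332091)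
theorem E95124 : n110656 = n78683 := ((D110656).symm.trans (sb E95123 (iv0 D163786)))
theorem F332099 : act 0 n78683 = n51024 := (sb E95124 (iv1 D110656))
theorem F332100 : act 0 n144350 = n143726 := d20_7 F110642 F105629 (iv4 F314933) F52031 D37357 D81739 (iv4 F332092) F226387 F103200 (iv1 F182315)
theorem E95125 : n147667 = n67636 := (c18_5 F332100 F226387 (iv1 F316508) (iv4 F105498) D147667 (iv4 D67636) (iv0 D31414) (iv4 F49688) D67631 D144350)
theorem E95126 : n126709 = n69210 := (((iv2 F203921)).symm.trans (sb E95125 F231428))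
theorem E95127 : n144356 = n69204 := ((D144356).symm.trans (sb E95125 (iv5 D147667)))
theorem E95128 : n147687 = n136743 := ((D147687).symm.trans (sb E95126 (iv1 F219926)))
theorem E95129 : n147688 = n59458 := ((D147688).symm.trans (sb E95126 (iv0 F203923)))
theorem F332101 : act 2 n69210 = n67636 := (sb E95126 F203921)
theorem E95130 : n147689 = n59453 := ((D147689).symm.trans (sb E95126 (iv4 D126709)))
theorem E95131 : n147675 = n127078 := (((iv6 F231439)).symm.trans (sb E95126 (iv6 F204316)))
theorem E95132 : n147690 = n67641 := ((D147690).symm.trans (sb E95126 F203922))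
theorem F332102 : act 5 n69204 = n67636 := (sb E95127 (iv5 D144356))
theorem F332103 : act 1 n136743 = n69210 := (sb E95128 (iv0 D147687))
theorem F332104 : act 0 n59458 = n69210 := (sb E95129 (iv1 D147688))
theorem F332105 : act 4 n59453 = n69210 := (sb E95130 (iv4 D147689))
theorem F332106 : act 3 n127078 = n69219 := (sb E95131 F231438)
theorem F332107 : act 5 n127078 = n69207 := (sb E95131 (iv5 D147675))
theorem F332108 : act 6 n127078 = n69210 := (sb E95131 F231439)
theorem E95133 : n144360 = n69235 := ((D144360).symm.trans (sb E95132 F231444))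
theorem E95134 : n144361 = n69211 := ((D144361).symm.trans (sb E95132 F231445))
theorem F332109 : act 7 n67641 = n69210 := (sb E95132 (iv7 D147690))
theorem F332110 : act 3 n69235 = n67641 := (sb E95133 (iv3 D144360))
theorem F332111 : act 5 n69211 = n67641 := (sb E95134 (iv5 D144361))
theorem E95135 : n170516 = n170263 := ((c18_10 (iv1 D170516) (iv4 F332092) F332100 F226387 D143733 F308967 (iv0 D98258) F118923 F317485 D170263)).symm
theorem F332112 : act 0 n170263 = n81739 := (sb E95135 (iv1 D170516))
theorem E95136 : n163779 = n86095 := (c17_8 F317486 D170263 F332112 (iv5 F201396) F201395 (iv5 F249463) F330694 D163779 (iv0 F320689) (iv4 F301938))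
theorem E95137 : n78681 = n39853 := ((((iv5 D86095)).symm.trans (sb E95136 (iv5 D163779)))).symm
theorem E95138 : n158335 = n86091 := (((D86091).symm.trans (sb E95137 (iv1 F330694)))).symm
theorem E95139 : n86092 = n35834 := ((D86092).symm.trans (sb E95137 (iv0 D78681)))
theorem E95145 : n125343 = n78682 := (((iv1 F201617)).symm.trans (sb E95138 F330693))
theorem E95146 : n180194 = n78684 := ((D180194).symm.trans (sb E95138 F330695))
theorem E95147 : n180195 = n75500 := ((D180195).symm.trans (sb E95138 (iv3 D158335)))
theorem E95148 : n180196 = n113164 := ((D180196).symm.trans (sb E95138 F332094))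
theorem E95149 : n180197 = n84166 := ((D180197).symm.trans (sb E95138 F249463))
theorem E95150 : n180198 = n78668 := ((D180198).symm.trans (sb E95138 F330696))
theorem E95151 : n180199 = n78669 := ((D180199).symm.trans (sb E95138 F330697))
theorem F332113 : act 0 n35834 = n39853 := (sb E95139 (iv1 D86092))
theorem F332114 : act 1 n78682 = n86091 := (sb E95145 F201617)
theorem F332115 : act 2 n78682 = n58697 := (sb E95145 (iv2 D125343))
theorem E95156 : n163782 = n86102 := ((D163782).symm.trans (sb E95145 F201615))
theorem F332116 : act 7 n78682 = n86093 := (sb E95145 F201616)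
theorem F332117 : act 2 n78684 = n86091 := (sb E95146 (iv2 D180194))
theorem F332118 : act 3 n75500 = n86091 := (sb E95147 (iv3 D180195))
theorem F332119 : act 4 n113164 = n86091 := (sb E95148 (iv4 D180196))
theorem F332120 : act 5 n84166 = n86091 := (sb E95149 (iv5 D180197))
theorem F332121 : act 6 n78668 = n86091 := (sb E95150 (iv6 D180198))
theorem F332122 : act 7 n78669 = n86091 := (sb E95151 (iv7 D180199))
theorem F332123 : act 3 n86102 = n78682 := (sb E95156 (iv3 D163782))
theorem E95157 : n170263 = n147679 := ((c18_2 D69208 D147679 F332112 (iv4 F332092) (iv5 D144350) F103654 F100094 (iv4 F219923) F332103 (iv5 D69210))).symm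
theorem F332124 : act 0 n147679 = n81739 := (sb E95157 F332112)
theorem F332125 : act 5 n147679 = n81656 := (sb E95157 (iv5 D170263))
theorem F332126 : act 3 n144350 = n147844 := d20_3 D147679 F332124 (iv4 F332092) (iv1 D147844) (iv3 D69275) (iv4 D32204) (iv1 D15193) (iv4 F24810) (iv3 F51138) D69208
theorem F332127 : act 4 n147844 = n170522 := d5_2 (iv4 F332092) F332126 (iv3 D170522) (iv4 D81740) D81739
theorem F332128 : act 5 n147844 = n144349 := d6_2 D144350 F332126 (iv3 D144349)
theorem E95158 : n163784 = n98258 := (c6_3 (iv5 F321836) F332123 D163784 F151621)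
theorem F332129 : act 5 n98258 = n78682 := (sb E95158 (iv5 D163784))
theorem F332130 : act 3 n163785 = n166149 := d7_3 F261631 F332123 D163785
theorem F332131 : act 2 n121679 = n163785 := d0_5 F332130 (iv2 D166149) (iv3 D79779) (iv2 F88903) D121679
theorem F332132 : act 4 n163785 = n108102 := d1_2 F326028 F332131 F167175
theorem F332133 : act 7 n163785 = n166144 := d4_2 (iv7 F194184) F332131 (iv2 D166144)
theorem F332134 : act 1 n163785 = n166142 := d15_0 (iv0 D166142) (iv7 F194184) F332131
theorem F332135 : act 4 n166144 = n112539 := d11_1 F332133 F175026 (iv4 F332132)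
theorem F332136 : act 6 n166144 = n112538 := d14_1 F332133 F175020 F326657 (iv7 F332116) D163785
theorem F332137 : act 1 n166143 = n163785 := d15_1 D166143 F332133 (iv2 D166144)
theorem F332138 : act 5 n112773 = n166143 := d17_7 F175588 (iv5 D112785) (iv1 D52056) (iv5 D25268) (iv4 F39865) D52051 D112773 F332137 F332132
theorem F332139 : act 6 n166143 = n129913 := d21_5 (iv5 F327536) D98258 F332129 D163785 (iv1 F332137) (iv5 D129913) (iv1 D61017) F323390 (iv6 F326091) (iv1 F82248)
theorem E95159 : n172442 = n164980 := (c21_9 D112545 F326074 D129913 (iv6 F332139) (iv1 D166143) F325849 (iv5 F324937) F155441 D172442 (iv6 D164980) F326514)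
theorem F332140 : act 3 n164980 = n82566 := (sb E95159 F270661)
theorem F332141 : act 5 n164980 = n82564 := (sb E95159 (iv5 D172442))
theorem E95160 : n129913 = n112264 := ((c21_5 D52039 (iv1 F93211) (iv5 D59010) D59011 F174616 (iv6 F332139) (iv5 F332138) (iv1 D112773) (iv5 D52051) (iv6 D25266) D25262)).symm
theorem F332142 : act 5 n112264 = n61017 := (sb E95160 (iv5 D129913))
theorem F332143 : act 6 n112264 = n166143 := (sb E95160 (iv6 F332139))
theorem F332144 : act 2 n166143 = n126010 := d3_1 F332143 (iv6 D126010) (iv2 F174613)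
theorem F332145 : act 4 n166143 = n112265 := d10_1 F332143 (iv6 D112265) D112264
theorem F332146 : act 7 n166143 = n125976 := d14_2 (iv7 F174614) F332143 (iv6 D125976) F326493 (iv6 F326491)
theorem F332147 : act 0 n166145 = n110624 := d21_1 D166145 (iv5 D110624) (iv6 D51010) (iv1 F39657) D51925 D112545 F326074 (iv5 F332142) F332143 (iv1 D166143)
theorem F332148 : act 0 n121740 = n112773 := d21_1 D121740 F332138 (iv6 F332143) F322464 F320697 F318550 D129340 F313814 (iv6 F317707) (iv1 F326502)
theorem F332149 : act 7 n121740 = n112715 := d15_2 D112773 (iv0 F332148) F175434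
theorem F332150 : act 3 n112715 = n166457 := d8_1 F332149 F262012 (iv3 F194303)
theorem F332151 : act 1 n121742 = n112715 := d15_1 D121742 (iv7 F332149) F194302
theorem E95161 : n172166 = n110624 := ((c20_5 F317181 (iv1 F85284) (iv4 F317443) (iv3 F261628) F332147 (iv3 D172166) (iv4 F303451) (iv1 D82760) (iv4 F296815) F312989 (iv1 F317180))).symm
theorem F332152 : act 3 n110624 = n82450 := (sb E95161 (iv3 D172166))
theorem F332153 : act 3 n160718 = n101398 := d0_2 F332152 (iv2 F301006) F156197 F321395 F175159
theorem E95162 : n172168 = n110622 := (c6_3 D110624 F332152 D172168 F171216)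
theorem F332154 : act 5 n110622 = n82450 := (sb E95162 (iv5 D172168))
theorem F332155 : act 3 n160717 = n112771 := d8_3 F175573 F332152 (iv7 F301005)
theorem F332156 : act 5 n112770 = n160717 := d6_0 F332155 (iv5 D112771) D112770
theorem F332157 : act 0 n146140 = n112771 := d20_4 (iv4 D31999) D31997 (iv4 F183266) D146140 (iv3 F332155) (iv4 F298225) F298223 (iv4 F315402) (iv3 D146732) (iv1 D68795)
theorem F332158 : act 0 n125976 = n121679 := d17_0 (iv5 F318786) F332157 (iv5 D112771) F161138 D108838 (iv0 F168823) D156109 (iv0 F245295) (iv4 F222831)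
theorem F332159 : act 3 n104801 = n125976 := d20_3 (iv4 D48454) D48453 D104801 F332158 (iv3 D121679) (iv4 D56207) (iv1 D27084) D27085 D56208 (iv1 F328290)
theorem F332160 : act 1 n125976 = n166144 := d15_1 (iv0 F332158) (iv7 F332133) (iv2 F332131)
theorem F332161 : act 1 n126010 = n121679 := d15_0 (iv0 F332158) (iv7 F332146) F332144
theorem F332162 : act 1 n166144 = n126010 := d15_0 F332161 F194184 D166144
theorem E95163 : n163143 = n126010 := ((c15_2 F332160 F332162 (iv7 D163143) (iv2 F327223))).symm
theorem F332163 : act 7 n126010 = n78427 := (sb E95163 (iv7 D163143))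
theorem F332164 : act 7 n163133 = n108981 := d11_2 F332163 (iv4 F257449) (iv4 F202703)
theorem E95164 : n166142 = n78427 := (c15_2 F332137 F332134 (iv7 F332163) (iv2 F332144))
theorem E95165 : n163785 = n163140 := (((D163140).symm.trans (sb E95164 (iv1 F332134)))).symm
theorem E95166 : n163141 = n79777 := ((D163141).symm.trans (sb E95164 (iv0 D166142)))
theorem F332165 : act 0 n163140 = n166143 := (sb E95165 (iv1 F332137))
theorem F332166 : act 2 n163140 = n121679 := (sb E95165 (iv2 F332131))
theorem F332167 : act 3 n163140 = n166149 := (sb E95165 F332130)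
theorem F332168 : act 4 n163140 = n108102 := (sb E95165 F332132)
theorem F332169 : act 6 n163140 = n78682 := (sb E95165 (iv6 D163785))
theorem F332170 : act 7 n163140 = n166144 := (sb E95165 F332133)
theorem F332171 : act 0 n79777 = n78427 := (sb E95166 (iv1 D163141))
theorem F332172 : act 5 n163133 = n107065 := d18_4 F175585 F326046 F332171 (iv4 F257449) (iv4 F175589) (iv0 D112786) (iv4 D52057) D52056 D112785
theorem F332173 : act 5 n110440 = n131391 := d21_6 (iv5 F326510) F326509 (iv5 D121740) F88977 F325687 D110440 F309035 F324937 (iv6 F325849) F332171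
theorem F332174 : act 5 n121440 = n112601 := d13_3 F175190 F332173 (iv7 F311206)
theorem E95167 : n163567 = n110440 := (c17_7 F232876 (iv5 F210580) (iv1 F234332) F312411 (iv4 F60268) F320250 D163567 F332173 F309036 (iv4 F309450))
theorem F332175 : act 0 n110440 = n78592 := (sb E95167 (iv1 D163567))
theorem F332176 : act 5 n110349 = n119220 := d21_0 (iv1 F309036) (iv5 F332173) (iv6 D110440) (iv1 D50924) (iv6 D24763) D24762 D50919 F80328 D52247 F170611
theorem F332177 : act 3 n119224 = n110349 := d6_3 F332176 F187594 D119224
theorem F332178 : act 4 n119376 = n110350 := d9_13 F332176 (iv4 F309450) F314378 (iv4 F130124) (iv5 F317711) F319906 (iv5 D59114) D59113 (iv5 F324937) F299927 (iv5 F312547) (iv4 F310537) D119376 (iv5 D110350) D110349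
theorem F332179 : act 5 n131374 = n112538 := d13_3 F175020 F332176 (iv7 F313514)
theorem E95168 : n164980 = n163566 := (c17_8 (iv1 F175059) F175056 F170639 (iv5 D110350) D110349 F332176 F187595 (iv5 F332141) (iv0 D163566) (iv4 F319904))
theorem F332180 : act 3 n163566 = n82566 := (sb E95168 F332140)
theorem F332181 : act 5 n163566 = n82564 := (sb E95168 F332141)
theorem F332182 : act 6 n163566 = n79268 := (sb E95168 (iv6 D164980))
theorem E95169 : n175268 = n109237 := (c18_5 (iv1 F309036) F210600 (iv1 F210505) (iv4 F319722) D175268 (iv4 D109237) F161339 (iv4 F93479) (iv0 F170610) F332176)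
theorem E95170 : n175072 = n51921 := ((((iv0 F169187)).symm.trans (sb E95169 (iv0 F274286)))).symm
theorem F332183 : act 5 n109237 = n83695 := (sb E95169 (iv5 D175268))
theorem E95171 : n112537 = n83606 := ((D112537).symm.trans (sb E95170 (iv5 D175072)))
theorem E95172 : n119447 = n110586 := (((iv2 F188231)).symm.trans (sb E95171 F175017))
theorem F332184 : act 5 n83606 = n51921 := (sb E95171 (iv5 D112537))
theorem E95173 : n119448 = n110348 := (((iv7 F188232)).symm.trans (sb E95171 F175018))
theorem F332185 : act 0 n110586 = n83609 := (sb E95172 (iv1 F188227))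
theorem F332186 : act 1 n110586 = n54965 := (sb E95172 (iv0 D119447))
theorem F332187 : act 2 n110586 = n83606 := (sb E95172 F188231)
theorem F332188 : act 3 n110586 = n80167 := (sb E95172 F188218)
theorem F332189 : act 4 n110586 = n153274 := (sb E95172 (iv4 F310530))
theorem E95174 : n112708 = n83530 := (((iv7 F175420)).symm.trans (sb E95172 (iv7 F188219)))
theorem F332190 : act 0 n110348 = n54965 := (sb E95173 (iv1 D119448))
theorem F332191 : act 1 n110348 = n83609 := (sb E95173 F188220)
theorem F332192 : act 4 n110348 = n153275 := (sb E95173 (iv4 F310534))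
theorem F332193 : act 7 n110348 = n83606 := (sb E95173 F188232)
theorem F332194 : act 2 n83530 = n110348 := (sb E95174 F175419)
theorem E95175 : n174864 = n52023 := ((D174864).symm.trans (sb E95174 (iv5 D112708)))
theorem F332195 : act 7 n83530 = n110586 := (sb E95174 F175420)
theorem E95176 : n112706 = n83532 := (((iv3 F175415)).symm.trans (sb E95175 F273761))
theorem F332196 : act 5 n52023 = n83530 := (sb E95175 (iv5 D174864))
theorem F332197 : act 3 n83532 = n52023 := (sb E95176 F175415)
theorem E95177 : n174866 = n111497 := ((D174866).symm.trans (sb E95176 F175416))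
theorem E95178 : n174867 = n52021 := ((D174867).symm.trans (sb E95176 (iv6 D112706)))
theorem E95179 : n161587 = n110584 := (((iv7 F311754)).symm.trans (sb E95176 F175417))
theorem F332198 : act 4 n111497 = n83532 := (sb E95177 (iv4 D174866))
theorem F332199 : act 6 n52021 = n83532 := (sb E95178 (iv6 D174867))
theorem F332200 : act 0 n110584 = n173578 := (sb E95179 F311751)
theorem F332201 : act 1 n110584 = n77612 := (sb E95179 (iv0 D161587))
theorem F332202 : act 2 n110584 = n83527 := (sb E95179 F311752)
theorem F332203 : act 5 n110584 = n80167 := (sb E95179 F311753)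
theorem F332204 : act 7 n110584 = n83532 := (sb E95179 F311754)
theorem F332205 : act 6 n158389 = n110583 := d12_4 D110584 F332203 D166999 F262964 (iv5 D110583)
theorem F332206 : act 1 n99495 = n154173 := d17_6 (iv1 D77611) D77612 (iv1 F332201) F332203 F155405 D99495 (iv5 D154173) (iv0 F311761) (iv4 F308584)
theorem F332207 : act 4 n111777 = n155983 := d19_6 D80167 (iv5 F332203) F171154 F168933 (iv1 F166185) D111777 F319075 (iv1 F278650) (iv5 F278653) (iv4 D124956) (iv3 D58408) (iv1 F44885) (iv5 D13271) (iv4 F29958) D18898 (iv1 F91194) F21541 (iv4 F28677) (iv3 F57349)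
theorem F332208 : act 0 n180541 = n116687 := d21_1 D180541 F182080 F324772 (iv1 D82953) (iv6 F318145) (iv5 F320327) D80167 (iv5 F332203) (iv6 D110584) (iv1 F321441)
theorem F332209 : act 5 n166843 = n124660 := d21_0 (iv1 D124660) D124661 (iv6 F280992) F332208 F325853 (iv5 D56693) F44091 D36470 D80085 D166843
theorem F332210 : act 0 n124617 = n125608 := d18_2 (iv1 D124660) (iv4 F199307) F202060 F332154 (iv4 F303451) (iv0 F244452) F298233 F262583 F332209
theorem E95180 : n156083 = n109233 := (c1_3 F332207 F245376 D156083 (iv2 F173469))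
theorem F332211 : act 3 n109233 = n74718 := (sb E95180 (iv3 F245248))
theorem F332212 : act 4 n109233 = n74246 := (sb E95180 (iv4 D156083))
theorem E95181 : n156078 = n109241 := (c11_4 (iv7 F173470) F332207 F245377 D156078)
theorem F332213 : act 4 n109241 = n74245 := (sb E95181 (iv4 D156078))
theorem F332214 : act 5 n156142 = n111773 := d16_3 F332207 F245367 D156142 (iv4 D111773) (iv5 D51531) D51530 D111771 F173457 (iv2 F173469)
theorem F332215 : act 5 n156137 = n111779 := d16_1 D156137 (iv4 D111779) (iv5 D51536) D51535 D111777 F332207 F245367 (iv7 F245369) F245368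
theorem F332216 : act 0 n156142 = n108917 := d17_0 (iv5 D108917) (iv1 F166185) D111777 F332207 F245367 F111475 (iv5 D74279) D74277 D156142
theorem E95182 : n111762 = n106944 := ((c18_9 (iv1 F81287) F79529 (iv1 F39273) D51535 D111777 F332207 (iv0 D155983) F110968 D106944 (iv5 D111762))).symm
theorem F332217 : act 2 n106944 = n109227 := (sb E95182 F173445)
theorem F332218 : act 5 n106944 = n51525 := (sb E95182 (iv5 D111762))
theorem F332219 : act 7 n106944 = n109224 := (sb E95182 F173446)
theorem F332220 : act 4 n155984 = n111771 := d9_9 (iv5 F245367) (iv4 F332207) (iv5 D111777) (iv4 D51535) D51536 D111779 (iv5 F332215) (iv4 D156137) (iv5 F245379) (iv5 D111771) (iv4 D51530) D51531 D111773 (iv5 F332214) (iv4 D156142)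
theorem E95183 : n111765 = n106943 := (c18_10 (iv1 F245241) F245239 (iv1 F245038) F332220 (iv5 D111771) (iv4 D51530) (iv0 D25036) (iv4 F39270) D51526 D111765)
theorem F332221 : act 2 n106943 = n109224 := (sb E95183 F173449)
theorem F332222 : act 5 n106943 = n51526 := (sb E95183 (iv5 D111765))
theorem F332223 : act 7 n106943 = n109227 := (sb E95183 F173450)
theorem F332224 : act 3 n111771 = n108194 := d19_3 D74276 (iv5 F245379) F332220 (iv1 F167303) (iv5 F207281) F207280 F95263 (iv1 F95102) F95104 (iv4 D49351) (iv3 F40692) F47567 (iv5 F78203) (iv4 D49455) F37830 (iv1 F23876) F11899 D16508 D34080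
theorem F332225 : act 3 n155984 = n175345 := d5_1 (iv4 F332220) (iv4 D175345) (iv3 F201080) F312964 (iv3 F332224)
theorem F332226 : act 2 n175345 = n138373 := d0_1 F332225 F319532 (iv2 F317694) (iv3 D156077) (iv2 F245378)
theorem F332227 : act 7 n175345 = n156082 := d8_2 (iv7 F245380) F332225 (iv3 D156082)
theorem F332228 : act 1 n124956 = n156082 := d15_1 (iv0 F313688) (iv7 F332227) F332226
theorem F332229 : act 5 n175155 = n111160 := d16_5 (iv4 D138373) (iv5 F315000) (iv4 D83657) D83658 D175155 F247056 F247053 (iv7 F332227) F332226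
theorem F332230 : act 5 n175147 = n111159 := d9_8 F332229 F247056 F247053 (iv4 F312531) (iv5 D128336) F94871 D83653 D175147 F319531 (iv5 F319533) (iv4 D138373) (iv5 F315000) (iv4 D83657) D83658 D175155
theorem E95184 : n178426 = n111162 := ((c17_4 F278429 F332229 (iv1 D111160) D111162 (iv4 D178426) (iv5 D84903) (iv0 F155155) D39364 F130428 D178634)).symm
theorem F332231 : act 0 n111162 = n175159 := (sb E95184 F278019)
theorem F332232 : act 1 n111162 = n175163 := (sb E95184 F278020)
theorem F332233 : act 2 n111162 = n175365 := (sb E95184 F278017)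
theorem F332234 : act 4 n111162 = n84903 := (sb E95184 (iv4 D178426))
theorem E95185 : n175364 = n111227 := ((((iv7 F172514)).symm.trans (sb E95184 F278018))).symm
theorem F332235 : act 0 n111227 = n83750 := (sb E95185 (iv1 F274411))
theorem F332236 : act 1 n111227 = n83745 := (sb E95185 (iv0 D175364))
theorem F332237 : act 2 n111227 = n178620 := (sb E95185 (iv2 F278415))
theorem F332238 : act 4 n111227 = n176471 := (sb E95185 (iv4 F275775))
theorem F332239 : act 5 n111226 = n178620 := d17_7 (iv1 F128714) F59410 (iv1 F59388) D83658 D175155 F332229 F172512 F278417 (iv4 D175159)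
theorem F332240 : act 5 n175365 = n111161 := d13_3 (iv7 F172509) F332239 F278416
theorem F332241 : act 5 n175159 = n156516 := d17_7 F167008 F111528 (iv1 F167134) F167135 (iv4 F172508) F332239 F278417 (iv0 F246112) F215953
theorem E95186 : n175367 = n134164 := ((c2_2 F332241 F246113 (iv5 D175367) (iv2 F274170))).symm
theorem F332242 : act 4 n134164 = n85195 := (sb E95186 F274414)
theorem F332243 : act 5 n134164 = n83745 := (sb E95186 (iv5 D175367))
theorem F332244 : act 3 n156517 = n175159 := d6_3 F332241 (iv3 D156516) D156517
theorem E95187 : n175382 = n134163 := ((c13_3 (iv7 F274171) F332241 F246110 (iv5 D175382))).symm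
theorem F332245 : act 4 n134163 = n85190 := (sb E95187 F274427)
theorem F332246 : act 5 n134163 = n83750 := (sb E95187 (iv5 D175382))
theorem F332247 : act 5 n134165 = n175317 := d17_3 F332231 F332241 F246111 F278251 (iv5 F311314) (iv0 F189778) D157035 F316071 (iv4 F332234)
theorem F332248 : act 5 n178634 = n156238 := d13_3 F245552 F332247 (iv7 F278428)
theorem F332249 : act 7 n127848 = n157070 := d16_8 F189777 F311314 (iv4 F278251) (iv5 F332247) (iv4 F245544) F245542 (iv4 F246084) F312527 F247161
theorem F332250 : act 5 n156242 = n175314 := d18_9 F274364 (iv4 D85086) D85084 D178634 F332248 (iv4 D156238) (iv0 D74324) D74326 D156242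
theorem F332251 : act 4 n178650 = n156242 := d16_0 F332250 (iv4 D175314) F316063 (iv4 D74675) (iv5 F313583) D85096 D178653 (iv7 F278651) (iv2 F278652)
theorem E95188 : n175166 = n156244 := ((c17_2 (iv1 D156242) D156244 (iv1 D175166) (iv5 F320443) (iv4 D156958) (iv5 D74633) D74631 (iv5 F245375) F317693 F332251)).symm
theorem F332252 : act 0 n156244 = n83662 := (sb E95188 (iv1 D175166))
theorem F332253 : act 1 n156244 = n83757 := (sb E95188 F274181)
theorem F332254 : act 3 n156242 = n156459 := d20_3 (iv4 F247019) F318054 F332251 (iv1 D156459) (iv3 D74406) (iv4 F78594) (iv1 F78596) D62953 D134017 F246112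
theorem E95189 : n133478 = n114255 := ((c19_9 (iv1 F314994) D178650 F332251 F332254 (iv1 D156459) (iv5 F329209) F90553 F88616 D114255 F214660 F98897 (iv3 D51085) F38930 D29829 (iv4 F80881) (iv3 F172412) F332231 F332241 (iv4 F247019) F247018)).symm
theorem F332255 : act 3 n114255 = n62647 := (sb E95189 (iv3 D133478))
theorem F332256 : act 5 n114255 = n63567 := (sb E95189 F214660)
theorem F332257 : act 7 n114255 = n130695 := (sb E95189 F214661)
theorem F332258 : act 2 n130695 = n114256 := d15_3 F178089 F178094 F332257
theorem F332259 : act 5 n114256 = n134463 := d2_2 (iv5 F209262) F332258 (iv2 D134463)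
theorem E95190 : n135244 = n92739 := ((c21_10 (iv5 F332259) (iv1 D114256) D114257 F178091 (iv1 D92733) F68153 (iv5 D20504) D20502 D43383 D92739 (iv1 F217434))).symm
theorem F332260 : act 0 n92739 = n134463 := (sb E95190 (iv1 F217434))
theorem F332261 : act 1 n92739 = n63567 := (sb E95190 (iv0 D135244))
theorem F332262 : act 7 n135245 = n90437 := d15_2 F332261 D135245 (iv2 F142999)
theorem E95191 : n151587 = n123228 := (c20_1 D151587 (iv1 D123228) F90553 F88616 D114255 F332255 (iv4 F166252) (iv1 F166253) F83934 (iv3 F329169) (iv1 F114511))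
theorem F332263 : act 4 n123228 = n71455 := (sb E95191 (iv4 D151587))
theorem F332264 : act 5 n175311 = n156241 := d17_5 (iv1 F128710) (iv5 F191403) (iv1 F313587) (iv5 F316068) D175311 (iv0 D156241) D156244 F332253 F128794
theorem F332265 : act 4 n156241 = n178653 := d9_1 F332264 (iv5 D178653) (iv4 D85096) F313583 D74675 (iv5 F316063) D175314 (iv5 F332250) (iv4 F332251) (iv5 D178650) (iv4 D85093) F313588 D74680 (iv5 F316068) D175311
theorem F332266 : act 4 n138284 = n156269 := d20_6 F332265 (iv1 F318055) F247019 (iv3 D156516) (iv1 F314741) F314742 (iv1 D156269) (iv4 F245558) (iv3 D156243) D156241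
theorem F332267 : act 3 n178653 = n156045 := d20_3 D74326 D156241 F332265 (iv1 D156045) (iv3 D74226) F53428 (iv1 F47982) (iv4 F95941) F111523 (iv1 D74325)
theorem F332268 : act 5 n156045 = n178652 := d6_2 D178653 F332267 (iv3 D178652)
theorem E95192 : n179907 = n156269 := ((c5_1 F332266 (iv3 D179907) (iv4 F232989) F232988 D124930 F314742)).symm
theorem F332269 : act 3 n156269 = n85967 := (sb E95192 (iv3 D179907))
theorem E95193 : n175381 = n138376 := (c6_2 F332246 D175381 (iv5 D138376) (iv3 F216200))
theorem E95194 : n123079 = n83750 := ((F330630).symm.trans (sb E95193 (iv3 D175381)))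
theorem F332270 : act 3 n83750 = n138376 := (sb E95194 (iv3 F330630))
theorem E95195 : n175383 = n57277 := ((D175383).symm.trans (sb E95194 (iv6 D123079)))
theorem E95196 : n123078 = n83752 := ((D123078).symm.trans (sb E95195 F274428))
theorem F332271 : act 6 n57277 = n83750 := (sb E95195 (iv6 D175383))
theorem E95197 : n175384 = n151420 := ((D175384).symm.trans (sb E95196 F238141))
theorem E95198 : n175385 = n114192 := ((D175385).symm.trans (sb E95196 (iv0 F197269)))
theorem E95199 : n175164 = n152264 := (((iv2 F274180)).symm.trans (sb E95196 F239320))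
theorem E95200 : n175380 = n70291 := (((iv3 F274426)).symm.trans (sb E95196 F197268))
theorem F332272 : act 4 n83752 = n57277 := (sb E95196 (iv4 D123078))
theorem E95201 : n180819 = n175386 := (((D175386).symm.trans (sb E95196 (iv5 F281492)))).symm
theorem E95202 : n175387 = n146839 := ((D175387).symm.trans (sb E95196 (iv7 F230207)))
theorem F332273 : act 1 n151420 = n83752 := (sb E95197 (iv0 D175384))
theorem F332274 : act 0 n114192 = n83752 := (sb E95198 (iv1 D175385))
theorem F332275 : act 2 n152264 = n83752 := (sb E95199 F274180)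
theorem F332276 : act 6 n152264 = n83661 := (sb E95199 (iv6 D175164))
theorem F332277 : act 3 n70291 = n83752 := (sb E95200 F274426)
theorem E95203 : n149665 = n83749 := ((D149665).symm.trans (sb E95200 (iv6 D175380)))
theorem F332278 : act 0 n175386 = n123597 := (sb E95201 F281494)
theorem F332279 : act 1 n175386 = n119657 := (sb E95201 F281495)
theorem F332280 : act 2 n175386 = n86452 := (sb E95201 F281490)
theorem F332281 : act 3 n175386 = n101257 := (sb E95201 F281491)
theorem F332282 : act 4 n175386 = n86363 := (sb E95201 (iv4 D180819))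
theorem F332283 : act 7 n175386 = n86456 := (sb E95201 F281493)
theorem F332284 : act 7 n146839 = n83752 := (sb E95202 (iv7 D175387))
theorem E95204 : n175377 = n117483 := ((D175377).symm.trans (sb E95203 F235302))
theorem E95205 : n175378 = n70292 := ((D175378).symm.trans (sb E95203 F235303))
theorem F332285 : act 6 n83749 = n70291 := (sb E95203 (iv6 D149665))
theorem F332286 : act 2 n117483 = n83749 := (sb E95204 (iv2 D175377))
theorem F332287 : act 4 n70292 = n83749 := (sb E95205 (iv4 D175378))
theorem F332288 : act 6 n123082 = n134163 := d12_0 F332246 (iv6 F332271) (iv5 D57277) D57278 D123082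
theorem E95206 : n175375 = n175092 := (c19_5 D134163 F332246 (iv4 D83750) D83749 D175375 (iv5 D175092) F312381 F95350 F46470 (iv5 D14003) (iv4 D6657) D6656 (iv1 F23256) (iv5 D13968) D13967 (iv3 F23673) (iv1 F23675) D14168 D29815 D63027)
theorem F332289 : act 1 n175092 = n83749 := (sb E95206 (iv0 D175375))
theorem E95207 : n175379 = n118564 := (c17_8 (iv1 F86350) (iv5 F209328) (iv1 D60755) D60758 (iv4 F312381) D175092 F332289 D175379 (iv0 F186476) (iv4 D63262))
theorem F332290 : act 3 n118564 = n83751 := (sb E95207 F274425)
theorem F332291 : act 5 n118564 = n83749 := (sb E95207 (iv5 D175379))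
theorem E95208 : n175158 = n134665 := (c13_3 (iv7 F212045) F332291 (iv7 F274169) (iv5 D134665))
theorem F332292 : act 3 n134665 = n83660 := (sb E95208 (iv3 D175158))
theorem F332293 : act 7 n134665 = n83749 := (sb E95208 F274169)
theorem F332294 : act 0 n139686 = n134627 := d17_0 (iv5 D134627) F186476 F332291 (iv4 F332287) F106738 F130253 F318643 F320800 (iv4 F222867)
theorem F332295 : act 1 n147026 = n134655 := d18_8 (iv1 F216609) (iv4 F216610) F208731 F186475 F332291 (iv4 F332287) (iv0 F186345) D147026 (iv5 D134655)
theorem F332296 : act 0 n144555 = n175811 := d21_1 D144555 (iv5 F323290) F323291 (iv1 F106736) (iv6 F332285) (iv5 F332291) (iv1 D118564) D118566 F331681 (iv1 F227362)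
theorem F332297 : act 1 n117181 = n115133 := d17_8 F332296 (iv5 F323290) (iv1 D142374) (iv5 F330344) F330343 F330340 F229207 F229205 F331693
theorem E95209 : n173525 = n171078 := ((c21_8 (iv5 D50102) (iv1 F78545) D107602 (iv6 F331687) F332296 (iv6 D175811) F298372 D171078 (iv5 D173525) (iv6 F328859) F166008)).symm
theorem F332298 : act 5 n171078 = n83014 := (sb E95209 (iv5 D173525))
theorem F332299 : act 0 n120682 = n144556 := d21_4 (iv5 F156014) (iv1 D101257) F87992 D120682 (iv6 D144556) D144555 F332296 (iv5 F323290) F323291 (iv1 F106736)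
theorem F332300 : act 1 n144515 = n175811 := d15_0 (iv0 F332296) F227419 (iv2 F227372)
theorem E95210 : n152459 = n100490 := (c21_7 (iv5 D144515) D144512 F331683 (iv6 D114193) F83299 D71916 D152459 F154553 (iv5 F298372) D175811 (iv1 F332300))
theorem E95211 : n184481 = n164507 := ((F286410).symm.trans (sb E95210 (iv2 F259257)))
theorem F332301 : act 5 n100490 = n71916 := (sb E95210 (iv5 D152459))
theorem F332302 : act 0 n164507 = n87978 := (sb E95211 (iv1 D184481))
theorem F332303 : act 1 n164507 = n158697 := (sb E95211 F286408)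
theorem F332304 : act 2 n164507 = n100490 := (sb E95211 (iv2 F286410))
theorem F332305 : act 4 n164507 = n100489 := (sb E95211 F286411)
theorem F332306 : act 7 n164507 = n171078 := (sb E95211 F286409)
theorem E95212 : n119173 = n100489 := ((c20_3 (iv4 F249851) (iv1 F332303) F332305 (iv3 D119173) (iv1 D54842) (iv3 F309593) F85995 D69858 (iv4 F233063) F233067 (iv1 F134992))).symm
theorem F332307 : act 3 n100489 = n54842 := (sb E95212 (iv3 D119173))
theorem F332308 : act 3 n164507 = n118482 := d5_1 (iv4 F332305) F186375 F106293 (iv4 F94576) (iv3 F332307)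
theorem F332309 : act 5 n118482 = n164506 := d6_2 D164507 F332308 F259255
theorem E95213 : n171078 = n118557 := ((c8_4 (iv7 F332306) F332308 F186374 D118557)).symm
theorem F332310 : act 0 n118557 = n184483 := (sb E95213 (iv1 F286416))
theorem F332311 : act 1 n118557 = n81997 := (sb E95213 (iv0 D171078))
theorem F332312 : act 2 n118557 = n184480 := (sb E95213 (iv2 F286407))
theorem F332313 : act 5 n118557 = n83014 := (sb E95213 F332298)
theorem F332314 : act 7 n118557 = n164507 := (sb E95213 (iv7 F332306))
theorem F332315 : act 5 n107660 = n184480 := d2_2 F332313 (iv2 F329472) (iv2 F332312)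
theorem E95214 : n173523 = n118558 := (c6_2 F332313 D173523 (iv5 D118558) D118557)
theorem F332316 : act 3 n118558 = n83014 := (sb E95214 (iv3 D173523))
theorem E95215 : n171095 = n152437 := ((c18_5 (iv1 F327792) (iv4 D152446) (iv1 D71911) (iv4 F108418) D152437 (iv4 D171095) F134993 (iv4 F286414) (iv0 F332310) F332313)).symm
theorem E95216 : n184487 = n135435 := ((((iv2 F330212)).symm.trans (sb E95215 (iv2 F286426)))).symm
theorem F332317 : act 3 n152437 = n148832 := (sb E95215 F268816)
theorem F332318 : act 4 n152437 = n82004 := (sb E95215 (iv4 D171095))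
theorem F332319 : act 7 n152437 = n148844 := (sb E95215 F268817)
theorem F332320 : act 4 n135435 = n87980 := (sb E95216 (iv4 D184487))
theorem F332321 : act 7 n135435 = n171092 := (sb E95216 F286427)
theorem F332322 : act 3 n171092 = n173798 := d8_1 F332321 (iv7 D173798) (iv3 F330213)
theorem F332323 : act 5 n171092 = n107740 := d13_1 F332321 F325427 (iv5 F330214)
theorem F332324 : act 5 n133333 = n148844 := d2_2 F332323 (iv2 F214341) (iv2 F268815)
theorem F332325 : act 3 n148845 = n133333 := d6_3 F332324 (iv3 D148844) D148845
theorem F332326 : act 6 n148844 = n133335 := d12_2 D133333 F332324 (iv5 D133335) (iv6 D62578) D62577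
theorem F332327 : act 3 n133335 = n148846 := d7_1 F332326 (iv6 D148846) D148844
theorem F332328 : act 4 n133335 = n184485 := d10_1 F332326 (iv6 D184485) (iv4 F233861)
theorem F332329 : act 7 n133335 = n135430 := d14_2 F332319 F332326 (iv6 D135430) (iv7 F330230) F330229
theorem F332330 : act 3 n135430 = n128251 := d8_1 F332329 F233864 (iv3 F332327)
theorem F332331 : act 5 n135430 = n133336 := d13_1 F332329 (iv7 D133336) D133335
theorem E95217 : n133336 = n128249 := (c6_1 F332331 (iv3 D128249) D128251 (iv3 F332330))
theorem F332332 : act 0 n128249 = n64251 := (sb E95217 (iv1 F214351))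
theorem F332333 : act 1 n128249 = n74793 := (sb E95217 F214352)
theorem F332334 : act 2 n128249 = n116844 := (sb E95217 F214348)
theorem F332335 : act 4 n128249 = n62581 := (sb E95217 F214349)
theorem F332336 : act 5 n128249 = n135430 := (sb E95217 (iv5 F332331))
theorem F332337 : act 6 n128249 = n130523 := (sb E95217 F214350)
theorem F332338 : act 7 n128249 = n62578 := (sb E95217 (iv7 D133336))
theorem F332339 : act 0 n166908 = n157304 := d21_10 (iv5 D157304) (iv1 F332333) F332336 (iv6 D135430) F307462 (iv6 D82525) (iv5 F86222) (iv1 F86224) D80127 D166908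
theorem E95218 : n157304 = n128165 := ((c21_6 (iv5 F307460) (iv1 F308710) D134683 F330188 F155889 D128165 (iv5 D157304) (iv1 F332333) F332336 (iv6 D135430) F307462)).symm
theorem F332340 : act 1 n128165 = n166908 := (sb E95218 (iv0 F332339))
theorem F332341 : act 5 n128165 = n74793 := (sb E95218 (iv5 D157304))
theorem F332342 : act 7 n128165 = n116845 := (sb E95218 F247535)
theorem E95219 : n161728 = n128165 := (c8_4 F332342 F325031 F307984 D161728)
theorem F332343 : act 3 n128165 = n77688 := (sb E95219 (iv3 D161728))
theorem E95220 : n161729 = n138585 := (c6_3 (iv5 F332341) F332343 D161729 F221754)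
theorem F332344 : act 5 n138585 = n77688 := (sb E95220 (iv5 D161729))
theorem E95221 : n177714 = n173419 := ((c20_2 (iv4 F127910) D173419 F277173 F332343 (iv1 F123376) F123371 F86872 (iv1 F42551) F188453 F317277 (iv1 D82989))).symm
theorem F332345 : act 2 n173419 = n98291 := (sb E95221 F277171)
theorem F332346 : act 3 n173419 = n84626 := (sb E95221 F277172)
theorem F332347 : act 4 n173419 = n128165 := (sb E95221 F277173)
theorem F332348 : act 6 n173419 = n84625 := (sb E95221 (iv6 D177714))
theorem E95222 : n173415 = n130060 := ((c20_4 F303987 (iv1 D61599) (iv4 F95590) (iv3 F208505) (iv1 D173415) F127908 (iv4 F127910) D173419 F332347 F332343 (iv1 F123376))).symm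
theorem F332349 : act 0 n130060 = n82984 := (sb E95222 (iv1 D173415))
theorem E95223 : n128225 = n128165 := ((c20_4 F304353 (iv1 F96085) (iv4 F306034) (iv3 F332343) (iv1 D128225) (iv3 D60279) F110020 (iv1 F162950) F306740 (iv3 D83560) (iv1 D38524))).symm
theorem F332350 : act 0 n128165 = n60279 := (sb E95223 (iv1 D128225))
theorem E95224 : n128227 = n127061 := (c17_4 F167731 (iv5 F332341) F332350 D128227 F217890 (iv5 D135489) F99063 (iv5 F100114) F100117 (iv4 F167729))
theorem F332351 : act 3 n127061 = n60281 := (sb E95224 F206359)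
theorem F332352 : act 5 n127061 = n60279 := (sb E95224 (iv5 D128227))
theorem E95225 : n177716 = n123017 := ((c20_4 (iv4 F109812) (iv1 F77361) (iv4 F304387) (iv3 F197122) (iv1 D177716) (iv3 F332346) F332347 F332350 (iv4 F184638) (iv3 F184637) (iv1 F184608))).symm
theorem F332353 : act 0 n123017 = n84626 := (sb E95225 (iv1 D177716))
theorem F332354 : act 7 n166908 = n128226 := d15_2 (iv0 F332350) F332340 (iv2 D128226)
theorem E95226 : n135311 = n128224 := (c15_4 (iv0 D128224) (iv0 F332350) F332342 (iv2 F326003))
theorem F332355 : act 2 n128224 = n116845 := (sb E95226 F326003)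
theorem F332356 : act 3 n128224 = n82927 := (sb E95226 (iv3 F310052))
theorem F332357 : act 4 n128224 = n153965 := (sb E95226 F308035)
theorem F332358 : act 5 n128224 = n64251 := (sb E95226 F326004)
theorem F332359 : act 6 n128224 = n63611 := (sb E95226 (iv6 D135311))
theorem F332360 : act 6 n98959 = n153965 := d10_2 F332359 (iv4 F318138) (iv4 F332357)
theorem F332361 : act 0 n128224 = n166908 := d21_4 (iv5 F211937) (iv1 F95822) (iv5 F212144) (iv6 F332359) (iv6 D166908) (iv5 D80127) (iv1 D36492) (iv5 F302366) F52388 D33172
theorem F332362 : act 5 n101258 = n136751 := d18_4 F332361 (iv4 F306325) (iv1 D101260) (iv4 F156017) F219950 F100117 (iv4 F167729) (iv0 F167730) (iv5 F332358)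
theorem F332363 : act 5 n166908 = n155140 := d21_2 (iv5 F332358) F332361 (iv6 D155140) (iv1 D73636) (iv6 F322781) (iv5 F324258) D73621 (iv5 F328525) (iv6 F332337) F332332
theorem F332364 : act 4 n135233 = n155140 := d17_4 (iv1 F97584) F48647 (iv1 F163865) D135233 (iv5 F332363) (iv0 F332361) F332358 (iv0 F332332) F332335
theorem F332365 : act 7 n155140 = n138243 := d11_2 (iv7 F217419) F332364 F221426
theorem F332366 : act 0 n155140 = n120055 := d18_2 F217420 F332364 (iv4 F314551) (iv5 F166336) D132206 (iv0 F211812) (iv4 F209213) F214358 F214355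
theorem E95227 : n173440 = n129686 := (c18_10 (iv1 F214359) F204099 F217420 F332364 (iv5 F332363) (iv4 F306325) F304186 F121577 F317289 (iv5 F271894))
theorem F332367 : act 5 n129686 = n82991 := (sb E95227 F271894)
theorem F332368 : act 7 n129686 = n82990 := (sb E95227 (iv7 D173440))
theorem F332369 : act 1 n155140 = n137315 := d18_6 (iv1 D59348) (iv4 F93620) D126489 F203365 D135233 F332364 F220476 (iv0 F203788) F94033
theorem E95228 : n172010 = n129680 := (c4_2 F332368 (iv2 F270059) F207860 (iv2 F207867))
theorem F332370 : act 2 n129680 = n82990 := (sb E95228 F270059)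
theorem F332371 : act 5 n129680 = n82386 := (sb E95228 (iv5 D172010))
theorem E95229 : n173439 = n126494 := (c11_2 F332368 D173439 F203386 D129686)
theorem F332372 : act 4 n126494 = n82990 := (sb E95229 (iv4 D173439))
theorem F332373 : act 7 n173425 = n126343 := d14_2 F332368 (iv6 F271890) F203155 (iv7 F171853) (iv6 F207868)
theorem F332374 : act 4 n129678 = n98515 := d16_4 (iv4 D129680) (iv5 D60914) D60913 D129678 (iv5 D98515) (iv4 F315082) (iv5 F332367) F332368 (iv2 F332370)
theorem F332375 : act 1 n127072 = n173437 := d15_0 (iv0 D173437) (iv7 F332368) F207867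
theorem F332376 : act 4 n173437 = n137321 := d18_7 (iv1 F99069) (iv4 F203606) (iv1 F203608) (iv4 D126496) (iv5 F94033) (iv4 F204305) F332375 F220489 (iv5 D135481)
theorem F332377 : act 5 n127072 = n170729 := d17_1 (iv1 F332375) F317271 F330961 F100105 F48701 D63694 F163999 F220488 (iv4 F332376)
theorem E95230 : n173437 = n173376 := ((c20_10 F204305 F203788 (iv4 F220476) (iv3 F331743) (iv1 D173288) F127778 D82940 D173306 F271715 D173376 (iv1 F332375))).symm
theorem F332378 : act 0 n173376 = n127072 := (sb E95230 (iv1 F332375))
theorem F332379 : act 1 n173376 = n82990 := (sb E95230 (iv0 D173437))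
theorem F332380 : act 4 n173376 = n137321 := (sb E95230 F332376)
theorem F332381 : act 3 n144302 = n173306 := d5_3 F332380 (iv3 F245355) F245356 F271715 D173376
theorem F332382 : act 6 n107694 = n173376 := d10_0 F332380 F220487 F175797
theorem E95231 : n126858 = n83584 := (c11_4 (iv7 F271856) F332380 (iv7 D137321) (iv4 F204099))
theorem E95232 : n175013 = n129680 := ((D175013).symm.trans (sb E95231 (iv1 F217892)))
theorem E95233 : n175014 = n129686 := ((D175014).symm.trans (sb E95231 F214359))
theorem E95234 : n175016 = n64550 := ((D175016).symm.trans (sb E95231 F204099))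
theorem E95235 : n175017 = n59526 := ((D175017).symm.trans (sb E95231 (iv6 D126858)))
theorem F332383 : act 1 n129680 = n83584 := (sb E95232 (iv0 D175013))
theorem F332384 : act 0 n129686 = n83584 := (sb E95233 (iv1 D175014))
theorem F332385 : act 4 n64550 = n83584 := (sb E95234 (iv4 D175016))
theorem E95236 : n126856 = n83585 := ((D126856).symm.trans (sb E95235 F273921))
theorem E95237 : n172564 = n126857 := (((D126857).symm.trans (sb E95235 F273922))).symm
theorem F332386 : act 6 n59526 = n83584 := (sb E95235 (iv6 D175017))
theorem F332387 : act 3 n83585 = n59526 := (sb E95236 (iv3 D126856))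
theorem E95238 : n174582 = n111029 := (((iv4 F273438)).symm.trans (sb E95236 F204098))
theorem F332388 : act 3 n126857 = n82612 := (sb E95237 F270742)
theorem F332389 : act 6 n126857 = n82609 := (sb E95237 (iv6 D172564))
theorem F332390 : act 4 n111029 = n83585 := (sb E95238 F273438)
theorem F332391 : act 6 n111029 = n83427 := (sb E95238 (iv6 D174582))
theorem F332392 : act 5 n138243 = n128226 := d18_4 (iv1 F332379) F332380 (iv1 F220488) (iv4 F221426) F206358 (iv0 D81867) (iv4 F125814) F315081 D82990
theorem F332393 : act 4 n170758 = n129667 := d16_4 (iv4 F221426) F332392 F206358 D170758 (iv5 D129667) F203370 D135481 (iv7 F217888) F217886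
theorem F332394 : act 4 n123092 = n129670 := d16_2 F197281 D123092 (iv5 D129670) (iv4 F163998) F163999 (iv4 F221426) F332392 (iv7 F332354) F262768
theorem F332395 : act 0 n128226 = n116845 := d21_7 (iv5 F45789) (iv1 F45791) (iv5 F45670) D59435 F100715 D138243 F332392 (iv5 D116845) (iv6 D53845) F41145
theorem F332396 : act 1 n123087 = n116845 := d15_0 (iv0 F332395) (iv7 F332354) F262768
theorem F332397 : act 4 n98511 = n116845 := d20_0 (iv1 F332396) F197281 (iv3 F306317) F184576 F64278 (iv4 F54744) F184673 (iv4 D46066) D46065 D98511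
theorem F332398 : act 2 n153965 = n98511 := d1_3 F332397 (iv2 F332355) F332357
theorem F332399 : act 3 n123019 = n98511 := d5_5 F332397 F325031 F95358 (iv3 F96075) (iv4 F307625)
theorem F332400 : act 6 n129291 = n98511 := d10_0 F332397 F325032 D129291
theorem F332401 : act 7 n173419 = n98511 := d11_0 F332397 (iv7 F332342) (iv4 F332347)
theorem F332402 : act 1 n172007 = n98511 := d18_6 (iv1 F221427) F204108 F95462 D129680 F332371 (iv4 F270057) F332397 (iv0 F332395) (iv5 F332392)
theorem F332403 : act 3 n106071 = n145288 := d20_3 F64279 (iv1 F184571) D106071 (iv1 F307624) F332399 F332397 (iv1 F332396) F197281 (iv3 F306317) F184576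
theorem E95239 : n154626 = n154061 := ((c20_4 F90298 F313272 F129402 (iv3 F242109) (iv1 F268352) (iv3 D170757) (iv4 F206358) F332395 (iv4 F332397) (iv3 F332399) (iv1 D123019))).symm
theorem F332404 : act 0 n154061 = n170757 := (sb E95239 (iv1 F268352))
theorem F332405 : act 1 n154061 = n73319 := (sb E95239 (iv0 D154626))
theorem F332406 : act 0 n160099 = n149162 := d20_1 (iv4 F252682) F304373 (iv3 D87557) (iv1 F306393) (iv3 F191337) (iv4 F306409) (iv1 D33729) D33731 D73319 (iv1 F332405)
theorem E95240 : n101492 = n83794 := (c20_5 D72879 F191174 F77298 (iv3 F90816) (iv1 F306923) (iv3 F242109) (iv4 F252682) F332406 F304373 (iv3 D87557) (iv1 F306393))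
theorem E95241 : n175475 = n47223 := ((D175475).symm.trans (sb E95240 (iv1 D101492)))
theorem E95242 : n175476 = n57652 := ((D175476).symm.trans (sb E95240 F306923))
theorem E95243 : n101491 = n99596 := ((D101491).symm.trans (sb E95241 (iv1 F274741)))
theorem F332407 : act 1 n47223 = n83794 := (sb E95241 (iv0 D175475))
theorem F332408 : act 0 n57652 = n83794 := (sb E95242 (iv1 D175476))
theorem F332409 : act 0 n99596 = n57652 := (sb E95243 F306924)
theorem F332410 : act 1 n99596 = n47223 := (sb E95243 (iv0 D101491))
theorem E95244 : n181301 = n99596 := ((c20_2 (iv4 D101494) (iv1 F332410) (iv4 D181301) (iv3 F313275) F304900 F124180 F57796 D77688 F306034 (iv3 F210128) F307617)).symm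
theorem F332411 : act 4 n99596 = n86569 := (sb E95244 (iv4 D181301))
theorem E95245 : n144478 = n53475 := (c18_1 D144478 (iv4 F180622) F330624 F278933 F307108 F108068 (iv0 F332409) F332411 F311025 F312216)
theorem E95246 : n116005 = n74433 := ((D116005).symm.trans (sb E95245 (iv1 F227303)))
theorem E95247 : n116006 = n67704 := ((D116006).symm.trans (sb E95245 (iv0 D144478)))
theorem E95248 : n144479 = n65726 := (((iv1 F227308)).symm.trans (sb E95246 (iv1 F180693)))
theorem F332412 : act 1 n74433 = n53475 := (sb E95246 (iv0 D116005))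
theorem F332413 : act 0 n67704 = n53475 := (sb E95247 (iv1 D116006))
theorem F332414 : act 0 n65726 = n67704 := (sb E95248 (iv1 D144479))
theorem F332415 : act 1 n65726 = n74433 := (sb E95248 F227308)
theorem F332416 : act 6 n140009 = n107974 := d21_3 F312801 (iv1 F332415) (iv5 F223216) (iv1 D107974) (iv6 D49867) F38102 (iv1 F55506) (iv5 F78816) F313277 (iv1 D86569)
theorem F332417 : act 5 n116023 = n138697 := d21_6 (iv5 F211926) F310804 (iv5 F310667) D74433 (iv1 F332415) (iv6 F180769) (iv1 D138697) (iv5 D65122) (iv6 D30576) D30572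
theorem F332418 : act 0 n140009 = n143903 := d21_1 (iv5 F223216) (iv5 D143903) (iv6 D67405) F326019 (iv6 D65108) (iv5 F211926) F310804 (iv5 F310667) D74433 (iv1 F332415)
theorem E95249 : n148940 = n139959 := (c21_3 (iv5 F319896) F310188 (iv5 F310190) (iv6 D139959) (iv1 F180772) F180769 (iv5 F223216) F332418 (iv5 D143903) (iv6 D67405) F326019)
theorem F332419 : act 1 n139959 = n69823 := (sb E95249 (iv0 D148940))
theorem F332420 : act 5 n139959 = n84391 := (sb E95249 F310190)
theorem F332421 : act 1 n116007 = n143903 := d15_0 (iv0 F332418) (iv7 D140009) F180688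
theorem F332422 : act 3 n116007 = n131613 := d20_5 (iv4 F313672) F310512 (iv4 F314538) (iv3 F226528) (iv1 F332421) (iv4 D131613) (iv1 F205886) (iv4 F247985) F247984 F311460
theorem E95250 : n181380 = n143903 := (c21_10 (iv5 D116007) (iv1 F332412) (iv5 F312801) (iv6 D40130) D40128 D86566 (iv5 F311160) (iv1 F112412) F307959 D181380 (iv1 F332421))
theorem F332423 : act 6 n143903 = n86598 := (sb E95250 (iv6 D181380))
theorem F332424 : act 2 n140007 = n143903 := d3_3 F332423 (iv2 F307947) (iv6 F323571)
theorem E95251 : n167875 = n141463 := ((c21_8 (iv5 F311160) (iv1 F112412) F307959 (iv6 F332423) (iv1 F332421) (iv6 F224507) (iv5 D141465) D141463 F264510 (iv6 D86645) F311847)).symm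
theorem F332425 : act 3 n141463 = n80571 := (sb E95251 (iv3 D167875))
theorem F332426 : act 5 n141463 = n86645 := (sb E95251 F264510)
theorem E95252 : n155550 = n141463 := (c2_4 F332426 (iv2 F311130) F318758 (iv2 F244564))
theorem F332427 : act 2 n141463 = n74004 := (sb E95252 F244564)
theorem F332428 : act 6 n141463 = n74002 := (sb E95252 (iv6 D155550))
theorem F332429 : act 7 n118000 = n141463 := d13_0 F332426 (iv7 F302263) F313750
theorem E95253 : n170028 = n66369 := (c21_1 D170028 D141463 F332426 (iv6 D86645) F311847 (iv6 D86566) F61019 F46193 D33023 D71370 (iv1 F301160))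
theorem E95254 : n141465 = n81549 := ((D141465).symm.trans (sb E95253 (iv5 D170028)))
theorem E95255 : n170025 = n139994 := (((iv2 F267459)).symm.trans (sb E95254 F224506))
theorem F332430 : act 5 n81549 = n66369 := (sb E95254 (iv5 D141465))
theorem E95256 : n170029 = n116007 := ((D170029).symm.trans (sb E95254 F224507))
theorem F332431 : act 2 n139994 = n81549 := (sb E95255 F267459)
theorem F332432 : act 7 n139994 = n81548 := (sb E95255 (iv7 D170025))
theorem F332433 : act 6 n116007 = n81549 := (sb E95256 (iv6 D170029))
theorem E95257 : n181529 = n133776 := ((c21_7 (iv5 F311701) F303043 F317921 F315622 D79762 D166116 F261564 (iv1 D181529) (iv5 F332426) F332428 F319817)).symm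
theorem F332434 : act 0 n133776 = n86645 := (sb E95257 (iv1 D181529))
theorem E95258 : n181528 = n133777 := ((c15_4 (iv0 D181528) (iv0 F332434) (iv7 F234102) (iv2 F234108))).symm
theorem F332435 : act 1 n133777 = n86645 := (sb E95258 (iv0 D181528))
theorem F332436 : act 4 n133777 = n151962 := d20_0 (iv1 D151962) F108134 (iv3 F108126) F314273 (iv3 D81773) (iv4 D37381) D37379 (iv4 F297815) (iv3 F132893) (iv1 F332435)
theorem F332437 : act 6 n170026 = n131613 := d7_2 F332433 D170026 (iv3 F332422)
theorem E95259 : n170030 = n149340 := (c21_2 D81550 D170030 F234773 (iv6 D148967) (iv1 F305007) F305008 F312216 F332413 D116007 F332433 (iv1 D81549))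
theorem F332438 : act 1 n149340 = n81550 := (sb E95259 (iv0 D170030))
theorem E95260 : n170031 = n140833 := (c15_2 F332438 D170031 F321790 F261562)
theorem F332439 : act 0 n140833 = n81550 := (sb E95260 (iv1 D170031))
theorem F332440 : act 1 n127311 = n149340 := d15_0 F332438 F301161 (iv2 F314085)
theorem F332441 : act 5 n141441 = n97234 := d21_0 (iv1 D97234) D97235 F149994 (iv1 F332438) (iv6 D149340) F191343 F234094 F107563 (iv6 F318001) (iv1 F224472)
theorem E95261 : n155543 = n141441 := (c21_6 F234773 F234100 F318758 (iv6 D74004) D74000 D155543 F332441 (iv1 D97234) D97235 F149994 (iv1 F332438))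
theorem F332442 : act 3 n141441 = n80573 := (sb E95261 F321725)
theorem F332443 : act 6 n141441 = n74000 := (sb E95261 (iv6 D155543))
theorem F332444 : act 2 n149585 = n141441 := d3_3 F332443 (iv2 F321720) D149585
theorem E95262 : n158999 = n141441 := (c12_6 F332443 (iv5 F321724) (iv6 F307457) (iv5 F320804) (iv6 F184249) D158999)
theorem E95263 : n97234 = n75926 := ((F332441).symm.trans (sb E95262 (iv5 D158999)))
theorem E95264 : n158996 = n45433 := ((D158996).symm.trans (sb E95263 (iv1 D97234)))
theorem E95265 : n158997 = n145827 := ((D158997).symm.trans (sb E95263 (iv0 F310945)))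
theorem F332445 : act 5 n75926 = n141441 := (sb E95263 (iv5 F332441))
theorem E95266 : n159945 = n97233 := (((D97233).symm.trans (sb E95264 (iv1 F252255)))).symm
theorem F332446 : act 1 n45433 = n75926 := (sb E95264 (iv0 D158996))
theorem F332447 : act 0 n145827 = n75926 := (sb E95265 (iv1 D158997))
theorem F332448 : act 4 n145827 = n85364 := (sb E95265 F308959)
theorem F332449 : act 2 n97233 = n120601 := (sb E95266 F252252)
theorem F332450 : act 4 n97233 = n76571 := (sb E95266 (iv4 D159945))
theorem F332451 : act 7 n97233 = n151759 := (sb E95266 F252253)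
theorem F332452 : act 7 n140768 = n141441 := d14_0 F332443 (iv7 F321718) F324175 F180314 D140768
theorem E95267 : n148641 = n148556 := ((c21_4 F106696 D133710 F320085 D148556 (iv1 D148641) (iv6 F315208) (iv5 F228973) F332447 F332445 F332443 F319822)).symm
theorem F332453 : act 0 n148556 = n69658 := (sb E95267 (iv1 D148641))
theorem F332454 : act 1 n148556 = n118655 := (sb E95267 (iv0 F314083))
theorem F332455 : act 2 n127306 = n148556 := d15_3 F332454 (iv0 F317432) F317436
theorem F332456 : act 5 n149769 = n148556 := d17_5 F185362 (iv5 F104525) (iv1 F233828) (iv5 F235779) F307658 F332454 (iv5 D118655) (iv0 F305913) (iv4 F307036)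
theorem F332457 : act 5 n155555 = n122601 := d21_0 (iv1 D122601) D122602 F196373 (iv1 F332454) (iv6 D148556) (iv5 F320085) (iv1 F215207) (iv5 F317592) D74004 D155555
theorem F332458 : act 0 n155555 = n118000 := d21_1 (iv5 F332457) (iv5 F313750) (iv6 D125214) F311354 F310769 F74246 F309268 F307267 D70844 F301156
theorem F332459 : act 6 n107973 = n122601 := d21_5 (iv5 D49831) F55537 (iv5 F38102) D49867 D107973 (iv5 F332457) F332458 (iv5 F313750) (iv6 D125214) F311354
theorem F332460 : act 0 n107973 = n170227 := d21_4 F318758 D155555 F332457 (iv6 F332459) (iv6 D170227) (iv5 F314125) (iv1 F106211) D69833 D148967 F234100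
theorem F332461 : act 2 n107972 = n170227 := d15_3 (iv0 F332460) (iv0 D107973) (iv7 F166837)
theorem F332462 : act 7 n170227 = n107891 := d4_2 (iv7 F166837) F332461 F166705
theorem F332463 : act 4 n152037 = n170227 := d11_3 F332462 F166706 D152037
theorem F332464 : act 1 n107974 = n170227 := d15_1 D107974 F332462 F166705
theorem F332465 : act 3 n99986 = n152037 := d5_5 F332463 F267743 F125546 (iv3 F300696) (iv4 F301640)
theorem F332466 : act 6 n99984 = n152037 := d10_0 F332463 (iv6 D170227) (iv4 F153919)
theorem F332467 : act 0 n133315 = n152037 := d20_1 D133315 F332463 F267743 (iv1 F301032) (iv3 F307152) F307153 F191362 F309925 F114917 (iv1 F329020)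
theorem F332468 : act 5 n152037 = n177919 := d6_2 F153925 F332465 (iv3 D177919)
theorem F332469 : act 7 n177919 = n152036 := d13_2 D152037 F332468 (iv5 D152036)
theorem F332470 : act 3 n152036 = n120526 := d8_1 F332469 F301758 D177919
theorem F332471 : act 1 n179710 = n122686 := d17_6 F301156 (iv5 F332457) F332458 (iv5 F313750) F201328 D179710 (iv5 D122686) (iv0 F302002) F185683
theorem E95268 : n133315 = n122687 := (c21_5 D151948 F238942 F166829 D107965 F237554 (iv6 D122687) D122686 (iv1 F332471) (iv5 D179710) (iv6 D85835) F313744)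
theorem F332472 : act 0 n122687 = n152037 := (sb E95268 F332467)
theorem F332473 : act 1 n122687 = n107965 := (sb E95268 (iv0 F237554))
theorem F332474 : act 2 n122687 = n152010 := (sb E95268 (iv2 F247751))
theorem F332475 : act 4 n122687 = n62566 := (sb E95268 (iv4 D133315))
theorem F332476 : act 7 n122687 = n130899 := (sb E95268 F214288)
theorem F332477 : act 6 n152010 = n122683 := d3_2 D122687 F332474 F196545
theorem F332478 : act 4 n122683 = n152012 := d10_1 F332477 (iv6 D152012) D152010
theorem F332479 : act 7 n152012 = n122680 := d11_2 D122683 F332478 (iv4 D122680)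
theorem F332480 : act 2 n122680 = n151798 := d4_1 F332479 (iv7 F305595) F305591
theorem F332481 : act 5 n122680 = n142508 := d13_1 F332479 F322309 (iv5 F239029)
theorem E95269 : n152012 = n151799 := ((c15_2 (iv0 D151798) D151799 F332479 F332480)).symm
theorem F332482 : act 2 n151799 = n122685 := (sb E95269 (iv2 F305591))
theorem E95270 : n122683 = n122344 := ((((iv4 F301999)).symm.trans (sb E95269 (iv4 F332478)))).symm
theorem F332483 : act 5 n151799 = n76667 := (sb E95269 F239029)
theorem F332484 : act 6 n151799 = n71668 := (sb E95269 (iv6 D152012))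
theorem F332485 : act 7 n151799 = n122680 := (sb E95269 F332479)
theorem F332486 : act 2 n122344 = n56986 := (sb E95270 F196545)
theorem F332487 : act 6 n122344 = n152010 := (sb E95270 (iv6 F332477))
theorem F332488 : act 7 n122344 = n56985 := (sb E95270 (iv7 D122683))
theorem E95271 : n122678 = n122345 := (c15_4 F302000 (iv0 F301998) F332488 D122678)
theorem F332489 : act 2 n122345 = n56985 := (sb E95271 (iv2 D122678))
theorem F332490 : act 7 n122345 = n56986 := (sb E95271 (iv7 F196544))
theorem F332491 : act 1 n150622 = n122680 := d15_1 (iv0 F237160) (iv7 F332485) F332482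
theorem E95272 : n154841 = n147949 := (c21_1 D154841 F278367 (iv5 D152011) (iv6 F332484) (iv1 D151799) (iv6 D71557) F52319 (iv1 D16322) D16323 D33773 D73431)
theorem F332492 : act 5 n147949 = n73431 := (sb E95272 (iv5 D154841))
theorem E95273 : n143583 = n73431 := (c21_6 F318168 (iv1 D54265) D54266 F85603 D67234 D143583 (iv5 F332492) F278367 (iv5 D152011) (iv6 F332484) (iv1 D151799))
theorem E95274 : n99611 = n67234 := (((iv6 F314824)).symm.trans (sb E95273 (iv6 D143583)))
theorem E95275 : n143580 = n119478 := ((D143580).symm.trans (sb E95274 (iv3 F188275)))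
theorem E95276 : n143581 = n46563 := ((D143581).symm.trans (sb E95274 F153363))
theorem F332493 : act 6 n67234 = n73431 := (sb E95274 F314824)
theorem E95277 : n143584 = n46559 := ((D143584).symm.trans (sb E95274 (iv7 D99611)))
theorem F332494 : act 3 n119478 = n67234 := (sb E95275 (iv3 D143580))
theorem F332495 : act 4 n46563 = n67234 := (sb E95276 (iv4 D143581))
theorem E95278 : n99570 = n67235 := (((iv2 F153309)).symm.trans (sb E95277 F226273))
theorem F332496 : act 7 n46559 = n67234 := (sb E95277 (iv7 D143584))
theorem F332497 : act 2 n67235 = n46559 := (sb E95278 F153309)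
theorem E95279 : n143585 = n86586 := ((D143585).symm.trans (sb E95278 F153310))
theorem E95280 : n143586 = n46541 := ((D143586).symm.trans (sb E95278 F153311))
theorem E95281 : n143588 = n46540 := ((D143588).symm.trans (sb E95278 (iv6 D99570)))
theorem F332498 : act 3 n86586 = n67235 := (sb E95279 (iv3 D143585))
theorem F332499 : act 4 n46541 = n67235 := (sb E95280 (iv4 D143586))
theorem F332500 : act 6 n46540 = n67235 := (sb E95281 (iv6 D143588))
theorem F332501 : act 6 n143579 = n106035 := d14_3 (iv7 F73535) F332500 F226271 (iv7 F162993) F305997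
theorem E95282 : n117807 = n100892 := (c21_9 F155018 (iv1 F153308) (iv5 D99569) F332500 (iv1 D67235) (iv6 F85603) (iv5 D54266) D54264 D117807 (iv6 D100892) D100889)
theorem F332502 : act 5 n100892 = n54264 := (sb E95282 (iv5 D117807))
theorem E95283 : n143587 = n118907 := (c21_7 (iv5 F52260) F50491 (iv5 F52354) D71641 (iv1 F310232) F332500 D143587 (iv1 D118907) F86530 (iv6 D33144) (iv1 F52258))
theorem F332503 : act 5 n118907 = n67235 := (sb E95283 (iv5 D143587))
theorem F332504 : act 2 n99610 = n118907 := d2_3 F332503 F332497 D99610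
theorem F332505 : act 5 n143579 = n148031 := d13_3 (iv7 F247832) F332503 F226271
theorem F332506 : act 3 n106037 = n143579 := d6_3 F332505 (iv3 F247796) (iv5 F312015)
theorem E95284 : n148034 = n106035 := (c12_6 (iv6 F332501) F332505 (iv6 D148031) (iv5 D69334) D69335 D148034)
theorem E95285 : n175209 = n73434 := ((F307919).symm.trans (sb E95284 F308168))
theorem E95286 : n175208 = n73399 := ((F307920).symm.trans (sb E95284 F308169))
theorem F332507 : act 5 n106035 = n69335 := (sb E95284 (iv5 D148034))
theorem E95287 : n154789 = n83681 := (((iv1 F243439)).symm.trans (sb E95285 (iv1 D175209)))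
theorem F332508 : act 1 n73434 = n106035 := (sb E95285 (iv0 F307919))
theorem F332509 : act 0 n73399 = n106035 := (sb E95286 (iv1 F307920))
theorem F332510 : act 0 n83681 = n73399 := (sb E95287 (iv1 D154789))
theorem F332511 : act 1 n83681 = n73434 := (sb E95287 F243439)
theorem E95288 : n143579 = n139228 := ((c21_11 F332505 (iv1 F305891) (iv5 D118787) (iv6 D54687) D54686 D118784 F305883 (iv1 F315970) D117802 F184487 (iv1 F222415))).symm
theorem F332512 : act 2 n139228 = n67234 := (sb E95288 (iv2 D143579))
theorem F332513 : act 3 n139228 = n106037 := (sb E95288 (iv3 F332506))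
theorem F332514 : act 5 n139228 = n148031 := (sb E95288 F332505)
theorem F332515 : act 6 n139228 = n106035 := (sb E95288 F332501)
theorem F332516 : act 7 n139228 = n67235 := (sb E95288 (iv7 F226271))
theorem F332517 : act 4 n99574 = n139228 := d11_3 F332516 (iv4 F332499) D99574
theorem E95289 : n99609 = n65350 := (c15_1 D99609 D139228 F332516 F332497)
theorem E95290 : n139227 = n46559 := ((D139227).symm.trans (sb E95289 (iv1 D99609)))
theorem E95291 : n99608 = n66999 := ((D99608).symm.trans (sb E95290 (iv1 F222414)))
theorem F332518 : act 1 n46559 = n65350 := (sb E95290 (iv0 D139227))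
theorem F332519 : act 1 n66999 = n46559 := (sb E95291 (iv0 D99608))
theorem E95292 : n155196 = n126337 := ((c19_15 (iv1 F332519) (iv5 D66999) (iv4 F100641) (iv3 F219182) F325435 (iv5 D77786) (iv4 D35497) (iv3 D17205) (iv1 F28118) F324191 F19022 (iv3 F22326) D28122 D59227 D126337 (iv3 F286772) (iv1 D119490) (iv5 D54976) (iv4 F86991) F86990)).symm
theorem F332520 : act 3 n126337 = n119490 := (sb E95292 (iv3 F286772))
theorem F332521 : act 5 n126337 = n73700 := (sb E95292 (iv5 D155196))
theorem F332522 : act 0 n118787 = n99610 := d21_10 (iv5 D99610) (iv1 F332519) (iv5 D66999) (iv6 D31204) (iv1 F24396) D14747 D31247 F321299 D54690 (iv6 F186865)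
theorem F332523 : act 5 n117800 = n150622 := d21_8 (iv5 F153360) (iv1 D99606) (iv5 D46558) D46559 (iv1 F332519) (iv6 F184487) (iv5 D117802) D117800 F304004 F133326
theorem F332524 : act 6 n109676 = n99610 := d21_5 D14746 F103075 F49503 (iv6 F79954) D109676 (iv5 D99610) (iv1 F332519) (iv5 D66999) (iv6 D31204) (iv1 F24396)
theorem F332525 : act 5 n99607 = n109676 := d12_5 F332524 (iv5 D99610) (iv6 D46559) D46558 D99607
theorem F332526 : act 0 n99607 = n139125 := d21_7 D31247 F321299 D54690 (iv6 F186865) F332522 (iv6 F332524) (iv5 F332525) (iv5 D139125) F226118 (iv1 D31246)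
theorem F332527 : act 4 n117310 = n146415 := d17_4 F332526 (iv5 D139125) F316928 (iv5 F183672) (iv5 D146415) F104844 (iv5 F104906) F183909 F314937
theorem E95293 : n146096 = n139125 := ((c20_11 (iv4 D146096) (iv1 D68507) D68509 (iv3 F317960) D68516 (iv3 F251070) F313876 (iv1 D114540) (iv4 F178602) F178601 F332526)).symm
theorem F332528 : act 4 n139125 = n68507 := (sb E95293 (iv4 D146096))
theorem F332529 : act 7 n139125 = n144877 := (sb E95293 (iv7 F243246))
theorem F332530 : act 1 n99607 = n138742 := d15_1 (iv0 F332526) (iv7 F320470) (iv2 F319251)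
theorem F332531 : act 4 n114868 = n146097 := d18_3 D68646 (iv4 F314939) D114868 (iv5 D146097) (iv4 F332528) (iv0 F332526) (iv4 F314937) (iv0 D117415) F85419
theorem E95294 : n114872 = n114868 := (c11_1 F178958 F332531 (iv7 F243247) F319823)
theorem F332532 : act 2 n114868 = n53006 := (sb E95294 (iv2 D114872))
theorem F332533 : act 7 n114868 = n53007 := (sb E95294 (iv7 F178958))
theorem F332534 : act 2 n103134 = n146097 := d1_3 (iv4 F332531) F332532 (iv4 F190342)
theorem F332535 : act 5 n105759 = n103134 := d2_0 F332534 (iv5 D146097) F243114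
theorem F332536 : act 7 n105758 = n103134 := d4_0 F332534 (iv7 F243247) (iv2 F162413)
theorem F332537 : act 1 n103134 = n117156 := d15_0 (iv0 F243197) F243247 (iv2 F332534)
theorem F332538 : act 1 n146135 = n103134 := d15_0 F332537 F183267 D146135
theorem E95295 : n103135 = n95291 := (c20_7 D31999 D68794 F182754 D117156 (iv1 F332537) (iv3 D103134) D103135 (iv1 F147260) F314952 (iv3 D68792) (iv1 D31998))
theorem F332539 : act 4 n95291 = n47811 := (sb E95295 (iv4 D103135))
theorem F332540 : act 2 n95587 = n95291 := d1_3 F332539 (iv2 F317933) (iv4 F315634)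
theorem F332541 : act 6 n127494 = n95291 := d10_0 F332539 F315641 (iv4 F204926)
theorem F332542 : act 7 n95588 = n95291 := d11_0 F332539 (iv7 F317934) (iv4 F317173)
theorem F332543 : act 5 n127494 = n183256 := d21_6 (iv5 D10124) (iv1 F15948) D21170 D44514 D95291 (iv6 F332541) (iv1 D183256) (iv5 D87473) (iv6 D40696) F30852
theorem F332544 : act 7 n183256 = n127493 := d13_2 D127494 F332543 (iv5 D127493)
theorem F332545 : act 4 n106796 = n147259 := d18_3 (iv1 D183256) (iv4 F330364) D106796 (iv5 D147259) F105251 D69034 (iv4 F320367) F320365 F332543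
theorem F332546 : act 2 n127493 = n183255 := d15_3 (iv0 D183255) D183256 F332544
theorem F332547 : act 5 n183255 = n127458 := d2_2 D127493 F332546 F204883
theorem E95296 : n170408 = n40696 := (c17_1 (iv1 F267880) D87473 D183255 F332547 F204884 (iv5 F106608) F311004 (iv5 D37345) D37344 D81709)
theorem E95297 : n87471 = n81704 := ((D87471).symm.trans (sb E95296 (iv1 D170408)))
theorem E95298 : n87472 = n81709 := ((D87472).symm.trans (sb E95296 F267880))
theorem E95299 : n170407 = n96249 := ((D170407).symm.trans (sb E95297 (iv1 F148037)))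
theorem F332548 : act 1 n81704 = n40696 := (sb E95297 (iv0 D87471))
theorem F332549 : act 0 n81709 = n40696 := (sb E95298 (iv1 D87472))
theorem F332550 : act 0 n96249 = n81709 := (sb E95299 (iv1 F267884))
theorem F332551 : act 1 n96249 = n81704 := (sb E95299 (iv0 D170407))
theorem F332552 : act 4 n163474 = n183255 := d18_3 (iv1 D96560) (iv4 F294346) D163474 F332547 F204884 F188389 D68592 F319857 F148720
theorem F332553 : act 1 n97309 = n163474 := d18_6 (iv1 F332548) (iv4 D81704) (iv1 F71703) F71699 (iv5 F71708) (iv4 F150046) F332552 (iv0 D183255) (iv5 D87473)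
theorem F332554 : act 2 n163477 = n97309 := d15_3 F332553 (iv0 D163474) D163477
theorem F332555 : act 4 n96562 = n163477 := d1_0 F332554 F150046 (iv2 F148723)
theorem F332556 : act 1 n163477 = n97305 := d15_0 (iv0 D97305) D97309 (iv2 F332554)
theorem F332557 : act 3 n169837 = n158934 := d20_3 D81704 (iv1 F332551) (iv4 F267269) (iv1 F314052) (iv3 D147031) F105873 (iv1 D54028) (iv4 F52030) F52029 D37343
theorem F332558 : act 5 n124728 = n169837 := d6_0 F332557 F250263 (iv3 F199565)
theorem E95310 : n124728 = n115216 := ((c16_7 F134288 D87473 (iv4 F330364) (iv5 D49345) (iv4 F40734) D53157 D115216 F332558 (iv7 D169837) (iv2 F134287))).symm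
theorem F332559 : act 0 n115216 = n147302 := (sb E95310 F230942)
theorem F332560 : act 1 n115216 = n69035 := (sb E95310 (iv0 F199566))
theorem F332561 : act 2 n115216 = n72924 := (sb E95310 F199564)
theorem F332562 : act 3 n115216 = n84995 := (sb E95310 F199565)
theorem F332563 : act 5 n115216 = n169837 := (sb E95310 F332558)
theorem F332564 : act 6 n115216 = n58305 := (sb E95310 (iv6 D124728))
theorem F332565 : act 7 n115216 = n146980 := (sb E95310 (iv7 F230374))
theorem F332566 : act 4 n146980 = n115218 := d11_1 F332565 (iv7 D115218) D115216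
theorem F332567 : act 4 n106795 = n96248 := d16_4 (iv4 F325784) (iv5 D115213) F83928 D106795 (iv5 D96248) (iv4 F125280) (iv5 F313082) (iv7 F332565) F332561
theorem F332568 : act 6 n96954 = n106795 := d10_0 F332567 F148032 D96954
theorem F332569 : act 2 n115218 = n148353 := d1_1 F332566 F232138 F315593
theorem F332570 : act 6 n115218 = n148347 := d10_2 F315595 F332566 (iv4 D148347)
theorem F332571 : act 0 n115218 = n114551 := d20_1 F332566 F178627 (iv3 F106644) F234755 (iv3 F253038) F253034 (iv1 F230926) (iv4 F315733) F315732 (iv1 F230883)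
theorem E95311 : n126461 = n34868 := (c20_4 (iv4 F120211) (iv1 F329173) F176268 (iv3 F203305) (iv1 F83145) (iv3 F177509) (iv4 F230880) (iv1 F230883) F332566 F179422 F328840)
theorem E95312 : n76323 = n59332 := ((D76323).symm.trans (sb E95311 F203305))
theorem E95313 : n76325 = n59331 := ((D76325).symm.trans (sb E95311 (iv5 D126461)))
theorem F332572 : act 3 n59332 = n34868 := (sb E95312 (iv3 D76323))
theorem E95318 : n159533 = n113136 := ((((iv4 F176268)).symm.trans (sb E95312 D159533))).symm
theorem E95320 : n159535 = n126462 := (((D126462).symm.trans (sb E95312 D159535))).symm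
theorem E95321 : n114028 = n62648 := ((((iv7 F97732)).symm.trans (sb E95312 (iv7 F177882)))).symm
theorem E95322 : n159536 = n126458 := (((D126458).symm.trans (sb E95313 D159536))).symm
theorem E95323 : n159537 = n126459 := (((D126459).symm.trans (sb E95313 D159537))).symm
theorem E95324 : n126460 = n114026 := ((D126460).symm.trans (sb E95313 F177880))
theorem F332573 : act 5 n59331 = n34868 := (sb E95313 (iv5 D76325))
theorem E95326 : n159539 = n59372 := ((((iv6 F93656)).symm.trans (sb E95313 D159539))).symm
theorem E95327 : n114030 = n63568 := ((((iv7 F98901)).symm.trans (sb E95313 (iv7 F177881)))).symm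
theorem F332574 : act 3 n113136 = n164201 := (sb E95318 (iv3 F258798))
theorem F332575 : act 3 n126462 = n76326 := (sb E95320 F251264)
theorem E95328 : n126551 = n106273 := (((iv5 F203516)).symm.trans (sb E95320 (iv5 F251265)))
theorem F332576 : act 3 n62648 = n52627 := (sb E95321 (iv3 D114028))
theorem E95329 : n135249 = n76330 := (((iv1 F217447)).symm.trans (sb E95322 (iv1 F251267)))
theorem F332577 : act 2 n126458 = n114088 := (sb E95322 (iv2 F251268))
theorem F332578 : act 5 n126458 = n105380 := (sb E95322 F251266)
theorem F332579 : act 3 n126459 = n127400 := (sb E95323 F331448)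
theorem F332580 : act 5 n126459 = n114089 := (sb E95323 (iv5 F251271))
theorem F332581 : act 6 n126459 = n127397 := (sb E95323 (iv6 F331447))
theorem F332582 : act 7 n126459 = n114088 := (sb E95323 F251270)
theorem E95330 : n135248 = n114088 := ((((iv1 F177666)).symm.trans (sb E95324 (iv1 F217448)))).symm
theorem F332583 : act 1 n114026 = n135247 := (sb E95324 F217443)
theorem F332584 : act 2 n114026 = n59331 := (sb E95324 (iv2 D126460))
theorem F332585 : act 3 n114026 = n135246 := (sb E95324 (iv3 F217435))
theorem F332586 : act 4 n114026 = n59358 := (sb E95324 F203304)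
theorem F332587 : act 6 n114026 = n126549 := (sb E95324 (iv6 F203506))
theorem E95331 : n126550 = n106275 := ((D126550).symm.trans (sb E95326 F251272))
theorem F332588 : act 5 n63568 = n52627 := (sb E95327 (iv5 D114030))
theorem E95332 : n135250 = n106102 := ((D135250).symm.trans (sb E95327 (iv6 F177514)))
theorem F332589 : act 0 n106273 = n68844 := (sb E95328 F327673)
theorem F332590 : act 2 n106273 = n126472 := (sb E95328 F203514)
theorem F332591 : act 4 n106273 = n126535 := (sb E95328 F203515)
theorem F332592 : act 5 n106273 = n126462 := (sb E95328 F203516)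
theorem F332593 : act 6 n106273 = n59373 := (sb E95328 (iv6 D126551))
theorem F332594 : act 0 n76330 = n126459 := (sb E95329 (iv1 F217449))
theorem F332595 : act 1 n76330 = n126458 := (sb E95329 F217447)
theorem F332596 : act 2 n76330 = n63568 := (sb E95329 (iv2 D135249))
theorem E95333 : n159544 = n134463 := (((iv3 F251276)).symm.trans (sb E95329 F217444))
theorem E95334 : n159546 = n126514 := ((D159546).symm.trans (sb E95329 F217445))
theorem F332597 : act 0 n114088 = n63568 := (sb E95330 (iv1 D135248))
theorem F332598 : act 4 n114088 = n135492 := (sb E95330 (iv4 F217900))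
theorem E95335 : n131977 = n106123 := (((F177876).symm.trans (sb E95331 (iv2 F211463)))).symm
theorem F332599 : act 3 n106275 = n59373 := (sb E95331 F203507)
theorem F332600 : act 4 n106275 = n106582 := (sb E95331 (iv4 F203509))
theorem F332601 : act 5 n106275 = n59372 := (sb E95331 (iv5 D126550))
theorem F332602 : act 7 n106275 = n126530 := (sb E95331 F203508)
theorem F332603 : act 3 n106102 = n63569 := (sb E95332 F217450)
theorem F332604 : act 4 n106102 = n126526 := (sb E95332 F217451)
theorem F332605 : act 6 n106102 = n63568 := (sb E95332 (iv6 D135250))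
theorem E95336 : n164474 = n134492 := (((iv7 F259201)).symm.trans (sb E95332 F217452))
theorem F332606 : act 3 n134463 = n76330 := (sb E95333 F251276)
theorem E95337 : n114256 = n76328 := (((iv5 F332259)).symm.trans (sb E95333 (iv5 D159544)))
theorem F332607 : act 4 n126514 = n76330 := (sb E95334 (iv4 D159546))
theorem F332608 : act 3 n106123 = n62318 := (sb E95335 F211465)
theorem E95338 : n113956 = n61932 := ((F177852).symm.trans (sb E95335 (iv4 D131977)))
theorem F332609 : act 5 n106123 = n126549 := (sb E95335 (iv5 F211466))
theorem F332610 : act 7 n106123 = n130132 := (sb E95335 F211464)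
theorem F332611 : act 0 n134492 = n78989 := (sb E95336 (iv1 D164474))
theorem F332612 : act 1 n134492 = n106104 := (sb E95336 F259200)
theorem F332613 : act 2 n134492 = n106103 := (sb E95336 (iv2 F259203))
theorem F332614 : act 5 n134492 = n159527 := (sb E95336 (iv5 F259202))
theorem F332615 : act 7 n134492 = n106102 := (sb E95336 F259201)
theorem E95339 : n159540 = n52735 := ((D159540).symm.trans (sb E95337 (iv1 D114256)))
theorem E95340 : n159541 = n114108 := ((D159541).symm.trans (sb E95337 F178089))
theorem E95341 : n159542 = n130695 := ((D159542).symm.trans (sb E95337 (iv2 F332258)))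
theorem F332616 : act 5 n76328 = n134463 := (sb E95337 F332259)
theorem F332617 : act 4 n61932 = n106123 := (sb E95338 (iv4 F177852))
theorem E95342 : n131979 = n52603 := ((D131979).symm.trans (sb E95338 (iv6 D113956)))
theorem F332618 : act 1 n52735 = n76328 := (sb E95339 (iv0 D159540))
theorem F332619 : act 0 n114108 = n76328 := (sb E95340 (iv1 D159541))
theorem F332620 : act 2 n130695 = n76328 := (sb E95341 (iv2 D159542))
theorem F332621 : act 6 n52603 = n61932 := (sb E95342 (iv6 D131979))
theorem F332622 : act 7 n115213 = n148353 := d16_8 (iv4 F332566) F313082 F125280 D96248 (iv4 F332567) (iv5 D106795) (iv4 F83928) D115213 (iv2 F332569)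
theorem E95343 : n146973 = n127492 := (c18_2 F230367 D146973 (iv1 D127492) F94352 D59883 (iv4 F178627) (iv0 F332571) (iv4 F332566) F230883 F230881)
theorem F332623 : act 2 n127492 = n97064 := (sb E95343 (iv2 F320366))
theorem F332624 : act 4 n127492 = n68894 := (sb E95343 (iv4 D146973))
theorem F332625 : act 7 n127492 = n147260 := (sb E95343 (iv7 F230856))
theorem E95344 : n141486 = n138653 := (c19_9 F211589 (iv5 F179423) (iv4 F332566) (iv3 D146980) (iv1 D68899) (iv5 D32041) (iv4 F50666) (iv3 F102274) D141486 (iv5 D138653) (iv4 D65106) F313039 (iv1 D60348) (iv5 D28659) (iv4 F46214) F46213 (iv1 F296720) D38798 F113536 (iv3 F321098))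
theorem F332626 : act 1 n138653 = n66378 := (sb E95344 (iv0 D141486))
theorem F332627 : act 4 n114179 = n164621 := d20_0 (iv1 F259571) F235983 F328855 (iv1 F83950) (iv3 F179422) (iv4 F332566) (iv1 F230375) (iv4 F177504) F177503 D114179
theorem F332628 : act 2 n164621 = n95516 := d1_1 F332627 F261858 (iv2 F177947)
theorem F332629 : act 7 n164621 = n159529 := d11_2 (iv7 F177946) F332627 (iv4 D159529)
theorem E95345 : n133466 = n113711 := (c18_8 D114179 F332627 (iv1 F259571) F235983 (iv5 F176778) F328472 D128586 (iv4 F214637) (iv0 D113711) (iv5 F83279))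
theorem F332630 : act 2 n113711 = n128768 := (sb E95345 F214640)
theorem F332631 : act 3 n113711 = n62642 := (sb E95345 (iv3 D133466))
theorem F332632 : act 4 n113711 = n128586 := (sb E95345 F214637)
theorem F332633 : act 7 n113711 = n128773 := (sb E95345 F214636)
theorem E95346 : n173905 = n114179 := (c20_6 F83947 (iv1 F97740) (iv4 D62649) (iv3 F97723) F318985 D173905 F332627 (iv1 F259571) F235983 F328855 (iv1 F83950))
theorem F332634 : act 3 n114179 = n83162 := (sb E95346 (iv3 D173905))
theorem E95347 : n175971 = n76320 := (((F177946).symm.trans (sb E95346 (iv7 F275310)))).symm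
theorem E95348 : n159528 = n83970 := ((D159528).symm.trans (sb E95347 (iv3 D175971)))
theorem E95349 : n128878 = n106271 := ((((iv5 F163312)).symm.trans (sb E95347 (iv5 F319775)))).symm
theorem F332635 : act 3 n83970 = n76320 := (sb E95348 (iv3 D159528))
theorem F332636 : act 3 n106271 = n61058 := (sb E95349 F207123)
theorem F332637 : act 4 n106271 = n60612 := (sb E95349 (iv4 D128878))
theorem F332638 : act 7 n106271 = n132860 := (sb E95349 (iv7 F213419))
theorem F332639 : act 3 n173904 = n164621 := d5_5 (iv4 F332627) F332634 (iv4 D83162) (iv3 F128220) D173904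
theorem E95350 : n148706 = n33060 := (c20_5 (iv4 D83052) (iv1 F59084) (iv4 F59488) (iv3 F128966) (iv1 F326560) (iv3 F56742) (iv4 F120357) D164621 (iv4 F332627) F332634 F128221)
theorem E95351 : n71454 = n69694 := ((D71454).symm.trans (sb E95350 (iv1 D148706)))
theorem E95352 : n84000 = n71455 := (((D71455).symm.trans (sb E95350 F326560))).symm
theorem E95353 : n148705 = n76390 := ((D148705).symm.trans (sb E95351 (iv1 F114512)))
theorem F332640 : act 1 n69694 = n33060 := (sb E95351 (iv0 D71454))
theorem E95354 : n151580 = n38686 := (((F327298).symm.trans (sb E95351 D151580))).symm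
theorem E95359 : n151585 = n76376 := ((((iv7 F193518)).symm.trans (sb E95351 D151585))).symm
theorem E95360 : n151586 = n38688 := ((D151586).symm.trans (sb E95352 F128966))
theorem E95361 : n175402 = n123228 := ((((iv4 F332263)).symm.trans (sb E95352 (iv4 F274442)))).symm
theorem E95362 : n151588 = n115184 := ((D151588).symm.trans (sb E95352 (iv5 F317543)))
theorem E95363 : n176077 = n151589 := (((D151589).symm.trans (sb E95352 D176077))).symm
theorem F332641 : act 1 n76390 = n69694 := (sb E95353 (iv0 D148705))
theorem F332642 : act 7 n38686 = n71455 := (sb E95354 (iv7 F238470))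
theorem F332643 : act 2 n76376 = n71455 := (sb E95359 F238471)
theorem F332644 : act 3 n38688 = n71455 := (sb E95360 (iv3 D151586))
theorem F332645 : act 3 n123228 = n83757 := (sb E95361 F274441)
theorem F332646 : act 7 n123228 = n83755 := (sb E95361 (iv7 D175402))
theorem F332647 : act 5 n115184 = n71455 := (sb E95362 (iv5 D151588))
theorem F332648 : act 3 n151589 = n84002 := (sb E95363 F275348)
theorem F332649 : act 2 n159642 = n151589 := d0_5 F332648 (iv2 F326558) F233488 F193467 (iv3 F251492)
theorem E95364 : n185769 = n115188 := (c21_9 F332647 (iv1 D71455) (iv5 F103982) (iv6 D67904) D67902 (iv6 F143094) (iv5 D92774) F135459 D185769 (iv6 D115188) D115184)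
theorem F332650 : act 0 n115188 = n88482 := (sb E95364 F288078)
theorem F332651 : act 1 n115188 = n185874 := (sb E95364 F288336)
theorem F332652 : act 2 n115188 = n92778 := (sb E95364 F288076)
theorem F332653 : act 5 n115188 = n88477 := (sb E95364 (iv5 D185769))
theorem F332654 : act 7 n115188 = n92782 := (sb E95364 F288077)
theorem F332655 : act 3 n92782 = n115191 := d8_1 F332654 (iv7 D115191) (iv3 F179379)
theorem F332656 : act 4 n92782 = n123428 := d11_1 F332654 F327344 (iv4 F179380)
theorem F332657 : act 4 n89032 = n185768 := d1_2 F332656 F301617 F288073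
theorem F332658 : act 5 n177913 = n92777 := d16_5 F332656 (iv5 D123428) (iv4 F120844) D84695 D177913 (iv4 D92777) D92778 (iv7 F288075) F288073
theorem F332659 : act 2 n183754 = n177913 := d2_3 F332658 (iv2 F160567) D183754
theorem E95365 : n185381 = n177912 := (c18_2 F287622 D185381 (iv1 D177912) D177913 F332658 (iv4 D92777) (iv0 D43405) (iv4 F35060) D46851 D100386)
theorem F332660 : act 4 n177912 = n88315 := (sb E95365 (iv4 D185381))
theorem F332661 : act 4 n135068 = n92778 := d16_0 (iv5 D92778) D92777 (iv5 F332658) (iv4 D177913) (iv5 D84695) F120844 D123428 F327344 (iv2 F217298)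
theorem F332662 : act 5 n89033 = n135068 := d16_1 F241794 F332661 (iv5 D92778) D92777 (iv5 F332658) (iv4 D177913) (iv5 D84695) (iv7 F302830) F241795
theorem F332663 : act 3 n135068 = n89056 := d6_1 F332662 F136728 (iv3 F136703)
theorem F332664 : act 6 n135067 = n98902 := d12_4 (iv6 F136704) F332662 (iv6 D135068) D135067 F152455
theorem F332665 : act 7 n135068 = n89032 := d13_2 D89033 F332662 (iv5 D89032)
theorem F332666 : act 6 n89042 = n134782 := d14_3 F332665 F136702 D89042 F216884 D135068
theorem F332667 : act 1 n135074 = n89032 := d15_1 D135074 (iv7 F332665) F217298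
theorem F332668 : act 4 n183754 = n154082 := d16_4 (iv4 F179380) F332653 (iv4 F135458) D183754 (iv5 D154082) F109463 D89032 (iv7 F332665) F217298
theorem F332669 : act 3 n175572 = n183758 := d5_3 F332668 F310382 D175572 (iv4 D183758) (iv3 F285524)
theorem F332670 : act 2 n134784 = n89042 := d3_3 F332666 (iv2 D134782) D134784
theorem F332671 : act 5 n134782 = n91023 := d12_1 F332666 (iv6 D91023) (iv5 D42635) F292997 (iv5 F136719)
theorem F332672 : act 2 n91023 = n134783 := d2_1 F332671 (iv5 D134783) D134782
theorem F332673 : act 7 n91023 = n135067 := d13_2 (iv7 F216884) F332671 (iv5 D135067)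
theorem F332674 : act 3 n135067 = n91031 := d8_1 F332673 (iv7 D91031) (iv3 F140068)
theorem F332675 : act 1 n135070 = n91023 := d15_1 D135070 F332673 F217297
theorem F332676 : act 5 n91031 = n128812 := d6_2 D135067 F332674 F207063
theorem F332677 : act 4 n125656 = n158334 := d9_11 F332676 F207064 F324889 (iv4 D82570) (iv5 D37901) F29336 D22724 F295146 (iv5 F323234) (iv4 F93021) D125656 F249459 F113299 (iv5 F136843) F295270
theorem F332678 : act 6 n128812 = n89056 := d12_2 F295368 F332676 F136728 F64188 (iv5 F72952)
theorem F332679 : act 2 n172463 = n125656 := d16_9 F332677 F249459 F113299 (iv5 F136843) F295270 F332676 F207064 F324889 D172463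
theorem F332680 : act 4 n135092 = n88956 := d17_4 (iv1 F143654) F332676 (iv1 F207068) D135092 (iv5 D88956) F64078 (iv5 F72952) F136529 (iv4 F295425)
theorem F332681 : act 5 n128657 = n93146 := d17_1 D128657 (iv1 F143654) F332676 F207064 F324889 (iv0 F319378) (iv5 D128712) (iv0 D60532) (iv4 F95124)
theorem E95366 : n135171 = n135088 := ((c17_8 (iv1 D101560) (iv5 D47244) (iv1 F64267) (iv5 F136843) F295270 F332676 F207066 D135088 (iv0 D135171) (iv4 F317327))).symm
theorem F332682 : act 1 n135088 = n63520 := (sb E95366 (iv0 D135171))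
theorem F332683 : act 1 n135296 = n93222 := d18_8 D93220 F295481 (iv1 F136846) F295270 F332676 F207064 F202125 F217531 (iv5 D93222)
theorem E95367 : n129007 = n89197 := (c18_4 (iv1 F207068) (iv4 F207143) F218460 D129007 (iv5 F294781) F295114 D88959 (iv4 F295428) F143649 F332676)
theorem F332684 : act 0 n89197 = n128833 := (sb E95367 F207259)
theorem F332685 : act 1 n89197 = n128828 := (sb E95367 (iv0 F207258))
theorem F332686 : act 3 n89197 = n63610 := (sb E95367 F207256)
theorem F332687 : act 4 n89197 = n60658 := (sb E95367 (iv4 D129007))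
theorem F332688 : act 7 n89197 = n63607 := (sb E95367 F207257)
theorem E95368 : n135297 = n101538 := (c4_2 F332688 D135297 (iv7 F294227) F294226)
theorem F332689 : act 0 n101538 = n128828 := (sb E95368 F218444)
theorem F332690 : act 1 n101538 = n128833 := (sb E95368 F217532)
theorem F332691 : act 2 n101538 = n63607 := (sb E95368 (iv2 D135297))
theorem F332692 : act 3 n101538 = n135813 := (sb E95368 F218443)
theorem F332693 : act 4 n101538 = n135818 := (sb E95368 (iv4 F218456))
theorem E95369 : n135298 = n91214 := (c13_2 F332688 D135298 (iv7 D91214) F294781)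
theorem F332694 : act 3 n91214 = n63608 := (sb E95369 F217533)
theorem F332695 : act 5 n91214 = n63607 := (sb E95369 (iv5 D135298))
theorem E95370 : n135299 = n89190 := (c14_2 F332688 D135299 (iv7 D89190) F64285 D41674 D89197)
theorem E95371 : n154625 = n63609 := (((iv3 F242736)).symm.trans (sb E95370 F217534))
theorem F332696 : act 6 n89190 = n63607 := (sb E95370 (iv6 D135299))
theorem E95372 : n149086 = n135305 := (((D135305).symm.trans (sb E95371 F242738))).symm
theorem E95373 : n149085 = n135306 := (((D135306).symm.trans (sb E95371 F242739))).symm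
theorem E95374 : n135276 = n128432 := (((iv2 F217491)).symm.trans (sb E95371 F242735))
theorem F332697 : act 3 n63609 = n89190 := (sb E95371 F242736)
theorem E95375 : n135307 = n73318 := ((D135307).symm.trans (sb E95371 (iv5 D154625)))
theorem E95376 : n135308 = n89162 := ((D135308).symm.trans (sb E95371 F242737))
theorem F332698 : act 0 n135305 = n69950 := (sb E95372 (iv1 D149086))
theorem F332699 : act 5 n135305 = n101073 := (sb E95372 (iv5 F234464))
theorem F332700 : act 1 n135306 = n69950 := (sb E95373 (iv0 D149085))
theorem F332701 : act 2 n128432 = n63609 := (sb E95374 F217491)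
theorem F332702 : act 4 n128432 = n63598 := (sb E95374 F217492)
theorem F332703 : act 6 n128432 = n63596 := (sb E95374 (iv6 D135276))
theorem F332704 : act 5 n73318 = n63609 := (sb E95375 (iv5 D135307))
theorem F332705 : act 4 n89162 = n63619 := (sb E95376 F217543)
theorem F332706 : act 7 n89162 = n63609 := (sb E95376 (iv7 D135308))
theorem F332707 : act 5 n135818 = n113525 := d16_1 F332693 F326206 (iv5 D75561) F54838 D41534 (iv4 F295114) F294781 F332688 (iv2 F332691)
theorem F332708 : act 1 n93222 = n134985 := d15_0 (iv0 F217213) (iv7 F332688) (iv2 F294226)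
theorem F332709 : act 5 n134985 = n101572 := d17_7 (iv1 F286851) (iv5 D46300) (iv1 D22140) D22141 (iv4 F295367) D93222 F332708 (iv0 F287073) (iv4 D179776)
theorem F332710 : act 3 n101572 = n134987 := d6_1 F332709 (iv5 D134987) D134985
theorem F332711 : act 5 n175429 = n125654 := d16_1 D175429 (iv4 F217212) F332709 (iv4 D101572) (iv5 D47249) (iv4 F155153) D83772 F330867 (iv2 F330863)
theorem E95377 : n134987 = n134908 := ((c20_5 D29997 (iv1 F79354) F79351 (iv3 F98713) D134908 (iv3 F332710) (iv4 D101572) (iv1 F156362) F317327 (iv3 D63520) (iv1 D29996))).symm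
theorem F332712 : act 3 n134908 = n101572 := (sb E95377 (iv3 F332710))
theorem F332713 : act 5 n134908 = n63438 := (sb E95377 (iv5 D134987))
theorem F332714 : act 5 n141897 = n134911 := d21_8 F332713 (iv1 F328744) (iv5 F294739) (iv6 D93262) (iv1 F68854) D91175 F295238 (iv1 F331067) (iv6 D134911) D134908
theorem F332715 : act 6 n185161 = n134908 := d21_5 (iv5 D42691) F293889 D41182 (iv6 F135171) D185161 F332713 (iv1 F328744) (iv5 F294739) (iv6 D93262) (iv1 F68854)
theorem E95378 : n134918 = n111702 := (c6_3 F332714 F217109 D134918 (iv3 F224948))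
theorem F332716 : act 5 n111702 = n63401 := (sb E95378 (iv5 D134918))
theorem F332717 : act 6 n111702 = n63404 := (sb E95378 F217112)
theorem F332718 : act 6 n134914 = n141897 := d12_0 F332714 (iv6 D134911) (iv5 D63399) D63400 D134914
theorem F332719 : act 4 n134911 = n142083 := d16_2 F224946 F332714 (iv5 D142083) (iv4 D66627) (iv5 F180312) D53407 D115827 F180268 (iv2 F180320)
theorem F332720 : act 6 n142083 = n134910 := d10_2 D134911 F332719 (iv4 D134910)
theorem E95379 : n134912 = n40527 := (c21_8 (iv5 D19339) F66090 D40936 D87825 (iv1 F331067) (iv6 F332718) (iv5 D134914) D134912 (iv5 F75625) (iv6 D48138) (iv1 F293361))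
theorem E95380 : n87247 = n63400 := ((D87247).symm.trans (sb E95379 (iv0 D134912)))
theorem F332721 : act 0 n63400 = n40527 := (sb E95380 (iv1 D87247))
theorem E95381 : n182621 = n134913 := (((D134913).symm.trans (sb E95380 F284124))).symm
theorem E95382 : n182779 = n134907 := ((((iv2 F217108)).symm.trans (sb E95380 (iv2 F284340)))).symm
theorem E95387 : n182774 = n134915 := (((D134915).symm.trans (sb E95380 F284339))).symm
theorem F332722 : act 1 n134913 = n87246 := (sb E95381 F284125)
theorem F332723 : act 2 n134913 = n87248 := (sb E95381 F284122)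
theorem F332724 : act 7 n134913 = n87184 := (sb E95381 (iv7 D182621))
theorem F332725 : act 7 n134907 = n87246 := (sb E95382 (iv7 D182779))
theorem F332726 : act 2 n134915 = n87246 := (sb E95387 (iv2 D182774))
theorem F332727 : act 6 n183534 = n134913 := d14_5 F332724 (iv6 D87184) (iv7 F293492) D87599 D183534
theorem E95388 : n180495 = n103985 := ((c19_3 F332721 (iv5 F75625) (iv4 F159434) (iv3 D180495) F132160 (iv5 D75227) (iv4 F54647) F28168 (iv1 F21528) (iv5 D12950) F9572 (iv3 F9571) (iv1 F13433) D12947 F324962 D24696 F163890 F39163 (iv4 F48156) (iv3 F98714))).symm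
theorem F332728 : act 3 n103985 = n86198 := (sb E95388 (iv3 D180495))
theorem F332729 : act 5 n103985 = n86342 := (sb E95388 F280921)
theorem F332730 : act 7 n103985 = n170838 := (sb E95388 F280922)
theorem F332731 : act 0 n184552 = n134914 := d21_10 (iv5 D134914) F332721 (iv5 F75625) (iv6 D48138) (iv1 F293361) (iv6 F62329) (iv5 D41085) D41083 D88006 D184552
theorem E95389 : n134992 = n134909 := (c21_1 D134992 (iv1 D134909) (iv5 D63399) D63400 F332721 (iv6 D40527) (iv5 D19147) D19144 D40517 D87218 F328743)
theorem F332732 : act 5 n134909 = n63439 := (sb E95389 (iv5 D134992))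
theorem F332733 : act 0 n134899 = n134994 := d21_1 D134899 (iv5 D134994) F328659 (iv1 F156041) D184749 F287226 F332731 (iv5 D134914) (iv6 D63400) D63396
theorem F332734 : act 0 n154231 = n134900 := d21_4 (iv5 F135083) F308315 F190092 D154231 (iv6 D134900) D134899 F332733 (iv5 D134994) F328659 (iv1 F156041)
theorem F332735 : act 1 n134899 = n91183 := d15_1 (iv0 F332733) F328750 (iv2 F217221)
theorem F332736 : act 4 n170838 = n103988 := d11_1 F332730 (iv7 D103988) (iv4 F159434)
theorem F332737 : act 3 n103988 = n180790 := d5_1 F332736 (iv4 D180790) F132346 (iv4 F126244) (iv3 F268436)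
theorem E95390 : n104970 = n98653 := (c16_1 (iv4 F160851) F152083 F295373 (iv5 F148281) F148280 D170838 F332736 F159435 (iv7 D87248) (iv2 F133793))
theorem F332738 : act 2 n98653 = n87245 := (sb E95390 F160850)
theorem F332739 : act 4 n98653 = n87184 := (sb E95390 F160851)
theorem F332740 : act 6 n98653 = n48513 := (sb E95390 (iv6 D104970))
theorem E95391 : n182619 = n134915 := ((c19_20 (iv1 F284123) (iv5 F159435) (iv4 F332736) F268436 (iv1 F132124) (iv5 D86159) F60682 (iv3 D27065) F324960 (iv5 F324963) F13352 (iv3 F13351) (iv1 F13355) F16972 F323810 F163895 (iv1 F81038) F81032 (iv4 F98715) (iv3 F217111))).symm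
theorem F332741 : act 0 n134915 = n87248 := (sb E95391 (iv1 F284123))
theorem F332742 : act 1 n134915 = n87184 := (sb E95391 (iv0 D182619))
theorem E95392 : n182620 = n134907 := (c15_2 F332742 D182620 F332725 (iv2 F332726))
theorem F332743 : act 0 n134907 = n87184 := (sb E95392 (iv1 D182620))
theorem F332744 : act 1 n134907 = n87248 := (sb E95392 F284121)
theorem F332745 : act 4 n96152 = n128726 := d20_6 (iv4 D61373) F164312 (iv4 F98715) (iv3 F217111) F332741 (iv3 F295377) (iv1 D128726) (iv4 F206961) F206960 F164099
theorem F332746 : act 7 n128726 = n96148 := d11_2 D96152 F332745 F147818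
theorem E95393 : n128725 = n98654 := ((c15_4 (iv0 D128725) D128726 F332746 (iv2 F152084))).symm
theorem F332747 : act 1 n98654 = n60536 := (sb E95393 (iv0 D128725))
theorem E95394 : n104968 = n98654 := ((c19_1 (iv1 F332747) (iv5 D104968) F76343 (iv3 D27911) F22113 F21407 (iv4 D8115) (iv3 F12883) F28027 (iv5 D17079) (iv4 F28024) F28023 F27448 D17442 F324953 D28145 (iv1 F168029) F45172 (iv4 F46382) (iv3 F95153))).symm
theorem E95395 : n163694 = n60536 := (((F332747).symm.trans (sb E95394 (iv0 F258044)))).symm
theorem F332748 : act 3 n98654 = n48513 := (sb E95394 F160846)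
theorem F332749 : act 5 n98654 = n48512 := (sb E95394 (iv5 D104968))
theorem F332750 : act 7 n98654 = n86140 := (sb E95394 F160847)
theorem E95396 : n157794 = n128720 := ((((iv2 F206997)).symm.trans (sb E95395 F258042))).symm
theorem E95397 : n128727 = n78650 := ((D128727).symm.trans (sb E95395 (iv5 D163694)))
theorem E95398 : n157798 = n128728 := (((D128728).symm.trans (sb E95395 F258043))).symm
theorem F332751 : act 1 n128720 = n86140 := (sb E95396 F258045)
theorem F332752 : act 5 n128720 = n75181 := (sb E95396 (iv5 D157794))
theorem E95399 : n125548 = n60541 := (((iv3 F327662)).symm.trans (sb E95397 F206999))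
theorem F332753 : act 5 n78650 = n60536 := (sb E95397 (iv5 D128727))
theorem F332754 : act 0 n128728 = n86140 := (sb E95398 F248745)
theorem F332755 : act 5 n128728 = n75182 := (sb E95398 (iv5 D157798))
theorem E95400 : n128740 = n58781 := ((D128740).symm.trans (sb E95399 (iv1 D125548)))
theorem E95401 : n128741 = n58902 := ((D128741).symm.trans (sb E95399 F201951))
theorem E95402 : n125793 = n58900 := (((iv2 F202308)).symm.trans (sb E95399 (iv2 F201954)))
theorem F332756 : act 3 n60541 = n78650 := (sb E95399 F327662)
theorem E95403 : n128742 = n78656 := ((D128742).symm.trans (sb E95399 F327663))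
theorem E95404 : n113595 = n28749 := ((((iv5 D60541)).symm.trans (sb E95399 F201956))).symm
theorem E95405 : n128733 = n105213 := (((iv6 F207004)).symm.trans (sb E95399 (iv6 F201955)))
theorem E95406 : n128743 = n58899 := ((D128743).symm.trans (sb E95399 F201952))
theorem F332757 : act 1 n58781 = n60541 := (sb E95400 (iv0 D128740))
theorem E95407 : n131995 = n28001 := (((F92920).symm.trans (sb E95400 (iv2 F211485)))).symm
theorem E95408 : n125549 = n106603 := ((D125549).symm.trans (sb E95400 F207007))
theorem E95409 : n131998 = n125550 := (((D125550).symm.trans (sb E95400 (iv7 F211494)))).symm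
theorem F332758 : act 0 n58902 = n60541 := (sb E95401 (iv1 D128741))
theorem E95410 : n125789 = n106604 := (((iv5 F202305)).symm.trans (sb E95401 F207008))
theorem F332759 : act 2 n58900 = n60541 := (sb E95402 F202308)
theorem E95411 : n125787 = n58910 := ((D125787).symm.trans (sb E95402 (iv5 D125793)))
theorem F332760 : act 4 n78656 = n60541 := (sb E95403 (iv4 D128742))
theorem E95412 : n60539 = n52432 := ((D60539).symm.trans (sb E95404 (iv1 D113595)))
theorem E95413 : n125784 = n60542 := (((D60542).symm.trans (sb E95404 (iv7 F202293)))).symm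
theorem F332761 : act 5 n105213 = n60538 := (sb E95405 (iv5 D128733))
theorem F332762 : act 6 n105213 = n60541 := (sb E95405 F207004)
theorem F332763 : act 7 n58899 = n60541 := (sb E95406 (iv7 D128743))
theorem E95414 : n61937 = n58901 := (((D58901).symm.trans (sb E95407 (iv5 D131995)))).symm
theorem F332764 : act 5 n106603 = n58781 := (sb E95408 (iv5 D125549))
theorem F332765 : act 5 n125550 = n61938 := (sb E95409 (iv5 D131998))
theorem F332766 : act 5 n106604 = n58902 := (sb E95410 F202305)
theorem E95415 : n113288 = n105290 := (((iv1 F176493)).symm.trans (sb E95411 F202303))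
theorem E95416 : n113597 = n113283 := ((((iv0 F176481)).symm.trans (sb E95411 F202304))).symm
theorem F332767 : act 5 n58910 = n58900 := (sb E95411 (iv5 D125787))
theorem E95417 : n125794 = n113594 := ((D125794).symm.trans (sb E95411 F202302))
theorem F332768 : act 1 n52432 = n28749 := (sb E95412 (iv0 D60539))
theorem E95418 : n128735 = n113592 := ((((iv3 F176750)).symm.trans (sb E95412 D128735))).symm
theorem E95419 : n113596 = n62980 := ((D113596).symm.trans (sb E95412 (iv4 F165581)))
theorem E95420 : n128736 = n25447 := ((((iv5 D52432)).symm.trans (sb E95412 D128736))).symm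
theorem E95421 : n113534 = n61865 := (((iv6 F176699)).symm.trans (sb E95412 F165611))
theorem F332769 : act 5 n60542 = n58899 := (sb E95413 (iv5 D125784))
theorem E95422 : n113286 = n106606 := (((iv1 F176488)).symm.trans (sb E95414 (iv1 F164194)))
theorem E95423 : n113282 = n29341 := (((iv0 F176478)).symm.trans (sb E95414 (iv0 D61937)))
theorem F332770 : act 2 n58901 = n106603 := (sb E95414 F168399)
theorem E95424 : n131994 = n125777 := ((((iv3 F202289)).symm.trans (sb E95414 D131994))).symm
theorem E95425 : n125788 = n49361 := ((D125788).symm.trans (sb E95414 F165608))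
theorem E95426 : n131996 = n125781 := ((((iv6 F202291)).symm.trans (sb E95414 D131996))).symm
theorem F332771 : act 7 n58901 = n106604 := (sb E95414 F168397)
theorem F332772 : act 0 n105290 = n60542 := (sb E95415 F176494)
theorem F332773 : act 1 n105290 = n58910 := (sb E95415 F176493)
theorem F332774 : act 4 n105290 = n52292 := (sb E95415 (iv4 D113288))
theorem E95427 : n127392 = n106463 := (((iv6 F204723)).symm.trans (sb E95415 F176491))
theorem F332775 : act 7 n105290 = n60540 := (sb E95415 F176492)
theorem F332776 : act 5 n113283 = n52433 := (sb E95416 F176752)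
theorem F332777 : act 7 n113283 = n52432 := (sb E95416 (iv7 D113597))
theorem F332778 : act 0 n113594 = n60540 := (sb E95417 (iv1 F202312))
theorem F332779 : act 2 n113594 = n60542 := (sb E95417 F202309)
theorem F332780 : act 3 n113594 = n67850 := (sb E95417 F328814)
theorem F332781 : act 4 n113594 = n58911 := (sb E95417 F202310)
theorem F332782 : act 6 n113594 = n60571 := (sb E95417 F202311)
theorem F332783 : act 7 n113594 = n58910 := (sb E95417 (iv7 D125794))
theorem F332784 : act 4 n113592 = n135532 := (sb E95418 (iv4 F217953))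
theorem F332785 : act 6 n113592 = n131852 := (sb E95418 (iv6 F211256))
theorem F332786 : act 4 n62980 = n52432 := (sb E95419 (iv4 D113596))
theorem E95428 : n61939 = n52287 := ((((iv1 F165638)).symm.trans (sb E95420 F207005))).symm
theorem E95429 : n128901 = n52401 := (((iv5 F207136)).symm.trans (sb E95421 (iv5 D113534)))
theorem F332787 : act 6 n61865 = n52432 := (sb E95421 F176699)
theorem F332788 : act 1 n106606 = n58901 := (sb E95422 F176488)
theorem F332789 : act 5 n106606 = n52291 := (sb E95422 (iv5 D113286))
theorem F332790 : act 0 n29341 = n58901 := (sb E95423 F176478)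
theorem F332791 : act 4 n125777 = n129849 := (sb E95424 F211484)
theorem F332792 : act 4 n49361 = n58901 := (sb E95425 (iv4 D125788))
theorem F332793 : act 0 n125781 = n129095 := (sb E95426 (iv1 F211491))
theorem F332794 : act 4 n125781 = n106829 := (sb E95426 F211489)
theorem F332795 : act 7 n125781 = n128858 := (sb E95426 F211490)
theorem F332796 : act 5 n106463 = n59833 := (sb E95427 (iv5 D127392))
theorem F332797 : act 6 n106463 = n105290 := (sb E95427 F204723)
theorem E95430 : n128738 = n105291 := (((F165637).symm.trans (sb E95428 (iv1 F207006)))).symm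
theorem E95431 : n106605 = n105195 := (((F165639).symm.trans (sb E95428 (iv2 F164188)))).symm
theorem E95432 : n131988 = n113281 := (((D113281).symm.trans (sb E95428 (iv3 F211480)))).symm
theorem F332798 : act 5 n52287 = n29341 := (sb E95428 (iv5 D61939))
theorem E95434 : n131992 = n58822 := (((F165633).symm.trans (sb E95428 (iv6 F211482)))).symm
theorem E95435 : n132000 = n105198 := (((F165640).symm.trans (sb E95428 D132000))).symm
theorem E95436 : n113532 = n60619 := ((D113532).symm.trans (sb E95429 (iv1 D128901)))
theorem F332799 : act 5 n52401 = n61865 := (sb E95429 F207136)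
theorem F332800 : act 5 n105291 = n60540 := (sb E95430 (iv5 D128738))
theorem F332801 : act 5 n105195 = n49261 := (sb E95431 (iv5 D106605))
theorem F332802 : act 5 n113281 = n61935 := (sb E95432 (iv5 D131988))
theorem E95437 : n113470 = n61936 := (((iv5 F176651)).symm.trans (sb E95434 (iv5 D131992)))
theorem F332803 : act 5 n105198 = n61940 := (sb E95435 F211497)
theorem E95438 : n128900 = n127393 := ((D128900).symm.trans (sb E95436 (iv1 F204729)))
theorem F332804 : act 1 n60619 = n52401 := (sb E95436 (iv0 D113532))
theorem E95439 : n131990 = n52379 := ((D131990).symm.trans (sb E95437 (iv1 D113470)))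
theorem F332805 : act 5 n61936 = n58822 := (sb E95437 F176651)
theorem F332806 : act 1 n127393 = n60619 := (sb E95438 (iv0 D128900))
theorem F332807 : act 5 n127393 = n61866 := (sb E95438 F207135)
theorem F332808 : act 1 n52379 = n61936 := (sb E95439 (iv0 D131990))
theorem E95440 : n128834 = n128722 := (c21_1 D128834 (iv1 D128722) (iv5 D60535) D60536 (iv1 F332747) (iv6 D98654) F72697 (iv1 D46106) D46108 D98634 F325740)
theorem F332809 : act 5 n128722 = n60588 := (sb E95440 (iv5 D128834))
theorem F332810 : act 7 n131991 = n105242 := d15_2 F332808 D131991 F161188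
theorem F332811 : act 2 n131993 = n113469 := d15_3 (iv0 D113469) F332808 D131993
theorem E95441 : n113471 = n106688 := ((c18_7 F175323 (iv4 D112661) (iv1 D51991) D51993 D112663 F328935 F164400 (iv4 D113471) F332808 F332805)).symm
theorem F332812 : act 4 n106688 = n52379 := (sb E95441 (iv4 D113471))
theorem E95442 : n131850 = n106556 := ((c21_8 F38885 (iv1 F37707) D29340 D61936 (iv1 F332808) (iv6 F176648) (iv5 D113467) (iv1 F327328) (iv5 D131850) (iv6 D61864) F46960)).symm
theorem F332813 : act 5 n106556 = n61864 := (sb E95442 (iv5 D131850))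
theorem F332814 : act 6 n106556 = n61867 := (sb E95442 F211254)
theorem F332815 : act 6 n113411 = n106542 := d21_3 (iv5 D52379) (iv1 F165617) D113411 F177657 (iv6 D51069) F38885 (iv1 F37707) D29340 D61936 (iv1 F332808)
theorem F332816 : act 6 n106761 = n125640 := d3_2 F332815 (iv2 F164565) (iv2 F202084)
theorem F332817 : act 4 n106543 = n113411 := d10_3 F332815 (iv4 D106542) D106543
theorem F332818 : act 4 n125640 = n106762 := d1_2 F332817 F202084 F164567
theorem F332819 : act 4 n128899 = n106368 := d16_0 (iv5 F163790) F332817 (iv5 D113411) (iv4 D52352) D52353 (iv4 F165618) D128896 (iv7 F211262) (iv2 F211264)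
theorem F332820 : act 5 n111867 = n131993 := d17_3 (iv1 F202091) F202089 (iv1 F173727) F211483 F163758 F94256 D113688 (iv0 F251391) F332817
theorem F332821 : act 4 n125585 = n113692 := d18_1 (iv1 F202016) (iv1 F251392) F332817 (iv5 D113411) (iv4 D52352) (iv0 D25420) (iv4 F40202) D52347 D113406
theorem F332822 : act 4 n127399 = n108701 := d1_2 F332821 (iv2 F204738) (iv2 F202014)
theorem F332823 : act 4 n106522 = n125903 := d10_3 F202390 F332821 (iv6 F176897)
theorem E95443 : n126239 = n106699 := ((c17_9 (iv1 F175331) (iv5 D112663) F164062 D125585 F332821 (iv5 D113692) F94255 (iv5 F163758) F164436 (iv4 D126239))).symm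
theorem F332824 : act 2 n106699 = n113408 := (sb E95443 F203017)
theorem F332825 : act 4 n106699 = n59180 := (sb E95443 (iv4 D126239))
theorem F332826 : act 0 n113472 = n106602 := d18_0 F164186 D106699 F332825 (iv5 D59180) F45417 D48655 D105226 F165572 (iv5 F176652)
theorem F332827 : act 5 n106602 = n125528 := d17_3 F165569 (iv5 F176652) F332826 F201894 F92956 F77884 F77683 F76537 D105222
theorem F332828 : act 1 n113472 = n131993 := d15_1 (iv0 F332826) (iv7 D131993) (iv2 F164185)
theorem F332829 : act 1 n105242 = n106602 := d15_0 (iv0 F332826) (iv7 D113472) (iv2 F161188)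
theorem F332830 : act 4 n106489 = n113472 := d18_7 F173728 F92887 F164075 D50979 (iv5 F328520) F96560 D106489 F332828 (iv5 F332820)
theorem F332831 : act 7 n106688 = n106489 := d11_0 F332830 (iv7 D113472) (iv4 F332812)
theorem E95444 : n131857 = n113760 := (c16_3 (iv4 F46962) D61867 D131857 F177013 F332830 F176652 F82744 (iv5 F77785) (iv7 D49244) F37568)
theorem F332832 : act 4 n113760 = n61867 := (sb E95444 (iv4 D131857))
theorem F332833 : act 0 n125642 = n107575 := d17_0 F165962 F177014 F177013 F332830 F176652 (iv0 F165569) (iv5 F202083) (iv0 D125640) D125642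
theorem F332834 : act 4 n125643 = n113926 := d17_4 F332826 F332827 (iv1 F201896) (iv5 F202089) (iv5 D113926) (iv0 D52595) (iv5 F77704) D106489 F332830
theorem E95445 : n113929 = n113533 := ((c18_7 (iv1 F164401) F332830 F332826 F164186 F77947 (iv4 F82758) D113533 (iv4 D113929) F161557 (iv5 F164398))).symm
theorem F332835 : act 4 n113533 = n52596 := (sb E95445 (iv4 D113929))
theorem F332836 : act 4 n113407 = n106690 := d18_1 D113407 (iv1 F164401) F332830 F176652 F82744 F77462 (iv4 F164032) (iv0 D52346) D52348
theorem F332837 : act 2 n131991 = n113472 := d16_9 (iv4 F332830) (iv5 F177013) F332832 (iv5 D61867) F46962 (iv5 F37372) (iv4 F76549) D105242 (iv7 F332810)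
theorem F332838 : act 5 n105243 = n131991 := d2_0 F332837 F176652 (iv2 F161189)
theorem F332839 : act 1 n131993 = n105242 := d15_1 F332828 (iv7 F332810) F332837
theorem F332840 : act 1 n131991 = n113469 := d15_0 (iv0 D113469) D113472 (iv2 F332837)
theorem F332841 : act 7 n113469 = n106602 := d15_2 D131991 F332840 F164185
theorem F332842 : act 4 n106689 = n131991 := d18_7 (iv1 D58823) F45223 D27970 D58828 (iv5 F328933) F164239 D106689 F332840 F176650
theorem F332843 : act 2 n106489 = n106689 := d1_3 F332842 F332837 (iv4 F332830)
theorem F332844 : act 4 n127391 = n105348 := d18_7 (iv1 F164396) F332842 (iv1 D131991) F96535 F77730 (iv4 F94250) D127391 F161553 (iv5 F163739)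
theorem F332845 : act 2 n113533 = n127391 := d1_3 F332844 (iv2 F177292) (iv4 F332835)
theorem F332846 : act 7 n113925 = n127391 := d11_0 F332844 (iv7 F177293) D113925
theorem F332847 : act 5 n106466 = n113535 := d18_9 (iv1 F204721) F332844 (iv1 D105348) (iv4 F93399) F328928 (iv4 D60806) (iv0 F164051) (iv4 F77779) (iv0 F165628)
theorem E95446 : n128903 = n127391 := (c18_5 (iv1 F202101) (iv4 D125646) F93009 (iv4 F95227) (iv5 F207137) F332844 F161553 (iv4 F176470) (iv0 F288399) F329261)
theorem F332848 : act 5 n127391 = n60620 := (sb E95446 F207137)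
theorem E95447 : n113925 = n60619 := (((iv7 F332846)).symm.trans (sb E95446 (iv7 D128903)))
theorem E95448 : n128902 = n52595 := ((D128902).symm.trans (sb E95447 (iv4 D113925)))
theorem F332849 : act 7 n60619 = n127391 := (sb E95447 F332846)
theorem F332850 : act 4 n52595 = n60619 := (sb E95448 (iv4 D128902))
theorem E95449 : n115196 = n105348 := ((c20_9 F327972 F83895 (iv4 F98908) (iv3 F321703) (iv1 F176888) F176886 (iv4 F176700) (iv1 F204721) F332844 F179397 (iv1 F327971))).symm
theorem F332851 : act 3 n105348 = n53153 := (sb E95449 F179397)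
theorem E95450 : n127391 = n60615 := (((iv4 F332844)).symm.trans (sb E95449 F179398))
theorem F332852 : act 6 n105348 = n53151 := (sb E95449 (iv6 D115196))
theorem E95451 : n128887 = n59833 := ((D128887).symm.trans (sb E95450 (iv1 D127391)))
theorem E95452 : n128888 = n113535 := ((D128888).symm.trans (sb E95450 F204721))
theorem E95453 : n128882 = n113533 := (((iv2 F207125)).symm.trans (sb E95450 (iv2 F332845)))
theorem F332853 : act 4 n60615 = n105348 := (sb E95450 F332844)
theorem E95454 : n128889 = n60620 := ((D128889).symm.trans (sb E95450 F332848))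
theorem E95455 : n128890 = n60619 := ((D128890).symm.trans (sb E95450 (iv7 F332849)))
theorem F332854 : act 1 n59833 = n60615 := (sb E95451 (iv0 D128887))
theorem F332855 : act 0 n113535 = n60615 := (sb E95452 (iv1 D128888))
theorem F332856 : act 2 n113533 = n60615 := (sb E95453 F207125)
theorem F332857 : act 6 n113533 = n60613 := (sb E95453 (iv6 D128882))
theorem F332858 : act 5 n60620 = n60615 := (sb E95454 (iv5 D128889))
theorem F332859 : act 3 n60619 = n60620 := (sb E95455 F207128)
theorem F332860 : act 7 n60619 = n60615 := (sb E95455 (iv7 D128890))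
theorem E95456 : n113533 = n98632 := (c4_2 F332860 (iv2 F332856) (iv7 F152024) F327324)
theorem F332861 : act 0 n98632 = n52401 := (sb E95456 (iv1 D113533))
theorem F332862 : act 1 n98632 = n127393 := (sb E95456 F204728)
theorem F332863 : act 2 n98632 = n60615 := (sb E95456 F332856)
theorem F332864 : act 4 n98632 = n52596 := (sb E95456 F332835)
theorem F332865 : act 6 n98632 = n60613 := (sb E95456 F332857)
theorem F332866 : act 7 n128601 = n128893 := d14_4 F332860 (iv6 D60615) (iv7 F95065) D128601 F207129
theorem F332867 : act 4 n113930 = n125529 := d16_2 F332864 D113930 (iv5 D125529) F92887 F45153 (iv4 F46419) D60619 F332860 (iv2 F332863)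
theorem E95457 : n127390 = n89076 := ((c15_4 (iv0 D127390) F332854 (iv7 F332860) (iv2 F327324))).symm
theorem F332868 : act 0 n89076 = n113535 := (sb E95457 (iv1 F204727))
theorem F332869 : act 1 n89076 = n59833 := (sb E95457 (iv0 D127390))
theorem F332870 : act 6 n131855 = n144779 := d21_3 F327325 D125648 (iv5 F211259) (iv1 D144779) (iv6 D67850) F49857 (iv1 F45872) (iv5 F45901) D59833 (iv1 F332869)
theorem F332871 : act 5 n127398 = n128624 := d18_4 F332868 F176700 (iv1 F94251) D127398 F206909 (iv0 F164610) (iv4 F202108) (iv0 D125648) (iv5 F327325)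
theorem E95458 : n127398 = n113271 := ((c17_3 (iv1 F164305) (iv5 F329264) (iv1 F203053) F332871 F206909 F164607 F92965 F79540 F77890 (iv4 F164303))).symm
theorem F332872 : act 2 n113271 = n113691 := (sb E95458 F204736)
theorem F332873 : act 4 n113271 = n59835 := (sb E95458 (iv4 D127398))
theorem F332874 : act 5 n113271 = n128624 := (sb E95458 F332871)
theorem F332875 : act 7 n113271 = n113687 := (sb E95458 F204737)
theorem E95459 : n180680 = n131134 := ((c19_7 (iv1 F206912) (iv5 F332874) F332873 D127397 F331443 F114714 (iv4 F210038) F281213 (iv1 F281172) (iv5 F327412) F327411 (iv3 F325960) F170638 F326781 (iv4 F254182) (iv3 F254183) (iv1 D79207) (iv5 F321981) (iv4 F207138) (iv3 D128904))).symm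
theorem F332876 : act 1 n131134 = n176719 := (sb E95459 (iv0 F281216))
theorem F332877 : act 3 n131134 = n86307 := (sb E95459 F281213)
theorem F332878 : act 5 n131134 = n86306 := (sb E95459 (iv5 D180680))
theorem F332879 : act 5 n98133 = n130553 := d2_2 F332878 (iv2 F288737) (iv2 F210037)
theorem E95460 : n180681 = n131914 := (c12_3 D131134 F332878 D180681 (iv5 D131914) F96493 (iv5 F96043))
theorem F332880 : act 3 n131914 = n86308 := (sb E95460 F281214)
theorem F332881 : act 6 n131914 = n86306 := (sb E95460 (iv6 D180681))
theorem F332882 : act 6 n113045 = n158121 := d21_5 F80265 (iv1 F39994) (iv5 F40045) D52176 D113045 F249057 F135893 (iv5 F332878) (iv6 D131134) (iv1 F96045)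
theorem F332883 : act 3 n158122 = n113045 := d7_3 F332882 (iv3 D158121) D158122
theorem E95461 : n145411 = n144040 := (c12_4 F332882 F249057 (iv6 F299351) (iv5 F331783) (iv6 D144040) (iv5 F325796))
theorem F332884 : act 0 n144040 = n112683 := (sb E95461 F228442)
theorem F332885 : act 1 n144040 = n126179 := (sb E95461 (iv0 F331782))
theorem F332886 : act 4 n144040 = n68172 := (sb E95461 (iv4 D145411))
theorem F332887 : act 5 n144040 = n173848 := (sb E95461 F331783)
theorem F332888 : act 3 n173849 = n144040 := d6_3 F332887 (iv3 D173848) D173849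
theorem E95462 : n157788 = n145443 := (c16_3 (iv4 F332886) F332887 F299350 (iv5 D145443) F165144 D112687 (iv4 F228437) (iv5 D145408) F172226 F172225)
theorem F332889 : act 3 n145443 = n75180 := (sb E95462 F248682)
theorem F332890 : act 4 n145443 = n173848 := (sb E95462 (iv4 F299350))
theorem F332891 : act 6 n145443 = n75179 := (sb E95462 (iv6 D157788))
theorem F332892 : act 7 n145443 = n181132 := (sb E95462 F297448)
theorem F332893 : act 5 n181132 = n107162 := d13_1 F332892 F165147 D145443
theorem F332894 : act 2 n181132 = n145445 := d15_3 F228480 (iv0 F228477) F332892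
theorem F332895 : act 3 n145445 = n177556 := d0_2 D181132 F332894 F276995 F129749 (iv2 F132686)
theorem F332896 : act 5 n177556 = n145444 := d6_2 D145445 F332895 (iv3 D145444)
theorem F332897 : act 3 n105233 = n125745 := d20_3 (iv4 D59140) (iv1 F77454) (iv4 F161168) (iv1 F228480) F332895 (iv4 D177556) (iv1 F129748) (iv4 F328589) F93361 (iv1 F163192)
theorem F332898 : act 3 n126344 = n177007 := d0_2 F332897 (iv2 F203156) F276405 (iv3 F331154) (iv2 F161167)
theorem F332899 : act 5 n125744 = n105233 := d6_0 F332897 (iv5 D125745) D125744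
theorem F332900 : act 6 n125745 = n113464 := d7_2 (iv6 F161169) F332897 F176647
theorem F332901 : act 7 n125745 = n105230 := d8_2 D105233 F332897 F161165
theorem F332902 : act 2 n105230 = n125747 := d4_1 F332901 (iv7 F203157) F203156
theorem F332903 : act 5 n105230 = n108910 := d13_1 F332901 F168923 D125745
theorem F332904 : act 3 n108910 = n105232 := d6_1 F332903 (iv5 D105232) (iv3 F161165)
theorem F332905 : act 0 n181132 = n105230 := d17_2 (iv1 F165149) (iv5 F332893) F332903 F168924 (iv5 F104274) (iv0 F104275) F80814 F78463 (iv4 F104365)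
theorem F332906 : act 1 n181132 = n126344 := d15_1 (iv0 F332905) F203157 (iv2 F332902)
theorem F332907 : act 4 n105232 = n113356 := d5_2 (iv4 F168924) F332904 (iv3 D113356) F165833 (iv3 F168067)
theorem F332908 : act 7 n105232 = n125744 := d8_2 (iv7 F168923) F332904 (iv3 D125744)
theorem E95463 : n177410 = n125744 := ((c4_1 F332908 (iv2 D177410) F331143 (iv2 F161166))).symm
theorem F332909 : act 2 n125744 = n84524 := (sb E95463 (iv2 D177410))
theorem F332910 : act 1 n177409 = n105232 := d15_1 D177409 F332908 F332909
theorem F332911 : act 4 n170246 = n117034 := d16_2 F299386 D170246 (iv5 D117034) (iv4 D53938) (iv5 F41252) (iv4 F76542) D105232 F332908 F332909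
theorem F332912 : act 1 n113440 = n125744 := d15_1 D113440 (iv7 F332908) F161166
theorem E95464 : n159223 = n140401 := (c19_15 (iv1 F332912) (iv5 F176627) F176528 (iv3 F168830) (iv1 F168833) D137123 (iv4 F220311) F331926 (iv1 F271845) F128657 F59365 (iv3 F73812) (iv1 F91498) D76169 D159223 F223555 F104334 (iv5 D58880) D58879 D125744)
theorem E95465 : n125700 = n84553 := ((F223558).symm.trans (sb E95464 F302032))
theorem E95466 : n138638 = n76169 := (((iv4 F223560)).symm.trans (sb E95464 (iv4 D159223)))
theorem E95467 : n160471 = n110873 := (((F223557).symm.trans (sb E95464 (iv7 F253482)))).symm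
theorem E95468 : n171053 = n126880 := (((iv1 F302028)).symm.trans (sb E95465 (iv1 F204131)))
theorem F332913 : act 1 n84553 = n140401 := (sb E95465 (iv0 F223558))
theorem E95469 : n177481 = n126319 := ((D177481).symm.trans (sb E95465 (iv3 F203125)))
theorem E95470 : n177482 = n58860 := ((D177482).symm.trans (sb E95465 (iv5 D125700)))
theorem E95471 : n177483 = n131928 := ((D177483).symm.trans (sb E95465 (iv6 F211403)))
theorem E95472 : n126338 = n123314 := ((((iv7 F197615)).symm.trans (sb E95465 (iv7 F203147)))).symm
theorem E95473 : n123002 = n109838 := (((iv1 F302027)).symm.trans (sb E95466 (iv1 F223561)))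
theorem F332914 : act 4 n76169 = n140401 := (sb E95466 F223560)
theorem E95474 : n159224 = n65093 := ((D159224).symm.trans (sb E95466 (iv6 D138638)))
theorem F332915 : act 4 n110873 = n76925 := (sb E95467 (iv4 D160471))
theorem F332916 : act 1 n126880 = n84553 := (sb E95468 F302028)
theorem E95475 : n116268 = n81986 := ((F204128).symm.trans (sb E95468 (iv4 D171053)))
theorem F332917 : act 3 n126319 = n84553 := (sb E95469 (iv3 D177481))
theorem F332918 : act 5 n58860 = n84553 := (sb E95470 (iv5 D177482))
theorem F332919 : act 4 n131928 = n84554 := (sb E95471 F276928)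
theorem F332920 : act 6 n131928 = n84553 := (sb E95471 (iv6 D177483))
theorem F332921 : act 1 n123314 = n110873 := (sb E95472 (iv0 F203149))
theorem F332922 : act 2 n123314 = n110921 := (sb E95472 F203145)
theorem F332923 : act 3 n123314 = n59232 := (sb E95472 F203146)
theorem F332924 : act 5 n123314 = n59230 := (sb E95472 (iv5 D126338))
theorem F332925 : act 6 n123314 = n59629 := (sb E95472 F203148)
theorem F332926 : act 1 n109838 = n76169 := (sb E95473 F302027)
theorem E95476 : n111540 = n57377 := (((iv2 F173067)).symm.trans (sb E95473 F197068))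
theorem F332927 : act 5 n109838 = n57219 := (sb E95473 (iv5 D123002))
theorem E95477 : n111544 = n57382 := (((iv7 F173074)).symm.trans (sb E95473 F197069))
theorem F332928 : act 6 n65093 = n76169 := (sb E95474 (iv6 D159224))
theorem F332929 : act 1 n81986 = n109838 := (sb E95475 (iv0 F204132))
theorem F332930 : act 4 n81986 = n126880 := (sb E95475 (iv4 F204128))
theorem E95478 : n171054 = n53587 := ((D171054).symm.trans (sb E95475 (iv6 D116268)))
theorem F332931 : act 2 n57377 = n109838 := (sb E95476 F173067)
theorem E95479 : n123274 = n51442 := ((D123274).symm.trans (sb E95476 (iv4 D111540)))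
theorem E95480 : n134257 = n123275 := (((D123275).symm.trans (sb E95476 (iv6 F216284)))).symm
theorem E95481 : n123281 = n51446 := ((D123281).symm.trans (sb E95477 (iv4 D111544)))
theorem E95482 : n123282 = n53839 := ((D123282).symm.trans (sb E95477 F173073))
theorem F332932 : act 7 n57382 = n109838 := (sb E95477 F173074)
theorem E95483 : n160472 = n110872 := ((((iv2 F171727)).symm.trans (sb E95478 F268775))).symm
theorem F332933 : act 6 n53587 = n81986 := (sb E95478 (iv6 D171054))
theorem E95484 : n171030 = n111539 := (((D111539).symm.trans (sb E95479 (iv1 F304395)))).symm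
theorem E95485 : n171034 = n111150 := ((((iv0 F172400)).symm.trans (sb E95479 (iv0 F304400)))).symm
theorem F332934 : act 4 n51442 = n57377 := (sb E95479 (iv4 D123274))
theorem E95486 : n162029 = n111200 := ((((iv7 F172454)).symm.trans (sb E95479 (iv7 F256053)))).symm
theorem F332935 : act 0 n123275 = n141269 := (sb E95480 (iv1 F226496))
theorem F332936 : act 1 n123275 = n141149 := (sb E95480 F226498)
theorem F332937 : act 2 n123275 = n135242 := (sb E95480 (iv2 F217428))
theorem F332938 : act 4 n123275 = n63069 := (sb E95480 (iv4 D134257))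
theorem F332939 : act 7 n123275 = n139311 := (sb E95480 F222504)
theorem F332940 : act 4 n51446 = n57382 := (sb E95481 (iv4 D123281))
theorem E95487 : n162030 = n110914 := ((((iv2 F171829)).symm.trans (sb E95482 (iv2 F256054)))).symm
theorem F332941 : act 6 n53839 = n57382 := (sb E95482 (iv6 D123282))
theorem F332942 : act 5 n110872 = n120544 := (sb E95483 (iv5 F305544))
theorem F332943 : act 6 n110872 = n76925 := (sb E95483 (iv6 D160472))
theorem F332944 : act 4 n111539 = n81976 := (sb E95484 (iv4 D171030))
theorem F332945 : act 4 n111150 = n81979 := (sb E95485 (iv4 D171034))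
theorem F332946 : act 4 n111200 = n77832 := (sb E95486 (iv4 D162029))
theorem F332947 : act 6 n110914 = n77832 := (sb E95487 (iv6 D162030))
theorem F332948 : act 5 n124374 = n110914 := d12_5 F332947 (iv5 D77832) (iv6 F301572) D57981 D124374
theorem F332949 : act 0 n143876 = n124374 := d21_7 (iv5 D76169) F91497 D37586 (iv6 F328063) (iv1 F101092) D139340 (iv5 F226494) F332948 F332947 F302024
theorem F332950 : act 0 n124374 = n143877 := d21_7 D64973 (iv1 F181223) (iv5 D116267) F332933 (iv1 F302025) (iv6 F332947) (iv5 F332948) F226501 (iv6 D138328) (iv1 D64972)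
theorem F332951 : act 7 n124374 = n139310 := d15_2 D143877 (iv0 F332950) F222501
theorem F332952 : act 2 n116834 = n124374 := d4_3 F332951 F222501 (iv7 F182431)
theorem F332953 : act 6 n123285 = n116834 := d3_0 F332952 (iv6 D124374) F304332
theorem F332954 : act 7 n143879 = n124367 := d14_4 F304328 F332953 F182431 D143879 (iv6 D124367)
theorem F332955 : act 6 n135944 = n141172 := d21_9 (iv5 D156691) (iv1 F111890) D116834 (iv6 F332953) (iv1 F325436) (iv6 D136140) (iv5 F204275) (iv1 F204279) (iv5 F331026) F246464
theorem F332956 : act 5 n138282 = n136202 := d12_3 F332955 F224194 F222507 (iv6 D136202) (iv5 F331026)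
theorem E95488 : n135913 = n111744 := (c21_1 D135913 (iv1 D111744) D111745 F173438 D141172 (iv6 F332955) F331026 (iv1 D64038) (iv5 D30189) (iv6 F48461) D63908)
theorem F332957 : act 1 n111744 = n136357 := (sb E95488 (iv0 F247057))
theorem F332958 : act 5 n111744 = n63908 := (sb E95488 (iv5 D135913))
theorem F332959 : act 5 n156017 = n111749 := d18_4 D135909 (iv4 F245112) (iv1 F245114) D156017 (iv4 D111749) (iv0 D51521) (iv4 F81285) D111744 F332958
theorem E95489 : n136562 = n110913 := (c15_3 D111744 F332957 (iv7 F219653) F171824)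
theorem F332960 : act 3 n110913 = n64198 := (sb E95489 (iv3 D136562))
theorem F332961 : act 5 n110913 = n132186 := (sb E95489 F219652)
theorem F332962 : act 7 n110913 = n136357 := (sb E95489 F219653)
theorem F332963 : act 2 n136357 = n111746 := d4_1 F332962 (iv7 D111746) (iv2 F171824)
theorem F332964 : act 4 n136357 = n111358 := d11_1 F332962 (iv7 D111358) (iv4 F171825)
theorem F332965 : act 6 n136357 = n110912 := d14_1 F332962 (iv7 D110912) (iv6 D51141) D51142 D110913
theorem F332966 : act 4 n109206 = n135738 := d16_4 F81285 F39268 (iv4 F79762) D109206 (iv5 D135738) (iv4 F99722) D136357 (iv7 F332962) F171824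
theorem F332967 : act 3 n108556 = n109206 := d5_5 F332966 F218265 (iv4 F167044) (iv3 F245702) (iv4 F245710)
theorem F332968 : act 6 n135738 = n140343 := d10_2 (iv6 F169168) F332966 (iv4 D140343)
theorem F332969 : act 0 n108565 = n109206 := d20_1 (iv4 F220220) F332966 F218265 (iv1 F111019) (iv3 F245086) (iv4 F245088) (iv1 F175956) (iv4 F175915) (iv3 F245323) (iv1 F245329)
theorem F332970 : act 7 n111745 = n136356 := d16_8 F99722 D135738 (iv4 F332966) (iv5 D109206) F79762 (iv5 F39268) (iv4 F81285) D111745 (iv2 D136356)
theorem F332971 : act 0 n109206 = n124759 := d20_7 F219730 (iv1 D108237) (iv4 F167141) F167140 F111026 (iv3 F218265) (iv4 F332966) (iv4 F317014) (iv3 D74652) (iv1 F112062)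
theorem F332972 : act 0 n156018 = n135738 := d18_0 (iv4 F332966) F332971 (iv4 F317014) (iv5 F247050) (iv4 D135912) (iv0 D63908) (iv4 F53410) D74207 D156018
theorem F332973 : act 1 n136357 = n135918 := d17_6 (iv1 F245114) D156018 F332972 (iv5 D135738) (iv4 F99722) D136357 (iv5 D135918) F218633 (iv4 F245112)
theorem F332974 : act 4 n134752 = n156018 := d20_0 F332972 (iv4 F332966) (iv3 F332967) (iv1 D108556) (iv3 D50127) F38359 F38168 D29918 D63325 D134752
theorem F332975 : act 0 n134755 = n109215 := d18_0 (iv4 D109215) (iv1 D50396) (iv4 F79762) D109206 F332966 (iv0 F332972) (iv4 F332974) (iv0 D134752) D134755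
theorem F332976 : act 0 n109203 = n108585 := d20_4 (iv4 D109215) (iv1 D50396) (iv4 F79762) (iv3 F169167) (iv3 D108585) (iv4 F95127) F95128 (iv4 F98573) (iv3 F216804) F332975
theorem F332977 : act 1 n135182 = n109215 := d15_0 (iv0 F332975) F216805 D135182
theorem F332978 : act 3 n100511 = n109215 := d19_19 (iv1 F332977) (iv5 F246216) F246215 (iv3 F245311) (iv1 F245315) F245463 F318282 F60393 (iv1 F44928) (iv5 F87903) (iv4 D55583) (iv3 F87897) F155295 (iv5 D86005) D86004 F314170 F156909 (iv5 D101144) (iv4 F274947)
theorem F332979 : act 4 n109214 = n99888 := d5_4 (iv4 F274947) F332978 (iv4 D109215) D109214 F156459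
theorem F332980 : act 4 n99505 = n108487 := d20_8 (iv4 F95127) F95128 (iv4 F98573) (iv3 F216804) F332975 (iv3 F332978) F274947 (iv1 F153266) F167713 (iv1 F79405)
theorem F332981 : act 2 n108487 = n101153 := d1_1 F332980 F155850 (iv2 F153262)
theorem E95490 : n108485 = n46514 := (c11_4 D99505 F332980 (iv7 D108487) D108485)
theorem E95491 : n99504 = n50088 := ((D99504).symm.trans (sb E95490 (iv4 D108485)))
theorem E95492 : n108483 = n100504 := ((D108483).symm.trans (sb E95491 (iv1 F272735)))
theorem E95493 : n108484 = n100509 := ((D108484).symm.trans (sb E95491 F205700))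
theorem E95494 : n108482 = n47114 := (((iv2 F167710)).symm.trans (sb E95491 F153260))
theorem F332982 : act 4 n50088 = n46514 := (sb E95491 (iv4 D99504))
theorem E95495 : n108486 = n46517 := ((D108486).symm.trans (sb E95491 F153261))
theorem F332983 : act 1 n100504 = n50088 := (sb E95492 (iv0 D108483))
theorem F332984 : act 0 n100509 = n50088 := (sb E95493 (iv1 D108484))
theorem F332985 : act 2 n47114 = n50088 := (sb E95494 F167710)
theorem E95496 : n108576 = n101151 := (((D101151).symm.trans (sb E95494 (iv3 F167911)))).symm
theorem E95497 : n101152 = n50087 := ((D101152).symm.trans (sb E95494 (iv5 D108482)))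
theorem E95498 : n99508 = n50093 := ((D99508).symm.trans (sb E95495 F167711))
theorem E95499 : n106920 = n90314 := ((((iv5 F292308)).symm.trans (sb E95495 F167712))).symm
theorem F332986 : act 6 n46517 = n50088 := (sb E95495 (iv6 D108486))
theorem F332987 : act 2 n101151 = n50133 := (sb E95496 F167910)
theorem F332988 : act 5 n101151 = n50132 := (sb E95496 (iv5 D108576))
theorem F332989 : act 5 n50087 = n47114 := (sb E95497 (iv5 D101152))
theorem F332990 : act 3 n50093 = n46517 := (sb E95498 (iv3 D99508))
theorem F332991 : act 3 n90314 = n49400 := (sb E95499 F164784)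
theorem F332992 : act 6 n90314 = n49395 := (sb E95499 (iv6 D106920))
theorem E95500 : n107032 = n83215 := (c16_4 F332980 F167714 F79284 (iv5 F164969) (iv4 D83215) (iv5 D38301) F29498 D22657 D47115 (iv2 F153262))
theorem E95501 : n174062 = n49447 := ((D174062).symm.trans (sb E95500 F164968))
theorem E95502 : n174063 = n49443 := ((D174063).symm.trans (sb E95500 F164969))
theorem E95503 : n174064 = n49442 := ((D174064).symm.trans (sb E95500 (iv7 D107032)))
theorem F332993 : act 3 n49447 = n83215 := (sb E95501 (iv3 D174062))
theorem E95504 : n107041 = n83249 := ((D107041).symm.trans (sb E95501 F272869))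
theorem F332994 : act 5 n49443 = n83215 := (sb E95502 (iv5 D174063))
theorem E95505 : n107030 = n83216 := ((D107030).symm.trans (sb E95503 F272870))
theorem F332995 : act 7 n49442 = n83215 := (sb E95503 (iv7 D174064))
theorem E95506 : n174152 = n111123 := ((D174152).symm.trans (sb E95504 (iv2 F172333)))
theorem E95507 : n173985 = n51163 := (((iv4 F272620)).symm.trans (sb E95504 F164978))
theorem F332996 : act 6 n83249 = n49447 := (sb E95504 (iv6 D107041))
theorem F332997 : act 4 n83216 = n49442 := (sb E95505 (iv4 D107030))
theorem F332998 : act 2 n111123 = n83249 := (sb E95506 (iv2 D174152))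
theorem E95508 : n110961 = n83188 := (((iv3 F172006)).symm.trans (sb E95507 (iv3 D173985)))
theorem F332999 : act 4 n51163 = n83249 := (sb E95507 F272620)
theorem F333000 : act 3 n83188 = n51163 := (sb E95508 F172006)
theorem E95509 : n173986 = n51241 := ((D173986).symm.trans (sb E95508 F172007))
theorem E95510 : n173939 = n51161 := (((iv6 F272589)).symm.trans (sb E95508 (iv6 D110961)))
theorem F333001 : act 5 n51241 = n83188 := (sb E95509 (iv5 D173986))
theorem E95511 : n152629 = n110957 := ((((iv2 F172005)).symm.trans (sb E95510 F272588))).symm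
theorem E95512 : n110960 = n83175 := ((D110960).symm.trans (sb E95510 (iv4 D173939)))
theorem F333002 : act 6 n51161 = n83188 := (sb E95510 F272589)
theorem F333003 : act 4 n110957 = n72003 := (sb E95511 (iv4 D152629))
theorem F333004 : act 6 n110957 = n173935 := (sb E95511 (iv6 F272573))
theorem F333005 : act 4 n83175 = n51161 := (sb E95512 (iv4 D110960))
theorem F333006 : act 4 n107027 = n166740 := d16_0 F330840 F127685 (iv5 F153263) F332980 F167714 F79284 F332994 (iv7 F332995) (iv2 F164965)
theorem F333007 : act 1 n108487 = n101149 := d18_6 D46462 F195692 (iv1 F127689) F127685 (iv5 F153263) F332980 F272733 (iv0 D99370) (iv5 D46464)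
theorem F333008 : act 1 n101150 = n108487 := d15_0 F333007 F272734 (iv2 F272731)
theorem E95513 : n154169 = n131412 := (c18_2 F311761 (iv4 F242289) (iv1 D131412) (iv4 F317269) D98955 (iv4 F195698) F333008 (iv4 F332980) F153266 D101144)
theorem F333009 : act 2 n131412 = n161345 := (sb E95513 (iv2 F255169))
theorem F333010 : act 3 n131412 = n132956 := (sb E95513 (iv3 F320106))
theorem F333011 : act 4 n131412 = n73041 := (sb E95513 F242289)
theorem F333012 : act 6 n131412 = n73039 := (sb E95513 (iv6 D154169))
theorem F333013 : act 3 n99371 = n124843 := d20_3 F195698 F152496 D99371 F316132 F111571 F53523 (iv1 F79340) F79338 (iv3 F167713) (iv1 F333008)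
theorem F333014 : act 4 n124843 = n171152 := d5_2 D99371 F333013 (iv3 D171152) (iv4 D82027) (iv3 F73364)
theorem F333015 : act 5 n124842 = n99371 := d6_0 F333013 (iv5 D124843) D124842
theorem F333016 : act 6 n124843 = n99386 := d7_2 (iv6 F153020) F333013 (iv3 D99386)
theorem F333017 : act 2 n100514 = n124842 := d2_3 F333015 F153019 D100514
theorem F333018 : act 5 n174880 = n138994 := d16_1 (iv4 F273779) (iv4 F316130) F333015 (iv4 D99371) (iv5 D46464) (iv4 F57350) F320327 (iv7 F120052) (iv2 F322026)
theorem F333019 : act 3 n138995 = n174880 := d6_3 F333018 (iv3 D138994) D138995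
theorem E95514 : n174879 = n156774 := ((c13_3 D174880 F333018 (iv7 F246677) (iv5 D174879))).symm
theorem F333020 : act 5 n156774 = n83536 := (sb E95514 (iv5 D174879))
theorem F333021 : act 5 n110946 = n174050 := d17_3 (iv1 F273781) F333018 F222165 (iv4 D174050) (iv5 D83211) F127688 (iv5 F330840) F330838 D174055
theorem F333022 : act 3 n174050 = n110948 := d6_1 F333021 (iv5 D110948) D110946
theorem E95515 : n174878 = n129028 := (c6_2 F333020 D174878 F208895 D156774)
theorem F333023 : act 3 n129028 = n83536 := (sb E95515 (iv3 D174878))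
theorem F333024 : act 6 n129028 = n83544 := (sb E95515 F273778)
theorem F333025 : act 6 n174903 = n139004 := d3_2 F333024 D174903 F222181
theorem E95516 : n174848 = n129030 := (c10_2 F333024 (iv4 F273709) (iv6 D129030) D129028)
theorem F333026 : act 3 n129030 = n83522 := (sb E95516 (iv3 D174848))
theorem F333027 : act 4 n129030 = n83544 := (sb E95516 F273709)
theorem F333028 : act 6 n174904 = n177288 := d12_2 F333024 D174904 F276667 F319069 (iv5 F208895)
theorem F333029 : act 3 n177288 = n174908 := d7_1 F333028 (iv6 D174908) (iv3 F273801)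
theorem F333030 : act 4 n177346 = n174904 := d10_3 F333028 (iv4 F276668) D177346
theorem F333031 : act 5 n174908 = n177368 := d6_2 (iv5 F276667) F333029 (iv3 D177368)
theorem F333032 : act 6 n177368 = n156774 := d12_2 D174908 F333031 F333020 F128630 D83545
theorem F333033 : act 2 n170230 = n129030 := d0_5 F333026 (iv2 F318842) (iv3 D160490) (iv2 F125547) D170230
theorem E95517 : n174798 = n129027 := (c7_3 D129030 F333026 (iv6 F273635) (iv3 D129027))
theorem F333034 : act 2 n129027 = n161298 := (sb E95517 F273634)
theorem F333035 : act 4 n129027 = n83508 := (sb E95517 (iv4 D174798))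
theorem F333036 : act 6 n129027 = n83522 := (sb E95517 F273635)
theorem F333037 : act 1 n172444 = n129027 := d18_6 (iv1 F113415) F59418 (iv1 F64078) F155439 D82566 D172444 F333035 F330861 (iv5 F330866)
theorem F333038 : act 5 n172444 = n129004 := d17_1 (iv1 F333037) F218458 F332707 F326206 (iv5 D75561) D75560 D158421 F305497 (iv4 F333035)
theorem E95518 : n128829 = n128721 := ((c20_11 F330864 (iv1 F330861) (iv4 F333035) (iv3 D129027) (iv1 D60666) F46423 D28798 F46431 (iv4 F46429) (iv3 F95152) D128721)).symm
theorem F333039 : act 4 n128721 = n86146 := (sb E95518 F330864)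
theorem F333040 : act 5 n128721 = n60587 := (sb E95518 (iv5 D128829))
theorem F333041 : act 6 n128721 = n86144 := (sb E95518 F330865)
theorem F333042 : act 4 n128839 = n158424 := d17_9 (iv1 D158424) (iv5 D75561) D75559 F330866 (iv4 F333039) F333040 (iv0 D60587) D60590 D128839
theorem F333043 : act 0 n172444 = n163478 := d18_0 F299561 F330862 (iv4 F333039) F333040 D128828 (iv0 F332689) F332693 (iv0 F218458) (iv5 F333038)
theorem F333044 : act 2 n128712 = n128839 := d1_3 F333042 F271828 (iv4 F319379)
theorem F333045 : act 7 n172459 = n128839 := d11_0 F333042 (iv7 F271829) (iv4 F274619)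
theorem F333046 : act 2 n172459 = n128838 := d15_3 (iv0 D128838) D128839 (iv7 F333045)
theorem F333047 : act 4 n128838 = n158423 := d1_2 (iv4 F274619) F333046 (iv2 F271831)
theorem F333048 : act 7 n128838 = n128712 := d4_2 (iv7 F333045) F333046 F333044
theorem F333049 : act 5 n93220 = n128711 := d16_5 F274619 F305478 (iv4 F304534) F137015 (iv4 F295481) (iv4 D128711) D128712 (iv7 F333048) (iv2 F333046)
theorem F333050 : act 1 n128712 = n125656 := d17_6 (iv1 F332708) (iv5 D93222) D93220 F333049 (iv4 D128711) D128712 (iv5 D125656) D125654 (iv4 F217212)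
theorem F333051 : act 5 n128658 = n93147 := d18_9 (iv1 D93147) (iv4 F295146) D47251 (iv4 F295481) F333049 (iv4 D128711) (iv0 D60532) (iv4 F95124) D128658
theorem E95519 : n172459 = n128717 := (c16_7 D128711 (iv5 F333049) F295481 (iv5 F137015) F304534 (iv5 F305478) (iv4 F274619) (iv5 D128717) F206994 (iv2 D128709))
theorem F333052 : act 1 n128717 = n82570 := (sb E95519 (iv0 D172459))
theorem F333053 : act 2 n128717 = n128838 := (sb E95519 F333046)
theorem F333054 : act 4 n128717 = n83774 := (sb E95519 F274619)
theorem F333055 : act 7 n128717 = n128839 := (sb E95519 F333045)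
theorem F333056 : act 5 n128839 = n128709 := d13_1 F333055 (iv7 F206994) D128717
theorem F333057 : act 1 n125656 = n128717 := d15_1 F333050 F333055 (iv2 F333044)
theorem F333058 : act 5 n93221 = n128716 := d16_5 F319379 F317101 (iv4 F317098) F74505 (iv4 F295482) (iv4 D128716) D128717 F333055 (iv2 F333044)
theorem E95520 : n137548 = n128716 := ((c21_9 (iv5 D136036) (iv1 F99533) F221259 (iv6 F329870) (iv1 F136889) F332696 (iv5 F332695) (iv1 F143796) F333058 (iv6 D137548) (iv1 F218908))).symm
theorem F333059 : act 2 n128716 = n137147 := (sb E95520 F220907)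
theorem F333060 : act 6 n128716 = n64656 := (sb E95520 (iv6 D137548))
theorem F333061 : act 6 n137545 = n134762 := d7_2 F333060 D137545 F216824
theorem E95521 : n137546 = n128718 := (c10_2 F333060 D137546 (iv6 D128718) D128716)
theorem F333062 : act 2 n128718 = n137146 := (sb E95521 (iv2 F220906))
theorem F333063 : act 4 n128718 = n64656 := (sb E95521 (iv4 D137546))
theorem F333064 : act 7 n128718 = n137137 := (sb E95521 F220905)
theorem F333065 : act 0 n128718 = n106573 := d20_1 (iv4 F333063) (iv4 F245960) F245959 F111646 F325880 (iv4 F49685) F49686 F45783 (iv3 F48850) D64656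
theorem F333066 : act 5 n156451 = n136143 := d18_4 D64656 (iv4 F333063) F333065 (iv4 F245960) F224167 (iv0 D137515) (iv4 D64646) (iv0 D30420) D30423
theorem F333067 : act 1 n137551 = n106573 := d15_0 (iv0 F333065) F333064 F220903
theorem F333068 : act 0 n143100 = n134966 := d20_1 (iv4 F225956) F217178 (iv3 D134201) F111645 (iv3 F245959) F245960 (iv1 F333067) (iv4 D137551) D137550 (iv1 F220975)
theorem F333069 : act 0 n126937 = n128690 := d20_4 (iv4 D137551) (iv1 D64657) D64658 (iv3 F204192) F206984 F95144 F46379 (iv4 F77797) (iv3 F163844) (iv1 F333067)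
theorem F333070 : act 5 n135993 = n126936 := d18_9 (iv1 D126936) D126937 F333069 F206985 D129239 F322567 (iv0 F103779) F100356 D135993
theorem F333071 : act 2 n126936 = n136755 := d2_1 F333070 (iv5 D136755) (iv2 F226661)
theorem F333072 : act 7 n126936 = n136760 := d13_2 (iv7 F226662) F333070 (iv5 D136760)
theorem F333073 : act 6 n126939 = n184351 := d21_5 F333070 (iv1 D126936) (iv5 D59574) D59575 D126939 (iv5 D184351) (iv1 F143910) F294120 (iv6 F331267) (iv1 F218790)
theorem F333074 : act 4 n184381 = n126939 := d10_3 F333073 F286285 D184381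
theorem F333075 : act 2 n136760 = n126935 := d15_3 (iv0 D126935) D126936 F333072
theorem F333076 : act 7 n136755 = n126935 := d4_2 (iv7 F333072) F333071 (iv2 F333075)
theorem F333077 : act 5 n126935 = n135992 := d13_1 F333076 F226665 D136755
theorem F333078 : act 1 n126930 = n136755 := d15_1 (iv0 F226676) F333076 (iv2 F333075)
theorem F333079 : act 1 n136755 = n126653 := d15_1 F333078 F203812 (iv2 F204185)
theorem F333080 : act 1 n126653 = n136760 := d15_1 F333079 (iv7 F333072) F333071
theorem F333081 : act 0 n138292 = n138017 := d17_2 F333068 F329460 (iv5 D138017) D138016 F221275 (iv0 F180709) D140765 F223853 (iv4 F225956)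
theorem F333082 : act 2 n137734 = n134966 := d15_3 (iv0 F333068) (iv0 F225957) (iv7 F220978)
theorem F333083 : act 1 n142994 = n134966 := d15_0 (iv0 F333068) (iv7 D143100) (iv2 F225842)
theorem F333084 : act 7 n134966 = n137907 := d15_2 (iv0 F225844) F333083 F221165
theorem F333085 : act 3 n137907 = n133567 := d8_1 F333084 F214857 D134966
theorem F333086 : act 4 n139759 = n138292 := d16_6 (iv4 D136827) (iv5 D64327) F48729 D30742 D65610 D139759 (iv5 F329460) F333084 F221165
theorem F333087 : act 6 n132187 = n139759 := d10_0 F333086 (iv6 D138292) (iv4 F211759)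
theorem F333088 : act 1 n138292 = n138012 := d18_6 F223859 (iv4 D67022) F220972 D65610 D139759 F333086 F221273 F226169 F226168
theorem F333089 : act 0 n134960 = n137911 := d20_4 F329150 (iv1 F167615) (iv4 F98750) D134960 (iv3 D137911) (iv4 D64818) D64816 D137907 F333085 (iv1 F329149)
theorem F333090 : act 3 n141326 = n137734 := d0_0 F333082 (iv3 D134966) F98754 D66297 D141326
theorem E95522 : n136143 = n99859 := (c12_2 D156451 F333066 F153753 (iv5 F157442) F328713 (iv5 F111642))
theorem E95523 : n64751 = n47595 := (((F153756).symm.trans (sb E95522 F224166))).symm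
theorem F333091 : act 3 n99859 = n64024 := (sb E95522 (iv3 D136143))
theorem F333092 : act 4 n99859 = n137515 := (sb E95522 F224167)
theorem F333093 : act 5 n99859 = n156451 := (sb E95522 (iv5 F333066))
theorem E95524 : n64030 = n46635 := ((((iv7 D99859)).symm.trans (sb E95522 F219185))).symm
theorem E95525 : n136169 = n22886 := ((((iv0 D47595)).symm.trans (sb E95523 (iv0 F224161)))).symm
theorem E95526 : n136168 = n102620 := (((D102620).symm.trans (sb E95523 F219209))).symm
theorem E95527 : n102621 = n30459 := ((D102621).symm.trans (sb E95523 (iv3 D64751)))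
theorem E95528 : n128524 = n102622 := (((D102622).symm.trans (sb E95523 F206714))).symm
theorem E95529 : n137765 = n102623 := (((D102623).symm.trans (sb E95523 D137765))).symm
theorem E95530 : n137766 = n102624 := (((D102624).symm.trans (sb E95523 D137766))).symm
theorem E95531 : n136091 = n102625 := (((D102625).symm.trans (sb E95523 F219030))).symm
theorem E95532 : n102620 = n99856 := (((D99856).symm.trans (sb E95524 (tr D136168 E95526)))).symm
theorem E95533 : n102625 = n99857 := (((D99857).symm.trans (sb E95524 (tr F219216 E95531)))).symm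
theorem E95534 : n99850 = n30187 := (((iv3 F153743)).symm.trans (sb E95524 (iv3 D64030)))
theorem E95535 : n136170 = n99855 := ((((iv4 F153748)).symm.trans (sb E95524 D136170))).symm
theorem E95536 : n136171 = n99858 := (((D99858).symm.trans (sb E95524 D136171))).symm
theorem E95538 : n141162 = n47588 := ((((iv3 F74842)).symm.trans (sb E95525 F224162))).symm
theorem E95539 : n137516 = n47594 := ((((iv4 F74849)).symm.trans (sb E95525 F224163))).symm
theorem E95540 : n136168 = n99856 := (E95526).trans E95532
theorem F333094 : act 3 n99856 = n64805 := (sb E95540 (iv3 F219210))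
theorem F333095 : act 4 n99856 = n64625 := (sb E95540 F219208)
theorem F333096 : act 3 n30459 = n47595 := (sb E95527 (iv3 D102621))
theorem F333097 : act 0 n102622 = n60453 := (sb E95528 (iv1 D128524))
theorem F333098 : act 1 n102622 = n64627 := (sb E95528 (iv0 F206715))
theorem F333099 : act 2 n102622 = n64625 := (sb E95528 (iv2 F206716))
theorem F333100 : act 7 n102622 = n64626 := (sb E95528 (iv7 F206717))
theorem F333101 : act 3 n102623 = n64753 := (sb E95529 F221013)
theorem F333102 : act 3 n102624 = n64754 := (sb E95530 F221014)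
theorem E95541 : n136091 = n99857 := (E95531).trans E95533
theorem F333103 : act 3 n99857 = n64002 := (sb E95541 (iv3 D136091))
theorem F333104 : act 4 n99857 = n64626 := (sb E95541 F219029)
theorem F333105 : act 2 n99856 = n47595 := (sb E95532 (iv2 D102620))
theorem F333106 : act 7 n99856 = n47596 := (sb E95532 (iv7 F157827))
theorem F333107 : act 2 n99857 = n47596 := (sb E95533 F157828)
theorem F333108 : act 7 n99857 = n47595 := (sb E95533 (iv7 D102625))
theorem F333109 : act 3 n30187 = n46635 := (sb E95534 F153743)
theorem E95542 : n64033 = n46632 := ((D64033).symm.trans (sb E95534 (iv6 D99850)))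
theorem F333110 : act 0 n99855 = n116486 := (sb E95535 F219217)
theorem F333111 : act 1 n99855 = n136031 := (sb E95535 (iv0 F219218))
theorem F333112 : act 7 n99855 = n137515 := (sb E95535 (iv7 F224165))
theorem F333113 : act 3 n99858 = n64032 := (sb E95536 F219219)
theorem E95543 : n136148 = n102602 := (((D102602).symm.trans (sb E95538 (iv1 F224157)))).symm
theorem E95544 : n136118 = n102603 := (((D102603).symm.trans (sb E95538 (iv0 F224154)))).symm
theorem E95545 : n136152 = n102587 := ((((iv2 F157547)).symm.trans (sb E95538 F224152))).symm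
theorem E95546 : n102601 = n66215 := (((iv4 F157701)).symm.trans (sb E95538 (iv4 D141162)))
theorem E95547 : n136149 = n102605 := (((D102605).symm.trans (sb E95538 F224158))).symm
theorem E95548 : n102616 = n64646 := ((D102616).symm.trans (sb E95539 (iv1 D137516)))
theorem E95549 : n102617 = n64651 := ((D102617).symm.trans (sb E95539 F220717))
theorem E95550 : n113059 = n102615 := ((((iv3 F157825)).symm.trans (sb E95539 F224159))).symm
theorem E95553 : n136167 = n99845 := ((((iv2 F153732)).symm.trans (sb E95542 (iv2 F219207)))).symm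
theorem E95554 : n136174 = n99849 := (((D99849).symm.trans (sb E95542 (iv4 F219221)))).symm
theorem F333114 : act 6 n46632 = n30187 := (sb E95542 (iv6 D64033))
theorem F333115 : act 0 n102602 = n64025 := (sb E95543 (iv1 D136148))
theorem F333116 : act 2 n102602 = n64715 := (sb E95543 F219193)
theorem F333117 : act 3 n102602 = n64826 := (sb E95543 (iv3 F219192))
theorem F333118 : act 1 n102603 = n64025 := (sb E95544 F224156)
theorem F333119 : act 3 n102603 = n64013 := (sb E95544 (iv3 D136118))
theorem F333120 : act 7 n102603 = n64715 := (sb E95544 F219085)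
theorem F333121 : act 0 n102587 = n64715 := (sb E95545 F224826)
theorem F333122 : act 3 n102587 = n64029 := (sb E95545 F219196)
theorem F333123 : act 4 n102587 = n110814 := (sb E95545 (iv4 F224176))
theorem F333124 : act 7 n102587 = n64025 := (sb E95545 (iv7 D136152))
theorem F333125 : act 4 n66215 = n47588 := (sb E95546 F157701)
theorem E95557 : n141164 = n47587 := ((D141164).symm.trans (sb E95546 (iv6 D102601)))
theorem F333126 : act 1 n102605 = n64715 := (sb E95547 F224827)
theorem F333127 : act 2 n102605 = n64025 := (sb E95547 (iv2 D136149))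
theorem F333128 : act 4 n102605 = n110813 := (sb E95547 (iv4 F224180))
theorem F333129 : act 1 n64646 = n47594 := (sb E95548 (iv0 D102616))
theorem F333130 : act 0 n64651 = n47594 := (sb E95549 (iv1 D102617))
theorem F333131 : act 0 n102615 = n52181 := (sb E95550 (iv1 D113059))
theorem F333132 : act 1 n102615 = n127106 := (sb E95550 F204359)
theorem F333133 : act 4 n102615 = n141161 := (sb E95550 (iv4 F224151))
theorem F333134 : act 6 n99845 = n64029 := (sb E95553 (iv6 D136167))
theorem F333135 : act 6 n99849 = n64031 := (sb E95554 (iv6 D136174))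
theorem F333136 : act 6 n47587 = n66215 := (sb E95557 (iv6 D141164))
theorem F333137 : act 7 n99858 = n156451 := d13_0 (iv5 F333093) (iv7 D99859) D99858
theorem F333138 : act 2 n156451 = n102632 := d2_1 F333093 F157832 (iv2 F153752)
theorem F333139 : act 6 n102632 = n156450 := d3_2 D156451 F333138 (iv2 D156450)
theorem F333140 : act 1 n156451 = n102629 := d15_0 (iv0 D102629) D102632 (iv2 F333138)
theorem F333141 : act 6 n128658 = n102629 := d21_9 (iv5 F333093) (iv1 F153755) (iv5 F151936) (iv6 D98553) (iv1 F136731) (iv6 F332678) (iv5 F332676) (iv1 F143649) (iv5 F333051) (iv1 F333140)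
theorem F333142 : act 5 n134413 = n135089 := d21_8 (iv5 F332676) (iv1 F143649) (iv5 F333051) F333141 (iv1 F333140) (iv6 D156451) F111642 D134413 (iv6 D135089) (iv1 F207066)
theorem F333143 : act 0 n134413 = n98332 := d21_7 (iv5 D41595) (iv1 F31368) (iv5 F34504) F324644 D63490 D135089 (iv5 F333142) (iv5 F157838) (iv6 D102636) (iv1 F74855)
theorem E95558 : n143139 = n134415 := ((c12_2 F333139 F245954 (iv6 D143139) (iv5 F324393) F153712 (iv5 F157832))).symm
theorem F333144 : act 3 n134415 = n67080 := (sb E95558 F225997)
theorem F333145 : act 6 n134415 = n67078 := (sb E95558 (iv6 D143139))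
theorem F333146 : act 7 n98332 = n134415 := d14_0 F333145 F322928 (iv6 D47606) (iv7 F72583) D98332
theorem F333147 : act 3 n143148 = n98332 := d8_3 F333146 F333144 D143148
theorem F333148 : act 1 n134414 = n98332 := d15_1 D134414 F333146 (iv2 D134415)
theorem F333149 : act 1 n102557 = n134415 := d15_1 D102557 (iv7 F333146) F151741
theorem E95559 : n143148 = n134406 := ((c0_6 F333147 F151741 F327937 F96395 D63137 D134406)).symm
theorem F333150 : act 3 n134406 = n98332 := (sb E95559 F333147)
theorem F333151 : act 4 n134406 = n67085 := (sb E95559 F226007)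
theorem F333152 : act 6 n134406 = n73493 := (sb E95559 F316979)
theorem F333153 : act 7 n134406 = n67080 := (sb E95559 (iv7 D143148))
theorem E95560 : n143003 = n134072 := (c4_2 F333153 (iv2 F225871) F216079 D134406)
theorem F333154 : act 2 n134072 = n67080 := (sb E95560 F225871)
theorem F333155 : act 4 n134072 = n67023 := (sb E95560 F225872)
theorem F333156 : act 6 n134072 = n67022 := (sb E95560 (iv6 D143003))
theorem E95561 : n143145 = n134309 := ((c15_1 (iv0 F218113) (iv0 D143145) (iv7 F333153) (iv2 D134406))).symm
theorem F333157 : act 1 n134309 = n67080 := (sb E95561 (iv0 D143145))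
theorem E95562 : n139950 = n134309 := ((c20_2 (iv4 F103048) (iv1 F333157) F223184 (iv3 F330063) F330072 F104797 F317418 (iv1 F41526) F105819 D66866 (iv1 F326891))).symm
theorem F333158 : act 2 n134309 = n141472 := (sb E95562 (iv2 F224528))
theorem F333159 : act 4 n134309 = n65705 := (sb E95562 F223184)
theorem F333160 : act 6 n134309 = n65704 := (sb E95562 (iv6 D139950))
theorem E95563 : n139953 = n97238 := (c18_5 (iv1 F326891) (iv4 F103048) (iv1 F333157) F333159 D139953 (iv4 F230422) (iv0 D76366) (iv4 F114479) (iv0 F315212) (iv5 D142650))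
theorem F333161 : act 2 n97238 = n141475 := (sb E95563 (iv2 F224531))
theorem F333162 : act 5 n97238 = n65705 := (sb E95563 (iv5 D139953))
theorem F333163 : act 6 n97238 = n65709 := (sb E95563 F223185)
theorem E95564 : n159625 = n135539 := ((c16_7 F230422 F333162 (iv4 F333159) (iv5 D134309) D134308 F218274 D135539 (iv5 D159625) F251448 (iv2 D159618))).symm
theorem F333164 : act 5 n135539 = n76367 := (sb E95564 (iv5 D159625))
theorem E95565 : n159620 = n135544 := ((c16_1 D135544 (iv5 D159620) F230422 F333162 (iv4 F333159) (iv5 D134309) D134308 F218274 D135542 F217969)).symm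
theorem F333165 : act 5 n135544 = n76366 := (sb E95565 (iv5 D159620))
theorem F333166 : act 5 n159619 = n115192 := d6_2 F333165 D159619 (iv3 F217971)
theorem F333167 : act 4 n141476 = n134304 := d16_0 (iv5 D134304) D134303 F218080 D135544 F333165 F230422 F333162 D139954 (iv2 F224533)
theorem F333168 : act 5 n159624 = n141476 := d16_1 D159624 F333167 (iv5 D134304) D134303 F218080 D135544 F333165 D159622 F251449
theorem F333169 : act 4 n146444 = n135607 := d17_4 F218118 F333165 (iv1 F251442) F251438 (iv5 D135607) F99291 (iv5 F218111) (iv0 D135631) D135633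
theorem E95566 : n159628 = n135503 := (c17_9 (iv1 F99181) D135708 (iv1 F218200) F218080 D135544 F333165 (iv0 D76366) D76368 D159628 (iv4 D135503))
theorem E95567 : n135780 = n76368 := (((iv1 F218361)).symm.trans (sb E95566 (iv1 D159628)))
theorem F333170 : act 1 n135503 = n146444 := (sb E95566 F251450)
theorem F333171 : act 1 n76368 = n135503 := (sb E95567 F218361)
theorem E95568 : n159629 = n63845 := ((D159629).symm.trans (sb E95567 (iv4 D135780)))
theorem E95569 : n159630 = n135611 := ((D159630).symm.trans (sb E95567 F218360))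
theorem E95570 : n146441 = n68668 := (((F323479).symm.trans (sb E95568 F251451))).symm
theorem F333172 : act 4 n63845 = n76368 := (sb E95568 (iv4 D159629))
theorem E95571 : n135781 = n76370 := ((D135781).symm.trans (sb E95568 F251452))
theorem F333173 : act 0 n135611 = n146443 := (sb E95569 (iv1 F251458))
theorem E95572 : n146442 = n135700 := ((((iv0 F218194)).symm.trans (sb E95569 F251459))).symm
theorem F333174 : act 2 n135611 = n146444 := (sb E95569 F251453)
theorem F333175 : act 3 n135611 = n76383 := (sb E95569 F251454)
theorem F333176 : act 5 n135611 = n76369 := (sb E95569 F251455)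
theorem F333177 : act 6 n135611 = n146450 := (sb E95569 F251456)
theorem F333178 : act 7 n135611 = n76368 := (sb E95569 (iv7 D159630))
theorem E95573 : n146474 = n68659 := ((D146474).symm.trans (sb E95570 F229784))
theorem E95574 : n146476 = n68658 := ((D146476).symm.trans (sb E95570 (iv6 D146441)))
theorem E95575 : n159631 = n63847 := ((D159631).symm.trans (sb E95571 F218364))
theorem F333179 : act 6 n76370 = n63845 := (sb E95571 (iv6 D135781))
theorem F333180 : act 1 n135700 = n68659 := (sb E95572 (iv0 D146442))
theorem F333181 : act 4 n68659 = n68668 := (sb E95573 (iv4 D146474))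
theorem F333182 : act 6 n68658 = n68668 := (sb E95574 (iv6 D146476))
theorem F333183 : act 3 n63847 = n76370 := (sb E95575 (iv3 D159631))
theorem E95576 : n126511 = n76385 := (((iv4 F203420)).symm.trans (sb E95575 F251460))
theorem E95577 : n146445 = n135789 := (((D135789).symm.trans (sb E95575 F251461))).symm
theorem E95578 : n159656 = n126588 := ((D159656).symm.trans (sb E95576 (iv2 F203621)))
theorem F333184 : act 4 n76385 = n63847 := (sb E95576 F203420)
theorem E95579 : n159650 = n59354 := (((iv6 F251510)).symm.trans (sb E95576 (iv6 D126511)))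
theorem F333185 : act 3 n135789 = n68660 := (sb E95577 (iv3 D146445))
theorem F333186 : act 4 n135789 = n148765 := (sb E95577 F233563)
theorem F333187 : act 2 n126588 = n76385 := (sb E95578 (iv2 D159656))
theorem F333188 : act 3 n126588 = n148764 := (sb E95578 F251522)
theorem E95580 : n126509 = n76382 := (((iv3 F203416)).symm.trans (sb E95579 (iv3 D159650)))
theorem F333189 : act 6 n59354 = n76385 := (sb E95579 F251510)
theorem E95581 : n159648 = n132379 := ((D159648).symm.trans (sb E95580 (iv1 F212394)))
theorem E95582 : n159649 = n60693 := ((D159649).symm.trans (sb E95580 (iv0 F203417)))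
theorem E95583 : n132378 = n69705 := (((F114491).symm.trans (sb E95580 F212396))).symm
theorem F333190 : act 3 n76382 = n59354 := (sb E95580 F203416)
theorem E95584 : n159651 = n59353 := ((D159651).symm.trans (sb E95580 (iv5 D126509)))
theorem E95585 : n159652 = n126578 := ((D159652).symm.trans (sb E95580 (iv7 F203598)))
theorem E95586 : n148734 = n129101 := ((((iv1 F212401)).symm.trans (sb E95581 (iv1 F251505)))).symm
theorem F333191 : act 1 n132379 = n76382 := (sb E95581 (iv0 D159648))
theorem E95587 : n148730 = n62110 := ((((iv2 D132379)).symm.trans (sb E95581 (iv2 F251503)))).symm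
theorem E95588 : n130672 = n114032 := ((F212392).symm.trans (sb E95581 F251502))
theorem E95589 : n148731 = n129102 := (((F212393).symm.trans (sb E95581 (iv7 F251504)))).symm
theorem F333192 : act 0 n60693 = n76382 := (sb E95582 (iv1 D159649))
theorem E95590 : n114033 = n62639 := ((((iv4 F97708)).symm.trans (sb E95582 F251508))).symm
theorem E95591 : n148733 = n126508 := ((D148733).symm.trans (sb E95583 F212397))
theorem F333193 : act 5 n59353 = n76382 := (sb E95584 (iv5 D159651))
theorem F333194 : act 4 n126578 = n76383 := (sb E95585 F251513)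
theorem F333195 : act 7 n126578 = n76382 := (sb E95585 (iv7 D159652))
theorem F333196 : act 4 n129101 = n69706 := (sb E95586 F233506)
theorem F333197 : act 7 n129101 = n69705 := (sb E95586 (iv7 D148734))
theorem F333198 : act 1 n62110 = n69705 := (sb E95587 (iv0 D148730))
theorem E95592 : n76332 = n61310 := (((F96807).symm.trans (sb E95587 F233503))).symm
theorem E95593 : n133459 = n76335 := ((((iv1 F177521)).symm.trans (sb E95588 (iv1 F214622)))).symm
theorem E95594 : n133458 = n52628 := ((((iv0 D114032)).symm.trans (sb E95588 F214617))).symm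
theorem F333199 : act 3 n114032 = n133453 := (sb E95588 (iv3 F214605))
theorem F333200 : act 4 n114032 = n132379 := (sb E95588 (iv4 F212392))
theorem E95595 : n133460 = n76333 := (((F177860).symm.trans (sb E95588 (iv7 F214620)))).symm
theorem F333201 : act 0 n129102 = n69705 := (sb E95589 (iv1 D148731))
theorem E95596 : n133461 = n76279 := ((D133461).symm.trans (sb E95590 (iv5 F177516)))
theorem F333202 : act 5 n126508 = n69705 := (sb E95591 (iv5 D148733))
theorem E95597 : n130670 = n114035 := ((D130670).symm.trans (sb E95592 (iv1 F177523)))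
theorem E95598 : n130671 = n34870 := ((D130671).symm.trans (sb E95592 (iv0 D76332)))
theorem F333203 : act 2 n61310 = n114032 := (sb E95592 F177859)
theorem E95600 : n130673 = n114086 := ((D130673).symm.trans (sb E95592 (iv5 F177607)))
theorem E95601 : n159550 = n130674 := (((D130674).symm.trans (sb E95592 D159550))).symm
theorem F333204 : act 0 n76335 = n62639 := (sb E95593 (iv1 D133459))
theorem F333205 : act 1 n52628 = n62639 := (sb E95594 (iv0 D133458))
theorem F333206 : act 2 n76333 = n62639 := (sb E95595 (iv2 D133460))
theorem E95602 : n159551 = n130662 := ((D159551).symm.trans (sb E95595 F214618))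
theorem F333207 : act 4 n76333 = n129102 := (sb E95595 F214619)
theorem E95603 : n159463 = n62640 := (((iv3 F251102)).symm.trans (sb E95596 F214624))
theorem F333208 : act 5 n76279 = n62639 := (sb E95596 (iv5 D133461))
theorem F333209 : act 1 n114035 = n61310 := (sb E95597 (iv0 D130670))
theorem F333210 : act 0 n34870 = n61310 := (sb E95598 (iv1 D130671))
theorem F333211 : act 3 n114086 = n61311 := (sb E95600 F209239)
theorem F333212 : act 5 n114086 = n61310 := (sb E95600 (iv5 D130673))
theorem F333213 : act 5 n130674 = n114344 := (sb E95601 F251287)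
theorem F333214 : act 3 n130662 = n76333 := (sb E95602 (iv3 D159551))
theorem F333215 : act 5 n130662 = n114947 := (sb E95602 F251288)
theorem F333216 : act 3 n62640 = n76279 := (sb E95603 F251102)
theorem E95604 : n76276 = n71890 := ((((iv6 F327676)).symm.trans (sb E95603 (iv6 D159463)))).symm
theorem E95605 : n159458 = n114058 := ((((iv1 F177564)).symm.trans (sb E95604 D159458))).symm
theorem E95607 : n159460 = n130666 := ((((iv2 F328153)).symm.trans (sb E95604 D159460))).symm
theorem E95608 : n152384 = n34842 := ((D152384).symm.trans (sb E95604 (iv3 D76276)))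
theorem E95609 : n159461 = n152385 := (((D152385).symm.trans (sb E95604 D159461))).symm
theorem E95610 : n159462 = n152386 := (((D152386).symm.trans (sb E95604 D159462))).symm
theorem E95611 : n152388 = n53058 := ((D152388).symm.trans (sb E95604 F177787))
theorem E95612 : n114996 = n71891 := ((((iv1 F177563)).symm.trans (sb E95605 (iv1 F251092)))).symm
theorem F333218 : act 1 n130666 = n114994 := (sb E95607 F251095)
theorem F333219 : act 3 n130666 = n114945 := (sb E95607 F251093)
theorem F333220 : act 3 n34842 = n71890 := (sb E95608 (iv3 D152384))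
theorem F333221 : act 3 n152385 = n105452 := (sb E95609 F251098)
theorem F333222 : act 7 n152385 = n114983 := (sb E95609 F251099)
theorem F333223 : act 3 n152386 = n76278 := (sb E95610 F251100)
theorem F333224 : act 7 n152386 = n114997 := (sb E95610 F251101)
theorem F333225 : act 7 n53058 = n71890 := (sb E95611 (iv7 D152388))
theorem F333226 : act 2 n71891 = n53058 := (sb E95612 (iv2 D114996))
theorem E95613 : n159470 = n152389 := (((D152389).symm.trans (sb E95612 (iv3 F251117)))).symm
theorem F333227 : act 0 n152389 = n114944 := (sb E95613 (iv1 F251121))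
theorem F333228 : act 1 n152389 = n114943 := (sb E95613 F251119)
theorem F333229 : act 2 n152389 = n76281 := (sb E95613 (iv2 D159470))
theorem F333230 : act 7 n152389 = n114945 := (sb E95613 F251118)
theorem F333231 : act 7 n159624 = n141475 := d16_8 (iv4 F230422) (iv5 F333165) (iv4 D135544) (iv5 F218080) (iv4 D134303) D134304 (iv4 F333167) (iv5 F333168) (iv2 F333161)
theorem F333232 : act 7 n134304 = n141472 := d16_8 F333159 (iv5 F333162) (iv4 F230422) (iv5 F333165) (iv4 D135544) (iv5 F218080) (iv4 D134303) D134304 (iv2 F333158)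
theorem F333233 : act 6 n135544 = n135605 := d21_9 (iv5 F203470) (iv1 F319937) F183895 (iv6 D68642) F55204 (iv6 F114482) (iv5 D76368) D76366 (iv5 F333165) (iv1 F218082)
theorem E95614 : n115192 = n113986 := ((c7_3 F333233 F218072 (iv6 F327705) (iv3 F217971))).symm
theorem F333234 : act 0 n113986 = n115122 := (sb E95614 (iv1 F179388))
theorem F333235 : act 1 n113986 = n53151 := (sb E95614 (iv0 D115192))
theorem F333236 : act 3 n113986 = n135544 := (sb E95614 (iv3 F217971))
theorem E95615 : n159619 = n70567 := (((F193503).symm.trans (sb E95614 (iv5 F333166)))).symm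
theorem E95616 : n150005 = n76366 := ((D150005).symm.trans (sb E95615 (iv3 D159619)))
theorem F333237 : act 3 n76366 = n70567 := (sb E95616 (iv3 D150005))
theorem E95617 : n164629 = n159622 := (((D159622).symm.trans (sb E95616 (iv7 F259584)))).symm
theorem F333238 : act 3 n159622 = n79102 := (sb E95617 (iv3 D164629))
theorem F333239 : act 5 n159622 = n113972 := (sb E95617 F259583)
theorem E95618 : n135546 = n115107 := ((c10_2 F333233 (iv4 F218074) (iv6 D135546) D135544)).symm
theorem F333240 : act 6 n115107 = n63733 := (sb E95618 (iv6 D135546))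
theorem F333241 : act 5 n135606 = n159621 := d12_3 F333233 (iv5 D135605) D135606 (iv6 D159621) (iv5 F333165)
theorem F333242 : act 0 n135606 = n105322 := d21_7 F40644 (iv1 D16917) D16919 D34891 D76366 D159621 (iv5 F333241) F161513 (iv6 D48748) (iv1 F40648)
theorem F333243 : act 0 n146345 = n159621 := d21_10 (iv5 F333241) F333242 F161513 (iv6 D48748) (iv1 F40648) (iv6 F69360) (iv5 D44052) D44050 F321217 (iv6 F232266)
theorem F333244 : act 1 n135606 = n105336 := d15_1 (iv0 F333242) (iv7 D105336) (iv2 F161511)
theorem E95619 : n148597 = n144493 := ((c17_3 (iv1 F183683) F322278 D144493 (iv5 F312978) F161816 (iv5 F161513) (iv0 F333242) F333241 (iv0 F333243) F229682)).symm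
theorem F333245 : act 0 n144493 = n69641 := (sb E95619 (iv1 D148597))
theorem F333246 : act 5 n144493 = n105424 := (sb E95619 (iv5 F312978))
theorem F333247 : act 6 n144493 = n74027 := (sb E95619 F247759)
theorem F333248 : act 7 n144493 = n146619 := (sb E95619 F247760)
theorem F333249 : act 2 n105437 = n144493 := d2_3 F333246 F161815 D105437
theorem F333250 : act 6 n117913 = n143241 := d21_3 F333246 (iv1 F313056) (iv5 F227744) (iv1 D143241) (iv6 D67109) D67108 (iv1 F181559) (iv5 D67719) D67720 D144493
theorem F333251 : act 6 n159615 = n117317 := d21_5 F308636 D70356 F106833 D76365 D159615 F322278 D144493 F333246 (iv6 D105424) F310738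
theorem F333252 : act 3 n144519 = n159615 := d7_3 F333251 F322277 (iv6 F227378)
theorem E95620 : n159615 = n143153 := ((c12_6 F333251 F322278 (iv6 D67720) D67719 (iv6 F324901) D143153)).symm
theorem F333253 : act 1 n143153 = n76365 := (sb E95620 (iv0 D159615))
theorem F333254 : act 2 n143153 = n117907 := (sb E95620 (iv2 F314047))
theorem F333255 : act 3 n143153 = n144519 := (sb E95620 (iv3 F333252))
theorem F333256 : act 6 n143153 = n117317 := (sb E95620 F333251)
theorem E95621 : n148596 = n144494 := (c21_1 F315497 (iv1 D144494) (iv5 F322278) (iv6 F333256) F226239 F314421 F312048 (iv1 F97935) (iv5 F309868) D144832 (iv1 F315495))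
theorem F333257 : act 1 n144494 = n69641 := (sb E95621 (iv0 D148596))
theorem F333258 : act 2 n144494 = n146619 := (sb E95621 (iv2 F247762))
theorem F333259 : act 5 n144494 = n105438 := (sb E95621 (iv5 F315497))
theorem F333260 : act 7 n105437 = n144494 := d13_0 F333259 (iv7 D105438) D105437
theorem F333261 : act 1 n146349 = n105437 := d15_1 (iv0 F229907) F333260 F333258
theorem F333262 : act 1 n105437 = n117906 := d15_1 F333261 F184918 (iv2 F327714)
theorem E95622 : n148033 = n146350 := ((c21_4 D105437 (iv1 F333261) (iv5 D146349) D146350 (iv1 D148033) (iv6 D69335) D69334 (iv1 F314626) (iv5 F102727) (iv6 F317429) (iv1 D105436))).symm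
theorem F333263 : act 0 n146350 = n69335 := (sb E95622 (iv1 D148033))
theorem F333264 : act 6 n151371 = n105437 := d21_9 (iv5 D146349) (iv1 F183691) F232250 (iv6 D85367) (iv1 F200371) D39478 F313853 (iv1 F307952) F312013 (iv1 F333261)
theorem F333265 : act 5 n105435 = n143270 := d21_8 D67119 D143271 F320355 F189446 (iv1 F238085) F333264 (iv5 D105437) D105435 (iv6 D143270) (iv1 D67118)
theorem F333266 : act 6 n179150 = n141049 := d21_3 (iv5 F114910) (iv1 F307339) F307340 (iv1 D141049) (iv6 F318437) (iv5 F315199) (iv1 D105436) D105437 (iv6 F333264) (iv1 D151371)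
theorem F333267 : act 2 n141049 = n179170 := d3_1 F333266 (iv6 D179170) (iv2 F279098)
theorem F333268 : act 7 n141049 = n155694 := d14_2 F279096 F333266 (iv6 D155694) (iv7 F252476) (iv6 F252467)
theorem F333269 : act 5 n141049 = n142314 := d21_6 D85401 F232637 F232449 D85498 D179150 F333266 (iv1 D142314) F319186 (iv6 D39449) D39446
theorem F333270 : act 2 n155694 = n141048 := d15_3 (iv0 D141048) D141049 F333268
theorem F333271 : act 7 n179170 = n141048 := d4_2 (iv7 F333268) F333267 (iv2 F333270)
theorem F333272 : act 6 n141048 = n151376 := d14_1 F333271 F252478 D155689 F279099 D179170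
theorem E95623 : n152065 = n65348 := (c12_4 F333272 (iv5 F239078) (iv6 D152066) D152065 D139221 (iv5 F224051))
theorem E95624 : n139220 = n71690 := ((D139220).symm.trans (sb E95623 (iv5 D152065)))
theorem F333273 : act 5 n71690 = n65348 := (sb E95624 (iv5 D139220))
theorem E95625 : n142313 = n139221 := (c21_2 (iv5 F319186) D142313 (iv5 F224051) F333272 (iv1 D151376) (iv6 D71353) (iv5 F94973) (iv1 F94977) F55657 D74021 F232947)
theorem F333274 : act 1 n139221 = n66721 := (sb E95625 (iv0 D142313))
theorem F333275 : act 5 n139217 = n118786 := d2_2 F333273 D139217 F305888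
theorem F333276 : act 5 n139218 = n152063 := d6_2 F333273 D139218 (iv3 D152063)
theorem F333277 : act 5 n139222 = n118785 := d13_3 F305886 F333273 D139222
theorem F333278 : act 5 n127294 = n108369 := d18_4 (iv1 F101052) (iv4 F100641) (iv1 F219809) (iv4 F219810) (iv4 F309882) (iv0 D151594) (iv4 F186731) F305876 F333273
theorem F333279 : act 2 n181768 = n127294 := d2_3 F333278 (iv2 F210945) F282933
theorem F333280 : act 6 n128487 = n127294 := d12_0 F333278 (iv6 F210482) (iv5 F210478) D139181 (iv5 F222356)
theorem F333281 : act 7 n138054 = n127294 := d13_0 F333278 F208072 (iv5 F316241)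
theorem F333282 : act 0 n137895 = n127294 := d21_10 F333278 F215533 F166790 (iv6 D76250) F106638 (iv6 F321919) (iv5 F180238) (iv1 F320909) F320913 D137895
theorem E95626 : n176960 = n137895 := (c21_1 D176960 F333282 F333278 (iv6 F210482) (iv1 D127941) (iv6 F310767) (iv5 F75482) (iv1 D48025) F36286 D38890 D84344)
theorem F333283 : act 5 n137895 = n84344 := (sb E95626 (iv5 D176960))
theorem E95627 : n176961 = n133777 := ((c21_5 F307184 D85670 F312239 D86645 (iv1 F332435) (iv6 D176961) (iv5 F333283) F333282 F333278 (iv6 F210482) (iv1 D127941))).symm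
theorem F333284 : act 6 n133777 = n84344 := (sb E95627 (iv6 D176961))
theorem F333285 : act 0 n127294 = n138809 := d21_1 (iv5 F333278) F312149 (iv6 D148960) F308940 (iv6 D57325) F44364 (iv1 F46151) (iv5 F61832) D87494 (iv1 F307731)
theorem F333286 : act 6 n166049 = n127968 := d21_3 (iv5 D79725) D79722 D166049 (iv1 F305730) (iv6 F307734) F307733 (iv1 F307731) (iv5 F333278) (iv6 F333280) F308024
theorem E95628 : n137903 = n116175 := (c21_5 (iv5 D127963) (iv1 F305305) D127966 F322437 (iv1 F221155) F323350 (iv5 D79725) D79722 D166049 F333286 (iv1 F305730))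
theorem F333287 : act 0 n116175 = n64814 := (sb E95628 (iv1 D137903))
theorem F333288 : act 1 n116175 = n127150 := (sb E95628 F221155)
theorem F333289 : act 2 n127148 = n116175 := d15_3 F333288 (iv0 F323278) (iv7 F321575)
theorem F333290 : act 4 n116175 = n142997 := d20_0 (iv1 D142997) F103008 (iv3 F102997) (iv1 F326856) F87410 (iv4 F87414) D120045 F321561 (iv3 F204409) (iv1 F333288)
theorem F333291 : act 5 n116175 = n96251 := d21_2 (iv5 F321576) (iv1 F333288) (iv6 D96251) (iv1 F108416) (iv6 F309841) (iv5 D131317) (iv1 F309834) F215738 D150314 F279757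
theorem F333292 : act 0 n94240 = n128314 := d21_4 F108414 (iv1 F71268) (iv5 F83728) (iv6 F145310) (iv6 F279755) (iv5 F321576) (iv1 F333288) F333291 (iv6 D96251) (iv1 F108416)
theorem E95629 : n154889 = n94240 := (c17_2 D73461 D154889 F333292 F244279 F316965 (iv5 D67135) D67134 (iv5 F312310) F53008 D33780)
theorem F333293 : act 5 n94240 = n73461 := (sb E95629 (iv5 D154889))
theorem E95630 : n119950 = n92460 := (c20_3 D94240 F333292 F244278 (iv3 D92460) (iv1 F67777) (iv3 F138809) F315230 (iv1 F252142) F315226 F322019 (iv1 F322017))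
theorem F333294 : act 0 n92460 = n55202 := (sb E95630 (iv1 D119950))
theorem F333295 : act 1 n92460 = n69788 := (sb E95630 F314940)
theorem F333296 : act 2 n92460 = n73800 := (sb E95630 F244263)
theorem F333297 : act 4 n92460 = n128314 := (sb E95630 (iv4 F244278))
theorem E95631 : n148455 = n99815 := ((((iv5 F153655)).symm.trans (sb E95630 (iv5 F232203)))).symm
theorem E95632 : n90256 = n73801 := ((F142261).symm.trans (sb E95630 F244264))
theorem F333298 : act 0 n99815 = n69564 := (sb E95631 (iv1 D148455))
theorem F333299 : act 2 n99815 = n155324 := (sb E95631 (iv2 F244266))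
theorem E95633 : n155328 = n47579 := (((F153657).symm.trans (sb E95631 (iv7 F244282)))).symm
theorem E95634 : n119949 = n114073 := (((iv2 F244262)).symm.trans (sb E95632 (iv2 F177586)))
theorem E95635 : n155326 = n42187 := ((D155326).symm.trans (sb E95632 (iv3 D90256)))
theorem F333300 : act 7 n73801 = n92460 := (sb E95632 (iv7 F142261))
theorem E95636 : n117874 = n102580 := (((D102580).symm.trans (sb E95633 F244283))).symm
theorem E95637 : n148440 = n102581 := (((D102581).symm.trans (sb E95633 (iv0 F244284)))).symm
theorem E95638 : n148454 = n102582 := (((D102582).symm.trans (sb E95633 F244285))).symm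
theorem F333301 : act 5 n47579 = n73801 := (sb E95633 (iv5 D155328))
theorem F333302 : act 0 n114073 = n69788 := (sb E95634 F314941)
theorem F333303 : act 1 n114073 = n55202 := (sb E95634 (iv0 D119949))
theorem F333304 : act 2 n114073 = n73801 := (sb E95634 F244262)
theorem F333305 : act 4 n114073 = n128313 := (sb E95634 (iv4 F206436))
theorem F333306 : act 7 n114073 = n73800 := (sb E95634 (iv7 F244261))
theorem F333307 : act 3 n42187 = n73801 := (sb E95635 (iv3 D155326))
theorem F333308 : act 0 n102580 = n155324 := (sb E95636 (iv1 F244268))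
theorem F333309 : act 5 n102580 = n54294 := (sb E95636 (iv5 D117874))
theorem F333310 : act 7 n102580 = n69564 := (sb E95636 F184846)
theorem F333311 : act 1 n102581 = n155324 := (sb E95637 (iv0 F244267))
theorem F333312 : act 2 n102581 = n69564 := (sb E95637 F232180)
theorem F333313 : act 5 n102581 = n69558 := (sb E95637 (iv5 D148440))
theorem F333314 : act 1 n102582 = n69564 := (sb E95638 (iv0 D148454))
theorem F333315 : act 7 n102582 = n155324 := (sb E95638 F244287)
theorem F333316 : act 0 n119574 = n94245 := d20_1 D119574 (iv4 F318171) F318170 F333292 F244277 F315516 (iv1 F97204) F312464 F87026 (iv1 F87020)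
theorem F333317 : act 1 n94240 = n128313 := d15_1 (iv0 F333292) F244260 (iv2 F244276)
theorem F333318 : act 7 n94240 = n128308 := d15_2 D128314 (iv0 F333292) F206432
theorem F333319 : act 0 n155319 = n90310 := d18_0 F138925 F74089 (iv4 F153654) F153655 F333297 (iv0 F333292) (iv4 D94240) F322017 D155319
theorem F333320 : act 3 n159786 = n155319 := d20_3 (iv4 F291614) D102527 (iv4 F251789) F333319 F138924 (iv4 F73732) F290616 (iv4 F63857) (iv3 F136032) F291619
theorem F333321 : act 1 n155319 = n102743 := d15_1 (iv0 F333319) F291712 F157841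
theorem F333322 : act 7 n155319 = n102742 := d15_2 (iv0 F161629) (iv0 F333319) F291706
theorem F333323 : act 2 n90528 = n155319 := d4_3 F333322 F291706 F153468
theorem F333324 : act 6 n90520 = n155319 := d14_5 F333322 F293772 (iv7 F293632) F292541 (iv7 F153432)
theorem F333325 : act 5 n159764 = n154809 := d16_1 D159764 F243491 (iv5 F310510) F309731 (iv5 D73798) D73797 D155319 F333322 F291706
theorem F333326 : act 4 n90528 = n154956 := d16_0 (iv5 D154956) (iv4 F110176) F107484 F307705 (iv5 F232230) F323670 (iv5 F291707) (iv7 F333322) (iv2 F333323)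
theorem F333327 : act 6 n154956 = n90526 := d10_2 D90528 F333326 (iv4 D90526)
theorem F333328 : act 7 n154956 = n159764 := d11_2 F153468 F333326 (iv4 D159764)
theorem F333329 : act 5 n154952 = n148464 := d16_1 D154952 (iv4 D148464) F232209 F323669 (iv5 F145327) F333326 (iv5 D154956) F243492 F243495
theorem F333330 : act 4 n149321 = n89563 := d18_7 (iv1 F153724) F291567 (iv1 F291704) F333326 (iv5 D154956) (iv4 F110176) F234747 (iv0 F306481) F306483
theorem F333331 : act 1 n154956 = n148456 := d18_6 F333294 (iv4 D55202) D55200 F323669 (iv5 F145327) F333326 (iv4 D148456) (iv0 F333298) F153655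
theorem F333332 : act 4 n154953 = n102742 := d9_9 D154956 (iv4 F333326) F145327 (iv4 F323669) (iv5 F232209) D148464 (iv5 F333329) (iv4 D154952) D154953 F291707 (iv4 F323670) F232230 (iv4 F307705) (iv5 F107484) F110176
theorem F333333 : act 0 n114080 = n148452 := d20_4 (iv4 F76132) D104716 F161630 (iv3 F177590) F232200 D148456 (iv1 F333331) (iv4 F333326) (iv3 F145328) F161632
theorem F333334 : act 4 n148452 = n98018 := d20_0 F291659 F135452 F135451 F63620 (iv3 F68314) (iv4 F76132) D104716 F161630 (iv3 F177590) F333333
theorem E95639 : n114077 = n106304 := ((c21_10 D114080 F333333 (iv5 D148452) (iv6 F312029) (iv1 D147300) F105272 F54193 F40365 (iv5 F77582) D106304 (iv1 D114077))).symm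
theorem F333335 : act 0 n106304 = n52653 := (sb E95639 (iv1 D114077))
theorem F333336 : act 5 n119971 = n148496 := d17_1 (iv1 F189385) (iv1 D148496) (iv5 D69579) (iv4 F105841) D148452 (iv0 F333333) (iv5 D114080) (iv0 F333335) F317598
theorem F333337 : act 1 n148496 = n133946 := d17_8 F185137 (iv5 F322655) F322650 F112534 F185212 F317612 D119971 F333336 (iv4 F306565)
theorem E95640 : n170026 = n148496 := ((c21_9 F211145 (iv1 D128375) (iv5 F98000) (iv6 D62798) (iv1 F54018) D60103 F317610 (iv1 F189385) F333336 F332437 F227763)).symm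
theorem F333338 : act 3 n148496 = n81549 := (sb E95640 (iv3 D170026))
theorem F333339 : act 6 n148496 = n131613 := (sb E95640 F332437)
theorem E95641 : n141458 = n119971 := ((c6_1 (iv5 F333336) F224496 (iv5 F332430) (iv3 F333338))).symm
theorem F333340 : act 3 n119971 = n66369 := (sb E95641 F224496)
theorem F333341 : act 4 n119971 = n142847 := (sb E95641 (iv4 F225741))
theorem F333342 : act 6 n119971 = n66366 := (sb E95641 (iv6 D141458))
theorem F333343 : act 5 n115992 = n131613 := d12_5 (iv6 F333339) (iv5 F333336) F333342 F181538 D115992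
theorem F333344 : act 1 n125182 = n115992 := d17_6 D74918 D157465 F248102 (iv5 F304897) F148947 (iv5 F304901) F333343 (iv0 F247989) F112432
theorem F333345 : act 0 n143955 = n138519 := d21_10 (iv5 D138519) F330023 D66070 (iv6 F321032) (iv1 D115989) D115992 F333343 F227763 F211145 (iv6 F324261)
theorem F333346 : act 1 n143955 = n140812 := d15_1 (iv0 F333345) F330030 (iv2 F327722)
theorem F333347 : act 0 n142847 = n114676 := d18_2 (iv1 F189385) F333341 (iv4 F192398) (iv5 F205865) F205864 D127931 F212342 (iv0 D127930) F317610
theorem E95642 : n118001 = n66369 := (c20_5 (iv4 F311588) (iv1 F50356) (iv4 F311593) (iv3 F85790) D118001 (iv3 F333340) F333341 F333347 (iv4 F192398) F192397 (iv1 F88005))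
theorem E95643 : n141464 = n54359 := ((D141464).symm.trans (sb E95642 (iv0 D118001)))
theorem F333348 : act 0 n54359 = n66369 := (sb E95643 (iv1 D141464))
theorem E95644 : n139995 = n118002 := (((D118002).symm.trans (sb E95643 F224505))).symm
theorem F333349 : act 1 n118002 = n141463 := (sb E95644 F224510)
theorem F333350 : act 2 n118002 = n141466 := (sb E95644 (iv2 F224508))
theorem F333351 : act 6 n118002 = n141476 := (sb E95644 (iv6 F224534))
theorem F333352 : act 7 n118002 = n65722 := (sb E95644 (iv7 D139995))
theorem E95645 : n94129 = n90151 := ((c17_7 (iv1 D119971) (iv5 F317612) (iv1 F205868) (iv5 F317799) F317798 (iv5 D90262) F138602 (iv5 F178794) (iv0 F333347) (iv4 F333341))).symm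
theorem E95646 : n93776 = n42190 := ((((iv1 F138602)).symm.trans (sb E95645 (iv1 F145086)))).symm
theorem F333353 : act 2 n90151 = n92468 := (sb E95645 (iv2 F290319))
theorem F333354 : act 3 n90151 = n114696 := (sb E95645 (iv3 F178803))
theorem F333355 : act 5 n90151 = n114676 := (sb E95645 (iv5 F178794))
theorem F333356 : act 6 n90151 = n92468 := (sb E95645 (iv6 F290320))
theorem F333357 : act 7 n90151 = n44013 := (sb E95645 (iv7 D94129))
theorem E95648 : n90152 = n43836 := (((iv1 F138603)).symm.trans (sb E95646 (iv1 D93776)))
theorem F333358 : act 0 n43836 = n42137 := (sb E95648 (iv1 D90152))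
theorem F333359 : act 1 n43836 = n42190 := (sb E95648 F138603)
theorem E95649 : n182148 = n93773 := ((((iv3 F144541)).symm.trans (sb E95648 (iv3 F283601)))).symm
theorem F333360 : act 0 n93773 = n159746 := (sb E95649 (iv1 F283603))
theorem F333361 : act 1 n93773 = n159841 := (sb E95649 (iv0 F283602))
theorem E95650 : n86976 = n86948 := (((F144542).symm.trans (sb E95649 (iv4 D182148)))).symm
theorem E95651 : n182046 = n40382 := ((D182046).symm.trans (sb E95650 (iv1 D86976)))
theorem E95652 : n182047 = n181966 := ((D182047).symm.trans (sb E95650 F283262))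
theorem E95653 : n182146 = n89151 := ((((iv2 F136853)).symm.trans (sb E95650 (iv2 F283596)))).symm
theorem E95654 : n182147 = n98684 := ((((iv3 F152154)).symm.trans (sb E95650 D182147))).symm
theorem E95655 : n182149 = n182048 := (((D182048).symm.trans (sb E95650 D182149))).symm
theorem E95657 : n182142 = n182049 := (((D182049).symm.trans (sb E95650 F283523))).symm
theorem F333362 : act 1 n40382 = n86948 := (sb E95651 (iv0 D182046))
theorem F333363 : act 0 n181966 = n86948 := (sb E95652 (iv1 D182047))
theorem F333364 : act 7 n89151 = n86975 := (sb E95653 (iv7 D182146))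
theorem F333365 : act 0 n98684 = n93840 := (sb E95654 F283598)
theorem F333366 : act 1 n98684 = n93845 := (sb E95654 F283600)
theorem E95658 : n92498 = n46132 := (((F152155).symm.trans (sb E95654 (iv4 F283597)))).symm
theorem F333367 : act 0 n182048 = n86991 := (sb E95655 F283604)
theorem F333368 : act 1 n182048 = n185020 := (sb E95655 F287412)
theorem F333369 : act 2 n182049 = n86975 := (sb E95657 (iv2 D182142))
theorem E95659 : n98685 = n90128 := ((D98685).symm.trans (sb E95658 (iv1 F142397)))
theorem E95660 : n98686 = n43280 := ((D98686).symm.trans (sb E95658 (iv0 D92498)))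
theorem F333370 : act 1 n90128 = n46132 := (sb E95659 (iv0 D98685))
theorem F333371 : act 0 n43280 = n46132 := (sb E95660 (iv1 D98686))
theorem F333372 : act 0 n93777 = n142847 := d20_1 F144549 (iv4 F333341) F333340 D141463 F332425 (iv4 F313927) F290265 F313072 (iv3 F322653) F322650
theorem E95661 : n142847 = n94242 := ((c20_6 F333305 (iv1 F333317) (iv4 D94240) F69359 D44054 D94242 (iv4 F333341) (iv1 D119971) (iv4 F317601) F317600 (iv1 F333303))).symm
theorem F333373 : act 0 n94242 = n114676 := (sb E95661 F333347)
theorem F333374 : act 1 n94242 = n93777 := (sb E95661 (iv0 F333372))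
theorem F333375 : act 4 n94242 = n119971 := (sb E95661 (iv4 F333341))
theorem F333376 : act 6 n94242 = n66954 := (sb E95661 (iv6 D142847))
theorem F333377 : act 6 n116413 = n93848 := d3_2 F333376 F181609 (iv2 F145314)
theorem E95662 : n142845 = n94243 := (c7_2 F333376 D142845 (iv6 D94243) D94242)
theorem F333378 : act 3 n94243 = n66954 := (sb E95662 (iv3 D142845))
theorem F333379 : act 4 n94243 = n141460 := (sb E95662 F225738)
theorem E95663 : n142846 = n98042 := (c12_2 F333376 D142846 (iv6 D98042) (iv5 D45757) (iv6 F72205) (iv5 F291662))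
theorem F333380 : act 0 n98042 = n114554 := (sb E95663 (iv1 F318201))
theorem F333381 : act 1 n98042 = n142487 := (sb E95663 F225740)
theorem F333382 : act 2 n98042 = n143659 := (sb E95663 F226340)
theorem F333383 : act 5 n98042 = n66954 := (sb E95663 (iv5 D142846))
theorem F333384 : act 7 n98042 = n143660 := (sb E95663 (iv7 F226342))
theorem F333385 : act 6 n167881 = n114552 := d21_9 F225397 (iv1 F333381) F333383 (iv6 F333376) F333373 (iv6 F318183) F318182 (iv1 D167879) D167881 F318190
theorem E95664 : n143761 = n143656 := ((c14_4 (iv7 F301932) F333385 F318192 D143656 F315721 F316531)).symm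
theorem F333386 : act 0 n143656 = n153925 := (sb E95664 F315718)
theorem F333387 : act 1 n143656 = n67337 := (sb E95664 (iv0 D143761))
theorem F333388 : act 2 n143656 = n149290 := (sb E95664 F315719)
theorem F333389 : act 4 n143656 = n79845 := (sb E95664 F315720)
theorem F333390 : act 7 n143656 = n149287 := (sb E95664 F315721)
theorem E95665 : n133865 = n133130 := (c18_7 (iv1 D67335) D67337 (iv1 F333387) F333389 (iv5 F310798) F215588 D133865 F237552 D139269 F315706)
theorem F333391 : act 0 n133130 = n62881 := (sb E95665 (iv1 D133865))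
theorem F333392 : act 1 n133130 = n130368 := (sb E95665 F215589)
theorem E95666 : n128111 = n126892 := ((c17_3 F333391 (iv5 F329083) D126892 (iv5 D128111) F190724 D72834 F320142 (iv5 F320145) F313937 (iv4 F237552))).symm
theorem F333393 : act 5 n126892 = n60205 := (sb E95666 (iv5 D128111))
theorem F333394 : act 2 n174916 = n126892 := d2_3 F333393 (iv2 F307123) D174916
theorem F333395 : act 7 n126893 = n174916 := d15_2 (iv0 D126892) D126893 F333394
theorem F333396 : act 3 n133134 = n126893 := d8_3 F333395 F273818 (iv7 F307060)
theorem E95667 : n128114 = n126893 := (c13_4 F333395 (iv5 D174916) (iv7 F308985) D128114)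
theorem F333397 : act 5 n126893 = n60206 := (sb E95667 (iv5 D128114))
theorem E95668 : n133027 = n128156 := (c21_8 (iv5 F333397) (iv1 D126893) F329083 (iv6 D62881) (iv1 F47841) D61171 (iv5 F97304) D133027 F206285 F306340 F304313)
theorem F333398 : act 0 n128156 = n62441 := (sb E95668 (iv1 F213686))
theorem F333399 : act 1 n128156 = n62424 := (sb E95668 (iv0 D133027))
theorem E95669 : n133028 = n128052 := (c15_2 F333399 D133028 F311881 (iv2 F311888))
theorem F333400 : act 0 n128052 = n62424 := (sb E95669 (iv1 D133028))
theorem F333401 : act 1 n128052 = n62441 := (sb E95669 F213681)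
theorem E95670 : n161158 = n133026 := ((c18_8 F325011 (iv4 D88063) (iv1 F304418) D123662 F332021 (iv4 F332028) F333399 (iv4 F213680) (iv0 D161158) (iv5 F325014))).symm
theorem F333402 : act 0 n133026 = n167114 := (sb E95670 (iv1 F263210))
theorem F333403 : act 1 n133026 = n77369 := (sb E95670 (iv0 D161158))
theorem F333404 : act 3 n133026 = n84928 := (sb E95670 F307483)
theorem F333405 : act 7 n133026 = n82635 := (sb E95670 F307484)
theorem F333406 : act 3 n119418 = n137118 := d20_3 (iv4 F71178) F311822 (iv4 F312052) F331939 (iv3 F333404) F213680 (iv1 F333399) F332028 F319019 (iv1 D80278)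
theorem F333407 : act 5 n137117 = n119418 := d6_0 F333406 (iv5 D137118) D137117
theorem E95671 : n131599 = n121989 := ((c20_11 (iv4 D131599) F305278 (iv4 F244040) (iv3 D155195) (iv1 F331940) (iv3 F333406) F312052 D149010 (iv4 F314261) F314260 F312889)).symm
theorem F333408 : act 4 n121989 = n61748 := (sb E95671 (iv4 D131599))
theorem E95672 : n178490 = n174053 := (c20_4 F313492 F184653 (iv4 F312051) D178490 F272860 (iv3 F304768) (iv4 F306048) D150196 (iv4 F331941) (iv3 F333406) (iv1 F188177))
theorem F333409 : act 3 n174053 = n84940 := (sb E95672 (iv3 D178490))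
theorem F333410 : act 4 n174053 = n167068 := (sb E95672 F278124)
theorem F333411 : act 3 n167068 = n153303 := d5_1 F333410 F312488 F210758 (iv4 F312051) (iv3 F333409)
theorem F333412 : act 6 n167068 = n100485 := d10_2 (iv6 F272859) F333410 F272840
theorem F333413 : act 7 n167068 = n99369 := d11_2 D174053 F333410 (iv4 F195697)
theorem F333414 : act 0 n133102 = n101842 := d20_4 F310201 (iv1 F130937) (iv4 F97809) (iv3 F213751) F156800 D101849 (iv1 F272861) F333410 F333411 (iv1 D153303)
theorem E95673 : n138234 = n133594 := (c20_4 F236264 (iv1 F236399) F322834 D138234 (iv1 F312487) (iv3 F333411) (iv4 F333410) F272860 (iv4 D101862) (iv3 F286810) F236265)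
theorem F333415 : act 3 n133594 = n64927 := (sb E95673 (iv3 D138234))
theorem F333416 : act 0 n100498 = n167068 := d20_7 F311824 F232784 (iv4 F185491) (iv3 F315999) (iv1 F127875) (iv3 F263165) F304820 (iv4 F333410) F333409 (iv1 D84940)
theorem F333417 : act 0 n157434 = n170093 := d20_7 F304820 F333416 (iv4 F333410) F333409 (iv1 D84940) (iv3 F130186) (iv4 F307672) (iv4 F304822) (iv3 D167088) (iv1 F263168)
theorem F333418 : act 2 n100501 = n167068 := d15_3 (iv0 F333416) (iv0 D100498) D100501
theorem E95674 : n167088 = n131573 := (c20_1 (iv4 F304822) (iv1 D131573) F96335 F46925 D29300 D61828 (iv4 F209851) (iv1 F108938) (iv4 F185287) (iv3 F247973) F333417)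
theorem F333419 : act 2 n131573 = n164520 := (sb E95674 F263179)
theorem F333420 : act 3 n131573 = n80216 := (sb E95674 (iv3 D167088))
theorem F333421 : act 4 n131573 = n170093 := (sb E95674 F304822)
theorem F333422 : act 6 n131573 = n83530 := (sb E95674 F304823)
theorem F333423 : act 2 n180840 = n170093 := d15_3 (iv0 F333417) F307670 F281538
theorem F333424 : act 1 n131073 = n170093 := d15_0 (iv0 F333417) (iv7 D157434) (iv2 F209792)
theorem F333425 : act 0 n155195 = n131573 := d20_10 F333421 (iv1 F333424) (iv4 F310625) F194823 (iv1 F117079) (iv3 F322586) (iv4 F324082) (iv1 D73699) D73700 D155195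
theorem F333426 : act 3 n174052 = n145686 := d20_9 (iv4 F324082) (iv1 D73699) D73700 D155195 F333425 F333420 (iv4 F304824) F155790 (iv4 F272800) (iv1 D145686)
theorem F333427 : act 3 n170093 = n118785 := d20_9 (iv4 F166818) F309875 F307862 (iv3 D74795) F302925 D73704 (iv4 F244040) F333425 F333421 F305884
theorem F333428 : act 5 n112536 = n133769 := d21_8 (iv5 F188195) F188197 (iv5 F136973) F301920 F333425 F333422 (iv5 F332196) (iv1 F175013) (iv6 F236402) F303977
theorem F333429 : act 1 n155195 = n152607 := d15_1 (iv0 F333425) (iv7 F259315) (iv2 F333419)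
theorem F333430 : act 7 n155195 = n108359 := d15_2 D131573 (iv0 F333425) F167534
theorem F333431 : act 2 n131571 = n155195 := d4_3 F333430 F167534 (iv7 F210821)
theorem E95675 : n152607 = n131572 := (c15_1 F333429 (iv0 D131572) (iv7 F210821) F333431)
theorem F333432 : act 0 n131572 = n155195 := (sb E95675 (iv1 F333429))
theorem F333433 : act 3 n131572 = n71983 := (sb E95675 (iv3 D152607))
theorem F333434 : act 4 n131572 = n148963 := (sb E95675 F239806)
theorem F333435 : act 7 n131572 = n164520 := (sb E95675 (iv7 F259315))
theorem F333436 : act 5 n131420 = n110346 := d2_2 F333428 F215378 (iv2 F175016)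
theorem F333437 : act 5 n131340 = n110347 := d13_3 (iv7 F175014) F333428 F215379
theorem E95676 : n175254 = n131340 := ((c16_9 F319722 F313478 F128686 D83608 (iv4 F319911) (iv5 D113197) F175015 F333428 F215379 F274282)).symm
theorem F333438 : act 2 n131340 = n83695 := (sb E95676 F274282)
theorem F333439 : act 6 n131340 = n83691 := (sb E95676 (iv6 D175254))
theorem F333440 : act 5 n170274 = n175069 := d17_7 (iv1 F188230) (iv5 F332196) (iv1 F175013) F333428 (iv4 D133769) (iv5 F166863) F309211 (iv0 F309210) F309212
theorem F333441 : act 1 n133769 = n175414 := d17_8 F310256 (iv5 F310259) (iv1 F312410) (iv5 F317114) F235996 F332184 D112536 F333428 (iv4 F310258)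
theorem F333442 : act 4 n108493 = n99477 := d19_14 (iv1 F333441) (iv5 F333428) (iv4 F175015) F161329 (iv1 D25439) F20005 (iv4 F40215) (iv3 F82756) D113525 (iv5 F332707) (iv4 F332693) F332692 F218438 F167777 F153245 D99502 (iv5 F308582) (iv4 D175415) D175414
theorem F333443 : act 6 n99490 = n108493 := d10_0 F333442 F153246 D99490
theorem F333444 : act 3 n108494 = n99490 := d7_3 F333443 (iv3 D108493) D108494
theorem E95677 : n161582 = n131407 := (c15_3 (iv0 F232866) F333441 F274477 (iv2 F228255))
theorem F333445 : act 3 n131407 = n77610 := (sb E95677 (iv3 D161582))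
theorem F333446 : act 7 n131407 = n175414 := (sb E95677 (iv7 F274477))
theorem F333447 : act 3 n133769 = n163535 := d20_5 (iv4 F272770) F310374 (iv4 D175415) D175414 (iv1 F333441) F323687 (iv1 F308028) (iv4 F213589) (iv3 F317268) (iv1 F274806)
theorem E95678 : n176440 = n131340 := (c8_4 (iv7 F215379) F333447 F323689 D176440)
theorem F333448 : act 3 n131340 = n84125 := (sb E95678 (iv3 D176440))
theorem E95679 : n163479 = n135833 := (c19_10 (iv1 F309211) F166863 D133769 F333447 (iv1 D163535) (iv5 D78582) (iv4 F119741) F119740 D78559 D163479 (iv4 D135833) (iv3 F218473) (iv1 F319150) F319151 (iv4 D62533) D62532 F213499 F212110 F316291 D170274)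
theorem F333449 : act 5 n135833 = n78559 := (sb E95679 (iv5 D163479))
theorem F333450 : act 7 n164178 = n135833 := d13_0 F333449 F297415 D164178
theorem E95680 : n135831 = n126143 := ((c16_1 D126143 (iv5 D135831) (iv4 D63869) D63870 D135833 F333449 F297414 F88565 F325649 (iv2 F326199))).symm
theorem F333451 : act 3 n126143 = n128998 := (sb E95680 F218479)
theorem F333452 : act 5 n126143 = n63869 := (sb E95680 (iv5 D135831))
theorem F333453 : act 7 n126143 = n126133 := (sb E95680 (iv7 F330410))
theorem E95681 : n163481 = n135822 := (c9_9 (iv5 F333449) (iv4 D135833) (iv5 D63870) D63869 (iv5 F333452) (iv4 D126143) (iv5 F325283) (iv4 F297404) D163481 (iv4 D135822) (iv5 D63865) D63864 (iv5 F330406) F132003 (iv5 F88565) (iv4 F297414))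
theorem F333454 : act 5 n135822 = n78560 := (sb E95681 (iv5 D163481))
theorem F333455 : act 2 n164178 = n135822 := d16_9 (iv4 D135822) (iv5 D63865) D63864 (iv5 F330406) F132003 (iv5 F88565) (iv4 F297414) (iv5 F333449) (iv7 F333450)
theorem F333456 : act 4 n130907 = n164178 := d1_0 F333455 (iv4 D135822) F209505
theorem F333457 : act 5 n126138 = n135821 := d16_5 F333456 (iv5 D164178) (iv4 D78869) F325646 D126138 F218467 F209509 F209507 F209505
theorem E95682 : n163485 = n128982 := (c17_8 F207224 F48431 (iv1 F207225) (iv5 F209504) F333456 (iv5 D164178) F296428 (iv5 F257756) (iv0 D128982) (iv4 F207226))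
theorem F333458 : act 2 n128982 = n135816 := (sb E95682 (iv2 F330403))
theorem F333459 : act 5 n128982 = n78562 := (sb E95682 F257756)
theorem F333460 : act 7 n128982 = n78561 := (sb E95682 (iv7 D163485))
theorem E95683 : n163490 = n128694 := (c18_10 (iv1 D128694) (iv4 F95915) D130907 F333456 (iv5 D164178) (iv4 D78869) F116818 (iv4 F112722) (iv0 F296434) D163490)
theorem F333461 : act 5 n128694 = n78564 := (sb E95683 (iv5 D163490))
theorem F333462 : act 2 n126143 = n126138 := d16_9 (iv4 D126138) (iv5 F325646) D78869 D164178 (iv4 F333456) F209504 F207226 (iv5 F330409) (iv7 F333453)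
theorem F333463 : act 6 n124206 = n126143 := d3_0 F333462 F325644 (iv2 F198696)
theorem F333464 : act 1 n126143 = n180133 := d15_0 (iv0 D180133) (iv7 F325645) (iv2 F333462)
theorem F333465 : act 4 n180133 = n163491 := d17_9 (iv1 F257772) (iv5 D78568) (iv1 D35790) F28276 (iv4 F56456) D78561 (iv0 F330407) (iv5 F333452) F333464
theorem F333466 : act 2 n126037 = n180133 := d1_3 F333465 (iv2 F324477) (iv4 F202738)
theorem F333467 : act 6 n125766 = n180133 := d10_0 F333465 (iv6 F296058) F323927
theorem F333468 : act 3 n180133 = n125768 := d7_1 F333467 (iv6 D125768) D125766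
theorem F333469 : act 0 n125768 = n113558 := d20_4 F330430 D163491 (iv4 F333465) F333468 (iv3 D113558) F161334 (iv1 D28118) (iv4 F45432) (iv3 F93274) D126128
theorem F333470 : act 7 n180134 = n126037 := d15_2 (iv0 D180133) D180134 F333466
theorem E95684 : n180134 = n126379 := ((c11_4 F333470 F202738 F324479 (iv4 F323931))).symm
theorem F333471 : act 0 n126379 = n86066 := (sb E95684 (iv1 D180134))
theorem F333472 : act 7 n126379 = n126037 := (sb E95684 F333470)
theorem F333473 : act 0 n180163 = n110290 := d20_7 (iv4 F323931) F333471 F132003 F60649 D39845 D86078 D180163 (iv4 D110290) (iv3 F327352) (iv1 F257903)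
theorem F333474 : act 1 n126379 = n126143 := d15_1 (iv0 F333471) F333453 F325652
theorem F333475 : act 0 n126133 = n126037 := d18_2 D59106 D126133 F202738 F324478 (iv4 F323931) F333474 (iv4 D126143) (iv0 D59108) F45344
theorem F333476 : act 0 n126036 = n180038 := d21_7 D180025 (iv1 F299696) F299698 (iv6 F325653) F333475 (iv6 D126037) D126036 (iv5 D180038) (iv6 D86033) D86029
theorem F333477 : act 1 n126138 = n126037 := d15_0 (iv0 F333475) (iv7 F333453) F333462
theorem E95685 : n163427 = n128983 := (c17_6 F324475 F119795 F119516 F56451 (iv4 F119715) D163427 F218468 (iv5 F333457) F333477 F202738)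
theorem F333478 : act 2 n128983 = n78561 := (sb E95685 F257713)
theorem F333479 : act 5 n128983 = n78539 := (sb E95685 (iv5 D163427))
theorem F333480 : act 0 n185561 = n126036 := d21_1 D185561 (iv5 D126036) D126037 (iv1 F333477) F325644 D163623 F299823 (iv5 D124610) D124611 F299408
theorem F333481 : act 6 n97308 = n128983 := d12_0 F333479 (iv6 D78539) F294092 (iv6 F71706) D97308
theorem F333482 : act 7 n135816 = n128983 := d13_0 F333479 (iv7 F296838) (iv5 F330404)
theorem F333483 : act 0 n135687 = n135543 := d18_2 (iv1 F99338) D135687 F217970 F333479 F119715 (iv0 F119516) (iv4 F330380) (iv0 F330391) (iv5 F330395)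
theorem F333484 : act 7 n135543 = n135745 := d11_2 F333482 (iv4 F217970) (iv4 F218452)
theorem F333485 : act 5 n163484 = n135745 := d16_1 D163484 (iv4 F218452) F330404 F296837 F119723 (iv4 F296837) (iv5 F330404) F333482 F333478
theorem F333486 : act 3 n135710 = n163484 := d6_3 F333485 (iv3 D135745) (iv5 F218209)
theorem F333487 : act 2 n135543 = n163484 := d16_9 (iv4 D163484) (iv5 D78561) F56456 F28276 (iv4 F56456) D78561 D163484 F333485 (iv7 F333484)
theorem E95686 : n135741 = n63733 := (c8_3 F333484 (iv3 D135745) F218270 D135543)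
theorem E95687 : n135542 = n63825 := (((iv2 F217969)).symm.trans (sb E95686 (iv2 D135741)))
theorem E95688 : n135537 = n63826 := ((F217965).symm.trans (sb E95686 (iv7 F218270)))
theorem F333488 : act 2 n63825 = n63733 := (sb E95687 F217969)
theorem E95689 : n135744 = n63732 := ((D135744).symm.trans (sb E95687 (iv7 D135542)))
theorem F333489 : act 7 n63826 = n63733 := (sb E95688 (iv7 F217965))
theorem F333490 : act 2 n63732 = n63826 := (sb E95689 F218275)
theorem F333491 : act 7 n63732 = n63825 := (sb E95689 (iv7 D135744))
theorem F333492 : act 7 n134308 = n135538 := d8_2 F333491 (iv3 F216323) (iv3 D135538)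
theorem F333493 : act 7 n135742 = n135539 := d11_2 F333491 D135742 (iv4 D135539)
theorem F333494 : act 5 n159618 = n135742 := d13_3 F333493 F333164 F251448
theorem F333495 : act 2 n135539 = n135746 := d15_3 F218276 (iv0 F218271) F333493
theorem F333496 : act 2 n135742 = n135544 := d15_3 (iv0 F218118) (iv0 F218119) (iv7 F333493)
theorem F333497 : act 6 n135631 = n135742 := d3_0 F333496 F333233 F218109
theorem F333498 : act 7 n135544 = n135746 := d4_2 (iv7 F333493) F333496 (iv2 F333495)
theorem E95690 : n115120 = n52610 := (c8_2 F333498 F218278 D113986 F333236)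
theorem E95691 : n115194 = n113984 := (((D113984).symm.trans (sb E95690 (iv1 F179392)))).symm
theorem E95692 : n113985 = n53122 := ((D113985).symm.trans (sb E95690 (iv0 D115120)))
theorem E95693 : n135746 = n113972 := ((((iv3 F177312)).symm.trans (sb E95690 (iv3 F218278)))).symm
theorem E95694 : n135584 = n115121 := (((iv1 F327169)).symm.trans (sb E95691 (iv1 F179394)))
theorem F333499 : act 2 n113984 = n53151 := (sb E95691 (iv2 D115194))
theorem F333500 : act 3 n113984 = n115130 := (sb E95691 F179389)
theorem F333501 : act 4 n113984 = n60613 := (sb E95691 F179390)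
theorem F333502 : act 7 n113984 = n115122 := (sb E95691 F179391)
theorem F333503 : act 0 n53122 = n52610 := (sb E95692 (iv1 D113985))
theorem E95695 : n115124 = n92801 := ((D115124).symm.trans (sb E95692 (iv6 F177484)))
theorem F333504 : act 0 n113972 = n115144 := (sb E95693 F218277)
theorem F333505 : act 1 n113972 = n135646 := (sb E95693 F218276)
theorem F333506 : act 2 n113972 = n135539 := (sb E95693 (iv2 F333495))
theorem F333507 : act 4 n113972 = n63826 := (sb E95693 (iv4 D135746))
theorem F333508 : act 7 n113972 = n135544 := (sb E95693 (iv7 F333498))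
theorem F333509 : act 1 n115121 = n113984 := (sb E95694 F327169)
theorem F333510 : act 2 n115121 = n113986 := (sb E95694 (iv2 F327704))
theorem F333511 : act 5 n115121 = n79101 := (sb E95694 F327170)
theorem F333512 : act 6 n115121 = n63754 := (sb E95694 (iv6 D135584))
theorem F333513 : act 7 n115121 = n105362 := (sb E95694 F327171)
theorem F333514 : act 3 n92801 = n53124 := (sb E95695 F179287)
theorem F333515 : act 4 n92801 = n128601 := (sb E95695 (iv4 F206850))
theorem F333516 : act 6 n92801 = n53122 := (sb E95695 (iv6 D115124))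
theorem F333517 : act 6 n105364 = n135580 := d14_3 (iv7 F333508) (iv6 D113972) (iv7 F193486) (iv7 F218073) (iv6 F333233)
theorem F333518 : act 6 n115123 = n121358 := d12_2 F333516 D115123 (iv5 F193580) (iv6 D92802) D92801
theorem E95696 : n113761 = n105315 := ((c21_11 F324331 (iv1 F218104) (iv5 F213200) (iv6 F333512) (iv1 D115121) (iv6 F333516) (iv5 D92801) (iv1 F143150) (iv5 F161500) F161501 (iv1 F161489))).symm
theorem F333519 : act 2 n105315 = n52525 := (sb E95696 F177015)
theorem F333520 : act 4 n105315 = n61885 := (sb E95696 F324330)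
theorem F333521 : act 5 n105315 = n135625 := (sb E95696 F324331)
theorem F333522 : act 7 n105315 = n52524 := (sb E95696 (iv7 D113761))
theorem E95697 : n113758 = n106556 := (c11_2 F333522 D113758 F163808 (iv4 F333520))
theorem F333523 : act 4 n106556 = n52524 := (sb E95697 (iv4 D113758))
theorem E95698 : n106548 = n105314 := (c15_4 (iv0 D105314) D105315 F333522 (iv2 F324337))
theorem F333524 : act 2 n105314 = n52524 := (sb E95698 F324337)
theorem F333525 : act 3 n105314 = n49236 := (sb E95698 (iv3 D106548))
theorem F333526 : act 4 n105314 = n49239 := (sb E95698 F163796)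
theorem F333527 : act 5 n105314 = n63777 := (sb E95698 F163797)
theorem F333528 : act 7 n105314 = n52525 := (sb E95698 F324338)
theorem F333529 : act 5 n159374 = n132171 := d16_5 (iv4 F333523) F332813 F96439 (iv5 F114239) (iv4 F250918) (iv4 F211713) F324334 (iv7 F333528) F333524
theorem F333530 : act 5 n105483 = n115076 := d2_2 F333529 F211720 (iv2 F250917)
theorem E95699 : n131887 = n106748 := (c16_7 (iv4 F250918) F333529 (iv4 F211713) F324334 (iv4 F324333) D61886 D131887 (iv5 F179186) (iv7 D115079) (iv2 F114238))
theorem F333531 : act 3 n106748 = n106520 := (sb E95699 F211319)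
theorem F333532 : act 4 n106748 = n61886 := (sb E95699 (iv4 D131887))
theorem E95700 : n106559 = n106557 := ((c16_9 F96439 (iv5 F114239) (iv4 F250918) F333529 (iv4 F211713) F324334 (iv4 F324333) D61886 (iv7 F163813) F163815)).symm
theorem F333533 : act 2 n106557 = n61864 := (sb E95700 F163815)
theorem F333534 : act 4 n106557 = n49328 := (sb E95700 F163816)
theorem F333535 : act 6 n106557 = n49240 := (sb E95700 (iv6 D106559))
theorem F333536 : act 0 n159374 = n129427 := d21_1 (iv5 F333529) (iv5 D129427) (iv6 F327834) F82912 (iv6 F114492) (iv5 F333193) D126506 (iv5 F203411) (iv6 F161927) F211716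
theorem E95701 : n134490 = n113724 := ((c17_8 F211716 (iv5 F333529) F333536 (iv5 D129427) F327335 (iv5 D52508) D52507 D113724 F216444 F203505)).symm
theorem F333537 : act 0 n113724 = n63186 := (sb E95701 (iv1 D134490))
theorem F333538 : act 1 n113724 = n126549 := (sb E95701 F216444)
theorem F333539 : act 4 n113724 = n136330 := (sb E95701 (iv4 F219417))
theorem E95702 : n106562 = n106558 := (c12_4 F333535 (iv5 D49240) D49241 D106562 (iv6 D106558) D106557)
theorem F333540 : act 0 n106558 = n128896 := (sb E95702 (iv1 F207130))
theorem F333541 : act 1 n106558 = n128899 := (sb E95702 (iv0 F207134))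
theorem F333542 : act 2 n106558 = n61867 := (sb E95702 F163818)
theorem F333543 : act 5 n106558 = n49241 := (sb E95702 (iv5 D106562))
theorem E95703 : n131896 = n131888 := (c14_5 (iv7 F163813) F333535 F77774 D61888 D131896 (iv6 D131888))
theorem F333544 : act 4 n131888 = n106524 := (sb E95703 F211324)
theorem F333545 : act 7 n131888 = n61888 := (sb E95703 (iv7 D131896))
theorem F333546 : act 6 n105242 = n131983 := d21_5 F37992 (iv1 F37733) D49260 D106602 (iv1 F332829) (iv5 F325764) F325762 D106557 F333535 F77776
theorem F333547 : act 3 n106524 = n144921 := d5_1 F333544 (iv4 F316854) F163783 (iv4 F96472) (iv3 F211320)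
theorem F333548 : act 6 n144921 = n106520 := d7_2 F164538 F333547 (iv3 F333531)
theorem E95704 : n106745 = n106744 := ((c14_3 F316855 F333548 (iv7 F164533) (iv6 D106745) F77993 D106521)).symm
theorem E95705 : n119107 = n119106 := ((((iv2 F187376)).symm.trans (sb E95704 (iv2 F187379)))).symm
theorem F333549 : act 3 n106744 = n49328 := (sb E95704 F164535)
theorem E95706 : n119183 = n115074 := (((iv5 F187533)).symm.trans (sb E95704 (iv5 F179183)))
theorem F333550 : act 6 n106744 = n49327 := (sb E95704 (iv6 D106745))
theorem F333551 : act 6 n119106 = n54809 := (sb E95705 (iv6 D119107))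
theorem F333552 : act 0 n115074 = n133642 := (sb E95706 (iv1 F215049))
theorem F333553 : act 1 n115074 = n133675 := (sb E95706 (iv0 F215103))
theorem F333554 : act 4 n115074 = n54844 := (sb E95706 (iv4 D119183))
theorem F333555 : act 5 n115074 = n106744 := (sb E95706 F187533)
theorem F333556 : act 6 n164219 = n130859 := d21_9 (iv5 F215101) (iv1 F333553) F333555 F333550 (iv1 F77994) (iv6 F120064) (iv5 D78893) D78891 D164219 F209446
theorem F333557 : act 6 n90328 = n157403 := d21_9 F214907 F178684 (iv5 F333555) (iv6 D115074) F178138 F178136 (iv5 D92682) F68092 D90328 F247888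
theorem E95707 : n134504 = n133643 := ((c21_10 (iv5 D130702) (iv1 F179251) F327027 (iv6 D119103) (iv1 F86723) (iv6 F333550) (iv5 F333555) F333552 (iv5 D133642) D133643 (iv1 F216457))).symm
theorem F333558 : act 0 n133643 = n130702 := (sb E95707 (iv1 F216457))
theorem F333559 : act 1 n133643 = n130704 := (sb E95707 F216458)
theorem F333560 : act 2 n133643 = n135768 := (sb E95707 (iv2 F218327))
theorem F333561 : act 5 n133643 = n63192 := (sb E95707 F216456)
theorem F333562 : act 7 n133643 = n63191 := (sb E95707 (iv7 D134504))
theorem E95708 : n134503 = n133647 := (c11_2 F333562 D134503 (iv7 D133647) (iv4 F215050))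
theorem F333563 : act 2 n133647 = n135767 := (sb E95708 (iv2 F218326))
theorem F333564 : act 4 n133647 = n63191 := (sb E95708 (iv4 D134503))
theorem F333565 : act 7 n134496 = n131120 := d14_2 F333562 (iv6 F216448) (iv6 D131120) (iv7 F97855) D133643
theorem F333566 : act 5 n135767 = n158119 := d16_1 D135767 (iv4 D158119) (iv5 D75308) F326042 (iv5 F48024) (iv4 F98448) (iv5 F333561) F333562 (iv2 F99234)
theorem F333567 : act 4 n133646 = n111793 := d9_9 F333566 (iv4 D158119) (iv5 D75308) F326042 (iv5 F48024) (iv4 F98448) (iv5 F333561) F215050 D133646 (iv5 D111793) F81325 F39294 (iv4 F48407) D63833 D135767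
theorem E95709 : n118543 = n111859 := ((c16_9 F333567 (iv5 D111793) F81325 F39294 (iv4 F48407) D63833 D135767 F333566 (iv7 F327741) (iv2 F215051))).symm
theorem F333568 : act 2 n111859 = n133646 := (sb E95709 (iv2 F215051))
theorem E95710 : n151449 = n94292 := (((F327740).symm.trans (sb E95709 (iv3 F238195)))).symm
theorem F333569 : act 5 n111859 = n133640 := (sb E95709 (iv5 F215042))
theorem F333570 : act 6 n111859 = n54589 := (sb E95709 (iv6 D118543))
theorem F333571 : act 2 n94292 = n71482 := (sb E95710 F238194)
theorem F333572 : act 5 n94292 = n131294 := (sb E95710 F238196)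
theorem F333573 : act 6 n94292 = n71394 := (sb E95710 (iv6 D151449))
theorem F333574 : act 7 n135767 = n133640 := d13_2 F327741 (iv5 F333566) (iv5 F333569)
theorem F333575 : act 4 n133640 = n135768 := d11_1 F333574 (iv7 D135768) D135767
theorem F333576 : act 1 n133645 = n135767 := d15_1 D133645 F333574 F215040
theorem E95711 : n145970 = n133645 := (c18_6 (iv1 F179251) F179249 (iv1 F83845) D61329 (iv5 F328843) (iv4 F229210) F333576 (iv4 D135767) (iv0 F209265) (iv5 D130702))
theorem F333577 : act 2 n133645 = n117190 := (sb E95711 F229209)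
theorem F333578 : act 4 n133645 = n68442 := (sb E95711 F229210)
theorem F333579 : act 6 n133645 = n68441 := (sb E95711 (iv6 D145970))
theorem F333580 : act 6 n135768 = n133639 := d10_2 D133640 F333575 (iv4 D133639)
theorem F333581 : act 0 n117190 = n133640 := d18_2 D135621 F329185 F333575 F218328 F99236 F48413 D63195 F168419 D63771
theorem E95712 : n117190 = n95984 := ((c19_20 F333581 (iv5 F333569) (iv4 D111859) F327199 (iv1 F72391) (iv5 D45841) (iv4 D21924) F16655 D21167 F33410 F30741 F14517 F17519 (iv5 F293292) (iv4 F6790) F6789 D10177 D21329 D44792 D95984)).symm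
theorem F333582 : act 0 n95984 = n133640 := (sb E95712 F333581)
theorem F333583 : act 2 n95984 = n133645 := (sb E95712 (iv2 F333577))
theorem F333584 : act 4 n95984 = n135621 := (sb E95712 (iv4 F329185))
theorem F333585 : act 6 n95984 = n54013 := (sb E95712 (iv6 D117190))
theorem F333586 : act 6 n117193 = n96032 := d12_4 F333585 (iv5 D54013) D54014 D117193 F147651
theorem F333587 : act 3 n96033 = n117193 := d7_3 F333586 (iv3 D96032) D96033
theorem E95713 : n117193 = n110766 := ((c21_5 (iv5 D51060) (iv1 D24837) D24839 D51066 D110766 F333586 F147651 F333582 (iv5 F333569) F333570 (iv1 F108008))).symm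
theorem F333588 : act 3 n110766 = n96033 := (sb E95713 (iv3 F333587))
theorem F333589 : act 5 n110766 = n54014 := (sb E95713 (iv5 D117193))
theorem F333590 : act 6 n110766 = n96032 := (sb E95713 F333586)
theorem F333591 : act 5 n116416 = n96033 := d6_2 F333589 (iv3 F181614) (iv3 F333588)
theorem F333592 : act 7 n114771 = n110766 := d13_0 F333589 (iv7 F318647) D114771
theorem F333593 : act 5 n117205 = n119066 := d17_7 (iv1 D55264) (iv5 F80529) D110766 F333589 F85210 D54017 D117205 (iv0 F261876) (iv4 D120111)
theorem E95714 : n150012 = n127721 := (c12_5 (iv6 F320012) F333593 (iv6 D119066) (iv5 F107038) D150012 (iv5 D127721))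
theorem F333594 : act 2 n127721 = n131596 := (sb E95714 (iv2 F309310))
theorem F333595 : act 3 n127721 = n96741 := (sb E95714 F235990)
theorem F333596 : act 4 n127721 = n84907 := (sb E95714 F235991)
theorem F333597 : act 6 n127721 = n70571 := (sb E95714 (iv6 D150012))
theorem F333598 : act 7 n119066 = n179985 := d13_2 (iv7 F234421) F333593 F280336
theorem F333599 : act 0 n119066 = n120106 := d21_7 (iv5 D66306) (iv1 D30973) F24344 D28475 D59962 (iv6 F320012) F333593 F320020 F320294 (iv1 F173691)
theorem F333600 : act 6 n131479 = n120111 := d21_9 (iv5 F333593) (iv1 D117205) (iv5 D54017) (iv6 D26130) F50471 D31604 F50560 D61704 D131479 F261876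
theorem F333601 : act 5 n139840 = n120111 := d21_0 F261876 (iv5 F333593) F320012 (iv1 F205323) F317387 (iv5 F155487) F107164 (iv5 D70036) D70037 (iv1 F321728)
theorem F333602 : act 3 n120111 = n139862 := d6_1 F333601 F223065 (iv3 F223051)
theorem F333603 : act 7 n120111 = n139839 := d13_2 D139840 F333601 (iv5 D139839)
theorem F333604 : act 0 n131479 = n145084 := d21_4 (iv5 F183341) (iv1 F321728) F333601 (iv6 F333600) F228031 (iv5 D68450) (iv1 F104593) F104590 (iv6 F85215) (iv1 F183340)
theorem F333605 : act 5 n145084 = n175240 := d21_0 (iv1 D175240) (iv5 F312772) (iv6 D60415) D60412 (iv6 F205365) (iv5 F183341) (iv1 F321728) F333601 (iv6 F333600) F333604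
theorem F333606 : act 0 n149202 = n120111 := d21_1 D149202 (iv5 F333601) (iv6 F322660) (iv1 D70065) (iv6 D32516) (iv5 F41399) (iv1 F41400) D26132 (iv6 F85212) F106423
theorem F333607 : act 5 n141596 = n117183 := d21_8 F102342 D132513 F316351 D144963 F229146 F333600 (iv5 F333601) F319826 (iv6 F315937) F224379
theorem F333608 : act 2 n117198 = n141596 := d2_3 F333607 F187655 D117198
theorem E95715 : n141596 = n141345 := ((c12_1 D141345 F333607 (iv6 F315937) (iv5 D141348) (iv6 D66307) D66306)).symm
theorem F333609 : act 0 n141345 = n66415 := (sb E95715 (iv1 D141596))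
theorem F333610 : act 1 n141345 = n139840 := (sb E95715 (iv0 F319826))
theorem E95716 : n117198 = n105698 := (((F224376).symm.trans (sb E95715 (iv2 F333608)))).symm
theorem F333611 : act 5 n141345 = n117183 := (sb E95715 F333607)
theorem F333612 : act 5 n105698 = n54015 := (sb E95716 (iv5 D117198))
theorem F333613 : act 7 n105698 = n70037 := (sb E95716 F187654)
theorem F333614 : act 7 n117203 = n141345 := d4_2 F333613 F187651 F224376
theorem F333615 : act 0 n114570 = n139839 := d21_1 (iv5 F311523) (iv5 D139839) (iv6 D65642) F162318 D105698 F333612 (iv1 F183347) (iv5 F310976) F310977 (iv1 F234582)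
theorem E95717 : n139838 = n105698 := ((c21_1 (iv5 F333612) (iv1 D139838) D139839 F223050 (iv1 F321608) (iv6 D53974) F50429 (iv1 D12391) D12393 D26130 D54015)).symm
theorem F333616 : act 0 n105698 = n65642 := (sb E95717 (iv1 D139838))
theorem F333617 : act 1 n105698 = n68594 := (sb E95717 F323397)
theorem F333618 : act 0 n131593 = n127721 := d21_7 (iv5 D54017) D54015 (iv5 F333612) (iv6 D105698) (iv1 F162317) (iv6 F318756) (iv5 F210841) (iv5 D127721) (iv6 F320012) (iv1 D117205)
theorem F333619 : act 6 n146018 = n116206 := d21_3 (iv5 F315159) F317366 F317359 F181097 F317977 (iv5 F333612) F333616 D139839 F223050 (iv1 F321608)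
theorem F333620 : act 0 n146018 = n114678 := d21_4 D68003 F317330 (iv5 F181095) (iv6 F333619) (iv6 D114678) (iv5 F106894) (iv1 F106896) (iv5 D52908) D52909 (iv1 F311533)
theorem F333621 : act 0 n128456 = n116206 := d21_4 F155349 F155395 (iv5 F184773) D128456 (iv6 F333619) (iv5 F317359) F317358 (iv5 F317347) F162542 (iv1 F162540)
theorem F333622 : act 5 n114678 = n139818 := d21_0 (iv1 F223019) (iv5 F317365) D144984 F264364 (iv6 D68004) D68003 F317330 (iv5 F181095) (iv6 F333619) F333620
theorem F333623 : act 6 n139818 = n118287 := d12_2 D114678 F333622 (iv5 F310055) (iv6 D149841) F106894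
theorem F333624 : act 0 n114678 = n125202 := d21_1 (iv5 F333622) F319598 F100901 (iv1 F321537) F317349 D66301 F173671 (iv5 D65633) D65634 D139818
theorem F333625 : act 7 n114678 = n145911 := d15_2 (iv0 F205368) (iv0 F333624) F264323
theorem E95718 : n146019 = n119045 := (c4_3 F333625 F264323 D146019 F187300)
theorem F333626 : act 0 n119045 = n114791 := (sb E95718 (iv1 F315694))
theorem F333627 : act 5 n119045 = n155905 := (sb E95718 F244898)
theorem F333628 : act 7 n119045 = n68455 := (sb E95718 (iv7 D146019))
theorem F333629 : act 7 n146014 = n170267 := d8_2 F333628 (iv3 F229236) F267779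
theorem F333630 : act 2 n155905 = n139818 := d2_1 F333627 (iv5 F333622) (iv2 F187300)
theorem F333631 : act 0 n156663 = n119045 := d21_1 D156663 F333627 (iv6 D155905) (iv1 D74145) (iv6 D34012) (iv5 D16452) (iv1 F26940) D26340 D54466 F317357
theorem E95719 : n155905 = n65643 := ((c21_11 (iv5 F333627) F333626 (iv5 F315152) (iv6 F317372) (iv1 F319706) (iv6 D48870) D48869 F162319 (iv5 D30751) D30752 D65643)).symm
theorem E95720 : n139841 = n139818 := ((D139841).symm.trans (sb E95719 F333630))
theorem E95721 : n139844 = n119045 := ((D139844).symm.trans (sb E95719 (iv5 F333627)))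
theorem E95722 : n139845 = n74145 := ((D139845).symm.trans (sb E95719 (iv6 D155905)))
theorem E95723 : n139846 = n139819 := ((D139846).symm.trans (sb E95719 (iv7 F318733)))
theorem F333632 : act 2 n139818 = n65643 := (sb E95720 (iv2 D139841))
theorem F333633 : act 7 n139818 = n65644 := (sb E95720 (iv7 F223052))
theorem F333634 : act 5 n119045 = n65643 := (sb E95721 (iv5 D139844))
theorem F333635 : act 6 n74145 = n65643 := (sb E95722 (iv6 D139845))
theorem F333636 : act 2 n139819 = n65644 := (sb E95723 F223053)
theorem F333637 : act 7 n139819 = n65643 := (sb E95723 (iv7 D139846))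
theorem E95724 : n145911 = n139849 := ((c2_3 (iv5 F318731) F333636 D139849 F264323)).symm
theorem F333638 : act 1 n139849 = n114791 := (sb E95724 (iv0 F315693))
theorem F333639 : act 2 n139849 = n68455 := (sb E95724 F264323)
theorem F333640 : act 6 n139849 = n68416 := (sb E95724 (iv6 D145911))
theorem F333641 : act 7 n139849 = n114678 := (sb E95724 (iv7 F333625))
theorem E95725 : n139850 = n132514 := (c3_3 (iv6 F318732) F333636 D139850 F316354)
theorem F333642 : act 6 n132514 = n65644 := (sb E95725 (iv6 D139850))
theorem F333643 : act 1 n156663 = n139849 := d15_1 (iv0 F333631) F333641 (iv2 F187300)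
theorem E95726 : n156663 = n114796 := ((c15_4 F333643 F333638 F315698 F313875)).symm
theorem F333644 : act 0 n114796 = n119045 := (sb E95726 F333631)
theorem F333645 : act 1 n114796 = n139849 := (sb E95726 F333643)
theorem F333646 : act 3 n114796 = n74494 := (sb E95726 F246392)
theorem F333647 : act 5 n114796 = n74493 := (sb E95726 (iv5 D156663))
theorem F333648 : act 7 n114796 = n125202 := (sb E95726 (iv7 F319599))
theorem F333649 : act 4 n125202 = n114539 := d11_1 F333648 F206224 D114796
theorem F333650 : act 6 n179993 = n114796 := d14_5 F333648 (iv6 D125202) F92505 D86016 D179993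
theorem F333651 : act 2 n116206 = n179993 := d3_3 F333650 (iv2 F313875) F333619
theorem F333652 : act 4 n114798 = n179993 := d10_3 F333650 (iv4 D114796) D114798
theorem F333653 : act 5 n139821 = n105853 := d21_2 F333634 (iv1 F223021) F325097 (iv1 F264353) (iv6 D144963) (iv5 F316351) (iv1 F317333) (iv5 F280367) F333650 F333644
theorem F333654 : act 5 n144963 = n175239 := d21_0 (iv1 F274275) (iv5 F317472) F309314 (iv1 F86670) D119045 F333634 (iv1 F223021) F333653 F325097 (iv1 F264353)
theorem F333655 : act 2 n175239 = n145083 := d2_1 F333654 (iv5 D145083) (iv2 F264354)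
theorem F333656 : act 4 n90135 = n144963 := d17_4 D145942 F317458 (iv1 D90133) D90135 F333654 (iv0 D175239) (iv5 F312772) F184741 (iv4 F104627)
theorem E95727 : n152704 = n131478 := (c17_4 (iv1 F128706) (iv5 F274113) (iv1 F274115) (iv5 F307424) (iv4 D131478) D131479 (iv0 F229146) F333654 (iv0 D175239) (iv4 D83688))
theorem F333657 : act 3 n131478 = n72046 := (sb E95727 F239911)
theorem F333658 : act 5 n131478 = n83697 := (sb E95727 F307424)
theorem F333659 : act 6 n131478 = n72044 := (sb E95727 (iv6 D152704))
theorem F333660 : act 6 n175239 = n149859 := d21_3 D131484 (iv1 F264353) F333654 (iv1 D149859) F309395 (iv5 D69839) F155097 (iv5 F96310) (iv6 F210653) (iv1 F210655)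
theorem F333661 : act 5 n118286 = n149859 := d12_5 (iv6 F333660) (iv5 F333654) (iv6 D144963) (iv5 F316351) F316352
theorem E95728 : n149859 = n141371 := ((c21_5 F320015 (iv1 D59963) D59964 (iv6 F102224) D141371 (iv6 F333660) (iv5 F333654) F229146 (iv5 D131479) D131480 F210844)).symm
theorem F333662 : act 0 n141371 = n70444 := (sb E95728 (iv1 D149859))
theorem F333663 : act 5 n141371 = n118286 := (sb E95728 (iv5 F333661))
theorem F333664 : act 6 n141371 = n175239 := (sb E95728 (iv6 F333660))
theorem F333665 : act 2 n155900 = n141371 := d3_3 F333664 F333655 (iv6 F244891)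
theorem E95729 : n175069 = n131606 := (c21_9 (iv5 F86019) D118286 (iv5 F333663) F333664 (iv1 F274275) (iv6 F317473) F313478 F267789 F333440 (iv6 D131606) (iv1 D61749))
theorem F333666 : act 0 n131606 = n83605 := (sb E95729 (iv1 D175069))
theorem F333667 : act 1 n131606 = n107998 := (sb E95729 (iv0 F309210))
theorem F333668 : act 4 n131606 = n119375 := (sb E95729 (iv4 F274042))
theorem F333669 : act 5 n131606 = n170274 := (sb E95729 (iv5 F333440))
theorem F333670 : act 3 n157439 = n131606 := d6_3 F333669 (iv3 D170274) (iv5 F316292)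
theorem E95730 : n126352 = n119374 := ((c17_5 (iv1 F184656) (iv5 F166863) (iv1 F333667) F333669 F267788 (iv5 D126352) (iv0 F170610) F332176 F187595 (iv4 F315980))).symm
theorem E95731 : n125964 = n84908 := (((F317453).symm.trans (sb E95730 F203175))).symm
theorem E95732 : n147178 = n62432 := ((((iv3 F315217)).symm.trans (sb E95730 (iv3 F230760)))).symm
theorem F333671 : act 5 n119374 = n59252 := (sb E95730 (iv5 D126352))
theorem F333672 : act 6 n119374 = n147170 := (sb E95730 (iv6 F230752))
theorem E95733 : n126004 = n84909 := (((F317454).symm.trans (sb E95730 F203176))).symm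
theorem E95734 : n178438 = n58979 := ((D178438).symm.trans (sb E95731 (iv5 D125964)))
theorem E95735 : n178440 = n113196 := ((D178440).symm.trans (sb E95731 F202640))
theorem E95736 : n133053 = n69000 := ((D133053).symm.trans (sb E95732 (iv5 D147178)))
theorem E95737 : n133054 = n69003 := ((D133054).symm.trans (sb E95732 F230761))
theorem E95738 : n178443 = n59016 := ((D178443).symm.trans (sb E95733 (iv5 D126004)))
theorem E95739 : n178444 = n115695 := ((D178444).symm.trans (sb E95733 F202699))
theorem F333673 : act 5 n58979 = n84908 := (sb E95734 (iv5 D178438))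
theorem F333674 : act 2 n113196 = n84909 := (sb E95735 F278044)
theorem F333675 : act 7 n113196 = n84908 := (sb E95735 (iv7 D178440))
theorem E95740 : n147074 = n131671 := (((iv2 F230555)).symm.trans (sb E95736 F217733))
theorem F333676 : act 5 n69000 = n62432 := (sb E95736 (iv5 D133053))
theorem E95741 : n131690 = n126003 := ((((iv7 F202697)).symm.trans (sb E95736 (iv7 F217735)))).symm
theorem E95742 : n147077 = n131672 := (((iv2 F230557)).symm.trans (sb E95737 F217712))
theorem E95743 : n147191 = n62434 := ((D147191).symm.trans (sb E95737 F213713))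
theorem F333677 : act 6 n69003 = n62432 := (sb E95737 (iv6 D133054))
theorem F333678 : act 5 n59016 = n84909 := (sb E95738 (iv5 D178443))
theorem F333679 : act 6 n115695 = n84909 := (sb E95739 (iv6 D178444))
theorem F333680 : act 2 n131671 = n69000 := (sb E95740 F230555)
theorem F333681 : act 6 n131671 = n68962 := (sb E95740 (iv6 D147074))
theorem F333682 : act 2 n126003 = n133041 := (sb E95741 (iv2 F217736))
theorem F333683 : act 5 n126003 = n61790 := (sb E95741 (iv5 D131690))
theorem F333684 : act 2 n131672 = n69003 := (sb E95742 F230557)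
theorem F333685 : act 5 n131672 = n68963 := (sb E95742 (iv5 D147077))
theorem F333686 : act 4 n62434 = n69003 := (sb E95743 (iv4 D147191))
theorem E95744 : n119375 = n113196 := ((c17_4 F309035 F324937 (iv1 F161318) D113196 (iv4 F333668) F333669 (iv0 F267789) (iv5 F313478) F210505 (iv4 F210600))).symm
theorem F333687 : act 0 n113196 = n54937 := (sb E95744 (iv1 D119375))
theorem F333688 : act 1 n113196 = n84911 := (sb E95744 F188041)
theorem F333689 : act 4 n113196 = n131606 := (sb E95744 (iv4 F333668))
theorem F333690 : act 5 n153275 = n153274 := d18_9 (iv1 F312413) (iv4 F130124) (iv1 F333688) F333689 F333669 F267788 (iv0 D119374) F310537 D153275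
theorem F333691 : act 6 n170274 = n144475 := d21_3 (iv5 F166863) (iv1 F333667) F333669 (iv1 D144475) (iv6 F318066) F318065 (iv1 F318754) (iv5 F318854) F318855 (iv1 F184656)
theorem F333692 : act 5 n155941 = n144475 := d12_5 (iv6 F333691) (iv5 F333669) (iv6 D131606) D131605 (iv6 F244942)
theorem E95745 : n175240 = n175178 := (c21_5 (iv5 F333669) F333666 (iv5 F313478) F317473 (iv1 F274271) (iv6 D175178) F128729 F86677 F83623 D83605 F267789)
theorem F333693 : act 0 n175178 = n83688 := (sb E95745 (iv1 D175240))
theorem F333694 : act 1 n175178 = n83693 := (sb E95745 F274271)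
theorem F333695 : act 5 n175178 = n145084 := (sb E95745 (iv5 F333605))
theorem F333696 : act 0 n131485 = n144475 := d21_4 F333695 F228032 (iv5 D131484) D131485 (iv6 F333691) (iv5 F333669) F333666 (iv5 F313478) F317473 (iv1 F333694)
theorem F333697 : act 4 n144475 = n167352 := d20_0 (iv1 D167352) F303003 (iv3 D159114) (iv1 F299137) F318422 (iv4 F317138) F320871 (iv4 F321977) (iv3 F320625) F333696
theorem E95746 : n131605 = n108285 := (c21_4 F317338 F333696 (iv5 F333692) F244942 (iv1 D108285) (iv6 D50005) F38222 (iv1 F310484) F155150 (iv6 F315134) (iv1 F227297))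
theorem F333698 : act 5 n108285 = n61749 := (sb E95746 (iv5 D131605))
theorem F333699 : act 6 n108285 = n155941 := (sb E95746 (iv6 F244942))
theorem F333700 : act 7 n131485 = n144465 := d15_2 D144475 (iv0 F333696) F227291
theorem F333701 : act 2 n144477 = n131485 := d4_3 F333700 F227291 D144477
theorem F333702 : act 6 n144465 = n131593 := d14_1 F333700 F321620 (iv6 D133842) F323855 D131485
theorem E95747 : n150485 = n131593 := ((c3_1 F333702 (iv2 D150485) F318066 (iv2 F227291))).symm
theorem F333703 : act 2 n131593 = n70916 := (sb E95747 (iv2 D150485))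
theorem F333704 : act 0 n144465 = n131601 := d21_10 F228113 (iv1 D145128) F104153 (iv6 D31706) (iv1 F50564) D61648 F96213 D70064 (iv5 F210841) (iv6 F333702)
theorem E95748 : n131600 = n108284 := (c21_7 F96213 D70064 (iv5 F210841) (iv6 F333702) F333704 (iv6 D131601) D131600 (iv1 F167426) (iv5 F318003) F318004 F318798)
theorem F333705 : act 5 n108284 = n61748 := (sb E95748 (iv5 D131600))
theorem F333706 : act 6 n108284 = n145668 := (sb E95748 (iv6 F318638))
theorem F333707 : act 1 n144477 = n131601 := d15_0 (iv0 F333704) (iv7 F333700) (iv2 F333701)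
theorem F333708 : act 6 n144477 = n108404 := d21_5 (iv5 D108286) D108284 F333705 D131601 (iv1 F333707) F278611 F264364 D145083 (iv6 F244891) (iv1 F314104)
theorem F333709 : act 0 n118128 = n155900 := d21_1 (iv5 F318003) (iv5 D155900) F110865 F317330 (iv6 D68283) D68282 D145667 (iv5 F318637) (iv6 F333706) (iv1 F167426)
theorem F333710 : act 4 n155900 = n161652 := d20_8 F74545 D47324 F308329 F128586 F190064 D73641 (iv4 F185603) F333709 F255671 (iv1 F271113)
theorem E95749 : n161652 = n161383 := (c20_1 F333710 (iv1 F255193) (iv4 F316601) F316600 F267395 (iv3 D55141) (iv4 D26646) D26644 (iv4 F85906) D118128 F333709)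
theorem F333711 : act 3 n161383 = n82753 := (sb E95749 F255671)
theorem F333712 : act 4 n161383 = n155900 := (sb E95749 (iv4 F333710))
theorem F333713 : act 6 n161383 = n77640 := (sb E95749 (iv6 D161652))
theorem E95750 : n161650 = n145083 := (c10_2 F333713 D161650 (iv6 F244891) (iv4 F333712))
theorem F333714 : act 4 n145083 = n77640 := (sb E95750 (iv4 D161650))
theorem E95751 : n161686 = n161383 := (c14_1 D161686 F333713 (iv7 F268275) F319556 (iv7 F86752) D77663)
theorem F333715 : act 2 n161383 = n77745 := (sb E95751 F316559)
theorem F333716 : act 7 n161383 = n77663 := (sb E95751 (iv7 D161686))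
theorem E95752 : n161880 = n121480 := (c3_3 (iv6 F333713) F333715 D161880 F303158)
theorem F333717 : act 6 n121480 = n77745 := (sb E95752 (iv6 D161880))
theorem E95753 : n161923 = n161879 := ((c21_7 F59162 D45874 F72441 D77635 (iv1 F303157) F333717 D161879 (iv1 D161923) F300211 (iv6 D56430) F59164)).symm
theorem F333718 : act 0 n161879 = n77764 := (sb E95753 (iv1 D161923))
theorem E95754 : n161384 = n119129 := ((c15_4 F255198 F255193 F333716 (iv2 F187453))).symm
theorem F333719 : act 0 n119129 = n77472 := (sb E95754 (iv1 D161384))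
theorem F333720 : act 1 n119129 = n77746 := (sb E95754 F255198)
theorem E95755 : n174102 = n96181 := ((c20_4 F316601 (iv1 F333720) (iv4 F312335) F312334 (iv1 F272910) (iv3 F323435) F323436 F305005 (iv4 F306939) (iv3 F276626) (iv1 F316598))).symm
theorem F333721 : act 0 n96181 = n84429 := (sb E95755 (iv1 F272910))
theorem F333722 : act 1 n96181 = n83229 := (sb E95755 (iv0 D174102))
theorem F333723 : act 0 n155904 = n118128 := d20_1 (iv4 F312335) F185603 (iv3 D73641) D73639 D155147 (iv4 F255812) (iv1 F309798) F309800 F255218 (iv1 F333720)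
theorem F333724 : act 1 n174470 = n117089 := d17_6 F333723 F318003 (iv1 F167427) F333698 F317489 D174470 F324092 (iv0 F333719) (iv4 F312335)
theorem E95756 : n174823 = n131554 := (c20_2 F309664 D174823 F307275 (iv3 F312334) F333723 (iv3 D118128) F85906 (iv1 F42708) (iv4 F53229) (iv3 F110435) F311857)
theorem F333725 : act 1 n131554 = n83516 := (sb E95756 (iv0 D174823))
theorem F333726 : act 5 n127714 = n131596 := d21_8 (iv5 F83623) (iv1 F86670) (iv5 F128721) (iv6 F312336) F333723 F318004 (iv5 D127716) D127714 F309312 (iv1 F107429)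
theorem F333727 : act 7 n155904 = n141371 := d15_2 (iv0 F333709) (iv0 F333723) (iv2 F333665)
theorem E95757 : n161878 = n141371 := ((c11_1 F333727 (iv4 D161878) (iv7 F316558) (iv4 F312335))).symm
theorem F333728 : act 3 n141371 = n84427 := (sb E95757 (iv3 F255861))
theorem F333729 : act 4 n141371 = n77745 := (sb E95757 (iv4 D161878))
theorem F333730 : act 7 n175239 = n149842 := d14_2 F333727 F333664 (iv6 D149842) (iv7 F128725) (iv6 F312336)
theorem E95758 : n177191 = n96181 := ((c8_2 (iv7 F333727) F312334 (iv7 D177191) (iv3 F333728))).symm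
theorem E95759 : n84428 = n84378 := (((F147884).symm.trans (sb E95758 F276582))).symm
theorem F333731 : act 7 n96181 = n84427 := (sb E95758 (iv7 D177191))
theorem E95760 : n177032 = n38929 := ((D177032).symm.trans (sb E95759 (iv1 D84428)))
theorem E95761 : n177033 = n174099 := ((D177033).symm.trans (sb E95759 F272906))
theorem E95762 : n177192 = n177030 := ((((iv3 F276447)).symm.trans (sb E95759 D177192))).symm
theorem E95763 : n177193 = n82974 := (((F129502).symm.trans (sb E95759 D177193))).symm
theorem E95766 : n177187 = n174103 := ((((iv7 F324291)).symm.trans (sb E95759 F276581))).symm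
theorem F333732 : act 1 n38929 = n84378 := (sb E95760 (iv0 D177032))
theorem F333733 : act 0 n174099 = n84378 := (sb E95761 (iv1 D177033))
theorem F333734 : act 0 n177030 = n123541 := (sb E95762 F276584)
theorem E95767 : n154117 = n153930 := (((F276448).symm.trans (sb E95762 (iv4 F276583)))).symm
theorem E95768 : n173386 = n155232 := ((D173386).symm.trans (sb E95763 (iv0 F276586)))
theorem E95769 : n173243 = n38192 := (((F127897).symm.trans (sb E95763 F276585))).symm
theorem F333735 : act 2 n174103 = n84427 := (sb E95766 (iv2 D177187))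
theorem F333736 : act 1 n153930 = n72976 := (sb E95767 (iv0 D154117))
theorem F333737 : act 0 n155232 = n82974 := (sb E95768 (iv1 D173386))
theorem E95770 : n83255 = n82978 := (((D82978).symm.trans (sb E95769 (iv1 F271581)))).symm
theorem E95771 : n82979 = n82905 := ((D82979).symm.trans (sb E95769 (iv0 D173243)))
theorem E95772 : n173244 = n172017 := ((((iv1 F270076)).symm.trans (sb E95770 (iv1 F271582)))).symm
theorem E95773 : n173398 = n38332 := ((D173398).symm.trans (sb E95770 (iv2 D83255)))
theorem E95774 : n173399 = n38553 := ((D173399).symm.trans (sb E95770 F189971))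
theorem E95775 : n173400 = n123302 := ((D173400).symm.trans (sb E95770 (iv4 F197589)))
theorem E95776 : n173401 = n126335 := ((D173401).symm.trans (sb E95770 (iv5 F326683)))
theorem E95777 : n174172 = n173402 := (((D173402).symm.trans (sb E95770 D174172))).symm
theorem E95778 : n173403 = n119397 := ((D173403).symm.trans (sb E95770 (iv7 F188117)))
theorem F333738 : act 0 n82905 = n38192 := (sb E95771 (iv1 D82979))
theorem F333739 : act 0 n172017 = n82905 := (sb E95772 (iv1 D173244))
theorem F333740 : act 2 n38332 = n82978 := (sb E95773 (iv2 D173398))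
theorem F333741 : act 3 n38553 = n82978 := (sb E95774 (iv3 D173399))
theorem F333742 : act 4 n123302 = n82978 := (sb E95775 (iv4 D173400))
theorem F333743 : act 5 n126335 = n82978 := (sb E95776 (iv5 D173401))
theorem F333744 : act 0 n173402 = n172575 := (sb E95777 (iv1 F272968))
theorem F333745 : act 1 n173402 = n172574 := (sb E95777 F272967)
theorem F333746 : act 2 n173402 = n83257 := (sb E95777 F272964)
theorem F333747 : act 3 n173402 = n83614 := (sb E95777 F272965)
theorem F333748 : act 7 n173402 = n172576 := (sb E95777 (iv7 F272966))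
theorem F333749 : act 7 n119397 = n82978 := (sb E95778 (iv7 D173403))
theorem F333750 : act 4 n172017 = n98516 := d20_8 F311766 (iv1 F311765) (iv4 F308329) F308328 D57646 (iv3 F197588) F333742 (iv1 F270076) F151914 (iv1 F275137)
theorem E95783 : n173391 = n123237 := ((c20_10 F127898 D82978 (iv4 F333742) F197588 (iv1 F90797) (iv3 F109602) (iv4 F235756) F314059 (iv4 F314060) D123237 (iv1 D173391))).symm
theorem F333751 : act 0 n123237 = n82976 := (sb E95783 (iv1 D173391))
theorem E95784 : n173385 = n155227 := (c20_11 (iv4 D155227) D155224 F244130 F313448 (iv1 F115706) D157527 F315010 F333751 F127898 (iv3 F127897) D173385)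
theorem F333752 : act 1 n155227 = n82974 := (sb E95784 (iv0 D173385))
theorem F333753 : act 2 n116719 = n155227 := d15_3 F333752 (iv0 F333737) F314271
theorem F333754 : act 3 n119440 = n116719 := d0_0 F333753 F244135 (iv2 F273660) D83511 (iv2 F273676)
theorem F333755 : act 6 n155227 = n148275 := d3_2 (iv6 F182100) F333753 F232094
theorem F333756 : act 1 n116719 = n131554 := d15_0 F333725 (iv7 F273659) (iv2 F333753)
theorem F333757 : act 3 n148275 = n174766 := d7_1 F333755 (iv6 D174766) (iv3 F244135)
theorem F333758 : act 2 n174808 = n148333 := d0_3 F333757 F273665 (iv3 F273652) (iv3 D148333) (iv2 F232094)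
theorem F333759 : act 5 n144362 = n148275 := d6_0 F333757 F325397 F328001
theorem E95785 : n174766 = n173642 := (c20_4 F208230 (iv1 F317237) D148275 F333757 (iv1 D173642) F127985 F300840 F298295 (iv4 F119016) D84166 (iv1 F312114))
theorem F333760 : act 2 n173642 = n83514 := (sb E95785 F273665)
theorem F333761 : act 3 n173642 = n148275 := (sb E95785 (iv3 F333757))
theorem F333762 : act 5 n173642 = n86086 := (sb E95785 F325397)
theorem F333763 : act 6 n173642 = n83496 := (sb E95785 (iv6 D174766))
theorem E95786 : n173642 = n130155 := ((c20_5 (iv4 D54276) (iv1 F313949) (iv4 F46590) (iv3 F95616) D130155 F333761 (iv4 D148275) (iv1 F326956) (iv4 D110657) F326089 (iv1 F85631))).symm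
theorem F333764 : act 0 n130155 = n83046 := (sb E95786 (iv1 D173642))
theorem F333765 : act 2 n130155 = n83514 := (sb E95786 F333760)
theorem F333766 : act 3 n130155 = n148275 := (sb E95786 F333761)
theorem F333767 : act 5 n130155 = n86086 := (sb E95786 F333762)
theorem F333768 : act 6 n130155 = n83496 := (sb E95786 F333763)
theorem E95787 : n159241 = n157834 := ((c21_8 (iv5 F321379) (iv1 D28948) D28951 D61102 D130155 F333768 (iv5 F329144) D157834 F320272 (iv6 F314209) F319779)).symm
theorem F333769 : act 0 n157834 = n160513 := (sb E95787 (iv1 F253569))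
theorem E95788 : n160512 = n75192 := ((((iv0 D157834)).symm.trans (sb E95787 F253565))).symm
theorem F333770 : act 2 n157834 = n76183 := (sb E95787 (iv2 D159241))
theorem F333771 : act 3 n157834 = n77148 := (sb E95787 F320271)
theorem F333772 : act 5 n157834 = n77147 := (sb E95787 F320272)
theorem F333773 : act 7 n157834 = n160514 := (sb E95787 (iv7 F253567))
theorem E95789 : n157835 = n76962 := ((D157835).symm.trans (sb E95788 (iv0 D160512)))
theorem F333774 : act 0 n76962 = n75192 := (sb E95789 (iv1 D157835))
theorem E95790 : n180591 = n55875 := (c20_7 (iv4 D34784) (iv1 F28004) D35161 D76962 F333774 (iv3 F248706) (iv4 F281100) (iv1 D55875) (iv4 F88203) (iv3 D55773) (iv1 F299690))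
theorem E95791 : n121092 = n120987 := (((iv2 F193125)).symm.trans (sb E95790 F281099))
theorem E95792 : n157822 = n121094 := (((D121094).symm.trans (sb E95790 F281100))).symm
theorem E95793 : n121096 = n86261 := ((D121096).symm.trans (sb E95790 (iv6 D180591)))
theorem F333775 : act 2 n120987 = n55875 := (sb E95791 F193125)
theorem F333776 : act 7 n120987 = n55874 := (sb E95791 (iv7 D121092))
theorem F333777 : act 3 n121094 = n75192 := (sb E95792 F248706)
theorem F333778 : act 6 n121094 = n75189 := (sb E95792 (iv6 D157822))
theorem F333779 : act 6 n86261 = n55875 := (sb E95793 (iv6 D121096))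
theorem E95794 : n174769 = n160513 := ((c15_2 (iv0 F333774) D160513 (iv7 F273685) F329454)).symm
theorem F333780 : act 2 n160513 = n83518 := (sb E95794 F273686)
theorem F333781 : act 5 n160513 = n83497 := (sb E95794 (iv5 D174769))
theorem F333782 : act 7 n160513 = n83513 := (sb E95794 (iv7 F273685))
theorem E95795 : n160513 = n98248 := ((c14_6 F333782 (iv6 F329652) (iv7 F256549) D75197 (iv7 F329447) D98248)).symm
theorem F333783 : act 0 n98248 = n76962 := (sb E95795 (iv1 D160513))
theorem F333784 : act 1 n98248 = n157834 := (sb E95795 (iv0 F333769))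
theorem E95796 : n158428 = n83518 := (((iv2 F249622)).symm.trans (sb E95795 F333780))
theorem F333785 : act 5 n98248 = n83497 := (sb E95795 F333781)
theorem F333786 : act 7 n98248 = n83513 := (sb E95795 F333782)
theorem F333787 : act 2 n83518 = n98248 := (sb E95796 F249622)
theorem E95797 : n174831 = n75573 := ((D174831).symm.trans (sb E95796 (iv6 D158428)))
theorem F333788 : act 6 n75573 = n83518 := (sb E95797 (iv6 D174831))
theorem F333789 : act 6 n174825 = n158427 := d7_2 F333788 (iv3 F273700) (iv3 D158427)
theorem F333790 : act 6 n174830 = n158339 := d10_2 F333788 D174830 F249470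
theorem E95798 : n174834 = n77024 := (c12_4 F333788 (iv5 D83518) D83519 D174834 F299615 (iv5 F113427))
theorem E95799 : n158676 = n83519 := (((iv5 F302564)).symm.trans (sb E95798 (iv5 D174834)))
theorem E95800 : n174832 = n75687 := ((D174832).symm.trans (sb E95799 (iv1 D158676)))
theorem E95801 : n174833 = n75691 := ((D174833).symm.trans (sb E95799 F249837))
theorem E95802 : n174770 = n83117 := ((F273688).symm.trans (sb E95799 F302563))
theorem F333791 : act 5 n83519 = n77024 := (sb E95799 F302564)
theorem E95803 : n174835 = n83126 := ((D174835).symm.trans (sb E95799 F302565))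
theorem F333792 : act 1 n75687 = n83519 := (sb E95800 (iv0 D174832))
theorem F333793 : act 0 n75691 = n83519 := (sb E95801 (iv1 D174833))
theorem F333794 : act 2 n83117 = n83519 := (sb E95802 (iv2 F273688))
theorem E95804 : n173823 = n83497 := ((D173823).symm.trans (sb E95802 (iv6 D174770)))
theorem F333795 : act 7 n83126 = n83519 := (sb E95803 (iv7 D174835))
theorem F333796 : act 6 n83497 = n83117 := (sb E95804 (iv6 D173823))
theorem F333797 : act 5 n160684 = n174840 := d21_8 F315960 (iv1 F128604) D83518 (iv6 F333788) (iv1 F113425) D98256 F300664 D160684 (iv6 D174840) F318159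
theorem E95805 : n162800 = n158348 := ((c21_4 F72511 F118889 D75520 D158348 (iv1 D162800) F119457 F315960 (iv1 F128604) D83518 (iv6 F333788) (iv1 F113425))).symm
theorem F333798 : act 0 n158348 = n78261 := (sb E95805 (iv1 D162800))
theorem F333799 : act 1 n158348 = n177509 := (sb E95805 F276964)
theorem E95806 : n170687 = n162799 := ((c15_2 F333799 F276962 (iv7 D170687) (iv2 F249489))).symm
theorem F333800 : act 7 n162799 = n81821 := (sb E95806 (iv7 D170687))
theorem F333801 : act 5 n175717 = n177509 := d21_6 (iv5 D38699) (iv1 D18405) D18406 (iv6 F59447) D83884 D175717 (iv1 F333799) (iv5 F275372) (iv6 D176119) (iv1 F128974)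
theorem E95807 : n163007 = n101671 := (c2_3 F333801 (iv2 D177509) (iv5 F257363) F286996)
theorem F333802 : act 3 n101671 = n78385 := (sb E95807 (iv3 D163007))
theorem E95808 : n170685 = n84564 := ((F268193).symm.trans (sb E95807 F257363))
theorem F333803 : act 7 n101671 = n162803 := (sb E95807 F257364)
theorem E95809 : n177507 = n81821 := ((D177507).symm.trans (sb E95808 (iv1 D170685)))
theorem F333804 : act 5 n84564 = n101671 := (sb E95808 (iv5 F268193))
theorem E95810 : n170684 = n162801 := ((D170684).symm.trans (sb E95809 (iv1 F276958)))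
theorem F333805 : act 1 n81821 = n84564 := (sb E95809 (iv0 D177507))
theorem F333806 : act 1 n162801 = n81821 := (sb E95810 (iv0 D170684))
theorem E95811 : n177618 = n175717 := (c21_2 D84597 D177618 F333801 F276960 F322736 (iv6 F330868) F201640 (iv1 D39886) F30114 (iv6 F29792) D39071)
theorem F333807 : act 0 n175717 = n84602 := (sb E95811 (iv1 F277087))
theorem F333808 : act 1 n175717 = n84597 := (sb E95811 (iv0 D177618))
theorem E95812 : n178173 = n84598 := (c21_5 (iv5 D83767) (iv1 F113417) (iv5 F249615) F322597 D178173 (iv6 D84598) D84597 (iv1 F333808) F333801 F276960 F322736)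
theorem E95813 : n177623 = n98256 := ((D177623).symm.trans (sb E95812 (iv1 F321803)))
theorem E95814 : n177624 = n84810 := ((D177624).symm.trans (sb E95812 (iv0 D178173)))
theorem F333809 : act 1 n98256 = n84598 := (sb E95813 (iv0 D177623))
theorem F333810 : act 0 n84810 = n84598 := (sb E95814 (iv1 D177624))
theorem E95815 : n180232 = n177610 := ((c20_6 (iv4 D18603) D18601 D39215 D84810 F333810 (iv3 F277076) (iv4 D180232) (iv1 D86101) F304549 (iv3 D79779) F57074)).symm
theorem F333811 : act 4 n177610 = n86101 := (sb E95815 (iv4 D180232))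
theorem F333812 : act 7 n178174 = n177604 := d15_2 (iv0 F333810) D178174 F277072
theorem F333813 : act 2 n177626 = n178174 := d4_3 F333812 F277072 D177626
theorem F333814 : act 6 n177642 = n178174 := d14_5 F333812 (iv6 D177604) (iv7 F129772) D84603 D177642
theorem E95816 : n177642 = n132887 := (c21_6 (iv5 D56791) (iv1 F118890) (iv5 F72511) D98256 F321802 (iv6 F333814) (iv5 D132887) (iv1 D62359) D62360 F322051 (iv1 F322043))
theorem F333815 : act 6 n132887 = n178174 := (sb E95816 F333814)
theorem F333816 : act 7 n132887 = n84603 := (sb E95816 (iv7 D177642))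
theorem E95817 : n177641 = n132879 := (c13_2 F333816 D177641 (iv7 F213457) D132887)
theorem F333817 : act 5 n132879 = n84603 := (sb E95817 (iv5 D177641))
theorem E95818 : n177627 = n132882 := (c2_2 F333817 (iv2 F277090) (iv5 D132882) D132879)
theorem F333818 : act 2 n132882 = n84603 := (sb E95818 F277090)
theorem F333819 : act 6 n132882 = n84599 := (sb E95818 (iv6 D177627))
theorem E95819 : n132879 = n132856 := ((c21_2 (iv5 D132858) D132856 F333817 (iv6 D84603) (iv1 D39072) F29792 (iv5 F30114) D39885 (iv5 F194349) F330790 (iv1 F323702))).symm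
theorem F333820 : act 2 n132856 = n62358 := (sb E95819 (iv2 D132879))
theorem F333821 : act 5 n132856 = n84603 := (sb E95819 F333817)
theorem F333822 : act 7 n132856 = n62359 := (sb E95819 (iv7 F213457))
theorem E95820 : n132884 = n132857 := (c15_4 F213409 F213415 F333822 (iv2 F213458))
theorem F333823 : act 2 n132857 = n62359 := (sb E95820 F213458)
theorem F333824 : act 7 n132857 = n62358 := (sb E95820 (iv7 D132884))
theorem F333825 : act 4 n185862 = n132857 := d11_3 F333824 (iv4 F324721) (iv7 F288300)
theorem E95821 : n132886 = n88541 := (c1_3 F333825 F333823 D132886 (iv2 F288302))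
theorem E95822 : n185905 = n62359 := ((D185905).symm.trans (sb E95821 (iv4 D132886)))
theorem F333826 : act 4 n62359 = n88541 := (sb E95822 (iv4 D185905))
theorem E95823 : n134613 = n29470 := (c20_6 (iv4 F333825) (iv1 F288298) (iv4 F327295) F98485 D63249 D134613 F80112 F23790 (iv4 F47310) (iv3 F97240) (iv1 F213409))
theorem E95824 : n63249 = n59619 := ((((iv3 F322424)).symm.trans (sb E95823 (iv3 D134613)))).symm
theorem E95825 : n134578 = n127056 := (((D127056).symm.trans (sb E95824 (iv1 F216552)))).symm
theorem E95826 : n127057 = n29894 := ((D127057).symm.trans (sb E95824 (iv0 D63249)))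
theorem E95832 : n64901 = n63250 := (((iv1 F204297)).symm.trans (sb E95825 (iv1 F216551)))
theorem F333827 : act 2 n127056 = n63252 := (sb E95825 F216549)
theorem F333828 : act 6 n127056 = n63236 := (sb E95825 (iv6 D134578))
theorem F333829 : act 7 n127056 = n63237 := (sb E95825 F216550)
theorem F333830 : act 0 n29894 = n59619 := (sb E95826 (iv1 D127057))
theorem F333831 : act 1 n63250 = n127056 := (sb E95832 F204297)
theorem F333832 : act 2 n63250 = n61026 := (sb E95832 F325102)
theorem E95833 : n134618 = n132735 := ((D134618).symm.trans (sb E95832 (iv3 F326056)))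
theorem E95834 : n134619 = n30501 := ((D134619).symm.trans (sb E95832 F100704))
theorem E95835 : n138145 = n134620 := (((D134620).symm.trans (sb E95832 (iv5 F221335)))).symm
theorem E95836 : n134621 = n126680 := ((D134621).symm.trans (sb E95832 (iv6 F203850)))
theorem F333833 : act 7 n63250 = n30498 := (sb E95832 (iv7 D64901))
theorem F333834 : act 3 n132735 = n63250 := (sb E95833 (iv3 D134618))
theorem F333835 : act 4 n30501 = n63250 := (sb E95834 (iv4 D134619))
theorem F333836 : act 0 n134620 = n120971 := (sb E95835 F323888)
theorem F333837 : act 1 n134620 = n120970 := (sb E95835 F323889)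
theorem F333838 : act 2 n134620 = n80107 := (sb E95835 F323890)
theorem F333839 : act 3 n134620 = n120979 := (sb E95835 F323891)
theorem F333840 : act 6 n134620 = n84814 := (sb E95835 F323892)
theorem F333841 : act 7 n134620 = n64900 := (sb E95835 (iv7 D138145))
theorem F333842 : act 6 n126680 = n63250 := (sb E95836 (iv6 D134621))
theorem F333843 : act 7 n138130 = n120979 := d8_2 F333841 (iv3 F221331) (iv3 F333839)
theorem F333844 : act 2 n120738 = n138130 := d4_3 F333843 (iv2 D120979) (iv7 F192513)
theorem F333845 : act 4 n157866 = n138130 := d11_3 F333843 (iv4 F327607) F327608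
theorem F333846 : act 1 n120978 = n138130 := d15_1 D120978 F333843 (iv2 D120979)
theorem E95837 : n183037 = n157867 := ((c16_2 F192512 D157867 (iv4 D183037) (iv5 F294267) F138789 D95415 (iv4 F324212) F324213 (iv7 F333843) (iv2 F333844))).symm
theorem F333847 : act 4 n157867 = n87380 := (sb E95837 (iv4 D183037))
theorem F333848 : act 5 n109001 = n183042 := d9_8 D157867 F333847 (iv5 F294267) F138789 D95415 (iv4 F324212) F324213 (iv4 F327607) (iv4 D183042) (iv5 F295150) (iv4 F141496) D95411 F323624 F321961 F192512
theorem F333849 : act 4 n183007 = n122328 := d11_3 (iv7 F248788) F333847 (iv7 F284673)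
theorem F333850 : act 1 n91209 = n157867 := d18_6 D40609 F295255 (iv1 D87189) (iv4 F66461) (iv5 F66917) D91209 F333847 (iv0 D87380) (iv5 D40611)
theorem F333851 : act 5 n163965 = n183029 := d17_3 (iv1 F333850) (iv5 F327456) F327453 (iv4 D183029) (iv5 D87378) F134133 (iv5 F284617) F284620 (iv4 F333847)
theorem F333852 : act 0 n180416 = n183047 := d20_4 (iv4 F195614) (iv1 F195615) F132139 D180416 (iv3 D183047) (iv4 D87382) D87380 (iv4 F333847) F248787 (iv1 F126262)
theorem F333853 : act 2 n183029 = n163970 := d2_1 F333851 (iv5 D163970) (iv2 F258436)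
theorem E95838 : n183018 = n157874 := ((c9_9 F333851 (iv4 D183029) (iv5 D87378) F295455 (iv5 F324219) F209401 F322723 F119161 D157874 (iv4 D183018) (iv5 D87373) F295255 (iv5 F328561) F328560 F323628 (iv4 F258437))).symm
theorem F333854 : act 4 n157874 = n87373 := (sb E95838 (iv4 D183018))
theorem F333855 : act 4 n183004 = n163970 := d11_3 F301271 F333854 (iv7 F284607)
theorem F333856 : act 4 n130842 = n181979 := d16_0 (iv5 D181979) (iv4 F134128) D183004 F333855 (iv5 D163970) F119941 F323610 (iv7 F95870) D130842
theorem F333857 : act 5 n162244 = n130842 := d16_1 (iv4 F256391) F333856 (iv5 D181979) (iv4 F134128) D183004 F333855 (iv5 D163970) F298601 D157873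
theorem F333858 : act 0 n163970 = n91127 := d20_7 D20639 F32755 F31973 (iv3 F65101) D90229 F294278 F333855 (iv4 D91127) F66894 F31974
theorem F333859 : act 1 n183004 = n91999 := d18_8 F138790 F138789 (iv1 D44563) F33435 D42673 D91127 (iv0 F333858) (iv4 F333855) (iv5 D91999)
theorem F333860 : act 1 n91999 = n183002 := d15_1 F333859 F284601 (iv2 F284605)
theorem E95839 : n137848 = n86918 := (c17_4 F328552 (iv5 D64780) D64778 D137848 (iv4 F134128) D183004 F333859 (iv5 D91999) D91997 (iv4 F141496))
theorem E95840 : n181979 = n64778 := ((D181979).symm.trans (sb E95839 (iv5 D137848)))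
theorem E95841 : n137845 = n130837 := ((D137845).symm.trans (sb E95840 (iv2 F324218)))
theorem E95842 : n137847 = n130842 := ((D137847).symm.trans (sb E95840 (iv4 F333856)))
theorem F333861 : act 5 n64778 = n86918 := (sb E95840 (iv5 D181979))
theorem E95843 : n137850 = n136133 := ((D137850).symm.trans (sb E95840 (iv7 F328562)))
theorem F333862 : act 2 n130837 = n64778 := (sb E95841 (iv2 D137845))
theorem E95844 : n98415 = n64779 := ((F324220).symm.trans (sb E95841 (iv7 F221064)))
theorem F333863 : act 4 n130842 = n64778 := (sb E95842 (iv4 D137847))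
theorem F333864 : act 7 n136133 = n64778 := (sb E95843 (iv7 D137850))
theorem F333865 : act 2 n64779 = n136133 := (sb E95844 (iv2 F328559))
theorem E95845 : n137851 = n46038 := ((D137851).symm.trans (sb E95844 F151839))
theorem E95846 : n137852 = n60794 := ((D137852).symm.trans (sb E95844 F323629))
theorem E95847 : n137853 = n46036 := ((D137853).symm.trans (sb E95844 (iv5 D98415)))
theorem E95848 : n137854 = n130831 := ((D137854).symm.trans (sb E95844 F323630))
theorem F333866 : act 7 n64779 = n130837 := (sb E95844 (iv7 F324220))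
theorem F333867 : act 3 n46038 = n64779 := (sb E95845 (iv3 D137851))
theorem F333868 : act 4 n60794 = n64779 := (sb E95846 (iv4 D137852))
theorem F333869 : act 5 n46036 = n64779 := (sb E95847 (iv5 D137853))
theorem F333870 : act 5 n130831 = n138165 := (sb E95848 (iv5 F221352))
theorem F333871 : act 6 n130831 = n64779 := (sb E95848 (iv6 D137854))
theorem F333872 : act 6 n183970 = n138165 := d12_4 F333871 (iv5 F333869) D98416 F285838 (iv5 F333870)
theorem F333873 : act 6 n95415 = n138171 := d21_3 D64780 (iv1 F328551) D95415 (iv1 D138171) (iv6 D64906) D64905 D138165 (iv5 F333870) F333871 (iv1 D64779)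
theorem E95849 : n138186 = n29850 := (c21_11 D63130 (iv1 F329418) F329420 F328987 (iv1 F328977) (iv6 F333871) F333870 (iv1 F221356) (iv5 D64910) D64911 D138186)
theorem E95850 : n64911 = n63125 := ((((iv0 F208364)).symm.trans (sb E95849 (iv0 D138186)))).symm
theorem E95852 : n138174 = n29849 := (((F98413).symm.trans (sb E95850 (iv2 F221358)))).symm
theorem E95853 : n138180 = n126599 := (((F208366).symm.trans (sb E95850 (iv3 F221360)))).symm
theorem E95854 : n138183 = n130112 := ((((iv4 F208589)).symm.trans (sb E95850 (iv4 F221361)))).symm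
theorem E95855 : n138188 = n134365 := ((((iv5 F216368)).symm.trans (sb E95850 D138188))).symm
theorem E95856 : n134370 = n30500 := ((D134370).symm.trans (sb E95850 (iv6 D64911)))
theorem E95858 : n64907 = n63128 := (((D63128).symm.trans (sb E95852 (iv6 D138174)))).symm
theorem F333874 : act 6 n126599 = n64908 := (sb E95853 (iv6 D138180))
theorem F333875 : act 6 n130112 = n64909 := (sb E95854 (iv6 D138183))
theorem F333876 : act 1 n134365 = n123399 := (sb E95855 (iv0 F328674))
theorem F333877 : act 6 n30500 = n63125 := (sb E95856 (iv6 D134370))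
theorem E95860 : n138146 = n134378 := (((D134378).symm.trans (sb E95858 F221336))).symm
theorem F333878 : act 2 n63128 = n30500 := (sb E95858 F100706)
theorem E95861 : n138158 = n134374 := ((((iv3 F216372)).symm.trans (sb E95858 (iv3 F221346)))).symm
theorem E95862 : n138164 = n130225 := ((((iv4 F208747)).symm.trans (sb E95858 (iv4 F221350)))).symm
theorem E95863 : n138169 = n134379 := (((D134379).symm.trans (sb E95858 (iv5 F221355)))).symm
theorem E95864 : n134380 = n30499 := ((D134380).symm.trans (sb E95858 (iv7 D64907)))
theorem F333880 : act 1 n134378 = n64902 := (sb E95860 (iv0 D138146))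
theorem F333881 : act 7 n134374 = n64903 := (sb E95861 (iv7 D138158))
theorem F333882 : act 2 n130225 = n64909 := (sb E95862 F221349)
theorem F333883 : act 7 n130225 = n64904 := (sb E95862 (iv7 D138164))
theorem F333884 : act 2 n134379 = n64910 := (sb E95863 F221354)
theorem F333885 : act 7 n134379 = n64905 := (sb E95863 (iv7 D138169))
theorem F333886 : act 7 n30499 = n63128 := (sb E95864 (iv7 D134380))
theorem E95865 : n138173 = n130215 := ((c14_4 F333886 (iv6 D63128) (iv7 F208355) D130215 (iv7 D138173) (iv6 D64906))).symm
theorem F333887 : act 7 n130215 = n64906 := (sb E95865 (iv7 D138173))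
theorem E95866 : n138151 = n134369 := (c4_2 F333887 (iv2 F221343) (iv7 D134369) (iv2 F208739))
theorem F333888 : act 2 n134369 = n64906 := (sb E95866 F221343)
theorem F333889 : act 6 n134369 = n64902 := (sb E95866 (iv6 D138151))
theorem E95867 : n138163 = n130224 := (c11_2 F333887 (iv4 F221348) (iv7 D130224) (iv4 F208740))
theorem F333890 : act 4 n130224 = n64906 := (sb E95867 F221348)
theorem F333891 : act 6 n130224 = n64904 := (sb E95867 (iv6 D138163))
theorem E95868 : n138170 = n134367 := ((c15_1 D134367 (iv0 D138170) (iv7 F333887) F208739)).symm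
theorem F333892 : act 1 n134367 = n64906 := (sb E95868 (iv0 D138170))
theorem E95869 : n138161 = n130281 := (c7_2 F333891 D138161 (iv6 D130281) (iv3 F208745))
theorem F333893 : act 3 n130281 = n64904 := (sb E95869 (iv3 D138161))
theorem E95870 : n130281 = n129950 := ((c20_5 F23031 D13781 D28930 D61036 D129950 F333893 (iv4 D64904) (iv1 F99638) F325106 (iv3 D61026) (iv1 D28926))).symm
theorem E95871 : n132749 = n61157 := (((iv1 F213132)).symm.trans (sb E95870 (iv1 F208817)))
theorem F333894 : act 2 n129950 = n61159 := (sb E95870 F208815)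
theorem F333895 : act 3 n129950 = n64904 := (sb E95870 F333893)
theorem F333896 : act 6 n129950 = n61143 := (sb E95870 (iv6 D130281))
theorem F333897 : act 7 n129950 = n61144 := (sb E95870 F208816)
theorem E95873 : n129951 = n28968 := ((((iv1 D61157)).symm.trans (sb E95871 (iv1 F213134)))).symm
theorem F333898 : act 1 n61157 = n129950 := (sb E95871 F213132)
theorem E95874 : n130319 = n62303 := (((iv2 F208845)).symm.trans (sb E95871 (iv2 D132749)))
theorem E95875 : n130320 = n129960 := ((D130320).symm.trans (sb E95871 F213129))
theorem E95876 : n130322 = n79619 := ((D130322).symm.trans (sb E95871 F324234))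
theorem E95877 : n130323 = n129797 := ((D130323).symm.trans (sb E95871 F213130))
theorem E95878 : n130314 = n129952 := ((F208844).symm.trans (sb E95871 F213131))
theorem F333899 : act 0 n28968 = n61036 := (sb E95873 (iv1 D129951))
theorem F333900 : act 2 n62303 = n61157 := (sb E95874 F208845)
theorem F333901 : act 3 n129960 = n61157 := (sb E95875 (iv3 D130320))
theorem F333902 : act 5 n79619 = n61157 := (sb E95876 (iv5 D130322))
theorem F333903 : act 6 n129797 = n61157 := (sb E95877 (iv6 D130323))
theorem F333904 : act 7 n129952 = n61157 := (sb E95878 (iv7 F208844))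
theorem F333905 : act 5 n129960 = n121798 := d6_2 F333902 (iv3 F333901) F194393
theorem E95883 : n127915 = n104643 := (c21_3 F321727 (iv1 F190301) D127915 (iv6 D104643) D104639 F328295 F333902 (iv1 D61157) D61158 (iv6 F208843) F330129)
theorem F333906 : act 2 n104643 = n60139 := (sb E95883 F205823)
theorem F333907 : act 5 n104643 = n60083 := (sb E95883 (iv5 D127915))
theorem F333908 : act 7 n104643 = n167808 := (sb E95883 (iv7 F264242))
theorem F333909 : act 5 n146673 = n129950 := d21_6 (iv5 F329087) F324805 (iv5 D84840) (iv6 F319435) F105330 D146673 (iv1 F333898) (iv5 F333902) (iv6 F328295) (iv1 F328691)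
theorem E95884 : n147609 = n130327 := ((c2_3 F333909 F333894 (iv5 F208846) F231395)).symm
theorem F333910 : act 2 n130327 = n146673 := (sb E95884 F231395)
theorem F333911 : act 4 n130327 = n146022 := (sb E95884 F231396)
theorem F333912 : act 6 n130327 = n69180 := (sb E95884 (iv6 D147609))
theorem F333913 : act 3 n138162 = n146673 := d6_3 F333909 F333895 D138162
theorem E95885 : n130280 = n68742 := (c12_4 D146673 F333909 F333896 (iv5 F208814) (iv6 D68742) D68741)
theorem E95886 : n146676 = n61143 := ((D146676).symm.trans (sb E95885 F208814))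
theorem E95887 : n146677 = n61142 := ((D146677).symm.trans (sb E95885 (iv7 D130280)))
theorem F333914 : act 5 n61143 = n68742 := (sb E95886 (iv5 D146676))
theorem E95888 : n130081 = n86673 := (((iv0 F212091)).symm.trans (sb E95887 F310638))
theorem E95889 : n130279 = n68745 := ((D130279).symm.trans (sb E95887 F229995))
theorem E95890 : n144822 = n130264 := ((((iv6 F208810)).symm.trans (sb E95887 F229996))).symm
theorem F333915 : act 7 n61142 = n68742 := (sb E95887 (iv7 D146677))
theorem F333916 : act 0 n86673 = n61142 := (sb E95888 F212091)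
theorem E95891 : n181596 = n61079 := ((D181596).symm.trans (sb E95888 (iv3 D130081)))
theorem E95892 : n181597 = n129207 := ((D181597).symm.trans (sb E95888 F208550))
theorem E95893 : n129206 = n124550 := ((((iv7 F301888)).symm.trans (sb E95888 F208551))).symm
theorem F333917 : act 4 n68745 = n61142 := (sb E95889 (iv4 D130279))
theorem F333918 : act 0 n130264 = n147143 := (sb E95890 (iv1 F230705))
theorem F333919 : act 1 n130264 = n147142 := (sb E95890 F230711)
theorem E95894 : n147145 = n83710 := (((F315338).symm.trans (sb E95890 (iv2 F230709)))).symm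
theorem F333920 : act 4 n130264 = n67872 := (sb E95890 F227729)
theorem F333921 : act 7 n130264 = n67869 := (sb E95890 (iv7 D144822))
theorem F333922 : act 3 n61079 = n86673 := (sb E95891 (iv3 D181596))
theorem F333923 : act 5 n129207 = n86673 := (sb E95892 (iv5 D181597))
theorem F333924 : act 1 n124550 = n130206 := (sb E95893 (iv0 F211045))
theorem F333925 : act 2 n124550 = n130277 := (sb E95893 F212090)
theorem F333926 : act 3 n124550 = n60741 := (sb E95893 F207426)
theorem F333927 : act 5 n124550 = n60737 := (sb E95893 (iv5 D129206))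
theorem E95895 : n175297 = n144820 := ((D175297).symm.trans (sb E95894 (iv1 F230712)))
theorem E95896 : n175298 = n144819 := ((D175298).symm.trans (sb E95894 F230718))
theorem E95897 : n175299 = n68990 := ((D175299).symm.trans (sb E95894 F230710))
theorem E95898 : n175151 = n68987 := (((iv7 F274143)).symm.trans (sb E95894 (iv7 D147145)))
theorem F333928 : act 1 n144820 = n83710 := (sb E95895 (iv0 D175297))
theorem F333929 : act 0 n144819 = n83710 := (sb E95896 (iv1 D175298))
theorem E95899 : n148852 = n67871 := ((((iv1 F105201)).symm.trans (sb E95897 (iv1 F301471)))).symm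
theorem F333930 : act 4 n68990 = n83710 := (sb E95897 (iv4 D175299))
theorem E95900 : n147140 = n83658 := (((iv3 F230702)).symm.trans (sb E95898 F274142))
theorem E95901 : n147144 = n83656 := ((D147144).symm.trans (sb E95898 (iv5 D175151)))
theorem F333931 : act 7 n68987 = n83710 := (sb E95898 F274143)
theorem E95902 : n144826 = n69767 := ((D144826).symm.trans (sb E95899 (iv4 D148852)))
theorem F333932 : act 3 n83658 = n68987 := (sb E95900 F230702)
theorem E95903 : n175155 = n164569 := ((D175155).symm.trans (sb E95900 (iv4 F259420)))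
theorem E95904 : n175156 = n68985 := ((D175156).symm.trans (sb E95900 (iv6 D147140)))
theorem E95905 : n147751 = n130262 := ((((iv0 F315330)).symm.trans (sb E95901 (iv0 F231496)))).symm
theorem E95906 : n144821 = n130265 := ((((iv2 F315341)).symm.trans (sb E95901 F230708))).symm
theorem F333933 : act 5 n83656 = n68987 := (sb E95901 (iv5 D147144))
theorem E95907 : n148850 = n147070 := ((D148850).symm.trans (sb E95902 (iv1 F230723)))
theorem E95908 : n148851 = n147158 := ((D148851).symm.trans (sb E95902 F230745))
theorem E95909 : n148833 = n147150 := (((iv2 F233707)).symm.trans (sb E95902 (iv2 F230735)))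
theorem F333934 : act 4 n69767 = n67871 := (sb E95902 (iv4 D144826))
theorem E95910 : n148853 = n147147 := ((D148853).symm.trans (sb E95902 (iv7 F230722)))
theorem F333935 : act 0 n164569 = n111189 := (sb E95903 (iv1 F315805))
theorem F333936 : act 1 n164569 = n178634 := (sb E95903 (iv0 F278429))
theorem F333937 : act 2 n164569 = n83737 := (sb E95903 F274163)
theorem F333938 : act 4 n164569 = n83658 := (sb E95903 (iv4 D175155))
theorem F333939 : act 5 n164569 = n111160 := (sb E95903 F332229)
theorem F333940 : act 7 n164569 = n83721 := (sb E95903 F274164)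
theorem E95911 : n147138 = n83738 := ((D147138).symm.trans (sb E95904 F274165))
theorem F333941 : act 6 n68985 = n83658 := (sb E95904 (iv6 D175156))
theorem F333942 : act 5 n130262 = n69226 := (sb E95905 (iv5 D147751))
theorem F333943 : act 5 n130265 = n67869 := (sb E95906 (iv5 D144821))
theorem F333944 : act 1 n147070 = n69767 := (sb E95907 (iv0 D148850))
theorem F333945 : act 5 n147070 = n84062 := (sb E95907 F305632)
theorem F333946 : act 0 n147158 = n69767 := (sb E95908 (iv1 D148851))
theorem F333947 : act 5 n147158 = n84063 := (sb E95908 (iv5 F303522))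
theorem F333948 : act 2 n147150 = n69767 := (sb E95909 F233707)
theorem F333949 : act 5 n147150 = n69759 := (sb E95909 (iv5 D148833))
theorem F333950 : act 6 n147150 = n157575 := (sb E95909 (iv6 F248337))
theorem F333951 : act 3 n147147 = n80437 := (sb E95910 F233868)
theorem F333952 : act 5 n147147 = n69768 := (sb E95910 F233869)
theorem F333953 : act 7 n147147 = n69767 := (sb E95910 (iv7 D148853))
theorem F333954 : act 2 n83738 = n68985 := (sb E95911 (iv2 D147138))
theorem E95912 : n175340 = n139679 := (((iv3 F274387)).symm.trans (sb E95911 F230700))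
theorem E95913 : n175350 = n164574 := (((iv4 F274396)).symm.trans (sb E95911 (iv4 F259447)))
theorem F333955 : act 3 n139679 = n83738 := (sb E95912 F274387)
theorem F333956 : act 6 n139679 = n83733 := (sb E95912 (iv6 D175340))
theorem F333957 : act 4 n164574 = n83738 := (sb E95913 F274396)
theorem F333958 : act 6 n164574 = n83737 := (sb E95913 (iv6 D175350))
theorem F333959 : act 7 n130284 = n146673 := d13_0 F333909 F333897 D130284
theorem E95914 : n147383 = n39068 := (c21_5 (iv5 D69085) (iv1 D32143) D32145 D69094 D147383 F302575 (iv5 F321981) D129950 (iv5 F333909) (iv6 D146673) (iv1 F105337))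
theorem E95915 : n84585 = n69220 := ((D84585).symm.trans (sb E95914 (iv1 F231104)))
theorem E95916 : n84586 = n69094 := ((D84586).symm.trans (sb E95914 (iv0 D147383)))
theorem E95917 : n147384 = n78383 := (((iv1 F231100)).symm.trans (sb E95915 (iv1 F129754)))
theorem F333960 : act 1 n69220 = n39068 := (sb E95915 (iv0 D84585))
theorem F333961 : act 0 n69094 = n39068 := (sb E95916 (iv1 D84586))
theorem F333962 : act 0 n78383 = n69094 := (sb E95917 (iv1 D147384))
theorem F333963 : act 1 n78383 = n69220 := (sb E95917 F231100)
theorem E95928 : n178383 = n178247 := ((c21_1 D178247 (iv1 F277933) (iv5 D166303) F122603 F333962 (iv6 D69094) (iv5 D32145) D32142 D69082 F319435 D84836)).symm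
theorem F333964 : act 0 n178247 = n166303 := (sb E95928 (iv1 F277933))
theorem F333965 : act 1 n178247 = n84873 := (sb E95928 (iv0 D178383))
theorem E95929 : n178386 = n41900 := (c17_10 D89709 F291576 (iv1 D45020) D45022 D96424 F323556 F130028 D178247 F333965 D178386)
theorem E95930 : n89711 = n84873 := ((D89711).symm.trans (sb E95929 (iv4 D178386)))
theorem E95931 : n166306 = n89694 := ((((iv7 F137633)).symm.trans (sb E95929 F277940))).symm
theorem F333966 : act 4 n84873 = n41900 := (sb E95930 (iv4 D89711))
theorem F333967 : act 4 n89694 = n79858 := (sb E95931 (iv4 D166306))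
theorem F333968 : act 4 n89235 = n178247 := d18_5 (iv1 F291563) F36517 (iv1 F66087) (iv4 F66981) (iv5 F136956) F333965 F333966 D89710 F291569
theorem F333969 : act 5 n104801 = n89244 := d18_4 (iv1 F328290) (iv4 D48454) D48453 D104801 (iv4 D89244) F136957 F333968 F333965 F130079
theorem F333970 : act 3 n89244 = n121742 := d20_3 (iv4 F333968) (iv1 F136957) D89244 (iv1 D121742) F88978 F316527 F105905 (iv4 F313338) D84873 (iv1 F333965)
theorem E95932 : n180465 = n178248 := ((c21_4 (iv5 F130079) (iv1 F333965) (iv5 D178247) D178248 (iv1 F280867) (iv6 F323395) (iv5 D128000) (iv1 D60138) D60139 (iv6 F308370) F328291)).symm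
theorem F333971 : act 0 n178248 = n166812 := (sb E95932 (iv1 F280867))
theorem F333972 : act 1 n178248 = n86187 := (sb E95932 (iv0 D180465))
theorem F333973 : act 4 n178248 = n111971 := d20_0 (iv1 D111971) F81531 (iv3 D50911) (iv1 D24760) D24761 F38755 D24781 (iv4 F321495) D86187 (iv1 F333972)
theorem E95933 : n155633 = n147385 := ((c21_1 D147385 (iv1 D155633) (iv5 F313860) (iv6 F132145) (iv1 F333972) (iv6 D178248) D178247 F333964 (iv5 D166303) F122603 F333962)).symm
theorem F333974 : act 0 n147385 = n74036 := (sb E95933 (iv1 D155633))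
theorem F333975 : act 1 n147385 = n162821 := (sb E95933 F313867)
theorem E95934 : n155632 = n147722 := (c15_2 F333975 (iv0 F313866) (iv7 D147722) (iv2 F231101))
theorem F333976 : act 0 n147722 = n162821 := (sb E95934 F313866)
theorem F333977 : act 1 n147722 = n74036 := (sb E95934 (iv0 D155632))
theorem F333978 : act 6 n133025 = n121062 := d21_9 D162821 (iv1 F333975) (iv5 D147385) (iv6 D69094) D69092 (iv6 F323067) (iv5 D131530) (iv1 F97301) D133025 (iv1 F193073)
theorem E95935 : n180044 = n144818 := ((c21_4 F105342 (iv1 D67867) D67868 D144818 (iv1 F323494) F323498 D162821 (iv1 F333975) (iv5 D147385) (iv6 D69094) D69092)).symm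
theorem F333979 : act 0 n144818 = n153598 := (sb E95935 (iv1 F323494))
theorem F333980 : act 1 n144818 = n86036 := (sb E95935 (iv0 D180044))
theorem F333981 : act 5 n144818 = n162693 := (sb E95935 F330138)
theorem F333982 : act 5 n130313 = n147141 := d2_2 F333981 F330133 F230703
theorem E95936 : n128002 = n35631 := (c21_11 D78151 D162693 (iv5 F333981) (iv6 D144818) F103926 (iv6 F320998) (iv5 F292807) (iv1 D89253) D89255 F308370 D128002)
theorem E95937 : n167808 = n78148 := (((D78148).symm.trans (sb E95936 (iv1 F264244)))).symm
theorem E95938 : n78149 = n60139 := ((D78149).symm.trans (sb E95936 (iv0 D128002)))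
theorem E95939 : n162679 = n128003 := ((D162679).symm.trans (sb E95937 (iv1 F264243)))
theorem E95940 : n162680 = n128005 := ((D162680).symm.trans (sb E95937 F264241))
theorem E95941 : n162683 = n80528 := ((D162683).symm.trans (sb E95937 (iv5 D167808)))
theorem E95942 : n162685 = n104643 := ((D162685).symm.trans (sb E95937 (iv7 F333908)))
theorem F333983 : act 0 n60139 = n35631 := (sb E95938 (iv1 D78149))
theorem F333984 : act 1 n128003 = n78148 := (sb E95939 (iv0 D162679))
theorem F333985 : act 2 n128003 = n78152 := (sb E95939 (iv2 F256922))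
theorem F333986 : act 3 n128003 = n163665 := (sb E95939 (iv3 F257999))
theorem F333987 : act 6 n128003 = n160946 := (sb E95939 F256923)
theorem F333988 : act 7 n128003 = n78150 := (sb E95939 F256924)
theorem F333989 : act 2 n128005 = n78148 := (sb E95940 (iv2 D162680))
theorem F333990 : act 5 n80528 = n78148 := (sb E95941 (iv5 D162683))
theorem F333991 : act 7 n104643 = n78148 := (sb E95942 (iv7 D162685))
theorem E95947 : n127620 = n36446 := (c21_4 (iv5 D32175) (iv1 F50688) (iv5 F94405) D127620 (iv1 D36446) (iv6 F56306) D78151 D162693 (iv5 F333981) (iv6 D144818) F103926)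
theorem E95948 : n69221 = n35266 := ((((iv2 F254206)).symm.trans (sb E95947 F205188))).symm
theorem E95949 : n80022 = n59926 := ((D80022).symm.trans (sb E95947 F205189))
theorem E95950 : n80024 = n59925 := ((D80024).symm.trans (sb E95947 (iv6 D127620)))
theorem E95953 : n116692 = n77250 := (((D77250).symm.trans (sb E95948 (iv3 F182091)))).symm
theorem E95954 : n127524 = n77251 := (((D77251).symm.trans (sb E95948 (iv4 F204979)))).symm
theorem E95955 : n147726 = n55884 := ((((iv5 F254069)).symm.trans (sb E95948 D147726))).symm
theorem E95956 : n77253 = n32191 := ((D77253).symm.trans (sb E95948 (iv6 D69221)))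
theorem E95957 : n147723 = n36445 := ((((iv7 F254212)).symm.trans (sb E95948 (iv7 F231459)))).symm
theorem E95958 : n163750 = n127621 := (((D127621).symm.trans (sb E95949 F258111))).symm
theorem E95959 : n163681 = n127622 := (((D127622).symm.trans (sb E95949 (iv0 F258011)))).symm
theorem E95960 : n166727 = n127614 := ((((iv3 F205182)).symm.trans (sb E95949 D166727))).symm
theorem F333992 : act 4 n59926 = n36446 := (sb E95949 (iv4 D80022))
theorem E95961 : n166728 = n127623 := (((D127623).symm.trans (sb E95949 D166728))).symm
theorem E95963 : n127624 = n77256 := ((D127624).symm.trans (sb E95949 F254208))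
theorem E95966 : n166726 = n127619 := (((D127619).symm.trans (sb E95950 (iv3 F262447)))).symm
theorem F333993 : act 6 n59925 = n36446 := (sb E95950 (iv6 D80024))
theorem E95969 : n160973 = n53775 := ((D160973).symm.trans (sb E95953 (iv6 D116692)))
theorem F333994 : act 2 n77251 = n59926 := (sb E95954 F204978)
theorem E95970 : n160978 = n59891 := ((D160978).symm.trans (sb E95954 (iv6 D127524)))
theorem E95971 : n121119 = n69239 := ((D121119).symm.trans (sb E95955 F231460))
theorem F333995 : act 6 n32191 = n35266 := (sb E95956 (iv6 D77253))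
theorem E95975 : n160983 = n15189 := ((((iv7 D32191)).symm.trans (sb E95956 D160983))).symm
theorem E95976 : n80019 = n69220 := ((D80019).symm.trans (sb E95957 (iv6 D147723)))
theorem F333996 : act 0 n127621 = n80017 := (sb E95958 F258110)
theorem F333997 : act 2 n127621 = n78673 := (sb E95958 F258107)
theorem F333998 : act 3 n127621 = n160642 := (sb E95958 F258109)
theorem F333999 : act 4 n127621 = n78672 := (sb E95958 (iv4 D163750))
theorem F334000 : act 7 n127621 = n160975 := (sb E95958 F258108)
theorem F334001 : act 1 n127622 = n80017 := (sb E95959 F258012)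
theorem F334002 : act 2 n127622 = n160975 := (sb E95959 F258009)
theorem F334003 : act 4 n127622 = n78643 := (sb E95959 (iv4 D163681))
theorem F334004 : act 7 n127622 = n78673 := (sb E95959 F258010)
theorem F334005 : act 1 n127614 = n120973 := (sb E95960 (iv0 F262449))
theorem F334006 : act 7 n127614 = n160988 := (sb E95960 F262448)
theorem F334007 : act 2 n127623 = n160977 := (sb E95961 F262450)
theorem F334008 : act 7 n127623 = n160989 := (sb E95961 F262451)
theorem F334009 : act 7 n77256 = n59926 := (sb E95963 (iv7 D127624))
theorem F334010 : act 6 n127619 = n80021 := (sb E95966 (iv6 D166726))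
theorem E95979 : n116691 = n84325 := ((D116691).symm.trans (sb E95969 F254185))
theorem F334011 : act 6 n53775 = n77250 := (sb E95969 (iv6 D160973))
theorem F334012 : act 6 n59891 = n77251 := (sb E95970 (iv6 D160978))
theorem E95980 : n79872 = n78578 := ((F330048).symm.trans (sb E95971 (iv2 F254492)))
theorem F334013 : act 6 n69239 = n55884 := (sb E95971 (iv6 D121119))
theorem E95981 : n166724 = n32190 := (((D32190).symm.trans (sb E95975 (iv6 F262437)))).symm
theorem E95984 : n147386 = n77258 := (((iv2 F231103)).symm.trans (sb E95976 F254221))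
theorem E95985 : n166717 = n147676 := ((((iv3 F231440)).symm.trans (sb E95976 (iv3 F262425)))).symm
theorem E95986 : n166720 = n147708 := ((((iv4 F231454)).symm.trans (sb E95976 (iv4 F262432)))).symm
theorem E95987 : n166723 = n147722 := ((((iv5 F231458)).symm.trans (sb E95976 D166723))).symm
theorem F334014 : act 6 n69220 = n36445 := (sb E95976 (iv6 D80019))
theorem E95988 : n176891 = n112273 := ((D176891).symm.trans (sb E95979 F182090))
theorem F334015 : act 4 n84325 = n53775 := (sb E95979 (iv4 D116691))
theorem E95989 : n176894 = n69206 := ((D176894).symm.trans (sb E95979 F182089))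
theorem E95990 : n163516 = n36385 := ((D163516).symm.trans (sb E95980 (iv1 D79872)))
theorem E95991 : n163517 = n84847 := ((D163517).symm.trans (sb E95980 F130053))
theorem F334016 : act 2 n78578 = n69239 := (sb E95980 (iv2 F330048))
theorem F334017 : act 5 n78578 = n68953 := (sb E95980 (iv5 F330049))
theorem E95995 : n166333 = n163519 := (((D163519).symm.trans (sb E95980 F261930))).symm
theorem E95996 : n160992 = n69217 := (((D69217).symm.trans (sb E95981 (iv1 F262439)))).symm
theorem E95997 : n160991 = n69218 := (((D69218).symm.trans (sb E95981 F262440))).symm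
theorem F334018 : act 2 n77258 = n69220 := (sb E95984 F231103)
theorem F334019 : act 7 n77258 = n69094 := (sb E95984 (iv7 D147386))
theorem F334020 : act 2 n147676 = n176877 := (sb E95985 (iv2 F276250))
theorem F334021 : act 4 n147676 = n158901 := (sb E95985 F262426)
theorem F334022 : act 6 n147676 = n80016 := (sb E95985 (iv6 D166717))
theorem F334023 : act 2 n147708 = n160990 := (sb E95986 F262431)
theorem F334024 : act 6 n147708 = n80017 := (sb E95986 (iv6 D166720))
theorem F334025 : act 2 n147722 = n160993 := (sb E95987 F262434)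
theorem F334026 : act 6 n147722 = n163508 := (sb E95987 F262435)
theorem F334027 : act 1 n112273 = n84325 := (sb E95988 (iv0 D176891))
theorem F334028 : act 7 n69206 = n84325 := (sb E95989 (iv7 D176894))
theorem F334029 : act 1 n36385 = n78578 := (sb E95990 (iv0 D163516))
theorem F334030 : act 0 n84847 = n78578 := (sb E95991 (iv1 D163517))
theorem F334031 : act 2 n163519 = n79871 := (sb E95995 (iv2 D166333))
theorem F334032 : act 0 n69217 = n77258 := (sb E95996 (iv1 D160992))
theorem F334033 : act 1 n69218 = n77258 := (sb E95997 (iv0 D160991))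
theorem F334034 : act 5 n147055 = n163519 := d2_0 F334031 (iv5 F330051) (iv2 F230532)
theorem F334035 : act 1 n163519 = n147795 := d15_0 (iv0 D147795) (iv7 F330050) (iv2 F334031)
theorem E95998 : n178540 = n178285 := (c17_1 D178540 (iv5 D178285) F334030 F334017 F105123 D68956 F200566 (iv5 F308699) (iv0 F192423) F192422)
theorem E95999 : n146735 = n85010 := (((iv0 F321709)).symm.trans (sb E95998 (iv0 D178540)))
theorem F334036 : act 0 n85010 = n178285 := (sb E95999 F321709)
theorem E96000 : n178541 = n68796 := ((D178541).symm.trans (sb E95999 (iv0 D146735)))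
theorem F334037 : act 0 n68796 = n85010 := (sb E96000 (iv1 D178541))
theorem F334038 : act 5 n127886 = n178286 := d21_2 (iv5 F330147) (iv1 F309724) (iv6 D178286) F334030 (iv6 D78578) (iv5 F250818) (iv1 D36446) F28609 D36430 D79985
theorem F334039 : act 6 n144819 = n178285 := d21_5 D32180 (iv1 F103927) (iv5 D67868) D67869 D144819 (iv5 D178285) F334030 F334017 (iv6 D68953) (iv1 F50687)
theorem E96001 : n178294 = n147142 := (c3_3 F334039 F277837 D178294 F230715)
theorem F334040 : act 3 n147142 = n84851 := (sb E96001 F277859)
theorem F334041 : act 6 n147142 = n84849 := (sb E96001 (iv6 D178294))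
theorem F334042 : act 4 n178285 = n148867 := d10_1 F334039 (iv6 D148867) (iv4 F230716)
theorem F334043 : act 5 n148856 = n144819 := d12_5 F334039 (iv5 D178285) D178286 (iv5 F334038) F233880
theorem F334044 : act 6 n146748 = n147143 := d14_5 (iv7 F230717) F334039 (iv7 F321715) F230073 (iv7 F230095)
theorem E96002 : n148864 = n147582 := (c21_9 D69195 F302477 (iv5 F192395) (iv6 F192396) F334036 (iv6 F334039) (iv5 F334043) (iv1 F233878) D148864 (iv6 D147582) F191047)
theorem F334045 : act 5 n147582 = n69776 := (sb E96002 (iv5 D148864))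
theorem E96003 : n175288 = n147390 := (c21_3 (iv5 D83710) D83706 D175288 (iv6 D147390) (iv1 F105398) D69236 F330051 (iv1 F130051) D178285 (iv6 F334039) F333929)
theorem F334046 : act 3 n147390 = n83938 := (sb E96003 F274296)
theorem F334047 : act 5 n147390 = n83706 := (sb E96003 (iv5 D175288))
theorem F334048 : act 6 n126893 = n147389 := d12_4 D147390 F334047 (iv6 F308242) (iv5 F333397) (iv5 D147389)
theorem E96004 : n148858 = n147750 := ((c16_5 (iv4 F231108) F334047 F306247 F190714 (iv4 F231497) (iv5 D148858) (iv4 D69771) D69772 F233744 (iv2 F233771))).symm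
theorem F334049 : act 5 n147750 = n69771 := (sb E96004 (iv5 D148858))
theorem E96005 : n148845 = n147818 := (c18_1 F300722 (iv4 F233885) (iv1 F233888) (iv4 F231108) F334047 F306247 (iv0 F200421) (iv4 F300719) (iv0 D98146) D98148)
theorem F334050 : act 1 n147818 = n98148 := (sb E96005 (iv0 F300722))
theorem F334051 : act 3 n147818 = n133333 := (sb E96005 F332325)
theorem F334052 : act 5 n147818 = n69765 := (sb E96005 (iv5 D148845))
theorem E96006 : n175042 = n147752 := (c9_9 (iv5 F334047) F231108 (iv5 D69777) D69776 (iv5 F334045) F231369 (iv5 F200250) (iv4 F306248) D175042 F233745 (iv5 D69772) D69771 (iv5 F334049) F231497 (iv5 F190714) (iv4 F306247))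
theorem F334053 : act 0 n147752 = n83744 := (sb E96006 F309618)
theorem F334054 : act 5 n147752 = n83593 := (sb E96006 (iv5 D175042))
theorem F334055 : act 3 n179895 = n108077 := d19_11 D83706 (iv5 F334047) F231108 (iv3 F306303) (iv1 D95881) (iv5 F300081) F52185 (iv3 F52172) (iv1 F232422) D124734 (iv4 F280174) (iv1 D108077) D108079 F312675 D125172 F312528 (iv5 F312533) (iv4 D38584) D38583
theorem E96007 : n175362 = n148836 := ((c17_5 (iv1 F131567) (iv5 F250525) (iv1 F250529) (iv5 D148837) D148836 (iv5 D175362) (iv0 F334053) F334054 (iv0 F315339) F315343)).symm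
theorem F334056 : act 3 n148836 = n83746 := (sb E96007 F274409)
theorem F334057 : act 5 n148836 = n83744 := (sb E96007 (iv5 D175362))
theorem E96008 : n176262 = n69257 := (c18_10 F231361 F231360 F188472 (iv4 F233745) F334054 F306248 F200442 F303523 F151372 D176262)
theorem E96009 : n147409 = n84066 := (((iv2 F231142)).symm.trans (sb E96008 F275547))
theorem E96010 : n147819 = n84064 := ((D147819).symm.trans (sb E96008 (iv5 D176262)))
theorem E96011 : n176266 = n166287 := ((D176266).symm.trans (sb E96009 (iv0 F261842)))
theorem F334058 : act 2 n84066 = n69257 := (sb E96009 F231142)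
theorem E96012 : n176267 = n69103 := ((D176267).symm.trans (sb E96009 F231143))
theorem E96013 : n176268 = n69101 := ((D176268).symm.trans (sb E96009 (iv6 D147409)))
theorem E96014 : n147157 = n98147 := ((((iv1 F151372)).symm.trans (sb E96010 F231580))).symm
theorem F334059 : act 5 n84064 = n69257 := (sb E96010 (iv5 D147819))
theorem F334060 : act 0 n166287 = n84066 := (sb E96011 (iv1 D176266))
theorem E96015 : n175361 = n147411 := (((D147411).symm.trans (sb E96012 (iv0 F275556)))).symm
theorem F334061 : act 4 n69103 = n84066 := (sb E96012 (iv4 D176267))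
theorem E96016 : n147407 = n84068 := ((D147407).symm.trans (sb E96013 F275558))
theorem F334062 : act 6 n69101 = n84066 := (sb E96013 (iv6 D176268))
theorem F334063 : act 5 n98147 = n68993 := (sb E96014 (iv5 D147157))
theorem F334064 : act 4 n147411 = n83744 := (sb E96015 (iv4 D175361))
theorem F334065 : act 3 n84068 = n69101 := (sb E96016 (iv3 D147407))
theorem E96017 : n176273 = n69275 := ((D176273).symm.trans (sb E96016 F231139))
theorem F334066 : act 7 n69275 = n84068 := (sb E96017 (iv7 D176273))
theorem F334067 : act 0 n127673 = n153609 := d21_4 (iv5 F334054) F334053 (iv5 F334057) F233838 (iv6 D153609) (iv5 F321727) (iv1 F333980) F333981 F330135 F315339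
theorem E96018 : n96687 = n95599 := (c18_5 (iv1 F205222) D127673 F334067 F241462 (iv5 F314781) (iv4 D95599) (iv0 D44648) (iv4 F58272) D81683 (iv5 F316754))
theorem F334068 : act 0 n95599 = n72811 := (sb E96018 F314778)
theorem F334069 : act 1 n95599 = n45166 := (sb E96018 (iv0 D96687))
theorem F334070 : act 2 n95599 = n73245 := (sb E96018 F314779)
theorem F334071 : act 3 n95599 = n132636 := (sb E96018 F314780)
theorem F334072 : act 5 n95599 = n72638 := (sb E96018 F314781)
theorem F334073 : act 6 n95599 = n154739 := (sb E96018 F314782)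
theorem F334074 : act 7 n95599 = n73246 := (sb E96018 F314783)
theorem E96019 : n167916 = n133834 := ((c20_9 D127673 F334067 F241462 F315896 (iv1 F313916) (iv3 F243995) (iv4 F309510) (iv1 F215480) D133834 F264591 (iv1 F205222))).symm
theorem F334075 : act 0 n133834 = n80607 := (sb E96019 (iv1 F264593))
theorem F334076 : act 1 n133834 = n80606 := (sb E96019 F264594)
theorem F334077 : act 2 n133834 = n80608 := (sb E96019 F264590)
theorem F334078 : act 3 n133834 = n127655 := (sb E96019 F264591)
theorem F334079 : act 6 n133834 = n150631 := (sb E96019 F264592)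
theorem F334080 : act 7 n133834 = n80601 := (sb E96019 (iv7 D167916))
theorem F334081 : act 4 n150631 = n133836 := d10_1 F334079 (iv6 D133836) D133834
theorem F334082 : act 2 n133836 = n139204 := d1_1 F334081 F305221 (iv2 F237173)
theorem F334083 : act 7 n133836 = n139203 := d11_2 D150631 F334081 F308026
theorem F334084 : act 0 n133836 = n139181 := d17_0 (iv5 F222356) F308024 (iv5 D79725) F57034 D36323 D79763 (iv5 F234075) F237176 F334081
theorem F334085 : act 1 n133836 = n139206 := d18_6 (iv1 F316939) (iv4 F115040) D160113 F252714 (iv5 F237175) F334081 F222407 F222363 F315962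
theorem F334086 : act 0 n175119 = n120212 := d20_1 (iv4 F274102) (iv4 F234272) F234271 (iv1 F206214) (iv3 F237174) F334081 F334084 F222354 (iv3 F112084) (iv1 F315907)
theorem F334087 : act 1 n166541 = n119356 := d18_6 (iv1 F315907) (iv4 F274102) F334086 (iv4 F234272) (iv5 F278141) F332093 (iv4 D119356) F313433 (iv5 F112085)
theorem E96020 : n166541 = n166437 := ((c17_8 F313432 (iv5 F313438) (iv1 F186994) (iv5 D73570) D73569 (iv5 F321875) D79905 D166437 F334087 (iv4 D119356))).symm
theorem F334088 : act 0 n166437 = n79932 := (sb E96020 (iv1 D166541))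
theorem F334089 : act 1 n166437 = n119356 := (sb E96020 F334087)
theorem F334090 : act 4 n166437 = n149185 := (sb E96020 (iv4 F332093))
theorem F334091 : act 6 n166437 = n144350 := (sb E96020 (iv6 F331704))
theorem F334092 : act 5 n129495 = n164016 := d12_3 F334091 (iv5 D144350) (iv6 F214327) F330291 D166437
theorem F334093 : act 6 n134568 = n119356 := d21_3 (iv5 D63235) D63233 D134568 (iv1 F334089) F334091 (iv5 D144350) (iv1 D67631) D67632 (iv6 F325882) F212895
theorem E96021 : n142527 = n107709 := ((c21_3 (iv5 F321595) F166316 D107709 (iv6 D142527) (iv1 F181777) F320893 (iv5 F330652) (iv1 F194263) D166437 F334091 F332100)).symm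
theorem F334094 : act 6 n107709 = n66821 := (sb E96021 (iv6 D142527))
theorem F334095 : act 6 n173728 = n148265 := d21_3 (iv5 D84079) (iv1 F128059) D173728 F332097 (iv6 F334091) (iv5 D166437) (iv1 D79905) F321875 (iv6 F318663) F330292
theorem E96022 : n147026 = n84072 := (c3_3 F334095 F320884 (iv6 F321818) (iv2 F275603))
theorem E96023 : n173922 = n134643 := (((iv1 F319931)).symm.trans (sb E96022 (iv1 F330252)))
theorem E96024 : n173921 = n134655 := (((iv0 F319930)).symm.trans (sb E96022 F332295))
theorem E96025 : n176291 = n68938 := ((D176291).symm.trans (sb E96022 (iv4 D147026)))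
theorem E96026 : n176292 = n69506 := ((D176292).symm.trans (sb E96022 F321818))
theorem F334096 : act 0 n134643 = n83167 := (sb E96023 (iv1 D173922))
theorem F334097 : act 1 n134643 = n84072 := (sb E96023 F319931)
theorem F334098 : act 0 n134655 = n84072 := (sb E96024 F319930)
theorem F334099 : act 1 n134655 = n83167 := (sb E96024 (iv0 D173921))
theorem F334100 : act 4 n68938 = n84072 := (sb E96025 (iv4 D176291))
theorem F334101 : act 6 n69506 = n84072 := (sb E96026 (iv6 D176292))
theorem F334102 : act 4 n117482 = n173728 := d10_3 F334095 (iv4 D148265) (iv6 F321817)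
theorem F334103 : act 5 n148265 = n107681 := d12_1 F334095 F166314 D126912 F326276 D173728
theorem F334104 : act 7 n143720 = n119644 := d14_4 F317735 F334095 F320885 (iv6 F324157) F188694
theorem F334105 : act 0 n173728 = n167596 := d21_10 (iv5 D167596) F325529 (iv5 F316737) (iv6 D66824) D66821 (iv6 F334094) (iv5 D107709) (iv1 F167353) (iv5 F334103) (iv6 F334095)
theorem F334106 : act 3 n164213 = n173728 := d20_3 (iv4 F327798) (iv1 F192330) (iv4 F283774) F334105 F263857 (iv4 F301467) (iv1 D83058) (iv4 D38222) (iv3 F59066) D83014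
theorem F334107 : act 6 n167596 = n118049 := d21_5 (iv5 D107709) (iv1 F167353) (iv5 F334103) (iv6 F334095) F334105 F185439 F155889 F114724 D76686 (iv1 F326212)
theorem F334108 : act 1 n119661 = n167596 := d15_0 (iv0 F334105) (iv7 F317735) (iv2 F188748)
theorem F334109 : act 4 n116789 = n119661 := d18_7 F325529 F324402 (iv1 D133857) F98494 D134665 F331617 (iv0 F313425) F334108 (iv5 D167596)
theorem F334110 : act 4 n149242 = n167596 := d20_6 F312726 (iv1 F105820) (iv4 F315213) F309244 (iv1 F311004) (iv3 F234632) (iv1 F334108) (iv4 F334109) F182327 (iv1 F312722)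
theorem E96027 : n173933 = n166441 := (c21_8 D167596 (iv1 F334108) (iv5 D119661) (iv6 D55056) (iv1 F42626) D38289 D83171 D173933 F330282 F330268 (iv1 D167594))
theorem F334111 : act 0 n166441 = n83189 := (sb E96027 (iv1 F272576))
theorem F334112 : act 1 n166441 = n83171 := (sb E96027 (iv0 D173933))
theorem E96028 : n128196 = n119664 := ((c21_9 F184005 (iv1 F155890) (iv5 F185439) (iv6 F334107) (iv1 F334108) F188750 (iv5 D55059) D55057 D119664 (iv6 D128196) (iv1 F184008))).symm
theorem F334113 : act 1 n119664 = n152721 := (sb E96028 (iv0 F239930))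
theorem F334114 : act 3 n119664 = n60270 := (sb E96028 F206334)
theorem F334115 : act 4 n119664 = n86742 := (sb E96028 F206335)
theorem F334116 : act 6 n119664 = n60269 := (sb E96028 (iv6 D128196))
theorem F334117 : act 6 n134575 = n117485 := d21_5 (iv5 D119661) F318018 D84079 (iv6 F320108) D134575 F184005 (iv1 F155890) (iv5 F185439) (iv6 F334107) (iv1 F334108)
theorem E96029 : n152357 = n135333 := (c7_3 F334117 F184004 D152357 F217562)
theorem E96030 : n129267 = n114698 := (((iv2 F217561)).symm.trans (sb E96029 F239558))
theorem F334118 : act 4 n135333 = n114659 := (sb E96029 F239559)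
theorem F334119 : act 6 n135333 = n71880 := (sb E96029 (iv6 D152357))
theorem F334120 : act 1 n114698 = n135281 := (sb E96030 (iv0 F217498))
theorem F334121 : act 2 n114698 = n135333 := (sb E96030 F217561)
theorem F334122 : act 3 n114698 = n60762 := (sb E96030 F207475)
theorem F334123 : act 5 n114698 = n60759 := (sb E96030 (iv5 D129267))
theorem F334124 : act 7 n114698 = n129783 := (sb E96030 (iv7 F208128))
theorem F334125 : act 4 n117486 = n134575 := d10_3 F334117 (iv4 D117485) D117486
theorem F334126 : act 4 n170649 = n137731 := d16_4 (iv4 F334125) F184011 (iv4 F187494) F311986 (iv5 D137731) (iv4 F103653) (iv5 F325881) (iv7 F314430) F314428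
theorem F334127 : act 4 n136835 = n130740 := d16_0 (iv5 F216546) (iv4 F334125) F184011 (iv4 F187494) F311986 F334126 (iv5 D137731) (iv7 F326707) F326706
theorem F334128 : act 3 n118002 = n134576 := d20_5 (iv4 F313086) (iv1 F290266) F313927 (iv3 F332425) (iv1 F333349) (iv4 D134576) D134575 (iv4 F334125) F184010 F313068
theorem F334129 : act 7 n134576 = n139976 := d8_2 (iv7 F333352) F334128 F223204
theorem F334130 : act 4 n106095 = n132631 := d20_0 F212895 D134576 (iv3 F334128) (iv1 D118002) F85790 F311593 (iv1 D31985) (iv4 F49502) (iv3 F102686) (iv1 F316404)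
theorem F334131 : act 2 n170667 = n131165 := d16_9 F210083 F317240 F334130 F325881 F103653 D137731 (iv4 F334126) (iv5 F311986) F311987
theorem F334132 : act 5 n134576 = n170021 := d18_4 (iv1 F316404) F334130 F212895 D134576 F268092 (iv0 F268093) (iv4 F315556) F315554 (iv5 F309603)
theorem E96031 : n170023 = n118002 := (c6_3 F334132 (iv3 D170021) D170023 F334128)
theorem F334133 : act 5 n118002 = n81548 := (sb E96031 (iv5 D170023))
theorem F334134 : act 5 n170020 = n141466 := d2_2 F334133 D170020 (iv2 F333350)
theorem F334135 : act 0 n170024 = n107972 := d21_4 (iv5 F332426) (iv1 F333349) F334133 D170024 (iv6 D107972) F78859 (iv1 F106207) D148902 (iv6 F233966) F332434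
theorem E96032 : n139952 = n127146 := (c21_5 (iv5 D81550) D81548 (iv5 F334133) F333351 (iv1 F224536) (iv6 D127146) (iv5 D59695) (iv1 F102511) (iv5 F103127) D140833 F332439)
theorem F334136 : act 0 n127146 = n65705 := (sb E96032 (iv1 D139952))
theorem F334137 : act 1 n127146 = n141476 := (sb E96032 F224536)
theorem F334138 : act 0 n107891 = n170024 := d21_4 (iv5 D24302) D24298 D49829 D107891 (iv6 D170024) (iv5 F334133) (iv1 D118002) (iv5 F98044) (iv6 D62820) F54289
theorem F334139 : act 7 n139951 = n137900 := d15_2 F334137 F224537 F221149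
theorem F334140 : act 3 n176312 = n141476 := d19_19 (iv1 F334137) F321568 (iv4 F321781) (iv3 D83955) (iv1 F128923) F317508 (iv4 F97717) (iv3 D62071) (iv1 F47080) D60864 D129546 F313830 F311397 F87523 (iv4 F302496) (iv3 F87078) F318018 D84079 D176312
theorem F334141 : act 6 n134576 = n176312 := d7_0 F334140 (iv6 F333351) F334128
theorem F334142 : act 7 n141469 = n176312 := d8_0 F334140 (iv7 D141476) (iv3 F224524)
theorem F334143 : act 0 n176312 = n134394 := d19_4 D63098 D134304 (iv4 F333167) (iv3 F334140) (iv5 D134394) (iv4 D63133) F48003 D29853 (iv5 F80552) (iv4 D51075) (iv3 F45574) (iv1 F46966) (iv5 F46967) F38166 (iv3 F38162) (iv1 F78074) F78071 (iv4 F46993) D29842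
theorem F334144 : act 4 n134394 = n175777 := d20_2 D176312 F334143 (iv3 D175777) (iv1 F272111) F272108 (iv4 F318696) (iv1 F104746) (iv4 F104754) (iv3 F225426) F330292
theorem F334145 : act 5 n114197 = n175777 := d18_4 (iv1 D134641) (iv4 D63266) (iv1 F86349) (iv4 F308848) (iv4 F334144) (iv0 F334143) (iv4 D176312) (iv0 F330292) F330258
theorem F334146 : act 2 n175777 = n118566 := d2_1 F334145 (iv5 D118566) (iv2 F308847)
theorem E96033 : n175779 = n114461 := (c6_3 F334145 (iv3 D175777) D175779 F178516)
theorem F334147 : act 5 n114461 = n83904 := (sb E96033 (iv5 D175779))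
theorem F334148 : act 6 n175777 = n114200 := d12_2 D114197 F334145 (iv5 D114200) (iv6 D52714) D52713
theorem F334149 : act 7 n175777 = n134627 := d13_2 (iv7 F308849) F334145 (iv5 D134627)
theorem E96034 : n175777 = n175338 := (c17_2 (iv1 F308846) F334145 (iv1 D175338) (iv5 D83733) D83732 (iv5 F312962) F208630 (iv5 F215565) F315472 (iv4 F315477))
theorem F334150 : act 2 n175338 = n118566 := (sb E96034 F334146)
theorem F334151 : act 3 n175338 = n83904 := (sb E96034 (iv3 D175777))
theorem F334152 : act 4 n175338 = n134394 := (sb E96034 (iv4 F334144))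
theorem F334153 : act 5 n175338 = n114197 := (sb E96034 (iv5 F334145))
theorem F334154 : act 6 n175338 = n114200 := (sb E96034 F334148)
theorem F334155 : act 7 n175338 = n134627 := (sb E96034 F334149)
theorem F334156 : act 1 n175338 = n142544 := d17_8 (iv1 D66826) (iv5 F318483) D117380 (iv5 F235305) (iv4 F331617) (iv5 D134665) (iv0 F308845) (iv5 F334153) (iv4 D142544)
theorem E96035 : n176322 = n117479 := ((c18_3 (iv1 D175338) F322876 (iv1 F318660) (iv4 D176322) (iv5 F330262) (iv4 F315475) F213228 F98494 (iv0 F308845) (iv5 F334153))).symm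
theorem F334157 : act 4 n117479 = n84082 := (sb E96035 (iv4 D176322))
theorem F334158 : act 5 n130219 = n142544 := d17_1 (iv1 F320196) (iv1 F334156) F334153 F308848 F86347 (iv0 D29884) D29888 (iv0 F216480) (iv4 F312381)
theorem F334159 : act 2 n142544 = n175144 := d2_1 F334158 (iv5 D175144) (iv2 F315336)
theorem F334160 : act 3 n142544 = n130264 := d6_1 F334158 (iv5 D130264) (iv3 F208741)
theorem E96036 : n142540 = n134363 := (c9_11 F334158 (iv4 D142544) (iv5 F331618) (iv4 D134375) (iv5 D63127) (iv4 F208357) F312962 (iv4 D83732) D83733 F322876 D142540 (iv4 D134363) (iv5 D63123) (iv4 F208351) D130211 F315327)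
theorem F334161 : act 5 n134363 = n66825 := (sb E96036 (iv5 D142540))
theorem F334162 : act 6 n142544 = n130223 := d12_2 D130219 F334158 (iv5 D130223) (iv6 D61127) D61126
theorem F334163 : act 7 n142544 = n175333 := d13_2 (iv7 F315337) F334158 (iv5 D175333)
theorem E96037 : n142544 = n134667 := (c17_6 (iv1 F213228) (iv5 D132766) F208624 D130211 F315327 F334158 (iv0 D134667) (iv5 D63276) D63275 (iv4 F98494))
theorem F334164 : act 0 n134667 = n175338 := (sb E96037 (iv1 F334156))
theorem F334165 : act 2 n134667 = n175144 := (sb E96037 F334159)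
theorem F334166 : act 3 n134667 = n130264 := (sb E96037 F334160)
theorem F334167 : act 4 n134667 = n66826 := (sb E96037 (iv4 D142544))
theorem F334168 : act 5 n134667 = n130219 := (sb E96037 (iv5 F334158))
theorem F334169 : act 6 n134667 = n130223 := (sb E96037 F334162)
theorem F334170 : act 7 n134667 = n175333 := (sb E96037 F334163)
theorem F334171 : act 0 n134394 = n173734 := d18_2 F334164 F334152 (iv4 D173734) (iv5 D83082) (iv4 F317491) F98480 (iv4 F318042) (iv0 F315334) (iv5 F334168)
theorem F334172 : act 0 n130223 = n120680 := d21_4 (iv5 D175092) (iv1 F320196) (iv5 F334168) F334169 (iv6 D120680) F89588 (iv1 F156011) F156014 (iv6 F332285) (iv1 F332289)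
theorem E96038 : n158489 = n134672 := (c21_4 F208679 D133255 F315479 D158489 (iv1 D134672) (iv6 D63277) D63276 D134667 F334168 (iv6 D130219) (iv1 F216530))
theorem F334173 : act 3 n134672 = n75609 := (sb E96038 F249690)
theorem F334174 : act 6 n134672 = n75606 := (sb E96038 (iv6 D158489))
theorem F334175 : act 2 n130341 = n134672 := d3_3 F334174 (iv2 F315476) D130341
theorem F334176 : act 4 n134663 = n134672 := d10_3 F334174 (iv4 F315477) D134663
theorem E96039 : n152468 = n134672 := (c21_5 F86967 (iv1 D33230) D33232 D71920 D152468 F334174 (iv5 F315479) (iv1 F327896) F327900 (iv6 D119658) F87076)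
theorem F334177 : act 1 n134672 = n71920 := (sb E96039 (iv0 D152468))
theorem F334178 : act 7 n152469 = n130341 := d15_2 F334177 D152469 F334175
theorem F334179 : act 3 n134663 = n130330 := d20_3 (iv4 F108433) (iv1 F334177) (iv4 F334176) (iv1 D130330) (iv3 F97303) (iv4 F213680) F333402 (iv4 F330195) (iv3 D134676) F308711
theorem F334180 : act 4 n119819 = n135427 := d20_2 (iv4 F309702) F190493 (iv3 D135427) F307462 F127174 (iv4 F108433) (iv1 F334177) (iv4 F334176) F334179 (iv1 D130330)
theorem F334181 : act 2 n135427 = n98195 := d1_1 F334180 (iv4 F303573) F192070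
theorem E96040 : n137333 = n135428 := ((c5_3 F334180 (iv3 D135427) D135428 F220515 D137336 F324303)).symm
theorem F334182 : act 3 n135428 = n64556 := (sb E96040 F220515)
theorem F334183 : act 5 n135428 = n64555 := (sb E96040 (iv5 D137333))
theorem F334184 : act 6 n135427 = n128251 := d10_2 F231537 F334180 (iv4 F231538)
theorem F334185 : act 7 n135427 = n98194 := d11_2 (iv7 F192069) F334180 F300769
theorem F334186 : act 5 n135427 = n149939 := d16_7 F128085 (iv5 F302720) F332007 (iv5 D87893) (iv4 F305359) (iv5 F190704) F334180 F256950 F317076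
theorem F334187 : act 0 n135427 = n98193 := d17_0 (iv5 F310294) (iv1 F312579) (iv5 D60267) F46201 F51016 F190515 D55133 D119819 F334180
theorem F334188 : act 1 n135427 = n98197 := d18_6 (iv1 D70522) F302973 D41007 (iv4 F305359) (iv5 F190704) F334180 (iv4 F303552) (iv0 F206134) (iv5 F191374)
theorem E96041 : n161159 = n133075 := (c18_3 (iv1 F330193) F330195 (iv1 F263212) F213724 F97314 (iv4 F305681) D119819 F334180 F334188 F312593)
theorem F334189 : act 0 n133075 = n77369 := (sb E96041 (iv1 D161159))
theorem F334190 : act 1 n133075 = n167114 := (sb E96041 F263212)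
theorem F334191 : act 0 n124695 = n126794 := d18_0 F331983 F306429 (iv4 F242395) F332024 (iv4 F332027) F333401 (iv4 F213724) F334190 (iv5 F331984)
theorem F334192 : act 1 n141028 = n126794 := d15_0 (iv0 F334191) (iv7 F329829) F329827
theorem F334193 : act 7 n126794 = n101214 := d15_2 (iv0 F325011) F334192 F155925
theorem F334194 : act 6 n93340 = n126624 := d14_3 F334193 F155926 (iv7 F143961) F203701 D126794
theorem F334195 : act 4 n128148 = n155165 := d16_6 F329714 F304421 (iv4 F304234) (iv5 D73029) (iv4 F190649) D128148 (iv5 F331980) (iv7 F334193) F204048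
theorem F334196 : act 2 n128150 = n128148 := d1_3 F334195 (iv2 D155165) (iv4 F206280)
theorem F334197 : act 4 n128151 = n126800 := d9_9 D128148 F334195 (iv5 F331980) (iv4 D101214) (iv5 D47136) (iv4 F303694) F52925 (iv4 F190644) D128151 (iv5 D126800) F329714 F304421 (iv4 F304234) (iv5 D73029) (iv4 F190649)
theorem F334198 : act 7 n128151 = n128150 := d16_8 F334195 (iv5 F331980) (iv4 D101214) (iv5 D47136) (iv4 F303694) F52925 (iv4 F190644) D128151 F334196
theorem F334199 : act 5 n126798 = n172607 := d17_7 (iv1 D128154) (iv5 D60235) D60233 D128148 F334195 (iv5 F331980) (iv0 F329826) (iv0 D172607) (iv4 F306793)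
theorem E96042 : n172607 = n154166 := (c2_1 F334199 (iv2 F315031) (iv5 F325014) (iv2 F329827))
theorem E96043 : n167112 = n82635 := ((F312583).symm.trans (sb E96042 (iv0 D172607)))
theorem F334200 : act 5 n154166 = n126798 := (sb E96042 (iv5 F334199))
theorem F334201 : act 0 n82635 = n154166 := (sb E96043 (iv1 F312583))
theorem E96044 : n172608 = n80227 := ((D172608).symm.trans (sb E96043 (iv0 D167112)))
theorem F334202 : act 0 n80227 = n82635 := (sb E96044 (iv1 D172608))
theorem F334203 : act 5 n167113 = n154148 := d17_3 D126798 (iv5 F334200) F312582 (iv4 D154148) (iv5 D73019) (iv0 F190551) (iv5 F306427) F306425 (iv4 F329714)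
theorem E96045 : n167113 = n62438 := (c18_1 F312582 F97312 D62439 D133078 F311889 (iv4 D73104) F306424 D101214 (iv0 F329826) (iv5 F334200))
theorem E96046 : n133072 = n80227 := ((D133072).symm.trans (sb E96045 (iv1 D167113)))
theorem E96047 : n154166 = n133073 := (((D133073).symm.trans (sb E96045 (iv0 F312582)))).symm
theorem E96048 : n154148 = n133074 := (((D133074).symm.trans (sb E96045 F334203))).symm
theorem F334204 : act 1 n80227 = n62438 := (sb E96046 (iv0 D133072))
theorem F334205 : act 1 n133073 = n82635 := (sb E96047 (iv0 F334201))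
theorem F334206 : act 2 n133073 = n77369 := (sb E96047 (iv2 F315031))
theorem F334207 : act 3 n133073 = n131535 := (sb E96047 F312584)
theorem F334208 : act 4 n133073 = n73037 := (sb E96047 (iv4 D154166))
theorem F334209 : act 5 n133073 = n126798 := (sb E96047 F334200)
theorem F334210 : act 7 n133073 = n167114 := (sb E96047 F312585)
theorem F334211 : act 0 n133074 = n141060 := (sb E96048 F331985)
theorem F334212 : act 4 n133074 = n73019 := (sb E96048 (iv4 D154148))
theorem F334213 : act 6 n133074 = n162819 := (sb E96048 (iv6 F331987))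
theorem F334214 : act 6 n133073 = n131533 := d21_3 (iv5 D126800) D126798 (iv5 F334209) F314729 (iv6 D83596) (iv5 D38547) F59358 F59357 D77542 (iv1 F331974)
theorem F334215 : act 0 n184295 = n158696 := d19_4 (iv1 F334205) F334209 F329828 D184295 (iv5 D158696) (iv4 D75695) (iv3 F87541) (iv1 F319359) F311883 (iv4 F206249) F206248 (iv1 F190937) F307144 (iv4 F119491) F60247 (iv1 F42560) D54946 F304244 F127911
theorem F334216 : act 6 n155165 = n173201 := d21_3 F334209 F329826 F331980 (iv1 D173201) (iv6 D82882) (iv5 F123115) F123117 F113261 D82635 (iv1 F334205)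
theorem E96049 : n161963 = n101616 := (c3_2 F334216 F273982 F316743 D155165)
theorem F334217 : act 0 n101616 = n173199 := (sb E96049 (iv1 F271478))
theorem F334218 : act 1 n101616 = n77794 := (sb E96049 (iv0 D161963))
theorem F334219 : act 2 n101616 = n173201 := (sb E96049 (iv2 F273982))
theorem F334220 : act 4 n101616 = n175055 := (sb E96049 F273981)
theorem F334221 : act 7 n101616 = n173200 := (sb E96049 (iv7 F273984))
theorem F334222 : act 6 n160963 = n128148 := d10_2 F334216 (iv4 F314131) F334195
theorem F334223 : act 6 n128150 = n175055 := d3_2 F334222 (iv2 F334196) (iv2 F314130)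
theorem F334224 : act 3 n128148 = n108297 := d7_1 F334222 F167447 (iv3 F254167)
theorem F334225 : act 7 n128148 = n141378 := d14_2 D160963 F334222 F224421 F205329 F119803
theorem F334226 : act 2 n141378 = n128151 := d4_1 F334225 F334198 F334196
theorem F334227 : act 5 n141378 = n119832 := d13_1 F334225 (iv7 F189935) D128148
theorem F334228 : act 0 n130388 = n141378 := d17_2 (iv1 F306307) D130388 F334227 (iv4 D119832) F304233 D86487 (iv5 F306270) F109495 D73021
theorem F334229 : act 1 n130383 = n141378 := d17_6 (iv1 F190001) D32715 D70521 (iv5 F205224) F309698 D130383 F334227 (iv0 F190003) F94794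
theorem F334230 : act 4 n172399 = n130383 := d18_7 (iv1 F190032) F94726 F190013 (iv4 F190660) D154158 F332029 (iv0 F332032) F334229 F334227
theorem F334231 : act 3 n120206 = n130388 := d19_19 F334228 F334227 (iv4 D119832) (iv3 D55139) (iv1 D26645) (iv5 D12732) F9355 (iv3 F9483) D12875 D26906 (iv4 F302666) (iv3 F130058) (iv1 F320972) (iv5 D128293) F94852 (iv3 F94848) (iv1 F278071) F309986 (iv4 F332074)
theorem E96050 : n163025 = n162973 := (c21_1 (iv5 F314068) (iv1 F277845) (iv5 F334038) F233880 (iv1 F233878) F308259 D130388 F334228 F334227 F306272 (iv1 F311613))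
theorem F334232 : act 2 n162973 = n83599 := (sb E96050 F314066)
theorem F334233 : act 3 n162973 = n164554 := (sb E96050 F314067)
theorem F334234 : act 4 n162973 = n78392 := (sb E96050 (iv4 D163025))
theorem F334235 : act 5 n162973 = n83594 := (sb E96050 F314068)
theorem F334236 : act 6 n162973 = n78580 := (sb E96050 F323680)
theorem F334237 : act 0 n127732 = n132964 := d21_4 F206285 F190003 (iv5 F334227) F224421 (iv6 D132964) F97283 (iv1 F213152) D29514 D62424 (iv1 F333399)
theorem F334238 : act 1 n127732 = n133009 := d15_1 (iv0 F334237) (iv7 D133009) (iv2 F213601)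
theorem F334239 : act 1 n163664 = n132964 := d15_0 (iv0 F334237) F205329 (iv2 F257995)
theorem E96051 : n160957 = n131694 := (c21_8 (iv5 F23393) F213153 (iv5 F97283) D132964 (iv1 F334239) F257997 (iv5 D160959) D160957 (iv5 D131694) (iv6 D61792) (iv1 D29286))
theorem F334240 : act 0 n131694 = n77246 := (sb E96051 (iv1 F254164))
theorem F334241 : act 1 n131694 = n77244 := (sb E96051 (iv0 D160957))
theorem F334242 : act 5 n163662 = n131709 := d21_2 (iv5 D163664) D163662 (iv6 D131709) (iv1 D61795) (iv6 D29288) (iv5 F23393) F213153 (iv5 F97283) D132964 (iv1 F334239)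
theorem F334243 : act 0 n131709 = n158406 := d21_1 F334242 F320006 F302655 F329023 (iv6 D78573) (iv5 F250801) (iv1 F57239) (iv5 F56474) D78633 D163662
theorem F334244 : act 0 n172012 = n160959 := d21_4 F301923 D75458 (iv5 F126892) D172012 (iv6 F257997) (iv5 D163664) D163662 F334242 (iv6 D131709) (iv1 D61795)
theorem E96052 : n173961 = n128228 := ((c20_10 D173962 (iv1 F314197) F270069 (iv3 F270065) F334244 (iv3 F316581) (iv4 D162838) F300243 (iv4 F310098) (iv3 F206360) (iv1 D173961))).symm
theorem F334245 : act 0 n128228 = n83182 := (sb E96052 (iv1 D173961))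
theorem F334246 : act 4 n160959 = n173200 := d20_0 (iv1 F271479) (iv4 F271502) F271501 (iv1 F128235) D83182 D173962 (iv1 F314197) F270069 (iv3 F270065) F334244
theorem F334247 : act 5 n147643 = n172012 := d21_0 F334244 (iv5 D160959) F116006 (iv1 F57244) (iv6 F333993) F94405 (iv1 F50687) D32180 D69192 D147643
theorem F334248 : act 6 n121167 = n147643 := d21_5 F250818 (iv1 D35793) (iv5 F43514) D55907 D121167 F334247 F334244 (iv5 D160959) F116006 (iv1 F57244)
theorem E96053 : n131536 = n121167 := (c12_6 F334248 F334247 (iv6 D172012) F126892 (iv6 F306791) D131536)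
theorem F334249 : act 0 n121167 = n133069 := (sb E96053 (iv1 F213719))
theorem E96054 : n133068 = n55907 := ((((iv0 D121167)).symm.trans (sb E96053 F213718))).symm
theorem F334250 : act 2 n121167 = n61725 := (sb E96053 F210788)
theorem F334251 : act 4 n121167 = n132116 := (sb E96053 (iv4 F211645))
theorem F334252 : act 5 n121167 = n61724 := (sb E96053 (iv5 D131536))
theorem F334253 : act 7 n121167 = n133025 := (sb E96053 (iv7 F213676))
theorem E96055 : n121168 = n62437 := ((D121168).symm.trans (sb E96054 (iv0 D133068)))
theorem F334254 : act 0 n62437 = n55907 := (sb E96055 (iv1 D121168))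
theorem F334255 : act 2 n131541 = n147643 := d3_3 (iv6 F334248) F334250 D131541
theorem F334256 : act 5 n172612 = n131541 := d2_0 F334255 F334247 (iv2 F270834)
theorem F334257 : act 7 n147644 = n131541 := d15_2 (iv0 D147643) D147644 F334255
theorem F334258 : act 3 n131555 = n147644 := d8_3 F334257 F210791 D131555
theorem F334259 : act 0 n130682 = n146871 := d19_8 F334254 (iv5 F322747) F299931 (iv3 D38797) (iv1 F59662) (iv5 F315274) F95798 D130682 (iv5 F252146) F314526 (iv3 F280305) F280307 (iv5 D150305) (iv4 F130919) F312172 (iv1 D61687) D61689 (iv4 F96332) (iv3 F97309)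
theorem F334260 : act 3 n164098 = n133070 := d20_5 (iv4 D78846) (iv1 D35892) (iv4 F56553) (iv3 F120005) D164098 (iv4 D133070) F334254 (iv4 F193207) F193206 (iv1 F298016)
theorem F334261 : act 5 n177586 = n133071 := d21_2 D163002 (iv1 F277041) (iv6 D133071) F334254 (iv6 D55907) F43514 D35792 (iv5 F250801) (iv6 F334014) (iv1 F333963)
theorem F334262 : act 5 n124974 = n104805 := d21_2 (iv5 F322747) F200730 (iv6 D104805) (iv1 F328688) F122603 D163002 (iv1 F277041) F334261 (iv6 D133071) F334254
theorem F334263 : act 7 n133069 = n121166 := d15_2 (iv0 F334254) D133069 F193229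
theorem F334264 : act 2 n120961 = n133069 := d4_3 F334263 F193229 (iv7 F302191)
theorem F334265 : act 3 n163523 = n133069 := d8_3 F334263 F193230 D163523
theorem F334266 : act 6 n120959 = n133069 := d14_5 F334263 (iv6 D121166) F88450 D78501 (iv7 F302176)
theorem F334267 : act 5 n133069 = n175174 := d6_2 (iv5 F322743) F334265 (iv3 F274202)
theorem E96056 : n131539 = n121166 := (c13_4 (iv7 F334263) F334267 (iv7 F313256) F216508)
theorem F334268 : act 0 n121166 = n61725 := (sb E96056 (iv1 D131539))
theorem F334269 : act 1 n121166 = n133025 := (sb E96056 F213677)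
theorem F334270 : act 5 n121166 = n134528 := (sb E96056 (iv5 F216508))
theorem F334271 : act 4 n175174 = n132095 := d17_4 (iv1 F97307) (iv5 F334252) F334249 F334267 (iv5 D132095) F211564 F320705 F205694 F312344
theorem F334272 : act 6 n175175 = n162690 := d21_3 F334267 (iv1 D175174) D175175 (iv1 F256928) F119327 (iv5 F254168) (iv1 F318965) (iv5 F334247) (iv6 F334248) F334249
theorem F334273 : act 5 n130266 = n163353 := d21_2 (iv5 F317564) (iv1 F310691) (iv6 D163353) (iv1 F302175) F334266 F334267 (iv1 D175174) D175175 F334272 (iv1 F256928)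
theorem F334274 : act 5 n121144 = n132097 := d16_1 (iv4 F193207) (iv4 D132097) (iv5 D61978) D61977 D132095 (iv4 F334271) (iv5 F334267) F334263 F193229
theorem E96057 : n163357 = n132748 := (c21_1 D163357 (iv1 D132748) F322726 (iv6 F302213) (iv1 F328290) D104805 (iv5 F334262) (iv1 F274201) (iv5 F334267) (iv6 F334266) F302174)
theorem F334275 : act 5 n132748 = n78503 := (sb E96057 (iv5 D163357))
theorem F334276 : act 5 n158101 = n96122 := d17_1 (iv1 F276080) (iv1 D96122) F328296 F122305 (iv5 F322726) D132748 F334275 (iv0 F302174) (iv4 F276077)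
theorem E96058 : n130327 = n78503 := (c21_6 D104804 (iv1 F292806) F292807 F320998 D69180 (iv6 F333912) (iv5 F334275) (iv1 D132748) F322726 (iv6 F302213) (iv1 F328290))
theorem E96059 : n146673 = n120957 := ((((iv2 F302180)).symm.trans (sb E96058 F333910))).symm
theorem E96060 : n163356 = n146022 := ((D163356).symm.trans (sb E96058 F333911))
theorem E96061 : n132748 = n61159 := (((iv5 F334275)).symm.trans (sb E96058 F208846))
theorem E96062 : n163358 = n69180 := ((D163358).symm.trans (sb E96058 F333912))
theorem E96063 : n120958 = n61158 := (((iv7 F302178)).symm.trans (sb E96058 (iv7 D130327)))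
theorem F334277 : act 3 n120957 = n138162 := (sb E96059 (iv3 F333913))
theorem F334278 : act 5 n120957 = n129950 := (sb E96059 F333909)
theorem F334279 : act 6 n120957 = n68741 := (sb E96059 (iv6 D146673))
theorem E96064 : n130284 = n78502 := (((F302181).symm.trans (sb E96059 (iv7 F333959)))).symm
theorem F334280 : act 3 n146022 = n78832 := (sb E96060 F302187)
theorem F334281 : act 4 n146022 = n78503 := (sb E96060 (iv4 D163356))
theorem E96065 : n130283 = n62303 := (((iv1 F208820)).symm.trans (sb E96061 (iv1 D132748)))
theorem E96066 : n130282 = n129952 := ((F208819).symm.trans (sb E96061 F213133))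
theorem F334282 : act 5 n61159 = n78503 := (sb E96061 F334275)
theorem F334283 : act 6 n69180 = n78503 := (sb E96062 (iv6 D163358))
theorem E96067 : n130324 = n55788 := ((D130324).symm.trans (sb E96063 (iv1 D120958)))
theorem E96068 : n130325 = n78501 := ((D130325).symm.trans (sb E96063 F302188))
theorem E96069 : n130298 = n80039 := (((iv3 F208834)).symm.trans (sb E96063 F262485))
theorem F334284 : act 7 n61158 = n78503 := (sb E96063 F302178)
theorem F334285 : act 2 n78502 = n61158 := (sb E96064 F208821)
theorem E96070 : n163352 = n61144 := ((D163352).symm.trans (sb E96064 (iv5 D130284)))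
theorem E96071 : n132747 = n61144 := ((D132747).symm.trans (sb E96065 (iv1 D130283)))
theorem F334286 : act 1 n62303 = n61159 := (sb E96065 F208820)
theorem F334287 : act 0 n129952 = n61159 := (sb E96066 (iv1 F208819))
theorem F334288 : act 1 n55788 = n61158 := (sb E96067 (iv0 D130324))
theorem F334289 : act 0 n78501 = n61158 := (sb E96068 (iv1 D130325))
theorem F334290 : act 3 n80039 = n61158 := (sb E96069 F208834)
theorem E96072 : n166747 = n61150 := ((D166747).symm.trans (sb E96069 (iv5 D130298)))
theorem F334291 : act 5 n61144 = n78502 := (sb E96070 (iv5 D163352))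
theorem F334292 : act 0 n61144 = n129952 := (sb E96071 (iv1 F213128))
theorem F334293 : act 1 n61144 = n62303 := (sb E96071 (iv0 D132747))
theorem E96073 : n130296 = n121196 := ((D130296).symm.trans (sb E96072 F262489))
theorem E96074 : n130297 = n121216 := ((D130297).symm.trans (sb E96072 F262490))
theorem F334294 : act 5 n61150 = n80039 := (sb E96072 (iv5 D166747))
theorem F334295 : act 1 n121196 = n61150 := (sb E96073 (iv0 D130296))
theorem F334296 : act 0 n121216 = n61150 := (sb E96074 (iv1 D130297))
theorem E96075 : n166755 = n129162 := (c17_5 F334296 F334294 (iv1 D80039) D80041 D166755 (iv5 D129162) F203358 F326011 D132665 F326009)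
theorem E96076 : n132240 = n129816 := ((((iv0 F208164)).symm.trans (sb E96075 (iv0 F324208)))).symm
theorem F334297 : act 4 n129162 = n80041 := (sb E96075 (iv4 D166755))
theorem E96077 : n166788 = n129160 := (((F208165).symm.trans (sb E96076 F324209))).symm
theorem F334298 : act 3 n129816 = n62046 := (sb E96076 F211878)
theorem F334299 : act 4 n129816 = n62089 := (sb E96076 F211879)
theorem F334300 : act 6 n129816 = n129477 := (sb E96076 F211880)
theorem F334301 : act 7 n129816 = n62039 := (sb E96076 (iv7 D132240))
theorem F334302 : act 4 n129160 = n80061 := (sb E96077 (iv4 D166788))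
theorem F334303 : act 7 n166744 = n130288 := d15_2 (iv0 F334296) (iv0 F262474) F208823
theorem F334304 : act 2 n130299 = n166744 := d4_3 F334303 F208823 D130299
theorem F334305 : act 5 n130288 = n163804 := d13_1 F334303 (iv7 F258174) D166744
theorem F334306 : act 5 n130291 = n135487 := d16_1 (iv4 F208829) F217879 F99057 (iv4 F327426) (iv5 F254094) (iv4 F122846) D166744 F334303 F208823
theorem F334307 : act 4 n130299 = n135486 := d16_0 (iv5 D135486) F99053 F48314 (iv4 F82720) D113377 F327435 (iv5 F334305) (iv7 F334303) (iv2 F334304)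
theorem F334308 : act 4 n135477 = n166744 := d1_2 F334307 F217875 (iv2 F334304)
theorem F334309 : act 7 n135486 = n130291 := d11_2 D130299 F334307 F208829
theorem F334310 : act 5 n163355 = n130299 := d16_1 (iv4 F302185) F334307 (iv5 D135486) F99053 F48314 (iv4 F82720) D113377 F327436 D163336
theorem E96078 : n132712 = n129862 := ((c18_7 D36283 D79681 (iv1 F257969) (iv4 F302185) F334310 F334307 F217877 (iv4 D132712) (iv0 D62278) F323785)).symm
theorem F334311 : act 4 n129862 = n62278 := (sb E96078 (iv4 D132712))
theorem E96079 : n132717 = n129859 := ((c9_9 D129862 F334311 (iv5 F326013) D120985 F326803 (iv4 D59260) (iv5 F93678) D60995 D129859 (iv4 D132717) (iv5 F326015) D120990 F326805 (iv4 D59265) F93475 D60999)).symm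
theorem F334312 : act 4 n129859 = n62279 := (sb E96079 (iv4 D132717))
theorem E96080 : n165955 = n129170 := (c17_5 (iv1 F213042) F324968 (iv1 F119843) D79687 D165955 (iv5 D129170) F170848 D135486 F217877 F334311)
theorem F334313 : act 4 n129170 = n79687 := (sb E96080 (iv4 D165955))
theorem E96081 : n132665 = n129164 := (c18_9 (iv1 F208169) F208167 (iv1 F95524) D60999 D129862 F334311 (iv0 D62278) (iv4 F97070) D132665 F207398)
theorem F334314 : act 0 n129164 = n62255 := (sb E96081 (iv1 D132665))
theorem F334315 : act 4 n129164 = n121216 := (sb E96081 F326009)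
theorem E96082 : n132664 = n129165 := ((c9_9 (iv5 F207398) F334315 (iv5 D121216) (iv4 D55923) F254385 (iv4 F326211) F162153 F163870 F207399 F326008 (iv5 D121196) (iv4 D55918) F254376 (iv4 F326210) (iv5 F99061) F168299)).symm
theorem F334316 : act 1 n129165 = n62255 := (sb E96082 (iv0 D132664))
theorem F334317 : act 4 n129165 = n121196 := (sb E96082 F326008)
theorem E96083 : n132701 = n129166 := (c18_1 (iv1 F213042) (iv4 D129166) D129164 F334315 (iv5 D121216) (iv4 D55923) F60736 D86258 F132211 F326013)
theorem F334318 : act 0 n129166 = n62279 := (sb E96083 (iv1 F213041))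
theorem F334319 : act 1 n129166 = n62278 := (sb E96083 F213042)
theorem F334320 : act 2 n129166 = n62281 := (sb E96083 F213037)
theorem F334321 : act 3 n129166 = n112545 := (sb E96083 (iv3 F326076))
theorem F334322 : act 5 n129166 = n78695 := (sb E96083 F324968)
theorem F334323 : act 6 n129166 = n129708 := (sb E96083 F213039)
theorem F334324 : act 7 n129166 = n62274 := (sb E96083 (iv7 D132701))
theorem F334325 : act 3 n136231 = n166744 := d20_9 (iv4 F334315) F334314 F97070 F47247 D29470 (iv3 F322424) F94030 D64046 D136231 F262474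
theorem F334326 : act 3 n132857 = n121216 := d20_5 F80112 F23790 (iv4 F47310) (iv3 F97240) (iv1 F213409) (iv4 F334315) F334314 F97070 F47247 D29470
theorem F334327 : act 5 n121215 = n132857 := d6_0 F334326 (iv5 D121216) D121215
theorem E96084 : n163770 = n132880 := (c8_3 (iv7 F333824) F334326 (iv7 F258126) (iv3 D132880))
theorem F334328 : act 2 n132880 = n121196 := (sb E96084 F258125)
theorem F334329 : act 5 n132880 = n78679 := (sb E96084 (iv5 D163770))
theorem F334330 : act 7 n132880 = n121216 := (sb E96084 F258126)
theorem E96085 : n185901 = n129906 := (c20_3 (iv4 F324732) (iv1 F176868) (iv4 F288395) (iv3 D129906) (iv1 F326075) (iv3 F334321) (iv4 D129166) D129164 F334315 (iv3 F334326) (iv1 D132857))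
theorem F334331 : act 0 n129906 = n88540 := (sb E96085 (iv1 D185901))
theorem F334332 : act 2 n129906 = n113682 := (sb E96085 F288394)
theorem F334333 : act 4 n129906 = n113675 := (sb E96085 F288395)
theorem F334334 : act 6 n129906 = n113674 := (sb E96085 (iv6 F288393))
theorem F334335 : act 3 n113674 = n129909 := d7_1 F334334 (iv6 D129909) D129906
theorem F334336 : act 0 n134585 = n129906 := d21_4 F113575 F113577 (iv5 F315269) D134585 F334334 F176864 (iv1 D59583) D59585 F325738 D75720
theorem E96086 : n172445 = n164977 := ((c18_8 F334336 F334333 F176867 F321704 (iv5 F323673) F297298 D163440 (iv4 F260161) (iv0 F303737) (iv5 F317500))).symm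
theorem F334337 : act 1 n164977 = n167770 := (sb E96086 (iv0 F303737))
theorem F334338 : act 6 n164977 = n82566 := (sb E96086 (iv6 D172445))
theorem F334339 : act 7 n134585 = n185861 := d15_2 (iv0 F334331) (iv0 F334336) F288288
theorem F334340 : act 4 n185864 = n134585 := d11_3 F334339 F288289 D185864
theorem F334341 : act 1 n134593 = n185861 := d15_1 D134593 (iv7 F334339) F216564
theorem F334342 : act 6 n172444 = n163440 := d10_2 F334338 D172444 (iv4 F260161)
theorem F334343 : act 6 n167774 = n185531 := d21_3 F127209 (iv1 F322047) F322049 (iv1 F287817) (iv6 F334342) F333038 F218458 F332707 F326207 F127208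
theorem F334344 : act 6 n104965 = n163439 := d21_3 D75184 D157801 F280673 (iv1 F287815) (iv6 F334343) (iv5 F322049) F322046 (iv5 F127217) (iv6 F330698) (iv1 D75182)
theorem F334345 : act 2 n163439 = n180355 := d3_1 F334344 (iv6 D180355) F258240
theorem F334346 : act 7 n163440 = n180355 := d15_2 (iv0 D163439) D163440 (iv2 F334345)
theorem F334347 : act 3 n165948 = n167770 := d20_9 F260161 (iv1 D163440) (iv4 F297298) (iv3 D78822) F296845 D55780 (iv4 F132090) D180343 (iv4 F280652) (iv1 F334337)
theorem F334348 : act 6 n167768 = n165948 := d7_0 F334347 (iv6 D167770) D167768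
theorem F334349 : act 3 n105181 = n120940 := d20_9 (iv4 F132090) D180343 (iv4 F280652) F334347 (iv1 F334337) (iv3 D164977) (iv4 F327265) (iv1 D105183) (iv4 F161102) (iv1 D120940)
theorem F334350 : act 4 n120940 = n105188 := d5_2 (iv4 F161102) F334349 F161114 F76503 (iv3 F76495)
theorem F334351 : act 6 n120940 = n105179 := d7_2 D105181 F334349 (iv3 D105179)
theorem F334352 : act 0 n180365 = n105188 := d20_7 (iv4 D51959) (iv1 F81985) F326767 F121644 (iv1 F119850) D163830 (iv4 F280687) (iv4 F334350) (iv3 F334349) F173093
theorem F334353 : act 5 n105188 = n132369 := d19_1 F334352 F212369 (iv3 D62102) F79855 F320283 F56972 (iv3 D27644) (iv1 D13201) (iv5 D6275) F4226 F4225 F2717 D3536 D7795 D16708 D34448 (iv5 F256335) D86144 D180365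
theorem E96087 : n180353 = n105195 := ((c20_9 F60670 D39873 D86144 D180365 F334352 F161114 F76503 D48641 D105195 (iv3 D180353) (iv1 D86138))).symm
theorem F334354 : act 3 n105195 = n86138 := (sb E96087 (iv3 D180353))
theorem E96088 : n180354 = n106601 := (c6_3 (iv5 F332801) F334354 D180354 F164183)
theorem F334355 : act 0 n106601 = n125378 := (sb E96088 F280670)
theorem F334356 : act 1 n106601 = n157800 := (sb E96088 F280671)
theorem F334357 : act 2 n106601 = n157801 := (sb E96088 F280672)
theorem F334358 : act 5 n106601 = n86138 := (sb E96088 (iv5 D180354))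
theorem F334359 : act 7 n106601 = n157802 := (sb E96088 F280669)
theorem F334360 : act 3 n180355 = n125528 := d7_3 F201898 F334354 D180355
theorem E96089 : n113285 = n104966 := ((c8_3 F165651 F334354 (iv7 F258234) (iv3 D113285))).symm
theorem F334361 : act 3 n104966 = n52291 := (sb E96089 (iv3 D113285))
theorem F334362 : act 3 n106606 = n157802 := d6_3 F248690 F334361 (iv5 F332789)
theorem F334363 : act 4 n113266 = n170826 := d20_0 (iv1 F268408) (iv4 F267334) F267333 F160841 F334361 (iv4 D52291) (iv1 D25397) (iv4 F40170) (iv3 F82658) D113266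
theorem F334364 : act 3 n157775 = n180364 := d20_5 F40235 D25448 D52436 D113598 F327404 (iv4 F280685) (iv1 D121758) F160840 F334361 F165648
theorem F334365 : act 4 n157802 = n134348 := d5_2 (iv4 F164190) F334362 F216349 (iv4 F164171) F164170
theorem F334366 : act 6 n157802 = n131951 := d7_2 (iv6 F164191) F334362 F211423
theorem F334367 : act 2 n125637 = n186313 := d0_3 F334360 (iv2 F201895) D125637 (iv3 F289084) F334345
theorem F334368 : act 4 n112597 = n180355 := d5_0 F334360 F201894 F172573 (iv4 F172575) D112597
theorem E96090 : n163440 = n125638 := ((c8_4 F334346 F334360 F201897 D125638)).symm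
theorem F334369 : act 0 n125638 = n78545 := (sb E96090 (iv1 D163440))
theorem F334370 : act 1 n125638 = n185531 := (sb E96090 F287817)
theorem F334371 : act 4 n125638 = n164977 := (sb E96090 (iv4 F260161))
theorem F334372 : act 6 n125638 = n172444 := (sb E96090 (iv6 F334342))
theorem F334373 : act 7 n125638 = n180355 := (sb E96090 F334346)
theorem E96091 : n185530 = n180355 := ((c20_4 F92955 D58800 (iv4 F201894) (iv3 F334360) (iv1 D185530) (iv3 D88378) (iv4 D41261) (iv1 F61560) (iv4 F116030) F326754 F164062)).symm
theorem F334374 : act 0 n180355 = n88378 := (sb E96091 (iv1 D185530))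
theorem F334375 : act 1 n180355 = n163441 := (sb E96091 F287816)
theorem F334376 : act 7 n185529 = n163439 := d15_2 F334375 F287811 F334345
theorem F334377 : act 4 n164068 = n163441 := d20_0 (iv1 F334375) (iv4 F334368) (iv3 D112597) (iv1 F326512) F121644 F57018 (iv1 F56500) D78704 (iv3 F323706) F323705
theorem E96092 : n130169 = n112613 := ((c20_4 (iv4 F326767) (iv1 F81984) D51963 D112613 F324066 (iv3 F258555) F334377 (iv1 F334375) (iv4 F334368) (iv3 D112597) (iv1 F326512))).symm
theorem F334379 : act 1 n112613 = n61105 := (sb E96092 (iv0 D130169))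
theorem F334380 : act 2 n125638 = n185529 := d4_3 F334376 F334345 (iv7 F334373)
theorem F334381 : act 6 n98252 = n125376 := d21_9 D157800 (iv1 F334356) F334358 D180355 F334374 (iv6 F297613) F322049 F303715 F151639 (iv1 F201652)
theorem F334382 : act 7 n157795 = n172519 := d14_4 (iv7 F151599) F334381 F254367 D157795 (iv6 D172519)
theorem E96093 : n172523 = n163692 := (c11_3 F334382 F270710 D172523 F258039)
theorem F334383 : act 7 n163692 = n82595 := (sb E96093 (iv7 D172523))
theorem E96094 : n163700 = n158336 := ((c4_2 F334383 (iv2 F249465) (iv7 D163700) (iv2 F258038))).symm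
theorem F334384 : act 3 n158336 = n78668 := (sb E96094 F258051)
theorem F334385 : act 7 n158336 = n78652 := (sb E96094 (iv7 D163700))
theorem F334386 : act 5 n162740 = n163692 := d13_3 F334383 (iv5 F304295) D162740
theorem E96095 : n172520 = n163698 := ((c15_1 D163698 (iv0 D172520) (iv7 F334383) F258038)).symm
theorem F334387 : act 1 n163698 = n82595 := (sb E96095 (iv0 D172520))
theorem E96096 : n162740 = n47293 := ((c2_4 F334386 F258038 (iv5 F328022) F324277)).symm
theorem E96097 : n163692 = n101730 := (((D101730).symm.trans (sb E96096 F334386))).symm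
theorem E96098 : n99712 = n78201 := (((iv7 F156714)).symm.trans (sb E96096 (iv7 D162740)))
theorem F334388 : act 2 n101730 = n78652 := (sb E96097 F258038)
theorem F334389 : act 4 n101730 = n157795 := (sb E96097 F258039)
theorem F334390 : act 6 n101730 = n78649 := (sb E96097 (iv6 D163692))
theorem F334391 : act 7 n101730 = n82595 := (sb E96097 F334383)
theorem E96099 : n173866 = n162737 := (((D162737).symm.trans (sb E96098 F286217))).symm
theorem E96100 : n178449 = n162738 := (((D162738).symm.trans (sb E96098 F321041))).symm
theorem E96101 : n162710 = n119382 := (((iv2 F256943)).symm.trans (sb E96098 F321042))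
theorem E96102 : n173205 = n162722 := ((((iv3 F256957)).symm.trans (sb E96098 F321043))).symm
theorem E96103 : n162736 = n46584 := (((iv4 F256963)).symm.trans (sb E96098 (iv4 D99712)))
theorem F334392 : act 7 n78201 = n47293 := (sb E96098 F156714)
theorem F334393 : act 0 n162737 = n84913 := (sb E96099 (iv1 F324276))
theorem F334394 : act 2 n162737 = n101464 := (sb E96099 F272511)
theorem F334395 : act 3 n162737 = n83149 := (sb E96099 F272512)
theorem F334396 : act 4 n162737 = n87384 := (sb E96099 F272513)
theorem F334397 : act 6 n162737 = n83147 := (sb E96099 (iv6 D173866))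
theorem F334398 : act 1 n162738 = n84913 := (sb E96100 (iv0 D178449))
theorem F334399 : act 2 n119382 = n78201 := (sb E96101 F256943)
theorem F334400 : act 5 n119382 = n158336 := (sb E96101 (iv5 F302487))
theorem F334401 : act 6 n119382 = n78187 := (sb E96101 (iv6 D162710))
theorem F334402 : act 0 n162722 = n82886 := (sb E96102 (iv1 D173205))
theorem F334403 : act 1 n162722 = n82891 := (sb E96102 F271493)
theorem F334404 : act 2 n162722 = n82889 := (sb E96102 (iv2 F271495))
theorem F334405 : act 7 n162722 = n82888 := (sb E96102 F271494)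
theorem F334406 : act 4 n46584 = n78201 := (sb E96103 F256963)
theorem E96104 : n99714 = n78200 := ((D99714).symm.trans (sb E96103 (iv6 D162736)))
theorem E96105 : n162734 = n46587 := ((D162734).symm.trans (sb E96104 F153513))
theorem F334407 : act 6 n78200 = n46584 := (sb E96104 (iv6 D99714))
theorem F334408 : act 3 n46587 = n78200 := (sb E96105 (iv3 D162734))
theorem F334409 : act 3 n162709 = n101803 := d0_2 F334408 (iv2 F256942) F156770 F74544 (iv2 F156707)
theorem F334410 : act 3 n162735 = n99722 := d6_3 (iv5 D99722) F334408 D162735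
theorem F334411 : act 3 n121044 = n99723 := d8_3 (iv7 D99723) F334408 (iv7 F193030)
theorem F334412 : act 3 n123276 = n162730 := d20_5 F307519 F309561 (iv4 F309563) F197554 (iv1 F197562) (iv4 D162730) (iv1 D78199) D78200 (iv3 F334408) D99720
theorem F334413 : act 2 n162730 = n124683 := d0_1 F334412 F199452 F92127 (iv3 F109473) F197560
theorem F334414 : act 7 n162730 = n124679 := d8_2 (iv7 F197559) F334412 F199450
theorem F334415 : act 6 n153954 = n162730 := d14_5 F334414 (iv6 D124679) F92120 D72859 D153954
theorem E96106 : n178422 = n162731 := ((c10_3 F334415 (iv4 D162730) D162731 (iv4 F331877))).symm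
theorem F334416 : act 0 n162731 = n101470 := (sb E96106 (iv1 F278013))
theorem F334417 : act 1 n162731 = n84895 := (sb E96106 (iv0 D178422))
theorem F334418 : act 2 n162731 = n101467 := (sb E96106 (iv2 F285163))
theorem F334419 : act 4 n162731 = n153954 := (sb E96106 (iv4 F331877))
theorem F334420 : act 7 n162731 = n101468 := (sb E96106 F285162)
theorem F334421 : act 3 n153954 = n89030 := d20_3 (iv4 F130108) (iv1 F334417) F334419 (iv1 F301619) (iv3 D123028) F120849 (iv1 D55352) F42977 (iv3 F44422) (iv1 F301992)
theorem F334422 : act 6 n89030 = n123276 := d7_2 (iv6 F334415) F334421 F334412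
theorem F334423 : act 5 n123276 = n150906 := d21_6 (iv5 F35076) (iv1 D19582) D19584 D41583 D89030 F334422 (iv1 D150906) (iv5 F327597) (iv6 D37583) (iv1 F35072)
theorem F334424 : act 5 n99294 = n115954 := d21_0 F320755 (iv5 F334423) (iv6 F334422) (iv1 F301619) (iv6 F304338) D125111 (iv1 F201005) (iv5 F307381) F307382 (iv1 F152886)
theorem F334425 : act 6 n115953 = n100434 := d12_4 (iv6 F152883) F334424 (iv6 D115954) D115953 F154487
theorem F334426 : act 4 n141046 = n171133 := d17_4 D85413 (iv5 F313707) F209607 D141046 (iv5 D171133) F152885 F334424 F327042 (iv4 F327046)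
theorem F334427 : act 6 n116258 = n171128 := d21_5 D65466 F181590 (iv5 D53584) D53585 D116258 (iv5 D171128) (iv1 F152886) F334424 (iv6 D115954) (iv1 F84360)
theorem F334428 : act 6 n171133 = n138623 := d21_3 (iv5 F334424) (iv1 F152885) D171133 (iv1 D138623) (iv6 D65088) D65087 F328071 F327598 F327048 (iv1 F327042)
theorem F334429 : act 0 n138624 = n139493 := d21_1 D138624 (iv5 D139493) (iv6 D65463) (iv1 F84358) D115954 (iv5 F334424) (iv1 F152885) D171133 F334428 (iv1 D138623)
theorem F334430 : act 4 n146356 = n138623 := d17_9 (iv1 D138623) D138624 F334429 (iv5 D139493) (iv4 F320790) (iv5 D117906) (iv0 F326377) F232250 F233224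
theorem F334431 : act 2 n138623 = n148650 := d1_1 F334430 (iv4 D148650) F233153
theorem F334432 : act 6 n141046 = n146356 := d10_0 F334430 (iv6 F334428) (iv4 F334426)
theorem F334433 : act 1 n138698 = n146348 := d18_6 D146356 F334430 (iv1 D138623) F100875 D65122 D138698 (iv4 D146348) (iv0 D68624) D68626
theorem F334434 : act 0 n139853 = n114406 := d20_7 D146348 (iv1 F334433) (iv4 D138698) F100897 (iv1 F49213) (iv3 F101377) D139853 F318223 F104813 D68624
theorem F334435 : act 1 n139853 = n145011 := d15_1 (iv0 F334434) (iv7 D145011) (iv2 F318222)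
theorem E96107 : n147057 = n146313 := (c20_10 F314676 (iv1 F334435) (iv4 D139853) F101377 F315610 (iv3 F104529) (iv4 F105414) (iv1 F241182) (iv4 D147058) D147057 (iv1 F314674))
theorem F334436 : act 3 n146313 = n68954 := (sb E96107 (iv3 D147057))
theorem F334437 : act 4 n146313 = n144976 := (sb E96107 (iv4 F278625))
theorem F334438 : act 7 n146313 = n69289 := (sb E96107 F241163)
theorem E96108 : n146314 = n145511 := ((c15_4 (iv0 F314673) F314674 F334438 (iv2 F324924))).symm
theorem F334439 : act 0 n145511 = n68612 := (sb E96108 (iv1 D146314))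
theorem F334440 : act 1 n145511 = n139089 := (sb E96108 (iv0 F314673))
theorem E96109 : n145509 = n114755 := (c21_2 (iv5 D145511) D145509 (iv5 D114755) (iv6 D52958) (iv1 F83627) (iv6 F311816) (iv5 D72790) F232347 (iv5 F230808) (iv6 F314677) (iv1 F334440))
theorem F334441 : act 1 n114755 = n68233 := (sb E96109 (iv0 D145509))
theorem F334442 : act 5 n139853 = n114800 := d17_1 (iv1 F334435) (iv1 D114800) (iv5 D52972) (iv4 F83690) D114755 F334441 D145511 F334440 F314676
theorem F334443 : act 6 n114566 = n139853 := d21_5 F40612 (iv1 F24834) (iv5 F40594) D52886 D114566 F334442 (iv1 D114800) (iv5 D52972) (iv6 D25712) (iv1 F40611)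
theorem F334444 : act 2 n139853 = n120108 := d3_1 F334443 (iv6 D120108) (iv2 F283760)
theorem F334445 : act 4 n139839 = n114566 := d10_3 F334443 (iv4 D139853) (iv6 F223050)
theorem F334446 : act 2 n120106 = n139839 := d1_3 F334445 F283760 D120106
theorem E96110 : n164212 = n73945 := (c5_3 F334445 F283761 F283757 (iv3 F303107) F315596 (iv3 F223049))
theorem E96111 : n155477 = n133333 := ((D155477).symm.trans (sb E96110 (iv1 F326288)))
theorem E96112 : n155478 = n78890 := ((D155478).symm.trans (sb E96110 (iv0 D164212)))
theorem E96113 : n155449 = n152435 := (((iv2 F244422)).symm.trans (sb E96110 (iv2 F283771)))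
theorem E96114 : n155476 = n120659 := (((iv4 F244470)).symm.trans (sb E96110 (iv4 F283757)))
theorem E96115 : n155480 = n152436 := ((D155480).symm.trans (sb E96110 F283759))
theorem F334447 : act 1 n133333 = n73945 := (sb E96111 (iv0 D155477))
theorem F334448 : act 0 n78890 = n73945 := (sb E96112 (iv1 D155478))
theorem F334449 : act 2 n152435 = n73945 := (sb E96113 F244422)
theorem F334450 : act 6 n152435 = n73919 := (sb E96113 (iv6 D155449))
theorem F334451 : act 4 n120659 = n73945 := (sb E96114 F244470)
theorem F334452 : act 6 n120659 = n73944 := (sb E96114 (iv6 D155476))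
theorem F334453 : act 7 n152436 = n73945 := (sb E96115 (iv7 D155480))
theorem F334454 : act 1 n179985 = n139839 := d17_8 (iv1 F178657) (iv5 F171458) (iv1 F178867) (iv5 D114771) F318646 (iv5 F183362) (iv0 F234419) (iv5 F280336) F334445
theorem F334455 : act 4 n179985 = n119069 := d20_2 (iv4 F334445) (iv1 F334454) (iv3 F193587) (iv1 F193590) (iv3 F312185) (iv4 D131642) (iv1 F112324) (iv4 F314407) F106202 D114566
theorem F334456 : act 4 n164347 = n149202 := d1_2 F334455 (iv2 F259005) (iv2 F280335)
theorem E96116 : n97265 = n87470 := (c20_5 F334455 (iv1 F258972) F258973 (iv3 D97286) (iv1 F150020) F313208 (iv4 F313209) (iv1 F305924) F315596 (iv3 F223049) (iv1 F334454))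
theorem E96117 : n183241 = n45440 := ((D183241).symm.trans (sb E96116 (iv1 D97265)))
theorem E96118 : n183242 = n45445 := ((D183242).symm.trans (sb E96116 F150020))
theorem E96119 : n169837 = n97264 := (((D97264).symm.trans (sb E96117 (iv1 F284896)))).symm
theorem F334457 : act 1 n45440 = n87470 := (sb E96117 (iv0 D183241))
theorem F334458 : act 0 n45445 = n87470 := (sb E96118 (iv1 D183242))
theorem F334459 : act 2 n97264 = n154049 := (sb E96119 (iv2 F308127))
theorem F334460 : act 3 n97264 = n158934 := (sb E96119 F332557)
theorem F334461 : act 4 n97264 = n96249 := (sb E96119 F267269)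
theorem F334462 : act 5 n97264 = n115216 := (sb E96119 (iv5 F332563))
theorem F334463 : act 6 n97264 = n95911 := (sb E96119 (iv6 F312745))
theorem F334464 : act 7 n97264 = n81444 := (sb E96119 (iv7 D169837))
theorem F334465 : act 3 n170400 = n179985 := d20_5 F134288 (iv1 F332548) (iv4 D81704) D81703 D170400 F334455 (iv1 F258972) F258973 (iv3 D97286) F334458
theorem F334466 : act 6 n179979 = n170400 := d7_0 F334465 (iv6 D179985) (iv3 F280305)
theorem F334467 : act 5 n97288 = n153231 := d21_6 (iv5 D58350) F190780 (iv5 F312744) (iv6 F334463) (iv1 F150025) D97288 (iv1 F240660) (iv5 F313010) F313011 F92212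
theorem F334468 : act 2 n157465 = n97288 := d2_3 F334467 (iv2 F241217) D157465
theorem F334469 : act 7 n157469 = n97288 := d13_0 F334467 F241221 D157469
theorem F334470 : act 0 n97288 = n169961 := d21_1 (iv5 F334467) (iv5 D169961) (iv6 D81525) (iv1 D37227) (iv6 F307649) (iv5 D16610) D16608 (iv5 F52637) D72355 D153231
theorem F334471 : act 6 n170060 = n153231 := d21_5 (iv5 F306562) F306561 F105112 D81613 (iv1 F267527) (iv5 F334467) F334470 (iv5 D169961) (iv6 D81525) (iv1 D37227)
theorem F334472 : act 3 n153231 = n170569 := d7_1 F334471 (iv6 D170569) (iv3 F267525)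
theorem F334473 : act 5 n120688 = n170060 := d21_2 D131256 (iv1 F210338) F334471 (iv1 F240660) (iv6 D74917) F54486 (iv1 F52717) D72421 (iv6 F209976) (iv1 F209977)
theorem E96120 : n145524 = n97287 := (c12_3 (iv6 F334471) (iv5 F334473) F322357 (iv5 D97287) D97288 F334467)
theorem F334474 : act 0 n97287 = n142829 := (sb E96120 (iv1 F228584))
theorem F334475 : act 1 n97287 = n142828 := (sb E96120 F228585)
theorem F334476 : act 2 n97287 = n142831 := (sb E96120 F228581)
theorem F334477 : act 6 n97287 = n120688 := (sb E96120 (iv6 F322357))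
theorem F334478 : act 7 n97287 = n68237 := (sb E96120 (iv7 D145524))
theorem E96121 : n145523 = n96551 := (c13_2 F334478 D145523 F288183 D97287)
theorem E96122 : n142830 = n45440 := (((F288182).symm.trans (sb E96121 F228579))).symm
theorem F334479 : act 5 n96551 = n68237 := (sb E96121 (iv5 D145523))
theorem F334480 : act 6 n96551 = n68240 := (sb E96121 F228580)
theorem E96123 : n97267 = n66947 := ((D97267).symm.trans (sb E96122 (iv5 D142830)))
theorem E96124 : n116862 = n97268 := (((D97268).symm.trans (sb E96122 F225723))).symm
theorem F334481 : act 5 n66947 = n45440 := (sb E96123 (iv5 D97267))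
theorem F334482 : act 0 n97268 = n68823 := (sb E96124 F324919)
theorem F334483 : act 1 n97268 = n74579 := (sb E96124 F324920)
theorem F334484 : act 2 n97268 = n68240 := (sb E96124 (iv2 F182569))
theorem F334485 : act 3 n97268 = n68955 := (sb E96124 F324921)
theorem E96125 : n127637 = n45442 := (((F150022).symm.trans (sb E96124 F324922))).symm
theorem F334486 : act 5 n97268 = n53850 := (sb E96124 (iv5 D116862))
theorem F334487 : act 7 n97268 = n69284 := (sb E96124 F324923)
theorem E96126 : n97275 = n59932 := ((D97275).symm.trans (sb E96125 (iv1 D127637)))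
theorem E96127 : n147869 = n97278 := (((D97278).symm.trans (sb E96125 (iv7 F241187)))).symm
theorem F334488 : act 1 n59932 = n45442 := (sb E96126 (iv0 D97275))
theorem F334489 : act 0 n97278 = n127635 := (sb E96127 F231648)
theorem F334490 : act 2 n97278 = n127636 := (sb E96127 F241188)
theorem F334491 : act 4 n97278 = n69284 := (sb E96127 (iv4 D147869))
theorem F334492 : act 5 n127636 = n103608 := d2_2 (iv5 F288198) F334490 F288199
theorem F334493 : act 7 n127636 = n96553 := d4_2 D97278 F334490 F288186
theorem E96128 : n145537 = n96553 := ((c11_1 F334493 (iv4 D145537) D145538 F324928)).symm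
theorem F334494 : act 4 n96553 = n68240 := (sb E96128 (iv4 D145537))
theorem F334495 : act 6 n97294 = n127636 := d14_5 F334493 (iv6 D96553) (iv7 F288187) D45447 D97294
theorem F334496 : act 1 n97276 = n127636 := d15_1 D97276 F334493 F288186
theorem F334497 : act 2 n127635 = n97276 := d15_3 F334496 (iv0 D127636) (iv7 F205195)
theorem F334498 : act 5 n103732 = n97276 := d17_7 F324925 (iv5 D74579) (iv1 F315360) F313063 (iv4 D48034) D48035 D103732 F334496 (iv4 F324928)
theorem E96129 : n127630 = n103193 := (c21_6 D48040 (iv1 F159180) F334498 (iv6 F150031) F317840 D127630 (iv5 D103193) (iv1 F158283) F158280 (iv6 F75368) (iv1 F75370))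
theorem F334499 : act 4 n103193 = n146714 := (sb E96129 (iv4 F243015))
theorem F334500 : act 6 n103193 = n59929 := (sb E96129 (iv6 D127630))
theorem E96130 : n103193 = n95925 := ((c14_1 D95925 F334500 (iv7 F192090) F313190 F315581 D44775)).symm
theorem F334501 : act 1 n95925 = n97203 := (sb E96130 (iv0 F290449))
theorem F334502 : act 4 n95925 = n146714 := (sb E96130 F334499)
theorem F334503 : act 5 n95925 = n47825 := (sb E96130 (iv5 D103193))
theorem F334504 : act 6 n95925 = n59929 := (sb E96130 F334500)
theorem E96131 : n103195 = n95924 := (c13_3 D95925 F334503 D103195 (iv5 D95924))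
theorem F334505 : act 2 n95924 = n47826 := (sb E96131 F158446)
theorem F334506 : act 7 n95924 = n47825 := (sb E96131 (iv7 D103195))
theorem F334507 : act 5 n103192 = n172792 := d16_3 (iv4 F334502) F334503 D103192 (iv4 D172792) (iv5 F315405) F105539 D69281 D147859 (iv2 F243013)
theorem F334508 : act 4 n127555 = n97203 := d17_9 (iv1 F334501) F334503 (iv1 F158283) F158280 F317107 D117172 (iv0 F315758) F315761 (iv0 F261825)
theorem F334509 : act 4 n147416 = n172798 := d16_6 D172792 (iv5 F334507) (iv4 D103192) (iv5 F334503) F334502 F243016 (iv5 D172798) F271058 (iv2 D172790)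
theorem E96132 : n147858 = n95519 := ((c16_10 (iv4 D147858) (iv5 D69281) (iv4 F105539) F315405 D172792 (iv5 F334507) (iv4 D103192) (iv5 F334503) (iv7 D95925) (iv2 F317864))).symm
theorem F334510 : act 4 n95519 = n69281 := (sb E96132 (iv4 D147858))
theorem F334511 : act 5 n172797 = n103197 := d9_14 (iv5 F147140) F334510 (iv5 D69281) (iv4 F105539) F315405 D172792 (iv5 F334507) (iv4 D103192) (iv5 F334503) F334502 F243016 F334509 (iv5 D172798) D172797 (iv4 D103197)
theorem F334512 : act 1 n97203 = n95519 := d18_6 (iv1 F242965) D146704 F242981 D147186 F243151 F334508 F334510 (iv0 F105541) (iv5 D69009)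
theorem F334513 : act 7 n172798 = n147415 := d16_8 F105539 D69281 (iv4 F334510) F147140 D103197 (iv5 F334511) (iv4 D172797) D172798 F231163
theorem F334514 : act 2 n147853 = n172798 := d4_3 F334513 F231163 D147853
theorem F334515 : act 5 n147415 = n172790 := d13_1 F334513 (iv7 F271058) D172798
theorem F334516 : act 6 n147820 = n172798 := d14_5 F334513 (iv6 D147415) F192060 D69257 D147820
theorem F334517 : act 1 n147461 = n172798 := d15_1 (iv0 F243360) F334513 F231163
theorem F334518 : act 1 n147853 = n124534 := d15_0 F313328 (iv7 F334513) (iv2 F334514)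
theorem F334519 : act 0 n152434 = n147820 := d21_4 (iv5 F298865) (iv1 F128078) F128076 D152434 F334516 (iv5 D172798) (iv1 D82732) F310749 F308643 D82745
theorem F334520 : act 5 n148832 = n152434 := d18_9 F334519 F231581 (iv1 F231147) F334064 (iv5 F334057) (iv4 D148836) (iv0 D69760) (iv4 F106168) D148832
theorem F334521 : act 4 n159121 = n152434 := d18_1 (iv1 F250528) F334519 F231581 (iv5 F192074) D120559 (iv0 F192120) F106168 D69761 (iv5 F231477)
theorem E96133 : n96784 = n96243 := ((c20_2 F312743 (iv1 F148022) (iv4 D96784) F312023 (iv1 F210458) F309839 F334521 F334519 F231581 (iv3 F310544) D95911)).symm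
theorem F334522 : act 3 n96243 = n164496 := (sb E96133 F261856)
theorem F334523 : act 4 n96243 = n45228 := (sb E96133 (iv4 D96784))
theorem F334524 : act 5 n147820 = n98141 := d21_8 D83148 F128207 F59158 D45890 D98194 F300771 F334520 F334519 (iv6 D98141) (iv1 F72397)
theorem F334525 : act 7 n152434 = n147818 := d15_2 F261843 (iv0 F334519) (iv2 F261840)
theorem F334526 : act 6 n147818 = n133331 := d14_1 F334525 F214338 F327107 (iv7 F307683) D152434
theorem F334527 : act 4 n98148 = n147412 := d16_4 F231360 F113914 F300710 D98148 F231153 (iv4 F192122) (iv5 F334052) (iv7 F334525) (iv2 F308687)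
theorem F334528 : act 2 n147820 = n98148 := d1_3 F334527 F231152 (iv4 F231581)
theorem F334529 : act 4 n148682 = n175973 := d5_2 F334527 (iv3 F310416) (iv3 D175973) (iv4 F128958) (iv3 F151373)
theorem E96134 : n148848 = n147571 := (c9_13 D98148 F334527 F231153 (iv4 F192122) (iv5 F334052) (iv4 F233885) F233886 F305167 F334059 F105525 D69266 F130791 D148848 F231360 F113914 F300710)
theorem F334530 : act 0 n147571 = n98148 := (sb E96134 (iv1 F300723))
theorem F334531 : act 5 n147571 = n69766 := (sb E96134 (iv5 D148848))
theorem F334532 : act 6 n147853 = n98148 := d10_0 F334527 F231154 (iv4 F231625)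
theorem F334533 : act 5 n144823 = n148834 := d17_5 (iv1 F231155) (iv5 F190714) (iv1 F200443) F200441 D144823 F233712 (iv5 F334052) F334050 F334527
theorem F334534 : act 3 n131441 = n164561 := d19_15 D72378 (iv5 F231153) (iv4 F334527) F151373 (iv1 F298798) (iv5 D80429) F297013 (iv3 F296583) F116624 F91402 (iv4 F116664) (iv3 F116564) (iv1 F312917) F330830 (iv4 F330828) (iv1 D164561) (iv5 D79035) F56685 (iv3 F52684)
theorem E96135 : n175162 = n147582 := (c20_6 (iv4 F301466) (iv1 F128006) F59488 (iv3 F59409) (iv1 F128710) D175162 F231369 (iv1 F231156) (iv4 F334527) F151373 (iv1 F298798))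
theorem F334535 : act 3 n147582 = n83661 := (sb E96135 (iv3 D175162))
theorem F334536 : act 7 n147582 = n83744 := (sb E96135 F274177)
theorem E96136 : n175360 = n147750 := (c16_10 F231497 (iv5 F190714) (iv4 F306247) (iv5 F334047) F231108 (iv5 D69777) D69776 (iv5 F334045) F334536 D175360)
theorem F334537 : act 2 n147750 = n83744 := (sb E96136 (iv2 D175360))
theorem F334538 : act 3 n175163 = n158978 := d5_3 (iv4 F231369) F334535 D175163 (iv4 D158978) F190459
theorem E96137 : n152264 = n147580 := (c7_3 D147582 F334535 (iv6 F332276) (iv3 D147580))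
theorem F334539 : act 0 n147580 = n71837 := (sb E96137 (iv1 D152264))
theorem F334540 : act 1 n147580 = n114439 := (sb E96137 F239317)
theorem F334541 : act 2 n147580 = n83752 := (sb E96137 F332275)
theorem F334542 : act 4 n147580 = n120453 := (sb E96137 F239319)
theorem F334543 : act 5 n147580 = n86452 := (sb E96137 (iv5 F239321))
theorem F334544 : act 6 n147580 = n83661 := (sb E96137 F332276)
theorem F334545 : act 7 n147580 = n123088 := (sb E96137 F239318)
theorem F334546 : act 6 n123088 = n175374 := d14_1 F334545 (iv7 D175374) (iv6 D83747) (iv7 F234232) (iv6 F334544)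
theorem F334547 : act 4 n175374 = n123089 := d10_1 F334546 (iv6 D123089) D123088
theorem F334548 : act 7 n123089 = n175368 := d11_2 D175374 F334547 F274415
theorem F334549 : act 6 n175163 = n120453 := d14_3 F334548 (iv6 D175368) (iv7 F274179) F191898 D123089
theorem F334550 : act 3 n120453 = n117574 := d7_1 F334549 (iv6 F250311) (iv3 F334538)
theorem F334551 : act 7 n117574 = n123085 := d8_2 (iv7 F191898) F334550 F197276
theorem F334552 : act 6 n175130 = n120666 := d21_9 F251192 F241961 (iv5 F334543) F334544 (iv1 D83661) (iv6 F128702) (iv5 D83649) D83647 D175130 F251196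
theorem F334553 : act 0 n175148 = n93850 := d21_4 (iv5 D38568) D38566 D83653 D175148 (iv6 F251193) F251192 F241961 (iv5 F334543) F334544 (iv1 D83661)
theorem F334554 : act 0 n119367 = n175315 := d21_4 (iv5 F186392) (iv1 F254536) F254533 F189843 (iv6 D175315) F316063 F313581 F191403 (iv6 F334544) F334539
theorem F334555 : act 3 n101598 = n175130 := d7_3 F334552 (iv3 D120666) (iv6 F304865)
theorem F334556 : act 4 n123814 = n175130 := d10_3 F334552 F192347 D123814
theorem E96138 : n175230 = n175130 := (c12_6 F334552 (iv5 F305808) F305809 F112921 (iv6 F310547) D175230)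
theorem F334557 : act 2 n175130 = n83689 := (sb E96138 F274265)
theorem E96139 : n83686 = n83647 := ((((iv5 D175130)).symm.trans (sb E96138 (iv5 D175230)))).symm
theorem F334558 : act 7 n175130 = n83694 := (sb E96138 F274266)
theorem E96140 : n175226 = n38581 := ((((iv1 F128704)).symm.trans (sb E96139 D175226))).symm
theorem E96142 : n175127 = n38578 := ((D175127).symm.trans (sb E96139 (iv2 D83686)))
theorem E96143 : n175128 = n47259 := ((D175128).symm.trans (sb E96139 (iv3 F312766)))
theorem E96144 : n175129 = n143741 := ((D175129).symm.trans (sb E96139 (iv4 F312770)))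
theorem E96145 : n175131 = n47256 := ((D175131).symm.trans (sb E96139 F310547))
theorem E96146 : n175132 = n38579 := ((D175132).symm.trans (sb E96139 (iv7 F128758)))
theorem E96147 : n83691 = n83648 := ((((iv1 F128700)).symm.trans (sb E96140 (iv1 F274260)))).symm
theorem F334559 : act 2 n38578 = n83647 := (sb E96142 (iv2 D175127))
theorem F334560 : act 3 n47259 = n83647 := (sb E96143 (iv3 D175128))
theorem F334561 : act 4 n143741 = n83647 := (sb E96144 (iv4 D175129))
theorem F334562 : act 6 n47256 = n83647 := (sb E96145 (iv6 D175131))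
theorem F334563 : act 7 n38579 = n83647 := (sb E96146 (iv7 D175132))
theorem F334564 : act 2 n83648 = n38579 := (sb E96147 F128759)
theorem E96148 : n175133 = n174295 := ((D175133).symm.trans (sb E96147 (iv3 F312768)))
theorem E96149 : n175134 = n114682 := ((D175134).symm.trans (sb E96147 (iv4 F312774)))
theorem E96150 : n175249 = n175135 := (((D175135).symm.trans (sb E96147 (iv5 F274279)))).symm
theorem E96151 : n175136 = n131340 := ((D175136).symm.trans (sb E96147 (iv6 F333439)))
theorem F334565 : act 7 n83648 = n38578 := (sb E96147 (iv7 D83691))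
theorem F334566 : act 3 n174295 = n83648 := (sb E96148 (iv3 D175133))
theorem F334567 : act 4 n114682 = n83648 := (sb E96149 (iv4 D175134))
theorem F334568 : act 2 n175135 = n83694 := (sb E96150 F274278)
theorem F334569 : act 7 n175135 = n83689 := (sb E96150 (iv7 D175249))
theorem F334570 : act 6 n131340 = n83648 := (sb E96151 (iv6 D175136))
theorem F334571 : act 7 n119367 = n175265 := d14_4 (iv7 F334558) F334552 F192348 F189843 (iv6 D175265)
theorem E96152 : n175248 = n123100 := (c3_3 (iv6 F334552) F334557 D175248 F197297)
theorem F334572 : act 6 n123100 = n83689 := (sb E96152 (iv6 D175248))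
theorem E96153 : n174294 = n69008 := (c7_2 F334572 (iv3 F312767) (iv6 F305669) (iv3 F197298))
theorem E96154 : n147204 = n83689 := ((D147204).symm.trans (sb E96153 F312767))
theorem E96155 : n147205 = n83312 := ((D147205).symm.trans (sb E96153 (iv5 D174294)))
theorem F334573 : act 3 n83689 = n69008 := (sb E96154 (iv3 D147204))
theorem E96156 : n147766 = n77548 := ((((iv1 F315771)).symm.trans (sb E96155 F240607))).symm
theorem F334574 : act 5 n83312 = n69008 := (sb E96155 (iv5 D147205))
theorem E96157 : n161516 = n69231 := ((D161516).symm.trans (sb E96156 (iv5 D147766)))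
theorem E96158 : n147759 = n77550 := (((iv3 F231500)).symm.trans (sb E96157 F255517))
theorem F334575 : act 5 n69231 = n77548 := (sb E96157 (iv5 D161516))
theorem E96159 : n174282 = n147767 := (((D147767).symm.trans (sb E96157 (iv7 F303094)))).symm
theorem F334576 : act 3 n77550 = n69231 := (sb E96158 F231500)
theorem E96160 : n148653 = n69228 := (((iv6 F324874)).symm.trans (sb E96158 (iv6 D147759)))
theorem F334577 : act 3 n147767 = n83303 := (sb E96159 F273075)
theorem F334578 : act 5 n147767 = n83302 := (sb E96159 (iv5 D174282))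
theorem E96161 : n147755 = n117951 := ((D147755).symm.trans (sb E96160 (iv0 F308904)))
theorem E96162 : n157552 = n147756 := (((D147756).symm.trans (sb E96160 (iv2 F248282)))).symm
theorem E96163 : n147757 = n120191 := ((D147757).symm.trans (sb E96160 F233416))
theorem E96164 : n147758 = n69666 := ((D147758).symm.trans (sb E96160 (iv5 D148653)))
theorem F334579 : act 6 n69228 = n77550 := (sb E96160 F324874)
theorem E96165 : n157551 = n147388 := ((((iv7 F233774)).symm.trans (sb E96160 (iv7 F248280)))).symm
theorem F334580 : act 0 n117951 = n69228 := (sb E96161 (iv1 D147755))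
theorem F334581 : act 0 n147756 = n180564 := (sb E96162 F314033)
theorem F334582 : act 1 n147756 = n84880 := (sb E96162 F314034)
theorem F334583 : act 4 n147756 = n74996 := (sb E96162 (iv4 D157552))
theorem F334584 : act 5 n147756 = n117911 := (sb E96162 F248283)
theorem F334585 : act 6 n147756 = n83331 := (sb E96162 F325891)
theorem F334586 : act 7 n147756 = n148657 := (sb E96162 F248285)
theorem F334587 : act 4 n120191 = n69228 := (sb E96163 (iv4 D147757))
theorem E96166 : n148652 = n69230 := ((D148652).symm.trans (sb E96164 F231499))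
theorem F334588 : act 5 n69666 = n69228 := (sb E96164 (iv5 D147758))
theorem F334589 : act 2 n147388 = n148657 := (sb E96165 F248279)
theorem F334590 : act 4 n147388 = n74991 := (sb E96165 (iv4 D157551))
theorem F334591 : act 5 n147388 = n117914 := (sb E96165 F248281)
theorem F334592 : act 3 n69230 = n69666 := (sb E96166 (iv3 D148652))
theorem E96167 : n175247 = n123101 := (c10_2 F334572 D175247 (iv6 D123101) D123100)
theorem F334593 : act 4 n123101 = n83689 := (sb E96167 (iv4 D175247))
theorem F334594 : act 3 n148650 = n147762 := d5_5 (iv4 D147762) F334592 (iv4 D69666) D69665 D148650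
theorem E96168 : n147763 = n141060 := ((c7_4 (iv6 D147763) F334592 F318476 D141060)).symm
theorem F334595 : act 6 n141060 = n69230 := (sb E96168 (iv6 D147763))
theorem F334596 : act 3 n117914 = n147389 := d8_3 F233778 F334592 F200100
theorem E96169 : n166168 = n146713 := (c19_18 F318134 (iv5 F316197) D69666 (iv3 F334592) (iv1 F231490) (iv5 F231491) (iv4 D119877) (iv3 D55169) (iv1 F42729) (iv5 D12742) F298696 F5710 D3710 D8245 D17545 D36336 D79786 D166168 F230045 F104968)
theorem F334597 : act 5 n146713 = n79786 := (sb E96169 (iv5 D166168))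
theorem F334598 : act 3 n147746 = n107603 := d20_5 (iv4 D32338) D32336 D69666 (iv3 F334592) (iv1 F231490) F166019 (iv1 F166076) D108228 F319646 (iv1 D69673)
theorem F334599 : act 4 n111155 = n147746 := d5_0 F334598 F166019 (iv3 F80596) (iv4 F80880) (iv3 F172403)
theorem F334600 : act 3 n144556 = n119877 := d6_3 F231491 F334598 F331694
theorem F334601 : act 6 n107601 = n147746 := d7_0 F334598 (iv6 D107603) D107601
theorem F334602 : act 3 n172857 = n112772 := d19_15 (iv1 D50906) (iv5 F78547) (iv4 F166019) (iv3 F334598) (iv1 D147746) (iv5 D69225) D69224 D147741 F233286 F233284 (iv4 D73934) D73933 F184600 D82757 D172857 F326509 (iv5 D121740) (iv4 F326669) (iv3 F82013)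
theorem F334603 : act 5 n163127 = n172857 := d6_0 F334602 F326510 (iv3 F257445)
theorem E96170 : n172845 = n124664 := (c20_8 F315210 (iv1 D68766) (iv4 F314935) (iv3 F325705) D112772 (iv3 F334602) (iv4 D172857) (iv1 F271107) (iv4 D124664) F92072 (iv1 F57081))
theorem F334604 : act 0 n124664 = n82752 := (sb E96170 (iv1 D172845))
theorem F334605 : act 1 n124664 = n82757 := (sb E96170 F271107)
theorem E96171 : n175449 = n124662 := (c18_6 (iv1 D38034) F29375 D22715 F184683 D83781 D175449 (iv0 D124662) D124664 F334605 (iv5 D82757))
theorem F334606 : act 4 n124662 = n83781 := (sb E96171 (iv4 D175449))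
theorem F334607 : act 5 n166159 = n124662 := d17_3 (iv1 D166844) (iv5 F320070) D166159 F334606 (iv5 D83781) (iv0 D38602) D38604 D83789 (iv4 F298403)
theorem F334608 : act 5 n160687 = n175446 := d17_5 F334604 (iv5 D82752) (iv1 F184601) D155458 F298233 F323503 F334607 (iv0 D124662) D124664
theorem E96172 : n174860 = n86225 := (c21_7 (iv5 F334607) (iv1 F323503) (iv5 F334608) (iv6 F298188) (iv1 F249563) D175463 F274711 (iv1 D86225) D86226 F132174 D124662)
theorem E96173 : n175463 = n148879 := ((((iv5 F323079)).symm.trans (sb E96172 (iv5 F274711)))).symm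
theorem E96174 : n180552 = n83527 := ((D180552).symm.trans (sb E96172 (iv6 D174860)))
theorem F334609 : act 6 n148879 = n83789 := (sb E96173 (iv6 D175463))
theorem F334610 : act 6 n83527 = n86225 := (sb E96174 (iv6 D180552))
theorem E96175 : n174856 = n147669 := ((c7_3 F334610 (iv3 F323077) D147669 F273717)).symm
theorem F334611 : act 3 n147669 = n83527 := (sb E96175 F273717)
theorem F334612 : act 5 n147669 = n83525 := (sb E96175 (iv5 D174856))
theorem F334613 : act 6 n108915 = n174859 := d10_2 F334610 (iv4 F323078) (iv4 D174859)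
theorem F334614 : act 6 n112704 = n161588 := d14_5 F311758 F334610 (iv7 F323080) F166935 (iv7 F175410)
theorem E96176 : n174181 = n107591 := (c21_4 F127840 (iv1 F298138) (iv5 F300624) D174181 (iv1 F175411) F334614 F311757 (iv1 D80168) F320327 F318145 D82952)
theorem F334615 : act 5 n107591 = n84029 := (sb E96176 F272976)
theorem F334616 : act 6 n107591 = n83258 := (sb E96176 (iv6 D174181))
theorem E96177 : n130817 = n130809 := ((c21_8 F128631 (iv1 F123104) (iv5 F311757) (iv6 F334614) (iv1 F175412) F324593 (iv5 F321980) (iv1 F209363) F330892 F280837 (iv1 F330878))).symm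
theorem F334617 : act 2 n130809 = n61365 := (sb E96177 F209370)
theorem F334618 : act 5 n130809 = n180444 := (sb E96177 F330892)
theorem F334619 : act 7 n130809 = n61364 := (sb E96177 (iv7 D130817))
theorem E96178 : n130812 = n130808 := (c15_4 (iv0 D130808) D130809 F334619 D130812)
theorem F334620 : act 2 n130808 = n61364 := (sb E96178 (iv2 D130812))
theorem F334621 : act 5 n130808 = n75246 := (sb E96178 F330887)
theorem F334622 : act 6 n130808 = n180380 := (sb E96178 F330888)
theorem F334623 : act 7 n130808 = n61365 := (sb E96178 (iv7 F209369))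
theorem E96179 : n180380 = n133270 := (c3_1 F334622 (iv2 D133270) (iv6 F330891) (iv2 F334620))
theorem F334624 : act 5 n133270 = n86151 := (sb E96179 (iv5 D180380))
theorem F334625 : act 6 n133270 = n130808 := (sb E96179 (iv6 F334622))
theorem E96180 : n158516 = n133279 := ((c14_4 (iv7 F334623) (iv6 F334625) (iv7 F214239) D133279 F331835 (iv6 D130821))).symm
theorem F334626 : act 0 n133279 = n75622 := (sb E96180 (iv1 F249707))
theorem F334627 : act 1 n133279 = n75617 := (sb E96180 (iv0 D158516))
theorem F334628 : act 2 n133279 = n167465 := (sb E96180 (iv2 F308592))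
theorem F334629 : act 5 n133279 = n158422 := (sb E96180 F249703)
theorem F334630 : act 7 n133279 = n130821 := (sb E96180 F331835)
theorem E96181 : n180378 = n62360 := (c21_8 (iv5 F313035) (iv1 F54720) (iv5 F314214) D61363 D130808 (iv6 F334625) F334624 D180378 (iv5 D62360) (iv6 D29495) D29490)
theorem E96182 : n132890 = n86151 := ((D132890).symm.trans (sb E96181 (iv0 D180378)))
theorem F334631 : act 0 n86151 = n62360 := (sb E96182 (iv1 D132890))
theorem E96183 : n180379 = n164068 := ((D180379).symm.trans (sb E96182 F323708))
theorem F334632 : act 0 n164068 = n86151 := (sb E96183 (iv1 D180379))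
theorem F334633 : act 5 n102577 = n164068 := d21_0 F334632 (iv5 F334624) F334625 (iv1 F209366) (iv6 F97765) F322560 F204075 (iv5 F324727) (iv6 D132883) F323386
theorem F334634 : act 5 n165708 = n130046 := d21_2 F321980 D165708 (iv6 D130046) F321692 D102577 F334633 F334632 (iv5 F334624) F334625 (iv1 F209366)
theorem F334635 : act 0 n122333 = n132812 := d21_7 (iv5 F334634) (iv1 F320276) (iv5 D130810) (iv6 D61363) (iv1 F47596) D62671 (iv5 F319755) F213296 F97194 (iv1 F331840)
theorem F334636 : act 0 n134576 = n149257 := d20_1 D134576 F234641 (iv3 F195630) F334635 F213295 F315525 F109942 (iv4 F313132) D132631 F212895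
theorem F334637 : act 6 n90575 = n133538 := d21_9 (iv5 F319755) F334635 F213296 F97194 (iv1 F331840) (iv6 D130046) D130045 F321772 F142259 (iv1 D133538)
theorem F334638 : act 2 n175794 = n132812 := d15_3 (iv0 F334635) F330899 D175794
theorem F334639 : act 5 n102576 = n175794 := d2_0 F334638 F213296 (iv2 F321695)
theorem F334640 : act 1 n175794 = n132809 := d15_0 (iv0 D132809) D132812 (iv2 F334638)
theorem F334641 : act 2 n133538 = n129214 := d3_1 F334637 (iv6 F319948) F139408
theorem F334642 : act 4 n133538 = n92718 := d10_1 F334637 (iv6 D92718) (iv4 F139406)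
theorem F334643 : act 4 n90502 = n129214 := d1_2 F334642 F142931 (iv2 F334641)
theorem F334644 : act 3 n130651 = n90502 := d5_5 F334643 (iv3 D129214) F95338 (iv3 F101998) D130651
theorem F334645 : act 3 n90575 = n133538 := d0_0 F334641 (iv3 D129214) F96715 (iv3 F319947) F139408
theorem F334646 : act 1 n134576 = n149262 := d15_1 (iv0 F334636) (iv7 D149262) (iv2 F234640)
theorem F334647 : act 5 n163372 = n130131 := d6_2 F334633 F258555 (iv3 F321700)
theorem F334648 : act 3 n181699 = n180377 := d20_5 (iv4 D35780) (iv1 F30321) D40215 D86721 D181699 F280704 F334631 (iv4 F323709) (iv3 D88378) F63577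
theorem E96184 : n133270 = n133266 := ((c21_11 F334624 F334631 (iv5 D62360) (iv6 D29495) D29490 F322875 D61085 F208572 F97323 D62540 D133266)).symm
theorem F334649 : act 2 n133266 = n62541 := (sb E96184 (iv2 D133270))
theorem F334650 : act 5 n133266 = n86151 := (sb E96184 F334624)
theorem F334651 : act 6 n133266 = n130808 := (sb E96184 F334625)
theorem F334652 : act 7 n133266 = n62542 := (sb E96184 (iv7 F214239))
theorem E96185 : n177600 = n39073 := (c21_5 (iv5 D62360) D62358 D132882 F333819 (iv1 F277066) F60071 (iv5 F60689) (iv1 F60693) F256340 D86151 F334631)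
theorem E96186 : n84604 = n84594 := ((D84604).symm.trans (sb E96185 (iv1 D177600)))
theorem E96187 : n84605 = n84599 := ((D84605).symm.trans (sb E96185 F277066))
theorem E96188 : n177599 = n39075 := ((D177599).symm.trans (sb E96186 (iv1 F129774)))
theorem F334653 : act 1 n84594 = n39073 := (sb E96186 (iv0 D84604))
theorem E96193 : n177647 = n177604 := (((D177604).symm.trans (sb E96186 D177647))).symm
theorem F334654 : act 0 n84599 = n39073 := (sb E96187 (iv1 D84605))
theorem E96195 : n177649 = n177611 := ((((iv3 F277077)).symm.trans (sb E96187 D177649))).symm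
theorem F334655 : act 0 n39075 = n84599 := (sb E96188 (iv1 F277065))
theorem F334656 : act 1 n39075 = n84594 := (sb E96188 (iv0 D177599))
theorem F334657 : act 5 n177604 = n124663 := (sb E96193 F277096)
theorem F334658 : act 4 n177611 = n120923 := (sb E96195 F277098)
theorem F334659 : act 2 n180381 = n132889 := d15_3 (iv0 D132889) (iv0 F334631) D180381
theorem F334660 : act 3 n166750 = n180381 := d0_0 F334659 F323706 (iv2 F258200) D80040 D166750
theorem F334661 : act 6 n158421 = n180381 := d3_0 F334659 F317562 (iv2 F249604)
theorem E96199 : n180381 = n164067 := (c15_4 (iv0 F323701) F323702 (iv7 F323707) (iv2 F334659))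
theorem F334662 : act 2 n164067 = n132889 := (sb E96199 F334659)
theorem F334663 : act 3 n164067 = n166750 := (sb E96199 (iv3 F334660))
theorem F334664 : act 6 n164067 = n158421 := (sb E96199 (iv6 F334661))
theorem F334665 : act 7 n164067 = n86151 := (sb E96199 (iv7 D180381))
theorem F334666 : act 7 n180374 = n166750 := d8_2 F334665 (iv3 F280702) (iv3 F334663)
theorem E96200 : n164067 = n133278 := ((c13_4 F334665 (iv5 F334650) F334652 D133278)).symm
theorem F334667 : act 0 n133278 = n78822 := (sb E96200 (iv1 D164067))
theorem F334668 : act 1 n133278 = n132858 := (sb E96200 (iv0 F323701))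
theorem F334669 : act 2 n133278 = n132889 := (sb E96200 F334662)
theorem F334670 : act 3 n133278 = n166750 := (sb E96200 F334663)
theorem F334671 : act 6 n133278 = n158421 := (sb E96200 F334664)
theorem F334672 : act 7 n133278 = n86151 := (sb E96200 F334665)
theorem E96201 : n159239 = n83518 := (c21_11 (iv5 D83518) (iv1 D38500) D38501 (iv6 F128616) (iv1 F305497) (iv6 F334671) (iv5 D133278) (iv1 D62542) D62543 F318822 D159239)
theorem E96202 : n174816 = n160514 := (((iv1 F273696)).symm.trans (sb E96201 (iv1 F253568)))
theorem E96203 : n174815 = n76183 := ((F273695).symm.trans (sb E96201 (iv0 D159239)))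
theorem E96204 : n159240 = n83513 := (((iv1 F253570)).symm.trans (sb E96202 (iv1 D174816)))
theorem F334673 : act 1 n160514 = n83518 := (sb E96202 F273696)
theorem F334674 : act 0 n76183 = n83518 := (sb E96203 (iv1 F273695))
theorem F334675 : act 0 n83513 = n76183 := (sb E96204 (iv1 D159240))
theorem F334676 : act 1 n83513 = n160514 := (sb E96204 F253570)
theorem F334677 : act 6 n121215 = n166159 := d21_3 F323673 (iv1 F213409) (iv5 F334327) (iv1 F323503) (iv6 D175446) F128815 (iv1 F113407) D158421 (iv6 F334671) F334667
theorem F334678 : act 3 n166159 = n121217 := d7_1 F334677 (iv6 D121217) D121215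
theorem F334679 : act 5 n133102 = n138245 := d17_5 D38499 D83513 F334675 F316544 (iv4 F213752) (iv0 D138245) F327150 F322811 F59345
theorem F334680 : act 0 n113493 = n172519 := d18_2 F334675 (iv4 F327210) F270710 (iv5 F304295) (iv4 F334406) D99710 F321038 F128605 D83513
theorem F334681 : act 3 n177334 = n174817 := d20_5 (iv4 D86502) (iv1 F118795) D78274 D162840 F325523 (iv4 D174817) F334675 (iv4 F327210) F327209 F297380
theorem E96205 : n174820 = n123967 := ((c21_4 (iv5 D62308) (iv1 F47273) F315286 D123967 (iv1 D174820) (iv6 D83514) D83513 F334675 F316544 (iv6 D62449) (iv1 F208618))).symm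
theorem F334682 : act 0 n123967 = n83514 := (sb E96205 (iv1 D174820))
theorem F334683 : act 4 n174808 = n134609 := d20_6 F56319 D35656 D78224 (iv3 F198387) F334682 (iv3 F273652) (iv1 D134609) F319732 F128063 F300725
theorem E96206 : n174819 = n125292 := ((c15_4 (iv0 D174819) (iv0 F334682) (iv7 F303644) (iv2 F319528))).symm
theorem F334684 : act 1 n125292 = n83514 := (sb E96206 (iv0 D174819))
theorem E96207 : n180293 = n134564 := ((c20_11 (iv4 D180293) (iv1 F330236) (iv4 F334683) F273652 (iv1 F334684) F201504 F317243 F315024 D32286 D69546 F330233)).symm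
theorem F334685 : act 4 n134564 = n86117 := (sb E96207 (iv4 D180293))
theorem F334686 : act 5 n178323 = n178178 := d21_8 (iv5 F328786) (iv1 F334684) (iv5 D125292) (iv6 F321412) (iv1 D112565) F328217 D84857 D178323 F277731 F328763
theorem F334687 : act 2 n146729 = n178323 := d2_3 F334686 (iv2 D178178) (iv5 F317773)
theorem E96208 : n178323 = n114819 := ((c6_4 F334686 (iv3 F321805) F300664 (iv3 F178894))).symm
theorem F334688 : act 0 n114819 = n84862 := (sb E96208 (iv1 F277909))
theorem F334689 : act 1 n114819 = n84857 := (sb E96208 (iv0 D178323))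
theorem E96209 : n159509 = n146729 := (((iv2 F251216)).symm.trans (sb E96208 (iv2 F334687)))
theorem F334690 : act 5 n114819 = n178178 := (sb E96208 F334686)
theorem F334691 : act 2 n146729 = n114819 := (sb E96209 F251216)
theorem F334692 : act 6 n146729 = n76307 := (sb E96209 (iv6 D159509))
theorem F334693 : act 7 n114819 = n173576 := d4_2 (iv7 F321091) F334691 (iv2 F274579)
theorem E96210 : n178324 = n83852 := (c15_2 F334689 D178324 (iv7 F321091) F334691)
theorem E96211 : n175632 = n84857 := ((D175632).symm.trans (sb E96210 (iv1 D178324)))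
theorem E96212 : n173619 = n84862 := (((iv0 F272091)).symm.trans (sb E96210 F277906))
theorem F334694 : act 1 n84857 = n83852 := (sb E96211 (iv0 D175632))
theorem F334695 : act 0 n84862 = n83852 := (sb E96212 F272091)
theorem E96213 : n178327 = n83919 := (((iv2 F277907)).symm.trans (sb E96212 F272089))
theorem E96214 : n83539 = n39262 := ((((iv5 D84862)).symm.trans (sb E96212 F272090))).symm
theorem E96215 : n178343 = n83038 := ((D178343).symm.trans (sb E96212 (iv6 D173619)))
theorem F334696 : act 2 n83919 = n84862 := (sb E96213 F277907)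
theorem E96216 : n173337 = n84859 := (((iv5 F271784)).symm.trans (sb E96213 F277908))
theorem E96217 : n175821 = n84857 := ((D175821).symm.trans (sb E96213 (iv7 D178327)))
theorem E96219 : n174888 = n84853 := (((F130067).symm.trans (sb E96214 D174888))).symm
theorem E96220 : n174886 = n84860 := (((D84860).symm.trans (sb E96214 (iv3 F273784)))).symm
theorem E96221 : n174146 = n84861 := (((D84861).symm.trans (sb E96214 (iv4 F272942)))).symm
theorem E96222 : n84863 = n38517 := ((D84863).symm.trans (sb E96214 (iv6 D83539)))
theorem F334697 : act 6 n83038 = n84862 := (sb E96215 (iv6 D178343))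
theorem F334698 : act 5 n84859 = n83919 := (sb E96216 F271784)
theorem E96224 : n178332 = n82952 := ((D178332).symm.trans (sb E96216 (iv6 D173337)))
theorem F334699 : act 7 n84857 = n83919 := (sb E96217 (iv7 D175821))
theorem E96225 : n178302 = n176088 := ((D178302).symm.trans (sb E96219 (iv5 F275350)))
theorem E96226 : n178338 = n83538 := ((D178338).symm.trans (sb E96220 (iv6 D174886)))
theorem E96227 : n178341 = n83247 := ((D178341).symm.trans (sb E96221 (iv6 D174146)))
theorem F334700 : act 6 n38517 = n39262 := (sb E96222 (iv6 D84863))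
theorem F334701 : act 6 n82952 = n84859 := (sb E96224 (iv6 D178332))
theorem F334702 : act 0 n176088 = n84868 := (sb E96225 (iv1 F277881))
theorem F334703 : act 1 n176088 = n84867 := (sb E96225 F277882)
theorem F334704 : act 2 n176088 = n84871 := (sb E96225 F277879)
theorem F334705 : act 5 n176088 = n84853 := (sb E96225 (iv5 D178302))
theorem F334706 : act 7 n176088 = n84866 := (sb E96225 F277880)
theorem F334707 : act 6 n83538 = n84860 := (sb E96226 (iv6 D178338))
theorem F334708 : act 6 n83247 = n84861 := (sb E96227 (iv6 D178341))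
theorem F334709 : act 6 n178322 = n173237 := d3_2 F334708 (iv2 F277903) (iv2 F271564)
theorem F334710 : act 6 n178339 = n174144 := d7_2 F334708 D178339 (iv3 D174144)
theorem F334711 : act 6 n178335 = n174884 := d3_2 F334707 D178335 (iv2 D174884)
theorem F334712 : act 6 n178336 = n174885 := d10_2 F334707 D178336 (iv4 D174885)
theorem F334713 : act 6 n178337 = n173617 := d12_2 F334707 D178337 (iv5 F298373) (iv6 F253926) F300634
theorem E96232 : n178337 = n106158 := ((c21_5 (iv5 F86255) (iv1 F94633) F94631 D114065 F258993 F334713 (iv5 F298373) (iv1 F332303) (iv5 D164507) (iv6 D79004) F56652)).symm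
theorem E96233 : n114889 = n84862 := (((iv3 F178963)).symm.trans (sb E96232 F277912))
theorem F334714 : act 5 n106158 = n84860 := (sb E96232 (iv5 D178337))
theorem F334715 : act 6 n106158 = n173617 := (sb E96232 F334713)
theorem F334716 : act 3 n84862 = n106158 := (sb E96233 F178963)
theorem E96234 : n178342 = n53011 := ((D178342).symm.trans (sb E96233 (iv4 D114889)))
theorem E96235 : n178308 = n115022 := (((iv7 F277893)).symm.trans (sb E96233 (iv7 F179117)))
theorem F334717 : act 4 n53011 = n84862 := (sb E96234 (iv4 D178342))
theorem F334718 : act 2 n115022 = n84857 := (sb E96235 F277892)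
theorem F334719 : act 5 n115022 = n84854 := (sb E96235 (iv5 D178308))
theorem F334720 : act 7 n115022 = n84862 := (sb E96235 F277893)
theorem E96236 : n159891 = n115022 := (c14_6 F334720 (iv6 F334697) F127964 D83915 (iv7 F327894) D159891)
theorem F334721 : act 6 n115022 = n76542 := (sb E96236 (iv6 D159891))
theorem F334722 : act 1 n146729 = n115022 := d15_1 (iv0 F321090) F334720 (iv2 F334696)
theorem F334723 : act 1 n115022 = n173576 := d15_1 F334722 (iv7 F334693) (iv2 F334691)
theorem F334724 : act 6 n125291 = n110606 := d21_3 (iv5 F333767) F333764 (iv5 F323360) (iv1 F175128) (iv6 F329028) (iv5 F334719) (iv1 F334722) F317773 F130017 D86086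
theorem F334725 : act 3 n110606 = n173649 := d7_1 F334724 F272129 (iv3 F323359)
theorem F334726 : act 5 n110606 = n173640 := d12_1 F334724 (iv6 D173640) (iv5 D83045) D83046 (iv5 F323360)
theorem F334727 : act 6 n112564 = n163372 := d14_3 (iv7 F201500) F334724 (iv7 F175244) (iv7 F324071) F324070
theorem E96237 : n180184 = n173641 := ((c21_8 F316542 F296739 F117878 (iv6 F323459) D110606 (iv6 F334724) F323360 D173641 (iv5 D180184) (iv6 F329143) F318817)).symm
theorem F334728 : act 5 n173641 = n86087 := (sb E96237 (iv5 D180184))
theorem F334729 : act 2 n173831 = n173641 := d2_3 F334728 F328785 (iv5 F303617)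
theorem F334730 : act 6 n124413 = n173641 := d12_0 F334728 (iv6 F329143) (iv5 D82906) F300057 D124413
theorem E96238 : n174822 = n173641 := (c13_1 D174822 F334728 F328757 (iv5 F328786))
theorem F334731 : act 7 n173641 = n83514 := (sb E96238 (iv7 D174822))
theorem F334732 : act 5 n118483 = n173638 := d21_6 F334728 (iv1 D86087) D86089 (iv6 F318106) F298165 (iv6 F311484) (iv1 D173638) (iv5 D83045) D83046 D173641
theorem E96239 : n175776 = n173638 := ((c2_1 F334732 (iv2 D175776) (iv5 F334147) (iv2 F311483))).symm
theorem F334733 : act 2 n173638 = n83904 := (sb E96239 (iv2 D175776))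
theorem F334734 : act 7 n173638 = n83905 := (sb E96239 (iv7 F275205))
theorem F334735 : act 3 n173638 = n118484 := d6_1 F334732 (iv5 D118484) D118483
theorem E96240 : n173638 = n148878 := (c12_2 (iv6 F311484) F334732 (iv6 D148878) (iv5 F322757) (iv6 D114440) F298172)
theorem F334736 : act 0 n148878 = n83045 := (sb E96240 (iv1 D173638))
theorem F334737 : act 1 n148878 = n83898 := (sb E96240 F272115)
theorem F334738 : act 2 n148878 = n83904 := (sb E96240 F334733)
theorem F334739 : act 3 n148878 = n118484 := (sb E96240 F334735)
theorem F334740 : act 5 n148878 = n118483 := (sb E96240 (iv5 F334732))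
theorem F334741 : act 7 n148878 = n83905 := (sb E96240 F334734)
theorem F334742 : act 7 n175784 = n118483 := d13_0 (iv5 F334740) F334741 D175784
theorem F334743 : act 0 n183083 = n151508 := d17_2 F319027 D183083 (iv5 D151508) (iv4 F186377) (iv5 F334740) F334737 (iv5 D83898) F319561 (iv4 F271797)
theorem E96241 : n146158 = n83915 := (c21_2 F228854 (iv1 F229415) F298375 (iv6 D81998) F58446 D77023 (iv5 F316724) F217819 (iv5 F334740) (iv6 D148878) (iv1 F228856))
theorem E96242 : n175815 = n68535 := ((D175815).symm.trans (sb E96241 (iv1 D146158)))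
theorem E96243 : n175816 = n76543 := ((D175816).symm.trans (sb E96241 F229415))
theorem F334744 : act 1 n68535 = n83915 := (sb E96242 (iv0 D175815))
theorem F334745 : act 0 n76543 = n83915 := (sb E96243 (iv1 D175816))
theorem F334746 : act 5 n173658 = n113132 := d21_0 F319234 F279063 F236574 F334745 (iv6 D83915) F296756 F123596 (iv5 F298348) D83053 D173658
theorem E96244 : n159887 = n146157 := ((c15_2 (iv0 F334745) F229410 (iv7 D159887) (iv2 F327360))).symm
theorem F334747 : act 2 n146157 = n76542 := (sb E96244 F252120)
theorem F334748 : act 7 n146157 = n76541 := (sb E96244 (iv7 D159887))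
theorem E96245 : n178326 = n146157 := (c14_6 F334748 (iv6 F327361) (iv7 F127962) D83919 (iv7 F334699) D178326)
theorem F334749 : act 6 n146157 = n84857 := (sb E96245 (iv6 D178326))
theorem E96246 : n179563 = n176095 := ((c21_2 F272043 (iv1 F275353) F279626 (iv6 D146160) D146157 F334749 (iv5 D84857) D84853 (iv5 F334705) (iv6 D176088) (iv1 F272046))).symm
theorem F334750 : act 3 n176095 = n85677 := (sb E96246 F279625)
theorem F334751 : act 5 n176095 = n146160 := (sb E96246 F279626)
theorem F334752 : act 6 n176095 = n85676 := (sb E96246 (iv6 D179563))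
theorem F334753 : act 7 n176095 = n128514 := (sb E96246 F279627)
theorem F334754 : act 5 n113134 = n178371 := d21_8 (iv5 D39264) D39261 D84857 (iv6 F334749) (iv1 F229410) (iv6 F236574) (iv5 F279063) (iv1 F319237) (iv6 D178371) (iv1 D84868)
theorem E96247 : n178379 = n152467 := ((c21_4 (iv5 F228854) (iv1 F228857) (iv5 F322754) (iv6 F239657) (iv1 D178379) (iv6 D84870) (iv5 D39264) D39261 D84857 (iv6 F334749) (iv1 F229410))).symm
theorem F334755 : act 0 n152467 = n84870 := (sb E96247 (iv1 D178379))
theorem E96248 : n147441 = n114605 := ((c20_10 F319129 (iv1 F108285) (iv4 F108434) (iv3 F239655) F334755 F130073 F313892 F112689 (iv4 F315666) (iv3 F319481) (iv1 D147441))).symm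
theorem F334756 : act 0 n114605 = n69116 := (sb E96248 (iv1 D147441))
theorem F334757 : act 3 n178376 = n147938 := d20_9 F105601 (iv1 F105585) (iv4 F316817) (iv3 D52790) (iv1 F76745) (iv3 F161733) (iv4 F239656) F334755 (iv4 F277928) F231750
theorem E96249 : n178376 = n119061 := (c20_1 (iv4 F277928) (iv1 D119061) F310813 (iv3 D32165) (iv1 F51120) D69116 F319129 (iv1 F108285) (iv4 F108434) (iv3 F239655) F334755)
theorem F334758 : act 3 n119061 = n147938 := (sb E96249 F334757)
theorem F334759 : act 4 n119061 = n84870 := (sb E96249 F277928)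
theorem F334760 : act 6 n119061 = n84869 := (sb E96249 (iv6 D178376))
theorem E96250 : n178378 = n151421 := ((c15_4 (iv0 D178378) (iv0 F334755) (iv7 D152467) (iv2 F238142))).symm
theorem F334761 : act 1 n151421 = n84870 := (sb E96250 (iv0 D178378))
theorem F334762 : act 4 n151422 = n147321 := d20_2 F238143 D151422 (iv3 F230989) (iv1 D69478) F318240 F84973 D53886 (iv4 F313892) (iv3 F130073) (iv1 F334761)
theorem F334763 : act 5 n151421 = n174845 := d21_8 (iv5 D38501) D38499 D83513 (iv6 F329652) (iv1 D58716) D58718 (iv5 F130074) (iv1 F334761) (iv6 D174845) (iv1 D83521)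
theorem F334764 : act 0 n174845 = n173649 := d21_1 F334763 (iv5 D173649) (iv6 D83048) (iv1 F127963) F334697 (iv5 D84862) (iv1 D39262) D39264 D84870 (iv1 F334761)
theorem F334765 : act 0 n133106 = n153324 := d21_1 (iv5 F313454) F300660 D174845 F334764 F272129 (iv5 D83049) (iv1 F118946) (iv5 F118944) D98248 F333783
theorem F334766 : act 1 n174845 = n164070 := d15_1 (iv0 F334764) F323365 (iv2 F272128)
theorem F334767 : act 4 n173647 = n185830 := d17_9 (iv1 D185830) (iv5 F292763) D102978 F293757 (iv4 F238143) F334763 F334766 F323364 F272132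
theorem F334768 : act 2 n185830 = n175936 := d1_1 F334767 (iv4 D175936) (iv2 F273889)
theorem F334769 : act 7 n185830 = n175940 := d11_2 (iv7 F273887) F334767 (iv4 D175940)
theorem F334770 : act 2 n175940 = n185829 := d15_3 (iv0 D185829) D185830 F334769
theorem F334771 : act 7 n175936 = n185829 := d4_2 (iv7 F334769) F334768 (iv2 F334770)
theorem F334772 : act 4 n185829 = n173648 := d11_1 F334771 (iv7 F273888) D175936
theorem F334773 : act 6 n175581 = n185829 := d10_0 F334772 (iv6 F272127) D175581
theorem F334774 : act 3 n173648 = n147137 := d20_3 (iv4 F330310) D185829 F334772 (iv1 D147137) (iv3 D68985) (iv4 D32092) (iv1 F24763) D15164 D32117 D69037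
theorem F334775 : act 0 n185829 = n142842 := d20_1 (iv4 F334772) F225735 F224519 (iv1 D116594) F322656 (iv4 D85784) D85782 (iv4 F317155) F319403 (iv1 F272126)
theorem F334776 : act 1 n185830 = n142842 := d15_0 (iv0 F334775) (iv7 F334771) (iv2 F334768)
theorem F334777 : act 7 n142842 = n93849 := d15_2 D185830 F334776 F144672
theorem E96251 : n185830 = n114993 := (c20_5 (iv4 D127208) D127207 F204486 D142842 (iv1 F334776) F179070 F161863 (iv1 D78951) (iv4 F83210) F325367 (iv1 F204489))
theorem F334778 : act 0 n114993 = n88507 := (sb E96251 (iv1 D185830))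
theorem F334779 : act 1 n114993 = n142842 := (sb E96251 F334776)
theorem F334780 : act 2 n114993 = n175936 := (sb E96251 F334768)
theorem F334781 : act 4 n114993 = n173647 := (sb E96251 (iv4 F334767))
theorem E96252 : n175940 = n53057 := ((((iv7 D114993)).symm.trans (sb E96251 F334769))).symm
theorem E96253 : n185829 = n114980 := ((((iv2 F179065)).symm.trans (sb E96252 F334770))).symm
theorem E96254 : n114985 = n83958 := (((iv4 F179067)).symm.trans (sb E96252 (iv4 D175940)))
theorem F334782 : act 0 n114980 = n142842 := (sb E96253 F334775)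
theorem F334783 : act 1 n114980 = n88507 := (sb E96253 (iv0 D185829))
theorem F334784 : act 4 n114980 = n173648 := (sb E96253 F334772)
theorem E96255 : n175581 = n53054 := ((((iv6 D114980)).symm.trans (sb E96253 (iv6 F334773)))).symm
theorem F334785 : act 7 n114980 = n175936 := (sb E96253 (iv7 F334771))
theorem F334786 : act 4 n83958 = n53057 := (sb E96254 F179067)
theorem E96256 : n173558 = n53055 := (((iv6 F273885)).symm.trans (sb E96254 (iv6 D114985)))
theorem E96257 : n114978 = n83833 := ((D114978).symm.trans (sb E96255 (iv4 D175581)))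
theorem E96258 : n114981 = n83021 := ((D114981).symm.trans (sb E96256 (iv1 D173558)))
theorem E96259 : n114982 = n83026 := ((D114982).symm.trans (sb E96256 F271993))
theorem E96260 : n167470 = n114984 := (((D114984).symm.trans (sb E96256 (iv5 F305482)))).symm
theorem F334787 : act 6 n53055 = n83958 := (sb E96256 F273885)
theorem E96261 : n105452 = n83832 := (((iv7 F161846)).symm.trans (sb E96256 F271994))
theorem F334788 : act 2 n83833 = n53055 := (sb E96257 F179063)
theorem F334789 : act 4 n83833 = n53054 := (sb E96257 (iv4 D114978))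
theorem F334790 : act 1 n83021 = n53055 := (sb E96258 (iv0 D114981))
theorem F334791 : act 0 n83026 = n53055 := (sb E96259 (iv1 D114982))
theorem F334792 : act 0 n114984 = n80366 := (sb E96260 (iv1 D167470))
theorem F334793 : act 1 n114984 = n83860 := (sb E96260 F305479)
theorem F334794 : act 2 n114984 = n158522 := (sb E96260 F305480)
theorem F334795 : act 3 n114984 = n164557 := (sb E96260 F307509)
theorem F334796 : act 4 n114984 = n100951 := (sb E96260 F305481)
theorem F334797 : act 6 n114984 = n83506 := (sb E96260 F307510)
theorem F334798 : act 7 n114984 = n83577 := (sb E96260 F305483)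
theorem E96262 : n175577 = n152385 := ((D175577).symm.trans (sb E96261 (iv3 F333221)))
theorem E96263 : n175578 = n48760 := ((D175578).symm.trans (sb E96261 (iv4 D105452)))
theorem F334799 : act 7 n83832 = n53055 := (sb E96261 F161846)
theorem F334800 : act 3 n152385 = n83832 := (sb E96262 (iv3 D175577))
theorem F334801 : act 5 n152385 = n152734 := (sb E96262 (iv5 F309533))
theorem F334802 : act 4 n48760 = n83832 := (sb E96263 (iv4 D175578))
theorem F334803 : act 4 n173557 = n105451 := d1_2 F334802 F271991 (iv2 D105451)
theorem F334804 : act 4 n175579 = n105454 := d10_3 (iv6 D105454) F334802 D175579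
theorem F334805 : act 0 n92808 = n105453 := d17_2 (iv1 F326556) (iv5 F143160) (iv5 D105453) F334802 F128861 F272022 F127941 F127940 (iv4 F128876)
theorem F334806 : act 5 n175680 = n105449 := d17_7 (iv1 F128865) (iv5 D38621) (iv1 D18385) D18386 D38625 D83870 D175680 (iv0 D105449) F334802
theorem F334807 : act 4 n172412 = n105449 := d18_5 (iv1 F59076) F59072 (iv1 F59426) (iv4 F272771) D172412 (iv0 D105449) F334802 (iv0 D83832) (iv5 D38616)
theorem F334808 : act 3 n144912 = n152354 := d20_9 F311750 D83832 (iv4 F334802) (iv3 D48760) (iv1 F37058) (iv3 F40629) (iv4 F83688) (iv1 F317665) (iv4 F227880) (iv1 D152354)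
theorem E96264 : n106374 = n33218 := (c20_5 (iv4 F40656) (iv1 F40666) (iv4 F177650) D49152 D106374 (iv3 F108360) F311750 D83832 (iv4 F334802) (iv3 D48760) (iv1 F37058))
theorem E96265 : n106157 = n71882 := (((D71882).symm.trans (sb E96264 (iv1 F163492)))).symm
theorem E96266 : n71883 = n49152 := ((D71883).symm.trans (sb E96264 (iv0 D106374)))
theorem E96267 : n114063 = n106375 := (((iv1 F177576)).symm.trans (sb E96265 (iv1 F163494)))
theorem E96268 : n152362 = n49062 := ((D152362).symm.trans (sb E96265 (iv2 D106157)))
theorem E96269 : n152363 = n106354 := ((D152363).symm.trans (sb E96265 (iv3 F163507)))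
theorem E96270 : n152367 = n106376 := ((D152367).symm.trans (sb E96265 (iv7 F163489)))
theorem F334809 : act 0 n49152 = n33218 := (sb E96266 (iv1 D71883))
theorem F334810 : act 1 n106375 = n71882 := (sb E96267 F177576)
theorem F334811 : act 2 n106375 = n71884 := (sb E96267 F177572)
theorem F334812 : act 6 n106375 = n71893 := (sb E96267 F177573)
theorem F334813 : act 7 n106375 = n52643 := (sb E96267 (iv7 D114063))
theorem F334814 : act 2 n49062 = n71882 := (sb E96268 (iv2 D152362))
theorem F334815 : act 3 n106354 = n71882 := (sb E96269 (iv3 D152363))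
theorem F334816 : act 7 n106376 = n71882 := (sb E96270 (iv7 D152367))
theorem F334817 : act 2 n152364 = n106158 := d1_3 (iv4 D106158) F334814 D152364
theorem F334818 : act 2 n152365 = n106159 := d2_3 (iv5 D106159) F334814 D152365
theorem F334819 : act 2 n152366 = n106160 := d3_3 (iv6 D106160) F334814 D152366
theorem F334820 : act 2 n106760 = n152450 := d2_3 (iv5 F239639) F334819 (iv5 F164563)
theorem E96275 : n152449 = n106538 := (c15_2 (iv0 F327117) F327118 (iv7 F164564) F334820)
theorem F334821 : act 0 n106538 = n130699 := (sb E96275 (iv1 F327118))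
theorem F334822 : act 1 n106538 = n71912 := (sb E96275 (iv0 D152449))
theorem E96276 : n164415 = n164330 := (((iv5 F259058)).symm.trans (sb E96275 (iv5 F258952)))
theorem F334823 : act 3 n164330 = n78962 := (sb E96276 (iv3 D164415))
theorem F334824 : act 5 n164330 = n106538 := (sb E96276 F259058)
theorem F334825 : act 7 n164330 = n106160 := (sb E96276 F259059)
theorem E96277 : n175810 = n164330 := (c17_5 F252357 (iv5 F332301) F154553 (iv5 F298372) D175810 F334824 F334822 (iv5 D71912) D71911 D152446)
theorem F334826 : act 4 n164330 = n83913 := (sb E96277 (iv4 D175810))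
theorem E96278 : n152431 = n131302 := ((c19_19 (iv1 F334822) (iv5 F334824) F334826 (iv3 D83913) (iv1 F59474) (iv5 D18397) D18396 (iv3 F30230) (iv1 D18934) (iv5 F28068) F306649 D50025 F96293 (iv5 F50559) (iv4 F87471) F87473 (iv1 F55484) D76602 (iv4 F210442) F239614)).symm
theorem E96279 : n159967 = n133716 := (((F215220).symm.trans (sb E96278 (iv2 F252312)))).symm
theorem F334827 : act 3 n131302 = n71912 := (sb E96278 F239614)
theorem F334828 : act 5 n131302 = n71907 := (sb E96278 (iv5 D152431))
theorem F334829 : act 6 n131302 = n107895 := (sb E96278 F239615)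
theorem E96280 : n151700 = n106716 := (((F215219).symm.trans (sb E96279 (iv4 F252314)))).symm
theorem F334830 : act 5 n133716 = n76588 := (sb E96279 (iv5 D159967))
theorem F334831 : act 6 n133716 = n76589 := (sb E96279 F252313)
theorem F334832 : act 6 n106716 = n71487 := (sb E96280 (iv6 D151700))
theorem E96281 : n159993 = n151451 := ((c3_2 F334832 F238204 (iv6 D159993) (iv2 F164486))).symm
theorem F334833 : act 6 n151451 = n76602 := (sb E96281 (iv6 D159993))
theorem E96282 : n151698 = n106719 := (c7_2 F334832 D151698 (iv6 D106719) (iv3 F164487))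
theorem F334834 : act 3 n106719 = n71487 := (sb E96282 (iv3 D151698))
theorem E96283 : n151668 = n69322 := (c21_7 F114874 (iv1 F77973) D106716 F334832 (iv1 D71487) (iv6 F108002) D151668 F316572 D105870 F162592 (iv1 F114876))
theorem E96284 : n147983 = n71475 := ((D147983).symm.trans (sb E96283 (iv5 D151668)))
theorem F334835 : act 5 n71475 = n69322 := (sb E96284 (iv5 D147983))
theorem E96285 : n159997 = n93953 := ((c21_5 D71489 D151705 F238581 D151943 F238931 (iv6 D159997) F114874 (iv1 F77973) D106716 F334832 (iv1 D71487))).symm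
theorem F334836 : act 2 n93953 = n157349 := (sb E96285 F252371)
theorem F334837 : act 3 n93953 = n94053 := (sb E96285 F252372)
theorem F334838 : act 6 n93953 = n76604 := (sb E96285 (iv6 D159997))
theorem E96286 : n159996 = n93954 := (c10_2 F334838 (iv4 F252368) (iv6 D93954) D93953)
theorem F334839 : act 0 n93954 = n106481 := (sb E96286 (iv1 F252369))
theorem E96287 : n151634 = n119026 := (((iv0 F238503)).symm.trans (sb E96286 F252370))
theorem F334840 : act 2 n93954 = n157348 := (sb E96286 F252367)
theorem F334841 : act 4 n93954 = n76604 := (sb E96286 F252368)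
theorem F334842 : act 7 n93954 = n76603 := (sb E96286 (iv7 D159996))
theorem F334843 : act 0 n119026 = n93954 := (sb E96287 F238503)
theorem F334844 : act 6 n119026 = n71466 := (sb E96287 (iv6 D151634))
theorem F334845 : act 6 n151616 = n105415 := d3_2 F334844 (iv2 F238489) (iv2 F187260)
theorem E96288 : n151633 = n119024 := (c10_2 F334844 D151633 F187254 D119026)
theorem F334846 : act 4 n119024 = n71466 := (sb E96288 (iv4 D151633))
theorem F334847 : act 4 n151616 = n105413 := d1_2 F334846 (iv2 F238489) (iv2 F187253)
theorem F334848 : act 4 n151628 = n127147 := d16_6 F187251 D119024 F334846 (iv5 D71466) D71465 D151628 F321573 (iv7 F309967) (iv2 F187250)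
theorem F334849 : act 0 n151662 = n145005 := d17_0 (iv5 D145005) (iv1 F321491) D119024 F334846 (iv5 D71466) (iv0 D33064) D33066 D71474 D151662
theorem F334850 : act 0 n151622 = n144178 := d19_4 (iv1 F321491) D119024 F334846 (iv3 F238493) F226880 F104582 (iv3 D31889) (iv1 F24863) (iv5 F50196) F50197 D32001 F50750 (iv5 D15137) F24780 D15130 (iv1 F24795) D31828 (iv4 F50631) D67981
theorem F334851 : act 5 n119021 = n127148 := d16_7 (iv4 F334848) (iv5 D151628) (iv4 D71465) D71466 (iv4 F334846) (iv5 D119024) (iv4 F187251) F321575 (iv2 F321571)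
theorem F334852 : act 6 n127148 = n166050 := d12_2 D119021 F334851 (iv5 D166050) F298484 (iv5 F86649)
theorem F334853 : act 7 n159419 = n119021 := d13_0 F334851 F321575 D159419
theorem F334854 : act 4 n127148 = n151647 := d16_4 (iv4 F334846) (iv5 D119024) (iv4 F187251) F334851 (iv5 D151647) (iv4 D71470) D71471 (iv7 F238490) F238489
theorem E96289 : n151647 = n67062 := (c18_6 D69310 (iv4 F319484) (iv1 F321491) (iv4 F187251) F334851 F334854 (iv0 F319173) (iv4 D141767) (iv0 F318370) (iv5 F320523))
theorem E96290 : n143113 = n127148 := ((D143113).symm.trans (sb E96289 (iv4 F334854)))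
theorem E96291 : n143114 = n71470 := ((D143114).symm.trans (sb E96289 (iv5 D151647)))
theorem F334855 : act 4 n127148 = n67062 := (sb E96290 (iv4 D143113))
theorem F334856 : act 5 n71470 = n67062 := (sb E96291 (iv5 D143114))
theorem F334857 : act 1 n147987 = n119021 := d18_8 (iv1 D127148) (iv4 F102783) (iv1 F323277) (iv4 D69338) (iv5 D32224) (iv4 F51168) D69323 D147987 F334851
theorem F334858 : act 5 n160202 = n164234 := d21_2 (iv5 F252901) F252899 (iv6 D164234) F120076 D119021 F334851 (iv1 D127148) D127149 F321281 (iv1 F230866)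
theorem F334859 : act 5 n105414 = n151649 := d9_10 (iv5 F334851) F187251 D119024 F334846 (iv5 D71466) D71465 D151628 F334848 F321573 (iv4 F314503) (iv4 D151649) (iv5 D71471) D71470 F334856 (iv4 F334855)
theorem E96292 : n151628 = n67061 := (c16_8 (iv4 F334855) (iv5 F334851) F187251 D119024 F334846 (iv5 D71466) D71465 D151628 D143111 F225963)
theorem E96293 : n143108 = n127147 := ((D143108).symm.trans (sb E96292 F334848))
theorem E96294 : n143109 = n71465 := ((D143109).symm.trans (sb E96292 (iv5 D151628)))
theorem F334860 : act 4 n127147 = n67061 := (sb E96293 (iv4 D143108))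
theorem F334861 : act 5 n71465 = n67061 := (sb E96294 (iv5 D143109))
theorem F334862 : act 6 n118814 = n137905 := d21_9 (iv5 F334851) (iv1 F334857) (iv5 F231806) F309229 (iv1 F309225) F251006 F205943 (iv1 F305693) D118814 (iv1 F221160)
theorem F334863 : act 2 n127966 = n118814 := d3_3 F334862 F221157 (iv6 F322437)
theorem F334864 : act 4 n137617 = n118814 := d10_3 F334862 F221158 (iv6 F325059)
theorem F334865 : act 7 n127964 = n118814 := d14_0 F334862 (iv7 D137905) (iv6 D64814) D64815 (iv6 F322434)
theorem F334866 : act 3 n118814 = n127976 := d8_1 F334865 (iv7 F321589) (iv3 F322432)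
theorem E96295 : n99644 = n66717 := (c16_5 F322436 F331211 (iv4 D46566) D46567 D99644 (iv5 F321994) (iv4 F305727) D127964 F334865 (iv2 F334863))
theorem E96296 : n142299 = n46567 := ((D142299).symm.trans (sb E96295 (iv4 D99644)))
theorem E96297 : n99642 = n67127 := ((D99642).symm.trans (sb E96296 (iv1 F323651)))
theorem E96298 : n99643 = n67126 := ((D99643).symm.trans (sb E96296 F321990))
theorem E96299 : n99578 = n67129 := (((iv2 F153428)).symm.trans (sb E96296 F321991))
theorem F334867 : act 4 n46567 = n66717 := (sb E96296 (iv4 D142299))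
theorem E96300 : n99645 = n67064 := ((D99645).symm.trans (sb E96296 F321992))
theorem E96301 : n99583 = n67065 := (((iv7 F153419)).symm.trans (sb E96296 F321993))
theorem E96302 : n46572 = n31242 := ((((iv1 D67127)).symm.trans (sb E96297 (iv1 F153395)))).symm
theorem F334868 : act 1 n67127 = n46567 := (sb E96297 (iv0 D99642))
theorem E96303 : n143292 = n47382 := (((iv2 F226091)).symm.trans (sb E96297 F157316))
theorem E96304 : n143293 = n47188 := ((D143293).symm.trans (sb E96297 F157317))
theorem E96305 : n143295 = n94100 := ((D143295).symm.trans (sb E96297 F157318))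
theorem F334869 : act 0 n67126 = n46567 := (sb E96298 (iv1 D99643))
theorem E96306 : n143288 = n46597 := ((D143288).symm.trans (sb E96298 F157319))
theorem E96307 : n143290 = n89540 := ((D143290).symm.trans (sb E96298 F157320))
theorem E96308 : n143122 = n47382 := (((iv1 F225971)).symm.trans (sb E96299 F157300))
theorem F334870 : act 2 n67129 = n46567 := (sb E96299 F153428)
theorem E96309 : n143300 = n46542 := (((iv5 F226092)).symm.trans (sb E96299 (iv5 D99578)))
theorem F334871 : act 6 n67064 = n46567 := (sb E96300 (iv6 D99645))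
theorem E96310 : n143123 = n46543 := ((D143123).symm.trans (sb E96301 (iv5 D99583)))
theorem F334872 : act 7 n67065 = n46567 := (sb E96301 F153419)
theorem E96311 : n99655 = n67123 := ((((iv3 F103093)).symm.trans (sb E96302 (iv3 F153480)))).symm
theorem E96313 : n67128 = n22316 := ((D67128).symm.trans (sb E96302 (iv5 D46572)))
theorem F334873 : act 2 n47382 = n67127 := (sb E96303 F226091)
theorem F334874 : act 7 n47382 = n67126 := (sb E96303 (iv7 D143292))
theorem F334875 : act 3 n47188 = n67127 := (sb E96304 (iv3 D143293))
theorem F334876 : act 5 n94100 = n67127 := (sb E96305 (iv5 D143295))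
theorem F334877 : act 3 n46597 = n67126 := (sb E96306 (iv3 D143288))
theorem F334878 : act 5 n89540 = n67126 := (sb E96307 (iv5 D143290))
theorem F334879 : act 0 n47382 = n67065 := (sb E96308 (iv1 D143122))
theorem F334880 : act 1 n47382 = n67129 := (sb E96308 F225971)
theorem F334881 : act 5 n46542 = n67129 := (sb E96309 F226092)
theorem F334882 : act 5 n46543 = n67065 := (sb E96310 (iv5 D143123))
theorem E96315 : n143279 = n46570 := ((D143279).symm.trans (sb E96311 (iv5 D99655)))
theorem F334883 : act 5 n22316 = n31242 := (sb E96313 (iv5 D67128))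
theorem E96319 : n143285 = n46573 := (((D46573).symm.trans (sb E96313 (iv6 F226089)))).symm
theorem F334884 : act 5 n46570 = n67123 := (sb E96315 (iv5 D143279))
theorem E96320 : n99663 = n67125 := ((D99663).symm.trans (sb E96319 (iv5 D143285)))
theorem E96321 : n143283 = n89080 := ((D143283).symm.trans (sb E96320 (iv1 F157651)))
theorem E96322 : n143284 = n87183 := ((D143284).symm.trans (sb E96320 F294449))
theorem E96323 : n143105 = n98646 := (((iv2 F225961)).symm.trans (sb E96320 F157664))
theorem F334885 : act 5 n67125 = n46573 := (sb E96320 (iv5 D99663))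
theorem E96324 : n143286 = n98647 := ((D143286).symm.trans (sb E96320 (iv7 F157665)))
theorem F334886 : act 1 n89080 = n67125 := (sb E96321 (iv0 D143283))
theorem F334887 : act 0 n87183 = n67125 := (sb E96322 (iv1 D143284))
theorem F334888 : act 2 n98646 = n67125 := (sb E96323 F225961)
theorem F334889 : act 6 n98646 = n67060 := (sb E96323 (iv6 D143105))
theorem F334890 : act 7 n98647 = n67125 := (sb E96324 (iv7 D143286))
theorem F334891 : act 1 n137952 = n118814 := d15_1 D137952 (iv7 F334865) F322431
theorem F334892 : act 1 n118814 = n137951 := d15_1 F334891 F321321 (iv2 F322960)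
theorem E96325 : n137952 = n102009 := ((c18_8 F305692 (iv4 F304886) (iv1 F305693) (iv4 D54694) F319256 (iv4 F103044) (iv0 F334879) D102009 F334891 (iv5 D118814))).symm
theorem F334893 : act 0 n102009 = n64833 := (sb E96325 (iv1 D137952))
theorem F334894 : act 1 n102009 = n118814 := (sb E96325 F334891)
theorem F334895 : act 2 n102009 = n66649 := (sb E96325 F322960)
theorem F334896 : act 5 n102009 = n149875 := (sb E96325 F322429)
theorem F334897 : act 6 n102009 = n159431 := (sb E96325 F322430)
theorem F334898 : act 4 n159431 = n102010 := d10_1 F334897 (iv6 D102010) D102009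
theorem E96326 : n140769 = n103696 := (c21_11 (iv5 D103696) D103694 F319871 (iv6 F334897) F334893 (iv6 D64833) D64832 (iv1 F177262) (iv5 D66055) D66056 D140769)
theorem F334899 : act 1 n103696 = n66056 := (sb E96326 (iv0 D140769))
theorem F334900 : act 0 n105832 = n140771 := d21_10 (iv5 D140771) (iv1 F334899) (iv5 D103696) (iv6 D48027) D48024 D103689 F321843 (iv1 F77293) (iv5 F77135) D105832
theorem F334901 : act 6 n145825 = n140771 := d21_5 F75460 (iv1 F70913) (iv5 F307267) D68372 D145825 (iv5 D140771) (iv1 F334899) (iv5 D103696) (iv6 D48027) D48024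
theorem F334902 : act 3 n140786 = n145825 := d7_3 F334901 F223862 (iv6 F223872)
theorem F334903 : act 5 n140768 = n145825 := d12_5 F334901 (iv5 D140771) (iv6 D66056) D66055 D140768
theorem E96327 : n146104 = n140770 := (c21_1 D146104 (iv1 D140770) D140771 (iv6 F334901) F311494 F149997 F301293 (iv1 F232378) F306257 (iv6 F319872) F319866)
theorem F334904 : act 3 n140770 = n68518 := (sb E96327 F319874)
theorem F334905 : act 5 n140770 = n68509 := (sb E96327 (iv5 D146104))
theorem F334906 : act 6 n140770 = n125197 := (sb E96327 F319875)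
theorem F334907 : act 7 n140770 = n144379 := (sb E96327 (iv7 F322414))
theorem F334908 : act 5 n97236 = n146286 := d21_0 (iv1 F235081) F235079 F243116 (iv1 D68507) F319873 (iv5 F334905) (iv1 D140770) D140771 (iv6 F334901) F311494
theorem E96328 : n155251 = n146286 := ((c12_2 (iv6 F149997) F334908 (iv6 D155251) (iv5 D73738) (iv6 F210891) (iv5 F301293))).symm
theorem F334909 : act 6 n146286 = n73738 := (sb E96328 (iv6 D155251))
theorem F334910 : act 4 n146286 = n139144 := d16_2 (iv4 F149996) F334908 (iv5 D139144) (iv4 D65307) F310033 (iv4 F86394) (iv5 F301287) F301288 (iv2 F301292)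
theorem E96329 : n145825 = n120601 := ((c17_10 F311494 F334908 (iv1 F235081) F235079 F322913 F306225 F92240 (iv5 F307112) (iv0 D120599) D120601)).symm
theorem F334911 : act 0 n120601 = n97236 := (sb E96329 F311494)
theorem F334912 : act 1 n120601 = n68372 := (sb E96329 (iv0 D145825))
theorem F334913 : act 3 n120601 = n140786 := (sb E96329 (iv3 F334902))
theorem F334914 : act 5 n120601 = n140768 := (sb E96329 (iv5 F334903))
theorem F334915 : act 6 n120601 = n140771 := (sb E96329 F334901)
theorem E96330 : n141493 = n120601 := (c17_2 D66379 D141493 F334911 F334908 F334910 (iv5 D139144) (iv0 F101037) D138653 F332626 F102275)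
theorem E96331 : n140768 = n66379 := ((F334914).symm.trans (sb E96330 (iv5 D141493)))
theorem E96332 : n141491 = n66061 := ((D141491).symm.trans (sb E96331 F223861))
theorem F334916 : act 5 n66379 = n120601 := (sb E96331 (iv5 F334914))
theorem E96333 : n141494 = n66055 := ((D141494).symm.trans (sb E96331 (iv6 D140768)))
theorem E96334 : n141495 = n141441 := ((D141495).symm.trans (sb E96331 F332452))
theorem F334917 : act 3 n66061 = n66379 := (sb E96332 (iv3 D141491))
theorem F334918 : act 6 n66055 = n66379 := (sb E96333 (iv6 D141494))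
theorem E96335 : n149585 = n66380 := (((iv2 F332444)).symm.trans (sb E96334 F224556))
theorem F334919 : act 7 n141441 = n66379 := (sb E96334 (iv7 D141495))
theorem F334920 : act 2 n66380 = n141441 := (sb E96335 F332444)
theorem E96336 : n141499 = n70244 := ((D141499).symm.trans (sb E96335 (iv6 D149585)))
theorem F334921 : act 6 n70244 = n66380 := (sb E96336 (iv6 D141499))
theorem E96337 : n145826 = n141498 := (c21_2 (iv5 F334908) (iv1 F311495) (iv5 D141498) (iv6 F334921) (iv1 D70244) (iv6 D32605) F24979 D29702 (iv5 F55725) D76755 (iv1 F229614))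
theorem F334922 : act 0 n141498 = n68372 := (sb E96337 (iv1 D145826))
theorem F334923 : act 1 n141498 = n97236 := (sb E96337 F311495)
theorem F334924 : act 0 n95883 = n150407 := d21_4 (iv5 F115141) (iv1 F229614) (iv5 F334908) F149997 F236766 (iv5 F264586) (iv1 F264589) (iv5 F191334) F191335 (iv1 F191361)
theorem F334925 : act 1 n95883 = n150406 := d15_1 (iv0 F334924) (iv7 F306306) F306302
theorem F334926 : act 1 n150406 = n95879 := d15_1 F334925 F301288 (iv2 F301292)
theorem E96338 : n151759 = n141498 := (c18_6 (iv1 F205924) F307770 F232637 (iv4 F304552) D71533 D151759 F334923 F149996 F334925 (iv5 D150406))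
theorem F334927 : act 2 n141498 = n75926 := (sb E96338 F238666)
theorem F334928 : act 4 n141498 = n71533 := (sb E96338 (iv4 D151759))
theorem F334929 : act 6 n141498 = n117653 := (sb E96338 F238667)
theorem F334930 : act 7 n141498 = n97233 := (sb E96338 (iv7 F332451))
theorem F334931 : act 4 n142627 = n150406 := d20_6 D81709 F332549 (iv4 F134288) F313208 F105826 (iv3 F225501) (iv1 F334925) (iv4 F149996) F149995 (iv1 F71702)
theorem E96339 : n159949 = n142626 := (c17_2 F323527 D159949 (iv1 D142626) D142627 F334931 (iv5 D150406) (iv0 D70859) F51993 D67914 (iv4 F323529))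
theorem F334932 : act 2 n142626 = n151764 := (sb E96339 F252268)
theorem F334933 : act 5 n142626 = n76580 := (sb E96339 (iv5 D159949))
theorem F334934 : act 0 n154821 = n142627 := d18_2 (iv1 F306172) D154821 F334931 (iv5 D150406) F312572 F310287 F55436 (iv0 F232390) D34699
theorem F334935 : act 1 n154931 = n142627 := d18_6 D118679 F312287 (iv1 D65117) F312535 D73489 D154931 F334931 F334926 F301287
theorem F334936 : act 3 n159611 = n154821 := d20_9 F334931 (iv1 F334925) (iv4 F149996) F149995 (iv1 F71702) D81708 (iv4 F283768) (iv1 D159613) (iv4 F251434) F334934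
theorem F334937 : act 5 n154821 = n138620 := d18_9 F329256 (iv4 F235350) F330633 (iv4 F334910) (iv5 F334908) F149996 F334925 (iv4 F334931) (iv0 F334934)
theorem F334938 : act 5 n117376 = n159611 := d6_2 F334937 F329257 F334936
theorem F334939 : act 7 n154930 = n154821 := d13_0 F334937 F329258 D154930
theorem F334940 : act 4 n149686 = n154085 := d16_0 F328069 F111899 (iv5 F312538) F107951 D73421 D154821 F334937 F329258 F235353
theorem F334941 : act 4 n138619 = n146229 := d18_7 F332447 (iv4 D75926) (iv1 F306172) D154821 F334937 (iv4 D138620) D138619 F243380 (iv5 F228973)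
theorem F334942 : act 6 n159610 = n154821 := d21_5 F55453 (iv1 F43632) (iv5 F85457) (iv6 F309807) F251432 F334937 F329256 F106752 (iv6 D68722) (iv1 F55455)
theorem F334943 : act 5 n149686 = n154931 := d9_8 (iv5 F334937) (iv4 D154821) (iv5 D73421) (iv4 F107951) F312538 (iv4 F111899) (iv5 F328069) (iv4 F334940) (iv4 D154931) (iv5 D73489) (iv4 F312535) (iv5 D30575) (iv4 F48988) D65087 D138620
theorem F334944 : act 6 n117800 = n138620 := d12_0 (iv5 F334937) (iv6 F334942) F251429 (iv6 F304004) (iv5 F332523)
theorem F334945 : act 2 n154930 = n154931 := d16_9 (iv4 D154931) (iv5 D73489) (iv4 F312535) (iv5 D30575) (iv4 F48988) D65087 D138620 (iv5 F334937) (iv7 F334939)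
theorem F334946 : act 4 n120599 = n154930 := d1_0 F334945 (iv4 D154931) F232671
theorem F334947 : act 6 n154931 = n120599 := d3_2 (iv6 F243620) F334945 (iv2 F232671)
theorem F334948 : act 5 n146612 = n109677 := d21_0 (iv1 D109677) D109679 (iv6 F225502) (iv1 F334935) F334947 F307112 (iv1 F92240) (iv5 F306225) (iv6 F319253) F319250
theorem F334949 : act 3 n109677 = n146619 := d6_1 F334948 (iv5 D146619) (iv3 F229905)
theorem F334950 : act 6 n109677 = n133573 := d12_2 D146612 F334948 F314623 (iv6 F250243) F250242
theorem F334951 : act 2 n148015 = n109677 := d3_3 F334950 F314621 D148015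
theorem E96340 : n146640 = n109679 := ((c21_1 D109679 (iv1 D146640) (iv5 F316917) F316918 F94208 F320524 (iv5 F320523) D69310 (iv5 F314623) (iv6 F334950) (iv1 D109677))).symm
theorem F334952 : act 0 n109679 = n68719 := (sb E96340 (iv1 D146640))
theorem E96341 : n145008 = n144982 := (c20_8 D74495 (iv1 F324825) F324826 (iv3 F169663) F334952 F104908 F104573 D145008 (iv4 D144982) F317364 (iv1 F101387))
theorem F334953 : act 1 n144982 = n67983 := (sb E96341 (iv0 D145008))
theorem F334954 : act 5 n138741 = n144877 := d21_2 (iv5 F316917) (iv1 F322179) (iv6 D144877) F103993 (iv6 F114830) (iv5 F334933) (iv1 D142626) D142627 F225502 F334952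
theorem F334955 : act 7 n139072 = n117310 := d15_2 (iv0 F334952) (iv0 F222254) F183670
theorem F334956 : act 2 n138986 = n146639 := d15_3 (iv0 D146639) (iv0 F334952) (iv7 F222154)
theorem E96342 : n146639 = n117669 := (c0_2 D138986 F334956 (iv3 D117669) (iv2 F237563) F316827 F101338)
theorem F334957 : act 1 n117669 = n68719 := (sb E96342 (iv0 D146639))
theorem F334958 : act 2 n117669 = n138986 := (sb E96342 (iv2 F334956))
theorem F334959 : act 7 n117669 = n139132 := d4_2 (iv7 F222154) (iv2 F334958) (iv2 F222317)
theorem F334960 : act 1 n139072 = n117669 := d15_1 (iv0 F222254) F334959 (iv2 F222317)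
theorem F334961 : act 3 n117319 = n139072 := d8_3 F334955 F183671 D117319
theorem E96343 : n146599 = n139072 := (c11_4 F334955 F332527 F247771 D146599)
theorem F334962 : act 4 n139072 = n68706 := (sb E96343 (iv4 D146599))
theorem F334963 : act 6 n117651 = n139072 := d14_5 F334955 (iv6 D117310) F85302 D68631 (iv7 F240208)
theorem F334964 : act 1 n138986 = n117310 := d15_1 (iv0 F222155) (iv7 F334955) F222253
theorem F334965 : act 1 n117310 = n139132 := d15_1 F334964 (iv7 F334959) F334958
theorem F334966 : act 0 n139967 = n117315 := d20_1 D139967 F183682 (iv3 F183671) (iv1 F334964) (iv3 D138986) F324827 F323544 (iv4 D65134) (iv3 F100897) (iv1 F325726)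
theorem E96344 : n159621 = n139967 := ((c15_1 (iv0 F334966) (iv0 F333243) (iv7 D146345) (iv2 F183681))).symm
theorem F334967 : act 1 n139967 = n146345 := (sb E96344 (iv0 F333243))
theorem F334968 : act 5 n139967 = n135606 := (sb E96344 (iv5 F333241))
theorem F334969 : act 6 n139967 = n76366 := (sb E96344 (iv6 D159621))
theorem F334970 : act 3 n150007 = n139967 := d7_3 F334969 F333237 D150007
theorem F334971 : act 4 n144494 = n139943 := d18_1 (iv1 F333257) (iv1 D139943) F101422 D65709 D139967 F334967 F229682 F247752 D69641
theorem F334972 : act 3 n145538 = n145889 := d20_3 (iv4 F94414) D127636 (iv4 F324928) (iv1 F229653) F229649 (iv4 F229682) (iv1 F334967) (iv4 D139967) F330074 (iv1 D59945)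
theorem F334973 : act 2 n145889 = n146313 := d0_1 F334972 F334436 F241161 D69284 (iv2 F324927)
theorem F334974 : act 5 n145889 = n145512 := d6_2 (iv5 F228589) F334972 F228570
theorem F334975 : act 7 n145889 = n145511 := d8_2 D145538 F334972 F228569
theorem E96345 : n147887 = n146316 := (c15_1 D147887 F229653 F334975 F324924)
theorem E96346 : n145890 = n69289 := (((iv1 F229652)).symm.trans (sb E96345 (iv1 D147887)))
theorem E96347 : n147886 = n68409 := ((D147886).symm.trans (sb E96346 (iv1 D145890)))
theorem F334976 : act 1 n69289 = n146316 := (sb E96346 F229652)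
theorem F334977 : act 1 n68409 = n69289 := (sb E96347 (iv0 D147886))
theorem F334978 : act 5 n143043 = n147891 := d21_2 F319178 D143043 (iv6 D147891) (iv1 F334977) (iv6 D68409) (iv5 D31828) (iv1 F24790) D32108 D69021 (iv1 F242773)
theorem E96348 : n147890 = n145504 := ((c21_6 F107736 (iv1 F104028) D68013 (iv6 F321293) F182490 D145504 (iv5 D147890) (iv1 F334977) (iv5 F109141) (iv6 D72614) (iv1 F107739))).symm
theorem F334979 : act 3 n145504 = n69291 := (sb E96348 F231671)
theorem F334980 : act 5 n145504 = n69289 := (sb E96348 (iv5 D147890))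
theorem E96349 : n143043 = n143041 := (c12_4 D145504 F334980 D147891 (iv5 F334978) (iv6 D143041) F180130)
theorem F334981 : act 1 n143041 = n67039 := (sb E96349 (iv0 D143043))
theorem F334982 : act 5 n143041 = n147891 := (sb E96349 F334978)
theorem F334983 : act 5 n139078 = n146316 := d21_6 F169672 (iv1 F184459) (iv5 D116398) (iv6 F322254) F214158 D139078 (iv1 F334976) (iv5 F334980) (iv6 D145504) F180129
theorem F334984 : act 3 n124894 = n139078 := d6_3 F334983 F229649 (iv5 F232267)
theorem F334985 : act 7 n146315 = n139078 := d13_0 F334983 (iv7 D146316) D146315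
theorem F334986 : act 1 n139088 = n146315 := d15_1 D139088 F334985 F222263
theorem F334987 : act 1 n153569 = n139078 := d15_1 D153569 (iv7 F334985) F229645
theorem F334988 : act 3 n147897 = n143041 := d6_3 F334982 F231672 D147897
theorem E96350 : n142822 = n116417 := (c0_5 F334988 (iv2 F228567) F228568 F182575 (iv3 F225715) F318653)
theorem F334989 : act 3 n116417 = n66947 := (sb E96350 F225715)
theorem F334990 : act 6 n116417 = n66944 := (sb E96350 (iv6 D142822))
theorem F334991 : act 6 n116626 = n147897 := d7_0 F334988 (iv6 D143041) (iv3 F181999)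
theorem F334992 : act 7 n143041 = n170573 := d8_2 (iv7 F313102) F334988 F267998
theorem F334993 : act 6 n167345 = n142832 := d14_3 F334992 (iv6 D170573) F301929 F225726 D143041
theorem F334994 : act 2 n142834 = n167345 := d3_3 F334993 (iv2 D142832) D142834
theorem F334995 : act 0 n147257 = n167345 := d21_4 (iv5 D32113) D32112 D69030 D147257 F334993 F225725 (iv1 F182585) F103145 (iv6 F320241) F55624
theorem F334996 : act 5 n158458 = n142834 := d2_0 F334994 (iv5 D167345) (iv2 F301225)
theorem F334997 : act 7 n170568 = n142834 := d4_0 F334994 (iv7 F301929) (iv2 F267996)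
theorem F334998 : act 1 n147257 = n170568 := d15_1 (iv0 F334995) F334997 F334994
theorem E96351 : n160072 = n142834 := ((c15_4 (iv0 D160072) F313098 F301929 (iv2 F334994))).symm
theorem F334999 : act 1 n142834 = n76658 := (sb E96351 (iv0 D160072))
theorem F335000 : act 1 n170568 = n160074 := d15_1 F334998 (iv7 D160074) (iv2 F230852)
theorem F335001 : act 0 n131510 = n170569 := d21_4 (iv5 F312922) (iv1 F50488) (iv5 F96313) D131510 (iv6 D170569) D170568 (iv1 F334998) F230855 (iv6 D71636) F312912
theorem F335002 : act 5 n170569 = n175223 := d21_0 (iv1 D175223) (iv5 D83684) (iv6 D38577) F33892 D45118 (iv5 F312922) (iv1 F50488) (iv5 F96313) D131510 F335001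
theorem F335003 : act 1 n131510 = n133308 := d15_1 (iv0 F335001) F313103 (iv2 F267997)
theorem E96352 : n131512 = n131478 := (c17_1 D131512 F333658 (iv1 D83697) (iv5 D38580) (iv4 F59403) D83684 D175223 (iv5 F335002) (iv0 F335001) F210777)
theorem F335004 : act 1 n131478 = n61718 := (sb E96352 (iv0 D131512))
theorem F335005 : act 2 n133840 = n131478 := d15_3 F335004 (iv0 F233693) F323851
theorem E96353 : n157353 = n120190 := ((c20_4 F79226 (iv1 F79097) (iv4 F167445) D120190 (iv1 D157353) (iv3 F210776) F210777 (iv1 F335004) (iv4 D131478) (iv3 F326047) (iv1 F79229))).symm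
theorem F335006 : act 0 n120190 = n74830 := (sb E96353 (iv1 D157353))
theorem F335007 : act 1 n120190 = n155357 := (sb E96353 F247653)
theorem E96354 : n157352 = n130878 := (c15_2 F335007 F247652 (iv7 F252504) F252503)
theorem F335008 : act 0 n130878 = n155357 := (sb E96354 (iv1 F247652))
theorem F335009 : act 1 n130878 = n74830 := (sb E96354 (iv0 D157352))
theorem E96355 : n159951 = n155316 := (c18_3 (iv1 F191353) F321841 (iv1 F252278) (iv4 D155316) (iv5 F312180) F247312 F335007 F311697 (iv0 D80606) (iv5 F94898))
theorem F335010 : act 0 n155316 = n146513 := (sb E96355 (iv1 F252277))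
theorem F335011 : act 1 n155316 = n146512 := (sb E96355 F252278)
theorem F335012 : act 2 n155316 = n146514 := (sb E96355 F252273)
theorem F335013 : act 3 n155316 = n144909 := (sb E96355 F252274)
theorem F335014 : act 5 n155316 = n151729 := (sb E96355 F252275)
theorem F335015 : act 6 n155316 = n76581 := (sb E96355 (iv6 D159951))
theorem F335016 : act 7 n155316 = n76586 := (sb E96355 F252276)
theorem E96356 : n148829 = n106041 := (c18_1 (iv1 F233689) (iv4 D106041) D106039 F321845 F104671 (iv4 F215474) F247315 F247312 F335007 F244323)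
theorem F335017 : act 0 n106041 = n76586 := (sb E96356 (iv1 F233688))
theorem F335018 : act 1 n106041 = n146514 := (sb E96356 F233689)
theorem F335019 : act 2 n106041 = n146513 := (sb E96356 F233686)
theorem F335020 : act 3 n106041 = n69756 := (sb E96356 (iv3 D148829))
theorem F335021 : act 7 n106041 = n146512 := (sb E96356 F233687)
theorem F335022 : act 3 n118815 = n127977 := d20_3 D117878 (iv1 F305695) (iv4 F186884) (iv1 F237042) F235855 (iv4 F311697) (iv1 F335007) (iv4 F247312) F312179 F232916
theorem F335023 : act 3 n147823 = n149143 := d5_3 (iv4 F186884) F335022 (iv4 F237043) (iv4 F234518) F186880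
theorem F335024 : act 5 n155323 = n118815 := d6_0 F335022 (iv5 F242478) (iv3 F244258)
theorem F335025 : act 0 n149903 = n148464 := d20_1 (iv4 F309478) (iv4 D148464) (iv3 F233219) (iv1 D147838) F105537 D69278 (iv1 F231585) F237043 (iv3 F335022) F252416
theorem F335026 : act 4 n94241 = n128308 := d18_7 F252416 (iv4 F309478) F335025 (iv4 D148464) F232209 F323669 (iv0 F145325) F244265 F335024
theorem F335027 : act 6 n154952 = n139951 := d21_3 F314076 F335025 (iv5 F333329) (iv1 F224537) (iv6 F333351) F334133 F301159 (iv5 F314086) (iv6 D127311) D127306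
theorem F335028 : act 5 n154938 = n128313 := d21_6 (iv5 F307711) F60245 D70484 D149903 F335025 (iv6 F243640) (iv1 F333317) F333293 (iv6 F191377) (iv1 F188987)
theorem F335029 : act 0 n159624 = n145804 := d21_1 (iv5 F333168) (iv5 F310968) (iv6 D117853) D117849 (iv6 F314077) F314076 F335025 (iv5 F333329) F335027 (iv1 F224537)
theorem F335030 : act 5 n127477 = n159627 := d17_5 F335029 (iv5 F310968) F310965 F106645 (iv4 F204907) (iv0 D159627) (iv5 D76368) D76367 D159624
theorem F335031 : act 3 n134599 = n159624 := d19_19 F335029 (iv5 F310968) (iv4 F250286) (iv3 D158948) (iv1 F311646) F329643 F98310 (iv3 D62112) (iv1 F48289) (iv5 F93636) F93637 D63775 D135631 F218111 (iv4 F216516) (iv3 D134534) (iv1 F98476) D63245 D134599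
theorem F335032 : act 0 n173672 = n159623 := d20_4 (iv4 F128958) (iv1 F298798) (iv4 F301466) D173672 (iv3 D159623) D159624 F335029 F324707 (iv3 D83984) (iv1 F128956)
theorem F335033 : act 1 n97238 = n145804 := d15_0 (iv0 F335029) F333231 (iv2 F333161)
theorem F335034 : act 5 n176020 = n115106 := d18_9 (iv1 F179337) F179335 (iv1 F99227) D135544 F333165 F230422 F335033 F324707 D176020
theorem E96357 : n159529 = n150002 := ((c20_2 (iv4 F259569) (iv1 F259572) (iv4 D159529) (iv3 F332635) (iv1 F128954) D83984 (iv4 F324707) (iv1 F335033) (iv4 F230422) F333237 (iv1 F120365))).symm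
theorem F335035 : act 4 n150002 = n76320 := (sb E96357 (iv4 D159529))
theorem F335036 : act 7 n150002 = n164621 := (sb E96357 (iv7 F332629))
theorem E96358 : n177066 = n139958 := ((c21_9 F83728 (iv1 F71273) (iv5 F306028) D145804 (iv1 F335033) F333163 (iv5 D65709) D65707 D139958 (iv6 D177066) F129521)).symm
theorem F335037 : act 2 n139958 = n144395 := (sb E96358 (iv2 F320864))
theorem F335038 : act 4 n139958 = n105865 := (sb E96358 F276491)
theorem F335039 : act 6 n139958 = n84390 := (sb E96358 (iv6 D177066))
theorem E96359 : n144393 = n65707 := (c2_4 D139958 F335037 (iv5 D144395) D144393)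
theorem E96360 : n139743 = n116023 := ((((iv1 F180772)).symm.trans (sb E96359 (iv1 F227157)))).symm
theorem E96362 : n139955 = n67659 := ((D139955).symm.trans (sb E96359 (iv2 D144393)))
theorem E96363 : n139956 = n139738 := ((D139956).symm.trans (sb E96359 F227153))
theorem E96364 : n139960 = n139744 := ((D139960).symm.trans (sb E96359 F227154))
theorem E96365 : n65708 = n65594 := (((iv1 F180771)).symm.trans (sb E96360 (iv1 D139743)))
theorem F335040 : act 2 n67659 = n65707 := (sb E96362 (iv2 D139955))
theorem F335041 : act 3 n139738 = n65707 := (sb E96363 (iv3 D139956))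
theorem F335042 : act 7 n139744 = n65707 := (sb E96364 (iv7 D139960))
theorem F335043 : act 0 n65594 = n30770 := (sb E96365 (iv1 D65708))
theorem F335044 : act 1 n65594 = n116023 := (sb E96365 F180771)
theorem F335045 : act 0 n146417 = n138697 := d21_10 (iv5 F332417) (iv1 F335044) D139745 F319650 (iv1 F243112) F162415 (iv5 D48896) F50927 D68649 D146417
theorem F335046 : act 7 n146417 = n138671 := d15_2 D138697 (iv0 F335045) F221827
theorem F335047 : act 7 n140799 = n127434 := d8_2 F335046 (iv3 F324397) (iv3 F229743)
theorem F335048 : act 4 n138671 = n147960 := d11_1 F335046 (iv7 D147960) (iv4 F229744)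
theorem F335049 : act 6 n138671 = n148447 := d14_1 F335046 F308947 (iv6 F308954) (iv7 F104851) D146417
theorem F335050 : act 6 n147740 = n140799 := d7_2 F335049 F232196 F324397
theorem E96370 : n140784 = n139855 := (c21_8 (iv5 D73154) D73151 (iv5 F231484) F335050 (iv1 D140799) (iv6 F223872) (iv5 D140786) D140784 F315568 (iv6 F206537) (iv1 F230910))
theorem F335051 : act 0 n139855 = n81724 := (sb E96370 F326372)
theorem F335052 : act 1 n139855 = n66061 := (sb E96370 (iv0 D140784))
theorem F335053 : act 0 n124554 = n140799 := d21_4 F299085 F151617 (iv5 F151616) D124554 (iv6 F335050) F231484 (iv1 F109639) D73173 (iv6 F307914) D86671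
theorem F335054 : act 5 n115838 = n124554 := d21_6 F222380 (iv1 D65063) (iv5 D30558) D30559 D65066 (iv6 F324371) F335053 F324398 (iv6 D74478) (iv1 F53645)
theorem E96371 : n145759 = n124554 := ((c15_1 (iv0 F335053) (iv0 D145759) F317008 (iv2 F324396))).symm
theorem F335055 : act 1 n124554 = n68341 := (sb E96371 (iv0 D145759))
theorem F335056 : act 4 n124554 = n69237 := (sb E96371 F237569)
theorem F335057 : act 7 n124554 = n115837 := d15_2 D140799 (iv0 F335053) (iv2 F180271)
theorem E96372 : n163519 = n84846 := (c17_2 (iv1 F230537) F334034 (iv1 D84846) D84849 (iv4 F330046) (iv5 D142164) (iv0 F322976) (iv5 F324398) (iv0 F335053) F335056)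
theorem E96373 : n147795 = n79873 := (((F130052).symm.trans (sb E96372 F334035))).symm
theorem E96374 : n178279 = n79871 := (((iv2 F277832)).symm.trans (sb E96372 F334031))
theorem E96375 : n178282 = n147055 := ((D178282).symm.trans (sb E96372 (iv5 F334034)))
theorem E96376 : n178274 = n78578 := ((F277831).symm.trans (sb E96372 (iv7 D163519)))
theorem E96377 : n84845 = n69239 := ((F130048).symm.trans (sb E96373 (iv0 D147795)))
theorem F335058 : act 2 n79871 = n84846 := (sb E96374 F277832)
theorem F335059 : act 5 n147055 = n84846 := (sb E96375 (iv5 D178282))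
theorem F335060 : act 7 n78578 = n84846 := (sb E96376 (iv7 F277831))
theorem F335061 : act 0 n69239 = n79873 := (sb E96377 (iv1 F130048))
theorem E96378 : n147796 = n39258 := ((D147796).symm.trans (sb E96377 (iv0 D84845)))
theorem F335062 : act 0 n39258 = n69239 := (sb E96378 (iv1 D147796))
theorem E96383 : n148613 = n147396 := (c19_8 F335062 (iv5 D69239) F51142 F24814 D15236 D32329 D69650 D148613 (iv1 F231117) F105508 F51141 F24812 (iv1 F20712) D26250 (iv4 F41666) F300629 (iv1 D27147) F21625 (iv4 F41782) D39258)
theorem F335063 : act 3 n147396 = n69650 := (sb E96383 (iv3 D148613))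
theorem E96384 : n178542 = n178292 := (c21_10 (iv5 D84849) F335062 (iv5 D69239) (iv6 D32196) (iv1 F51099) D69086 F305674 D127880 (iv5 F267386) (iv6 F278242) (iv1 D178292))
theorem F335064 : act 2 n178292 = n85010 := (sb E96384 (iv2 D178542))
theorem F335065 : act 4 n178292 = n169956 := (sb E96384 F278241)
theorem F335066 : act 6 n178292 = n169955 := (sb E96384 F278242)
theorem F335067 : act 0 n169956 = n146719 := d17_0 F243027 (iv1 D69294) (iv5 D32210) (iv4 F51142) D69239 (iv0 F335062) D84849 D178292 F335065
theorem F335068 : act 1 n169956 = n146718 := d15_1 (iv0 F335067) (iv7 F308701) F308698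
theorem F335069 : act 7 n169956 = n146709 := d15_2 D146719 (iv0 F335067) F230044
theorem F335070 : act 3 n103605 = n146718 := d20_9 (iv4 F335065) (iv1 D178292) (iv4 F330046) F322979 (iv1 F319864) F159148 F75493 (iv1 F75363) D103605 (iv1 F335068)
theorem F335071 : act 6 n145576 = n146718 := d21_3 D69134 F322227 D145576 (iv1 F335068) (iv6 D169956) (iv5 D81523) (iv1 F71129) (iv5 F306564) (iv6 F105312) (iv1 F105314)
theorem F335072 : act 7 n116431 = n145576 := d14_0 F335071 (iv7 F308701) F308700 F200427 (iv6 F318120)
theorem F335073 : act 2 n145576 = n116432 := d4_1 F335072 F318122 (iv2 F318117)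
theorem F335074 : act 5 n118431 = n103605 := d6_0 F335070 F243024 (iv3 F230734)
theorem E96385 : n103730 = n103605 := (c8_1 D103730 F335070 (iv7 F308701) (iv3 D103727))
theorem F335075 : act 2 n103605 = n48039 := (sb E96385 F159176)
theorem E96386 : n48037 = n47986 := ((((iv4 D103605)).symm.trans (sb E96385 F159177))).symm
theorem F335076 : act 7 n103605 = n48034 := (sb E96385 (iv7 D103730))
theorem E96387 : n103713 = n23150 := ((((iv1 D47986)).symm.trans (sb E96386 (iv1 F159164)))).symm
theorem E96389 : n103603 = n23180 := (((iv2 F158952)).symm.trans (sb E96386 F75499))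
theorem E96390 : n103724 = n103604 := (((D103604).symm.trans (sb E96386 (iv3 F159173)))).symm
theorem E96391 : n103735 = n103606 := (((D103606).symm.trans (sb E96386 (iv5 F159182)))).symm
theorem E96392 : n103739 = n103607 := (((D103607).symm.trans (sb E96386 D103739))).symm
theorem E96393 : n103599 = n23179 := ((F158951).symm.trans (sb E96386 (iv7 D48037)))
theorem E96394 : n48032 = n47985 := (((D47985).symm.trans (sb E96387 (iv1 D103713)))).symm
theorem F335077 : act 2 n23180 = n47986 := (sb E96389 F158952)
theorem F335078 : act 7 n103604 = n48033 := (sb E96390 (iv7 D103724))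
theorem F335079 : act 2 n103606 = n48040 := (sb E96391 F159181)
theorem F335080 : act 7 n103606 = n48035 := (sb E96391 (iv7 D103735))
theorem F335081 : act 2 n103607 = n48041 := (sb E96392 F159185)
theorem F335082 : act 7 n23179 = n47986 := (sb E96393 (iv7 F158951))
theorem F335083 : act 2 n47985 = n23179 := (sb E96394 (iv2 D48032))
theorem E96395 : n103714 = n103600 := (((D103600).symm.trans (sb E96394 D103714))).symm
theorem E96396 : n103715 = n103601 := (((D103601).symm.trans (sb E96394 D103715))).symm
theorem E96397 : n103716 = n103602 := (((D103602).symm.trans (sb E96394 D103716))).symm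
theorem E96398 : n103717 = n95950 := ((((iv6 F147588)).symm.trans (sb E96394 D103717))).symm
theorem F335084 : act 7 n47985 = n23180 := (sb E96394 (iv7 F75498))
theorem F335085 : act 7 n103600 = n48038 := (sb E96395 F159165)
theorem F335086 : act 2 n103601 = n48034 := (sb E96396 F159166)
theorem F335087 : act 7 n103601 = n48039 := (sb E96396 F159167)
theorem F335088 : act 2 n103602 = n48035 := (sb E96397 F159168)
theorem F335089 : act 7 n103602 = n48040 := (sb E96397 F159169)
theorem F335090 : act 1 n95950 = n68458 := (sb E96398 F317729)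
theorem F335091 : act 2 n95950 = n48036 := (sb E96398 F159170)
theorem F335092 : act 4 n95950 = n120556 := (sb E96398 F317730)
theorem F335093 : act 7 n95950 = n120579 := (sb E96398 F317731)
theorem F335094 : act 5 n120579 = n95942 := d13_1 F335093 (iv7 F147586) D95950
theorem F335095 : act 6 n120579 = n103754 := d14_1 F335093 (iv7 D103754) (iv6 D48041) (iv7 F335084) (iv6 F147588)
theorem F335096 : act 5 n183089 = n95949 := d16_5 F317734 (iv5 D58350) (iv4 F305066) D87396 D183089 (iv4 D95949) D95950 F335093 (iv2 F317733)
theorem E96399 : n103738 = n95945 := (c16_7 D95949 (iv5 F335096) (iv4 D183089) (iv5 D87396) F305066 D58350 (iv4 F317734) (iv5 D95945) D95947 F147587)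
theorem F335097 : act 0 n95945 = n68458 := (sb E96399 F317732)
theorem F335098 : act 2 n95945 = n120579 := (sb E96399 F317733)
theorem F335099 : act 4 n95945 = n58350 := (sb E96399 F317734)
theorem F335100 : act 7 n95945 = n48036 := (sb E96399 (iv7 D103738))
theorem E96400 : n95947 = n95526 := ((c13_2 F335100 F147143 (iv7 D95947) D95945)).symm
theorem F335101 : act 2 n95526 = n44782 := (sb E96400 F147587)
theorem F335102 : act 7 n95526 = n44781 := (sb E96400 (iv7 D95947))
theorem F335103 : act 5 n183097 = n95944 := d16_5 F335092 F192107 (iv4 F305065) D87401 D183097 (iv4 D95944) D95945 F335100 (iv2 F335091)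
theorem E96401 : n95942 = n95525 := (c15_4 (iv0 D95525) D95526 F335102 D95942)
theorem F335104 : act 2 n95525 = n44781 := (sb E96401 (iv2 D95942))
theorem F335105 : act 5 n95525 = n120579 := (sb E96401 (iv5 F335094))
theorem F335106 : act 7 n95525 = n44782 := (sb E96401 (iv7 F147586))
theorem F335107 : act 5 n103754 = n104850 := d12_3 (iv6 F160700) F335105 F335095 (iv6 D104850) D104849
theorem F335108 : act 0 n103754 = n97172 := d21_10 F149952 (iv1 D97205) (iv5 D45423) (iv6 D21676) (iv1 F16466) D21233 D44620 D95525 F335105 F335095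
theorem F335109 : act 4 n120580 = n103754 := d17_9 F335108 F149952 (iv1 D97205) (iv5 D45423) (iv4 F71136) D96666 F308551 D154739 (iv0 F243415)
theorem F335110 : act 4 n97172 = n128296 := d18_3 F231217 F335109 F335108 (iv5 F316879) (iv4 F330608) (iv0 D154734) F110083 D73382 (iv5 F230861)
theorem F335111 : act 0 n97171 = n147800 := d21_7 D44620 D95525 F335105 F335095 F335108 (iv6 D97172) D97171 (iv5 D147800) F313190 (iv1 D44619)
theorem F335112 : act 1 n103607 = n97172 := d15_0 (iv0 F335108) (iv7 D103754) (iv2 F335081)
theorem F335113 : act 7 n103748 = n120580 := d11_0 F335109 (iv7 D103754) (iv4 F159188)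
theorem F335114 : act 1 n104850 = n95867 := d17_6 D69110 D147425 F231195 F199619 F335109 F335107 (iv5 D95867) F71674 F315275
theorem F335115 : act 1 n95862 = n104850 := d15_0 F335114 F290430 (iv2 F290432)
theorem F335116 : act 6 n120556 = n103601 := d14_3 F335113 (iv6 D120580) (iv7 F192109) F335087 D103748
theorem F335117 : act 1 n159036 = n103748 := d15_1 F250381 F335113 (iv2 F200463)
theorem F335118 : act 1 n103748 = n154544 := d15_1 F335117 F242595 (iv2 F250377)
theorem F335119 : act 5 n147135 = n142829 := d21_6 F105013 D72728 F317722 D103748 (iv1 F335117) F250379 (iv1 D142829) F334481 D97268 F334482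
theorem F335120 : act 2 n142829 = n147261 := d2_1 F335119 (iv5 D147261) F230695
theorem E96402 : n142829 = n142631 := (c6_1 F335119 (iv3 D142631) F315699 F230698)
theorem F335121 : act 0 n142631 = n66947 := (sb E96402 (iv1 D142829))
theorem F335122 : act 1 n142631 = n97287 := (sb E96402 (iv0 F334474))
theorem F335123 : act 2 n142631 = n147261 := (sb E96402 F335120)
theorem F335124 : act 5 n142631 = n147135 := (sb E96402 (iv5 F335119))
theorem F335125 : act 6 n142631 = n141690 := d12_2 F250379 (iv5 F335124) F316382 (iv6 F189620) (iv5 F250378)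
theorem F335126 : act 0 n142827 = n146275 := d18_2 F335121 (iv4 F225722) (iv4 D146275) (iv5 D68593) D68592 F319857 F317651 F230696 (iv5 F335124)
theorem F335127 : act 6 n116542 = n147261 := d3_2 F335125 F322870 (iv2 F335123)
theorem E96403 : n147261 = n145522 := (c21_4 (iv5 D66893) (iv1 F181462) D116542 F335127 (iv1 D145522) (iv6 D68237) (iv5 D31756) (iv1 D14937) (iv5 F24406) D31294 (iv1 F320093))
theorem F335128 : act 2 n145522 = n142631 := (sb E96403 (iv2 F335123))
theorem F335129 : act 3 n145522 = n116549 := (sb E96403 (iv3 F318628))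
theorem F335130 : act 5 n145522 = n69033 := (sb E96403 (iv5 D147261))
theorem F335131 : act 6 n145522 = n116542 := (sb E96403 (iv6 F335127))
theorem F335132 : act 7 n145522 = n146974 := (sb E96403 F230859)
theorem E96404 : n169834 = n96551 := ((c21_1 (iv5 F334479) (iv1 F308126) (iv5 D154049) (iv6 D72924) (iv1 F109385) F318360 (iv5 D66893) (iv1 F181462) D116542 (iv6 F335131) (iv1 D145522))).symm
theorem F335133 : act 0 n96551 = n154049 := (sb E96404 (iv1 F308126))
theorem F335134 : act 1 n96551 = n81444 := (sb E96404 (iv0 D169834))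
theorem E96405 : n169835 = n96556 := (c15_2 F335134 D169835 F288192 (iv2 F288182))
theorem F335135 : act 0 n96556 = n81444 := (sb E96405 (iv1 D169835))
theorem F335136 : act 1 n96556 = n154049 := (sb E96405 (iv0 F308125))
theorem E96406 : n145521 = n139705 := (c21_2 F334479 D145521 F315691 (iv6 F240549) (iv1 D73246) F310152 (iv5 D17920) (iv1 F29085) (iv5 F58160) D81444 (iv1 F335134))
theorem F335137 : act 0 n139705 = n142831 := (sb E96406 (iv1 F228583))
theorem F335138 : act 1 n139705 = n68237 := (sb E96406 (iv0 D145521))
theorem F335139 : act 5 n142831 = n96556 := d21_0 F335135 (iv5 F313082) (iv6 F315595) (iv1 F317880) F315707 (iv5 F315706) (iv1 D139269) (iv5 F313291) (iv6 F315692) F335137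
theorem F335140 : act 4 n139705 = n176368 := d17_9 (iv1 D176368) (iv5 F321099) F211589 (iv5 F179423) (iv4 F332566) F313082 (iv0 F335135) (iv5 F335139) (iv0 F335137)
theorem F335141 : act 3 n176368 = n144899 := d5_1 F335140 (iv4 D144899) (iv3 D67917) (iv4 F104789) D139705
theorem F335142 : act 6 n176368 = n114790 := d10_2 (iv6 F315692) F335140 F192426
theorem E96407 : n144899 = n114793 := ((c7_3 F335142 (iv3 D114790) D114793 (iv3 F335141))).symm
theorem F335143 : act 0 n114793 = n145958 := (sb E96407 (iv1 F232613))
theorem F335144 : act 1 n114793 = n117189 := (sb E96407 F232610)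
theorem F335145 : act 2 n114793 = n125201 := (sb E96407 F227857)
theorem F335146 : act 3 n114793 = n176368 := (sb E96407 (iv3 F335141))
theorem F335147 : act 4 n114793 = n67917 := (sb E96407 (iv4 D144899))
theorem F335148 : act 7 n114793 = n145929 := (sb E96407 (iv7 F229142))
theorem F335149 : act 4 n124144 = n129843 := d16_4 F335147 F199850 (iv4 F304460) D124144 F208196 (iv4 F97675) F322394 (iv7 F201292) (iv2 F335145)
theorem F335150 : act 5 n130642 = n114793 := d16_1 (iv4 F209216) F335147 F199850 (iv4 F304460) D124144 F335149 F208196 F96664 D129453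
theorem F335151 : act 5 n179862 = n129453 := d16_3 (iv4 F60591) D85905 D179862 (iv4 F209216) F335150 F335147 F199850 F92500 (iv2 D39775)
theorem E96408 : n148699 = n133435 := (c17_2 (iv1 F329381) (iv5 F233456) (iv1 F214557) F335150 F335147 F199850 F92501 D86005 (iv0 F155295) F324669)
theorem F335152 : act 3 n133435 = n69706 := (sb E96408 F233455)
theorem F335153 : act 5 n133435 = n69686 := (sb E96408 F233456)
theorem F335154 : act 7 n133435 = n69685 := (sb E96408 (iv7 D148699))
theorem F335155 : act 5 n115138 = n145958 := d17_7 F199847 F104613 (iv1 F155356) D34777 F315072 (iv5 F323270) (iv0 F203440) (iv0 F335143) F335147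
theorem F335156 : act 5 n143797 = n129546 := d19_9 (iv1 F214557) F335150 F335147 (iv3 D67917) (iv1 F50161) (iv5 F51756) (iv4 F309367) (iv3 F189821) (iv1 F318434) (iv4 D129546) (iv3 F96867) (iv1 F96869) F96878 D60926 (iv3 F203409) (iv1 F203595) F212400 F333196 (iv3 F335152)
theorem E96409 : n167608 = n144944 := (c20_10 F104052 (iv1 F199848) (iv4 F335147) F335146 (iv1 D176368) (iv3 D84095) (iv4 D38744) F298823 D80436 D167608 (iv1 D144944))
theorem F335157 : act 3 n144944 = n80436 := (sb E96409 (iv3 D167608))
theorem E96410 : n175824 = n145925 := ((((iv7 F229137)).symm.trans (sb E96409 F301476))).symm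
theorem F335158 : act 3 n145925 = n83921 := (sb E96410 (iv3 D175824))
theorem F335159 : act 5 n133468 = n145925 := d6_0 F335158 F317508 D133468
theorem E96411 : n175812 = n114896 := (c20_4 (iv4 D38652) D38650 D83914 D175812 (iv1 F178976) (iv3 F323348) F183354 D144934 F233065 F335158 (iv1 D83921))
theorem F335160 : act 3 n114896 = n83914 := (sb E96411 (iv3 D175812))
theorem F335161 : act 3 n175814 = n114848 := d7_3 (iv6 F178975) F335160 D175814
theorem F335162 : act 5 n96550 = n106516 := d19_17 D49231 (iv5 F120141) (iv4 F178973) F335160 F128910 F321097 (iv4 D63241) (iv3 D29891) (iv1 D14197) D14199 D29900 (iv3 F86285) (iv1 F186373) F332309 F259256 F149773 (iv1 F261863) F163778 F77745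
theorem F335163 : act 4 n117326 = n159519 := d20_2 F183802 (iv1 F183711) F251259 (iv1 F178977) F335160 (iv4 D83914) (iv1 F59474) D38668 D83955 (iv1 F323485)
theorem F335164 : act 0 n176362 = n114085 := d20_4 (iv4 D38791) (iv1 F59520) D84092 D176362 F177606 F83207 D78962 (iv4 F178973) F335160 F128910
theorem F335165 : act 2 n159519 = n117372 := d1_1 F335163 (iv4 D117372) (iv2 F190252)
theorem F335166 : act 7 n159519 = n117367 := d11_2 (iv7 F190253) F335163 (iv4 D117367)
theorem F335167 : act 5 n159519 = n135646 := d16_1 F335163 (iv4 D135646) (iv5 F203470) F203469 (iv5 F216078) F333155 (iv5 F318110) F190256 (iv2 F190252)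
theorem F335168 : act 5 n134534 = n142649 := d19_13 F327182 (iv5 F316980) F335163 F251259 (iv1 F178977) F178974 (iv4 F327309) (iv3 D129142) (iv1 D60712) D60714 D129149 (iv3 F218205) F218208 (iv4 D142649) (iv3 D66866) (iv1 D31155) (iv5 F316219) (iv4 F110656) D116435
theorem F335169 : act 0 n159519 = n127477 := d20_1 F335163 F204907 F94347 (iv1 F204938) (iv3 D54020) F105863 (iv1 F317416) F317418 (iv3 F85364) (iv1 F183711)
theorem F335170 : act 4 n143533 = n159614 := d17_4 (iv1 D117326) (iv5 F114964) F314568 D143533 F251438 F251457 (iv5 F335030) (iv0 F335169) (iv4 F335163)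
theorem F335171 : act 2 n159617 = n143533 := d1_3 F335170 F251436 (iv4 F251446)
theorem F335172 : act 7 n159611 = n143533 := d11_0 F335170 (iv7 D159614) (iv4 F251434)
theorem F335173 : act 5 n135633 = n117367 := d17_3 (iv1 F251441) (iv5 F333164) F218119 (iv4 D117367) (iv5 F316981) F326891 D142650 F326894 F335170
theorem F335174 : act 4 n164235 = n143153 := d18_1 D164235 F226239 F335170 F251438 F333169 F218357 F218356 (iv0 D115162) (iv5 F326294)
theorem E96412 : n149464 = n134314 := (c18_2 F310965 (iv4 F235066) (iv1 D134314) F329570 D143533 F335170 F251442 F230422 F335033 (iv5 F310968))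
theorem F335175 : act 2 n134314 = n124711 := (sb E96412 F235064)
theorem F335176 : act 3 n134314 = n114264 := (sb E96412 F235065)
theorem F335177 : act 4 n134314 = n70190 := (sb E96412 F235066)
theorem F335178 : act 6 n134314 = n70189 := (sb E96412 (iv6 D149464))
theorem E96413 : n164235 = n159911 := ((c20_6 (iv4 F315072) D76134 (iv4 F312206) F114782 D76553 D159911 F335174 F226239 F335170 F251437 (iv1 F233438))).symm
theorem F335179 : act 1 n159911 = n78898 := (sb E96413 (iv0 D164235))
theorem F335180 : act 4 n159911 = n143153 := (sb E96413 F335174)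
theorem F335181 : act 4 n142650 = n170447 := d20_8 F177504 F109393 (iv4 F325784) F325783 (iv1 F233439) (iv3 F251437) (iv4 F335170) (iv1 F326894) (iv3 D170447) (iv1 F313244)
theorem F335182 : act 6 n133316 = n142650 := d10_0 F335181 F267897 (iv4 F316370)
theorem F335183 : act 5 n170447 = n115173 := d16_5 (iv4 F216516) F335168 (iv4 D142649) D142650 F335181 (iv4 F218039) F218043 (iv7 F208622) (iv2 F208621)
theorem F335184 : act 0 n96225 = n150006 := d20_7 (iv4 F335170) (iv1 F326894) F335181 (iv3 D170447) (iv1 F313244) F177503 (iv4 F148004) (iv4 D150006) (iv3 F333237) (iv1 F251442)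
theorem F335185 : act 5 n141483 = n134268 := d16_1 (iv4 F325922) F216298 (iv5 F218043) F218039 (iv5 F335183) (iv4 F335181) (iv5 D142650) (iv7 F181624) F325022
theorem F335186 : act 0 n173656 = n170447 := d20_10 (iv4 F335181) F315212 F114479 F55195 D34895 F325727 (iv4 D38222) D38220 D83052 D173656
theorem F335187 : act 4 n149347 = n173656 := d20_6 (iv4 D54102) F313440 (iv4 F317440) (iv3 F317838) F313168 (iv3 F234776) F335186 (iv4 F335181) F225533 (iv1 F314014)
theorem F335188 : act 6 n173656 = n148459 := d10_2 (iv6 F234777) F335187 (iv4 F232204)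
theorem F335189 : act 1 n173656 = n159911 := d18_6 F314750 (iv4 F252545) (iv1 F314582) F314583 D149347 F335187 F335180 F333253 D159616
theorem F335190 : act 2 n115099 = n173656 := d15_3 F335189 F335179 (iv7 F327109)
theorem E96414 : n159912 = n151576 := ((c20_2 (iv4 F107996) D151576 (iv4 D159912) D159911 (iv1 F335189) (iv3 D173656) (iv4 D83052) (iv1 F59084) (iv4 F59488) F332644 (iv1 D71455))).symm
theorem F335191 : act 4 n151576 = n76553 := (sb E96414 (iv4 D159912))
theorem E96415 : n159913 = n135064 := (c18_5 (iv1 D71455) (iv4 F107996) D151576 F335191 D159913 (iv4 D135064) F216887 F216883 F179370 F332647)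
theorem F335192 : act 5 n135064 = n76553 := (sb E96415 (iv5 D159913))
theorem F335193 : act 3 n123535 = n151576 := d20_5 F80868 F328339 (iv4 F44419) (iv3 F90735) D123535 F335191 (iv1 F193607) (iv4 F197524) F197523 (iv1 F329491)
theorem F335194 : act 4 n123535 = n144519 := d5_2 (iv4 F335191) (iv3 F335193) (iv3 F333255) (iv4 F335180) (iv3 D159911)
theorem F335195 : act 2 n148632 = n123535 := d1_3 F335194 F322012 (iv4 F233388)
theorem F335196 : act 6 n144533 = n123535 := d10_0 F335194 F227378 D144533
theorem F335197 : act 5 n111246 = n123535 := d17_3 F331628 F98421 (iv1 F210280) F335194 (iv5 D144519) (iv0 F323540) F320140 (iv0 D32039) (iv4 F50666)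
theorem F335198 : act 0 n134599 = n123395 := d20_4 F335170 (iv1 F251441) D159624 (iv3 F335031) (iv3 F197963) F197964 D123535 F335194 (iv3 F333255) F226239
theorem F335199 : act 0 n154101 = n148160 := d20_10 F231974 (iv1 F322011) (iv4 F335194) F335193 (iv1 F242378) F242373 (iv4 F329468) F330644 (iv4 D154102) D154101
theorem F335200 : act 3 n156244 = n148160 := d20_5 F242374 (iv1 F114511) (iv4 F332263) F332645 (iv1 F332253) F231974 (iv1 F322011) (iv4 F335194) F335193 (iv1 F242378)
theorem F335201 : act 5 n148160 = n156243 := d6_2 D156244 F335200 (iv3 D156243)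
theorem E96416 : n173389 = n156244 := (c7_1 D173389 F335200 (iv6 D148160) (iv3 F309446))
theorem F335202 : act 6 n156244 = n82975 := (sb E96416 (iv6 D173389))
theorem E96417 : n173392 = n156245 := (c12_4 F335202 (iv5 D82975) D82976 D173392 (iv6 D156245) D156244)
theorem F335203 : act 5 n156245 = n82976 := (sb E96417 (iv5 D173392))
theorem E96418 : n175139 = n98312 := (c21_6 F114541 F90548 D82975 (iv6 F335202) F332252 (iv6 F274111) (iv5 D98312) (iv1 D46000) D46001 (iv6 F151726) F304318)
theorem F335204 : act 2 n98312 = n83698 := (sb E96418 F274110)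
theorem F335205 : act 4 n98312 = n83649 := (sb E96418 (iv4 D175139))
theorem F335206 : act 6 n98312 = n83662 := (sb E96418 F274111)
theorem F335207 : act 4 n175225 = n114491 := d16_2 (iv4 F128757) (iv5 F274259) (iv5 F178548) F114616 D98312 F335205 (iv5 D83649) D83650 F128703
theorem F335208 : act 6 n114489 = n175225 := d10_0 F335207 (iv6 D114491) D114489
theorem F335209 : act 7 n114491 = n175224 := d11_2 D175225 F335207 (iv4 D175224)
theorem E96419 : n175284 = n98309 := ((c16_2 (iv4 D98308) D98309 F274292 F128762 (iv4 F128757) (iv5 F274259) F335207 (iv5 F178548) F145350 (iv2 F151732))).symm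
theorem F335210 : act 4 n98309 = n83699 := (sb E96419 F274292)
theorem F335211 : act 7 n98309 = n83698 := (sb E96419 (iv7 D175284))
theorem F335212 : act 5 n144907 = n114734 := d17_1 D144907 (iv1 F178846) (iv5 F274259) F335207 (iv5 F178548) (iv0 F251780) (iv5 D159783) F290300 F315223
theorem E96420 : n161640 = n98316 := (c16_4 (iv4 F233197) F335212 F309814 D161640 (iv4 D98316) (iv5 D46001) F34480 D42180 D90247 (iv2 F317456))
theorem F335213 : act 2 n98316 = n77642 := (sb E96420 F255649)
theorem F335214 : act 5 n98316 = n77635 := (sb E96420 (iv5 D161640))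
theorem F335215 : act 6 n159789 = n96684 := d21_3 (iv5 F335212) F315218 D159789 (iv1 D96684) (iv6 D45165) (iv5 F40620) (iv1 D25704) D25706 D52953 D114734
theorem E96421 : n159789 = n151992 := ((c14_1 D151992 F335215 (iv7 F311818) F185490 F85855 D71662)).symm
theorem F335216 : act 5 n151992 = n76459 := (sb E96421 (iv5 D159789))
theorem F335217 : act 6 n151992 = n96684 := (sb E96421 F335215)
theorem F335218 : act 3 n96684 = n131088 := d7_1 F335217 (iv6 F232717) (iv3 F239007)
theorem F335219 : act 4 n131088 = n99443 := d5_2 F188172 F335218 (iv3 D99443) (iv4 F155525) (iv3 F188171)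
theorem F335220 : act 5 n118070 = n96684 := d6_0 F335218 F309953 (iv3 F309952)
theorem E96422 : n99524 = n99443 := ((c20_7 (iv4 F98090) F185294 (iv4 F185279) F234327 F311826 F335218 F335219 (iv1 D99524) (iv4 F125420) F309604 (iv1 D62865))).symm
theorem F335221 : act 0 n99443 = n46525 := (sb E96422 (iv1 D99524))
theorem F335222 : act 0 n152024 = n99443 := d20_1 (iv4 F239040) (iv4 F335219) (iv3 F335218) (iv1 D96684) F71177 F33937 D21563 D45173 (iv3 F311262) D107932
theorem E96423 : n154269 = n99525 := ((c17_2 F335221 D99525 (iv1 D154269) (iv5 D73086) (iv4 F109597) (iv5 F307712) (iv0 D119553) (iv5 F232712) F232708 F335219)).symm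
theorem F335223 : act 0 n99525 = n73086 := (sb E96423 (iv1 D154269))
theorem F335224 : act 4 n142355 = n119554 := d18_7 D131088 F335219 F335221 (iv4 F125420) (iv5 F311814) (iv4 F162845) (iv0 F323797) F209936 (iv5 D131090)
theorem F335225 : act 4 n99514 = n157456 := d20_6 (iv4 F59365) (iv1 F127867) F155525 D99443 F335221 (iv3 F153284) F248072 (iv4 F311804) (iv3 D99304) (iv1 F73293)
theorem F335226 : act 2 n157456 = n183292 := d1_1 F335225 F284948 F268711
theorem F335227 : act 7 n133587 = n99514 := d11_0 F335225 F248071 (iv4 F214905)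
theorem F335228 : act 0 n122380 = n99514 := d20_10 F335225 F248072 (iv4 F311804) (iv3 D99304) (iv1 F73293) (iv3 F73812) F73813 (iv1 F114030) (iv4 F117583) D122380
theorem F335229 : act 0 n99514 = n143796 := d20_7 F42207 D29903 (iv4 F207985) D61828 (iv1 F209895) D157456 (iv4 F335225) (iv4 D143796) F103219 (iv1 F316184)
theorem F335230 : act 3 n158669 = n171050 := d20_9 F166831 F311812 F125420 (iv3 F153284) F335229 F318431 (iv4 F312371) (iv1 F316722) D158669 (iv1 F313556)
theorem F335231 : act 1 n130868 = n143796 := d15_0 (iv0 F335229) (iv7 F335227) F214903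
theorem F335232 : act 1 n122380 = n130868 := d15_0 F335231 F318432 (iv2 F195794)
theorem F335233 : act 7 n130868 = n171014 := d15_2 (iv0 F335228) F335232 F268711
theorem F335234 : act 7 n183292 = n107940 := d11_2 F335233 (iv4 F284948) (iv4 F209463)
theorem E96424 : n171025 = n171014 := (c15_2 F309757 D171025 (iv7 F335233) (iv2 F214903))
theorem F335235 : act 0 n171014 = n81975 := (sb E96424 (iv1 D171025))
theorem F335236 : act 1 n171014 = n100825 := (sb E96424 F268742)
theorem F335237 : act 4 n171050 = n120160 := d5_2 D158669 F335230 (iv3 D120160) D120161 F319078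
theorem E96425 : n171050 = n170888 := (c8_2 (iv7 F249824) F335230 (iv7 D170888) F307505)
theorem F335238 : act 0 n170888 = n107964 := (sb E96425 (iv1 F313556))
theorem F335239 : act 1 n170888 = n81985 := (sb E96425 (iv0 D171050))
theorem F335240 : act 3 n170888 = n158669 := (sb E96425 (iv3 F335230))
theorem F335241 : act 4 n170888 = n120160 := (sb E96425 F335237)
theorem F335242 : act 0 n104126 = n158669 := d20_4 (iv4 F60972) D86486 F232862 D104126 (iv3 F335240) F335241 (iv1 F232777) (iv4 F314127) (iv3 D88057) (iv1 D41110)
theorem F335243 : act 3 n119509 = n128156 := d20_5 (iv4 F310298) F335242 (iv4 D158669) (iv3 F319078) F319077 F332028 (iv1 D83370) F59272 F308260 (iv1 F298286)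
theorem F335244 : act 4 n119509 = n149005 := d20_0 (iv1 F310081) F149204 (iv3 F151506) F300766 F312374 (iv4 F310298) F335242 (iv4 D158669) (iv3 F319078) F319077
theorem F335245 : act 7 n118562 = n119509 := d11_0 F335244 (iv7 D149005) (iv4 F186473)
theorem F335246 : act 1 n120214 = n133596 := d15_0 (iv0 F214920) F335245 (iv2 F191407)
theorem F335247 : act 4 n119118 = n155190 := d17_4 (iv1 F162921) F87503 (iv1 F86738) D119118 (iv5 D155190) (iv0 F190689) F191406 F335246 (iv4 D133596)
theorem F335248 : act 5 n119113 = n133596 := d21_0 (iv1 F335246) (iv5 F191406) (iv6 D119291) (iv1 F86844) F42591 (iv5 F59410) (iv1 F128710) (iv5 F191403) (iv6 D120207) (iv1 F187394)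
theorem F335249 : act 5 n96746 = n148995 := d17_7 (iv1 F187394) F335248 (iv1 F335246) (iv5 F191406) F187767 F312799 D96746 F234188 F187395
theorem F335250 : act 0 n120225 = n120206 := d17_0 (iv5 D120206) (iv1 F187394) F335248 (iv4 D133596) (iv5 F187809) F187812 D119401 (iv0 F188130) D120225
theorem F335251 : act 4 n120214 = n96746 := d18_1 (iv1 F335246) (iv1 D96746) F71253 F306119 F86744 D69876 F234205 F187393 F335248
theorem F335252 : act 6 n130144 = n153940 := d21_3 (iv5 F217650) (iv1 D133244) (iv5 F208665) F241961 (iv6 F332075) (iv5 D120206) (iv1 F187394) F335248 F214918 F217651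
theorem F335253 : act 6 n131684 = n158128 := d21_3 (iv5 D132906) F213158 F212758 (iv1 D158128) (iv6 F305809) F305808 F251196 F251192 (iv6 F335252) F213498
theorem F335254 : act 2 n96746 = n149005 := d1_1 F335251 (iv4 F335244) (iv2 F191407)
theorem F335255 : act 4 n148995 = n129335 := d16_6 (iv4 F71253) (iv5 F312799) (iv4 F187767) F191406 F335251 F335249 F318556 F314775 F127162
theorem F335256 : act 1 n96746 = n149004 := d18_6 F332067 (iv4 F206402) (iv1 D128278) (iv4 F187767) F191406 F335251 F234273 (iv0 D120156) D120158
theorem F335257 : act 5 n128132 = n149004 := d9_12 (iv5 F335249) (iv4 F335251) (iv5 F191406) F187767 F312799 F71253 F306119 F86744 D69877 (iv4 F186473) F311883 (iv4 F206249) F234273 (iv5 F318556) (iv4 F335255)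
theorem F335258 : act 1 n128278 = n128132 := d18_8 (iv1 F335256) (iv4 F335251) (iv1 D120214) (iv4 F319362) (iv5 D55018) (iv4 F87015) D119568 (iv4 F206402) F335257
theorem F335259 : act 7 n128132 = n119502 := d15_2 D128278 F335258 F188302
theorem F335260 : act 4 n120211 = n162844 := d17_4 F214920 (iv5 F335248) (iv1 F187393) D120211 F332085 F335258 F335257 (iv0 D149004) (iv4 F186473)
theorem F335261 : act 3 n128278 = n161357 := d20_5 (iv4 F87175) F189901 (iv4 F94784) (iv3 F206248) (iv1 F335258) (iv4 D161357) (iv1 F305101) F189148 F87253 F305963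
theorem F335262 : act 6 n162844 = n177036 := d21_3 (iv5 F335257) (iv1 F335258) (iv5 F332085) F276453 F129506 (iv5 F312061) (iv1 D32452) D32453 (iv6 F106301) D149004
theorem F335263 : act 6 n172019 = n120211 := d10_2 F335262 F276452 F335260
theorem F335264 : act 3 n120211 = n172022 := d7_1 F335263 (iv6 D172022) D172019
theorem F335265 : act 5 n172022 = n120209 := d6_2 D120211 F335264 (iv3 D120209)
theorem F335266 : act 0 n172022 = n173948 := d19_4 (iv1 F335258) (iv5 F332085) (iv4 F335260) F335264 (iv5 D173948) (iv4 D83178) F315013 D76977 F115704 (iv4 D35251) (iv3 F300754) F28233 (iv5 D8105) D8104 D17302 F189891 (iv5 F50909) (iv4 F94784) (iv3 F206248)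
theorem F335267 : act 3 n173948 = n119399 := d20_5 F242262 (iv1 F257117) (iv4 F335260) F335264 F335266 F188123 (iv1 F187812) F308895 (iv3 F307776) F332065
theorem F335268 : act 4 n173948 = n170754 := d20_0 (iv1 D170754) F125888 (iv3 D73036) D73034 D154157 F242262 (iv1 F257117) (iv4 F335260) F335264 F335266
theorem E96426 : n173816 = n172022 := (c20_5 F29474 D18276 D38261 D83116 D173816 (iv3 F335264) F335260 (iv1 D162844) (iv4 F128115) (iv3 D83109) (iv1 D38256))
theorem F335269 : act 1 n172022 = n83116 := (sb E96426 (iv0 D173816))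
theorem F335270 : act 2 n124412 = n173948 := d15_3 (iv0 F335266) F335269 (iv7 F198965)
theorem E96427 : n170754 = n124423 := (c1_3 (iv4 F198964) F335270 F335268 (iv2 D124423))
theorem F335271 : act 0 n124423 = n81865 := (sb E96427 (iv1 D170754))
theorem F335272 : act 4 n124423 = n173948 := (sb E96427 (iv4 F335268))
theorem F335273 : act 5 n173927 = n124412 := d2_0 F335270 (iv5 D173948) (iv2 F315004)
theorem F335274 : act 6 n173948 = n119397 := d3_2 (iv6 F302566) F335270 F188116
theorem F335275 : act 7 n173948 = n173818 := d4_2 (iv7 F198965) F335270 (iv2 D173818)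
theorem F335276 : act 5 n173818 = n173930 := d13_1 F335275 F310283 D173948
theorem F335277 : act 6 n173818 = n172576 := d14_1 F335275 (iv7 F333748) (iv6 D173402) (iv7 F333749) (iv6 F335274)
theorem F335278 : act 1 n173817 = n173948 := d15_1 D173817 F335275 (iv2 D173818)
theorem F335279 : act 5 n173817 = n134663 := d21_2 D173948 (iv1 F335278) (iv6 D134663) (iv1 F308846) (iv6 D114197) (iv5 D52713) (iv1 F56653) (iv5 F110318) D155092 F259372
theorem E96428 : n175341 = n86119 := (c21_5 (iv5 F334153) (iv1 D175338) (iv5 D83733) D83734 D175341 F319518 D173948 (iv1 F335278) F335279 (iv6 D134663) (iv1 F308846))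
theorem E96429 : n180302 = n83734 := ((D180302).symm.trans (sb E96428 (iv0 D175341)))
theorem F335280 : act 0 n83734 = n86119 := (sb E96429 (iv1 D180302))
theorem E96430 : n180301 = n175336 := (c20_11 F274386 F335280 (iv4 D86119) F60653 D39862 (iv3 F326089) D110657 F326955 D131185 F317226 D180301)
theorem F335281 : act 1 n175336 = n86119 := (sb E96430 (iv0 D180301))
theorem F335282 : act 7 n175342 = n180290 := d15_2 (iv0 F335280) D175342 F280600
theorem F335283 : act 2 n175344 = n175336 := d15_3 F335281 (iv0 F335280) D175344
theorem F335284 : act 0 n180303 = n176690 := d18_0 (iv4 D176690) (iv1 D84240) F59861 D39861 D86119 (iv0 F335280) (iv4 F274386) F335281 D180303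
theorem F335285 : act 3 n144358 = n180303 := d20_9 (iv4 D176690) (iv1 D84240) F59861 (iv3 D18861) D18859 D39853 F326658 F166194 D144358 F335284
theorem F335286 : act 5 n176690 = n127898 := d21_2 D180303 F335284 (iv6 D127898) (iv1 F94632) D114197 (iv5 F334153) (iv1 D175338) (iv5 D83733) D83734 F335280
theorem E96431 : n162691 = n104643 := ((c6_3 F335286 F205812 (iv5 F333907) F276060)).symm
theorem F335287 : act 0 n104643 = n78150 := (sb E96431 (iv1 D162691))
theorem F335288 : act 1 n104643 = n78152 := (sb E96431 F256929)
theorem F335289 : act 3 n104643 = n176690 := (sb E96431 F276060)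
theorem F335291 : act 4 n176691 = n176691 := d16_4 (iv4 F205813) (iv5 F335286) (iv4 D176690) D176691 (iv5 D176691) D176690 F335286 F305570 (iv2 F113443)
theorem E96432 : n176685 = n158443 := (c16_1 D176685 (iv5 D158443) (iv4 F205813) (iv5 F335286) (iv4 D176690) D176691 F335291 (iv5 D176691) F276058 (iv2 D176683))
theorem F335292 : act 4 n158443 = n84239 := (sb E96432 (iv4 D176685))
theorem F335295 : act 4 n176683 = n152245 := d1_2 F335292 D176683 (iv2 F249642)
theorem F335296 : act 4 n176687 = n118449 := d10_3 (iv6 F249644) F335292 D176687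
theorem E96433 : n96404 = n84239 := (c19_2 (iv1 F76038) D96404 (iv4 F335292) F249643 F249621 F249619 F201139 F130163 (iv1 F44921) (iv5 F316161) (iv4 D14712) D14711 (iv1 F161275) F40754 (iv4 F48613) F328526 (iv1 F157053) (iv5 D99770) D99769 F153590)
theorem E96434 : n176550 = n104605 := (((iv1 F275884)).symm.trans (sb E96433 (iv1 F160283)))
theorem E96435 : n104604 = n38851 := ((((iv0 D84239)).symm.trans (sb E96433 F160282))).symm
theorem E96436 : n176683 = n48443 := ((D176683).symm.trans (sb E96433 F148401))
theorem E96437 : n176684 = n45013 := ((D176684).symm.trans (sb E96433 F148402))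
theorem E96438 : n176686 = n45012 := ((D176686).symm.trans (sb E96433 (iv5 D96404)))
theorem E96439 : n176688 = n95371 := ((D176688).symm.trans (sb E96433 F148403))
theorem E96440 : n84240 = n48376 := ((((iv1 D104605)).symm.trans (sb E96434 (iv1 F275886)))).symm
theorem F335297 : act 1 n104605 = n84239 := (sb E96434 F275884)
theorem F335298 : act 2 n104605 = n84174 := (sb E96434 (iv2 D176550))
theorem F335299 : act 4 n104605 = n86021 := (sb E96434 F275882)
theorem F335300 : act 7 n104605 = n84241 := (sb E96434 F275883)
theorem E96441 : n95510 = n84242 := (((D84242).symm.trans (sb E96435 F289704))).symm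
theorem F335301 : act 2 n48443 = n84239 := (sb E96436 (iv2 D176683))
theorem E96442 : n152245 = n104775 := (((D104775).symm.trans (sb E96436 F335295))).symm
theorem F335302 : act 3 n45013 = n84239 := (sb E96437 (iv3 D176684))
theorem F335303 : act 5 n45012 = n84239 := (sb E96438 (iv5 D176686))
theorem F335304 : act 7 n95371 = n84239 := (sb E96439 (iv7 D176688))
theorem F335305 : act 0 n48376 = n38851 := (sb E96440 (iv1 D84240))
theorem E96444 : n176690 = n104606 := (((D104606).symm.trans (sb E96440 D176690))).symm
theorem E96447 : n176693 = n96544 := (((iv2 F276061)).symm.trans (sb E96441 F270485))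
theorem E96448 : n176697 = n44615 := ((D176697).symm.trans (sb E96441 (iv6 D95510)))
theorem F335306 : act 2 n104775 = n158443 := (sb E96442 (iv2 F249642))
theorem F335307 : act 5 n104775 = n71816 := (sb E96442 (iv5 D152245))
theorem F335308 : act 6 n104775 = n71819 := (sb E96442 F239306)
theorem F335309 : act 1 n104606 = n180303 := (sb E96444 (iv0 F335284))
theorem F335310 : act 3 n104606 = n104643 := (sb E96444 (iv3 F335289))
theorem F335311 : act 5 n104606 = n127898 := (sb E96444 F335286)
theorem F335312 : act 2 n96544 = n84242 := (sb E96447 F276061)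
theorem F335313 : act 5 n96544 = n84241 := (sb E96447 (iv5 D176693))
theorem E96449 : n89118 = n84246 := ((F136833).symm.trans (sb E96448 F276062))
theorem E96450 : n95509 = n84330 := ((D95509).symm.trans (sb E96448 F276063))
theorem F335314 : act 6 n44615 = n84242 := (sb E96448 (iv6 D176697))
theorem E96451 : n176704 = n97090 := ((D176704).symm.trans (sb E96449 (iv1 F270482)))
theorem F335315 : act 3 n84246 = n44615 := (sb E96449 (iv3 F136833))
theorem E96452 : n176703 = n41636 := (((iv4 F276064)).symm.trans (sb E96449 (iv4 D89118)))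
theorem E96453 : n176706 = n93203 := ((D176706).symm.trans (sb E96449 (iv7 F294343)))
theorem E96454 : n176909 = n89996 := ((D176909).symm.trans (sb E96450 (iv0 F291966)))
theorem E96455 : n176896 = n96543 := (((iv2 F276262)).symm.trans (sb E96450 F270484))
theorem F335316 : act 5 n84330 = n44615 := (sb E96450 (iv5 D95509))
theorem E96456 : n176910 = n96538 := ((D176910).symm.trans (sb E96450 (iv7 F270486)))
theorem F335317 : act 1 n97090 = n84246 := (sb E96451 (iv0 D176704))
theorem F335318 : act 4 n41636 = n84246 := (sb E96452 F276064)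
theorem E96457 : n89120 = n84245 := ((D89120).symm.trans (sb E96452 (iv6 D176703)))
theorem F335319 : act 5 n93203 = n84339 := (sb E96453 F276065)
theorem F335320 : act 7 n93203 = n84246 := (sb E96453 (iv7 D176706))
theorem F335321 : act 0 n89996 = n84330 := (sb E96454 (iv1 D176909))
theorem F335322 : act 2 n96543 = n84330 := (sb E96455 F276262)
theorem F335323 : act 6 n96543 = n84326 := (sb E96455 (iv6 D176896))
theorem F335324 : act 3 n96538 = n84339 := (sb E96456 F276268)
theorem F335325 : act 7 n96538 = n84330 := (sb E96456 (iv7 D176910))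
theorem F335326 : act 6 n84245 = n41636 := (sb E96457 (iv6 D89120))
theorem E96458 : n101978 = n93200 := ((c3_3 F335326 F295331 D93200 F328316)).symm
theorem F335327 : act 2 n93200 = n84245 := (sb E96458 F328316)
theorem F335328 : act 4 n93200 = n82418 := (sb E96458 F328317)
theorem F335329 : act 5 n93200 = n47372 := (sb E96458 (iv5 D101978))
theorem F335330 : act 7 n93200 = n84036 := (sb E96458 F328318)
theorem F335331 : act 6 n89117 = n176702 := d7_2 F335326 D89117 (iv3 D176702)
theorem F335332 : act 0 n91094 = n89119 := d21_7 (iv5 D47432) (iv1 F159816) (iv5 D47361) (iv6 F289585) (iv1 F292391) (iv6 D91095) D91094 (iv5 D89119) (iv6 F335326) F327384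
theorem E96459 : n176194 = n100875 := (c14_2 F335330 D176194 F270478 (iv6 D89115) F295336 D93200)
theorem F335333 : act 6 n100875 = n84036 := (sb E96459 (iv6 D176194))
theorem E96460 : n175725 = n100876 := (c12_4 F335333 (iv5 D84036) (iv6 F128887) D175725 (iv6 D100876) D100875)
theorem F335334 : act 2 n100876 = n101680 := (sb E96460 F275151)
theorem F335335 : act 4 n100876 = n101885 := (sb E96460 F275153)
theorem F335336 : act 5 n100876 = n83886 := (sb E96460 (iv5 D175725))
theorem F335337 : act 7 n100876 = n101883 := (sb E96460 F275152)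
theorem F335338 : act 0 n99486 = n104006 := d21_1 D99486 F159454 F152092 (iv1 F327383) (iv6 F335333) (iv5 D100875) (iv1 F154888) F154885 (iv6 F294872) F294868
theorem F335339 : act 1 n103875 = n103350 := d17_6 F294868 D99486 F335338 F159454 F294973 (iv5 F295210) (iv5 D103350) F147094 (iv4 F294871)
theorem E96461 : n152401 = n99486 := (c20_4 F325479 (iv1 D71895) D71896 D152401 F335338 (iv3 D104006) (iv4 F154599) (iv1 D100532) (iv4 D46902) (iv3 F74098) D100519)
theorem F335340 : act 3 n99486 = n71896 := (sb E96461 (iv3 D152401))
theorem E96462 : n101966 = n99487 := (c21_5 (iv5 D84036) F327392 (iv5 D47368) D47369 D101966 (iv6 D99487) D99486 F335338 F159454 F152092 (iv1 F327383))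
theorem F335341 : act 0 n99487 = n47379 := (sb E96462 (iv1 F156942))
theorem F335342 : act 1 n99487 = n47369 := (sb E96462 (iv0 D101966))
theorem E96463 : n152402 = n99484 := (c6_3 D99486 F335340 D152402 (iv3 D99484))
theorem F335343 : act 1 n99484 = n114648 := (sb E96463 F239593)
theorem F335344 : act 5 n99484 = n71896 := (sb E96463 (iv5 D152402))
theorem F335345 : act 3 n96088 = n153519 := d19_11 F42441 D33222 D71896 (iv3 F335340) F335338 F159454 F294973 (iv3 F295209) (iv1 D44833) D44834 D96088 (iv1 D153519) F109100 (iv4 D42419) (iv3 F32637) D43435 F83441 F83312 (iv3 F83311)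
theorem F335346 : act 7 n153519 = n103834 := d8_2 (iv7 F147709) F335345 (iv3 D103834)
theorem F335347 : act 2 n103834 = n153518 := d15_3 (iv0 D153518) D153519 F335346
theorem F335348 : act 5 n114191 = n171103 := d2_2 F335344 (iv2 F177977) F268827
theorem F335349 : act 3 n171104 = n114191 := d6_3 F335348 (iv3 D171103) D171104
theorem F335350 : act 5 n97942 = n114649 := d17_3 F237951 F335348 F268830 F178747 F83616 F50924 D33192 F107767 D151223
theorem F335351 : act 5 n103770 = n114603 := d17_7 (iv1 D54861) (iv5 D26540) F42432 D52710 D114191 F335348 (iv0 F268831) (iv0 F187591) (iv4 D119217)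
theorem E96464 : n90678 = n90609 := (c19_17 F268831 (iv5 F335348) (iv4 D114191) (iv3 F177965) F177967 (iv5 D106510) (iv4 F82969) F82968 (iv1 F40259) (iv5 F40549) (iv4 F83369) F329963 (iv1 D47120) F293006 (iv4 D42454) D42453 D90678 (iv5 D90609) D90608 (iv3 F159200))
theorem F335352 : act 1 n90609 = n42453 := (sb E96464 (iv0 D90678))
theorem F335353 : act 2 n114648 = n103770 := d2_3 F335351 F178691 D114648
theorem E96465 : n114189 = n104169 := (c18_3 F187587 (iv4 D119215) (iv1 F177971) (iv4 D104169) (iv5 D48203) (iv4 F70588) D96206 (iv4 F268828) (iv0 F268831) F335351)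
theorem F335354 : act 0 n104169 = n54861 := (sb E96465 F177970)
theorem F335355 : act 1 n104169 = n54860 := (sb E96465 F177971)
theorem F335356 : act 2 n104169 = n53097 := (sb E96465 F177968)
theorem F335357 : act 3 n104169 = n159370 := (sb E96465 (iv3 F250904))
theorem F335358 : act 5 n104169 = n52709 := (sb E96465 (iv5 D114189))
theorem F335359 : act 7 n104169 = n54810 := (sb E96465 F177969)
theorem E96466 : n119219 = n91342 := (c16_2 D54862 D119219 (iv4 F158524) (iv5 F329994) (iv4 D118409) (iv5 D54527) (iv4 F83290) (iv5 F335358) F335359 F86727)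
theorem F335360 : act 5 n91342 = n54862 := (sb E96466 (iv5 D119219))
theorem E96467 : n183972 = n119218 := ((c6_2 F335360 D119218 F285844 (iv3 F140422))).symm
theorem F335361 : act 0 n119218 = n87771 := (sb E96467 (iv1 F285846))
theorem F335362 : act 1 n119218 = n87770 := (sb E96467 F285851)
theorem F335363 : act 2 n119218 = n87773 := (sb E96467 F285843)
theorem F335364 : act 5 n119218 = n87760 := (sb E96467 F285844)
theorem F335365 : act 7 n119218 = n87759 := (sb E96467 (iv7 D183972))
theorem F335366 : act 5 n118963 = n103612 := d17_7 (iv1 F140425) F335360 (iv1 F330002) F153051 F136737 F323188 F187082 F158967 F75503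
theorem F335367 : act 4 n103612 = n114648 := d16_2 (iv4 F187080) F335366 (iv5 D114648) (iv4 D52916) (iv5 D25689) (iv4 F40608) D52905 D114620 F178726
theorem F335368 : act 1 n114648 = n99870 := d18_6 D119189 F187540 F115249 (iv4 F187080) F335366 F335367 F158521 (iv0 F158522) F329977
theorem F335369 : act 0 n97313 = n156878 := d21_7 (iv5 F335366) (iv1 F187082) (iv5 F323188) (iv6 D44789) D44785 (iv6 F157620) D97313 F295136 (iv6 F293641) (iv1 F158967)
theorem E96468 : n97365 = n97313 := ((c15_1 (iv0 F335369) (iv0 D97365) (iv7 F293050) (iv2 F295134))).symm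
theorem F335370 : act 1 n97313 = n45471 := (sb E96468 (iv0 D97365))
theorem F335371 : act 1 n97095 = n156878 := d15_0 (iv0 F335369) (iv7 F157289) (iv2 F149798)
theorem F335372 : act 7 n156878 = n97367 := d15_2 (iv0 F284560) F335371 (iv2 D97367)
theorem F335373 : act 3 n97367 = n185656 := d8_1 F335372 (iv7 F292595) (iv3 F295135)
theorem F335374 : act 1 n185637 = n97367 := d15_1 D185637 (iv7 F335372) F295134
theorem F335375 : act 2 n97313 = n185637 := d15_3 F335374 F177430 F157289
theorem F335376 : act 5 n185637 = n91849 := d2_2 D97313 F335375 F294107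
theorem F335377 : act 7 n185637 = n97095 := d4_2 F157289 F335375 F149798
theorem E96469 : n111239 = n93345 := ((c19_16 (iv1 F335368) (iv5 D114648) (iv4 D52916) (iv3 F83594) D114610 F178699 (iv4 D72103) F52518 F25942 F22850 D16443 D33997 (iv1 F328220) F329899 (iv4 F329898) D93345 (iv1 F172543) F329834 (iv4 F135046) D99870)).symm
theorem F335378 : act 0 n93345 = n74527 := (sb E96469 (iv1 F172543))
theorem F335379 : act 1 n93345 = n74525 := (sb E96469 F172544)
theorem F335380 : act 2 n93345 = n111166 := (sb E96469 F172540)
theorem F335381 : act 4 n93345 = n107687 := (sb E96469 F172541)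
theorem F335382 : act 6 n93345 = n111158 := (sb E96469 F172542)
theorem E96470 : n93436 = n51307 := (((iv7 F144126)).symm.trans (sb E96469 (iv7 D111239)))
theorem E96471 : n111236 = n43699 := (((iv3 F172534)).symm.trans (sb E96470 (iv3 D93436)))
theorem E96472 : n111238 = n89243 := ((D111238).symm.trans (sb E96470 F144125))
theorem F335383 : act 7 n51307 = n93345 := (sb E96470 F144126)
theorem F335384 : act 3 n43699 = n51307 := (sb E96471 F172534)
theorem E96473 : n107692 = n93437 := (((D93437).symm.trans (sb E96471 F172535))).symm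
theorem E96474 : n93438 = n51305 := ((D93438).symm.trans (sb E96471 (iv6 D111236)))
theorem F335385 : act 0 n89243 = n65522 := (sb E96472 F172538)
theorem F335386 : act 1 n89243 = n65509 := (sb E96472 F172539)
theorem F335387 : act 2 n89243 = n111165 := (sb E96472 F172537)
theorem F335388 : act 5 n89243 = n51307 := (sb E96472 (iv5 D111238))
theorem F335389 : act 3 n93437 = n49752 := (sb E96473 F166327)
theorem F335390 : act 6 n93437 = n49750 := (sb E96473 (iv6 D107692))
theorem E96475 : n111234 = n93344 := ((D111234).symm.trans (sb E96474 F144131))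
theorem E96476 : n111235 = n73088 := ((D111235).symm.trans (sb E96474 F310593))
theorem F335391 : act 6 n51305 = n43699 := (sb E96474 (iv6 D93438))
theorem F335392 : act 0 n93344 = n111152 := (sb E96475 (iv1 F172531))
theorem F335393 : act 1 n93344 = n111151 := (sb E96475 F172529)
theorem F335394 : act 2 n93344 = n51305 := (sb E96475 (iv2 D111234))
theorem F335395 : act 3 n93344 = n111161 := (sb E96475 F172526)
theorem F335396 : act 4 n93344 = n107690 := (sb E96475 F172527)
theorem F335397 : act 7 n93344 = n111153 := (sb E96475 F172528)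
theorem E96477 : n154273 = n51306 := ((D154273).symm.trans (sb E96476 F172532))
theorem F335398 : act 5 n73088 = n51305 := (sb E96476 (iv5 D111235))
theorem E96478 : n154277 = n111154 := ((D154277).symm.trans (sb E96476 F172533))
theorem F335399 : act 3 n51306 = n73088 := (sb E96477 (iv3 D154273))
theorem F335400 : act 2 n111154 = n73089 := (sb E96478 F242384)
theorem F335401 : act 7 n111154 = n73088 := (sb E96478 (iv7 D154277))
theorem F335402 : act 3 n114648 = n90361 := d20_5 F34736 D41105 (iv4 F135046) D99870 (iv1 F335368) F293972 (iv1 D183981) (iv4 F153009) (iv3 D99353) (iv1 D46459)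
theorem F335403 : act 5 n90361 = n114647 := d6_2 D114648 F335402 (iv3 D114647)
theorem F335404 : act 6 n99518 = n114648 := d7_0 F335402 F293973 (iv3 F153286)
theorem F335405 : act 7 n97942 = n114648 := d8_0 F335402 F293974 (iv3 F150957)
theorem F335406 : act 2 n114647 = n99568 := d2_1 F335403 F153303 (iv2 F293971)
theorem F335407 : act 7 n114647 = n97947 := d13_2 (iv7 F293974) F335403 (iv5 D97947)
theorem F335408 : act 0 n114647 = n99566 := d21_1 F335403 F294717 F75405 D87180 (iv6 F295386) (iv5 F295171) (iv1 D90397) (iv5 D42258) (iv6 F65249) D90361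
theorem F335409 : act 0 n99506 = n114647 := d21_7 D87930 (iv1 F154221) (iv5 F292928) F292929 (iv1 F291154) (iv6 F139701) F291834 (iv5 F335403) F293973 F157763
theorem F335410 : act 0 n185985 = n90771 := d21_10 F291834 F335409 (iv5 F335403) F293973 F157763 D87931 (iv5 F283610) (iv1 F288499) (iv5 D185984) D185985
theorem E96479 : n185985 = n103637 := (c15_1 (iv0 F335410) (iv0 D103637) D103641 (iv2 F291833))
theorem F335411 : act 0 n103637 = n90771 := (sb E96479 F335410)
theorem F335412 : act 2 n103637 = n98650 := (sb E96479 (iv2 F289316))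
theorem F335413 : act 5 n103637 = n100640 := (sb E96479 (iv5 F288501))
theorem F335414 : act 6 n103637 = n88592 := (sb E96479 (iv6 D185985))
theorem F335415 : act 7 n103637 = n98651 := (sb E96479 (iv7 F289322))
theorem E96480 : n182616 = n182318 := ((c21_7 F335413 (iv1 D100640) (iv5 D46940) D46941 (iv1 F284794) F294435 D182318 (iv1 D182616) (iv5 D87183) (iv6 F75405) D103637)).symm
theorem F335416 : act 0 n182318 = n87183 := (sb E96480 (iv1 D182616))
theorem F335417 : act 1 n182318 = n89080 := d15_1 (iv0 F335416) F136789 F294450
theorem F335418 : act 7 n182318 = n98646 := d15_2 (iv0 F334887) (iv0 F335416) F334888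
theorem F335419 : act 2 n98647 = n182318 := d4_3 F335418 F334888 (iv7 F334890)
theorem F335420 : act 6 n143104 = n182318 := d14_5 F335418 F334889 (iv7 D67060) D67059 D143104
theorem F335421 : act 5 n186507 = n143104 := d12_5 F335420 (iv5 D182318) (iv6 F294435) (iv5 F289275) D186507
theorem F335422 : act 0 n143104 = n151559 := d21_4 (iv5 D98662) F294409 D182318 (iv6 F335420) F238433 (iv5 D123668) F332408 D175477 F274738 F285544
theorem F335423 : act 1 n142995 = n151559 := d15_0 (iv0 F335422) (iv7 D143104) (iv2 F225855)
theorem F335424 : act 7 n143103 = n186507 := d13_0 F335421 (iv7 D143104) D143103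
theorem F335425 : act 6 n99649 = n143119 := d14_3 F335424 (iv6 D186507) (iv7 F289276) (iv7 D143119) (iv6 F225960)
theorem F335426 : act 2 n143119 = n186510 := d3_1 F335425 (iv6 D186510) (iv2 F153473)
theorem F335427 : act 5 n143455 = n142996 := d21_0 (iv1 F225861) (iv5 F225964) (iv6 F335425) F153396 F307262 F86477 D75006 F112540 F321918 D143455
theorem E96481 : n151615 = n143455 := (c16_5 F148046 D105413 (iv4 F334847) (iv5 D151616) D151615 F335427 F321995 D159419 F334853 F187250)
theorem F335428 : act 2 n143455 = n71465 := (sb E96481 F238487)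
theorem F335429 : act 4 n143455 = n71463 := (sb E96481 (iv4 D151615))
theorem F335430 : act 7 n143455 = n71470 := (sb E96481 F238488)
theorem E96482 : n143106 = n142996 := (c2_4 (iv5 F335427) F335428 F334861 D143106)
theorem F335431 : act 2 n142996 = n67061 := (sb E96482 (iv2 D143106))
theorem F335432 : act 7 n142996 = n67062 := (sb E96482 (iv7 F225962))
theorem F335433 : act 7 n116175 = n127147 := d16_8 (iv4 F321995) (iv5 F335427) F335429 D151616 F334847 (iv5 D105413) (iv4 F148046) (iv5 F333291) F321571
theorem E96483 : n143111 = n142997 := (c11_3 F335433 F334860 D143111 (iv4 F333290))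
theorem F335434 : act 2 n142997 = n67062 := (sb E96483 F225963)
theorem F335435 : act 7 n142997 = n67061 := (sb E96483 (iv7 D143111))
theorem F335436 : act 5 n151630 = n142997 := d13_3 F335435 (iv5 F334861) D151630
theorem E96484 : n143110 = n139160 := (c3_3 (iv6 F321996) F335431 D143110 F314666)
theorem F335437 : act 6 n139160 = n67061 := (sb E96484 (iv6 D143110))
theorem F335438 : act 6 n143107 = n154754 := d7_2 F335437 D143107 (iv3 F314667)
theorem F335439 : act 6 n142997 = n166054 := d14_3 (iv7 F314669) F335437 (iv7 F335435) F261471 F309992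
theorem F335440 : act 2 n166054 = n143115 := d3_1 F335439 (iv6 D143115) (iv2 F335434)
theorem F335441 : act 4 n143115 = n166050 := d1_2 D166054 F335440 F261450
theorem F335442 : act 4 n154756 = n143107 := d10_3 F335438 (iv4 D154754) D154756
theorem E96485 : n154756 = n137693 := ((c20_8 (iv4 D141767) (iv1 D66472) (iv4 F102074) (iv3 D64617) F97744 (iv3 F48860) (iv4 F100598) D137693 F335442 (iv3 D143107) (iv1 F319174))).symm
theorem F335443 : act 3 n137693 = n73389 := (sb E96485 F243419)
theorem F335444 : act 4 n137693 = n143107 := (sb E96485 F335442)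
theorem F335445 : act 6 n137693 = n73387 := (sb E96485 (iv6 D154756))
theorem E96486 : n151630 = n143456 := ((c15_2 (iv0 D143455) D143456 (iv7 D151630) (iv2 F335428))).symm
theorem F335446 : act 2 n143456 = n71470 := (sb E96486 F238498)
theorem E96487 : n71468 = n71391 := (((F330357).symm.trans (sb E96486 F238499))).symm
theorem F335447 : act 5 n143456 = n142997 := (sb E96486 F335436)
theorem F335448 : act 7 n143456 = n71465 := (sb E96486 (iv7 D151630))
theorem E96488 : n151613 = n33031 := ((((iv1 D71391)).symm.trans (sb E96487 (iv1 F238485)))).symm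
theorem E96490 : n151439 = n33065 := (((iv2 F238179)).symm.trans (sb E96487 F108001))
theorem E96491 : n151624 = n151440 := (((D151440).symm.trans (sb E96487 (iv3 F238495)))).symm
theorem E96492 : n151635 = n151442 := (((D151442).symm.trans (sb E96487 (iv5 F238505)))).symm
theorem E96493 : n151639 = n151443 := (((D151443).symm.trans (sb E96487 D151639))).symm
theorem E96494 : n151434 = n33064 := ((F238177).symm.trans (sb E96487 (iv7 D71468)))
theorem E96495 : n71463 = n71390 := (((D71390).symm.trans (sb E96488 (iv1 D151613)))).symm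
theorem F335449 : act 2 n33065 = n71391 := (sb E96490 F238179)
theorem F335450 : act 7 n151440 = n71464 := (sb E96491 (iv7 D151624))
theorem F335451 : act 2 n151442 = n71471 := (sb E96492 F238504)
theorem F335452 : act 7 n151442 = n71466 := (sb E96492 (iv7 D151635))
theorem F335453 : act 2 n151443 = n71472 := (sb E96493 F238507)
theorem F335454 : act 7 n33064 = n71391 := (sb E96494 (iv7 F238177))
theorem F335455 : act 2 n71390 = n33064 := (sb E96495 (iv2 D71463))
theorem E96496 : n151614 = n151435 := (((D151435).symm.trans (sb E96495 D151614))).symm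
theorem E96497 : n151436 = n143455 := ((D151436).symm.trans (sb E96495 (iv4 F335429)))
theorem E96498 : n151616 = n151437 := (((D151437).symm.trans (sb E96495 D151616))).symm
theorem E96499 : n151617 = n114853 := ((((iv6 F325409)).symm.trans (sb E96495 D151617))).symm
theorem F335456 : act 7 n71390 = n33065 := (sb E96495 (iv7 F108000))
theorem F335457 : act 7 n151435 = n71469 := (sb E96496 F238486)
theorem F335458 : act 4 n143455 = n71390 := (sb E96497 (iv4 D151436))
theorem F335459 : act 2 n151437 = n71466 := (sb E96498 F238489)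
theorem F335460 : act 4 n151437 = n105413 := (sb E96498 F334847)
theorem F335461 : act 6 n151437 = n105415 := (sb E96498 F334845)
theorem F335462 : act 7 n151437 = n71471 := (sb E96498 F238490)
theorem F335463 : act 2 n114853 = n71467 := (sb E96499 F238491)
theorem F335464 : act 2 n151623 = n121340 := d0_3 (iv3 F178917) F335463 (iv3 F238494) F193547 (iv2 F153466)
theorem E96500 : n114714 = n105431 := ((c2_3 D114853 F335463 F161829 F322798)).symm
theorem E96501 : n121327 = n48752 := ((((iv1 D105431)).symm.trans (sb E96500 F322796))).symm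
theorem F335465 : act 2 n105431 = n52995 := (sb E96500 F322798)
theorem F335466 : act 3 n105431 = n52944 := (sb E96500 (iv3 D114714))
theorem F335467 : act 4 n105431 = n68688 := (sb E96500 F317057)
theorem F335468 : act 7 n105431 = n68684 := (sb E96500 F317058)
theorem E96503 : n105430 = n55972 := ((D105430).symm.trans (sb E96501 (iv1 D121327)))
theorem F335469 : act 0 n55972 = n114867 := (sb E96503 (iv1 F178947))
theorem F335470 : act 1 n55972 = n48752 := (sb E96503 (iv0 D105430))
theorem F335471 : act 2 n151638 = n121330 := d4_3 F193460 F335463 D151638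
theorem F335472 : act 1 n151637 = n121330 := d15_1 D151637 F193460 F335463
theorem F335473 : act 3 n151637 = n113982 := d20_5 D164377 F259026 (iv4 D121334) (iv3 F193459) (iv1 F335472) (iv4 F178187) (iv1 D114311) F290524 F120138 (iv1 F120133)
theorem F335474 : act 6 n113971 = n151637 := d7_0 F335473 (iv6 D113982) (iv3 F177311)
theorem F335475 : act 7 n159642 = n151637 := d8_0 F335473 F177483 (iv3 F251492)
theorem E96504 : n151636 = n151589 := ((c15_4 (iv0 D151636) D151637 (iv7 F335475) F332649)).symm
theorem F335476 : act 1 n151589 = n71467 := (sb E96504 (iv0 D151636))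
theorem F335477 : act 1 n121330 = n151589 := d15_0 F335476 D151638 F335471
theorem F335478 : act 0 n164373 = n176091 := d20_10 (iv4 D176091) (iv1 D84004) (iv4 F128967) (iv3 F332648) (iv1 F335477) F193459 D121334 (iv1 F259024) (iv4 D164374) D164373
theorem E96505 : n159702 = n115187 := (c21_6 (iv5 D121330) F335469 F178943 F88586 (iv1 F114544) D159702 (iv5 D115187) D115184 F332647 D151589 (iv1 F335477))
theorem F335479 : act 2 n115187 = n76421 := (sb E96505 F251625)
theorem F335480 : act 6 n115187 = n76404 := (sb E96505 (iv6 D159702))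
theorem E96506 : n159699 = n115189 := (c7_2 F335480 D159699 (iv6 D115189) (iv3 F179377))
theorem F335481 : act 3 n115189 = n76404 := (sb E96506 (iv3 D159699))
theorem E96507 : n114068 = n107693 := (((F179382).symm.trans (sb E96506 F251597))).symm
theorem F335482 : act 7 n115189 = n76413 := (sb E96506 F251611)
theorem F335483 : act 0 n107693 = n52647 := (sb E96507 (iv1 D114068))
theorem F335484 : act 7 n107693 = n159721 := (sb E96507 (iv7 F251639))
theorem F335485 : act 6 n151658 = n115131 := d14_5 (iv7 F179378) F335480 (iv7 F251603) D76416 (iv7 F251618)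
theorem F335486 : act 3 n115133 = n151658 := d7_3 F335485 F179291 D115133
theorem F335487 : act 5 n115132 = n151659 := d12_3 F335485 (iv5 D115131) D115132 (iv6 D151659) D151658
theorem F335488 : act 0 n115131 = n151524 := d21_4 D33066 D71473 D151658 F335485 (iv6 D151524) D151523 F238515 (iv5 D151653) (iv6 D71472) (iv1 D33065)
theorem E96508 : n175818 = n151524 := ((c20_5 (iv4 F166242) F166243 F166016 (iv3 F179291) F335488 (iv3 D175818) (iv4 D83917) (iv1 D38651) D38652 (iv3 F318047) (iv1 F97702))).symm
theorem F335489 : act 3 n151524 = n83917 := (sb E96508 (iv3 D175818))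
theorem E96509 : n159742 = n151524 := (c15_1 D159742 (iv0 F335488) (iv7 F179378) F335479)
theorem F335490 : act 0 n151524 = n76421 := (sb E96509 (iv1 D159742))
theorem F335491 : act 2 n115014 = n151524 := d0_5 F335489 (iv2 F325733) F178965 F177815 (iv3 F179098)
theorem E96510 : n175820 = n151521 := (c7_3 D151524 F335489 D175820 (iv3 D151521))
theorem F335492 : act 4 n151521 = n83919 := (sb E96510 F275231)
theorem F335493 : act 6 n151521 = n83917 := (sb E96510 (iv6 D175820))
theorem E96511 : n151521 = n114888 := ((c3_4 F335493 (iv2 F325733) (iv6 D114891) D114888)).symm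
theorem E96512 : n115011 = n71432 := (((iv3 F179089)).symm.trans (sb E96511 (iv3 D151521)))
theorem F335494 : act 4 n114888 = n83919 := (sb E96511 F335492)
theorem F335495 : act 6 n114888 = n83917 := (sb E96511 F335493)
theorem E96513 : n118745 = n114898 := (((iv1 F186805)).symm.trans (sb E96512 (iv1 F179093)))
theorem E96515 : n151520 = n53069 := ((D151520).symm.trans (sb E96512 (iv2 D115011)))
theorem F335496 : act 3 n71432 = n114888 := (sb E96512 F179089)
theorem E96516 : n151525 = n114899 := ((D151525).symm.trans (sb E96512 F179090))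
theorem E96517 : n71433 = n53016 := ((((iv1 D114898)).symm.trans (sb E96513 (iv1 F186804)))).symm
theorem F335497 : act 1 n114898 = n71432 := (sb E96513 F186805)
theorem F335498 : act 2 n114898 = n71435 := (sb E96513 F186801)
theorem F335499 : act 5 n114898 = n150771 := (sb E96513 (iv5 F237336))
theorem F335500 : act 6 n114898 = n71444 := (sb E96513 F186802)
theorem F335501 : act 7 n114898 = n54671 := (sb E96513 (iv7 D118745))
theorem F335502 : act 2 n53069 = n71432 := (sb E96515 (iv2 D151520))
theorem F335503 : act 7 n114899 = n71432 := (sb E96516 (iv7 D151525))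
theorem F335504 : act 0 n53016 = n33053 := (sb E96517 (iv1 D71433))
theorem E96522 : n152385 = n152220 := ((c20_8 F77604 (iv1 F37466) F177826 D53016 F335504 (iv3 F52417) (iv4 F108262) D152220 (iv4 D152385) (iv3 F333220) (iv1 F77608))).symm
theorem F335505 : act 3 n152220 = n83832 := (sb E96522 F334800)
theorem F335506 : act 4 n152220 = n71890 := (sb E96522 (iv4 D152385))
theorem F335507 : act 5 n152220 = n152734 := (sb E96522 F334801)
theorem F335508 : act 7 n152220 = n114983 := (sb E96522 F333222)
theorem E96523 : n152218 = n114983 := ((c13_1 F335508 (iv5 F259384) F259383 (iv5 F335507))).symm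
theorem F335509 : act 0 n114983 = n71792 := (sb E96523 (iv1 D152218))
theorem F335510 : act 1 n114983 = n73910 := (sb E96523 F239289)
theorem F335511 : act 5 n114983 = n164557 := (sb E96523 (iv5 F259384))
theorem F335512 : act 2 n152220 = n152217 := d15_3 (iv0 D152217) (iv0 F335509) (iv7 F335508)
theorem F335513 : act 4 n152217 = n130666 := d1_2 (iv4 F335506) F335512 F328153
theorem F335514 : act 7 n152221 = n152217 := d15_2 (iv0 D152220) D152221 (iv2 F335512)
theorem F335515 : act 2 n114983 = n152221 := d4_3 F335514 (iv2 F335512) F335508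
theorem E96524 : n152390 = n152221 := (c11_4 F335514 F335513 F328154 D152390)
theorem F335516 : act 4 n152221 = n71891 := (sb E96524 (iv4 D152390))
theorem F335517 : act 0 n119839 = n152221 := d18_0 F335516 (iv1 D71891) (iv4 F108385) (iv5 F303499) (iv4 F108363) F184591 (iv4 F307808) (iv0 F309810) D119839
theorem F335518 : act 4 n103153 = n145267 := d20_8 F335516 (iv1 D71891) (iv4 F108385) (iv3 F310745) (iv1 F230561) (iv3 F319850) (iv4 D103156) D103153 F311009 F335517
theorem F335519 : act 7 n175204 = n103153 := d11_0 F335518 F311010 D175204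
theorem F335520 : act 2 n175204 = n103154 := d15_3 F319845 (iv0 F319844) (iv7 F335519)
theorem F335521 : act 4 n103154 = n119469 := d1_2 D175204 F335520 F188258
theorem E96525 : n103154 = n97106 := ((c10_1 D97106 F335521 F188259 (iv4 F303427))).symm
theorem F335522 : act 0 n97106 = n47816 := (sb E96525 (iv1 D103154))
theorem F335523 : act 1 n97106 = n74186 := (sb E96525 F319845)
theorem E96526 : n175204 = n95741 := (((F149835).symm.trans (sb E96525 (iv2 F335520)))).symm
theorem F335524 : act 4 n97106 = n119469 := (sb E96525 F335521)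
theorem F335525 : act 4 n95741 = n83677 := (sb E96526 (iv4 D175204))
theorem F335526 : act 7 n95741 = n103153 := (sb E96526 F335519)
theorem F335527 : act 3 n103153 = n127118 := d8_1 F335526 F297685 (iv3 F147436)
theorem F335528 : act 4 n118445 = n119839 := d5_4 (iv4 F335518) F335527 F297683 F193576 (iv3 F311009)
theorem F335529 : act 5 n130593 = n103153 := d6_0 F335527 F204369 D130593
theorem F335530 : act 0 n137509 = n121356 := d20_1 D137509 (iv4 F297683) (iv3 F335527) F319844 (iv3 F325806) F314180 (iv1 D49059) (iv4 F77438) (iv3 F114327) (iv1 F331307)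
theorem F335531 : act 5 n127830 = n130589 := d17_3 F335530 F193577 (iv1 F205653) (iv4 D130589) (iv5 D61266) D61265 D130587 F209158 D137509
theorem F335532 : act 2 n130589 = n164493 := d2_1 F335531 F259233 F205655
theorem F335533 : act 6 n130589 = n114185 := d21_9 (iv5 F176001) (iv1 F176004) D133431 (iv6 F214546) (iv1 F235295) F235292 F193577 (iv1 F205653) F335531 (iv1 F177961)
theorem E96527 : n107266 = n90663 := ((c16_10 (iv4 D107266) (iv5 D49556) F37900 (iv5 F23054) (iv4 F46637) D61266 D130589 (iv5 F335531) F205654 (iv2 F178406))).symm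
theorem F335534 : act 4 n90663 = n49556 := (sb E96527 (iv4 D107266))
theorem E96528 : n107099 = n42442 := ((((iv6 D90663)).symm.trans (sb E96527 F165312))).symm
theorem E96529 : n126166 = n90654 := ((((iv2 F139566)).symm.trans (sb E96528 (iv2 F202871)))).symm
theorem E96530 : n90662 = n49470 := ((D90662).symm.trans (sb E96528 (iv4 D107099)))
theorem F335535 : act 4 n90654 = n59122 := (sb E96529 (iv4 D126166))
theorem F335536 : act 4 n49470 = n42442 := (sb E96530 (iv4 D90662))
theorem F335537 : act 0 n114847 = n130589 := d21_10 (iv5 F335531) (iv1 D127830) (iv5 F163339) (iv6 D106283) (iv1 D49118) (iv6 F40637) (iv5 D25723) D25721 D52992 D114847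
theorem F335538 : act 4 n90670 = n107090 := d5_4 F335536 F65559 D42446 D90670 F165064
theorem F335539 : act 4 n126167 = n149659 := d9_9 D49470 F335536 (iv5 D42442) D42441 D90658 F331305 F82511 (iv4 F93296) (iv5 F202873) (iv5 D149659) F157726 (iv5 F331300) (iv4 D49483) (iv5 D24148) (iv4 F37851)
theorem F335540 : act 4 n90302 = n107100 := d11_3 (iv7 D107100) F335536 (iv7 F138906)
theorem F335541 : act 4 n145258 = n106994 := d17_9 (iv1 F165069) (iv5 D107095) (iv1 D49469) D49470 F335536 (iv5 D42442) D42439 D90651 F228244
theorem F335542 : act 4 n90660 = n107459 := d18_3 (iv1 D107098) F335536 D90660 F165775 F164914 (iv0 D74273) (iv4 F92848) (iv0 F201809) (iv5 F201811)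
theorem F335543 : act 4 n92963 = n107098 := d18_1 D92963 (iv1 D107098) F335536 (iv5 D42442) D42441 (iv0 F331296) (iv4 F331316) (iv0 D43489) D43492
theorem F335544 : act 4 n90661 = n107460 := d18_7 (iv1 F111261) (iv4 D49478) (iv1 D24147) (iv4 F37851) D49470 F335536 D90661 F172046 F172045
theorem E96531 : n139564 = n103332 := ((c19_17 (iv1 D49469) D49470 F335536 F65559 (iv1 F65553) F293952 (iv4 D23307) (iv3 D10952) (iv1 D4990) (iv5 D2051) F1900 (iv3 F3326) D4952 D10867 D23046 D47879 D103332 (iv5 D139564) (iv4 F165068) (iv3 D107094))).symm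
theorem F335545 : act 3 n103332 = n65489 := (sb E96531 F222713)
theorem F335546 : act 5 n103332 = n65488 := (sb E96531 (iv5 D139564))
theorem F335547 : act 7 n103332 = n87374 := (sb E96531 F329513)
theorem F335548 : act 6 n136088 = n103332 := d14_5 F335547 (iv6 D87374) (iv7 F152060) F329312 (iv7 F219025)
theorem F335549 : act 2 n103332 = n137625 := d3_1 F335548 (iv6 D137625) (iv2 F219024)
theorem F335550 : act 3 n139567 = n136088 := d7_3 F335548 F335545 D139567
theorem F335551 : act 5 n139565 = n136089 := d12_3 F335548 F335546 D139565 (iv6 D136089) D136088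
theorem F335552 : act 0 n136088 = n182973 := d21_4 D47080 F329512 (iv5 F335546) (iv6 F335548) (iv6 D182973) D182972 F289865 (iv5 D185435) (iv6 F289863) (iv1 D47079)
theorem F335553 : act 5 n182973 = n136413 := d21_0 (iv1 F219521) (iv5 F327129) (iv6 D47077) (iv1 D22641) D22643 D47080 F329512 (iv5 F335546) (iv6 F335548) F335552
theorem F335554 : act 2 n137622 = n182973 := d2_3 F335553 F245932 F245930
theorem F335555 : act 6 n136839 = n182972 := d12_4 D182973 F335553 (iv6 F219523) D136839 (iv5 D182972)
theorem F335556 : act 7 n137623 = n182973 := d13_0 F335553 F219522 (iv5 F220777)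
theorem E96532 : n183032 = n182973 := (c17_7 F328993 (iv5 F328995) F161276 (iv5 F41044) D53642 (iv5 F328554) D183032 F335553 (iv0 D136413) (iv4 D64132))
theorem F335557 : act 0 n182973 = n87379 := (sb E96532 (iv1 D183032))
theorem F335558 : act 1 n136411 = n182631 := d18_6 (iv1 F219521) (iv4 D64135) (iv1 D30223) (iv4 F48613) D64128 D136411 F295458 (iv0 F335557) F335553
theorem F335559 : act 5 n136411 = n149107 := d21_0 (iv1 F289781) (iv5 D102081) (iv6 F289783) F293730 F71496 (iv5 F328161) (iv1 F328558) F324219 D182631 (iv1 F335558)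
theorem F335560 : act 4 n149107 = n115526 := d16_2 D136411 F335559 F179810 F84126 F328995 (iv4 D47445) D47446 (iv7 F152607) F329010
theorem F335561 : act 5 n125460 = n183031 := d17_7 (iv1 F335558) F335559 (iv1 F289781) (iv5 D102081) (iv4 F74719) F327130 (iv0 F201735) (iv0 D183031) (iv4 F295458)
theorem F335562 : act 2 n183031 = n137623 := d2_1 F335561 F220777 (iv2 F201733)
theorem F335563 : act 6 n183031 = n136670 := d12_2 D125460 F335561 (iv5 D136670) (iv6 D64234) (iv5 F92797)
theorem F335564 : act 7 n183031 = n137622 := d13_2 F245934 F335561 (iv5 F245930)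
theorem F335565 : act 0 n183031 = n136088 := d17_2 (iv1 F201736) F335561 (iv5 D136088) (iv4 D63997) (iv5 F83977) (iv0 D53172) F40754 D30223 D64135
theorem F335566 : act 0 n136670 = n98416 := d21_4 F327129 (iv1 F201736) F335561 F335563 (iv6 D98416) F333869 (iv1 D64779) D64780 F100632 F327677
theorem E96533 : n183031 = n94121 := ((c19_20 F335565 (iv5 D136088) (iv4 D63997) (iv3 F161292) (iv1 F83983) F328995 (iv4 D47445) (iv3 D22790) (iv1 D10769) (iv5 D4920) F3318 F1891 D1025 D2064 F291724 (iv3 F7424) D10987 (iv5 F66192) D44004 D94121)).symm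
theorem F335567 : act 0 n94121 = n136088 := (sb E96533 F335565)
theorem F335568 : act 1 n94121 = n87379 := (sb E96533 (iv0 D183031))
theorem F335569 : act 2 n94121 = n137623 := (sb E96533 F335562)
theorem F335570 : act 5 n94121 = n125460 := (sb E96533 (iv5 F335561))
theorem F335571 : act 6 n94121 = n136670 := (sb E96533 F335563)
theorem E96534 : n137622 = n87011 := (((F145061).symm.trans (sb E96533 F335564))).symm
theorem E96535 : n182242 = n64698 := ((D182242).symm.trans (sb E96534 (iv1 F220775)))
theorem E96536 : n182243 = n64690 := ((D182243).symm.trans (sb E96534 (iv0 D137622)))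
theorem E96537 : n182973 = n182237 := ((((iv2 F283679)).symm.trans (sb E96534 F335554))).symm
theorem E96538 : n182244 = n156440 := ((D182244).symm.trans (sb E96534 (iv5 F245930)))
theorem F335572 : act 1 n64698 = n87011 := (sb E96535 (iv0 D182242))
theorem E96539 : n182260 = n137632 := (((D137632).symm.trans (sb E96535 F283705))).symm
theorem F335573 : act 0 n64690 = n87011 := (sb E96536 (iv1 D182243))
theorem E96540 : n182259 = n137624 := (((D137624).symm.trans (sb E96536 (iv4 F283704)))).symm
theorem F335574 : act 0 n182237 = n87379 := (sb E96537 F335557)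
theorem F335575 : act 1 n182237 = n136088 := (sb E96537 (iv0 F335552))
theorem F335576 : act 5 n182237 = n136413 := (sb E96537 F335553)
theorem E96541 : n87354 = n87009 := ((((iv6 D182237)).symm.trans (sb E96537 (iv6 D182973)))).symm
theorem F335577 : act 7 n182237 = n137623 := (sb E96537 (iv7 F335556))
theorem F335578 : act 3 n156440 = n87017 := (sb E96538 F283681)
theorem F335579 : act 5 n156440 = n87011 := (sb E96538 (iv5 D182244))
theorem F335580 : act 0 n137632 = n87020 := (sb E96539 (iv1 D182260))
theorem F335581 : act 1 n137624 = n87020 := (sb E96540 (iv0 D182259))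
theorem E96542 : n150135 = n89403 := ((((iv1 F137085)).symm.trans (sb E96541 (iv1 F236310)))).symm
theorem E96543 : n89402 = n40604 := ((F137084).symm.trans (sb E96541 (iv0 D87354)))
theorem E96547 : n182972 = n182236 := (((D182236).symm.trans (sb E96541 D182972))).symm
theorem E96549 : n87355 = n41748 := ((((iv1 D89403)).symm.trans (sb E96542 (iv1 F236309)))).symm
theorem E96550 : n89505 = n70666 := (((iv4 F137218)).symm.trans (sb E96542 F236306))
theorem F335583 : act 5 n89403 = n185369 := (sb E96542 (iv5 F290068))
theorem F335584 : act 6 n89403 = n87362 := (sb E96542 F236307)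
theorem F335585 : act 7 n89403 = n70662 := (sb E96542 (iv7 D150135))
theorem F335586 : act 0 n40604 = n87009 := (sb E96543 (iv1 F137084))
theorem E96551 : n89511 = n27258 := (((F61718).symm.trans (sb E96543 F137223))).symm
theorem F335587 : act 0 n182236 = n185435 := (sb E96547 F289865)
theorem F335588 : act 1 n182236 = n185431 := (sb E96547 F289915)
theorem F335589 : act 6 n182236 = n136839 := (sb E96547 (iv6 F335555))
theorem F335590 : act 0 n41748 = n40604 := (sb E96549 (iv1 D87355))
theorem E96557 : n87359 = n41899 := ((F134123).symm.trans (sb E96550 (iv0 F137219)))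
theorem E96558 : n41796 = n37596 := (((F107133).symm.trans (sb E96550 (iv3 D89505)))).symm
theorem F335591 : act 4 n70666 = n89403 := (sb E96550 F137218)
theorem E96559 : n89596 = n56721 := (((D56721).symm.trans (sb E96551 (iv1 F137361)))).symm
theorem E96560 : n88605 = n56722 := (((D56722).symm.trans (sb E96551 (iv0 F137222)))).symm
theorem E96561 : n41797 = n37515 := ((((iv4 F58396)).symm.trans (sb E96551 (iv4 D89511)))).symm
theorem F335592 : act 0 n41899 = n70666 := (sb E96557 (iv1 F134123))
theorem F335593 : act 1 n41899 = n40606 := (sb E96557 (iv0 D87359))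
theorem E96562 : n182987 = n89706 := (((D89706).symm.trans (sb E96557 D182987))).symm
theorem E96566 : n182991 = n89708 := (((D89708).symm.trans (sb E96557 D182991))).symm
theorem E96568 : n88888 = n81930 := ((((iv1 F126269)).symm.trans (sb E96558 (iv1 F136355)))).symm
theorem E96569 : n81929 = n19669 := ((F126275).symm.trans (sb E96558 (iv0 D41796)))
theorem E96575 : n122397 = n41845 := ((D122397).symm.trans (sb E96559 (iv2 D89596)))
theorem E96576 : n122398 = n46263 := ((D122398).symm.trans (sb E96559 F137360))
theorem E96577 : n186013 = n122402 := (((D122402).symm.trans (sb E96559 (iv7 F288587)))).symm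
theorem E96578 : n122403 = n41353 := ((D122403).symm.trans (sb E96560 (iv3 D88605)))
theorem E96579 : n122404 = n41695 := ((D122404).symm.trans (sb E96560 F135781))
theorem E96580 : n186014 = n122405 := (((D122405).symm.trans (sb E96560 D186014))).symm
theorem E96581 : n122406 = n42507 := ((D122406).symm.trans (sb E96560 (iv6 F292900)))
theorem E96582 : n89510 = n81924 := ((((iv3 F126266)).symm.trans (sb E96561 D89510))).symm
theorem F335594 : act 7 n89706 = n87360 := (sb E96562 (iv7 F284584))
theorem F335595 : act 5 n89708 = n149108 := (sb E96566 F284585)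
theorem E96585 : n41498 = n37594 := ((((iv2 F277404)).symm.trans (sb E96568 (iv2 D88888)))).symm
theorem E96586 : n170918 = n41830 := ((D170918).symm.trans (sb E96568 F136352))
theorem E96587 : n170919 = n86986 := ((D170919).symm.trans (sb E96568 F136353))
theorem E96588 : n41798 = n37593 := ((((iv7 F277410)).symm.trans (sb E96568 F136354))).symm
theorem F335597 : act 0 n19669 = n37596 := (sb E96569 (iv1 F126275))
theorem F335598 : act 1 n19669 = n37515 := (sb E96569 (iv0 D81929))
theorem E96591 : n170915 = n41799 := (((D41799).symm.trans (sb E96569 D170915))).symm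
theorem E96592 : n170916 = n41800 := (((D41800).symm.trans (sb E96569 D170916))).symm
theorem F335599 : act 2 n41845 = n56721 := (sb E96575 (iv2 D122397))
theorem F335600 : act 7 n41845 = n56722 := (sb E96575 (iv7 F195848))
theorem F335601 : act 3 n46263 = n56721 := (sb E96576 (iv3 D122398))
theorem F335602 : act 0 n122402 = n89595 := (sb E96577 (iv1 F288589))
theorem F335604 : act 3 n122402 = n89024 := (sb E96577 F288585)
theorem F335605 : act 4 n122402 = n89241 := (sb E96577 F288586)
theorem F335606 : act 3 n41353 = n56722 := (sb E96578 (iv3 D122403))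
theorem F335607 : act 4 n41695 = n56722 := (sb E96579 (iv4 D122404))
theorem F335608 : act 3 n122405 = n88606 := (sb E96580 F288590)
theorem F335609 : act 7 n122405 = n89597 := (sb E96580 F288591)
theorem F335610 : act 6 n42507 = n56722 := (sb E96581 (iv6 D122406))
theorem E96593 : n170894 = n88822 := ((D170894).symm.trans (sb E96582 F137224))
theorem E96594 : n170895 = n88827 := ((D170895).symm.trans (sb E96582 F151731))
theorem E96595 : n88886 = n18033 := ((((iv1 D37594)).symm.trans (sb E96585 D88886))).symm
theorem E96596 : n88887 = n81932 := (((F126276).symm.trans (sb E96585 D88887))).symm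
theorem E96597 : n82037 = n19538 := ((D82037).symm.trans (sb E96585 (iv3 D41498)))
theorem E96598 : n82038 = n40387 := ((D82038).symm.trans (sb E96585 F63987))
theorem E96599 : n88889 = n82039 := (((D82039).symm.trans (sb E96585 D88889))).symm
theorem E96600 : n82040 = n43536 := ((D82040).symm.trans (sb E96585 F292918))
theorem F335611 : act 7 n37594 = n19669 := (sb E96585 F63988)
theorem F335612 : act 3 n41830 = n81930 := (sb E96586 (iv3 D170918))
theorem E96601 : n88875 = n82032 := (((iv7 F136309)).symm.trans (sb E96586 F277405))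
theorem F335613 : act 4 n86986 = n81930 := (sb E96587 (iv4 D170919))
theorem E96602 : n89488 = n82033 := (((iv7 F137157)).symm.trans (sb E96587 F277407))
theorem F335614 : act 2 n37593 = n19669 := (sb E96588 (iv2 D41798))
theorem E96603 : n89514 = n82034 := (((D82034).symm.trans (sb E96588 D89514))).symm
theorem E96604 : n89515 = n82035 := (((D82035).symm.trans (sb E96588 D89515))).symm
theorem E96605 : n102463 = n89516 := (((D89516).symm.trans (sb E96591 F289874))).symm
theorem E96606 : n102468 = n89517 := (((D89517).symm.trans (sb E96591 F289928))).symm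
theorem E96607 : n98403 = n89520 := (((D89520).symm.trans (sb E96592 F290052))).symm
theorem E96608 : n98444 = n89521 := (((D89521).symm.trans (sb E96592 F290054))).symm
theorem E96609 : n89522 = n84689 := ((D89522).symm.trans (sb E96592 F268500))
theorem E96610 : n98441 = n89523 := (((D89523).symm.trans (sb E96592 F277419))).symm
theorem E96611 : n186486 = n182986 := ((D186486).symm.trans (sb E96593 (iv1 F284583)))
theorem F335615 : act 1 n88822 = n81924 := (sb E96593 (iv0 D170894))
theorem F335616 : act 0 n88827 = n81924 := (sb E96594 (iv1 D170895))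
theorem E96612 : n182233 = n32772 := ((((iv3 F51893)).symm.trans (sb E96595 (iv3 F283674)))).symm
theorem E96613 : n89595 = n21994 := ((((iv4 F34494)).symm.trans (sb E96595 F137359))).symm
theorem E96614 : n89594 = n56724 := (((F126273).symm.trans (sb E96596 (iv4 F137357)))).symm
theorem F335617 : act 3 n19538 = n37594 := (sb E96597 (iv3 D82037))
theorem E96619 : n171190 = n41499 := (((D41499).symm.trans (sb E96597 D171190))).symm
theorem E96621 : n171171 = n45798 := ((((iv1 F289546)).symm.trans (sb E96598 (iv1 F268919)))).symm
theorem E96622 : n171170 = n86985 := (((D86985).symm.trans (sb E96598 F268923))).symm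
theorem F335618 : act 4 n40387 = n37594 := (sb E96598 (iv4 D82038))
theorem F335619 : act 7 n82039 = n41799 := (sb E96599 F136359)
theorem E96626 : n93042 = n65489 := ((D93042).symm.trans (sb E96600 F329514))
theorem E96627 : n93043 = n65485 := ((D93043).symm.trans (sb E96600 (iv0 F329687)))
theorem E96628 : n93044 = n74523 := ((D93044).symm.trans (sb E96600 F329515))
theorem E96629 : n93045 = n51299 := ((D93045).symm.trans (sb E96600 (iv5 F329532)))
theorem F335620 : act 6 n43536 = n37594 := (sb E96600 (iv6 D82040))
theorem E96630 : n171199 = n92641 := ((((iv7 F142761)).symm.trans (sb E96600 D171199))).symm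
theorem E96631 : n171163 = n41829 := ((D171163).symm.trans (sb E96601 (iv1 F136311)))
theorem E96632 : n171164 = n41580 := ((D171164).symm.trans (sb E96601 F136310))
theorem E96633 : n171165 = n41489 := ((D171165).symm.trans (sb E96601 (iv2 D88875)))
theorem E96634 : n171166 = n92450 := ((D171166).symm.trans (sb E96601 (iv4 F142229)))
theorem F335621 : act 7 n82032 = n41830 := (sb E96601 F136309)
theorem F335622 : act 2 n82033 = n41783 := (sb E96602 (iv2 D89488))
theorem E96635 : n171172 = n86977 := ((D171172).symm.trans (sb E96602 F137155))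
theorem F335623 : act 7 n82033 = n86986 := (sb E96602 F137157)
theorem F335624 : act 2 n82034 = n41799 := (sb E96603 F137225)
theorem F335625 : act 2 n82035 = n41800 := (sb E96604 F137226)
theorem F335626 : act 0 n89516 = n74520 := (sb E96605 F329804)
theorem F335627 : act 2 n89516 = n102546 := (sb E96605 (iv2 F290045))
theorem F335628 : act 5 n89516 = n47534 := (sb E96605 (iv5 D102463))
theorem F335629 : act 7 n89516 = n102541 := (sb E96605 (iv7 F290047))
theorem F335630 : act 1 n89517 = n74520 := (sb E96606 F329803)
theorem F335631 : act 2 n89517 = n102541 := (sb E96606 F290046)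
theorem F335632 : act 5 n89517 = n47535 := (sb E96606 (iv5 D102468))
theorem F335633 : act 6 n89517 = n122641 := (sb E96606 (iv6 F301813))
theorem F335634 : act 7 n89517 = n102546 := (sb E96606 F290044)
theorem F335635 : act 0 n89520 = n171184 := (sb E96607 (iv1 F290055))
theorem F335636 : act 2 n89520 = n46044 := (sb E96607 F152058)
theorem F335637 : act 3 n89520 = n182631 := (sb E96607 (iv3 F295457))
theorem E96636 : n89543 = n88931 := ((F137267).symm.trans (sb E96607 F151821))
theorem F335638 : act 5 n89520 = n102662 := (sb E96607 (iv5 F289998))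
theorem F335639 : act 6 n89520 = n46032 := (sb E96607 (iv6 D98403))
theorem F335640 : act 7 n89520 = n171182 := (sb E96607 (iv7 F277392))
theorem F335641 : act 1 n89521 = n171184 := (sb E96608 F290056)
theorem F335642 : act 2 n89521 = n171182 := (sb E96608 F277393)
theorem F335643 : act 5 n89521 = n102663 := (sb E96608 F290020)
theorem F335644 : act 7 n89521 = n46044 := (sb E96608 (iv7 D98444))
theorem E96637 : n177891 = n41807 := ((D177891).symm.trans (sb E96609 F137228))
theorem F335645 : act 5 n84689 = n41800 := (sb E96609 (iv5 D89522))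
theorem F335646 : act 0 n89523 = n171182 := (sb E96610 (iv1 F277398))
theorem F335647 : act 1 n89523 = n46044 := (sb E96610 (iv0 D98441))
theorem F335648 : act 2 n89523 = n171184 := (sb E96610 (iv2 F277395))
theorem F335649 : act 5 n89523 = n177747 := (sb E96610 F277193)
theorem F335650 : act 6 n89523 = n92641 := (sb E96610 (tr (iv6 F277397) E96630))
theorem F335651 : act 0 n182986 = n88827 := (sb E96611 (iv1 F289352))
theorem F335652 : act 1 n182986 = n88822 := (sb E96611 (iv0 D186486))
theorem E96639 : n89706 = n70663 := (((D70663).symm.trans (sb E96612 (iv1 F283677)))).symm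
theorem E96640 : n89470 = n70664 := (((D70664).symm.trans (sb E96612 (iv0 F283675)))).symm
theorem E96641 : n87008 = n70662 := ((((iv4 F107130)).symm.trans (sb E96612 (iv4 D182233)))).symm
theorem E96642 : n46027 = n41845 := ((D46027).symm.trans (sb E96613 (iv1 D89595)))
theorem E96643 : n122402 = n46028 := (((D46028).symm.trans (sb E96613 (iv0 F335602)))).symm
theorem E96644 : n87357 = n87007 := (((iv3 F134113)).symm.trans (sb E96614 (iv3 F137358)))
theorem F335653 : act 3 n41499 = n82039 := (sb E96619 F268933)
theorem F335654 : act 0 n45798 = n82033 := (sb E96621 (iv1 D171171))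
theorem F335655 : act 1 n86985 = n82033 := (sb E96622 (iv0 D171170))
theorem E96645 : n182202 = n182176 := (((D182176).symm.trans (sb E96622 F290095))).symm
theorem F335656 : act 1 n65489 = n43536 := (sb E96626 (iv0 D93042))
theorem F335657 : act 0 n65485 = n43536 := (sb E96627 (iv1 D93043))
theorem F335658 : act 2 n74523 = n43536 := (sb E96628 (iv2 D93044))
theorem E96646 : n111218 = n43537 := (((iv3 F172486)).symm.trans (sb E96629 F143512))
theorem F335659 : act 5 n51299 = n43536 := (sb E96629 (iv5 D93045))
theorem F335660 : act 0 n92641 = n88927 := (sb E96630 F277425)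
theorem F335661 : act 5 n92641 = n100006 := (sb E96630 (iv5 F277399))
theorem F335662 : act 1 n41829 = n82032 := (sb E96631 (iv0 D171163))
theorem F335663 : act 0 n41580 = n82032 := (sb E96632 (iv1 D171164))
theorem F335664 : act 2 n41489 = n82032 := (sb E96633 (iv2 D171165))
theorem F335665 : act 4 n92450 = n82032 := (sb E96634 (iv4 D171166))
theorem F335666 : act 3 n86977 = n82033 := (sb E96635 (iv3 D171172))
theorem F335667 : act 0 n88931 = n41811 := (sb E96636 (iv1 D89543))
theorem F335668 : act 4 n88931 = n89520 := (sb E96636 (iv4 F137267))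
theorem F335669 : act 3 n41807 = n84689 := (sb E96637 (iv3 D177891))
theorem E96647 : n150136 = n41899 := ((D150136).symm.trans (sb E96639 (iv2 D89706)))
theorem E96648 : n150137 = n87538 := ((D150137).symm.trans (sb E96639 F137673))
theorem E96649 : n185991 = n150138 := (((D150138).symm.trans (sb E96639 (iv4 F288524)))).symm
theorem E96650 : n150141 = n87360 := ((D150141).symm.trans (sb E96639 F335594))
theorem E96651 : n150142 = n41891 := ((D150142).symm.trans (sb E96640 F137136))
theorem E96652 : n150143 = n41775 := ((D150143).symm.trans (sb E96640 (iv4 D89470)))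
theorem E96653 : n150145 = n47879 := ((D150145).symm.trans (sb E96640 (iv6 F293856)))
theorem E96654 : n150132 = n40406 := ((D150132).symm.trans (sb E96641 (iv1 D87008)))
theorem E96655 : n150133 = n89399 := ((D150133).symm.trans (sb E96641 F137079))
theorem E96656 : n182231 = n40604 := (((F107129).symm.trans (sb E96641 (iv2 F283673)))).symm
theorem E96657 : n182232 = n98378 := ((((iv3 F151808)).symm.trans (sb E96641 D182232))).symm
theorem E96660 : n182227 = n89403 := ((((iv7 F335585)).symm.trans (sb E96641 F283670))).symm
theorem F335670 : act 0 n41845 = n56724 := (sb E96642 (iv1 F89713))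
theorem F335671 : act 1 n41845 = n21994 := (sb E96642 (iv0 D46027))
theorem E96661 : n98383 = n56721 := (((F335599).symm.trans (sb E96642 D98383))).symm
theorem E96665 : n98387 = n88895 := ((((iv6 F136377)).symm.trans (sb E96642 D98387))).symm
theorem E96666 : n98388 = n56722 := (((F335600).symm.trans (sb E96642 D98388))).symm
theorem E96667 : n98389 = n89024 := ((D98389).symm.trans (sb E96643 F335604))
theorem E96668 : n98390 = n89241 := ((D98390).symm.trans (sb E96643 F335605))
theorem F335672 : act 3 n87007 = n56724 := (sb E96644 F134113)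
theorem F335673 : act 4 n87007 = n87362 := (sb E96644 (iv4 F134122))
theorem E96669 : n182982 = n182229 := (((D182229).symm.trans (sb E96644 (iv5 F284573)))).symm
theorem E96670 : n182230 = n70666 := ((D182230).symm.trans (sb E96644 F134114))
theorem F335674 : act 0 n182176 = n86994 := (sb E96645 (iv1 D182202))
theorem F335675 : act 3 n43537 = n51299 := (sb E96646 F172486)
theorem E96671 : n108538 = n92920 := ((((iv4 F143286)).symm.trans (sb E96646 F172487))).symm
theorem E96672 : n93049 = n51297 := ((D93049).symm.trans (sb E96646 (iv6 D111218)))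
theorem F335676 : act 2 n41899 = n70663 := (sb E96647 (iv2 D150136))
theorem F335677 : act 7 n41899 = n70664 := (sb E96647 (iv7 F236311))
theorem F335678 : act 3 n87538 = n70663 := (sb E96648 (iv3 D150137))
theorem F335679 : act 0 n150138 = n89396 := (sb E96649 (iv1 F288529))
theorem F335680 : act 1 n150138 = n89391 := (sb E96649 F288527)
theorem F335681 : act 2 n150138 = n88595 := (sb E96649 (iv2 D185991))
theorem F335682 : act 3 n150138 = n89460 := (sb E96649 F288523)
theorem F335683 : act 6 n150138 = n102200 := (sb E96649 F288525)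
theorem F335684 : act 7 n150138 = n89469 := (sb E96649 F288526)
theorem F335685 : act 2 n87360 = n70664 := (sb E96650 F236312)
theorem F335686 : act 7 n87360 = n70663 := (sb E96650 (iv7 D150141))
theorem F335687 : act 3 n41891 = n70664 := (sb E96651 (iv3 D150142))
theorem F335688 : act 4 n41775 = n70664 := (sb E96652 (iv4 D150143))
theorem F335689 : act 6 n47879 = n70664 := (sb E96653 (iv6 D150145))
theorem F335690 : act 1 n40406 = n70662 := (sb E96654 (iv0 D150132))
theorem F335691 : act 0 n89399 = n70662 := (sb E96655 (iv1 D150133))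
theorem F335692 : act 7 n40604 = n87007 := (sb E96656 (iv7 D182231))
theorem F335693 : act 0 n98378 = n181942 := (sb E96657 F283676)
theorem F335694 : act 1 n98378 = n181945 := (sb E96657 F284513)
theorem F335695 : act 2 n89403 = n87007 := (sb E96660 (iv2 D182227))
theorem F335696 : act 7 n56721 = n46028 := (sb E96661 (iv7 F151812))
theorem F335697 : act 0 n88895 = n93130 := (sb E96665 (iv1 F295311))
theorem F335698 : act 1 n88895 = n102449 := (sb E96665 (iv0 F290007))
theorem F335699 : act 5 n88895 = n124356 := (sb E96665 F198886)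
theorem F335700 : act 2 n56722 = n46028 := (sb E96666 F151813)
theorem F335701 : act 3 n89024 = n46028 := (sb E96667 (iv3 D98389))
theorem F335702 : act 4 n89241 = n46028 := (sb E96668 (iv4 D98390))
theorem F335703 : act 0 n182229 = n185341 := (sb E96669 F290039)
theorem F335704 : act 1 n182229 = n88339 := (sb E96669 F290040)
theorem F335705 : act 2 n182229 = n185369 := (sb E96669 F290067)
theorem F335706 : act 3 n182229 = n122410 := (sb E96669 F284572)
theorem F335707 : act 7 n182229 = n87356 := (sb E96669 (iv7 D182982))
theorem F335708 : act 6 n70666 = n87007 := (sb E96670 (iv6 D182230))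
theorem F335709 : act 3 n92920 = n50120 := (sb E96671 F167829)
theorem F335710 : act 6 n92920 = n50118 := (sb E96671 (iv6 D108538))
theorem F335711 : act 6 n51297 = n43537 := (sb E96672 (iv6 D93049))
theorem E96673 : n111217 = n88892 := ((c12_5 F335711 (iv5 D43537) (iv6 F291853) D41499 D88892 (iv5 D111217))).symm
theorem F335712 : act 3 n88892 = n51298 := (sb E96673 F172484)
theorem F335713 : act 5 n88892 = n51297 := (sb E96673 (iv5 D111217))
theorem F335714 : act 7 n88892 = n111141 := (sb E96673 F172485)
theorem F335715 : act 7 n100155 = n111142 := d14_4 (iv7 F80918) F335711 F291852 D100155 (iv6 D111142)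
theorem F335716 : act 3 n111147 = n100155 := d8_3 F335715 F172370 D111147
theorem E96674 : n100153 = n100006 := (c7_4 F329691 F335716 (iv6 D100155) D100153)
theorem F335717 : act 3 n100006 = n46746 := (sb E96674 (iv3 D100153))
theorem F335718 : act 3 n100154 = n108543 := d5_3 (iv4 F329690) F335717 D100154 F167844 (iv3 F80926)
theorem E96675 : n184585 = n110983 := (c19_17 (iv1 F78089) (iv5 F80927) (iv4 F329690) F335717 (iv1 D46746) (iv5 D22411) F66073 (iv3 F66072) (iv1 F14624) (iv5 F291178) D10946 F17774 F65648 D19339 D41099 D88022 D184585 (iv5 D110983) F111182 (iv3 F111181))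
theorem F335719 : act 1 n110983 = n88022 := (sb E96675 (iv0 D184585))
theorem F335720 : act 0 n100149 = n156006 := d20_7 (iv4 D74525) (iv1 F80933) (iv4 F329690) F335717 (iv1 D46746) (iv3 F73858) D100149 F245103 F172413 F165805
theorem F335721 : act 0 n93067 = n100785 := d20_4 D46747 (iv1 F294165) F143281 (iv3 F143548) F329910 (iv4 D74525) (iv1 F80933) (iv4 F329690) F335717 (iv1 D46746)
theorem F335722 : act 1 n93067 = n100781 := d15_1 (iv0 F335721) F154970 (iv2 F154978)
theorem E96676 : n186559 = n37850 := (c21_6 D100781 (iv1 F335722) (iv5 D93067) (iv6 F293194) D88856 D186559 F58703 F54816 (iv5 D22597) D22598 D46991)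
theorem E96677 : n88856 = n82483 := (((D82483).symm.trans (sb E96676 (iv6 D186559)))).symm
theorem E96678 : n172208 = n41730 := ((D172208).symm.trans (sb E96677 (iv1 F136248)))
theorem E96679 : n172209 = n41480 := ((D172209).symm.trans (sb E96677 (iv0 D88856)))
theorem E96681 : n186557 = n45799 := (((F127112).symm.trans (sb E96677 D186557))).symm
theorem E96683 : n102004 = n57700 := ((((iv5 F300577)).symm.trans (sb E96677 F158639))).symm
theorem E96685 : n89096 = n88857 := ((((iv1 F136252)).symm.trans (sb E96678 (iv1 F270411)))).symm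
theorem F335723 : act 1 n41730 = n82483 := (sb E96678 (iv0 D172208))
theorem F335724 : act 0 n41480 = n82483 := (sb E96679 (iv1 D172209))
theorem E96686 : n98071 = n89204 := ((D98071).symm.trans (sb E96681 F289494))
theorem E96687 : n98072 = n89241 := ((D98072).symm.trans (sb E96681 (iv0 F289496)))
theorem E96688 : n89487 = n45855 := ((((iv4 F72423)).symm.trans (sb E96681 F289493))).symm
theorem E96689 : n123796 = n89423 := ((D123796).symm.trans (sb E96683 (iv1 F156958)))
theorem E96690 : n123797 = n47378 := ((D123797).symm.trans (sb E96683 (iv0 D102004)))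
theorem F335725 : act 2 n88857 = n41728 := (sb E96685 (iv2 F289526))
theorem E96691 : n186564 = n172216 := ((D186564).symm.trans (sb E96685 (iv6 F270420)))
theorem F335726 : act 7 n88857 = n41628 := (sb E96685 (iv7 D89096))
theorem F335727 : act 0 n89204 = n180886 := (sb E96686 (iv1 F281629))
theorem F335728 : act 1 n89204 = n45799 := (sb E96686 (iv0 D98071))
theorem F335729 : act 0 n89241 = n45799 := (sb E96687 (iv1 D98072))
theorem F335730 : act 1 n89241 = n180886 := (sb E96687 F281628)
theorem F335731 : act 5 n89241 = n111164 := (sb E96687 (iv5 F329112))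
theorem E96692 : n98163 = n41783 := ((D98163).symm.trans (sb E96688 (iv1 D89487)))
theorem E96693 : n98164 = n86986 := ((D98164).symm.trans (sb E96688 F137159))
theorem E96694 : n185994 = n41625 := (((F72422).symm.trans (sb E96688 (iv3 F289495)))).symm
theorem F335732 : act 1 n89423 = n57700 := (sb E96689 (iv0 D123796))
theorem F335733 : act 0 n47378 = n57700 := (sb E96690 (iv1 D123797))
theorem F335734 : act 6 n172216 = n88857 := (sb E96691 (iv6 D186564))
theorem E96695 : n98070 = n89486 := (((D89486).symm.trans (sb E96692 (iv1 F151429)))).symm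
theorem F335735 : act 1 n41783 = n45855 := (sb E96692 (iv0 D98163))
theorem F335736 : act 0 n86986 = n45855 := (sb E96693 (iv1 D98164))
theorem E96696 : n89460 = n89086 := (((D89086).symm.trans (sb E96694 (iv1 F288536)))).symm
theorem E96697 : n89087 = n88597 := ((D89087).symm.trans (sb E96694 (iv0 D185994)))
theorem F335737 : act 2 n89486 = n86985 := (sb E96695 F289541)
theorem F335738 : act 4 n89486 = n180886 := (sb E96695 (iv4 F281625))
theorem F335739 : act 6 n89486 = n180886 := (sb E96695 (iv6 F281626))
theorem F335740 : act 7 n89486 = n45798 := (sb E96695 (iv7 D98070))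
theorem E96698 : n185995 = n172216 := ((((iv1 F270423)).symm.trans (sb E96696 (iv1 F288541)))).symm
theorem F335741 : act 2 n89086 = n41772 := (sb E96696 (iv2 D89460))
theorem F335742 : act 3 n89086 = n150138 := (sb E96696 (iv3 F335682))
theorem F335743 : act 4 n89086 = n45367 := (sb E96696 F137122)
theorem F335744 : act 7 n89086 = n172214 := (sb E96696 (iv7 F289550))
theorem F335745 : act 0 n88597 = n41625 := (sb E96697 (iv1 D89087))
theorem F335746 : act 0 n172216 = n88597 := (sb E96698 (iv1 D185995))
theorem F335747 : act 0 n172207 = n95798 := d20_4 (iv4 F135757) F335745 (iv4 F136800) (iv3 F270402) (iv3 D95798) F137982 (iv1 F69390) (iv4 F114622) (iv3 F137978) (iv1 F137981)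
theorem F335748 : act 6 n176192 = n89086 := d10_0 F335743 F326737 (iv4 F275417)
theorem F335749 : act 2 n89462 = n176192 := d3_3 F335748 F335741 D89462
theorem F335750 : act 3 n102200 = n176192 := d7_3 F335748 F335742 F335683
theorem E96699 : n186563 = n102005 := (c21_7 D47361 (iv1 F328150) (iv5 F275416) F335748 (iv1 F270423) F335734 D186563 (iv1 D102005) (iv5 D47378) (iv6 D22757) D22752)
theorem F335751 : act 5 n102005 = n88857 := (sb E96699 (iv5 D186563))
theorem F335752 : act 2 n89354 = n102005 := d2_3 F335751 F335725 D89354
theorem F335753 : act 7 n89095 = n102005 := d13_0 F335751 F335726 D89095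
theorem F335754 : act 1 n114433 = n102006 := d18_6 (iv1 D88857) (iv4 F70203) F70205 (iv4 F70214) F306631 (iv4 F178469) (iv4 D102006) D102005 F335751
theorem F335755 : act 4 n102005 = n114126 := d11_1 F335753 (iv7 D114126) (iv4 F303373)
theorem F335756 : act 7 n176192 = n102152 := d8_2 (iv7 F328964) F335750 F328527
theorem E96700 : n144193 = n89450 := (c19_13 F298012 D84218 (iv4 F275417) (iv3 F335750) F328962 (iv5 D64676) (iv4 F161378) (iv3 D51223) (iv1 D24915) (iv5 F38179) (iv4 F79016) F318274 (iv1 F323191) (iv5 D89450) (iv4 F136968) (iv3 D89254) (iv1 F324808) (iv5 D79889) (iv4 F324800) F324799)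
theorem F335757 : act 1 n89450 = n72195 := (sb E96700 F323191)
theorem F335758 : act 4 n89450 = n148996 := (sb E96700 F323192)
theorem F335759 : act 6 n89450 = n67550 := (sb E96700 (iv6 D144193))
theorem F335760 : act 0 n137603 = n93079 := d20_1 D137603 F291494 (iv3 D94121) F137964 (iv3 F331228) (iv4 D166261) F300446 (iv4 F275417) (iv3 F335750) F328962
theorem E96701 : n182157 = n137602 := (c20_5 (iv4 D89872) (iv1 F69725) F64430 (iv3 F133494) D182157 F220763 D137603 F335760 F291494 (iv3 D94121) F137964)
theorem F335761 : act 1 n137602 = n86979 := (sb E96701 (iv0 D182157))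
theorem F335762 : act 5 n101187 = n137599 := d17_5 F138819 D94450 (iv1 F288237) (iv5 D185839) (iv4 F290175) (iv0 D137599) D137602 F335761 (iv4 F138818)
theorem E96702 : n185053 = n105041 := ((c21_5 (iv5 D137602) D137599 (iv5 F335762) F292333 (iv1 F160957) (iv6 D185053) F287427 (iv1 D182154) (iv5 D86978) D86979 (iv1 F335761))).symm
theorem F335763 : act 6 n105041 = n88204 := (sb E96702 (iv6 D185053))
theorem F335764 : act 6 n185052 = n186036 := d10_2 F335763 D185052 F288642
theorem E96703 : n186039 = n185764 := (c7_3 F335764 (iv3 D186036) D186039 F288059)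
theorem F335765 : act 6 n185764 = n88614 := (sb E96703 (iv6 D186039))
theorem F335766 : act 2 n98037 = n185764 := d3_3 F335765 F295137 D98037
theorem F335767 : act 7 n90289 = n185764 := d14_0 F335765 (iv7 F295421) (iv6 F295517) (iv7 F155672) D90289
theorem E96704 : n186038 = n94140 := ((c21_2 D44016 D94140 (iv5 D186038) (iv6 F335765) (iv1 F288060) (iv6 D90457) D90456 (iv1 F288283) F290245 (iv6 D94139) (iv1 D44015))).symm
theorem F335768 : act 5 n94140 = n88614 := (sb E96704 (iv5 D186038))
theorem F335769 : act 5 n93791 = n185753 := d21_6 (iv5 F335768) (iv1 F145099) F144571 (iv6 F292979) (iv1 F293965) D93791 (iv1 F288046) (iv5 D92756) (iv6 F292601) D88614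
theorem E96705 : n176929 = n93790 := ((c21_1 D93790 (iv1 F276280) (iv5 D98038) F292651 D185764 F335765 (iv5 F335768) (iv1 F145099) F144571 (iv6 F292979) (iv1 F293965))).symm
theorem F335770 : act 0 n93790 = n98038 := (sb E96705 (iv1 F276280))
theorem F335771 : act 1 n93790 = n84335 := (sb E96705 (iv0 D176929))
theorem E96706 : n98037 = n98018 := (c21_4 D43841 D93792 F295139 D98037 F291659 (iv6 D88472) D88471 D185753 (iv5 F335769) (iv6 D93791) (iv1 D43840))
theorem F335772 : act 2 n98018 = n185764 := (sb E96706 F335766)
theorem F335773 : act 6 n98018 = n45755 := (sb E96706 (iv6 D98037))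
theorem F335774 : act 6 n98035 = n148452 := d10_2 F335773 D98035 F333334
theorem F335775 : act 7 n92585 = n98018 := d14_0 F335773 (iv7 F295138) (iv6 F294553) (iv7 F155674) D92585
theorem E96707 : n98040 = n94138 := ((c21_1 D94138 (iv1 D98040) (iv5 D45757) (iv6 F72205) D98018 F335773 (iv5 F295139) (iv1 F293601) (iv5 D92316) F292979 (iv1 F69255))).symm
theorem F335776 : act 0 n94138 = n45757 := (sb E96707 (iv1 D98040))
theorem F335777 : act 1 n94138 = n93909 := (sb E96707 (iv0 F294556))
theorem F335778 : act 0 n94261 = n93777 := d21_1 (iv5 F145391) (iv5 D93777) (iv6 D43836) (iv1 F32914) D20760 D43841 D93792 F295139 (iv6 F335773) F291659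
theorem F335779 : act 4 n119970 = n94261 := d17_9 F335778 (iv5 D93777) F333358 D90153 (iv4 F317793) F317794 (iv0 D127930) F317610 F189381
theorem F335780 : act 0 n152183 = n114071 := d20_7 F328614 (iv1 D84098) F327762 D94261 F335778 F144547 (iv4 F239268) (iv4 D114071) F142456 (iv1 F67782)
theorem F335781 : act 1 n94261 = n114676 := d15_1 (iv0 F335778) (iv7 D114676) (iv2 F144546)
theorem F335782 : act 5 n148309 = n98019 := d17_5 (iv1 F322651) F322655 (iv1 F324852) (iv5 D148310) D148309 F291660 (iv5 F145391) F335781 (iv4 F192398)
theorem E96708 : n151325 = n145940 := (c20_5 (iv4 F335779) (iv1 F189381) (iv4 F317598) F163379 D151325 F229172 F104627 (iv1 F184741) (iv4 F316445) (iv3 F178793) (iv1 F335781))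
theorem F335783 : act 1 n145940 = n71320 := (sb E96708 (iv0 D151325))
theorem F335784 : act 0 n185852 = n90573 := d21_7 F333355 (iv1 F335781) F145391 (iv6 D88472) D88469 (iv6 F290237) D185852 F139404 (iv6 D90154) D90151
theorem F335785 : act 0 n185749 = n92807 := d21_1 D185749 F143157 (iv6 D92471) D92468 (iv6 F333356) F333355 (iv1 F335781) F145391 (iv6 D88472) D88469
theorem E96709 : n185749 = n130910 := ((c20_4 F326626 (iv1 D61421) (iv4 F95919) (iv3 F209516) F335785 (iv3 D92807) (iv4 F143030) (iv1 D92751) (iv4 D43390) (iv3 F68144) D92729)).symm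
theorem F335786 : act 0 n130910 = n92807 := (sb E96709 F335785)
theorem F335787 : act 2 n130910 = n185852 := (sb E96709 (iv2 F288279))
theorem F335788 : act 5 n130910 = n88469 := (sb E96709 (iv5 D185749))
theorem F335789 : act 7 n130910 = n92575 := (sb E96709 (iv7 F290236))
theorem F335790 : act 1 n90274 = n92807 := d15_0 (iv0 F335786) F335789 F142606
theorem F335791 : act 1 n92792 = n90274 := d15_0 F335790 F143158 (iv2 F143126)
theorem F335792 : act 1 n130910 = n92792 := d15_0 F335791 F290221 (iv2 F335787)
theorem F335793 : act 0 n94139 = n92475 := d21_10 (iv5 F143127) (iv1 F335792) F335788 (iv6 F290237) (iv1 D88519) D88521 (iv5 F144733) (iv1 F335777) (iv5 D94138) D94139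
theorem E96710 : n183847 = n130914 := (c6_2 F335788 (iv3 F285641) (iv5 D130914) (iv3 F209516))
theorem F335794 : act 0 n130914 = n92780 := (sb E96710 F285640)
theorem E96711 : n115126 = n92800 := ((F209519).symm.trans (sb E96710 (iv0 F285642)))
theorem E96712 : n133187 = n88187 := (((iv2 F213994)).symm.trans (sb E96710 F285638))
theorem F335795 : act 3 n130914 = n88469 := (sb E96710 F285641)
theorem F335796 : act 4 n130914 = n87701 := (sb E96710 (iv4 D183847))
theorem F335797 : act 6 n130914 = n185850 := (sb E96710 F290239)
theorem F335798 : act 7 n130914 = n87962 := (sb E96710 F290225)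
theorem F335799 : act 0 n92800 = n130914 := (sb E96711 (iv1 F209519))
theorem E96713 : n115190 = n99926 := (((F160560).symm.trans (sb E96711 (iv2 F179383)))).symm
theorem F335800 : act 5 n92800 = n53124 := (sb E96711 (iv5 D115126))
theorem F335801 : act 2 n88187 = n130914 := (sb E96712 F213994)
theorem E96714 : n184998 = n62493 := ((D184998).symm.trans (sb E96712 (iv5 D133187)))
theorem F335802 : act 5 n99926 = n53150 := (sb E96713 (iv5 D115190))
theorem F335803 : act 5 n62493 = n88187 := (sb E96714 (iv5 D184998))
theorem F335804 : act 6 n185852 = n130909 := d12_4 D130910 F335788 (iv6 F290237) D185852 (iv5 F209515)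
theorem F335805 : act 3 n130911 = n185852 := d7_3 F335804 F209511 D130911
theorem F335806 : act 6 n133191 = n106232 := d14_3 F290221 F335804 (iv7 F214011) (iv7 F233459) (iv6 F233462)
theorem E96715 : n115205 = n90456 := (c21_6 (iv5 D63865) (iv1 F48432) (iv5 D30129) (iv6 F40735) D53154 D115205 (iv5 D90456) (iv1 F135547) D185852 F335804 (iv1 F209514))
theorem F335807 : act 6 n90456 = n53154 := (sb E96715 (iv6 D115205))
theorem E96716 : n115202 = n90459 := (c7_2 F335807 D115202 (iv6 D90459) (iv3 F139216))
theorem F335808 : act 3 n90459 = n53154 := (sb E96716 (iv3 D115202))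
theorem F335809 : act 6 n115204 = n93863 := d12_2 F335807 D115204 F144683 (iv6 D90457) D90456
theorem E96717 : n176369 = n115204 := (c3_4 F335809 (iv2 F145390) F327764 D176369)
theorem F335810 : act 2 n115204 = n84095 := (sb E96717 (iv2 D176369))
theorem F335811 : act 3 n93864 = n115204 := d7_3 F335809 (iv3 D93863) D93864
theorem F335812 : act 4 n155411 = n115204 := d10_3 F335809 F317611 D155411
theorem E96718 : n149420 = n115215 := (c21_10 (iv5 D53157) D53154 D115204 F335809 F290244 (iv6 D52929) (iv5 F42810) F77542 (iv5 F106555) D149420 (iv1 D115215))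
theorem F335813 : act 2 n115215 = n114551 := (sb E96718 F234983)
theorem F335814 : act 3 n115215 = n83058 := (sb E96718 F324631)
theorem F335815 : act 4 n115215 = n70163 := (sb E96718 F234985)
theorem F335816 : act 6 n115215 = n70162 := (sb E96718 (iv6 D149420))
theorem F335817 : act 7 n115215 = n83991 := (sb E96718 F324632)
theorem F335818 : act 7 n176043 = n114551 := d4_2 F335817 D176043 (iv2 F335813)
theorem E96719 : n176044 = n97248 := (c11_2 F335817 D176044 F308835 (iv4 F335815))
theorem F335819 : act 4 n97248 = n83991 := (sb E96719 (iv4 D176044))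
theorem F335820 : act 5 n130653 = n115215 := d13_3 F335817 (iv5 F319744) F216628
theorem F335821 : act 7 n176045 = n114453 := d14_2 F335817 D176045 (iv6 D114453) (iv7 F106554) (iv6 F335816)
theorem E96720 : n176043 = n115214 := (c15_4 (iv0 D115214) D115215 F335817 D176043)
theorem F335822 : act 2 n115214 = n83991 := (sb E96720 (iv2 D176043))
theorem F335823 : act 7 n115214 = n114551 := (sb E96720 F335818)
theorem E96721 : n176041 = n115218 := ((c15_1 (iv0 F332571) (iv0 D176041) (iv7 F335817) F335813)).symm
theorem F335824 : act 1 n115218 = n83991 := (sb E96721 (iv0 D176041))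
theorem E96722 : n176042 = n115213 := (c15_2 F335824 D176042 F332622 (iv2 F332569))
theorem F335825 : act 0 n115213 = n83991 := (sb E96722 (iv1 D176042))
theorem E96723 : n97244 = n96247 := (c18_2 (iv1 F71695) D97244 (iv1 D96247) (iv4 F125280) (iv5 F313082) F332566 F335824 (iv4 F335819) F150001 F125632)
theorem F335826 : act 4 n96247 = n45435 := (sb E96723 (iv4 D97244))
theorem F335827 : act 4 n131814 = n113710 := d18_3 (iv1 D133441) F97682 D131814 (iv5 F177505) F177504 F230375 F332566 F335824 (iv5 F319744)
theorem F335828 : act 6 n113709 = n131814 := d10_0 F335827 (iv6 D113710) D113709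
theorem F335829 : act 5 n131814 = n110770 := d21_6 F330435 (iv1 F202830) F330428 (iv6 F328041) F177052 F335828 (iv1 F171460) (iv5 D106795) (iv6 F99175) (iv1 F207089)
theorem F335830 : act 4 n110770 = n96560 := d16_4 (iv4 F177504) F177505 (iv4 F335827) F335829 (iv5 F148720) F317651 (iv5 F230881) (iv7 D147267) (iv2 F105286)
theorem F335831 : act 5 n114551 = n133440 := d17_7 D131814 F335829 (iv1 F171460) (iv5 D106795) (iv4 F83928) D115213 F325782 (iv0 D133440) F97682
theorem F335832 : act 3 n133440 = n113777 := d6_1 F335831 (iv5 F251178) F251176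
theorem F335833 : act 6 n133440 = n113776 := d12_2 D114551 F335831 F177031 F163113 F106027
theorem F335834 : act 5 n130652 = n115214 := d13_3 F335823 F335831 (iv7 F216633)
theorem F335835 : act 1 n133443 = n170415 := d17_8 (iv1 F319122) (iv5 D127503) (iv1 D59882) D59883 (iv4 F178627) F335831 (iv0 D133440) D133443 (iv4 D170415)
theorem F335836 : act 6 n113790 = n135842 := d21_3 F233458 F138862 D113790 (iv1 F328628) F328631 (iv5 F179423) F332571 F335831 F335833 F233461
theorem E96724 : n170415 = n142844 := ((c21_10 (iv5 D133443) D133440 (iv5 F335831) (iv6 D114551) (iv1 D52876) D52877 D114554 F318200 (iv5 D142843) D142844 (iv1 F335835))).symm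
theorem F335837 : act 0 n142844 = n133443 := (sb E96724 (iv1 F335835))
theorem F335838 : act 4 n142844 = n81705 := (sb E96724 (iv4 D170415))
theorem F335839 : act 6 n128127 = n133443 := d21_5 (iv5 D25665) (iv1 F42424) D52812 (iv6 F94780) D128127 (iv5 D133443) D133440 (iv5 F335831) (iv6 D114551) (iv1 D52876)
theorem F335840 : act 2 n133443 = n176368 := d3_1 F335839 F335142 F206217
theorem F335841 : act 3 n133445 = n128127 := d7_3 F335839 F214576 D133445
theorem F335842 : act 4 n133443 = n146974 := d10_1 F335839 (iv6 F230365) (iv4 F206216)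
theorem F335843 : act 5 n142853 = n135846 := d21_6 (iv5 F319744) (iv1 D133441) D133443 (iv6 F335839) (iv1 F320167) F320169 (iv1 D135846) F327339 F326598 F335825
theorem F335844 : act 4 n135846 = n154235 := d16_2 F320176 F335843 (iv5 D154235) (iv4 D73076) (iv5 D33663) (iv4 F52931) (iv5 F106549) (iv7 F206236) (iv2 F320174)
theorem F335845 : act 0 n128824 = n106252 := d18_2 (iv1 D135846) (iv4 F207091) F163285 F77516 F54212 F318067 (iv4 F102901) D142853 F335843
theorem F335846 : act 3 n132121 = n154235 := d20_5 (iv4 D62004) (iv1 D29361) (iv4 F47016) (iv3 F96576) D132121 (iv4 F335844) (iv1 D135846) (iv4 F207091) F207090 (iv1 F102067)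
theorem F335847 : act 5 n154234 = n132121 := d6_0 F335846 (iv5 D154235) D154234
theorem F335848 : act 3 n146977 = n107706 := d5_3 F335842 F230364 D146977 F166349 (iv3 F214576)
theorem F335849 : act 4 n145522 = n130655 := d11_3 (iv7 F214577) F335842 (iv7 F335132)
theorem E96725 : n116165 = n81705 := (c20_11 (iv4 F335838) F335837 F335842 F230364 (iv1 F317642) (iv3 D116438) F110652 (iv1 D26174) (iv4 F40993) (iv3 F84452) D116165)
theorem E96726 : n170414 = n53540 := ((D170414).symm.trans (sb E96725 (iv0 D116165)))
theorem E96727 : n173734 = n170404 := ((((iv3 F267877)).symm.trans (sb E96725 F330296))).symm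
theorem F335850 : act 0 n53540 = n81705 := (sb E96726 (iv1 D170414))
theorem E96728 : n116166 = n81710 := ((D116166).symm.trans (sb E96726 F267886))
theorem F335851 : act 0 n170404 = n134669 := (sb E96727 F330256)
theorem F335852 : act 1 n170404 = n134394 := (sb E96727 (iv0 F334171))
theorem F335853 : act 4 n170404 = n83082 := (sb E96727 (iv4 D173734))
theorem F335854 : act 6 n170404 = n141467 := (sb E96727 (iv6 F331677))
theorem F335855 : act 7 n170404 = n84083 := (sb E96727 F272303)
theorem F335856 : act 0 n81710 = n53540 := (sb E96728 (iv1 D116166))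
theorem F335857 : act 5 n133328 = n146996 := d19_17 F230367 D146974 (iv4 F335842) F214576 F97686 (iv5 D53149) (iv4 F79247) (iv3 D50061) (iv1 F38337) F38334 F18845 (iv3 F18840) (iv1 F19515) D14053 D29588 D62576 D133328 (iv4 D146996) F190187
theorem F335858 : act 2 n147291 = n133328 := d2_3 F335857 F230404 (iv5 F230911)
theorem F335859 : act 7 n147195 = n133328 := d13_0 F335857 F230406 D147195
theorem F335860 : act 0 n147894 = n133331 := d17_0 (iv5 D133331) D133328 F335857 (iv4 D146996) (iv5 F315734) (iv0 D143769) D143771 F313470 (iv4 F231673)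
theorem F335861 : act 5 n155080 = n147853 := d21_2 F310751 (iv1 F243894) F334532 (iv1 F334050) F334526 (iv5 D133331) D133328 F335857 F230405 (iv1 F230556)
theorem F335862 : act 5 n130520 = n160724 := d21_8 F305671 F297032 (iv5 F297037) (iv6 F310747) (iv1 F230561) (iv6 F230405) (iv5 F335857) (iv1 F214331) (iv6 D160724) F307674
theorem F335863 : act 4 n160724 = n148501 := d17_4 (iv1 F230410) (iv5 F335857) (iv1 F214331) F335862 (iv5 D148501) D148500 F313174 F230903 (iv4 D147282)
theorem F335864 : act 5 n133368 = n147300 := d16_1 D133368 F312028 D148501 (iv4 F335863) (iv5 F335862) F209088 D130570 (iv7 F214416) F214414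
theorem E96729 : n133329 = n69045 := (c21_8 D68995 F105206 (iv5 F80466) D69077 (iv1 F307675) D160724 (iv5 F335862) (iv1 F214335) (iv5 D69045) (iv6 D32119) (iv1 F51035))
theorem E96730 : n147288 = n62576 := ((D147288).symm.trans (sb E96729 (iv1 D133329)))
theorem E96731 : n147289 = n130520 := ((D147289).symm.trans (sb E96729 F214335))
theorem F335865 : act 1 n62576 = n69045 := (sb E96730 (iv0 D147288))
theorem F335866 : act 0 n130520 = n69045 := (sb E96731 (iv1 D147289))
theorem F335867 : act 3 n147290 = n112842 := d20_3 (iv4 F209088) F335866 D147290 (iv1 F175921) F175919 F112206 (iv1 F311905) D58437 (iv3 F316691) (iv1 F97603)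
theorem F335868 : act 2 n159593 = n133368 := d2_3 F335864 F230925 D159593
theorem E96732 : n148460 = n112908 := (c6_3 F335864 F312027 D148460 (iv3 F214422))
theorem E96733 : n146547 = n133693 := ((((iv1 F215147)).symm.trans (sb E96732 F232205))).symm
theorem F335869 : act 5 n112908 = n69565 := (sb E96732 (iv5 D148460))
theorem E96734 : n150317 = n131286 := (((F215144).symm.trans (sb E96733 (iv2 F236567)))).symm
theorem F335870 : act 5 n133693 = n68691 := (sb E96733 (iv5 D146547))
theorem F335871 : act 5 n131286 = n70780 := (sb E96734 (iv5 D150317))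
theorem E96735 : n159590 = n130574 := (c13_4 (iv7 F214423) F335864 (iv7 F230922) D159590)
theorem F335872 : act 5 n130574 = n76350 := (sb E96735 (iv5 D159590))
theorem F335873 : act 5 n105874 = n146548 := d9_8 F335871 (iv4 D70780) (iv5 D32806) F306005 (iv5 D23883) (iv4 F37282) D48948 D105874 (iv4 F311218) (iv5 D131289) (iv4 D61613) (iv5 D29190) D29189 D61612 D131286
theorem F335874 : act 5 n150318 = n133702 := d13_3 F215175 F335871 D150318
theorem F335875 : act 4 n133728 = n152432 := d17_9 (iv1 F312183) (iv5 F247665) F247666 F335871 (iv4 D70780) (iv5 D32806) D32805 D70776 F309926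
theorem F335876 : act 5 n146498 = n105415 := d18_4 (iv1 F312070) F312071 (iv1 F233148) (iv4 F229825) (iv4 D105415) F76751 D76400 (iv0 F210413) F335871
theorem E96736 : n117363 = n68666 := (c21_7 (iv5 F247665) F247666 F335871 F107256 F55384 D54086 D117363 (iv1 F325874) D115099 F327108 (iv1 F312183))
theorem E96737 : n146465 = n54086 := ((D146465).symm.trans (sb E96736 (iv5 D117363)))
theorem F335877 : act 5 n54086 = n68666 := (sb E96737 (iv5 D146465))
theorem F335878 : act 5 n146395 = n117324 := d2_2 F335877 (iv2 F229714) F183709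
theorem F335879 : act 5 n146461 = n116164 := d6_2 F335877 (iv3 F229794) F180978
theorem E96738 : n146462 = n54085 := (c12_5 D54086 F335877 (iv6 D68666) D68665 D146462 (iv5 D54085))
theorem E96739 : n117360 = n68665 := ((D117360).symm.trans (sb E96738 (iv6 D146462)))
theorem F335880 : act 6 n68665 = n54085 := (sb E96739 (iv6 D117360))
theorem F335881 : act 5 n146466 = n117364 := d13_3 (iv7 D117364) F335877 D146466
theorem F335882 : act 5 n146478 = n135645 := d17_7 (iv1 F179333) (iv5 F323489) (iv1 D117362) F335877 F104876 D68669 D146478 F218136 F218108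
theorem F335883 : act 0 n114876 = n117372 := d18_0 (iv4 D117372) (iv1 D54088) (iv4 F85361) F335877 F104876 D68668 (iv4 F333181) D146443 (iv5 F229785)
theorem F335884 : act 3 n136401 = n123116 := d19_11 (iv1 D117362) F335877 F104876 F50290 D52524 D113759 F326365 F211711 F326944 (iv5 F161939) (iv4 F219506) (iv1 D123116) (iv5 D57291) F44351 F29451 D18258 D38213 D83039 (iv3 F323488)
theorem E96740 : n135743 = n115172 := (c21_10 (iv5 F323489) (iv1 D117362) F335877 (iv6 D68666) F327872 (iv6 D63812) D63811 F217967 (iv5 F218273) D135743 (iv1 F179333))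
theorem F335885 : act 6 n115172 = n63825 := (sb E96740 (iv6 D135743))
theorem F335886 : act 6 n134308 = n135064 := d7_2 F335885 (iv3 F216323) F217296
theorem E96741 : n135066 = n63099 := (c10_3 F335886 (iv4 D135064) D135066 D134308)
theorem E96742 : n134310 = n63480 := ((D134310).symm.trans (sb E96741 (iv6 D135066)))
theorem F335887 : act 6 n63480 = n63099 := (sb E96742 (iv6 D134310))
theorem E96743 : n146373 = n135541 := (c12_4 F335886 F335192 D159914 F252180 (iv6 D135541) (iv5 F218274))
theorem F335888 : act 0 n135541 = n68633 := (sb E96743 (iv1 D146373))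
theorem F335889 : act 5 n135541 = n159914 := (sb E96743 (iv5 F252180))
theorem E96744 : n159924 = n135509 := ((c21_3 (iv5 D135708) (iv1 F99183) D135509 (iv6 D159924) (iv1 D76558) (iv6 F114796) (iv5 D76555) D76553 (iv5 F335192) (iv6 F335886) (iv1 F218201))).symm
theorem F335890 : act 2 n135509 = n105752 := (sb E96744 F252185)
theorem F335891 : act 3 n135509 = n106234 := (sb E96744 F252186)
theorem E96745 : n146318 = n63716 := ((((iv5 D135509)).symm.trans (sb E96744 F252187))).symm
theorem F335892 : act 6 n135509 = n76558 := (sb E96744 (iv6 D159924))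
theorem E96746 : n135510 = n68614 := ((D135510).symm.trans (sb E96745 (iv6 D146318)))
theorem F335893 : act 6 n68614 = n63716 := (sb E96746 (iv6 D135510))
theorem F335894 : act 6 n135506 = n105750 := d3_2 F335893 (iv2 F217911) F162406
theorem F335895 : act 6 n135507 = n106231 := d7_2 F335893 D135507 F163247
theorem F335896 : act 6 n135508 = n146317 := d10_2 F335893 D135508 (iv4 D146317)
theorem E96747 : n146327 = n146323 := (c21_11 (iv5 F229664) D147972 F231791 F327875 (iv1 F99183) (iv6 F335893) (iv5 D68614) (iv1 D31925) D31926 D68618 D146327)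
theorem E96748 : n68618 = n68617 := ((((iv0 D146323)).symm.trans (sb E96747 (iv0 D146327)))).symm
theorem E96750 : n117312 = n117311 := ((((iv2 F183673)).symm.trans (sb E96748 (iv2 F183677)))).symm
theorem E96751 : n146324 = n115489 := ((D146324).symm.trans (sb E96748 (iv3 F327478)))
theorem E96752 : n146326 = n31926 := ((((iv4 D68617)).symm.trans (sb E96748 (iv4 F229668)))).symm
theorem E96753 : n146329 = n146325 := (((D146325).symm.trans (sb E96748 D146329))).symm
theorem F335897 : act 6 n117311 = n54068 := (sb E96750 (iv6 D117312))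
theorem F335898 : act 3 n115489 = n68617 := (sb E96751 (iv3 D146324))
theorem F335899 : act 6 n31926 = n68617 := (sb E96752 (iv6 D146326))
theorem F335900 : act 3 n146325 = n71945 := (sb E96753 F229669)
theorem F335901 : act 6 n146325 = n68619 := (sb E96753 F229670)
theorem E96755 : n146380 = n146331 := ((c10_2 F335901 D146331 (iv6 D146380) (iv4 F229665))).symm
theorem F335902 : act 6 n146331 = n68635 := (sb E96755 (iv6 D146380))
theorem F335903 : act 6 n159383 = n113895 := d21_5 F186663 F103963 D76650 (iv6 F142824) F329253 (iv5 D113895) (iv1 F104821) D146325 F335901 (iv1 F186661)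
theorem F335904 : act 6 n117736 = n105914 := d3_2 F335903 (iv2 F184399) (iv2 F250942)
theorem F335905 : act 5 n94238 = n146331 := d12_5 F335902 (iv5 D68635) D68636 (iv5 F319128) D94238
theorem F335906 : act 0 n146494 = n155577 := d21_4 F229678 (iv1 D68673) D68675 D146494 (iv6 D155577) (iv5 F328907) F288414 F335905 F335902 (iv1 F229677)
theorem F335907 : act 7 n151352 = n94238 := d13_0 F335905 F229671 D151352
theorem E96756 : n186498 = n118699 := ((c16_10 F289384 F335905 (iv4 D146331) (iv5 D68619) F50248 D31932 D68628 D146361 F229689 (iv2 F186693))).symm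
theorem F335908 : act 3 n118699 = n88829 := (sb E96756 F289383)
theorem F335909 : act 4 n118699 = n94238 := (sb E96756 F289384)
theorem F335910 : act 6 n118699 = n88826 := (sb E96756 (iv6 D186498))
theorem F335911 : act 5 n99427 = n118329 := d17_1 F157799 F185935 D118699 F335909 F335905 (iv0 F329797) (iv5 D92838) F157722 (iv4 F139311)
theorem F335912 : act 2 n150780 = n99427 := d2_3 F335911 F185933 D150780
theorem F335913 : act 3 n118329 = n99428 := d6_1 F335911 (iv5 D99428) D99427
theorem F335914 : act 7 n150773 = n99427 := d13_0 F335911 F185934 D150773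
theorem F335915 : act 5 n151536 = n90732 := d16_7 (iv4 F153164) F335911 (iv4 D118329) F86079 (iv4 F103962) (iv5 F186663) (iv4 F238415) F155669 (iv2 F155666)
theorem F335916 : act 5 n151535 = n90733 := d16_1 (iv4 F238409) (iv4 F153164) F335911 (iv4 D118329) F86079 (iv4 F103962) (iv5 F186663) F186662 (iv2 F166775)
theorem F335917 : act 5 n105939 = n90510 := d17_1 D105939 F157799 F335911 (iv4 D118329) F86079 F77018 (iv5 F25330) (iv0 F53311) D48978
theorem F335918 : act 1 n160071 = n99427 := d17_6 (iv1 F86408) (iv5 F86410) F85411 D35040 D76657 D160071 F335911 F185936 (iv4 D68628)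
theorem F335919 : act 4 n92600 = n160071 := d18_7 F185935 (iv4 D54651) F50496 D33988 F329203 (iv4 F73279) D92600 F335918 F335911
theorem F335920 : act 5 n107926 = n101199 := d9_8 (iv5 F335911) F153164 (iv5 F335916) F238409 (iv5 D107918) F78825 D49849 D107926 F155910 (iv5 F335915) F238415 F186663 F103962 (iv5 F86079) D118329
theorem F335921 : act 2 n150773 = n101199 := d16_9 F155910 (iv5 F335915) F238415 F186663 F103962 (iv5 F86079) D118329 (iv5 F335911) (iv7 F335914)
theorem F335922 : act 3 n99423 = n150773 := d0_0 F335921 (iv3 D101199) F155689 (iv3 F153157) (iv2 F155659)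
theorem F335923 : act 4 n92679 = n150773 := d1_0 F335921 F155910 (iv2 F155667)
theorem F335924 : act 7 n101199 = n150780 := d4_2 (iv7 F335914) F335921 F335912
theorem F335925 : act 1 n101199 = n160071 := d15_0 F335918 (iv7 F335914) F335921
theorem F335926 : act 5 n92679 = n150765 := d16_1 (iv4 F335923) F237332 (iv5 F115175) (iv4 D76764) F77101 D71089 D150780 (iv7 F335924) (iv2 F335921)
theorem F335927 : act 3 n150765 = n100357 := d6_1 F335926 (iv5 D100357) (iv3 F154347)
theorem F335928 : act 4 n105912 = n92840 := d18_7 D43439 D92830 F331245 (iv4 F335923) F335926 F237332 (iv0 F162650) (iv0 D92840) (iv5 D43442)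
theorem F335929 : act 4 n92678 = n150780 := d16_0 (iv5 D150780) (iv4 D71089) (iv5 F77101) D76764 F115175 (iv4 F237332) (iv5 F335926) F155665 F155666
theorem F335930 : act 6 n117357 = n146428 := d21_9 (iv5 F335926) (iv1 D92679) D92680 F142824 F114975 F316772 (iv5 D54238) D54236 (iv5 F183791) (iv1 F237331)
theorem F335931 : act 6 n151343 = n150765 := d21_5 (iv5 D48967) F51154 D33005 (iv6 F107831) D151343 (iv5 F335926) (iv1 D92679) D92680 F142824 F114975
theorem F335932 : act 4 n151348 = n151343 := d10_3 F335931 F237332 D151348
theorem E96757 : n146561 = n114383 := ((c3_2 F335930 F229762 (iv6 D146561) F183793)).symm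
theorem F335933 : act 6 n114383 = n68696 := (sb E96757 (iv6 D146561))
theorem F335934 : act 4 n146426 = n117357 := d10_3 F335930 (iv4 D146428) (iv6 F229761)
theorem F335935 : act 7 n151531 = n146559 := d14_4 F183794 F335930 F229763 (iv6 F238397) (iv6 D146559)
theorem F335936 : act 4 n146559 = n151532 := d11_1 F335935 (iv7 D151532) D151531
theorem F335937 : act 6 n151532 = n146431 := d10_2 D146559 F335936 F229769
theorem E96758 : n146432 = n114921 := (c12_3 F335937 (iv5 D146431) D146432 (iv5 D114921) (iv6 F259150) (iv5 F238399))
theorem F335938 : act 4 n114921 = n68656 := (sb E96758 F229770)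
theorem E96759 : n146427 = n68655 := (((iv6 F259158)).symm.trans (sb E96758 (iv6 D146432)))
theorem E96760 : n146800 = n146430 := (((D146430).symm.trans (sb E96759 (iv3 F230160)))).symm
theorem F335939 : act 6 n68655 = n114921 := (sb E96759 F259158)
theorem E96761 : n117330 = n68652 := (((iv7 F183725)).symm.trans (sb E96759 (iv7 D146427)))
theorem F335940 : act 7 n146430 = n68825 := (sb E96760 (iv7 D146800))
theorem E96762 : n146424 = n146319 := ((D146424).symm.trans (sb E96761 (iv1 F229657)))
theorem E96763 : n146425 = n146321 := ((D146425).symm.trans (sb E96761 (iv0 F229658)))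
theorem E96764 : n117331 = n68651 := (((iv2 F183726)).symm.trans (sb E96761 F183724))
theorem E96765 : n146423 = n54076 := (((iv4 F229758)).symm.trans (sb E96761 (iv4 D117330)))
theorem F335941 : act 7 n68652 = n68655 := (sb E96761 F183725)
theorem F335942 : act 1 n146319 = n68652 := (sb E96762 (iv0 D146424))
theorem F335943 : act 0 n146321 = n68652 := (sb E96763 (iv1 D146425))
theorem F335944 : act 2 n68651 = n68652 := (sb E96764 F183726)
theorem E96766 : n146421 = n113734 := ((D146421).symm.trans (sb E96764 F183727))
theorem E96767 : n146422 = n114384 := ((D146422).symm.trans (sb E96764 F183728))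
theorem F335945 : act 4 n54076 = n68652 := (sb E96765 F229758)
theorem F335946 : act 6 n54076 = n68651 := (sb E96765 (iv6 D146423))
theorem F335947 : act 3 n113734 = n68651 := (sb E96766 (iv3 D146421))
theorem F335948 : act 4 n113734 = n146796 := (sb E96766 (iv4 F230158))
theorem F335949 : act 4 n114384 = n68696 := (sb E96767 F229757)
theorem F335950 : act 5 n114384 = n68651 := (sb E96767 (iv5 D146422))
theorem F335951 : act 7 n146431 = n146426 := d14_2 D151532 F335937 F229761 F104862 (iv6 F107966)
theorem F335952 : act 5 n92894 = n146420 := d21_6 F107974 F114556 F114555 (iv6 F143086) F286267 D92894 (iv1 D146420) (iv5 F335950) (iv6 D114384) (iv1 F107972)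
theorem F335953 : act 3 n146420 = n92901 := d6_1 F335952 (iv5 D92901) (iv3 F143270)
theorem F335954 : act 4 n105421 = n92894 := d16_0 F335952 F229755 (iv5 D76531) (iv4 D34967) D34968 D76533 (iv5 F229817) (iv7 F314418) F189437
theorem F335955 : act 0 n147967 = n92894 := d17_0 F335952 (iv1 D146420) (iv5 F335950) F335949 F104900 (iv0 F85576) D117727 F184382 D147967
theorem F335956 : act 1 n147970 = n92894 := d17_6 (iv1 F50545) F40357 D28359 (iv5 F85343) D117332 (iv5 F231788) F335952 F229753 (iv4 D68655)
theorem F335957 : act 3 n105369 = n146321 := d0_4 F335953 (iv2 F159986) F251770 (iv2 F209208) F229756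
theorem F335958 : act 6 n104407 = n146420 := d7_0 F335953 F143276 D104407
theorem F335959 : act 4 n159869 = n104407 := d10_3 F335958 F229755 D159869
theorem E96768 : n146419 = n114004 := (c8_3 (iv7 F209209) F335957 F229752 (iv3 D114004))
theorem F335960 : act 0 n114004 = n68655 := (sb E96768 (iv1 F229750))
theorem F335961 : act 1 n114004 = n68651 := (sb E96768 (iv0 D146419))
theorem F335962 : act 2 n114004 = n146319 := (sb E96768 (iv2 F229751))
theorem F335963 : act 4 n114004 = n76536 := (sb E96768 F229749)
theorem F335964 : act 7 n114004 = n146321 := (sb E96768 (iv7 F229752))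
theorem F335965 : act 3 n106246 = n114005 := d5_3 F335963 F114755 D106246 (iv4 D114005) D114004
theorem F335966 : act 2 n146796 = n146179 := d1_1 F335948 F229454 (iv2 F176968)
theorem F335967 : act 6 n146796 = n113733 := d10_2 D113734 F335948 (iv4 D113733)
theorem F335968 : act 3 n113733 = n146797 := d7_1 F335967 (iv6 D146797) D146796
theorem F335969 : act 5 n146797 = n146178 := d6_2 (iv5 F176965) F335968 (iv3 D146178)
theorem F335970 : act 6 n117328 = n146435 := d14_3 (iv7 F85337) F335946 (iv7 F183720) (iv7 D146435) (iv6 D68656)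
theorem F335971 : act 4 n146435 = n117329 := d10_1 F335970 (iv6 D117329) D117328
theorem E96769 : n146430 = n135664 := ((c14_6 F335940 (iv6 D68825) (iv7 F85249) D117234 F329782 D135664)).symm
theorem F335972 : act 3 n135664 = n68655 := (sb E96769 (iv3 D146430))
theorem F335973 : act 7 n135664 = n68825 := (sb E96769 F335940)
theorem E96770 : n135661 = n114921 := ((c7_3 D135664 F335972 F335939 (iv3 D135661))).symm
theorem F335974 : act 3 n114921 = n63783 := (sb E96770 (iv3 D135661))
theorem E96771 : n135663 = n114774 := (c6_3 D114921 F335974 D135663 F259168)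
theorem F335975 : act 5 n114774 = n63783 := (sb E96771 (iv5 D135663))
theorem E96772 : n121747 = n107746 := ((c19_7 (iv1 D71443) (iv5 F104869) (iv4 F335938) F335974 (iv1 D63783) (iv5 F83861) (iv4 F166379) (iv3 D121747) (iv1 D56257) (iv5 D27105) (iv4 D12983) (iv3 F21557) F324811 F324114 (iv4 F123480) (iv3 F263627) F308606 (iv5 F272024) F334789 F259141)).symm
theorem F335976 : act 3 n107746 = n56257 := (sb E96772 (iv3 D121747))
theorem F335977 : act 5 n107746 = n58237 := (sb E96772 F194309)
theorem F335978 : act 7 n107746 = n79930 := (sb E96772 F194310)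
theorem F335979 : act 7 n166533 = n115225 := d4_2 F335978 D166533 F179437
theorem E96773 : n166534 = n115160 := (c11_2 F335978 D166534 (iv7 D115160) (iv4 F166379))
theorem F335980 : act 4 n115160 = n79930 := (sb E96773 (iv4 D166534))
theorem F335981 : act 1 n115225 = n166531 := d15_0 (iv0 D166531) (iv7 F335978) (iv2 F179437)
theorem F335982 : act 4 n135851 = n174617 := d16_4 F179438 F83945 (iv4 F99349) D135851 (iv5 D174617) F128548 (iv5 F122668) (iv7 F335978) (iv2 F179437)
theorem F335983 : act 3 n145342 = n135851 := d5_5 F335982 F273474 (iv4 F330951) F228382 D145342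
theorem F335984 : act 5 n115225 = n124645 := d16_7 (iv4 F128548) D174617 (iv4 F335982) (iv5 D135851) F99349 (iv5 F83945) (iv4 F179438) F199391 (iv2 D84814)
theorem E96774 : n178525 = n115225 := (c6_4 F335984 F199389 F320192 D178525)
theorem F335985 : act 3 n115225 = n84994 := (sb E96774 (iv3 D178525))
theorem F335986 : act 5 n121074 = n107616 := d12_3 D115225 F335984 F199390 (iv6 D107616) (iv5 F83940)
theorem E96775 : n178187 = n71881 := (c21_9 (iv5 F108368) (iv1 F110313) F110310 (iv6 F326285) (iv1 F83942) D115225 F335984 (iv1 F199394) D178187 (iv6 D71881) D71879)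
theorem E96776 : n86115 = n84813 := ((F324629).symm.trans (sb E96775 (iv5 D178187)))
theorem E96779 : n179999 = n178184 := ((((iv2 F277737)).symm.trans (sb E96776 (iv2 F324627)))).symm
theorem E96780 : n178185 = n82451 := ((D178185).symm.trans (sb E96776 (iv3 F324628)))
theorem E96781 : n180283 = n178186 := (((D178186).symm.trans (sb E96776 (iv4 F280599)))).symm
theorem F335987 : act 5 n84813 = n71881 := (sb E96776 (iv5 F324629))
theorem E96782 : n178188 = n39859 := ((D178188).symm.trans (sb E96776 (iv6 D86115)))
theorem F335988 : act 6 n178184 = n86019 := (sb E96779 (iv6 D179999))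
theorem F335989 : act 3 n82451 = n84813 := (sb E96780 (iv3 D178185))
theorem F335990 : act 6 n178186 = n86113 := (sb E96781 (iv6 D180283))
theorem F335991 : act 6 n39859 = n84813 := (sb E96782 (iv6 D178188))
theorem F335992 : act 4 n166531 = n152513 := d17_9 (iv1 F327114) (iv5 F332592) F332589 F105037 (iv4 F108375) (iv5 F335987) F199394 (iv5 F335984) F335981
theorem F335993 : act 7 n152507 = n166531 := d11_0 F335992 (iv7 D152513) (iv4 F239688)
theorem F335994 : act 4 n126462 = n178368 := d20_2 F335992 (iv1 F327114) (iv3 D178368) (iv1 D84868) F60225 F315540 (iv1 F104701) (iv4 F313164) D79930 D166531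
theorem E96784 : n178369 = n164203 := (c5_3 F335994 (iv3 D178368) D178369 F258806 (iv4 F177623) (iv3 F332575))
theorem F335995 : act 4 n164203 = n84868 := (sb E96784 (iv4 D178369))
theorem F335996 : act 6 n178368 = n113136 := d10_2 D126462 F335994 F176268
theorem E96785 : n178371 = n164201 := ((c7_2 F335996 F332574 (iv6 D178371) D178368)).symm
theorem F335997 : act 5 n164201 = n113134 := (sb E96785 (iv5 F334754))
theorem F335998 : act 6 n164201 = n84868 := (sb E96785 (iv6 D178371))
theorem E96786 : n178367 = n175991 := (c3_2 F335998 (iv2 F277925) (iv6 D175991) (iv2 F324719))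
theorem F335999 : act 2 n175991 = n84868 := (sb E96786 F277925)
theorem F336000 : act 7 n175991 = n84867 := (sb E96786 (iv7 D178367))
theorem F336001 : act 6 n178362 = n92888 := d14_3 (iv7 F324720) F335998 F277924 (iv7 F293282) F323377
theorem E96787 : n178370 = n178177 := (c21_7 F90758 (iv1 D57612) (iv5 F83480) (iv6 F323368) (iv1 F324705) F335998 D178370 (iv1 D178177) (iv5 F317773) F334692 (iv1 F114414))
theorem F336002 : act 5 n178177 = n84868 := (sb E96787 (iv5 D178370))
theorem F336003 : act 6 n178177 = n124491 := (sb E96787 (iv6 F277926))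
theorem F336004 : act 5 n173576 = n166154 := d21_0 (iv1 F277734) F336002 (iv6 F335998) F324704 (iv6 D83053) F298348 (iv1 F298163) (iv5 D83918) D83919 F272007
theorem F336005 : act 3 n160687 = n173576 := d6_3 F336004 (iv3 F323505) (iv5 F334608)
theorem F336006 : act 6 n166154 = n173578 := d12_2 D173576 F336004 (iv5 D173578) (iv6 D83027) D83026
theorem F336007 : act 6 n165708 = n178176 := d21_9 (iv5 F336004) (iv1 F334723) F334719 F329028 (iv1 F175130) F320725 (iv5 F324233) (iv1 F331840) (iv5 F334634) (iv1 F277729)
theorem E96788 : n125290 = n98236 := (c21_11 (iv5 D98236) F320008 (iv5 D86089) (iv6 F130017) D178176 (iv6 F336007) F334634 F331839 D130130 F324070 (iv1 F201502))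
theorem F336008 : act 0 n98236 = n58653 := (sb E96788 (iv1 D125290))
theorem F336009 : act 1 n98236 = n86060 := (sb E96788 F201502)
theorem E96789 : n178365 = n178176 := (c21_9 (iv5 D130810) D130808 F334621 (iv6 D75246) (iv1 D34449) (iv6 F29899) D39264 D84867 D178365 (iv6 F336007) (iv1 F320276))
theorem F336010 : act 5 n178176 = n84867 := (sb E96789 (iv5 D178365))
theorem E96790 : n178366 = n130045 := (c12_3 F336007 F336010 D178366 (iv5 D130045) D130046 (iv5 F334634))
theorem F336011 : act 6 n130045 = n84867 := (sb E96790 (iv6 D178366))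
theorem E96791 : n182281 = n178364 := ((c17_5 (iv1 F334722) F317773 D178176 F336010 D178364 F283745 (iv0 F251200) (iv5 D159505) F206233 D115022)).symm
theorem F336012 : act 2 n178364 = n92886 := (sb E96791 F283744)
theorem F336013 : act 5 n178364 = n92604 := (sb E96791 F283745)
theorem F336014 : act 6 n178364 = n87035 := (sb E96791 (iv6 D182281))
theorem E96792 : n180464 = n98236 := (c21_6 F336010 (iv1 F334703) F334705 (iv6 F324549) F324547 D180464 (iv5 D98236) F320008 (iv5 D86089) (iv6 F130017) D178176)
theorem F336015 : act 6 n98236 = n86186 := (sb E96792 (iv6 D180464))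
theorem E96793 : n175439 = n125405 := (c21_7 (iv5 F336010) (iv1 F277729) (iv5 F336004) (iv6 D173576) F334791 F334787 (iv5 F274626) (iv1 D125405) (iv5 F130074) (iv6 D84870) D84867)
theorem F336016 : act 5 n125405 = n83958 := (sb E96793 F274626)
theorem F336017 : act 6 n125405 = n83774 := (sb E96793 (iv6 D175439))
theorem E96794 : n160789 = n130810 := ((c21_5 D39264 D84867 (iv5 F336010) (iv6 F336007) (iv1 F320276) (iv6 D160789) (iv5 D77148) D77145 (iv5 F300635) F334700 (iv1 D39262))).symm
theorem F336018 : act 6 n130810 = n77148 := (sb E96794 (iv6 D160789))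
theorem F336019 : act 6 n157834 = n133268 := d7_2 F336018 (iv3 F333771) F214232
theorem F336020 : act 6 n160788 = n160265 := d10_2 F336018 D160788 (iv4 F320277)
theorem F336021 : act 6 n112703 = n165710 := d14_5 (iv7 F320278) F336018 (iv7 F300625) (iv6 F334616) (iv7 F175406)
theorem F336022 : act 5 n165709 = n130128 := d21_0 (iv1 F208642) F324233 (iv6 F320725) (iv1 D110607) F323459 (iv5 F117878) (iv1 F296738) D77148 (iv6 F336018) F320275
theorem E96795 : n165709 = n124490 := ((c21_6 (iv5 F324774) (iv1 F325854) F231419 F319459 (iv1 F199116) D124490 F336022 (iv1 F208642) F324233 (iv6 F320725) (iv1 D110607))).symm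
theorem F336023 : act 0 n124490 = n79590 := (sb E96795 (iv1 D165709))
theorem F336024 : act 1 n124490 = n130810 := (sb E96795 (iv0 F320275))
theorem F336025 : act 5 n124490 = n130128 := (sb E96795 F336022)
theorem E96796 : n175038 = n124489 := ((c21_7 (iv5 F117878) (iv1 F296738) D77148 (iv6 F336018) (iv1 F336024) (iv6 D124490) D124489 (iv1 D175038) F320976 (iv6 F115595) (iv1 F318830))).symm
theorem F336026 : act 0 n124489 = n83591 := (sb E96796 (iv1 D175038))
theorem E96797 : n124489 = n107384 := ((c20_4 (iv4 F166383) (iv1 D64275) (iv4 F100070) (iv3 F165432) F336026 F320975 F307235 F112255 (iv4 F309206) (iv3 F313848) D107747)).symm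
theorem F336027 : act 0 n107384 = n83591 := (sb E96797 F336026)
theorem F336028 : act 5 n107384 = n58099 := (sb E96797 (iv5 D124489))
theorem E96798 : n136732 = n124487 := ((c6_2 F336028 D124487 (iv5 D136732) (iv3 F165432))).symm
theorem F336029 : act 2 n124487 = n126825 := (sb E96798 F219893)
theorem F336030 : act 5 n124487 = n64273 := (sb E96798 (iv5 D136732))
theorem F336031 : act 6 n130128 = n107383 := d12_4 D107384 F336028 D124490 F336025 (iv5 D107383)
theorem F336032 : act 3 n136731 = n130128 := d7_3 F336031 F165430 D136731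
theorem F336033 : act 4 n107383 = n185881 := d10_1 F336031 F288354 F331842
theorem E96799 : n130051 = n106399 := ((c14_3 (iv7 F331841) F336031 F165431 (iv6 D130051) (iv7 F323381) D185782)).symm
theorem F336034 : act 2 n106399 = n185792 := (sb E96799 F323378)
theorem F336035 : act 4 n106399 = n88532 := (sb E96799 F323379)
theorem F336036 : act 6 n106399 = n61067 := (sb E96799 (iv6 D130051))
theorem F336037 : act 5 n130805 = n107382 := d21_0 (iv1 D107382) D107383 (iv6 F336031) (iv1 F208642) (iv6 F97194) (iv5 F213296) (iv1 F330964) (iv5 F330901) (iv6 F330902) (iv1 F330903)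
theorem F336038 : act 4 n130940 = n106918 := d16_2 (iv4 F95934) D130940 F223615 D140434 F223618 F171416 (iv5 F336037) F330907 F95949
theorem F336039 : act 5 n185792 = n106398 := d21_6 D133278 F334667 F323673 F97241 (iv1 F319809) D185792 (iv1 F165427) (iv5 F336037) F330906 (iv1 F214237)
theorem F336040 : act 6 n173658 = n182292 := d12_4 D185792 F336039 (iv6 F176259) (iv5 F334746) F283809
theorem E96800 : n106919 = n90315 := (c16_3 (iv4 F37769) D49395 D106919 F138933 (iv4 F288113) F336039 F163559 (iv5 F78330) F78331 (iv2 D24191))
theorem F336041 : act 4 n90315 = n49395 := (sb E96800 (iv4 D106919))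
theorem F336042 : act 0 n116234 = n185792 := d19_0 F336039 F163559 F77675 D49596 (iv5 F228365) D145333 F228380 F323662 (iv5 D66484) (iv4 F102208) (iv3 D66297) F328802 F101845 F49393 F24343 (iv1 F20420) D25944 D53575 D116234
theorem F336043 : act 5 n116234 = n136738 := d17_7 F180531 (iv5 D49589) D49585 F78330 (iv4 F163559) (iv5 F336039) (iv0 F336042) (iv0 D136738) F100084
theorem F336044 : act 2 n158541 = n116234 := d2_3 F336043 F219916 F330917
theorem F336045 : act 5 n107354 = n136714 := d18_4 (iv1 F330919) F330922 (iv1 F180533) D107354 F288115 (iv0 D185793) (iv4 F288113) (iv0 F336042) F336043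
theorem F336046 : act 0 n107383 = n116234 := d21_10 F336043 (iv1 F330919) F319763 (iv6 D62666) (iv1 F47592) D61363 D130810 (iv1 F336024) F336025 F336031
theorem E96801 : n131001 = n126848 := (c21_11 F204092 D136738 (iv5 F336043) F181164 F321679 (iv6 D62309) D62308 F314206 (iv5 F315091) D61456 D131001)
theorem E96802 : n133525 = n61460 := ((F330908).symm.trans (sb E96801 (iv1 F209700)))
theorem E96803 : n133524 = n61456 := ((F330909).symm.trans (sb E96801 (iv0 D131001)))
theorem E96804 : n131002 = n62666 := (((iv1 F209697)).symm.trans (sb E96802 (iv1 D133525)))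
theorem F336047 : act 1 n61460 = n126848 := (sb E96802 (iv0 F330908))
theorem F336048 : act 0 n61456 = n126848 := (sb E96803 (iv1 F330909))
theorem F336049 : act 0 n62666 = n61456 := (sb E96804 (iv1 D131002))
theorem F336050 : act 1 n62666 = n61460 := (sb E96804 F209697)
theorem F336051 : act 0 n150321 = n175579 := d21_1 F279063 (iv5 F331957) F331958 F325019 (iv6 F322684) (iv5 F336043) F336042 F336039 (iv6 F176259) F319234
theorem F336052 : act 6 n158174 = n130788 := d21_3 (iv5 F321683) (iv1 F112943) D158174 (iv1 F214822) (iv6 F330910) F204092 D136738 (iv5 F336043) F181164 F321679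
theorem F336053 : act 2 n130788 = n132287 := d3_1 F336052 F306715 (iv2 F273742)
theorem F336054 : act 3 n130788 = n90504 := d7_1 F336052 F319945 (iv3 F307486)
theorem F336055 : act 7 n130788 = n133538 := d14_2 (iv7 F273743) F336052 (iv6 F334637) (iv7 F139409) F319945
theorem F336056 : act 5 n133540 = n132810 := d21_0 (iv1 D132810) (iv5 D62328) (iv6 D29484) D29479 D62309 (iv5 F321683) (iv1 F112943) D158174 F336052 (iv1 F214822)
theorem F336057 : act 2 n132810 = n172116 := d2_1 F336056 (iv5 F330901) (iv2 F214818)
theorem F336058 : act 7 n132810 = n122333 := d13_2 D133540 F336056 F319755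
theorem F336059 : act 4 n170735 = n132810 := d11_3 F336058 F195631 D170735
theorem F336060 : act 6 n170735 = n132810 := d14_5 F336058 (iv6 D122333) F89591 D81850 D170735
theorem E96805 : n172114 = n62328 := (c15_1 D172114 D132810 F336058 F195629)
theorem E96806 : n132809 = n82425 := ((D132809).symm.trans (sb E96805 (iv1 D172114)))
theorem E96807 : n175794 = n172113 := (((D172113).symm.trans (sb E96806 (iv1 F334640)))).symm
theorem F336061 : act 1 n82425 = n62328 := (sb E96806 (iv0 D132809))
theorem F336062 : act 2 n172113 = n132812 := (sb E96807 F334638)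
theorem F336063 : act 3 n172113 = n83927 := (sb E96807 F275211)
theorem F336064 : act 5 n172113 = n102576 := (sb E96807 (iv5 F334639))
theorem F336065 : act 7 n172113 = n83907 := (sb E96807 (iv7 D175794))
theorem F336066 : act 1 n132810 = n172113 := d15_1 D132810 F336065 F317261
theorem E96808 : n132857 = n132803 := (c21_9 (iv5 F336064) (iv1 F336066) (iv5 F336056) (iv6 F330910) (iv1 F336047) (iv6 F97509) F322444 F193294 F334327 (iv6 D132803) (iv1 F321694))
theorem F336067 : act 0 n132803 = n62349 := (sb E96808 (iv1 D132857))
theorem F336068 : act 1 n132803 = n62361 := (sb E96808 F213409)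
theorem F336069 : act 2 n132803 = n62359 := (sb E96808 F333823)
theorem F336070 : act 3 n132803 = n121216 := (sb E96808 F334326)
theorem F336071 : act 4 n132803 = n185862 := (sb E96808 (iv4 F333825))
theorem F336072 : act 5 n132803 = n121215 := (sb E96808 (iv5 F334327))
theorem F336073 : act 7 n132803 = n62358 := (sb E96808 F333824)
theorem F336074 : act 5 n107370 = n130163 := d21_2 (iv5 F320299) (iv1 F165419) (iv6 D130163) (iv1 F208644) (iv6 F321696) (iv5 F336064) (iv1 F336066) (iv5 F336056) (iv6 F330910) (iv1 F336047)
theorem F336075 : act 2 n130163 = n107383 := d2_1 F336074 (iv5 D107383) (iv2 F165416)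
theorem F336076 : act 7 n130163 = n185792 := d13_2 (iv7 F165417) F336074 F336039
theorem E96809 : n106916 = n90688 := ((c16_3 F336035 F135578 (iv4 F139606) (iv5 D106916) F78110 D49598 D107370 F336074 F336076 (iv2 F336034))).symm
theorem F336077 : act 2 n90688 = n49395 := (sb E96809 F164783)
theorem F336078 : act 3 n90688 = n134738 := (sb E96809 (iv3 F216764))
theorem F336079 : act 5 n90688 = n49394 := (sb E96809 (iv5 D106916))
theorem F336080 : act 0 n130163 = n158541 := d17_2 (iv1 F165419) F336074 (iv5 F330917) (iv4 F203939) (iv5 D111061) (iv0 F102891) D142703 F225615 F225588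
theorem E96810 : n141755 = n130163 := ((c17_6 D68139 F219918 (iv1 D49597) D49598 D107370 F336074 (iv0 D141755) (iv5 F322267) (iv0 D126719) F93859)).symm
theorem F336081 : act 1 n130163 = n66469 := (sb E96810 (iv0 D141755))
theorem E96811 : n130170 = n75246 := (c21_2 (iv5 F334647) (iv1 F324067) (iv5 F334621) (iv6 F334651) (iv1 F214236) F97509 (iv5 F320299) (iv1 F165419) F336074 (iv6 D130163) (iv1 F208644))
theorem E96812 : n157979 = n61105 := ((D157979).symm.trans (sb E96811 (iv1 D130170)))
theorem E96813 : n163372 = n157980 := (((D157980).symm.trans (sb E96811 F324067))).symm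
theorem E96814 : n180444 = n112613 := ((((iv1 F334379)).symm.trans (sb E96812 (iv1 F280840)))).symm
theorem F336082 : act 1 n61105 = n75246 := (sb E96812 (iv0 D157979))
theorem F336083 : act 2 n157980 = n78508 := (sb E96813 (iv2 D163372))
theorem F336084 : act 3 n157980 = n164068 := (sb E96813 (iv3 F258555))
theorem F336085 : act 4 n157980 = n124244 := (sb E96813 F301304)
theorem F336086 : act 5 n157980 = n130131 := (sb E96813 F334647)
theorem F336087 : act 6 n157980 = n112564 := (sb E96813 (iv6 F334727))
theorem F336088 : act 7 n157980 = n130130 := (sb E96813 (iv7 F324071))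
theorem F336089 : act 0 n112613 = n157980 := (sb E96814 (iv1 F280839))
theorem F336090 : act 2 n112613 = n130820 := (sb E96814 (iv2 F330885))
theorem F336091 : act 5 n112613 = n130809 := (sb E96814 (iv5 F334618))
theorem F336092 : act 6 n112613 = n157966 := (sb E96814 F280837)
theorem F336093 : act 7 n112613 = n86178 := (sb E96814 (iv7 D180444))
theorem F336094 : act 4 n185795 = n130163 := d16_0 (iv5 F336074) (iv4 D107370) (iv5 D49598) (iv4 F78110) (iv5 F336079) F139606 (iv5 F135578) D185881 F288352
theorem E96815 : n185889 = n130161 := ((c10_4 F288374 F336094 (iv6 D130163) D130161)).symm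
theorem F336095 : act 0 n130161 = n185784 := (sb E96815 (iv1 F288376))
theorem F336096 : act 1 n130161 = n185783 := (sb E96815 F288377)
theorem F336097 : act 2 n130161 = n185785 := (sb E96815 F288372)
theorem F336098 : act 5 n130161 = n94332 := (sb E96815 F288373)
theorem F336099 : act 6 n130161 = n185795 := (sb E96815 F288374)
theorem F336100 : act 7 n130161 = n88535 := (sb E96815 (iv7 D185889))
theorem F336101 : act 4 n185880 = n138118 := d20_2 (iv4 F336094) (iv1 F288348) (iv3 D138118) (iv1 F203836) F203833 (iv4 F323653) F48018 D31027 D66469 (iv1 F336081)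
theorem F336102 : act 7 n138118 = n136714 := d11_2 (iv7 F288349) F336101 F288115
theorem F336103 : act 5 n138118 = n145333 := d18_4 (iv1 F336081) (iv4 F336094) (iv1 F288348) F336101 (iv4 D145333) F165023 (iv4 F219910) F219912 F322267
theorem E96816 : n135445 = n64894 := (c6_3 F336103 F228380 F323663 D138118)
theorem E96817 : n127029 = n126670 := ((((iv1 F203836)).symm.trans (sb E96816 F327367))).symm
theorem E96819 : n138117 = n127031 := ((D138117).symm.trans (sb E96816 F327369))
theorem E96820 : n138119 = n136013 := ((D138119).symm.trans (sb E96816 F327370))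
theorem E96821 : n138120 = n126699 := ((D138120).symm.trans (sb E96816 (iv5 F323663)))
theorem E96822 : n138121 = n63664 := ((D138121).symm.trans (sb E96816 (iv6 D135445)))
theorem E96823 : n138122 = n64257 := ((D138122).symm.trans (sb E96816 F327371))
theorem E96824 : n64895 = n59611 := (((iv1 F203835)).symm.trans (sb E96817 (iv1 D127029)))
theorem F336104 : act 2 n127031 = n64894 := (sb E96819 (iv2 D138117))
theorem F336105 : act 4 n136013 = n64894 := (sb E96820 (iv4 D138119))
theorem F336106 : act 5 n126699 = n64894 := (sb E96821 (iv5 D138120))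
theorem F336107 : act 6 n63664 = n64894 := (sb E96822 (iv6 D138121))
theorem F336108 : act 7 n64257 = n64894 := (sb E96823 (iv7 D138122))
theorem F336109 : act 0 n59611 = n30497 := (sb E96824 (iv1 D64895))
theorem F336110 : act 1 n59611 = n126670 := (sb E96824 F203835)
theorem F336111 : act 7 n145333 = n107354 := d13_2 (iv7 F336102) F336103 F336045
theorem F336112 : act 7 n136701 = n126699 := d8_2 F336111 (iv3 F219841) (iv3 F228380)
theorem E96829 : n107322 = n68140 := (c11_3 F336111 (iv4 D107354) (iv7 F165384) D145333)
theorem E96830 : n145331 = n49589 := (((iv2 F228377)).symm.trans (sb E96829 F165383))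
theorem E96831 : n49596 = n49586 := ((F228365).symm.trans (sb E96829 (iv5 D107322)))
theorem E96832 : n145327 = n49594 := ((F228364).symm.trans (sb E96829 F165384))
theorem F336113 : act 2 n49589 = n68140 := (sb E96830 F228377)
theorem E96833 : n107360 = n24189 := ((((iv5 D49589)).symm.trans (sb E96830 F228378))).symm
theorem E96834 : n107340 = n68139 := ((D107340).symm.trans (sb E96830 (iv7 D145331)))
theorem E96835 : n107318 = n24193 := ((D107318).symm.trans (sb E96831 (iv1 F78335)))
theorem E96836 : n107319 = n24191 := ((D107319).symm.trans (sb E96831 (iv0 D49596)))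
theorem E96837 : n107361 = n107320 := (((D107320).symm.trans (sb E96831 D107361))).symm
theorem E96838 : n107362 = n107321 := (((D107321).symm.trans (sb E96831 D107362))).symm
theorem F336114 : act 5 n49586 = n68140 := (sb E96831 (iv5 F228365))
theorem F336115 : act 7 n49594 = n68140 := (sb E96832 (iv7 F228364))
theorem E96841 : n49597 = n49591 := (((D49591).symm.trans (sb E96833 (iv7 F165413)))).symm
theorem F336116 : act 2 n68139 = n49594 := (sb E96834 F165396)
theorem F336117 : act 7 n68139 = n49589 := (sb E96834 (iv7 D107340))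
theorem F336118 : act 1 n24193 = n49586 := (sb E96835 (iv0 D107318))
theorem F336119 : act 0 n24191 = n49586 := (sb E96836 (iv1 D107319))
theorem F336120 : act 1 n107320 = n66933 := (sb E96837 (iv0 F204480))
theorem F336121 : act 5 n107320 = n145332 := (sb E96837 (iv5 F228379))
theorem F336122 : act 0 n107321 = n66520 := (sb E96838 F204479)
theorem F336123 : act 3 n107321 = n66505 := (sb E96838 (iv3 F165414))
theorem F336124 : act 0 n49591 = n24191 := (sb E96841 (iv1 D49597))
theorem F336125 : act 1 n49591 = n24193 := (sb E96841 F78336)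
theorem E96842 : n107366 = n107329 := ((((iv3 F165388)).symm.trans (sb E96841 D107366))).symm
theorem E96843 : n107367 = n107335 := ((((iv4 F165393)).symm.trans (sb E96841 D107367))).symm
theorem F336126 : act 5 n49591 = n68139 := (sb E96841 (iv5 F219918))
theorem F336127 : act 0 n107329 = n111019 := (sb E96842 F181496)
theorem F336128 : act 1 n107329 = n137780 := (sb E96842 F221028)
theorem E96845 : n137322 = n110736 := (((iv4 F220491)).symm.trans (sb E96842 F171406))
theorem F336129 : act 5 n107329 = n145328 := (sb E96842 (iv5 F228373))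
theorem F336130 : act 1 n107335 = n66520 := (sb E96843 (iv0 F181446))
theorem F336131 : act 3 n107335 = n137655 := (sb E96843 F220826)
theorem F336132 : act 2 n110736 = n64552 := (sb E96845 (iv2 D137322))
theorem F336133 : act 4 n110736 = n107329 := (sb E96845 F220491)
theorem F336134 : act 7 n110736 = n64553 := (sb E96845 (iv7 F220490))
theorem F336135 : act 2 n107354 = n145329 := d15_3 (iv0 F228527) (iv0 F228525) F336111
theorem F336136 : act 7 n137328 = n136856 := d13_2 F336134 D137328 (iv5 F220821)
theorem E96846 : n137326 = n110735 := (c15_4 (iv0 D110735) D110736 F336134 (iv2 F220506))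
theorem F336137 : act 2 n110735 = n64553 := (sb E96846 F220506)
theorem F336138 : act 4 n110735 = n107326 := (sb E96846 F220507)
theorem F336139 : act 7 n110735 = n64552 := (sb E96846 (iv7 D137326))
theorem E96847 : n137324 = n134187 := (c13_2 F336139 D137324 (iv7 D134187) (iv5 F330978))
theorem F336140 : act 0 n134187 = n136853 := (sb E96847 F220504)
theorem F336141 : act 1 n134187 = n64580 := (sb E96847 F220505)
theorem F336142 : act 5 n134187 = n64552 := (sb E96847 (iv5 D137324))
theorem F336143 : act 2 n136856 = n134187 := d2_3 F336142 (iv2 F336132) F220821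
theorem E96848 : n137328 = n134179 := ((c4_4 F336136 F336143 (iv7 D134187) (iv2 F216222))).symm
theorem F336144 : act 0 n134179 = n64580 := (sb E96848 F220511)
theorem F336145 : act 1 n134179 = n136853 := (sb E96848 F220592)
theorem F336146 : act 5 n134179 = n64553 := (sb E96848 (iv5 D137328))
theorem F336147 : act 7 n134179 = n136856 := (sb E96848 F336136)
theorem F336148 : act 5 n107326 = n145366 := d18_4 (iv1 D51053) (iv4 F80499) D110735 F336138 F228408 (iv0 D115938) F84350 D107427 F220819
theorem F336149 : act 1 n107326 = n111019 := d18_8 D142801 F225702 (iv1 D110898) F80658 D51238 (iv4 F100501) F171405 F336138 F172173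
theorem F336150 : act 0 n107326 = n137780 := d20_1 F336138 (iv4 D137780) (iv3 D64756) (iv1 D30460) (iv3 D14463) D14464 (iv1 F37124) D24833 D51050 D110735
theorem F336151 : act 0 n136850 = n107496 := d17_0 F166901 D145366 (iv5 F336148) (iv4 F336138) F330978 (iv0 F330976) (iv5 D64336) D64334 D136850
theorem E96849 : n128821 = n113853 := (c19_7 D145366 (iv5 F336148) (iv4 F336138) F330977 D134197 F217237 F217235 (iv3 D113853) (iv1 F177043) F177041 (iv4 D54186) (iv3 F85512) D117614 (iv5 F222933) F222934 F221151 F204475 (iv5 D65693) F50034 D68158)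
theorem F336152 : act 2 n113853 = n132572 := (sb E96849 (iv2 F212800))
theorem F336153 : act 4 n113853 = n135016 := (sb E96849 (iv4 F217235))
theorem F336154 : act 5 n113853 = n134823 := (sb E96849 (iv5 F216964))
theorem F336155 : act 6 n113853 = n60583 := (sb E96849 (iv6 D128821))
theorem E96850 : n126468 = n113856 := (c7_2 F336155 F203332 (iv6 D113856) D113853)
theorem F336156 : act 0 n113856 = n59336 := (sb E96850 (iv1 D126468))
theorem F336157 : act 1 n113856 = n106581 := (sb E96850 F203329)
theorem F336158 : act 2 n113856 = n106580 := (sb E96850 (iv2 F203331))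
theorem F336159 : act 3 n113856 = n60583 := (sb E96850 (iv3 F203332))
theorem F336160 : act 4 n113856 = n63739 := (sb E96850 (iv4 F203333))
theorem F336161 : act 5 n113856 = n138211 := (sb E96850 (iv5 F221378))
theorem F336162 : act 7 n113856 = n106579 := (sb E96850 F203330)
theorem F336163 : act 6 n106580 = n113823 := d3_2 D113856 F336158 F177104
theorem F336164 : act 3 n113823 = n132427 := d7_1 F336163 F212494 F202588
theorem F336165 : act 5 n132425 = n113823 := d21_2 (iv5 F170851) F219461 (iv6 F336163) (iv1 D106580) (iv6 D49251) (iv5 F76582) (iv1 F76584) F49174 (iv6 F327025) (iv1 F327559)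
theorem F336166 : act 0 n138211 = n137435 := d21_4 F247354 F221375 (iv5 D138210) D138211 (iv6 D137435) F328370 D113823 (iv5 F336165) (iv6 F227570) (iv1 F247357)
theorem E96851 : n137438 = n135236 := (c18_3 F336166 F220640 D137438 (iv4 D135236) (iv5 D63550) D63549 F100304 (iv4 F93600) (iv0 F336156) F336161)
theorem F336167 : act 1 n135236 = n64597 := (sb E96851 (iv0 D137438))
theorem E96852 : n137439 = n135240 := (c15_2 F336167 D137439 (iv7 F218015) F218014)
theorem F336168 : act 0 n135240 = n64597 := (sb E96852 (iv1 D137439))
theorem F336169 : act 4 n132427 = n148771 := d5_2 (iv4 F177101) F336164 (iv3 D148771) (iv4 D69724) (iv3 F103900)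
theorem F336170 : act 3 n105584 = n139825 := d19_7 F50462 D67855 (iv4 F177101) F336164 F212496 (iv5 D105585) D105584 F223029 (iv5 D66311) (iv4 D30975) (iv3 D14660) (iv1 F11266) D7015 F11273 (iv3 F11499) D15076 (iv5 F50467) (iv4 F56594) F56593
theorem F336171 : act 3 n105634 = n128496 := d0_2 F336170 F223027 F320125 F102333 (iv2 F162191)
theorem F336172 : act 4 n139825 = n126863 := d5_2 D105584 F336170 (iv3 D126863) (iv4 D59531) (iv3 F101892)
theorem F336173 : act 5 n139824 = n105584 := d6_0 F336170 (iv5 D139825) D139824
theorem F336174 : act 3 n105635 = n115435 := d8_3 F179738 F336170 F223028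
theorem F336175 : act 3 n105500 = n105581 := d20_9 F76896 D48816 D105584 F336170 F223029 F102219 F76913 D64071 (iv4 F161962) (iv1 D105581)
theorem F336176 : act 2 n141302 = n105562 := d0_3 F336175 F163646 D141302 F162140 (iv2 F161961)
theorem E96853 : n136284 = n111008 := ((c5_5 (iv4 F161962) F336175 (iv4 F163645) F176207 (iv4 F176208) (iv3 D136284))).symm
theorem F336177 : act 3 n111008 = n64071 := (sb E96853 (iv3 D136284))
theorem F336178 : act 5 n111008 = n111967 := (sb E96853 F219345)
theorem E96854 : n125661 = n105659 := (((F172131).symm.trans (sb E96853 F219346))).symm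
theorem F336179 : act 3 n105659 = n58842 := (sb E96854 F202136)
theorem F336180 : act 5 n105659 = n58841 := (sb E96854 (iv5 D125661))
theorem F336181 : act 5 n105581 = n105499 := d6_2 D105500 F336175 (iv3 D105499)
theorem F336182 : act 7 n105581 = n105543 := d8_2 (iv7 F161963) F336175 F162072
theorem F336183 : act 4 n136105 = n112020 := d20_8 F76913 D64071 (iv4 F161962) F336175 (iv1 D105581) (iv3 F162179) F162180 D136105 (iv3 D112020) F81579
theorem F336184 : act 5 n127351 = n105258 := d19_17 F217254 (iv5 D115439) F163645 (iv3 F336175) F161964 (iv5 D62943) (iv4 D29775) F23634 F19320 D7001 (iv4 F11493) F18530 (iv1 F19808) (iv5 F36889) (iv4 F45870) D59819 D127351 F329140 (iv3 F217251)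
theorem E96855 : n141343 = n133994 := ((c20_6 (iv4 F163618) (iv1 F163621) F163645 (iv3 F336175) F161964 (iv3 F215918) F224372 (iv1 F320119) D66431 F102333 F163623)).symm
theorem F336185 : act 0 n133994 = n154725 := (sb E96855 F319613)
theorem F336186 : act 2 n133994 = n105693 := (sb E96855 F224371)
theorem F336187 : act 4 n133994 = n66307 := (sb E96855 F224372)
theorem F336188 : act 6 n133994 = n66305 := (sb E96855 (iv6 D141343))
theorem E96856 : n136311 = n133995 := (c7_2 F336188 (iv3 F219373) (iv6 D133995) (iv3 F215918))
theorem F336189 : act 1 n133995 = n64083 := (sb E96856 (iv0 D136311))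
theorem F336190 : act 3 n133995 = n66305 := (sb E96856 F219373)
theorem F336191 : act 7 n133995 = n105708 := (sb E96856 (iv7 F219374))
theorem F336192 : act 6 n141342 = n111205 := d12_2 F336188 D141342 (iv5 D111205) (iv6 F98194) D133994
theorem F336193 : act 3 n111206 = n141342 := d7_3 F336192 F172463 D111206
theorem E96857 : n156055 = n115356 := ((c5_6 F245193 F336193 F224370 F165984 (iv4 F84058) D115356)).symm
theorem F336194 : act 2 n115356 = n137057 := (sb E96857 F245192)
theorem F336195 : act 4 n115356 = n111206 := (sb E96857 F245193)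
theorem F336196 : act 6 n115356 = n74230 := (sb E96857 (iv6 D156055))
theorem F336197 : act 0 n144120 = n111206 := d20_4 (iv4 F79969) (iv1 F79987) (iv4 F162184) (iv3 F226833) F336193 F224370 F228556 (iv4 D144427) F103713 (iv1 F78307)
theorem E96858 : n156054 = n115357 := (c7_2 F336196 D156054 (iv6 D115357) D115356)
theorem F336198 : act 3 n115357 = n74230 := (sb E96858 (iv3 D156054))
theorem F336199 : act 5 n115357 = n74259 := (sb E96858 F245190)
theorem F336200 : act 7 n115357 = n112966 := (sb E96858 F245191)
theorem E96859 : n156116 = n115444 := (c12_4 F336196 F111084 D74260 D156116 (iv6 D115444) (iv5 F179635))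
theorem F336201 : act 2 n115444 = n137058 := (sb E96859 F245319)
theorem F336202 : act 5 n115444 = n74260 := (sb E96859 (iv5 D156116))
theorem E96860 : n156115 = n115445 := (((iv7 F245318)).symm.trans (sb E96859 F245320))
theorem F336203 : act 3 n115445 = n74260 := (sb E96860 F245316)
theorem F336204 : act 4 n115445 = n112995 := (sb E96860 F245317)
theorem F336205 : act 6 n115445 = n74259 := (sb E96860 (iv6 D156115))
theorem F336206 : act 7 n115445 = n115444 := (sb E96860 F245318)
theorem E96861 : n137066 = n53259 := (c21_4 (iv5 D34064) (iv1 F53430) (iv5 F100350) D137066 (iv1 D53259) D53262 (iv5 F330553) (iv1 D115442) (iv5 F179635) F336196 (iv1 F111086))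
theorem E96862 : n137060 = n115239 := ((((iv2 F218820)).symm.trans (sb E96861 F220232))).symm
theorem E96863 : n115458 = n64431 := ((D115458).symm.trans (sb E96861 (iv6 D137066)))
theorem F336207 : act 6 n115239 = n64427 := (sb E96862 (iv6 D137060))
theorem F336208 : act 6 n64431 = n53259 := (sb E96863 (iv6 D115458))
theorem F336209 : act 6 n115455 = n137065 := d7_2 F336208 D115455 (iv3 D137065)
theorem F336210 : act 6 n115456 = n108095 := d10_2 F336208 D115456 F167167
theorem F336211 : act 6 n115457 = n156053 := d12_2 F336208 D115457 (iv5 D156053) (iv6 D74229) (iv5 F100350)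
theorem E96864 : n137800 = n126769 := ((c7_2 F336210 (iv3 F204005) (iv6 D137800) (iv3 F179761))).symm
theorem E96865 : n143081 = n139097 := (((F222283).symm.trans (sb E96864 (iv4 F225932)))).symm
theorem F336212 : act 6 n126769 = n64763 := (sb E96864 (iv6 D137800))
theorem F336213 : act 6 n139097 = n67051 := (sb E96865 (iv6 D143081))
theorem F336214 : act 6 n105574 = n108090 := d3_2 F336212 (iv2 F218966) (iv2 F204016)
theorem E96866 : n178789 = n126833 := (c7_3 F336207 F320574 D178789 F204078)
theorem F336215 : act 6 n126833 = n85197 := (sb E96866 (iv6 D178789))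
theorem F336216 : act 7 n137064 = n115453 := d14_4 (iv7 F218821) F336207 (iv7 F110961) D137064 (iv6 D115453)
theorem F336217 : act 5 n115443 = n137057 := d21_8 (iv5 F110977) (iv1 F110962) (iv5 F110967) (iv6 F336207) (iv1 F179470) D115460 F330555 (iv1 F206778) (iv6 D137057) (iv1 F110979)
theorem F336218 : act 6 n137058 = n115443 := d12_0 F336217 (iv6 D137057) (iv5 D64425) D64426 D137058
theorem E96867 : n128568 = n112019 := ((c16_5 F182822 F336217 F220223 (iv5 F219383) F219382 F206803 (iv4 D128576) (iv5 D60473) (iv7 F85003) D116963)).symm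
theorem F336219 : act 3 n112019 = n60470 := (sb E96867 (iv3 D128568))
theorem F336220 : act 5 n112019 = n128576 := (sb E96867 F206803)
theorem F336221 : act 6 n128576 = n112238 := d12_2 D112019 F336220 (iv5 D112238) (iv6 D51769) (iv5 F81574)
theorem F336222 : act 4 n112238 = n128577 := d10_1 F336221 (iv6 D128577) D128576
theorem F336223 : act 4 n112994 = n112104 := d16_2 F336222 F206805 (iv5 D112104) (iv4 F81959) F81960 F81959 D112104 F174298 (iv2 F174575)
theorem F336224 : act 6 n112104 = n112993 := d10_2 D112994 F336223 (iv4 D112993)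
theorem F336225 : act 5 n112993 = n111845 := d12_1 F336224 (iv6 D111845) F81399 D51698 D112104
theorem F336226 : act 3 n116454 = n109343 := d0_4 F336219 (iv2 F179957) F179973 F181711 (iv2 F174124)
theorem E96868 : n128570 = n112018 := (c7_3 D112019 F336219 D128570 (iv3 D112018))
theorem F336227 : act 6 n112018 = n60470 := (sb E96868 (iv6 D128570))
theorem F336228 : act 0 n136315 = n109267 := d20_7 (iv4 D28311) (iv1 F22662) D13691 D28719 D60470 (iv3 F336219) (iv4 F219382) F169246 (iv3 D67449) F49603
theorem E96869 : n115628 = n115617 := ((c10_2 F336227 F179958 (iv6 D115628) F174123)).symm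
theorem F336229 : act 6 n115617 = n53330 := (sb E96869 (iv6 D115628))
theorem E96870 : n115620 = n115613 := ((c3_2 F336229 (iv2 F179946) (iv6 D115620) D115617)).symm
theorem F336230 : act 3 n115613 = n53331 := (sb E96870 F179953)
theorem F336231 : act 6 n115613 = n53328 := (sb E96870 (iv6 D115620))
theorem E96871 : n115632 = n115612 := (c6_3 D115613 F336230 D115632 (iv3 D115612))
theorem F336232 : act 5 n115612 = n53331 := (sb E96871 (iv5 D115632))
theorem E96872 : n115639 = n115633 := ((c8_3 (iv7 F179947) F336230 D115633 F180002)).symm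
theorem F336233 : act 3 n115633 = n53335 := (sb E96872 F180002)
theorem F336234 : act 5 n115633 = n53333 := (sb E96872 (iv5 D115639))
theorem E96873 : n141532 = n115625 := (c20_2 F330607 D141532 F179978 (iv3 F336230) (iv1 F181963) F179605 F84043 F82253 (iv4 F83974) (iv3 F179477) (iv1 F330606))
theorem F336235 : act 1 n115625 = n66389 := (sb E96873 (iv0 D141532))
theorem F336236 : act 7 n141533 = n105688 := d15_2 F336235 D141533 (iv2 F179977)
theorem E96874 : n116604 = n115630 := ((c20_2 F179978 D115630 (iv4 D116604) (iv3 F322263) F318370 D141766 (iv4 F224799) (iv1 F224577) (iv4 D66390) D66389 (iv1 F336235))).symm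
theorem F336237 : act 2 n115630 = n66458 := (sb E96874 F321239)
theorem F336238 : act 4 n115630 = n53731 := (sb E96874 (iv4 D116604))
theorem F336239 : act 6 n117681 = n115630 := d10_0 F336238 (iv6 F320933) D117681
theorem E96875 : n115631 = n115490 := (c15_2 (iv0 D115630) D115631 F179788 (iv2 F336237))
theorem F336240 : act 0 n115490 = n53331 := (sb E96875 (iv1 D115631))
theorem F336241 : act 0 n115612 = n178670 := d17_2 F336240 (iv5 F336232) (iv5 D178670) F130439 D85104 (iv0 F316806) (iv5 D53733) (iv0 F319196) (iv4 F179787)
theorem F336242 : act 4 n178670 = n115431 := d20_0 (iv1 F179728) (iv4 F179472) F179471 F165173 F165172 F102801 F102830 (iv4 F173696) D115612 F336241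
theorem F336243 : act 1 n115637 = n178670 := d15_0 (iv0 F336241) F179945 D115637
theorem F336244 : act 5 n152739 = n115241 := d18_4 D115630 F336238 (iv1 F320601) (iv4 F239938) F179472 F179728 (iv4 F336242) (iv0 F336241) F336232
theorem F336245 : act 2 n115242 = n152739 := d2_3 F336244 (iv2 D115241) D115242
theorem F336246 : act 3 n115502 = n152739 := d6_3 F336244 F179471 D115502
theorem F336247 : act 7 n115459 = n152739 := d13_0 F336244 F179473 D115459
theorem E96876 : n115452 = n115348 := (c17_8 (iv1 D85103) D85104 F131038 F131175 (iv4 F239938) F336244 F179474 D115452 (iv0 D115348) F321477)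
theorem F336248 : act 5 n115348 = n53258 := (sb E96876 (iv5 D115452))
theorem F336249 : act 4 n115348 = n156515 := d19_2 D53258 (iv5 F336248) F246109 F320778 (iv5 D48919) (iv4 D23853) F18140 F7634 (iv5 D3232) (iv4 D1432) F5058 D1430 F2556 (iv4 F4880) (iv3 F8535) D11921 (iv5 F19655) D12264 D25824
theorem F336250 : act 6 n115348 = n156514 := d21_9 D178650 (iv1 F317693) F245375 (iv6 F323215) (iv1 D53721) (iv6 F327061) (iv5 D53261) D53258 (iv5 F336248) (iv1 F314994)
theorem F336251 : act 5 n178806 = n115453 := d12_3 F336250 (iv5 F314996) D178806 (iv6 D115453) (iv5 F336248)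
theorem F336252 : act 1 n115462 = n152739 := d15_1 D115462 (iv7 F336247) F179762
theorem F336253 : act 6 n152737 = n115502 := d7_0 F336246 (iv6 D152739) D152737
theorem F336254 : act 2 n115507 = n152737 := d3_3 F336253 F179798 D115507
theorem F336255 : act 3 n152320 = n115244 := d0_4 (iv3 F179800) F336254 (iv3 D152737) (iv2 F239471) F179481
theorem F336256 : act 4 n110033 = n119197 := d5_4 D152320 F336255 F179482 (iv3 F170164) F187567
theorem F336257 : act 6 n115242 = n152320 := d7_0 F336255 (iv6 D115244) (iv3 F179477)
theorem F336258 : act 7 n115244 = n152717 := d8_2 (iv7 F239472) F336255 (iv3 D152717)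
theorem F336259 : act 2 n152717 = n115515 := d4_1 F336258 (iv7 D115515) (iv2 F179481)
theorem F336260 : act 4 n152717 = n126324 := d11_1 F336258 (iv7 D126324) (iv4 F179482)
theorem F336261 : act 6 n152717 = n115476 := d14_1 F336258 (iv7 D115476) (iv6 D53265) (iv7 F83973) D115244
theorem F336262 : act 1 n115513 = n152717 := d15_1 D115513 (iv7 F336258) F179481
theorem F336263 : act 0 n119539 = n152717 := d20_7 (iv4 F324663) D66671 (iv4 F323254) F316633 (iv1 F126923) (iv3 F86999) (iv4 F188512) F336260 F326827 F323273
theorem F336264 : act 3 n126648 = n119296 := d20_9 (iv4 F188512) F336263 F336260 F326827 F323273 F323259 (iv4 D59558) (iv1 F93799) (iv4 F203797) (iv1 F187783)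
theorem E96877 : n119539 = n115512 := (c15_1 (iv0 F336263) (iv0 D115512) D115515 (iv2 F336259))
theorem F336265 : act 0 n115512 = n152717 := (sb E96877 F336263)
theorem F336266 : act 4 n115512 = n54991 := (sb E96877 F188512)
theorem F336267 : act 7 n115512 = n54990 := (sb E96877 (iv7 D119539))
theorem E96878 : n119298 = n115513 := (c15_4 F336262 (iv0 F336265) F336267 (iv2 F187780))
theorem F336268 : act 2 n115513 = n54990 := (sb E96878 F187780)
theorem F336269 : act 4 n115513 = n54898 := (sb E96878 (iv4 D119298))
theorem F336270 : act 4 n119296 = n115598 := d20_2 F336269 D119296 F179907 F166206 D66738 F102613 F322303 D72050 D152717 (iv1 F336262)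
theorem F336271 : act 2 n115598 = n119527 := d1_1 F336270 (iv4 D119527) (iv2 F233769)
theorem E96879 : n115590 = n54989 := (c11_4 (iv7 F233770) F336270 (iv7 D115598) (iv4 F179904))
theorem E96880 : n119531 = n59421 := ((D119531).symm.trans (sb E96879 F179903))
theorem E96881 : n119532 = n53319 := ((D119532).symm.trans (sb E96879 F179904))
theorem E96882 : n119534 = n53317 := ((D119534).symm.trans (sb E96879 (iv6 D115590)))
theorem F336272 : act 3 n59421 = n54989 := (sb E96880 (iv3 D119531))
theorem E96883 : n178425 = n115595 := (((D115595).symm.trans (sb E96881 (iv1 F278016)))).symm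
theorem F336273 : act 4 n53319 = n54989 := (sb E96881 (iv4 D119532))
theorem F336274 : act 6 n53317 = n54989 := (sb E96882 (iv6 D119534))
theorem F336275 : act 4 n115595 = n84898 := (sb E96883 (iv4 D178425))
theorem F336276 : act 6 n119297 = n115584 := d3_2 F336274 (iv2 F233766) F179889
theorem F336277 : act 6 n133514 = n115589 := d12_4 F336274 D119533 F188510 (iv5 F315445) (iv5 D115589)
theorem F336278 : act 6 n119296 = n107579 := d14_3 (iv7 F84162) F336274 (iv7 F233770) F165968 (iv6 F330507)
theorem F336279 : act 6 n119482 = n126631 := d21_9 D126733 (iv1 F220099) (iv5 D115589) F336274 (iv1 D54989) (iv6 F86993) (iv5 D54976) D54974 D119482 (iv1 F203718)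
theorem F336280 : act 0 n119506 = n126734 := d21_4 (iv5 D26591) D26589 D54981 D119506 (iv6 D126734) D126733 (iv1 F220099) (iv5 D115589) F336274 (iv1 D54989)
theorem F336281 : act 2 n126633 = n119482 := d3_3 F336279 (iv2 D126631) D126633
theorem F336282 : act 3 n126794 = n119482 := d7_3 F336279 F203714 D126794
theorem F336283 : act 5 n119480 = n126794 := d6_0 F336282 (iv5 D119482) D119480
theorem F336284 : act 2 n126800 = n119480 := d2_3 F336283 F204048 D126800
theorem F336285 : act 4 n141378 = n119480 := d9_15 F336283 F331983 F155928 (iv4 F305739) (iv5 F109542) D124667 F331982 F206280 F331979 (iv4 D88063) (iv5 D41111) (iv4 F60972) (iv5 F304233) D119832 (iv5 F334227)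
theorem F336286 : act 7 n155165 = n119480 := d13_0 F336283 F334193 F331980
theorem F336287 : act 0 n152239 = n119480 := d17_0 F336283 (iv1 F334192) F325014 F315032 (iv5 D60267) (iv0 F190667) D128158 F256948 F317078
theorem F336288 : act 1 n112199 = n119480 := d18_8 (iv1 F334192) F325013 F306641 D104137 F307371 (iv4 D162721) F314797 (iv4 F325793) F336283
theorem F336289 : act 4 n141060 = n104133 := d17_4 F334191 (iv5 F336283) (iv1 F336288) (iv5 F224068) (iv5 D104133) F75727 (iv5 F134902) (iv0 F306637) D124695
theorem F336290 : act 5 n107601 = n178958 := d21_6 (iv5 F336283) (iv1 F336288) (iv5 F224068) F334595 (iv1 F231490) (iv6 F334601) (iv1 F278845) F250351 (iv6 F325323) F334191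
theorem F336291 : act 2 n178958 = n179181 := d2_1 F336290 (iv5 D179181) (iv2 F321606)
theorem F336292 : act 3 n178958 = n107602 := d6_1 F336290 (iv5 D107602) D107601
theorem F336293 : act 7 n178958 = n107691 := d13_2 (iv7 F166014) F336290 (iv5 D107691)
theorem F336294 : act 2 n107691 = n178959 := d15_3 F278850 F278845 F336293
theorem F336295 : act 7 n179181 = n178959 := d4_2 (iv7 F336293) F336291 (iv2 F336294)
theorem F336296 : act 5 n178959 = n107690 := d13_1 F336295 F321605 D179181
theorem E96884 : n155704 = n107690 := ((c21_9 F53326 (iv1 F329904) (iv5 F294116) (iv6 F135055) (iv1 F308467) F325323 (iv5 F250351) (iv1 F278850) F336296 (iv6 D155704) (iv1 D74067))).symm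
theorem F336297 : act 6 n107690 = n74067 := (sb E96884 (iv6 D155704))
theorem F336298 : act 6 n155701 = n156193 := d7_2 F336297 D155701 F245453
theorem F336299 : act 7 n185202 = n179182 := d14_4 (iv7 F321605) F336297 (iv7 F329897) (iv6 F287529) (iv6 D179182)
theorem E96885 : n125028 = n107690 := (c21_5 F231458 (iv1 F333963) D163002 F313849 (iv1 F200847) F336297 (iv5 F329903) F328221 F53329 D74036 (iv1 F333977))
theorem F336300 : act 0 n107690 = n58455 := (sb E96885 (iv1 D125028))
theorem F336301 : act 1 n107690 = n85509 := (sb E96885 F200847)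
theorem F336302 : act 0 n132652 = n126625 := d21_7 (iv5 F294886) (iv1 F158470) F329903 (iv6 F336297) F336300 D125030 F322390 (iv5 D126625) F325776 (iv1 F329035)
theorem F336303 : act 5 n184346 = n130366 := d21_6 F322390 F336302 (iv5 D126625) F325776 (iv1 F329035) D184346 (iv1 D130366) (iv5 F329421) (iv6 D126888) (iv1 F321555)
theorem E96886 : n184346 = n128116 := ((c17_7 (iv1 F206214) (iv5 D128126) F319835 (iv5 F320171) F305018 D119497 F306336 F336303 F215594 F311948)).symm
theorem F336304 : act 2 n128116 = n120005 := (sb E96886 (iv2 F329043))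
theorem F336305 : act 4 n128116 = n87923 := (sb E96886 F286282)
theorem F336306 : act 5 n128116 = n130366 := (sb E96886 F336303)
theorem F336307 : act 6 n128116 = n87922 := (sb E96886 (iv6 D184346))
theorem F336308 : act 3 n155658 = n128116 := d7_3 F336307 (iv3 F329370) D155658
theorem E96887 : n128107 = n120606 := ((c21_1 (iv5 F192181) (iv1 D128107) F329664 (iv6 F329665) D128116 F336307 (iv5 F294886) (iv1 F158470) F329903 (iv6 F336297) F336300)).symm
theorem F336309 : act 0 n120606 = n60204 := (sb E96887 (iv1 D128107))
theorem E96888 : n155699 = n154602 := ((c21_5 (iv5 D119497) F304313 (iv5 F333397) F334048 (iv1 F242690) (iv6 D155699) (iv5 F329899) D103220 F294886 (iv6 F336307) (iv1 F306336))).symm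
theorem F336310 : act 6 n154602 = n74066 := (sb E96888 (iv6 D155699))
theorem E96889 : n185202 = n147745 := (c3_3 F336310 (iv2 F329896) (iv6 F287529) (iv2 F242687))
theorem F336311 : act 4 n147745 = n88257 := (sb E96889 (iv4 D185202))
theorem F336312 : act 6 n147745 = n93435 := (sb E96889 F287529)
theorem E96890 : n179182 = n154599 := ((((iv7 F242677)).symm.trans (sb E96889 F336299))).symm
theorem F336313 : act 6 n154599 = n85508 := (sb E96890 (iv6 D179182))
theorem F336314 : act 4 n93347 = n154602 := d10_3 F336310 (iv4 F329898) D93347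
theorem F336315 : act 5 n103224 = n117393 := d12_3 F336310 (iv5 F329899) D103224 (iv6 F190181) D154602
theorem E96891 : n126792 = n69233 := (c21_6 (iv5 F293906) (iv1 F158499) (iv5 F294744) F334194 (iv1 F203703) D126792 D147776 (iv1 F231518) D154602 F336310 F329794)
theorem E96892 : n147775 = n139487 := ((D147775).symm.trans (sb E96891 (iv4 F222676)))
theorem E96893 : n147777 = n59501 := ((D147777).symm.trans (sb E96891 (iv6 D126792)))
theorem F336316 : act 4 n139487 = n69233 := (sb E96892 (iv4 D147775))
theorem F336317 : act 5 n139487 = n73159 := (sb E96892 F231515)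
theorem F336318 : act 7 n139487 = n88183 := (sb E96892 F310895)
theorem F336319 : act 6 n59501 = n69233 := (sb E96893 (iv6 D147777))
theorem F336320 : act 6 n147773 = n126622 := d3_2 F336319 (iv2 F231514) (iv2 F203695)
theorem E96894 : n147774 = n117908 := (c7_2 F336319 D147774 F319406 (iv3 F323539))
theorem F336321 : act 3 n117908 = n69233 := (sb E96894 (iv3 D147774))
theorem F336322 : act 6 n147712 = n126636 := d21_9 D126887 F325314 F324039 F336319 (iv1 D69233) (iv6 F105505) (iv5 D69219) D69217 D147712 (iv1 F203725)
theorem F336323 : act 0 n147748 = n126888 := d21_4 (iv5 D32194) D32192 D69225 D147748 (iv6 D126888) D126887 F325314 F324039 F336319 (iv1 D69233)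
theorem E96895 : n126883 = n107688 := (c21_4 D59503 D126795 (iv5 F204050) D126883 F321601 (iv6 F336313) (iv5 D154599) (iv1 F231517) (iv5 D147776) (iv6 F336319) (iv1 D59501))
theorem F336324 : act 6 n107688 = n59546 := (sb E96895 (iv6 D126883))
theorem E96896 : n177579 = n147712 := ((c14_4 (iv7 F321604) F336324 F203731 (iv6 F336322) F277027 F313849)).symm
theorem F336325 : act 0 n147712 = n163004 := (sb E96896 (iv1 F277028))
theorem F336326 : act 1 n147712 = n163003 := (sb E96896 F277029)
theorem F336327 : act 2 n147712 = n84589 := (sb E96896 F277025)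
theorem F336328 : act 3 n147712 = n163043 := (sb E96896 F277026)
theorem E96897 : n84587 = n69217 := ((((iv5 D147712)).symm.trans (sb E96896 (iv5 D177579)))).symm
theorem F336329 : act 7 n147712 = n163002 := (sb E96896 F277027)
theorem E96898 : n78382 = n77258 := (((F334032).symm.trans (sb E96897 (iv1 F129759)))).symm
theorem E96899 : n78381 = n32190 := ((((iv0 D69217)).symm.trans (sb E96897 F129757))).symm
theorem E96900 : n147709 = n39068 := ((D147709).symm.trans (sb E96897 (iv2 D84587)))
theorem E96901 : n147710 = n78398 := ((D147710).symm.trans (sb E96897 F129755))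
theorem E96902 : n177578 = n147711 := (((D147711).symm.trans (sb E96897 D177578))).symm
theorem E96903 : n147713 = n79208 := ((D147713).symm.trans (sb E96897 F304995))
theorem E96904 : n147714 = n78383 := ((D147714).symm.trans (sb E96897 F129756))
theorem E96905 : n69218 = n35723 := (((iv1 F334033)).symm.trans (sb E96898 (iv1 D78382)))
theorem E96912 : n162993 = n69207 := ((((iv3 F105500)).symm.trans (sb E96899 D162993))).symm
theorem E96913 : n162994 = n69216 := ((((iv4 F105504)).symm.trans (sb E96899 D162994))).symm
theorem F336330 : act 2 n39068 = n69217 := (sb E96900 (iv2 D147709))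
theorem F336331 : act 3 n78398 = n69217 := (sb E96901 (iv3 D147710))
theorem F336332 : act 0 n147711 = n162983 := (sb E96902 (iv1 F277023))
theorem F336333 : act 1 n147711 = n162982 := (sb E96902 F277024)
theorem F336334 : act 2 n147711 = n84588 := (sb E96902 F277021)
theorem F336335 : act 7 n147711 = n162984 := (sb E96902 F277022)
theorem F336336 : act 6 n79208 = n69217 := (sb E96903 (iv6 D147713))
theorem F336337 : act 7 n78383 = n69217 := (sb E96904 (iv7 D147714))
theorem F336338 : act 0 n35723 = n32190 := (sb E96905 (iv1 D69218))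
theorem F336339 : act 1 n35723 = n77258 := (sb E96905 F334033)
theorem E96920 : n163099 = n147672 := ((((iv4 F231437)).symm.trans (sb E96912 F257419))).symm
theorem E96921 : n163148 = n147705 := (((D147705).symm.trans (sb E96913 F257460))).symm
theorem F336340 : act 0 n147672 = n78417 := (sb E96920 (iv1 D163099))
theorem F336341 : act 4 n147705 = n78429 := (sb E96921 (iv4 D163148))
theorem E96922 : n179181 = n159014 := (c21_1 D179181 (iv1 D159014) F113834 F325324 F329830 (iv6 D59504) D59503 D126795 (iv5 F204050) (iv6 F336324) F321601)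
theorem F336342 : act 2 n159014 = n178958 := (sb E96922 (iv2 F336291))
theorem F336343 : act 5 n159014 = n85508 := (sb E96922 (iv5 D179181))
theorem F336344 : act 7 n159014 = n178959 := (sb E96922 F336295)
theorem E96923 : n159013 = n107691 := ((c15_4 (iv0 D159013) D159014 F336344 (iv2 F336294))).symm
theorem F336345 : act 0 n107691 = n178960 := (sb E96923 (iv1 F278849))
theorem F336346 : act 1 n107691 = n75939 := (sb E96923 (iv0 D159013))
theorem E96924 : n179062 = n154283 := (c17_10 (iv1 D154283) (iv5 D73090) D73088 F335398 F80941 D107691 F336346 F113834 D85432 D179062)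
theorem F336347 : act 4 n154283 = n85432 := (sb E96924 (iv4 D179062))
theorem F336348 : act 2 n107651 = n154283 := d1_3 F336347 F322393 (iv4 F166262)
theorem F336349 : act 3 n134165 = n154283 := d20_5 F100764 (iv1 F53607) D74429 D156516 F246111 F336347 (iv1 D85432) (iv4 F326221) (iv3 F327047) F311113
theorem F336350 : act 3 n154284 = n176631 := d20_3 (iv4 F336347) (iv1 D154283) D154284 (iv1 D176631) (iv3 F327122) F209088 (iv1 F97606) (iv4 F323801) (iv3 F200694) (iv1 F200698)
theorem F336351 : act 6 n176631 = n154291 := d7_2 (iv6 F242385) F336350 (iv3 D154291)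
theorem E96925 : n178620 = n154278 := (c19_19 (iv1 D73089) D73090 D154284 F336350 (iv1 D176631) F300890 F115836 (iv3 F321527) (iv1 F312784) (iv5 D130075) F185273 D61640 F109932 (iv5 D29205) (iv4 F46547) (iv3 F308933) D39341 D85073 D178620 (iv3 D154278))
theorem F336352 : act 0 n154278 = n175163 := (sb E96925 (iv1 F278418))
theorem F336353 : act 1 n154278 = n175159 := (sb E96925 F278417)
theorem F336354 : act 2 n154278 = n111227 := (sb E96925 (iv2 F332237))
theorem F336355 : act 4 n154278 = n85073 := (sb E96925 (iv4 D178620))
theorem F336356 : act 5 n154278 = n111226 := (sb E96925 (iv5 F332239))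
theorem F336357 : act 7 n154278 = n175365 := (sb E96925 F278416)
theorem F336358 : act 3 n175365 = n154272 := d8_1 F336357 (iv7 F242383) D154278
theorem F336359 : act 5 n154272 = n93344 := d6_2 (iv5 F332240) F336358 F335395
theorem F336360 : act 6 n89207 = n154272 := d12_0 F336359 (iv6 D93344) F294636 (iv6 F294637) D89207
theorem E96926 : n154280 = n111153 := ((c13_3 F242383 F336359 F335397 (iv5 D154280))).symm
theorem F336361 : act 5 n111153 = n73089 := (sb E96926 (iv5 D154280))
theorem F336362 : act 5 n111152 = n123724 := d21_8 D57674 (iv1 F308579) D91375 F140512 (iv1 F136924) F336360 F336359 F335392 (iv6 D123724) (iv1 D57673)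
theorem E96927 : n154272 = n123655 := ((c21_8 (iv5 D41049) F62729 D19348 (iv6 F62340) (iv1 F304418) (iv6 F198066) (iv5 D123657) D123655 F336359 (iv6 D93344) (iv1 F68621))).symm
theorem F336363 : act 2 n123655 = n73088 := (sb E96927 (iv2 D154272))
theorem F336364 : act 3 n123655 = n175365 := (sb E96927 (iv3 F336358))
theorem F336365 : act 5 n123655 = n93344 := (sb E96927 F336359)
theorem F336366 : act 6 n123655 = n89207 := (sb E96927 (iv6 F336360))
theorem F336367 : act 7 n123655 = n73089 := (sb E96927 (iv7 F242383))
theorem F336368 : act 7 n154281 = n89238 := d14_2 F336367 D154281 (iv6 D89238) (iv7 F136923) (iv6 F336366)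
theorem E96928 : n123656 = n111154 := ((c15_4 F198064 F198069 F336367 (iv2 F335400))).symm
theorem F336369 : act 0 n111154 = n57645 := (sb E96928 (iv1 D123656))
theorem F336370 : act 1 n111154 = n73091 := (sb E96928 F198064)
theorem E96929 : n148708 = n123227 := ((c20_11 (iv4 D148708) (iv1 F332641) (iv4 F242374) F242373 (iv1 F336370) F172402 F80879 F329504 F44423 (iv3 F90552) D123227)).symm
theorem F336371 : act 2 n123227 = n83755 := (sb E96929 F327768)
theorem F336372 : act 3 n123227 = n159595 := (sb E96929 (iv3 F251381))
theorem F336373 : act 4 n123227 = n69694 := (sb E96929 (iv4 D148708))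
theorem F336374 : act 7 n123227 = n159640 := (sb E96929 (iv7 F251489))
theorem F336375 : act 4 n111154 = n153913 := d20_0 (iv1 D153913) F109330 (iv3 F178114) F251382 (iv3 F336372) F336373 (iv1 F332641) (iv4 F242374) F242373 (iv1 F336370)
theorem F336376 : act 2 n153913 = n154279 := d1_1 F336375 (iv4 D154279) (iv2 F335400)
theorem F336377 : act 3 n153913 = n134279 := d5_1 F336375 (iv4 D134279) F98391 (iv4 F80879) (iv3 F172402)
theorem F336378 : act 7 n153913 = n154274 := d11_2 (iv7 F335401) F336375 (iv4 D154274)
theorem F336379 : act 1 n107651 = n154285 := d18_8 (iv1 F336370) F336375 (iv1 D153913) F109330 D124686 F327052 F321899 (iv4 F166262) F242386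
theorem F336380 : act 4 n114101 = n138276 := d20_2 (iv4 D159595) F193481 F221477 F100738 (iv3 F172402) F336375 (iv1 D153913) F109330 (iv3 F178114) F251382
theorem F336381 : act 6 n138276 = n123608 := d10_2 F178093 F336380 F198027
theorem F336382 : act 5 n134115 = n138277 := d12_3 F336381 F329683 D134115 (iv6 D138277) D138276
theorem F336383 : act 1 n123657 = n107651 := d15_0 F336379 (iv7 D154285) (iv2 F198065)
theorem E96930 : n154319 = n111261 := ((c21_3 (iv5 F242386) (iv1 F336379) (iv5 F172561) (iv6 D154319) (iv1 F308372) (iv6 D89257) F64350 (iv1 F64322) D89207 (iv6 F336366) (iv1 F198069))).symm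
theorem F336384 : act 6 n111261 = n73112 := (sb E96930 (iv6 D154319))
theorem E96931 : n182222 = n154326 := (c21_2 F136971 D182222 (iv5 F242414) (iv6 D154219) (iv1 F198104) F198101 (iv5 F242386) (iv1 F336379) (iv5 F172561) F336384 (iv1 F308372))
theorem F336385 : act 1 n154326 = n87002 := (sb E96931 (iv0 D182222))
theorem E96932 : n134126 = n123674 := ((c21_11 (iv5 D134126) (iv1 D63003) D63005 (iv6 F329137) (iv1 F292331) D89257 F136971 (iv1 F336385) (iv5 F242414) (iv6 D154219) (iv1 F198104))).symm
theorem F336386 : act 5 n123674 = n63003 := (sb E96932 (iv5 D134126))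
theorem E96933 : n154228 = n134123 := ((c2_2 F336386 (iv2 F216168) F242336 (iv2 F198100))).symm
theorem F336387 : act 5 n134123 = n73063 := (sb E96933 F242336)
theorem E96934 : n73062 = n63002 := ((((iv7 D134123)).symm.trans (sb E96933 (iv7 D154228)))).symm
theorem E96937 : n134118 = n123673 := ((D134118).symm.trans (sb E96934 (iv2 F198098)))
theorem E96938 : n134119 = n101523 := ((D134119).symm.trans (sb E96934 (iv3 F308419)))
theorem E96939 : n154227 = n134120 := (((D134120).symm.trans (sb E96934 D154227))).symm
theorem E96940 : n134121 = n33660 := ((D134121).symm.trans (sb E96934 (iv5 D73062)))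
theorem E96941 : n134122 = n33663 := ((D134122).symm.trans (sb E96934 F109589))
theorem F336388 : act 2 n123673 = n63002 := (sb E96937 (iv2 D134118))
theorem F336389 : act 7 n123673 = n63003 := (sb E96937 (iv7 F216166))
theorem F336390 : act 3 n101523 = n63002 := (sb E96938 (iv3 D134119))
theorem F336391 : act 4 n101523 = n106570 := (sb E96938 F216167)
theorem F336392 : act 6 n134120 = n73076 := (sb E96939 F242335)
theorem F336393 : act 5 n33660 = n63002 := (sb E96940 (iv5 D134121))
theorem F336394 : act 6 n33663 = n63002 := (sb E96941 (iv6 D134122))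
theorem F336395 : act 5 n134124 = n151560 := d6_2 F336386 D134124 F238434
theorem F336396 : act 5 n134079 = n128959 := d17_1 (iv1 F216093) (iv1 D128959) (iv5 D60644) (iv4 F79602) F329776 F198103 F336386 F216001 F215997
theorem F336397 : act 7 n151559 = n134124 := d13_0 F336395 (iv7 D151560) D151559
theorem F336398 : act 0 n134229 = n96446 := d21_10 F294414 (iv1 F308312) (iv5 F242337) (iv6 D154231) (iv1 D73075) F336394 (iv5 F336393) D73060 (iv5 F329918) D134229
theorem F336399 : act 0 n184749 = n108808 := d21_4 (iv5 F242088) (iv1 F308316) F135083 D184749 F168741 F329776 (iv1 D73061) F336393 (iv6 F336394) D73074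
theorem F336400 : act 4 n98625 = n184749 := d20_6 (iv4 D60623) F93020 F327634 (iv3 D46107) D46105 D98625 F336399 F168740 F95249 (iv1 F163888)
theorem F336401 : act 6 n183460 = n98625 := d10_0 F336400 (iv6 D184749) (iv4 F285211)
theorem F336402 : act 3 n98626 = n183460 := d7_3 F336401 (iv3 D98625) D98626
theorem F336403 : act 1 n134229 = n105057 := d15_1 (iv0 F336398) (iv7 D105057) (iv2 F148511)
theorem F336404 : act 1 n105057 = n134237 := d15_1 F336403 (iv7 D134237) (iv2 F216269)
theorem E96942 : n128139 = n118561 := (c19_4 D63002 (iv5 F336393) (iv4 F94793) (iv3 F206268) (iv1 F210101) (iv5 D131173) (iv4 D61536) (iv3 D29132) (iv1 F23134) (iv5 D6598) (iv4 D2952) (iv3 F10046) F3706 (iv5 D1280) (iv4 F1495) (iv3 F2491) D3030 D6739 D14163 D29805)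
theorem F336405 : act 2 n118561 = n164506 := (sb E96942 (iv2 F259254))
theorem F336406 : act 3 n118561 = n60232 := (sb E96942 F206268)
theorem F336407 : act 4 n118561 = n95732 := (sb E96942 F206269)
theorem F336408 : act 6 n118561 = n60230 := (sb E96942 (iv6 D128139))
theorem F336409 : act 6 n131173 = n175200 := d21_5 (iv5 D79371) F56878 D60230 (iv6 F336408) (iv1 F210101) (iv5 D175200) (iv1 D83676) D83677 (iv6 F298361) F147435
theorem F336410 : act 5 n95732 = n112926 := d16_3 F86282 D118561 F336407 (iv4 D112926) F94244 (iv4 F104014) (iv5 F104017) (iv7 F106294) F106292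
theorem F336411 : act 6 n112926 = n95735 := d12_2 D95732 F336410 (iv5 D95735) (iv6 D44713) D44712
theorem F336412 : act 7 n118558 = n164506 := d16_8 F336407 F336410 (iv4 D112926) F94244 (iv4 F104014) (iv5 F104017) (iv4 F96295) D118558 (iv2 F336405)
theorem F336413 : act 1 n120128 = n164506 := d15_1 F210721 (iv7 F336412) (iv2 F210718)
theorem F336414 : act 1 n164506 = n120137 := d15_1 F336413 (iv7 F210099) F210098
theorem E96943 : n175968 = n174761 := ((c20_7 (iv4 F259277) (iv1 D79006) (iv4 F120189) (iv3 F259255) (iv1 F336413) F314266 D174761 (iv1 D175968) (iv4 F323228) (iv3 F325426) F325424)).symm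
theorem F336415 : act 0 n174761 = n83969 := (sb E96943 (iv1 D175968))
theorem F336416 : act 1 n174761 = n86325 := (sb E96943 F323231)
theorem F336417 : act 5 n131552 = n118572 := d21_8 F332309 (iv1 F336413) (iv5 D120128) F311856 F307271 (iv6 F210803) (iv5 D131554) D131552 (iv6 D118572) (iv1 F186373)
theorem F336418 : act 3 n134673 = n131552 := d6_3 F336417 F186485 D134673
theorem F336419 : act 4 n176155 = n102161 := d18_1 D176155 F328530 (iv4 F167725) F324293 (iv4 D83967) (iv0 F321887) D174761 F336416 (iv5 F300824)
theorem F336420 : act 6 n174761 = n177625 := d21_5 (iv5 D37473) (iv1 F30141) D39945 D86325 (iv1 F336416) (iv5 D177625) (iv1 F333809) F300664 (iv6 D77069) (iv1 F58359)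
theorem F336421 : act 5 n174761 = n177621 := d21_8 F333801 (iv1 F333799) (iv5 F275372) (iv6 D176119) (iv1 F128974) D84024 F300824 (iv1 F336416) (iv6 D177621) (iv1 F333808)
theorem F336422 : act 6 n167091 = n176156 := d21_9 F300824 (iv1 F336416) F336421 (iv6 D177621) (iv1 F333808) (iv6 D175717) (iv5 F304821) (iv1 F263167) D167091 (iv1 D176156)
theorem E96944 : n179560 = n177621 := (c19_1 D179560 (iv5 F336421) (iv4 D174761) (iv3 F314266) (iv1 F210721) (iv5 D131455) (iv4 D61697) (iv3 D29253) (iv1 F38257) F38254 F21200 (iv3 D12768) F10942 D14116 (iv4 F309161) (iv3 D8790) D8788 D18743 D39589 D85676)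
theorem F336423 : act 0 n177621 = n86825 := (sb E96944 (iv1 F279618))
theorem F336424 : act 1 n177621 = n85676 := (sb E96944 (iv0 D179560))
theorem F336425 : act 3 n177621 = n178792 := (sb E96944 F279617)
theorem F336426 : act 5 n124659 = n148881 := d21_2 (iv5 D124661) D124659 (iv6 D148881) (iv1 D69786) (iv6 F106191) (iv5 F131407) (iv1 F336424) (iv5 F336421) F336420 F277088
theorem E96945 : n166844 = n148881 := ((c21_1 F336426 (iv1 D166844) (iv5 F320070) F122491 (iv1 F321827) F328762 F248734 (iv1 F60823) F60713 (iv6 F92071) D124659)).symm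
theorem F336427 : act 0 n148881 = n80085 := (sb E96945 (iv1 D166844))
theorem F336428 : act 1 n148881 = n160687 := (sb E96945 F262577)
theorem F336429 : act 4 n148881 = n83789 := (sb E96945 F298403)
theorem F336430 : act 4 n177625 = n175639 := d17_9 (iv1 D175639) (iv5 F309540) (iv1 D174862) F128819 (iv4 F336429) (iv5 F336426) (iv0 D124659) D124661 (iv0 F277088)
theorem E96946 : n175639 = n158386 := (c10_2 F336420 F336430 F306605 D174761)
theorem F336431 : act 0 n158386 = n83858 := (sb E96946 (iv1 D175639))
theorem F336432 : act 4 n158386 = n177625 := (sb E96946 (iv4 F336430))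
theorem F336433 : act 7 n124662 = n177625 := d11_0 (iv4 F336432) F249554 (iv4 F334606)
theorem F336434 : act 4 n158388 = n160684 := d17_9 (iv1 F315400) F317771 F333810 D177625 (iv4 F336432) (iv5 D158386) F113379 (iv5 F128822) F249562
theorem F336435 : act 3 n175641 = n166532 := d20_3 (iv4 F336432) F336431 D175641 (iv1 D166532) (iv3 D79930) F313164 (iv1 D68500) (iv4 F311066) (iv3 F199412) (iv1 F277089)
theorem F336436 : act 2 n177625 = n175457 := d1_1 F336432 (iv4 D175457) (iv2 F249553)
theorem E96947 : n175457 = n124663 := (c2_2 D177625 F336436 (iv5 F334657) F277072)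
theorem F336437 : act 2 n124663 = n177625 := (sb E96947 (iv2 F336436))
theorem F336438 : act 4 n124663 = n83786 := (sb E96947 (iv4 D175457))
theorem E96948 : n177604 = n166160 := ((c17_3 (iv1 F262583) F334608 F323502 F334657 F336438 (iv5 D83786) F113386 (iv5 F249561) F249564 (iv4 F298402))).symm
theorem F336439 : act 2 n166160 = n84598 := (sb E96948 F277072)
theorem F336440 : act 5 n166160 = n124663 := (sb E96948 F334657)
theorem F336441 : act 6 n166160 = n84594 := (sb E96948 (iv6 D177604))
theorem F336442 : act 7 n166160 = n178174 := (sb E96948 (iv7 F333812))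
theorem F336443 : act 4 n158389 = n124652 := d17_4 (iv1 F274665) (iv5 F274667) F272028 F262964 (iv5 D124652) (iv0 D58248) D58251 D124663 F336438
theorem F336444 : act 2 n124652 = n148881 := d1_1 F336443 F336429 (iv2 F262965)
theorem F336445 : act 6 n124652 = n145738 := d10_2 (iv6 F332205) F336443 F228846
theorem F336446 : act 7 n124652 = n166843 := d11_2 F262966 F336443 F298402
theorem E96949 : n160685 = n124652 := ((c18_2 (iv1 F249557) F336443 (iv1 D160685) F115806 (iv5 F297058) F54744 D41658 (iv4 F184696) F113379 (iv5 F128822))).symm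
theorem F336447 : act 0 n124652 = n77069 := (sb E96949 (iv1 D160685))
theorem F336448 : act 1 n124652 = n146732 := (sb E96949 (iv0 F315399))
theorem F336449 : act 0 n177616 = n172172 := d18_2 F333810 (iv4 F277080) (iv4 D172172) (iv5 D82451) F298186 D158389 F336443 F336448 F317771
theorem E96950 : n152358 = n121723 := (c20_5 (iv4 F336443) (iv1 D158389) (iv4 F298186) (iv3 F108374) D152358 F194285 F317770 (iv1 F85173) (iv4 F181016) D146732 (iv1 F336448))
theorem F336450 : act 1 n121723 = n71881 := (sb E96950 (iv0 D152358))
theorem F336451 : act 5 n152507 = n121719 := d17_5 D71882 D152365 F239689 (iv5 D152512) (iv4 F239688) (iv0 D121719) D121723 F336450 F108375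
theorem F336452 : act 4 n121723 = n114667 := d20_2 (iv4 F108375) (iv1 F336450) (iv3 D114667) (iv1 F83638) F40629 (iv4 F40656) (iv1 F40666) (iv4 F177650) D49152 F334809
theorem F336453 : act 2 n152195 = n121723 := d1_3 F336452 F259174 D152195
theorem F336454 : act 5 n121721 = n152195 := d2_0 F336453 (iv5 D121723) D121721
theorem E96951 : n152359 = n146148 := (c15_2 F336450 D152359 F323417 F336453)
theorem F336455 : act 0 n146148 = n71881 := (sb E96951 (iv1 D152359))
theorem F336456 : act 1 n152195 = n146146 := d15_0 (iv0 D146146) F320067 (iv2 F336453)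
theorem E96952 : n135856 = n54550 := (c17_8 F336455 (iv5 F335987) (iv1 D84813) (iv5 F122668) (iv4 F335980) F179303 F99352 D135856 (iv0 F258995) (iv4 F323416))
theorem E96953 : n117234 = n63879 := (((iv5 F183436)).symm.trans (sb E96952 (iv5 D135856)))
theorem E96954 : n135853 = n63782 := ((D135853).symm.trans (sb E96953 F329781))
theorem E96955 : n135854 = n117329 := ((D135854).symm.trans (sb E96953 (iv3 F183722)))
theorem F336457 : act 5 n63879 = n54550 := (sb E96953 F183436)
theorem E96956 : n135857 = n54033 := ((D135857).symm.trans (sb E96953 (iv6 D117234)))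
theorem E96957 : n135858 = n63783 := ((D135858).symm.trans (sb E96953 F329782))
theorem F336458 : act 2 n63782 = n63879 := (sb E96954 (iv2 D135853))
theorem E96958 : n135660 = n63880 := ((D135660).symm.trans (sb E96954 (iv7 F218517)))
theorem F336459 : act 3 n117329 = n63879 := (sb E96955 (iv3 D135854))
theorem F336460 : act 6 n54033 = n63879 := (sb E96956 (iv6 D135857))
theorem F336461 : act 7 n63783 = n63879 := (sb E96957 (iv7 D135858))
theorem F336462 : act 2 n63880 = n63783 := (sb E96958 F218151)
theorem E96959 : n135861 = n71784 := ((D135861).symm.trans (sb E96958 F329787))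
theorem F336463 : act 7 n63880 = n63782 := (sb E96958 (iv7 D135660))
theorem F336464 : act 5 n71784 = n63880 := (sb E96959 (iv5 D135861))
theorem E96960 : n146847 = n135849 := (c18_6 (iv1 F258996) (iv4 F323416) F336455 F108375 (iv5 F105037) (iv4 F230240) (iv0 D135849) F99349 D63880 (iv5 F336464))
theorem F336465 : act 4 n135849 = n68844 := (sb E96960 F230240)
theorem F336466 : act 6 n135849 = n68843 := (sb E96960 (iv6 D146847))
theorem E96961 : n164467 = n152353 := ((c20_5 (iv4 F323416) F336455 F108375 (iv3 F108360) D152353 (iv3 D164467) D164468 (iv1 F314185) F314186 F235291 (iv1 F258996))).symm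
theorem F336467 : act 3 n152353 = n78987 := (sb E96961 (iv3 D164467))
theorem E96962 : n121719 = n92193 := ((c21_10 (iv5 F321799) F336455 (iv5 F335987) (iv6 F335991) (iv1 D39859) F30101 (iv5 F28014) D35168 F250805 D92193 (iv1 F194277))).symm
theorem F336468 : act 0 n92193 = n79895 := (sb E96962 (iv1 F194277))
theorem F336469 : act 1 n92193 = n56248 := (sb E96962 (iv0 D121719))
theorem F336470 : act 5 n92193 = n152507 := (sb E96962 (iv5 F336451))
theorem F336471 : act 2 n152507 = n164144 := d2_1 F336470 (iv5 D164144) F254459
theorem E96963 : n152506 = n76984 := (c12_4 D92193 F336470 (iv6 D152507) D152506 (iv6 D76984) F250805)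
theorem E96964 : n160575 = n71932 := ((D160575).symm.trans (sb E96963 (iv5 D152506)))
theorem E96965 : n152276 = n125457 := (((iv2 F239348)).symm.trans (sb E96964 (iv2 F254453)))
theorem F336472 : act 5 n71932 = n76984 := (sb E96964 (iv5 D160575))
theorem F336473 : act 2 n125457 = n71932 := (sb E96965 F239348)
theorem F336474 : act 4 n125457 = n71840 := (sb E96965 (iv4 D152276))
theorem F336475 : act 7 n125457 = n71927 := (sb E96965 F239349)
theorem F336476 : act 0 n107746 = n152507 := d21_10 (iv5 F336470) F336468 (iv5 F321799) F229395 (iv1 F330326) (iv6 D135253) F98907 F48618 (iv5 F78630) D107746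
theorem F336477 : act 6 n124982 = n124644 := d21_9 (iv5 F335977) F336476 (iv5 F336470) (iv6 D92193) (iv1 F67483) D78858 (iv5 F323618) (iv1 F92290) D124982 (iv1 D124644)
theorem E96966 : n159326 = n55869 := (c21_5 (iv5 F88540) (iv1 F88544) F250795 D76216 D159326 (iv6 F92045) (iv5 F335977) F336476 (iv5 F336470) (iv6 D92193) (iv1 F67483))
theorem E96967 : n121072 = n86298 := ((D121072).symm.trans (sb E96966 (iv1 F254468)))
theorem E96968 : n121073 = n76216 := ((D121073).symm.trans (sb E96966 (iv0 D159326)))
theorem E96969 : n159327 = n78416 := (((iv1 F254466)).symm.trans (sb E96967 (iv1 F193094)))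
theorem F336478 : act 1 n86298 = n55869 := (sb E96967 (iv0 D121072))
theorem F336479 : act 0 n76216 = n55869 := (sb E96968 (iv1 D121073))
theorem F336480 : act 0 n78416 = n76216 := (sb E96969 (iv1 D159327))
theorem F336481 : act 1 n78416 = n86298 := (sb E96969 F254466)
theorem E96970 : n180667 = n144348 := (c17_8 F112195 F103659 (iv1 F78633) F45674 (iv4 F93820) (iv5 F320714) F336481 (iv5 F281198) (iv0 F323018) F323020)
theorem F336482 : act 5 n144348 = n86298 := (sb E96970 F281198)
theorem F336483 : act 7 n144348 = n86297 := (sb E96970 (iv7 D180667))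
theorem E96971 : n180666 = n136699 := (c11_2 F336483 D180666 (iv7 F219835) (iv4 F227084))
theorem F336484 : act 4 n136699 = n86297 := (sb E96971 (iv4 D180666))
theorem E96972 : n159328 = n138244 := (c15_4 F221428 F247414 F336483 (iv2 F254464))
theorem F336485 : act 2 n138244 = n86297 := (sb E96972 F254464)
theorem F336486 : act 5 n138244 = n76216 := (sb E96972 (iv5 D159328))
theorem F336487 : act 6 n138244 = n164015 := (sb E96972 (iv6 F258476))
theorem F336488 : act 4 n164015 = n130515 := d10_1 F336487 F209081 D138244
theorem E96973 : n164013 = n108861 := (c21_8 F324691 (iv1 F189646) F325004 D136725 (iv1 F221428) F336487 (iv5 D164015) D164013 F323136 (iv6 F319663) D74116)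
theorem F336489 : act 0 n108861 = n180653 := (sb E96973 (iv1 F281195))
theorem F336490 : act 1 n108861 = n78798 := (sb E96973 (iv0 D164013))
theorem F336491 : act 0 n164015 = n117096 := d21_10 (iv5 F325257) F325254 (iv5 D59580) (iv6 D28280) (iv1 F45672) D59435 (iv5 F320714) F336480 (iv5 F336486) F336487
theorem F336492 : act 0 n107630 = n164015 := d21_4 D107608 (iv1 F166226) (iv5 D107629) D107630 (iv6 F336487) F336486 F336479 F316305 (iv6 D49772) (iv1 F78548)
theorem E96974 : n129368 = n59577 := (c21_8 F325252 F336492 (iv5 D164015) (iv6 D78798) (iv1 D35871) D35873 F323610 D129368 D126947 F204200 (iv1 F325251))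
theorem E96975 : n130842 = n126945 := (((D126945).symm.trans (sb E96974 (iv1 F209408)))).symm
theorem E96976 : n126946 = n60794 := ((D126946).symm.trans (sb E96974 (iv0 D129368)))
theorem E96977 : n129369 = n129253 := ((((iv1 F327313)).symm.trans (sb E96975 (iv1 F209410)))).symm
theorem F336493 : act 2 n126945 = n61380 := (sb E96975 (iv2 D130842))
theorem F336494 : act 3 n126945 = n129377 := (sb E96975 F209406)
theorem F336495 : act 4 n126945 = n64778 := (sb E96975 F333863)
theorem F336496 : act 5 n126945 = n162244 := (sb E96975 (iv5 F333857))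
theorem F336497 : act 7 n126945 = n129370 := (sb E96975 F209407)
theorem F336498 : act 0 n60794 = n59577 := (sb E96976 (iv1 D126946))
theorem F336499 : act 0 n129253 = n60794 := (sb E96977 (iv1 D129369))
theorem F336500 : act 6 n160573 = n108987 := d21_5 (iv5 F32271) D43106 (iv5 F250805) D76984 D160573 F325252 F336492 (iv5 D164015) (iv6 D78798) (iv1 D35871)
theorem E96978 : n160573 = n111560 := ((c3_4 F336500 F174891 F323992 (iv2 F323594))).symm
theorem E96979 : n180577 = n125458 := ((F323592).symm.trans (sb E96978 (iv1 F254458)))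
theorem E96980 : n180576 = n76984 := ((F323593).symm.trans (sb E96978 (iv0 D160573)))
theorem F336501 : act 6 n111560 = n108987 := (sb E96978 F336500)
theorem E96981 : n160574 = n86246 := (((iv1 F254456)).symm.trans (sb E96979 (iv1 D180577)))
theorem F336502 : act 1 n125458 = n111560 := (sb E96979 (iv0 F323592))
theorem F336503 : act 0 n76984 = n111560 := (sb E96980 (iv1 F323593))
theorem F336504 : act 0 n86246 = n76984 := (sb E96981 (iv1 D160574))
theorem F336505 : act 1 n86246 = n125458 := (sb E96981 F254456)
theorem E96982 : n166709 = n95335 := (c20_7 F60084 (iv1 F30121) D39914 D86246 F336504 (iv3 F253650) (iv4 F262411) F318886 (iv4 F94320) F318606 F92086)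
theorem E96983 : n160897 = n96370 := (((F318888).symm.trans (sb E96982 F262410))).symm
theorem E96984 : n160566 = n125966 := (((F318890).symm.trans (sb E96982 F262411))).symm
theorem F336506 : act 6 n95335 = n80011 := (sb E96982 (iv6 D166709))
theorem F336507 : act 6 n96370 = n77208 := (sb E96983 (iv6 D160897))
theorem F336508 : act 3 n125966 = n76984 := (sb E96984 F253650)
theorem F336509 : act 6 n125966 = n76981 := (sb E96984 (iv6 D160566))
theorem E96985 : n173982 = n148241 := ((c21_3 (iv5 F336472) (iv1 F321010) D148241 (iv6 D173982) (iv1 D83187) (iv6 F128240) (iv5 D83175) (iv1 F155358) D75898 (iv6 F324630) F336504)).symm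
theorem F336510 : act 6 n148241 = n83187 := (sb E96985 (iv6 D173982))
theorem F336511 : act 6 n124477 = n111461 := d3_2 F336510 (iv2 F330284) (iv2 F232072)
theorem E96986 : n173979 = n148244 := (c7_2 F336510 D173979 (iv6 D148244) (iv3 F232073))
theorem F336512 : act 3 n148244 = n83187 := (sb E96986 (iv3 D173979))
theorem F336513 : act 6 n173980 = n111271 := d10_2 F336510 D173980 F232075
theorem F336514 : act 6 n121713 = n111456 := d14_5 (iv7 F232074) F336510 (iv7 F330283) (iv6 D166441) (iv7 F194260)
theorem F336515 : act 4 n111458 = n121713 := d10_3 F336514 (iv4 D111456) D111458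
theorem F336516 : act 6 n116680 = n157708 := d12_2 F336514 (iv5 F182069) F248517 F320893 (iv5 F330652)
theorem F336517 : act 0 n116680 = n125457 := d21_7 (iv5 F27600) D34808 F250799 D78793 (iv1 F330285) F336514 (iv5 F182069) (iv5 D125457) (iv6 D58733) (iv1 D27921)
theorem E96987 : n163063 = n147174 := (c21_6 D166437 F334088 F122669 F60203 D78406 D163063 F230756 F182065 F182069 (iv6 F336514) (iv1 F194263))
theorem F336518 : act 6 n147174 = n78406 := (sb E96987 (iv6 D163063))
theorem E96988 : n163060 = n147175 := (c7_2 F336518 D163060 (iv6 D147175) D147174)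
theorem F336519 : act 3 n147175 = n78406 := (sb E96988 (iv3 D163060))
theorem F336520 : act 4 n147175 = n177582 := (sb E96988 F277035)
theorem F336521 : act 6 n177582 = n96375 := d10_2 D147175 F336520 F320041
theorem F336522 : act 0 n163095 = n158901 := d20_7 (iv4 F257340) (iv1 F277034) (iv4 F336520) F336519 (iv1 F193108) F193106 D163095 (iv4 F334021) F231440 (iv1 F333963)
theorem F336523 : act 4 n163019 = n180628 := d20_8 D163095 F336522 (iv4 F334021) F231440 (iv1 F333963) (iv3 F129744) D177556 (iv1 F276997) F281164 (iv1 F336481)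
theorem F336524 : act 1 n163095 = n176884 := d15_1 (iv0 F336522) (iv7 D176884) (iv2 F254242)
theorem F336525 : act 1 n176884 = n121075 := d15_1 F336524 F193101 (iv2 F257416)
theorem F336526 : act 3 n176884 = n160954 := d20_5 (iv4 D38149) F117881 D58092 (iv3 F193100) (iv1 F336525) (iv4 D160954) (iv1 D77243) (iv4 F115935) (iv3 D77182) (iv1 F297991)
theorem F336527 : act 7 n160954 = n176876 := d8_2 D176884 F336526 F276248
theorem E96989 : n164846 = n160947 := (c11_2 F336527 F276249 (iv7 F254162) D160954)
theorem E96990 : n165771 = n77242 := ((((iv2 D160947)).symm.trans (sb E96989 (iv2 F261164)))).symm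
theorem F336528 : act 4 n160947 = n176876 := (sb E96989 (iv4 F276249))
theorem F336529 : act 6 n160947 = n79207 := (sb E96989 (iv6 D164846))
theorem E96991 : n160951 = n79617 := ((D160951).symm.trans (sb E96990 (iv6 D165771)))
theorem F336530 : act 6 n79617 = n77242 := (sb E96991 (iv6 D160951))
theorem F336531 : act 6 n160948 = n165768 := d7_2 F336530 D160948 (iv3 D165768)
theorem F336532 : act 6 n160949 = n165769 := d10_2 F336530 D160949 (iv4 D165769)
theorem E96992 : n165770 = n132374 := ((c21_2 (iv5 F322727) D132374 (iv5 D165770) F336530 D160946 (iv6 F333987) (iv5 F330128) (iv1 D130311) D130312 F208843 (iv1 F334288))).symm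
theorem F336533 : act 2 n132374 = n164845 := (sb E96992 F261162)
theorem F336534 : act 5 n132374 = n79617 := (sb E96992 (iv5 D165770))
theorem F336535 : act 7 n132374 = n164843 := (sb E96992 F261163)
theorem F336536 : act 0 n147645 = n160950 := d21_7 (iv5 F323645) F334287 F334282 (iv6 F334283) (iv1 F105465) D69192 D147645 (iv5 D160950) (iv6 F336530) (iv1 F122324)
theorem E96993 : n160950 = n62429 := (c21_5 F302486 F191047 D69195 (iv6 F231414) F336536 (iv6 D62429) (iv5 F211211) (iv1 F96735) (iv5 F312942) (iv6 D128093) D128092)
theorem E96994 : n147645 = n133045 := (((D133045).symm.trans (sb E96993 (iv0 F336536)))).symm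
theorem E96995 : n133046 = n77242 := ((D133046).symm.trans (sb E96993 (iv5 D160950)))
theorem F336537 : act 5 n133045 = n69192 := (sb E96994 (iv5 D147645))
theorem F336538 : act 6 n133045 = n69195 := (sb E96994 F231414)
theorem E96996 : n160947 = n131694 := ((D160947).symm.trans (sb E96995 (iv2 F217738)))
theorem F336539 : act 5 n77242 = n62429 := (sb E96995 (iv5 D133046))
theorem F336540 : act 2 n131694 = n77242 := (sb E96996 (iv2 D160947))
theorem F336541 : act 4 n131694 = n176876 := (sb E96996 F336528)
theorem F336542 : act 6 n131694 = n79207 := (sb E96996 F336529)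
theorem F336543 : act 7 n131694 = n77243 := (sb E96996 (iv7 F254162))
theorem E96997 : n160955 = n131695 := (c13_2 F336543 D160955 (iv7 D131695) D131694)
theorem F336544 : act 5 n131695 = n77243 := (sb E96997 (iv5 D160955))
theorem F336545 : act 7 n160956 = n165773 := d14_2 F336543 D160956 (iv6 D165773) F254231 (iv6 F336542)
theorem E96998 : n160958 = n160952 := ((c15_4 F254165 (iv0 F334240) F336543 (iv2 F254163))).symm
theorem F336546 : act 0 n160952 = n77244 := (sb E96998 (iv1 D160958))
theorem F336547 : act 1 n160952 = n77246 := (sb E96998 F254165)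
theorem F336548 : act 5 n160952 = n133047 := d2_2 F336544 (iv2 F254163) (iv2 F217739)
theorem F336549 : act 0 n147382 = n160956 := d21_4 (iv5 D67868) D67866 (iv5 F105391) D147382 (iv6 D160956) (iv5 F336544) (iv1 F217741) F336537 (iv6 D69192) (iv1 F103927)
theorem F336550 : act 5 n131693 = n147358 := d21_2 F336548 (iv1 F217740) (iv6 D147358) F105336 D147141 (iv5 F333982) F315319 F317564 F119327 (iv1 F336547)
theorem F336551 : act 6 n147697 = n160952 := d21_5 (iv5 D68986) (iv1 F94350) F94348 D69214 D147697 F336548 (iv1 F217740) F336550 (iv6 D147358) F105336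
theorem F336552 : act 2 n160956 = n147697 := d3_3 F336551 F254163 D160956
theorem F336553 : act 7 n164844 = n147697 := d14_0 F336551 (iv7 D160952) (iv6 F336530) (iv7 F254234) D164844
theorem F336554 : act 1 n147382 = n164844 := d15_1 (iv0 F336549) F336553 (iv2 F336552)
theorem E96999 : n164844 = n136276 := (c15_1 F336554 (iv0 F219341) (iv7 F324466) (iv2 F231099))
theorem F336555 : act 0 n136276 = n147382 := (sb E96999 (iv1 F336554))
theorem F336556 : act 2 n136276 = n165773 := (sb E96999 (iv2 F261167))
theorem F336557 : act 6 n136276 = n79206 := (sb E96999 (iv6 D164844))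
theorem F336558 : act 7 n136276 = n147697 := (sb E96999 F336553)
theorem E97000 : n164843 = n129396 := ((c21_2 F323647 D129396 (iv5 D164843) (iv6 F336557) F336555 (iv6 D147382) F105391 (iv1 F104931) (iv5 F105462) F334283 (iv1 D78503))).symm
theorem F336559 : act 2 n129396 = n165772 := (sb E97000 (iv2 F261165))
theorem F336560 : act 5 n129396 = n79206 := (sb E97000 (iv5 D164843))
theorem F336561 : act 7 n129396 = n132374 := (sb E97000 (iv7 F336535))
theorem E97001 : n164845 = n129397 := (c15_4 F212388 F212386 F336561 F336533)
theorem F336562 : act 2 n129397 = n132374 := (sb E97001 (iv2 F336533))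
theorem F336563 : act 5 n129397 = n79207 := (sb E97001 (iv5 D164845))
theorem F336564 : act 7 n129397 = n165772 := (sb E97001 (iv7 F261166))
theorem E97002 : n165772 = n132375 := (c15_4 F212387 F212383 (iv7 F336561) F336559)
theorem F336565 : act 2 n132375 = n129396 := (sb E97002 (iv2 F336559))
theorem F336566 : act 3 n132375 = n166754 := (sb E97002 F262498)
theorem F336567 : act 5 n132375 = n79618 := (sb E97002 (iv5 D165772))
theorem F336568 : act 7 n132375 = n129397 := (sb E97002 (iv7 F336564))
theorem E97003 : n165773 = n147698 := (c21_4 (iv5 F323646) (iv1 F212387) F336567 D165773 (iv1 D147698) (iv6 D69214) (iv5 F94348) F94349 D68741 (iv6 F334279) F302189)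
theorem F336569 : act 2 n147698 = n136276 := (sb E97003 (iv2 F336556))
theorem F336570 : act 6 n147698 = n79618 := (sb E97003 (iv6 D165773))
theorem F336571 : act 7 n147698 = n160956 := (sb E97003 (iv7 F336545))
theorem F336572 : act 5 n178939 = n121160 := d21_2 (iv5 F322506) D178939 (iv6 D121160) (iv1 F88447) D78501 (iv5 F323646) (iv1 F212387) F336567 (iv6 F336570) (iv1 D147698)
theorem F336573 : act 6 n132375 = n129238 := d21_3 F323645 (iv1 F122327) (iv5 F336567) (iv1 D129238) (iv6 D60751) D60750 F212139 F95652 D61144 F334292
theorem F336574 : act 6 n132505 = n129396 := d3_2 F336573 F217730 (iv2 F336565)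
theorem E97004 : n129397 = n129197 := ((c14_6 (iv7 F336568) F336573 F217728 (iv6 D132299) F217663 D129197)).symm
theorem F336575 : act 0 n129197 = n60807 := (sb E97004 (iv1 D129397))
theorem F336576 : act 1 n129197 = n132376 := (sb E97004 F212388)
theorem E97005 : n132374 = n132295 := (((F217744).symm.trans (sb E97004 F336562))).symm
theorem F336577 : act 5 n129197 = n79207 := (sb E97004 F336563)
theorem F336578 : act 7 n129197 = n132375 := (sb E97004 (iv7 F336568))
theorem F336579 : act 0 n132295 = n129398 := (sb E97005 (iv1 F212383))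
theorem F336580 : act 1 n132295 = n62108 := (sb E97005 (iv0 D132374))
theorem F336581 : act 5 n132295 = n79617 := (sb E97005 F336534)
theorem F336582 : act 7 n132295 = n129396 := (sb E97005 (iv7 F336561))
theorem F336583 : act 5 n121165 = n178384 := d21_6 (iv5 F336581) F336579 F323646 (iv6 D78501) (iv1 F88452) D121165 (iv1 D178384) F130079 F302213 D79617
theorem E97006 : n132912 = n60961 := (c21_5 (iv5 F312942) F312939 (iv5 D62373) D62374 D132912 (iv6 F97154) F322726 D79617 (iv5 F336581) (iv6 D132295) (iv1 F96735))
theorem E97007 : n129795 = n62396 := ((D129795).symm.trans (sb E97006 (iv1 F213524)))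
theorem E97008 : n129796 = n62374 := ((D129796).symm.trans (sb E97006 (iv0 D132912)))
theorem E97009 : n132913 = n132650 := (((iv1 F213519)).symm.trans (sb E97007 (iv1 F212939)))
theorem F336584 : act 1 n62396 = n60961 := (sb E97007 (iv0 D129795))
theorem F336585 : act 0 n62374 = n60961 := (sb E97008 (iv1 D129796))
theorem F336586 : act 0 n132650 = n62374 := (sb E97009 (iv1 D132913))
theorem F336587 : act 1 n132650 = n62396 := (sb E97009 F213519)
theorem F336588 : act 6 n126795 = n132650 := d21_3 (iv5 D59549) D59546 F204050 F336586 (iv6 D62374) D62373 F213164 F95587 (iv6 F94046) (iv1 F325894)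
theorem F336589 : act 2 n132652 = n126795 := d3_3 F336588 (iv2 D132650) D132652
theorem E97010 : n126885 = n126796 := ((c15_2 (iv0 D126795) D126796 F322443 F336589)).symm
theorem F336590 : act 3 n126796 = n61038 := (sb E97010 F322441)
theorem F336591 : act 5 n126796 = n59547 := (sb E97010 (iv5 D126885))
theorem F336592 : act 6 n126796 = n61036 := (sb E97010 F322442)
theorem F336593 : act 7 n126796 = n132652 := (sb E97010 F322443)
theorem E97011 : n177586 = n162819 := ((c21_4 (iv5 F334209) (iv1 D133073) D133074 F334213 (iv1 D177586) F323654 (iv5 F336591) (iv1 D126796) (iv5 D59503) D59504 D126798)).symm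
theorem F336594 : act 0 n162819 = n84589 := (sb E97011 (iv1 D177586))
theorem F336595 : act 1 n162819 = n163002 := (sb E97011 F277041)
theorem E97012 : n133071 = n78266 := ((((iv5 D162819)).symm.trans (sb E97011 F334261))).symm
theorem E97013 : n162817 = n131556 := ((D162817).symm.trans (sb E97012 F213721))
theorem E97014 : n162820 = n62437 := ((D162820).symm.trans (sb E97012 (iv6 D133071)))
theorem F336596 : act 3 n131556 = n78266 := (sb E97013 (iv3 D162817))
theorem F336597 : act 6 n62437 = n78266 := (sb E97014 (iv6 D162820))
theorem E97015 : n162816 = n121062 := (c3_2 F336597 (iv2 F257094) (iv6 F333978) F213675)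
theorem F336598 : act 2 n121062 = n78266 := (sb E97015 F257094)
theorem F336599 : act 7 n121062 = n78265 := (sb E97015 (iv7 D162816))
theorem F336600 : act 6 n162818 = n133070 := d10_2 F336597 D162818 (iv4 D133070)
theorem F336601 : act 6 n162811 = n147644 := d14_3 (iv7 F97310) F336597 F257093 F334257 (iv6 D131541)
theorem E97016 : n162684 = n147694 := (c21_10 (iv5 F325580) (iv1 D62436) D62437 F336597 (iv1 D78266) D78269 F321786 (iv1 F188373) F333990 D162684 (iv1 D147694))
theorem F336602 : act 6 n147694 = n78148 := (sb E97016 (iv6 D162684))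
theorem F336603 : act 5 n132376 = n120959 := d21_2 (iv5 F336560) (iv1 F212386) F334266 (iv1 D133069) F336597 D162819 F336594 (iv5 D84589) F302575 D79206
theorem E97017 : n162823 = n69219 := (c21_2 D78268 D162823 (iv5 D69219) (iv6 D32190) D32187 D69213 (iv5 F325580) (iv1 D62436) D62437 F336597 (iv1 D78266))
theorem E97018 : n155631 = n147719 := (((D147719).symm.trans (sb E97017 (iv1 F313869)))).symm
theorem E97019 : n147720 = n78268 := ((D147720).symm.trans (sb E97017 (iv0 D162823)))
theorem F336604 : act 0 n147719 = n162824 := (sb E97018 F313868)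
theorem F336605 : act 2 n147719 = n74036 := (sb E97018 F244669)
theorem F336606 : act 3 n147719 = n162957 := (sb E97018 F313870)
theorem F336607 : act 4 n147719 = n104148 := (sb E97018 F329034)
theorem F336608 : act 5 n147719 = n121064 := (sb E97018 F313871)
theorem F336609 : act 6 n147719 = n74035 := (sb E97018 (iv6 D155631))
theorem F336610 : act 7 n147719 = n162821 := (sb E97018 F313872)
theorem F336611 : act 0 n78268 = n69219 := (sb E97019 (iv1 D147720))
theorem E97020 : n162826 = n128117 := ((c21_3 F329421 (iv1 F314368) F206195 (iv6 D162826) F336611 F105505 (iv5 D32194) D32192 D69225 D147748 F336323)).symm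
theorem F336612 : act 3 n128117 = n78270 := (sb E97020 F257097)
theorem F336613 : act 6 n128117 = n78268 := (sb E97020 (iv6 D162826))
theorem E97021 : n162828 = n147141 := ((c21_4 (iv5 F94303) F94304 D68986 D147141 (iv1 D162828) (iv6 D78269) D78268 F336611 (iv5 D69219) (iv6 D32190) D32187)).symm
theorem F336614 : act 0 n147141 = n78269 := (sb E97021 (iv1 D162828))
theorem F336615 : act 1 n147141 = n128000 := (sb E97021 (iv0 F323392))
theorem F336616 : act 7 n162824 = n147385 := d15_2 (iv0 F336611) D162824 F231101
theorem E97022 : n162824 = n160993 := ((c4_4 F336616 F231101 D147722 F334025)).symm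
theorem F336617 : act 0 n160993 = n78268 := (sb E97022 (iv1 D162824))
theorem F336618 : act 1 n160993 = n147719 := (sb E97022 (iv0 F336604))
theorem F336619 : act 7 n160993 = n147385 := (sb E97022 F336616)
theorem F336620 : act 5 n160960 = n162815 := d21_8 (iv5 F336608) (iv1 F336618) (iv5 D160993) (iv6 D77258) (iv1 D35267) (iv6 F55990) D77245 D160960 (iv6 D162815) (iv1 F193076)
theorem E97023 : n166810 = n121160 := ((c21_4 (iv5 F28283) D35815 F250810 D121160 (iv1 F280871) F280869 (iv5 F336608) (iv1 F336618) (iv5 D160993) (iv6 D77258) (iv1 D35267))).symm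
theorem F336621 : act 0 n121160 = n180467 := (sb E97023 (iv1 F280871))
theorem F336622 : act 1 n121160 = n80070 := (sb E97023 (iv0 D166810))
theorem F336623 : act 5 n93437 = n103044 := d21_6 (iv5 D160993) (iv1 F336339) D78384 (iv6 F313852) F321287 (iv6 F335390) F328599 F110832 (iv6 F336609) (iv1 F336618)
theorem F336624 : act 3 n103044 = n107696 := d6_1 F336623 (iv5 D107696) (iv3 F335389)
theorem F336625 : act 5 n93435 = n90727 := d9_8 F336623 (iv4 D103044) (iv5 D47772) (iv4 F66066) D87731 (iv4 F292797) F134198 D93435 (iv4 D90727) (iv5 D42477) (iv4 D20052) D20053 (iv4 F292855) (iv5 F68684) D93437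
theorem F336626 : act 5 n103056 = n93439 := d18_9 (iv1 F144133) (iv4 D93330) (iv1 F68683) D93437 F336623 (iv4 D103044) F75036 D89924 (iv0 F158314)
theorem F336627 : act 6 n160993 = n113147 := d21_5 F336623 F328599 F110832 (iv6 F336609) (iv1 F336618) (iv5 D113147) F323180 (iv5 F318577) (iv6 D120044) (iv1 F329729)
theorem F336628 : act 2 n113147 = n163508 := d3_1 F336627 (iv6 F334026) F334025
theorem F336629 : act 3 n113149 = n160993 := d7_3 F336627 F176292 D113149
theorem F336630 : act 5 n160987 = n113149 := d6_0 F336629 (iv5 D160993) (iv3 F254493)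
theorem F336631 : act 5 n103061 = n93440 := d9_8 F336626 (iv4 F294032) (iv5 D103064) (iv4 D47783) (iv5 D22992) D22991 D47781 D103061 F144135 (iv5 D89727) F64653 (iv5 F292161) D22988 D47778 D103056
theorem F336632 : act 0 n184351 = n103056 := d17_0 F336626 (iv1 F144133) F293998 F75131 F36073 (iv0 F31878) D42477 (iv0 F291898) (iv4 F286285)
theorem F336633 : act 1 n184351 = n103061 := d15_1 (iv0 F336632) F158328 (iv2 F158312)
theorem F336634 : act 7 n184351 = n103216 := d15_2 (iv0 F158314) (iv0 F336632) F158461
theorem F336635 : act 5 n103216 = n93098 := d13_1 F336634 F294653 D184351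
theorem E97024 : n155802 = n47871 := (c19_20 (iv1 F158463) F336635 (iv4 D93098) F68447 (iv1 F293214) (iv5 D10721) (iv4 F17245) (iv3 F31666) F66016 D20053 (iv4 F292855) (iv3 F136966) F335385 (iv5 D65522) (iv4 D30707) D30706 (iv1 F111291) D50430 F323325 D155802)
theorem E97025 : n103318 = n74116 := ((D103318).symm.trans (sb E97024 (iv3 D155802)))
theorem F336636 : act 3 n74116 = n47871 := (sb E97025 (iv3 D103318))
theorem E97026 : n155778 = n93349 := ((c6_3 (iv5 F324691) F336636 (iv5 F294124) (iv3 D155778))).symm
theorem F336637 : act 3 n93349 = n74107 := (sb E97026 (iv3 D155778))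
theorem F336638 : act 3 n103061 = n155806 := d8_3 (iv7 D155806) F336636 (iv7 F158328)
theorem F336639 : act 2 n155807 = n103359 := d0_3 F336638 F244808 D155807 (iv3 D103359) (iv2 F158327)
theorem F336640 : act 4 n155806 = n109282 := d5_2 D103061 F336638 F169300 (iv4 F331305) F139573
theorem E97027 : n155806 = n120052 := (c20_10 F321638 (iv1 D49754) (iv4 F78618) (iv3 F335389) (iv1 F329791) (iv3 F328602) F294885 F294025 D103061 F336638 (iv1 F189628))
theorem F336641 : act 2 n120052 = n74117 := (sb E97027 F244808)
theorem F336642 : act 3 n120052 = n103061 := (sb E97027 (iv3 F336638))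
theorem F336643 : act 4 n120052 = n109282 := (sb E97027 F336640)
theorem F336644 : act 7 n120052 = n74116 := (sb E97027 (iv7 D155806))
theorem F336645 : act 0 n93089 = n98079 := d19_16 (iv1 F84022) (iv5 F169301) (iv4 F336643) F336642 (iv1 F336633) (iv5 D184351) F134920 F292956 (iv1 F292938) F35160 (iv4 F35149) (iv3 F65014) (iv1 F66028) (iv5 F291148) F294644 D93089 F329764 (iv4 D65403) (iv3 F111300)
theorem E97028 : n98428 = n89546 := (c17_9 F336645 F329764 F329609 (iv5 D88036) F62335 (iv5 F329717) (iv0 F329820) (iv5 D98429) D98428 (iv4 F294640))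
theorem F336646 : act 0 n89546 = n46039 := (sb E97028 (iv1 D98428))
theorem E97029 : n183864 = n99867 := ((c21_1 D99867 (iv1 D183864) (iv5 F137187) (iv6 F294642) F336645 (iv6 D98079) D98078 (iv1 F290066) (iv5 D185114) (iv6 D88229) F289619)).symm
theorem F336647 : act 0 n99867 = n87707 := (sb E97029 (iv1 D183864))
theorem F336648 : act 1 n99867 = n88261 := (sb E97029 F285679)
theorem F336649 : act 1 n93089 = n139349 := d15_1 (iv0 F336645) F222562 (iv2 F329763)
theorem F336650 : act 2 n139589 = n93089 := d15_3 F336649 F222563 (iv7 F222728)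
theorem E97030 : n138649 = n122381 := (c21_6 D139349 (iv1 F336649) F294641 F335382 (iv1 F172407) D138649 (iv5 D122381) (iv1 D56701) D56702 (iv6 F135040) (iv1 F329610))
theorem F336651 : act 4 n122381 = n65103 := (sb E97030 F221814)
theorem F336652 : act 6 n122381 = n65102 := (sb E97030 (iv6 D138649))
theorem E97031 : n171035 = n111149 := ((c3_2 F336652 (iv2 F172393) (iv6 D171035) (iv2 F195797))).symm
theorem F336653 : act 6 n111149 = n81979 := (sb E97031 (iv6 D171035))
theorem E97032 : n138648 = n124046 := (c12_2 F336652 D138648 (iv6 D124046) F196259 F299233 D122381)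
theorem F336654 : act 5 n124046 = n65102 := (sb E97032 (iv5 D138648))
theorem E97033 : n171031 = n116244 := ((c14_5 (iv7 F195798) F336652 (iv7 F172391) F172390 (iv7 F181187) (iv6 D171031))).symm
theorem F336655 : act 6 n116244 = n81976 := (sb E97033 (iv6 D171031))
theorem E97034 : n120493 = n116278 := (c3_2 F336655 F301652 (iv6 D116278) (iv2 F181186))
theorem F336656 : act 0 n116278 = n57420 := (sb E97034 (iv1 F197091))
theorem F336657 : act 1 n116278 = n57404 := (sb E97034 F191933)
theorem F336658 : act 2 n116278 = n81976 := (sb E97034 (iv2 F301652))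
theorem F336659 : act 3 n116278 = n100822 := (sb E97034 F299227)
theorem F336660 : act 5 n116278 = n55468 := (sb E97034 (iv5 D120493))
theorem F336661 : act 7 n116278 = n81979 := (sb E97034 (iv7 F301655))
theorem E97035 : n138332 = n134953 := ((c21_2 F329890 D134953 (iv5 D138332) F100775 F329510 F62337 (iv5 D37544) D37542 D81976 (iv6 F336655) F181189)).symm
theorem F336662 : act 0 n134953 = n126879 := (sb E97035 F221532)
theorem F336663 : act 5 n134953 = n64977 := (sb E97035 (iv5 D138332))
theorem F336664 : act 6 n185145 = n134953 := d12_0 F336663 F100775 D65509 (iv6 F329819) F289707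
theorem E97036 : n111439 = n91181 := ((c21_9 (iv5 D63391) (iv1 F48153) D29963 D63424 D134953 (iv6 F336664) (iv5 F289707) F136830 (iv5 F295198) (iv6 D111439) (iv1 F98705))).symm
theorem F336665 : act 2 n91181 = n63467 := (sb E97036 F172950)
theorem F336666 : act 4 n91181 = n108447 := (sb E97036 F172951)
theorem F336667 : act 6 n91181 = n51398 := (sb E97036 (iv6 D111439))
theorem F336668 : act 7 n108447 = n98085 := d11_2 (iv7 F295199) F336666 (iv4 D98085)
theorem F336669 : act 5 n108447 = n109497 := d16_3 (iv4 F69204) (iv5 F295198) F336666 F171668 (iv5 F326761) (iv4 D98406) (iv5 D46033) D46034 F72617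
theorem F336670 : act 1 n108447 = n109022 := d18_6 D41524 F72620 (iv1 F72618) (iv4 F69204) (iv5 F295198) F336666 F326225 (iv0 D88932) (iv5 D41526)
theorem F336671 : act 4 n125578 = n98075 := d9_9 (iv5 F336669) (iv4 F336666) F295198 F69204 F326576 (iv4 F79252) F79253 (iv4 F92944) D125578 (iv5 D98075) F72303 D46033 D98406 F326761 (iv4 F171668)
theorem E97037 : n156590 = n125578 := ((c16_8 (iv4 F336666) F295198 F69204 F326576 (iv4 F79252) F79253 (iv4 F92944) D125578 (iv7 D156590) (iv2 F167678))).symm
theorem E97038 : n135046 = n98075 := (((F336671).symm.trans (sb E97037 F246256))).symm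
theorem F336672 : act 6 n125578 = n122341 := (sb E97037 (iv6 F329574))
theorem F336673 : act 7 n125578 = n74456 := (sb E97037 (iv7 D156590))
theorem F336674 : act 7 n98075 = n63467 := (sb E97038 (iv7 D135046))
theorem E97039 : n135043 = n98084 := ((c15_1 D98084 (iv0 D135043) (iv7 F336674) F151223)).symm
theorem F336675 : act 1 n98084 = n63467 := (sb E97039 (iv0 D135043))
theorem F336676 : act 5 n98085 = n110829 := d16_1 D98085 F171654 F80613 (iv4 F98617) (iv5 F326772) (iv4 F145028) F328112 (iv7 F336674) F151223
theorem F336677 : act 2 n125578 = n98085 := d2_3 F336676 F171653 D125578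
theorem E97040 : n156589 = n111425 := (c9_9 F336676 F171654 F80613 (iv4 F98617) (iv5 F326772) (iv4 F145028) F328112 (iv4 F111766) D156589 F172910 F327635 (iv4 D46047) (iv5 D21998) (iv4 F34392) D45803 D98085)
theorem F336678 : act 5 n111425 = n74456 := (sb E97040 (iv5 D156589))
theorem E97041 : n108737 = n74459 := (((iv6 F172914)).symm.trans (sb E97040 F246255))
theorem E97042 : n115752 = n50209 := (((iv1 F180107)).symm.trans (sb E97041 (iv1 D108737)))
theorem E97043 : n140540 = n111290 := ((F223681).symm.trans (sb E97041 (iv0 F172656)))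
theorem E97044 : n111488 = n108449 := ((((iv2 F167680)).symm.trans (sb E97041 F173004))).symm
theorem E97045 : n156596 = n65896 := ((D156596).symm.trans (sb E97041 (iv4 F168691)))
theorem F336679 : act 6 n74459 = n111425 := (sb E97041 F172914)
theorem E97046 : n140538 = n110845 := ((F223679).symm.trans (sb E97041 F171703))
theorem F336680 : act 1 n50209 = n74459 := (sb E97042 F180107)
theorem E97047 : n65958 = n51423 := ((((iv2 F81195)).symm.trans (sb E97042 F180106))).symm
theorem E97048 : n108738 = n53378 := ((D108738).symm.trans (sb E97042 (iv5 D115752)))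
theorem E97049 : n141925 = n24488 := ((((iv6 D50209)).symm.trans (sb E97042 (iv6 F224969)))).symm
theorem F336681 : act 0 n111290 = n74459 := (sb E97043 (iv1 F223681))
theorem F336682 : act 5 n111290 = n65959 := (sb E97043 F223680)
theorem F336683 : act 1 n108449 = n51421 := (sb E97044 (iv0 D111488))
theorem F336684 : act 4 n108449 = n113572 := (sb E97044 F176725)
theorem F336685 : act 6 n108449 = n109497 := (sb E97044 (iv6 F173007))
theorem F336686 : act 7 n108449 = n66017 := (sb E97044 F173006)
theorem F336687 : act 4 n65896 = n74459 := (sb E97045 (iv4 D156596))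
theorem F336688 : act 5 n110845 = n74460 := (sb E97046 F223678)
theorem F336689 : act 7 n110845 = n74459 := (sb E97046 (iv7 F223679))
theorem F336690 : act 1 n51423 = n108449 := (sb E97047 (iv0 F167681))
theorem E97050 : n140532 = n111492 := (((D111492).symm.trans (sb E97047 (iv3 F223675)))).symm
theorem E97052 : n111493 = n30864 := ((D111493).symm.trans (sb E97047 (iv5 D65958)))
theorem E97053 : n140536 = n50145 := (((F81196).symm.trans (sb E97047 (iv6 F223677)))).symm
theorem F336691 : act 5 n53378 = n50209 := (sb E97048 (iv5 D108738))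
theorem E97054 : n115753 = n111490 := ((D115753).symm.trans (sb E97048 (iv7 F173010)))
theorem E97055 : n66534 = n50208 := (((D50208).symm.trans (sb E97049 (iv5 D141925)))).symm
theorem F336692 : act 5 n111492 = n65954 := (sb E97050 (iv5 D140532))
theorem F336693 : act 5 n30864 = n51423 := (sb E97052 (iv5 D111493))
theorem E97056 : n65955 = n50352 := ((((iv5 F79732)).symm.trans (sb E97053 (iv5 D140536)))).symm
theorem F336694 : act 0 n111490 = n65940 := (sb E97054 (iv1 F180111))
theorem F336695 : act 1 n111490 = n65587 := (sb E97054 F180112)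
theorem F336696 : act 2 n111490 = n65959 := (sb E97054 F180108)
theorem F336697 : act 4 n111490 = n108708 := (sb E97054 F180109)
theorem F336698 : act 6 n111490 = n65046 := (sb E97054 F180110)
theorem F336699 : act 7 n111490 = n53378 := (sb E97054 (iv7 D115753))
theorem E97059 : n141922 = n108734 := ((((iv3 F168687)).symm.trans (sb E97055 (iv3 F224966)))).symm
theorem E97060 : n108753 = n30853 := (((F79562).symm.trans (sb E97055 (iv4 F168699)))).symm
theorem E97061 : n108736 = n31054 := ((D108736).symm.trans (sb E97055 (iv6 D66534)))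
theorem E97062 : n141926 = n50353 := ((((iv7 F79737)).symm.trans (sb E97055 D141926))).symm
theorem E97065 : n140529 = n109061 := (((D109061).symm.trans (sb E97056 (iv3 F223674)))).symm
theorem E97066 : n108942 = n53369 := ((((iv4 F84195)).symm.trans (sb E97056 (iv4 F168949)))).symm
theorem E97067 : n109062 = n30863 := ((D109062).symm.trans (sb E97056 (iv6 D65955)))
theorem E97068 : n140537 = n50202 := ((((iv7 F79735)).symm.trans (sb E97056 D140537))).symm
theorem F336700 : act 6 n108734 = n66533 := (sb E97059 (iv6 D141922))
theorem E97069 : n65931 = n50214 := ((D65931).symm.trans (sb E97060 (iv6 D108753)))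
theorem F336701 : act 6 n31054 = n50208 := (sb E97061 (iv6 D108736))
theorem E97070 : n140510 = n109064 := (((D109064).symm.trans (sb E97062 F224971))).symm
theorem F336702 : act 6 n109061 = n65953 := (sb E97065 (iv6 D140529))
theorem E97071 : n115734 = n50297 := ((D115734).symm.trans (sb E97066 (iv6 D108942)))
theorem F336703 : act 6 n30863 = n50352 := (sb E97067 (iv6 D109062))
theorem E97072 : n141935 = n108723 := (((D108723).symm.trans (sb E97068 (iv6 F224988)))).symm
theorem E97075 : n140468 = n108751 := ((((iv3 F168697)).symm.trans (sb E97069 (iv3 F223643)))).symm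
theorem E97076 : n140475 = n24491 := ((((iv5 D50214)).symm.trans (sb E97069 D140475))).symm
theorem F336704 : act 6 n50214 = n30853 := (sb E97069 (iv6 D65931))
theorem F336705 : act 0 n109064 = n141933 := (sb E97070 (iv1 F224984))
theorem F336706 : act 1 n109064 = n141932 := (sb E97070 F224989)
theorem F336707 : act 7 n109064 = n65947 := (sb E97070 (iv7 D140510))
theorem F336708 : act 6 n50297 = n53369 := (sb E97071 (iv6 D115734))
theorem F336711 : act 7 n108723 = n66536 := (sb E97072 (iv7 D141935))
theorem F336712 : act 6 n108751 = n65929 := (sb E97075 (iv6 D140468))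
theorem E97078 : n65934 = n50215 := (((D50215).symm.trans (sb E97076 F223646))).symm
theorem E97079 : n140482 = n51327 := (((F94230).symm.trans (sb E97078 D140482))).symm
theorem E97080 : n108458 = n51420 := (((F94231).symm.trans (sb E97078 (iv0 F167693)))).symm
theorem E97081 : n115737 = n51418 := ((((iv2 F81185)).symm.trans (sb E97078 (iv2 F180067)))).symm
theorem E97082 : n140471 = n108752 := ((((iv3 F168698)).symm.trans (sb E97078 (iv3 F223644)))).symm
theorem E97084 : n108754 = n30854 := ((D108754).symm.trans (sb E97078 (iv5 D65934)))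
theorem E97086 : n111288 = n108554 := ((D111288).symm.trans (sb E97079 F223647))
theorem E97087 : n111289 = n108553 := ((D111289).symm.trans (sb E97079 (iv7 F223648)))
theorem E97088 : n111487 = n50081 := (((iv5 F173003)).symm.trans (sb E97080 (iv5 D108458)))
theorem E97089 : n111483 = n53370 := ((D111483).symm.trans (sb E97081 (iv5 D115737)))
theorem F336713 : act 5 n108752 = n65930 := (sb E97082 (iv5 D140471))
theorem F336714 : act 5 n30854 = n50215 := (sb E97084 (iv5 D108754))
theorem E97090 : n111480 = n65935 := (((D65935).symm.trans (sb E97084 (iv7 F172994)))).symm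
theorem E97091 : n108459 = n51419 := ((F167878).symm.trans (sb E97086 F172646))
theorem F336715 : act 5 n108554 = n51327 := (sb E97086 (iv5 D111288))
theorem F336716 : act 0 n108553 = n51418 := (sb E97087 (iv1 F172650))
theorem F336717 : act 1 n108553 = n51417 := (sb E97087 F172651)
theorem F336718 : act 2 n108553 = n51420 := (sb E97087 F172647)
theorem F336719 : act 4 n108553 = n51329 := (sb E97087 F172648)
theorem F336720 : act 6 n108553 = n51385 := (sb E97087 F172649)
theorem F336721 : act 7 n108553 = n51327 := (sb E97087 (iv7 D111289))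
theorem F336722 : act 5 n50081 = n51420 := (sb E97088 F173003)
theorem F336723 : act 5 n53370 = n51418 := (sb E97089 (iv5 D111483))
theorem F336724 : act 5 n65935 = n51417 := (sb E97090 (iv5 D111480))
theorem E97092 : n111484 = n74465 := ((D111484).symm.trans (sb E97091 (iv1 F167695)))
theorem E97093 : n111485 = n74462 := ((D111485).symm.trans (sb E97091 F167696))
theorem F336725 : act 2 n51419 = n108554 := (sb E97091 (iv2 F167878))
theorem E97094 : n111486 = n63370 := ((D111486).symm.trans (sb E97091 F167694))
theorem E97095 : n111476 = n108562 := (((iv6 F172984)).symm.trans (sb E97091 (iv6 F167897)))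
theorem F336726 : act 7 n51419 = n50081 := (sb E97091 (iv7 D108459))
theorem F336727 : act 1 n74465 = n51419 := (sb E97092 (iv0 D111484))
theorem E97096 : n156603 = n108957 := ((D156603).symm.trans (sb E97092 F173002))
theorem F336728 : act 0 n74462 = n51419 := (sb E97093 (iv1 D111485))
theorem F336729 : act 4 n63370 = n51419 := (sb E97094 (iv4 D111486))
theorem F336730 : act 5 n108562 = n51416 := (sb E97095 (iv5 D111476))
theorem F336731 : act 6 n108562 = n51419 := (sb E97095 F172984)
theorem E97097 : n156600 = n140478 := (((iv1 F246285)).symm.trans (sb E97096 (iv1 F246293)))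
theorem E97098 : n140481 = n111778 := (((F202895).symm.trans (sb E97096 F246292))).symm
theorem F336732 : act 5 n108957 = n74465 := (sb E97096 (iv5 D156603))
theorem E97099 : n141999 = n111586 := ((((iv7 F173126)).symm.trans (sb E97096 F246291))).symm
theorem F336733 : act 1 n140478 = n108957 := (sb E97097 F246285)
theorem F336734 : act 2 n140478 = n142000 := (sb E97097 F246282)
theorem F336735 : act 4 n140478 = n74463 := (sb E97097 (iv4 D156600))
theorem F336736 : act 6 n140478 = n138644 := (sb E97097 F246283)
theorem F336737 : act 7 n140478 = n109234 := (sb E97097 F246284)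
theorem F336738 : act 1 n111778 = n156599 := (sb E97098 (iv0 F246281))
theorem F336739 : act 5 n111778 = n65933 := (sb E97098 (iv5 D140481))
theorem F336740 : act 2 n111586 = n156599 := (sb E97099 (iv2 F246279))
theorem F336741 : act 5 n111586 = n66581 := (sb E97099 (iv5 D141999))
theorem E97100 : n111729 = n81845 := (c12_6 (iv6 F151228) F336676 (iv6 D110829) F80608 D51516 D111729)
theorem E97101 : n159130 = n51516 := (((iv5 F250546)).symm.trans (sb E97100 (iv5 D111729)))
theorem E97102 : n111727 = n85906 := ((D111727).symm.trans (sb E97101 F250548))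
theorem E97103 : n111728 = n85873 := ((D111728).symm.trans (sb E97101 F250549))
theorem E97104 : n110850 = n76070 := (((iv4 F171707)).symm.trans (sb E97101 (iv4 D159130)))
theorem F336742 : act 5 n51516 = n81845 := (sb E97101 F250546)
theorem E97105 : n111730 = n82017 := ((D111730).symm.trans (sb E97101 F250547))
theorem F336743 : act 1 n85906 = n51516 := (sb E97102 (iv0 D111727))
theorem F336744 : act 0 n85873 = n51516 := (sb E97103 (iv1 D111728))
theorem E97106 : n126778 = n57741 := (((F301456).symm.trans (sb E97104 (iv2 F204030)))).symm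
theorem F336745 : act 4 n76070 = n51516 := (sb E97104 F171707)
theorem E97107 : n159131 = n51111 := ((D159131).symm.trans (sb E97104 (iv6 D110850)))
theorem F336746 : act 7 n82017 = n51516 := (sb E97105 (iv7 D111730))
theorem E97108 : n123940 = n111353 := ((D123940).symm.trans (sb E97106 F204031))
theorem E97109 : n123941 = n59491 := ((D123941).symm.trans (sb E97106 (iv6 D126778)))
theorem F336747 : act 6 n51111 = n76070 := (sb E97107 (iv6 D159131))
theorem F336748 : act 0 n111353 = n57822 := (sb E97108 F198369)
theorem F336749 : act 1 n111353 = n57858 := (sb E97108 F198370)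
theorem F336750 : act 4 n111353 = n57741 := (sb E97108 (iv4 D123940))
theorem F336751 : act 7 n111353 = n122363 := (sb E97108 (iv7 F299261))
theorem F336752 : act 6 n59491 = n57741 := (sb E97109 (iv6 D123941))
theorem F336753 : act 0 n112325 = n98085 := d17_2 F163207 D112325 F336676 F171654 F80613 (iv0 F168463) F95545 (iv0 F168461) F163204
theorem F336754 : act 0 n109099 = n98081 := d17_0 (iv5 D98081) (iv1 D45802) D45803 D98085 F336676 F171656 (iv5 F169086) (iv0 D109097) D109099
theorem F336755 : act 4 n109016 = n98084 := d18_1 (iv1 F172908) (iv1 D98084) D98085 F336676 F171654 (iv0 F168003) D110454 F170839 (iv5 F172907)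
theorem F336756 : act 4 n90230 = n109098 := d17_4 F295152 (iv5 D82029) (iv1 F294934) (iv5 F294985) (iv5 F169087) (iv0 F171655) (iv5 F336676) (iv0 F336753) F326855
theorem E97110 : n185114 = n109099 := ((c18_4 (iv1 F144529) F336756 (iv1 D109098) D109099 (iv5 D185114) (iv4 F153739) (iv0 F289775) F294274 F68897 D93765)).symm
theorem F336757 : act 1 n109099 = n98078 := (sb E97110 F290066)
theorem F336758 : act 2 n109099 = n88236 := (sb E97110 F287482)
theorem F336759 : act 5 n109099 = n88229 := (sb E97110 (iv5 D185114))
theorem F336760 : act 5 n90092 = n109033 := d17_1 (iv1 F138490) (iv1 F169040) F328517 (iv4 F295334) D98081 (iv0 F336754) F336759 (iv0 F294418) F140213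
theorem F336761 : act 3 n109033 = n182415 := d6_1 F336760 (iv5 D182415) (iv3 F138487)
theorem F336762 : act 4 n108646 = n90228 := d9_13 F336760 F169037 F79721 (iv4 F79710) (iv5 F327465) (iv4 D93768) (iv5 D43832) (iv4 F61571) F327968 F47969 (iv5 F38417) (iv4 F79491) D108646 (iv5 D90228) (iv4 F138488)
theorem F336763 : act 6 n115274 = n101404 := d12_4 (iv6 F294260) F336760 F169038 (iv5 F331020) (iv5 D101404)
theorem F336764 : act 5 n110788 = n102549 := d18_9 (iv1 F294607) (iv4 D93757) (iv1 F68892) (iv4 F138488) F336760 F169037 F79725 D63015 F171509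
theorem F336765 : act 0 n182722 = n89495 := d21_4 F336760 (iv1 F169040) F328517 D182722 (iv6 F294642) F294641 F335378 F329834 F294424 (iv1 F138490)
theorem E97111 : n183863 = n102371 := (c21_2 F137187 D183863 (iv5 D102371) (iv6 F289654) F289609 (iv6 F294260) F336760 (iv1 F169040) F328517 D182722 F336765)
theorem F336766 : act 0 n102371 = n88261 := (sb E97111 (iv1 F285675))
theorem F336767 : act 1 n102371 = n87707 := (sb E97111 (iv0 D183863))
theorem F336768 : act 4 n185215 = n122401 := d17_4 D47499 D102371 F336766 D185215 F195850 F289741 (iv5 D47521) (iv0 D22838) (iv4 F35394)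
theorem E97112 : n185214 = n177895 := (c18_2 F336766 D185214 (iv1 D177895) (iv4 D84690) (iv5 D39117) (iv4 F34947) (iv0 F289718) F73663 F74674 D102371)
theorem F336769 : act 2 n177895 = n88262 := (sb E97112 F287533)
theorem F336770 : act 4 n177895 = n88261 := (sb E97112 (iv4 D185214))
theorem F336771 : act 6 n185215 = n180883 := d21_3 D102371 F336766 D185215 (iv1 F289528) F289536 D182176 F335674 F133506 (iv6 D47503) D47499
theorem E97113 : n120401 = n89249 := (c21_2 F299000 (iv1 F191807) (iv5 F140523) F140524 (iv1 F289610) F289654 D102371 F336766 D185215 F336771 (iv1 F289528))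
theorem F336772 : act 0 n89249 = n55428 := (sb E97113 (iv1 D120401))
theorem F336773 : act 1 n89249 = n57704 := (sb E97113 F191807)
theorem E97114 : n180883 = n122399 := (c17_9 (iv1 F89711) (iv5 F151815) (iv1 F289788) (iv5 D102666) (iv4 F140522) F140523 F336773 (iv5 F299000) F289528 (iv4 D122399))
theorem F336774 : act 0 n122399 = n89240 := (sb E97114 (iv1 F289528))
theorem F336775 : act 1 n122399 = n86395 := (sb E97114 (iv0 D180883))
theorem F336776 : act 6 n122399 = n185215 := (sb E97114 (iv6 F336771))
theorem F336777 : act 4 n120418 = n89249 := d18_7 (iv1 D89240) F335607 (iv1 D56722) (iv4 F58396) (iv5 F301277) (iv4 F87725) D120418 F336773 (iv5 F299000)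
theorem F336778 : act 4 n114943 = n89354 := d20_2 F179018 D114943 F303375 (iv1 F336773) (iv3 D89249) D89250 (iv1 F309399) F94829 (iv3 F108977) F206234
theorem E97115 : n151394 = n53033 := (c20_5 (iv4 F336777) (iv1 D120418) F87725 (iv3 F107860) D151394 D114933 F179018 D114943 F336778 F303375 (iv1 F336773))
theorem E97116 : n114932 = n71364 := ((D114932).symm.trans (sb E97115 (iv0 D151394)))
theorem F336779 : act 0 n71364 = n53033 := (sb E97116 (iv1 D114932))
theorem E97117 : n151552 = n151395 := (((D151395).symm.trans (sb E97116 F259194))).symm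
theorem F336780 : act 1 n151395 = n114931 := (sb E97117 F259193)
theorem F336781 : act 2 n151395 = n105470 := (sb E97117 F259191)
theorem F336782 : act 4 n151395 = n71443 := (sb E97117 (iv4 D151552))
theorem F336783 : act 7 n151395 = n114928 := (sb E97117 (iv7 F259192))
theorem F336784 : act 5 n182986 = n114931 := d18_9 (iv1 F336780) F336782 (iv1 D71443) F307282 (iv5 D41471) F31260 D41470 D88827 (iv0 F335651)
theorem F336785 : act 3 n114931 = n146013 := d6_1 F336784 F319321 (iv3 F284579)
theorem F336786 : act 7 n114931 = n118647 := d13_2 D182986 F336784 F305317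
theorem F336787 : act 4 n159663 = n186499 := d17_4 D53030 D114921 F259155 (iv5 F251526) (iv5 D186499) (iv0 F335651) F336784 (iv0 D114931) (iv4 D53033)
theorem F336788 : act 6 n186499 = n159661 := d10_2 D159663 F336787 (iv4 D159661)
theorem E97118 : n159906 = n159661 := (c21_5 D34913 (iv1 F55268) (iv5 F55420) D76552 D159906 (iv6 F336788) (iv5 D186499) F335616 (iv5 F302945) (iv6 D71364) F52198)
theorem F336789 : act 0 n159661 = n123230 := (sb E97118 (iv1 F252176))
theorem F336790 : act 1 n159661 = n76552 := (sb E97118 (iv0 D159906))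
theorem E97119 : n159661 = n83755 := ((c19_20 F336789 F329496 (iv4 F211759) (iv3 D132187) (iv1 F96624) (iv5 F96685) (iv4 D62041) (iv3 F96675) D132233 F212269 D132541 F212759 (iv1 F208630) F312962 (iv4 D83732) (iv3 D38588) (iv1 D18376) D18377 D38594 D83755)).symm
theorem E97120 : n175398 = n123230 := ((D175398).symm.trans (sb E97119 F336789))
theorem E97121 : n175399 = n76552 := ((D175399).symm.trans (sb E97119 F336790))
theorem E97122 : n76387 = n38686 := (((F128793).symm.trans (sb E97119 (iv4 D159661)))).symm
theorem E97123 : n186499 = n175282 := ((((iv6 F274291)).symm.trans (sb E97119 (iv6 F336788)))).symm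
theorem F336791 : act 1 n123230 = n83755 := (sb E97120 (iv0 D175398))
theorem F336792 : act 0 n76552 = n83755 := (sb E97121 (iv1 D175399))
theorem E97124 : n83996 = n71456 := ((D83996).symm.trans (sb E97122 (iv1 F114510)))
theorem E97125 : n83997 = n34902 := ((D83997).symm.trans (sb E97122 (iv0 D76387)))
theorem E97128 : n159662 = n83999 := (((D83999).symm.trans (sb E97122 D159662))).symm
theorem E97129 : n159663 = n83869 := ((((iv6 F128875)).symm.trans (sb E97122 D159663))).symm
theorem F336793 : act 5 n175282 = n88827 := (sb E97123 (iv5 D186499))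
theorem E97131 : n76388 = n76376 := (((iv1 F114505)).symm.trans (sb E97124 F327296))
theorem F336794 : act 1 n71456 = n38686 := (sb E97124 (iv0 D83996))
theorem F336795 : act 0 n34902 = n38686 := (sb E97125 (iv1 D83997))
theorem E97142 : n159743 = n115186 := ((((iv1 F321107)).symm.trans (sb E97128 F251688))).symm
theorem E97143 : n175677 = n146434 := ((D175677).symm.trans (sb E97129 F251526))
theorem F336796 : act 0 n76376 = n34902 := (sb E97131 (iv1 D76388))
theorem F336797 : act 1 n76376 = n71456 := (sb E97131 F114505)
theorem E97146 : n159667 = n115129 := ((((iv5 F327306)).symm.trans (sb E97131 D159667))).symm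
theorem F336798 : act 5 n115186 = n76421 := (sb E97142 (iv5 D159743))
theorem F336799 : act 6 n115186 = n92778 := (sb E97142 F251687)
theorem F336800 : act 3 n146434 = n83870 := (sb E97143 F275055)
theorem F336801 : act 5 n146434 = n83869 := (sb E97143 (iv5 D175677))
theorem F336802 : act 6 n115129 = n105334 := (sb E97146 (iv6 F251528))
theorem F336803 : act 3 n105334 = n159644 := d7_1 F336802 (iv6 D159644) (iv3 F327305)
theorem F336804 : act 7 n105334 = n135606 := d14_2 F208444 F336802 (iv6 D135606) F208622 (iv6 F326617)
theorem F336805 : act 2 n105364 = n146434 := d2_3 F336801 (iv2 F327771) (iv5 F233477)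
theorem F336806 : act 6 n135601 = n146434 := d12_0 F336801 F128875 D83999 F325798 D135601
theorem F336807 : act 4 n175675 = n186489 := d17_9 (iv1 F289357) (iv5 D88828) (iv1 D41470) D41471 (iv4 F307282) (iv5 F104869) D146434 F336801 D175675
theorem F336808 : act 6 n159748 = n175675 := d21_9 (iv5 F336801) (iv1 D146434) F104869 (iv6 D33056) F30294 D16934 D34917 D76422 D159748 (iv1 D175675)
theorem F336809 : act 0 n114939 = n135612 := d21_4 F104869 (iv1 F259135) D53034 D114939 (iv6 D135612) (iv5 D63766) D63763 D135601 F336806 (iv1 D146434)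
theorem F336810 : act 7 n146434 = n113969 := d4_2 (iv7 F193486) F336805 (iv2 D113969)
theorem E97148 : n146433 = n52607 := (c15_2 (iv0 F259155) F259159 (iv7 F193486) F336805)
theorem E97149 : n114921 = n113967 := (((D113967).symm.trans (sb E97148 (iv1 F259159)))).symm
theorem E97150 : n113968 = n68656 := ((D113968).symm.trans (sb E97148 (iv0 D146433)))
theorem F336811 : act 0 n113967 = n146434 := (sb E97149 F259155)
theorem F336812 : act 2 n113967 = n146435 := (sb E97149 (iv2 F259157))
theorem F336813 : act 3 n113967 = n63783 := (sb E97149 F335974)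
theorem F336814 : act 4 n113967 = n68656 := (sb E97149 F335938)
theorem F336815 : act 5 n113967 = n53030 := (sb E97149 (iv5 D114921))
theorem F336816 : act 6 n113967 = n68655 := (sb E97149 (iv6 F335939))
theorem F336817 : act 7 n113967 = n117329 := (sb E97149 F259156)
theorem F336818 : act 0 n68656 = n52607 := (sb E97150 (iv1 D113968))
theorem F336819 : act 4 n113971 = n186487 := d17_4 (iv1 D71443) (iv5 F104869) F336818 D113971 (iv5 D186487) F335615 (iv5 F302945) D151395 F336782
theorem F336820 : act 3 n113970 = n106255 := d20_3 F336814 F336818 D113970 (iv1 D106255) F77515 (iv4 F77527) (iv1 F177633) (iv4 D52608) D52607 D113967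
theorem E97151 : n159622 = n159613 := (c21_7 (iv5 D54072) F41484 D31946 D68656 F336818 D113972 (iv5 F333239) (iv1 D159613) F114477 (iv6 D68659) (iv1 F85322))
theorem F336821 : act 2 n159613 = n76367 := (sb E97151 F251449)
theorem F336822 : act 3 n159613 = n79102 := (sb E97151 F333238)
theorem F336823 : act 5 n159613 = n113972 := (sb E97151 F333239)
theorem F336824 : act 7 n159613 = n76366 := (sb E97151 (iv7 D159622))
theorem E97152 : n170396 = n97238 := ((c11_2 F336824 F230422 F267871 (iv4 F283768))).symm
theorem E97153 : n81702 = n45434 := ((((iv3 D97238)).symm.trans (sb E97152 (iv3 D170396)))).symm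
theorem F336825 : act 7 n97238 = n81708 := (sb E97152 F267871)
theorem E97154 : n170394 = n37346 := ((((iv1 F71701)).symm.trans (sb E97153 D170394))).symm
theorem E97156 : n97237 = n37343 := ((D97237).symm.trans (sb E97153 (iv2 D81702)))
theorem E97157 : n170397 = n97239 := (((D97239).symm.trans (sb E97153 D170397))).symm
theorem E97158 : n170398 = n97240 := (((D97240).symm.trans (sb E97153 D170398))).symm
theorem E97159 : n170399 = n59945 := ((((iv6 F330073)).symm.trans (sb E97153 D170399))).symm
theorem E97160 : n97242 = n37344 := ((D97242).symm.trans (sb E97153 (iv7 F125629)))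
theorem E97161 : n81707 = n45435 := ((((iv1 F71695)).symm.trans (sb E97154 (iv1 F267869)))).symm
theorem F336826 : act 2 n37343 = n45434 := (sb E97156 (iv2 D97237))
theorem F336827 : act 2 n97239 = n81704 := (sb E97157 F267872)
theorem F336828 : act 7 n97239 = n81709 := (sb E97157 F267873)
theorem F336829 : act 2 n97240 = n81705 := (sb E97158 F267874)
theorem F336830 : act 7 n97240 = n81710 := (sb E97158 F267875)
theorem E97162 : n127683 = n81706 := (((iv2 F205279)).symm.trans (sb E97159 F267876))
theorem F336831 : act 7 n37344 = n45434 := (sb E97160 (iv7 D97242))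
theorem F336832 : act 2 n45435 = n37344 := (sb E97161 F125630)
theorem E97163 : n170406 = n97243 := (((D97243).symm.trans (sb E97161 (iv3 F267879)))).symm
theorem E97164 : n170412 = n96247 := ((((iv4 F335826)).symm.trans (sb E97161 (iv4 F267883)))).symm
theorem E97165 : n170417 = n97245 := (((D97245).symm.trans (sb E97161 (iv5 F267888)))).symm
theorem E97166 : n170421 = n97246 := (((D97246).symm.trans (sb E97161 D170421))).symm
theorem F336833 : act 7 n45435 = n37343 := (sb E97161 (iv7 D81707))
theorem F336834 : act 2 n81706 = n59945 := (sb E97162 F205279)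
theorem E97167 : n139923 = n103709 := (((F159155).symm.trans (sb E97162 F330076))).symm
theorem E97168 : n170420 = n59944 := ((D170420).symm.trans (sb E97162 (iv7 D127683)))
theorem F336835 : act 7 n97243 = n81703 := (sb E97163 (iv7 D170406))
theorem F336836 : act 2 n96247 = n81709 := (sb E97164 F267882)
theorem F336837 : act 7 n96247 = n81704 := (sb E97164 (iv7 D170412))
theorem F336838 : act 2 n97245 = n81710 := (sb E97165 F267887)
theorem F336839 : act 7 n97245 = n81705 := (sb E97165 (iv7 D170417))
theorem F336840 : act 2 n97246 = n81711 := (sb E97166 F267890)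
theorem F336841 : act 2 n103709 = n65694 := (sb E97167 F223150)
theorem F336842 : act 4 n103709 = n107449 := (sb E97167 F223151)
theorem F336843 : act 6 n103709 = n65692 := (sb E97167 (iv6 D139923))
theorem F336844 : act 7 n103709 = n84423 := (sb E97167 F330069)
theorem F336845 : act 7 n59944 = n81706 := (sb E97168 (iv7 D170420))
theorem E97169 : n159618 = n159612 := (c15_4 (iv0 D159612) D159613 F336824 D159618)
theorem F336846 : act 2 n159612 = n76366 := (sb E97169 (iv2 D159618))
theorem F336847 : act 5 n159612 = n135742 := (sb E97169 F333494)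
theorem F336848 : act 7 n159612 = n76367 := (sb E97169 (iv7 F251448))
theorem F336849 : act 4 n141475 = n159612 := d11_3 F336848 D159624 F333231
theorem F336850 : act 5 n134045 = n141472 := d16_3 F333507 (iv5 F218209) (iv4 F218207) F224529 D141475 F336849 F336847 F333493 (iv2 F333506)
theorem E97170 : n134306 = n134045 := (c2_4 F336850 (iv2 F333158) (iv5 D134309) (iv2 F216322))
theorem F336851 : act 2 n134045 = n63099 := (sb E97170 F216322)
theorem F336852 : act 7 n134045 = n63098 := (sb E97170 (iv7 D134306))
theorem F336853 : act 2 n134308 = n135710 := d16_9 (iv4 F218207) F336850 F224529 D141475 F336849 F336847 (iv4 D135742) F218273 (iv7 F333492)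
theorem E97171 : n170424 = n159624 := ((c16_9 (iv4 F283768) F336823 F333507 (iv5 F218209) (iv4 F218207) F336850 F224529 D141475 (iv7 F333231) (iv2 D170424))).symm
theorem F336854 : act 2 n159624 = n81708 := (sb E97171 (iv2 D170424))
theorem E97172 : n170426 = n139954 := (c16_8 (iv4 F224529) (iv5 F336850) F218207 F218209 (iv4 F333507) (iv5 F336823) F283768 D170426 (iv7 D139954) (iv2 F181555))
theorem F336855 : act 3 n139954 = n81710 := (sb E97172 F267891)
theorem F336856 : act 5 n139954 = n81708 := (sb E97172 (iv5 D170426))
theorem E97173 : n134302 = n134046 := (c16_10 (iv4 F217966) (iv5 F218273) D135742 (iv5 F336847) (iv4 F336849) (iv5 D141475) (iv4 F224529) (iv5 F336850) F336852 D134302)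
theorem F336857 : act 2 n134046 = n63098 := (sb E97173 (iv2 D134302))
theorem F336858 : act 7 n134046 = n63099 := (sb E97173 (iv7 F216321))
theorem F336859 : act 2 n134303 = n135538 := d1_3 F217966 F336857 D134303
theorem F336860 : act 7 n135710 = n134303 := d4_0 F336859 (iv7 F333492) F336853
theorem E97174 : n141587 = n141473 := (c19_20 (iv1 F224535) F336856 (iv4 F283768) F336822 (iv1 D79102) (iv5 F82946) (iv4 F328852) (iv3 F206830) (iv1 F206834) D128717 F333054 (iv3 F307508) (iv1 F278759) (iv5 D178890) (iv4 D85290) (iv3 F199941) F120332 (iv5 D68732) (iv4 F131045) D141587)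
theorem F336861 : act 3 n141473 = n66410 := (sb E97174 (iv3 D141587))
theorem F336862 : act 7 n141473 = n127146 := (sb E97174 (iv7 F321569))
theorem F336863 : act 2 n139951 = n141473 := d4_3 F336862 (iv2 F221149) (iv7 F334139)
theorem F336864 : act 5 n146176 = n141473 := d13_3 F336862 F321568 (iv7 F229448)
theorem F336865 : act 6 n117972 = n141473 := d14_5 F336862 (iv6 D127146) (iv7 F102832) (iv6 F320782) (iv7 F185029)
theorem E97175 : n141474 = n137900 := ((c15_4 F224530 F224535 F336862 (iv2 F221149))).symm
theorem F336866 : act 0 n137900 = n66374 := (sb E97175 (iv1 D141474))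
theorem F336867 : act 1 n137900 = n139954 := (sb E97175 F224530)
theorem F336868 : act 0 n141475 = n149347 := d21_1 D141475 (iv5 D149347) (iv6 D70123) D70120 (iv6 F318764) F180358 F102535 D64813 D137900 F336866
theorem F336869 : act 4 n127480 = n114876 := d17_4 F336868 (iv5 D149347) D149346 F252901 F229785 (iv0 F333173) F333176 F251440 (iv4 F336849)
theorem F336870 : act 5 n173656 = n115098 := d18_4 D159612 (iv4 F336849) F336868 F335187 F179232 F99178 D135700 F333180 (iv5 F114477)
theorem F336871 : act 4 n176269 = n147405 := d20_6 (iv4 F336849) F336868 F335187 (iv3 D173656) (iv1 F129055) D176269 (iv1 F308165) F233432 (iv3 F114476) D159612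
theorem F336872 : act 3 n176050 = n159612 := d20_5 (iv4 D84067) (iv1 F113623) F113622 D83994 D176050 (iv4 F336849) F336868 F335187 (iv3 D173656) (iv1 F129055)
theorem E97176 : n170423 = n149347 := (c15_1 D170423 (iv0 F336868) (iv7 F333231) F336854)
theorem F336873 : act 0 n149347 = n81708 := (sb E97176 (iv1 D170423))
theorem F336874 : act 5 n115172 = n159911 := d18_9 (iv1 F335189) (iv4 F335187) F336873 (iv4 F283768) F336823 F333507 F99226 (iv4 F179253) F179333
theorem E97177 : n139993 = n118000 := (c21_5 D149347 F336873 (iv5 F336856) (iv6 F224509) (iv1 F224511) (iv6 D118000) F85786 (iv1 F50222) (iv5 F55732) D76757 F191342)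
theorem F336875 : act 0 n118000 = n65722 := (sb E97177 (iv1 D139993))
theorem E97178 : n155555 = n141466 := (((iv0 F332458)).symm.trans (sb E97177 F224511))
theorem F336876 : act 0 n141466 = n118000 := (sb E97178 F332458)
theorem E97179 : n139992 = n74004 := ((F224512).symm.trans (sb E97178 (iv0 D155555)))
theorem E97180 : n170020 = n122601 := (((iv5 F334134)).symm.trans (sb E97178 F332457))
theorem F336877 : act 0 n74004 = n141466 := (sb E97179 (iv1 F224512))
theorem E97181 : n155556 = n65722 := ((D155556).symm.trans (sb E97179 (iv0 D139992)))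
theorem F336878 : act 2 n122601 = n81548 := (sb E97180 (iv2 D170020))
theorem F336879 : act 5 n122601 = n141466 := (sb E97180 F334134)
theorem F336880 : act 7 n122601 = n81549 := (sb E97180 (iv7 F267458))
theorem F336881 : act 0 n65722 = n74004 := (sb E97181 (iv1 D155556))
theorem F336882 : act 2 n145804 = n170422 := d15_3 (iv0 D170422) (iv0 F336873) (iv7 F234778)
theorem E97182 : n170422 = n164234 := (c1_2 (iv4 F324707) F336882 F258865 F324715)
theorem F336883 : act 1 n164234 = n81708 := (sb E97182 (iv0 D170422))
theorem F336884 : act 2 n164234 = n145804 := (sb E97182 (iv2 F336882))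
theorem F336885 : act 5 n135711 = n143499 := d16_5 F258865 F326294 F83864 D63811 D135711 F314583 D149347 (iv7 F234778) (iv2 F336884)
theorem F336886 : act 1 n124711 = n134048 := d18_8 D134045 F218207 (iv1 D135710) D135711 F336885 F314583 (iv0 F191342) (iv4 F199531) (iv5 D134048)
theorem F336887 : act 1 n134311 = n124711 := d15_0 F336886 F216054 (iv2 F216325)
theorem F336888 : act 0 n124713 = n134232 := d20_7 (iv4 F100884) (iv1 D65090) (iv4 F98259) (iv3 F216053) (iv1 F336886) F199530 (iv4 F199534) (iv4 D134232) F98370 D63059
theorem E97183 : n173204 = n134232 := ((c21_8 D38131 F58970 (iv5 D38019) D38020 (iv1 F310293) D154167 F242284 F336888 (iv5 D173204) (iv6 D82885) (iv1 D38129))).symm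
theorem F336889 : act 2 n134232 = n83355 := (sb E97183 F271489)
theorem F336890 : act 3 n134232 = n84903 := (sb E97183 F271490)
theorem F336891 : act 5 n134232 = n82885 := (sb E97183 (iv5 D173204))
theorem F336892 : act 7 n134232 = n84148 := (sb E97183 F271491)
theorem E97184 : n173699 = n128222 := (c21_4 F336891 F155156 D83070 D173699 (iv1 D128222) (iv6 D60277) F46211 (iv1 F46170) (iv5 F92156) D124713 F336888)
theorem F336893 : act 3 n128222 = n83074 := (sb E97184 F272238)
theorem F336894 : act 5 n128222 = n132077 := (sb E97184 (iv5 F321347))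
theorem F336895 : act 6 n128222 = n83070 := (sb E97184 (iv6 D173699))
theorem F336896 : act 7 n128222 = n185827 := (sb E97184 F328224)
theorem F336897 : act 1 n124713 = n173694 := d15_1 (iv0 F336888) F272221 (iv2 F336889)
theorem F336898 : act 1 n173694 = n128191 := d15_1 F336897 (iv7 D128191) (iv2 F199533)
theorem F336899 : act 4 n174302 = n124714 := d18_5 (iv1 F128027) (iv4 F129154) (iv1 F323685) F323687 D174302 (iv0 D124714) (iv4 F199534) F336897 (iv5 D173694)
theorem F336900 : act 6 n124714 = n174315 := d10_2 (iv6 F273103) F336899 (iv4 D174315)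
theorem E97185 : n167589 = n128191 := ((c20_9 (iv4 F128953) (iv1 F128954) (iv4 D38681) D38680 F312328 (iv3 F273102) F336899 (iv1 F199540) (iv4 F206331) F263842 (iv1 F301081))).symm
theorem F336901 : act 3 n128191 = n80429 := (sb E97185 F263842)
theorem F336902 : act 5 n128191 = n80428 := (sb E97185 (iv5 D167589))
theorem F336903 : act 4 n141594 = n121466 := d20_2 F250320 (iv1 F313213) F311087 (iv1 F334097) F330253 F199534 D124714 (iv4 F336899) F273102 (iv1 F324710)
theorem F336904 : act 4 n131233 = n139862 := d1_2 F336903 F306879 (iv2 F224670)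
theorem F336905 : act 6 n121466 = n148663 := d10_2 (iv6 F313215) F336903 F233425
theorem F336906 : act 1 n121466 = n178909 := d18_6 D66856 F107425 (iv1 F50159) (iv4 F102323) (iv5 F224671) F336903 F278786 (iv0 F313195) (iv5 D66858)
theorem F336907 : act 5 n178909 = n134711 := d18_9 (iv1 F216722) F207537 F112511 (iv4 F209027) (iv5 F308410) (iv4 F323369) (iv0 F313212) F336903 F336906
theorem F336908 : act 3 n157035 = n178909 := d20_9 (iv4 F336903) F313212 F323369 (iv3 D38680) (iv1 D18400) (iv3 F29550) D38594 D83753 (iv4 F316072) (iv1 F336906)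
theorem F336909 : act 4 n146979 = n175389 := d5_4 (iv4 F316072) F336908 F278786 (iv3 F230369) (iv3 D175389)
theorem F336910 : act 6 n178907 = n157035 := d7_0 F336908 (iv6 D178909) (iv3 F278782)
theorem F336911 : act 5 n179910 = n156269 := d19_13 F87128 (iv5 F131654) (iv4 F278786) (iv3 F336908) F316070 (iv5 D85073) F60598 (iv3 D39753) (iv1 D18799) D18801 D39761 D85968 D179910 (iv4 F332266) (iv3 F314742) F314740 (iv5 F330635) F235350 F106751
theorem F336912 : act 0 n120816 = n178909 := d20_4 F108422 D120659 F334451 (iv3 F303107) (iv3 F336908) F316072 (iv1 F274190) F274186 (iv3 F327794) F252357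
theorem F336913 : act 4 n139712 = n130072 := d18_3 F336912 F278786 (iv1 F313193) (iv5 D130072) F185277 (iv0 D29203) (iv4 F46547) F305921 D120816
theorem E97186 : n175865 = n142636 := (c1_3 F336913 F311077 D175865 F225522)
theorem F336914 : act 4 n142636 = n83938 := (sb E97186 (iv4 D175865))
theorem F336915 : act 6 n130072 = n148657 := d10_2 (iv6 F313194) F336913 F233420
theorem E97187 : n173903 = n118554 := ((c20_4 (iv4 F336913) (iv1 F222888) (iv4 F313209) F217810 (iv1 D173903) F128220 D83162 F128221 (iv4 D83052) D83051 (iv1 F312786))).symm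
theorem F336916 : act 0 n118554 = n83161 := (sb E97187 (iv1 D173903))
theorem E97188 : n164630 = n159521 := (c20_3 F235983 (iv1 F120358) D164630 (iv3 F261862) F332549 (iv3 F134283) (iv4 F330757) F336916 D173904 F332639 (iv1 F259571))
theorem F336917 : act 2 n159521 = n150009 := (sb E97188 F259585)
theorem F336918 : act 4 n159521 = n79102 := (sb E97188 (iv4 D164630))
theorem F336919 : act 7 n159521 = n150006 := (sb E97188 F259586)
theorem F336920 : act 0 n132596 = n97109 := d21_4 (iv5 D83161) (iv1 F309974) D133683 F215114 (iv6 D97109) D97108 F149844 (iv5 F134281) (iv6 F330758) F336916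
theorem F336921 : act 3 n150006 = n97239 := d8_1 F336919 F336828 F261862
theorem E97189 : n164626 = n159520 := (c15_4 (iv0 D159520) D159521 F336919 (iv2 F259575))
theorem F336922 : act 2 n159520 = n150006 := (sb E97189 F259575)
theorem F336923 : act 4 n159520 = n79101 := (sb E97189 (iv4 D164626))
theorem F336924 : act 7 n159520 = n150009 := (sb E97189 F259576)
theorem F336925 : act 1 n96225 = n150009 := d15_1 (iv0 F335184) (iv7 F336924) F336922
theorem F336926 : act 1 n150009 = n159523 := d15_1 F336925 (iv7 D159523) (iv2 F148003)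
theorem F336927 : act 4 n113606 = n145461 := d18_1 (iv1 F177010) (iv1 D145461) F104369 (iv5 F83279) (iv4 F148004) F336925 (iv4 D150009) F120364 (iv5 F177007)
theorem F336928 : act 3 n134078 = n145461 := d20_5 F47935 (iv1 D29791) D29792 D62978 D134078 (iv4 F336927) (iv1 D113606) (iv4 F328466) (iv3 D28762) (iv1 F46381)
theorem F336929 : act 4 n128587 = n113755 := d20_6 (iv4 F215997) (iv1 F216001) D134125 (iv3 F216169) (iv1 F206829) (iv3 F206821) (iv1 F177010) F336927 (iv3 F336928) (iv1 F216088)
theorem F336930 : act 1 n159523 = n150006 := d15_1 F336926 (iv7 F336919) F336917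
theorem E97190 : n176051 = n150008 := ((c20_4 (iv4 F251261) (iv1 F336926) (iv4 D150009) D150008 (iv1 D176051) (iv3 D83994) (iv4 F113622) F113625 D83162 (iv3 F332634) (iv1 F177944))).symm
theorem F336931 : act 0 n150008 = n83994 := (sb E97190 (iv1 D176051))
theorem F336932 : act 4 n153955 = n114024 := d20_2 (iv4 F324635) D153955 (iv3 D114024) (iv1 F83143) (iv3 F114420) (iv4 F251261) (iv1 F336926) (iv4 D150009) D150008 F336931
theorem F336933 : act 3 n120115 = n153955 := d5_5 F336932 (iv3 D114024) (iv4 F177778) D55267 D120115
theorem F336934 : act 7 n159543 = n153955 := d11_0 F336932 (iv7 F177877) D159543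
theorem E97191 : n114105 = n114024 := ((c20_7 (iv4 F80939) F329100 F90329 (iv3 F114870) F189728 F336933 F336932 (iv1 F178096) (iv4 F198027) F198026 (iv1 F329642))).symm
theorem F336935 : act 0 n114024 = n114258 := (sb E97191 (iv1 F178096))
theorem F336936 : act 1 n114024 = n52672 := (sb E97191 (iv0 D114105))
theorem E97192 : n148691 = n148680 := ((c20_11 F313148 (iv1 F155390) (iv4 F311999) F86706 (iv1 F336936) (iv3 D114024) (iv4 F177778) (iv1 F56569) F56565 (iv3 F106042) (iv1 F233435))).symm
theorem F336937 : act 2 n148680 = n69684 := (sb E97192 F233452)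
theorem F336938 : act 3 n148680 = n148353 := (sb E97192 F313147)
theorem F336939 : act 4 n148680 = n70651 := (sb E97192 F313148)
theorem F336940 : act 6 n148680 = n105849 := (sb E97192 F313149)
theorem F336941 : act 7 n148680 = n69683 := (sb E97192 (iv7 D148691))
theorem F336942 : act 5 n114024 = n135246 := d21_8 (iv5 D130934) F97464 (iv5 F97465) (iv6 F325470) F85423 (iv6 F177708) (iv5 D114107) (iv1 F336936) F217437 (iv1 F209551)
theorem E97193 : n134462 = n90437 := (c21_2 F336942 (iv1 F217441) (iv5 F142438) (iv6 D92511) (iv1 D43284) (iv6 F67862) (iv5 D43276) (iv1 F32467) D25567 D52672 (iv1 F336936))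
theorem F336943 : act 0 n90437 = n63159 := (sb E97193 (iv1 D134462))
theorem F336944 : act 1 n90437 = n135246 := (sb E97193 F217441)
theorem F336945 : act 4 n90437 = n134055 := (sb E97193 (iv4 F216419))
theorem F336946 : act 6 n134055 = n90436 := d10_2 D90437 F336945 (iv4 D90436)
theorem F336947 : act 3 n90436 = n134058 := d7_1 F336946 (iv6 D134058) D134055
theorem F336948 : act 5 n134058 = n98373 := d6_2 (iv5 F290706) F336947 (iv3 D98373)
theorem F336949 : act 7 n134461 = n92739 := d15_2 F336944 F217439 F142999
theorem F336950 : act 2 n135245 = n134461 := d4_3 F336949 F142999 (iv7 F332262)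
theorem E97194 : n130695 = n114106 := (c21_1 (iv5 F209262) (iv1 D114106) D114107 F177708 F83239 F65307 (iv5 D19961) D19959 D42291 D90437 F336943)
theorem F336951 : act 2 n114106 = n76328 := (sb E97194 F332620)
theorem F336952 : act 3 n114106 = n61318 := (sb E97194 (iv3 D130695))
theorem F336953 : act 5 n114106 = n63159 := (sb E97194 F209262)
theorem F336954 : act 7 n114106 = n114255 := (sb E97194 (iv7 F332257))
theorem F336955 : act 2 n114255 = n114024 := d4_1 F336954 (iv7 F177877) (iv2 F336951)
theorem F336956 : act 4 n114106 = n153956 := d20_6 (iv4 D18401) D18399 D38676 (iv3 F318982) D61318 (iv3 F336952) (iv1 D153956) F324635 (iv3 D83994) (iv1 D38685)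
theorem F336957 : act 2 n153956 = n159543 := d1_1 F336956 (iv4 D159543) (iv2 F336951)
theorem F336958 : act 5 n129149 = n158911 := d19_5 (iv1 F336936) F336942 F217436 F171571 F207392 (iv4 D158911) F130906 (iv1 F85669) F309000 (iv4 F110528) (iv3 D62808) (iv1 F47773) (iv5 F96208) (iv4 F308806) (iv3 F92499) (iv1 F92503) D86010 (iv4 F311999) F86706
theorem E97195 : n158939 = n110793 := (c2_3 F336958 F250209 D158939 (iv2 F207389))
theorem F336959 : act 5 n110793 = n75851 := (sb E97195 (iv5 D158939))
theorem F336960 : act 3 n158911 = n143499 := d6_1 F336958 (iv5 F336885) F218205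
theorem F336961 : act 5 n134214 = n158914 := d9_8 F336958 (iv4 D158911) (iv5 D75824) (iv4 F313828) (iv5 D62147) (iv4 F96837) D132404 (iv4 F216250) (iv4 D158914) (iv5 D75828) (iv4 F310463) (iv5 D28836) (iv4 F46448) D60714 D129149
theorem E97196 : n158949 = n110794 := (c13_4 (iv7 F207390) F336958 F250211 D158949)
theorem F336962 : act 5 n110794 = n75867 := (sb E97196 (iv5 D158949))
theorem F336963 : act 0 n158911 = n134238 := d17_2 F207392 F336958 F216273 F207342 F95908 D129301 (iv5 F208372) F208369 (iv4 F171537)
theorem E97197 : n146937 = n110795 := (c17_2 F155240 D146937 F207392 F336958 (iv4 D158911) (iv5 D75824) (iv0 D34671) (iv5 F50664) (iv0 F60318) D85106)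
theorem F336964 : act 5 n110795 = n68879 := (sb E97197 (iv5 D146937))
theorem E97198 : n117251 = n110796 := (c2_2 F336964 (iv2 F183479) (iv5 D110796) D110795)
theorem F336965 : act 0 n110796 = n75872 := (sb E97198 (iv1 F229961))
theorem F336966 : act 1 n110796 = n75877 := (sb E97198 (iv0 F205685))
theorem F336967 : act 2 n110796 = n68879 := (sb E97198 F183479)
theorem F336968 : act 4 n110796 = n127842 := (sb E97198 F205684)
theorem F336969 : act 6 n110796 = n54040 := (sb E97198 (iv6 D117251))
theorem E97199 : n178676 = n134138 := ((((iv7 F216176)).symm.trans (sb E97198 (iv7 F278488)))).symm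
theorem F336970 : act 0 n134138 = n85106 := (sb E97199 (iv1 D178676))
theorem F336971 : act 1 n134138 = n146661 := (sb E97199 F278487)
theorem F336972 : act 2 n134138 = n146938 := (sb E97199 (iv2 F278489))
theorem F336973 : act 6 n134138 = n146930 := (sb E97199 (iv6 F278490))
theorem F336974 : act 5 n146935 = n110807 := d6_2 F336964 (iv3 F230331) F171571
theorem F336975 : act 5 n146936 = n108425 := d12_5 (iv6 F171538) F336964 (iv6 D68879) D68878 D146936
theorem F336976 : act 5 n146938 = n134215 := d13_3 F216255 F336964 D146938
theorem F336977 : act 5 n146661 = n129655 := d17_3 (iv1 F216252) F336964 F229960 (iv4 D129655) (iv5 D60903) D60901 (iv5 F207388) F212466 (iv4 F216250)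
theorem E97200 : n178678 = n134104 := (c17_8 F208828 (iv5 D130290) (iv1 F95656) (iv5 F95475) (iv4 F171537) F336964 (iv0 F155240) D178678 (iv0 D134104) F98310)
theorem E97201 : n158955 = n132662 := ((((iv2 F216151)).symm.trans (sb E97200 F278492))).symm
theorem F336978 : act 5 n134104 = n85106 := (sb E97200 (iv5 D178678))
theorem F336979 : act 7 n134104 = n158951 := (sb E97200 F278493)
theorem F336980 : act 5 n132662 = n75877 := (sb E97201 (iv5 D158955))
theorem F336981 : act 4 n158971 = n129147 := d18_5 F229960 (iv4 D146661) F200222 (iv4 F113793) (iv5 F250302) (iv0 D129147) D129149 (iv0 F207392) F336964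
theorem F336982 : act 2 n134336 = n158971 := d1_3 F336981 F212479 (iv4 F216342)
theorem F336983 : act 4 n146919 = n129148 := d9_9 (iv5 F250302) F336981 F212465 F315471 (iv5 D75593) F54854 (iv5 F50664) (iv4 F105059) D146919 F207388 (iv4 F97214) F313036 F54859 (iv5 F54935) (iv4 F113793)
theorem E97202 : n134358 = n75882 := (c11_4 D158971 F336981 F212472 (iv4 F216361))
theorem E97203 : n158967 = n63121 := ((D158967).symm.trans (sb E97202 (iv1 D134358)))
theorem E97204 : n158969 = n132406 := ((D158969).symm.trans (sb E97202 F216361))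
theorem F336984 : act 1 n63121 = n75882 := (sb E97203 (iv0 D158967))
theorem F336985 : act 4 n132406 = n75882 := (sb E97204 (iv4 D158969))
theorem F336986 : act 7 n146919 = n134336 := d16_8 F336981 F212465 F315471 (iv5 D75593) F54854 (iv5 F50664) (iv4 F105059) D146919 F336982
theorem F336987 : act 0 n126594 = n158971 := d18_2 D59392 D126594 F336981 F212465 F315471 F313033 F208362 (iv0 D126604) (iv5 D59395)
theorem F336988 : act 1 n126599 = n158971 := d18_6 D60711 D129138 F214707 F214705 (iv5 D126600) D126599 F336981 (iv0 D129147) (iv5 D60714)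
theorem F336989 : act 3 n129147 = n126564 := d20_3 D126594 F336987 F336981 (iv1 D126564) (iv3 D59380) (iv4 D28202) (iv1 D13465) D13466 D28206 D59392
theorem F336990 : act 5 n126564 = n129644 := d6_2 (iv5 F212465) F336989 (iv3 D129644)
theorem F336991 : act 7 n126564 = n126484 := d8_2 (iv7 F212472) F336989 F216362
theorem F336992 : act 2 n126484 = n126563 := d15_3 (iv0 D126563) D126564 F336991
theorem F336993 : act 2 n126564 = n126483 := d15_3 (iv0 D126483) D126484 (iv7 F336991)
theorem F336994 : act 7 n126483 = n126563 := d4_2 (iv7 F336991) F336993 (iv2 F336992)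
theorem F336995 : act 5 n126563 = n135027 := d2_2 F216363 F336992 F217259
theorem E97205 : n135028 = n134945 := (c17_6 F212217 (iv5 D126566) D126563 F336995 (iv4 D135027) D135028 (iv0 D134945) (iv5 D63422) D63420 (iv4 F207381))
theorem F336996 : act 5 n134945 = n63462 := (sb E97205 (iv5 D135028))
theorem F336997 : act 1 n146919 = n126599 := d15_0 F336988 (iv7 D158971) (iv2 F230304)
theorem F336998 : act 1 n126594 = n146919 := d15_0 F336997 F208367 F208380
theorem F336999 : act 3 n134331 = n146919 := d8_3 F336986 (iv3 D134336) F216340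
theorem F337000 : act 5 n134336 = n146920 := d13_1 F336986 (iv7 D146920) D146919
theorem F337001 : act 1 n158968 = n134336 := d15_1 D158968 (iv7 F336986) F230304
theorem F337002 : act 2 n126599 = n158968 := d15_3 F337001 (iv0 F216343) (iv7 F208367)
theorem F337003 : act 4 n126597 = n158968 := d18_5 (iv1 F96840) (iv4 F96836) F315301 (iv4 F315450) (iv5 F208379) F337001 F216342 F212474 (iv5 D129145)
theorem F337004 : act 7 n158968 = n126594 := d11_2 D126597 F337003 (iv4 D126594)
theorem F337005 : act 4 n158958 = n132382 := d17_4 (iv1 D158968) (iv5 D75882) D75879 D158958 F212409 F207874 (iv5 F95475) (iv0 F208377) F337003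
theorem F337006 : act 4 n150103 = n134359 := d16_6 (iv4 F337003) F208379 F315450 (iv5 D75603) (iv4 F155411) D150103 (iv5 D134359) (iv7 F208367) F337002
theorem F337007 : act 0 n134359 = n158933 := d18_2 F280339 F337006 (iv4 D158933) F113741 (iv4 F188458) F188456 (iv4 F128776) F273262 D179986
theorem F337008 : act 1 n134359 = n158935 := d18_6 (iv1 D16793) (iv4 F27537) D34581 (iv4 F155411) D150103 F337006 (iv4 D158935) F113742 (iv5 D34682)
theorem F337009 : act 4 n95933 = n119073 := d20_6 F337006 F337007 (iv4 D158933) (iv3 F312742) (iv1 F147573) D95933 (iv1 D119073) F311999 (iv3 F280337) F280339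
theorem F337010 : act 3 n95880 = n150103 := d20_5 (iv4 D44778) (iv1 D21323) (iv4 F33523) (iv3 F70355) D95880 F337006 F337007 (iv4 D158933) (iv3 F312742) (iv1 F147573)
theorem F337011 : act 2 n150406 = n95880 := d0_5 F337010 F236230 F233870 (iv2 F233842) (iv3 F236762)
theorem F337012 : act 5 n127958 = n95880 := d6_0 F337010 (iv5 D150103) (iv3 F205916)
theorem F337013 : act 7 n95880 = n150407 := d13_2 F233754 F337012 (iv5 D150407)
theorem F337014 : act 5 n97233 = n141440 := d17_1 D97233 (iv1 F224476) F318000 F323336 (iv5 F107332) (iv0 F205917) F337012 (iv0 D95880) (iv4 F71694)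
theorem E97206 : n106022 = n103692 := (c21_5 (iv5 F337012) F205917 F107332 (iv6 F104680) (iv1 F307930) (iv6 D103692) F75482 (iv1 D45052) F33834 D44766 D95880)
theorem F337015 : act 0 n103692 = n68473 := (sb E97206 F307929)
theorem F337016 : act 1 n103692 = n68479 := (sb E97206 F307930)
theorem E97207 : n103126 = n68478 := ((F159142).symm.trans (sb E97206 F307931))
theorem F337017 : act 3 n103692 = n58131 := (sb E97206 F301887)
theorem F337018 : act 5 n103692 = n49010 := (sb E97206 F162822)
theorem F337019 : act 7 n103692 = n49009 := (sb E97206 (iv7 D106022))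
theorem F337020 : act 2 n68478 = n103692 := (sb E97207 (iv2 F159142))
theorem E97208 : n146051 = n47808 := ((D146051).symm.trans (sb E97207 (iv6 D103126)))
theorem F337021 : act 6 n47808 = n68478 := (sb E97208 (iv6 D146051))
theorem F337022 : act 6 n146048 = n103125 := d7_2 F337021 D146048 (iv3 D103125)
theorem F337023 : act 4 n103692 = n119544 := d1_2 F323391 F337020 F188520
theorem F337024 : act 4 n105946 = n119310 := d9_9 (iv5 F337018) F337023 (iv5 D119544) F162698 (iv5 F316388) F162452 F77117 (iv4 F77286) D105946 (iv5 D119310) F86850 (iv5 F318803) F162522 F77135 (iv4 F77356)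
theorem F337025 : act 6 n119544 = n103691 := d10_2 D103692 F337023 (iv4 D103691)
theorem F337026 : act 7 n119544 = n106021 := d11_2 (iv7 F337019) F337023 (iv4 D106021)
theorem F337027 : act 0 n119544 = n146511 := d18_2 (iv1 F337016) F337023 F229834 (iv5 F114918) (iv4 F309925) (iv0 F191362) (iv4 F307153) F215475 (iv5 F104679)
theorem E97209 : n151393 = n146512 := ((c18_9 F232303 (iv4 D105950) (iv1 F77293) (iv4 F77356) (iv5 F337018) F337023 F259460 D155316 F335011 (iv5 D151393))).symm
theorem F337028 : act 5 n146512 = n71360 := (sb E97209 (iv5 D151393))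
theorem F337029 : act 5 n105962 = n144805 := d2_2 F337028 (iv2 F162757) (iv2 F232871)
theorem F337030 : act 5 n106033 = n106041 := d13_3 F335021 F337028 F232305
theorem F337031 : act 5 n146366 = n105950 := d16_5 F321841 F337028 F107858 (iv5 F104829) (iv4 F229698) (iv4 D105950) (iv5 F321843) F321844 (iv2 F162973)
theorem F337032 : act 1 n119310 = n146511 := d17_8 D146512 F337028 F232303 (iv5 F337031) F229698 F104829 (iv0 F232302) D119310 F229834
theorem F337033 : act 4 n167915 = n151729 := d17_4 (iv1 D48983) (iv5 F77117) D105779 (iv5 F264586) (iv5 F335014) F335011 F337028 F232304 (iv4 D105954)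
theorem F337034 : act 3 n170574 = n151729 := d20_5 (iv4 F310616) (iv1 F116803) (iv4 F58297) (iv3 F125679) D170574 (iv4 F337033) (iv1 F264589) (iv4 F307153) F307152 F311258
theorem F337035 : act 2 n151992 = n170574 := d0_5 F337034 (iv2 F244321) (iv3 F247742) F247741 (iv3 F239007)
theorem F337036 : act 5 n144909 = n170574 := d6_0 F337034 (iv5 F335014) F335013
theorem F337037 : act 6 n149011 = n170574 := d7_0 F337034 (iv6 D151729) (iv3 F234291)
theorem F337038 : act 7 n131510 = n170574 := d8_0 F337034 F238605 (iv3 F210776)
theorem F337039 : act 0 n170574 = n151991 := d20_4 F309512 D167915 F337033 (iv3 F337034) F248113 D157468 (iv1 F248110) F205880 (iv3 F98070) D133818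
theorem F337040 : act 4 n151991 = n131473 := d18_1 F337039 (iv1 D131473) F96302 (iv5 F50560) (iv4 F104036) F316438 (iv4 F125479) (iv0 F315224) F337036
theorem F337041 : act 3 n131457 = n133818 := d20_5 F337040 (iv1 D131473) F96302 (iv3 F96296) D131457 F309512 D167915 F337033 (iv3 F337034) F337039
theorem E97210 : n170461 = n131457 := (c0_6 F337041 F309933 (iv3 F309507) F299200 (iv3 F125634) (iv2 F267905))
theorem F337042 : act 2 n131457 = n81720 := (sb E97210 F267905)
theorem F337043 : act 6 n131457 = n81718 := (sb E97210 (iv6 D170461))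
theorem F337044 : act 7 n133833 = n131457 := d8_0 F337041 F309934 D133833
theorem F337045 : act 2 n170469 = n133833 := d4_3 F337044 F337042 D170469
theorem F337046 : act 1 n170467 = n133833 := d15_1 D170467 F337044 F337042
theorem F337047 : act 1 n133833 = n170466 := d15_0 (iv0 D170466) D170469 F337045
theorem E97211 : n170469 = n131458 := ((c15_2 (iv0 D131457) D131458 (iv7 D170469) (iv2 F337042))).symm
theorem F337048 : act 2 n131458 = n133833 := (sb E97211 F337045)
theorem F337049 : act 3 n131458 = n81726 := (sb E97211 F267909)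
theorem F337050 : act 4 n131458 = n174557 := (sb E97211 F273422)
theorem F337051 : act 5 n131458 = n124552 := (sb E97211 F267910)
theorem F337052 : act 7 n131458 = n81720 := (sb E97211 (iv7 D170469))
theorem F337053 : act 0 n174557 = n118549 := d20_7 F167442 (iv1 F79102) (iv4 F79226) (iv3 F311259) F151617 (iv3 F337049) F337050 F186458 F86276 D55303
theorem F337054 : act 0 n134699 = n174557 := d20_1 (iv4 F237481) (iv4 F337050) F337049 F300193 (iv3 F310592) F166706 (iv1 F247750) (iv4 D152010) (iv3 F247749) F237473
theorem F337055 : act 3 n121959 = n130478 := d20_9 F213873 (iv1 F210870) (iv4 F207987) (iv3 F216698) F337054 F273420 F128529 F298352 D121959 (iv1 F213872)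
theorem E97212 : n174553 = n174505 := (c21_2 (iv5 D174557) D174553 (iv5 D174505) (iv6 F188038) (iv1 F188039) (iv6 F304131) (iv5 F332061) (iv1 D119568) F314638 D134699 F337054)
theorem F337056 : act 1 n174505 = n83419 := (sb E97212 (iv0 D174553))
theorem F337057 : act 0 n129566 = n158754 := d21_4 (iv5 F330763) (iv1 D159266) (iv5 F313451) F212315 F273423 (iv5 D174557) (iv1 F337056) (iv5 D174505) (iv6 F188038) (iv1 F188039)
theorem F337058 : act 1 n129547 = n158754 := d15_0 (iv0 F337057) (iv7 D129566) (iv2 F207680)
theorem F337059 : act 1 n172497 = n129547 := d15_0 F337058 F249935 (iv2 F270699)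
theorem E97213 : n174554 = n161725 := ((c21_1 D161725 (iv1 D174554) D174557 (iv6 F273423) (iv1 F337058) (iv6 D129547) (iv5 D60864) (iv1 F47084) (iv5 F209645) (iv6 F312122) F300870)).symm
theorem F337060 : act 0 n161725 = n83419 := (sb E97213 (iv1 D174554))
theorem E97214 : n166948 = n131472 := ((c20_8 (iv4 F312897) (iv1 F123863) (iv4 F300194) (iv3 F337049) (iv1 D131458) F96296 (iv4 F96302) D131472 F262799 F125679 (iv1 F310639))).symm
theorem F337061 : act 3 n131472 = n80140 := (sb E97214 F262798)
theorem F337062 : act 4 n131472 = n81762 := (sb E97214 F262799)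
theorem F337063 : act 5 n131472 = n121491 := (sb E97214 (iv5 F262800))
theorem F337064 : act 6 n131472 = n80138 := (sb E97214 (iv6 D166948))
theorem F337065 : act 0 n131456 = n130890 := d20_1 (iv4 F210723) (iv4 D130890) (iv3 D61407) (iv1 F47477) (iv3 F97556) (iv4 F312897) (iv1 F123863) (iv4 F300194) (iv3 F337049) (iv1 D131458)
theorem E97215 : n161659 = n131474 := ((c17_2 (iv1 D131473) D131474 (iv1 D161659) (iv5 D77642) F297964 (iv5 F308534) (iv0 F233202) F183143 D151991 F337040)).symm
theorem F337066 : act 0 n131474 = n77642 := (sb E97215 (iv1 D161659))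
theorem F337067 : act 4 n170574 = n131515 := d11_1 F337038 (iv7 D131515) (iv4 F210777)
theorem F337068 : act 1 n151992 = n170569 := d15_0 (iv0 F335001) F337038 (iv2 F337035)
theorem E97216 : n175109 = n131515 := ((c10_2 F337037 F337067 (iv6 D175109) (iv4 F311821))).symm
theorem F337069 : act 5 n131515 = n175245 := (sb E97216 (iv5 F274276))
theorem F337070 : act 6 n131515 = n83630 := (sb E97216 (iv6 D175109))
theorem F337071 : act 1 n131515 = n133840 := d18_6 (iv1 F184741) (iv4 F316445) (iv1 F321658) (iv4 F315226) F337036 F337067 (iv4 D133840) F278615 F96269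
theorem F337072 : act 5 n175110 = n161580 := d21_2 D83631 D175110 (iv6 D161580) F128413 (iv6 F308399) D83689 D175245 (iv5 F337069) F337070 (iv1 D83630)
theorem E97217 : n175110 = n174995 := ((c6_4 F337072 F255586 (iv5 F307525) D174995)).symm
theorem F337073 : act 1 n174995 = n83631 := (sb E97217 (iv0 D175110))
theorem F337074 : act 5 n174995 = n161580 := (sb E97217 F337072)
theorem F337075 : act 7 n175245 = n131514 := d13_2 D131515 F337069 (iv5 D131514)
theorem F337076 : act 2 n131514 = n175246 := d15_3 F274277 F274280 F337075
theorem F337077 : act 5 n175246 = n131431 := d2_2 D131514 F337076 F210664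
theorem E97218 : n175267 = n145263 := ((c21_4 (iv5 F96333) (iv1 F210685) F210687 D145263 (iv1 D175267) (iv6 D83695) D83694 (iv1 F274277) F337077 (iv6 D131431) (iv1 F96271))).symm
theorem F337078 : act 0 n145263 = n83695 := (sb E97218 (iv1 D175267))
theorem F337079 : act 5 n151939 = n170571 := d21_0 (iv1 D170571) (iv5 D81761) D81762 D170574 (iv6 F337037) F234292 F232766 D75059 (iv6 F232769) (iv1 F238923)
theorem F337080 : act 2 n170571 = n160074 := d2_1 F337079 F252622 (iv2 F238919)
theorem F337081 : act 3 n170571 = n151970 := d6_1 F337079 F238975 (iv3 F238920)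
theorem F337082 : act 6 n170571 = n160074 := d12_2 (iv6 F238921) F337079 F252622 F312454 (iv5 F312448)
theorem F337083 : act 7 n170571 = n147257 := d13_2 D151939 F337079 F230855
theorem F337084 : act 0 n142834 = n170571 := d21_10 (iv5 F337079) F316656 (iv5 F321823) (iv6 D142740) (iv1 F205103) F321929 (iv5 F169672) F182581 F180720 D142834
theorem F337085 : act 0 n167345 = n160074 := d21_4 F205106 (iv1 F182580) (iv5 F225725) (iv6 F334993) (iv6 F337082) (iv5 F337079) F316656 (iv5 F321823) (iv6 D142740) (iv1 F205103)
theorem F337086 : act 0 n160078 = n155541 := d20_7 (iv4 F106684) F290267 F313086 (iv3 F300258) F337085 F252621 (iv4 F252625) (iv4 D155541) (iv3 F321722) (iv1 F311465)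
theorem F337087 : act 1 n122698 = n155541 := d15_0 (iv0 F337086) (iv7 D160078) (iv2 F196557)
theorem F337088 : act 6 n138311 = n155541 := d21_3 F328069 (iv1 F111903) (iv5 F221509) (iv1 F337087) (iv6 D122698) F90071 F44374 D33631 D72961 D154085
theorem F337089 : act 4 n141441 = n138311 := d10_3 F337088 (iv4 D155541) (iv6 F332443)
theorem F337090 : act 5 n155541 = n139517 := d12_1 F337088 (iv6 D139517) F105781 (iv6 F320416) (iv5 F221509)
theorem F337091 : act 6 n140767 = n156478 := d14_5 F246010 F337088 (iv7 F325375) (iv6 D143133) (iv7 F223858)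
theorem E97219 : n179163 = n67077 := (c3_3 F337091 (iv2 F315856) D179163 (iv2 F223857))
theorem E97220 : n143135 = n85502 := ((D143135).symm.trans (sb E97219 (iv6 D179163)))
theorem F337092 : act 6 n85502 = n67077 := (sb E97220 (iv6 D143135))
theorem E97221 : n156478 = n141492 := (c10_1 F337091 (iv4 D141492) (iv6 F334918) D140767)
theorem F337093 : act 0 n141492 = n74413 := (sb E97221 (iv1 D156478))
theorem F337094 : act 1 n141492 = n138308 := (sb E97221 F246009)
theorem F337095 : act 2 n141492 = n85502 := (sb E97221 (iv2 F315856))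
theorem F337096 : act 5 n141492 = n74516 := (sb E97221 F246011)
theorem F337097 : act 6 n141492 = n140767 := (sb E97221 (iv6 F337091))
theorem F337098 : act 7 n141492 = n138311 := (sb E97221 F246010)
theorem E97222 : n140045 = n102641 := (c21_11 (iv5 D102641) (iv1 D47603) D47605 (iv6 F319254) (iv1 F223860) (iv6 F337097) F337096 (iv1 D74516) D74518 (iv6 F328915) (iv1 F318796))
theorem E97223 : n88876 = n73469 := (((iv1 F157854)).symm.trans (sb E97222 F318795))
theorem E97224 : n89564 = n73485 := ((F286035).symm.trans (sb E97222 F318796))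
theorem F337099 : act 4 n102641 = n65742 := (sb E97222 F223261)
theorem F337100 : act 6 n102641 = n65740 := (sb E97222 (iv6 D140045))
theorem E97225 : n154904 = n102639 := ((D154904).symm.trans (sb E97223 F157845))
theorem F337101 : act 1 n73469 = n102641 := (sb E97223 F157854)
theorem E97226 : n154906 = n41490 := ((D154906).symm.trans (sb E97223 F136312))
theorem E97227 : n154907 = n41489 := ((D154907).symm.trans (sb E97223 (iv5 D88876)))
theorem E97228 : n154804 = n41831 := (((iv7 F243478)).symm.trans (sb E97223 F136313))
theorem F337102 : act 0 n73485 = n102641 := (sb E97224 (iv1 F286035))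
theorem E97229 : n154928 = n41830 := ((D154928).symm.trans (sb E97224 (iv5 D89564)))
theorem F337103 : act 0 n102639 = n73485 := (sb E97225 (iv1 F243592))
theorem F337104 : act 1 n102639 = n73469 := (sb E97225 (iv0 D154904))
theorem F337105 : act 4 n102639 = n127306 := (sb E97225 (iv4 F314075))
theorem F337106 : act 3 n41490 = n73469 := (sb E97226 (iv3 D154906))
theorem F337107 : act 5 n41489 = n73469 := (sb E97227 (iv5 D154907))
theorem F337108 : act 2 n41831 = n73485 := (sb E97228 F243477)
theorem E97230 : n89568 = n73410 := ((D89568).symm.trans (sb E97228 (iv4 D154804)))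
theorem F337109 : act 7 n41831 = n73469 := (sb E97228 F243478)
theorem F337110 : act 5 n41830 = n73485 := (sb E97229 (iv5 D154928))
theorem F337111 : act 4 n73410 = n41831 := (sb E97230 (iv4 D89568))
theorem F337112 : act 4 n89574 = n124705 := d5_4 F337111 F64494 D41833 D89574 F199511
theorem E97231 : n171167 = n154802 := ((c9_10 D73410 F337111 (iv5 D41831) (iv4 F64484) F317605 F105593 F104525 F305141 D73407 D154802 (iv5 D171167) (iv4 F335665) F317603 D148447 F308946 (iv4 D73409))).symm
theorem F337113 : act 3 n154802 = n82034 := (sb E97231 F268916)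
theorem F337114 : act 5 n154802 = n82032 := (sb E97231 (iv5 D171167))
theorem E97232 : n154085 = n89569 := ((c10_3 F235352 F337111 D89569 (iv4 F334940))).symm
theorem F337115 : act 0 n89569 = n138619 := (sb E97232 F328067)
theorem F337116 : act 1 n89569 = n72961 := (sb E97232 (iv0 D154085))
theorem F337117 : act 2 n89569 = n74518 := (sb E97232 F328068)
theorem F337118 : act 4 n89569 = n149686 := (sb E97232 (iv4 F334940))
theorem F337119 : act 5 n89569 = n74517 := (sb E97232 F328069)
theorem F337120 : act 7 n89569 = n138616 := (sb E97232 F328070)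
theorem F337121 : act 4 n89567 = n148556 := d18_7 D118653 F232336 (iv1 F307097) (iv4 D73409) D73410 F337111 D89567 F332454 (iv5 D118655)
theorem F337122 : act 4 n89566 = n116034 := d20_2 F337111 D89566 F317434 (iv1 D70087) F51597 F313218 D54300 F311598 D119726 (iv1 F232686)
theorem F337123 : act 0 n143754 = n124705 := d20_4 D70088 (iv1 F315703) (iv4 D143755) D143754 F199511 F337111 D89566 F337122 F317434 (iv1 D70087)
theorem F337124 : act 5 n149009 = n143754 := d17_1 (iv1 F243626) F337123 (iv5 D124705) F191119 D69984 F234497 F234496 (iv0 F243629) (iv4 F190222)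
theorem F337125 : act 0 n89574 = n149176 := d20_1 (iv4 F337112) (iv4 D149176) F155467 (iv1 D32525) (iv3 F51597) D70088 (iv1 F315703) (iv4 D143755) D143754 F337123
theorem F337126 : act 6 n170600 = n143754 := d21_9 (iv5 D124705) (iv1 D58286) D58287 (iv6 F106283) F106284 D147257 F230855 F314273 D170600 F337123
theorem F337127 : act 4 n127535 = n186551 := d20_8 (iv4 D89525) (iv1 F64460) D41833 D89574 F337125 F290462 F315538 (iv1 F243337) (iv3 D186551) (iv1 F137235)
theorem F337128 : act 2 n186551 = n127672 := d1_1 F337127 F205276 (iv2 F233735)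
theorem F337129 : act 3 n186546 = n127535 := d5_5 F337127 (iv3 D186551) (iv4 D88852) (iv3 F136227) D186546
theorem F337130 : act 6 n186551 = n127534 := d10_2 D127535 F337127 (iv4 D127534)
theorem F337131 : act 4 n99801 = n172056 := d16_2 F337127 F289480 (iv5 D172056) F126932 (iv5 F334575) (iv4 F310998) (iv5 F199193) F308817 (iv2 F233735)
theorem F337132 : act 1 n99801 = n95589 := d17_6 (iv1 D58121) D58122 D124532 F313326 F337127 F289480 (iv5 D95589) D95588 F317173
theorem F337133 : act 0 n186551 = n147208 := d18_2 (iv1 F243337) F337127 (iv4 D147208) (iv5 D69009) D69008 (iv0 F240602) F204838 (iv0 F243304) F183275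
theorem F337134 : act 1 n172056 = n103042 := d18_6 (iv1 F290441) F315538 (iv1 F243337) F337127 F289480 F337131 (iv4 D103042) (iv0 F147579) (iv5 D95924)
theorem E97233 : n102235 = n70045 := (c20_5 (iv4 D46685) (iv1 F64471) F64472 D47455 D102235 F106429 D103042 (iv1 F337134) (iv4 F337131) (iv3 D99801) (iv1 F73789))
theorem E97234 : n149237 = n47455 := ((D149237).symm.trans (sb E97233 (iv0 D102235)))
theorem F337135 : act 0 n47455 = n70045 := (sb E97234 (iv1 D149237))
theorem F337136 : act 0 n149175 = n89574 := d17_0 F137322 F337135 (iv5 D70045) (iv4 D32502) (iv5 D15383) D15382 D32498 F106418 D149175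
theorem F337137 : act 6 n96531 = n89574 := d21_5 F51594 (iv1 F33850) D21521 D45077 D96531 F137322 F337135 (iv5 D70045) F51575 D32517
theorem F337138 : act 7 n102236 = n103586 := d15_2 (iv0 F337135) D102236 F158903
theorem F337139 : act 2 n99808 = n149236 := d15_3 (iv0 D149236) (iv0 F337135) (iv7 F153649)
theorem F337140 : act 3 n149236 = n102246 := d0_2 D99808 F337139 (iv2 D102246) (iv3 D47458) (iv2 F136318)
theorem F337141 : act 7 n149236 = n102237 := d4_2 (iv7 F153649) F337139 (iv2 D102237)
theorem F337142 : act 1 n102236 = n149236 := d15_1 D102236 F337141 (iv2 D102237)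
theorem F337143 : act 2 n149239 = n102236 := d15_3 F337142 (iv0 D149236) D149239
theorem F337144 : act 3 n102236 = n103610 := d0_2 (iv3 F234624) F337143 F158955 F75501 (iv2 F158279)
theorem F337145 : act 5 n102236 = n103587 := d2_2 (iv5 F234625) F337143 F158906
theorem F337146 : act 4 n102236 = n149148 := d16_0 (iv5 D149148) (iv4 D69988) (iv5 D32488) F24955 D15383 D32502 D70045 D149239 F337143
theorem F337147 : act 3 n89575 = n96531 := d7_3 F337137 (iv3 D89574) D89575
theorem F337148 : act 1 n103203 = n172056 := d18_6 D95587 F315634 (iv1 F91933) F75108 (iv5 F75112) (iv4 F158448) (iv4 F337131) F337132 (iv5 D95589)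
theorem E97235 : n119242 = n99810 := ((c20_11 (iv4 D119242) (iv1 D54881) D54882 (iv3 F329940) (iv1 F337132) (iv3 D99801) (iv4 D46611) (iv1 D22331) D22332 D46615 D99810)).symm
theorem F337149 : act 2 n99810 = n72195 := (sb E97235 F187679)
theorem F337150 : act 4 n99810 = n54881 := (sb E97235 (iv4 D119242))
theorem F337151 : act 6 n99810 = n85276 := (sb E97235 (iv6 F200256))
theorem F337152 : act 3 n97277 = n99810 := d20_5 F337131 (iv1 F337148) F158448 (iv3 F75501) F150033 F337150 (iv1 D54881) D54882 (iv3 F329940) (iv1 F337132)
theorem E97236 : n112845 = n48043 := (c0_5 F337152 F337149 (iv3 F318274) (iv2 F82327) (iv3 F175712) (iv2 F288196))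
theorem E97237 : n103761 = n52087 := ((D103761).symm.trans (sb E97236 F175712))
theorem E97238 : n110926 = n103762 := (((D103762).symm.trans (sb E97236 F175713))).symm
theorem E97239 : n103763 = n52086 := ((D103763).symm.trans (sb E97236 (iv6 D112845)))
theorem F337153 : act 3 n52087 = n48043 := (sb E97237 (iv3 D103761))
theorem F337154 : act 3 n103762 = n51148 := (sb E97238 F171939)
theorem F337155 : act 6 n103762 = n51146 := (sb E97238 (iv6 D110926))
theorem F337156 : act 6 n52086 = n48043 := (sb E97239 (iv6 D103763))
theorem F337157 : act 4 n153688 = n97277 := d5_0 F337152 F337150 F190603 D72717 D153688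
theorem F337158 : act 5 n99810 = n97262 := d6_2 D97277 F337152 F150018
theorem F337159 : act 6 n112844 = n97277 := d7_0 F337152 F337151 (iv3 F316692)
theorem F337160 : act 7 n99810 = n103756 := d8_2 (iv7 F288197) F337152 (iv3 D103756)
theorem F337161 : act 4 n144351 = n149582 := d19_14 (iv1 D84930) F86815 (iv4 F337150) (iv3 F337152) F150032 (iv5 D47987) F36226 (iv3 F51667) (iv1 F311436) F317393 (iv4 F317392) (iv3 F319646) F167738 (iv5 F227086) (iv3 D149582) (iv1 D70244) F51656 (iv4 F97963) (iv3 F313466)
theorem E97240 : n170460 = n149582 := ((c16_3 F167734 (iv5 F227086) F337161 (iv5 D170460) (iv4 F151629) F328009 F81158 (iv5 F81152) D64151 (iv2 F167732))).symm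
theorem F337162 : act 2 n149582 = n81719 := (sb E97240 F267904)
theorem F337163 : act 5 n149582 = n81718 := (sb E97240 (iv5 D170460))
theorem E97241 : n148297 = n144559 := (c18_9 (iv1 F322638) F325307 D144351 F337161 F337163 (iv4 F151629) F151631 F324849 D148297 (iv5 D144559))
theorem F337164 : act 0 n144559 = n69507 := (sb E97241 (iv1 D148297))
theorem F337165 : act 1 n144559 = n69512 := (sb E97241 F232116)
theorem F337166 : act 2 n144351 = n170464 := d1_1 (iv4 F337161) (iv4 D170464) (iv2 F337162)
theorem F337167 : act 4 n140719 = n136454 := d9_9 (iv5 F337163) (iv4 F337161) F227086 (iv4 F167734) F167735 F167739 (iv5 F328004) (iv4 F125432) (iv5 F324345) (iv5 D136454) F99860 F81152 (iv4 F81158) (iv5 F328009) F151629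
theorem F337168 : act 6 n136454 = n116499 := d10_2 D140719 F337167 (iv4 F181814)
theorem F337169 : act 7 n136454 = n170464 := d11_2 (iv7 F324346) F337167 (iv4 D170464)
theorem F337170 : act 5 n120678 = n148296 := d18_9 (iv1 F232119) (iv4 F324857) (iv1 D82583) (iv4 F125432) (iv5 F324345) F337167 F331701 F192378 D120678
theorem F337171 : act 2 n148296 = n130892 := d2_1 F337170 F317639 (iv2 F317638)
theorem F337172 : act 3 n148296 = n151799 := d6_1 F337170 F332483 (iv3 F247846)
theorem F337173 : act 7 n148296 = n142516 := d13_2 (iv7 F322311) F337170 (iv5 D142516)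
theorem E97242 : n148313 = n136453 := (c17_6 (iv1 F192379) F337170 (iv1 F232119) (iv5 D69512) D69511 D148313 F219553 (iv5 F227086) (iv0 D144351) (iv4 F325307))
theorem F337174 : act 5 n136453 = n69511 := (sb E97242 (iv5 D148313))
theorem F337175 : act 6 n148296 = n118550 := d21_3 F186448 (iv1 F192379) F337170 F237473 F237479 F186468 (iv1 F86742) D55322 F162896 (iv1 F208270)
theorem F337176 : act 4 n110391 = n148296 := d16_6 (iv4 F227421) (iv5 F331694) F166019 F78547 (iv4 F80311) D110391 (iv5 F337170) F322311 (iv2 F183065)
theorem F337177 : act 4 n130892 = n112724 := d1_2 F337176 F337171 F175458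
theorem F337178 : act 0 n170260 = n110391 := d20_1 (iv4 F267774) F337176 F337172 (iv1 D151799) F108072 F106224 F190058 D71003 D150626 F317486
theorem F337179 : act 3 n98229 = n110391 := d20_5 F303935 F315602 (iv4 F317786) (iv3 F72504) D98229 F337176 (iv1 F232119) (iv4 F324857) F317824 (iv1 F316269)
theorem F337180 : act 0 n110391 = n170452 := d20_1 (iv4 F337176) (iv4 D170452) F309885 F307873 (iv3 D70916) (iv4 F108329) (iv1 D54851) (iv4 F86792) (iv3 F323522) D148296
theorem F337181 : act 0 n100892 = n151799 := d20_4 F307280 (iv1 D75597) (iv4 F113454) (iv3 F155037) (iv3 F337172) (iv4 F337176) F337180 (iv4 D170452) F309885 F307873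
theorem E97243 : n160094 = n143005 := (c21_4 (iv5 F332502) F337181 F332483 D160094 (iv1 D143005) (iv6 D67023) (iv5 D31209) F102987 (iv5 F20708) D26237 D54264)
theorem F337182 : act 6 n143005 = n76667 := (sb E97243 (iv6 D160094))
theorem E97244 : n154469 = n148035 := ((c21_8 F310171 (iv1 F310168) (iv5 D100891) D100892 F337181 F332484 D152011 (iv1 F278371) (iv5 D154469) F305997 (iv1 F73556))).symm
theorem F337183 : act 2 n148035 = n175210 := (sb E97244 F307918)
theorem F337184 : act 5 n148035 = n73170 := (sb E97244 (iv5 D154469))
theorem F337185 : act 0 n149688 = n117808 := d21_4 (iv5 F318110) (iv1 F183716) (iv5 F183809) (iv6 F235357) (iv6 D117808) (iv5 F332502) F337181 F332483 (iv6 F337182) (iv1 D143005)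
theorem F337186 : act 1 n100892 = n151798 := d15_1 (iv0 F337181) (iv7 F305595) (iv2 F332482)
theorem F337187 : act 7 n100892 = n118784 := d15_2 D151799 (iv0 F337181) F186863
theorem F337188 : act 4 n118784 = n100896 := d11_1 F337187 (iv7 D100896) (iv4 F155038)
theorem F337189 : act 1 n122680 = n118784 := d15_1 F332491 (iv7 F337187) (iv2 F304002)
theorem E97245 : n151967 = n142508 := ((c21_1 F332481 (iv1 F238977) (iv5 F316799) F316800 F305968 (iv6 D55108) (iv5 D26633) D26631 (iv5 F86502) D118784 (iv1 F337189))).symm
theorem F337190 : act 0 n142508 = n76668 := (sb E97245 (iv1 F238977))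
theorem F337191 : act 1 n142508 = n71647 := (sb E97245 (iv0 D151967))
theorem E97246 : n151968 = n119881 := (c15_2 F337191 D151968 F189235 (iv2 F322308))
theorem F337192 : act 0 n119881 = n71647 := (sb E97246 (iv1 D151968))
theorem F337193 : act 1 n119881 = n76668 := (sb E97246 F238971)
theorem E97247 : n149275 = n149270 := (c20_8 (iv4 D26675) (iv1 F42726) D55173 D119881 F337192 (iv3 F230853) F230854 D149275 (iv4 D149270) (iv3 F320896) F313544)
theorem F337194 : act 1 n149270 = n70068 := (sb E97247 (iv0 D149275))
theorem F337195 : act 0 n151969 = n141462 := d20_1 D151969 F224504 (iv3 F333340) (iv1 D119971) (iv3 D55208) (iv4 D26675) (iv1 F42726) D55173 D119881 F337192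
theorem E97248 : n181938 = n170027 := (c18_3 (iv1 F237161) F337188 (iv1 F283231) (iv4 D170027) F332430 (iv4 F224504) (iv0 F337195) (iv4 D151969) (iv0 F337192) (iv5 F317910))
theorem F337196 : act 0 n170027 = n86899 := (sb E97248 (iv1 D181938))
theorem F337197 : act 1 n170027 = n100896 := (sb E97248 F283231)
theorem F337198 : act 0 n141461 = n160063 := d21_7 (iv5 D33631) D33629 (iv5 F108138) (iv6 F238973) F337195 (iv6 D141462) D141461 (iv5 D160063) (iv6 D76652) F55650
theorem F337199 : act 6 n138308 = n141459 := d21_9 D141461 F337198 (iv5 D160063) (iv6 D76652) F55650 D72961 F327598 F311113 D138308 (iv1 D141459)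
theorem F337200 : act 1 n141471 = n160063 := d15_0 (iv0 F337198) F224502 (iv2 F224526)
theorem E97249 : n139946 = n138313 := (c3_2 F337199 (iv2 F224499) (iv6 D138313) (iv2 F221506))
theorem F337201 : act 0 n138313 = n65721 := (sb E97249 (iv1 F223179))
theorem F337202 : act 1 n138313 = n65704 := (sb E97249 (iv0 D139946))
theorem F337203 : act 2 n138313 = n141459 := (sb E97249 F224499)
theorem F337204 : act 4 n138313 = n67014 := (sb E97249 F223178)
theorem F337205 : act 7 n138313 = n67115 := (sb E97249 (iv7 F223180))
theorem E97250 : n143254 = n138323 := (c8_2 F337205 D143254 (iv7 D138323) (iv3 F221510))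
theorem F337206 : act 3 n138323 = n67115 := (sb E97250 (iv3 D143254))
theorem F337207 : act 4 n138323 = n67130 := (sb E97250 F226074)
theorem F337208 : act 7 n143256 = n156480 := d14_2 F337205 D143256 (iv6 D156480) F111680 D138313
theorem F337209 : act 3 n156491 = n143256 := d8_3 F337208 F246015 D156491
theorem F337210 : act 4 n156480 = n119329 := d11_1 F337208 F316946 (iv4 F226077)
theorem F337211 : act 2 n156480 = n153629 := d15_3 (iv0 D153629) (iv0 F316943) F337208
theorem F337212 : act 6 n153629 = n156475 := d3_2 D156480 F337211 F245997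
theorem F337213 : act 4 n156475 = n160117 := d10_1 F337212 (iv6 D160117) (iv4 F261541)
theorem F337214 : act 5 n143307 = n88874 := d21_6 (iv5 D124941) F313388 D156475 (iv6 F337212) F261540 (iv6 F316950) (iv1 F136304) F337110 F328915 (iv1 F315853)
theorem F337215 : act 2 n89563 = n143307 := d2_3 F337214 (iv2 F136303) D89563
theorem E97251 : n119952 = n92448 := ((c17_1 D92448 (iv5 D119952) (iv1 F333303) F177587 F157538 F316954 D143307 F337214 (iv0 D88874) (iv4 F67759))).symm
theorem F337216 : act 5 n92448 = n55202 := (sb E97251 (iv5 D119952))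
theorem F337217 : act 7 n92448 = n73803 := (sb E97251 F189373)
theorem E97252 : n89390 = n73504 := (c18_4 (iv1 F136304) (iv4 F137285) F142227 (iv4 F142226) (iv5 D73504) (iv4 D33790) F314680 (iv4 F103095) D143307 F337214)
theorem E97253 : n186455 = n154963 := (((D154963).symm.trans (sb E97252 F289288))).symm
theorem E97254 : n186496 = n154964 := (((D154964).symm.trans (sb E97252 F289380))).symm
theorem E97255 : n41745 = n41648 := ((((iv3 F306704)).symm.trans (sb E97252 (iv3 D89390)))).symm
theorem E97256 : n92449 = n46133 := ((((iv4 F306705)).symm.trans (sb E97252 F142226))).symm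
theorem F337218 : act 2 n154963 = n94232 := (sb E97253 F289285)
theorem F337219 : act 3 n154963 = n88810 := (sb E97253 (iv3 D186455))
theorem F337220 : act 4 n154963 = n94228 := (sb E97253 F289286)
theorem F337221 : act 7 n154963 = n88826 := (sb E97253 F289287)
theorem F337222 : act 2 n154964 = n88826 := (sb E97254 (iv2 D186496))
theorem F337223 : act 4 n154964 = n94229 := (sb E97254 F289378)
theorem F337224 : act 7 n154964 = n94232 := (sb E97254 F289379)
theorem E97257 : n89147 = n88849 := ((D89147).symm.trans (sb E97255 (iv1 F136224)))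
theorem E97258 : n89148 = n19642 := ((D89148).symm.trans (sb E97255 (iv0 D41745)))
theorem E97260 : n89391 = n72595 := ((((iv4 F109134)).symm.trans (sb E97255 D89391))).symm
theorem E97264 : n98688 = n43240 := ((D98688).symm.trans (sb E97256 (iv1 D92449)))
theorem E97265 : n98689 = n89554 := ((D98689).symm.trans (sb E97256 (iv0 F142227)))
theorem E97266 : n90127 = n89014 := ((((iv3 F136651)).symm.trans (sb E97256 F289381))).symm
theorem E97267 : n172711 = n41746 := ((((iv1 F136226)).symm.trans (sb E97257 (iv1 F270959)))).symm
theorem F337225 : act 1 n88849 = n41648 := (sb E97257 (iv0 D89147))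
theorem F337226 : act 0 n19642 = n41648 := (sb E97258 (iv1 D89148))
theorem E97268 : n153537 = n150138 := ((D153537).symm.trans (sb E97260 (iv1 F335680)))
theorem E97269 : n153538 = n41775 := ((D153538).symm.trans (sb E97260 F151749))
theorem F337227 : act 1 n43240 = n46133 := (sb E97264 (iv0 D98688))
theorem F337228 : act 0 n89554 = n46133 := (sb E97265 (iv1 D98689))
theorem F337229 : act 0 n89014 = n42128 := (sb E97266 (iv1 D90127))
theorem F337230 : act 1 n89014 = n92500 := (sb E97266 F142403)
theorem F337231 : act 2 n41746 = n89150 := (sb E97267 F270954)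
theorem E97270 : n182045 = n89230 := ((((iv3 F137139)).symm.trans (sb E97267 (iv3 F283456)))).symm
theorem E97271 : n89396 = n89155 := ((D89396).symm.trans (sb E97267 F270955))
theorem F337232 : act 7 n41746 = n82683 := (sb E97267 (iv7 D172711))
theorem F337233 : act 1 n150138 = n72595 := (sb E97268 (iv0 D153537))
theorem F337234 : act 0 n41775 = n72595 := (sb E97269 (iv1 D153538))
theorem F337235 : act 7 n89230 = n86947 := (sb E97270 (iv7 D182045))
theorem F337236 : act 0 n89155 = n41775 := (sb E97271 F137138)
theorem F337237 : act 1 n89155 = n150138 := (sb E97271 (iv0 F335679))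
theorem F337238 : act 3 n89155 = n86975 := (sb E97271 (iv3 F137076))
theorem F337239 : act 4 n89155 = n41746 := (sb E97271 (iv4 D89396))
theorem F337240 : act 6 n89155 = n41746 := (sb E97271 F287408)
theorem E97272 : n89434 = n89397 := ((c21_7 D99740 F328570 D102200 (iv6 F335683) (iv1 F337237) F337240 D89397 (iv1 D89434) F73588 (iv6 D46596) D46592)).symm
theorem F337241 : act 0 n89397 = n41762 := (sb E97272 (iv1 D89434))
theorem E97273 : n145905 = n127430 := ((c18_3 F337241 (iv4 F329756) D127430 (iv4 F317020) (iv5 D87361) F61723 (iv0 F335590) (iv4 D41748) D41746 D89397)).symm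
theorem F337242 : act 2 n127430 = n122849 := (sb E97273 F314715)
theorem F337243 : act 3 n127430 = n68415 := (sb E97273 (iv3 D145905))
theorem F337244 : act 4 n127430 = n87361 := (sb E97273 (iv4 F317020))
theorem F337245 : act 6 n127430 = n84374 := (sb E97273 F314716)
theorem F337246 : act 7 n127430 = n68453 := (sb E97273 F264333)
theorem F337247 : act 4 n117271 = n89397 := d18_1 (iv1 F183504) F337241 (iv4 F329756) D127432 (iv4 F233620) (iv0 F243338) (iv4 D117268) F183461 F183458
theorem F337248 : act 7 n89397 = n117452 := d15_2 F329751 (iv0 F337241) F183954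
theorem F337249 : act 2 n117287 = n89397 := d4_3 F337248 F183954 (iv7 F183545)
theorem F337250 : act 5 n89150 = n117287 := d2_0 F337249 (iv5 D89397) F337231
theorem F337251 : act 1 n89397 = n146686 := d15_0 (iv0 D146686) (iv7 F183545) F337249
theorem F337252 : act 7 n146686 = n89435 := d15_2 (iv0 F337241) F337251 (iv2 D89435)
theorem F337253 : act 2 n88864 = n146686 := d4_3 F337252 (iv2 D89435) (iv7 F136267)
theorem F337254 : act 3 n89423 = n146686 := d8_3 F337252 (iv3 F156936) (iv7 F156937)
theorem F337255 : act 5 n185305 = n146686 := d13_3 F337252 F153556 (iv7 F287568)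
theorem F337256 : act 6 n137419 = n146686 := d14_5 F337252 F329755 (iv7 D64601) (iv6 F100525) D137419
theorem F337257 : act 1 n88864 = n117452 := d15_0 (iv0 F329752) (iv7 F337252) (iv2 F337253)
theorem F337258 : act 1 n117287 = n88864 := d15_0 F337257 (iv7 F337248) (iv2 F337249)
theorem E97274 : n172709 = n41747 := (c17_9 F335691 D150134 F289959 (iv5 D88339) (iv4 F135191) (iv5 F136266) F337257 F310780 D172709 D89399)
theorem E97275 : n88848 = n82683 := (((iv1 F136225)).symm.trans (sb E97274 (iv1 D172709)))
theorem E97276 : n89150 = n88847 := (((F136220).symm.trans (sb E97274 F270951))).symm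
theorem E97277 : n172708 = n41477 := ((D172708).symm.trans (sb E97275 (iv1 D88848)))
theorem F337259 : act 1 n82683 = n41747 := (sb E97275 F136225)
theorem E97278 : n186538 = n41648 := (((F127380).symm.trans (sb E97275 (iv2 F289459)))).symm
theorem E97279 : n186539 = n86947 := ((((iv3 F133456)).symm.trans (sb E97275 D186539))).symm
theorem E97280 : n185990 = n41650 := (((F127381).symm.trans (sb E97275 F288521))).symm
theorem E97283 : n186535 = n41746 := ((((iv7 F337232)).symm.trans (sb E97275 F289458))).symm
theorem E97284 : n185989 = n153540 := (((iv4 F288519)).symm.trans (sb E97276 (iv4 F241331)))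
theorem E97285 : n186536 = n117287 := ((D186536).symm.trans (sb E97276 F337250))
theorem E97286 : n186537 = n153540 := ((D186537).symm.trans (sb E97276 (iv6 F241332)))
theorem F337260 : act 1 n41477 = n82683 := (sb E97277 (iv0 D172708))
theorem F337261 : act 7 n41648 = n88847 := (sb E97278 (iv7 D186538))
theorem E97287 : n182042 = n89232 := ((D182042).symm.trans (sb E97279 (iv1 F289461)))
theorem E97288 : n182043 = n89206 := ((D182043).symm.trans (sb E97279 (iv0 F289460)))
theorem E97289 : n89152 = n88595 := ((D89152).symm.trans (sb E97280 (iv1 D185990)))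
theorem E97290 : n89469 = n89153 := (((D89153).symm.trans (sb E97280 F288528))).symm
theorem E97291 : n181964 = n89151 := ((((iv3 F136854)).symm.trans (sb E97280 F288522))).symm
theorem F337262 : act 2 n41746 = n88847 := (sb E97283 (iv2 D186535))
theorem F337263 : act 4 n153540 = n88847 := (sb E97284 F288519)
theorem F337264 : act 5 n117287 = n88847 := (sb E97285 (iv5 D186536))
theorem F337265 : act 6 n153540 = n88847 := (sb E97286 (iv6 D186537))
theorem F337266 : act 1 n89232 = n86947 := (sb E97287 (iv0 D182042))
theorem F337267 : act 0 n89206 = n86947 := (sb E97288 (iv1 D182043))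
theorem F337268 : act 0 n88595 = n153540 := (sb E97289 (iv1 F241335))
theorem F337269 : act 1 n88595 = n41650 := (sb E97289 (iv0 D89152))
theorem F337270 : act 2 n89153 = n41775 := (sb E97290 (iv2 D89469))
theorem F337271 : act 3 n89153 = n172214 := (sb E97290 (iv3 F289548))
theorem F337272 : act 7 n89153 = n150138 := (sb E97290 (iv7 F335684))
theorem F337273 : act 0 n89151 = n86977 := (sb E97291 (iv1 F283256))
theorem F337274 : act 1 n89151 = n86908 := (sb E97291 (iv0 D181964))
theorem F337275 : act 5 n89151 = n185054 := (sb E97291 (iv5 F287440))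
theorem F337276 : act 5 n148052 = n185303 := d17_5 (iv1 F183518) F183515 (iv1 F183452) (iv5 F183453) (iv4 F231855) (iv0 D185303) (iv5 F136266) F337257 (iv4 D117452)
theorem F337277 : act 4 n124523 = n88864 := d18_7 (iv1 F337260) F63926 D87007 F335673 (iv5 F319321) (iv4 D146013) (iv0 F315632) F337257 F310780
theorem E97292 : n150234 = n148049 := ((c21_5 F136266 D185303 (iv5 F337276) (iv6 D148052) D148049 (iv6 D150234) (iv5 D70716) (iv1 F190485) (iv5 F304521) (iv6 F310781) (iv1 F337257))).symm
theorem F337278 : act 6 n148049 = n70716 := (sb E97292 (iv6 D150234))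
theorem F337279 : act 2 n170358 = n148049 := d3_3 F337278 (iv2 F306797) D170358
theorem F337280 : act 3 n123603 = n148049 := d7_3 F337278 F305557 D123603
theorem F337281 : act 4 n170357 = n148049 := d10_3 F337278 (iv4 F307583) D170357
theorem E97293 : n148049 = n117593 := ((c14_1 D117593 F337278 (iv7 F314530) (iv6 D117506) (iv7 F85501) D54174)).symm
theorem F337282 : act 1 n117593 = n69349 := (sb E97293 (iv0 D148049))
theorem F337283 : act 2 n117593 = n170358 := (sb E97293 (iv2 F337279))
theorem F337284 : act 3 n117593 = n123603 := (sb E97293 (iv3 F337280))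
theorem F337285 : act 4 n117593 = n170357 := (sb E97293 (iv4 F337281))
theorem F337286 : act 6 n117593 = n70716 := (sb E97293 F337278)
theorem F337287 : act 7 n170357 = n117587 := d11_2 D117593 F337285 F184187
theorem F337288 : act 1 n127537 = n170357 := d15_1 D127537 F337287 F184186
theorem F337289 : act 1 n170360 = n117587 := d15_1 D170360 (iv7 F337287) F267844
theorem F337290 : act 2 n144956 = n170360 := d15_3 F337289 F251051 (iv7 F264340)
theorem F337291 : act 3 n170360 = n145054 := d0_2 D144956 F337290 (iv2 D145054) (iv3 D67996) F264339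
theorem F337292 : act 7 n170360 = n145073 := d4_2 (iv7 F264340) F337290 (iv2 D145073)
theorem F337293 : act 0 n117698 = n123532 := d20_7 D69333 (iv1 F316811) F316812 F251045 (iv1 F337289) F337291 (iv4 F264372) (iv4 F309419) F184310 (iv1 F105590)
theorem E97294 : n96664 = n95469 := ((c20_9 (iv4 F85552) D117698 F264372 (iv3 F337291) (iv1 D170360) F125622 F58275 D44599 D95469 F312902 (iv1 D54217))).symm
theorem F337294 : act 0 n95469 = n69108 := (sb E97294 F312900)
theorem F337295 : act 1 n95469 = n45141 := (sb E97294 (iv0 D96664))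
theorem F337296 : act 2 n95469 = n69111 := (sb E97294 F312901)
theorem F337297 : act 3 n95469 = n54217 := (sb E97294 F312902)
theorem F337298 : act 5 n95469 = n124797 := (sb E97294 F312903)
theorem F337299 : act 7 n95469 = n69110 := (sb E97294 F312904)
theorem F337300 : act 0 n170358 = n117550 := d20_1 (iv4 F267847) (iv4 D117550) F183597 (iv1 D26223) (iv3 F41620) (iv4 F85552) D117698 F264372 (iv3 F337291) (iv1 D170360)
theorem F337301 : act 7 n170358 = n117503 := d15_2 (iv0 F251049) (iv0 F337300) F184071
theorem E97295 : n96256 = n44599 := (c11_3 F337299 F321661 F148056 D95469)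
theorem E97296 : n95467 = n44939 := ((D95467).symm.trans (sb E97295 (iv2 D96256)))
theorem E97297 : n95472 = n44940 := ((D95472).symm.trans (sb E97295 (iv7 F148056)))
theorem F337302 : act 2 n44939 = n44599 := (sb E97296 (iv2 D95467))
theorem E97298 : n96261 = n44600 := ((D96261).symm.trans (sb E97296 (iv7 F147111)))
theorem F337303 : act 7 n44940 = n44599 := (sb E97297 (iv7 D95472))
theorem F337304 : act 2 n44600 = n44940 := (sb E97298 F148058)
theorem F337305 : act 7 n44600 = n44939 := (sb E97298 (iv7 D96261))
theorem F337306 : act 7 n96257 = n95473 := d8_2 F337305 D96257 (iv3 D95473)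
theorem F337307 : act 7 n96258 = n95474 := d11_2 F337305 D96258 (iv4 D95474)
theorem F337308 : act 7 n96259 = n95475 := d13_2 F337305 D96259 (iv5 D95475)
theorem E97299 : n112090 = n44600 := (c0_1 (iv3 F174254) F337304 D96262 F320045 F81640 (iv2 F81612))
theorem E97300 : n95473 = n51692 := ((D95473).symm.trans (sb E97299 F174254))
theorem E97301 : n95475 = n51691 := ((D95475).symm.trans (sb E97299 (iv5 D112090)))
theorem F337309 : act 3 n51692 = n44600 := (sb E97300 (iv3 D95473))
theorem E97303 : n96257 = n50667 := (((F81614).symm.trans (sb E97300 (iv7 F337306)))).symm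
theorem F337310 : act 5 n51691 = n44600 := (sb E97301 (iv5 D95475))
theorem E97304 : n96259 = n50666 := (((F81611).symm.trans (sb E97301 (iv7 F337308)))).symm
theorem F337311 : act 3 n50667 = n44939 := (sb E97303 (iv3 D96257))
theorem F337312 : act 5 n50666 = n44939 := (sb E97304 (iv5 D96259))
theorem E97305 : n96665 = n95474 := (c1_4 (iv4 D95474) F337304 (iv4 F321661) (iv2 F312906))
theorem F337313 : act 0 n95474 = n45141 := (sb E97305 (iv1 D96665))
theorem F337314 : act 1 n95474 = n69108 := (sb E97305 F312905)
theorem F337315 : act 2 n95474 = n69110 := (sb E97305 F312906)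
theorem F337316 : act 3 n95474 = n68782 := (sb E97305 F312907)
theorem F337317 : act 5 n95474 = n124798 := (sb E97305 F312908)
theorem F337318 : act 6 n95474 = n68776 := (sb E97305 F312909)
theorem E97306 : n96258 = n69111 := (((iv7 F337307)).symm.trans (sb E97305 F312910))
theorem E97307 : n147427 = n44939 := ((D147427).symm.trans (sb E97306 (iv4 D96258)))
theorem F337319 : act 7 n69111 = n95474 := (sb E97306 F337307)
theorem F337320 : act 4 n44939 = n69111 := (sb E97307 (iv4 D147427))
theorem E97308 : n112089 = n96264 := ((c2_3 F337310 F337304 D96264 (iv2 D112089))).symm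
theorem F337321 : act 0 n96264 = n109861 := (sb E97308 (iv1 F174253))
theorem F337322 : act 1 n96264 = n109860 := (sb E97308 F174251)
theorem F337323 : act 2 n96264 = n51691 := (sb E97308 (iv2 D112089))
theorem F337324 : act 3 n96264 = n51702 := (sb E97308 F174248)
theorem F337325 : act 4 n96264 = n109692 := (sb E97308 F174249)
theorem F337326 : act 7 n96264 = n109862 := (sb E97308 F174250)
theorem F337327 : act 2 n96265 = n95476 := d3_3 (iv6 D95476) F337304 D96265
theorem E97309 : n109862 = n95470 := (c13_1 F337326 (iv5 D95470) (iv7 F337303) D96264)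
theorem F337328 : act 0 n95470 = n112088 := (sb E97309 (iv1 F174252))
theorem F337329 : act 1 n95470 = n112087 := (sb E97309 F174247)
theorem F337330 : act 2 n95470 = n50666 := (sb E97309 (iv2 D109862))
theorem F337331 : act 3 n95470 = n50677 := (sb E97309 F169852)
theorem F337332 : act 4 n95470 = n112222 := (sb E97309 (iv4 F174512))
theorem F337333 : act 6 n95470 = n80007 := (sb E97309 F325229)
theorem F337334 : act 7 n95470 = n96264 := (sb E97309 (iv7 F337326))
theorem F337335 : act 6 n173855 = n96264 := d14_5 (iv7 F337334) F337333 F122812 (iv6 F128171) D173855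
theorem F337336 : act 2 n112091 = n173855 := d3_3 F337335 F337323 D112091
theorem F337337 : act 0 n185461 = n173855 := d21_4 (iv5 F138093) (iv1 F138096) (iv5 F135292) D185461 F337335 (iv5 D96264) (iv1 D44940) D44941 F70640 D44947
theorem F337338 : act 3 n176835 = n104668 := d20_5 (iv4 D35232) F296154 (iv4 F59905) (iv3 F129374) D176835 (iv4 F287723) F337337 F272493 F128371 F298328
theorem F337339 : act 6 n104667 = n176835 := d7_0 F337338 (iv6 D104668) D104667
theorem E97310 : n174248 = n109694 := (c1_4 (iv4 F174257) F337336 F272493 F273050)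
theorem F337340 : act 0 n109694 = n83291 := (sb E97310 (iv1 F273052))
theorem F337341 : act 1 n109694 = n83290 := (sb E97310 (iv0 D174248))
theorem F337342 : act 2 n109694 = n83294 := (sb E97310 (iv2 F273050))
theorem F337343 : act 7 n109694 = n83292 := (sb E97310 F273051)
theorem F337344 : act 7 n173853 = n112091 := d4_0 F337336 (iv7 D173855) D173853
theorem F337345 : act 1 n185461 = n173853 := d15_1 (iv0 F337337) F337344 F337336
theorem F337346 : act 1 n112091 = n173851 := d15_0 (iv0 D173851) D173855 (iv2 F337336)
theorem F337347 : act 6 n89864 = n173851 := d21_3 (iv5 F71798) (iv1 F71799) D89864 (iv1 F337346) (iv6 D112091) F337310 (iv1 D44600) D44601 F70125 D44605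
theorem F337348 : act 2 n173851 = n185461 := d3_1 F337347 (iv6 D185461) (iv2 F137937)
theorem F337349 : act 4 n173851 = n104828 := d10_1 F337347 (iv6 D104828) (iv4 F137938)
theorem F337350 : act 7 n173852 = n185461 := d15_2 (iv0 D173851) D173852 (iv2 F337348)
theorem F337351 : act 3 n112096 = n173853 := d8_3 F337344 F174256 D112096
theorem F337352 : act 1 n173852 = n112091 := d15_1 D173852 (iv7 F337344) (iv2 D173853)
theorem E97311 : n174257 = n83284 := (c19_2 F337340 D174257 (iv4 F302610) F116008 (iv1 F55992) F313455 F97335 (iv3 F97810) (iv1 F108479) (iv5 F130760) (iv4 F189148) F305102 (iv1 F110275) F321767 F100388 F48786 (iv1 F48517) (iv5 F38647) (iv4 F79972) (iv3 F169680))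
theorem E97312 : n174234 = n83291 := ((D174234).symm.trans (sb E97311 (iv5 D174257)))
theorem E97313 : n174255 = n83285 := ((D174255).symm.trans (sb E97312 F273026))
theorem F337353 : act 5 n83291 = n83284 := (sb E97312 (iv5 D174234))
theorem F337354 : act 3 n83285 = n83291 := (sb E97313 (iv3 D174255))
theorem F337355 : act 3 n174258 = n174237 := d7_3 (iv6 D174237) F337354 D174258
theorem E97314 : n174249 = n160834 := (c8_3 (iv7 F300953) F337354 F273053 F253994)
theorem F337356 : act 2 n160834 = n83290 := (sb E97314 (iv2 D174249))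
theorem F337357 : act 7 n160834 = n83291 := (sb E97314 (iv7 F273053))
theorem F337358 : act 2 n174250 = n174242 := d0_3 (iv3 F253994) F337356 D174250 F273037 F300465
theorem E97315 : n174252 = n160833 := (c2_3 D160834 F337356 D174252 (iv2 D160833))
theorem F337359 : act 5 n160833 = n83290 := (sb E97315 (iv5 D174252))
theorem E97316 : n174263 = n127546 := (c17_9 D147643 F334247 F334244 (iv5 D160959) (iv4 F253992) F337359 (iv0 D83290) D83293 D174263 F205013)
theorem F337360 : act 0 n127546 = n83293 := (sb E97316 (iv1 D174263))
theorem F337361 : act 0 n121144 = n174265 := d21_4 D166708 F262408 (iv5 D121143) D121144 (iv6 D174265) (iv5 D83293) D83290 (iv5 F337359) F253993 F122823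
theorem F337362 : act 4 n174265 = n173210 := d18_3 F334254 (iv4 F193207) F337361 (iv5 D173210) F127676 F205694 F312344 (iv0 D62435) D62437
theorem F337363 : act 0 n174876 = n164192 := d20_1 F330853 F258777 (iv3 D78877) F115644 (iv3 F88454) (iv4 F193207) F337361 F337362 F271508 (iv1 F330851)
theorem F337364 : act 2 n174880 = n164192 := d15_3 (iv0 F337363) (iv0 D174876) D174880
theorem F337365 : act 1 n157921 = n164192 := d15_0 (iv0 F337363) (iv7 F330848) F262469
theorem F337366 : act 3 n121280 = n129023 := d0_4 F333019 F337364 (iv3 D164192) F299719 (iv2 F222166)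
theorem E97317 : n157784 = n129022 := ((c5_4 D121280 F337366 (iv4 D129023) D129022 (iv4 D157784) (iv3 F296429))).symm
theorem F337367 : act 0 n129022 = n78562 := (sb E97317 F296430)
theorem F337368 : act 1 n129022 = n78539 := (sb E97317 F296431)
theorem F337369 : act 2 n129022 = n78559 := (sb E97317 (iv2 F297413))
theorem F337370 : act 4 n129022 = n75177 := (sb E97317 (iv4 D157784))
theorem F337371 : act 6 n129022 = n145720 := (sb E97317 (iv6 F326484))
theorem F337372 : act 7 n129022 = n78560 := (sb E97317 (iv7 F297405))
theorem F337373 : act 5 n106987 = n121280 := d6_0 F337366 F208891 (iv3 F164907)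
theorem F337374 : act 3 n139004 = n157881 := d8_3 F299556 F337366 (iv7 F222183)
theorem E97318 : n120288 = n106962 := ((c20_4 (iv4 D58761) D58759 F92854 (iv3 F164871) (iv1 F256380) F337366 (iv4 D129023) (iv1 F207188) F207185 F112140 (iv1 F92866))).symm
theorem F337375 : act 0 n106962 = n121280 := (sb E97318 (iv1 F256380))
theorem F337376 : act 1 n106962 = n121283 := (sb E97318 F256379)
theorem F337377 : act 2 n106962 = n77942 := (sb E97318 F191543)
theorem F337378 : act 4 n106962 = n77939 := (sb E97318 F191544)
theorem F337379 : act 6 n106962 = n55356 := (sb E97318 (iv6 D120288))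
theorem E97319 : n125516 = n75225 := (((iv7 F201864)).symm.trans (sb E97318 F297432))
theorem E97320 : n157903 = n58759 := (((iv3 F248811)).symm.trans (sb E97319 (iv3 D125516)))
theorem E97321 : n157907 = n106401 := ((D157907).symm.trans (sb E97319 F201863))
theorem F337380 : act 7 n75225 = n106962 := (sb E97319 F201864)
theorem F337381 : act 3 n58759 = n75225 := (sb E97320 F248811)
theorem E97322 : n125517 = n75223 := ((D125517).symm.trans (sb E97320 (iv6 D157903)))
theorem F337382 : act 2 n106401 = n180403 := (sb E97321 (iv2 F280771))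
theorem F337383 : act 5 n106401 = n75225 := (sb E97321 (iv5 D157907))
theorem E97323 : n157901 = n106948 := ((D157901).symm.trans (sb E97322 F201865))
theorem E97324 : n120287 = n106964 := (((iv4 F191542)).symm.trans (sb E97322 F201866))
theorem F337384 : act 6 n75223 = n58759 := (sb E97322 (iv6 D125517))
theorem F337385 : act 0 n106948 = n180391 := (sb E97323 (iv1 F280728))
theorem F337386 : act 1 n106948 = n180390 := (sb E97323 F280724)
theorem F337387 : act 2 n106948 = n75223 := (sb E97323 (iv2 D157901))
theorem F337388 : act 3 n106948 = n111280 := (sb E97323 (iv3 F326773))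
theorem F337389 : act 7 n106948 = n111426 := (sb E97323 (iv7 F327452))
theorem F337390 : act 0 n106964 = n164010 := (sb E97324 F258474)
theorem F337391 : act 3 n106964 = n55356 := (sb E97324 (iv3 D120287))
theorem F337392 : act 4 n106964 = n75223 := (sb E97324 F191542)
theorem F337393 : act 7 n106964 = n124230 := (sb E97324 (iv7 F198718))
theorem F337394 : act 4 n180403 = n156040 := d19_6 D128686 F208887 D129023 (iv3 F337366) (iv1 F299552) D180403 F245163 F164857 (iv5 D49893) (iv4 D24330) F18733 D24244 F38009 D31511 F49838 (iv1 D25233) F22959 D28743 D60523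
theorem F337395 : act 3 n111773 = n129032 := d20_9 (iv4 D60667) D60665 D129023 (iv3 F337366) (iv1 F299552) (iv3 F326776) F172919 F81291 D111773 (iv1 D129032)
theorem F337396 : act 3 n139018 = n109236 := d8_3 (iv7 F173461) F337395 (iv7 F222197)
theorem F337397 : act 4 n108615 = n125518 := d20_8 D58761 F92865 (iv4 F78171) (iv3 F112140) (iv1 F207272) (iv3 F337395) (iv4 D111773) (iv1 F168478) (iv3 D125518) (iv1 D58760)
theorem F337398 : act 2 n125518 = n108803 := d1_1 F337397 F168729 (iv2 F168476)
theorem F337399 : act 4 n106946 = n109235 := d5_4 F337397 (iv3 D125518) (iv4 F92862) (iv3 F164830) F169184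
theorem F337400 : act 6 n125518 = n108614 := d10_2 D108615 F337397 (iv4 D108614)
theorem F337401 : act 5 n156074 = n108803 := d16_5 F337397 F201867 F111114 F111124 (iv4 F245239) F168729 (iv5 F81117) F81118 (iv2 F168476)
theorem F337402 : act 2 n111428 = n106946 := d16_9 F337399 F169179 F337397 F201867 F111114 F111124 (iv4 F245239) F337401 (iv7 F172920)
theorem E97325 : n156073 = n109224 := (c17_7 D24568 D50405 D109235 F169179 F337397 F201867 D156073 (iv5 D109224) (iv0 D50399) F38554)
theorem F337403 : act 0 n109224 = n74242 := (sb E97325 (iv1 D156073))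
theorem F337404 : act 1 n109224 = n106945 := (sb E97325 F245242)
theorem F337405 : act 5 n106945 = n111428 := d9_8 (iv5 F201867) (iv4 F337397) (iv5 F169179) (iv4 F337399) (iv5 D106946) (iv4 F110968) F245039 F245034 F172919 F81117 (iv4 F168729) (iv5 F337401) F245239 (iv5 F111124) (iv4 F111114)
theorem F337406 : act 3 n180403 = n106945 := d6_3 F337405 F326776 D180403
theorem E97326 : n156072 = n109227 := ((c17_2 (iv1 F81068) D109227 (iv1 F245237) F337405 F172919 F81117 (iv0 F81119) (iv5 D50410) F39179 (iv4 F81066))).symm
theorem F337407 : act 0 n109227 = n106945 := (sb E97326 (iv1 F245237))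
theorem F337408 : act 1 n109227 = n74242 := (sb E97326 (iv0 D156072))
theorem E97327 : n140486 = n109225 := ((c21_10 (iv5 D156594) (iv1 D74458) D74459 F336679 (iv1 F172912) D111428 (iv5 F337405) (iv1 F337404) (iv5 D109224) D109225 (iv1 F246265))).symm
theorem F337409 : act 0 n109225 = n156594 := (sb E97327 (iv1 F246265))
theorem F337410 : act 1 n109225 = n156592 := (sb E97327 (iv0 F246260))
theorem F337411 : act 5 n109225 = n65940 := (sb E97327 (iv5 D140486))
theorem F337412 : act 5 n109671 = n111766 := d2_2 F337411 (iv2 F169645) F173451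
theorem E97328 : n156592 = n111594 := ((c17_10 (iv1 F337410) F337411 F168144 F336693 (iv4 D51423) (iv5 F39226) D50077 (iv5 F79766) (iv0 F81239) (iv4 F173134))).symm
theorem F337413 : act 0 n111594 = n109225 := (sb E97328 (iv1 F337410))
theorem F337414 : act 1 n111594 = n139735 := (sb E97328 F246261)
theorem E97329 : n141966 = n140487 := ((((iv2 F223651)).symm.trans (sb E97328 F246259))).symm
theorem F337415 : act 5 n111594 = n74457 := (sb E97328 (iv5 D156592))
theorem F337416 : act 5 n140487 = n66550 := (sb E97329 (iv5 D141966))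
theorem F337417 : act 7 n140487 = n156594 := (sb E97329 (iv7 F246263))
theorem F337418 : act 2 n156594 = n108967 := d4_1 F337417 (iv7 F173135) (iv2 F223651)
theorem F337419 : act 4 n156594 = n108637 := d11_1 F337417 F168531 D140487
theorem F337420 : act 6 n156594 = n108636 := d14_1 F337417 F168524 (iv6 F81244) (iv7 F172744) (iv6 F223652)
theorem E97330 : n140702 = n108450 := (c21_1 D140702 (iv1 F167684) D156594 F337420 F168525 (iv6 D50172) D50171 (iv1 F79564) (iv5 D50208) D50209 F101701)
theorem F337421 : act 5 n108450 = n66017 := (sb E97330 (iv5 D140702))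
theorem F337422 : act 5 n111355 = n108543 := d12_5 F167845 F337421 (iv6 D66017) (iv5 F81061) D111355
theorem E97331 : n138776 = n51518 := (c2_3 F337422 F167843 (iv5 F221914) (iv2 F172802))
theorem E97332 : n115787 = n111735 := (((D111735).symm.trans (sb E97331 (iv1 F221915)))).symm
theorem E97333 : n115789 = n111736 := (((D111736).symm.trans (sb E97331 F221916))).symm
theorem E97334 : n111734 = n71118 := (((iv3 F173435)).symm.trans (sb E97331 F322269))
theorem E97335 : n111737 = n65163 := ((D111737).symm.trans (sb E97331 F221914))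
theorem E97336 : n111738 = n65162 := ((D111738).symm.trans (sb E97331 (iv7 D138776)))
theorem F337423 : act 0 n111735 = n108542 := (sb E97332 F180163)
theorem F337424 : act 2 n111735 = n138774 := (sb E97332 F221913)
theorem F337425 : act 5 n111735 = n53389 := (sb E97332 (iv5 D115787))
theorem F337426 : act 7 n111735 = n138773 := (sb E97332 F221910)
theorem F337427 : act 1 n111736 = n108542 := (sb E97333 F180164)
theorem F337428 : act 2 n111736 = n138773 := (sb E97333 F221909)
theorem F337429 : act 5 n111736 = n53390 := (sb E97333 (iv5 D115789))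
theorem F337430 : act 7 n111736 = n138774 := (sb E97333 (iv7 F221911))
theorem F337431 : act 3 n71118 = n51518 := (sb E97334 F173435)
theorem E97337 : n150848 = n51517 := ((D150848).symm.trans (sb E97334 (iv6 D111734)))
theorem F337432 : act 5 n65163 = n51518 := (sb E97335 (iv5 D111737))
theorem F337433 : act 7 n65162 = n51518 := (sb E97336 (iv7 D111738))
theorem F337434 : act 6 n51517 = n71118 := (sb E97337 (iv6 D150848))
theorem E97338 : n139578 = n134013 := (c9_15 F337422 F167844 F79386 F328886 (iv5 D22398) (iv4 F34915) D46644 F329854 (iv5 D65162) F49038 F24154 (iv4 F24191) D30699 D65493 D139578 F215946)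
theorem F337435 : act 0 n134013 = n99877 := (sb E97338 F329536)
theorem F337436 : act 1 n134013 = n99876 := (sb E97338 F329537)
theorem E97339 : n110839 = n91358 := ((F215945).symm.trans (sb E97338 F329538))
theorem F337437 : act 3 n134013 = n184470 := (sb E97338 F329539)
theorem F337438 : act 5 n134013 = n65493 := (sb E97338 (iv5 D139578))
theorem F337439 : act 7 n134013 = n82008 := (sb E97338 F329540)
theorem F337440 : act 2 n91358 = n134013 := (sb E97339 (iv2 F215945))
theorem F337441 : act 4 n91358 = n51518 := (sb E97339 F171682)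
theorem F337442 : act 6 n91358 = n51102 := (sb E97339 (iv6 D110839))
theorem F337443 : act 7 n108542 = n111355 := d13_0 F337422 (iv7 D108543) D108542
theorem F337444 : act 0 n138773 = n111355 := d17_2 (iv1 F164697) (iv5 F221908) F337422 F167844 F79386 F49127 D30704 F49146 (iv4 F84249)
theorem F337445 : act 0 n115793 = n99871 := d17_0 (iv5 D99871) F329534 (iv5 F337438) F215946 F337422 F167847 (iv5 F180166) (iv0 D115791) D115793
theorem F337446 : act 1 n138774 = n111355 := d17_6 (iv1 F167186) (iv5 F171578) (iv1 F171580) F111414 D67582 (iv5 F221912) F337422 F167847 F167848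
theorem F337447 : act 4 n139594 = n99876 := d18_1 (iv1 F222739) (iv1 F337436) F215946 F337422 F167844 F79390 D65166 F167851 D108467
theorem E97340 : n108689 = n53388 := (c21_8 F180166 (iv1 F167847) (iv5 F337422) (iv6 D111355) (iv1 D51356) D51357 F81064 D108689 D115784 F180161 D115791)
theorem E97341 : n115782 = n50397 := ((D115782).symm.trans (sb E97340 (iv1 F168625)))
theorem E97342 : n115783 = n50183 := ((D115783).symm.trans (sb E97340 (iv0 D108689)))
theorem F337448 : act 1 n50397 = n53388 := (sb E97341 (iv0 D115782))
theorem F337449 : act 0 n50183 = n53388 := (sb E97342 (iv1 D115783))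
theorem F337450 : act 7 n108690 = n106867 := d15_2 (iv0 F337449) D108690 F164695
theorem F337451 : act 2 n115785 = n108690 := d4_3 F337450 F164695 D115785
theorem F337452 : act 4 n109199 = n108690 := d11_3 F337450 F164696 D109199
theorem F337453 : act 6 n140377 = n108690 := d14_5 F337450 (iv6 D106867) F78079 D65886 D140377
theorem F337454 : act 3 n111746 = n178614 := d19_3 (iv1 F337448) (iv5 F81286) (iv4 F173439) (iv1 F314610) (iv5 D136603) F312267 F60459 (iv1 F46259) (iv5 F46261) (iv4 D16846) (iv3 F299500) (iv1 D12816) F9419 (iv4 F9757) (iv3 F21950) D27550 D57679 (iv4 F331047) F180147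
theorem F337455 : act 5 n136356 = n111746 := d6_0 F337454 (iv5 D178614) (iv3 F314470)
theorem E97343 : n136617 = n111742 := (c8_3 D111746 F337454 (iv7 F314608) F173437)
theorem F337456 : act 0 n111742 = n64222 := (sb E97343 (iv1 F219761))
theorem F337457 : act 1 n111742 = n64217 := (sb E97343 (iv0 D136617))
theorem F337458 : act 2 n111742 = n136367 := (sb E97343 (iv2 F219756))
theorem F337459 : act 5 n111742 = n136366 := (sb E97343 F219755)
theorem F337460 : act 7 n111742 = n178614 := (sb E97343 F314608)
theorem F337461 : act 4 n136367 = n124081 := d16_0 (iv5 D124081) F309002 (iv5 D61632) (iv4 F307940) D39338 D85065 D178614 (iv7 F337460) F337458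
theorem E97344 : n124085 = n111742 := (c1_3 F337461 F198482 D124085 F337458)
theorem F337462 : act 4 n111742 = n57818 := (sb E97344 (iv4 D124085))
theorem F337463 : act 4 n178614 = n123173 := d9_9 D136367 F337461 (iv5 D124081) F309002 (iv5 D61632) (iv4 F307940) D39338 D85065 D178614 (iv5 D123173) F90494 (iv5 F312239) (iv4 F307942) F96019 (iv4 F99793)
theorem E97345 : n179793 = n51523 := (c5_4 F337463 F197404 (iv4 F302090) (iv3 F280023) (iv4 F173439) F337454)
theorem E97346 : n111721 = n85873 := (((iv3 F173432)).symm.trans (sb E97345 F280023))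
theorem E97347 : n85872 = n50397 := (((F81286).symm.trans (sb E97345 (iv5 D179793)))).symm
theorem F337464 : act 3 n85873 = n51523 := (sb E97346 F173432)
theorem E97348 : n109177 = n39717 := ((((iv5 D85873)).symm.trans (sb E97346 F173433))).symm
theorem E97349 : n57822 = n51514 := ((F302091).symm.trans (sb E97346 (iv7 D111721)))
theorem E97353 : n179745 = n109207 := ((((iv4 F169169)).symm.trans (sb E97347 (iv4 F279970)))).symm
theorem E97354 : n179794 = n109218 := (((D109218).symm.trans (sb E97347 D179794))).symm
theorem F337465 : act 3 n39717 = n50397 := (sb E97348 F169157)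
theorem E97356 : n58509 = n50386 := (((iv7 F92442)).symm.trans (sb E97348 (iv7 D109177)))
theorem E97357 : n111719 = n82017 := ((D111719).symm.trans (sb E97349 F302064))
theorem E97358 : n111720 = n111353 := ((D111720).symm.trans (sb E97349 (iv0 F336748)))
theorem E97359 : n111708 = n85906 := (((iv2 F173428)).symm.trans (sb E97349 (iv2 F302092)))
theorem E97361 : n111718 = n27599 := (((iv4 F173431)).symm.trans (sb E97349 (iv4 D57822)))
theorem F337466 : act 7 n51514 = n85873 := (sb E97349 (iv7 F302091))
theorem F337467 : act 3 n109207 = n85857 := (sb E97353 (iv3 D179745))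
theorem F337468 : act 3 n109218 = n85874 := (sb E97354 F280024)
theorem E97363 : n109175 = n55471 := ((D109175).symm.trans (sb E97356 F304342))
theorem E97364 : n109176 = n57775 := ((D109176).symm.trans (sb E97356 (iv0 F304859)))
theorem E97365 : n124105 = n109158 := ((((iv2 F169148)).symm.trans (sb E97356 (iv2 F304513)))).symm
theorem E97366 : n109173 = n27842 := (((iv4 F169155)).symm.trans (sb E97356 (iv4 D58509)))
theorem F337469 : act 7 n50386 = n39717 := (sb E97356 F92442)
theorem F337470 : act 1 n82017 = n51514 := (sb E97357 (iv0 D111719))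
theorem F337471 : act 0 n111353 = n51514 := (sb E97358 (iv1 D111720))
theorem F337472 : act 2 n85906 = n51514 := (sb E97359 F173428)
theorem E97368 : n179865 = n51510 := ((D179865).symm.trans (sb E97359 (iv6 D111708)))
theorem F337473 : act 4 n27599 = n51514 := (sb E97361 F173431)
theorem E97369 : n57823 = n51513 := ((D57823).symm.trans (sb E97361 (iv6 D111718)))
theorem F337474 : act 1 n55471 = n50386 := (sb E97363 (iv0 D109175))
theorem F337475 : act 0 n57775 = n50386 := (sb E97364 (iv1 D109176))
theorem F337476 : act 0 n109158 = n85871 := (sb E97365 F304512)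
theorem F337477 : act 1 n109158 = n85870 := (sb E97365 (iv0 F304540))
theorem F337478 : act 4 n109158 = n57826 := (sb E97365 (iv4 D124105))
theorem F337479 : act 5 n109158 = n85906 := (sb E97365 F304514)
theorem F337480 : act 7 n109158 = n85836 := (sb E97365 F304515)
theorem F337481 : act 4 n27842 = n50386 := (sb E97366 F169155)
theorem E97370 : n58510 = n50385 := ((D58510).symm.trans (sb E97366 (iv6 D109173)))
theorem E97371 : n109172 = n85907 := (((iv4 F169154)).symm.trans (sb E97368 F280135))
theorem F337482 : act 6 n51510 = n85906 := (sb E97368 (iv6 D179865))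
theorem E97374 : n124086 = n111717 := (((D111717).symm.trans (sb E97369 (iv3 F198484)))).symm
theorem E97375 : n124101 = n109157 := ((((iv5 F169147)).symm.trans (sb E97369 D124101))).symm
theorem F337483 : act 6 n51513 = n27599 := (sb E97369 (iv6 D57823))
theorem E97379 : n125124 = n109171 := (((D109171).symm.trans (sb E97370 (iv3 F201031)))).symm
theorem F337484 : act 6 n50385 = n27842 := (sb E97370 (iv6 D58510))
theorem E97380 : n125138 = n109174 := (((D109174).symm.trans (sb E97370 D125138))).symm
theorem F337485 : act 2 n85907 = n51513 := (sb E97371 F169153)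
theorem F337486 : act 4 n85907 = n51510 := (sb E97371 F169154)
theorem F337487 : act 5 n85907 = n50385 := (sb E97371 (iv5 D109172))
theorem F337488 : act 6 n111717 = n57818 := (sb E97374 (iv6 D124086))
theorem F337489 : act 6 n109157 = n57826 := (sb E97375 F198503)
theorem F337490 : act 5 n109171 = n179863 := (sb E97379 (iv5 F280134))
theorem F337491 : act 6 n109171 = n58506 := (sb E97379 (iv6 D125124))
theorem F337492 : act 5 n109174 = n179868 := (sb E97380 (iv5 F280136))
theorem F337493 : act 6 n109174 = n85878 := (sb E97380 F201048)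
theorem F337494 : act 5 n123171 = n136652 := d17_7 D64227 F219678 F313703 D178614 F337463 (iv5 D123173) D123171 (iv0 D136652) (iv4 D64229)
theorem F337495 : act 2 n136652 = n124074 := d2_1 F337494 (iv5 D124074) (iv2 F282671)
theorem F337496 : act 7 n136652 = n123221 := d13_2 F314377 F337494 (iv5 D123221)
theorem F337497 : act 0 n136652 = n159134 := d17_2 (iv1 F197402) F337494 (iv5 D159134) F313766 (iv5 D65343) F309084 F312167 F309001 (iv4 F309002)
theorem E97381 : n160345 = n107950 := (c21_5 F337494 F337497 (iv5 D159134) (iv6 F301783) D160345 (iv6 D107950) D107949 F166815 F108170 F311164 (iv1 F197402))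
theorem E97382 : n122666 = n76859 := ((F309876).symm.trans (sb E97381 (iv0 D160345)))
theorem F337498 : act 0 n76859 = n107950 := (sb E97382 (iv1 F309876))
theorem E97383 : n160346 = n56982 := ((D160346).symm.trans (sb E97382 (iv0 D122666)))
theorem F337499 : act 0 n56982 = n76859 := (sb E97383 (iv1 D160346))
theorem E97384 : n123215 = n39085 := (c21_5 (iv5 D136655) D136652 (iv5 F337494) F312098 (iv1 F243548) (iv6 D39085) D39084 F72104 (iv5 F89617) D122342 F323355)
theorem E97385 : n84628 = n57358 := ((D84628).symm.trans (sb E97384 (iv1 D123215)))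
theorem E97386 : n154837 = n84629 := (((D84629).symm.trans (sb E97384 F243548))).symm
theorem E97387 : n124177 = n123214 := (((D123214).symm.trans (sb E97385 (iv1 F302891)))).symm
theorem F337500 : act 1 n57358 = n39085 := (sb E97385 (iv0 D84628))
theorem E97388 : n177723 = n73430 := ((((iv2 F110139)).symm.trans (sb E97385 D177723))).symm
theorem E97389 : n153894 = n123213 := ((((iv3 F197510)).symm.trans (sb E97385 (iv3 F305567)))).symm
theorem E97393 : n177728 = n123217 := (((D123217).symm.trans (sb E97385 D177728))).symm
theorem E97394 : n177730 = n73434 := ((D177730).symm.trans (sb E97386 F243545))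
theorem E97395 : n177732 = n123171 := ((D177732).symm.trans (sb E97386 (iv6 F312098)))
theorem F337501 : act 0 n123214 = n84629 := (sb E97387 F302890)
theorem F337502 : act 2 n123214 = n57884 := (sb E97387 (iv2 D124177))
theorem F337503 : act 3 n123214 = n69910 := (sb E97387 F302892)
theorem F337504 : act 7 n123214 = n69906 := (sb E97387 F302893)
theorem F337505 : act 7 n73430 = n84629 := (sb E97388 (iv7 F277178))
theorem F337506 : act 0 n123213 = n73267 := (sb E97389 (iv1 F241853))
theorem F337507 : act 1 n123213 = n72813 := (sb E97389 (iv0 D153894))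
theorem E97396 : n162622 = n123598 := ((((iv4 F198017)).symm.trans (sb E97389 F256854))).symm
theorem F337508 : act 2 n123217 = n84629 := (sb E97393 F277180)
theorem F337509 : act 4 n73434 = n84629 := (sb E97394 (iv4 D177730))
theorem F337510 : act 6 n123171 = n84629 := (sb E97395 (iv6 D177732))
theorem F337511 : act 0 n123598 = n78102 := (sb E97396 (iv1 D162622))
theorem F337512 : act 1 n123598 = n80215 := (sb E97396 F303404)
theorem E97397 : n173358 = n162621 := ((c15_2 F337512 (iv0 F303403) (iv7 D173358) (iv2 F323004))).symm
theorem F337513 : act 2 n162621 = n82961 := (sb E97397 F271818)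
theorem F337514 : act 7 n162621 = n82960 := (sb E97397 (iv7 D173358))
theorem F337515 : act 5 n123598 = n176126 := d21_0 (iv1 D176126) (iv5 F303621) (iv6 D162702) F300814 F304812 F302401 F299474 D36542 D80215 (iv1 F337512)
theorem F337516 : act 2 n176126 = n173356 := d2_1 F337515 (iv5 D173356) (iv2 F323004)
theorem F337517 : act 7 n176126 = n173361 := d13_2 (iv7 F323005) F337515 (iv5 D173361)
theorem F337518 : act 2 n173361 = n176125 := d15_3 (iv0 D176125) D176126 F337517
theorem F337519 : act 7 n173356 = n176125 := d4_2 (iv7 F337517) F337516 (iv2 F337518)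
theorem F337520 : act 5 n176125 = n162621 := d13_1 F337519 F337514 D173356
theorem F337521 : act 3 n175101 = n176125 := d6_3 F337520 F309735 D175101
theorem E97398 : n162621 = n130150 := (c21_9 (iv5 D28951) D28947 D61085 F317541 (iv1 F300815) D162702 F303621 D176125 F337520 (iv6 D130150) (iv1 D61100))
theorem F337522 : act 0 n130150 = n80215 := (sb E97398 F303403)
theorem F337523 : act 1 n130150 = n78102 := (sb E97398 (iv0 D162621))
theorem E97399 : n130981 = n82961 := (((iv2 F209686)).symm.trans (sb E97398 F337513))
theorem F337524 : act 3 n130150 = n83626 := (sb E97398 F309735)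
theorem F337525 : act 4 n130150 = n153895 := (sb E97398 F256852)
theorem F337526 : act 5 n130150 = n176125 := (sb E97398 (iv5 F337520))
theorem F337527 : act 7 n130150 = n82960 := (sb E97398 F337514)
theorem F337528 : act 2 n82961 = n130150 := (sb E97399 F209686)
theorem E97400 : n173362 = n61449 := ((D173362).symm.trans (sb E97399 (iv6 D130981)))
theorem F337529 : act 6 n61449 = n82961 := (sb E97400 (iv6 D173362))
theorem F337530 : act 6 n176125 = n133264 := d12_2 D130150 F337526 (iv5 D133264) (iv6 D62539) F97469
theorem E97401 : n173361 = n136915 := ((c3_3 F337530 F325513 D136915 F337518)).symm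
theorem F337531 : act 2 n136915 = n176125 := (sb E97401 F337518)
theorem F337532 : act 5 n136915 = n82961 := (sb E97401 (iv5 D173361))
theorem F337533 : act 7 n136915 = n176126 := (sb E97401 (iv7 F337517))
theorem F337534 : act 4 n135999 = n176125 := d10_3 F337530 F325514 D135999
theorem F337535 : act 6 n114823 = n173356 := d14_5 F337519 F337530 F325515 D136902 (iv7 F220081)
theorem F337536 : act 0 n175701 = n133264 := d21_4 (iv5 D38630) D38628 D83877 D175701 (iv6 F337530) (iv5 F337526) F337522 D167086 F263172 (iv1 F304827)
theorem F337537 : act 5 n113676 = n175701 := d17_1 F324722 F337536 (iv5 D133264) (iv4 F319943) F143123 (iv0 F68255) D90566 F139389 (iv4 F324726)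
theorem F337538 : act 3 n126720 = n175701 := d19_19 F337536 (iv5 D133264) (iv4 F319943) F143122 F85414 (iv5 D31575) (iv4 D14866) (iv3 D7078) (iv1 D3230) D3232 (iv4 F11284) D14758 (iv1 F166929) (iv5 D31165) D31164 D66898 F102891 D111061 F203939
theorem E97402 : n133280 = n132882 := (c21_8 F337537 F337536 (iv5 D133264) (iv6 D62539) (iv1 D29555) D29557 D62543 D133280 (iv5 D132882) D132883 F324722)
theorem F337539 : act 0 n132882 = n113499 := (sb E97402 (iv1 F327280))
theorem F337540 : act 1 n132882 = n62543 := (sb E97402 (iv0 D133280))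
theorem E97403 : n164826 = n84603 := (((F333818).symm.trans (sb E97402 F320957))).symm
theorem F337541 : act 3 n132882 = n78679 := (sb E97402 F320958)
theorem F337542 : act 7 n132882 = n121215 := (sb E97402 F320959)
theorem E97404 : n177639 = n79200 := ((D177639).symm.trans (sb E97403 (iv1 D164826)))
theorem E97405 : n177640 = n133268 := ((D177640).symm.trans (sb E97403 (iv0 F320963)))
theorem E97406 : n133281 = n132887 := ((((iv7 F333816)).symm.trans (sb E97403 (iv7 F320962)))).symm
theorem F337543 : act 1 n79200 = n84603 := (sb E97404 (iv0 D177639))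
theorem F337544 : act 0 n133268 = n84603 := (sb E97405 (iv1 D177640))
theorem F337545 : act 0 n132887 = n62543 := (sb E97406 (iv1 D133281))
theorem F337546 : act 1 n132887 = n113499 := (sb E97406 (iv0 F327279))
theorem F337547 : act 2 n132887 = n121215 := (sb E97406 F320961)
theorem E97407 : n141787 = n113676 := (c21_6 (iv5 F47337) (iv1 F208618) (iv5 D62308) D62309 D132761 F321105 F337537 F337536 (iv5 D133264) (iv6 D62539) (iv1 D29555))
theorem F337548 : act 2 n113676 = n66479 := (sb E97407 (iv2 D141787))
theorem F337549 : act 6 n113676 = n132761 := (sb E97407 (iv6 F321105))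
theorem F337550 : act 1 n175701 = n126727 := d15_1 (iv0 F337536) (iv7 F203948) (iv2 F325513)
theorem F337551 : act 7 n175701 = n136900 := d15_2 (iv0 F325512) (iv0 F337536) (iv2 F223081)
theorem F337552 : act 6 n136900 = n149521 := d14_1 F337551 (iv7 F326899) (iv6 D101662) (iv7 F274685) D175701
theorem F337553 : act 6 n150591 = n136739 := d7_2 F337552 (iv3 F237110) (iv3 F223082)
theorem F337554 : act 6 n101656 = n155619 := d14_5 F244654 F337553 (iv7 F219915) F331850 F331848
theorem F337555 : act 5 n150582 = n173377 := d21_8 F59368 (iv1 F118117) D58233 D124634 F330918 (iv6 F337553) F237111 (iv1 F237104) (iv6 D173377) (iv1 F127883)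
theorem F337556 : act 2 n149519 = n150582 := d2_3 F337555 F271857 (iv5 F327488)
theorem F337557 : act 6 n160603 = n150582 := d12_0 F337555 (iv6 D173377) F127876 (iv6 F316629) F316628
theorem F337558 : act 7 n150581 = n149519 := d15_2 F237104 F237101 F337556
theorem F337559 : act 7 n149520 = n150582 := d15_2 (iv0 D149519) D149520 (iv2 F337556)
theorem F337560 : act 2 n150581 = n149520 := d4_3 F337559 (iv2 F337556) (iv7 F337558)
theorem F337561 : act 5 n175012 = n150581 := d13_3 F337558 F327488 D175012
theorem F337562 : act 3 n158541 = n113676 := d7_3 F337549 F321103 D158541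
theorem F337563 : act 4 n132761 = n113677 := d10_1 F337549 (iv6 D113677) D113676
theorem F337564 : act 2 n113677 = n133160 := d1_1 F337563 (iv4 D133160) (iv2 F321102)
theorem F337565 : act 3 n146371 = n158539 := d5_3 F337563 F176869 (iv4 F229702) (iv4 D158539) (iv3 F321103)
theorem F337566 : act 7 n113677 = n158539 := d11_2 (iv7 F321106) F337563 (iv4 D158539)
theorem F337567 : act 0 n113677 = n132865 := d18_2 D132761 F337563 (iv4 F319783) (iv5 D83201) F59167 D46017 (iv4 F274639) F112943 F321683
theorem F337568 : act 2 n158539 = n130492 := d4_1 F337566 (iv7 F213921) (iv2 F337564)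
theorem E97408 : n146374 = n146371 := ((c8_2 F337566 (iv3 F337565) (iv7 D146374) (iv3 F176869))).symm
theorem F337569 : act 5 n146371 = n71367 := (sb E97408 F229703)
theorem F337570 : act 7 n146371 = n68633 := (sb E97408 (iv7 D146374))
theorem F337571 : act 5 n158539 = n114119 := d13_1 F337566 (iv7 D114119) (iv5 F176870)
theorem F337572 : act 1 n130492 = n132865 := d15_0 (iv0 F337567) F337566 F337568
theorem F337573 : act 0 n88957 = n123272 := d18_2 (iv1 F272689) F155440 (iv4 F305422) F307526 D130492 F337572 (iv4 F319783) (iv0 F156787) (iv5 D101766)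
theorem E97409 : n130505 = n62206 := (c20_5 F23047 D13799 D28988 D61232 D130505 (iv3 F319782) F319783 (iv1 F337572) (iv4 D130492) (iv3 D61220) (iv1 F46608))
theorem E97410 : n133175 = n132582 := (((D132582).symm.trans (sb E97409 (iv1 F213951)))).symm
theorem E97411 : n132583 = n61232 := ((D132583).symm.trans (sb E97409 (iv0 D130505)))
theorem E97412 : n130506 = n62272 := (((F326066).symm.trans (sb E97410 (iv1 F213953)))).symm
theorem F337574 : act 2 n132582 = n62487 := (sb E97410 (iv2 D133175))
theorem F337575 : act 3 n132582 = n130507 := (sb E97410 F213949)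
theorem F337576 : act 7 n132582 = n130507 := (sb E97410 F213950)
theorem F337577 : act 0 n61232 = n62206 := (sb E97411 (iv1 D132583))
theorem F337578 : act 0 n62272 = n61232 := (sb E97412 (iv1 D130506))
theorem F337579 : act 0 n130392 = n132935 := d20_1 D130392 F213556 F213017 F337578 (iv3 D61232) (iv4 D28988) (iv1 F23048) (iv4 F23047) (iv3 F46603) D61188
theorem F337580 : act 0 n141807 = n132445 := d21_7 F313827 (iv1 F155376) (iv5 F316283) D62272 F337578 (iv6 F204340) (iv5 F224816) (iv5 D132445) (iv6 D62141) (iv1 F47137)
theorem E97413 : n161907 = n161832 := ((c21_1 D161832 F305459 (iv5 D84941) (iv6 D39295) (iv1 F60261) D84907 F320709 F337578 (iv5 F307534) (iv6 D77728) D77723)).symm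
theorem F337581 : act 0 n161832 = n84941 := (sb E97413 F305459)
theorem F337582 : act 1 n161832 = n77759 := (sb E97413 (iv0 D161907))
theorem E97414 : n161831 = n150095 := ((c17_4 F184654 (iv5 F119567) (iv1 F185568) F236206 (iv4 D161831) D161832 F337582 F303198 F314432 (iv4 D69900))).symm
theorem F337583 : act 4 n150095 = n77723 := (sb E97414 (iv4 D161831))
theorem F337584 : act 0 n119130 = n131376 := d21_4 (iv5 F303198) (iv1 F337582) (iv5 D161832) (iv6 F316657) (iv6 D131376) D131375 F210586 (iv5 D69905) (iv6 F106317) (iv1 F314432)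
theorem F337585 : act 5 n131376 = n147169 := d21_0 (iv1 D147169) D147170 (iv6 F333672) (iv1 F188046) F130125 (iv5 F303198) (iv1 F337582) (iv5 D161832) (iv6 F316657) F337584
theorem E97415 : n121775 = n121179 := ((c21_1 (iv5 F317711) (iv1 D121775) F330860 (iv6 D61680) (iv1 F96245) D131376 F337585 (iv1 D147169) D147170 (iv6 F333672) (iv1 F188046))).symm
theorem F337586 : act 0 n121179 = n56264 := (sb E97415 (iv1 D121775))
theorem E97416 : n163524 = n163520 := (c20_4 (iv4 F327238) F176360 F319911 (iv3 F323675) (iv1 F257796) F119756 F56460 (iv1 F43519) D55915 D121179 F337586)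
theorem F337587 : act 2 n163520 = n78580 := (sb E97416 (iv2 D163524))
theorem F337588 : act 3 n163520 = n83608 := (sb E97416 F323675)
theorem F337589 : act 5 n163520 = n83596 := (sb E97416 F323676)
theorem F337590 : act 6 n163520 = n83599 := (sb E97416 F323677)
theorem F337591 : act 7 n163520 = n78581 := (sb E97416 (iv7 F257799))
theorem E97417 : n121774 = n119376 := ((c15_4 (iv0 D121774) (iv0 F337586) F193263 (iv2 F320249))).symm
theorem F337592 : act 1 n119376 = n56264 := (sb E97417 (iv0 D121774))
theorem F337593 : act 5 n175414 = n112615 := d18_4 F210585 F210584 (iv1 F234333) F310258 F175220 (iv0 F170613) (iv4 F332178) F337592 F330860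
theorem E97418 : n175075 = n110458 := ((c20_1 (iv4 F170844) (iv1 D175075) (iv4 F319911) F176358 (iv1 F161357) (iv3 F176300) F327238 (iv1 F337592) F332178 (iv3 F170737) F170739)).symm
theorem F337594 : act 0 n110458 = n83608 := (sb E97418 (iv1 D175075))
theorem F337595 : act 5 n131407 = n110458 := d17_1 (iv1 F232874) F337594 (iv5 D83608) (iv4 F128686) (iv5 F313478) F210505 F96253 D61682 D131420
theorem F337596 : act 2 n112615 = n175074 := d15_3 (iv0 D175074) (iv0 F337594) (iv7 F175221)
theorem F337597 : act 4 n175074 = n112549 := d1_2 (iv4 F175220) F337596 F175055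
theorem F337598 : act 5 n175074 = n152249 := d2_2 F337593 F337596 (iv2 F274476)
theorem F337599 : act 6 n175074 = n112548 := d3_2 D112615 F337596 F175052
theorem F337600 : act 0 n131340 = n152249 := d21_1 (iv5 F333437) (iv5 F337598) F337599 F175054 (iv6 D110596) (iv5 F166918) (iv1 F166924) (iv5 D50990) D50991 (iv1 F170606)
theorem E97419 : n175414 = n175266 := (c18_6 F210511 D131340 F337600 F239307 (iv5 F312448) F310258 (iv0 D175266) F319722 F210505 F96253)
theorem F337601 : act 0 n175266 = n133769 := (sb E97419 (iv1 F333441))
theorem F337602 : act 2 n175266 = n152249 := (sb E97419 F274476)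
theorem F337603 : act 3 n175266 = n83761 := (sb E97419 (iv3 D175414))
theorem F337604 : act 4 n175266 = n131410 := (sb E97419 (iv4 F310258))
theorem F337605 : act 5 n175266 = n112615 := (sb E97419 F337593)
theorem F337606 : act 7 n175266 = n131407 := (sb E97419 (iv7 F333446))
theorem F337607 : act 0 n119654 = n131382 := d20_10 (iv4 F213515) F213518 F311076 (iv3 F333448) F337600 (iv3 D152249) F199893 (iv1 F155121) F106365 (iv3 F188732)
theorem F337608 : act 1 n131420 = n152249 := d15_0 (iv0 F337600) (iv7 F215379) F215378
theorem F337609 : act 7 n152249 = n145263 := d15_2 F232874 F337608 F228255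
theorem F337610 : act 1 n158321 = n131382 := d15_0 (iv0 F337607) (iv7 F188734) (iv2 F249447)
theorem F337611 : act 3 n112615 = n157966 := d6_1 F337605 F330874 (iv3 F337603)
theorem F337612 : act 0 n112615 = n175077 := d17_2 D175266 F337605 F274052 (iv4 F311433) (iv5 D131421) F210519 (iv5 F210520) F210516 (iv4 F319722)
theorem F337613 : act 1 n112615 = n119449 := d17_6 (iv1 D153275) F312547 (iv1 F299976) (iv5 F312448) (iv4 F337604) F337605 (iv5 D119449) (iv0 F332190) F332192
theorem F337614 : act 4 n157966 = n107029 := d20_6 (iv4 F193384) F322713 (iv4 D152589) (iv3 F188222) (iv1 F337613) F337611 (iv1 D107029) (iv4 F332997) (iv3 F322706) (iv1 D121297)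
theorem F337615 : act 2 n107029 = n174872 := d1_1 F337614 (iv4 D174872) F330881
theorem F337616 : act 7 n107029 = n157956 := d11_2 D157966 F337614 F248849
theorem F337617 : act 4 n107018 = n161588 := d17_4 (iv1 D107029) (iv5 D49442) D49439 D107018 F311757 F123104 (iv5 F128631) F330878 F337614
theorem F337618 : act 1 n107029 = n173222 := d18_6 (iv1 F274806) (iv4 F272770) F310374 (iv4 D175415) (iv5 F330874) F337614 (iv4 D173222) (iv0 F330842) F330844
theorem F337619 : act 7 n173222 = n107027 := d15_2 D107029 F337618 F164965
theorem F337620 : act 5 n107014 = n173222 := d13_3 F337619 (iv5 D107027) (iv7 F164959)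
theorem F337621 : act 5 n101153 = n108469 := d16_5 (iv4 F332997) F128291 F59169 (iv5 F74352) (iv4 F155850) F167703 F337620 F337619 F164965
theorem F337622 : act 1 n157956 = n107027 := d15_1 (iv0 F330873) (iv7 F337619) F271527
theorem F337623 : act 0 n172438 = n131412 := d18_0 F333011 (iv1 F311760) F310376 (iv5 F330869) (iv4 F248849) F337622 F333006 F330838 F272690
theorem F337624 : act 3 n131379 = n172438 := d20_3 (iv4 F311076) (iv1 F313349) (iv4 F315780) F337623 F333010 F216512 (iv1 D134527) D134528 (iv3 F323692) F323690
theorem F337625 : act 3 n130149 = n173494 := d20_3 F300839 F315052 D130149 (iv1 F271956) (iv3 F198463) F310426 F337623 F333011 (iv3 F197202) F315059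
theorem F337626 : act 2 n172438 = n131350 := d0_1 F337624 (iv3 D131350) F96210 D61663 D131379
theorem F337627 : act 5 n174054 = n131379 := d6_0 F337624 (iv5 F272690) D174054
theorem F337628 : act 3 n119668 = n101923 := d20_3 D175424 F307156 (iv4 F188776) (iv1 F272692) (iv3 F337624) F315780 (iv1 F309617) F271881 F128408 (iv1 F308154)
theorem F337629 : act 3 n172413 = n176535 := d0_2 F337628 (iv2 F274807) (iv2 F320100) F320101 (iv2 F201286)
theorem F337630 : act 0 n176535 = n98964 := d20_4 (iv4 F308281) F156367 F272770 F337629 (iv3 D98964) (iv4 D46299) (iv1 D22140) (iv4 F29555) (iv3 F59416) D83760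
theorem F337631 : act 0 n172413 = n131350 := d20_4 F299931 D84169 D176535 (iv3 F337629) (iv3 D131350) (iv4 D61647) F50563 (iv4 F311015) (iv3 F128720) (iv1 F274205)
theorem F337632 : act 0 n132910 = n176535 := d20_4 (iv4 D133769) F184650 (iv4 F210600) (iv3 F213510) (iv3 F337629) (iv4 F272770) F310374 (iv4 D175415) (iv3 F337603) F337601
theorem F337633 : act 4 n131350 = n98956 := d20_0 F310437 F116503 F56147 D35432 D77618 F299931 D84169 D176535 (iv3 F337629) F337631
theorem F337634 : act 3 n98956 = n107877 := d5_1 F337633 F166673 F94559 D61647 D131350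
theorem F337635 : act 5 n165940 = n131350 := d17_3 F205698 D82894 (iv1 F330851) F337633 F272728 (iv0 D46890) (iv5 D22520) D22519 D46887
theorem F337636 : act 1 n161589 = n174050 := d18_6 F337631 F337633 F310437 F116503 D77612 D161589 (iv4 D174050) F272787 F272769
theorem F337637 : act 6 n131350 = n172449 := d21_9 (iv5 F272684) (iv1 D172271) (iv5 D82507) (iv6 D37877) (iv1 F29405) D38133 D82894 (iv1 F330851) F337635 (iv1 F272753)
theorem F337638 : act 3 n172449 = n131352 := d7_1 F337637 (iv6 D131352) D131350
theorem F337639 : act 5 n137109 = n100495 := d21_8 D82894 (iv1 F330851) F337635 F337637 (iv1 F272753) (iv6 D99698) F324656 D137109 (iv6 D100495) F205698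
theorem F337640 : act 2 n101759 = n137109 := d2_3 F337639 F272823 (iv5 F156788)
theorem F337641 : act 3 n154293 = n137109 := d6_3 F337639 F305516 (iv5 F332024)
theorem F337642 : act 1 n99716 = n137109 := d17_6 F307570 (iv5 F307572) (iv1 F153510) (iv5 D46586) D46585 D99716 F337639 F272862 (iv4 D101862)
theorem F337643 : act 7 n137109 = n154291 := d8_2 D154293 F337641 (iv3 D154291)
theorem E97420 : n154291 = n101760 := ((c15_2 (iv0 D101759) D101760 (iv7 F337643) (iv2 F337640))).symm
theorem F337644 : act 3 n101760 = n73104 := (sb E97420 (iv3 D154291))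
theorem F337645 : act 6 n101760 = n176631 := (sb E97420 (iv6 F336351))
theorem F337646 : act 7 n101760 = n137109 := (sb E97420 (iv7 F337643))
theorem F337647 : act 7 n137110 = n101759 := d15_2 (iv0 D137109) D137110 F337640
theorem F337648 : act 2 n137110 = n101760 := d4_3 F337646 (iv2 F337640) (iv7 F337647)
theorem F337649 : act 1 n137110 = n99716 := d15_0 F337642 (iv7 F337646) (iv2 F337648)
theorem F337650 : act 5 n174053 = n137110 := d13_3 F337647 F156788 D174053
theorem F337651 : act 3 n137110 = n178492 := d6_1 F337650 (iv5 D178492) (iv3 F333409)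
theorem F337652 : act 4 n136006 = n175698 := d18_3 (iv1 D137110) F100387 D136006 (iv5 F304813) F239801 (iv0 F307570) D101862 (iv0 F272860) F337650
theorem F337653 : act 6 n137110 = n136347 := d21_3 F270613 (iv1 F272861) F337650 (iv1 D136347) (iv6 F326293) (iv5 D82411) F121886 D38279 (iv6 F127188) D172400
theorem F337654 : act 5 n172867 = n136347 := d12_5 (iv6 F337653) (iv5 F337650) F272859 (iv5 D172866) D172867
theorem F337655 : act 2 n136347 = n176631 := d3_1 F337653 (iv6 F337645) (iv2 F337648)
theorem F337656 : act 3 n175711 = n150578 := d20_3 F337652 (iv1 F275103) D175711 (iv1 F313706) (iv3 D109759) (iv4 D50623) F38654 (iv4 F48507) (iv3 F99485) D136006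
theorem F337657 : act 6 n150576 = n175711 := d7_0 F337656 (iv6 D150578) D150576
theorem F337658 : act 7 n131352 = n172443 := d8_2 D172449 F337638 F270662
theorem F337659 : act 2 n172443 = n131390 := d4_1 F337658 (iv7 D131390) (iv2 F210550)
theorem F337660 : act 4 n172443 = n127729 := d11_1 F337658 F318856 (iv4 F210551)
theorem F337661 : act 1 n131388 = n172443 := d15_1 D131388 (iv7 F337658) F210550
theorem F337662 : act 5 n132582 = n131388 := d17_7 (iv1 D127729) (iv5 D59964) D59962 D127721 F333596 F320709 (iv0 F326066) F337661 F337660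
theorem F337663 : act 4 n131388 = n151938 := d20_2 (iv4 F337660) (iv1 F337661) (iv3 F238916) (iv1 D131107) F96017 (iv4 F96020) F311184 F309022 F155492 (iv1 F318852)
theorem F337664 : act 2 n133176 = n131388 := d1_3 F337663 (iv2 F314274) (iv4 F307467)
theorem F337665 : act 6 n161385 = n131388 := d10_0 F337663 F311859 (iv4 F255195)
theorem E97421 : n167348 = n131389 := (c17_7 (iv1 D151938) (iv5 F230855) F334995 (iv5 D167345) (iv4 D80312) D80313 D167348 (iv5 D131389) D131388 F337663)
theorem F337666 : act 0 n131389 = n80313 := (sb E97421 (iv1 D167348))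
theorem F337667 : act 3 n131360 = n133710 := d20_5 (iv4 F337663) (iv1 D131388) F96247 (iv3 F96224) D131360 F309464 F194685 (iv4 F133097) (iv3 F312453) (iv1 F238914)
theorem F337668 : act 4 n131360 = n129902 := d20_0 (iv1 D129902) F319524 (iv3 F319523) (iv1 F209979) F238916 (iv4 F337663) (iv1 D131388) F96247 (iv3 F96224) D131360
theorem F337669 : act 2 n125248 = n131360 := d1_3 F337668 F314281 (iv4 F201395)
theorem F337670 : act 3 n129902 = n154159 := d5_1 F337668 F242269 F119427 (iv4 F309464) (iv3 F337667)
theorem F337671 : act 6 n149893 = n131360 := d10_0 F337668 F332089 F242262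
theorem F337672 : act 7 n163788 = n131360 := d11_0 F337668 F332090 D163788
theorem F337673 : act 5 n148553 = n131360 := d18_4 D32274 D69506 D148290 F233326 F337668 F314280 (iv4 F313229) F317234 (iv5 D32276)
theorem F337674 : act 5 n148290 = n126706 := d16_3 (iv4 F337668) (iv5 F337673) (iv4 F233326) F203913 (iv5 F173098) F327019 (iv5 F330692) F314287 (iv2 F314281)
theorem F337675 : act 2 n144350 = n148290 := d2_3 F337674 (iv2 F203914) D144350
theorem F337676 : act 7 n144347 = n148290 := d13_0 F337674 F203912 D144347
theorem E97422 : n170517 = n148553 := (c16_10 (iv4 F233326) F337674 F203913 (iv5 F173098) F327019 (iv5 F330692) F314284 (iv5 F267499) F267500 D170517)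
theorem F337677 : act 2 n148553 = n81739 := (sb E97422 (iv2 D170517))
theorem F337678 : act 4 n126707 = n120679 := d17_4 D148290 F337674 (iv1 D126706) D126707 F319525 F317235 F317225 F105805 D69506
theorem E97423 : n148293 = n108228 := ((c17_1 F167352 (iv5 D148293) D148290 F337674 F203913 (iv5 F173098) (iv0 F219566) (iv5 D136456) (iv0 D64149) (iv4 F99860))).symm
theorem F337679 : act 5 n108228 = n69506 := (sb E97423 (iv5 D148293))
theorem F337680 : act 0 n127719 = n148553 := d18_2 D147665 (iv4 F231433) (iv4 F233326) F337674 F203913 F100088 (iv4 F203935) F203937 (iv5 F332102)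
theorem F337681 : act 6 n126707 = n176331 := d21_3 F337674 (iv1 D126706) D126707 (iv1 D176331) (iv6 D84084) (iv5 D38740) D38737 D84072 (iv6 F334101) D148290
theorem E97424 : n116479 = n103722 := (c19_11 (iv1 F203911) (iv5 F337674) F233326 (iv3 D148553) (iv1 D69618) (iv5 F317921) (iv4 F303932) F86664 F110796 F320622 (iv4 F181771) F159171 D103731 F320990 F94414 F45990 D28485 D59988 D127755 F318610)
theorem F337682 : act 0 n103722 = n142132 := (sb E97424 F225161)
theorem F337683 : act 1 n103722 = n152930 := (sb E97424 F322181)
theorem F337684 : act 2 n103722 = n53689 := (sb E97424 F181770)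
theorem F337685 : act 4 n103722 = n53685 := (sb E97424 F181771)
theorem F337686 : act 6 n103722 = n53683 := (sb E97424 (iv6 D116479))
theorem F337687 : act 7 n103722 = n119241 := (sb E97424 F322182)
theorem F337688 : act 6 n136453 = n155072 := d21_3 (iv5 F337674) (iv1 F232115) (iv5 F337174) (iv1 F243871) D155140 (iv5 F332363) (iv1 F332340) F332341 F112249 (iv1 F203911)
theorem F337689 : act 6 n148290 = n154980 := d21_9 (iv5 F320192) (iv1 F199327) F330645 F206159 (iv1 D76685) D76686 (iv5 F326213) (iv1 F203911) (iv5 F337674) (iv1 F243692)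
theorem F337690 : act 2 n154980 = n166437 := d3_1 F337689 F334091 F337675
theorem E97425 : n134521 = n60947 := (c21_2 F321849 D134521 F323492 F317783 D154980 (iv6 F337689) F337674 (iv1 D126706) D126707 F337681 (iv1 D176331))
theorem E97426 : n129766 = n63236 := ((D129766).symm.trans (sb E97425 (iv1 F216498)))
theorem E97427 : n129767 = n63215 := ((D129767).symm.trans (sb E97425 (iv0 D134521)))
theorem E97428 : n134522 = n126674 := (((iv1 F216493)).symm.trans (sb E97426 (iv1 F324672)))
theorem F337691 : act 1 n63236 = n60947 := (sb E97426 (iv0 D129766))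
theorem F337692 : act 0 n63215 = n60947 := (sb E97427 (iv1 D129767))
theorem F337693 : act 0 n126674 = n63215 := (sb E97428 (iv1 D134522))
theorem F337694 : act 1 n126674 = n63236 := (sb E97428 F216493)
theorem F337695 : act 5 n121711 = n154980 := d21_8 (iv5 F337174) (iv1 D136453) D136454 F337168 (iv1 D116499) D116500 F319972 D121711 (iv6 F337689) (iv1 F232115)
theorem F337696 : act 7 n154980 = n148205 := d13_2 (iv7 F331720) F337695 F330657
theorem F337697 : act 6 n121079 = n152492 := d21_5 F337695 (iv1 F243692) (iv5 F320192) F130026 (iv1 F193109) (iv5 D152492) D152489 (iv5 F322481) F322482 D121711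
theorem F337698 : act 5 n121079 = n155918 := d21_0 (iv1 D155918) (iv5 F311449) (iv6 F323137) F336489 (iv6 F331719) F337695 (iv1 F243692) (iv5 F320192) F130026 (iv1 F193109)
theorem E97429 : n176324 = n119361 := ((c21_3 (iv5 F337695) (iv1 F194258) (iv5 F321874) (iv6 D176324) (iv1 D84082) D84084 F321849 F337692 F323492 F317783 D154980)).symm
theorem F337699 : act 6 n119361 = n84082 := (sb E97429 (iv6 D176324))
theorem F337700 : act 6 n176321 = n152195 := d7_2 F337699 D176321 F259176
theorem F337701 : act 4 n152197 = n176321 := d10_3 F337700 (iv4 D152195) D152197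
theorem F337702 : act 7 n180693 = n166437 := d4_2 F337696 F330656 (iv2 F337690)
theorem F337703 : act 6 n116670 = n144347 := d14_3 F337696 (iv6 D148205) F182041 F337676 F337689
theorem E97430 : n180693 = n154981 := (c15_4 F243693 F243692 F337696 F330656)
theorem F337704 : act 2 n154981 = n148205 := (sb E97430 (iv2 F330656))
theorem F337705 : act 5 n154981 = n86310 := (sb E97430 (iv5 D180693))
theorem F337706 : act 6 n154981 = n86313 := (sb E97430 F281226)
theorem F337707 : act 7 n154981 = n166437 := (sb E97430 F337702)
theorem F337708 : act 1 n119356 = n148205 := d15_1 F334089 (iv7 F337696) F337690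
theorem F337709 : act 4 n128091 = n178236 := d17_4 F318792 (iv5 D178498) F188402 (iv5 F206163) (iv5 D178236) F199328 F331711 F337708 F232034
theorem F337710 : act 7 n178236 = n128090 := d11_2 D128091 F337709 (iv4 D128090)
theorem F337711 : act 5 n178235 = n119434 := d16_5 (iv4 F94749) (iv5 F206163) F337709 (iv5 D178236) D178235 (iv4 D119434) (iv5 D54958) D54959 F86949
theorem F337712 : act 5 n178230 = n175125 := d16_1 D178230 F274105 F128699 (iv4 F94749) (iv5 F206163) F337709 (iv5 D178236) F277782 (iv2 D178228)
theorem F337713 : act 1 n178236 = n119361 := d18_6 D26565 D54924 (iv1 F188396) (iv4 F94749) (iv5 F206163) F337709 (iv4 D119361) (iv0 D54932) (iv5 D26567)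
theorem F337714 : act 0 n178236 = n116500 := d20_1 F337709 F181820 F84710 F313298 (iv3 F42629) D55073 D119702 F234589 F278233 (iv1 F278234)
theorem F337715 : act 4 n119368 = n178221 := d18_5 F337714 F181820 (iv1 F317982) D54934 D119368 (iv0 D178221) F130024 D84831 D178236
theorem F337716 : act 2 n178221 = n178547 := d1_1 F337715 (iv4 D178547) (iv2 F188015)
theorem F337717 : act 5 n178221 = n178523 := d16_1 F337715 F278209 F130201 F60284 (iv5 F60287) (iv4 F130353) (iv5 F278247) (iv7 D178549) (iv2 F188015)
theorem F337718 : act 7 n178522 = n178221 := d13_0 F337717 (iv7 D178523) D178522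
theorem F337719 : act 7 n178222 = n178547 := d15_2 (iv0 D178221) D178222 (iv2 F337716)
theorem F337720 : act 5 n119344 = n178222 := d16_7 (iv4 F337715) (iv5 D119368) (iv4 D54934) (iv5 D26567) (iv4 F42545) D54920 D119344 F337719 (iv2 F337716)
theorem F337721 : act 2 n178222 = n178522 := d2_1 F337720 (iv5 D178522) (iv2 F187936)
theorem E97431 : n178549 = n166166 := ((c9_2 F337720 (iv4 F277776) F278247 F130353 F60287 (iv4 F60284) (iv5 F130201) (iv4 F278209) (iv5 F337717) (iv4 F337715) (iv5 D119368) (iv4 D54934) (iv5 D26567) (iv4 F42545) D54920 D119344)).symm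
theorem F337722 : act 5 n166166 = n85012 := (sb E97431 F278247)
theorem F337723 : act 7 n166166 = n85011 := (sb E97431 (iv7 D178549))
theorem E97432 : n178543 = n166170 := (c8_2 F337723 (iv3 F278243) (iv7 D166170) D166166)
theorem F337724 : act 3 n166170 = n85011 := (sb E97432 F278243)
theorem F337725 : act 5 n166170 = n85010 := (sb E97432 (iv5 D178543))
theorem E97433 : n178292 = n166173 := (c2_2 F337725 (iv2 F335064) (iv5 D166173) (iv2 F261647))
theorem F337726 : act 0 n166173 = n84849 := (sb E97433 (iv1 D178292))
theorem F337727 : act 1 n166173 = n146737 := (sb E97433 (iv0 F321711))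
theorem F337728 : act 2 n166173 = n85010 := (sb E97433 F335064)
theorem F337729 : act 4 n166173 = n169956 := (sb E97433 F335065)
theorem F337730 : act 6 n166173 = n169955 := (sb E97433 F335066)
theorem E97434 : n178291 = n146713 := (c13_3 D166170 F337725 (iv7 F331715) F334597)
theorem F337731 : act 0 n146713 = n146737 := (sb E97434 (iv1 F321712))
theorem F337732 : act 1 n146713 = n84849 := (sb E97434 (iv0 D178291))
theorem F337733 : act 3 n146713 = n85012 := (sb E97434 F331714)
theorem F337734 : act 7 n146713 = n85010 := (sb E97434 F331715)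
theorem F337735 : act 0 n147793 = n166170 := d17_2 (iv1 F230536) D147793 F337725 (iv4 F192422) F306848 F231662 (iv5 D69291) F105131 (iv4 F230533)
theorem E97435 : n166170 = n121698 := ((c19_1 D121698 F337725 (iv4 F192422) F192421 (iv1 F310814) F103931 D117914 F334596 (iv1 F242690) (iv5 D154602) (iv4 D73285) (iv3 F190180) (iv1 D16397) (iv5 D7607) D7606 F298122 (iv1 F9581) D12979 D27096 D56234)).symm
theorem E97436 : n147793 = n56234 := ((((iv0 D121698)).symm.trans (sb E97435 (iv0 F337735)))).symm
theorem F337736 : act 2 n121698 = n79787 := (sb E97435 F261647)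
theorem F337737 : act 3 n121698 = n85011 := (sb E97435 F337724)
theorem F337738 : act 5 n121698 = n85010 := (sb E97435 F337725)
theorem F337739 : act 7 n121698 = n79786 := (sb E97435 (iv7 D166170))
theorem E97437 : n84875 = n69238 := (((iv5 F130082)).symm.trans (sb E97436 (iv5 D147793)))
theorem E97438 : n178392 = n32196 := ((((iv1 D69238)).symm.trans (sb E97437 D178392))).symm
theorem E97440 : n178394 = n147790 := ((((iv2 F231535)).symm.trans (sb E97437 D178394))).symm
theorem E97441 : n147791 = n39267 := ((D147791).symm.trans (sb E97437 (iv3 D84875)))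
theorem E97442 : n178395 = n147792 := (((D147792).symm.trans (sb E97437 D178395))).symm
theorem F337740 : act 5 n69238 = n56234 := (sb E97437 F130082)
theorem E97443 : n147794 = n120602 := ((D147794).symm.trans (sb E97437 (iv6 F318010)))
theorem E97444 : n147785 = n79789 := ((F231534).symm.trans (sb E97437 F130083))
theorem E97445 : n166175 = n69237 := (((D69237).symm.trans (sb E97438 (iv1 F277951)))).symm
theorem F337741 : act 0 n147790 = n166178 := (sb E97440 (iv1 F277957))
theorem F337743 : act 3 n147790 = n166303 := (sb E97440 F277952)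
theorem F337744 : act 5 n147790 = n121700 := (sb E97440 F277953)
theorem F337745 : act 3 n39267 = n69238 := (sb E97441 (iv3 D147791))
theorem F337746 : act 7 n147792 = n166179 := (sb E97442 F277958)
theorem F337747 : act 6 n120602 = n69238 := (sb E97443 (iv6 D147794))
theorem F337748 : act 7 n79789 = n69238 := (sb E97444 (iv7 F231534))
theorem F337749 : act 2 n69237 = n79789 := (sb E97445 F261648)
theorem E97446 : n178385 = n147786 := (((D147786).symm.trans (sb E97445 (iv3 F277934)))).symm
theorem E97447 : n147788 = n79788 := ((D147788).symm.trans (sb E97445 (iv5 D166175)))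
theorem F337750 : act 0 n147786 = n166305 := (sb E97446 (iv1 F277939))
theorem F337751 : act 1 n147786 = n166304 := (sb E97446 F277937)
theorem F337752 : act 2 n147786 = n84873 := (sb E97446 (iv2 D178385))
theorem F337753 : act 5 n147786 = n104639 := (sb E97446 (iv5 F328294))
theorem F337754 : act 7 n147786 = n166303 := (sb E97446 F277936)
theorem F337755 : act 5 n79788 = n69237 := (sb E97447 (iv5 D147788))
theorem F337756 : act 5 n147789 = n132643 := d12_3 F299593 F337755 D147789 F212923 F333905
theorem E97448 : n140791 = n139739 := (c17_8 F334037 (iv5 F337738) (iv1 F194221) F337755 (iv4 F335056) (iv5 F335054) F180275 D140791 (iv0 F330037) F229918)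
theorem E97449 : n66062 = n65588 := ((((iv5 D139739)).symm.trans (sb E97448 (iv5 D140791)))).symm
theorem E97450 : n139736 = n115838 := ((D139736).symm.trans (sb E97449 (iv1 F180275)))
theorem E97451 : n139737 = n30899 := ((D139737).symm.trans (sb E97449 (iv0 D66062)))
theorem E97457 : n144400 = n66063 := ((((iv1 F180273)).symm.trans (sb E97450 (iv1 F227172)))).symm
theorem F337757 : act 1 n115838 = n65588 := (sb E97450 (iv0 D139736))
theorem F337758 : act 0 n30899 = n65588 := (sb E97451 (iv1 D139737))
theorem F337759 : act 2 n66063 = n67661 := (sb E97457 (iv2 D144400))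
theorem E97458 : n140794 = n139744 := ((D140794).symm.trans (sb E97457 F227170))
theorem F337760 : act 7 n66063 = n139738 := (sb E97457 F227171)
theorem F337761 : act 3 n139744 = n66063 := (sb E97458 (iv3 D140794))
theorem E97459 : n165731 = n133875 := (c21_6 (iv5 D69239) D69237 (iv5 F337755) (iv6 F299593) (iv1 F194398) D165731 (iv5 D133875) (iv1 F308672) F311623 (iv6 D84850) F335062)
theorem F337762 : act 6 n133875 = n79597 := (sb E97459 (iv6 D165731))
theorem E97460 : n165730 = n132372 := (c21_1 D165730 (iv1 D132372) (iv5 F324074) (iv6 F297047) D55884 (iv6 F334013) (iv5 D69239) D69237 (iv5 F337755) (iv6 F299593) (iv1 F194398))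
theorem F337763 : act 5 n132372 = n79597 := (sb E97460 (iv5 D165730))
theorem E97461 : n132372 = n132282 := ((c12_1 D132282 F337763 (iv6 F337762) (iv5 D133875) (iv6 D62886) (iv5 F211928))).symm
theorem F337764 : act 0 n132282 = n62102 := (sb E97461 (iv1 D132372))
theorem F337765 : act 1 n132282 = n129404 := (sb E97461 F212381)
theorem F337766 : act 5 n132282 = n79597 := (sb E97461 F337763)
theorem F337767 : act 5 n165727 = n129226 := d2_2 F337766 (iv2 F261083) (iv2 F212066)
theorem E97462 : n130271 = n129960 := (c21_6 (iv5 F95592) F208772 (iv5 D28962) D28963 D61140 D130271 F333905 (iv1 F194398) (iv5 F337766) (iv6 D132282) (iv1 D62059))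
theorem E97463 : n132643 = n61140 := (((iv6 F212923)).symm.trans (sb E97462 (iv6 D130271)))
theorem E97464 : n130207 = n129803 := (((iv1 F208730)).symm.trans (sb E97463 (iv1 F212927)))
theorem E97466 : n130267 = n62239 := ((D130267).symm.trans (sb E97463 (iv2 D132643)))
theorem E97467 : n130268 = n129797 := ((D130268).symm.trans (sb E97463 F212922))
theorem E97468 : n147789 = n130270 := (((D130270).symm.trans (sb E97463 (iv5 F337756)))).symm
theorem F337768 : act 6 n61140 = n129960 := (sb E97463 F212923)
theorem E97469 : n130272 = n129804 := ((D130272).symm.trans (sb E97463 F212924))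
theorem E97470 : n61141 = n60970 := ((((iv1 D129803)).symm.trans (sb E97464 (iv1 F208729)))).symm
theorem F337769 : act 1 n129803 = n61140 := (sb E97464 F208730)
theorem F337770 : act 2 n129803 = n61143 := (sb E97464 F208726)
theorem F337771 : act 6 n129803 = n61159 := (sb E97464 F208727)
theorem F337772 : act 7 n129803 = n61121 := (sb E97464 (iv7 D130207))
theorem F337773 : act 2 n62239 = n61140 := (sb E97466 (iv2 D130267))
theorem F337774 : act 3 n129797 = n61140 := (sb E97467 (iv3 D130268))
theorem F337775 : act 6 n130270 = n69237 := (sb E97468 (iv6 D147789))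
theorem F337776 : act 7 n129804 = n61140 := (sb E97469 (iv7 D130272))
theorem F337777 : act 0 n60970 = n28963 := (sb E97470 (iv1 D61141))
theorem F337778 : act 0 n130215 = n129769 := d20_7 F47202 (iv1 F23354) D28907 D60970 F337777 (iv3 F95642) (iv4 F208740) (iv4 D129769) (iv3 D60947) (iv1 F47206)
theorem F337779 : act 5 n132299 = n179129 := d21_0 (iv1 D179129) (iv5 F323655) (iv6 D129806) F337777 (iv6 D28963) D28962 D61135 (iv5 F208777) D129233 F212111
theorem F337780 : act 6 n179129 = n133057 := d12_2 D132299 F337779 (iv5 D133057) (iv6 D62434) (iv5 F212087)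
theorem F337781 : act 0 n137748 = n130214 := d21_1 D137748 (iv5 D130214) D130215 F337778 (iv6 F324215) F295085 (iv1 F133634) (iv5 F328980) (iv6 F328671) F328669
theorem F337782 : act 1 n134369 = n129769 := d15_0 (iv0 F337778) F333887 (iv2 F333888)
theorem E97475 : n137748 = n123387 := ((c21_10 (iv5 D130214) F95639 (iv5 F98418) (iv6 F331660) (iv1 D119576) D119579 F310218 (iv1 F90249) D57476 D123387 F337781)).symm
theorem F337783 : act 0 n123387 = n130214 := (sb E97475 F337781)
theorem F337784 : act 5 n123387 = n64743 := (sb E97475 (iv5 D137748))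
theorem E97476 : n137749 = n123390 := (c12_3 D123387 F337784 D137749 (iv5 D123390) (iv6 D57477) D57476)
theorem F337785 : act 6 n123390 = n64743 := (sb E97476 (iv6 D137749))
theorem F337786 : act 7 n134361 = n123387 := d13_0 F337784 (iv7 F328673) (iv5 F216486)
theorem F337787 : act 0 n134365 = n123387 := d17_2 (iv1 F208365) (iv5 F216368) F337784 (iv4 F328677) F314811 (iv0 F319728) F98479 F211578 (iv4 F48005)
theorem E97477 : n179742 = n135156 := (c21_7 F214209 F328669 (iv5 F337784) (iv6 D123387) (iv1 F94774) D122837 F306514 (iv1 D135156) F98828 (iv6 D63134) D63131)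
theorem F337788 : act 5 n135156 = n122837 := (sb E97477 (iv5 F306514))
theorem F337789 : act 6 n135156 = n85856 := (sb E97477 (iv6 D179742))
theorem F337790 : act 3 n153315 = n135156 := d7_3 F337789 (iv3 F308336) (iv6 F240871)
theorem E97478 : n135120 = n125115 := (c21_10 (iv5 D107954) (iv1 F312685) (iv5 F306515) (iv6 F337789) (iv1 D135156) (iv6 D63515) (iv5 D29993) D29990 D63504 D135120 (iv1 F312697))
theorem F337791 : act 6 n125115 = n63504 := (sb E97478 (iv6 D135120))
theorem E97479 : n179731 = n132921 := ((c3_2 F337791 (iv2 F213540) (iv6 D179731) (iv2 F201015))).symm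
theorem F337792 : act 3 n132921 = n183116 := (sb E97479 (iv3 F284731))
theorem F337793 : act 6 n132921 = n85851 := (sb E97479 (iv6 D179731))
theorem E97480 : n183050 = n63508 := (((F213541).symm.trans (sb E97479 (iv7 F284682)))).symm
theorem E97481 : n135129 = n87430 := (((iv3 F217344)).symm.trans (sb E97480 F284681))
theorem E97482 : n135132 = n87383 := ((D135132).symm.trans (sb E97480 (iv6 D183050)))
theorem F337794 : act 3 n87430 = n63508 := (sb E97481 F217344)
theorem E97483 : n87193 = n63507 := (((iv5 F294520)).symm.trans (sb E97481 (iv5 D135129)))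
theorem F337795 : act 6 n87383 = n63508 := (sb E97482 (iv6 D135132))
theorem E97484 : n182645 = n132037 := (((F217263).symm.trans (sb E97483 D182645))).symm
theorem E97485 : n182646 = n135127 := (((D135127).symm.trans (sb E97483 D182646))).symm
theorem E97486 : n135128 = n87089 := ((D135128).symm.trans (sb E97483 F133809))
theorem E97487 : n182640 = n29991 := ((((iv3 D63507)).symm.trans (sb E97483 (iv3 F284172)))).symm
theorem E97488 : n180348 = n132942 := ((((iv4 F213565)).symm.trans (sb E97483 (iv4 F280664)))).symm
theorem F337796 : act 5 n63507 = n87430 := (sb E97483 F294520)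
theorem E97489 : n135130 = n40504 := ((D135130).symm.trans (sb E97483 (iv6 D87193)))
theorem E97490 : n154011 = n132920 := ((((iv7 F213539)).symm.trans (sb E97483 (iv7 F310407)))).symm
theorem F337797 : act 0 n132037 = n182395 := (sb E97484 (iv1 F284181))
theorem F337798 : act 1 n135127 = n182395 := (sb E97485 F284176)
theorem F337799 : act 2 n87089 = n63507 := (sb E97486 (iv2 D135128))
theorem E97491 : n157806 = n106839 := (((iv4 F248693)).symm.trans (sb E97486 F217343))
theorem E97492 : n87191 = n63509 := (((D63509).symm.trans (sb E97487 (iv6 D182640)))).symm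
theorem F337800 : act 6 n132942 = n86135 := (sb E97488 (iv6 D180348))
theorem F337801 : act 6 n40504 = n63507 := (sb E97489 (iv6 D135130))
theorem F337802 : act 0 n132920 = n182393 := (sb E97490 F310404)
theorem F337803 : act 1 n132920 = n182392 := (sb E97490 F310405)
theorem F337804 : act 2 n132920 = n182395 := (sb E97490 F310406)
theorem F337805 : act 6 n132920 = n72880 := (sb E97490 (iv6 D154011))
theorem F337806 : act 4 n106839 = n87089 := (sb E97491 F248693)
theorem F337807 : act 6 n106839 = n75185 := (sb E97491 (iv6 D157806))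
theorem E97493 : n182637 = n135133 := (((D135133).symm.trans (sb E97492 D182637))).symm
theorem E97494 : n182638 = n135134 := (((D135134).symm.trans (sb E97492 D182638))).symm
theorem E97495 : n182635 = n135126 := ((((iv2 F217342)).symm.trans (sb E97492 (iv2 F284162)))).symm
theorem F337808 : act 3 n63509 = n40504 := (sb E97492 F133806)
theorem E97496 : n182639 = n132932 := ((((iv4 F213554)).symm.trans (sb E97492 D182639))).symm
theorem E97497 : n135135 = n40503 := ((D135135).symm.trans (sb E97492 (iv5 D87191)))
theorem E97498 : n135136 = n86919 := ((D135136).symm.trans (sb E97492 F294519))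
theorem F337809 : act 0 n135133 = n181978 := (sb E97493 (iv1 F295100))
theorem F337810 : act 1 n135134 = n181978 := (sb E97494 (iv0 F295099))
theorem F337811 : act 0 n135126 = n181982 := (sb E97495 (iv1 F295098))
theorem F337812 : act 1 n135126 = n98446 := (sb E97495 (iv0 F295097))
theorem F337813 : act 3 n135126 = n98586 := (sb E97495 (iv3 F295111))
theorem F337814 : act 5 n135126 = n87190 := (sb E97495 (iv5 D182635))
theorem F337815 : act 7 n135126 = n181978 := (sb E97495 (iv7 F295101))
theorem F337816 : act 7 n132932 = n181983 := (sb E97496 (iv7 F295104))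
theorem F337817 : act 5 n40503 = n63509 := (sb E97497 (iv5 D135135))
theorem F337818 : act 7 n86919 = n63509 := (sb E97498 (iv7 D135136))
theorem E97499 : n135124 = n106074 := (c12_4 F337791 (iv5 D63504) D63505 D135124 F210894 D125115)
theorem F337819 : act 5 n106074 = n63505 := (sb E97499 (iv5 D135124))
theorem F337820 : act 6 n135121 = n183009 := d14_3 F232561 F337791 D135121 (iv7 D183009) F134130
theorem E97500 : n183030 = n156668 := (c21_10 (iv5 D136813) (iv1 D64317) D64318 (iv6 F326905) (iv1 F217341) F337820 F284617 (iv1 F134133) D87378 D183030 F246404)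
theorem E97501 : n179739 = n136810 := (((F246403).symm.trans (sb E97500 (iv0 F284666)))).symm
theorem F337821 : act 6 n156668 = n87378 := (sb E97500 (iv6 D183030))
theorem F337822 : act 6 n136810 = n85855 := (sb E97501 (iv6 D179739))
theorem F337823 : act 6 n183004 = n136503 := d3_2 F337821 (iv2 F284605) (iv2 F246401)
theorem E97502 : n132922 = n123405 := (c2_2 F337819 (iv2 F213544) (iv5 D123405) F304383)
theorem F337824 : act 2 n123405 = n63505 := (sb E97502 F213544)
theorem F337825 : act 4 n123405 = n62380 := (sb E97502 F213545)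
theorem F337826 : act 6 n123405 = n62378 := (sb E97502 (iv6 D132922))
theorem F337827 : act 5 n135116 = n98535 := d6_2 F337819 (iv3 F217333) (iv3 F184676)
theorem E97503 : n135125 = n118084 := (c13_3 F232415 F337819 D135125 (iv5 D118084))
theorem F337828 : act 7 n118084 = n63505 := (sb E97503 (iv7 D135125))
theorem E97504 : n135122 = n64912 := (c17_3 D106074 F337819 D135122 D138190 F314228 (iv5 F155349) F162540 F184613 (iv0 D49021) D49024)
theorem E97505 : n127041 = n63505 := ((F204287).symm.trans (sb E97504 (iv0 D135122)))
theorem F337829 : act 0 n63505 = n64912 := (sb E97505 (iv1 F204287))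
theorem E97506 : n135123 = n59615 := ((D135123).symm.trans (sb E97505 (iv0 D127041)))
theorem F337830 : act 0 n59615 = n63505 := (sb E97506 (iv1 D135123))
theorem E97507 : n127052 = n69950 := (c18_4 F337829 (iv4 F203849) (iv1 F203852) D127052 (iv5 D69950) F51565 F184617 (iv4 F304387) F304386 F337819)
theorem E97508 : n149087 = n59617 := ((D149087).symm.trans (sb E97507 (iv4 D127052)))
theorem F337831 : act 4 n59617 = n69950 := (sb E97508 (iv4 D149087))
theorem E97509 : n135282 = n59617 := (c1_4 F337831 (iv2 F136865) F332705 (iv2 F217499))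
theorem E97510 : n63617 = n28292 := ((((iv1 D59617)).symm.trans (sb E97509 (iv1 F217502)))).symm
theorem E97511 : n126680 = n63616 := ((F203852).symm.trans (sb E97509 F217503))
theorem E97512 : n127050 = n63619 := (((iv2 F204291)).symm.trans (sb E97509 F217499))
theorem E97513 : n127054 = n63634 := ((D127054).symm.trans (sb E97509 F217500))
theorem E97514 : n127045 = n63598 := ((F204290).symm.trans (sb E97509 (iv7 D135282)))
theorem E97515 : n59616 = n30032 := ((D59616).symm.trans (sb E97510 (iv1 D63617)))
theorem E97516 : n135328 = n59434 := ((((iv2 F93817)).symm.trans (sb E97510 (iv2 F217559)))).symm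
theorem E97521 : n135323 = n59618 := (((D59618).symm.trans (sb E97510 F217558))).symm
theorem F337832 : act 0 n63616 = n59617 := (sb E97511 (iv1 F203852))
theorem E97522 : n135324 = n129768 := ((D135324).symm.trans (sb E97511 F324670))
theorem E97523 : n135325 = n64912 := ((D135325).symm.trans (sb E97511 F203849))
theorem E97524 : n135327 = n63250 := ((D135327).symm.trans (sb E97511 F333842))
theorem F337833 : act 2 n63619 = n59617 := (sb E97512 F204291)
theorem F337834 : act 6 n63634 = n59617 := (sb E97513 (iv6 D127054))
theorem F337835 : act 7 n63598 = n59617 := (sb E97514 (iv7 F204290))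
theorem F337836 : act 1 n30032 = n28292 := (sb E97515 (iv0 D59616))
theorem F337837 : act 7 n59434 = n63616 := (sb E97516 (iv7 D135328))
theorem F337838 : act 2 n59618 = n63616 := (sb E97521 (iv2 D135323))
theorem F337839 : act 3 n129768 = n63616 := (sb E97522 (iv3 D135324))
theorem F337840 : act 4 n64912 = n63616 := (sb E97523 (iv4 D135325))
theorem F337841 : act 6 n63250 = n63616 := (sb E97524 (iv6 D135327))
theorem E97529 : n135362 = n89158 := ((c10_3 F337834 F337831 (iv6 F136857) F217606)).symm
theorem F337842 : act 4 n89158 = n63634 := (sb E97529 F217606)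
theorem F337843 : act 7 n89158 = n63628 := (sb E97529 (iv7 D135362))
theorem E97530 : n164327 = n30032 := (c16_8 F337831 (iv5 D69950) F51565 (iv5 F50450) (iv4 F104088) (iv5 F319883) D78925 D164327 D63619 F337833)
theorem E97531 : n78925 = n63618 := (((D63618).symm.trans (sb E97530 (iv5 D164327)))).symm
theorem E97532 : n164306 = n135333 := (((D135333).symm.trans (sb E97531 (iv1 F258934)))).symm
theorem E97533 : n164305 = n129783 := ((((iv0 F216491)).symm.trans (sb E97531 F258938))).symm
theorem E97534 : n164272 = n135281 := ((((iv2 F217497)).symm.trans (sb E97531 (iv2 F323421)))).symm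
theorem E97536 : n135334 = n35928 := ((D135334).symm.trans (sb E97531 (iv4 D78925)))
theorem E97537 : n164328 = n135320 := ((((iv6 F217556)).symm.trans (sb E97531 D164328))).symm
theorem E97538 : n164268 = n135335 := (((D135335).symm.trans (sb E97531 (iv7 F325813)))).symm
theorem F337844 : act 0 n135333 = n78920 := (sb E97532 (iv1 D164306))
theorem F337845 : act 1 n129783 = n78920 := (sb E97533 (iv0 D164305))
theorem F337846 : act 4 n135281 = n78911 := (sb E97534 (iv4 D164272))
theorem F337847 : act 7 n135281 = n78920 := (sb E97534 F323422)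
theorem F337848 : act 4 n35928 = n63618 := (sb E97536 (iv4 D135334))
theorem F337849 : act 4 n135320 = n78927 := (sb E97537 F258950)
theorem F337850 : act 2 n135335 = n78920 := (sb E97538 F325812)
theorem F337851 : act 4 n135335 = n78910 := (sb E97538 (iv4 D164268))
theorem E97539 : n164308 = n59617 := (c16_2 D78920 D164308 F337831 (iv5 D69950) F51565 (iv5 F50450) (iv4 F104088) (iv5 F319883) (iv7 F324750) F324749)
theorem E97540 : n127053 = n78920 := ((D127053).symm.trans (sb E97539 (iv5 D164308)))
theorem F337852 : act 5 n78920 = n59617 := (sb E97540 (iv5 D127053))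
theorem F337853 : act 3 n185779 = n135305 := d20_9 (iv4 F337831) (iv1 D59617) (iv4 F94028) (iv3 F324675) F100852 (iv3 F98812) (iv4 F179380) F332650 D185779 F332698
theorem F337854 : act 4 n135305 = n185781 := d5_2 D185779 F337853 (iv3 D185781) (iv4 D88483) D88482
theorem F337855 : act 1 n185781 = n164287 := d18_8 (iv1 D78915) F56612 D35927 D78920 F337852 F337831 (iv0 F332698) F337854 (iv5 D164287)
theorem E97541 : n185890 = n135288 := (c20_4 (iv4 F319812) (iv1 F142893) F142896 D185890 (iv1 D135288) F98952 (iv4 F98956) D135305 F337854 (iv3 D185781) F319810)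
theorem F337856 : act 3 n135288 = n88536 := (sb E97541 (iv3 D185890))
theorem F337857 : act 7 n135288 = n185796 := (sb E97541 F288378)
theorem F337858 : act 2 n185796 = n135287 := d15_3 (iv0 D135287) D135288 F337857
theorem F337859 : act 0 n128981 = n132638 := d20_1 F207231 F212913 (iv3 D62239) F49207 (iv3 F95586) (iv4 F319812) (iv1 F142893) F142896 (iv3 F337856) (iv1 D135288)
theorem F337860 : act 5 n127051 = n164307 := d6_2 F337852 D127051 (iv3 D164307)
theorem F337861 : act 4 n106076 = n129268 := d17_4 (iv1 F318998) (iv5 D69970) (iv1 F232417) D106076 (iv5 F208127) F337845 F337852 (iv0 F337832) (iv4 F337840)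
theorem F337862 : act 6 n129594 = n106076 := d10_0 F337861 F207477 D129594
theorem F337863 : act 4 n129783 = n114701 := d16_4 D49024 D106076 F337861 (iv5 F208127) F178809 F314435 (iv5 D60406) (iv7 F77363) (iv2 D49023)
theorem F337864 : act 4 n129256 = n123390 := d9_9 F208127 (iv4 F337861) (iv5 D106076) (iv4 D49024) D49025 (iv4 F313534) D114659 (iv4 F334118) F217560 (iv5 D123390) F304387 D60406 (iv4 F314435) (iv5 F178809) (iv4 F337863)
theorem E97542 : n114658 = n55977 := (c20_5 D78920 (iv1 F337845) F337863 F178808 (iv1 F178761) (iv3 D55977) F136674 (iv1 D34864) F27688 (iv3 F28361) D35927)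
theorem E97543 : n121336 = n52921 := ((D121336).symm.trans (sb E97542 (iv1 D114658)))
theorem E97544 : n121337 = n52945 := ((D121337).symm.trans (sb E97542 F178761))
theorem E97545 : n114708 = n114657 := (((D114657).symm.trans (sb E97543 (iv1 F325413)))).symm
theorem F337865 : act 1 n52921 = n55977 := (sb E97543 (iv0 D121336))
theorem F337866 : act 0 n52945 = n55977 := (sb E97544 (iv1 D121337))
theorem F337867 : act 2 n114657 = n52943 := (sb E97545 (iv2 D114708))
theorem F337868 : act 3 n114657 = n68684 := (sb E97545 F325414)
theorem F337869 : act 6 n114657 = n68682 := (sb E97545 F325415)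
theorem F337870 : act 7 n114657 = n52944 := (sb E97545 (iv7 F178814))
theorem E97546 : n164299 = n114114 := ((c20_4 (iv4 F324994) (iv1 F241777) (iv4 F314257) (iv3 F177722) (iv1 D164299) (iv3 D78919) D78920 (iv1 F337845) F337863 F178808 F337866)).symm
theorem F337871 : act 0 n114114 = n78919 := (sb E97546 (iv1 D164299))
theorem E97547 : n164320 = n76527 := (c20_11 F314147 (iv1 D68686) (iv4 F104892) (iv3 F337868) (iv1 F178766) (iv3 F178808) (iv4 F337863) F216491 (iv4 F337848) D78924 D164320)
theorem E97548 : n159864 = n78924 := ((D159864).symm.trans (sb E97547 (iv0 D164320)))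
theorem F337872 : act 0 n78924 = n76527 := (sb E97548 (iv1 D159864))
theorem E97549 : n164321 = n119953 := ((D164321).symm.trans (sb E97548 (iv0 F317053)))
theorem F337873 : act 0 n119953 = n78924 := (sb E97549 (iv1 D164321))
theorem F337874 : act 5 n164323 = n170227 := d18_4 F232476 (iv4 F189374) F337873 D164323 (iv4 F332463) (iv0 F332472) F332475 F329020 (iv5 D68687)
theorem F337875 : act 3 n164323 = n124541 := d20_3 (iv4 F189374) F337873 D164323 (iv1 F199207) (iv3 F337017) F337023 F337027 F229834 F104891 F232476
theorem E97550 : n164325 = n146548 := (c21_6 (iv5 D92451) D92448 F337216 D119953 F337873 D164325 (iv5 F335873) (iv1 F247667) F247665 F312186 (iv1 F318929))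
theorem F337876 : act 3 n146548 = n78927 := (sb E97550 F258949)
theorem F337877 : act 6 n146548 = n78924 := (sb E97550 (iv6 D164325))
theorem E97551 : n164322 = n146557 := ((c15_3 (iv0 F337873) (iv0 F189375) D146557 (iv2 D164322))).symm
theorem F337878 : act 2 n146557 = n78924 := (sb E97551 (iv2 D164322))
theorem F337879 : act 2 n164323 = n146156 := d1_3 (iv4 F229863) F337878 D164323
theorem E97552 : n164267 = n117356 := (c4_3 D146557 F337878 (iv7 F325811) F183790)
theorem F337880 : act 3 n117356 = n78910 := (sb E97552 (iv3 D164267))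
theorem F337881 : act 7 n117356 = n78924 := (sb E97552 F325811)
theorem F337882 : act 7 n164323 = n127474 := d11_2 F337881 D164323 F204902
theorem F337883 : act 6 n131289 = n164323 := d14_5 F337882 (iv6 D127474) F94344 (iv6 F107231) (iv7 F311219)
theorem F337884 : act 1 n146155 = n164323 := d15_1 D146155 F337882 F204901
theorem E97553 : n146155 = n105429 := (c21_5 (iv5 D70771) (iv1 F309059) D131289 F337883 (iv1 F337884) (iv6 D105429) F76775 (iv1 F71274) (iv5 F114847) (iv6 F303022) (iv1 F305852))
theorem F337885 : act 0 n105429 = n68534 := (sb E97553 (iv1 D146155))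
theorem F337886 : act 1 n105429 = n164323 := (sb E97553 F337884)
theorem F337887 : act 1 n164323 = n128316 := d15_1 F337886 F317068 (iv2 F161827)
theorem F337888 : act 4 n107974 = n152005 := d18_1 (iv1 F332464) (iv1 D152005) F108159 (iv5 F85351) (iv4 F318958) F335470 (iv4 F161828) F337886 F337874
theorem F337889 : act 0 n105428 = n170508 := d20_4 D164323 (iv1 F337886) F161828 (iv3 F161824) (iv3 D170508) (iv4 D81734) (iv1 F309246) F290275 (iv3 F317055) F337873
theorem F337890 : act 4 n154676 = n124541 := d20_8 F161828 (iv1 F335470) F318958 (iv3 F183141) F233202 F109815 (iv4 F109947) D154676 (iv3 F337875) (iv1 F337886)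
theorem F337891 : act 2 n181589 = n154676 := d1_3 F337890 (iv2 F299084) D181589
theorem E97554 : n154676 = n135289 := ((c5_6 F337890 (iv3 F337875) (iv4 D164323) (iv3 D78924) F337848 (iv3 F217526))).symm
theorem F337892 : act 1 n135289 = n73343 := (sb E97554 (iv0 D154676))
theorem F337893 : act 2 n135289 = n181589 := (sb E97554 (iv2 F337891))
theorem F337894 : act 4 n135289 = n124541 := (sb E97554 F337890)
theorem E97555 : n147167 = n135289 := (c11_1 D147167 F337894 (iv7 F299089) (iv4 F312107))
theorem F337895 : act 7 n135289 = n68996 := (sb E97555 (iv7 D147167))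
theorem F337896 : act 5 n124206 = n129002 := d16_7 (iv4 F207231) D135289 F337894 F199206 F125546 F298612 D124206 (iv7 D129002) (iv2 F207199)
theorem F337897 : act 5 n124584 = n128981 := d16_1 D124584 (iv4 F207231) D135289 F337894 F199206 F125546 F298612 F297596 (iv2 F129681)
theorem F337898 : act 5 n170592 = n135288 := d17_1 (iv1 F268022) (iv1 D135288) D135289 F337894 F199206 F125638 D81725 (iv0 F125645) (iv4 F199216)
theorem F337899 : act 1 n124595 = n135289 := d18_6 (iv1 F296508) (iv4 D57878) F296479 D27720 D58171 D124595 F337894 (iv0 D124541) (iv5 D58127)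
theorem E97556 : n154674 = n90260 := ((c20_9 F337894 (iv1 F199207) D124550 F333926 F95603 (iv3 F315839) (iv4 D92461) (iv1 F67777) (iv4 F138824) F242829 (iv1 F337892))).symm
theorem F337900 : act 3 n90260 = n73343 := (sb E97556 F242829)
theorem F337901 : act 6 n90260 = n73341 := (sb E97556 (iv6 D154674))
theorem F337902 : act 0 n160102 = n137442 := d20_7 (iv4 F109947) (iv1 F337892) F337894 (iv3 F337875) (iv1 F337886) (iv3 F267776) F267777 F328581 (iv3 F104933) F104935
theorem E97557 : n146674 = n124543 := (c20_11 (iv4 D124543) D124541 (iv4 F337894) F217526 D135333 F217562 (iv4 F334125) F313912 (iv4 F225471) F225470 D146674)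
theorem F337903 : act 1 n124543 = n68742 := (sb E97557 (iv0 D146674))
theorem F337904 : act 1 n130206 = n124543 := d15_0 F337903 (iv7 F333915) (iv2 F208725)
theorem E97558 : n184837 = n147397 := (c21_7 D69082 F105330 (iv5 D68741) D68742 (iv1 F337903) F297825 D184837 (iv1 D147397) (iv5 D69097) (iv6 D32146) D32142)
theorem F337905 : act 5 n147397 = n88124 := (sb E97558 (iv5 D184837))
theorem E97559 : n147773 = n147397 := (c2_4 F337905 (iv2 F307912) (iv5 D147776) (iv2 F231514))
theorem F337906 : act 2 n147397 = n69233 := (sb E97559 F231514)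
theorem F337907 : act 6 n147397 = n126622 := (sb E97559 F336320)
theorem F337908 : act 7 n147397 = n69232 := (sb E97559 (iv7 D147773))
theorem E97560 : n184835 = n119877 := (c17_9 (iv1 F190166) (iv5 D33583) (iv1 D16225) (iv5 F24806) (iv4 F51102) D69097 D147397 F337905 D184835 (iv4 D119877))
theorem F337909 : act 0 n119877 = n88124 := (sb E97560 (iv1 D184835))
theorem E97561 : n175300 = n130206 := ((c21_5 (iv5 F105508) (iv1 F231110) F337905 (iv6 F297825) (iv1 F337904) (iv6 D175300) (iv5 D83710) D83706 (iv5 F334047) (iv6 D147390) (iv1 F105398))).symm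
theorem F337910 : act 3 n130206 = n83722 := (sb E97561 F274335)
theorem F337911 : act 6 n130206 = n83710 := (sb E97561 (iv6 D175300))
theorem E97562 : n184834 = n147294 := (c21_8 F87411 (iv1 F329848) F329041 (iv6 F325776) D126622 (iv6 F337907) F337905 D184834 (iv5 F231489) F336312 F329730)
theorem F337912 : act 1 n147294 = n88124 := (sb E97562 (iv0 D184834))
theorem E97563 : n184994 = n147768 := ((c16_10 (iv4 D184994) (iv5 D88183) (iv4 D41157) (iv5 D19357) (iv4 F30990) D41143 D88124 (iv5 F337905) F337908 D147768)).symm
theorem F337913 : act 4 n147768 = n88183 := (sb E97563 (iv4 D184994))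
theorem F337914 : act 0 n147782 = n185199 := d17_0 (iv5 D185199) (iv1 D88256) D88257 (iv4 F336311) F231489 F337912 (iv5 F337905) F231110 (iv4 F231531)
theorem F337915 : act 1 n147398 = n185199 := d15_0 (iv0 F337914) (iv7 D147782) (iv2 F231111)
theorem E97564 : n183872 = n88172 := (c17_9 (iv1 F308279) (iv5 D72769) (iv1 F52869) (iv5 F52954) (iv4 F109657) (iv5 F231112) F337915 (iv5 D185199) F285690 (iv4 D88172))
theorem E97565 : n153883 = n88256 := (((iv1 F310403)).symm.trans (sb E97564 (iv1 F285690)))
theorem E97566 : n153899 = n88255 := (((iv0 F310391)).symm.trans (sb E97564 F285691))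
theorem E97567 : n154441 = n88258 := (((iv2 F310359)).symm.trans (sb E97564 F285687))
theorem E97568 : n184959 = n88270 := ((D184959).symm.trans (sb E97564 F285688))
theorem E97569 : n154439 = n87709 := (((iv7 F310365)).symm.trans (sb E97564 (iv7 D183872)))
theorem E97570 : n88177 = n41188 := ((((iv1 D88256)).symm.trans (sb E97565 F310402))).symm
theorem F337916 : act 1 n88256 = n88172 := (sb E97565 F310403)
theorem E97571 : n185196 = n73273 := (((iv2 F287526)).symm.trans (sb E97565 F241815))
theorem E97572 : n185198 = n72796 := ((D185198).symm.trans (sb E97565 (iv4 D153883)))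
theorem E97573 : n185191 = n73335 := ((F287524).symm.trans (sb E97565 F241816))
theorem F337917 : act 0 n88255 = n88172 := (sb E97566 F310391)
theorem E97574 : n185193 = n72814 := ((D185193).symm.trans (sb E97566 (iv4 D153899)))
theorem E97575 : n185195 = n88252 := ((D185195).symm.trans (sb E97566 F310393))
theorem E97576 : n183871 = n73273 := (((iv1 F285686)).symm.trans (sb E97567 F242487))
theorem E97577 : n183870 = n73335 := ((F285689).symm.trans (sb E97567 F242488))
theorem F337918 : act 2 n88258 = n88172 := (sb E97567 F310359)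
theorem E97578 : n185190 = n73158 := (((iv4 F287523)).symm.trans (sb E97567 (iv4 D154441)))
theorem E97579 : n185235 = n88174 := (((iv4 F287541)).symm.trans (sb E97568 F287377))
theorem F337919 : act 6 n88270 = n88172 := (sb E97568 (iv6 D184959))
theorem E97580 : n183869 = n73157 := (((iv4 F285685)).symm.trans (sb E97569 (iv4 D154439)))
theorem F337920 : act 7 n87709 = n88172 := (sb E97569 F310365)
theorem E97582 : n88254 = n41156 := (((iv4 F135181)).symm.trans (sb E97570 (iv4 D88177)))
theorem F337921 : act 2 n73273 = n88256 := (sb E97571 F287526)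
theorem F337922 : act 7 n73273 = n88255 := (sb E97571 (iv7 D185196))
theorem F337923 : act 4 n72796 = n88256 := (sb E97572 (iv4 D185198))
theorem F337924 : act 2 n73335 = n88255 := (sb E97573 (iv2 D185191))
theorem F337925 : act 7 n73335 = n88256 := (sb E97573 (iv7 F287524))
theorem F337926 : act 4 n72814 = n88255 := (sb E97574 (iv4 D185193))
theorem E97585 : n182209 = n182195 := ((((iv5 F283639)).symm.trans (sb E97575 F287525))).symm
theorem F337927 : act 6 n88252 = n88255 := (sb E97575 (iv6 D185195))
theorem F337928 : act 0 n73273 = n87709 := (sb E97576 (iv1 D183871))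
theorem F337929 : act 1 n73273 = n88258 := (sb E97576 F285686)
theorem F337930 : act 0 n73335 = n88258 := (sb E97577 (iv1 F285689))
theorem F337931 : act 1 n73335 = n87709 := (sb E97577 (iv0 D183870))
theorem F337932 : act 4 n73158 = n88258 := (sb E97578 F287523)
theorem F337933 : act 4 n88174 = n88270 := (sb E97579 F287541)
theorem E97586 : n184963 = n88266 := ((D184963).symm.trans (sb E97579 (iv7 D185235)))
theorem F337934 : act 4 n73157 = n87709 := (sb E97580 F285685)
theorem E97587 : n154440 = n87708 := ((D154440).symm.trans (sb E97580 (iv6 D183869)))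
theorem E97590 : n185186 = n88176 := (((D88176).symm.trans (sb E97582 (iv3 F287522)))).symm
theorem F337935 : act 4 n41156 = n41188 := (sb E97582 F135181)
theorem E97592 : n88179 = n41186 := ((D88179).symm.trans (sb E97582 (iv6 D88254)))
theorem E97593 : n86996 = n86995 := ((((iv1 F283641)).symm.trans (sb E97585 (iv1 D182209)))).symm
theorem E97594 : n185092 = n86992 := ((((iv0 D182195)).symm.trans (sb E97585 F287470))).symm
theorem E97595 : n185234 = n94812 := ((D185234).symm.trans (sb E97586 F287379))
theorem F337936 : act 7 n88266 = n88174 := (sb E97586 (iv7 D184963))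
theorem E97596 : n181968 = n153684 := (((iv5 F283266)).symm.trans (sb E97587 F242486))
theorem F337937 : act 6 n87708 = n73157 := (sb E97587 (iv6 D154440))
theorem E97597 : n184969 = n88253 := ((D184969).symm.trans (sb E97590 (iv6 D185186)))
theorem E97600 : n184976 = n86989 := ((((iv5 F133504)).symm.trans (sb E97592 D184976))).symm
theorem F337938 : act 6 n41186 = n41156 := (sb E97592 (iv6 D88179))
theorem E97603 : n88220 = n88218 := (((iv2 F135158)).symm.trans (sb E97593 (iv2 F135156)))
theorem E97604 : n182206 = n182205 := ((D182206).symm.trans (sb E97593 (iv3 F283646)))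
theorem E97605 : n182207 = n40391 := ((((iv4 D86995)).symm.trans (sb E97593 (iv4 F283649)))).symm
theorem E97606 : n47506 = n41167 := (((F133507).symm.trans (sb E97593 F133508))).symm
theorem E97608 : n88219 = n41178 := (((F133505).symm.trans (sb E97594 F287467))).symm
theorem E97609 : n182200 = n182197 := (((D182197).symm.trans (sb E97594 F287468))).symm
theorem F337939 : act 5 n94812 = n88266 := (sb E97595 (iv5 D185234))
theorem F337940 : act 0 n153684 = n182249 := (sb E97596 (iv1 F283694))
theorem F337941 : act 1 n153684 = n182246 := (sb E97596 (iv0 F283686))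
theorem F337942 : act 4 n153684 = n86909 := (sb E97596 (iv4 D181968))
theorem F337943 : act 5 n153684 = n87708 := (sb E97596 F283266)
theorem F337944 : act 7 n153684 = n86982 := (sb E97596 F283267)
theorem F337945 : act 6 n88253 = n88176 := (sb E97597 (iv6 D184969))
theorem E97610 : n185087 = n182165 := ((((iv1 F283625)).symm.trans (sb E97600 F287462))).symm
theorem E97611 : n185083 = n182164 := (((F283624).symm.trans (sb E97600 (iv0 F287459)))).symm
theorem F337946 : act 2 n86989 = n153684 := (sb E97600 (iv2 F308306))
theorem E97612 : n182187 = n118937 := ((D182187).symm.trans (sb E97600 (iv6 F304638)))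
theorem E97613 : n185089 = n181977 := ((D185089).symm.trans (sb E97603 (iv1 F283295)))
theorem E97614 : n185090 = n182225 := ((D185090).symm.trans (sb E97603 (iv0 F283668)))
theorem F337947 : act 2 n88218 = n86995 := (sb E97603 F135158)
theorem E97615 : n185093 = n185043 := ((((iv3 F287434)).symm.trans (sb E97603 D185093))).symm
theorem E97616 : n185091 = n41171 := ((D185091).symm.trans (sb E97603 (iv4 D88220)))
theorem E97617 : n47505 = n41168 := ((((iv5 D88218)).symm.trans (sb E97603 F135160))).symm
theorem F337948 : act 7 n88218 = n86992 := (sb E97603 F135159)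
theorem F337949 : act 3 n182205 = n86995 := (sb E97604 (iv3 D182206))
theorem E97618 : n102380 = n88214 := ((F283647).symm.trans (sb E97604 F283648))
theorem F337950 : act 6 n40391 = n86995 := (sb E97605 (iv6 D182207))
theorem E97622 : n88215 = n22822 := ((D88215).symm.trans (sb E97606 (iv6 D47506)))
theorem E97623 : n102390 = n87705 := ((((iv7 F134617)).symm.trans (sb E97606 D102390))).symm
theorem E97626 : n154514 = n88239 := (((D88239).symm.trans (sb E97608 (iv6 F312619)))).symm
theorem F337951 : act 7 n182197 = n86993 := (sb E97609 (iv7 D182200))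
theorem E97627 : n88316 = n88217 := ((F283626).symm.trans (sb E97610 (iv5 D185087)))
theorem E97628 : n88313 = n88216 := ((F283622).symm.trans (sb E97611 (iv5 D185083)))
theorem F337952 : act 4 n118937 = n86990 := (sb E97612 F283637)
theorem F337953 : act 6 n118937 = n86989 := (sb E97612 (iv6 D182187))
theorem F337954 : act 1 n181977 = n88218 := (sb E97613 (iv0 D185089))
theorem F337955 : act 0 n182225 = n88218 := (sb E97614 (iv1 D185090))
theorem E97629 : n102386 = n88202 := ((((iv5 D185043)).symm.trans (sb E97615 F287473))).symm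
theorem F337956 : act 7 n185043 = n182196 := (sb E97615 F287474)
theorem F337957 : act 4 n41171 = n88218 := (sb E97616 (iv4 D185091))
theorem F337958 : act 2 n41168 = n41167 := (sb E97617 F74691)
theorem F337959 : act 7 n41168 = n41178 := (sb E97617 F74692)
theorem F337960 : act 5 n88214 = n182205 := (sb E97618 (iv5 F283647))
theorem E97630 : n185075 = n47502 := ((D185075).symm.trans (sb E97618 (iv6 D102380)))
theorem F337961 : act 4 n22822 = n41168 := (sb E97622 F135155)
theorem F337962 : act 6 n22822 = n41167 := (sb E97622 (iv6 D88215))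
theorem E97634 : n183859 = n88243 := ((D183859).symm.trans (sb E97623 F157202))
theorem E97635 : n185151 = n73190 := ((D185151).symm.trans (sb E97626 (iv1 D154514)))
theorem E97636 : n185152 = n88240 := ((D185152).symm.trans (sb E97626 F312617))
theorem E97637 : n185154 = n87706 := ((D185154).symm.trans (sb E97626 F312620))
theorem F337963 : act 1 n88217 = n87705 := (sb E97627 F135228)
theorem E97638 : n185084 = n88213 := (((iv2 F287461)).symm.trans (sb E97627 F135225))
theorem E97639 : n185384 = n185085 := (((D185085).symm.trans (sb E97627 D185384))).symm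
theorem E97640 : n185086 = n41218 := ((D185086).symm.trans (sb E97627 (iv4 D88316)))
theorem F337964 : act 5 n88217 = n182165 := (sb E97627 (iv5 F283626))
theorem E97641 : n185385 = n185088 := (((D185088).symm.trans (sb E97627 D185385))).symm
theorem E97642 : n185080 = n88212 := ((F287458).symm.trans (sb E97627 F135226))
theorem F337965 : act 0 n88216 = n87705 := (sb E97628 F135222)
theorem E97643 : n185375 = n185081 := (((D185081).symm.trans (sb E97628 D185375))).symm
theorem E97644 : n185082 = n41217 := ((D185082).symm.trans (sb E97628 (iv4 D88313)))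
theorem F337966 : act 5 n88216 = n182164 := (sb E97628 (iv5 F283622))
theorem E97645 : n185376 = n153829 := ((((iv6 F310885)).symm.trans (sb E97628 D185376))).symm
theorem F337967 : act 7 n88202 = n88238 := (sb E97629 F157197)
theorem F337968 : act 6 n47502 = n88214 := (sb E97630 (iv6 D185075))
theorem F337969 : act 2 n88243 = n88239 := (sb E97634 F285667)
theorem F337970 : act 6 n88243 = n87705 := (sb E97634 (iv6 D183859))
theorem F337971 : act 1 n73190 = n88239 := (sb E97635 (iv0 D185151))
theorem F337972 : act 0 n88240 = n88239 := (sb E97636 (iv1 D185152))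
theorem F337973 : act 4 n87706 = n88243 := (sb E97637 F287502)
theorem F337974 : act 7 n87706 = n88239 := (sb E97637 (iv7 D185154))
theorem F337975 : act 2 n88213 = n88217 := (sb E97638 F287461)
theorem F337976 : act 7 n88213 = n88216 := (sb E97638 (iv7 D185084))
theorem F337977 : act 7 n185085 = n185068 := (sb E97639 F287625)
theorem F337978 : act 4 n41218 = n88217 := (sb E97640 (iv4 D185086))
theorem F337979 : act 2 n185088 = n185071 := (sb E97641 F287626)
theorem F337980 : act 4 n185088 = n88318 := (sb E97641 F287627)
theorem F337981 : act 2 n88212 = n88216 := (sb E97642 (iv2 D185080))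
theorem F337982 : act 7 n88212 = n88217 := (sb E97642 (iv7 F287458))
theorem F337983 : act 7 n185081 = n185070 := (sb E97643 F287613)
theorem F337984 : act 4 n41217 = n88216 := (sb E97644 (iv4 D185082))
theorem F337985 : act 2 n153829 = n185069 := (sb E97645 F287614)
theorem F337986 : act 4 n153829 = n88314 := (sb E97645 F287615)
theorem E97646 : n147768 = n147396 := (c18_6 (iv1 D88256) (iv4 F337935) (iv1 D41156) D41157 D88183 (iv4 F337913) (iv0 D147396) D147398 F337915 (iv5 D185199))
theorem F337987 : act 2 n147396 = n69232 := (sb E97646 (iv2 D147768))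
theorem F337988 : act 4 n147396 = n88183 := (sb E97646 F337913)
theorem F337989 : act 7 n147396 = n69233 := (sb E97646 (iv7 F231508))
theorem E97647 : n184990 = n148598 := (c5_2 F337988 (iv3 F287391) (iv4 D148598) F105958 D69650 (iv3 F335063))
theorem F337990 : act 3 n148598 = n88183 := (sb E97647 F287391)
theorem F337991 : act 5 n148598 = n88182 := (sb E97647 (iv5 D184990))
theorem F337992 : act 4 n184992 = n147808 := d18_3 D147396 F337988 D184992 (iv5 D147808) F310864 F308722 F162526 (iv0 D69095) D69097
theorem F337993 : act 5 n184993 = n154558 := d18_9 F242632 (iv4 D153861) (iv1 D72777) D72778 (iv5 F231532) F231531 F231117 F337988 D184993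
theorem F337994 : act 4 n147444 = n184993 := d16_2 (iv4 F310860) D147444 F337993 (iv4 D154558) (iv5 D73258) (iv4 F306893) D88120 (iv7 F310452) F310451
theorem F337995 : act 5 n153939 = n184992 := d9_8 (iv5 F337993) (iv4 F337994) (iv5 D147444) F310860 (iv5 D88115) F306891 D72853 D153939 F337992 (iv5 D147808) F310864 (iv5 D88120) F306893 D73258 D154558
theorem F337996 : act 4 n184980 = n154604 := d17_4 (iv1 D184993) (iv5 D88183) D88180 D184980 (iv5 D154604) (iv0 D73287) D73290 (iv0 F231230) F337994
theorem F337997 : act 4 n184828 = n154584 := d16_2 F310873 D184828 (iv5 D154584) (iv4 F308729) D184980 F337996 (iv5 D154604) F237031 F237032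
theorem F337998 : act 1 n147747 = n184980 := d18_6 F230984 F230983 (iv1 F182676) (iv4 D69224) D69225 D147747 F337996 F242694 (iv5 D147414)
theorem F337999 : act 4 n154608 = n184985 := d9_9 D154604 (iv4 F337996) (iv5 D184980) F308729 D154584 (iv4 F337997) (iv5 D184828) (iv4 F310873) D154608 (iv5 D184985) (iv4 F310893) F109945 F190353 (iv5 F308488) (iv4 F310599)
theorem F338000 : act 0 n184985 = n147762 := d18_2 F242705 F337999 (iv4 D147762) (iv5 D69230) D69229 F231482 (iv4 F231485) (iv0 D147406) D147408
theorem F338001 : act 1 n184985 = n147747 := d18_6 F337909 (iv4 D88124) D88122 (iv4 F310873) D154608 F337999 (iv4 D147747) D147746 (iv5 F231491)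
theorem F338002 : act 7 n184828 = n127977 := d16_8 (iv4 F190353) (iv5 F109945) F310893 D184985 (iv4 F337999) (iv5 D154608) F310873 D184828 F205955
theorem F338003 : act 2 n150538 = n184828 := d4_3 F338002 F205955 D150538
theorem F338004 : act 3 n154938 = n184828 := d8_3 F338002 (iv3 F335022) (iv7 F243641)
theorem F338005 : act 1 n147760 = n184828 := d15_1 (iv0 F231503) F338002 F205955
theorem F338006 : act 1 n184828 = n147742 := d15_1 F338005 (iv7 F235632) F235630
theorem F338007 : act 0 n185513 = n124672 := d17_2 F242656 F307392 (iv5 D124672) F92105 (iv5 F182675) F231466 D147760 F338005 F337997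
theorem F338008 : act 4 n153864 = n185513 := d17_9 F338007 (iv5 D124672) F110510 D72796 F337923 D185199 (iv0 F337914) F231532 D153864
theorem F338009 : act 1 n185513 = n149129 := d15_1 (iv0 F338007) F306621 (iv2 F199437)
theorem F338010 : act 6 n185512 = n153864 := d10_0 F338008 (iv6 D185513) D185512
theorem E97648 : n154520 = n153864 := (c11_1 D154520 F338008 (iv7 F307391) F231587)
theorem F338011 : act 2 n153864 = n73192 := (sb E97648 F242553)
theorem F338012 : act 7 n153864 = n73191 := (sb E97648 (iv7 D154520))
theorem F338013 : act 2 n147855 = n185513 := d1_3 (iv4 F338008) F338011 F231628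
theorem F338014 : act 6 n185510 = n147855 := d3_0 F338013 (iv6 D185513) (iv2 F287779)
theorem F338015 : act 4 n154522 = n185510 := d10_3 F338014 (iv4 F231628) D154522
theorem E97649 : n185510 = n183909 := (c21_4 F241813 (iv1 F231584) D147855 (iv6 F338014) (iv1 D183909) (iv6 D87727) (iv5 D40865) (iv1 F63096) D44579 F308465 (iv1 F241811))
theorem F338016 : act 2 n183909 = n88367 := (sb E97649 F287779)
theorem F338017 : act 4 n183909 = n154522 := (sb E97649 (iv4 F338015))
theorem F338018 : act 6 n183909 = n147855 := (sb E97649 F338014)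
theorem F338019 : act 7 n183909 = n88366 := (sb E97649 (iv7 D185510))
theorem F338020 : act 7 n185507 = n154522 := d11_2 F338019 D185507 (iv4 F338017)
theorem E97650 : n185505 = n183908 := (c15_4 (iv0 D183908) D183909 F338019 D185505)
theorem F338021 : act 2 n183908 = n88366 := (sb E97650 (iv2 D185505))
theorem F338022 : act 7 n183908 = n88367 := (sb E97650 (iv7 F287778))
theorem E97651 : n153881 = n88273 := (c21_9 (iv5 D87000) D86997 (iv5 F133510) D88365 (iv1 F329978) F338018 (iv5 D147855) (iv1 F231585) (iv5 F241807) (iv6 D88273) (iv1 F133519))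
theorem E97652 : n185255 = n72814 := ((D185255).symm.trans (sb E97651 (iv1 F241808)))
theorem E97653 : n185256 = n72796 := ((D185256).symm.trans (sb E97651 (iv0 D153881)))
theorem E97654 : n183882 = n73271 := (((iv2 F285709)).symm.trans (sb E97651 (iv2 F241809)))
theorem E97655 : n182264 = n154444 := (((iv4 F283710)).symm.trans (sb E97651 (iv4 F242496)))
theorem E97656 : n185257 = n147823 := ((D185257).symm.trans (sb E97651 F241807))
theorem E97657 : n185258 = n73272 := ((D185258).symm.trans (sb E97651 (iv7 F241810)))
theorem F338023 : act 1 n72814 = n88273 := (sb E97652 (iv0 D185255))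
theorem F338024 : act 0 n72796 = n88273 := (sb E97653 (iv1 D185256))
theorem F338025 : act 2 n73271 = n88273 := (sb E97654 F285709)
theorem E97658 : n154581 = n87713 := ((D154581).symm.trans (sb E97654 (iv6 D183882)))
theorem F338026 : act 4 n154444 = n88273 := (sb E97655 F283710)
theorem F338027 : act 6 n154444 = n87021 := (sb E97655 (iv6 D182264))
theorem F338028 : act 5 n147823 = n88273 := (sb E97656 (iv5 D185257))
theorem F338029 : act 7 n73272 = n88273 := (sb E97657 (iv7 D185258))
theorem E97659 : n181975 = n153668 := (((iv5 F283288)).symm.trans (sb E97658 F242648))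
theorem F338030 : act 6 n87713 = n73271 := (sb E97658 (iv6 D154581))
theorem F338031 : act 0 n153668 = n185065 := (sb E97659 (iv1 F287452))
theorem F338032 : act 1 n153668 = n93448 := (sb E97659 F283290)
theorem F338033 : act 2 n153668 = n87028 := (sb E97659 F283287)
theorem F338034 : act 4 n153668 = n86915 := (sb E97659 (iv4 D181975))
theorem F338035 : act 5 n153668 = n87713 := (sb E97659 F283288)
theorem F338036 : act 7 n153668 = n87014 := (sb E97659 F283289)
theorem F338037 : act 0 n153371 = n185060 := d21_4 (iv5 D33735) F109822 D72853 (iv6 F240938) (iv6 D185060) (iv5 F144147) (iv1 F338032) F338035 F338030 (iv1 F109725)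
theorem E97660 : n181976 = n153667 := (c10_3 D153668 F338034 D181976 (iv4 D153667))
theorem F338038 : act 2 n153667 = n87029 := (sb E97660 F283291)
theorem F338039 : act 6 n153667 = n86915 := (sb E97660 (iv6 D181976))
theorem F338040 : act 5 n103931 = n153667 := d12_5 F338039 (iv5 D86915) (iv6 F293315) D48116 D103931
theorem F338041 : act 2 n182273 = n103931 := d2_3 F338040 F338038 D182273
theorem E97661 : n182270 = n153421 := (c1_3 D153667 F338038 (iv4 F283717) F240986)
theorem F338042 : act 4 n153421 = n87029 := (sb E97661 F283717)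
theorem F338043 : act 6 n153421 = n87028 := (sb E97661 (iv6 D182270))
theorem E97662 : n182274 = n153659 := (c11_3 (iv7 F240987) F338042 D182274 (iv4 D153659))
theorem F338044 : act 7 n153659 = n87029 := (sb E97662 (iv7 D182274))
theorem F338045 : act 1 n182273 = n182139 := d17_6 (iv1 F240989) F109185 (iv1 F109000) D153421 F338042 D182273 (iv5 D182139) D182137 (iv4 F306626)
theorem F338046 : act 4 n182272 = n152895 := d18_7 F304410 (iv4 F61458) (iv1 F305234) F205765 D153421 F338042 D182272 (iv0 D152895) (iv5 D72150)
theorem F338047 : act 3 n153421 = n179756 := d20_3 (iv4 F338046) (iv1 D182272) (iv4 F338042) (iv1 D179756) F131715 D85883 F304675 (iv4 D81802) (iv3 F108588) D152895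
theorem F338048 : act 6 n179756 = n182269 := d7_2 (iv6 F338043) F338047 (iv3 D182269)
theorem E97663 : n185254 = n69987 := (c12_3 F338048 F283716 D185254 D149143 F234516 (iv5 F279979))
theorem E97664 : n149141 = n88273 := ((D149141).symm.trans (sb E97663 F287547))
theorem E97665 : n149144 = n88272 := ((D149144).symm.trans (sb E97663 (iv6 D185254)))
theorem F338049 : act 3 n88273 = n69987 := (sb E97664 (iv3 D149141))
theorem F338050 : act 6 n88272 = n69987 := (sb E97665 (iv6 D149144))
theorem F338051 : act 6 n149052 = n185252 := d3_2 F338050 (iv2 F234519) (iv2 D185252)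
theorem F338052 : act 6 n149142 = n185253 := d10_2 F338050 D149142 (iv4 D185253)
theorem E97666 : n154582 = n149051 := ((c8_3 F338029 F338049 (iv7 F234523) (iv3 D154582))).symm
theorem F338053 : act 3 n149051 = n73272 := (sb E97666 (iv3 D154582))
theorem F338054 : act 4 n149145 = n175524 := d20_2 D69988 D149145 (iv3 D175524) (iv1 F128842) F308719 D73159 D154444 F338026 F338049 (iv1 D69987)
theorem F338055 : act 5 n175524 = n149216 := d18_4 (iv1 D69987) D69988 D149145 F338054 (iv4 D149216) (iv0 F107164) (iv4 F236219) (iv0 F236221) (iv5 D149143)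
theorem F338056 : act 3 n149216 = n175526 := d6_1 F338055 (iv5 D175526) D175524
theorem F338057 : act 0 n101020 = n175524 := d17_2 F190377 D101020 F338055 (iv4 D149216) (iv5 D70036) (iv0 D32500) (iv5 D15383) D15382 D32497
theorem F338058 : act 1 n149163 = n175524 := d17_6 F243625 (iv5 D154932) (iv1 F241368) F199529 F190742 D149163 F338055 F243628 F236185
theorem F338059 : act 3 n152007 = n99446 := d20_3 F332475 F329019 (iv4 F239027) (iv1 F274866) (iv3 F338056) (iv4 D149216) F310498 (iv4 F167422) F167421 (iv1 F332473)
theorem F338060 : act 2 n184671 = n152007 := d0_5 F338059 F156856 F308324 F306422 (iv3 F286663)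
theorem F338061 : act 6 n99443 = n152007 := d7_0 F338059 (iv6 D99446) D99443
theorem F338062 : act 7 n99446 = n152000 := d8_2 D152007 F338059 F239018
theorem F338063 : act 2 n152000 = n100951 := d4_1 F338062 (iv7 D100951) (iv2 F156856)
theorem F338064 : act 4 n152000 = n158522 := d11_1 F338062 (iv7 F308604) F308601
theorem F338065 : act 5 n152000 = n175505 := d13_1 F338062 F274762 F156850
theorem F338066 : act 1 n100949 = n152000 := d15_1 D100949 (iv7 F338062) F156856
theorem E97667 : n100949 = n100901 := ((c17_8 (iv1 D158522) F127941 (iv1 D83029) (iv5 D38209) F29453 D22751 D47356 (iv5 F155044) F338066 F338064)).symm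
theorem F338067 : act 0 n100901 = n47045 := (sb E97667 (iv1 D100949))
theorem F338068 : act 1 n100901 = n152000 := (sb E97667 F338066)
theorem E97668 : n174490 = n174017 := ((((iv4 F272670)).symm.trans (sb E97667 (iv4 F274820)))).symm
theorem F338069 : act 0 n174017 = n83396 := (sb E97668 (iv1 D174490))
theorem F338070 : act 3 n174017 = n152304 := d20_3 (iv4 F338064) (iv1 F338068) (iv4 F272670) F239418 (iv3 F115993) F115994 (iv1 F91373) (iv4 F123480) (iv3 F263627) F308606
theorem F338071 : act 3 n118221 = n100901 := d5_5 (iv4 F272670) F338070 F239416 F185752 (iv4 F185755)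
theorem F338072 : act 5 n101934 = n118221 := d6_0 F338071 F155044 D101934
theorem F338073 : act 7 n100901 = n175526 := d8_2 F234605 F338071 (iv3 F338056)
theorem F338074 : act 3 n100120 = n167445 := d20_3 (iv4 F155080) (iv1 F308607) F308609 F304392 F301821 (iv4 D167836) (iv1 F155461) (iv4 F185755) F338071 F338067
theorem F338075 : act 5 n177762 = n100120 := d6_0 F338074 F263592 D177762
theorem F338076 : act 4 n152004 = n107973 := d20_0 F332460 (iv4 F332463) (iv3 F332465) (iv1 F263595) (iv3 F338074) (iv4 F308609) F308606 (iv4 F338064) F239018 D152004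
theorem F338077 : act 3 n107973 = n127936 := d20_3 (iv4 F108159) D152004 F338076 (iv1 F205884) F96343 (iv4 F95420) (iv1 F101404) (iv4 D61413) D61412 (iv1 F247740)
theorem F338078 : act 5 n170427 = n107973 := d6_0 F338077 F319723 (iv3 F267892)
theorem F338079 : act 0 n170427 = n124506 := d21_1 (iv5 F338078) (iv5 D124506) (iv6 D58106) F73553 (iv6 F310769) (iv5 D49831) F55537 (iv5 F38102) D49867 D107973
theorem F338080 : act 5 n177734 = n122687 := d17_7 D107973 (iv5 F338078) F338079 (iv5 D124506) F91906 D84630 D177734 F332473 F166833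
theorem F338081 : act 2 n98477 = n177762 := d2_3 F338075 (iv2 F274979) F274977
theorem F338082 : act 0 n88946 = n177762 := d17_2 F274513 D88946 F338075 (iv4 F308609) F308610 (iv0 D83028) (iv5 D38209) D38208 D83025
theorem F338083 : act 4 n101937 = n177762 := d18_3 (iv1 D47356) D47357 D101937 F338075 (iv4 F308609) F308607 F155080 (iv0 F338067) F155044
theorem F338084 : act 0 n177762 = n98480 := d21_1 (iv5 F338075) F151879 (iv6 F136507) (iv1 F136509) D98500 (iv5 F154036) (iv1 F154041) (iv5 D46735) D46736 D100120
theorem F338085 : act 1 n177974 = n98480 := d15_0 (iv0 F338084) F277221 D177974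
theorem F338086 : act 1 n88946 = n177974 := d15_0 F338085 (iv7 D98480) (iv2 F136518)
theorem F338087 : act 5 n100050 = n177974 := d17_5 (iv1 F59074) (iv5 F59438) (iv1 F127940) (iv5 F127941) (iv4 F249127) F338085 F151879 F310384 F308339
theorem F338088 : act 4 n101938 = n177974 := d18_7 (iv1 F274514) (iv4 D83025) (iv1 D38208) F29453 D22751 D47357 D101938 F338085 F151879
theorem F338089 : act 2 n175533 = n101938 := d1_3 F338088 (iv2 D177974) (iv4 F312936)
theorem F338090 : act 1 n152000 = n100948 := d18_8 (iv1 F128844) (iv4 F274874) (iv1 F274876) F338088 (iv5 F338087) F249127 D158522 (iv4 F338064) F155078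
theorem F338091 : act 4 n100948 = n174489 := d18_7 (iv1 F274819) F334807 (iv1 F161840) (iv4 F334789) F272024 (iv4 F338064) F338090 (iv0 D174489) D174491
theorem F338092 : act 6 n175505 = n102332 := d21_3 (iv5 F155078) (iv1 F338090) F338065 (iv1 D102332) (iv6 D47488) (iv5 D22809) (iv1 D10774) D10775 (iv6 F35304) D47355
theorem F338093 : act 0 n98479 = n101931 := d18_2 (iv1 F312934) D98479 (iv4 D101931) (iv5 F155078) F338091 (iv0 D174489) F155513 F275006 (iv5 F310671)
theorem F338094 : act 7 n101937 = n175533 := d15_2 F274876 F274878 F338089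
theorem F338095 : act 7 n175532 = n101938 := d15_2 F274870 F274875 (iv2 F338089)
theorem F338096 : act 2 n101937 = n175532 := d4_3 F338095 (iv2 F338089) (iv7 F338094)
theorem F338097 : act 7 n177974 = n98477 := d11_2 F338095 F338088 (iv4 F274877)
theorem F338098 : act 3 n177958 = n98477 := d0_0 F338081 (iv3 D177762) F129840 D84715 D177958
theorem E97669 : n177958 = n154653 := ((c20_5 F337934 (iv1 F337931) (iv4 D73335) (iv3 F109818) D154653 F338098 (iv4 F274877) (iv1 F274875) (iv4 D101888) F308719 D73157)).symm
theorem F338099 : act 2 n154653 = n84715 := (sb E97669 (iv2 D177958))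
theorem F338100 : act 3 n154653 = n98477 := (sb E97669 F338098)
theorem E97670 : n177765 = n154654 := ((c15_2 (iv0 D154653) D154654 F277227 (iv2 F338099))).symm
theorem F338101 : act 3 n154654 = n84643 := (sb E97670 (iv3 D177765))
theorem F338102 : act 5 n154654 = n122415 := (sb E97670 F277226)
theorem F338103 : act 7 n154654 = n84715 := (sb E97670 F277227)
theorem E97671 : n175528 = n47356 := (c13_3 F338073 (iv5 D175526) D175528 (iv5 F155044))
theorem E97672 : n101933 = n83810 := (((iv2 F156917)).symm.trans (sb E97671 F274869))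
theorem E97673 : n101929 = n83809 := ((F156916).symm.trans (sb E97671 (iv7 D175528)))
theorem F338104 : act 2 n83810 = n47356 := (sb E97672 F156917)
theorem E97674 : n175523 = n47355 := ((F274865).symm.trans (sb E97672 (iv7 D101933)))
theorem F338105 : act 7 n83809 = n47356 := (sb E97673 (iv7 F156916))
theorem F338106 : act 2 n47355 = n83809 := (sb E97674 (iv2 D175523))
theorem F338107 : act 7 n47355 = n83810 := (sb E97674 (iv7 F274865))
theorem F338108 : act 7 n101130 = n89347 := d14_2 F338073 F274867 (iv6 D89347) F311776 D100901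
theorem F338109 : act 2 n175526 = n100948 := d15_3 (iv0 D100948) (iv0 F338067) F338073
theorem F338110 : act 2 n100901 = n89342 := d15_3 (iv0 F156400) (iv0 F274900) (iv7 F338073)
theorem F338111 : act 2 n172264 = n174017 := d1_3 F272670 F338110 F271106
theorem F338112 : act 7 n89342 = n100948 := d4_2 (iv7 F338073) F338110 (iv2 F338109)
theorem F338113 : act 7 n174489 = n172264 := d11_2 F338112 F338091 (iv4 F271106)
theorem F338114 : act 7 n152680 = n174043 := d11_2 F338108 (iv4 F311780) F272789
theorem F338115 : act 2 n89347 = n101129 := d15_3 (iv0 D101129) D101130 F338108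
theorem F338116 : act 2 n174042 = n152680 := d1_3 F311780 F338115 (iv4 F272793)
theorem E97675 : n101129 = n100906 := (c3_2 D89347 F338115 (iv6 D100906) F314198)
theorem F338117 : act 0 n100906 = n101529 := (sb E97675 (iv1 F156333))
theorem F338118 : act 1 n100906 = n47106 := (sb E97675 (iv0 D101129))
theorem F338119 : act 2 n100906 = n89347 := (sb E97675 (iv2 F338115))
theorem E97676 : n174042 = n174021 := ((((iv4 F272673)).symm.trans (sb E97675 (iv4 F272793)))).symm
theorem F338120 : act 0 n174021 = n172866 := (sb E97676 (iv1 F272792))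
theorem F338121 : act 1 n174021 = n83207 := (sb E97676 (iv0 D174042))
theorem F338122 : act 2 n174021 = n152680 := (sb E97676 F338116)
theorem F338123 : act 3 n174043 = n148542 := d8_1 F338114 F233312 (iv3 F239898)
theorem F338124 : act 7 n175529 = n101930 := d8_2 F338107 D175529 (iv3 D101930)
theorem F338125 : act 7 n175530 = n101931 := d11_2 F338107 D175530 (iv4 D101931)
theorem F338126 : act 2 n175525 = n101931 := d1_3 (iv4 D101931) F338106 D175525
theorem F338127 : act 2 n175527 = n101932 := d3_3 (iv6 D101932) F338106 D175527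
theorem F338128 : act 7 n101935 = n175525 := d15_2 (iv0 F338093) (iv0 F272646) F338126
theorem F338129 : act 2 n101935 = n175530 := d4_3 F338125 (iv2 F338126) (iv7 F338128)
theorem F338130 : act 7 n101934 = n175524 := d8_2 F338105 D101934 (iv3 D175524)
theorem F338131 : act 2 n101936 = n175531 := d3_3 (iv6 D175531) F338104 D101936
theorem F338132 : act 0 n101934 = n124702 := d21_7 (iv5 F58829) (iv1 F58832) (iv5 F35214) D47083 F190192 D118221 (iv5 F338072) (iv5 D124702) (iv6 D58284) F44836
theorem F338133 : act 3 n175505 = n152006 := d6_1 F338065 (iv5 D152006) (iv3 F239018)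
theorem E97677 : n154507 = n152006 := ((c0_1 F338133 (iv2 D154507) (iv3 D73187) (iv2 F233821) (iv3 F308376) F274763)).symm
theorem F338134 : act 2 n152006 = n73187 := (sb E97677 (iv2 D154507))
theorem E97678 : n154509 = n146536 := (c2_3 D152006 F338134 D154509 F229845)
theorem F338135 : act 3 n146536 = n73189 := (sb E97678 F242549)
theorem F338136 : act 5 n146536 = n73187 := (sb E97678 (iv5 D154509))
theorem F338137 : act 7 n184671 = n146536 := d13_0 F338136 (iv7 F241747) F308326
theorem E97679 : n154506 = n154462 := (c17_7 (iv1 F308172) (iv5 D146532) (iv1 D68686) D68687 D146536 F338136 D154506 (iv5 D154462) (iv0 F310345) F314823)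
theorem F338138 : act 0 n154462 = n73187 := (sb E97679 (iv1 D154506))
theorem E97680 : n154505 = n154241 := (c21_8 F90806 (iv1 F94676) (iv5 F112542) (iv6 F309238) (iv1 F107940) (iv6 F229846) F338136 D154505 (iv5 D154241) (iv6 D73079) (iv1 F90808))
theorem F338139 : act 1 n154241 = n73187 := (sb E97680 (iv0 D154505))
theorem E97681 : n154463 = n123747 := ((c21_5 D107942 (iv1 F238351) (iv5 D151499) D151500 (iv1 F316789) (iv6 D154463) D154462 F338138 (iv5 F338136) F229846 F107939)).symm
theorem F338140 : act 6 n123747 = n73168 := (sb E97681 (iv6 D154463))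
theorem F338141 : act 6 n154242 = n151986 := d3_2 F338140 (iv2 F310348) (iv2 F316790)
theorem E97682 : n177116 = n124505 := ((c10_2 F338140 (iv4 F300043) F312168 (iv4 F316792))).symm
theorem F338142 : act 3 n124505 = n84411 := (sb E97682 F276533)
theorem F338143 : act 5 n124505 = n84408 := (sb E97682 (iv5 D177116))
theorem F338144 : act 6 n124505 = n86642 := (sb E97682 F312168)
theorem E97683 : n181293 = n124505 := (c14_1 D181293 F338144 (iv7 F309648) (iv6 D123179) F90506 D86567)
theorem F338145 : act 7 n124505 = n86567 := (sb E97683 (iv7 D181293))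
theorem E97684 : n124504 = n123178 := ((c15_4 (iv0 D124504) D124505 F338145 (iv2 F197415))).symm
theorem F338146 : act 1 n123178 = n58106 := (sb E97684 (iv0 D124504))
theorem F338147 : act 4 n154241 = n121314 := d16_2 F197416 D154241 (iv5 D121314) F88584 (iv5 F83726) (iv4 F129555) (iv5 F338143) F338145 (iv2 F197415)
theorem F338148 : act 4 n159865 = n117346 := d18_3 (iv1 F317065) F204902 F317049 F308170 F110096 F337500 (iv4 F91906) D124505 F338143
theorem F338149 : act 0 n114698 = n135335 := d20_7 F338148 (iv1 F183772) (iv4 F335467) F335466 (iv1 D52944) (iv3 F83659) (iv4 F178806) F337851 (iv3 F337880) F317049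
theorem E97685 : n170113 = n45339 := (c20_7 F204902 F317049 F338148 F232361 (iv1 F183477) F315430 D170113 (iv1 D45339) (iv4 F59965) (iv3 F129554) (iv1 F317065))
theorem E97686 : n97048 = n96987 := (((D96987).symm.trans (sb E97685 F267608))).symm
theorem E97687 : n96988 = n81585 := ((D96988).symm.trans (sb E97685 (iv4 D170113)))
theorem F338150 : act 0 n96987 = n45366 := (sb E97686 (iv1 D97048))
theorem F338151 : act 4 n81585 = n45339 := (sb E97687 (iv4 D96988))
theorem E97688 : n96724 = n95665 := ((c1_3 F338151 (iv2 F322991) D95665 F315429)).symm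
theorem F338152 : act 0 n95665 = n45193 := (sb E97688 (iv1 D96724))
theorem F338153 : act 1 n95665 = n81587 := (sb E97688 F149134)
theorem F338154 : act 2 n95665 = n81585 := (sb E97688 F315429)
theorem F338155 : act 3 n95665 = n55552 := (sb E97688 F313009)
theorem F338156 : act 5 n95665 = n74917 := (sb E97688 F313010)
theorem F338157 : act 6 n95665 = n55532 := (sb E97688 F313011)
theorem F338158 : act 7 n95665 = n68800 := (sb E97688 F313012)
theorem F338159 : act 4 n96990 = n120558 := d10_3 F315432 F338151 D96990
theorem E97689 : n181074 = n157426 := ((c18_8 (iv1 F149141) F338151 (iv1 D45339) (iv4 F59965) D84411 (iv4 F315267) F215337 (iv4 F247950) (iv0 D181074) (iv5 F310252))).symm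
theorem F338160 : act 1 n157426 = n86479 := (sb E97689 (iv0 D181074))
theorem F338161 : act 4 n175030 = n96984 := d16_6 (iv4 F338151) (iv5 F315431) F240657 F211145 F322782 D175030 (iv5 D96984) (iv7 F322992) F322991
theorem E97690 : n146928 = n146685 := ((c20_1 D146685 (iv1 D146928) (iv4 F227868) F227867 F227766 (iv3 D144844) (iv4 F317478) (iv1 F71436) (iv4 F338151) (iv3 F315430) (iv1 F183476))).symm
theorem F338162 : act 0 n146685 = n68876 := (sb E97690 (iv1 D146928))
theorem F338163 : act 1 n118559 = n133322 := d18_6 (iv1 F183476) D146685 F338162 (iv4 F227868) F227869 F210715 (iv4 D133322) D133320 F237478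
theorem E97691 : n146927 = n146909 := ((c15_4 (iv0 D146927) (iv0 F338162) F230020 (iv2 F230294))).symm
theorem F338164 : act 1 n146909 = n68876 := (sb E97691 (iv0 D146927))
theorem F338165 : act 0 n170265 = n127427 := d20_4 (iv4 F335467) (iv1 D105431) (iv4 F161828) (iv3 F267776) (iv3 F227867) F227868 (iv1 F338164) (iv4 D146909) (iv3 F232361) (iv1 F183772)
theorem F338166 : act 0 n117436 = n144806 := d20_1 F204827 (iv4 D144806) D144805 (iv1 F233695) F229835 (iv4 F335467) (iv1 D105431) (iv4 F161828) (iv3 F267776) F338165
theorem F338167 : act 1 n170265 = n145935 := d15_1 (iv0 F338165) (iv7 D145935) (iv2 F204826)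
theorem F338168 : act 1 n145935 = n144844 := d15_1 F338167 F317477 (iv2 F267775)
theorem F338169 : act 1 n117436 = n144808 := d15_1 (iv0 F338166) F227706 (iv2 F227701)
theorem F338170 : act 6 n120368 = n144808 := d21_3 (iv5 D57476) (iv1 F90256) (iv5 F191739) (iv1 F338169) (iv6 D117436) F328033 (iv1 F328029) (iv5 D117497) F312495 (iv1 F94773)
theorem F338171 : act 2 n144808 = n122847 := d3_1 F338170 (iv6 D122847) F191742
theorem F338172 : act 3 n144808 = n124673 := d7_1 F338170 (iv6 D124673) F191741
theorem F338173 : act 3 n127901 = n145743 := d5_3 D144808 F338172 (iv4 F205817) F228863 (iv3 F188585)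
theorem F338174 : act 6 n145743 = n98771 := d7_2 D127901 F338173 F296802
theorem F338175 : act 6 n160621 = n146162 := d3_2 F338174 F296801 (iv2 F229428)
theorem E97692 : n147754 = n147630 := (c21_11 F313890 (iv1 F313771) F228864 F338174 (iv1 D98771) F72856 (iv5 D35406) D35404 D77550 (iv6 F334579) D147754)
theorem F338176 : act 1 n147630 = n69228 := (sb E97692 (iv0 D147754))
theorem E97693 : n175866 = n147388 := ((c21_3 (iv5 F130687) (iv1 F184927) (iv5 F334591) (iv6 D175866) (iv1 F312329) F321687 (iv5 F307978) F132282 F298387 (iv6 F338174) (iv1 D145743))).symm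
theorem F338177 : act 6 n147388 = n83938 := (sb E97693 (iv6 D175866))
theorem E97694 : n178408 = n147388 := (c21_5 F318586 F317191 (iv5 F132184) D180564 (iv1 F281042) F338177 (iv5 D83938) (iv1 D38661) D38664 D83950 (iv1 F320198))
theorem F338178 : act 0 n147388 = n84880 := (sb E97694 (iv1 D178408))
theorem F338179 : act 1 n147388 = n180564 := (sb E97694 F281042)
theorem F338180 : act 4 n140771 = n117881 := d19_6 F338178 (iv5 F313773) (iv4 D146125) (iv3 F334904) (iv1 D140770) D140771 F184853 F85693 (iv5 D54057) F312974 (iv3 F53025) F316931 (iv5 F316938) (iv4 F186884) F335022 (iv1 F237042) F235856 F162526 D147388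
theorem F338181 : act 0 n119853 = n147443 := d20_4 (iv4 F308865) F183299 (iv4 F233423) F324822 F231229 F310860 F308720 F162526 D147388 F338178
theorem E97695 : n147792 = n66064 := (c5_5 F338180 F184853 F315211 F337745 D147792 (iv3 F223862))
theorem E97696 : n140800 = n69238 := ((D140800).symm.trans (sb E97695 (iv4 D147792)))
theorem E97697 : n166179 = n140801 := (((D140801).symm.trans (sb E97695 F337746))).symm
theorem E97698 : n147790 = n147053 := (((iv2 F231535)).symm.trans (sb E97696 F330017))
theorem F338182 : act 4 n69238 = n66064 := (sb E97696 (iv4 D140800))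
theorem F338183 : act 4 n140801 = n79789 := (sb E97697 (iv4 D166179))
theorem E97699 : n166178 = n68953 := ((((iv1 D147053)).symm.trans (sb E97698 F337741))).symm
theorem F338184 : act 2 n147053 = n69238 := (sb E97698 F231535)
theorem F338185 : act 3 n147053 = n166303 := (sb E97698 F337743)
theorem F338186 : act 5 n147053 = n121700 := (sb E97698 F337744)
theorem F338187 : act 7 n147053 = n69237 := (sb E97698 (iv7 D147790))
theorem E97701 : n147052 = n79789 := ((D147052).symm.trans (sb E97699 (iv1 D166178)))
theorem F338188 : act 0 n79789 = n69236 := (sb E97701 (iv1 F230535))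
theorem F338189 : act 1 n79789 = n68953 := (sb E97701 (iv0 D147052))
theorem E97702 : n148591 = n147960 := (c20_2 D69640 D148591 (iv4 F335048) (iv3 F324397) (iv1 D140799) (iv3 F223862) F338180 F233181 (iv4 F332527) F183671 F247753)
theorem F338190 : act 1 n147960 = n69640 := (sb E97702 (iv0 D148591))
theorem F338191 : act 4 n149300 = n105832 := d20_6 (iv4 F316527) D56256 F313204 (iv3 D73535) (iv1 F106477) D149300 F334900 F338180 F184853 F85693
theorem F338192 : act 1 n149300 = n105831 := d18_8 (iv1 D146107) D146108 F229344 F184847 D117881 (iv4 F338180) (iv0 F334900) (iv4 F338191) (iv5 F243257)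
theorem F338193 : act 4 n117669 = n105831 := d20_6 (iv4 F104777) (iv1 D14761) (iv4 F20719) (iv3 F41610) D54205 D117669 (iv1 F338192) F338191 F162529 (iv1 F77161)
theorem F338194 : act 5 n149300 = n177072 := d21_2 F243257 (iv1 F338192) (iv6 D177072) F129533 D84408 (iv5 F338143) (iv1 D124505) D124506 F199148 (iv1 F317776)
theorem E97703 : n177072 = n117156 := (c6_1 F338194 (iv3 D117156) F313162 D149300)
theorem E97704 : n152373 = n146569 := ((((iv2 F229870)).symm.trans (sb E97703 F276495))).symm
theorem E97705 : n146404 = n105863 := (((iv4 F229726)).symm.trans (sb E97703 F276496))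
theorem F338195 : act 5 n117156 = n149300 := (sb E97703 (iv5 F338194))
theorem F338196 : act 6 n117156 = n84394 := (sb E97703 (iv6 D177072))
theorem E97706 : n71886 = n68699 := ((((iv4 D146569)).symm.trans (sb E97704 F239570))).symm
theorem F338197 : act 6 n146569 = n71885 := (sb E97704 (iv6 D152373))
theorem F338198 : act 0 n105863 = n68702 := (sb E97705 F229728)
theorem F338199 : act 1 n105863 = n68645 := (sb E97705 (iv0 D146404))
theorem F338200 : act 4 n105863 = n117156 := (sb E97705 F229726)
theorem F338201 : act 7 n105863 = n68700 := (sb E97705 (iv7 F229727))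
theorem F338202 : act 2 n68699 = n105863 := (sb E97706 (iv2 F162581))
theorem E97709 : n146568 = n33221 := ((D146568).symm.trans (sb E97706 F108379))
theorem E97710 : n146570 = n118859 := ((D146570).symm.trans (sb E97706 (iv5 F186925)))
theorem E97711 : n146571 = n33219 := ((D146571).symm.trans (sb E97706 (iv6 D71886)))
theorem E97712 : n152376 = n146405 := ((((iv7 F229731)).symm.trans (sb E97706 D152376))).symm
theorem F338203 : act 3 n33221 = n68699 := (sb E97709 (iv3 D146568))
theorem F338204 : act 5 n118859 = n68699 := (sb E97710 (iv5 D146570))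
theorem F338205 : act 6 n33219 = n68699 := (sb E97711 (iv6 D146571))
theorem F338206 : act 3 n146405 = n71893 := (sb E97712 F239571)
theorem F338207 : act 6 n105820 = n149300 := d12_0 (iv5 F338195) F338196 (iv5 D84394) (iv6 F301070) (iv5 F318803)
theorem F338208 : act 5 n117414 = n179559 := d17_1 F319861 (iv1 D179559) (iv5 F162530) (iv4 F338191) (iv5 F338195) (iv0 F243197) F114765 F243192 (iv4 F319863)
theorem F338209 : act 5 n105769 = n141443 := d21_0 (iv1 F224477) D141498 F334929 F184242 F338207 (iv5 F338195) (iv1 F332537) (iv5 F332535) F243391 (iv1 F243385)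
theorem F338210 : act 3 n141443 = n127503 := d6_1 F338209 (iv5 D127503) (iv3 F243387)
theorem F338211 : act 4 n141443 = n179013 := d17_4 (iv1 F243380) (iv5 D146229) (iv1 F243385) F338209 (iv5 D179013) (iv0 F314744) D138362 (iv0 F330639) (iv4 D146287)
theorem F338212 : act 4 n144860 = n105769 := d17_4 (iv1 F334926) (iv5 D150406) (iv1 F205924) (iv5 F227796) F338209 F224478 F334916 F334912 (iv4 F311493)
theorem F338213 : act 6 n141443 = n105977 := d21_3 (iv5 D146229) (iv1 F243385) F338209 F191167 D149321 (iv5 F307088) F232335 (iv5 F312713) (iv6 F315208) (iv1 F243380)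
theorem E97713 : n179009 = n66378 := (c9_7 (iv5 F338209) (iv4 F338212) F227796 F307770 (iv5 D85401) D85400 D179009 F102275 F319542 (iv4 F321732) (iv5 F51993) (iv4 F52317) (iv5 F305193) D85405 D179013 (iv4 F338211))
theorem E97714 : n141488 = n85400 := ((D141488).symm.trans (sb E97713 (iv5 D179009)))
theorem E97715 : n179008 = n68886 := ((D179008).symm.trans (sb E97714 F224552))
theorem F338214 : act 5 n85400 = n66378 := (sb E97714 (iv5 D141488))
theorem F338215 : act 3 n68886 = n85400 := (sb E97715 (iv3 D179008))
theorem F338216 : act 2 n141489 = n179013 := d16_9 (iv4 F338211) (iv5 F338209) (iv4 F338212) F227796 F307770 (iv5 D85401) D85400 F338214 D141489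
theorem F338217 : act 5 n124930 = n141489 := d2_0 F338216 (iv5 D179013) (iv2 F232994)
theorem F338218 : act 7 n179013 = n141439 := d4_2 D141489 F338216 F224470
theorem F338219 : act 5 n124935 = n141439 := d16_7 F224554 F318000 F323336 (iv5 F107332) (iv4 F108069) (iv5 F305704) D124935 (iv7 F338218) (iv2 F338216)
theorem F338220 : act 0 n141439 = n156726 := d17_2 (iv1 F314746) F338219 (iv5 D156726) (iv4 D74535) F311109 (iv0 F309282) (iv5 D65001) F53603 D74424
theorem F338221 : act 1 n141439 = n156719 := d17_6 (iv1 F232409) F307107 F232313 (iv5 F305704) D124935 F338219 (iv5 D156719) (iv0 F314643) (iv4 D71347)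
theorem F338222 : act 3 n146658 = n156719 := d19_19 (iv1 F338221) (iv5 F338219) (iv4 D124935) F312355 (iv1 D62688) F310012 (iv4 F130174) (iv3 F312236) F297762 (iv5 D45219) F33969 F28422 (iv1 F296904) (iv5 D17132) F28964 D16797 (iv1 F130871) (iv5 F104921) (iv4 F229953)
theorem F338223 : act 4 n156719 = n142628 := d5_2 (iv4 F229953) F338222 F225503 F102716 (iv3 F104920)
theorem F338224 : act 5 n156718 = n146658 := d6_0 F338222 (iv5 D156719) D156718
theorem E97716 : n138652 = n137214 := ((c13_4 (iv7 F246517) F338224 (iv7 D146658) (iv5 F329017))).symm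
theorem F338225 : act 0 n137214 = n110952 := (sb E97716 F221817)
theorem F338226 : act 1 n137214 = n110947 := (sb E97716 (iv0 F222202))
theorem F338227 : act 3 n137214 = n65106 := (sb E97716 (iv3 D138652))
theorem F338228 : act 4 n137214 = n139020 := (sb E97716 (iv4 F222201))
theorem F338229 : act 7 n137214 = n156718 := (sb E97716 (iv7 F246517))
theorem F338230 : act 5 n164562 = n156795 := d16_1 D164562 F246725 F338224 F229953 F104921 (iv4 F108460) (iv5 F239777) (iv7 D152590) (iv2 F120220)
theorem F338231 : act 5 n117637 = n111169 := d17_5 (iv1 F259442) F227910 F233068 D150305 F236544 (iv0 F246518) F338224 F259425 (iv4 F259427)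
theorem E97717 : n178894 = n156486 := (c18_4 (iv1 F259418) F259419 (iv1 F236559) (iv4 F278765) F246021 F111874 F172002 (iv4 F172421) (iv0 F246518) F338224)
theorem F338232 : act 0 n156486 = n146659 := (sb E97717 (iv1 F278766))
theorem F338233 : act 1 n156486 = n85300 := (sb E97717 (iv0 D178894))
theorem F338234 : act 2 n156486 = n117433 := (sb E97717 (iv2 F278767))
theorem F338235 : act 4 n156486 = n144929 := (sb E97717 F278765)
theorem F338236 : act 6 n156486 = n117274 := (sb E97717 (iv6 F278768))
theorem E97718 : n159008 = n110826 := (((F246022).symm.trans (sb E97717 (iv7 F278769)))).symm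
theorem F338237 : act 0 n110826 = n164565 := (sb E97718 (iv1 F259411))
theorem F338238 : act 1 n110826 = n75937 := (sb E97718 (iv0 D159008))
theorem F338239 : act 2 n110826 = n178895 := (sb E97718 F278773)
theorem F338240 : act 5 n178895 = n110825 := d2_2 D110826 F338239 (iv2 D110825)
theorem F338241 : act 4 n121297 = n107036 := d16_4 (iv4 F278772) F227910 (iv4 F128243) (iv5 F322707) F164974 (iv4 F111874) (iv5 F246021) F246022 F338239
theorem E97719 : n156689 = n137243 := (c13_3 (iv7 F278771) F338240 (iv7 F246454) (iv5 F329163))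
theorem F338242 : act 0 n137243 = n110824 := (sb E97719 (iv1 F246457))
theorem F338243 : act 1 n137243 = n110823 := (sb E97719 F246455)
theorem F338244 : act 2 n137243 = n74513 := (sb E97719 (iv2 D156689))
theorem F338245 : act 3 n137243 = n138605 := (sb E97719 F246452)
theorem F338246 : act 4 n137243 = n110944 := (sb E97719 F246453)
theorem F338247 : act 7 n137243 = n110825 := (sb E97719 F246454)
theorem F338248 : act 5 n156688 = n120605 := d17_3 (iv1 F278770) F338240 (iv1 F246456) (iv4 D120605) (iv5 D55543) (iv0 F130873) (iv5 F120256) F120259 D146659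
theorem F338249 : act 7 n158982 = n156688 := d13_0 F338248 F192180 D158982
theorem F338250 : act 2 n158982 = n156687 := d15_3 (iv0 D156687) D156688 (iv7 F338249)
theorem F338251 : act 5 n156687 = n152593 := d2_2 D158982 F338250 F239780
theorem F338252 : act 6 n110887 = n109760 := d14_3 F338247 F171647 (iv7 F171801) F169758 D137243
theorem E97720 : n137249 = n51138 := (c3_3 F338252 F169757 D137249 F171798)
theorem E97721 : n136563 = n110904 := ((((iv5 F171813)).symm.trans (sb E97720 F220387))).symm
theorem E97722 : n110905 = n64505 := ((D110905).symm.trans (sb E97720 (iv6 D137249)))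
theorem F338253 : act 2 n110904 = n136368 := (sb E97721 F219654)
theorem F338254 : act 4 n110904 = n129842 := (sb E97721 F219655)
theorem F338255 : act 6 n110904 = n64198 := (sb E97721 (iv6 D136563))
theorem E97723 : n137247 = n51143 := (((iv3 F220386)).symm.trans (sb E97722 F171814))
theorem E97724 : n137248 = n51242 := ((D137248).symm.trans (sb E97722 F171815))
theorem F338256 : act 6 n64505 = n51138 := (sb E97722 (iv6 D110905))
theorem E97725 : n156690 = n136024 := ((((iv7 F218870)).symm.trans (sb E97722 (iv7 F246460)))).symm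
theorem F338257 : act 3 n51143 = n64505 := (sb E97723 F220386)
theorem E97726 : n110915 = n64504 := ((D110915).symm.trans (sb E97723 (iv5 D137247)))
theorem F338258 : act 4 n51242 = n64505 := (sb E97724 (iv4 D137248))
theorem F338259 : act 3 n136024 = n74514 := (sb E97725 F246458)
theorem F338260 : act 4 n136024 = n110962 := (sb E97725 F246459)
theorem F338261 : act 6 n136024 = n74513 := (sb E97725 (iv6 D156690))
theorem E97727 : n143884 = n137244 := (((D137244).symm.trans (sb E97726 (iv1 F226520)))).symm
theorem E97728 : n137246 = n66221 := ((D137246).symm.trans (sb E97726 F171831))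
theorem F338262 : act 5 n64504 = n51143 := (sb E97726 (iv5 D110915))
theorem E97729 : n156691 = n136023 := ((((iv7 F218868)).symm.trans (sb E97726 (iv7 F246462)))).symm
theorem F338263 : act 0 n137244 = n138607 := (sb E97727 F226519)
theorem F338264 : act 2 n137244 = n141172 := (sb E97727 F226517)
theorem F338265 : act 5 n137244 = n67398 := (sb E97727 (iv5 D143884))
theorem F338266 : act 7 n137244 = n141173 := (sb E97727 F226518)
theorem F338267 : act 2 n66221 = n64504 := (sb E97728 (iv2 D137246))
theorem F338268 : act 0 n136023 = n141173 := (sb E97729 F246463)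
theorem F338269 : act 1 n136023 = n141172 := (sb E97729 (iv0 F246464))
theorem F338270 : act 2 n136023 = n138607 := (sb E97729 F246461)
theorem F338271 : act 5 n136023 = n74514 := (sb E97729 (iv5 D156691))
theorem F338272 : act 3 n109760 = n141168 := d7_1 F338252 (iv6 D141168) (iv3 F171799)
theorem F338273 : act 4 n109760 = n111052 := d10_1 F338252 (iv6 D111052) (iv4 F171800)
theorem F338274 : act 5 n136368 = n110887 := d12_5 F338252 (iv5 D109760) F79997 D64112 D136368
theorem F338275 : act 3 n111741 = n136368 := d6_3 F338274 F171799 (iv5 F173436)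
theorem F338276 : act 7 n110899 = n136368 := d13_0 F338274 F171801 D110899
theorem F338277 : act 5 n136949 = n129456 := d16_3 (iv4 F48822) (iv5 F100312) D136949 (iv4 F219487) F338274 F171800 F80817 (iv7 F80826) F80824
theorem F338278 : act 0 n110900 = n136368 := d17_2 D65451 F222654 F338274 F171800 F80817 F80829 (iv5 F177271) (iv0 D68118) F50023
theorem F338279 : act 1 n110901 = n136368 := d17_6 (iv1 F225705) F225704 (iv1 D107325) D107327 F180529 (iv5 F180528) F338274 (iv0 D110887) D110890
theorem F338280 : act 6 n135933 = n110891 := d21_5 (iv5 D63906) (iv1 D30141) D30143 D63915 D135933 (iv5 D110891) D110887 (iv5 F338274) (iv6 D136368) F99797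
theorem F338281 : act 6 n150131 = n110901 := d21_9 (iv5 D51137) D51134 D110891 (iv6 F338280) (iv1 F218655) (iv6 F219799) F314225 (iv1 F232519) (iv5 F236300) (iv1 D110901)
theorem F338282 : act 3 n110901 = n184063 := d7_1 F338281 (iv6 D184063) (iv3 F236299)
theorem F338283 : act 7 n110901 = n184002 := d14_2 D150131 F338281 (iv6 D184002) (iv7 D87773) (iv6 F107127)
theorem F338284 : act 5 n184002 = n139459 := d13_1 F338283 (iv7 F222652) (iv5 F180528)
theorem F338285 : act 2 n184002 = n110900 := d15_3 (iv0 D110900) D110901 F338283
theorem F338286 : act 6 n110900 = n119218 := d3_2 D184002 F338285 F335363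
theorem F338287 : act 3 n119211 = n110900 := d7_3 F338286 (iv3 D119218) (iv6 F187580)
theorem F338288 : act 5 n93320 = n139462 := d12_3 F338286 F335364 (iv6 F143898) (iv6 D139462) F222654
theorem E97730 : n136668 = n87763 := (c21_11 (iv5 D87763) (iv1 F134736) (iv5 F335364) (iv6 F338286) F338278 (iv6 D136368) (iv5 D64112) (iv1 F92799) F92797 D64234 D136668)
theorem E97731 : n183976 = n64234 := ((D183976).symm.trans (sb E97730 (iv0 D136668)))
theorem F338289 : act 0 n64234 = n87763 := (sb E97731 (iv1 D183976))
theorem E97732 : n136669 = n87768 := ((D136669).symm.trans (sb E97731 F285858))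
theorem F338290 : act 0 n87768 = n64234 := (sb E97732 (iv1 D136669))
theorem F338291 : act 0 n134160 = n101088 := d18_2 F338290 (iv4 F216191) (iv4 D101088) (iv5 D47091) (iv4 F143903) (iv0 D46488) F34771 D40896 D87768
theorem E97733 : n139561 = n139462 := (c21_8 D87768 F338290 D136670 (iv6 F335571) F335567 F335548 F335546 D139561 (iv5 F338288) F143898 (iv1 F134734))
theorem F338292 : act 1 n139462 = n65488 := (sb E97733 (iv0 D139561))
theorem F338293 : act 7 n183975 = n135930 := d15_2 (iv0 F338290) F285857 F218648
theorem F338294 : act 2 n136671 = n183975 := d4_3 F338293 F218648 D136671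
theorem F338295 : act 6 n136680 = n183975 := d14_5 F338293 (iv6 D135930) (iv7 F99407) D64236 D136680
theorem F338296 : act 2 n93321 = n139462 := d15_3 F338292 (iv0 F329512) (iv7 F143905)
theorem F338297 : act 1 n101058 = n139462 := d15_0 F338292 (iv7 F222527) F328893
theorem F338298 : act 0 n89472 = n101106 := d17_0 (iv5 D101106) (iv1 F155709) F155706 (iv4 F143897) F338288 F338292 (iv5 F335546) (iv0 D103332) F293855
theorem F338299 : act 0 n183990 = n150144 := d21_7 F335546 (iv1 F338292) (iv5 F338288) F143898 (iv1 F134734) D87769 D183990 (iv5 D150144) (iv6 F335689) D103332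
theorem F338300 : act 7 n139462 = n101036 := d15_2 D101058 F338297 F155639
theorem E97734 : n135133 = n95411 := (c21_8 F338288 (iv1 F338297) (iv5 F284604) (iv6 D183003) (iv1 F134132) (iv6 F294774) F337817 D135133 (iv5 D95411) (iv6 F295346) (iv1 F143900))
theorem F338301 : act 0 n95411 = n181978 := (sb E97734 F337809)
theorem F338302 : act 1 n95411 = n63509 := (sb E97734 (iv0 D135133))
theorem E97735 : n135134 = n95415 := (c15_2 F338302 D135134 (iv7 F295090) F295088)
theorem F338303 : act 0 n95415 = n63509 := (sb E97735 (iv1 D135134))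
theorem F338304 : act 1 n95415 = n181978 := (sb E97735 F337810)
theorem E97736 : n129931 = n89175 := ((c18_6 D87188 (iv4 F295455) (iv1 D40610) (iv4 F31386) D41655 D89175 (iv0 D129931) (iv4 F323624) F338302 (iv5 F337817))).symm
theorem F338305 : act 0 n89175 = n132735 := (sb E97736 (iv1 F213101))
theorem F338306 : act 1 n89175 = n61024 := (sb E97736 (iv0 D129931))
theorem E97737 : n129958 = n62397 := (c20_5 F47253 (iv1 F23374) D28933 D61043 D129958 (iv3 F213553) F213554 (iv1 F338302) F323624 (iv3 D61024) (iv1 F47257))
theorem E97738 : n132979 = n132741 := ((D132979).symm.trans (sb E97737 (iv1 F213112)))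
theorem E97739 : n132980 = n61043 := ((D132980).symm.trans (sb E97737 (iv0 D129958)))
theorem E97740 : n129959 = n62412 := (((iv1 F213114)).symm.trans (sb E97738 (iv1 F213612)))
theorem F338307 : act 1 n132741 = n62397 := (sb E97738 (iv0 D132979))
theorem F338308 : act 0 n61043 = n62397 := (sb E97739 (iv1 D132980))
theorem F338309 : act 0 n62412 = n61043 := (sb E97740 (iv1 D129959))
theorem F338310 : act 1 n62412 = n132741 := (sb E97740 F213114)
theorem E97741 : n133023 = n120940 := ((c21_6 (iv5 F334597) F337731 F321714 F322486 (iv1 F176499) (iv6 F334351) F213669 F338309 F321983 (iv6 F299594) D79786)).symm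
theorem F338311 : act 5 n120940 = n62412 := (sb E97741 F213669)
theorem F338312 : act 7 n120940 = n62411 := (sb E97741 (iv7 D133023))
theorem F338313 : act 7 n132993 = n105181 := d8_2 F338312 (iv3 F213645) F334349
theorem F338314 : act 7 n133022 = n105188 := d11_2 F338312 D133022 (iv4 F334350)
theorem F338315 : act 7 n133008 = n113292 := d14_2 F338312 (iv6 F213663) (iv6 D113292) (iv7 F161097) (iv6 F334351)
theorem E97742 : n132981 = n120939 := (c15_4 (iv0 D120939) D120940 F338312 (iv2 F213614))
theorem F338316 : act 2 n120939 = n62411 := (sb E97742 F213614)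
theorem F338317 : act 5 n120939 = n62397 := (sb E97742 (iv5 D132981))
theorem E97743 : n180346 = n132952 := ((c19_3 D120939 F338317 (iv4 F213577) F280659 F132095 (iv5 D58711) (iv4 D27914) (iv3 D13311) (iv1 D6313) (iv5 D2646) F2317 F1414 F1416 (iv5 F1377) (iv4 F2230) (iv3 F4101) D6106 D12880 D26919 D55780)).symm
theorem F338318 : act 3 n132952 = n86135 := (sb E97743 F280659)
theorem F338319 : act 5 n132952 = n86134 := (sb E97743 (iv5 D180346))
theorem F338320 : act 7 n132952 = n157807 := (sb E97743 F280660)
theorem E97744 : n177555 = n36428 := (c21_6 F338317 (iv1 F338307) F324232 (iv6 F302615) (iv1 F129747) D177555 F254093 (iv1 D35764) (iv5 F43494) F297047 D120939)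
theorem E97745 : n84580 = n79983 := (((D79983).symm.trans (sb E97744 (iv6 D177555)))).symm
theorem E97746 : n166644 = n39066 := ((D166644).symm.trans (sb E97745 (iv1 D84580)))
theorem E97747 : n166645 = n78398 := ((D166645).symm.trans (sb E97745 F129747))
theorem E97753 : n163038 = n84579 := (((D84579).symm.trans (sb E97746 (iv1 F329366)))).symm
theorem F338321 : act 1 n39066 = n79983 := (sb E97746 (iv0 D166644))
theorem F338322 : act 0 n78398 = n79983 := (sb E97747 (iv1 D166645))
theorem F338323 : act 2 n84579 = n78397 := (sb E97753 F257392)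
theorem E97754 : n177550 = n126199 := ((D177550).symm.trans (sb E97753 F329367))
theorem F338324 : act 7 n84579 = n78396 := (sb E97753 (iv7 D163038))
theorem F338325 : act 6 n126199 = n84579 := (sb E97754 (iv6 D177550))
theorem E97755 : n177548 = n126201 := (c10_2 F338325 D177548 (iv6 D126201) D126199)
theorem F338326 : act 4 n126201 = n84579 := (sb E97755 (iv4 D177548))
theorem F338327 : act 7 n163035 = n126201 := d11_0 F338326 F338324 D163035
theorem F338328 : act 1 n126209 = n163035 := d15_1 D126209 F338327 F202954
theorem F338329 : act 7 n163034 = n177547 := d8_2 F338324 D163034 (iv3 D177547)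
theorem F338330 : act 7 n163036 = n177549 := d13_2 F338324 D163036 (iv5 D177549)
theorem F338331 : act 2 n163041 = n177549 := d2_3 (iv5 D177549) F338323 D163041
theorem F338332 : act 7 n166646 = n163041 := d4_0 F338331 (iv7 F338330) F329760
theorem F338333 : act 4 n105210 = n166640 := d20_2 F172662 F172660 F262265 (iv1 F338321) (iv3 D39066) F41956 (iv1 F21402) (iv4 F28253) (iv3 F323123) D58982
theorem F338334 : act 2 n166640 = n125981 := d1_1 F338333 F202660 F172668
theorem F338335 : act 7 n166640 = n105207 := d11_2 D105210 F338333 F161144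
theorem F338336 : act 1 n166640 = n125957 := d18_6 (iv1 D48809) (iv4 F76877) D105565 (iv4 F162149) F162151 F338333 (iv4 D125957) (iv0 D58975) F76879
theorem F338337 : act 0 n166640 = n125959 := d20_1 F338333 (iv4 D125959) F169725 F169727 F92907 (iv4 F92914) D125544 F201938 F172659 F172660
theorem F338338 : act 2 n157807 = n133002 := d4_1 F338320 (iv7 D133002) (iv2 F213576)
theorem E97756 : n165801 = n132978 := (c11_2 F338320 (iv4 F261211) F213609 (iv4 F213577))
theorem F338339 : act 3 n132978 = n181983 := (sb E97756 (iv3 F295102))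
theorem F338340 : act 4 n132978 = n157807 := (sb E97756 F261211)
theorem F338341 : act 5 n132978 = n79631 := (sb E97756 (iv5 D165801))
theorem F338342 : act 6 n157807 = n132951 := d14_1 F338320 (iv7 D132951) (iv6 D62386) D62387 D132952
theorem F338343 : act 1 n133000 = n157807 := d15_1 D133000 (iv7 F338320) F213576
theorem E97757 : n165805 = n133022 := ((c16_3 F97293 D62411 D133022 (iv5 F323649) F207016 (iv5 F322746) (iv4 F122335) (iv5 F248694) (iv7 F338320) F213576)).symm
theorem F338344 : act 1 n133022 = n165951 := (sb E97757 (iv0 F261375))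
theorem F338345 : act 3 n133022 = n105192 := (sb E97757 (iv3 F326777))
theorem E97758 : n79632 = n62411 := ((((iv4 D133022)).symm.trans (sb E97757 (iv4 D165805)))).symm
theorem F338346 : act 5 n133022 = n128747 := (sb E97757 (iv5 F323649))
theorem E97759 : n133020 = n36264 := ((D133020).symm.trans (sb E97758 (iv1 D79632)))
theorem E97760 : n133021 = n120941 := ((D133021).symm.trans (sb E97758 F192863))
theorem E97761 : n165803 = n120939 := ((((iv2 F338316)).symm.trans (sb E97758 (iv2 F261212)))).symm
theorem E97765 : n165798 = n120940 := ((((iv7 F338312)).symm.trans (sb E97758 F261210))).symm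
theorem F338347 : act 1 n36264 = n62411 := (sb E97759 (iv0 D133020))
theorem F338348 : act 0 n120941 = n62411 := (sb E97760 (iv1 D133021))
theorem F338349 : act 7 n120939 = n79631 := (sb E97761 (iv7 D165803))
theorem F338350 : act 2 n120940 = n79631 := (sb E97765 (iv2 D165798))
theorem F338351 : act 2 n165800 = n105188 := d1_3 (iv4 F334350) F338350 D165800
theorem F338352 : act 2 n165802 = n105179 := d3_3 (iv6 F334351) F338350 D165802
theorem F338353 : act 4 n105187 = n165802 := d1_0 F338352 F161096 D105187
theorem F338354 : act 7 n113290 = n165802 := d4_0 F338352 F161097 D113290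
theorem E97766 : n166349 = n165802 := ((c15_4 (iv0 D166349) (iv0 F320721) (iv7 F161097) (iv2 F338352))).symm
theorem F338355 : act 1 n165802 = n79875 := (sb E97766 (iv0 D166349))
theorem F338356 : act 1 n113289 = n165802 := d15_0 F338355 (iv7 F319443) F176496
theorem E97767 : n126206 = n113303 := ((c17_2 (iv1 F161113) D113303 (iv1 D126206) (iv5 D59165) D59164 D126203 (iv0 F202963) F176498 F338356 (iv4 F338353))).symm
theorem F338357 : act 0 n113303 = n59165 := (sb E97767 (iv1 D126206))
theorem F338358 : act 1 n113303 = n113390 := (sb E97767 F202968)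
theorem E97768 : n132978 = n132739 := ((c21_8 (iv5 F176498) F202963 (iv5 D126203) (iv6 F329021) (iv1 D78397) F299710 (iv5 F322724) D132739 F338341 D165802 (iv1 F338356))).symm
theorem E97769 : n129960 = n62410 := (((iv1 F213109)).symm.trans (sb E97768 (iv1 F213610)))
theorem F338359 : act 2 n132739 = n62412 := (sb E97768 F213608)
theorem F338360 : act 3 n132739 = n181983 := (sb E97768 F338339)
theorem F338361 : act 4 n132739 = n157807 := (sb E97768 F338340)
theorem F338362 : act 5 n132739 = n79631 := (sb E97768 F338341)
theorem F338363 : act 6 n132739 = n62396 := (sb E97768 (iv6 D132978))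
theorem F338364 : act 7 n132739 = n62397 := (sb E97768 F213609)
theorem E97771 : n132740 = n29511 := ((((iv1 D62410)).symm.trans (sb E97769 (iv1 F213113)))).symm
theorem F338365 : act 1 n62410 = n132739 := (sb E97769 F213109)
theorem E97772 : n133015 = n61043 := (((iv2 F213668)).symm.trans (sb E97769 (iv2 D129960)))
theorem E97773 : n133016 = n61157 := ((D133016).symm.trans (sb E97769 F333901))
theorem E97774 : n133018 = n121798 := ((D133018).symm.trans (sb E97769 F333905))
theorem E97775 : n133019 = n61140 := ((D133019).symm.trans (sb E97769 (iv6 F337768)))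
theorem E97776 : n133010 = n132741 := ((F213667).symm.trans (sb E97769 (iv7 F213111)))
theorem F338366 : act 0 n29511 = n62296 := (sb E97771 (iv1 D132740))
theorem F338367 : act 2 n61043 = n62410 := (sb E97772 F213668)
theorem F338368 : act 3 n61157 = n62410 := (sb E97773 (iv3 D133016))
theorem F338369 : act 5 n121798 = n62410 := (sb E97774 (iv5 D133018))
theorem F338370 : act 6 n61140 = n62410 := (sb E97775 (iv6 D133019))
theorem F338371 : act 7 n132741 = n62410 := (sb E97776 (iv7 F213667))
theorem F338372 : act 6 n133017 = n130269 := d10_2 F338370 D133017 (iv4 D130269)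
theorem E97781 : n165725 = n132371 := ((c21_11 (iv5 D165725) (iv1 F194396) F338369 (iv6 F338370) (iv1 F337769) F337771 F334282 (iv1 D78503) F323647 (iv6 F96790) D132371)).symm
theorem F338373 : act 3 n132371 = n126641 := (sb E97781 (iv3 F328564))
theorem F338374 : act 4 n132371 = n96347 := (sb E97781 F261082)
theorem F338375 : act 5 n132371 = n79596 := (sb E97781 (iv5 D165725))
theorem F338376 : act 7 n129226 = n132371 := d13_0 F338375 D165727 F337767
theorem F338377 : act 5 n165729 = n129956 := d16_1 D165729 F208335 F321983 F89011 D96347 (iv4 F338374) F338375 D165727 F261083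
theorem F338378 : act 5 n132999 = n96345 := d17_1 D132999 (iv1 D96345) D96347 (iv4 F338374) F338375 (iv0 D79596) (iv5 F322724) (iv0 F338366) (iv4 F97293)
theorem F338379 : act 5 n163533 = n163046 := d21_6 (iv5 F338375) (iv1 F212376) F323648 (iv6 F302532) (iv1 F257797) D163533 (iv1 D163046) (iv5 D78399) F299710 D79596
theorem F338380 : act 6 n132371 = n126639 := d21_3 F322724 D79596 (iv5 F338375) F204042 F325897 (iv5 F212097) (iv1 F97284) (iv5 D29510) D29511 F338366
theorem F338381 : act 6 n113427 = n96347 := d10_2 F338380 (iv4 F203740) (iv4 F338374)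
theorem F338382 : act 5 n126640 = n165726 := d12_3 F338380 (iv5 D126639) D126640 (iv6 D165726) (iv5 F338375)
theorem F338383 : act 5 n129803 = n146670 := d21_0 F310641 (iv5 F333923) F207428 (iv1 F325312) (iv6 F338380) F338375 (iv1 F194396) F338369 (iv6 F338370) (iv1 F337769)
theorem E97782 : n132974 = n132652 := (c21_6 F323648 (iv1 F192862) F338311 (iv6 F213523) (iv1 F213525) D132974 (iv5 F322390) F321554 D126639 (iv6 F338380) (iv1 F212376))
theorem E97783 : n62394 = n62247 := ((((iv6 D132652)).symm.trans (sb E97782 (iv6 D132974)))).symm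
theorem E97784 : n132648 = n29506 := ((D132648).symm.trans (sb E97783 (iv1 D62394)))
theorem E97785 : n132915 = n132649 := (((D132649).symm.trans (sb E97783 F213525))).symm
theorem E97791 : n129797 = n62393 := (((D62393).symm.trans (sb E97784 (iv1 F212936)))).symm
theorem F338384 : act 1 n29506 = n62247 := (sb E97784 (iv0 D132648))
theorem F338385 : act 2 n132649 = n62396 := (sb E97785 F213522)
theorem F338386 : act 6 n132649 = n62412 := (sb E97785 F213523)
theorem F338387 : act 7 n132649 = n62374 := (sb E97785 (iv7 D132915))
theorem F338388 : act 0 n62393 = n132649 := (sb E97791 (iv1 F212940))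
theorem F338389 : act 2 n62393 = n60961 := (sb E97791 (iv2 D129797))
theorem E97792 : n132966 = n61140 := ((D132966).symm.trans (sb E97791 F337774))
theorem E97793 : n132969 = n61157 := ((D132969).symm.trans (sb E97791 F333903))
theorem F338390 : act 7 n62393 = n132650 := (sb E97791 (iv7 F212938))
theorem F338391 : act 3 n61140 = n62393 := (sb E97792 (iv3 D132966))
theorem F338392 : act 6 n61157 = n62393 := (sb E97793 (iv6 D132969))
theorem F338393 : act 6 n132967 = n130321 := d10_2 F338392 D132967 (iv4 D130321)
theorem F338394 : act 6 n132968 = n147786 := d12_2 F338392 D132968 F337753 F328295 F333902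
theorem F338395 : act 2 n129798 = n132968 := d3_3 F338394 F337752 (iv6 F320514)
theorem F338396 : act 3 n130270 = n132968 := d7_3 F338394 (iv3 D147786) (iv6 F337775)
theorem F338397 : act 2 n132644 = n130270 := d0_5 F338396 (iv2 F338395) F208147 (iv2 F97031) (iv3 F212928)
theorem F338398 : act 2 n129792 = n132967 := d1_3 (iv4 D132967) F338389 (iv4 F208143)
theorem F338399 : act 2 n130321 = n132745 := d3_3 F213123 F338398 F338393
theorem E97794 : n123405 = n64913 := (c20_7 F46548 (iv1 F23350) D29455 D62247 (iv1 F338384) (iv3 F97273) (iv4 F337825) (iv1 F204289) F204285 F323272 (iv1 F47204))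
theorem E97795 : n138191 = n63505 := ((D138191).symm.trans (sb E97794 F337824))
theorem E97796 : n138192 = n72880 := ((D138192).symm.trans (sb E97794 F197788))
theorem E97797 : n138193 = n62380 := ((D138193).symm.trans (sb E97794 F337825))
theorem E97798 : n138194 = n57483 := ((D138194).symm.trans (sb E97794 (iv5 D123405)))
theorem E97799 : n138195 = n62378 := ((D138195).symm.trans (sb E97794 F337826))
theorem E97800 : n138196 = n69970 := ((D138196).symm.trans (sb E97794 F306410))
theorem F338400 : act 2 n63505 = n64913 := (sb E97795 (iv2 D138191))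
theorem E97801 : n118084 = n64914 := (((iv7 F337828)).symm.trans (sb E97795 (iv7 F221366)))
theorem F338401 : act 3 n72880 = n64913 := (sb E97796 (iv3 D138192))
theorem F338402 : act 4 n62380 = n64913 := (sb E97797 (iv4 D138193))
theorem F338403 : act 5 n57483 = n64913 := (sb E97798 (iv5 D138194))
theorem F338404 : act 6 n62378 = n64913 := (sb E97799 (iv6 D138195))
theorem F338405 : act 7 n69970 = n64913 := (sb E97800 (iv7 D138196))
theorem F338406 : act 2 n64914 = n69970 := (sb E97801 F185537)
theorem E97802 : n183389 = n138197 := (((D138197).symm.trans (sb E97801 (iv3 F285102)))).symm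
theorem E97803 : n138199 = n54399 := ((D138199).symm.trans (sb E97801 (iv5 D118084)))
theorem E97804 : n181978 = n138200 := (((D138200).symm.trans (sb E97801 (iv6 F283298)))).symm
theorem F338407 : act 7 n64914 = n63505 := (sb E97801 F337828)
theorem F338408 : act 2 n138197 = n87548 := (sb E97802 F285101)
theorem F338409 : act 5 n138197 = n87542 := (sb E97802 (iv5 D183389))
theorem F338410 : act 6 n138197 = n87543 := (sb E97802 F285103)
theorem F338411 : act 5 n54399 = n64914 := (sb E97803 (iv5 D138199))
theorem F338412 : act 0 n138200 = n95415 := (sb E97804 (iv1 F338304))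
theorem F338413 : act 1 n138200 = n95411 := (sb E97804 (iv0 F338301))
theorem F338414 : act 2 n138200 = n86919 := (sb E97804 F283296)
theorem F338415 : act 3 n138200 = n87543 := (sb E97804 F283297)
theorem F338416 : act 5 n138200 = n86917 := (sb E97804 (iv5 D181978))
theorem F338417 : act 7 n138200 = n135126 := (sb E97804 (iv7 F337815))
theorem F338418 : act 5 n162242 = n89175 := d17_7 (iv1 F338413) F338416 (iv1 F295250) (iv5 F328561) F328560 F323628 (iv0 F302616) F338306 (iv4 F323624)
theorem E97805 : n101091 = n20139 := (c17_9 D44562 D95411 (iv1 F338413) F338416 F295223 D93238 F143816 F295254 D101091 (iv4 F33435))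
theorem E97806 : n47092 = n42670 := (((D42670).symm.trans (sb E97805 (iv1 D101091)))).symm
theorem E97808 : n101039 = n91113 := (((D91113).symm.trans (sb E97806 F155698))).symm
theorem E97809 : n101085 = n91114 := (((D91114).symm.trans (sb E97806 (iv3 F155758)))).symm
theorem E97810 : n99429 = n91115 := (((D91115).symm.trans (sb E97806 (iv4 F153166)))).symm
theorem E97811 : n91206 = n91116 := (((D91116).symm.trans (sb E97806 (iv5 F295254)))).symm
theorem E97812 : n91117 = n22647 := ((D91117).symm.trans (sb E97806 (iv6 D47092)))
theorem E97813 : n91118 = n90371 := ((D91118).symm.trans (sb E97806 (iv7 F293737)))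
theorem F338419 : act 3 n91113 = n87987 := (sb E97808 F155644)
theorem F338420 : act 4 n91113 = n47418 := (sb E97808 F289989)
theorem F338421 : act 5 n91113 = n93241 := (sb E97808 (iv5 F295441))
theorem F338422 : act 6 n91113 = n47073 := (sb E97808 (iv6 D101039))
theorem F338423 : act 6 n91114 = n47089 := (sb E97809 (iv6 D101085))
theorem F338424 : act 2 n91115 = n47418 := (sb E97810 F289986)
theorem F338425 : act 6 n91115 = n46488 := (sb E97810 (iv6 D99429))
theorem F338426 : act 7 n91115 = n47417 := (sb E97810 F289987)
theorem F338427 : act 0 n91116 = n93238 := (sb E97811 (iv1 F143816))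
theorem F338428 : act 1 n91116 = n42700 := (sb E97811 (iv0 D91206))
theorem F338429 : act 2 n91116 = n93241 := (sb E97811 F295253)
theorem F338430 : act 6 n22647 = n42670 := (sb E97812 (iv6 D91117))
theorem F338431 : act 2 n90371 = n42671 := (sb E97813 F140158)
theorem F338432 : act 7 n90371 = n42670 := (sb E97813 (iv7 D91118))
theorem E97814 : n91113 = n90372 := (c15_4 F139078 F139073 F338432 D91113)
theorem F338433 : act 2 n90372 = n42670 := (sb E97814 (iv2 D91113))
theorem F338434 : act 3 n90372 = n87987 := (sb E97814 F338419)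
theorem F338435 : act 4 n90372 = n47418 := (sb E97814 F338420)
theorem F338436 : act 5 n90372 = n93241 := (sb E97814 F338421)
theorem F338437 : act 6 n90372 = n47073 := (sb E97814 F338422)
theorem F338438 : act 7 n90372 = n42671 := (sb E97814 (iv7 F140156))
theorem E97815 : n184503 = n91119 := ((c8_2 F338438 D91119 (iv7 D184503) (iv3 F338434))).symm
theorem F338439 : act 7 n91119 = n87987 := (sb E97815 (iv7 D184503))
theorem E97816 : n102109 = n91120 := ((c11_2 F338438 D91120 (iv7 F157039) (iv4 F338435))).symm
theorem F338440 : act 2 n91120 = n47417 := (sb E97816 (iv2 D102109))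
theorem F338441 : act 7 n91120 = n47418 := (sb E97816 (iv7 F157039))
theorem F338442 : act 7 n91121 = n93241 := d13_2 F338438 D91121 (iv5 F338436)
theorem E97817 : n101102 = n91122 := ((c14_2 F338438 D91122 (iv7 D101102) (iv6 D47097) F155658 (iv6 F338437))).symm
theorem F338443 : act 7 n91122 = n47097 := (sb E97817 (iv7 D101102))
theorem E97818 : n91207 = n91121 := (c15_2 F338428 D91207 F338442 (iv2 F338429))
theorem F338444 : act 0 n91121 = n42700 := (sb E97818 (iv1 D91207))
theorem F338445 : act 1 n91121 = n93238 := (sb E97818 F143815)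
theorem F338446 : act 2 n91121 = n93240 := d15_3 (iv0 D93240) D93241 (iv7 F338442)
theorem F338447 : act 5 n93240 = n90371 := d2_2 D91121 F338446 F338431
theorem F338448 : act 7 n93240 = n91116 := d4_2 (iv7 F338442) F338446 F338429
theorem E97819 : n102112 = n89173 := (c17_6 (iv1 D43616) D43618 D93240 F338447 F293736 D102112 (iv0 D89173) (iv5 D41655) D41654 (iv4 F295160))
theorem F338449 : act 5 n89173 = n47417 := (sb E97819 (iv5 D102112))
theorem F338450 : act 4 n183045 = n93240 := d18_3 (iv1 D87381) D87382 D183045 F338447 F293736 (iv0 D47417) (iv4 F294762) D91997 F295150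
theorem F338451 : act 6 n90371 = n185303 := d21_9 (iv5 F153556) F329752 F310780 (iv6 D82683) (iv1 D37996) (iv6 F294655) D43618 D93240 F338447 (iv1 F287562)
theorem F338452 : act 6 n93240 = n148051 := d12_2 (iv6 F338451) (iv5 F338447) (iv5 D148051) D148052 F337276
theorem F338453 : act 3 n183045 = n180410 := d19_3 D90371 (iv5 F338447) (iv4 F338450) (iv1 D180410) (iv5 D86163) F60684 (iv3 D18870) F13738 (iv5 F21407) (iv4 D12898) (iv3 F14933) F30313 (iv5 D18988) (iv4 F16930) F16929 F14328 D9700 (iv4 F31776) D42249
theorem F338454 : act 5 n89172 = n102323 := d21_6 (iv5 F338447) (iv1 F143818) F140246 F294780 (iv1 F136861) D89172 (iv1 D102323) (iv5 D47485) (iv6 F292733) D90371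
theorem E97820 : n136074 = n89171 := ((c21_1 D89171 (iv1 F218992) F329583 (iv6 F135192) D185303 (iv6 F338451) (iv5 F338447) (iv1 F143818) F140246 F294780 (iv1 F136861))).symm
theorem F338455 : act 0 n89171 = n64667 := (sb E97820 (iv1 F218992))
theorem F338456 : act 1 n89171 = n63990 := (sb E97820 (iv0 D136074))
theorem E97821 : n137308 = n61380 := (c17_1 D137308 F322723 D162242 F338418 (iv4 D89175) (iv5 D41655) D41654 D89171 F338456 (iv4 F100483))
theorem E97822 : n130840 = n126948 := ((D130840).symm.trans (sb E97821 (iv1 F220467)))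
theorem E97823 : n130841 = n64536 := ((D130841).symm.trans (sb E97821 (iv0 D137308)))
theorem E97824 : n137309 = n129370 := (((iv1 F220461)).symm.trans (sb E97822 (iv1 F209405)))
theorem F338457 : act 1 n126948 = n61380 := (sb E97822 (iv0 D130840))
theorem F338458 : act 0 n64536 = n61380 := (sb E97823 (iv1 D130841))
theorem F338459 : act 0 n129370 = n64536 := (sb E97824 (iv1 D137309))
theorem F338460 : act 1 n129370 = n126948 := (sb E97824 F220461)
theorem F338461 : act 0 n89162 = n135975 := d21_4 (iv5 D89171) (iv1 D41654) D41655 (iv6 F136867) (iv6 D135975) F99449 (iv1 F48522) D30174 D63990 (iv1 F338456)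
theorem F338462 : act 0 n106400 = n132919 := d18_2 F338461 F218746 F213537 (iv5 F337819) F232349 (iv0 F232347) D72789 F184575 D89162
theorem F338463 : act 3 n135975 = n185875 := d20_5 D98556 F184675 (iv4 D89189) (iv3 F136866) F338461 (iv4 D185875) (iv1 F288080) (iv4 F332661) F332663 (iv1 F136730)
theorem F338464 : act 0 n135116 = n98555 := d20_4 F218746 F338462 F213537 (iv3 F217333) (iv3 D98555) D98556 F184675 (iv4 D89189) (iv3 F136866) F338461
theorem F338465 : act 1 n89162 = n136954 := d15_1 (iv0 F338461) (iv7 D136954) (iv2 F218745)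
theorem F338466 : act 1 n128432 = n135975 := d15_0 (iv0 F338461) F332706 (iv2 F332701)
theorem E97825 : n135279 = n59618 := (c20_2 F332702 D135279 (iv4 F204285) F324676 (iv1 F326603) (iv3 F197802) (iv4 F332656) (iv1 F287623) D185875 (iv3 F338463) (iv1 F338466))
theorem E97826 : n126679 = n63619 := (((iv1 F203847)).symm.trans (sb E97825 (iv1 F217501)))
theorem E97827 : n126678 = n63598 := ((F203851).symm.trans (sb E97825 (iv0 D135279)))
theorem E97828 : n135280 = n59434 := (((iv1 F217496)).symm.trans (sb E97826 (iv1 D126679)))
theorem F338467 : act 1 n63619 = n59618 := (sb E97826 F203847)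
theorem F338468 : act 0 n63598 = n59618 := (sb E97827 (iv1 F203851))
theorem F338469 : act 0 n59434 = n63598 := (sb E97828 (iv1 D135280))
theorem F338470 : act 1 n59434 = n63619 := (sb E97828 F217496)
theorem F338471 : act 0 n135275 = n136865 := d21_7 (iv5 D30167) D30165 (iv5 F99449) D135975 (iv1 F338466) F332703 D135275 (iv5 D136865) (iv6 D64338) F48735
theorem F338472 : act 6 n154620 = n134175 := d21_3 (iv5 D128432) F131169 D154620 F327492 (iv6 D63969) (iv5 D30167) D30165 (iv5 F99449) D135975 (iv1 F338466)
theorem E97829 : n137415 = n73320 := (c3_3 F338472 F327805 D137415 (iv2 F242712))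
theorem E97830 : n154634 = n64585 := ((D154634).symm.trans (sb E97829 (iv6 D137415)))
theorem F338473 : act 6 n64585 = n73320 := (sb E97830 (iv6 D154634))
theorem E97831 : n134177 = n123092 := (c7_3 F338472 (iv3 D134175) D134177 F306327)
theorem F338474 : act 6 n123092 = n63034 := (sb E97831 (iv6 D134177))
theorem F338475 : act 6 n134544 = n123085 := d12_2 F338472 (iv5 F216524) (iv5 D123085) (iv6 F306318) D154620
theorem F338476 : act 5 n102075 = n136077 := d21_2 F338449 (iv1 F157023) F218991 (iv1 F327493) (iv6 F338472) (iv5 D154620) F184576 D89162 F136867 D89173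
theorem F338477 : act 0 n137583 = n126641 := d18_2 (iv1 F218993) D137583 F203778 F328161 (iv4 F65257) D90372 F338435 F157022 F338476
theorem F338478 : act 6 n134548 = n89173 := d21_5 (iv5 F216524) (iv1 D134544) (iv5 D63225) D63226 D134548 F338449 (iv1 F157023) F338476 F218991 (iv1 F327493)
theorem F338479 : act 0 n94801 = n137582 := d20_4 F294465 (iv1 F132357) F292475 D94801 (iv3 D137582) D137583 F338477 F203778 (iv3 F328563) (iv1 F294463)
theorem F338480 : act 1 n137583 = n126853 := d15_1 (iv0 F338477) (iv7 D126853) (iv2 F203777)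
theorem E97832 : n137584 = n89156 := ((c18_4 F295247 F295223 (iv1 F140049) F294779 (iv5 D137584) D137583 F338480 F204097 F328978 F324219)).symm
theorem F338481 : act 5 n89156 = n64665 := (sb E97832 (iv5 D137584))
theorem F338482 : act 0 n137582 = n182415 := d20_4 (iv4 F204097) (iv1 F338480) (iv4 D137583) D137582 (iv3 F336761) F169037 (iv1 F164126) D61378 D130837 (iv1 F328978)
theorem E97833 : n182052 = n137582 := (c17_2 D86949 D182052 F338482 (iv5 D182415) (iv4 F291007) F291008 (iv0 F291015) (iv5 D93817) (iv0 F68939) F65039)
theorem F338483 : act 5 n137582 = n86949 := (sb E97833 (iv5 D182052))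
theorem F338484 : act 5 n137585 = n101112 := d12_3 (iv6 F155774) F338481 D137585 (iv6 D101112) D101111
theorem F338485 : act 0 n136406 = n101111 := d21_4 D47062 (iv1 F328163) D64128 (iv6 F219511) (iv6 F155774) F338481 (iv1 D64665) F329339 (iv6 D22776) F290138
theorem E97834 : n134176 = n123089 := ((c7_3 F338475 F197276 D123089 F216525)).symm
theorem F338486 : act 3 n123089 = n134544 := (sb E97834 F216525)
theorem F338487 : act 5 n123089 = n63034 := (sb E97834 (iv5 D134176))
theorem F338488 : act 0 n117506 = n123085 := d21_4 D67860 (iv1 F184077) (iv5 D117505) D117506 (iv6 F338475) F216524 F327492 D136048 F218920 (iv1 F328452)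
theorem F338489 : act 3 n105416 = n117506 := d19_19 F338488 (iv5 D123085) (iv4 F304697) F304696 (iv1 F188135) F302789 (iv4 F304557) (iv3 D96752) (iv1 F71268) (iv5 F83728) (iv4 D53004) (iv3 F65480) D90579 F139416 (iv4 D48727) (iv3 F40538) F42423 D48742 D105416
theorem E97835 : n170268 = n144802 := (c21_4 (iv5 D123085) D123084 F197270 D170268 (iv1 D144802) (iv6 D67861) D67860 (iv1 F184077) (iv5 D117505) D117506 F338488)
theorem F338490 : act 2 n144802 = n160102 := (sb E97835 F267781)
theorem F338491 : act 3 n144802 = n95648 := (sb E97835 F267782)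
theorem F338492 : act 4 n144802 = n81661 := (sb E97835 F267783)
theorem F338493 : act 6 n144802 = n81660 := (sb E97835 (iv6 D170268))
theorem F338494 : act 6 n117504 = n105416 := d7_0 F338489 (iv6 D117506) D117504
theorem F338495 : act 2 n123604 = n117504 := d3_3 F338494 F161803 D123604
theorem F338496 : act 7 n123603 = n117586 := d14_4 (iv7 F184073) F338494 F161804 D123603 (iv6 D117586)
theorem F338497 : act 0 n117504 = n137379 := d21_10 (iv5 D137379) F329376 D101992 F156954 F335733 (iv6 D57700) F44463 D57078 (iv5 F161805) (iv6 F338494)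
theorem F338498 : act 4 n137379 = n90138 := d20_8 F315233 (iv1 F316465) (iv4 D114634) F316822 F314506 (iv3 F161808) F314507 F338497 F138587 (iv1 F187358)
theorem E97836 : n151431 = n117531 := (c20_5 F338498 (iv1 F178063) (iv4 F178117) F178116 (iv1 F238169) (iv3 D117531) F85485 (iv1 F114752) F114753 D117504 F338497)
theorem F338499 : act 0 n117531 = n71389 := (sb E97836 (iv1 D151431))
theorem F338500 : act 1 n117531 = n71462 := (sb E97836 F238169)
theorem F338501 : act 1 n117583 = n137379 := d15_0 (iv0 F338497) F184073 D117583
theorem F338502 : act 4 n97209 = n151435 := d20_8 (iv4 F107999) (iv1 F338500) F184132 (iv3 D117110) F316850 F86624 F77435 D97209 (iv3 D151435) (iv1 F107887)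
theorem F338503 : act 7 n151643 = n97209 := d11_0 F338502 F335457 D151643
theorem F338504 : act 2 n151643 = n97210 := d15_3 F318861 (iv0 F318860) (iv7 F338503)
theorem F338505 : act 4 n97210 = n151642 := d1_2 D151643 F338504 (iv2 D151642)
theorem E97837 : n151642 = n149995 := (c20_1 F338505 (iv1 D149995) F107025 F70627 D44939 (iv3 F337311) F80023 (iv1 F80464) F80463 (iv3 F100459) (iv1 F318861))
theorem E97838 : n164615 = n71469 := ((F259539).symm.trans (sb E97837 (iv2 D151642)))
theorem F338506 : act 4 n149995 = n97210 := (sb E97837 (iv4 F338505))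
theorem E97839 : n151640 = n79097 := ((D151640).symm.trans (sb E97838 (iv1 D164615)))
theorem E97840 : n151641 = n149996 := ((D151641).symm.trans (sb E97838 F259537))
theorem F338507 : act 2 n71469 = n149995 := (sb E97838 (iv2 F259539))
theorem E97841 : n151435 = n114856 := (((iv7 F335457)).symm.trans (sb E97838 F259538))
theorem F338508 : act 1 n79097 = n71469 := (sb E97839 (iv0 D151640))
theorem F338509 : act 0 n149996 = n71469 := (sb E97840 (iv1 D151641))
theorem F338510 : act 3 n114856 = n71390 := (sb E97841 (iv3 D151435))
theorem F338511 : act 4 n114856 = n97209 := (sb E97841 (iv4 F338502))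
theorem F338512 : act 7 n114856 = n71469 := (sb E97841 F335457)
theorem F338513 : act 3 n149995 = n144947 := d20_3 F321241 (iv1 F318861) (iv4 F338506) F319088 (iv3 F163350) F318198 F166931 D66920 F319952 (iv1 F290559)
theorem F338514 : act 4 n131894 = n106672 := d18_7 (iv1 F259544) F338506 (iv1 D97210) (iv4 F77435) (iv5 F77748) (iv4 F96472) D131894 F164352 (iv5 F259542)
theorem F338515 : act 3 n144548 = n106672 := d20_5 (iv4 F104640) F318225 (iv4 F318226) (iv3 F225336) (iv1 F227412) (iv4 F338514) (iv1 D131894) F96472 (iv3 F163783) F316852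
theorem F338516 : act 2 n144947 = n151440 := d0_1 F338513 (iv3 D151440) (iv2 F335449) D71469 F338507
theorem E97842 : n155968 = n97210 := (c19_2 D74181 D155968 (iv4 F338506) F338513 F319088 (iv5 F171446) F319086 F84702 (iv1 F49640) (iv5 D31374) (iv4 F40141) F40138 (iv1 F38576) (iv5 D24152) F18522 F8528 F22450 D7650 D16486 D34033)
theorem F338517 : act 5 n97210 = n74181 := (sb E97842 (iv5 D155968))
theorem F338518 : act 5 n109513 = n151643 := d2_2 F338517 (iv2 F174372) F338504
theorem E97843 : n155970 = n97209 := ((c13_3 F174371 F338518 F338503 (iv5 D155970))).symm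
theorem F338519 : act 5 n97209 = n74182 := (sb E97843 (iv5 D155970))
theorem F338520 : act 3 n166686 = n97209 := d6_3 F338519 F325233 D166686
theorem F338521 : act 7 n151620 = n144947 := d4_0 F338516 F335450 D151620
theorem E97844 : n164502 = n151620 := (c15_2 F330349 F319092 F338521 F338516)
theorem F338522 : act 0 n151620 = n142488 := (sb E97844 (iv1 F319092))
theorem F338523 : act 1 n151620 = n79002 := (sb E97844 (iv0 D164502))
theorem F338524 : act 4 n151620 = n114198 := (sb E97844 (iv4 F330343))
theorem F338525 : act 5 n151620 = n142407 := (sb E97844 F330340)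
theorem E97845 : n144948 = n71464 := (c15_2 (iv0 D144947) D144948 (iv7 F335450) (iv2 F338516))
theorem E97846 : n151618 = n67954 := ((D151618).symm.trans (sb E97845 (iv1 D144948)))
theorem E97847 : n151619 = n71776 := ((D151619).symm.trans (sb E97845 F319089))
theorem E97848 : n151623 = n114716 := ((D151623).symm.trans (sb E97845 F319090))
theorem F338526 : act 1 n67954 = n71464 := (sb E97846 (iv0 D151618))
theorem F338527 : act 0 n71776 = n71464 := (sb E97847 (iv1 D151619))
theorem F338528 : act 2 n114716 = n121340 := (sb E97848 F335464)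
theorem F338529 : act 3 n114716 = n71467 := (sb E97848 F238494)
theorem F338530 : act 6 n114716 = n71464 := (sb E97848 (iv6 D151623))
theorem F338531 : act 6 n151620 = n121340 := d3_2 F338530 D151620 (iv2 F338528)
theorem F338532 : act 3 n121343 = n151620 := d7_3 F338531 F193547 D121343
theorem F338533 : act 0 n121340 = n115229 := d21_4 (iv5 F229205) (iv1 F229207) (iv5 F338525) F338531 (iv6 D115229) F83948 (iv1 F40740) D53126 D115133 (iv1 F332297)
theorem E97849 : n127743 = n115229 := ((c17_3 F337866 D121340 F338533 (iv5 D127743) (iv4 D59980) F87900 F187659 F187663 F163052 (iv4 F314435))).symm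
theorem F338534 : act 5 n115229 = n59980 := (sb E97849 (iv5 D127743))
theorem F338535 : act 3 n115229 = n148347 := d20_5 D164374 F259023 (iv4 D121342) (iv3 F193547) F338533 (iv4 D148347) (iv1 F317880) (iv4 F310852) F120129 D78945
theorem F338536 : act 3 n148695 = n107742 := d0_4 F338535 F232135 (iv3 F162543) (iv2 F315075) (iv2 F179445)
theorem F338537 : act 5 n127739 = n107742 := d2_2 F338534 (iv2 F205348) (iv2 F179445)
theorem E97850 : n127744 = n113878 := (c12_3 D115229 F338534 D127744 (iv5 D113878) (iv6 F328638) (iv5 F83948))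
theorem F338538 : act 4 n113878 = n59981 := (sb E97850 F205354)
theorem F338539 : act 6 n113878 = n59980 := (sb E97850 (iv6 D127744))
theorem F338540 : act 5 n120631 = n127044 := d16_5 (iv4 F179446) F338534 (iv4 D59980) F87900 (iv4 F192258) F204285 (iv5 F166378) (iv7 D107745) (iv2 F166042)
theorem F338541 : act 5 n127742 = n114699 := d17_7 F338149 F217563 (iv1 F338470) (iv5 F166043) (iv4 F179446) F338534 D127742 (iv0 D114699) (iv4 F178806)
theorem F338542 : act 7 n114699 = n145020 := d13_2 (iv7 F232259) F338541 (iv5 D145020)
theorem F338543 : act 0 n114699 = n128460 := d17_2 F315073 F338541 (iv5 D128460) (iv4 D60414) (iv5 D28689) D28686 (iv5 F184583) F130844 (iv4 F315076)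
theorem E97851 : n164281 = n114699 := ((c18_5 D144999 (iv4 F232255) F232252 F205353 F338541 (iv4 D164281) (iv0 D78914) F56612 D35928 F319883)).symm
theorem F338544 : act 4 n114699 = n78914 := (sb E97851 (iv4 D164281))
theorem E97852 : n159787 = n145958 := (c21_6 F338541 F338543 (iv5 D128460) (iv6 F316446) (iv1 F321658) D159787 (iv5 F335155) F203440 F323270 D148695 F315073)
theorem F338545 : act 2 n145958 = n76461 := (sb E97852 F251790)
theorem F338546 : act 6 n145958 = n76458 := (sb E97852 (iv6 D159787))
theorem E97853 : n132930 = n78915 := (c16_8 (iv4 F338544) (iv5 F338541) (iv4 F205353) F184634 F306409 F338403 (iv4 F338402) D132930 F258918 (iv2 D164279))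
theorem E97854 : n164285 = n62395 := ((D164285).symm.trans (sb E97853 F213551))
theorem E97855 : n164287 = n62380 := ((D164287).symm.trans (sb E97853 (iv5 D132930)))
theorem F338547 : act 3 n62395 = n78915 := (sb E97854 (iv3 D164285))
theorem E97856 : n185781 = n132928 := (((D132928).symm.trans (sb E97855 (iv1 F337855)))).symm
theorem F338548 : act 5 n62380 = n78915 := (sb E97855 (iv5 D164287))
theorem F338549 : act 3 n132928 = n88483 := (sb E97856 (iv3 D185781))
theorem F338550 : act 4 n132928 = n135305 := (sb E97856 (iv4 F337854))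
theorem F338551 : act 7 n132928 = n130048 := (sb E97856 (iv7 F323374))
theorem E97857 : n164282 = n138198 := ((c16_1 D138198 (iv5 D164282) (iv4 F338544) (iv5 F338541) (iv4 F205353) F184634 F306409 F338403 (iv7 F338405) (iv2 F338406))).symm
theorem F338552 : act 5 n138198 = n78914 := (sb E97857 (iv5 D164282))
theorem E97858 : n164286 = n114700 := (c9_10 F338552 (iv4 F338544) (iv5 F338541) (iv4 F205353) F184634 F306409 F338403 (iv4 F338402) F338548 D164286 (iv5 F178807) F318214 F105228 (iv4 F85892) F338411 D138198)
theorem F338553 : act 3 n114700 = n121310 := (sb E97858 (iv3 F258920))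
theorem F338554 : act 4 n114700 = n78915 := (sb E97858 (iv4 D164286))
theorem F338555 : act 4 n164290 = n123408 := d17_9 (iv1 D123408) (iv5 D57484) (iv1 F304381) F338411 D138198 F338552 (iv0 D78914) D78916 D164290
theorem F338556 : act 1 n134722 = n138198 := d17_6 D35927 D78921 F321737 (iv5 F326630) F209263 (iv5 F216741) F338552 (iv0 D78914) F56612
theorem E97859 : n135306 = n64371 := (c18_7 (iv1 F258911) F258907 (iv1 F120108) F337848 (iv5 D63618) (iv4 F98956) D135306 (iv4 F216740) F338556 F338552)
theorem E97860 : n136951 = n63609 := ((D136951).symm.trans (sb E97859 (iv1 D135306)))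
theorem E97861 : n136952 = n69950 := ((D136952).symm.trans (sb E97859 F332700))
theorem F338557 : act 1 n63609 = n64371 := (sb E97860 (iv0 D136951))
theorem F338558 : act 0 n69950 = n64371 := (sb E97861 (iv1 D136952))
theorem F338559 : act 7 n138198 = n132919 := d16_8 F338402 (iv5 F338403) (iv4 F306409) (iv5 F184634) F205353 F338541 F338544 (iv5 F338552) F213536
theorem F338560 : act 2 n132931 = n138198 := d4_3 F338559 F213536 D132931
theorem F338561 : act 5 n132919 = n164284 := d13_1 F338559 (iv7 D164284) (iv5 F338552)
theorem E97862 : n134722 = n132929 := ((c15_1 D132929 F338556 F338559 F213536)).symm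
theorem F338562 : act 1 n132929 = n138198 := (sb E97862 F338556)
theorem F338563 : act 2 n132929 = n106400 := (sb E97862 F216739)
theorem F338564 : act 4 n132929 = n64371 := (sb E97862 F216740)
theorem F338565 : act 5 n132929 = n108509 := (sb E97862 F216741)
theorem F338566 : act 6 n132929 = n63311 := (sb E97862 (iv6 D134722))
theorem F338567 : act 7 n135305 = n135975 := d16_8 (iv4 F338564) F338565 (iv4 F209263) F326630 (iv4 D69272) D69273 (iv4 F155745) (iv5 F332699) F218745
theorem F338568 : act 7 n136953 = n150111 := d16_8 F155745 (iv5 D69273) D69272 (iv5 F326630) F209263 (iv5 F338565) F338564 D136953 F236256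
theorem E97863 : n175809 = n164288 := ((c21_10 F298372 (iv1 F332311) F332313 (iv6 F328859) F166008 D108509 (iv5 F338565) (iv1 D132929) F338548 D164288 (iv1 D175809))).symm
theorem F338569 : act 0 n164288 = n83913 := (sb E97863 (iv1 D175809))
theorem E97864 : n173448 = n164288 := (c17_2 D82993 D173448 F338569 F298372 F126418 D82005 D171099 (iv5 F305153) (iv0 D123095) F90368)
theorem F338570 : act 2 n164288 = n83007 := (sb E97864 F279302)
theorem F338571 : act 5 n164288 = n82993 := (sb E97864 (iv5 D173448))
theorem F338572 : act 7 n164288 = n83012 := (sb E97864 F279303)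
theorem E97865 : n175808 = n173453 := ((c15_4 (iv0 D175808) (iv0 F338569) F338572 (iv2 F279312))).symm
theorem F338573 : act 1 n173453 = n83913 := (sb E97865 (iv0 D175808))
theorem F338574 : act 3 n132962 = n164288 := d6_3 F338571 F313372 D132962
theorem F338575 : act 7 n173512 = n132962 := d8_0 F338574 F338572 (iv3 F271966)
theorem E97866 : n173501 = n164284 := (c3_3 D164288 F338570 D173501 F258919)
theorem F338576 : act 6 n164284 = n83007 := (sb E97866 (iv6 D173501))
theorem E97867 : n175310 = n173498 := ((c21_11 F300997 D184480 (iv5 F332315) (iv6 D107660) (iv1 F82561) D113135 F176266 F338462 F338561 F338576 D173498)).symm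
theorem F338577 : act 2 n173498 = n83913 := (sb E97867 F274355)
theorem F338578 : act 3 n173498 = n83719 := (sb E97867 (iv3 D175310))
theorem F338579 : act 5 n173498 = n87978 := (sb E97867 F300997)
theorem E97868 : n164284 = n164263 := (c21_4 (iv5 D38205) D38203 D83007 (iv6 F338576) (iv1 D164263) (iv6 D78909) (iv5 F87074) F87076 F86967 D71916 F327303)
theorem F338580 : act 2 n164263 = n78915 := (sb E97868 F258919)
theorem F338581 : act 5 n164263 = n132919 := (sb E97868 (iv5 F338561))
theorem F338582 : act 6 n164263 = n83007 := (sb E97868 F338576)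
theorem F338583 : act 7 n164263 = n78914 := (sb E97868 (iv7 D164284))
theorem F338584 : act 4 n145020 = n164263 := d11_3 F338583 (iv4 F338544) F338542
theorem E97869 : n164279 = n164262 := (c15_4 (iv0 D164262) D164263 F338583 D164279)
theorem F338585 : act 2 n164262 = n78914 := (sb E97869 (iv2 D164279))
theorem F338586 : act 7 n164262 = n78915 := (sb E97869 (iv7 F258918))
theorem F338587 : act 3 n132977 = n164262 := d8_3 F338586 (iv3 F338547) D132977
theorem F338588 : act 7 n114700 = n121317 := d11_2 F338586 (iv4 F338554) F258910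
theorem F338589 : act 5 n132931 = n164262 := d13_3 F338586 (iv5 F338548) D132931
theorem E97870 : n149096 = n132931 := (c16_7 (iv4 F338584) (iv5 D145020) (iv4 F104580) F104581 F51837 D69970 D149096 F338589 F338586 (iv2 F338580))
theorem F338590 : act 4 n132931 = n69970 := (sb E97870 (iv4 D149096))
theorem F338591 : act 6 n132931 = n181983 := (sb E97870 (iv6 F283299))
theorem F338592 : act 3 n157808 = n132951 := d5_3 F338590 (iv3 F133377) (iv4 F295106) F213575 (iv3 F213552)
theorem F338593 : act 2 n114699 = n121317 := d16_9 F258910 (iv5 F338589) F338590 (iv5 D69970) (iv4 F51837) (iv5 F104581) F104580 D145020 (iv7 F338542)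
theorem F338594 : act 0 n114659 = n121317 := d18_2 D135333 F334118 F258910 (iv5 F338589) F338590 F318998 F337840 (iv0 D63616) D63618
theorem F338595 : act 4 n153870 = n114657 := d18_7 F338594 F258910 (iv1 F258908) F120111 (iv5 F120116) F319012 F241770 (iv0 D114657) D114659
theorem F338596 : act 1 n114659 = n145020 := d15_1 (iv0 F338594) (iv7 F338542) F338593
theorem F338597 : act 1 n145020 = n114701 := d15_1 F338596 (iv7 D114701) (iv2 F178762)
theorem F338598 : act 0 n134575 = n176333 := d20_4 (iv4 F338584) (iv1 F338596) (iv4 F334118) F217562 F275639 F328233 (iv1 F69404) (iv4 F143137) F143136 (iv1 F258904)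
theorem E97871 : n145020 = n121347 := ((c20_4 (iv4 F177928) (iv1 F177931) F136678 D121347 (iv1 F338596) (iv3 F230945) F230946 F313068 (iv4 F313086) (iv3 F290493) (iv1 F83277))).symm
theorem F338599 : act 0 n121347 = n114659 := (sb E97871 (iv1 F338596))
theorem F338600 : act 1 n121347 = n114701 := (sb E97871 F338597)
theorem F338601 : act 4 n121347 = n164263 := (sb E97871 F338584)
theorem F338602 : act 5 n121347 = n67986 := (sb E97871 (iv5 D145020))
theorem E97872 : n114858 = n114699 := ((F193562).symm.trans (sb E97871 (iv7 F338542)))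
theorem F338603 : act 3 n114699 = n52999 := (sb E97872 (iv3 D114858))
theorem F338604 : act 7 n114699 = n121347 := (sb E97872 (iv7 F193562))
theorem F338605 : act 2 n121347 = n114700 := d4_1 F338604 F338588 (iv2 F338593)
theorem F338606 : act 1 n114700 = n128460 := d15_0 (iv0 F338543) F338604 F338605
theorem F338607 : act 7 n128460 = n114659 := d15_2 D114700 F338606 F178762
theorem F338608 : act 3 n167879 = n128460 := d20_9 F338554 (iv1 D78915) F56612 F28361 D17397 D35934 F310845 (iv1 F125682) (iv4 F302811) (iv1 F338606)
theorem F338609 : act 0 n114640 = n157732 := d21_7 D128460 (iv1 F338606) (iv5 F178807) (iv6 D114580) F316008 F314387 (iv5 F178738) (iv5 F325991) (iv6 D114712) F317608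
theorem F338610 : act 1 n114593 = n157732 := d15_0 (iv0 F338609) (iv7 D114640) (iv2 F178676)
theorem F338611 : act 1 n114712 = n179992 := d17_8 F206593 (iv5 F315681) (iv1 D116197) (iv5 F315683) (iv4 F313961) D114593 F338610 (iv5 F325991) F280365
theorem E97873 : n146436 = n133436 := (c21_7 F325991 (iv1 F338610) (iv5 D114593) (iv6 D52894) (iv1 F51362) D69681 (iv5 F229774) (iv1 D133436) F322394 D179992 (iv1 F338611))
theorem F338612 : act 2 n133436 = n69685 := (sb E97873 F229772)
theorem F338613 : act 3 n133436 = n68659 := (sb E97873 F229773)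
theorem F338614 : act 4 n133436 = n146877 := (sb E97873 (iv4 F230266))
theorem F338615 : act 5 n133436 = n69681 := (sb E97873 F229774)
theorem F338616 : act 6 n133436 = n68657 := (sb E97873 (iv6 D146436))
theorem F338617 : act 5 n115137 = n148680 := d21_6 (iv5 D52554) F77057 D32009 F329786 (iv1 F99354) (iv6 F179294) (iv1 D148680) (iv5 F338615) F338616 (iv1 F104874)
theorem F338618 : act 5 n115495 = n151232 := d21_6 F177135 F97650 (iv5 F104871) (iv6 F338616) (iv1 D133436) (iv6 F179794) (iv1 D151232) (iv5 F183415) (iv6 D117226) (iv1 F177137)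
theorem F338619 : act 3 n151232 = n115496 := d6_1 F338618 (iv5 D115496) D115495
theorem F338620 : act 5 n148353 = n115200 := d6_2 F338617 F336938 F179408
theorem F338621 : act 4 n120630 = n136345 := d9_13 F338617 F336939 (iv5 D70651) D70650 (iv5 F316634) F179230 (iv5 D115095) F83827 D53131 (iv4 F324669) (iv5 D55581) (iv4 F87878) D120630 F219426 F208174
theorem E97874 : n159794 = n125201 := ((c17_10 (iv1 D159794) F328238 D115137 F338617 F336939 (iv5 D70651) F51878 (iv5 F104053) (iv0 F155201) D125201)).symm
theorem F338622 : act 0 n125201 = n76461 := (sb E97874 (iv1 D159794))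
theorem F338623 : act 5 n90556 = n115142 := d21_8 F338617 (iv1 D148680) (iv5 F338615) F338616 (iv1 F104874) D113809 F177082 (iv1 F290314) (iv6 D115142) D115137
theorem E97875 : n115146 = n68437 := (c21_9 (iv5 F104646) F104647 (iv5 D67985) D67986 (iv1 F233217) (iv6 F336940) (iv5 F338617) (iv1 F179296) D115146 (iv6 D68437) (iv1 F85198))
theorem E97876 : n145957 = n53129 := ((D145957).symm.trans (sb E97875 (iv5 D115146)))
theorem F338624 : act 5 n53129 = n68437 := (sb E97876 (iv5 D145957))
theorem F338625 : act 5 n117189 = n115143 := d2_2 F338624 (iv2 F183353) F179298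
theorem F338626 : act 5 n145953 = n115144 := d6_2 F338624 (iv3 F229195) (iv3 D115144)
theorem F338627 : act 5 n145954 = n115147 := d12_5 (iv6 D115147) F338624 (iv6 D68437) D68436 D145954
theorem F338628 : act 1 n147405 = n148685 := d17_8 (iv1 F233435) (iv5 F338617) (iv1 F179296) F338624 F114773 (iv5 D76546) D76545 F233085 F233440
theorem F338629 : act 5 n115140 = n150130 := d16_1 D115140 (iv4 D150130) (iv5 D70660) (iv4 F55387) D76546 (iv4 F114773) (iv5 F338624) F179297 (iv2 D115138)
theorem F338630 : act 5 n135671 = n145986 := d21_0 (iv1 D145986) (iv5 D68445) (iv6 D31849) D31846 D68437 (iv5 F338624) (iv1 D53129) D53131 (iv6 F99147) D135671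
theorem F338631 : act 4 n145986 = n113872 := d17_4 (iv1 D63786) D63787 D135671 F338630 (iv5 D113872) (iv0 F328641) F93664 D126552 F203521
theorem F338632 : act 1 n145986 = n114669 := d17_8 F99151 (iv5 D63791) (iv1 F48365) F40744 F328633 D113878 F328635 F338630 F329474
theorem E97877 : n157727 = n135671 := (c21_6 D68436 F104637 (iv5 D67955) F314387 F290470 D157727 F338630 (iv1 D145986) (iv5 D68445) (iv6 D31849) D31846)
theorem F338633 : act 3 n135671 = n75153 := (sb E97877 F248583)
theorem F338634 : act 6 n135671 = n75150 := (sb E97877 (iv6 D157727))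
theorem F338635 : act 6 n145986 = n130646 := d21_9 (iv5 F218379) (iv1 D135790) (iv5 D63850) (iv6 D30122) (iv1 F23886) D30098 D63787 D135671 F338630 (iv1 F214597)
theorem F338636 : act 3 n105460 = n145986 := d6_3 (iv5 F338630) F338633 (iv5 F161857)
theorem F338637 : act 4 n135671 = n147840 := d16_4 (iv4 F83087) D113872 (iv4 F338631) (iv5 F338630) (iv5 F317646) F178778 F328251 F327844 F83081
theorem F338638 : act 3 n148010 = n105406 := d5_3 F338637 F252126 (iv4 F231829) F161750 (iv3 F338633)
theorem E97878 : n147836 = n134465 := (c18_4 D135671 F338637 (iv1 D147840) (iv4 F231612) (iv5 D134465) (iv4 F171543) F328640 F83087 (iv0 F328249) D63787)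
theorem F338639 : act 0 n134465 = n146007 := (sb E97878 (iv1 F252129))
theorem F338640 : act 1 n134465 = n145063 := (sb E97878 (iv0 F243341))
theorem F338641 : act 4 n134465 = n69274 := (sb E97878 F231612)
theorem F338642 : act 6 n134465 = n69272 := (sb E97878 (iv6 D147836))
theorem E97879 : n135672 = n114750 := ((c18_2 F317673 D114750 (iv1 D135672) (iv4 F325787) F192293 (iv4 F338538) F328635 F338637 (iv0 F317667) F317670)).symm
theorem F338643 : act 0 n114750 = n63787 := (sb E97879 (iv1 D135672))
theorem F338644 : act 1 n114750 = n113878 := (sb E97879 (iv0 F328634))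
theorem F338645 : act 2 n114751 = n147840 := d16_9 (iv4 F338637) F338630 F338631 (iv5 D113872) F83087 F40350 (iv4 F40626) D52956 D114751
theorem F338646 : act 3 n146415 = n114751 := d0_0 F338645 F252126 (iv2 F250240) F250241 (iv2 F247770)
theorem F338647 : act 6 n114634 = n114751 := d3_0 F338645 F252128 (iv2 F316466)
theorem F338648 : act 7 n147840 = n114665 := d4_2 D114751 F338645 F178775
theorem F338649 : act 3 n114665 = n117879 := d8_1 F338648 F247839 (iv3 F252126)
theorem F338650 : act 6 n117879 = n175210 := d7_2 (iv6 F178776) F338649 F274253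
theorem F338651 : act 4 n114665 = n135870 := d20_6 (iv4 F313161) (iv1 D32525) F313218 (iv3 F85681) D117879 (iv3 F338649) (iv1 D135870) (iv4 F326599) (iv3 D73562) (iv1 F310932)
theorem F338652 : act 2 n135870 = n114750 := d1_1 F338651 (iv4 D114750) (iv2 F178775)
theorem F338653 : act 6 n135870 = n175224 := d10_2 (iv6 F178776) F338651 (iv4 D175224)
theorem F338654 : act 7 n135870 = n135671 := d11_2 F338648 F338651 F338637

end Cfsg.Agent.Helper17.ONTC
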