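import Cfsg.Agent.Helper17.ONTC.Facts41

set_option autoImplicit false
set_option linter.all false

noncomputable section

namespace Cfsg.Agent.Helper17.ONTC

theorem F338655 : act 5 n135870 = n114766 := d17_5 (iv1 F178779) (iv5 F317653) F317664 D114665 F338651 F178864 (iv5 D52967) F83639 (iv4 F178778)
theorem F338656 : act 4 n115161 = n127740 := d18_7 (iv1 D31851) (iv4 F50141) F318014 (iv4 F83635) D114665 F338651 F218533 F205367 F104105
theorem F338657 : act 4 n132164 = n114766 := d16_2 (iv4 F327845) D132164 (iv5 F338655) (iv4 F338651) (iv5 D114665) F83635 (iv5 F83082) (iv7 F327844) F327843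
theorem F338658 : act 6 n114766 = n133185 := d10_2 F211695 F338657 F213986
theorem F338659 : act 7 n114766 = n145986 := d11_2 F328646 F338657 F338631
theorem E97880 : n114782 = n111866 := (c18_8 (iv1 F101991) (iv4 F83862) F327835 (iv4 F327845) D132164 F338657 F178864 D114782 (iv0 F173724) (iv5 D63682))
theorem F338660 : act 4 n111866 = n52967 := (sb E97880 (iv4 D114782))
theorem E97881 : n114956 = n114766 := (c8_4 F338659 (iv3 F338636) (iv7 F161869) D114956)
theorem F338661 : act 3 n114766 = n53044 := (sb E97881 (iv3 D114956))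
theorem F338662 : act 2 n145986 = n114765 := d15_3 (iv0 D114765) D114766 F338659
theorem F338663 : act 2 n114766 = n145985 := d15_3 (iv0 D145985) D145986 (iv7 F338659)
theorem F338664 : act 5 n145985 = n114750 := d2_2 F338655 F338663 (iv2 F338652)
theorem F338665 : act 6 n145985 = n113815 := d3_2 (iv6 F338658) F338663 F328057
theorem F338666 : act 7 n145985 = n114765 := d4_2 (iv7 F338659) F338663 (iv2 F338662)
theorem F338667 : act 4 n114751 = n114636 := d16_6 (iv4 F338657) (iv5 D132164) F327845 F83090 (iv4 F83688) (iv5 F178852) (iv5 F178862) (iv7 F338666) (iv2 F338663)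
theorem F338668 : act 2 n114636 = n135671 := d1_1 F338667 F338637 (iv2 F338645)
theorem F338669 : act 3 n114636 = n117315 := d5_1 F338667 F183682 (iv3 F183671) F332527 F338646
theorem F338670 : act 7 n114636 = n114750 := d11_2 D114751 F338667 (iv4 D114750)
theorem E97882 : n135869 = n114636 := ((c18_6 (iv1 F104593) (iv4 F319877) (iv1 F83638) (iv4 F83688) (iv5 F178852) F338667 (iv0 D135869) (iv4 F326599) (iv0 F313151) (iv5 D68450))).symm
theorem F338671 : act 0 n114636 = n115161 := (sb E97882 (iv1 F218532))
theorem F338672 : act 1 n114636 = n63884 := (sb E97882 (iv0 D135869))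
theorem F338673 : act 0 n147842 = n114751 := d20_10 F338667 F338671 F338656 F205350 (iv1 D68500) (iv3 F311064) D124534 (iv1 F334518) F231625 (iv3 F231614)
theorem F338674 : act 0 n114751 = n147832 := d17_0 (iv5 F231616) F338673 F178852 F83688 (iv5 F83090) (iv0 F327835) D115161 (iv0 F338671) (iv4 F338667)
theorem F338675 : act 4 n147832 = n135251 := d18_3 (iv1 F338672) (iv4 F338667) F338674 (iv5 D135251) F98903 (iv0 F327839) F177113 F327340 D63884
theorem F338676 : act 0 n147832 = n114665 := d18_0 F338651 (iv1 D135870) (iv4 F326599) (iv5 F313153) (iv4 F338656) (iv0 F338671) (iv4 F338667) (iv0 F338673) F231616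
theorem F338677 : act 0 n114665 = n147842 := d17_0 F231616 F338676 (iv5 D114665) F83635 (iv5 F83082) F327340 D63884 D135870 (iv4 F338651)
theorem F338678 : act 4 n147842 = n135220 := d18_3 (iv1 F218533) (iv4 F338651) F338677 (iv5 D135220) F98862 (iv0 F102068) F327845 (iv0 F327835) D115161
theorem F338679 : act 4 n134493 = n114748 := d1_2 F338678 F217409 F317668
theorem F338680 : act 6 n135220 = n175973 := d10_2 F310418 F338678 (iv4 F334529)
theorem E97883 : n150049 = n106140 := (c17_9 F178773 (iv5 F178852) F338674 (iv5 F231616) F338678 (iv5 D135220) F101909 (iv5 F328385) F236074 (iv4 F178772))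
theorem F338681 : act 0 n106140 = n119055 := (sb E97883 (iv1 F236074))
theorem F338682 : act 1 n106140 = n70595 := (sb E97883 (iv0 D150049))
theorem F338683 : act 2 n114740 = n106140 := d15_3 F338682 (iv0 F317021) (iv7 F316449)
theorem F338684 : act 0 n105470 = n118647 := d20_1 D105470 F186611 (iv3 F107062) (iv1 F338682) (iv3 D106140) (iv4 F314183) (iv1 D102268) D102269 F311509 (iv1 F258989)
theorem F338685 : act 5 n106140 = n133223 := d21_2 (iv5 F328368) (iv1 F338682) (iv6 D133223) (iv1 D62513) (iv6 D29543) D29542 (iv1 F93738) F93736 D63541 (iv1 F102046)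
theorem F338686 : act 5 n135526 = n114740 := d2_2 F338685 (iv2 F217934) F338683
theorem F338687 : act 3 n133223 = n106142 := d6_1 F338685 (iv5 D106142) D106140
theorem F338688 : act 1 n133223 = n135875 := d17_8 F99362 F97487 (iv1 F102009) (iv5 D63305) D63304 (iv5 F328385) (iv0 F338681) F338685 (iv4 D135875)
theorem F338689 : act 0 n133223 = n135470 := d18_0 (iv4 D135470) F173724 F338660 (iv5 D52967) (iv4 F318013) D68416 (iv4 F316453) (iv0 F338681) F338685
theorem F338690 : act 5 n135470 = n145063 := d21_2 F338685 F338689 (iv6 D145063) F315232 (iv6 D54804) F42429 F26648 D32747 D70595 (iv1 F338682)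
theorem F338691 : act 5 n146007 = n135875 := d17_1 F338639 (iv1 F338688) (iv5 F338685) (iv4 F178772) F317649 (iv0 D52954) D52956 (iv0 F317673) (iv4 F338641)
theorem F338692 : act 6 n90243 = n146007 := d12_0 F338691 (iv6 F326337) (iv5 F183968) (iv6 D90244) D90243
theorem F338693 : act 0 n146007 = n134493 := d21_7 D29874 (iv1 F97446) (iv5 D62501) D62502 (iv1 F326335) F326337 (iv5 F338691) (iv5 D134493) (iv6 D63187) (iv1 D29873)
theorem F338694 : act 4 n145084 = n90243 := d10_3 F338692 (iv4 D146007) (iv6 F228031)
theorem F338695 : act 0 n114206 = n130696 := d21_1 F316647 F326630 (iv6 F338642) F338639 (iv6 F338692) (iv5 D90243) F138579 (iv5 F317458) (iv6 F319013) F319009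
theorem F338696 : act 4 n107744 = n114206 := d17_9 F338695 F326630 F184632 (iv5 F319883) F337848 (iv5 D63618) F337836 (iv5 F78628) D107744
theorem F338697 : act 0 n135326 = n107744 := d18_0 F338696 F338695 F209263 (iv5 F338565) F338564 (iv0 F338558) (iv4 F337831) (iv0 F337832) D135326
theorem F338698 : act 7 n135326 = n107615 := d15_2 D107744 (iv0 F338697) F166042
theorem F338699 : act 2 n107745 = n135326 := d4_3 F338698 F166042 D107745
theorem F338700 : act 6 n166533 = n135326 := d14_5 F338698 (iv6 D107615) (iv7 F83943) D115225 (iv7 F335979)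
theorem F338701 : act 3 n135326 = n148382 := d0_2 (iv3 F321543) F338699 F232151 F321785 (iv2 F96993)
theorem F338702 : act 1 n135326 = n107743 := d15_0 (iv0 D107743) D107745 F338699
theorem F338703 : act 5 n129265 = n107743 := d21_0 (iv1 F338702) (iv5 D135326) (iv6 F337841) (iv1 D63250) (iv6 D29894) D29893 (iv1 F216481) (iv5 D60758) D60759 D129265
theorem F338704 : act 6 n107743 = n119850 := d21_9 (iv5 D73919) (iv1 F184570) (iv5 F298221) (iv6 D114054) (iv1 F83658) D114698 F334123 D129265 F338703 (iv1 F189181)
theorem F338705 : act 6 n129265 = n152306 := d12_2 (iv6 F338704) (iv5 F338703) (iv5 D152306) (iv6 F233306) F233305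
theorem F338706 : act 2 n152684 = n129265 := d3_3 F338705 F239421 D152684
theorem E97884 : n134622 = n36277 := (c21_2 D63251 D134622 F322701 (iv6 F307029) (iv1 F239423) (iv6 F338705) F338703 (iv1 F338702) (iv5 D135326) (iv6 F337841) (iv1 D63250))
theorem E97885 : n79658 = n63251 := ((D79658).symm.trans (sb E97884 (iv0 D134622)))
theorem F338707 : act 0 n63251 = n36277 := (sb E97885 (iv1 D79658))
theorem E97886 : n134623 = n92199 := ((D134623).symm.trans (sb E97885 (iv0 F298622)))
theorem E97887 : n165872 = n134581 := ((((iv2 F216555)).symm.trans (sb E97885 (iv2 F261246)))).symm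
theorem E97889 : n165874 = n134624 := (((D134624).symm.trans (sb E97885 D165874))).symm
theorem E97892 : n165867 = n134625 := (((D134625).symm.trans (sb E97885 F261245))).symm
theorem F338708 : act 0 n92199 = n63251 := (sb E97886 (iv1 D134623))
theorem F338709 : act 7 n134581 = n79657 := (sb E97887 (iv7 D165872))
theorem F338710 : act 3 n134624 = n163235 := (sb E97889 (iv3 F261247))
theorem F338711 : act 2 n134625 = n79657 := (sb E97892 (iv2 D165867))
theorem E97893 : n165870 = n127056 := (c2_3 (iv5 F216585) F338711 D165870 F333827)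
theorem F338712 : act 5 n127056 = n79657 := (sb E97893 (iv5 D165870))
theorem F338713 : act 5 n92199 = n130835 := d21_2 F338712 (iv1 F298623) F209392 F338459 (iv6 D64536) (iv5 D30379) F24075 (iv5 F45802) D59619 D127056
theorem E97894 : n137310 = n120978 := (c21_1 D137310 (iv1 D120978) (iv5 F322722) F97115 (iv1 F337691) (iv6 F333828) F338712 (iv1 F298623) F338713 F209392 F338459)
theorem F338714 : act 2 n120978 = n126947 := (sb E97894 F220462)
theorem F338715 : act 5 n120978 = n64536 := (sb E97894 (iv5 D137310))
theorem F338716 : act 6 n120978 = n64539 := (sb E97894 F220463)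
theorem F338717 : act 6 n126661 = n129376 := d21_9 (iv5 F322701) D79657 (iv5 F338712) F333828 (iv1 F337694) (iv6 D126674) (iv5 D59431) D59428 D126661 (iv1 D129376)
theorem E97895 : n134689 = n126672 := (c21_10 (iv5 D59431) D59428 D126661 F338717 (iv1 D129376) (iv6 F307029) (iv5 D124989) D124987 F309873 D134689 (iv1 D126672))
theorem F338718 : act 6 n126672 = n63281 := (sb E97895 (iv6 D134689))
theorem E97896 : n127031 = n126672 := (c3_4 F338718 (iv2 F310710) F336107 (iv2 F336104))
theorem E97897 : n136720 = n59431 := ((((iv1 D126672)).symm.trans (sb E97896 (iv1 F219869)))).symm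
theorem F338719 : act 2 n126672 = n64894 := (sb E97896 F336104)
theorem F338720 : act 4 n126672 = n64489 := (sb E97896 F204269)
theorem F338721 : act 7 n126672 = n59611 := (sb E97896 (iv7 D127031))
theorem E97899 : n126671 = n64257 := ((D126671).symm.trans (sb E97897 (iv1 D136720)))
theorem F338722 : act 0 n64257 = n64896 := (sb E97899 (iv1 F203837))
theorem F338723 : act 1 n64257 = n59431 := (sb E97899 (iv0 D126671))
theorem E97900 : n135979 = n134687 := ((c10_2 F338718 D134687 F218751 (iv4 F338720))).symm
theorem F338724 : act 0 n134687 = n64375 := (sb E97900 (iv1 F218753))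
theorem F338725 : act 1 n134687 = n64374 := (sb E97900 F218754)
theorem F338726 : act 2 n134687 = n64377 := (sb E97900 F218750)
theorem F338727 : act 6 n134687 = n64489 := (sb E97900 F218751)
theorem F338728 : act 7 n134687 = n63932 := (sb E97900 (iv7 D135979))
theorem F338729 : act 5 n136702 = n126672 := d21_2 (iv5 F321998) (iv1 F219846) F338718 (iv1 F98941) (iv6 D63592) (iv5 F52397) (iv1 F52401) F211050 D129283 F216488
theorem F338730 : act 0 n152684 = n129268 := d21_4 F306775 F304769 D72024 D152684 F207477 (iv5 F321998) (iv1 F219846) F338729 F338718 (iv1 F98941)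
theorem F338731 : act 4 n154631 = n152684 := d17_9 F338730 (iv5 F208127) F216491 (iv5 D63618) (iv4 F98956) (iv5 F332704) F184608 D149083 F242745
theorem F338732 : act 3 n123619 = n154631 := d20_5 (iv4 F198040) (iv1 D123642) (iv4 D57637) (iv3 F90768) D123619 F338731 F338730 (iv4 F337861) F301979 (iv1 F197146)
theorem F338733 : act 6 n152683 = n154631 := d10_0 F338731 (iv6 D152684) D152683
theorem F338734 : act 2 n126699 = n136702 := d2_3 F338729 F338719 (iv5 F336106)
theorem F338735 : act 7 n126700 = n136702 := d13_0 F338729 F338721 (iv5 F331748)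
theorem E97901 : n136721 = n136701 := ((c4_3 F338735 (iv2 F338734) (iv7 F336112) (iv2 F331747))).symm
theorem F338736 : act 2 n136701 = n126700 := (sb E97901 (iv2 F331747))
theorem F338737 : act 5 n136701 = n64257 := (sb E97901 (iv5 D136721))
theorem F338738 : act 6 n136701 = n64260 := (sb E97901 F219871)
theorem F338739 : act 6 n136717 = n107354 := d7_2 F338738 (iv3 F219866) (iv3 F219841)
theorem E97902 : n173285 = n136704 := (c21_3 F331735 (iv1 F243916) D173285 (iv6 D136704) D136701 F338738 (iv5 D64260) (iv1 F111235) (iv5 F323252) D74111 D155793)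
theorem F338740 : act 5 n136704 = n82927 := (sb E97902 (iv5 D173285))
theorem F338741 : act 5 n120052 = n179224 := d21_2 F87446 D120052 (iv6 D179224) F321286 F78552 D59431 (iv1 F338723) (iv5 F338737) F338738 F322912
theorem E97903 : n179224 = n155782 := (c2_1 F338741 F244793 (iv5 F324692) (iv2 F336641))
theorem F338742 : act 5 n155782 = n120052 := (sb E97903 (iv5 F338741))
theorem F338743 : act 6 n155782 = n85531 := (sb E97903 (iv6 D179224))
theorem F338744 : act 3 n155782 = n93440 := d6_1 (iv5 F338742) (iv5 F336631) (iv3 F336642)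
theorem F338745 : act 6 n107710 = n120052 := d12_0 (iv5 F338742) F338743 D179223 F331703 F227086
theorem E97904 : n155782 = n120060 := (c17_2 D120052 (iv5 F338742) (iv1 F189643) F324658 (iv4 D59475) F101941 (iv0 F101937) (iv5 F162119) F162122 (iv4 F319214))
theorem F338746 : act 2 n120060 = n74108 := (sb E97904 F244793)
theorem F338747 : act 3 n120060 = n93440 := (sb E97904 F338744)
theorem F338748 : act 5 n120060 = n120052 := (sb E97904 F338742)
theorem F338749 : act 6 n120060 = n85531 := (sb E97904 F338743)
theorem F338750 : act 7 n120060 = n74107 := (sb E97904 (iv7 D155782))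
theorem F338751 : act 0 n155916 = n163067 := d21_10 (iv5 D163067) (iv1 D78407) D78410 (iv6 F316253) D85531 (iv6 F338749) F338748 (iv1 F189628) (iv5 F110867) D155916
theorem E97905 : n179220 = n155786 := (c3_2 F338749 D179220 (iv6 D155786) (iv2 F338746))
theorem F338752 : act 2 n155786 = n85531 := (sb E97905 (iv2 D179220))
theorem F338753 : act 7 n155786 = n85532 := (sb E97905 (iv7 F279148))
theorem F338754 : act 6 n179221 = n93440 := d7_2 F338749 D179221 (iv3 F338747)
theorem E97906 : n180650 = n126864 := ((c21_7 D67632 D144351 F227086 F338745 (iv1 F189628) F321639 D126864 (iv1 F281193) (iv5 F334092) F214327 (iv1 D67631))).symm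
theorem F338755 : act 0 n126864 = n164016 := (sb E97906 (iv1 F281193))
theorem F338756 : act 1 n126864 = n86293 := (sb E97906 (iv0 D180650))
theorem E97907 : n180651 = n78719 := (c15_2 F338756 D180651 F324015 F323135)
theorem E97908 : n163870 = n86293 := ((D163870).symm.trans (sb E97907 (iv1 D180651)))
theorem E97909 : n164016 = n163871 := (((D163871).symm.trans (sb E97907 F281188))).symm
theorem F338757 : act 1 n86293 = n78719 := (sb E97908 (iv0 D163870))
theorem F338758 : act 1 n163871 = n126864 := (sb E97909 (iv0 F338755))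
theorem F338759 : act 2 n163871 = n180653 := (sb E97909 (iv2 F281191))
theorem F338760 : act 5 n163871 = n129495 := (sb E97909 (iv5 F334092))
theorem F338761 : act 6 n163871 = n79905 := (sb E97909 F330291)
theorem F338762 : act 7 n163871 = n78798 := (sb E97909 (iv7 D164016))
theorem E97910 : n180652 = n129494 := (c17_8 D60849 (iv5 F203399) F203401 (iv5 D59532) D59531 D126864 F338756 D180652 (iv0 D129494) (iv4 D60851))
theorem F338763 : act 2 n129494 = n164015 := (sb E97910 F281189)
theorem F338764 : act 5 n129494 = n86293 := (sb E97910 (iv5 D180652))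
theorem F338765 : act 6 n129494 = n86297 := (sb E97910 F281190)
theorem E97911 : n163206 = n86297 := (c21_5 D107717 F325005 F323699 F322042 D163206 (iv6 F338765) F338764 (iv1 F338756) (iv5 D126864) (iv6 F321639) F321637)
theorem E97912 : n180665 = n78444 := ((D180665).symm.trans (sb E97911 (iv0 D163206)))
theorem F338766 : act 0 n78444 = n86297 := (sb E97912 (iv1 D180665))
theorem E97913 : n180657 = n107616 := (c17_4 F338766 (iv5 D86297) D86295 D180657 F166045 F78559 F78562 D59626 (iv0 F101935) (iv4 F321404))
theorem E97914 : n121074 = n86295 := (((iv5 F335986)).symm.trans (sb E97913 (iv5 D180657)))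
theorem E97915 : n159329 = n78415 := (((iv1 F254469)).symm.trans (sb E97914 (iv1 F193099)))
theorem E97916 : n78414 = n39929 := ((((iv0 D86295)).symm.trans (sb E97914 F193097))).symm
theorem E97917 : n180654 = n55869 := ((D180654).symm.trans (sb E97914 (iv2 D121074)))
theorem E97918 : n180655 = n78408 := ((D180655).symm.trans (sb E97914 F193095))
theorem F338767 : act 5 n86295 = n107616 := (sb E97914 F335986)
theorem E97919 : n180658 = n124645 := ((D180658).symm.trans (sb E97914 (iv6 F199390)))
theorem E97920 : n180659 = n78416 := ((D180659).symm.trans (sb E97914 F193096))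
theorem E97921 : n86296 = n35736 := ((((iv1 D78415)).symm.trans (sb E97915 (iv1 F254467)))).symm
theorem F338768 : act 1 n78415 = n86295 := (sb E97915 F254469)
theorem E97922 : n163090 = n86298 := (((iv2 F257415)).symm.trans (sb E97915 F254465))
theorem E97923 : n163094 = n86314 := ((D163094).symm.trans (sb E97915 F254491))
theorem E97924 : n163085 = n76216 := ((F257414).symm.trans (sb E97915 (iv7 D159329)))
theorem E97925 : n163086 = n86282 := ((((iv3 F132248)).symm.trans (sb E97916 D163086))).symm
theorem F338769 : act 2 n55869 = n86295 := (sb E97917 (iv2 D180654))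
theorem F338770 : act 3 n78408 = n86295 := (sb E97918 (iv3 D180655))
theorem F338771 : act 6 n124645 = n86295 := (sb E97919 (iv6 D180658))
theorem F338772 : act 7 n78416 = n86295 := (sb E97920 (iv7 D180659))
theorem F338773 : act 0 n35736 = n39929 := (sb E97921 (iv1 D86296))
theorem F338774 : act 2 n86298 = n78415 := (sb E97922 F257415)
theorem F338775 : act 6 n86314 = n78415 := (sb E97923 (iv6 D163094))
theorem F338776 : act 7 n76216 = n78415 := (sb E97924 (iv7 F257414))
theorem E97933 : n177559 = n166601 := ((((iv4 F262198)).symm.trans (sb E97925 F277006))).symm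
theorem F338777 : act 0 n166601 = n84582 := (sb E97933 (iv1 D177559))
theorem F338778 : act 1 n166601 = n163020 := (sb E97933 F277005)
theorem E97934 : n163864 = n92198 := ((c21_4 F55013 (iv1 F55915) F250815 D92198 (iv1 D163864) F119859 (iv5 F119634) F338766 (iv5 D86297) (iv6 D39929) (iv1 F55015))).symm
theorem F338779 : act 0 n92198 = n78717 := (sb E97934 (iv1 D163864))
theorem F338780 : act 7 n163207 = n138244 := d15_2 (iv0 F338766) D163207 F336485
theorem F338781 : act 2 n121105 = n180664 := d15_3 (iv0 D180664) (iv0 F338766) (iv7 F193135)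
theorem F338782 : act 3 n180664 = n163199 := d0_2 D121105 F338781 (iv2 D163199) (iv3 D78442) F88385
theorem F338783 : act 4 n180664 = n127073 := d1_2 (iv4 F323020) F338781 (iv2 F204308)
theorem F338784 : act 5 n180664 = n124473 := d2_2 (iv5 F193134) F338781 (iv2 D124473)
theorem F338785 : act 6 n180664 = n136350 := d3_2 (iv6 F323021) F338781 (iv2 F219435)
theorem F338786 : act 7 n180664 = n136725 := d4_2 (iv7 F193135) F338781 F323016
theorem E97935 : n174212 = n174211 := ((c16_5 F338783 F204306 (iv4 F219882) F323017 (iv4 F272999) (iv5 D174212) F128344 (iv5 F119634) (iv7 F193135) F338781)).symm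
theorem F338787 : act 3 n174211 = n83273 := (sb E97935 F273000)
theorem F338788 : act 5 n174211 = n83272 := (sb E97935 (iv5 D174212))
theorem F338789 : act 5 n174210 = n176884 := d17_7 (iv1 F336478) (iv5 F336482) (iv1 F247414) F323017 (iv4 F272999) F338788 D174210 F336525 (iv4 D121075)
theorem F338790 : act 7 n176883 = n174210 := d13_0 F338789 (iv7 D176884) D176883
theorem F338791 : act 5 n159325 = n177526 := d18_4 (iv1 F336524) (iv4 D163095) F336480 (iv4 F250823) (iv4 D177526) (iv0 D84570) (iv4 F128344) D174210 F338789
theorem F338792 : act 2 n177526 = n180644 := d2_1 F338791 (iv5 D180644) (iv2 F254463)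
theorem E97936 : n177527 = n107747 := (c16_4 (iv4 F250823) F338791 (iv4 D177526) D177527 (iv4 F166383) (iv5 F219834) (iv4 F227084) F336482 (iv7 D86298) F254288)
theorem F338793 : act 5 n107747 = n84570 := (sb E97936 (iv5 D177527))
theorem E97937 : n177524 = n127063 := ((c16_9 D177526 (iv5 F338791) F250823 (iv5 F336486) (iv4 D138244) (iv5 D64933) D64932 D138242 F221424 (iv2 D177524))).symm
theorem F338794 : act 2 n127063 = n84570 := (sb E97937 (iv2 D177524))
theorem E97938 : n138242 = n84571 := (((iv7 F221424)).symm.trans (sb E97937 (iv7 F276970)))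
theorem E97939 : n177529 = n127060 := (((iv2 F276971)).symm.trans (sb E97938 F221423))
theorem E97940 : n177532 = n64932 := ((D177532).symm.trans (sb E97938 (iv5 D138242)))
theorem F338795 : act 7 n84571 = n127063 := (sb E97938 F221424)
theorem F338796 : act 2 n127060 = n84571 := (sb E97939 F276971)
theorem F338797 : act 7 n127060 = n84570 := (sb E97939 (iv7 D177529))
theorem F338798 : act 5 n64932 = n84571 := (sb E97940 (iv5 D177532))
theorem F338799 : act 2 n163207 = n144348 := d16_9 F227084 F219834 F166383 F338793 D177526 (iv5 F338791) F250823 (iv5 F336486) (iv7 F338780)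
theorem F338800 : act 4 n136251 = n163207 := d1_0 F338799 F227084 F219832
theorem E97941 : n163207 = n163093 := ((c2_1 D163093 F338799 F336482 F338774)).symm
theorem F338801 : act 0 n163093 = n78444 := (sb E97941 (iv1 D163207))
theorem F338802 : act 2 n163093 = n144348 := (sb E97941 F338799)
theorem F338803 : act 4 n163093 = n136251 := (sb E97941 (iv4 F338800))
theorem F338804 : act 7 n163093 = n138244 := (sb E97941 F338780)
theorem F338805 : act 6 n126705 = n163093 := d10_0 F338803 F219286 (iv4 F203907)
theorem F338806 : act 4 n127063 = n180644 := d16_4 F338803 (iv5 D136251) F99645 D127063 (iv5 D180644) F132252 D86297 (iv7 F336483) (iv2 F338802)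
theorem F338807 : act 2 n180645 = n163092 := d16_9 (iv4 D163092) D163093 F338803 (iv5 D136251) F99645 D127063 F338806 (iv5 D180644) D180645
theorem F338808 : act 0 n180664 = n163093 := d18_2 D127073 (iv4 F338783) F338803 (iv5 D136251) F99645 F166047 F166045 F78562 D59626
theorem F338809 : act 4 n122834 = n144727 := d20_2 (iv4 F325444) (iv1 F306511) (iv3 D144727) (iv1 F204163) F204311 (iv4 F338783) F338808 F338803 F219283 (iv1 F99751)
theorem F338810 : act 6 n117497 = n122834 := d10_0 F338809 F227570 (iv4 F328030)
theorem F338811 : act 4 n136029 = n154075 := d18_1 F221473 (iv1 F242130) F306106 D122834 F338809 (iv0 F227572) F220138 (iv0 F220141) D138272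
theorem F338812 : act 7 n150114 = n136029 := d11_0 F338811 F242133 (iv4 F236264)
theorem F338813 : act 3 n131488 = n99369 := d20_5 F338811 (iv1 F242130) F306106 (iv3 F196809) F308200 (iv4 F195697) D174052 F272800 (iv3 F324306) F221473
theorem F338814 : act 0 n99369 = n160343 := d20_4 (iv4 F215523) (iv1 D131490) (iv4 F210756) F338813 (iv3 D160343) F115393 (iv1 F123174) F123178 (iv3 F311977) (iv1 F239834)
theorem E97942 : n172818 = n158792 := ((c20_7 F195697 F338814 F253249 F123231 (iv1 F57414) D77371 (iv4 F298788) (iv1 D172818) (iv4 F298845) F298844 (iv1 F156789))).symm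
theorem F338815 : act 0 n158792 = n82739 := (sb E97942 (iv1 D172818))
theorem F338816 : act 2 n100498 = n160343 := d15_3 (iv0 F338814) F272802 F287002
theorem F338817 : act 1 n100501 = n160343 := d15_0 (iv0 F338814) (iv7 F333413) (iv2 F333418)
theorem F338818 : act 5 n98501 = n160343 := d21_0 (iv1 F338817) (iv5 F157829) (iv6 D102628) (iv1 D47596) (iv6 D22886) (iv5 D10811) F35584 D22390 (iv6 F72641) D98501
theorem F338819 : act 6 n174789 = n100498 := d3_0 F338816 (iv6 F301811) F301808
theorem F338820 : act 5 n98949 = n174789 := d21_2 D46300 (iv1 F152492) F338819 F333416 F333412 (iv5 F272842) (iv1 F136729) F72645 (iv6 F91587) F91584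
theorem F338821 : act 5 n100420 = n179761 := d6_2 F338820 F273613 (iv3 F287076)
theorem F338822 : act 2 n179763 = n100420 := d2_3 F338821 (iv2 D179761) D179763
theorem F338823 : act 7 n179761 = n100419 := d13_2 D100420 F338821 (iv5 D100419)
theorem F338824 : act 0 n124819 = n100434 := d17_2 (iv1 F304449) D124819 F154487 (iv4 F154481) F338821 F281967 (iv5 D98897) F92427 F304337
theorem F338825 : act 2 n100419 = n125125 := d4_1 F338823 F201032 D179761
theorem F338826 : act 1 n179760 = n100419 := d15_1 D179760 (iv7 F338823) (iv2 D179761)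
theorem F338827 : act 1 n100419 = n179759 := d15_0 (iv0 D179759) (iv7 F201032) (iv2 F338825)
theorem E97943 : n179759 = n177819 := (c17_7 D123209 F310661 (iv1 D100432) (iv5 D46869) (iv4 F74082) D100419 F338827 (iv5 D177819) (iv0 D84666) (iv4 F90541))
theorem F338828 : act 0 n177819 = n100419 := (sb E97943 (iv1 F338827))
theorem F338829 : act 1 n177819 = n85863 := (sb E97943 (iv0 D179759))
theorem E97944 : n179760 = n177824 := (c15_2 F338829 D179760 F281964 F281961)
theorem F338830 : act 0 n177824 = n85863 := (sb E97944 (iv1 D179760))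
theorem F338831 : act 1 n177824 = n100419 := (sb E97944 F338826)
theorem E97945 : n179815 = n177825 := ((c21_10 (iv5 F195865) F304685 (iv5 D72651) (iv6 D33530) F52825 D46866 D100419 (iv1 F338831) (iv5 D177824) D177825 (iv1 D179815))).symm
theorem F338832 : act 0 n177825 = n85879 := (sb E97945 (iv1 D179815))
theorem F338833 : act 4 n100395 = n179763 := d1_0 F338822 F154481 (iv2 F154418)
theorem F338834 : act 1 n179763 = n100417 := d15_0 (iv0 D100417) D100420 (iv2 F338822)
theorem F338835 : act 0 n99542 = n171091 := d20_10 (iv4 F268814) (iv1 F338834) (iv4 F338833) F154419 (iv1 F87876) D76073 F313766 F312995 F125418 (iv3 F153295)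
theorem F338836 : act 1 n99542 = n150112 := d15_1 (iv0 F338835) F236259 (iv2 F268813)
theorem E97946 : n135403 = n100423 := (c20_11 (iv4 D100423) (iv1 F154423) F338833 F279985 F300556 F312878 (iv4 D49852) D49850 (iv4 F108157) D151995 F239014)
theorem F338837 : act 1 n100423 = n151995 := (sb E97946 (iv0 F239014))
theorem F338838 : act 3 n100423 = n63653 := (sb E97946 (iv3 D135403))
theorem F338839 : act 7 n100423 = n152168 := (sb E97946 (iv7 F239245))
theorem F338840 : act 0 n179763 = n100418 := d20_7 F51877 F155246 (iv4 F87878) (iv3 D55568) D55566 (iv3 F154419) F338833 (iv4 F236258) (iv3 D150112) (iv1 D70640)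
theorem F338841 : act 0 n100429 = n98887 := d17_2 (iv1 F154422) D100429 (iv5 D98887) F72940 D46281 D98900 (iv5 F307381) (iv0 F338840) (iv4 F338833)
theorem F338842 : act 3 n100428 = n150085 := d20_9 F107179 F310483 D108266 (iv3 F312687) (iv1 F300557) (iv3 F279985) (iv4 F338833) (iv1 F154422) D100428 F274422
theorem F338843 : act 2 n152168 = n100428 := d0_5 F338842 (iv2 F312669) (iv3 D135393) F214179 D152168
theorem F338844 : act 6 n150083 = n100428 := d7_0 F338842 (iv6 D150085) D150083
theorem F338845 : act 0 n100428 = n151995 := d20_4 (iv4 F222366) F314140 (iv4 F236181) (iv3 F338842) (iv3 D151995) F108157 (iv1 F78834) (iv4 F78855) (iv3 F79091) D108277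
theorem F338846 : act 4 n100426 = n152168 := d1_0 F338843 (iv4 D100428) (iv2 F154483)
theorem F338847 : act 3 n152166 = n100426 := d5_5 F338846 (iv3 D152168) (iv4 D71762) D71761 D152166
theorem E97947 : n100426 = n100393 := ((c20_8 F191559 (iv1 F315460) F98983 (iv3 F323427) F301803 F273613 F154481 (iv1 F154414) F338846 (iv3 D152168) (iv1 F315465))).symm
theorem F338848 : act 2 n100393 = n46868 := (sb E97947 F154483)
theorem F338849 : act 3 n100393 = n152166 := (sb E97947 (iv3 F338847))
theorem F338850 : act 4 n100393 = n152168 := (sb E97947 F338846)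
theorem F338851 : act 7 n100393 = n46867 := (sb E97947 (iv7 D100426))
theorem E97948 : n135401 = n100422 := ((c8_2 F338851 D100422 (iv7 F239241) (iv3 F338849))).symm
theorem F338852 : act 0 n100422 = n132770 := (sb E97948 F217638)
theorem F338853 : act 1 n100422 = n132759 := (sb E97948 F217639)
theorem F338854 : act 4 n100422 = n63652 := (sb E97948 (iv4 D135401))
theorem F338855 : act 7 n100422 = n152166 := (sb E97948 (iv7 F239241))
theorem F338856 : act 2 n152166 = n104181 := d4_1 F338855 F308568 (iv2 F265230)
theorem F338857 : act 6 n157625 = n152166 := d3_0 F338856 F307397 D157625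
theorem F338858 : act 4 n135355 = n184035 := d16_6 (iv4 D152166) F211941 (iv4 F209679) F217584 F217582 D135355 (iv5 D184035) (iv7 F308568) (iv2 F338856)
theorem F338859 : act 3 n184040 = n135357 := d5_3 F338858 F285985 D184040 (iv4 D135357) (iv3 F217604)
theorem F338860 : act 4 n152167 = n157625 := d10_3 F338857 (iv4 D152166) D152167
theorem F338861 : act 2 n157618 = n152167 := d1_3 F338860 (iv2 D157625) (iv4 F248370)
theorem F338862 : act 6 n152165 = n157618 := d3_0 F338861 (iv6 D152167) D152165
theorem F338863 : act 0 n153589 = n157618 := d21_4 (iv5 F161729) F161731 (iv5 F109151) D153589 (iv6 F338862) F239237 (iv1 D129296) F319008 (iv6 D123579) (iv1 F94816)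
theorem F338864 : act 1 n100429 = n179846 := d15_1 (iv0 F338841) (iv7 F301729) F197505
theorem E97949 : n184047 = n123770 := (c20_7 D57764 D123989 F304462 (iv3 F280080) (iv1 F338864) (iv3 F265227) D184047 (iv1 D123770) (iv4 D57688) F44457 D27575)
theorem F338865 : act 4 n123770 = n87792 := (sb E97949 (iv4 D184047))
theorem F338866 : act 5 n171152 = n123770 := d16_1 F333014 F338865 (iv5 D87792) F304666 (iv5 D58376) D58375 D124859 F316987 (iv2 F316134)
theorem F338867 : act 3 n123770 = n108465 := d19_3 (iv1 F75771) D87792 (iv4 F338865) F327318 F191931 (iv4 D57764) D57763 (iv1 F314887) (iv5 D123913) (iv4 F314886) (iv3 D62796) (iv1 F54018) (iv5 D28548) F50976 (iv3 F53984) (iv1 F26676) (iv5 F27118) D34338 F307760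
theorem F338868 : act 4 n125111 = n100429 := d5_4 (iv4 F338865) F338867 F327321 (iv3 F201003) (iv3 F265227)
theorem F338869 : act 6 n108463 = n123770 := d7_0 F338867 (iv6 D108465) (iv3 F167698)
theorem F338870 : act 7 n177833 = n123770 := d8_0 F338867 F327323 D177833
theorem F338871 : act 4 n104178 = n177833 := d11_3 F338870 F338865 (iv7 F308566)
theorem F338872 : act 2 n177833 = n123769 := d15_3 (iv0 D123769) D123770 (iv7 F338870)
theorem E97950 : n184040 = n123769 := ((c16_10 (iv4 D184040) (iv5 D87787) F304664 (iv5 D58371) D58370 D124843 F333014 F338866 (iv7 F338870) F338872)).symm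
theorem F338873 : act 3 n123769 = n135357 := (sb E97950 F338859)
theorem F338874 : act 4 n123769 = n87787 := (sb E97950 (iv4 D184040))
theorem F338875 : act 3 n177828 = n104178 := d5_5 F338871 (iv3 D177833) (iv4 D84670) (iv3 F129903) D177828
theorem F338876 : act 1 n177833 = n123694 := d18_6 (iv1 D41084) (iv4 F60999) D86521 F238654 D104178 F338871 (iv4 D123694) F306663 (iv5 D88011)
theorem F338877 : act 5 n100392 = n177828 := d6_0 F338875 (iv5 D104178) (iv3 F238655)
theorem F338878 : act 7 n100429 = n177828 := d8_0 F338875 F308566 F265227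
theorem F338879 : act 1 n98901 = n98887 := d15_0 (iv0 F338841) F338878 F277352
theorem E97951 : n100424 = n98901 := ((c2_2 F338877 F277352 (iv5 D100424) (iv2 F308563))).symm
theorem F338880 : act 5 n98901 = n46867 := (sb E97951 (iv5 D100424))
theorem E97952 : n141206 = n98872 := (c21_5 F105781 (iv1 D30950) D30952 D66236 D141206 (iv6 F277353) (iv5 F338877) (iv1 F154421) (iv5 F154487) (iv6 F334425) (iv1 F180561))
theorem F338881 : act 1 n98872 = n66236 := (sb E97952 (iv0 D141206))
theorem E97953 : n141207 = n91022 := (c15_2 F338881 D141207 (iv7 F294928) (iv2 F152431))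
theorem F338882 : act 0 n91022 = n66236 := (sb E97953 (iv1 D141207))
theorem F338883 : act 4 n100432 = n125125 := d17_9 (iv1 F281966) (iv5 D98897) (iv1 D46280) D46281 D98901 F338880 (iv0 D46867) D46869 D100432
theorem F338884 : act 0 n98901 = n179846 := d21_1 (iv5 F338880) (iv5 D179846) (iv6 F302829) (iv1 D73331) F301611 F44595 (iv1 D10687) D10689 D22513 D46867
theorem F338885 : act 5 n98899 = n100417 := d17_7 D46867 (iv5 F338880) F338884 (iv5 D179846) (iv4 F304337) D125111 F201006 (iv0 D100417) F74082
theorem E97954 : n179762 = n124819 := (c17_5 D98899 F338885 (iv1 F338834) (iv5 D179763) D179762 (iv5 D124819) F304449 D179846 (iv0 F338884) (iv4 D98901))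
theorem F338886 : act 4 n124819 = n85863 := (sb E97954 (iv4 D179762))
theorem E97955 : n179767 = n124821 := (c5_4 F338886 (iv3 D85863) D85864 D179767 (iv4 D124821) (iv3 F200490))
theorem F338887 : act 3 n124821 = n85864 := (sb E97955 (iv3 D179767))
theorem F338888 : act 7 n100432 = n124819 := d11_0 F338886 (iv7 F201032) (iv4 F338883)
theorem F338889 : act 5 n100433 = n124808 := d16_3 F74082 D46869 D100433 F200480 D124819 F338886 D179763 (iv7 F300553) F154411
theorem F338890 : act 3 n124809 = n100433 := d6_3 F338889 (iv3 D124808) D124809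
theorem F338891 : act 4 n100513 = n124809 := d5_0 F338890 (iv4 D100433) F74083 D46892 D100513
theorem F338892 : act 6 n100456 = n124809 := d7_0 F338890 F154485 D100456
theorem F338893 : act 0 n91128 = n100456 := d21_4 (iv5 D91121) (iv1 D42671) D42673 D91128 F338892 (iv5 D124809) (iv1 F155116) D101540 (iv6 F295438) (iv1 F338445)
theorem F338894 : act 0 n179741 = n100513 := d18_2 (iv1 F201026) D179741 F338891 (iv5 D124809) (iv4 D58356) D58354 F133068 F92437 D125120
theorem F338895 : act 2 n124819 = n100431 := d15_3 (iv0 D100431) D100432 F338888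
theorem F338896 : act 4 n100431 = n179761 := d1_2 (iv4 F338886) F338895 (iv2 D179761)
theorem F338897 : act 5 n100431 = n123210 := d2_2 D124819 F338895 (iv2 F197504)
theorem F338898 : act 3 n125126 = n184056 := d8_3 (iv7 F309405) F338887 (iv7 F201034)
theorem F338899 : act 0 n179764 = n98914 := d21_4 F338885 (iv1 F338834) (iv5 D179763) D179764 (iv6 D98914) (iv5 D46286) (iv1 D22136) D22137 (iv6 F72942) D98899
theorem F338900 : act 4 n184048 = n108463 := d10_3 F338869 F338865 D184048
theorem F338901 : act 3 n135071 = n184048 := d5_5 F338900 F167698 F79278 (iv3 F98811) D135071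
theorem F338902 : act 7 n136550 = n184048 := d11_0 F338900 (iv7 F167873) (iv4 F219645)
theorem F338903 : act 5 n135902 = n184048 := d19_1 (iv1 F218616) F338900 F167698 (iv1 F101247) (iv5 D65527) (iv4 D30711) (iv3 F46399) F46401 (iv5 D16498) F19520 D11327 F19521 D12039 D25352 D52197 D113089 F176179 (iv4 F218594) F218593
theorem F338904 : act 6 n153294 = n135902 := d12_0 F338903 (iv6 D184048) (iv5 D87792) (iv6 F306691) D153294
theorem E97956 : n136542 = n135902 := (c13_1 F219641 F338903 (iv7 F338902) (iv5 D136550))
theorem F338905 : act 2 n135902 = n64193 := (sb E97956 (iv2 D136542))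
theorem F338906 : act 7 n135902 = n64194 := (sb E97956 (iv7 F219641))
theorem F338907 : act 2 n136545 = n184048 := d2_3 (iv5 F338903) F338905 D136545
theorem F338908 : act 6 n104183 = n136545 := d3_0 F338907 (iv6 D184048) (iv2 F308569)
theorem E97957 : n136546 = n75047 := (c12_3 F338908 (iv5 D136545) D136546 (iv5 D75047) F307399 D104183)
theorem E97958 : n157629 = n64193 := ((D157629).symm.trans (sb E97957 (iv6 D136546)))
theorem F338909 : act 6 n64193 = n75047 := (sb E97958 (iv6 D157629))
theorem F338910 : act 0 n184073 = n136545 := d21_4 (iv5 F133586) (iv1 F292375) (iv5 F293422) D184073 (iv6 F338908) (iv5 D104183) (iv1 D48207) D48208 F75767 D48211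
theorem F338911 : act 0 n184057 = n136557 := d21_4 (iv5 D72849) (iv1 F199699) F308577 D184057 (iv6 D136557) (iv5 D64196) D64193 D136545 (iv6 F338908) F307398
theorem F338912 : act 1 n184073 = n136550 := d15_1 (iv0 F338910) F338902 (iv2 F338907)
theorem F338913 : act 6 n157626 = n136543 := d7_2 F338909 (iv3 F248385) (iv3 D136543)
theorem F338914 : act 6 n157628 = n136544 := d10_2 F338909 D157628 (iv4 D136544)
theorem F338915 : act 7 n136551 = n157637 := d14_2 F338906 D136551 (iv6 D157637) (iv7 F240850) F338904
theorem E97959 : n136547 = n135901 := (c15_4 (iv0 D135901) D135902 F338906 (iv2 F219643))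
theorem F338916 : act 2 n135901 = n64194 := (sb E97959 F219643)
theorem F338917 : act 7 n135901 = n64193 := (sb E97959 (iv7 D136547))
theorem F338918 : act 5 n135905 = n154589 := d21_6 (iv5 D72433) (iv1 F155552) D153294 F338904 (iv1 D135902) D135905 (iv1 D154589) D154590 F242659 F109944
theorem F338919 : act 3 n154589 = n135907 := d6_1 F338918 (iv5 D135907) (iv3 F218620)
theorem F338920 : act 6 n100429 = n135071 := d7_0 F338901 (iv6 D184048) F265227
theorem E97960 : n120474 = n120391 := ((c20_4 (iv4 F236258) (iv1 F338836) (iv4 F252709) F252708 (iv1 D120474) (iv3 D55460) (iv4 F91405) (iv1 F90016) (iv4 F300559) (iv3 F279985) F338840)).symm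
theorem F338921 : act 0 n120391 = n55460 := (sb E97960 (iv1 D120474))
theorem F338922 : act 0 n98878 = n124378 := d21_7 F307381 (iv1 D98900) (iv5 D46281) (iv6 D22134) D22131 D46275 D98878 (iv5 F301780) F301781 F338840
theorem F338923 : act 4 n123277 = n98877 := d17_9 (iv1 D98877) D98878 F338922 (iv5 F301780) F196514 F328066 D115960 F327045 F197565
theorem F338924 : act 6 n157634 = n102603 := d21_3 (iv5 F301780) F196515 D157634 (iv1 D102603) (iv6 D47588) (iv5 D22883) (iv1 F66885) D46850 (iv6 F152440) F338922
theorem E97961 : n136121 = n75062 := (c7_3 F338924 F333119 D136121 (iv3 F248392))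
theorem E97962 : n153297 = n64713 := (((iv2 F240859)).symm.trans (sb E97961 F219118))
theorem E97963 : n157637 = n64013 := ((D157637).symm.trans (sb E97961 (iv6 D136121)))
theorem E97964 : n181422 = n137661 := (((D137661).symm.trans (sb E97962 F330113))).symm
theorem F338925 : act 2 n64713 = n75062 := (sb E97962 F240859)
theorem E97965 : n137663 = n72420 := ((D137663).symm.trans (sb E97962 (iv5 D153297)))
theorem E97966 : n137664 = n75047 := ((D137664).symm.trans (sb E97962 F240860))
theorem F338926 : act 6 n64013 = n75062 := (sb E97963 (iv6 D157637))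
theorem E97967 : n136551 = n30445 := (((F176462).symm.trans (sb E97963 (iv7 F338915)))).symm
theorem F338927 : act 0 n137661 = n153294 := (sb E97964 (iv1 F308575))
theorem F338928 : act 5 n137661 = n86612 := (sb E97964 (iv5 D181422))
theorem F338929 : act 5 n72420 = n64713 := (sb E97965 (iv5 D137663))
theorem F338930 : act 7 n75047 = n64713 := (sb E97966 (iv7 D137664))
theorem E97968 : n64718 = n64194 := ((D64718).symm.trans (sb E97967 (iv6 D136551)))
theorem E97971 : n136117 = n135901 := ((((iv2 F338916)).symm.trans (sb E97968 (iv2 F219084)))).symm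
theorem E97972 : n137669 = n136548 := (((D136548).symm.trans (sb E97968 (iv3 F220836)))).symm
theorem E97973 : n137671 = n136549 := (((D136549).symm.trans (sb E97968 (iv4 F220839)))).symm
theorem F338931 : act 6 n64194 = n30445 := (sb E97968 (iv6 D64718))
theorem F338932 : act 6 n135901 = n64012 := (sb E97971 (iv6 D136117))
theorem F338933 : act 6 n136548 = n64715 := (sb E97972 (iv6 D137669))
theorem E97976 : n141814 = n108534 := (((F219644).symm.trans (sb E97973 (iv3 F224828)))).symm
theorem F338934 : act 6 n136549 = n64716 := (sb E97973 (iv6 D137671))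
theorem F338935 : act 6 n108534 = n66489 := (sb E97976 (iv6 D141814))
theorem F338936 : act 7 n137654 = n157626 := d8_2 F338930 (iv3 F220823) F248385
theorem F338937 : act 7 n137659 = n157628 := d11_2 F338930 (iv4 F220831) (iv4 D157628)
theorem F338938 : act 5 n157636 = n138751 := d16_1 D157636 F316710 (iv5 D84501) (iv4 F309671) (iv5 D34376) D34375 D75047 F338930 F338925
theorem F338939 : act 4 n153294 = n141882 := d16_0 (iv5 D141882) (iv4 F181491) F322070 F309636 (iv5 D72421) D72420 F338929 (iv7 F338930) (iv2 F240849)
theorem F338940 : act 2 n141882 = n157628 := d1_1 F338939 (iv4 D157628) (iv2 F240849)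
theorem F338941 : act 5 n137659 = n124860 := d9_10 D153294 F338939 (iv5 D141882) (iv4 F181491) F322070 F309636 (iv5 D72421) D72420 F338929 (iv4 F220831) F200539 F311846 (iv4 F311843) (iv5 D72417) D72416
theorem F338942 : act 7 n141882 = n157636 := d11_2 (iv7 F240850) F338939 (iv4 D157636)
theorem E97977 : n141883 = n138751 := (c16_9 F200539 F311846 (iv4 F311843) (iv5 D72417) D72416 D153294 F338939 (iv5 D141882) D141883 (iv2 F316988))
theorem F338943 : act 7 n138751 = n66522 := (sb E97977 (iv7 D141883))
theorem F338944 : act 5 n141881 = n153292 := d17_7 F109944 (iv5 D72433) (iv1 F155552) D153294 F338939 (iv5 D141882) D141881 (iv0 F242671) (iv4 D154596)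
theorem F338945 : act 0 n141882 = n101345 := d18_2 F338927 F338939 (iv4 D101345) (iv5 D47177) D47176 F308266 (iv4 F109281) F308289 (iv5 F338928)
theorem F338946 : act 1 n141882 = n101328 := d18_6 (iv1 D72411) F52716 D33433 D72416 D153294 F338939 (iv4 D101328) D101327 F307564
theorem F338947 : act 2 n124865 = n116388 := d16_9 F181491 D141882 (iv4 F338939) (iv5 D153294) (iv4 D72416) D72417 F311843 (iv5 F311846) D124865
theorem F338948 : act 3 n142735 = n124865 := d0_0 F338947 F181490 F102856 (iv3 F102874) (iv2 F225639)
theorem F338949 : act 4 n116090 = n124865 := d1_0 F338947 F181491 (iv2 F180876)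
theorem F338950 : act 6 n116089 = n124865 := d3_0 F338947 (iv6 D116388) (iv2 F180870)
theorem F338951 : act 1 n116388 = n124862 := d15_0 (iv0 D124862) D124865 F338947
theorem F338952 : act 1 n124865 = n177360 := d15_0 (iv0 D177360) (iv7 F322071) (iv2 F338947)
theorem F338953 : act 5 n116090 = n157628 := d16_1 (iv4 F338949) (iv4 D157628) (iv5 D75047) (iv4 D34375) D34376 F309671 D84501 (iv7 F322071) (iv2 F338947)
theorem F338954 : act 6 n136556 = n115770 := d12_4 D116090 F338953 F338914 F219648 F180363
theorem F338955 : act 7 n124860 = n116090 := d13_0 F338953 (iv7 F338937) F338941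
theorem F338956 : act 2 n137659 = n157636 := d16_9 (iv4 D157636) (iv5 D75062) (iv4 D34380) D34381 D75064 (iv5 F200552) (iv4 F338949) F338953 (iv7 F338937)
theorem E97978 : n143922 = n116090 := (c17_3 (iv1 F242859) F319708 D143922 F338953 (iv4 D157628) (iv5 D75047) (iv0 F112576) D153180 (iv0 F241823) (iv4 F242858))
theorem F338957 : act 1 n116090 = n67430 := (sb E97978 (iv0 D143922))
theorem E97979 : n143923 = n138751 := (c15_2 F338957 D143923 F338943 (iv2 F180876))
theorem F338958 : act 0 n138751 = n67430 := (sb E97979 (iv1 D143923))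
theorem F338959 : act 0 n138816 = n127334 := d18_0 F315956 F109509 D75064 (iv5 F200552) (iv4 F338949) F338957 F103290 (iv0 F317019) D138816
theorem E97980 : n143542 = n142735 := ((c20_4 (iv4 F103290) (iv1 F338957) F338949 (iv3 F338948) (iv1 D143542) (iv3 D67225) D67226 (iv1 F321334) F222282 F221989 F317019)).symm
theorem F338960 : act 0 n142735 = n67225 := (sb E97980 (iv1 D143542))
theorem F338961 : act 4 n108286 = n119286 := d18_5 F338960 D143544 F226249 F167231 D108286 F187752 (iv4 F188276) F314161 (iv5 F322336)
theorem E97981 : n170093 = n143545 := ((c21_3 (iv5 F322336) F338960 D143545 (iv6 D170093) (iv1 D81579) (iv6 D37271) D37270 (iv1 F58227) (iv5 F71076) D96631 F309920)).symm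
theorem F338962 : act 0 n143545 = n131073 := (sb E97981 (iv1 F333424))
theorem F338963 : act 1 n143545 = n157434 := (sb E97981 (iv0 F333417))
theorem F338964 : act 2 n143545 = n180840 := (sb E97981 (iv2 F333423))
theorem E97982 : n118785 = n67227 := (((F226251).symm.trans (sb E97981 F333427))).symm
theorem F338965 : act 4 n143545 = n131573 := (sb E97981 (iv4 F333421))
theorem F338966 : act 6 n143545 = n81579 := (sb E97981 (iv6 D170093))
theorem E97983 : n143554 = n71427 := ((D143554).symm.trans (sb E97982 F305884))
theorem E97984 : n143555 = n54687 := ((D143555).symm.trans (sb E97982 (iv0 D118785)))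
theorem E97985 : n143539 = n71691 := (((iv2 F226246)).symm.trans (sb E97982 F305885))
theorem E97986 : n139222 = n31278 := ((((iv5 D67227)).symm.trans (sb E97982 (iv5 F333277)))).symm
theorem E97987 : n143558 = n71690 := ((D143558).symm.trans (sb E97982 F305886))
theorem E97988 : n118786 = n67232 := (((iv1 F305887)).symm.trans (sb E97983 (iv1 F226262)))
theorem F338967 : act 1 n71427 = n67227 := (sb E97983 (iv0 D143554))
theorem F338968 : act 0 n54687 = n67227 := (sb E97984 (iv1 D143555))
theorem F338969 : act 2 n71691 = n67227 := (sb E97985 F226246)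
theorem E97989 : n152070 = n67224 := ((D152070).symm.trans (sb E97985 (iv5 D143539)))
theorem E97990 : n67224 = n65349 := ((D67224).symm.trans (sb E97986 F222413))
theorem E97991 : n67229 = n65348 := ((D67229).symm.trans (sb E97986 (iv7 D139222)))
theorem F338970 : act 7 n71690 = n67227 := (sb E97987 (iv7 D143558))
theorem F338971 : act 0 n67232 = n54687 := (sb E97988 (iv1 D118786))
theorem F338972 : act 1 n67232 = n71427 := (sb E97988 F305887)
theorem F338973 : act 2 n67232 = n71690 := (sb E97988 F305888)
theorem E97992 : n139217 = n31279 := ((((iv5 D67232)).symm.trans (sb E97988 (iv5 F333275)))).symm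
theorem E97993 : n155693 = n143574 := (((D143574).symm.trans (sb E97988 F305889))).symm
theorem F338974 : act 7 n67232 = n71691 := (sb E97988 F305890)
theorem E97994 : n152070 = n65349 := (E97989).trans E97990
theorem E97995 : n139225 = n71691 := ((D139225).symm.trans (sb E97994 (iv5 D152070)))
theorem F338975 : act 2 n65349 = n31278 := (sb E97990 (iv2 D67224))
theorem E97998 : n143537 = n139223 := (((D139223).symm.trans (sb E97990 D143537))).symm
theorem E97999 : n143538 = n139224 := (((D139224).symm.trans (sb E97990 D143538))).symm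
theorem E98000 : n143540 = n139226 := (((D139226).symm.trans (sb E97990 D143540))).symm
theorem E98001 : n143547 = n139218 := (((D139218).symm.trans (sb E97991 (iv3 F226253)))).symm
theorem E98002 : n143553 = n139219 := (((D139219).symm.trans (sb E97991 (iv4 F226257)))).symm
theorem E98003 : n143563 = n139221 := (((D139221).symm.trans (sb E97991 D143563))).symm
theorem F338976 : act 7 n65348 = n31278 := (sb E97991 (iv7 D67229))
theorem F338977 : act 2 n31279 = n65348 := (sb E97992 (iv2 D139217))
theorem F338978 : act 7 n31279 = n65349 := (sb E97992 (iv7 F222412))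
theorem F338979 : act 2 n143574 = n152066 := (sb E97993 F252480)
theorem F338980 : act 5 n143574 = n74064 := (sb E97993 (iv5 D155693))
theorem F338981 : act 5 n71691 = n65349 := (sb E97995 (iv5 D139225))
theorem F338982 : act 7 n139223 = n67230 := (sb E97998 F226243)
theorem F338983 : act 2 n139224 = n67226 := (sb E97999 F226244)
theorem F338984 : act 7 n139224 = n67231 := (sb E97999 F226245)
theorem F338985 : act 2 n139226 = n67228 := (sb E98000 F226248)
theorem F338986 : act 7 n139218 = n67225 := (sb E98001 (iv7 D143547))
theorem F338987 : act 2 n139219 = n67231 := (sb E98002 F226256)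
theorem F338988 : act 7 n139219 = n67226 := (sb E98002 (iv7 D143553))
theorem F338989 : act 2 n139221 = n67233 := (sb E98003 F226265)
theorem E98004 : n155694 = n143577 := ((c2_3 F224051 F338989 D143577 F333270)).symm
theorem F338990 : act 2 n143577 = n141048 := (sb E98004 F333270)
theorem F338991 : act 6 n143577 = n74064 := (sb E98004 (iv6 D155694))
theorem F338992 : act 7 n143577 = n141049 := (sb E98004 (iv7 F333268))
theorem E98005 : n143578 = n142314 := ((c15_2 F333274 D142314 (iv7 D143578) (iv2 F338989))).symm
theorem F338993 : act 7 n142314 = n67233 := (sb E98005 (iv7 D143578))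
theorem F338994 : act 1 n179170 = n109856 := d15_0 (iv0 F226269) F338992 F333267
theorem F338995 : act 1 n141046 = n179170 := d15_0 F338994 F169842 (iv2 F224046)
theorem E98006 : n143576 = n142308 := ((c21_1 (iv5 F321219) (iv1 D143576) D143577 F338991 (iv1 D74064) (iv6 D33989) (iv5 F46284) D60445 F94967 (iv6 F186942) F233203)).symm
theorem F338996 : act 0 n142308 = n67233 := (sb E98006 (iv1 D143576))
theorem F338997 : act 7 n143544 = n141359 := d11_2 F338986 D143544 (iv4 F224409)
theorem F338998 : act 7 n143545 = n152063 := d13_2 F338986 D143545 (iv5 F333276)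
theorem F338999 : act 2 n152063 = n148963 := d4_1 F338998 F281538 (iv2 F338964)
theorem E98007 : n180841 = n152063 := (c15_2 (iv0 D180840) D180841 (iv7 F338998) F338964)
theorem F339000 : act 0 n152063 = n86375 := (sb E98007 (iv1 D180841))
theorem F339001 : act 0 n107943 = n152064 := d20_1 (iv4 F166808) (iv4 D152064) D152063 F339000 F132399 (iv4 F296399) (iv1 F297586) D76854 (iv3 F309200) (iv1 D107945)
theorem F339002 : act 0 n124857 = n139218 := d21_10 F333276 F339000 (iv5 F308517) (iv6 D153567) (iv1 F241291) (iv6 F241295) F314335 F314140 (iv5 D124856) D124857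
theorem E98008 : n157432 = n152063 := ((c15_1 (iv0 F339000) (iv0 D157432) D157434 F307671)).symm
theorem F339003 : act 1 n152063 = n74886 := (sb E98008 (iv0 D157432))
theorem E98009 : n180840 = n157433 := ((c15_2 F339003 D157433 (iv7 F281538) (iv2 F338999))).symm
theorem F339004 : act 1 n157433 = n86375 := (sb E98009 (iv0 D180840))
theorem F339005 : act 2 n157433 = n143545 := (sb E98009 (iv2 F338964))
theorem F339006 : act 3 n157433 = n148898 := (sb E98009 F281536)
theorem F339007 : act 4 n157433 = n164520 := (sb E98009 F281537)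
theorem F339008 : act 7 n157433 = n148963 := (sb E98009 (iv7 F281538))
theorem E98010 : n142742 = n139218 := ((c21_1 (iv5 F333276) (iv1 D142742) (iv5 F322337) D84473 (iv1 F316655) (iv6 D61659) (iv5 D29223) D29221 (iv5 F54474) D74886 (iv1 F339003))).symm
theorem F339009 : act 0 n139218 = n66916 := (sb E98010 (iv1 D142742))
theorem F339010 : act 5 n99572 = n139219 := d19_17 F339009 (iv5 F322337) (iv4 F116297) (iv3 D77472) (iv1 F56081) (iv5 F56173) (iv4 F322792) (iv3 F318617) (iv1 F100906) (iv5 F104447) (iv4 F324235) (iv3 F304832) (iv1 F128881) (iv5 D83873) F59440 (iv3 F73560) (iv1 F153312) (iv4 D139219) D139218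
theorem F339011 : act 7 n124857 = n142735 := d15_2 (iv0 F339009) (iv0 F339002) F225639
theorem E98011 : n143543 = n142741 := (c15_4 (iv0 D142741) (iv0 F339009) F338986 D143543)
theorem F339012 : act 2 n142741 = n67225 := (sb E98011 (iv2 D143543))
theorem F339013 : act 5 n157433 = n142741 := d2_0 F339012 D143545 (iv2 F339005)
theorem F339014 : act 3 n142741 = n155689 := d6_1 F339013 (iv5 F307338) (iv3 F339006)
theorem F339015 : act 6 n157433 = n153275 := d21_3 F322337 D142741 (iv5 F339013) (iv1 D153275) F308395 (iv5 F58221) (iv1 F83526) F83523 D54973 (iv1 F316597)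
theorem F339016 : act 6 n110348 = n164520 := d10_2 F339015 (iv4 F332192) (iv4 F339007)
theorem F339017 : act 3 n139241 = n110348 := d7_3 F339016 (iv3 D164520) (iv6 F309291)
theorem F339018 : act 5 n164520 = n110345 := d12_1 F339016 (iv6 D110345) (iv5 D50884) D50885 D110348
theorem F339019 : act 0 n164520 = n108359 := d21_4 F333437 (iv1 D110347) D110348 F339016 (iv6 D108359) (iv5 F96327) F96328 F96325 D131407 F232875
theorem F339020 : act 0 n119482 = n110345 := d21_1 D119482 (iv5 F339018) (iv6 F339016) F332190 (iv6 D54965) (iv5 D26583) (iv1 D12707) D12708 D26588 D54974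
theorem F339021 : act 0 n131571 = n164520 := d21_4 F120307 F129486 F306566 D131571 (iv6 F339016) (iv5 D110348) D110346 (iv5 F333436) F305208 F127924
theorem F339022 : act 3 n100112 = n108360 := d20_9 (iv4 F210820) F339021 (iv4 F339007) F339006 F307337 F114909 (iv4 F307749) (iv1 D100110) D100112 (iv1 F167541)
theorem F339023 : act 4 n108360 = n100115 := d5_2 D100112 F339022 (iv3 D100115) (iv4 D46734) D46733
theorem F339024 : act 0 n127860 = n100112 := d20_4 (iv4 F209846) F307169 (iv4 F307178) (iv3 F205741) F339022 F339023 (iv1 F194826) (iv4 F307672) F247973 F209848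
theorem F339025 : act 0 n100112 = n183292 := d20_10 F284948 F335235 F307746 (iv3 F307745) F307744 (iv3 F209793) (iv4 F310625) F194825 (iv4 F339023) (iv3 F339022)
theorem F339026 : act 0 n153530 = n150083 := d20_4 D100112 F339025 F284948 F268712 (iv3 D150083) (iv4 F232758) (iv1 F185497) F185493 (iv3 F232755) (iv1 D100110)
theorem F339027 : act 0 n157564 = n143556 := d20_7 (iv4 F310625) F194825 (iv4 F339023) (iv3 F339022) F339025 F284947 (iv4 F248316) (iv4 D143556) (iv3 F226251) F338962
theorem E98012 : n157598 = n157564 := (c20_5 F240481 (iv1 F205752) F215532 D75024 D157598 (iv3 F252706) F252707 F339026 (iv4 F308573) F308572 (iv1 F240484))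
theorem F339028 : act 1 n157564 = n75024 := (sb E98012 (iv0 D157598))
theorem F339029 : act 2 n153286 = n143556 := d15_3 (iv0 F339027) F339028 (iv7 F240833)
theorem F339030 : act 0 n183292 = n184242 := d20_10 (iv4 D184242) (iv1 F232753) F307749 (iv3 F114909) (iv1 F307339) (iv3 F248351) (iv4 D157601) (iv1 F339028) F248316 (iv3 F284947)
theorem E98013 : n151594 = n136662 := (c20_3 F248316 (iv1 F307731) (iv4 F309882) F219811 (iv1 F219276) F319000 F240481 (iv1 F205752) F215532 D75024 (iv1 F339028))
theorem F339031 : act 0 n136662 = n71689 := (sb E98013 F309881)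
theorem F339032 : act 1 n136662 = n71458 := (sb E98013 (iv0 D151594))
theorem F339033 : act 4 n136662 = n108369 := (sb E98013 F309882)
theorem E98014 : n122667 = n64875 := (((F219812).symm.trans (sb E98013 F309883))).symm
theorem E98015 : n138057 = n56982 := ((D138057).symm.trans (sb E98014 (iv1 D122667)))
theorem E98016 : n138058 = n107950 := ((D138058).symm.trans (sb E98014 (iv0 F309875)))
theorem E98017 : n151595 = n137871 := ((((iv2 F221087)).symm.trans (sb E98014 (iv2 F309880)))).symm
theorem E98018 : n138059 = n74795 := ((D138059).symm.trans (sb E98014 F307862))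
theorem F339034 : act 1 n56982 = n64875 := (sb E98015 (iv0 D138057))
theorem F339035 : act 0 n107950 = n64875 := (sb E98016 (iv1 D138058))
theorem F339036 : act 0 n137871 = n71458 := (sb E98017 (iv1 D151595))
theorem F339037 : act 1 n137871 = n71689 := (sb E98017 F309879)
theorem F339038 : act 3 n137871 = n76821 := (sb E98017 F312080)
theorem F339039 : act 4 n137871 = n80468 := (sb E98017 F312081)
theorem F339040 : act 6 n137871 = n170675 := (sb E98017 F312082)
theorem F339041 : act 7 n137871 = n76859 := (sb E98017 F312083)
theorem F339042 : act 4 n74795 = n64875 := (sb E98018 (iv4 D138059))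
theorem F339043 : act 4 n138046 = n139914 := d10_3 F314534 F339042 (iv6 F221299)
theorem F339044 : act 4 n143592 = n181768 := d16_6 F339042 (iv5 D64875) F48894 D31280 D67236 D143592 (iv5 F282933) (iv7 F311409) (iv2 F313842)
theorem E98019 : n143592 = n64873 := (c16_8 D138054 F316241 F339042 (iv5 D64875) F48894 D31280 D67236 D143592 D138052 F221301)
theorem E98020 : n181768 = n138049 := (((D138049).symm.trans (sb E98019 F339044))).symm
theorem E98021 : n138050 = n67236 := ((D138050).symm.trans (sb E98019 (iv5 D143592)))
theorem F339045 : act 0 n138049 = n86812 := (sb E98020 (iv1 D181768))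
theorem F339046 : act 2 n138049 = n127294 := (sb E98020 F333279)
theorem F339047 : act 5 n138049 = n107945 := (sb E98020 (iv5 F282933))
theorem F339048 : act 6 n138049 = n139205 := (sb E98020 F282934)
theorem F339049 : act 5 n67236 = n64873 := (sb E98021 (iv5 D138050))
theorem F339050 : act 4 n139061 = n138055 := d16_0 (iv5 D138055) D138054 F316241 F339042 (iv5 D64875) F48894 D31280 (iv7 F101055) (iv2 F222227)
theorem E98022 : n174827 = n138055 := ((c17_8 (iv1 F185617) F313323 (iv1 F316239) F316241 F339042 (iv5 D64875) D64874 D138055 (iv0 F301976) F301977)).symm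
theorem F339051 : act 0 n138055 = n118071 := (sb E98022 F273703)
theorem F339052 : act 1 n138055 = n124179 := (sb E98022 (iv0 F301976))
theorem F339053 : act 3 n138055 = n83517 := (sb E98022 (iv3 D174827))
theorem F339054 : act 7 n138055 = n124316 := (sb E98022 F273702)
theorem F339055 : act 0 n122668 = n124318 := d17_2 (iv1 F339034) D122668 (iv5 D124318) F91688 D84346 F311370 (iv5 F305313) F305311 F339042
theorem F339056 : act 0 n153286 = n107943 := d20_10 F166808 (iv1 F247541) F339042 F100700 D64926 (iv3 F322842) F108751 F186861 F108928 D153286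
theorem E98023 : n160348 = n136598 := ((c9_8 D64875 (iv4 F339042) (iv5 F316241) (iv4 D138054) D138055 (iv4 F339050) (iv5 D139061) (iv4 F219680) (iv5 D160348) (iv4 F309201) (iv5 F339047) (iv4 D138049) (iv5 F339049) (iv4 D67236) (iv5 D31280) (iv4 F48894))).symm
theorem F339057 : act 3 n136598 = n76860 := (sb E98023 F253257)
theorem F339058 : act 5 n136598 = n76859 := (sb E98023 (iv5 D160348))
theorem F339059 : act 5 n153286 = n139094 := d18_9 F321333 (iv4 D67231) (iv1 D31279) (iv4 F48894) D64875 (iv4 F339042) F247541 (iv4 F166808) (iv0 F339056)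
theorem F339060 : act 3 n139094 = n101326 := d6_1 F339059 F304670 D153286
theorem E98024 : n143072 = n75024 := (c13_4 (iv7 F240833) F339059 F324399 D143072)
theorem E98025 : n157602 = n67048 := ((D157602).symm.trans (sb E98024 (iv5 D143072)))
theorem E98026 : n143067 = n75026 := (((iv3 F225921)).symm.trans (sb E98025 F248353))
theorem F339061 : act 5 n67048 = n75024 := (sb E98025 (iv5 D157602))
theorem F339062 : act 3 n75026 = n67048 := (sb E98026 F225921)
theorem E98027 : n157604 = n137686 := ((D157604).symm.trans (sb E98026 F225922))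
theorem E98028 : n157605 = n67046 := ((D157605).symm.trans (sb E98026 (iv6 D143067)))
theorem F339063 : act 4 n137686 = n75026 := (sb E98027 (iv4 D157604))
theorem F339064 : act 6 n67046 = n75026 := (sb E98028 (iv6 D157605))
theorem E98029 : n153286 = n152069 := ((c18_4 F339036 (iv4 F186731) F305875 D152069 F339059 F222282 (iv0 F333285) F219810 F219809 D137871)).symm
theorem F339065 : act 0 n152069 = n107943 := (sb E98029 F339056)
theorem F339066 : act 2 n152069 = n143556 := (sb E98029 F339029)
theorem F339067 : act 3 n152069 = n72410 := (sb E98029 (iv3 D153286))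
theorem E98030 : n148955 = n71691 := ((((iv4 D152069)).symm.trans (sb E98029 F240832))).symm
theorem F339068 : act 5 n152069 = n139094 := (sb E98029 F339059)
theorem F339069 : act 7 n152069 = n75024 := (sb E98029 F240833)
theorem E98031 : n152068 = n69827 := ((D152068).symm.trans (sb E98030 (iv3 D148955)))
theorem E98032 : n157601 = n67232 := ((((iv7 F338974)).symm.trans (sb E98030 (iv7 F248352)))).symm
theorem F339070 : act 3 n69827 = n71691 := (sb E98031 (iv3 D152068))
theorem E98033 : n148901 = n143568 := ((((iv3 F226266)).symm.trans (sb E98032 F248351))).symm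
theorem E98034 : n143573 = n75024 := ((D143573).symm.trans (sb E98032 (iv4 D157601)))
theorem F339071 : act 0 n143568 = n76592 := (sb E98033 F233964)
theorem F339072 : act 1 n143568 = n76627 := (sb E98033 F307339)
theorem F339073 : act 2 n143568 = n69832 := (sb E98033 F234067)
theorem F339074 : act 4 n143568 = n69796 := (sb E98033 (iv4 D148901))
theorem E98035 : n179150 = n67230 := ((((iv5 D143568)).symm.trans (sb E98033 F307340))).symm
theorem F339075 : act 6 n143568 = n150653 := (sb E98033 (iv6 F237193))
theorem F339076 : act 7 n143568 = n69827 := (sb E98033 (iv7 F234064))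
theorem F339077 : act 4 n75024 = n67232 := (sb E98034 (iv4 D143573))
theorem E98036 : n143564 = n85506 := ((D143564).symm.trans (sb E98035 F279097))
theorem E98037 : n143565 = n85498 := ((D143565).symm.trans (sb E98035 (iv0 D179150)))
theorem E98038 : n143566 = n85504 := ((D143566).symm.trans (sb E98035 F279098))
theorem E98039 : n143569 = n141049 := ((D143569).symm.trans (sb E98035 F333266))
theorem E98040 : n139223 = n85505 := (((iv7 F338982)).symm.trans (sb E98035 (iv7 F279096)))
theorem F339078 : act 1 n85506 = n67230 := (sb E98036 (iv0 D143564))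
theorem F339079 : act 0 n85498 = n67230 := (sb E98037 (iv1 D143565))
theorem F339080 : act 2 n85504 = n67230 := (sb E98038 (iv2 D143566))
theorem F339081 : act 3 n141049 = n67233 := (sb E98039 F226267)
theorem F339082 : act 6 n141049 = n67230 := (sb E98039 (iv6 D143569))
theorem E98041 : n179171 = n65349 := ((D179171).symm.trans (sb E98040 (iv3 D139223)))
theorem F339083 : act 7 n85505 = n67230 := (sb E98040 F338982)
theorem F339084 : act 3 n65349 = n85505 := (sb E98041 (iv3 D179171))
theorem F339085 : act 3 n151375 = n139226 := d7_3 (iv6 D139226) F339084 F252467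
theorem F339086 : act 5 n99571 = n139224 := d19_1 D99571 (iv4 D139224) F339084 (iv1 D85505) F313853 (iv4 F305977) F305976 (iv1 D55110) (iv5 F303897) (iv4 F209818) (iv3 F311398) F304255 (iv5 F304258) F309129 (iv3 F98083) F307169 (iv5 D40152) (iv4 F35250) (iv3 F73537)
theorem E98042 : n179172 = n141390 := ((c20_2 (iv4 F102248) D141390 (iv4 D179172) (iv3 F339084) (iv1 D65349) F49105 F24172 (iv1 F20480) D26026 D53841 F321519)).symm
theorem F339087 : act 4 n141390 = n85505 := (sb E98042 (iv4 D179172))
theorem F339088 : act 4 n136660 = n167677 := d20_2 (iv4 F100036) D136660 F263959 F322808 F102244 (iv4 F102248) D141390 F339087 (iv3 F339084) (iv1 D65349)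
theorem F339089 : act 5 n123240 = n136660 := d16_1 (iv4 F316528) F339088 (iv5 D167677) (iv4 F339039) (iv5 D137871) F100641 D66999 (iv7 F222228) F222227
theorem F339090 : act 1 n167677 = n176965 := d18_8 (iv1 D84345) (iv4 F91688) D124316 F319520 (iv5 D66999) (iv4 F100641) F219808 F339088 (iv5 D176965)
theorem F339091 : act 0 n167677 = n137895 := d20_1 F339088 F221128 F220726 (iv1 F329871) F327698 (iv4 D64054) (iv1 F48571) (iv4 F48640) (iv3 F100035) D136660
theorem F339092 : act 5 n136661 = n124316 := d9_10 D167677 (iv4 F339088) (iv5 F339089) F316528 (iv5 D65350) (iv4 F100036) D136662 F339033 (iv5 F333278) F219810 F319520 (iv5 D66999) (iv4 F100641) D137871 F339039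
theorem F339093 : act 2 n138054 = n167677 := d16_9 (iv4 F339088) (iv5 F339089) F316528 (iv5 D65350) (iv4 F100036) D136662 F339033 (iv5 F333278) (iv7 F333281)
theorem E98043 : n177669 = n151596 := ((c17_4 (iv1 F219808) D137871 F339036 D151596 F277106 (iv5 F185623) F185626 (iv5 F333283) (iv0 F339091) (iv4 F339088))).symm
theorem E98044 : n153327 = n84609 := (((iv3 F240890)).symm.trans (sb E98043 (iv3 D177669)))
theorem F339094 : act 4 n151596 = n84617 := (sb E98043 F277106)
theorem F339095 : act 3 n84609 = n151596 := (sb E98044 F240890)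
theorem E98045 : n177670 = n72443 := ((D177670).symm.trans (sb E98044 (iv5 D153327)))
theorem E98046 : n177671 = n114268 := ((D177671).symm.trans (sb E98044 F240891))
theorem F339096 : act 5 n72443 = n84609 := (sb E98045 (iv5 D177670))
theorem F339097 : act 4 n114268 = n84610 := (sb E98046 F277107)
theorem F339098 : act 6 n114268 = n84609 := (sb E98046 (iv6 D177671))
theorem F339099 : act 5 n152064 = n137529 := d18_4 F339031 F108174 D71690 D152064 (iv4 F221128) (iv0 F339091) (iv4 F339088) (iv0 D136660) D136662
theorem E98047 : n157600 = n152064 := (c2_4 F339099 F220725 F339061 D157600)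
theorem F339100 : act 2 n152064 = n75024 := (sb E98047 (iv2 D157600))
theorem F339101 : act 3 n101140 = n152064 := d6_3 F339099 F220726 (iv5 F329873)
theorem E98048 : n176959 = n99571 := (c16_5 D152064 F339099 (iv4 F221128) F333283 D176959 F339086 (iv4 D139224) (iv5 F338981) (iv7 F338974) F338973)
theorem F339102 : act 4 n99571 = n84344 := (sb E98048 (iv4 D176959))
theorem E98049 : n176964 = n99572 := (c16_1 D176964 F339010 (iv4 D139219) (iv5 F333273) D152064 F339099 (iv4 F221128) F333283 D176962 F276308)
theorem F339103 : act 4 n99572 = n84345 := (sb E98049 (iv4 D176964))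
theorem F339104 : act 1 n137529 = n99620 := d17_6 (iv1 D139228) (iv5 D65350) D65348 (iv5 F333273) D152064 F339099 (iv5 D99620) F153320 F332517
theorem E98050 : n176965 = n138809 := (c9_7 (iv5 F339099) (iv4 D152064) F333273 D139219 (iv5 F339010) F339103 D176965 (iv4 F222282) (iv5 F339068) (iv4 D152069) F338981 D139224 (iv5 F339086) F339102 (iv5 F333283) F221128)
theorem F339105 : act 0 n138809 = n167677 := (sb E98050 (iv1 F339090))
theorem E98051 : n148960 = n84345 := ((F312149).symm.trans (sb E98050 (iv5 D176965)))
theorem E98052 : n176962 = n118135 := (((iv2 F276308)).symm.trans (sb E98051 (iv2 F313322)))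
theorem F339106 : act 5 n84345 = n138809 := (sb E98051 (iv5 F312149))
theorem E98053 : n176966 = n69828 := ((D176966).symm.trans (sb E98051 (iv6 D148960)))
theorem F339107 : act 2 n118135 = n84345 := (sb E98052 F276308)
theorem F339108 : act 7 n118135 = n84344 := (sb E98052 (iv7 D176962))
theorem F339109 : act 6 n69828 = n84345 := (sb E98053 (iv6 D176966))
theorem F339110 : act 7 n152064 = n143556 := d16_8 (iv4 D152069) F338981 D139224 (iv5 F339086) F339102 (iv5 F333283) F221128 (iv5 F339099) (iv2 F339066)
theorem E98054 : n143556 = n101137 := (c8_1 F339110 F155842 D101140 F339101)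
theorem F339111 : act 1 n101137 = n157564 := (sb E98054 (iv0 F339027))
theorem F339112 : act 2 n101137 = n152069 := (sb E98054 (iv2 F339066))
theorem F339113 : act 4 n101137 = n67227 := (sb E98054 (iv4 D143556))
theorem F339114 : act 7 n101137 = n152064 := (sb E98054 (iv7 F339110))
theorem F339115 : act 7 n101769 = n137529 := d13_2 (iv7 F339114) (iv5 F156640) (iv5 F339099)
theorem F339116 : act 1 n157599 = n101137 := d15_1 D157599 F339114 F339100
theorem E98055 : n157599 = n151994 := (c20_2 (iv4 F339113) (iv1 F339116) F239011 F166789 (iv1 F209858) (iv3 D61828) F207985 (iv1 F48269) F302753 (iv3 F86506) F338968)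
theorem F339117 : act 0 n151994 = n75024 := (sb E98055 (iv1 D157599))
theorem F339118 : act 1 n151994 = n101137 := (sb E98055 F339116)
theorem F339119 : act 7 n157564 = n107943 := d15_2 F339118 F339111 (iv2 F239010)
theorem F339120 : act 0 n101769 = n139219 := d18_0 (iv4 D139219) (iv1 F101052) (iv4 F100641) D137871 F339039 (iv0 F313841) (iv4 F239011) F339118 (iv5 F156640)
theorem E98056 : n181767 = n101769 := (c18_2 F339045 (iv4 F282930) F339120 (iv4 D139219) (iv5 F333273) D152064 (iv0 F339001) F166808 D107945 (iv5 F339047))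
theorem F339121 : act 4 n101769 = n86812 := (sb E98056 F282930)
theorem F339122 : act 6 n101769 = n86810 := (sb E98056 (iv6 D181767))
theorem E98057 : n177205 = n138049 := (c20_10 (iv4 F339121) F339120 (iv4 D139219) D139218 F339009 F102874 (iv4 F102878) D142747 F322339 D177205 F339045)
theorem F339123 : act 3 n138049 = n84434 := (sb E98057 (iv3 D177205))
theorem E98058 : n154267 = n99572 := ((c21_3 (iv5 F156640) F339120 (iv5 F339010) (iv6 D154267) (iv1 D73085) (iv6 D33670) D33669 (iv1 F107807) (iv5 F112540) D157564 (iv1 F339111))).symm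
theorem F339124 : act 6 n99572 = n73085 := (sb E98058 (iv6 D154267))
theorem F339125 : act 1 n101769 = n139224 := d15_1 (iv0 F339120) F338984 (iv2 F338987)
theorem E98059 : n143071 = n139219 := (c15_1 D143071 (iv0 F339120) F339115 F220725)
theorem F339126 : act 0 n139219 = n67048 := (sb E98059 (iv1 D143071))
theorem F339127 : act 4 n159402 = n99573 := d17_4 (iv1 F316239) F316241 (iv1 F305311) F305313 (iv5 D99573) D99572 F339010 (iv0 F339120) F339121
theorem E98060 : n155933 = n99624 := ((c1_3 F339127 F153313 D99624 (iv2 F251003))).symm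
theorem F339128 : act 0 n99624 = n74160 := (sb E98060 (iv1 D155933))
theorem F339129 : act 1 n99624 = n159401 := (sb E98060 F251002)
theorem F339130 : act 2 n99624 = n159402 := (sb E98060 (iv2 F251003))
theorem F339131 : act 5 n99624 = n87494 := (sb E98060 F307733)
theorem E98061 : n127963 = n46576 := (((F153366).symm.trans (sb E98060 F307734))).symm
theorem F339132 : act 7 n99624 = n107946 := (sb E98060 (iv7 F244922))
theorem E98062 : n120099 = n99675 := (((D99675).symm.trans (sb E98061 F305729))).symm
theorem E98063 : n127968 = n99676 := (((D99676).symm.trans (sb E98061 F305730))).symm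
theorem E98064 : n127970 = n99587 := ((((iv2 F153330)).symm.trans (sb E98061 (iv2 F306825)))).symm
theorem E98065 : n99678 = n60119 := ((D99678).symm.trans (sb E98061 (iv5 D127963)))
theorem E98066 : n99679 = n76254 := ((D99679).symm.trans (sb E98061 F305731))
theorem F339133 : act 0 n99675 = n60122 := (sb E98062 F191380)
theorem F339134 : act 2 n99675 = n159408 := (sb E98062 (iv2 F251026))
theorem F339135 : act 3 n99675 = n55259 := (sb E98062 (iv3 D120099))
theorem F339136 : act 4 n99675 = n118851 := (sb E98062 F189723)
theorem F339137 : act 5 n99675 = n70454 := (sb E98062 F189720)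
theorem F339138 : act 6 n99675 = n58548 := (sb E98062 F189721)
theorem F339139 : act 7 n99675 = n70966 := (sb E98062 F189722)
theorem F339140 : act 1 n99676 = n60122 := (sb E98063 (iv0 D127968))
theorem F339141 : act 2 n99676 = n70966 := (sb E98063 (iv2 F205940))
theorem F339142 : act 3 n99676 = n153692 := (sb E98063 F241563)
theorem F339143 : act 4 n99676 = n118850 := (sb E98063 (iv4 F237073))
theorem F339144 : act 5 n99676 = n119781 := (sb E98063 (iv5 F307709))
theorem F339145 : act 6 n99676 = n166049 := (sb E98063 (iv6 F333286))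
theorem F339146 : act 7 n99676 = n159408 := (sb E98063 (iv7 F251022))
theorem F339147 : act 0 n99587 = n159408 := (sb E98064 (iv1 F251021))
theorem F339148 : act 1 n99587 = n70966 := (sb E98064 F241492)
theorem F339149 : act 3 n99587 = n60154 := (sb E98064 F205942)
theorem F339150 : act 5 n99587 = n60123 := (sb E98064 F205943)
theorem F339151 : act 6 n99587 = n159402 := (sb E98064 (iv6 F251006))
theorem F339152 : act 7 n99587 = n60122 := (sb E98064 (iv7 D127970))
theorem F339153 : act 5 n60119 = n46576 := (sb E98065 (iv5 D99678))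
theorem E98067 : n159407 = n46577 := (((iv4 F251018)).symm.trans (sb E98066 F153488))
theorem F339154 : act 7 n76254 = n46576 := (sb E98066 (iv7 D99679))
theorem E98068 : n118842 = n99586 := ((((iv1 F153329)).symm.trans (sb E98067 F251020))).symm
theorem E98069 : n118847 = n99585 := (((F153334).symm.trans (sb E98067 (iv0 F251019)))).symm
theorem E98070 : n127969 = n99588 := ((((iv2 F153331)).symm.trans (sb E98067 F251017))).symm
theorem F339155 : act 4 n46577 = n76254 := (sb E98067 F251018)
theorem E98071 : n99680 = n76253 := ((D99680).symm.trans (sb E98067 (iv6 D159407)))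
theorem F339156 : act 4 n99586 = n54702 := (sb E98068 (iv4 D118842))
theorem F339157 : act 4 n99585 = n54703 := (sb E98069 (iv4 D118847))
theorem F339158 : act 4 n99588 = n60122 := (sb E98070 (iv4 D127969))
theorem F339159 : act 6 n99588 = n60125 := (sb E98070 F205941)
theorem E98072 : n159405 = n46616 := ((D159405).symm.trans (sb E98071 F153489))
theorem F339160 : act 6 n76253 = n46577 := (sb E98071 (iv6 D99680))
theorem F339161 : act 3 n46616 = n76253 := (sb E98072 (iv3 D159405))
theorem E98073 : n144190 = n89452 := ((((iv4 F137116)).symm.trans (sb E98072 (iv4 F323189)))).symm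
theorem F339162 : act 3 n89452 = n67550 := (sb E98073 (iv3 D144190))
theorem F339163 : act 7 n99573 = n159400 := d11_2 D159402 F339127 F250997
theorem E98074 : n177668 = n154577 := ((c20_4 (iv4 F248368) (iv1 F248369) (iv4 D154596) (iv3 F242641) (iv1 D177668) F339095 F339094 (iv1 F309225) F339127 F153314 F304947)).symm
theorem F339164 : act 0 n154577 = n84609 := (sb E98074 (iv1 D177668))
theorem E98075 : n174810 = n73269 := (c17_1 D174810 D154577 F339164 (iv5 F339096) (iv4 F240889) F300660 F318158 F315960 F128605 D83512)
theorem E98076 : n154575 = n83517 := ((D154575).symm.trans (sb E98075 (iv1 F273691)))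
theorem E98077 : n154576 = n83512 := ((D154576).symm.trans (sb E98075 (iv0 D174810)))
theorem F339165 : act 1 n83517 = n73269 := (sb E98076 (iv0 D154575))
theorem F339166 : act 0 n83512 = n73269 := (sb E98077 (iv1 D154576))
theorem E98078 : n177659 = n83502 := (c18_4 F339164 (iv4 D84609) D84607 D177659 (iv5 D83502) F59345 D38500 D83517 F339165 D154577)
theorem E98079 : n174783 = n84607 := ((D174783).symm.trans (sb E98078 (iv4 D177659)))
theorem F339167 : act 4 n84607 = n83502 := (sb E98079 (iv4 D174783))
theorem F339168 : act 4 n100757 = n177657 := d1_2 F339167 (iv2 F154850) (iv2 D177657)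
theorem E98080 : n170686 = n84607 := (c10_1 (iv6 F268192) F339167 (iv6 F153212) F327675)
theorem E98081 : n177657 = n176119 := ((D177657).symm.trans (sb E98080 (iv2 F275371)))
theorem E98082 : n177660 = n81821 := ((D177660).symm.trans (sb E98080 (iv5 D170686)))
theorem E98083 : n177661 = n81823 := ((D177661).symm.trans (sb E98080 F268192))
theorem F339169 : act 2 n176119 = n84607 := (sb E98081 (iv2 D177657))
theorem F339170 : act 4 n176119 = n100757 := (sb E98081 (iv4 F339168))
theorem F339171 : act 7 n176119 = n84608 := (sb E98081 (iv7 F277104))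
theorem F339172 : act 5 n81821 = n84607 := (sb E98082 (iv5 D177660))
theorem F339173 : act 6 n81823 = n84607 := (sb E98083 (iv6 D177661))
theorem F339174 : act 4 n101715 = n177662 := d11_3 (iv7 D177662) F339167 (iv7 F324287)
theorem F339175 : act 4 n174849 = n177665 := d16_6 F339167 (iv5 D83502) F59345 D38501 D83522 D174849 (iv5 D177665) (iv7 F339171) F339169
theorem F339176 : act 5 n159215 = n170683 := d16_1 (iv4 F250713) F268191 F339172 F339167 (iv5 D83502) F59345 D38501 D83523 F318160
theorem F339177 : act 5 n99710 = n177664 := d9_8 D83502 (iv4 F339167) (iv5 F339172) (iv4 F268191) (iv5 F339176) F250713 F315960 (iv4 F321038) (iv4 D177664) D177665 (iv4 F339175) (iv5 D174849) (iv4 D83522) (iv5 D38501) (iv4 F59345)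
theorem F339178 : act 7 n177664 = n100757 := d16_8 (iv4 F339167) (iv5 F339172) (iv4 F268191) (iv5 F339176) F250713 F315960 (iv4 F321038) F339177 F154850
theorem F339179 : act 2 n162799 = n177665 := d16_9 (iv4 F339175) (iv5 D174849) (iv4 D83522) (iv5 D38501) (iv4 F59345) D83502 (iv4 F339167) (iv5 F339172) (iv7 F333800)
theorem F339180 : act 5 n177662 = n162799 := d2_0 F339179 (iv5 D177665) (iv2 F277105)
theorem F339181 : act 7 n177665 = n158348 := d4_2 (iv7 F333800) F339179 F249489
theorem E98084 : n177665 = n177508 := (c15_4 F276963 F333806 (iv7 F333800) F339179)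
theorem F339182 : act 2 n177508 = n162799 := (sb E98084 (iv2 F339179))
theorem F339183 : act 4 n177508 = n174849 := (sb E98084 (iv4 F339175))
theorem F339184 : act 5 n177508 = n84608 := (sb E98084 (iv5 D177665))
theorem F339185 : act 7 n177508 = n158348 := (sb E98084 F339181)
theorem F339186 : act 6 n172572 = n177508 := d14_5 F339185 (iv6 D158348) F113343 D82612 D172572
theorem F339187 : act 0 n125372 = n172572 := d21_4 F248725 (iv1 F60826) (iv5 F92767) D125372 F339186 F339184 (iv1 D84608) (iv5 D39074) F29792 D34430
theorem F339188 : act 0 n172572 = n124666 := d21_4 D177597 (iv1 F277059) (iv5 F339184) (iv6 F339186) (iv6 D124666) (iv5 F199413) (iv1 F277089) (iv5 D177625) (iv6 D84598) D84593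
theorem F339189 : act 0 n175020 = n113482 := d21_7 F329144 (iv1 F128603) (iv5 F128625) (iv6 F320350) (iv1 F276963) (iv6 F339186) (iv5 F273923) (iv5 D113482) (iv6 F325716) F333774
theorem F339190 : act 1 n173378 = n113482 := d15_0 (iv0 F339189) (iv7 D175020) (iv2 F271858)
theorem F339191 : act 1 n122468 = n124666 := d15_0 (iv0 F339188) (iv7 D172572) (iv2 F195934)
theorem F339192 : act 1 n125372 = n122468 := d15_0 F339191 F199415 (iv2 F201644)
theorem F339193 : act 5 n177612 = n174847 := d17_1 D177612 (iv1 D174847) D174849 (iv4 F339183) F339184 F277059 (iv5 D177597) (iv0 D84593) D84596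
theorem F339194 : act 2 n101715 = n177664 := d16_9 (iv4 D177664) (iv5 F339184) F339183 (iv5 D174849) (iv4 D83522) (iv5 D38501) (iv4 F59345) D83502 (iv7 F324287)
theorem F339195 : act 2 n174850 = n159215 := d16_9 F250713 F315960 (iv4 F321038) F339177 (iv4 D177664) (iv5 F339184) F339183 (iv5 D174849) D174850
theorem E98085 : n177666 = n149520 := ((c21_5 (iv5 D83873) (iv1 F59442) D47278 D101662 F326895 (iv6 D177666) (iv5 F339184) (iv1 D177508) F333804 (iv6 D101671) (iv1 F128881))).symm
theorem F339196 : act 6 n149520 = n84608 := (sb E98085 (iv6 D177666))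
theorem F339197 : act 6 n177662 = n150581 := d3_2 F339196 (iv2 F277105) F337560
theorem E98086 : n149520 = n128508 := ((c21_9 (iv5 D39074) D39071 D84597 D177621 F336423 F133109 (iv5 F205391) (iv1 F205395) D128508 F339196 (iv1 D84608))).symm
theorem F339198 : act 0 n128508 = n70221 := (sb E98086 (iv1 D149520))
theorem F339199 : act 1 n128508 = n101662 := (sb E98086 (iv0 F326895))
theorem F339200 : act 2 n128508 = n150581 := (sb E98086 (iv2 F337560))
theorem F339201 : act 6 n128508 = n84608 := (sb E98086 F339196)
theorem F339202 : act 7 n128508 = n150582 := (sb E98086 F337559)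
theorem E98087 : n173377 = n128500 := (c13_2 F339202 F337555 (iv7 F206666) D128508)
theorem E98088 : n83583 = n60439 := ((((iv2 D128500)).symm.trans (sb E98087 F271857))).symm
theorem F339203 : act 5 n128500 = n150582 := (sb E98087 (iv5 F337555))
theorem F339204 : act 6 n128500 = n82968 := (sb E98087 (iv6 D173377))
theorem E98091 : n175008 = n128501 := (((D128501).symm.trans (sb E98088 (iv3 F273916)))).symm
theorem E98092 : n174579 = n128502 := (((D128502).symm.trans (sb E98088 (iv4 F273436)))).symm
theorem E98093 : n149519 = n128503 := (((D128503).symm.trans (sb E98088 (iv5 F327488)))).symm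
theorem E98094 : n128504 = n38541 := ((D128504).symm.trans (sb E98088 (iv6 D83583)))
theorem E98095 : n175012 = n128505 := (((D128505).symm.trans (sb E98088 D175012))).symm
theorem F339205 : act 6 n128501 = n83582 := (sb E98091 (iv6 D175008))
theorem F339206 : act 6 n128502 = n83426 := (sb E98092 (iv6 D174579))
theorem F339207 : act 0 n128503 = n101662 := (sb E98093 F327487)
theorem F339208 : act 1 n128503 = n70221 := (sb E98093 (iv0 D149519))
theorem F339209 : act 2 n128503 = n150582 := (sb E98093 F337556)
theorem F339210 : act 6 n128503 = n84013 := (sb E98093 F327489)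
theorem F339211 : act 7 n128503 = n150581 := (sb E98093 (iv7 F337558))
theorem F339212 : act 6 n38541 = n60439 := (sb E98094 (iv6 D128504))
theorem F339213 : act 5 n128505 = n150581 := (sb E98095 F337561)
theorem F339214 : act 0 n175579 = n128484 := d21_1 F331957 (iv5 D128484) F94945 D60439 (iv6 F339212) (iv5 F128563) F302425 F300631 (iv6 F199338) (iv1 F331956)
theorem F339215 : act 3 n107638 = n175579 := d20_3 (iv4 F83890) (iv1 F97713) (iv4 F166246) F339214 F206636 F94947 (iv1 F51952) (iv4 F54954) F316486 F95409
theorem F339216 : act 6 n152220 = n107638 := d7_0 F339215 (iv6 D175579) (iv3 F335505)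
theorem F339217 : act 6 n107674 = n152217 := d3_2 F339216 F166304 (iv2 F335512)
theorem F339218 : act 0 n152220 = n119839 := d21_10 (iv5 D119839) F309810 D173443 F271898 (iv1 F329471) (iv6 D107660) (iv5 D49737) (iv1 F78591) D107638 (iv6 F339216)
theorem F339219 : act 5 n152231 = n148520 := d18_4 F339218 (iv4 F335528) (iv1 F186266) D152231 (iv4 D148520) F131180 D155492 F244499 (iv5 F335507)
theorem F339220 : act 2 n148543 = n152231 := d2_3 F339219 F233272 D148543
theorem F339221 : act 4 n148518 = n152227 := d16_6 D152231 F339219 (iv4 D148520) (iv5 D69603) D69602 D148518 (iv5 D152227) D152229 F239295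
theorem F339222 : act 4 n117847 = n152232 := d16_2 D54281 D117847 (iv5 D152232) D152231 F339219 (iv4 D148520) (iv5 D69603) (iv7 F85641) (iv2 D54280)
theorem F339223 : act 0 n119849 = n152231 := d17_2 D55158 D119849 F339219 (iv4 D148520) (iv5 D69603) F85639 F130934 (iv0 D26653) D26656
theorem E98096 : n130645 = n71808 := (c9_10 (iv5 F339219) (iv4 D152231) D152232 (iv4 F339222) (iv5 D117847) (iv4 D54281) D54282 D117848 F324083 F227631 D152227 (iv4 F339221) (iv5 D148518) (iv4 D69602) D69603 D148520)
theorem E98097 : n152224 = n133445 := ((D152224).symm.trans (sb E98096 (iv2 F214580)))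
theorem E98098 : n152226 = n144764 := ((D152226).symm.trans (sb E98096 (iv4 F227631)))
theorem E98099 : n152228 = n61299 := ((D152228).symm.trans (sb E98096 (iv6 D130645)))
theorem F339224 : act 2 n133445 = n71808 := (sb E98097 (iv2 D152224))
theorem F339225 : act 7 n133445 = n71809 := (sb E98097 (iv7 F239294))
theorem F339226 : act 4 n144764 = n71808 := (sb E98098 (iv4 D152226))
theorem F339227 : act 6 n61299 = n71808 := (sb E98099 (iv6 D152228))
theorem F339228 : act 0 n152231 = n114054 := d21_7 D26612 (iv1 F42626) (iv5 F29486) D33261 (iv1 F155402) (iv6 F233273) (iv5 F339219) F298221 (iv6 D55054) (iv1 D26611)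
theorem F339229 : act 5 n119852 = n152234 := d17_5 F339228 F298221 F184569 D55160 D119852 (iv0 D152234) (iv5 D71810) D71809 D152231
theorem F339230 : act 3 n116644 = n152231 := d19_19 F339228 F298221 F87072 F85875 (iv1 F184571) F312058 F83664 (iv3 F83659) D114699 (iv5 F338541) (iv4 F205353) F184824 (iv1 F85674) (iv5 F232242) (iv4 F316961) F316960 (iv1 D152318) F322162 (iv4 F182012)
theorem F339231 : act 5 n119669 = n152674 := d21_8 (iv5 F339219) F339228 F298221 (iv6 D55054) (iv1 D26611) D26613 D55059 D119669 F244465 (iv1 F244464)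
theorem F339232 : act 7 n143723 = n119669 := d13_0 F339231 (iv7 D152674) (iv5 F324818)
theorem F339233 : act 3 n121450 = n152721 := d0_4 F339230 (iv2 F339220) F233314 (iv2 F193813) (iv2 F322161)
theorem F339234 : act 4 n152230 = n116628 := d5_4 (iv4 F182012) F339230 (iv4 D152231) D152230 F182002
theorem F339235 : act 6 n152231 = n116642 := d7_2 D116644 F339230 (iv3 D116642)
theorem F339236 : act 4 n116642 = n152233 := d10_1 F339235 (iv6 D152233) D152231
theorem F339237 : act 5 n180578 = n116642 := d21_2 (iv5 F230756) F323590 (iv6 F339235) F339228 (iv6 D114054) F83177 D75377 F113129 D114605 F334756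
theorem F339238 : act 2 n116642 = n180579 := d2_1 F339237 (iv5 D180579) D180578
theorem F339239 : act 6 n152592 = n180578 := d12_0 F339237 (iv6 F339235) F339219 F233273 D152592
theorem F339240 : act 0 n152592 = n178237 := d21_4 (iv5 D147161) F182010 (iv5 F339237) (iv6 F339239) (iv6 D178237) D178236 F337714 F319972 (iv6 F322482) F230749
theorem F339241 : act 5 n178237 = n119668 := d21_2 D152592 F339240 (iv6 D119668) (iv1 D55058) (iv6 D26613) D26612 (iv1 F42626) (iv5 F29486) D33261 (iv1 F155402)
theorem F339242 : act 6 n162242 = n147161 := d21_5 F339241 F303118 (iv5 F320254) F302607 D162242 (iv5 D147161) F182010 (iv5 F339237) (iv6 F339239) F339240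
theorem F339243 : act 1 n120603 = n178237 := d15_0 (iv0 F339240) (iv7 F259405) F259404
theorem F339244 : act 3 n147163 = n162242 := d7_3 F339242 F230748 D147163
theorem F339245 : act 5 n125455 = n147159 := d21_0 (iv1 D147159) D147161 (iv6 F339242) F302616 (iv6 D78799) (iv5 F67485) (iv1 F67489) (iv5 F254077) D58733 D125455
theorem F339246 : act 6 n120979 = n124628 := d21_9 D178236 F337714 F319972 (iv6 F322482) F230749 (iv6 F339242) F338418 F338305 F324213 (iv1 F199328)
theorem E98100 : n147159 = n129502 := ((c21_7 (iv5 F323628) F338459 (iv5 F338715) F338716 (iv1 F323990) F323992 (iv5 F318594) (iv1 D147159) D147161 (iv6 F339242) F302616)).symm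
theorem F339247 : act 0 n129502 = n68994 := (sb E98100 (iv1 D147159))
theorem E98101 : n125455 = n78722 := (((F318594).symm.trans (sb E98100 (iv5 F339245)))).symm
theorem E98102 : n160576 = n147174 := ((((iv1 F323591)).symm.trans (sb E98101 (iv1 F254457)))).symm
theorem E98103 : n163878 = n58733 := ((D163878).symm.trans (sb E98101 (iv0 D125455)))
theorem E98104 : n180578 = n125456 := ((F323590).symm.trans (sb E98102 (iv1 F254455)))
theorem F339248 : act 2 n147174 = n125458 := (sb E98102 (iv2 F254454))
theorem E98105 : n125442 = n78406 := (((F336518).symm.trans (sb E98102 F254460))).symm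
theorem F339249 : act 7 n147174 = n76984 := (sb E98102 (iv7 D160576))
theorem F339250 : act 0 n58733 = n78722 := (sb E98103 (iv1 D163878))
theorem F339251 : act 1 n125456 = n147174 := (sb E98104 (iv0 F323590))
theorem F339252 : act 2 n125456 = n86246 := (sb E98104 (iv2 D180578))
theorem F339253 : act 3 n125456 = n116643 := (sb E98104 (iv3 F323580))
theorem F339254 : act 5 n125456 = n116642 := (sb E98104 F339237)
theorem F339255 : act 6 n125456 = n152592 := (sb E98104 (iv6 F339239))
theorem F339256 : act 7 n125456 = n111560 := (sb E98104 (iv7 F323596))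
theorem E98106 : n160587 = n121080 := ((((iv1 F193108)).symm.trans (sb E98105 (iv1 F254435)))).symm
theorem E98108 : n163059 = n160589 := ((D163059).symm.trans (sb E98105 (iv2 F254434)))
theorem E98109 : n163064 = n58728 := ((D163064).symm.trans (sb E98105 (iv7 D125442)))
theorem E98110 : n78407 = n76989 := (((iv1 F193110)).symm.trans (sb E98106 (iv1 D160587)))
theorem F339257 : act 2 n160589 = n78406 := (sb E98108 (iv2 D163059))
theorem F339258 : act 7 n58728 = n78406 := (sb E98109 (iv7 D163064))
theorem F339259 : act 0 n76989 = n35734 := (sb E98110 (iv1 D78407))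
theorem F339260 : act 1 n76989 = n121080 := (sb E98110 F193110)
theorem E98113 : n163067 = n160588 := (((D160588).symm.trans (sb E98110 D163067))).symm
theorem F339261 : act 1 n160588 = n155916 := (sb E98113 (iv0 F338751))
theorem F339262 : act 7 n147175 = n125426 := d8_2 F339258 (iv3 F336519) F201713
theorem F339263 : act 7 n163061 = n125432 := d11_2 F339258 D163061 F201717
theorem F339264 : act 7 n163062 = n125441 := d13_2 F339258 D163062 (iv5 D125441)
theorem F339265 : act 1 n155916 = n163062 := d15_1 F339261 F339264 (iv2 F254433)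
theorem E98115 : n163197 = n163062 := ((c15_1 F339265 (iv0 D163197) (iv7 F309233) (iv2 F244902))).symm
theorem F339266 : act 1 n163062 = n78442 := (sb E98115 (iv0 D163197))
theorem E98116 : n177519 = n121297 := ((c21_9 (iv5 F119633) (iv1 F339266) (iv5 D163062) (iv6 F336518) (iv1 F339251) F339255 (iv5 D152592) F155401 (iv5 F322707) (iv6 D177519) (iv1 D84566))).symm
theorem F339267 : act 6 n121297 = n84566 := (sb E98116 (iv6 D177519))
theorem F339268 : act 6 n177515 = n152630 := d3_2 F339267 (iv2 F276966) (iv2 F322705)
theorem E98117 : n177516 = n174065 := (c7_2 F339267 D177516 (iv6 D174065) (iv3 F322706))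
theorem F339269 : act 3 n174065 = n84566 := (sb E98117 (iv3 D177516))
theorem F339270 : act 6 n177517 = n107036 := d10_2 F339267 D177517 (iv4 F338241)
theorem F339271 : act 6 n177518 = n152634 := d12_2 F339267 D177518 F239845 (iv6 F128244) (iv5 F322707)
theorem E98118 : n177510 = n173988 := (c14_3 (iv7 F322708) F339267 F276965 (iv6 D173988) (iv7 D83189) (iv6 F128240))
theorem F339272 : act 2 n173988 = n84565 := (sb E98118 (iv2 D177510))
theorem F339273 : act 7 n173988 = n84566 := (sb E98118 (iv7 F276965))
theorem E98119 : n177514 = n166450 := (c3_3 D173988 F339272 D177514 F330278)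
theorem F339274 : act 6 n166450 = n84565 := (sb E98119 (iv6 D177514))
theorem F339275 : act 6 n177513 = n155793 := d12_2 F339274 D177513 F331735 F243914 (iv5 F330279)
theorem F339276 : act 6 n124476 = n126864 := d21_5 F317228 (iv1 F128236) (iv5 F330279) F339274 (iv1 F199103) (iv5 D126864) F102080 (iv5 F220482) F331732 (iv1 D76973)
theorem F339277 : act 0 n177513 = n163070 := d21_7 F330645 F206161 (iv5 F321875) D79909 D166450 F339274 D177513 (iv5 D163070) (iv6 F130026) (iv1 F199327)
theorem F339278 : act 5 n124476 = n155916 := d21_0 (iv1 F339261) (iv5 D160588) (iv6 D76989) (iv1 D35169) (iv6 F55902) F317228 (iv1 F128236) (iv5 F330279) F339274 (iv1 F199103)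
theorem F339279 : act 0 n121082 = n177513 := d21_1 D121082 (iv5 D177513) (iv6 F339274) F330277 (iv6 F336510) (iv5 D148241) (iv1 F321178) D152492 (iv6 F337697) (iv1 D121079)
theorem F339280 : act 0 n125355 = n161708 := d21_1 D125355 F318543 (iv6 F306736) D84565 (iv6 F339274) F330279 (iv1 F128235) D83184 (iv6 F319514) (iv1 F201460)
theorem F339281 : act 5 n165645 = n135322 := d21_2 F318543 D165645 (iv6 D135322) (iv1 F314807) (iv6 D128163) (iv5 F184005) F184007 (iv5 F134969) (iv6 F330650) F339280
theorem F339282 : act 1 n125355 = n172152 := d15_1 (iv0 F339280) F314492 (iv2 F255707)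
theorem F339283 : act 1 n172152 = n167758 := d15_1 F339282 F264102 (iv2 F330647)
theorem F339284 : act 2 n135368 = n165645 := d2_3 F339281 F217557 D135368
theorem F339285 : act 6 n135339 = n165645 := d12_0 F339281 (iv6 D135322) F98962 D63620 D135339
theorem F339286 : act 6 n135406 = n161708 := d21_5 F314809 (iv1 F95827) (iv5 F211050) D63655 D135406 F318543 D165645 F339281 (iv6 D135322) (iv1 F314807)
theorem F339287 : act 2 n172370 = n135406 := d3_3 F339286 F255707 D172370
theorem E98120 : n135406 = n129581 := ((c7_4 F339286 (iv3 D161708) (iv6 F306025) D129581)).symm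
theorem F339288 : act 0 n129581 = n152163 := (sb E98120 (iv1 F239230))
theorem F339289 : act 1 n129581 = n63655 := (sb E98120 (iv0 D135406))
theorem F339290 : act 2 n129581 = n172370 := (sb E98120 (iv2 F339287))
theorem F339291 : act 6 n129581 = n161708 := (sb E98120 F339286)
theorem F339292 : act 5 n163201 = n129581 := d12_5 F339291 F318543 (iv6 F306736) (iv5 F119633) D163201
theorem F339293 : act 0 n163201 = n128170 := d21_7 (iv5 F184005) F184007 (iv5 F134969) (iv6 F330650) F339280 (iv6 F339291) (iv5 F339292) (iv5 D128170) (iv6 D60254) D60250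
theorem F339294 : act 0 n128178 = n104149 := d20_7 (iv4 D70967) (iv1 F87462) (iv4 F307245) (iv3 F257486) F339293 F206307 D128178 (iv4 F329044) F189453 (iv1 F113956)
theorem F339295 : act 5 n120005 = n133130 := d18_4 (iv1 D128177) D128178 F339294 (iv4 F329044) F237552 D139269 F313935 (iv0 D167766) F206312
theorem F339296 : act 1 n128178 = n184349 := d15_1 (iv0 F339294) (iv7 D184349) (iv2 F159652)
theorem F339297 : act 2 n133130 = n130366 := d2_1 F339295 (iv5 F336306) F336304
theorem F339298 : act 7 n128117 = n120005 := d13_0 F339295 (iv7 F311476) F206195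
theorem F339299 : act 0 n128050 = n120005 := d17_2 (iv1 F188818) D128050 F339295 F237552 (iv5 F313291) F192434 F106783 (iv0 F190368) D119686
theorem F339300 : act 1 n128119 = n120005 := d17_6 (iv1 F206211) (iv5 D70138) (iv1 F188387) F94782 (iv4 F94776) (iv5 F206196) F339295 F333392 F310811
theorem F339301 : act 3 n128119 = n157219 := d20_5 (iv4 D120011) (iv1 D55227) (iv4 F87382) (iv3 F189453) (iv1 F339300) (iv4 D157219) (iv1 D74751) D74753 (iv3 F318747) (iv1 F189490)
theorem F339302 : act 5 n119686 = n147748 := d21_2 F206196 F188817 (iv6 D147748) D147745 F336312 F336625 F328597 F87398 D120005 (iv1 F339300)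
theorem F339303 : act 2 n147748 = n126893 := d2_1 F339302 F333397 (iv2 F188815)
theorem F339304 : act 6 n130262 = n119686 := d12_0 F339302 (iv6 D147748) (iv5 D69225) D69226 (iv5 F333942)
theorem F339305 : act 7 n147748 = n126892 := d13_2 (iv7 F188816) F339302 F333393
theorem F339306 : act 6 n128050 = n124963 := d21_9 (iv5 F130610) D178958 (iv5 F336290) F334601 (iv1 D147746) D147748 (iv5 F339302) (iv1 F188818) D128050 (iv1 D124963)
theorem E98121 : n179055 = n124963 := ((c3_1 F339306 (iv2 D179055) (iv6 F329665) (iv2 F206059))).symm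
theorem F339307 : act 2 n124963 = n85431 := (sb E98121 (iv2 D179055))
theorem F339308 : act 7 n124963 = n85432 := (sb E98121 (iv7 F279000))
theorem F339309 : act 5 n124963 = n123654 := d12_1 F339306 (iv6 D123654) F90791 D60167 D128050
theorem F339310 : act 7 n123654 = n179063 := d13_2 (iv7 F339308) F339309 (iv5 D179063)
theorem F339311 : act 6 n127902 = n159015 := d21_5 (iv5 D60071) (iv1 D28535) D28537 D60078 D127902 F250351 (iv1 F200697) F339309 (iv6 D123654) (iv1 F94615)
theorem F339312 : act 2 n159016 = n127902 := d3_3 F339311 (iv2 D159015) D159016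
theorem F339313 : act 7 n127903 = n159016 := d15_2 (iv0 D127902) D127903 F339312
theorem E98122 : n161532 = n127903 := (c8_4 F339313 F250352 F316426 D161532)
theorem F339314 : act 3 n127903 = n77558 := (sb E98122 (iv3 D161532))
theorem F339315 : act 5 n127903 = n161315 := (sb E98122 F255536)
theorem F339316 : act 5 n159016 = n167116 := d13_1 F339313 F304801 (iv5 F339315)
theorem F339317 : act 0 n159016 = n127905 := d21_7 (iv5 F334267) (iv1 D133069) (iv5 D62437) D62438 (iv1 F334204) D167116 (iv5 F339316) F309748 (iv6 F200728) (iv1 F274201)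
theorem F339318 : act 4 n118444 = n148543 := d20_8 (iv4 F318676) (iv1 D75941) (iv4 F113835) (iv3 F250352) F339317 F309747 (iv4 F309749) (iv1 F186262) F233314 (iv1 D77659)
theorem E98123 : n152229 = n118444 := (c1_4 F339318 F339220 (iv4 D152231) (iv2 F239295))
theorem F339319 : act 2 n118444 = n71809 := (sb E98123 F239295)
theorem F339320 : act 7 n118444 = n71808 := (sb E98123 (iv7 D152229))
theorem E98124 : n118444 = n114795 := ((c5_6 F339318 F233314 F317398 (iv3 F333646) (iv4 D114796) D114795)).symm
theorem F339321 : act 0 n114795 = n54544 := (sb E98124 (iv1 D118444))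
theorem F339322 : act 1 n114795 = n71811 := (sb E98124 F186262)
theorem F339323 : act 2 n114795 = n71809 := (sb E98124 F339319)
theorem F339324 : act 4 n114795 = n148543 := (sb E98124 F339318)
theorem F339325 : act 7 n114795 = n71808 := (sb E98124 F339320)
theorem E98125 : n152225 = n114539 := (c8_2 F339325 D152225 F206224 D114795)
theorem F339326 : act 3 n114539 = n71808 := (sb E98125 (iv3 D152225))
theorem F339327 : act 7 n144764 = n148543 := d11_2 F339325 (iv4 F339226) (iv4 F339324)
theorem E98126 : n133445 = n118443 := (c15_4 (iv0 D118443) (iv0 F339321) F339325 (iv2 F339224))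
theorem F339328 : act 2 n118443 = n71808 := (sb E98126 F339224)
theorem F339329 : act 3 n118443 = n128127 := (sb E98126 F335841)
theorem F339330 : act 6 n118443 = n62631 := (sb E98126 (iv6 D133445))
theorem F339331 : act 7 n118443 = n71809 := (sb E98126 F339225)
theorem F339332 : act 7 n152230 = n128127 := d8_2 F339331 D152230 (iv3 F339329)
theorem F339333 : act 7 n152233 = n130657 := d14_2 F339331 D152233 (iv6 D130657) (iv7 F97685) (iv6 F339330)
theorem F339334 : act 5 n148532 = n118443 := d16_7 F339324 (iv5 D148543) (iv4 D69612) (iv5 D32317) D32316 D69608 D148532 F339331 (iv2 F339323)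
theorem F339335 : act 7 n148532 = n152232 := d13_2 (iv7 F339331) (iv5 F339334) (iv5 D152232)
theorem F339336 : act 2 n148532 = n152227 := d16_9 (iv4 F339221) (iv5 D148518) (iv4 D69602) D69603 D148520 (iv5 F339219) (iv4 D152231) D152232 (iv7 F339335)
theorem F339337 : act 6 n133448 = n148532 := d12_0 F339334 F339330 (iv5 D62631) D62632 D133448
theorem F339338 : act 6 n135573 = n114375 := d21_3 F218383 (iv1 F100272) D135573 (iv1 D114375) D114377 F178401 D118443 (iv5 F339334) (iv6 F339337) (iv1 F218385)
theorem F339339 : act 3 n114809 = n135573 := d7_3 F339338 (iv3 F178396) D114809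
theorem F339340 : act 5 n135572 = n114809 := d6_0 F339339 (iv5 D135573) D135572
theorem F339341 : act 6 n113817 = n135572 := d12_0 F339340 (iv6 D114809) F114656 F114653 (iv5 F177086)
theorem F339342 : act 2 n135572 = n146768 := d3_1 F339341 (iv6 D146768) (iv2 F177088)
theorem F339343 : act 6 n129669 = n146843 := d10_2 F339341 F218016 F230229
theorem E98127 : n135628 = n135572 := ((c21_4 F104871 F103884 (iv5 F177086) F339341 (iv1 D135628) (iv6 D63774) F48351 F47379 D62498 F328043 F104873)).symm
theorem F339344 : act 0 n135572 = n63774 := (sb E98127 (iv1 D135628))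
theorem F339345 : act 1 n135572 = n135651 := (sb E98127 F218146)
theorem F339346 : act 7 n135627 = n146768 := d15_2 F339345 F218147 (iv2 F339342)
theorem F339347 : act 2 n135234 = n135627 := d4_3 F339346 (iv2 F339342) F218017
theorem F339348 : act 3 n146843 = n129671 := d7_1 F339343 (iv6 D129671) D129669
theorem F339349 : act 6 n152227 = n130648 := d3_2 F339337 F339336 (iv2 F214591)
theorem F339350 : act 4 n148533 = n133448 := d10_3 F339337 (iv4 D148532) D148533
theorem F339351 : act 0 n135567 = n148533 := d18_2 (iv1 D135566) D135567 F339350 (iv5 D133448) F97689 D62634 D133450 (iv0 F214602) (iv5 F218002)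
theorem F339352 : act 2 n128128 = n152230 := d4_3 F339332 (iv2 F206217) (iv7 F206218)
theorem F339353 : act 1 n128051 = n152230 := d15_1 (iv0 F206062) F339332 (iv2 F206217)
theorem F339354 : act 1 n152230 = n128130 := d15_1 F339353 (iv7 D128130) (iv2 F206060)
theorem F339355 : act 0 n152237 = n155475 := d21_1 (iv5 F239298) (iv5 D155475) (iv6 F334452) (iv1 F192337) F328860 (iv5 F93565) F93566 D62631 (iv6 F339330) (iv1 F186265)
theorem F339356 : act 4 n152379 = n118443 := d17_9 (iv1 F186265) (iv5 F239298) F339355 (iv5 D155475) (iv4 D73944) (iv5 D33946) D33944 D73935 (iv0 F303497)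
theorem F339357 : act 1 n114377 = n155475 := d15_0 (iv0 F339355) (iv7 D152237) (iv2 F178399)
theorem E98128 : n173479 = n152736 := ((c17_10 (iv1 D173479) (iv5 D83002) (iv1 F310855) D71792 (iv4 F305734) (iv5 F178401) F339357 (iv5 D155475) D155473 F244469)).symm
theorem F339358 : act 0 n152736 = n83002 := (sb E98128 (iv1 D173479))
theorem F339359 : act 0 n173462 = n131508 := d21_7 D152736 F339358 (iv5 D83002) (iv6 D38202) D38200 D82998 D173462 (iv5 D131508) D131509 F314760
theorem F339360 : act 7 n152213 = n173443 := d15_2 (iv0 F339358) F239937 F271896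
theorem F339361 : act 2 n173481 = n152213 := d4_3 F339360 F271896 D173481
theorem F339362 : act 3 n175140 = n152213 := d8_3 F339360 F271897 D175140
theorem F339363 : act 1 n152213 = n173478 := d15_0 (iv0 D173478) D173481 F339361
theorem F339364 : act 5 n155492 = n173478 := d21_0 (iv1 F339363) (iv5 D152213) (iv6 F312019) (iv1 F156536) (iv6 F316747) F331946 F100410 (iv5 F331944) (iv6 F309534) (iv1 F244499)
theorem F339365 : act 0 n164524 = n152711 := d21_4 D101618 F316745 (iv5 D164523) D164524 (iv6 F244496) F339364 (iv1 F339363) (iv5 D152213) (iv6 F312019) (iv1 F156536)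
theorem F339366 : act 4 n173478 = n155472 := d18_5 F239904 (iv4 D117848) (iv1 F131179) D155492 F339364 (iv0 D155472) (iv4 D73944) D73943 F189145
theorem F339367 : act 4 n111776 = n173462 := d20_6 (iv4 D161589) (iv1 F332201) F171154 F168933 (iv1 F166185) D111776 F339359 (iv4 F210773) (iv3 F333022) (iv1 F337636)
theorem F339368 : act 1 n173462 = n152585 := d15_1 (iv0 F339359) (iv7 F259381) (iv2 F314758)
theorem E98129 : n128709 = n128591 := ((c19_17 (iv1 F339368) (iv5 D173462) F305941 (iv3 F131190) (iv1 F308976) (iv5 F311125) F321564 (iv3 F204407) F334136 (iv5 F333162) (iv4 F230422) F333237 (iv1 F120365) (iv5 F177007) (iv4 F336929) F206821 (iv1 F206833) (iv5 F333056) F333042 F303270)).symm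
theorem F339369 : act 2 n128591 = n60532 := (sb E98129 (iv2 D128709))
theorem F339370 : act 5 n128591 = n128839 := (sb E98129 (iv5 F333056))
theorem F339371 : act 7 n128591 = n60533 := (sb E98129 (iv7 F206994))
theorem E98130 : n164525 = n101608 := ((c21_7 D152585 (iv1 F339368) (iv5 D173462) (iv6 D82998) (iv1 F59063) D47265 D101608 (iv1 F259332) F239810 (iv6 F120223) (iv1 F120225))).symm
theorem F339372 : act 0 n101608 = n152613 := (sb E98130 (iv1 F259332))
theorem F339373 : act 1 n101608 = n79013 := (sb E98130 (iv0 D164525))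
theorem E98131 : n164526 = n101623 := (c15_2 F339373 D164526 (iv7 D101623) (iv2 F156533))
theorem F339374 : act 0 n101623 = n79013 := (sb E98131 (iv1 D164526))
theorem F339375 : act 1 n101623 = n152613 := (sb E98131 F259328)
theorem F339376 : act 5 n131489 = n101288 := d17_3 (iv1 D70616) (iv5 F96308) D131489 F156074 D101608 F339373 (iv5 D79013) D79012 (iv4 F205749)
theorem F339377 : act 5 n119702 = n164524 := d21_8 D79013 (iv1 F339373) (iv5 D101608) (iv6 D47265) (iv1 F59064) D82999 F308639 D119702 (iv6 D164524) (iv1 D79012)
theorem F339378 : act 5 n152609 = n149208 := d2_2 F339377 F259325 F234588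
theorem F339379 : act 0 n119702 = n175259 := d21_7 F308157 (iv1 F259403) F259400 F120223 (iv1 F120196) D164524 (iv5 F339377) (iv5 D175259) (iv6 F317470) (iv1 F308155)
theorem F339380 : act 0 n152314 = n164524 := d17_0 (iv5 F339377) F339379 (iv5 D175259) (iv4 F317469) (iv5 F311120) (iv0 F313411) F110193 (iv0 F233304) (iv4 F239452)
theorem F339381 : act 4 n175259 = n116646 := d18_3 (iv1 F234583) (iv4 F234589) F339379 F322153 (iv4 F188696) F188699 F155234 F191368 D86742
theorem F339382 : act 3 n158388 = n119702 := d20_9 F339381 (iv1 D116646) (iv4 F182012) F339230 F339228 F177554 (iv4 F115806) D160684 (iv4 F336434) F339379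
theorem F339383 : act 2 n119706 = n175259 := d15_3 (iv0 F339379) (iv0 D119702) D119706
theorem F339384 : act 3 n175135 = n146707 := d0_4 (iv3 F315897) F339383 F274283 (iv2 F334568) F230041
theorem E98132 : n119706 = n119690 := ((c2_1 D119690 F339383 (iv5 D175259) (iv2 F317468))).symm
theorem F339385 : act 1 n119690 = n149208 := (sb E98132 (iv0 F234585))
theorem F339386 : act 2 n119690 = n175259 := (sb E98132 F339383)
theorem F339387 : act 3 n119690 = n68775 := (sb E98132 F315897)
theorem F339388 : act 4 n119690 = n55074 := (sb E98132 F188847)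
theorem F339389 : act 6 n119690 = n85012 := (sb E98132 F188848)
theorem F339390 : act 7 n119690 = n55073 := (sb E98132 (iv7 D119706))
theorem F339391 : act 7 n101598 = n175259 := d4_2 F339390 F306801 (iv2 F339386)
theorem E98133 : n119692 = n119644 := ((c16_4 F304864 (iv5 D55050) (iv4 F87050) D119644 (iv4 D119692) (iv5 D55069) D55068 D119690 F339390 F306801)).symm
theorem F339392 : act 4 n119644 = n55069 := (sb E98133 (iv4 D119692))
theorem F339393 : act 5 n119645 = n143720 := d16_3 F339381 F322153 (iv4 F188696) (iv4 D143720) F311119 (iv4 F305942) F308639 (iv7 F339390) F339386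
theorem F339394 : act 3 n143720 = n119841 := d6_1 F339393 (iv5 D119841) (iv3 F303153)
theorem F339395 : act 1 n143720 = n119669 := d17_6 (iv1 F131184) (iv5 F131186) (iv1 F322150) F322153 (iv4 F188696) F339393 F339231 (iv0 F244466) F112622
theorem F339396 : act 0 n143720 = n119670 := d21_1 F339393 (iv5 F239417) (iv6 D152304) F108312 F302368 (iv5 F302366) D71748 (iv5 F304866) (iv6 F302741) (iv1 F188699)
theorem F339397 : act 5 n148291 = n126705 := d21_0 (iv1 F203910) F326213 (iv6 D76686) F108875 (iv6 F334116) (iv5 D119664) (iv1 F188699) F339393 F324157 (iv1 F232111)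
theorem F339398 : act 6 n119667 = n178236 := d21_9 F319972 D121711 F337695 (iv6 F337689) (iv1 F232115) (iv6 F324157) (iv5 F339393) (iv1 F188698) D119667 F337714
theorem F339399 : act 6 n120671 = n149155 := d14_5 F234535 F339398 F337710 F206159 (iv7 F192368)
theorem F339400 : act 6 n116744 = n119669 := d21_9 (iv5 F339393) (iv1 F188698) D119667 F339398 F337714 (iv6 D116500) (iv5 F112674) D157706 F248507 (iv1 F339395)
theorem F339401 : act 2 n119669 = n143601 := d3_1 F339400 (iv6 D143601) F182179
theorem F339402 : act 4 n119669 = n166117 := d10_1 F339400 (iv6 F322666) F223900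
theorem E98134 : n157706 = n155468 := ((c12_5 F339400 F339231 F244465 (iv5 D155467) D155468 F248507)).symm
theorem F339403 : act 0 n155468 = n142443 := (sb E98134 (iv1 F248508))
theorem F339404 : act 1 n155468 = n75139 := (sb E98134 (iv0 D157706))
theorem F339405 : act 2 n155468 = n142531 := (sb E98134 (iv2 F248509))
theorem F339406 : act 5 n155468 = n116744 := (sb E98134 F248507)
theorem F339407 : act 7 n155468 = n142530 := (sb E98134 (iv7 F248510))
theorem E98135 : n159038 = n142529 := ((c21_4 F225356 (iv1 F225357) F181775 D142529 (iv1 D159038) (iv6 F315899) F316420 F244466 (iv5 F339231) (iv6 F339400) (iv1 F182175))).symm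
theorem F339408 : act 0 n142529 = n75952 := (sb E98135 (iv1 D159038))
theorem F339409 : act 1 n142529 = n179653 := (sb E98135 F279793)
theorem F339410 : act 4 n179653 = n116549 := d17_9 F320307 (iv5 F320309) (iv1 F237522) (iv5 D146979) (iv4 F313192) F113958 D85532 (iv5 F330654) F339409
theorem F339411 : act 6 n116548 = n179653 := d10_0 F339410 (iv6 D116549) D116548
theorem E98136 : n159039 = n146977 := ((c11_4 (iv7 F279790) F339410 F318630 D146977)).symm
theorem F339412 : act 0 n146977 = n179652 := (sb E98136 (iv1 F279792))
theorem F339413 : act 1 n146977 = n179651 := (sb E98136 F279787)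
theorem F339414 : act 2 n146977 = n75952 := (sb E98136 (iv2 D159039))
theorem F339415 : act 5 n146977 = n85990 := (sb E98136 F250382)
theorem F339416 : act 7 n146977 = n179653 := (sb E98136 (iv7 F279790))
theorem E98137 : n179947 = n128167 := ((c17_1 F330640 (iv5 D179947) (iv1 F318487) F318489 F339410 F318629 (iv0 D68836) D68838 (iv0 F310935) (iv4 F192319))).symm
theorem F339417 : act 5 n128167 = n85988 := (sb E98137 (iv5 D179947))
theorem F339418 : act 3 n147194 = n107608 := d20_3 (iv4 F233905) (iv1 F233907) F230937 (iv1 F166226) F318490 F339410 F320307 (iv4 F225418) (iv3 F323537) D147001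
theorem E98138 : n146395 = n115162 := ((c19_17 D68836 (iv5 F318629) (iv4 F339410) (iv3 F318490) F166225 F98907 (iv4 D30230) (iv3 D14349) (iv1 F23912) F23910 (iv4 F20240) F20239 (iv1 F8922) D12238 D25776 D53137 D115162 F335878 F183710 F85329)).symm
theorem F339419 : act 2 n115162 = n68666 := (sb E98138 F229714)
theorem E98139 : n135778 = n68642 := (((iv4 F218356)).symm.trans (sb E98138 F229715))
theorem F339420 : act 5 n115162 = n117324 := (sb E98138 F335878)
theorem F339421 : act 6 n115162 = n68641 := (sb E98138 (iv6 D146395))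
theorem E98140 : n146396 = n135607 := ((D146396).symm.trans (sb E98139 (iv1 F218357)))
theorem E98141 : n146397 = n63845 := ((D146397).symm.trans (sb E98139 (iv0 D135778)))
theorem F339422 : act 4 n68642 = n115162 := (sb E98139 F218356)
theorem E98142 : n135779 = n68670 := (((iv1 F218358)).symm.trans (sb E98140 (iv1 F229720)))
theorem F339423 : act 1 n135607 = n68642 := (sb E98140 (iv0 D146396))
theorem F339424 : act 0 n63845 = n68642 := (sb E98141 (iv1 D146397))
theorem F339425 : act 0 n68670 = n63845 := (sb E98142 (iv1 D135779))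
theorem F339426 : act 1 n68670 = n135607 := (sb E98142 F218358)
theorem E98143 : n146466 = n115163 := (((iv4 F229796)).symm.trans (sb E98142 (iv4 F218359)))
theorem F339427 : act 4 n115163 = n68670 := (sb E98143 F229796)
theorem F339428 : act 5 n115163 = n117364 := (sb E98143 F335881)
theorem F339429 : act 7 n115163 = n68666 := (sb E98143 (iv7 D146466))
theorem F339430 : act 2 n115163 = n115096 := d15_3 (iv0 D115096) F325874 (iv7 F339429)
theorem F339431 : act 7 n115096 = n115162 := d4_2 (iv7 F339429) F339430 F339419
theorem F339432 : act 1 n145953 = n127477 := d18_8 (iv1 F251457) F333169 (iv1 F339426) (iv4 F339427) F339428 F183802 F183716 F324748 F335030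
theorem F339433 : act 2 n117367 = n145953 := d15_3 F339432 (iv0 F335169) F335166
theorem F339434 : act 5 n127478 = n137900 := d17_1 D127478 F336866 D141475 F336849 F336847 (iv0 F218272) (iv5 F338626) F339432 F204907
theorem E98144 : n146176 = n127479 := (c20_10 (iv4 F204907) (iv1 F339432) (iv4 F324748) F324747 F233095 F321733 F317178 (iv1 F316552) F316471 D146176 (iv1 D127479))
theorem F339435 : act 3 n127479 = n68546 := (sb E98144 (iv3 D146176))
theorem F339436 : act 4 n127479 = n117362 := (sb E98144 F229449)
theorem F339437 : act 5 n127479 = n141473 := (sb E98144 F336864)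
theorem F339438 : act 6 n127479 = n130084 := (sb E98144 (iv6 F315522))
theorem F339439 : act 7 n127479 = n68560 := (sb E98144 F229448)
theorem F339440 : act 6 n159612 = n146343 := d21_3 F338626 F218272 (iv5 F336847) (iv1 D146343) (iv6 D68623) D68622 (iv1 F204906) (iv5 D127476) D127477 (iv1 F339432)
theorem F339441 : act 2 n146343 = n139967 := d3_1 F339440 F334969 (iv2 F336846)
theorem F339442 : act 4 n146343 = n116022 := d10_1 F339440 (iv6 F224532) F336849
theorem F339443 : act 5 n146343 = n135774 := d12_1 F339440 (iv6 D135774) (iv5 F218111) F333497 (iv5 F336847)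
theorem E98145 : n135774 = n105335 := (c21_7 F40646 (iv1 F27732) D34888 D76364 D159612 F339440 F339443 (iv1 D105335) F76635 (iv6 D23780) D23777)
theorem F339444 : act 2 n105335 = n135606 := (sb E98145 F218343)
theorem F339445 : act 3 n105335 = n130117 := (sb E98145 F218344)
theorem F339446 : act 5 n105335 = n146343 := (sb E98145 (iv5 F339443))
theorem F339447 : act 6 n105335 = n63842 := (sb E98145 (iv6 D135774))
theorem F339448 : act 0 n135668 = n105335 := d20_4 (iv4 F171543) (iv1 F203517) F203521 D135668 F339445 F208633 (iv1 F322818) D133160 F213920 (iv1 F101885)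
theorem E98146 : n130012 = n106268 := ((c20_10 (iv4 D158539) F322819 (iv4 F208633) (iv3 F339445) (iv1 D105335) F76634 (iv4 F76647) D105354 F177662 D106268 F319776)).symm
theorem F339449 : act 0 n106268 = n158539 := (sb E98146 F319776)
theorem F339450 : act 1 n106268 = n133160 := (sb E98146 F319777)
theorem F339451 : act 2 n106268 = n132865 := (sb E98146 (iv2 F213434))
theorem F339452 : act 4 n106268 = n82507 := (sb E98146 F319778)
theorem F339453 : act 6 n106268 = n61058 := (sb E98146 (iv6 D130012))
theorem E98147 : n132783 = n106120 := (c14_6 F177870 F339453 F207712 F326067 F97182 D132783)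
theorem F339454 : act 2 n106120 = n130135 := (sb E98147 F213264)
theorem F339455 : act 6 n106120 = n62318 := (sb E98147 (iv6 D132783))
theorem F339456 : act 0 n106120 = n113677 := d21_4 D62509 (iv1 F203341) F203340 (iv6 F339455) (iv6 D113677) F82871 (iv1 F65428) (iv5 F139286) F324314 (iv1 D62507)
theorem F339457 : act 4 n172273 = n106120 := d18_1 (iv1 F272677) F339456 (iv4 F337563) F321104 (iv4 F275089) F275094 (iv4 F272736) F272685 F272678
theorem F339458 : act 0 n146371 = n113970 := d20_7 (iv4 F161571) (iv1 F161574) F177843 D106120 F339456 F176869 (iv4 F229702) (iv4 D113970) (iv3 D52607) (iv1 F76653)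
theorem F339459 : act 1 n106120 = n130492 := d15_1 (iv0 F339456) (iv7 F213921) (iv2 F337564)
theorem F339460 : act 7 n132865 = n130135 := d15_2 F339459 F337572 (iv2 F339454)
theorem F339461 : act 3 n158547 = n135842 := d20_3 (iv4 F339457) (iv1 F270520) (iv4 F272667) (iv1 F328628) (iv3 D113876) (iv4 F328633) F102005 D63304 (iv3 F209051) (iv1 F339459)
theorem F339462 : act 6 n92787 = n158547 := d7_0 F339461 (iv6 F335836) F177050
theorem F339463 : act 6 n101766 = n113681 := d10_2 F339462 F272667 F176877
theorem F339464 : act 5 n158547 = n114427 := d12_1 F339462 (iv6 D114427) (iv5 D52809) F68243 D92787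
theorem F339465 : act 0 n158549 = n89759 := d21_1 D158549 (iv5 F143132) (iv6 D92794) (iv1 D43413) (iv6 F68249) (iv5 D43410) D43408 D92787 F339462 (iv1 D158547)
theorem F339466 : act 0 n130117 = n158547 := d21_4 F217584 F217585 (iv5 D130116) D130117 (iv6 F339462) (iv5 D92787) F68244 (iv5 F106079) F321201 D130975
theorem F339467 : act 7 n130117 = n132845 := d15_2 D158547 (iv0 F339466) (iv2 F318975)
theorem F339468 : act 4 n92794 = n174016 := d17_4 (iv1 D158547) D158549 F339465 (iv5 F143132) (iv5 D174016) (iv0 D83199) D83201 (iv0 F156787) (iv4 F272667)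
theorem F339469 : act 6 n174016 = n92722 := d10_2 D92794 F339468 F142944
theorem F339470 : act 6 n172273 = n129687 := d21_9 (iv5 F315350) F315348 (iv5 F319008) (iv6 F321125) (iv1 F142942) (iv6 F339469) (iv5 D174016) (iv1 F128284) (iv5 F270519) (iv1 F207872)
theorem E98148 : n174024 = n129688 := ((c3_3 F339470 (iv2 D129687) D129688 F272746)).symm
theorem F339471 : act 0 n129688 = n172271 := (sb E98148 (iv1 F272748))
theorem F339472 : act 1 n129688 = n172270 := (sb E98148 F272749)
theorem F339473 : act 2 n129688 = n172273 := (sb E98148 F272746)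
theorem F339474 : act 5 n129688 = n83202 := (sb E98148 F272747)
theorem F339475 : act 7 n129688 = n83201 := (sb E98148 (iv7 D174024))
theorem F339476 : act 3 n174404 = n172273 := d7_3 F339470 (iv3 F211560) F320706
theorem F339477 : act 4 n113953 = n174404 := d5_0 F339476 F339457 (iv3 D106120) (iv4 F177843) D113953
theorem F339478 : act 7 n172245 = n174404 := d8_0 F339476 (iv7 D172273) (iv3 F270506)
theorem F339479 : act 0 n174404 = n134686 := d20_10 F216695 (iv1 D129041) F95266 F46603 D28984 D61220 D130492 (iv1 F339459) (iv4 F339457) (iv3 F339476)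
theorem E98149 : n136970 = n132843 := (c20_9 D130492 (iv1 F339459) (iv4 F339457) (iv3 F339476) F339479 (iv3 D134686) D134687 F338724 D136970 F213382 (iv1 F317545))
theorem E98150 : n135293 = n64375 := (((iv4 F217529)).symm.trans (sb E98149 (iv4 D136970)))
theorem F339480 : act 4 n64375 = n132843 := (sb E98150 F217529)
theorem E98151 : n136972 = n63605 := ((D136972).symm.trans (sb E98150 (iv6 D135293)))
theorem F339481 : act 6 n63605 = n64375 := (sb E98151 (iv6 D136972))
theorem F339482 : act 6 n136968 = n135030 := d3_2 F339481 (iv2 F220125) (iv2 F217264)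
theorem F339483 : act 6 n136969 = n135291 := d7_2 F339481 D136969 (iv3 D135291)
theorem F339484 : act 3 n135032 = n136968 := d7_3 F339482 (iv3 D135030) D135032
theorem E98152 : n136967 = n134272 := ((c14_5 D136968 F339482 F217262 F326616 (iv7 F216301) (iv6 D136967))).symm
theorem F339485 : act 6 n134272 = n64374 := (sb E98152 (iv6 D136967))
theorem E98153 : n136963 = n134536 := (c3_2 F339485 D136963 (iv6 D134536) F216303)
theorem F339486 : act 2 n134536 = n64374 := (sb E98153 (iv2 D136963))
theorem F339487 : act 7 n134536 = n64375 := (sb E98153 (iv7 F220124))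
theorem E98154 : n136964 = n134274 := (c7_2 F339485 D136964 (iv6 D134274) D134272)
theorem F339488 : act 3 n134274 = n64374 := (sb E98154 (iv3 D136964))
theorem F339489 : act 6 n136965 = n130113 := d10_2 F339485 D136965 (iv4 F216300)
theorem F339490 : act 0 n117478 = n136048 := d21_7 (iv5 D30308) (iv1 D14384) D14386 D30317 D64374 (iv6 F339485) F331619 (iv5 D136048) (iv6 D63969) (iv1 F48743)
theorem F339491 : act 4 n134543 = n158977 := d17_4 F339490 (iv5 D136048) (iv1 F327491) (iv5 F216529) (iv5 F313428) F313426 (iv5 D54135) D54134 D117478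
theorem F339492 : act 0 n113810 = n134383 := d18_2 F339490 F328459 (iv4 D134383) (iv5 D63130) F48002 (iv0 F211577) (iv4 F98475) F216304 F331619
theorem F339493 : act 4 n117209 = n103172 := d20_0 (iv1 D103172) F317651 (iv3 F190187) F190185 (iv3 F190190) D117478 F339490 F328459 F177083 F188388
theorem F339494 : act 1 n117478 = n137419 := d15_1 (iv0 F339490) (iv7 D137419) (iv2 F218919)
theorem F339495 : act 7 n117478 = n134537 := d15_2 (iv0 F328458) (iv0 F339490) (iv2 F330259)
theorem F339496 : act 1 n147018 = n134537 := d15_1 D147018 (iv7 F339495) F183992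
theorem F339497 : act 5 n130757 = n147018 := d17_5 (iv1 D14197) D14199 D29898 (iv5 F211219) D130757 F339496 (iv5 D134537) F98472 (iv4 D29892)
theorem F339498 : act 4 n117400 = n137414 := d17_4 (iv1 F183818) (iv5 F184000) (iv1 F186346) (iv5 F310213) (iv5 D137414) (iv0 F327494) F339497 F339496 (iv4 F330250)
theorem F339499 : act 4 n134391 = n147018 := d18_7 (iv1 D63223) (iv4 D29887) D29884 (iv4 F98409) (iv5 F329414) (iv4 F228933) F331666 F339496 (iv5 D134537)
theorem F339500 : act 3 n134391 = n117207 := d20_3 F330250 (iv1 F339496) (iv4 F339499) F204931 (iv3 F243387) (iv4 F338212) (iv1 F227798) (iv4 F323529) F114837 (iv1 F183816)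
theorem E98155 : n147258 = n95769 := ((c20_1 (iv4 F317110) (iv1 D147258) F105251 F51066 F190194 (iv3 F183814) F330250 (iv1 F339496) (iv4 F339499) F339500 F204931)).symm
theorem F339501 : act 0 n95769 = n69032 := (sb E98155 (iv1 D147258))
theorem E98156 : n135361 = n89159 := ((c21_2 (iv5 D89166) (iv1 F136862) (iv5 D135361) (iv6 D63628) (iv1 F98955) F326616 D134537 (iv1 F339496) (iv5 F339497) F327497 F329582)).symm
theorem F339502 : act 5 n89159 = n63628 := (sb E98156 (iv5 D135361))
theorem E98157 : n135309 = n89176 := (c2_2 F339502 (iv2 F217544) F136878 (iv2 F136858))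
theorem F339503 : act 2 n89176 = n63628 := (sb E98157 F217544)
theorem E98158 : n164024 = n63620 := (((iv4 F304020)).symm.trans (sb E98157 F217545))
theorem F339504 : act 6 n89176 = n63610 := (sb E98157 (iv6 D135309))
theorem F339505 : act 4 n63620 = n89176 := (sb E98158 F304020)
theorem E98159 : n135339 = n78800 := ((D135339).symm.trans (sb E98158 (iv5 D164024)))
theorem E98160 : n164021 = n63633 := ((D164021).symm.trans (sb E98159 F217570))
theorem F339506 : act 5 n78800 = n63620 := (sb E98159 (iv5 D135339))
theorem E98161 : n165645 = n164025 := (((D164025).symm.trans (sb E98159 F339285))).symm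
theorem F339507 : act 2 n63633 = n78800 := (sb E98160 (iv2 D164021))
theorem E98162 : n135383 = n78801 := ((D135383).symm.trans (sb E98160 (iv7 F258483)))
theorem F339508 : act 1 n164025 = n79560 := (sb E98161 (iv0 D165645))
theorem F339509 : act 2 n164025 = n135368 := (sb E98161 (iv2 F339284))
theorem F339510 : act 5 n164025 = n135322 := (sb E98161 F339281)
theorem E98163 : n164029 = n63634 := ((D164029).symm.trans (sb E98162 F217612))
theorem F339511 : act 7 n78801 = n63633 := (sb E98162 (iv7 D135383))
theorem F339512 : act 5 n63634 = n78801 := (sb E98163 (iv5 D164029))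
theorem F339513 : act 5 n135356 = n93208 := d6_2 F339502 (iv3 F217605) F294219
theorem E98164 : n135358 = n91208 := (c12_5 F294780 F339502 (iv6 D63628) D63627 D135358 F140246)
theorem F339514 : act 6 n91208 = n63627 := (sb E98164 (iv6 D135358))
theorem E98165 : n183048 = n135382 := ((c16_5 (iv4 F136859) F339502 F98973 D63633 D135382 (iv5 D183048) (iv4 D87382) (iv5 D40611) D40612 (iv2 F134131))).symm
theorem F339515 : act 5 n135382 = n87382 := (sb E98165 (iv5 D183048))
theorem E98166 : n135359 = n89174 := (c17_3 (iv1 F136862) F339502 D135359 F289984 (iv4 F338435) F338436 F143819 F140246 F140048 (iv4 F295298))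
theorem F339516 : act 1 n89174 = n63628 := (sb E98166 (iv0 D135359))
theorem E98167 : n135381 = n78799 := (c17_7 F329582 (iv5 D89166) (iv1 F136862) F339502 F98973 D63633 D135381 (iv5 F323628) F338460 F204201)
theorem E98168 : n162243 = n63633 := (((iv1 F302617)).symm.trans (sb E98167 (iv1 D135381)))
theorem E98169 : n135380 = n77946 := ((D135380).symm.trans (sb E98168 (iv1 D162243)))
theorem F339517 : act 1 n63633 = n78799 := (sb E98168 F302617)
theorem F339518 : act 1 n77946 = n63633 := (sb E98169 (iv0 D135380))
theorem E98170 : n135360 = n89173 := (c17_7 F138790 F294267 (iv1 F284620) F284617 (iv4 F136859) F339502 D135360 F338449 (iv0 D47417) (iv4 F294762))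
theorem F339519 : act 0 n89173 = n63628 := (sb E98170 (iv1 D135360))
theorem E98171 : n135377 = n95415 := (c18_8 (iv1 F295250) (iv4 F295255) (iv1 F134135) (iv4 F136859) F339502 F98973 D63632 D135377 (iv0 F338412) F338416)
theorem E98172 : n132735 = n63632 := (((iv4 F324212)).symm.trans (sb E98171 (iv4 D135377)))
theorem E98173 : n129932 = n30037 := ((((iv1 D63632)).symm.trans (sb E98172 (iv1 F213103)))).symm
theorem E98174 : n135336 = n89175 := ((F217566).symm.trans (sb E98172 (iv0 F338305)))
theorem E98175 : n135375 = n62288 := (((iv2 F217611)).symm.trans (sb E98172 (iv2 D132735)))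
theorem E98176 : n135376 = n63250 := ((D135376).symm.trans (sb E98172 F333834))
theorem F339520 : act 4 n63632 = n95415 := (sb E98172 F324212)
theorem E98177 : n135378 = n120979 := ((D135378).symm.trans (sb E98172 F324213))
theorem E98178 : n135379 = n129768 := ((D135379).symm.trans (sb E98172 F213099))
theorem E98179 : n135370 = n64897 := ((F217610).symm.trans (sb E98172 F326057))
theorem E98180 : n63631 = n61024 := ((D63631).symm.trans (sb E98173 (iv1 D129932)))
theorem F339521 : act 0 n89175 = n63632 := (sb E98174 (iv1 F217566))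
theorem F339522 : act 2 n89175 = n63634 := (sb E98174 F217564)
theorem F339523 : act 6 n89175 = n63619 := (sb E98174 (iv6 D135336))
theorem F339524 : act 7 n89175 = n63620 := (sb E98174 F217565)
theorem F339525 : act 2 n62288 = n63632 := (sb E98175 F217611)
theorem F339526 : act 3 n63250 = n63632 := (sb E98176 (iv3 D135376))
theorem F339527 : act 5 n120979 = n63632 := (sb E98177 (iv5 D135378))
theorem F339528 : act 6 n129768 = n63632 := (sb E98178 (iv6 D135379))
theorem F339529 : act 7 n64897 = n63632 := (sb E98179 (iv7 F217610))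
theorem F339530 : act 1 n61024 = n30037 := (sb E98180 (iv0 D63631))
theorem E98185 : n93237 = n64676 := (c21_6 (iv5 F338449) F339519 (iv5 F339502) (iv6 F294780) (iv1 F140050) D93237 (iv5 D64676) (iv1 D30427) F328619 D22776 D47417)
theorem E98186 : n137603 = n89172 := ((D137603).symm.trans (sb E98185 F295436))
theorem E98187 : n137604 = n43616 := ((D137604).symm.trans (sb E98185 (iv6 D93237)))
theorem F339531 : act 0 n89172 = n93079 := (sb E98186 F335760)
theorem F339532 : act 4 n89172 = n64676 := (sb E98186 (iv4 D137603))
theorem F339533 : act 6 n43616 = n64676 := (sb E98187 (iv6 D137604))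
theorem F339534 : act 6 n136082 = n93233 := d3_2 F339533 (iv2 F219007) F143810
theorem F339535 : act 6 n137602 = n93234 := d7_2 F339533 (iv3 F220763) (iv3 D93234)
theorem F339536 : act 6 n136495 = n93236 := d12_4 F339533 (iv5 D64676) (iv6 F167116) D136495 (iv5 D93236)
theorem E98188 : n101377 = n64674 := (c21_2 D47186 D101377 D137602 F339535 F295434 (iv6 D89199) F64297 F74368 (iv5 D47125) D47126 (iv1 F290171))
theorem E98189 : n137600 = n47186 := ((D137600).symm.trans (sb E98188 (iv0 D101377)))
theorem F339537 : act 0 n47186 = n64674 := (sb E98189 (iv1 D137600))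
theorem F339538 : act 5 n105041 = n182701 := d21_0 (iv1 D182701) (iv5 D87216) F293724 (iv1 F295435) (iv6 F339535) (iv5 D137602) D137599 (iv5 F335762) F292333 (iv1 F160957)
theorem E98190 : n186244 = n186157 := (c17_7 (iv1 F160957) F339538 (iv1 D182701) (iv5 D87216) (iv4 F63888) (iv5 F136056) D186244 (iv5 D186157) (iv0 F291004) F291007)
theorem F339539 : act 0 n186157 = n88716 := (sb E98190 (iv1 D186244))
theorem F339540 : act 5 n131121 = n186036 := d17_3 (iv1 D159831) F114667 D131121 F288642 F339538 (iv0 F327069) F327072 (iv0 F294197) (iv4 F294953)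
theorem F339541 : act 6 n94801 = n134024 := d21_3 (iv5 F339538) (iv1 D105041) (iv5 F292473) (iv1 F215988) (iv6 F338474) (iv5 D123092) (iv1 F306322) D81869 (iv6 F327073) F327069
theorem E98191 : n185029 = n182692 := (c21_9 (iv5 F327072) F327069 (iv5 F339538) F335763 (iv1 D88204) (iv6 D41164) D41163 D88199 D185029 (iv6 D182692) F294197)
theorem F339542 : act 5 n182692 = n88199 := (sb E98191 (iv5 D185029))
theorem F339543 : act 4 n134480 = n182692 := d17_4 (iv1 F290227) F335802 (iv1 F179271) D134480 F339542 (iv0 D88199) (iv5 D41163) F290202 (iv4 F134951)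
theorem F339544 : act 5 n134485 = n185028 := d16_1 D134485 (iv4 D185028) (iv5 F339542) (iv4 F339543) (iv5 D134480) (iv4 D63168) D63169 F99271 (iv2 F99272)
theorem F339545 : act 0 n185028 = n115334 := d21_1 F339544 (iv5 D115334) (iv6 D53209) (iv1 D25805) D25808 D53220 D115369 F201768 D137036 (iv1 F245266)
theorem F339546 : act 4 n134483 = n185034 := d16_6 D185028 (iv5 F339544) (iv4 D134485) (iv5 D63173) D63172 D134483 (iv5 D185034) F287428 (iv2 D185026)
theorem F339547 : act 5 n185033 = n134481 := d9_4 D134483 F339546 (iv5 D185034) D185033 (iv4 D134481) (iv5 D63169) D63168 D134480 F339543 F339542 D185028 (iv5 F339544) (iv4 D134485) (iv5 D63173) D63172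
theorem F339548 : act 5 n99931 = n115127 := d17_1 F153866 (iv1 F179288) D134483 F339546 (iv5 D185034) F285658 (iv5 D183850) F134610 D88187
theorem F339549 : act 1 n185034 = n185167 := d18_6 (iv1 F179266) F179261 (iv1 F83856) D63172 D134483 F339546 F287508 (iv0 D94047) F325803
theorem E98192 : n156099 = n101016 := ((c17_9 D156097 F245263 (iv1 F245405) (iv5 F339547) (iv4 D185033) D185034 F339549 (iv5 D185167) (iv0 F290193) (iv4 D156099))).symm
theorem F339550 : act 4 n101016 = n74251 := (sb E98192 (iv4 D156099))
theorem F339551 : act 0 n94047 = n134473 := d17_0 (iv5 D134473) (iv1 D63163) (iv5 F323567) (iv4 D41162) D41163 D88200 D185034 F339549 F287508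
theorem F339552 : act 2 n94049 = n134473 := d15_3 (iv0 F339551) (iv0 D94047) D94049
theorem F339553 : act 1 n92495 = n134473 := d15_0 (iv0 F339551) F145647 (iv2 F142389)
theorem F339554 : act 7 n134473 = n94042 := d15_2 (iv0 F142392) F339553 F144889
theorem F339555 : act 1 n182692 = n89234 := d18_6 (iv1 D63163) F48012 D29864 D63168 D134480 F339543 (iv4 F142391) F339553 (iv5 D134473)
theorem F339556 : act 0 n134716 = n135526 := d21_10 F338686 F316447 (iv5 F329138) D135874 (iv1 F218542) (iv6 D134474) D134473 (iv1 F339553) (iv5 F142932) F326624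
theorem F339557 : act 1 n134716 = n130705 := d15_1 (iv0 F339556) (iv7 F214063) (iv2 F217934)
theorem F339558 : act 1 n135677 = n135526 := d15_0 (iv0 F339556) (iv7 F217828) (iv2 F218169)
theorem F339559 : act 5 n135677 = n119208 := d21_2 (iv5 F338686) (iv1 F339558) (iv6 D119208) (iv1 D54856) (iv6 D26538) (iv5 D12676) (iv1 F21069) D26499 D54786 (iv1 F317648)
theorem F339560 : act 0 n119208 = n135251 := d21_1 F339559 (iv5 D135251) (iv6 D63569) (iv1 D30016) D30018 D63574 D135261 F217463 D135526 (iv1 F339558)
theorem F339561 : act 4 n127746 = n119208 := d17_9 F339560 (iv5 D135251) F101902 (iv5 F328385) F316453 (iv5 F205356) F205355 F192293 D127746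
theorem F339562 : act 1 n119208 = n135220 := d15_1 (iv0 F339560) F217410 (iv2 F217453)
theorem F339563 : act 2 n119208 = n145063 := d1_1 F339561 F228006 (iv2 F264328)
theorem F339564 : act 7 n119208 = n146007 := d11_2 (iv7 F264329) F339561 (iv4 D146007)
theorem F339565 : act 1 n114669 = n145985 := d18_8 F338643 (iv4 F325787) (iv1 F205355) F339561 (iv5 F339559) (iv4 D135677) (iv0 F99151) (iv4 F329474) F338664
theorem F339566 : act 7 n90243 = n145079 := d14_2 F339564 (iv6 F338692) (iv6 D145079) F318690 D119208
theorem F339567 : act 1 n145063 = n134493 := d15_0 (iv0 F338693) (iv7 F339564) F339563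
theorem F339568 : act 2 n145079 = n90135 := d4_1 F339566 (iv7 F142388) F142386
theorem F339569 : act 5 n145079 = n90134 := d13_1 F339566 F138580 D90243
theorem F339570 : act 4 n89233 = n161651 := d16_2 F67866 D89233 (iv5 D161651) (iv4 F333714) (iv5 D145083) (iv4 F228028) F339569 F138580 (iv2 F67869)
theorem F339571 : act 3 n172846 = n89237 := d5_3 F339570 F255670 D172846 (iv4 D89237) (iv3 F136952)
theorem F339572 : act 1 n145079 = n93018 := d15_0 (iv0 F143465) F142388 (iv2 F339568)
theorem F339573 : act 4 n93018 = n175222 := d18_7 F314405 (iv4 F297964) D77640 (iv4 F333714) (iv5 D145083) (iv4 F228028) F339572 (iv0 D175222) (iv5 D83684)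
theorem F339574 : act 3 n175222 = n133310 := d19_3 F142988 D93018 F339573 F241176 F308535 (iv4 D40206) (iv3 F296702) (iv1 D17553) D17556 D36362 D79826 (iv1 F328297) (iv5 D45003) (iv4 F66805) (iv3 F66646) (iv1 F58689) F290690 F68880 (iv3 F142980)
theorem F339575 : act 3 n93026 = n124558 := d5_3 (iv4 F339573) F143464 D93026 (iv4 F310635) (iv3 F339574)
theorem F339576 : act 3 n94258 = n175224 := d20_5 D92459 (iv1 F293278) (iv4 D102943) (iv3 F293275) (iv1 F177779) (iv4 D175224) D175222 (iv4 F339573) F143464 (iv1 F68403)
theorem F339577 : act 5 n175224 = n94257 := d6_2 D94258 F339576 (iv3 D94257)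
theorem F339578 : act 3 n135870 = n114958 := d7_3 F179045 F339576 (iv6 F338653)
theorem F339579 : act 4 n152278 = n166532 := d20_0 (iv1 D166532) (iv4 F335980) (iv3 F179304) (iv1 F218533) F339578 (iv4 F258823) (iv1 D164207) (iv4 F177623) (iv3 F332575) F327113
theorem E98193 : n166532 = n164144 := (c1_1 F339579 (iv2 F336471) F239688 (iv2 F239352))
theorem F339580 : act 0 n164144 = n79930 := (sb E98193 (iv1 D166532))
theorem F339581 : act 3 n164144 = n175641 := (sb E98193 (iv3 F336435))
theorem F339582 : act 4 n164144 = n152278 := (sb E98193 (iv4 F339579))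
theorem E98194 : n175646 = n152278 := (c5_6 (iv4 F339582) F339581 (iv4 D175641) (iv3 D83858) D83859 D175646)
theorem F339583 : act 3 n152278 = n83859 := (sb E98194 (iv3 D175646))
theorem F339584 : act 3 n135220 = n175645 := d20_3 (iv4 F338651) F338677 F338678 (iv1 D175645) (iv3 F339583) (iv4 F339582) F339580 (iv4 F335980) (iv3 F179304) (iv1 F218533)
theorem F339585 : act 3 n98151 = n147853 := d5_3 F338678 F339584 (iv4 F274972) F231625 (iv3 F231614)
theorem F339586 : act 5 n175645 = n135219 := d6_2 D135220 F339584 F217407
theorem F339587 : act 3 n173593 = n105361 := d20_3 (iv4 D83859) (iv1 F127948) (iv4 F272038) F179047 (iv3 F339578) (iv4 F338651) F338677 F338678 F339584 (iv1 D175645)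
theorem F339588 : act 2 n113971 = n175678 := d0_3 F339587 F193496 (iv3 F177311) F275056 (iv2 F272037)
theorem F339589 : act 5 n105359 = n173593 := d6_0 F339587 (iv5 D105361) D105359
theorem F339590 : act 0 n175659 = n117905 := d20_10 (iv4 D117905) (iv1 F326376) (iv4 F104825) (iv3 F318942) F178437 (iv3 F339587) F272038 (iv1 F127947) D83864 D175659
theorem F339591 : act 4 n127320 = n175667 := d20_8 F272038 (iv1 F127947) D83864 D175659 F339590 (iv3 F204552) (iv4 D127323) D127320 (iv3 D175667) (iv1 F272041)
theorem E98195 : n175659 = n138698 := ((c20_7 F20719 D14760 F104774 D59986 F315673 (iv3 F100897) D138698 F339590 (iv4 D117905) (iv3 D54310) (iv1 D26254))).symm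
theorem F339592 : act 0 n138698 = n117905 := (sb E98195 F339590)
theorem F339593 : act 3 n138698 = n83864 := (sb E98195 (iv3 D175659))
theorem F339594 : act 6 n92451 = n138698 := d7_0 F339593 F323483 (iv3 F142233)
theorem F339595 : act 2 n138698 = n147960 := d3_1 F339594 F231774 (iv2 F318930)
theorem F339596 : act 7 n138698 = n117735 := d14_2 (iv7 F318932) F339594 (iv6 D117735) F85583 D69317
theorem F339597 : act 3 n117735 = n173582 := d8_1 F339596 F273749 (iv3 F339593)
theorem E98196 : n147958 = n117905 := (c15_1 D147958 (iv0 F339592) F339596 F184397)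
theorem F339598 : act 0 n117905 = n69315 := (sb E98196 (iv1 D147958))
theorem F339599 : act 0 n127434 = n140801 := d20_10 F338183 F338188 F105509 F51145 (iv1 F41685) D54310 D117905 F339598 (iv4 F229744) F229743
theorem E98197 : n147957 = n146348 := ((c15_4 (iv0 D147957) (iv0 F339598) F184916 (iv2 F327713))).symm
theorem F339600 : act 1 n146348 = n69315 := (sb E98197 (iv0 D147957))
theorem F339601 : act 1 n124885 = n156642 := d18_6 F339599 F338183 F338188 F105509 (iv5 F92224) (iv4 F200564) (iv4 D156642) (iv0 F316993) (iv5 F204834)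
theorem F339602 : act 3 n152507 = n147317 := d20_5 F313267 F87907 (iv4 F315543) (iv3 F335976) F336476 F230979 F339599 F338183 F122494 (iv1 F60236)
theorem F339603 : act 6 n140801 = n124510 := d21_5 (iv5 D28411) D28409 D59854 D127434 F339599 (iv5 F301034) F311258 (iv5 F104506) (iv6 D68327) (iv1 F50772)
theorem F339604 : act 2 n124554 = n140801 := d15_3 (iv0 F339599) F330020 (iv7 F335057)
theorem E98198 : n145760 = n66064 := (c15_2 F335055 D145760 D140801 (iv2 F339604))
theorem E98199 : n140798 = n68341 := ((D140798).symm.trans (sb E98198 (iv1 D145760)))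
theorem F339605 : act 1 n68341 = n66064 := (sb E98199 (iv0 D140798))
theorem F339606 : act 4 n146737 = n150855 := d17_4 (iv1 D69238) D69239 F335061 (iv5 F321714) (iv5 D150855) (iv0 D71120) (iv5 F104530) F339605 (iv4 F338182)
theorem E98200 : n166487 = n147439 := (c18_4 (iv1 D84846) D84848 D178287 (iv4 F277848) (iv5 D147439) F105414 F339605 (iv4 F338182) F230536 F335059)
theorem F339607 : act 1 n147439 = n79919 := (sb E98200 (iv0 D166487))
theorem F339608 : act 4 n147439 = n178287 := (sb E98200 F277848)
theorem F339609 : act 5 n108448 = n108967 := d19_5 (iv1 F339605) F104530 (iv4 F107639) (iv3 F319260) (iv1 F167679) F168963 F163920 F53711 (iv5 D34166) (iv4 F316083) D71308 (iv1 F316915) F316917 F319486 (iv3 F250241) (iv1 D117880) D117881 (iv4 F338180) F223862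
theorem E98201 : n146411 = n139133 := ((c20_1 D139133 F233226 (iv4 F338180) F223862 (iv1 F339605) F104529 (iv4 F104531) (iv1 F323545) (iv4 F324827) D138986 F222155)).symm
theorem F339610 : act 0 n139133 = n117881 := (sb E98201 F233226)
theorem F339611 : act 2 n139133 = n68706 := (sb E98201 F247778)
theorem F339612 : act 5 n139133 = n68646 := (sb E98201 (iv5 D146411))
theorem F339613 : act 7 n139133 = n68711 := (sb E98201 F247779)
theorem E98202 : n140797 = n127554 := ((c21_9 D66064 (iv1 F339605) F104530 (iv6 D32931) D32928 F319288 (iv5 F319287) D59902 D127554 (iv6 D140797) (iv1 D66063))).symm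
theorem F339614 : act 6 n127554 = n66063 := (sb E98202 (iv6 D140797))
theorem F339615 : act 5 n147282 = n140785 := d21_0 (iv1 D140785) D140786 F223872 (iv1 F339605) (iv6 D68341) F50105 (iv1 F54313) F54314 D69782 F230902
theorem F339616 : act 2 n140785 = n141589 := d2_1 F339615 F330061 F230932
theorem F339617 : act 7 n140785 = n142085 := d13_2 F230938 F339615 F326252
theorem F339618 : act 6 n140785 = n137896 := d21_3 F115240 F230902 F339615 F221132 (iv6 F333342) F333336 (iv1 D148496) (iv5 D69579) D69580 (iv1 F313170)
theorem E98203 : n170416 = n127207 := (c21_4 (iv5 D37345) D37343 D81705 D170416 (iv1 F221134) (iv6 F339618) (iv5 F339615) (iv1 F230903) (iv5 F313174) F313241 (iv1 D81713))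
theorem F339619 : act 6 n127207 = n81705 := (sb E98203 (iv6 D170416))
theorem F339620 : act 0 n156402 = n108288 := d21_1 F314920 F310506 F321579 D127207 F339619 (iv5 D81705) (iv1 F71703) (iv5 F150005) (iv6 F315747) (iv1 F233357)
theorem F339621 : act 1 n154035 = n148593 := d18_6 F339620 F310505 (iv1 F242044) F112583 (iv5 F109384) D154035 F233348 D148603 F314920
theorem F339622 : act 5 n127210 = n138515 := d21_8 F312246 (iv1 F53644) F245850 D156402 F339620 F310507 F321590 D127210 (iv6 D138515) (iv1 F312244)
theorem E98204 : n148603 = n115865 := ((c21_6 F204485 F180663 F321031 (iv6 D66067) (iv1 F84272) D115865 F314920 F339620 F310506 F321579 D127207)).symm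
theorem F339623 : act 0 n115865 = n69645 := (sb E98204 (iv1 D148603))
theorem F339624 : act 1 n115865 = n127322 := (sb E98204 F233357)
theorem F339625 : act 5 n115865 = n156402 := (sb E98204 F314920)
theorem F339626 : act 7 n156402 = n150423 := d13_2 (iv7 F318766) F339625 (iv5 F315742)
theorem F339627 : act 1 n138546 = n107848 := d15_0 F312648 (iv7 F339626) (iv2 F245863)
theorem F339628 : act 1 n153656 = n138546 := d15_0 F339627 F200165 F310504
theorem E98205 : n127320 = n66076 := (c17_7 (iv1 F308500) F283313 (iv1 D181992) (iv5 D86922) (iv4 F74436) D101278 F314921 (iv5 F322932) F339627 F312649)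
theorem E98206 : n140829 = n101278 := ((D140829).symm.trans (sb E98205 (iv1 F314921)))
theorem E98207 : n140830 = n59766 := ((D140830).symm.trans (sb E98205 (iv0 D127320)))
theorem E98208 : n175667 = n140828 := ((((iv4 F223909)).symm.trans (sb E98205 F339591))).symm
theorem F339629 : act 1 n101278 = n66076 := (sb E98206 (iv0 D140829))
theorem F339630 : act 0 n59766 = n66076 := (sb E98207 (iv1 D140830))
theorem F339631 : act 3 n140828 = n83867 := (sb E98208 (iv3 D175667))
theorem F339632 : act 4 n99882 = n138546 := d18_7 (iv1 F206239) (iv4 F206237) (iv1 F199571) (iv4 D124729) F190134 (iv4 F240098) F304641 F339627 F312650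
theorem E98209 : n154039 = n140828 := ((c18_6 (iv1 F190126) (iv4 F240122) F307578 F339632 F322932 (iv4 F223909) F242065 (iv4 D72923) F109388 F109384)).symm
theorem F339633 : act 0 n140828 = n72907 := (sb E98209 (iv1 D154039))
theorem F339634 : act 1 n140828 = n72923 := (sb E98209 F242065)
theorem E98210 : n149157 = n140824 := ((c20_4 D72923 (iv1 F339634) F223909 (iv3 F223905) (iv1 D149157) F106406 D70011 D149177 F242059 (iv3 D154034) (iv1 F109388))).symm
theorem F339635 : act 0 n140824 = n70000 := (sb E98210 (iv1 D149157))
theorem E98211 : n154041 = n135844 := (c17_2 F339633 D154041 (iv1 F218502) (iv5 F335843) (iv4 F320176) F320177 (iv0 F305993) D101278 F339629 (iv4 F223909))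
theorem F339636 : act 5 n135844 = n72907 := (sb E98211 (iv5 D154041))
theorem F339637 : act 5 n119722 = n113876 := d2_2 F339636 F190891 F328629
theorem E98212 : n154040 = n115228 := (c6_2 F339636 D154040 F179441 (iv3 F218498))
theorem F339638 : act 3 n115228 = n72907 := (sb E98212 (iv3 D154040))
theorem F339639 : act 5 n142852 = n135845 := d17_1 D142852 (iv1 F218501) F339636 (iv4 D72907) (iv5 D33611) (iv0 D16251) D16253 F318067 (iv4 F102901)
theorem F339640 : act 5 n128824 = n101274 := d16_1 (iv4 F207091) (iv4 D101274) (iv5 D47156) (iv4 F304942) D33611 D72907 (iv5 F339636) (iv7 D135844) (iv2 F99341)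
theorem F339641 : act 3 n101274 = n128825 := d6_1 F339640 (iv5 D128825) (iv3 F207090)
theorem F339642 : act 0 n154024 = n128824 := d17_2 (iv1 D154022) D154024 F339640 (iv4 D101274) (iv5 D47156) (iv0 F304952) D33663 D73075 (iv4 F242048)
theorem F339643 : act 5 n183432 = n106252 := d17_5 (iv1 D87567) (iv5 D40757) D40755 D87559 D183432 (iv0 F335845) F339640 (iv0 F285209) (iv4 D183457)
theorem E98213 : n153995 = n134078 := ((c21_5 (iv5 F294527) F70018 D75162 (iv6 F328765) D134078 F242013 D154024 F339642 F339640 F295126 F294524)).symm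
theorem F339644 : act 4 n134078 = n72870 := (sb E98213 (iv4 D153995))
theorem F339645 : act 6 n134078 = n72884 := (sb E98213 F242013)
theorem F339646 : act 6 n154023 = n145461 := d7_2 F339645 D154023 (iv3 F336928)
theorem E98214 : n176473 = n73061 := (c18_8 (iv1 D63003) (iv4 F98275) D134078 F339644 (iv5 D72870) (iv4 F94820) (iv0 F319548) D176473 F198103 F336386)
theorem E98215 : n154222 = n84148 := ((D154222).symm.trans (sb E98214 (iv4 D176473)))
theorem F339647 : act 4 n84148 = n73061 := (sb E98215 (iv4 D154222))
theorem F339648 : act 4 n154220 = n173694 := d1_2 F339647 (iv2 F242333) F272220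
theorem F339649 : act 4 n154224 = n176474 := d10_3 (iv6 D176474) F339647 D154224
theorem E98216 : n176482 = n154393 := ((c17_9 (iv1 F272228) (iv5 D173695) (iv1 F128032) D84148 F339647 (iv5 F329776) D108815 F329957 D154393 (iv4 D176482))).symm
theorem F339650 : act 4 n154393 = n84152 := (sb E98216 (iv4 D176482))
theorem E98217 : n154393 = n89248 := ((c1_4 F339650 (iv2 F315801) (iv4 D134132) (iv2 F329134))).symm
theorem F339651 : act 0 n89248 = n73133 := (sb E98217 (iv1 D154393))
theorem F339652 : act 4 n89248 = n84152 := (sb E98217 F339650)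
theorem E98218 : n176484 = n89247 := (c10_3 D89248 F339652 D176484 (iv4 D89247))
theorem F339653 : act 6 n89247 = n84152 := (sb E98218 (iv6 D176484))
theorem F339654 : act 4 n167586 = n131464 := d16_2 F339652 (iv5 F301463) F210731 (iv4 D129055) F95269 (iv4 F98234) D134030 F216003 (iv2 F329134)
theorem F339655 : act 4 n164151 = n170251 := d16_2 (iv4 F298857) (iv5 F323613) (iv5 F329121) F216090 (iv5 F329135) F339652 (iv5 F301463) (iv7 F298853) F298851
theorem E98219 : n154389 = n132962 := ((c18_5 F155162 (iv4 F113291) F315825 F213589 D132962 F242458 (iv0 F339651) F339652 (iv0 D84152) (iv5 D38789))).symm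
theorem F339656 : act 4 n132962 = n73133 := (sb E98219 F242458)
theorem E98220 : n73131 = n62395 := (((F213596).symm.trans (sb E98219 (iv6 D154389)))).symm
theorem E98221 : n154366 = n132975 := (((D132975).symm.trans (sb E98220 (iv1 F242444)))).symm
theorem E98222 : n154365 = n132822 := ((((iv0 F213319)).symm.trans (sb E98220 F242448))).symm
theorem E98223 : n154370 = n132914 := ((((iv2 F213520)).symm.trans (sb E98220 (iv2 F242446)))).symm
theorem E98225 : n132976 = n33682 := ((D132976).symm.trans (sb E98220 (iv4 D73131)))
theorem E98227 : n154355 = n132977 := (((D132977).symm.trans (sb E98220 (iv7 F242437)))).symm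
theorem F339657 : act 0 n132975 = n73126 := (sb E98221 (iv1 D154366))
theorem F339658 : act 1 n132822 = n73126 := (sb E98222 (iv0 D154365))
theorem F339659 : act 4 n132914 = n73129 := (sb E98223 F242447)
theorem F339660 : act 7 n132914 = n73126 := (sb E98223 (iv7 D154370))
theorem F339661 : act 4 n33682 = n62395 := (sb E98225 (iv4 D132976))
theorem F339662 : act 2 n132977 = n73126 := (sb E98227 F242436)
theorem F339663 : act 4 n132977 = n73124 := (sb E98227 (iv4 D154355))
theorem E98228 : n176486 = n134030 := (c9_10 F301463 (iv4 F339652) F329135 (iv4 F216090) F329121 (iv4 F339655) F323613 F298857 (iv5 F272227) D176486 (iv5 D134030) F98234 (iv5 F95269) D129055 (iv5 F210731) (iv4 F339654))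
theorem F339664 : act 4 n134030 = n84153 := (sb E98228 (iv4 D176486))
theorem F339665 : act 7 n170251 = n129054 := d16_8 D129055 (iv5 F210731) (iv4 F339654) F301463 (iv4 F339652) F329135 (iv4 F216090) F329121 (iv2 D129054)
theorem F339666 : act 2 n128644 = n170251 := d4_3 F339665 (iv2 D129054) (iv7 F206935)
theorem F339667 : act 1 n129053 = n170251 := d15_1 D129053 F339665 (iv2 D129054)
theorem E98229 : n163469 = n129053 := ((c20_8 (iv4 D35906) (iv1 D17381) (iv4 F28333) (iv3 F56556) D78859 D164151 F339655 (iv1 F339667) F257750 F119756 (iv1 F115645))).symm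
theorem F339668 : act 3 n129053 = n78562 := (sb E98229 F257749)
theorem F339669 : act 4 n129053 = n78583 := (sb E98229 F257750)
theorem F339670 : act 6 n129053 = n79623 := (sb E98229 F297430)
theorem F339671 : act 7 n129053 = n78555 := (sb E98229 (iv7 D163469))
theorem E98230 : n163461 = n129052 := (c15_4 (iv0 D129052) D129053 F339671 (iv2 F257744))
theorem F339672 : act 2 n129052 = n78555 := (sb E98230 F257744)
theorem F339673 : act 4 n129052 = n78579 := (sb E98230 F257745)
theorem F339674 : act 6 n129052 = n78553 := (sb E98230 (iv6 D163461))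
theorem F339675 : act 0 n129052 = n170251 := d21_4 D166597 F262185 (iv5 D163460) (iv6 F339674) (iv6 D170251) (iv5 D81649) (iv1 F297050) F322997 (iv6 D79961) D79957
theorem F339676 : act 5 n132039 = n129052 := d21_6 F125364 F70727 (iv5 F328125) (iv6 D61963) D61959 D132039 F339675 (iv5 F329121) F329122 F132356
theorem F339677 : act 2 n163468 = n132039 := d2_3 F339676 F339672 D163468
theorem F339678 : act 6 n163460 = n132038 := d12_4 D132039 F339676 F339674 D163460 (iv5 D132038)
theorem F339679 : act 4 n176491 = n132039 := d16_2 D84154 D176491 F339676 F339673 D163522 F323693 D173695 F272224 F129192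
theorem E98231 : n132039 = n60641 := ((c19_1 D60641 F339676 F339673 (iv3 F193230) F334268 (iv5 D61725) F46920 (iv3 D13917) (iv1 F23044) F23045 (iv4 D6586) (iv3 F10648) D13841 (iv5 F24095) (iv4 F48836) F48835 F39324 F23840 F23843 D28788)).symm
theorem E98232 : n163468 = n128946 := (((D128946).symm.trans (sb E98231 (iv2 F339677)))).symm
theorem E98233 : n176491 = n128948 := (((D128948).symm.trans (sb E98231 (iv4 F339679)))).symm
theorem E98234 : n129052 = n128949 := (((D128949).symm.trans (sb E98231 F339676))).symm
theorem E98235 : n128950 = n61959 := ((D128950).symm.trans (sb E98231 (iv6 D132039)))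
theorem F339680 : act 3 n128946 = n78561 := (sb E98232 F257748)
theorem F339681 : act 5 n128946 = n78555 := (sb E98232 (iv5 D163468))
theorem F339682 : act 5 n128948 = n84154 := (sb E98233 (iv5 D176491))
theorem F339683 : act 0 n128949 = n170251 := (sb E98234 F339675)
theorem F339684 : act 1 n128949 = n60673 := (sb E98234 (iv0 D129052))
theorem F339685 : act 2 n128949 = n78555 := (sb E98234 F339672)
theorem F339686 : act 4 n128949 = n78579 := (sb E98234 F339673)
theorem F339687 : act 6 n128949 = n78553 := (sb E98234 F339674)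
theorem F339688 : act 6 n61959 = n60641 := (sb E98235 (iv6 D128950))
theorem F339689 : act 6 n128946 = n106613 := d3_2 F339688 D128946 F218395
theorem F339690 : act 6 n128947 = n132036 := d7_2 F339688 D128947 (iv3 D132036)
theorem F339691 : act 6 n128948 = n132037 := d10_2 F339688 D128948 (iv4 D132037)
theorem E98236 : n176488 = n96425 := (c21_8 (iv5 D40762) (iv1 F294152) D40504 F337801 F217263 (iv6 F339691) F339682 D176488 F148447 (iv6 D45050) (iv1 F294458))
theorem F339692 : act 1 n96425 = n84154 := (sb E98236 (iv0 D176488))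
theorem F339693 : act 7 n176489 = n95394 := d15_2 F339692 D176489 (iv2 F148446)
theorem E98237 : n124716 = n96489 := (c17_6 D84152 (iv5 F301463) (iv1 F312587) F242284 F199534 D124716 (iv0 D96489) (iv5 F148447) F339692 (iv4 D84154))
theorem F339694 : act 2 n96489 = n72870 := (sb E98237 F199536)
theorem F339695 : act 5 n96489 = n58292 := (sb E98237 (iv5 D124716))
theorem F339696 : act 6 n96489 = n58295 := (sb E98237 F199537)
theorem F339697 : act 5 n184102 = n134374 := d21_8 F339682 (iv1 F339692) F148447 (iv6 D45050) (iv1 F294458) D87576 (iv5 F134786) D184102 (iv6 D134374) F216302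
theorem F339698 : act 3 n134379 = n184102 := d6_3 F339697 F216372 D134379
theorem F339699 : act 7 n138156 = n184102 := d13_0 F339697 F333881 D138156
theorem E98238 : n181991 = n137660 := ((c21_10 F134452 (iv1 F306402) D58295 (iv6 F339696) F329743 (iv6 D64729) (iv5 D30448) D30444 D64712 D137660 (iv1 F283319))).symm
theorem F339700 : act 0 n137660 = n87569 := (sb E98238 (iv1 F283319))
theorem F339701 : act 1 n137660 = n86922 := (sb E98238 (iv0 D181991))
theorem E98239 : n176489 = n117465 := ((c21_1 (iv5 F329082) (iv1 D176489) (iv5 F339682) F339691 F337797 (iv6 F295125) F134452 (iv1 F306402) D58295 (iv6 F339696) F329743)).symm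
theorem F339702 : act 0 n117465 = n84154 := (sb E98239 (iv1 D176489))
theorem F339703 : act 7 n117465 = n95394 := (sb E98239 F339693)
theorem F339704 : act 3 n95394 = n117470 := d8_1 F339703 (iv7 D117470) (iv3 F183978)
theorem F339705 : act 3 n146917 = n96425 := d0_4 F339704 F329419 F331614 (iv2 F230314) F148446
theorem F339706 : act 4 n166390 = n95394 := d5_0 F339704 F183979 (iv3 F106145) F317587 (iv3 F261971)
theorem F339707 : act 6 n117470 = n95389 := d7_2 D95394 F339704 F147019
theorem F339708 : act 4 n95389 = n117273 := d10_1 F339707 F183516 (iv4 F183979)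
theorem F339709 : act 4 n117523 = n150139 := d17_9 F285873 (iv5 D183990) F293413 D95389 F339708 F183515 F183460 F233319 F233317
theorem F339710 : act 4 n148521 = n182995 := d17_4 F183640 D117288 (iv1 F183648) D148521 (iv5 D182995) F134118 (iv5 F321337) F321335 F339708
theorem E98240 : n185046 = n91130 := (c18_2 F287564 (iv4 F287563) (iv1 D91130) (iv4 F70069) D95389 F339708 F183518 D117452 (iv0 F329752) F153556)
theorem F339711 : act 3 n91130 = n88203 := (sb E98240 (iv3 D185046))
theorem F339712 : act 4 n91130 = n185304 := (sb E98240 F287563)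
theorem E98241 : n118649 = n106321 := ((c20_7 F339708 F183640 D117287 F314947 (iv1 F243496) F309300 (iv4 F309301) (iv1 D118649) (iv4 F186611) (iv3 F306470) (iv1 F293415))).symm
theorem F339713 : act 0 n106321 = n54632 := (sb E98241 (iv1 D118649))
theorem F339714 : act 1 n106321 = n71367 := (sb E98241 F186612)
theorem E98242 : n102168 = n95293 := (c19_17 (iv1 F183460) (iv5 F183515) (iv4 F339708) F147019 F309576 F309400 F64628 F33498 (iv1 F63239) (iv5 F290895) (iv4 F33033) F293949 F292962 (iv5 D22787) D22786 D47436 D102168 (iv5 D95293) F314846 (iv3 F242960))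
theorem F339715 : act 1 n95293 = n47436 := (sb E98242 (iv0 D102168))
theorem F339716 : act 7 n102169 = n95589 := d15_2 F339715 D102169 F147254
theorem E98243 : n179097 = n133366 := (c21_1 D179097 (iv1 F214420) (iv5 D130570) (iv6 F329578) (iv1 F339715) F146939 (iv5 D44515) F66025 D23041 D47872 (iv1 F331330))
theorem F339717 : act 3 n133366 = n85460 := (sb E98243 F279035)
theorem F339718 : act 5 n133366 = n85459 := (sb E98243 (iv5 D179097))
theorem F339719 : act 6 n96242 = n89414 := d21_5 (iv5 D10326) D10323 (iv5 F33700) D44935 D96242 F137093 (iv1 F339715) (iv5 D95293) (iv6 D44514) F33415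
theorem F339720 : act 5 n95291 = n128534 := d21_2 (iv5 D95293) D95291 (iv6 D128534) F102641 (iv6 F321153) (iv5 F339718) (iv1 F214420) (iv5 D130570) (iv6 F329578) (iv1 F339715)
theorem F339721 : act 3 n128536 = n95291 := d6_3 F339720 F206744 D128536
theorem F339722 : act 6 n128533 = n183256 := d12_4 F332541 F339720 (iv6 D128534) D128533 (iv5 F332543)
theorem F339723 : act 3 n183256 = n128535 := d7_1 F339722 (iv6 D128535) (iv3 F206742)
theorem F339724 : act 5 n181933 = n128531 := d21_0 (iv1 D128531) D128533 F339722 (iv1 D183256) F134289 (iv5 D40699) F293899 D40314 D86897 D181933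
theorem F339725 : act 3 n95587 = n88865 := d0_2 F339721 (iv2 F332540) F136268 (iv3 F329768) (iv2 F206747)
theorem F339726 : act 4 n114873 = n128536 := d5_0 F339721 F332539 D103134 F190342 D114873
theorem F339727 : act 7 n159446 = n128536 := d8_0 F339721 (iv7 F332542) F317172
theorem F339728 : act 0 n95302 = n128536 := d20_4 F241359 F241356 F234599 F234600 F339721 F332539 (iv1 F315749) (iv4 F317107) (iv3 F106431) (iv1 F158902)
theorem F339729 : act 0 n128536 = n159448 := d20_4 (iv4 F36071) D47811 (iv4 F332539) (iv3 F339721) F251084 F163151 (iv1 F120162) F190344 (iv3 D47821) (iv1 D23013)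
theorem F339730 : act 5 n159448 = n112849 := d17_3 F163546 D128536 F339729 (iv4 D112849) (iv5 F82332) (iv0 D34241) F26238 D28317 D59675
theorem E98244 : n127103 = n103744 := ((c18_5 F339729 F251085 (iv1 F234603) (iv4 D103743) D103744 F204350 (iv0 F94065) D59671 F163695 D128536)).symm
theorem F339731 : act 0 n103744 = n59666 := (sb E98244 (iv1 F204352))
theorem F339732 : act 1 n103744 = n59665 := (sb E98244 F204353)
theorem F339733 : act 2 n103744 = n59668 := (sb E98244 F204349)
theorem F339734 : act 4 n103744 = n59661 := (sb E98244 F204350)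
theorem F339735 : act 6 n103744 = n111010 := (sb E98244 F204351)
theorem F339736 : act 7 n103744 = n59658 := (sb E98244 (iv7 D127103))
theorem E98245 : n121354 = n114873 := (c20_11 F339726 F339729 F251085 F114329 (iv1 F177628) D53058 (iv4 F179066) F335509 (iv4 F305734) (iv3 F88597) D121354)
theorem F339737 : act 1 n114873 = n55985 := (sb E98245 (iv0 D121354))
theorem E98246 : n114056 = n53058 := (c20_11 (iv4 F179066) F335509 (iv4 F305734) (iv3 F88597) (iv1 F339737) (iv3 D114873) (iv4 F190342) (iv1 F332538) (iv4 F229733) F338206 (iv1 F177556))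
theorem E98247 : n114994 = n52641 := ((D114994).symm.trans (sb E98246 (iv1 D114056)))
theorem E98248 : n114995 = n71893 := ((D114995).symm.trans (sb E98246 F177556))
theorem E98249 : n130666 = n114055 := (((D114055).symm.trans (sb E98247 (iv1 F333218)))).symm
theorem F339738 : act 1 n52641 = n53058 := (sb E98247 (iv0 D114994))
theorem F339739 : act 0 n71893 = n53058 := (sb E98248 (iv1 D114995))
theorem F339740 : act 2 n114055 = n71890 := (sb E98249 F328153)
theorem F339741 : act 3 n114055 = n114945 := (sb E98249 F333219)
theorem F339742 : act 4 n114055 = n152217 := (sb E98249 (iv4 F335513))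
theorem F339743 : act 6 n114055 = n61308 := (sb E98249 (iv6 D130666))
theorem F339744 : act 7 n114055 = n71891 := (sb E98249 F328154)
theorem E98250 : n155962 = n95741 := (c20_5 F314952 (iv1 F242954) F319385 (iv3 F319384) D155962 F147436 F120173 (iv1 F339737) F339726 F339721 (iv1 F147260))
theorem F339745 : act 0 n95741 = n103155 := (sb E98250 (iv1 F319847))
theorem F339746 : act 1 n95741 = n74179 := (sb E98250 (iv0 D155962))
theorem F339747 : act 7 n155963 = n97106 := d15_2 F339746 D155963 F149835
theorem F339748 : act 0 n131376 = n172796 := d18_0 (iv4 F311034) (iv1 F210373) (iv4 F311011) D83677 (iv4 F335525) F339746 F110938 D147169 (iv5 F337585)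
theorem E98251 : n147185 = n119849 := ((c20_3 (iv4 F339742) (iv1 F177562) (iv4 F303500) (iv3 D147185) (iv1 D69002) (iv3 F105207) (iv4 F110938) (iv1 F339746) F335525 F128741 D152217)).symm
theorem F339749 : act 3 n119849 = n69002 := (sb E98251 (iv3 D147185))
theorem E98252 : n147187 = n119847 := (c6_3 D119849 F339749 D147187 (iv3 D119847))
theorem F339750 : act 5 n119847 = n69002 := (sb E98252 (iv5 D147187))
theorem F339751 : act 3 n175245 = n152217 := d20_5 F51039 D32100 D69008 (iv3 F334573) D175245 (iv4 F339742) (iv1 F177562) (iv4 F303500) F339749 (iv1 D69002)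
theorem F339752 : act 3 n152221 = n131514 := d8_3 (iv7 F337075) F339751 (iv7 F335514)
theorem E98253 : n175580 = n175246 := ((c0_2 F339752 F337076 (iv3 D175580) F334788 D114983 F335515)).symm
theorem F339753 : act 3 n175246 = n83833 := (sb E98253 (iv3 D175580))
theorem F339754 : act 5 n131509 = n152221 := d6_0 F339752 (iv5 D131514) (iv3 F210774)
theorem F339755 : act 0 n175135 = n131514 := d20_4 F105213 F242988 D146707 (iv3 F339384) (iv3 F339752) F335516 (iv1 D71891) (iv4 F108385) (iv3 F310745) (iv1 F230561)
theorem F339756 : act 4 n131514 = n98315 := d18_1 F339755 (iv1 D98315) D98316 F335214 (iv4 F309814) (iv0 D114734) F83687 D83648 D175135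
theorem F339757 : act 1 n175130 = n131514 := d15_0 (iv0 F339755) F334569 (iv2 F334557)
theorem F339758 : act 4 n100552 = n114687 := d16_0 (iv5 D114687) F315223 (iv5 F210778) F210777 D131514 F339756 (iv5 F161657) (iv7 F251232) F251234
theorem F339759 : act 7 n114687 = n159786 := d16_8 (iv4 F161656) F161657 (iv4 F339756) (iv5 D131514) (iv4 F210777) F210778 (iv4 F315223) D114687 F251788
theorem F339760 : act 2 n145967 = n114687 := d4_3 F339759 F251788 (iv7 F319719)
theorem F339761 : act 3 n102742 = n114687 := d8_3 F339759 F333320 F333322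
theorem F339762 : act 1 n159792 = n114687 := d15_1 D159792 F339759 F251788
theorem F339763 : act 5 n159792 = n120113 := d21_2 D114687 (iv1 F339762) (iv6 D120113) (iv1 D55264) (iv6 D26707) (iv5 D12764) D12761 (iv5 F40556) D25698 D52933
theorem F339764 : act 4 n120113 = n131479 := d17_4 D52933 D114687 (iv1 F339762) F339763 (iv5 D131479) (iv0 D61704) (iv5 F50560) F313956 F83650
theorem F339765 : act 0 n120113 = n175224 := d18_0 (iv4 D175224) D175222 (iv4 F339573) (iv5 D93018) (iv4 F74121) D100553 F161656 D159792 F339763
theorem F339766 : act 3 n131479 = n108003 := d19_3 (iv1 F339762) F339763 F339764 F308903 (iv5 D54334) F41716 F20772 F30465 D17540 F313169 (iv3 F51343) (iv1 F181022) (iv5 D68757) D68756 (iv3 F314945) D73501 D154953 F333332 F339761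
theorem F339767 : act 2 n133841 = n131479 := d0_5 F339766 F200039 F237437 (iv2 F182264) (iv3 F215495)
theorem F339768 : act 7 n144984 = n131479 := d8_0 F339766 F200035 F278610
theorem F339769 : act 6 n146279 = n133841 := d3_0 F339767 F333600 (iv2 F317836)
theorem F339770 : act 0 n179985 = n146279 := d21_4 (iv5 D39776) D39773 D86005 D179985 F339769 (iv5 D133841) F278614 (iv5 F104037) (iv6 F104614) F155282
theorem F339771 : act 0 n94257 = n114696 := d17_2 F339765 F339577 F178804 F316445 F312772 (iv0 F333693) F333695 (iv0 F333604) (iv4 F339764)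
theorem F339772 : act 1 n94236 = n114696 := d15_0 (iv0 F339771) (iv7 F145350) (iv2 F145297)
theorem F339773 : act 1 n114655 = n94236 := d15_0 F339772 (iv7 D114696) (iv2 F178753)
theorem F339774 : act 5 n94236 = n146379 := d21_2 (iv5 F178804) (iv1 F339772) (iv6 D146379) (iv1 F319125) (iv6 F314387) D67955 F104643 (iv5 D68439) D68440 (iv1 F316444)
theorem F339775 : act 2 n146379 = n114491 := d2_1 F339774 (iv5 F178548) (iv2 F145297)
theorem F339776 : act 0 n146379 = n120113 := d18_0 F339764 F333604 F338694 (iv5 D90243) (iv4 F136951) F337266 F178755 F339773 F339774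
theorem F339777 : act 1 n94257 = n114655 := d15_0 F339773 (iv7 F151733) F151732
theorem F339778 : act 6 n114687 = n102897 := d7_2 (iv6 F293772) F339761 (iv3 D102897)
theorem F339779 : act 5 n102897 = n145023 := d12_1 F339778 (iv6 D145023) F104094 F317462 D114687
theorem F339780 : act 3 n145023 = n94291 := d6_1 F339779 F293771 D102897
theorem F339781 : act 0 n186036 = n102897 := d21_1 F339540 F339779 (iv6 D145023) (iv1 F104102) (iv6 F316736) (iv5 D52874) F54059 D29123 D61515 D131121
theorem F339782 : act 6 n94291 = n145022 := d7_2 D145023 F339780 (iv3 D145022)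
theorem F339783 : act 0 n94045 = n144942 := d20_1 D94045 (iv4 F227972) F339780 (iv1 D94291) F69422 F291759 (iv1 F72391) F72389 D88788 (iv1 F291561)
theorem E98254 : n159758 = n117186 := ((c12_2 F339782 F227971 (iv6 D159758) (iv5 F291707) F293772 (iv5 F293771))).symm
theorem F339784 : act 2 n117186 = n76438 := (sb E98254 F251713)
theorem F339785 : act 6 n117186 = n76435 := (sb E98254 (iv6 D159758))
theorem F339786 : act 0 n145022 = n119024 := d21_4 (iv5 F292542) (iv1 F137482) (iv5 F293771) F339782 F187254 (iv5 D54773) F42389 D29696 D62770 F157710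
theorem F339787 : act 7 n117372 = n145953 := d14_4 (iv7 F183348) F339785 F322020 (iv6 F232921) (iv6 D145953)
theorem F339788 : act 0 n151649 = n145022 := d21_1 F334859 F227971 F339785 (iv1 F153470) (iv6 F161831) (iv5 F193440) (iv1 F193443) F321363 (iv6 D114395) (iv1 F319333)
theorem F339789 : act 7 n151649 = n105413 := d15_2 (iv0 F339786) (iv0 F339788) (iv2 F187253)
theorem F339790 : act 3 n106673 = n151649 := d8_3 F339789 F161800 D106673
theorem F339791 : act 3 n145958 = n117372 := d8_3 F339787 F229195 D145958
theorem F339792 : act 0 n116164 = n145520 := d20_10 F228577 (iv1 F335138) F335140 (iv3 F335146) F335143 F339791 (iv4 D117372) (iv1 D54088) (iv4 F85361) (iv3 F180978)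
theorem F339793 : act 2 n159768 = n145022 := d2_3 F227971 F339784 D159768
theorem E98255 : n159767 = n145949 := (c15_1 D159767 (iv0 D145949) (iv7 F183348) F339784)
theorem F339794 : act 0 n145949 = n76438 := (sb E98255 (iv1 D159767))
theorem F339795 : act 1 n117186 = n143213 := d15_0 (iv0 D143213) F323672 (iv2 F339784)
theorem F339796 : act 4 n150314 = n145949 := d17_9 F339794 D159768 F251728 (iv5 D105413) (iv4 F148046) (iv5 F333291) F333288 F321576 (iv0 F279757)
theorem F339797 : act 0 n137904 = n150314 := d18_0 F339796 F339794 (iv4 F323671) F103056 (iv4 F103042) F225861 F321995 (iv0 F324685) D137904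
theorem F339798 : act 6 n127478 = n137904 := d21_3 (iv5 F336856) (iv1 F336867) (iv5 F339434) F339797 (iv6 D150314) (iv5 F215738) (iv1 D70125) D70126 (iv6 F234777) F336873
theorem E98256 : n146202 = n127478 := (c3_4 F339798 F221156 F321281 D146202)
theorem F339799 : act 2 n127478 = n68560 := (sb E98256 (iv2 D146202))
theorem F339800 : act 3 n127478 = n147282 := (sb E98256 F230904)
theorem F339801 : act 4 n127478 = n117361 := (sb E98256 (iv4 F229492))
theorem E98257 : n117361 = n115175 := (c17_5 F336873 (iv5 F336856) (iv1 F336867) (iv5 F339434) F339801 (iv5 D115175) D115173 (iv5 F335183) (iv0 F335186) (iv4 F335187))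
theorem F339802 : act 1 n115175 = n54086 := (sb E98257 (iv0 D117361))
theorem F339803 : act 2 n115175 = n83955 := (sb E98257 F323487)
theorem F339804 : act 4 n115175 = n127478 := (sb E98257 (iv4 F339801))
theorem E98258 : n155411 = n81710 := (c19_19 (iv1 F336867) (iv5 F339434) (iv4 F339804) F179340 (iv1 F97713) (iv5 D62640) F47581 (iv3 F46386) (iv1 F22978) (iv5 D13462) F22504 (iv3 F22503) (iv1 D5799) D5800 D12242 D25782 D53154 D115204 (iv4 F335812) (iv3 F336855))
theorem E98259 : n170430 = n115204 := ((D170430).symm.trans (sb E98258 F335812))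
theorem E98260 : n170431 = n73864 := ((D170431).symm.trans (sb E98258 (iv6 D155411)))
theorem F339805 : act 4 n115204 = n81710 := (sb E98259 (iv4 D170430))
theorem F339806 : act 6 n73864 = n81710 := (sb E98260 (iv6 D170431))
theorem E98261 : n147281 = n49757 := (c5_4 F339804 F339800 (iv4 D147282) D147281 (iv4 F83890) (iv3 F179340))
theorem E98262 : n107704 = n69043 := (((iv3 F166346)).symm.trans (sb E98261 (iv3 D147281)))
theorem F339807 : act 3 n69043 = n49757 := (sb E98262 F166346)
theorem E98263 : n147283 = n49756 := ((D147283).symm.trans (sb E98262 (iv5 D107704)))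
theorem F339808 : act 5 n49756 = n69043 := (sb E98263 (iv5 D147283))
theorem F339809 : act 0 n120613 = n117393 := d20_1 F324698 (iv4 D117393) (iv3 D54097) (iv1 D26174) (iv3 F41515) (iv4 F85361) (iv1 F339802) F339804 F339800 (iv1 F230903)
theorem F339810 : act 1 n114759 = n140783 := d18_6 (iv1 F230903) F324698 F339809 (iv4 D117393) (iv5 F317991) F317990 F223871 D140785 (iv5 F339615)
theorem E98264 : n120619 = n112592 := ((c20_4 (iv4 D117393) (iv1 F190195) (iv4 F105215) (iv3 F175184) (iv1 D120619) (iv3 D55551) (iv4 D26813) D26812 D55548 D120613 F339809)).symm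
theorem F339811 : act 0 n112592 = n55551 := (sb E98264 (iv1 D120619))
theorem F339812 : act 1 n112592 = n85553 := (sb E98264 F192214)
theorem F339813 : act 1 n120613 = n146998 := d15_1 (iv0 F339809) F230424 F190209
theorem F339814 : act 2 n147001 = n120613 := d15_3 F339813 (iv0 F230425) (iv7 F230435)
theorem F339815 : act 5 n146986 = n125003 := d17_5 (iv1 F190197) (iv5 F105274) F190444 F309626 (iv4 F230379) (iv0 D125003) (iv5 F192196) F339813 (iv4 D146998)
theorem F339816 : act 3 n125003 = n146987 := d6_1 F339815 (iv5 D146987) D146986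
theorem E98265 : n159002 = n146986 := (c21_11 F339815 (iv1 F200785) (iv5 F323954) (iv6 D144816) (iv1 F104931) D146670 (iv5 F338383) (iv1 D129803) D129805 F320784 D159002)
theorem F339817 : act 1 n146986 = n75930 := (sb E98265 (iv0 D159002))
theorem F339818 : act 0 n158998 = n148501 := d17_0 (iv5 D148501) (iv1 F313170) F115240 (iv4 F227726) F323954 F200785 (iv5 F339815) F339817 (iv4 F250327)
theorem F339819 : act 6 n146711 = n120613 := d21_5 F206179 (iv1 F303566) (iv5 F305668) F305669 (iv1 F243009) F192196 D125003 (iv5 F339815) F230380 F206181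
theorem E98266 : n161528 = n146711 := (c7_4 F339819 (iv3 D120613) F316431 D161528)
theorem F339820 : act 3 n146711 = n77557 := (sb E98266 (iv3 D161528))
theorem F339821 : act 5 n161168 = n146711 := d12_5 F339819 F192196 D125006 F325016 D161168
theorem F339822 : act 5 n144817 = n131531 := d13_3 F314728 F339821 F243011
theorem F339823 : act 5 n101987 = n167783 := d16_3 (iv4 F94321) (iv5 F329955) (iv4 F156951) F264150 F339821 (iv4 F317939) (iv5 D103136) (iv7 F317934) F315765
theorem E98267 : n174384 = n101987 := (c17_3 (iv1 D83358) D83359 D174384 F339823 F264150 F339821 F243009 (iv5 F334574) (iv0 F315772) F303092)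
theorem F339824 : act 1 n101987 = n83359 := (sb E98267 (iv0 D174384))
theorem E98268 : n174386 = n103166 := (c18_8 (iv1 F75033) F317107 (iv1 F243306) (iv4 F94321) (iv5 F329955) (iv4 F156951) F339824 D174386 (iv0 D103166) (iv5 D47818))
theorem F339825 : act 4 n103166 = n83359 := (sb E98268 (iv4 D174386))
theorem F339826 : act 0 n167783 = n103202 := d17_2 (iv1 F339824) F339823 (iv5 D103202) (iv4 D47827) (iv5 D23014) D23013 D47823 F158438 F339825
theorem F339827 : act 1 n174382 = n103203 := d17_8 (iv1 F147580) (iv5 D95924) (iv1 F290441) (iv5 F158434) F339825 (iv5 D83359) D83358 D174382 F158448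
theorem F339828 : act 1 n103042 = n174382 := d15_0 F339827 (iv7 D103203) (iv2 F158277)
theorem F339829 : act 7 n128534 = n102027 := d16_8 (iv4 F156951) F339823 F264150 F339821 (iv4 F317939) (iv5 D103136) (iv4 F332539) F339720 (iv2 D102027)
theorem F339830 : act 2 n99780 = n128534 := d4_3 F339829 (iv2 D102027) (iv7 F153602)
theorem F339831 : act 3 n102027 = n128537 := d8_1 F339829 (iv7 D128537) (iv3 F206744)
theorem F339832 : act 5 n102027 = n95588 := d13_1 F339829 F332542 F339720
theorem F339833 : act 1 n102026 = n128534 := d15_1 D102026 F339829 (iv2 D102027)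
theorem F339834 : act 5 n146716 = n102026 := d17_5 (iv1 F105192) F242986 (iv1 D68773) D68776 D146716 F339833 (iv5 F339720) (iv0 D95291) F314846
theorem E98269 : n178715 = n102026 := ((c20_5 (iv4 D107277) (iv1 F99521) (iv4 F95010) (iv3 F206744) (iv1 F339833) (iv3 D178715) (iv4 D85144) (iv1 F130474) D72183 F321233 (iv1 F165332))).symm
theorem F339835 : act 3 n102026 = n85144 := (sb E98269 (iv3 D178715))
theorem E98270 : n146716 = n95476 := (c21_3 F339720 (iv1 F339833) (iv5 F339834) (iv6 D95476) (iv1 D44600) (iv6 D21215) (iv5 D10124) (iv1 F15948) D21170 D44514 D95291)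
theorem F339836 : act 3 n95476 = n79928 := (sb E98270 F315417)
theorem F339837 : act 4 n95476 = n68776 := (sb E98270 (iv4 D146716))
theorem F339838 : act 5 n95476 = n102026 := (sb E98270 F339834)
theorem E98271 : n178716 = n79928 := (c6_3 F339838 F339835 D178716 (iv3 F339836))
theorem E98272 : n166528 = n85144 := ((D166528).symm.trans (sb E98271 (iv5 D178716)))
theorem F339839 : act 5 n85144 = n79928 := (sb E98272 (iv5 D166528))
theorem E98273 : n116507 = n112123 := ((c2_3 F339839 (iv2 F323163) D112123 F322188)).symm
theorem F339840 : act 2 n112123 = n85144 := (sb E98273 F322188)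
theorem F339841 : act 4 n112123 = n53694 := (sb E98273 (iv4 D116507))
theorem F339842 : act 7 n112123 = n152929 := (sb E98273 F322189)
theorem E98274 : n141080 = n112095 := ((c12_6 F318333 F339839 (iv6 F322543) (iv5 D51692) D51693 D112095)).symm
theorem F339843 : act 4 n112095 = n66162 := (sb E98274 (iv4 D141080))
theorem F339844 : act 6 n112095 = n85144 := (sb E98274 F318333)
theorem F339845 : act 5 n166529 = n116512 := d13_3 F322199 F339839 D166529
theorem E98275 : n116509 = n112132 := (c1_2 F339843 (iv2 F322191) (iv4 D112132) (iv2 F174261))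
theorem F339846 : act 2 n112132 = n66162 := (sb E98275 F322191)
theorem F339847 : act 5 n112132 = n66161 := (sb E98275 F322192)
theorem F339848 : act 6 n112132 = n53694 := (sb E98275 (iv6 D116509))
theorem F339849 : act 7 n112132 = n151283 := (sb E98275 F322193)
theorem E98276 : n141069 = n53246 := (c16_4 F339843 (iv5 D66162) (iv4 F101781) D141069 (iv4 D53246) F83902 (iv4 F81649) (iv5 F174337) (iv7 D112133) (iv2 F174261))
theorem E98277 : n115426 = n66158 := ((D115426).symm.trans (sb E98276 F224072))
theorem E98278 : n115427 = n66157 := ((D115427).symm.trans (sb E98276 (iv5 D141069)))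
theorem F339850 : act 3 n66158 = n53246 := (sb E98277 (iv3 D115426))
theorem E98279 : n141072 = n53499 := ((D141072).symm.trans (sb E98277 F179721))
theorem F339851 : act 5 n66157 = n53246 := (sb E98278 (iv5 D115427))
theorem F339852 : act 7 n66157 = n66158 := (sb E98278 F179723)
theorem F339853 : act 4 n53499 = n66158 := (sb E98279 (iv4 D141072))
theorem F339854 : act 4 n116077 = n115430 := d16_0 (iv5 D115430) (iv4 D53248) (iv5 F40801) (iv4 F81619) D112095 F339843 (iv5 D66162) (iv7 F84408) D116077
theorem F339855 : act 4 n151283 = n112133 := d9_9 D66162 (iv4 F339843) (iv5 D112095) F81619 F40801 D53248 D115430 (iv4 F339854) F316908 F174337 F81649 (iv5 F83902) D53246 (iv5 F339851) F101781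
theorem F339856 : act 7 n115430 = n141068 := d16_8 F101781 D66162 (iv4 F339843) (iv5 D112095) F81619 F40801 D53248 D115430 (iv2 D141068)
theorem F339857 : act 5 n141068 = n115238 := d13_1 F339856 F179467 D115430
theorem F339858 : act 6 n178671 = n115430 := d14_5 F339856 F316901 F130395 D85101 D178671
theorem F339859 : act 1 n141067 = n115430 := d15_1 D141067 F339856 (iv2 D141068)
theorem F339860 : act 1 n141071 = n141068 := d15_1 D141071 (iv7 F339856) F179727
theorem F339861 : act 4 n141071 = n139799 := d20_2 (iv4 F224070) (iv1 F339860) F222992 F167396 F318705 (iv4 F319655) (iv1 F324086) (iv4 F324738) (iv3 F318323) F316903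
theorem F339862 : act 6 n141071 = n115312 := d21_5 D74314 (iv1 F167147) F316899 (iv6 F316901) (iv1 F339860) (iv5 F179595) (iv1 D53341) (iv5 D25850) (iv6 F26106) D34092
theorem F339863 : act 2 n139634 = n141071 := d3_3 F339862 F179597 D139634
theorem E98280 : n115715 = n115657 := ((c12_3 F339862 (iv5 F179595) D115657 (iv5 D115715) D115716 F224073)).symm
theorem F339864 : act 2 n115657 = n156291 := (sb E98280 (iv2 F245587))
theorem F339865 : act 5 n115657 = n53357 := (sb E98280 (iv5 D115715))
theorem F339866 : act 7 n115657 = n156294 := (sb E98280 (iv7 F245593))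
theorem F339867 : act 7 n141067 = n141071 := d14_0 F339862 F179593 (iv6 F322286) F108348 (iv6 F318318)
theorem F339868 : act 0 n137052 = n115612 := d21_7 D115610 (iv1 F179938) F179595 (iv6 F339862) (iv1 D141071) D141073 F224074 F336232 (iv6 D53331) D53326
theorem F339869 : act 6 n139632 = n156251 := d21_3 (iv5 D66158) F101267 D139632 (iv1 F245564) (iv6 D115611) D115610 (iv1 F179938) F179595 (iv6 F339862) (iv1 D141071)
theorem F339870 : act 5 n156251 = n115288 := d12_1 F339869 (iv6 D115288) F84009 D65534 D139632
theorem F339871 : act 2 n115687 = n156251 := d2_3 F339870 F179552 D115687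
theorem E98281 : n156253 = n115583 := ((c21_6 (iv5 D25793) D25790 D53176 (iv6 F330514) (iv1 F179501) D115583 (iv5 D156253) D156251 F339870 (iv6 D115288) (iv1 D53187))).symm
theorem F339872 : act 3 n115583 = n74342 := (sb E98281 F245567)
theorem F339873 : act 5 n115583 = n74329 := (sb E98281 (iv5 D156253))
theorem F339874 : act 7 n115583 = n115670 := (sb E98281 F245568)
theorem E98282 : n156250 = n115582 := (c12_5 D115583 F339873 (iv6 D74329) (iv5 F111528) D156250 (iv5 D115582))
theorem F339875 : act 3 n115582 = n74339 := (sb E98282 F245563)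
theorem F339876 : act 6 n115582 = n74328 := (sb E98282 (iv6 D156250))
theorem E98283 : n156170 = n53302 := (c21_4 F245542 (iv1 F314631) (iv5 F316899) D156170 (iv1 D53302) D53306 (iv5 F330520) (iv1 F179501) D115582 F339876 (iv1 F245540))
theorem E98284 : n115547 = n74290 := ((D115547).symm.trans (sb E98283 (iv6 D156170)))
theorem F339877 : act 6 n74290 = n53302 := (sb E98284 (iv6 D115547))
theorem E98285 : n178706 = n115258 := ((c3_2 F339877 (iv2 F330525) (iv6 D178706) (iv2 F316898))).symm
theorem F339878 : act 6 n115258 = n85138 := (sb E98285 (iv6 D178706))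
theorem F339879 : act 6 n115544 = n156168 := d7_2 F339877 D115544 (iv3 D156168)
theorem F339880 : act 6 n115545 = n156169 := d10_2 F339877 D115545 (iv4 D156169)
theorem F339881 : act 6 n156247 = n139630 := d21_5 F167137 (iv1 D34093) D34095 D74327 D156247 F330573 (iv1 F330534) (iv5 D115546) (iv6 F339877) (iv1 D74290)
theorem F339882 : act 2 n139631 = n156247 := d3_3 F339881 (iv2 D139630) D139631
theorem F339883 : act 7 n156248 = n139631 := d15_2 (iv0 D156247) D156248 F339882
theorem F339884 : act 3 n115425 = n156248 := d8_3 F339883 F222797 (iv7 F179719)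
theorem F339885 : act 4 n156248 = n122376 := d5_2 (iv4 F179716) F339884 F195772 F329226 (iv3 F171694)
theorem F339886 : act 6 n156248 = n140259 := d7_2 F179720 F339884 (iv3 D140259)
theorem E98286 : n156272 = n144419 := (c20_8 F179456 (iv1 F171696) (iv4 F179716) F339884 (iv1 D156248) F111525 (iv4 F111532) D156272 F227214 F179455 D115235)
theorem F339887 : act 1 n144419 = n74335 := (sb E98286 (iv0 D156272))
theorem F339888 : act 4 n140259 = n101190 := d10_1 F339886 (iv6 F195773) (iv4 F339885)
theorem F339889 : act 2 n101204 = n140259 := d1_3 F339888 F155899 D101204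
theorem F339890 : act 7 n122376 = n110849 := d11_2 (iv7 F339883) F339885 (iv4 F222798)
theorem F339891 : act 5 n110849 = n122377 := d13_1 F339890 (iv7 D122377) D122376
theorem F339892 : act 7 n139353 = n101190 := d14_4 F339890 (iv6 D110849) (iv7 F101108) D139353 (iv6 F195773)
theorem F339893 : act 2 n93338 = n139353 := d4_3 F339892 F155899 (iv7 F143953)
theorem F339894 : act 5 n93337 = n139353 := d13_3 F339892 (iv5 D101190) (iv7 F143949)
theorem F339895 : act 1 n101203 = n139353 := d15_1 D101203 F339892 F155899
theorem E98287 : n105940 = n101203 := ((c20_5 (iv4 F168674) F168675 (iv4 F101110) (iv3 F222575) (iv1 F339895) (iv3 D105940) (iv4 D48978) F53311 D32940 (iv3 F322220) (iv1 F101092))).symm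
theorem F339896 : act 3 n101203 = n48978 := (sb E98287 (iv3 D105940))
theorem F339897 : act 7 n140113 = n101203 := d8_0 F339896 F323736 D140113
theorem E98288 : n128025 = n92977 := ((c19_12 (iv1 D23895) D23896 D48978 (iv3 F339896) (iv1 D101203) (iv5 D47132) (iv4 F68091) F68090 F62744 D20567 D43496 D92977 F206024 (iv5 D73371) (iv4 D33750) (iv3 F52990) (iv1 F52145) (iv5 D16215) F50839 (iv3 F50896))).symm
theorem F339898 : act 0 n92977 = n73371 := (sb E98288 F206024)
theorem F339899 : act 1 n92977 = n73379 := (sb E98288 F206025)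
theorem F339900 : act 2 n92977 = n71164 := (sb E98288 F206022)
theorem F339901 : act 4 n92977 = n72213 := (sb E98288 F206023)
theorem F339902 : act 5 n92977 = n60157 := (sb E98288 (iv5 D128025))
theorem F339903 : act 7 n92977 = n154683 := (sb E98288 (iv7 F242837))
theorem F339904 : act 3 n154683 = n92634 := d8_1 F339903 F142743 D92977
theorem F339905 : act 2 n93019 = n115794 := d0_3 F339904 F142742 D93019 F322386 (iv2 F242835)
theorem E98289 : n107461 = n92633 := ((c5_4 F322065 F339904 (iv4 D92634) (iv3 F142740) (iv4 D107461) (iv3 F165770))).symm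
theorem F339906 : act 2 n92633 = n110989 := (sb E98289 (iv2 F172043))
theorem F339907 : act 4 n92633 = n49636 := (sb E98289 (iv4 D107461))
theorem E98290 : n127803 = n107315 := (((iv6 F205597)).symm.trans (sb E98289 F165777))
theorem F339908 : act 0 n107315 = n114338 := (sb E98290 (iv1 F205603))
theorem F339909 : act 1 n107315 = n60016 := (sb E98290 (iv0 D127803))
theorem F339910 : act 3 n107315 = n92635 := (sb E98290 (iv3 F205598))
theorem F339911 : act 6 n107315 = n92633 := (sb E98290 F205597)
theorem F339912 : act 0 n140113 = n93338 := d19_16 (iv1 F68010) D43335 D92634 (iv3 F339904) F242838 (iv5 D147915) (iv4 D69299) F86170 (iv1 F86168) (iv5 D32971) (iv4 F42030) F42029 (iv1 F50893) F322096 D65758 D140113 (iv5 D93338) F68610 (iv3 F68014)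
theorem F339913 : act 1 n140113 = n101190 := d15_1 (iv0 F339912) (iv7 F339892) (iv2 F339893)
theorem F339914 : act 4 n140113 = n152789 := d20_8 (iv4 D33294) (iv1 D16079) D16080 (iv3 F322253) D65819 D140259 F339888 (iv1 F339913) (iv3 D152789) (iv1 F108555)
theorem F339915 : act 7 n127804 = n111050 := d15_2 F339909 D127804 F172242
theorem E98291 : n157174 = n127802 := ((c18_8 (iv1 F163681) (iv4 F163682) (iv1 D49676) F37979 D49583 D107315 F339909 (iv4 F205596) F247351 F165313)).symm
theorem F339916 : act 0 n127802 = n106429 := (sb E98291 F247350)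
theorem F339917 : act 1 n127802 = n107267 := (sb E98291 F247351)
theorem E98292 : n114335 = n107265 := ((F205595).symm.trans (sb E98291 F247348))
theorem F339918 : act 5 n127802 = n74729 := (sb E98291 (iv5 D157174))
theorem F339919 : act 7 n127802 = n107264 := (sb E98291 F247349)
theorem F339920 : act 2 n107265 = n127802 := (sb E98292 (iv2 F205595))
theorem F339921 : act 4 n107265 = n52766 := (sb E98292 F178309)
theorem F339922 : act 6 n107265 = n52765 := (sb E98292 (iv6 D114335))
theorem E98293 : n114356 = n107093 := (c12_3 F339922 (iv5 F83366) D114356 (iv5 D107093) (iv6 F164838) (iv5 F165311))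
theorem F339923 : act 1 n107093 = n90695 := (sb E98293 F205525)
theorem E98294 : n114528 = n107464 := ((((iv2 F165780)).symm.trans (sb E98293 (iv2 F178590)))).symm
theorem F339924 : act 4 n107093 = n52775 := (sb E98293 F178324)
theorem F339925 : act 6 n107093 = n52774 := (sb E98293 (iv6 D114356))
theorem F339926 : act 4 n107464 = n60021 := (sb E98294 F178591)
theorem F339927 : act 6 n107464 = n52863 := (sb E98294 (iv6 D114528))
theorem F339928 : act 6 n107258 = n114326 := d21_3 (iv5 D49556) D49554 D107258 F178301 F112696 (iv5 F83519) (iv1 F83520) F83366 (iv6 F339922) (iv1 D107265)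
theorem F339929 : act 4 n114327 = n107258 := d10_3 F339928 (iv4 D114326) D114327
theorem F339930 : act 6 n114307 = n107098 := d21_3 (iv5 F331532) (iv1 F180867) (iv5 F331546) (iv1 D107098) (iv6 F78313) (iv5 D49556) D49554 D107258 F339928 F178301
theorem F339931 : act 6 n126165 = n127777 := d3_2 F339930 F202870 F205417
theorem E98295 : n141863 = n127081 := ((c12_4 F339930 F201811 F201807 D127081 (iv6 D141863) (iv5 F331546))).symm
theorem F339932 : act 6 n127081 = n66509 := (sb E98295 (iv6 D141863))
theorem F339933 : act 6 n116085 = n107203 := d3_2 F339932 (iv2 F331555) (iv2 F204321)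
theorem F339934 : act 4 n127778 = n126165 := d10_3 F339931 (iv4 D127777) D127778
theorem F339935 : act 4 n107097 = n92964 := d11_3 F205483 F339934 F202868
theorem F339936 : act 4 n110990 = n92961 := d18_1 (iv1 F172047) F205422 F339934 F202869 (iv4 D67609) F92833 (iv4 F164955) F164957 (iv5 F165775)
theorem E98296 : n107462 = n92965 := ((c1_3 F339936 F143375 D92965 (iv2 F172044))).symm
theorem F339937 : act 0 n92965 = n110988 := (sb E98296 (iv1 F172039))
theorem F339938 : act 1 n92965 = n110987 := (sb E98296 F172038)
theorem F339939 : act 2 n92965 = n110990 := (sb E98296 (iv2 F172044))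
theorem F339940 : act 3 n92965 = n72213 := (sb E98296 F322387)
theorem F339941 : act 5 n92965 = n49637 := (sb E98296 F165778)
theorem F339942 : act 7 n92965 = n49636 := (sb E98296 (iv7 D107462))
theorem F339943 : act 7 n92961 = n110989 := d11_2 D110990 F339936 (iv4 D110989)
theorem F339944 : act 4 n94017 = n144306 := d17_9 (iv1 F227015) (iv5 D107102) F111269 (iv5 F172045) F339936 (iv5 D92961) (iv0 F176018) (iv5 F94505) (iv0 F178372)
theorem E98297 : n144304 = n114357 := ((c17_4 F205422 F205420 F205514 F205513 (iv4 D144304) (iv5 D67612) D67611 (iv5 F165776) F172046 F339936)).symm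
theorem F339945 : act 4 n114357 = n67612 := (sb E98297 (iv4 D144304))
theorem F339946 : act 4 n107012 = n127818 := d1_2 F339945 (iv2 F164953) (iv2 F205636)
theorem E98298 : n128019 = n92916 := (c5_3 F339945 F319665 (iv4 F206006) (iv3 D92916) (iv4 F142835) F205512)
theorem F339947 : act 0 n92916 = n72646 := (sb E98298 F206007)
theorem F339948 : act 1 n92916 = n72751 := (sb E98298 F206008)
theorem F339949 : act 2 n92916 = n71118 := (sb E98298 F206005)
theorem F339950 : act 4 n92916 = n71245 := (sb E98298 F206006)
theorem F339951 : act 5 n92916 = n60155 := (sb E98298 (iv5 D128019))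
theorem F339952 : act 7 n92916 = n154689 := (sb E98298 (iv7 F242851))
theorem F339953 : act 5 n110989 = n92632 := d17_5 (iv1 F172032) (iv5 D110985) (iv1 D51170) D51171 D110989 F142737 D92955 F205457 F339945
theorem F339954 : act 4 n110985 = n145259 := d18_3 D114357 F339945 (iv1 F172032) F228246 F295949 F295844 F68333 F205450 (iv5 F83368)
theorem F339955 : act 5 n125497 = n90695 := d18_9 (iv1 F339923) F339924 D114357 F339945 (iv5 D67612) (iv4 D31402) D31401 D67609 F201847
theorem F339956 : act 4 n107095 = n92955 := d18_5 (iv1 F80726) F78406 (iv1 F39041) (iv4 F111248) D107095 F205457 F339945 (iv0 F172028) (iv5 D110983)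
theorem E98299 : n114363 = n110983 := (c20_7 D92952 F143362 (iv4 D92609) D92608 F157313 F139312 (iv4 F178375) F172028 (iv4 F339945) (iv3 F205512) (iv1 F142836))
theorem E98300 : n127822 = n107102 := (((F172026).symm.trans (sb E98299 (iv2 F205644)))).symm
theorem F339957 : act 4 n110983 = n52861 := (sb E98299 F178375)
theorem F339958 : act 6 n110983 = n52777 := (sb E98299 (iv6 D114363))
theorem F339959 : act 4 n107102 = n68094 := (sb E98300 F205645)
theorem F339960 : act 6 n107102 = n60023 := (sb E98300 (iv6 D127822))
theorem F339961 : act 3 n100567 = n107102 := d7_3 F339960 F329942 D100567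
theorem E98301 : n127829 = n107314 := (c12_3 F339960 (iv5 F94518) D127829 F165375 F165074 D107102)
theorem E98302 : n114379 = n111049 := (((F172241).symm.trans (sb E98301 F205651))).symm
theorem F339962 : act 4 n107314 = n60027 := (sb E98301 F205652)
theorem F339963 : act 6 n107314 = n60026 := (sb E98301 (iv6 D127829))
theorem F339964 : act 4 n111049 = n52785 := (sb E98302 F178404)
theorem F339965 : act 6 n111049 = n52784 := (sb E98302 (iv6 D114379))
theorem F339966 : act 6 n151250 = n107313 := d14_5 (iv7 F172239) F339965 F83389 D71283 D151250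
theorem F339967 : act 6 n111044 = n114329 := d21_3 (iv5 D51215) D51213 D111044 (iv1 D114329) F83354 D52779 (iv1 F83373) (iv5 F83390) (iv6 F339965) (iv1 D111049)
theorem F339968 : act 6 n127791 = n107269 := d3_2 F339967 F205561 (iv2 F172219)
theorem F339969 : act 4 n114508 = n111044 := d10_3 F339967 F178303 D114508
theorem F339970 : act 4 n107269 = n157733 := d1_2 F339969 F172219 F248599
theorem F339971 : act 4 n127117 = n121335 := d16_2 (iv4 F163578) D127117 F193539 F339969 (iv5 D111044) (iv4 F163588) (iv5 F82456) (iv7 F163585) F163584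
theorem F339972 : act 6 n121334 = n127117 := d10_0 F339971 (iv6 D121335) D121334
theorem F339973 : act 5 n145412 = n127791 := d12_5 F339968 (iv5 D107269) D107270 F165316 D145412
theorem E98303 : n145412 = n140729 := ((c16_1 F223826 F339973 F205560 (iv5 F112694) F136446 D76453 (iv4 F176113) F331459 (iv7 F331458) F331457)).symm
theorem F339974 : act 5 n140729 = n127791 := (sb E98303 F339973)
theorem F339975 : act 6 n140729 = n68172 := (sb E98303 (iv6 D145412))
theorem F339976 : act 5 n140428 = n127790 := d9_8 F339974 F205560 (iv5 F112694) F136446 D76453 (iv4 F176113) F331459 (iv4 F223609) F205554 F325420 F324271 F161758 (iv4 F176123) F325796 F223826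
theorem F339977 : act 4 n114305 = n140731 := d17_4 (iv1 F94473) (iv5 F94474) (iv1 F177895) (iv5 F178176) (iv5 D140731) D140729 F339974 F205558 F178305
theorem E98304 : n140522 = n114323 := ((c18_9 (iv1 D65951) (iv4 F49630) D67488 F223826 F339974 F205560 F112693 F331527 (iv0 F331522) (iv5 D140522))).symm
theorem F339978 : act 5 n114323 = n65951 := (sb E98304 (iv5 D140522))
theorem E98305 : n140519 = n115754 := (c2_2 F339978 (iv2 F223669) (iv5 F331455) (iv2 F178570))
theorem F339979 : act 2 n115754 = n65951 := (sb E98305 F223669)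
theorem F339980 : act 7 n115754 = n65950 := (sb E98305 (iv7 D140519))
theorem F339981 : act 5 n140514 = n114510 := d13_3 (iv7 F178569) F339978 F223665
theorem F339982 : act 5 n140521 = n113053 := d16_3 D114323 F339978 D140521 (iv4 D113053) (iv5 F83200) F83210 F83353 (iv7 F161679) F161681
theorem F339983 : act 5 n140516 = n113050 := d16_1 D140516 (iv4 D113050) (iv5 F163180) (iv4 F177897) F177898 D114323 F339978 F223665 (iv2 D140514)
theorem E98306 : n140526 = n127777 := (c17_9 D127775 F205408 (iv1 F177901) F177898 D114323 F339978 F180118 (iv5 F224977) F224979 (iv4 D127777))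
theorem F339984 : act 0 n127777 = n141929 := (sb E98306 (iv1 F224979))
theorem F339985 : act 1 n127777 = n65953 := (sb E98306 (iv0 D140526))
theorem F339986 : act 0 n109061 = n114342 := d21_4 F339978 (iv1 D65951) D65953 (iv6 F336702) (iv6 D114342) (iv5 F83363) (iv1 F83521) F83519 (iv6 F112696) F178552
theorem E98307 : n140517 = n114326 := (c9_9 (iv5 F339978) (iv4 D114323) (iv5 F177898) F177897 F163180 D113050 (iv5 F339983) (iv4 D140516) D140517 (iv4 D114326) (iv5 F83353) (iv4 F83210) F83200 D113053 (iv5 F339982) (iv4 D140521))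
theorem F339987 : act 5 n114326 = n65950 := (sb E98307 (iv5 D140517))
theorem E98308 : n140518 = n112682 := (c12_3 F339928 F339987 D140518 (iv5 F175348) (iv6 D107259) D107258)
theorem F339988 : act 6 n112682 = n65950 := (sb E98308 (iv6 D140518))
theorem F339989 : act 4 n141929 = n114492 := d17_4 (iv1 F331521) F339987 (iv1 F180116) (iv5 F224977) F178549 F178551 F112694 F112693 F331527
theorem E98309 : n116489 = n114418 := ((c17_8 (iv1 D66509) (iv5 F101672) (iv1 F331521) F339987 D140516 F339983 F176136 D114418 (iv0 F224904) (iv4 D141861))).symm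
theorem F339990 : act 0 n114418 = n141856 := (sb E98309 F224902)
theorem F339991 : act 1 n114418 = n141861 := (sb E98309 (iv0 F224904))
theorem F339992 : act 3 n114418 = n53687 := (sb E98309 (iv3 D116489))
theorem F339993 : act 4 n114418 = n116131 := (sb E98309 F181797)
theorem F339994 : act 7 n114418 = n66800 := (sb E98309 F181798)
theorem F339995 : act 6 n107513 = n141866 := d21_3 (iv5 D52006) (iv1 F83907) D107513 (iv1 D141866) (iv6 D66511) (iv5 F101672) (iv1 F331521) F339987 (iv6 F339988) (iv1 D112682)
theorem F339996 : act 2 n141866 = n145429 := d3_1 F339995 (iv6 D145429) (iv2 F165872)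
theorem E98310 : n156872 = n144209 := (c14_3 F339994 (iv6 F324395) (iv7 F246884) F226901 F226624 (iv6 F178449))
theorem F339997 : act 1 n144209 = n113106 := (sb E98310 (iv0 F247103))
theorem F339998 : act 3 n144209 = n74600 := (sb E98310 (iv3 D156872))
theorem F339999 : act 4 n144209 = n156607 := (sb E98310 F246883)
theorem F340000 : act 7 n144209 = n138934 := (sb E98310 F246884)
theorem E98311 : n137687 = n114331 := (c16_1 (iv4 F220858) (iv5 D114331) (iv4 D52763) (iv5 D25611) (iv4 F20182) D25626 D52801 D114418 F339994 (iv2 F220718))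
theorem F340001 : act 0 n114331 = n128540 := (sb E98311 (iv1 F220860))
theorem F340002 : act 1 n114331 = n128545 := (sb E98311 F220859)
theorem E98312 : n127793 = n66597 := (((iv2 F205563)).symm.trans (sb E98311 F220857))
theorem F340003 : act 3 n114331 = n64723 := (sb E98311 (iv3 D137687))
theorem F340004 : act 4 n114331 = n137517 := (sb E98311 F220858)
theorem F340005 : act 2 n66597 = n114331 := (sb E98312 F205563)
theorem E98313 : n142014 = n60011 := ((D142014).symm.trans (sb E98312 (iv5 D127793)))
theorem E98314 : n127792 = n66598 := ((D127792).symm.trans (sb E98313 F225054))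
theorem F340006 : act 5 n60011 = n66597 := (sb E98313 (iv5 D142014))
theorem F340007 : act 3 n66598 = n60011 := (sb E98314 (iv3 D127792))
theorem E98315 : n152526 = n140578 := ((((iv4 F223712)).symm.trans (sb E98314 (iv4 F239696)))).symm
theorem E98316 : n142016 = n60024 := ((D142016).symm.trans (sb E98314 F205562))
theorem F340008 : act 3 n140578 = n71937 := (sb E98315 (iv3 D152526))
theorem F340009 : act 6 n140578 = n71955 := (sb E98315 F239697)
theorem F340010 : act 6 n60024 = n66598 := (sb E98316 (iv6 D142016))
theorem F340011 : act 6 n116139 = n127825 := d3_2 F340010 (iv2 F180937) (iv2 D127825)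
theorem F340012 : act 6 n124868 = n114368 := d12_4 F340010 (iv5 D66598) (iv6 F321301) D124868 F178379
theorem F340013 : act 3 n114370 = n124868 := d7_3 F340012 F178378 D114370
theorem F340014 : act 5 n124867 = n114370 := d6_0 F340013 (iv5 D124868) D124867
theorem F340015 : act 5 n144210 = n138934 := d16_1 (iv4 F226902) (iv4 F314696) F340014 F178382 F83378 F82503 (iv5 F95020) (iv7 F331505) F331503
theorem F340016 : act 3 n138935 = n144210 := d6_3 F340015 (iv3 D138934) D138935
theorem E98317 : n156873 = n144206 := ((c8_4 F246887 F340016 (iv7 D144210) (iv3 F226900))).symm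
theorem F340017 : act 0 n144206 = n74766 := (sb E98317 F246888)
theorem F340018 : act 2 n144206 = n138932 := (sb E98317 F246886)
theorem F340019 : act 5 n144206 = n74600 := (sb E98317 (iv5 D156873))
theorem F340020 : act 7 n144206 = n138935 := (sb E98317 F246887)
theorem F340021 : act 3 n113024 = n112895 := d19_19 (iv1 F175977) (iv5 F206812) (iv4 F226902) (iv3 F340016) (iv1 F222428) (iv5 D108169) F79009 (iv3 D24361) (iv1 F23125) D29099 F46747 (iv3 F47703) (iv1 F87492) F87490 (iv4 F87484) (iv3 F97628) (iv1 F97632) F82482 D113024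
theorem F340022 : act 4 n113041 = n128557 := d20_0 (iv1 F206815) (iv4 F226902) (iv3 F340016) (iv1 F222428) F167270 F79013 (iv1 D25341) D25342 D52175 D113041
theorem F340023 : act 4 n112895 = n164230 := d5_2 D113024 F340021 (iv3 D164230) (iv4 D78895) (iv3 F82483)
theorem F340024 : act 0 n130617 = n113034 := d20_4 F319095 F83543 D61290 D130617 F176088 F82503 D112895 F340023 (iv3 D164230) F321169
theorem F340025 : act 5 n156874 = n143971 := d12_3 D144206 F340019 D156874 (iv6 D143971) (iv5 F103443)
theorem E98318 : n144204 = n97325 := ((c21_4 (iv5 D97095) (iv1 F157275) D45455 D97325 (iv1 D144204) D144206 F340019 (iv1 D74600) D74601 D156878 (iv1 F335371))).symm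
theorem F340026 : act 0 n97325 = n67554 := (sb E98318 (iv1 D144204))
theorem F340027 : act 3 n143972 = n156874 := d6_3 F340025 F226621 D143972
theorem F340028 : act 6 n138932 = n144205 := d3_2 D144206 F340018 (iv2 D144205)
theorem F340029 : act 4 n112890 = n128581 := d20_0 (iv1 D128581) (iv4 F103444) (iv3 F226900) F340017 F112207 F53915 (iv1 F40053) F40050 (iv3 F82364) D112890
theorem F340030 : act 4 n112997 = n114425 := d18_1 (iv1 F175971) (iv1 D114425) F83402 (iv5 F176214) (iv4 F331495) F176108 F340029 (iv0 F331501) F331504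
theorem F340031 : act 3 n127794 = n116132 := d8_3 F180926 F340007 D127794
theorem F340032 : act 5 n116131 = n127794 := d6_0 F340031 (iv5 D116132) D116131
theorem F340033 : act 5 n114502 = n128545 := d17_5 (iv1 F112701) F112698 (iv1 F54603) D52852 D114502 (iv0 F206762) F340032 F205567 F178564
theorem F340034 : act 3 n140438 = n114502 := d6_3 F340033 F206761 (iv5 F228371)
theorem F340035 : act 5 n114494 = n128540 := d9_8 F340033 (iv4 D128545) (iv5 F331514) (iv4 D114397) (iv5 D52792) (iv4 F136455) D52847 D114494 (iv4 D128540) (iv5 F331511) (iv4 D114407) (iv5 D52797) (iv4 F136458) D52852 D114502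
theorem F340036 : act 0 n140731 = n114502 := d17_0 F340033 (iv1 F340002) (iv5 D114331) (iv4 D52763) (iv5 D25611) D25610 D52759 F178181 F339977
theorem F340037 : act 1 n140731 = n114494 := d15_1 (iv0 F340036) (iv7 F248585) F248584
theorem F340038 : act 6 n114494 = n110988 := d21_3 D114331 F340001 (iv5 F340035) (iv1 D110988) (iv6 F80805) (iv5 D51215) D51213 D111044 F339967 (iv1 D114329)
theorem F340039 : act 6 n107460 = n157720 := d3_2 F340038 (iv2 F172042) F248565
theorem F340040 : act 4 n110988 = n114495 := d10_1 F340038 (iv6 D114495) D114494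
theorem F340041 : act 6 n107214 = n128540 := d12_4 F340038 F172041 F164931 D107214 (iv5 F340035)
theorem F340042 : act 6 n106905 = n111028 := d3_2 F340041 F206768 F172186
theorem F340043 : act 4 n128542 = n107214 := d10_3 F340041 (iv4 D128540) D128542
theorem F340044 : act 4 n111028 = n143977 := d1_2 F340043 (iv2 F172186) F226633
theorem F340045 : act 3 n111028 = n106908 := d7_1 F340042 (iv6 D106908) D106905
theorem F340046 : act 5 n106908 = n111027 := d6_2 D111028 F340045 (iv3 D111027)
theorem E98319 : n159809 = n144026 := (c16_3 F340040 F178555 (iv4 F251842) F226713 F172061 (iv5 F82514) D106996 (iv5 F172035) (iv7 F172037) F172042)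
theorem E98320 : n95802 = n67570 := ((((iv2 F226714)).symm.trans (sb E98319 F251841))).symm
theorem F340047 : act 4 n144026 = n76478 := (sb E98319 F251842)
theorem F340048 : act 6 n144026 = n76477 := (sb E98319 (iv6 D159809))
theorem E98321 : n144261 = n94260 := ((D144261).symm.trans (sb E98320 F147496))
theorem E98322 : n144262 = n44739 := ((D144262).symm.trans (sb E98320 (iv6 D95802)))
theorem F340049 : act 4 n94260 = n67570 := (sb E98321 (iv4 D144261))
theorem F340050 : act 6 n44739 = n67570 := (sb E98322 (iv6 D144262))
theorem F340051 : act 3 n110989 = n93011 := d20_3 (iv4 F340040) (iv1 D110988) D110989 F159978 (iv3 D90759) D90760 F139688 (iv4 D90304) (iv3 F138905) (iv1 F178557)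
theorem F340052 : act 4 n93011 = n91270 := d5_2 D110989 F340051 (iv3 D91270) D91271 F302684
theorem F340053 : act 2 n91270 = n93015 := d1_1 F340052 (iv4 D93015) (iv2 F143450)
theorem F340054 : act 4 n93014 = n99376 := d16_4 F340052 F293198 F75619 F291329 (iv5 D99376) F73372 D92622 F142711 (iv2 F143450)
theorem F340055 : act 4 n93013 = n100546 := d16_0 (iv5 D100546) F74118 D93011 F340052 F293198 F75619 F291329 F143456 F143457
theorem E98323 : n100550 = n90759 := ((c20_8 (iv4 F139620) (iv1 F139621) (iv4 D42583) (iv3 F294352) D42721 D91270 (iv4 F340052) F159978 (iv4 D100550) F74119 F293357)).symm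
theorem F340056 : act 4 n90759 = n46908 := (sb E98323 (iv4 D100550))
theorem E98324 : n100554 = n90760 := (c5_4 F340056 F74119 D46910 D100554 (iv4 D90760) D90759)
theorem F340057 : act 3 n90760 = n46910 := (sb E98324 (iv3 D100554))
theorem F340058 : act 4 n100548 = n184494 := d18_3 F159978 F340056 D100548 (iv5 D184494) (iv4 D87985) (iv0 D41077) (iv4 F62309) (iv0 F140421) D93011
theorem F340059 : act 0 n184466 = n91270 := d18_0 (iv4 F340052) F159978 F340056 (iv5 D46908) F62993 D43518 (iv4 F68392) F134958 D184466
theorem F340060 : act 5 n103635 = n91361 := d16_7 (iv4 D93015) (iv5 D43520) (iv4 F62993) D46908 (iv4 F340056) (iv5 F145583) F292094 F140484 F340053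
theorem F340061 : act 5 n103947 = n93015 := d16_1 (iv4 F159398) (iv4 D93015) (iv5 D43520) (iv4 F62993) D46908 (iv4 F340056) (iv5 F145583) F292095 D100673
theorem E98325 : n184497 = n91361 := ((c17_6 (iv1 F142700) D93011 F159978 (iv5 F145583) F292094 F340060 F286443 (iv5 D87991) F134959 (iv4 F142698))).symm
theorem F340062 : act 0 n91361 = n87986 := (sb E98325 (iv1 D184497))
theorem F340063 : act 1 n91361 = n87991 := (sb E98325 F286443)
theorem E98326 : n184496 = n93015 := ((c15_4 (iv0 D184496) (iv0 F340062) F140484 F340053)).symm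
theorem F340064 : act 0 n93015 = n87991 := (sb E98326 (iv1 F286442))
theorem F340065 : act 1 n93015 = n87986 := (sb E98326 (iv0 D184496))
theorem F340066 : act 1 n184498 = n184494 := d18_8 F154731 (iv4 D100543) (iv1 D46906) F62993 D43520 D93015 F340065 D184498 (iv5 D184494)
theorem F340067 : act 6 n103947 = n181966 := d21_3 D87986 (iv1 F340065) (iv5 F340061) F333363 (iv6 D86948) (iv5 F64305) (iv1 D41074) (iv5 D19333) D19334 D41077
theorem F340068 : act 3 n182179 = n103947 := d7_3 F340067 F283257 D182179
theorem F340069 : act 6 n92457 = n100673 := d10_2 F340067 F283258 (iv4 F159398)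
theorem F340070 : act 0 n93063 = n100673 := d21_4 D88689 (iv1 F291016) (iv5 D93817) (iv6 F143547) (iv6 F340069) (iv5 F239332) (iv1 F251415) F287426 F292496 (iv1 D88687)
theorem F340071 : act 3 n100673 = n150792 := d20_5 (iv4 D46446) (iv1 F291080) D43547 D93063 F340070 (iv4 D150792) (iv1 F110767) (iv4 F328903) F143268 (iv1 F291339)
theorem F340072 : act 2 n150792 = n89556 := d0_1 F340071 F137287 (iv2 F290849) D46953 D100673
theorem E98327 : n182179 = n156711 := ((c5_5 F159398 F340071 (iv4 D150792) (iv3 F319658) D156711 F340068)).symm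
theorem F340073 : act 2 n156711 = n86988 := (sb E98327 F283634)
theorem F340074 : act 3 n156711 = n103947 := (sb E98327 F340068)
theorem F340075 : act 6 n156711 = n86986 := (sb E98327 (iv6 D182179))
theorem F340076 : act 6 n150792 = n89554 := d7_2 F340069 F340071 (iv3 F142253)
theorem F340077 : act 5 n89554 = n117733 := d12_1 F340076 (iv6 D117733) (iv5 F183791) F335930 (iv5 F237351)
theorem F340078 : act 5 n92678 = n150764 := d21_0 (iv1 F237330) (iv5 F237351) F340076 F337228 (iv6 D46133) (iv5 F54144) F54142 (iv5 F32533) D43353 D92678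
theorem F340079 : act 3 n117733 = n152274 := d6_1 F340077 F239332 F142253
theorem F340080 : act 5 n117865 = n94228 := d18_4 F205249 (iv4 D69558) (iv1 F85675) D117865 (iv4 F337220) (iv0 D154963) (iv4 F306705) (iv0 F337228) F340077
theorem F340081 : act 5 n154964 = n148630 := d16_1 (iv4 F337223) F233386 F312713 (iv4 D55190) (iv5 F205252) D117865 F340080 F145358 (iv2 F145355)
theorem F340082 : act 2 n148630 = n186497 := d2_1 F340081 (iv5 D186497) (iv2 F337222)
theorem F340083 : act 3 n148631 = n154964 := d6_3 F340081 (iv3 D148630) D148631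
theorem F340084 : act 5 n127309 = n94232 := d13_3 (iv7 F337224) F340081 F233387
theorem F340085 : act 1 n148630 = n154901 := d17_8 (iv1 F110168) (iv5 D33786) (iv1 D16326) D16327 D33790 D73504 D154964 F340081 (iv4 D154901)
theorem F340086 : act 1 n89567 = n154802 := d18_8 (iv1 F335662) (iv4 F69362) (iv1 F145283) (iv4 F337223) F340081 F233386 (iv0 F332453) (iv4 F337121) F337114
theorem F340087 : act 0 n148630 = n154903 := d18_0 (iv4 D154903) (iv1 D73468) D73469 (iv5 F337107) (iv4 F67759) F337227 F306705 D154964 F340081
theorem F340088 : act 3 n175277 = n154901 := d19_19 (iv1 F340085) (iv5 F340081) F337223 F145284 (iv1 D44062) F33112 F27688 (iv3 F28361) D35927 D78921 (iv4 F323425) (iv3 F233285) (iv1 F234158) F234156 (iv4 F314763) F210774 (iv1 F335004) F333658 D175277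
theorem F340089 : act 6 n146287 = n148630 := d21_5 D76669 F115000 (iv5 F106728) (iv6 F330632) F330629 (iv5 F340081) (iv1 D154964) (iv5 D73504) F53024 D35048
theorem F340090 : act 3 n148632 = n146287 := d7_3 F340089 (iv3 D148630) D148632
theorem F340091 : act 0 n148632 = n123538 := d20_4 F109471 F229618 D146287 (iv3 F340090) F197967 F90739 (iv1 F328719) F98259 (iv3 F100873) F328071
theorem F340092 : act 5 n134974 = n134422 := d17_3 F340091 F329114 D134974 F331626 (iv5 F230202) F230204 D146979 F237522 (iv4 F233388)
theorem F340093 : act 2 n146961 = n134974 := d2_3 F340092 F331625 (iv5 F230352)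
theorem F340094 : act 7 n146829 = n134974 := d13_0 F340092 F331627 D146829
theorem E98328 : n134407 = n117373 := ((c19_6 D134974 F340092 F331626 (iv3 F183714) (iv1 F183717) D117373 (iv4 D134407) (iv3 D63137) (iv1 F80894) F80892 F47926 (iv3 F23734) (iv1 F23736) (iv5 F19259) F19258 (iv3 F18490) F24293 D14232 D29969 D63434)).symm
theorem F340095 : act 3 n117373 = n156479 := (sb E98328 (iv3 F246013))
theorem F340096 : act 4 n117373 = n63137 := (sb E98328 (iv4 D134407))
theorem E98329 : n134404 = n134304 := (c18_3 (iv1 F316972) F340096 D134404 (iv4 F333167) (iv5 F333168) (iv4 D159624) F251441 (iv4 F335170) (iv0 F226239) (iv5 D143153))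
theorem F340097 : act 1 n134304 = n63137 := (sb E98329 (iv0 D134404))
theorem F340098 : act 0 n142538 = n156479 := d20_4 (iv4 F334152) (iv1 D175338) F322876 D142538 (iv3 F340095) F340096 (iv1 F340097) (iv4 F333167) (iv3 F334140) F334143
theorem F340099 : act 3 n134180 = n141483 := d20_5 (iv4 D51284) D51282 (iv4 F80886) (iv3 F98353) D134180 F325922 (iv1 F316972) F340096 (iv3 D63137) (iv1 F80894)
theorem F340100 : act 0 n156479 = n142628 := d20_4 (iv4 F333159) F218113 (iv4 F340096) F340095 F225503 F102716 (iv1 F50338) F321564 (iv3 F204407) F334136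
theorem F340101 : act 6 n139215 = n156479 := d21_3 (iv5 F222361) (iv1 F222364) D139215 F340100 F314031 F311569 F306599 F314153 (iv6 D67218) (iv1 F103107)
theorem E98330 : n139215 = n119329 := ((c7_4 F340101 (iv3 F340095) F316974 (iv3 F316945))).symm
theorem F340102 : act 5 n119329 = n65346 := (sb E98330 (iv5 D139215))
theorem F340103 : act 6 n119329 = n156479 := (sb E98330 F340101)
theorem F340104 : act 2 n156479 = n160117 := d3_1 F340103 (iv6 D160117) F241361
theorem E98331 : n142987 = n138312 := ((c14_3 (iv7 F316946) F340103 F246014 (iv6 D142987) F102996 D67116)).symm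
theorem F340105 : act 3 n138312 = n67023 := (sb E98331 F225833)
theorem F340106 : act 6 n138312 = n67014 := (sb E98331 (iv6 D142987))
theorem E98332 : n142622 = n142538 := (c21_4 F103146 (iv1 F79965) (iv5 F102704) D142622 F340098 (iv6 F340103) F340102 (iv1 D65346) F49104 (iv6 D14754) D14751)
theorem F340107 : act 2 n142538 = n66855 := (sb E98332 F225493)
theorem E98333 : n139680 = n66825 := ((((iv3 D142538)).symm.trans (sb E98332 F225494))).symm
theorem F340108 : act 6 n142538 = n66853 := (sb E98332 (iv6 D142622))
theorem E98334 : n142537 = n65567 := ((D142537).symm.trans (sb E98333 F222853))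
theorem E98335 : n142541 = n65562 := ((D142541).symm.trans (sb E98333 (iv6 D139680)))
theorem F340109 : act 2 n65567 = n66825 := (sb E98334 (iv2 D142537))
theorem E98336 : n139690 = n66826 := ((D139690).symm.trans (sb E98334 (iv7 F225428)))
theorem F340110 : act 6 n65562 = n66825 := (sb E98335 (iv6 D142541))
theorem E98337 : n142543 = n65575 := ((D142543).symm.trans (sb E98336 F222870))
theorem E98338 : n142546 = n120674 := ((D142546).symm.trans (sb E98336 (iv6 F313914)))
theorem F340111 : act 7 n66826 = n65567 := (sb E98336 (iv7 D139690))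
theorem F340112 : act 3 n65575 = n66826 := (sb E98337 (iv3 D142543))
theorem F340113 : act 6 n120674 = n66826 := (sb E98338 (iv6 D142546))
theorem F340114 : act 4 n130223 = n120674 := d10_3 F340113 (iv4 F334167) F334169
theorem F340115 : act 5 n148390 = n120674 := d21_2 F315551 (iv1 F319994) F340113 (iv1 D66826) (iv6 D31145) (iv5 D14717) D14713 D31128 D66767 (iv1 F319987)
theorem F340116 : act 6 n119167 = n148390 := d21_5 F46796 (iv1 F23522) (iv5 F42472) D54840 D119167 F340115 (iv1 D120674) F87988 (iv6 D29131) D29129
theorem F340117 : act 0 n170581 = n120674 := d21_1 (iv5 F302807) (iv5 F340115) (iv6 F340116) (iv1 F187522) (iv6 F97812) F97811 (iv1 F56668) D71994 (iv6 F108478) F309778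
theorem F340118 : act 4 n176331 = n170581 := d17_9 F340117 (iv5 F340115) (iv1 D148390) (iv5 D69535) D69534 (iv5 F323492) (iv0 F337692) (iv5 F321849) D176331
theorem F340119 : act 6 n120679 = n170581 := d21_9 (iv5 F340115) (iv1 D148390) (iv5 D69535) (iv6 F315589) D73524 (iv6 F315905) (iv5 F317225) (iv1 F317235) (iv5 F319525) F340117
theorem F340120 : act 7 n170581 = n117486 := d15_2 D120674 (iv0 F340117) F184009
theorem F340121 : act 2 n106095 = n170581 := d4_3 F340120 F184009 (iv7 F316406)
theorem F340122 : act 7 n134575 = n176331 := d11_2 F340120 F334125 F340118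
theorem F340123 : act 2 n176331 = n132631 := d4_1 F340122 (iv7 F314430) F314428
theorem F340124 : act 7 n126707 = n120676 := d14_2 F340122 (iv6 F337681) (iv6 D120676) (iv7 F184006) (iv6 F334117)
theorem F340125 : act 1 n132631 = n176333 := d15_0 (iv0 F338598) F340122 F340123
theorem E98339 : n138171 = n134567 := ((c17_10 (iv1 D138171) D138172 F221357 (iv5 D137731) (iv4 F103653) (iv5 F325881) F340125 F328616 (iv0 F329046) D134567)).symm
theorem F340126 : act 0 n134567 = n64906 := (sb E98339 (iv1 D138171))
theorem F340127 : act 6 n134567 = n95415 := (sb E98339 (iv6 F333873))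
theorem F340128 : act 4 n155403 = n176333 := d20_6 (iv4 D33917) (iv1 D16397) D16398 D33921 D73863 D155403 (iv1 F340125) (iv4 F334130) (iv3 D106095) F77401
theorem E98340 : n138136 = n88538 := (c21_6 (iv5 D28279) (iv1 F45672) F45670 D30498 D64898 D138136 (iv5 F328616) (iv1 F340125) F325881 (iv6 D67629) F49686)
theorem E98341 : n64898 = n63252 := (((F328610).symm.trans (sb E98340 (iv6 D138136)))).symm
theorem E98342 : n134580 = n61026 := (((iv1 F216554)).symm.trans (sb E98341 F325103))
theorem E98343 : n134579 = n30498 := ((F216553).symm.trans (sb E98341 (iv0 D64898)))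
theorem E98349 : n64899 = n63237 := (((iv1 F325104)).symm.trans (sb E98342 (iv1 D134580)))
theorem F340129 : act 1 n61026 = n63252 := (sb E98342 F216554)
theorem F340130 : act 0 n30498 = n63252 := (sb E98343 (iv1 F216553))
theorem F340131 : act 0 n63237 = n30498 := (sb E98349 (iv1 D64899))
theorem F340132 : act 1 n63237 = n61026 := (sb E98349 F325104)
theorem E98354 : n132099 = n132001 := (c20_8 F46591 (iv1 F23782) (iv4 F80117) D61026 (iv1 F340132) (iv3 F211636) F211637 D132099 F211498 (iv3 D62296) F79853)
theorem F340133 : act 1 n132001 = n61979 := (sb E98354 (iv0 D132099))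
theorem E98355 : n136961 = n134552 := ((c20_1 (iv4 F216533) (iv1 D136961) (iv4 F219892) F336032 (iv1 F208642) F95618 F46591 (iv1 F23782) (iv4 F80117) D61026 (iv1 F340132))).symm
theorem F340134 : act 0 n134552 = n64373 := (sb E98355 (iv1 D136961))
theorem F340135 : act 6 n134581 = n170691 := d21_9 F322457 (iv1 D82446) F323209 F335991 (iv1 D84813) F303308 (iv5 F321964) (iv1 F340132) D134581 (iv1 F305505)
theorem F340136 : act 2 n170691 = n134610 := d3_1 F340135 F216582 (iv2 F216555)
theorem F340137 : act 5 n170691 = n134564 := d12_1 F340135 (iv6 D134564) F98479 D63237 D134581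
theorem E98356 : n134581 = n92200 := ((c21_5 (iv5 F250795) (iv1 D35871) (iv5 F32271) D43109 D92200 F340135 F340137 F330232 (iv5 D86116) F60652 (iv1 F55016))).symm
theorem F340138 : act 2 n92200 = n63251 := (sb E98356 F216555)
theorem F340139 : act 5 n92200 = n63237 := (sb E98356 (iv5 D134581))
theorem F340140 : act 6 n92200 = n170691 := (sb E98356 F340135)
theorem F340141 : act 7 n92200 = n79657 := (sb E98356 F338709)
theorem E98357 : n134625 = n92201 := (c15_4 F298621 (iv0 F298620) F340141 (iv2 F338711))
theorem F340142 : act 2 n92201 = n79657 := (sb E98357 F338711)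
theorem F340143 : act 5 n92201 = n63252 := (sb E98357 F216585)
theorem F340144 : act 7 n92201 = n63251 := (sb E98357 (iv7 D134625))
theorem F340145 : act 3 n185902 = n92201 := d6_3 F340143 F328235 D185902
theorem E98358 : n178183 = n85255 := (c21_6 F340143 (iv1 F340129) F321964 (iv6 F303308) D84812 D178183 (iv5 D85255) (iv1 F92281) D124978 F322696 (iv1 F298621))
theorem E98359 : n178834 = n84812 := ((D178834).symm.trans (sb E98358 (iv6 D178183)))
theorem F340146 : act 6 n84812 = n85255 := (sb E98359 (iv6 D178834))
theorem E98360 : n178179 = n124644 := ((c3_3 F340146 (iv2 F200753) F336477 (iv2 D178179))).symm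
theorem F340147 : act 2 n124644 = n84812 := (sb E98360 (iv2 D178179))
theorem F340148 : act 7 n124644 = n84813 := (sb E98360 (iv7 F277736))
theorem F340149 : act 6 n176472 = n178180 := d7_2 F340146 (iv3 F275776) (iv3 D178180)
theorem F340150 : act 6 n178833 = n178181 := d10_2 F340146 D178833 (iv4 D178181)
theorem F340151 : act 6 n119849 = n178182 := d12_4 F340146 (iv5 D85255) (iv6 F184598) D119849 (iv5 D178182)
theorem E98361 : n164159 = n127063 := ((c21_9 (iv5 F321959) D39401 D85255 (iv6 F340146) (iv1 F199392) F338771 F338767 (iv1 F166047) D127063 (iv6 D164159) (iv1 D78860))).symm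
theorem F340152 : act 6 n127063 = n78860 := (sb E98361 (iv6 D164159))
theorem F340153 : act 0 n115225 = n164144 := d21_1 (iv5 F335984) (iv5 D164144) (iv6 D78857) (iv1 D35895) D35897 (iv5 F321959) D39401 D85255 (iv6 F340146) (iv1 F199392)
theorem E98362 : n164142 = n36396 := (c21_2 (iv5 D164144) D164142 F321410 F104722 D68542 (iv6 F330332) (iv5 D49757) (iv1 F78557) (iv5 F83940) D115225 F340153)
theorem E98363 : n79894 = n78857 := ((D79894).symm.trans (sb E98362 (iv0 D164142)))
theorem F340154 : act 0 n78857 = n36396 := (sb E98363 (iv1 D79894))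
theorem E98364 : n164143 = n121721 := ((D164143).symm.trans (sb E98363 F194282))
theorem E98365 : n166403 = n92193 := (((F254459).symm.trans (sb E98363 (iv2 F261978)))).symm
theorem E98370 : n166398 = n164145 := (((D164145).symm.trans (sb E98363 F261977))).symm
theorem F340155 : act 0 n121721 = n78857 := (sb E98364 (iv1 D164143))
theorem F340156 : act 7 n92193 = n79893 := (sb E98365 (iv7 D166403))
theorem F340157 : act 2 n164145 = n79893 := (sb E98370 (iv2 D166398))
theorem E98371 : n164145 = n121720 := (c15_4 F194281 (iv0 F336468) F340156 (iv2 F340157))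
theorem F340158 : act 2 n121720 = n79893 := (sb E98371 F340157)
theorem F340159 : act 7 n121720 = n78857 := (sb E98371 (iv7 D164145))
theorem E98372 : n166531 = n166401 := ((c13_2 F340156 D166401 (iv7 F335993) (iv5 F336470))).symm
theorem F340160 : act 0 n166401 = n115225 := (sb E98372 (iv1 F335981))
theorem F340161 : act 1 n166401 = n79930 := (sb E98372 (iv0 D166531))
theorem F340162 : act 4 n166401 = n152513 := (sb E98372 F335992)
theorem F340163 : act 7 n166401 = n152507 := (sb E98372 (iv7 F335993))
theorem E98373 : n166402 = n164136 := (c14_2 F340156 D166402 (iv7 D164136) (iv6 D78852) F254335 D92193)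
theorem F340164 : act 6 n164136 = n79893 := (sb E98373 (iv6 D166402))
theorem E98374 : n164136 = n163863 := ((c21_5 D163093 F338801 F119634 (iv6 F119859) D163863 F340164 D166401 F340160 F335984 F338771 (iv1 F338768))).symm
theorem F340165 : act 6 n163863 = n79893 := (sb E98374 F340164)
theorem F340166 : act 7 n163863 = n78852 := (sb E98374 (iv7 D164136))
theorem F340167 : act 5 n146146 = n178184 := d21_2 F321410 D146146 F335988 (iv1 F131956) F60652 (iv5 F55912) (iv1 F55916) F254077 D78857 F340154
theorem E98375 : n146146 = n114060 := ((c2_4 F340167 F277737 F335987 (iv2 F177569))).symm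
theorem F340168 : act 0 n114060 = n152195 := (sb E98375 (iv1 F336456))
theorem F340169 : act 1 n114060 = n68530 := (sb E98375 (iv0 D146146))
theorem F340170 : act 5 n114060 = n178184 := (sb E98375 F340167)
theorem F340171 : act 7 n178182 = n114060 := d13_0 F340170 (iv7 D178184) D178182
theorem F340172 : act 6 n167771 = n148210 := d21_3 D86116 (iv1 F330231) (iv5 F303740) (iv1 D148210) (iv6 F321852) F321410 (iv1 F340169) F340170 F335988 (iv1 F131956)
theorem E98376 : n178184 = n124643 := ((c21_8 (iv5 F127756) (iv1 D82917) F59001 (iv6 F325429) F97739 D107746 F335977 D124643 (iv5 F340170) (iv6 D114060) (iv1 F108240))).symm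
theorem F340173 : act 2 n124643 = n84813 := (sb E98376 F277737)
theorem F340174 : act 5 n124643 = n114060 := (sb E98376 (iv5 F340170))
theorem F340175 : act 6 n124643 = n86019 := (sb E98376 F335988)
theorem F340176 : act 7 n124643 = n84812 := (sb E98376 (iv7 D178184))
theorem E98377 : n165634 = n134610 := ((c21_10 F320694 F301542 F324613 (iv6 F340175) (iv1 F199388) (iv6 F333840) (iv5 D134620) (iv1 D63250) D63251 (iv6 F216582) (iv1 D165634))).symm
theorem F340177 : act 0 n134610 = n79557 := (sb E98377 (iv1 D165634))
theorem F340178 : act 1 n134610 = n82542 := (sb E98377 F322451)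
theorem F340179 : act 7 n165633 = n170691 := d15_2 F340178 (iv0 F322452) F340136
theorem E98378 : n170692 = n167771 := (c17_3 F301539 (iv5 F322457) F305504 F303740 (iv4 F319732) D134610 F340178 (iv5 D82542) F301543 F127021)
theorem F340180 : act 0 n167771 = n81828 := (sb E98378 (iv1 D170692))
theorem F340181 : act 1 n167771 = n165635 := (sb E98378 (iv0 F305504))
theorem E98379 : n172376 = n118631 := ((c21_4 (iv5 D60758) D60754 F209323 D118631 (iv1 D172376) (iv6 D82543) D82542 (iv1 F340178) (iv5 D134610) (iv6 D63248) (iv1 F216481))).symm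
theorem F340182 : act 0 n118631 = n82543 := (sb E98379 (iv1 D172376))
theorem E98380 : n172150 = n126969 := ((c15_3 (iv0 F340182) F327812 (iv7 F322446) F309964)).symm
theorem F340183 : act 2 n126969 = n82543 := (sb E98380 F309964)
theorem F340184 : act 6 n126969 = n82445 := (sb E98380 (iv6 D172150))
theorem E98381 : n172364 = n155795 := (c14_5 (iv7 F322446) F340184 (iv7 F309965) D82538 D172364 (iv6 F318539))
theorem F340185 : act 7 n155795 = n82538 := (sb E98381 (iv7 D172364))
theorem F340186 : act 6 n134609 = n173768 := d21_3 F323207 (iv1 F131958) (iv5 F330238) F272358 F301368 D84186 (iv1 F328142) (iv5 F204225) F340184 (iv1 F301540)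
theorem E98382 : n135426 = n135387 := (c21_1 (iv5 F330216) (iv1 F217622) (iv5 F304918) (iv6 D54569) (iv1 F42139) D37891 F323207 (iv1 F131958) (iv5 F330238) F340186 F272358)
theorem F340187 : act 2 n135387 = n63660 := (sb E98382 (iv2 D135426))
theorem F340188 : act 3 n135387 = n83115 := (sb E98382 F330215)
theorem F340189 : act 5 n135387 = n83104 := (sb E98382 F330216)
theorem F340190 : act 7 n135387 = n63661 := (sb E98382 (iv7 F217751))
theorem E98383 : n154164 = n134678 := ((c21_1 D134678 F273682 (iv5 F330226) (iv6 F340186) (iv1 D134609) (iv6 D63248) (iv5 D29893) (iv1 D14197) D14199 D29901 D63278)).symm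
theorem F340191 : act 0 n134678 = n173777 := (sb E98383 F273682)
theorem F340192 : act 3 n134678 = n73038 := (sb E98383 F242276)
theorem F340193 : act 4 n134678 = n101797 := (sb E98383 (iv4 F321050))
theorem F340194 : act 6 n134678 = n128171 := (sb E98383 F242278)
theorem F340195 : act 7 n134678 = n73036 := (sb E98383 (iv7 D154164))
theorem E98384 : n172361 = n134679 := (c21_5 D134610 F340177 F320694 D82538 D172361 (iv6 D134679) D134678 F340191 (iv5 F330226) (iv6 F340186) (iv1 D134609))
theorem F340196 : act 1 n134679 = n82538 := (sb E98384 (iv0 D172361))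
theorem E98385 : n161351 = n128171 := (c21_5 (iv5 F306769) (iv1 D35371) D35372 D77462 D161351 (iv6 F340194) (iv5 D134678) F308711 F307460 (iv6 D82525) F305116)
theorem F340197 : act 1 n128171 = n77462 := (sb E98385 (iv0 D161351))
theorem E98386 : n154833 = n98463 := ((c20_11 F243541 (iv1 F340197) (iv4 F304765) (iv3 F306756) F314165 (iv3 D47351) D47352 (iv1 F272645) F72403 (iv3 F72634) D98463)).symm
theorem F340198 : act 2 n98463 = n153946 := (sb E98386 F243539)
theorem F340199 : act 3 n98463 = n73430 := (sb E98386 F243540)
theorem F340200 : act 4 n98463 = n77462 := (sb E98386 F243541)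
theorem F340201 : act 6 n98463 = n73429 := (sb E98386 (iv6 D154833))
theorem E98387 : n161352 = n128166 := ((c20_1 (iv4 F306761) (iv1 D161352) (iv4 F340200) F340199 (iv1 F314826) (iv3 D57884) (iv4 D27627) F297763 D18583 D39166 (iv1 F304766))).symm
theorem F340202 : act 0 n128166 = n77462 := (sb E98387 (iv1 D161352))
theorem F340203 : act 7 n177729 = n98463 := d8_0 F340199 F337505 D177729
theorem F340204 : act 0 n98463 = n172020 := d20_10 (iv4 D172020) (iv1 F187751) F187747 F109246 (iv1 F52870) D33691 D73170 F312385 (iv4 F110140) (iv3 F340199)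
theorem F340205 : act 2 n98466 = n172020 := d15_3 (iv0 F340204) (iv0 D98463) D98466
theorem F340206 : act 3 n172020 = n183394 := d0_2 (iv3 F151874) F340205 (iv2 F312626) F312627 F154537
theorem F340207 : act 7 n172020 = n98461 := d4_2 D98466 F340205 F151869
theorem F340208 : act 1 n98466 = n153946 := d15_0 (iv0 F331891) (iv7 F340207) (iv2 F340205)
theorem F340209 : act 1 n98464 = n172020 := d15_1 D98464 F340207 F151869
theorem F340210 : act 2 n177729 = n98464 := d15_3 F340209 (iv0 F340204) (iv7 F340203)
theorem F340211 : act 3 n98464 = n153950 := d0_2 D177729 F340210 F324406 (iv3 F317086) F337508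
theorem F340212 : act 7 n98464 = n153946 := d4_2 (iv7 F340203) F340210 (iv2 F340198)
theorem F340213 : act 1 n177729 = n98466 := d15_0 F340208 (iv7 F340212) (iv2 F340210)
theorem F340214 : act 1 n98461 = n177729 := d15_0 F340213 (iv7 D98466) (iv2 F151869)
theorem E98388 : n161354 = n128169 := ((c20_3 F310881 (iv1 F340213) F277181 F255175 (iv1 F116293) F310117 (iv4 D54907) (iv1 D26558) (iv4 F42521) (iv3 F86835) D119281)).symm
theorem F340215 : act 3 n128169 = n77470 := (sb E98388 F255175)
theorem F340216 : act 7 n128169 = n77462 := (sb E98388 (iv7 D161354))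
theorem F340217 : act 0 n167007 = n172792 := d20_4 D77710 (iv1 F307907) (iv4 F123120) (iv3 F262994) F271061 F310881 (iv1 F340213) F277181 F340215 (iv1 F116293)
theorem F340218 : act 0 n103191 = n130593 := d19_4 F340217 (iv5 F334507) (iv4 D103192) D103191 F335529 F335518 F311009 F335517 (iv5 F339754) F314763 (iv3 F259390) (iv1 D80607) (iv5 F94898) F320098 F50170 F46239 F303923 (iv4 F123120) (iv3 F262994)
theorem F340219 : act 6 n172792 = n130383 := d21_5 (iv5 F306578) (iv1 D82880) (iv5 F123115) D167007 F340217 (iv5 D130383) F307692 F206284 F306794 F304851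
theorem E98389 : n172794 = n172399 := ((c10_2 F340219 (iv4 F334230) (iv6 D172794) D172792)).symm
theorem F340220 : act 6 n172399 = n82731 := (sb E98389 (iv6 D172794))
theorem F340221 : act 5 n147849 = n172399 := d12_5 F340220 (iv5 F315405) (iv6 D69277) D69276 D147849
theorem E98390 : n172795 = n98145 := (c14_3 D172399 F340220 D172795 (iv6 D98145) F72399 D82549)
theorem F340222 : act 2 n98145 = n82732 := (sb E98390 F271062)
theorem F340223 : act 7 n98145 = n82731 := (sb E98390 (iv7 D172795))
theorem E98391 : n184672 = n147849 := (c21_8 F339750 (iv1 D69002) D69003 F333677 (iv1 F213702) F316726 (iv5 F273299) F332006 F340221 F340220 (iv1 F189172))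
theorem F340224 : act 0 n147849 = n174390 := (sb E98391 (iv1 F332019))
theorem F340225 : act 1 n147849 = n174423 := (sb E98391 (iv0 F332006))
theorem F340226 : act 2 n147849 = n174421 := (sb E98391 (iv2 F332013))
theorem F340227 : act 4 n147849 = n88059 := (sb E98391 (iv4 D184672))
theorem F340228 : act 7 n147849 = n174420 := (sb E98391 F332017)
theorem E98392 : n174420 = n149282 := (c13_1 F340228 F304712 D172399 (iv5 F340221))
theorem F340229 : act 0 n149282 = n154122 := (sb E98392 (iv1 F332020))
theorem F340230 : act 1 n149282 = n83371 := (sb E98392 (iv0 D174420))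
theorem F340231 : act 2 n149282 = n184664 := (sb E98392 (iv2 F332016))
theorem F340232 : act 4 n149282 = n101210 := (sb E98392 F332018)
theorem F340233 : act 7 n149282 = n147849 := (sb E98392 (iv7 F340228))
theorem E98393 : n166219 = n147408 := (c14_4 (iv7 F340233) (iv6 D149282) (iv7 F122539) D166219 F231141 D147849)
theorem F340234 : act 3 n147408 = n79815 := (sb E98393 F261709)
theorem F340235 : act 6 n147408 = n79810 := (sb E98393 (iv6 D166219))
theorem F340236 : act 3 n147849 = n172403 := d8_1 F340233 (iv7 D172403) (iv3 F304711)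
theorem F340237 : act 5 n130330 = n172395 := d16_5 (iv4 F332012) (iv5 D100941) (iv4 F306420) (iv5 F206120) (iv4 F305682) F270609 (iv5 F304712) F340233 F340226
theorem F340238 : act 2 n172395 = n130388 := d2_1 F340237 (iv5 D130388) (iv2 F307698)
theorem E98394 : n173817 = n170727 := ((c6_2 F340237 F270608 F335279 F334179)).symm
theorem F340239 : act 0 n170727 = n83116 := (sb E98394 (iv1 D173817))
theorem F340240 : act 1 n170727 = n173948 := (sb E98394 F335278)
theorem F340241 : act 5 n170727 = n134663 := (sb E98394 F335279)
theorem F340242 : act 7 n172395 = n130383 := d13_2 (iv7 F307699) F340237 (iv5 D130383)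
theorem F340243 : act 0 n172395 = n128151 := d17_2 (iv1 F208849) F340237 (iv5 D128151) F190644 (iv5 F52925) (iv0 F105531) F190698 (iv0 D119818) F305681
theorem F340244 : act 1 n172395 = n128148 := d17_6 (iv1 F189892) D35661 D78244 (iv5 F206120) (iv4 F305682) F340237 (iv5 D128148) (iv0 D60233) F46197
theorem E98395 : n172397 = n162721 := (c18_7 (iv1 D98195) (iv4 F300749) D70804 (iv4 F305682) F340237 F270609 D172397 (iv4 D162721) F314797 F312373)
theorem F340245 : act 0 n162721 = n82549 := (sb E98395 (iv1 D172397))
theorem E98396 : n175059 = n84850 := (c21_2 D83599 D175059 (iv5 F311623) F308407 (iv1 F317699) F317702 F340237 F340243 (iv5 D128151) F310177 (iv1 D83598))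
theorem E98397 : n178296 = n83599 := ((D178296).symm.trans (sb E98396 (iv0 D175059)))
theorem F340246 : act 0 n83599 = n84850 := (sb E98397 (iv1 D178296))
theorem E98398 : n175060 = n127885 := ((D175060).symm.trans (sb E98397 (iv0 F318827)))
theorem F340247 : act 0 n127885 = n83599 := (sb E98398 (iv1 D175060))
theorem E98399 : n153252 = n147143 := (c21_1 D153252 (iv1 D147143) (iv5 F333933) (iv6 F315323) F315319 (iv6 D128149) D128148 (iv1 F340244) (iv5 F340237) (iv6 F317702) F317698)
theorem E98400 : n144820 = n127891 := ((F230707).symm.trans (sb E98399 F240746))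
theorem F340248 : act 5 n147143 = n72377 := (sb E98399 (iv5 D153252))
theorem F340249 : act 0 n127891 = n67869 := (sb E98400 (iv1 D144820))
theorem F340250 : act 1 n127891 = n83710 := (sb E98400 F333928)
theorem F340251 : act 2 n127891 = n147143 := (sb E98400 (iv2 F230707))
theorem F340252 : act 4 n127891 = n69780 := (sb E98400 (iv4 F230325))
theorem F340253 : act 7 n127891 = n147142 := (sb E98400 (iv7 F230713))
theorem E98401 : n146761 = n127891 := (c8_4 F340253 F334040 (iv7 F317182) (iv3 F230109))
theorem F340254 : act 3 n127891 = n68809 := (sb E98401 F230109)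
theorem F340255 : act 6 n127891 = n68807 := (sb E98401 (iv6 D146761))
theorem F340256 : act 5 n147142 = n127892 := d13_1 F340253 (iv7 D127892) D127891
theorem F340257 : act 4 n119688 = n130262 := d17_9 F315330 F333933 D147142 F340256 F205807 F108785 F105200 D147148 F230727
theorem E98402 : n179180 = n111153 := (c19_15 D147142 F340256 F205807 F108784 (iv1 F85947) (iv5 D32311) (iv4 F51217) (iv3 F105855) (iv1 F313170) F115240 (iv4 F227726) F323953 (iv1 F278851) F336343 D179180 (iv3 F172507) (iv1 F172512) (iv5 F333939) F333938 F333932)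
theorem F340258 : act 4 n111153 = n85508 := (sb E98402 (iv4 D179180))
theorem F340259 : act 0 n162692 = n130313 := d21_4 F311611 F319345 F318945 F316582 F315323 F333933 D147142 F340256 (iv6 F308407) F308405
theorem F340260 : act 3 n124855 = n108108 := d19_11 F233840 (iv5 F340256) (iv4 F230714) (iv3 D144890) (iv1 F227799) F227796 F307770 F314309 F314140 (iv5 D124856) D124855 (iv1 D108108) D108110 (iv4 F167191) F167154 (iv1 F212043) (iv5 F221617) F310290 (iv3 F334056)
theorem F340261 : act 4 n153614 = n162692 := d17_9 F340259 F333982 F336614 F321786 (iv4 F190139) (iv5 F322134) F322132 F242246 F242243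
theorem F340262 : act 1 n162692 = n130266 := d15_1 (iv0 F340259) (iv7 F330136) F330133
theorem F340263 : act 7 n162692 = n130311 := d15_2 (iv0 F315319) (iv0 F340259) F330126
theorem E98403 : n162694 = n61155 := (c15_1 D162694 D130311 (iv7 F340263) F256930)
theorem E98404 : n130310 = n78151 := ((D130310).symm.trans (sb E98403 (iv1 D162694)))
theorem F340264 : act 1 n78151 = n61155 := (sb E98404 (iv0 D130310))
theorem E98405 : n162690 = n128005 := ((c17_6 (iv1 F322949) (iv5 F185836) (iv1 F190971) F94702 (iv4 F94698) (iv5 F205991) (iv0 D162690) D162692 F340262 F322954)).symm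
theorem F340265 : act 0 n128005 = n78152 := (sb E98405 (iv1 F256928))
theorem F340266 : act 1 n128005 = n78150 := (sb E98405 (iv0 D162690))
theorem F340267 : act 6 n128005 = n175175 := (sb E98405 (iv6 F334272))
theorem E98406 : n163353 = n162827 := ((c21_11 (iv5 F334273) (iv1 F340262) (iv5 D162692) F119324 (iv1 F57245) D77258 D160993 F336617 (iv5 D78268) D78269 D162827)).symm
theorem F340268 : act 5 n162827 = n130266 := (sb E98406 (iv5 F334273))
theorem F340269 : act 6 n162827 = n78502 := (sb E98406 (iv6 D163353))
theorem F340270 : act 2 n130312 = n162827 := d3_3 F340269 F334285 (iv6 F208843)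
theorem F340271 : act 7 n144818 = n162827 := d14_0 F340269 (iv7 F302181) F334279 F104936 D144818
theorem F340272 : act 7 n130312 = n147141 := d4_2 F340271 (iv2 F340270) F230703
theorem E98407 : n152242 = n147694 := (c3_2 F340267 F274207 F336602 (iv2 F333989))
theorem F340273 : act 2 n147694 = n175175 := (sb E98407 (iv2 F274207))
theorem F340274 : act 3 n147694 = n71819 := (sb E98407 F239305)
theorem F340275 : act 5 n147694 = n71815 := (sb E98407 (iv5 D152242))
theorem F340276 : act 3 n120196 = n128005 := d7_3 F340267 F274208 (iv6 F189855)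
theorem F340277 : act 7 n175175 = n166302 := d14_2 D128005 F340267 (iv6 D166302) (iv7 F329088) F308370
theorem F340278 : act 0 n175175 = n131530 := d21_4 (iv5 D153598) (iv1 F190319) (iv5 F205991) F340267 F323067 F105342 (iv1 D67867) D67868 D144818 F333979
theorem F340279 : act 1 n175175 = n131534 := d15_1 (iv0 F340278) F325581 F324470
theorem F340280 : act 3 n166302 = n131269 := d8_1 F340277 (iv7 F313259) (iv3 F274208)
theorem F340281 : act 5 n166302 = n130059 := d13_1 F340277 (iv7 F312945) D175175
theorem F340282 : act 2 n104805 = n166302 := d2_3 F340281 (iv2 F313257) F334262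
theorem F340283 : act 6 n174311 = n89256 := d12_4 D166302 F340281 F311014 D174311 F329087
theorem E98408 : n166302 = n147693 := ((c17_3 (iv1 F97308) F325580 D147693 F340281 (iv4 D130059) F95587 D62068 F212087 F47330 (iv4 F96319))).symm
theorem F340284 : act 2 n147693 = n104805 := (sb E98408 (iv2 F340282))
theorem F340285 : act 3 n147693 = n131269 := (sb E98408 F340280)
theorem F340286 : act 5 n147693 = n130059 := (sb E98408 F340281)
theorem F340287 : act 6 n147693 = n79856 := (sb E98408 (iv6 D166302))
theorem F340288 : act 7 n147693 = n175175 := (sb E98408 (iv7 F340277))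
theorem F340289 : act 7 n147694 = n104805 := d4_2 F340288 (iv2 F340273) (iv2 F340284)
theorem F340290 : act 1 n104805 = n131530 := d15_0 (iv0 F340278) (iv7 F340288) F340284
theorem E98409 : n129178 = n90057 := ((c16_3 F160631 (iv5 F293049) (iv4 F138387) (iv5 D129178) F95329 D60736 (iv4 F312944) D175175 (iv7 F340288) F340284)).symm
theorem F340291 : act 0 n90057 = n61973 := (sb E98409 F212101)
theorem F340292 : act 1 n90057 = n61978 := (sb E98409 F212102)
theorem F340293 : act 3 n90057 = n60729 := (sb E98409 F207407)
theorem F340294 : act 5 n90057 = n60728 := (sb E98409 (iv5 D129178))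
theorem F340295 : act 7 n90057 = n131812 := (sb E98409 (iv7 F211226))
theorem E98410 : n163621 = n132079 := ((c4_2 F340295 F212103 (iv7 D163621) (iv2 F138386))).symm
theorem F340296 : act 6 n132079 = n163413 := (sb E98410 (iv6 F327191))
theorem F340297 : act 7 n132079 = n78613 := (sb E98410 (iv7 D163621))
theorem F340298 : act 4 n131812 = n90060 := d11_1 F340295 (iv7 D90060) (iv4 F138387)
theorem F340299 : act 6 n131812 = n185730 := d14_1 F340295 (iv7 D185730) (iv6 D88460) (iv7 F65004) D90057
theorem E98411 : n163619 = n132083 := (c15_1 D163619 (iv0 F211620) (iv7 F340295) F138386)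
theorem F340300 : act 0 n132083 = n78613 := (sb E98411 (iv1 D163619))
theorem F340301 : act 4 n96407 = n147693 := d16_2 (iv4 F138250) F291969 F340286 (iv4 D130059) F95587 (iv4 F96417) D131812 (iv7 F340295) F138386
theorem F340302 : act 3 n176687 = n96407 := d5_5 F340301 F340285 F210362 (iv3 F316889) (iv4 F335296)
theorem F340303 : act 5 n90060 = n104809 := d16_7 F340301 F340286 (iv4 D130059) F95587 (iv4 F96417) D131812 F340298 (iv7 D104809) (iv2 F148409)
theorem E98412 : n163620 = n129177 := ((c16_1 (iv4 F207406) (iv5 D163620) (iv4 F138250) F291969 F340301 F340286 (iv4 D130059) F95587 F47079 D60735)).symm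
theorem F340304 : act 5 n129177 = n78613 := (sb E98412 (iv5 D163620))
theorem F340305 : act 6 n129177 = n78616 := (sb E98412 F257891)
theorem F340306 : act 0 n111781 = n96407 := d20_7 F210669 F210646 (iv4 F313005) F332177 F170610 (iv3 F105212) (iv4 F173483) F340301 F340285 (iv1 F210672)
theorem F340307 : act 4 n147694 = n104809 := d9_9 (iv5 F340286) (iv4 F340301) (iv5 F291969) F138250 (iv5 F340304) F207406 (iv5 F312942) F206171 (iv5 F340275) (iv5 F340303) (iv4 F340298) (iv5 D131812) F96417 (iv5 F95587) D130059
theorem F340308 : act 3 n104840 = n152254 := d5_3 F340307 F160635 (iv4 F160696) (iv4 D152254) (iv3 F340274)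
theorem E98413 : n162682 = n104646 := ((c10_3 (iv6 F336602) F340307 F160636 (iv4 D162682))).symm
theorem F340309 : act 4 n104646 = n78148 := (sb E98413 (iv4 D162682))
theorem F340310 : act 4 n95946 = n114559 := d19_6 (iv1 F199926) (iv5 F340275) F340307 F160635 (iv1 F160519) (iv5 F160520) F178636 (iv1 F87974) (iv5 D55615) F43272 F26733 (iv1 F23445) F310651 F33897 (iv3 F33887) (iv1 F116633) (iv5 F296574) D38772 D84120
theorem F340311 : act 6 n114559 = n95944 := d10_2 D95946 F340310 (iv4 D95944)
theorem F340312 : act 7 n106728 = n95946 := d11_0 F340310 (iv7 D114559) (iv4 F164510)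
theorem F340313 : act 0 n106733 = n95946 := d18_2 (iv1 F82411) (iv4 F164515) F340310 F178637 F83553 F82472 F77574 (iv0 D49125) D49126
theorem F340314 : act 0 n95946 = n106722 := d20_7 D25342 (iv1 F46660) (iv4 D29018) (iv3 F46657) F83589 (iv3 F178636) (iv4 F340310) (iv4 D106722) F77975 (iv1 D25341)
theorem E98414 : n113012 = n95979 := ((c17_4 F340313 F160520 (iv1 D104782) (iv5 F147611) (iv4 D113012) (iv5 D52164) D52163 F164500 F164498 (iv4 F164515))).symm
theorem F340315 : act 3 n95979 = n138939 := (sb E98414 (iv3 F222130))
theorem F340316 : act 4 n95979 = n52164 := (sb E98414 (iv4 D113012))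
theorem F340317 : act 7 n95979 = n112914 := (sb E98414 F176044)
theorem F340318 : act 2 n112914 = n104854 := d4_1 F340317 (iv7 D104854) (iv2 F147610)
theorem F340319 : act 5 n112914 = n104783 := d13_1 F340317 (iv7 D104783) (iv5 F147611)
theorem F340320 : act 1 n104852 = n112914 := d15_1 D104852 (iv7 F340317) F147610
theorem F340321 : act 4 n110746 = n104852 := d18_5 (iv1 F77966) F37676 (iv1 F77967) (iv4 F80519) D110746 F340320 (iv4 D112914) F164478 F164477
theorem E98415 : n106728 = n104844 := ((c17_4 (iv1 D104852) (iv5 D48470) D48468 D104844 F164510 (iv5 D52879) D52878 D114556 (iv0 F178633) F340321)).symm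
theorem F340322 : act 0 n104844 = n112937 := (sb E98415 F175883)
theorem F340323 : act 1 n104844 = n49321 := (sb E98415 (iv0 D106728))
theorem F340324 : act 4 n104844 = n52879 := (sb E98415 F164510)
theorem F340325 : act 7 n104844 = n95946 := (sb E98415 F340312)
theorem E98416 : n106500 = n104853 := ((c18_4 (iv1 F171426) F340321 (iv1 D104852) D104853 F163754 F77893 (iv0 F77897) (iv4 F144550) (iv0 D93779) D93780)).symm
theorem F340326 : act 0 n104853 = n106714 := (sb E98416 (iv1 F164479))
theorem F340327 : act 1 n104853 = n106707 := (sb E98416 (iv0 F164455))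
theorem F340328 : act 2 n104853 = n52164 := (sb E98416 F163753)
theorem F340329 : act 3 n104853 = n49214 := (sb E98416 (iv3 D106500))
theorem F340330 : act 5 n104853 = n49286 := (sb E98416 F163754)
theorem F340331 : act 7 n104853 = n106292 := (sb E98416 F163755)
theorem F340332 : act 4 n106292 = n104854 := d11_1 F340331 (iv7 D104854) D104853
theorem E98417 : n104783 = n48467 := (c16_2 D112914 F340319 F76236 D48470 D104853 F340330 F77893 (iv5 F340330) F340331 F163356)
theorem E98418 : n104837 = n48469 := ((D104837).symm.trans (sb E98417 (iv1 F160524)))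
theorem E98419 : n104838 = n48468 := ((D104838).symm.trans (sb E98417 F160525))
theorem E98420 : n104780 = n48471 := (((iv2 F160517)).symm.trans (sb E98417 F160521))
theorem E98421 : n112914 = n104839 := (((D104839).symm.trans (sb E98417 (iv5 F340319)))).symm
theorem E98422 : n104614 = n23621 := ((((iv6 D48467)).symm.trans (sb E98417 F160522))).symm
theorem E98423 : n104840 = n48446 := ((D104840).symm.trans (sb E98417 (iv7 D104783)))
theorem F340333 : act 1 n48469 = n48467 := (sb E98418 (iv0 D104837))
theorem F340334 : act 0 n48468 = n48467 := (sb E98419 (iv1 D104838))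
theorem F340335 : act 2 n48471 = n48467 := (sb E98420 F160517)
theorem E98424 : n48445 = n48405 := (((F76238).symm.trans (sb E98420 (iv6 D104780)))).symm
theorem F340336 : act 0 n104839 = n104852 := (sb E98421 (iv1 F340320))
theorem F340337 : act 2 n104839 = n104854 := (sb E98421 F340318)
theorem F340338 : act 3 n104839 = n156877 := (sb E98421 (iv3 F246901))
theorem F340339 : act 4 n104839 = n52118 := (sb E98421 (iv4 D112914))
theorem F340340 : act 7 n104839 = n95979 := (sb E98421 (iv7 F340317))
theorem E98425 : n48463 = n48403 := ((D48463).symm.trans (sb E98422 (iv1 F160290)))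
theorem E98426 : n48464 = n48402 := ((D48464).symm.trans (sb E98422 F160291))
theorem E98427 : n48379 = n23532 := (((F36756).symm.trans (sb E98422 (iv7 D104614)))).symm
theorem E98428 : n152254 = n104776 := ((((iv3 F160514)).symm.trans (sb E98423 F340308))).symm
theorem F340341 : act 4 n48446 = n48471 := (sb E98423 F160696)
theorem E98429 : n104678 = n23610 := ((((iv6 D48446)).symm.trans (sb E98423 F160697))).symm
theorem F340342 : act 7 n48446 = n48467 := (sb E98423 (iv7 D104840))
theorem E98430 : n104613 = n48398 := (((iv1 F160287)).symm.trans (sb E98424 (iv1 F76192)))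
theorem E98431 : n104612 = n48397 := ((F160289).symm.trans (sb E98424 F76193))
theorem F340343 : act 2 n48405 = n23621 := (sb E98424 F76189)
theorem E98432 : n104779 = n104646 := ((((iv3 F160358)).symm.trans (sb E98424 D104779))).symm
theorem E98433 : n104692 = n48416 := (((iv5 F160374)).symm.trans (sb E98424 F76190))
theorem E98434 : n48378 = n23533 := ((((iv7 D48405)).symm.trans (sb E98424 F76191))).symm
theorem F340344 : act 1 n48403 = n23621 := (sb E98425 (iv0 D48463))
theorem E98435 : n104684 = n48398 := (((iv2 F160371)).symm.trans (sb E98425 (iv2 F135298)))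
theorem E98436 : n104827 = n104685 := (((D104685).symm.trans (sb E98425 D104827))).symm
theorem E98437 : n104686 = n89864 := ((D104686).symm.trans (sb E98425 (iv4 F137938)))
theorem E98438 : n104687 = n89850 := ((D104687).symm.trans (sb E98425 (iv5 F137916)))
theorem E98439 : n104828 = n104688 := (((D104688).symm.trans (sb E98425 D104828))).symm
theorem E98440 : n104679 = n48397 := ((F160370).symm.trans (sb E98425 F135299))
theorem F340345 : act 0 n48402 = n23621 := (sb E98426 (iv1 D48464))
theorem E98441 : n104829 = n104680 := (((D104680).symm.trans (sb E98426 D104829))).symm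
theorem E98442 : n104681 = n45525 := ((D104681).symm.trans (sb E98426 F76230))
theorem E98443 : n104682 = n89849 := ((D104682).symm.trans (sb E98426 (iv5 F137913)))
theorem E98444 : n104830 = n104683 := (((D104683).symm.trans (sb E98426 D104830))).symm
theorem E98445 : n104607 = n48399 := (((D48399).symm.trans (sb E98427 (iv3 F160284)))).symm
theorem E98447 : n97183 = n48400 := (((D48400).symm.trans (sb E98427 (iv5 F149929)))).symm
theorem E98448 : n48401 = n23518 := ((D48401).symm.trans (sb E98427 (iv6 D48379)))
theorem F340346 : act 4 n104776 = n71819 := (sb E98428 (iv4 D152254))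
theorem F340347 : act 4 n23610 = n48405 := (sb E98429 F160369)
theorem F340348 : act 1 n48398 = n48405 := (sb E98430 F160287)
theorem F340349 : act 0 n48397 = n48405 := (sb E98431 (iv1 F160289))
theorem F340350 : act 5 n104646 = n104710 := (sb E98432 F160515)
theorem E98449 : n104610 = n48390 := ((((iv7 D104646)).symm.trans (sb E98432 F160516))).symm
theorem F340351 : act 5 n48416 = n48405 := (sb E98433 F160374)
theorem E98450 : n104714 = n104711 := (((D104711).symm.trans (sb E98433 (iv6 F160401)))).symm
theorem E98451 : n48409 = n48404 := ((F76124).symm.trans (sb E98433 (iv7 D104692)))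
theorem F340352 : act 2 n23533 = n23532 := (sb E98434 F76043)
theorem F340353 : act 2 n48398 = n48403 := (sb E98435 F160371)
theorem F340354 : act 7 n48398 = n48402 := (sb E98435 (iv7 D104684))
theorem F340355 : act 7 n104685 = n104665 := (sb E98436 F160681)
theorem F340356 : act 4 n89864 = n48403 := (sb E98437 (iv4 D104686))
theorem F340357 : act 5 n89850 = n48403 := (sb E98438 (iv5 D104687))
theorem F340358 : act 2 n104688 = n104668 := (sb E98439 F160682)
theorem F340359 : act 4 n104688 = n173851 := (sb E98439 (iv4 F337349))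
theorem F340360 : act 2 n48397 = n48402 := (sb E98440 (iv2 D104679))
theorem F340361 : act 7 n48397 = n48403 := (sb E98440 (iv7 F160370))
theorem F340362 : act 7 n104680 = n104667 := (sb E98441 F160683)
theorem F340363 : act 4 n45525 = n48402 := (sb E98442 (iv4 D104681))
theorem F340364 : act 5 n89849 = n48402 := (sb E98443 (iv5 D104682))
theorem F340365 : act 2 n104683 = n104666 := (sb E98444 F160684)
theorem F340366 : act 4 n104683 = n97482 := (sb E98444 F160685)
theorem E98452 : n104673 = n48376 := ((D104673).symm.trans (sb E98445 (iv6 D104607)))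
theorem E98453 : n104674 = n45416 := (((F76068).symm.trans (sb E98447 (iv4 F160368)))).symm
theorem F340367 : act 4 n23518 = n23533 := (sb E98448 F76070)
theorem F340368 : act 6 n23518 = n23532 := (sb E98448 (iv6 D48401))
theorem E98457 : n104700 = n97143 := ((((iv5 F149875)).symm.trans (sb E98449 (iv5 F160387)))).symm
theorem F340369 : act 7 n104711 = n48417 := (sb E98450 (iv7 D104714))
theorem E98458 : n104689 = n44660 := ((D104689).symm.trans (sb E98451 F76083))
theorem E98459 : n104690 = n89885 := ((D104690).symm.trans (sb E98451 (iv0 F137988)))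
theorem F340370 : act 2 n48404 = n48400 := (sb E98451 F76081)
theorem E98460 : n104691 = n23536 := ((D104691).symm.trans (sb E98451 (iv4 D48409)))
theorem F340371 : act 7 n48404 = n48416 := (sb E98451 (iv7 F76124))
theorem F340372 : act 6 n48376 = n48399 := (sb E98452 (iv6 D104673))
theorem F340373 : act 6 n45416 = n48400 := (sb E98453 (iv6 D104674))
theorem F340374 : act 7 n97143 = n104710 := (sb E98457 (iv7 F160399))
theorem F340375 : act 1 n44660 = n48404 := (sb E98458 (iv0 D104689))
theorem F340376 : act 0 n89885 = n48404 := (sb E98459 (iv1 D104690))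
theorem F340377 : act 4 n23536 = n48404 := (sb E98460 (iv4 D104691))
theorem F340378 : act 0 n103662 = n96268 := d21_4 (iv5 F64867) (iv1 F64868) (iv5 F75423) D103662 F148061 (iv5 F137986) F340376 (iv5 D48404) (iv6 D23533) D23530
theorem F340379 : act 4 n97205 = n103662 := d18_1 (iv1 F149951) F340378 (iv4 D96268) (iv5 D44941) (iv4 F70637) (iv0 F314499) F316024 F71668 (iv5 F147544)
theorem F340380 : act 6 n89916 = n97205 := d10_0 F340379 (iv6 D103662) (iv4 F138080)
theorem E98461 : n97171 = n89917 := (c12_4 F340380 (iv5 F149952) (iv6 D97172) D97171 (iv6 D89917) D89916)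
theorem F340381 : act 0 n89917 = n147800 := (sb E98461 F335111)
theorem F340382 : act 5 n89917 = n45412 := (sb E98461 (iv5 D97171))
theorem F340383 : act 2 n95763 = n89917 := d2_3 F340382 (iv2 F319389) D95763
theorem F340384 : act 3 n95810 = n89917 := d6_3 F340382 (iv3 F320368) D95810
theorem F340385 : act 7 n95768 = n89917 := d13_0 F340382 (iv7 F319392) D95768
theorem F340386 : act 4 n128230 = n89920 := d16_0 (iv5 D89920) (iv4 F138083) F340382 (iv4 F319352) F94856 (iv4 F205995) (iv5 F206361) (iv7 F242579) (iv2 F242580)
theorem F340387 : act 4 n103217 = n154539 := d1_2 F340386 (iv2 F158464) (iv2 F242580)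
theorem F340388 : act 6 n89924 = n128230 := d10_0 F340386 F138084 D89924
theorem F340389 : act 7 n89920 = n174569 := d11_2 (iv7 F304226) F340386 (iv4 D174569)
theorem F340390 : act 0 n89920 = n128290 := d18_2 (iv1 F206363) F340386 (iv4 D128290) (iv5 D60309) (iv4 D28649) (iv0 D13658) (iv4 F22811) D28643 D60285
theorem F340391 : act 7 n97176 = n95763 := d16_8 F138083 D89920 (iv4 F340386) (iv5 F237219) F237218 (iv5 F188354) F319355 D97176 F340383
theorem F340392 : act 0 n128325 = n89920 := d20_7 (iv4 F128538) (iv1 F271719) F271721 (iv3 F188395) (iv1 D119433) (iv3 F306330) D128325 (iv4 F340386) F304225 (iv1 F127807)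
theorem F340393 : act 5 n97067 = n128325 := d21_6 F64846 (iv1 F36656) F71658 F340373 (iv1 F76069) (iv6 F149727) F340392 (iv5 D89920) (iv6 D42013) D42010
theorem F340394 : act 1 n97067 = n127633 := d17_8 F319357 (iv5 D45414) D45412 (iv5 F340382) F138083 D89920 (iv0 F340392) (iv5 F340393) (iv4 D127633)
theorem F340395 : act 2 n95768 = n97176 := d4_3 F340391 F340383 (iv7 F340385)
theorem F340396 : act 1 n95768 = n95940 := d15_0 (iv0 F147585) (iv7 F340391) (iv2 F340395)
theorem E98462 : n147259 = n45448 := (c21_1 D147259 (iv1 F148727) F148724 F70987 (iv1 F70149) D44780 D95940 (iv1 F340396) (iv5 D95768) D95769 F339501)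
theorem E98463 : n106796 = n97297 := (((D97297).symm.trans (sb E98462 (iv4 F332545)))).symm
theorem E98464 : n97298 = n69032 := ((D97298).symm.trans (sb E98462 (iv5 D147259)))
theorem F340397 : act 0 n97297 = n110772 := (sb E98463 (iv1 F171464))
theorem F340398 : act 1 n97297 = n49345 := (sb E98463 (iv0 D106796))
theorem F340399 : act 5 n69032 = n45448 := (sb E98464 (iv5 D97298))
theorem F340400 : act 5 n97295 = n146021 := d2_2 F340399 D97295 F229242
theorem F340401 : act 5 n97296 = n111782 := d6_2 F340399 D97296 F173486
theorem F340402 : act 5 n97299 = n111781 := d12_3 D69032 F340399 D97299 (iv6 D111781) (iv5 F81305)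
theorem E98465 : n97300 = n96560 := (c13_3 (iv7 F319858) F340399 D97300 (iv5 F148720))
theorem F340403 : act 2 n96560 = n45449 := (sb E98465 F150042)
theorem F340404 : act 7 n96560 = n45448 := (sb E98465 (iv7 D97300))
theorem F340405 : act 7 n97297 = n110770 := d11_2 F340404 D97297 F335830
theorem E98466 : n97295 = n96559 := (c15_4 (iv0 D96559) D96560 F340404 D97295)
theorem F340406 : act 2 n96559 = n45448 := (sb E98466 (iv2 D97295))
theorem F340407 : act 5 n96559 = n146021 := (sb E98466 F340400)
theorem F340408 : act 7 n96559 = n45449 := (sb E98466 (iv7 F150041))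
theorem F340409 : act 7 n97303 = n146021 := d13_2 F340408 D97303 (iv5 F340407)
theorem F340410 : act 4 n147134 = n97303 := d11_3 F340409 F229243 (iv7 F230689)
theorem F340411 : act 1 n95769 = n97303 := d15_1 (iv0 F339501) F340409 F229242
theorem F340412 : act 1 n103172 = n146021 := d15_1 D103172 (iv7 F340409) F319843
theorem F340413 : act 2 n117210 = n103172 := d15_3 F340412 F229594 (iv7 F183369)
theorem F340414 : act 5 n97271 = n103172 := d17_7 D147135 (iv5 F335124) F335121 F334481 (iv4 D45440) D45441 D97271 F340412 F229243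
theorem F340415 : act 1 n131817 = n97289 := d17_8 (iv1 F150027) F340414 (iv1 D103172) F148720 (iv4 F335830) (iv5 F335829) (iv0 D131814) D131817 (iv4 D97289)
theorem F340416 : act 3 n106537 = n97289 := d20_3 (iv4 D106758) (iv1 F78004) (iv4 F163788) (iv1 F340415) F211229 F96423 F47693 (iv4 F47000) F322878 (iv1 F177832)
theorem F340417 : act 4 n97284 = n106519 := d5_4 (iv4 F163788) F340416 (iv4 D97289) (iv3 F150035) F163779
theorem F340418 : act 7 n97289 = n106533 := d8_2 D106537 F340416 F163787
theorem F340419 : act 4 n106533 = n96552 := d11_1 F340418 F288185 D97289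
theorem F340420 : act 2 n97272 = n106533 := d1_3 F340419 F288184 D97272
theorem F340421 : act 3 n96552 = n106516 := d5_1 F340419 F163778 F77745 (iv4 F77750) (iv3 F163787)
theorem F340422 : act 6 n96552 = n106515 := d10_2 D106533 F340419 F163776
theorem F340423 : act 5 n106793 = n106533 := d17_3 (iv1 F171460) (iv5 D106795) D106793 F340419 (iv5 D96552) (iv0 D45082) D45084 D96560 (iv4 F335830)
theorem F340424 : act 3 n106536 = n106793 := d6_3 F340423 F163787 D106536
theorem F340425 : act 2 n106515 = n97273 := d3_1 F340422 (iv6 D97273) (iv2 F288184)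
theorem F340426 : act 4 n97273 = n106532 := d1_2 (iv4 F163776) F340425 (iv2 D106532)
theorem F340427 : act 5 n97273 = n112844 := d2_2 (iv5 F163777) F340425 (iv2 D112844)
theorem F340428 : act 3 n178864 = n97273 := d6_3 F340427 F316692 D178864
theorem F340429 : act 2 n108169 = n178864 := d0_5 F340428 (iv2 F340425) (iv3 D106515) (iv2 F79011) (iv3 F167270)
theorem F340430 : act 6 n97261 = n178864 := d7_0 F340428 (iv6 D97273) (iv3 F150017)
theorem F340431 : act 7 n178864 = n157229 := d4_2 (iv7 F167271) F340429 F247443
theorem F340432 : act 1 n178864 = n156870 := d15_0 (iv0 F246881) (iv7 F167271) F340429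
theorem F340433 : act 1 n144206 = n178864 := d15_0 F340432 F246880 (iv2 F340018)
theorem F340434 : act 6 n106532 = n97272 := d10_2 D97273 F340426 (iv4 D97272)
theorem F340435 : act 7 n106516 = n97284 := d8_2 (iv7 F288185) F340421 F150035
theorem F340436 : act 1 n133430 = n97284 := d15_1 F259096 (iv7 F340435) (iv2 F167274)
theorem F340437 : act 4 n164453 = n164460 := d16_4 F167275 F82491 (iv4 F120153) D164453 (iv5 D164460) F258976 D97284 (iv7 F340435) (iv2 F167274)
theorem F340438 : act 5 n164457 = n108171 := d16_1 D164457 F167275 F82491 (iv4 F120153) D164453 F340437 (iv5 D164460) (iv7 F288178) F288177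
theorem F340439 : act 5 n133422 = n164452 := d17_1 (iv1 F214543) (iv1 D164452) D164453 F340437 (iv5 D164460) F177530 F177527 F176101 F259103
theorem F340440 : act 7 n164452 = n133421 := d13_2 D133422 F340439 (iv5 D133421)
theorem F340441 : act 6 n186201 = n133374 := d21_3 (iv5 D96096) F292561 D186201 (iv1 F214434) (iv6 F214540) F340439 (iv1 D164452) D164453 F259097 F235286
theorem F340442 : act 4 n133374 = n112939 := d10_1 F340441 (iv6 F291540) (iv4 F288981)
theorem E98467 : n164451 = n130582 := ((c15_4 (iv0 D164451) D164452 F340440 F214536)).symm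
theorem F340443 : act 1 n130582 = n78981 := (sb E98467 (iv0 D164451))
theorem F340444 : act 5 n164403 = n130580 := d17_5 D78982 D164458 (iv1 F290528) (iv5 D164410) (iv4 F259046) (iv0 D130580) D130582 F340443 F120153
theorem F340445 : act 4 n130582 = n148913 := d20_8 (iv4 D148475) (iv1 D69571) (iv4 F105842) (iv3 F312027) (iv1 D147300) (iv3 F105273) (iv4 F120153) (iv1 F340443) (iv3 D148913) (iv1 F313232)
theorem E98468 : n131141 = n95568 := (c21_5 F40045 (iv1 F39953) (iv5 F46795) D61523 D131141 (iv6 F259097) (iv5 D164453) (iv1 F340443) (iv5 D130582) (iv6 D61263) F46635)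
theorem F340446 : act 1 n95568 = n61523 := (sb E98468 (iv0 D131141))
theorem E98469 : n186220 = n185656 := ((c18_5 F292563 (iv4 D88697) D88694 F136041 D185656 (iv4 D186220) (iv0 F292448) (iv4 F331366) F340446 (iv5 F331301))).symm
theorem F340447 : act 4 n185656 = n88709 := (sb E98469 (iv4 D186220))
theorem E98470 : n186052 = n94442 := (c20_5 (iv4 F96054) (iv1 F340446) F331366 F292450 (iv1 F288664) F291088 (iv4 F291089) (iv1 F144776) (iv4 D43919) D43918 F157805)
theorem F340448 : act 0 n94442 = n88620 := (sb E98470 (iv1 D186052))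
theorem F340449 : act 1 n94442 = n102862 := (sb E98470 F288664)
theorem E98471 : n113046 = n96069 := ((c21_4 (iv5 D95568) (iv1 F205492) D44827 D96069 (iv1 D113046) (iv6 D52176) F40045 (iv1 F39953) (iv5 F46795) D61523 (iv1 F340446))).symm
theorem F340450 : act 0 n96069 = n52176 := (sb E98471 (iv1 D113046))
theorem F340451 : act 1 n96069 = n112949 := (sb E98471 F176112)
theorem F340452 : act 2 n96069 = n112947 := (sb E98471 (iv2 F176114))
theorem F340453 : act 4 n96069 = n76453 := (sb E98471 F176113)
theorem F340454 : act 5 n96069 = n67489 := (sb E98471 F331459)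
theorem F340455 : act 7 n96069 = n112946 := (sb E98471 (iv7 F176126))
theorem F340456 : act 3 n112946 = n96085 := d8_1 F340455 (iv7 D96085) (iv3 F147678)
theorem E98472 : n144041 = n116968 := (c2_2 F340454 (iv2 F226759) F331471 (iv2 F340452))
theorem F340457 : act 2 n116968 = n67489 := (sb E98472 F226759)
theorem F340458 : act 7 n116968 = n67488 := (sb E98472 (iv7 D144041))
theorem E98473 : n144042 = n96084 := (c6_2 F340454 D144042 (iv5 D96084) (iv3 F147678))
theorem F340459 : act 0 n96084 = n110969 := (sb E98473 F226761)
theorem F340460 : act 1 n96084 = n110974 := (sb E98473 F226762)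
theorem F340461 : act 3 n96084 = n67489 := (sb E98473 (iv3 D144042))
theorem F340462 : act 4 n96084 = n127205 := (sb E98473 F226760)
theorem E98474 : n144044 = n96072 := (c12_3 D96069 F340454 D144044 (iv5 D96072) (iv6 D44828) D44827)
theorem F340463 : act 6 n96072 = n67489 := (sb E98474 (iv6 D144044))
theorem F340464 : act 5 n144169 = n112951 := d18_9 (iv1 F178453) F178450 F114604 (iv4 F340453) F340454 (iv4 F223609) (iv0 F223610) (iv4 F103434) D144169
theorem F340465 : act 5 n106135 = n143974 := d21_8 (iv5 F331481) (iv1 F340451) F340454 (iv6 F340463) F331281 (iv6 F331285) (iv5 D106137) D106135 (iv6 D143974) (iv1 F103307)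
theorem F340466 : act 6 n103863 = n112888 := d21_3 (iv5 F331283) (iv1 F205441) D103863 (iv1 D112888) (iv6 F95011) (iv5 F331481) (iv1 F340451) F340454 (iv6 F340463) F331281
theorem F340467 : act 2 n112888 = n103868 := d3_1 F340466 (iv6 D103868) (iv2 F159283)
theorem F340468 : act 7 n112887 = n103868 := d15_2 F175807 F175805 (iv2 F340467)
theorem F340469 : act 3 n103883 = n112887 := d8_3 F340468 F159285 D103883
theorem F340470 : act 2 n140516 = n144169 := d2_3 F340464 (iv2 F176129) (iv5 F339983)
theorem F340471 : act 4 n140514 = n144169 := d9_15 F340464 (iv4 D112951) (iv5 F163447) (iv4 F163450) F161682 (iv4 F178571) F331455 (iv4 F226869) F331454 (iv4 D112954) (iv5 F161606) F161605 F94474 (iv4 F178567) (iv5 F339981)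
theorem F340472 : act 7 n140521 = n144169 := d13_0 F340464 (iv7 F176134) (iv5 F339982)
theorem E98475 : n144169 = n144106 := ((c18_4 (iv1 F182835) F103353 (iv1 F180117) (iv4 F226824) F340464 (iv4 D112951) (iv0 D52135) (iv4 F82414) D112947 (iv5 F331471))).symm
theorem F340473 : act 0 n144106 = n67541 := (sb E98475 (iv1 D144169))
theorem F340474 : act 2 n144106 = n140516 := (sb E98475 (iv2 F340470))
theorem E98476 : n140514 = n115755 := (((F226824).symm.trans (sb E98475 (iv4 F340471)))).symm
theorem F340475 : act 5 n144106 = n112951 := (sb E98475 F340464)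
theorem F340476 : act 7 n144106 = n140521 := (sb E98475 (iv7 F340472))
theorem F340477 : act 2 n115755 = n65950 := (sb E98476 (iv2 D140514))
theorem F340478 : act 5 n115755 = n114510 := (sb E98476 F339981)
theorem F340479 : act 7 n115755 = n65951 := (sb E98476 (iv7 F223665))
theorem F340480 : act 7 n144168 = n140516 := d16_8 F226824 F340478 F178567 (iv5 F94474) (iv4 F161605) F161606 D112954 (iv5 F331454) (iv2 F340474)
theorem F340481 : act 6 n115755 = n107151 := d21_3 (iv5 F223724) F331523 (iv5 F340478) (iv1 D107151) (iv6 F78289) (iv5 D49528) D49526 D107203 (iv6 F339933) (iv1 F180860)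
theorem F340482 : act 0 n145429 = n141864 := d21_4 (iv5 D49503) (iv1 F82147) D68178 D145429 (iv6 D141864) (iv5 F223724) F331523 (iv5 F340478) F340481 (iv1 D107151)
theorem F340483 : act 1 n145429 = n134864 := d15_1 (iv0 F340482) F217049 (iv2 F224908)
theorem F340484 : act 6 n145414 = n144106 := d10_2 F340481 (iv4 F228443) F226824
theorem F340485 : act 3 n144109 = n145414 := d7_3 F340484 (iv3 D144106) D144109
theorem F340486 : act 0 n130545 = n144109 := d20_4 F100369 (iv1 F48778) (iv4 F95723) (iv3 F209131) F340485 F228443 (iv1 D107151) D107152 F331785 (iv1 F100371)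
theorem F340487 : act 2 n140521 = n144168 := d4_3 F340480 (iv2 F340474) F340476
theorem E98477 : n144110 = n116990 := ((c8_2 F340476 (iv3 F223671) (iv7 D144110) D144106)).symm
theorem F340488 : act 2 n116990 = n67520 := (sb E98477 F226825)
theorem F340489 : act 7 n116990 = n67519 := (sb E98477 (iv7 D144110))
theorem F340490 : act 1 n117007 = n140521 := d15_1 (iv0 F223667) (iv7 F340476) F340474
theorem F340491 : act 1 n114237 = n142482 := d17_6 (iv1 D65951) D65953 (iv1 F339985) (iv5 F331556) (iv4 F225384) F331558 F225392 F340490 (iv4 D140521)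
theorem E98478 : n140541 = n140520 := (c20_5 F180217 F180750 (iv4 D65962) D65961 D140541 (iv3 D140520) D140521 (iv1 F340490) F182940 (iv3 D115826) D115824)
theorem F340492 : act 1 n140520 = n65961 := (sb E98478 (iv0 D140541))
theorem F340493 : act 4 n142482 = n105476 := d18_7 (iv1 F76743) F40527 (iv1 F46012) F114632 D52726 D114237 F340491 (iv0 F161905) (iv5 D105402)
theorem F340494 : act 2 n115006 = n142482 := d1_3 F340493 F161904 D115006
theorem F340495 : act 0 n114225 = n142482 := d18_2 (iv1 D114224) D114225 F340493 (iv5 D105476) (iv4 F177800) F177798 (iv4 F83210) (iv0 F163455) F178008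
theorem F340496 : act 5 n114225 = n142470 := d18_9 (iv1 D142470) F102661 F164777 F164776 D143976 F331509 F161906 (iv4 F340493) (iv0 F340495)
theorem F340497 : act 4 n142470 = n116086 := d9_1 F340496 F331553 (iv4 D127783) (iv5 D60007) F114632 D52726 D114237 (iv5 F331558) F225384 F331556 (iv4 D127777) (iv5 D60002) F114629 D52721 D114225
theorem F340498 : act 2 n141856 = n142470 := d1_3 F340497 F331552 D141856
theorem F340499 : act 7 n141861 = n142470 := d11_0 F340497 F331554 D141861
theorem F340500 : act 7 n142469 = n141856 := d16_8 F340497 F331553 (iv4 D127783) (iv5 D60007) F114632 D52726 D114237 (iv5 F331558) F340498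
theorem F340501 : act 3 n143968 = n142470 := d20_5 F46308 (iv1 F37485) D31346 D67449 D143968 F340497 (iv1 D116086) F84417 (iv3 D28715) D28713
theorem F340502 : act 0 n136313 = n136315 := d20_1 (iv4 F219376) F219382 F336219 (iv1 F182824) F182821 F103308 (iv1 F180866) (iv4 F340497) (iv3 F340501) (iv1 F226615)
theorem F340503 : act 7 n113097 = n143968 := d8_0 F340501 (iv7 F340499) (iv3 F224907)
theorem F340504 : act 2 n143968 = n113098 := d15_3 F226620 F226618 F340503
theorem F340505 : act 2 n113097 = n143969 := d15_3 F226619 F226615 (iv7 F340503)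
theorem F340506 : act 7 n143969 = n113098 := d4_2 (iv7 F340503) F340505 (iv2 F340504)
theorem F340507 : act 2 n141861 = n142469 := d4_3 F340500 F340498 (iv7 F340499)
theorem E98479 : n144105 = n116991 := (c15_4 F182904 F182900 F340489 D144105)
theorem F340508 : act 2 n116991 = n67519 := (sb E98479 (iv2 D144105))
theorem F340509 : act 7 n116991 = n67520 := (sb E98479 (iv7 F226823))
theorem F340510 : act 3 n112951 = n144108 := d6_1 F340475 (iv5 D144108) D144106
theorem E98480 : n144203 = n144108 := (c20_5 F95014 F48773 F49649 D67554 D144203 (iv3 F340510) (iv4 D112951) (iv1 F82501) (iv4 F331475) F95012 D60463)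
theorem F340511 : act 1 n144108 = n67554 := (sb E98480 (iv0 D144203))
theorem F340512 : act 6 n127205 = n96088 := d10_2 (iv6 F147695) F340462 (iv4 D96088)
theorem F340513 : act 5 n145481 = n96081 := d16_1 (iv4 F228532) F147694 D96084 F340462 (iv5 D127205) (iv4 D59717) D59718 (iv7 F204381) (iv2 F221129)
theorem F340514 : act 5 n111020 = n96083 := d17_1 (iv1 F172275) (iv1 D96083) D96084 F340462 (iv5 D127205) (iv0 F94105) F172272 (iv0 D111079) D111081
theorem F340515 : act 3 n96083 = n137485 := d6_1 F340514 (iv5 D137485) F172177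
theorem F340516 : act 4 n96083 = n142848 := d16_2 D111020 F340514 F225742 F321034 (iv5 F321035) F94104 (iv5 F166921) F172099 (iv2 F172097)
theorem F340517 : act 6 n184209 = n111081 := d21_9 F340514 (iv1 D96083) D96084 F147695 F70413 (iv6 F134849) (iv5 D87862) D87860 D184209 (iv1 F172275)
theorem F340518 : act 4 n111083 = n184209 := d10_3 F340517 (iv4 D111081) D111083
theorem E98481 : n137485 = n137084 := ((c20_5 (iv4 F85065) D60463 F95014 (iv3 F100362) D137084 (iv3 F340515) F340516 (iv1 F226691) (iv4 D144013) F103325 (iv1 F85062))).symm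
theorem F340519 : act 3 n137084 = n96083 := (sb E98481 (iv3 F340515))
theorem F340520 : act 5 n137084 = n64625 := (sb E98481 (iv5 D137485))
theorem F340521 : act 0 n137084 = n181931 := d19_4 D67283 (iv5 F225742) (iv4 F340516) (iv3 F340519) (iv5 F331273) F218667 F99441 (iv1 F99481) F106602 (iv4 F106594) F85421 (iv1 F56602) (iv5 D35921) F50464 (iv3 D14875) (iv1 D7081) D7083 D14883 (iv3 F49572)
theorem E98482 : n184411 = n102166 := (c21_5 (iv5 F340520) F340521 (iv5 F331273) F331274 D184411 (iv6 D102166) F74630 F72584 F64402 (iv6 F329625) D64625)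
theorem F340522 : act 1 n102166 = n87948 := (sb E98482 (iv0 D184411))
theorem F340523 : act 2 n128553 = n181931 := d15_3 (iv0 F340521) (iv0 D137084) (iv7 F206773)
theorem F340524 : act 6 n181927 = n128553 := d3_0 F340523 (iv6 D181931) (iv2 F283225)
theorem F340525 : act 7 n181931 = n137082 := d4_2 (iv7 F206773) F340523 F220250
theorem F340526 : act 3 n137082 = n181935 := d8_1 F340525 (iv7 D181935) (iv3 F283226)
theorem F340527 : act 1 n137085 = n181931 := d15_1 D137085 F340525 F220250
theorem E98483 : n184410 = n135941 := ((c12_3 F340524 F206772 D135941 (iv5 D184410) F134940 D181927)).symm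
theorem F340528 : act 2 n135941 = n87948 := (sb E98483 F286336)
theorem F340529 : act 5 n135941 = n87947 := (sb E98483 (iv5 D184410))
theorem F340530 : act 5 n184397 = n144273 := d13_3 F226962 F340529 (iv7 F286328)
theorem F340531 : act 0 n135941 = n96210 := d21_7 D21483 D44992 F70751 D45362 (iv1 F295219) (iv6 F134940) (iv5 F340529) (iv5 D96210) (iv6 D44920) F33678
theorem F340532 : act 6 n96117 = n184409 := d21_9 (iv5 F340529) F340531 (iv5 D96210) (iv6 D44920) F33678 D21484 D44996 F324879 (iv5 F324882) (iv1 D184409)
theorem E98484 : n184409 = n184403 := (c3_1 F340532 F286331 F326739 F325908)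
theorem F340533 : act 0 n184403 = n87947 := (sb E98484 (iv1 D184409))
theorem F340534 : act 1 n184403 = n87949 := (sb E98484 F286335)
theorem F340535 : act 6 n184403 = n96117 := (sb E98484 (iv6 F340532))
theorem F340536 : act 3 n184403 = n112024 := d7_1 (iv6 F340535) F174129 (iv3 F324881)
theorem F340537 : act 5 n184403 = n112011 := d12_1 (iv6 F340535) (iv6 D112011) (iv5 D51658) D51659 (iv5 F324882)
theorem E98485 : n184402 = n89882 := (c14_4 F325907 (iv6 F340535) (iv7 D184403) D184402 F137977 F326737)
theorem F340538 : act 6 n89882 = n87945 := (sb E98485 (iv6 D184402))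
theorem F340539 : act 6 n184399 = n95680 := d7_2 F340538 D184399 F147371
theorem F340540 : act 6 n184400 = n172214 := d10_2 F340538 D184400 F289549
theorem F340541 : act 0 n184401 = n103350 := d21_7 F156948 F149761 F147354 F70256 D89882 F340538 D184401 (iv5 D103350) D103351 F158630
theorem F340542 : act 0 n103054 = n184401 := d21_1 D103054 (iv5 D184401) (iv6 F340538) (iv1 F137976) (iv6 D45364) D45363 (iv1 F71516) F70196 D44920 F75051
theorem F340543 : act 2 n103353 = n184401 := d15_3 (iv0 F340542) (iv0 F159303) F159297
theorem F340544 : act 7 n184401 = n103352 := d4_2 F159297 F340543 (iv2 F159298)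
theorem E98486 : n112011 = n103352 := ((c13_1 F340544 (iv5 F340537) (iv7 D184403) D184401)).symm
theorem F340545 : act 3 n103352 = n51663 := (sb E98486 F174112)
theorem F340546 : act 5 n103352 = n184403 := (sb E98486 (iv5 F340537))
theorem F340547 : act 6 n103352 = n51658 := (sb E98486 (iv6 D112011))
theorem F340548 : act 3 n184401 = n112025 := d8_1 (iv7 F340544) (iv7 D112025) (iv3 F340545)
theorem F340549 : act 2 n112025 = n103872 := d0_1 F340548 (iv3 D103872) (iv2 F149612) F159221 F340543
theorem F340550 : act 5 n112025 = n184399 := d6_2 D184401 F340548 (iv3 D184399)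
theorem F340551 : act 2 n184399 = n95682 := d2_1 F340550 (iv5 F159290) (iv2 F340549)
theorem F340552 : act 7 n184399 = n112024 := d13_2 D112025 F340550 (iv5 D112024)
theorem F340553 : act 0 n184199 = n112025 := d21_1 D184199 F340550 F340539 (iv1 F289553) (iv6 D96947) (iv5 F134843) (iv1 D87854) (iv5 D40977) D40978 D87857
theorem F340554 : act 2 n112024 = n103345 := d4_1 F340552 (iv7 F292163) (iv2 F340551)
theorem F340555 : act 6 n112031 = n96997 := d14_3 F340552 F174129 D112031 F149591 (iv6 F340539)
theorem F340556 : act 2 n96999 = n112031 := d3_3 F340555 (iv2 D96997) D96999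
theorem F340557 : act 4 n98594 = n112031 := d10_3 F340555 F149590 (iv6 F287748)
theorem F340558 : act 7 n112030 = n98594 := d11_0 F340557 (iv7 D112031) D112030
theorem F340559 : act 2 n98593 = n112030 := d4_3 F340558 F287747 F151990
theorem F340560 : act 1 n89536 = n112030 := d15_1 (iv0 F137248) F340558 F287747
theorem F340561 : act 1 n112030 = n98588 := d15_1 F340560 (iv7 F287742) F287741
theorem F340562 : act 5 n112030 = n184234 := d21_0 (iv1 F286162) (iv5 D88354) (iv6 F73634) F73636 (iv6 F293610) D87178 (iv1 F295121) (iv5 D98587) D98588 (iv1 F340561)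
theorem F340563 : act 6 n112030 = n98993 := d21_3 D87876 D184234 (iv5 F340562) (iv1 D98993) (iv6 D46309) D46308 F135324 (iv5 D88362) (iv6 D41250) (iv1 F73265)
theorem F340564 : act 4 n98993 = n112024 := d10_1 F340563 F174129 D112030
theorem F340565 : act 3 n112030 = n182261 := d0_2 (iv3 F294187) F340559 (iv2 D182261) (iv3 D87020) (iv2 F293173)
theorem F340566 : act 4 n111966 = n98593 := d1_0 F340559 (iv4 D112030) (iv2 F173996)
theorem E98487 : n182277 = n139656 := ((c16_7 (iv4 D112030) (iv5 D51666) F39434 (iv5 F24221) (iv4 F49190) D65543 D139656 (iv5 D182277) F151990 F340559)).symm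
theorem F340567 : act 0 n139656 = n87876 := (sb E98487 F283729)
theorem F340568 : act 1 n139656 = n88354 := (sb E98487 F283731)
theorem F340569 : act 3 n139656 = n87034 := (sb E98487 F283728)
theorem F340570 : act 5 n139656 = n87033 := (sb E98487 (iv5 D182277))
theorem E98488 : n185474 = n156129 := (c17_10 F245342 (iv5 D139653) (iv1 D65542) D65543 D139656 F340570 (iv0 F137248) (iv5 F157911) F285722 D185474)
theorem E98489 : n138730 = n88359 := ((F245340).symm.trans (sb E98488 F287734))
theorem F340571 : act 4 n156129 = n88355 := (sb E98488 (iv4 D185474))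
theorem F340572 : act 2 n88359 = n156129 := (sb E98489 (iv2 F245340))
theorem E98490 : n185486 = n65139 := ((D185486).symm.trans (sb E98489 (iv5 D138730)))
theorem E98491 : n183894 = n156132 := (((iv7 F285728)).symm.trans (sb E98489 (iv7 F245349)))
theorem F340573 : act 5 n65139 = n88359 := (sb E98490 (iv5 D185486))
theorem F340574 : act 4 n156132 = n87720 := (sb E98491 (iv4 D183894))
theorem F340575 : act 7 n156132 = n88359 := (sb E98491 F285728)
theorem E98492 : n185452 = n112526 := (c16_4 F340571 (iv5 D88355) (iv4 F135287) D185452 F174983 (iv5 F161254) D74270 D156132 F340575 F340572)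
theorem F340576 : act 2 n112526 = n88345 := (sb E98492 F287714)
theorem F340577 : act 5 n112526 = n88344 := (sb E98492 (iv5 D185452))
theorem E98493 : n156130 = n96273 := (c9_8 F340577 F135287 D88355 (iv4 F340571) (iv5 D156129) (iv4 D74267) D74268 D156130 (iv5 D96273) F70646 D87720 (iv4 F340574) (iv5 D156132) (iv4 D74270) F161254 (iv4 F174983))
theorem F340578 : act 2 n96273 = n84231 := (sb E98493 F326025)
theorem F340579 : act 4 n96273 = n74268 := (sb E98493 (iv4 D156130))
theorem F340580 : act 6 n96273 = n136504 := (sb E98493 F245346)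
theorem F340581 : act 5 n96270 = n110659 := d17_7 (iv1 F81383) (iv5 F111009) (iv1 F111011) F161254 (iv4 F174983) F340577 F148067 (iv0 F171263) F81521
theorem F340582 : act 0 n103090 = n139666 := d18_0 (iv4 D139666) (iv1 F161253) (iv4 F174983) F340577 F135287 F134633 (iv4 F158377) (iv0 F158380) D103090
theorem F340583 : act 1 n103090 = n139663 := d15_1 (iv0 F340582) F222837 (iv2 F222838)
theorem F340584 : act 5 n111819 = n103087 := d17_5 F111157 (iv5 D74268) (iv1 F111012) F111009 (iv4 F173606) (iv0 F158380) D103090 F340583 (iv4 D139663)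
theorem F340585 : act 6 n104623 = n137268 := d12_4 (iv6 F173607) F340584 F158378 D104623 F220409
theorem E98494 : n183891 = n156126 := (c16_4 (iv4 F173606) F340584 F158377 D183891 (iv4 D156126) (iv5 D74264) F53488 (iv5 F38624) (iv7 F81360) (iv2 F81379))
theorem F340586 : act 2 n156126 = n88354 := (sb E98494 F285716)
theorem F340587 : act 5 n156126 = n87718 := (sb E98494 (iv5 D183891))
theorem F340588 : act 7 n156126 = n87876 := (sb E98494 F285717)
theorem F340589 : act 6 n103094 = n109249 := d21_3 F340584 (iv1 F158379) D103094 (iv1 D109249) (iv6 D50413) (iv5 F76911) (iv1 F93039) (iv5 D58842) D58843 (iv1 F173609)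
theorem E98495 : n184235 = n156127 := (c11_2 F340588 D184235 (iv7 D156127) D156126)
theorem F340590 : act 4 n156127 = n87876 := (sb E98495 (iv4 D184235))
theorem E98496 : n185472 = n155995 := (c16_1 D185472 (iv5 D155995) F110999 F53401 (iv4 F81373) (iv5 F321138) F75092 D87876 (iv7 F340588) F340586)
theorem F340591 : act 4 n155995 = n88354 := (sb E98496 (iv4 D185472))
theorem F340592 : act 2 n137268 = n104627 := d3_1 F340585 (iv6 D104627) (iv2 F160320)
theorem F340593 : act 5 n104627 = n111805 := d2_2 (iv5 F220409) F340592 F173553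
theorem F340594 : act 7 n104627 = n111804 := d4_2 D137268 F340592 F173552
theorem F340595 : act 1 n104627 = n137265 := d15_0 (iv0 D137265) D137268 F340592
theorem F340596 : act 4 n104627 = n137230 := d16_0 (iv5 D137230) (iv4 D64498) (iv5 D30364) F24064 D14415 D30371 D64514 D137268 F340592
theorem F340597 : act 6 n137230 = n104626 := d10_2 D104627 F340596 (iv4 D104626)
theorem F340598 : act 1 n136263 = n104627 := d15_0 F340595 (iv7 F220407) F219351
theorem F340599 : act 3 n111804 = n104632 := d8_1 F340594 (iv7 D104632) (iv3 F160329)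
theorem F340600 : act 5 n104632 = n111800 := d6_2 D111804 F340599 F173544
theorem F340601 : act 5 n127597 = n104799 := d2_2 F340600 (iv2 F205070) F160610
theorem F340602 : act 7 n111800 = n103105 := d13_2 D104632 F340600 F158392
theorem F340603 : act 7 n103687 = n127597 := d4_2 F340602 (iv2 F159129) F205070
theorem F340604 : act 3 n103105 = n111805 := d8_1 F340602 (iv7 D111805) (iv3 F173544)
theorem F340605 : act 4 n147564 = n103687 := d11_3 F340603 F205071 D147564
theorem F340606 : act 6 n103686 = n147564 := d10_0 F340605 (iv6 D103687) (iv4 F159126)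
theorem F340607 : act 5 n136273 = n104630 := d21_6 (iv5 F319397) F103940 (iv5 F53381) F53378 D64067 D136273 (iv1 F160614) (iv5 F340601) (iv6 D127597) F318873
theorem F340608 : act 3 n136504 = n96274 := d7_1 F340580 F328306 (iv3 F148075)
theorem F340609 : act 7 n185464 = n136504 := d8_0 F340608 F148078 D185464
theorem F340610 : act 2 n110323 = n185464 := d4_3 F340609 (iv2 F246405) F246407
theorem F340611 : act 4 n109253 = n185464 := d11_3 F340609 (iv4 D136504) F169217
theorem E98497 : n185456 = n111787 := (c5_5 F340611 (iv3 D185464) (iv4 D88349) (iv3 F135288) D185456 F173502)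
theorem F340612 : act 4 n111787 = n88345 := (sb E98497 (iv4 D185456))
theorem F340613 : act 6 n185464 = n109251 := d10_2 D109253 F340611 (iv4 D109251)
theorem F340614 : act 3 n104644 = n109918 := d20_5 (iv4 D48458) (iv1 F36753) F340367 (iv3 F76067) D104644 F169935 F169216 F340611 (iv3 D185464) (iv1 F135305)
theorem E98498 : n163754 = n104644 := (c5_1 (iv4 F258114) F340614 F169935 (iv3 F327090) F119837 (iv3 F119836))
theorem F340615 : act 4 n104644 = n78675 := (sb E98498 F258114)
theorem F340616 : act 6 n104644 = n78673 := (sb E98498 (iv6 D163754))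
theorem F340617 : act 0 n163753 = n89827 := d21_7 (iv5 D23175) (iv1 F66549) D23528 D48390 D104644 F340616 D163753 (iv5 F159123) (iv6 D103683) (iv1 D48021)
theorem E98499 : n121163 = n103683 := ((c17_4 F119834 D163753 F340617 (iv5 F159123) (iv4 D121163) (iv5 F250813) F57200 (iv5 F57241) F57243 D77251)).symm
theorem F340618 : act 1 n103683 = n121782 := (sb E98499 (iv0 F256574))
theorem E98500 : n89856 = n78493 := ((F159122).symm.trans (sb E98499 F257943))
theorem F340619 : act 4 n103683 = n55905 := (sb E98499 (iv4 D121163))
theorem F340620 : act 7 n103683 = n78498 := (sb E98499 F257944)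
theorem F340621 : act 2 n78493 = n103683 := (sb E98500 (iv2 F159122))
theorem E98501 : n163326 = n89931 := ((D163326).symm.trans (sb E98500 (iv3 F138113)))
theorem E98502 : n163327 = n41974 := ((D163327).symm.trans (sb E98500 (iv5 D89856)))
theorem E98503 : n163328 = n41977 := ((D163328).symm.trans (sb E98500 F137921))
theorem F340622 : act 3 n89931 = n78493 := (sb E98501 (iv3 D163326))
theorem F340623 : act 4 n89931 = n164092 := (sb E98501 (iv4 F258624))
theorem F340624 : act 5 n41974 = n78493 := (sb E98502 (iv5 D163327))
theorem E98504 : n79886 = n78495 := ((F323553).symm.trans (sb E98503 F257635))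
theorem F340625 : act 6 n41977 = n78493 := (sb E98503 (iv6 D163328))
theorem E98505 : n163330 = n44542 := ((D163330).symm.trans (sb E98504 F321871))
theorem E98506 : n163331 = n36393 := ((D163331).symm.trans (sb E98504 (iv0 D79886)))
theorem E98507 : n121165 = n84837 := (((iv2 F257945)).symm.trans (sb E98504 F324877))
theorem E98508 : n166376 = n163322 := ((((iv3 F257631)).symm.trans (sb E98504 D166376))).symm
theorem F340626 : act 4 n78495 = n41977 := (sb E98504 (iv4 F323553))
theorem E98511 : n163333 = n84836 := ((D163333).symm.trans (sb E98504 F324878))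
theorem F340627 : act 1 n44542 = n78495 := (sb E98505 (iv0 D163330))
theorem F340628 : act 0 n36393 = n78495 := (sb E98506 (iv1 D163331))
theorem F340629 : act 2 n84837 = n78495 := (sb E98507 F257945)
theorem E98512 : n178384 = n104896 := ((((iv5 F324803)).symm.trans (sb E98507 F336583))).symm
theorem E98513 : n178253 = n55905 := ((D178253).symm.trans (sb E98507 (iv6 D121165)))
theorem E98514 : n166412 = n164093 := ((((iv4 F258625)).symm.trans (sb E98508 F261982))).symm
theorem F340630 : act 7 n84836 = n78495 := (sb E98511 (iv7 D163333))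
theorem F340631 : act 0 n104896 = n84873 := (sb E98512 (iv1 D178384))
theorem F340632 : act 1 n104896 = n166303 := (sb E98512 F277938)
theorem F340633 : act 6 n55905 = n84837 := (sb E98513 (iv6 D178253))
theorem F340634 : act 0 n164093 = n79896 := (sb E98514 (iv1 D166412))
theorem F340635 : act 1 n163753 = n89857 := d15_1 (iv0 F340617) (iv7 D89857) (iv2 F137868)
theorem F340636 : act 0 n112776 = n163322 := d20_10 (iv4 F258625) F340634 (iv4 D79896) (iv3 D36396) (iv1 F43816) (iv3 F324579) F39865 D25267 D52054 D112776
theorem F340637 : act 3 n89930 = n164093 := d20_3 (iv4 D48451) (iv1 F64883) D89930 F340634 F122640 (iv4 D38473) (iv1 F59032) (iv4 F127837) (iv3 F326716) F147117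
theorem F340638 : act 6 n164092 = n89930 := d7_0 F340637 (iv6 D164093) D164092
theorem F340639 : act 4 n174692 = n112776 := d20_6 (iv4 D44949) D44947 D96282 F328288 (iv1 F326040) D174692 F340636 (iv4 F258625) (iv3 F340637) F138111
theorem F340640 : act 7 n109319 = n174692 := d11_0 F340639 F175575 F171175
theorem F340641 : act 1 n147654 = n163322 := d15_0 (iv0 F340636) F175575 (iv2 F231423)
theorem F340642 : act 6 n108011 = n158895 := d21_9 F326801 (iv1 D166630) (iv5 F254081) D163322 (iv1 F340641) (iv6 D147654) (iv5 D69199) (iv1 F84775) F166908 (iv1 F326798)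
theorem F340643 : act 4 n158897 = n108011 := d10_3 F340642 (iv4 D158895) D158897
theorem F340644 : act 7 n176877 = n147664 := d14_4 (iv7 F166906) F340642 F254227 D176877 (iv6 D147664)
theorem F340645 : act 6 n112717 = n121157 := d21_9 (iv5 F256339) (iv1 F258423) F258422 (iv6 F340642) (iv1 D108011) F78876 D107587 F228556 F227229 F257783
theorem F340646 : act 0 n112556 = n172016 := d21_10 (iv5 D172016) (iv1 F318963) D83256 (iv6 F328759) (iv1 F250188) (iv6 F340642) (iv5 F166908) (iv1 F84774) F81995 D112556
theorem F340647 : act 5 n101191 = n112556 := d21_6 F29285 D22726 (iv5 F90886) D75315 (iv1 F302446) D101191 F340646 (iv5 D172016) (iv6 D82389) (iv1 D37787)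
theorem F340648 : act 1 n112556 = n173411 := d15_1 (iv0 F340646) (iv7 D173411) (iv2 F270071)
theorem F340649 : act 0 n178548 = n157842 := d21_7 (iv5 F271878) (iv1 F340648) (iv5 F340647) (iv6 D101191) F74374 D100041 (iv5 F278246) F329440 (iv6 D83257) (iv1 F321093)
theorem F340650 : act 2 n112556 = n173338 := d2_1 F340647 (iv5 F298146) F195721
theorem F340651 : act 6 n173338 = n112555 := d3_2 D112556 F340650 (iv2 D112555)
theorem F340652 : act 7 n174884 = n112556 := d4_0 F340650 F271786 D174884
theorem E98515 : n174882 = n173411 := ((c15_1 F340648 (iv0 D174882) (iv7 F271786) (iv2 F340650))).symm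
theorem F340653 : act 1 n173411 = n83538 := (sb E98515 (iv0 D174882))
theorem F340654 : act 5 n173436 = n126847 := d21_6 F300634 (iv1 F340653) F271878 (iv6 F317273) F317271 D173436 F330925 F212106 (iv6 F323430) F253928
theorem F340655 : act 6 n107662 = n184480 := d21_3 F330961 F100106 D107662 F286406 (iv6 F253926) F300634 (iv1 F340653) F271878 (iv6 F317273) F317271
theorem E98516 : n173617 = n173499 := (c21_1 F298373 (iv1 D173499) (iv5 D83007) D83008 (iv1 F319571) (iv6 D173436) F330961 F100106 D107662 F340655 F286406)
theorem F340656 : act 3 n173499 = n83038 := (sb E98516 (iv3 D173617))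
theorem F340657 : act 5 n173499 = n158697 := (sb E98516 (iv5 F298373))
theorem F340658 : act 6 n173499 = n106158 := (sb E98516 (iv6 F334715))
theorem F340659 : act 7 n173499 = n83913 := (sb E98516 F272083)
theorem E98517 : n172566 = n107662 := ((c21_10 (iv5 F128658) (iv1 F332383) F332371 (iv6 D82386) (iv1 F58633) D38199 D82995 (iv1 F329471) F332315 (iv6 F340655) (iv1 D172566))).symm
theorem F340660 : act 0 n107662 = n82610 := (sb E98517 (iv1 D172566))
theorem F340661 : act 5 n172561 = n173454 := d21_8 D82995 (iv1 F329471) F332315 (iv6 F340655) F340660 (iv6 D82610) D82609 D172561 (iv6 D173454) (iv1 D82994)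
theorem F340662 : act 2 n173520 = n172561 := d2_3 F340661 F279314 D173520
theorem F340663 : act 7 n172562 = n173520 := d15_2 (iv0 D172561) D172562 F340662
theorem F340664 : act 5 n173521 = n172562 := d13_3 F340663 (iv5 D173520) D173521
theorem F340665 : act 4 n106160 = n173499 := d11_3 F340659 (iv4 F334826) F334825
theorem E98518 : n164227 = n106760 := (c17_3 (iv1 F120067) (iv5 F239641) (iv1 F258848) F164563 F340665 F340657 (iv0 F286406) (iv5 F332315) F329471 (iv4 F327772))
theorem F340666 : act 0 n106760 = n78893 := (sb E98518 (iv1 D164227))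
theorem F340667 : act 1 n106760 = n152452 := (sb E98518 F258848)
theorem F340668 : act 3 n133715 = n152452 := d19_19 (iv1 F340667) F164563 F340665 F340656 (iv1 D83038) (iv5 D38213) (iv4 F30441) (iv3 D18976) (iv1 F30234) (iv5 F56002) F308483 F106306 (iv1 D69879) (iv5 D32453) (iv4 F51516) F51515 (iv1 F78793) D107896 (iv4 F215213)
theorem F340669 : act 5 n152432 = n133715 := d6_0 F340668 F239641 (iv3 F239616)
theorem F340670 : act 4 n107558 = n108298 := d20_0 F167453 (iv4 F215213) F340668 (iv1 F340667) (iv3 D106760) D106761 F177833 F78523 (iv3 F78514) D107558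
theorem F340671 : act 2 n157358 = n107558 := d1_3 F340670 F167450 (iv4 F247675)
theorem F340672 : act 7 n157357 = n107558 := d11_0 F340670 F167452 (iv4 F247670)
theorem F340673 : act 5 n181745 = n107558 := d16_1 D181745 F340670 (iv5 D108298) (iv4 D50010) (iv5 F78749) F310705 (iv5 F305850) F236499 (iv2 F191232)
theorem F340674 : act 1 n131300 = n107558 := d18_6 F77972 F43605 F50542 D34286 (iv5 F96183) D131300 F340670 F167454 (iv5 D106716)
theorem E98519 : n146498 = n114854 := ((c19_20 (iv1 F282921) F340673 F340670 F167451 (iv1 F97539) (iv5 D62556) (iv4 D29570) (iv3 D14047) (iv1 D6679) D6681 (iv4 F23402) D29522 (iv1 F313034) F313035 D62339 (iv3 F326549) F114610 (iv5 D76468) (iv4 F136443) (iv3 F178918))).symm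
theorem F340675 : act 0 n114854 = n181745 := (sb E98519 (iv1 F282921))
theorem F340676 : act 4 n114854 = n68679 := (sb E98519 F229825)
theorem F340677 : act 5 n114854 = n105415 := (sb E98519 F335876)
theorem F340678 : act 7 n114854 = n68676 := (sb E98519 (iv7 D146498))
theorem F340679 : act 5 n131300 = n148475 := d17_1 (iv1 F340674) F313231 (iv5 F157311) F334841 F114874 (iv0 F78792) D107896 (iv0 F167453) (iv4 F340670)
theorem F340680 : act 0 n164105 = n94274 := d20_1 F294560 F214472 F214468 (iv1 F189738) (iv3 F167451) (iv4 F340670) (iv1 F340674) (iv4 D131300) (iv3 F96185) (iv1 F144705)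
theorem F340681 : act 1 n164105 = n94273 := d15_1 (iv0 F340680) (iv7 F214474) F214473
theorem F340682 : act 2 n94277 = n164105 := d15_3 F340681 (iv0 D94273) D94277
theorem F340683 : act 1 n94277 = n164102 := d15_0 (iv0 D164102) D164105 (iv2 F340682)
theorem F340684 : act 7 n164102 = n94274 := d15_2 F214476 F340683 (iv2 F214473)
theorem F340685 : act 4 n164102 = n98703 := d18_7 F69001 (iv4 D43884) (iv1 F68916) F68914 (iv5 F69420) (iv4 F145406) F340683 (iv0 D98703) (iv5 D46140)
theorem F340686 : act 2 n94273 = n164102 := d1_3 F340685 (iv2 F152165) (iv4 F145403)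
theorem E98520 : n148914 = n121363 := (c17_8 (iv1 F88574) (iv5 D55964) F54397 (iv5 F96183) D131300 F340679 F313232 D148914 F193594 (iv4 D106481))
theorem F340687 : act 5 n121363 = n69802 := (sb E98520 (iv5 D148914))
theorem F340688 : act 6 n143213 = n181745 := d21_5 (iv5 F333164) F218119 F335173 F319180 D143213 F340673 (iv1 F340674) F340679 F313235 (iv1 F251441)
theorem F340689 : act 4 n181743 = n143213 := d10_3 F340688 (iv4 D181745) (iv6 F282910)
theorem F340690 : act 2 n143213 = n145949 := d1_1 F340689 (iv4 F339796) (iv2 F282908)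
theorem F340691 : act 0 n127149 = n181743 := d18_0 F340689 (iv1 F339795) (iv4 F323334) F318372 D141767 F319174 (iv4 F334860) (iv0 D127147) D127149
theorem F340692 : act 0 n116149 = n138534 := d20_4 (iv4 D48894) F50925 F321270 (iv3 F180956) F312813 F340689 (iv1 F339795) (iv4 F323334) F323333 (iv1 F114841)
theorem F340693 : act 7 n140895 = n156374 := d15_2 (iv0 F340692) (iv0 F223950) (iv2 F245758)
theorem E98521 : n146031 = n128296 := (c15_3 F315940 (iv0 F340692) F321269 (iv2 F315941))
theorem F340694 : act 3 n128296 = n68472 := (sb E98521 (iv3 D146031))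
theorem E98522 : n144835 = n97172 := ((((iv4 F335110)).symm.trans (sb E98521 F229254))).symm
theorem F340695 : act 7 n128296 = n116149 := (sb E98521 (iv7 F321269))
theorem F340696 : act 3 n97172 = n67884 := (sb E98522 (iv3 D144835))
theorem F340697 : act 7 n97172 = n127440 := (sb E98522 F227750)
theorem F340698 : act 3 n95851 = n97205 := d6_3 (iv5 F149952) F340696 F319397
theorem F340699 : act 3 n103607 = n157703 := d20_5 F94323 F54315 D67884 (iv3 F340696) (iv1 F335112) (iv4 D157703) (iv1 D75137) (iv4 F112588) (iv3 D75068) F94324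
theorem F340700 : act 6 n157703 = n103604 := d7_2 D103607 F340699 (iv3 D103604)
theorem F340701 : act 4 n103604 = n157705 := d10_1 F340700 (iv6 D157705) D157703
theorem F340702 : act 7 n157705 = n103721 := d11_2 (iv7 F335078) F340701 (iv4 D103721)
theorem E98523 : n111960 = n97206 := ((c20_1 D97206 (iv1 F173983) (iv4 F173509) F173508 (iv1 F81394) (iv3 F105467) F94383 (iv1 F103927) (iv4 F317122) F340698 (iv1 D97205))).symm
theorem F340703 : act 0 n97206 = n109256 := (sb E98523 (iv1 F173983))
theorem F340704 : act 1 n97206 = n51637 := (sb E98523 (iv0 D111960))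
theorem F340705 : act 7 n111961 = n95871 := d15_2 F340704 D111961 (iv2 F149953)
theorem E98524 : n109520 = n96269 := (c18_9 (iv1 F70644) D95474 F337313 F71136 D45423 D97206 F340704 F81513 D109520 F148063)
theorem E98525 : n95478 = n50527 := (((iv1 F148065)).symm.trans (sb E98524 (iv1 D109520)))
theorem E98526 : n111790 = n95477 := (((F148066).symm.trans (sb E98524 F173513))).symm
theorem E98527 : n109519 = n44601 := ((D109519).symm.trans (sb E98525 (iv1 D95478)))
theorem F340706 : act 1 n50527 = n96269 := (sb E98525 F148065)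
theorem E98528 : n109522 = n95601 := ((D109522).symm.trans (sb E98525 (iv5 F147276)))
theorem F340707 : act 2 n95477 = n51544 := (sb E98526 (iv2 D111790))
theorem F340708 : act 3 n95477 = n51568 := (sb E98526 F173508)
theorem F340709 : act 4 n95477 = n109256 := (sb E98526 F173509)
theorem F340710 : act 6 n95477 = n75804 := (sb E98526 F325203)
theorem F340711 : act 7 n95477 = n109521 := (sb E98526 F173510)
theorem F340712 : act 1 n44601 = n50527 := (sb E98527 (iv0 D109519))
theorem F340713 : act 3 n95601 = n50528 := (sb E98528 F169478)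
theorem F340714 : act 5 n95601 = n50527 := (sb E98528 (iv5 D109522))
theorem F340715 : act 7 n95601 = n110647 := (sb E98528 (iv7 F171254))
theorem F340716 : act 6 n95622 = n95600 := d12_4 D95601 F340714 (iv6 F328289) F148104 (iv5 D95600)
theorem F340717 : act 4 n154739 = n95601 := d17_4 F337294 F105406 D73381 D154739 F340714 F340706 F148063 F70645 D95469
theorem F340718 : act 4 n110647 = n159036 := d11_3 F250380 F340717 F340715
theorem F340719 : act 5 n139394 = n154725 := d19_17 D73381 D154739 F340717 F340713 (iv1 F81404) F81406 (iv4 F39471) F37999 (iv1 F22323) F22321 (iv4 F19649) D25099 (iv1 F39442) F38483 D30678 D65426 D139394 F242910 F110082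
theorem E98529 : n96266 = n51544 := (c17_3 (iv1 D44940) D44941 D96266 (iv5 F171253) F340718 F250378 F231206 F310611 (iv0 F312417) F321661)
theorem E98530 : n111788 = n95480 := ((D111788).symm.trans (sb E98529 (iv1 F148064)))
theorem E98531 : n111789 = n44941 := ((D111789).symm.trans (sb E98529 (iv0 D96266)))
theorem E98532 : n109521 = n96267 := ((((iv1 F148059)).symm.trans (sb E98530 (iv1 F173507)))).symm
theorem F340720 : act 1 n95480 = n51544 := (sb E98530 (iv0 D111788))
theorem F340721 : act 0 n44941 = n51544 := (sb E98531 (iv1 D111789))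
theorem F340722 : act 2 n96267 = n50527 := (sb E98532 (iv2 D109521))
theorem F340723 : act 3 n96267 = n50542 := (sb E98532 F169477)
theorem F340724 : act 4 n96267 = n95485 := (sb E98532 (iv4 F326730))
theorem F340725 : act 7 n96267 = n95477 := (sb E98532 (iv7 F340711))
theorem F340726 : act 3 n141563 = n103752 := d20_9 (iv4 F159188) (iv1 F335117) (iv4 F340718) (iv3 D110647) F80484 (iv3 F162316) (iv4 D105697) (iv1 F162317) D141563 (iv1 D103752)
theorem F340727 : act 0 n113646 = n103745 := d20_4 (iv4 F79918) D108014 F166919 (iv3 F176825) F159187 (iv4 F159188) (iv1 F335117) (iv4 F340718) (iv3 D110647) F80484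
theorem F340728 : act 2 n103752 = n97172 := d0_1 F340726 F340696 F103938 (iv3 F102290) (iv2 F224592)
theorem F340729 : act 4 n103752 = n116182 := d5_2 D141563 F340726 F180986 F318142 F204428
theorem E98533 : n103752 = n95764 := ((c10_1 D95764 F340729 F315942 F317108)).symm
theorem F340730 : act 0 n95764 = n48041 := (sb E98533 (iv1 D103752))
theorem F340731 : act 2 n95764 = n97172 := (sb E98533 F340728)
theorem F340732 : act 3 n95764 = n141563 := (sb E98533 (iv3 F340726))
theorem F340733 : act 4 n95764 = n116182 := (sb E98533 F340729)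
theorem F340734 : act 7 n116181 = n95764 := d11_0 F340733 (iv7 D116182) D116181
theorem F340735 : act 3 n103748 = n143059 := d20_3 (iv4 F340733) F340730 (iv4 F159188) (iv1 D143059) F103029 D67099 D143213 (iv4 F340689) (iv3 F312813) (iv1 F315940)
theorem F340736 : act 6 n143059 = n103746 := d7_2 D103748 F340735 (iv3 D103746)
theorem F340737 : act 5 n153568 = n103746 := d21_2 (iv5 F109141) D153568 (iv6 F340736) (iv1 D143059) (iv6 F319179) F319178 (iv1 F334981) F334982 (iv6 D147891) (iv1 F334977)
theorem E98534 : n143051 = n69066 := (c21_3 (iv5 D67043) D67041 D143051 (iv6 D69066) (iv1 F51084) D68409 (iv5 F109141) D153568 F340737 (iv6 F340736) (iv1 D143059))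
theorem E98535 : n147314 = n67041 := ((D147314).symm.trans (sb E98534 (iv5 D143051)))
theorem E98536 : n143048 = n73377 := ((D143048).symm.trans (sb E98535 F230970))
theorem E98537 : n143049 = n69074 := ((D143049).symm.trans (sb E98535 F230971))
theorem E98538 : n150041 = n143050 := (((D143050).symm.trans (sb E98535 (iv4 F236062)))).symm
theorem F340738 : act 5 n67041 = n69066 := (sb E98535 (iv5 D147314))
theorem E98539 : n143052 = n71242 := ((D143052).symm.trans (sb E98535 F230972))
theorem F340739 : act 2 n73377 = n67041 := (sb E98536 (iv2 D143048))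
theorem E98540 : n119200 = n67042 := (((iv7 F312875)).symm.trans (sb E98536 (iv7 F225911)))
theorem F340740 : act 3 n69074 = n67041 := (sb E98537 (iv3 D143049))
theorem F340741 : act 2 n143050 = n154725 := (sb E98538 (iv2 F242909))
theorem F340742 : act 6 n143050 = n70592 := (sb E98538 (iv6 D150041))
theorem F340743 : act 6 n71242 = n67041 := (sb E98539 (iv6 D143052))
theorem E98541 : n143054 = n73383 := ((D143054).symm.trans (sb E98540 F312874))
theorem E98542 : n143056 = n54854 := ((D143056).symm.trans (sb E98540 (iv5 D119200)))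
theorem E98543 : n143057 = n81440 := ((D143057).symm.trans (sb E98540 F187575))
theorem F340744 : act 7 n67042 = n73377 := (sb E98540 F312875)
theorem F340745 : act 3 n73383 = n67042 := (sb E98541 (iv3 D143054))
theorem F340746 : act 5 n54854 = n67042 := (sb E98542 (iv5 D143056))
theorem F340747 : act 6 n81440 = n67042 := (sb E98543 (iv6 D143057))
theorem F340748 : act 6 n143053 = n169816 := d3_2 F340747 (iv2 F225912) F267250
theorem F340749 : act 6 n143055 = n169826 := d10_2 F340747 D143055 (iv4 D169826)
theorem F340750 : act 0 n116869 = n169822 := d21_10 (iv5 D169822) (iv1 D81439) D81440 F340747 (iv1 D67042) (iv6 D31216) D31215 (iv1 F225634) (iv5 F180720) D116869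
theorem F340751 : act 6 n169822 = n124812 := d21_5 D31215 (iv1 F225634) (iv5 F180720) D116869 F340750 (iv5 F305866) (iv1 F313628) (iv5 D139075) F323802 (iv1 D31212)
theorem F340752 : act 3 n124932 = n169822 := d7_3 F340751 F232988 D124932
theorem F340753 : act 4 n179909 = n169822 := d10_3 F340751 F232989 D179909
theorem F340754 : act 7 n153561 = n169822 := d14_0 F340751 F232990 F241295 (iv7 F241296) D153561
theorem F340755 : act 5 n169814 = n153561 := d13_3 F340754 (iv5 D169822) F267242
theorem F340756 : act 2 n153561 = n169819 := d2_1 F340755 (iv5 D169819) (iv2 F267244)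
theorem E98544 : n143053 = n143029 := ((c21_5 F241304 (iv1 F109116) D72608 F321987 (iv1 F225892) F340748 (iv5 D169816) D169814 F340755 (iv6 D153561) (iv1 F241306))).symm
theorem F340757 : act 2 n143029 = n67042 := (sb E98544 F225912)
theorem F340758 : act 6 n143029 = n169816 := (sb E98544 F340748)
theorem F340759 : act 7 n143029 = n67041 := (sb E98544 (iv7 D143053))
theorem E98545 : n143029 = n116427 := ((c8_4 F340759 (iv3 F340740) F321220 D116427)).symm
theorem F340760 : act 0 n116427 = n67032 := (sb E98545 (iv1 D143029))
theorem F340761 : act 1 n116427 = n67044 := (sb E98545 F225892)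
theorem F340762 : act 2 n116427 = n67042 := (sb E98545 F340757)
theorem F340763 : act 6 n116427 = n169816 := (sb E98545 F340758)
theorem F340764 : act 7 n116427 = n67041 := (sb E98545 F340759)
theorem F340765 : act 5 n119080 = n116427 := d13_3 F340764 F340738 (iv7 F310543)
theorem F340766 : act 7 n150033 = n169816 := d14_4 F340764 (iv6 F340743) F107737 D150033 (iv6 F340763)
theorem F340767 : act 3 n169816 = n116430 := d8_1 F340766 F321227 (iv3 F236048)
theorem F340768 : act 1 n169825 = n150033 := d15_1 D169825 F340766 F267250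
theorem F340769 : act 6 n169825 = n142741 := d21_5 (iv5 F55629) F55628 (iv5 F107052) D150033 (iv1 F340768) (iv5 F339013) (iv1 D157433) (iv5 F231681) (iv6 D147908) F105548
theorem F340770 : act 2 n143546 = n169825 := d3_3 F340769 F339012 D143546
theorem E98546 : n169825 = n155686 := ((c7_4 F340769 F339014 (iv6 D155689) D155686)).symm
theorem F340771 : act 0 n155686 = n81440 := (sb E98546 (iv1 D169825))
theorem F340772 : act 1 n155686 = n150033 := (sb E98546 F340768)
theorem F340773 : act 2 n155686 = n143546 := (sb E98546 (iv2 F340770))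
theorem F340774 : act 6 n155686 = n142741 := (sb E98546 F340769)
theorem F340775 : act 6 n169819 = n118841 := d21_3 (iv5 D81440) D81438 D169819 (iv1 F241297) D153567 F308517 (iv1 F339004) F339013 (iv6 F340774) F340771
theorem F340776 : act 3 n118844 = n169819 := d7_3 F340775 (iv3 D118841) D118844
theorem F340777 : act 5 n119763 = n161842 := d12_3 F340775 F232971 (iv6 F305972) F302275 D169819
theorem F340778 : act 7 n139765 = n169819 := d14_0 F340775 F190930 F233001 F313680 (iv6 F222946)
theorem F340779 : act 6 n153523 = n143031 := d21_3 F109140 (iv1 F109108) D153523 (iv1 F225896) (iv6 F340747) (iv5 D81440) D81438 D169819 F340775 (iv1 F241297)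
theorem F340780 : act 0 n169819 = n116869 := d21_4 F241347 (iv1 F242147) (iv5 F232971) (iv6 F340775) (iv6 D116869) F180720 (iv1 F225633) (iv5 D142733) F323827 D153550
theorem F340781 : act 2 n139765 = n169822 := d15_3 (iv0 F340750) (iv0 F340780) (iv7 F340778)
theorem F340782 : act 2 n124812 = n133575 := d3_3 (iv6 F222946) F340781 F340751
theorem F340783 : act 1 n133575 = n124734 := d15_0 F236027 (iv7 F232990) F340782
theorem F340784 : act 0 n149022 = n154110 := d17_2 (iv1 F232806) D149022 (iv5 D154110) (iv4 F190975) F340777 (iv0 D161842) (iv5 F311954) F185496 F185493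
theorem F340785 : act 1 n155147 = n149024 := d18_6 F321071 F305209 F255590 (iv4 F190975) F340777 F255812 (iv4 D149024) F234112 (iv5 F321075)
theorem F340786 : act 0 n158459 = n170600 := d21_7 (iv5 F340777) F305971 (iv5 F112436) F309606 F60280 D75595 D158459 (iv5 D170600) F302704 D161842
theorem E98547 : n174010 = n80311 := (c17_9 (iv1 D158458) D158459 F340786 (iv5 D170600) (iv4 F303286) F307534 (iv0 F337578) (iv5 F320709) (iv0 F305458) F303002)
theorem E98548 : n166945 = n84907 := (((iv1 F303281)).symm.trans (sb E98547 F305458))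
theorem E98549 : n166944 = n83198 := (((iv0 F303280)).symm.trans (sb E98547 (iv0 D174010)))
theorem E98550 : n174011 = n80138 := (((iv1 F305457)).symm.trans (sb E98548 (iv1 D166945)))
theorem F340787 : act 1 n84907 = n80311 := (sb E98548 F303281)
theorem F340788 : act 0 n83198 = n80311 := (sb E98549 F303280)
theorem F340789 : act 0 n80138 = n83198 := (sb E98550 (iv1 D174011))
theorem F340790 : act 1 n80138 = n84907 := (sb E98550 F305457)
theorem F340791 : act 0 n153597 = n131709 := d20_1 F306363 F306580 (iv3 F130120) (iv1 F340790) (iv3 D80138) (iv4 F57326) F296586 (iv4 F301591) (iv3 F95671) D130400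
theorem E98551 : n170042 = n96741 := (c20_5 F30191 D18911 (iv4 F297150) D81555 D170042 (iv3 F333595) F333596 (iv1 F340790) F123001 (iv3 D37375) F297148)
theorem F340792 : act 0 n96741 = n81718 := (sb E98551 (iv1 F267482))
theorem F340793 : act 1 n96741 = n81555 := (sb E98551 (iv0 D170042))
theorem E98552 : n170043 = n161016 := (c15_2 F340793 D170043 F317488 (iv2 F149199))
theorem F340794 : act 0 n161016 = n81555 := (sb E98552 (iv1 D170043))
theorem F340795 : act 1 n161016 = n81718 := (sb E98552 F267487)
theorem F340796 : act 4 n161016 = n172550 := (sb E98552 (iv4 F270733))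
theorem F340797 : act 5 n127719 = n96741 := d17_7 F118988 (iv5 F322450) (iv1 F330702) (iv5 F332088) (iv4 F337668) (iv5 F337673) (iv0 F337680) F340793 F125432
theorem F340798 : act 5 n177036 = n140721 := d21_0 (iv1 D140721) D140722 F324356 (iv1 F340793) (iv6 D96741) (iv5 F147902) (iv1 F147901) F125620 D84379 D177036
theorem F340799 : act 1 n172504 = n150562 := d17_6 D177036 F340798 (iv1 D140721) D140722 F324355 D172504 F320686 (iv0 F331882) F151259
theorem E98553 : n144174 = n74767 := (c18_3 (iv1 D140721) (iv4 F103435) D144174 F112209 D74785 (iv4 F311239) F303530 F300731 (iv0 F276453) F340798)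
theorem E98554 : n157234 = n67543 := ((D157234).symm.trans (sb E98553 (iv0 D144174)))
theorem F340800 : act 0 n67543 = n74767 := (sb E98554 (iv1 D157234))
theorem F340801 : act 7 n144175 = n157230 := d15_2 (iv0 F340800) D144175 F247446
theorem F340802 : act 2 n144177 = n157233 := d15_3 (iv0 D157233) (iv0 F340800) D144177
theorem F340803 : act 7 n157233 = n117006 := d4_2 D144177 F340802 F182939
theorem F340804 : act 6 n144167 = n157233 := d14_5 F340803 (iv6 D117006) F180261 D67539 D144167
theorem F340805 : act 1 n144175 = n157233 := d15_1 D144175 F340803 F182939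
theorem F340806 : act 2 n157236 = n144175 := d15_3 F340805 (iv0 D157233) D157236
theorem E98555 : n144568 = n144175 := ((c1_2 (iv4 F247452) F340806 (iv4 D144568) (iv2 F322113))).symm
theorem F340807 : act 4 n144175 = n67750 := (sb E98555 (iv4 D144568))
theorem E98556 : n139785 = n116872 := ((c20_5 D86578 (iv1 F303937) (iv4 F324154) F228511 (iv1 F182600) F322114 (iv4 F340807) (iv1 D144175) F103435 F101713 (iv1 F322903))).symm
theorem E98557 : n108213 = n53855 := ((((iv1 D116872)).symm.trans (sb E98556 (iv1 F222968)))).symm
theorem F340808 : act 2 n116872 = n65619 := (sb E98556 (iv2 D139785))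
theorem F340809 : act 3 n116872 = n67750 := (sb E98556 F322114)
theorem F340810 : act 5 n116872 = n74881 := (sb E98556 F313625)
theorem F340811 : act 6 n116872 = n72189 := (sb E98556 (iv6 F314360))
theorem F340812 : act 7 n116872 = n68223 := (sb E98556 F324907)
theorem E98559 : n116871 = n49977 := ((D116871).symm.trans (sb E98557 (iv1 D108213)))
theorem F340813 : act 0 n49977 = n68226 := (sb E98559 (iv1 F182604))
theorem F340814 : act 1 n49977 = n53855 := (sb E98559 (iv0 D116871))
theorem F340815 : act 0 n145304 = n107139 := d20_4 F104299 (iv1 F82123) F104283 D145304 (iv3 F182598) F182599 (iv1 F340814) (iv4 F167317) F167316 (iv1 F164008)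
theorem F340816 : act 1 n147871 = n169961 := d17_6 (iv1 F190823) (iv5 F309113) F340813 (iv5 F324910) F240646 F240648 (iv5 D169961) (iv0 F308650) F112393
theorem F340817 : act 6 n131609 = n116393 := d21_3 (iv5 F324910) (iv1 D131608) D131609 F321158 (iv6 D65253) (iv5 F211927) (iv1 D62827) F47806 D49977 F340813
theorem F340818 : act 3 n142386 = n131609 := d7_3 F340817 F323791 D142386
theorem E98560 : n144572 = n129562 := ((c6_4 (iv5 F227432) F340818 (iv5 D131609) (iv3 F207753))).symm
theorem F340819 : act 0 n129562 = n67751 := (sb E98560 (iv1 D144572))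
theorem F340820 : act 5 n129562 = n142386 := (sb E98560 (iv5 F227432))
theorem F340821 : act 2 n143800 = n129562 := d2_3 F340820 F323793 D143800
theorem F340822 : act 0 n157286 = n129562 := d21_1 D157286 F340820 (iv6 D142386) (iv1 F320419) (iv6 D58464) F87559 F309104 F53862 D34265 D74783
theorem E98561 : n142591 = n142386 := ((c21_7 (iv5 D35071) D35068 D76724 (iv6 F323354) (iv1 D129560) D129562 F340820 (iv1 D142591) (iv5 F322334) F309657 (iv1 D76734))).symm
theorem F340823 : act 0 n142386 = n66838 := (sb E98561 (iv1 D142591))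
theorem F340824 : act 0 n118412 = n142386 := d21_10 (iv5 F340820) F340819 (iv5 D67751) (iv6 D31455) (iv1 D14824) D14826 F317219 D31688 (iv5 F86145) D118412
theorem F340825 : act 7 n118412 = n142457 := d15_2 (iv0 F340823) (iv0 F340824) F322329
theorem F340826 : act 3 n142457 = n151377 := d8_1 F340825 (iv7 D151377) (iv3 F186072)
theorem F340827 : act 1 n120017 = n142457 := d15_1 D120017 (iv7 F340825) F186071
theorem F340828 : act 6 n151377 = n141217 := d7_2 D142457 F340826 (iv3 F224240)
theorem F340829 : act 2 n141217 = n120040 := d3_1 F340828 F189589 (iv2 F238094)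
theorem F340830 : act 4 n141219 = n151377 := d10_3 F340828 (iv4 D141217) D141219
theorem E98562 : n141217 = n105796 := (c21_6 F305351 (iv1 F234068) F307338 (iv6 D155689) (iv1 F238097) F340828 (iv5 D105796) (iv1 F317204) D148025 (iv6 F247797) (iv1 F238087))
theorem F340831 : act 2 n105796 = n120040 := (sb E98562 F340829)
theorem F340832 : act 3 n105796 = n66794 := (sb E98562 (iv3 F224240))
theorem F340833 : act 4 n105796 = n66238 := (sb E98562 (iv4 D141217))
theorem F340834 : act 6 n105796 = n151377 := (sb E98562 (iv6 F340828))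
theorem F340835 : act 7 n105796 = n66830 := (sb E98562 F322326)
theorem F340836 : act 5 n99603 = n151377 := d21_8 F325986 (iv1 F103985) F321487 (iv6 D58404) D58401 D124932 F307714 (iv1 F331873) (iv6 F340834) F326857
theorem E98563 : n164602 = n142457 := ((c6_2 F340836 (iv3 F340826) (iv5 D164602) (iv3 F153353))).symm
theorem F340837 : act 5 n142457 = n79081 := (sb E98563 (iv5 D164602))
theorem F340838 : act 7 n131177 = n99603 := d13_0 F340836 (iv7 D151377) (iv5 F210113)
theorem E98564 : n164603 = n120133 := (c8_3 F340838 F153353 D164603 (iv3 F210112))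
theorem F340839 : act 7 n120133 = n79081 := (sb E98564 (iv7 D164603))
theorem E98565 : n141213 = n105329 := (c16_2 F321273 D141213 (iv4 F162400) (iv5 D67897) (iv4 D31569) (iv5 F50935) D48914 D105796 F340835 (iv2 F322319))
theorem F340840 : act 5 n105329 = n66237 := (sb E98565 (iv5 D141213))
theorem F340841 : act 1 n120040 = n142557 := d15_0 (iv0 D142557) (iv7 F340835) F340831
theorem E98566 : n142557 = n141766 := (c17_7 F50327 F24635 (iv1 F54268) F77112 D105774 F312517 F340841 F326865 F114842 (iv4 D48904))
theorem F340842 : act 0 n141766 = n120040 := (sb E98566 (iv1 F340841))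
theorem F340843 : act 1 n141766 = n66830 := (sb E98566 (iv0 D142557))
theorem F340844 : act 4 n141193 = n120040 := d18_7 (iv1 F114841) (iv4 D48894) F50925 F321270 (iv5 D66363) (iv4 F101826) D141193 (iv0 F340842) F326865
theorem E98567 : n159963 = n119549 := ((c21_5 (iv5 D88814) (iv1 F126264) (iv5 F153354) F309802 D119549 (iv6 D159963) (iv5 F326865) F340842 (iv5 F312517) F312518 (iv1 F149991))).symm
theorem F340845 : act 0 n119549 = n106021 := (sb E98567 (iv1 F307928))
theorem F340846 : act 2 n119549 = n146511 := (sb E98567 F252306)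
theorem F340847 : act 4 n119549 = n76586 := (sb E98567 F252307)
theorem F340848 : act 6 n119549 = n76585 := (sb E98567 (iv6 D159963))
theorem E98568 : n138742 = n105755 := ((c21_6 F312301 (iv1 F313520) (iv5 F233209) F340848 (iv1 F114841) D105755 (iv5 D138742) (iv1 F319249) D65301 (iv6 F222311) (iv1 F312300))).symm
theorem F340849 : act 0 n105755 = n99607 := (sb E98568 (iv1 F332530))
theorem F340850 : act 3 n105755 = n65150 := (sb E98568 F221887)
theorem F340851 : act 5 n105755 = n65149 := (sb E98568 (iv5 D138742))
theorem F340852 : act 7 n105755 = n85393 := (sb E98568 (iv7 F320470))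
theorem F340853 : act 6 n106021 = n146512 := d21_5 F322320 (iv1 F340843) F326865 (iv6 F340848) F340845 F337028 F232303 (iv5 F337031) (iv6 D146366) (iv1 F317200)
theorem F340854 : act 5 n106021 = n119016 := d21_0 (iv1 D119016) (iv5 F183891) (iv6 D117409) (iv1 F85410) D54153 F322320 (iv1 F340843) F326865 (iv6 F340848) F340845
theorem F340855 : act 2 n119310 = n106021 := d2_3 F340854 F232323 D119310
theorem F340856 : act 3 n119585 = n106021 := d6_3 F340854 F232324 D119585
theorem F340857 : act 4 n117409 = n106036 := d17_4 F340845 F340854 (iv1 D119016) (iv5 F183891) (iv5 D106036) (iv0 F232392) F337029 (iv0 F233216) (iv4 F340847)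
theorem F340858 : act 0 n106021 = n119550 := d21_1 (iv5 F340854) (iv5 F313525) (iv6 F313506) (iv1 D139183) (iv6 D65330) (iv5 D30647) F210262 F310035 F210892 (iv1 F232322)
theorem E98569 : n133835 = n105818 := ((c17_5 F340858 (iv5 F313525) (iv1 D133824) (iv5 F312301) F184113 (iv5 D133835) F215480 F309511 (iv0 D106019) D106021)).symm
theorem F340859 : act 5 n105818 = n62848 := (sb E98569 (iv5 D133835))
theorem F340860 : act 4 n119550 = n146514 := d18_1 F340858 (iv1 F335018) (iv4 D106041) (iv5 D49014) D49013 (iv0 F232392) F162759 D119016 (iv5 F340854)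
theorem F340861 : act 7 n146511 = n119550 := d11_0 F340860 (iv7 D146514) (iv4 F229834)
theorem E98570 : n157548 = n105824 := ((c16_5 F340860 (iv5 F244323) F311697 F191359 D105824 (iv5 D157548) (iv4 F313521) (iv5 F233209) F233210 (iv2 F250248))).symm
theorem F340862 : act 1 n105824 = n148026 := (sb E98570 (iv0 F252507))
theorem F340863 : act 3 n105824 = n74991 := (sb E98570 F248270)
theorem F340864 : act 5 n105824 = n74989 := (sb E98570 (iv5 D157548))
theorem F340865 : act 5 n105829 = n160037 := d16_1 D105829 (iv4 F252501) F313525 F340860 (iv5 F244323) F311697 F191359 (iv7 F233789) F233788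
theorem F340866 : act 4 n106055 = n117651 := d17_4 (iv1 F335018) (iv5 F337030) (iv1 F162848) D106055 F240207 (iv0 D54998) D55002 D119550 F340860
theorem E98571 : n144805 = n106057 := (c18_7 D167915 F337033 (iv1 F252500) (iv4 F252501) F313525 F340860 F233695 (iv4 D106057) F162872 (iv5 F191190))
theorem F340867 : act 0 n106057 = n146514 := (sb E98571 (iv1 F233695))
theorem F340868 : act 1 n106057 = n76586 := (sb E98571 (iv0 F233216))
theorem F340869 : act 2 n106057 = n146512 := (sb E98571 (iv2 F232871))
theorem F340870 : act 3 n106057 = n67862 := (sb E98571 (iv3 D144805))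
theorem F340871 : act 5 n106057 = n105962 := (sb E98571 (iv5 F337029))
theorem F340872 : act 6 n106057 = n119310 := (sb E98571 F227700)
theorem F340873 : act 7 n106057 = n146513 := (sb E98571 F232869)
theorem F340874 : act 0 n146048 = n144902 := d20_4 (iv4 F340860) (iv1 D119550) F323391 D146048 F227867 F204827 F338166 (iv4 D144806) (iv3 F340870) F340867
theorem F340875 : act 6 n105792 = n153973 := d21_9 (iv5 F236881) F236883 (iv5 F158408) (iv6 F337022) F340874 (iv6 D144902) (iv5 D67928) (iv1 F85119) (iv5 F162483) F241991
theorem F340876 : act 1 n146048 = n144906 := d15_1 (iv0 F340874) (iv7 D144906) (iv2 F227866)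
theorem F340877 : act 3 n153973 = n131248 := d7_1 F340875 F210318 (iv3 F162482)
theorem F340878 : act 0 n144874 = n123777 := d21_4 F85143 F77025 (iv5 F103989) D144874 (iv6 D123777) (iv5 F147885) F197233 (iv5 F241989) (iv6 F340875) (iv1 F162486)
theorem F340879 : act 4 n123778 = n117243 := d20_2 F198259 D123778 F183457 (iv1 F104847) D68709 D146610 F247809 F227832 (iv3 F227826) F340878
theorem F340880 : act 0 n113795 = n122849 := d18_0 F196848 (iv1 F321344) F183951 (iv5 F183458) (iv4 F340879) (iv0 D123778) (iv4 F198259) (iv0 F340878) F227827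
theorem E98572 : n156488 = n56996 := (c20_2 (iv4 F328741) D156488 (iv4 F90882) (iv3 F303375) F289948 F156936 F329754 F340880 F196848 F90163 D57119)
theorem E98573 : n120374 = n74417 := ((F191753).symm.trans (sb E98572 (iv0 D156488)))
theorem F340881 : act 0 n74417 = n56996 := (sb E98573 (iv1 F191753))
theorem E98574 : n156489 = n55410 := ((D156489).symm.trans (sb E98573 (iv0 D120374)))
theorem F340882 : act 0 n55410 = n74417 := (sb E98574 (iv1 D156489))
theorem F340883 : act 0 n154955 = n120395 := d20_4 (iv4 F333330) (iv1 F234747) F110176 D154955 F191803 F87722 F340882 F328741 D122866 F306481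
theorem E98575 : n120375 = n102472 := (c15_2 (iv0 F340882) D120375 (iv7 F157519) (iv2 F328740))
theorem F340884 : act 0 n102472 = n55410 := (sb E98575 (iv1 D120375))
theorem F340885 : act 1 n102472 = n56996 := (sb E98575 F191748)
theorem F340886 : act 2 n156491 = n102472 := d15_3 F340885 (iv0 F340881) D156491
theorem F340887 : act 3 n123778 = n151335 := d20_5 (iv4 D102472) F304454 (iv4 F44462) (iv3 F90875) D123778 (iv4 D151335) (iv1 F186660) (iv4 F196543) F196542 (iv1 F340885)
theorem E98576 : n151334 = n146407 := (c5_4 (iv4 F340879) F340887 (iv4 D151335) D151334 F229736 (iv3 F183457))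
theorem F340888 : act 3 n146407 = n71323 := (sb E98576 (iv3 D151334))
theorem F340889 : act 3 n151333 = n128125 := d0_2 F340888 D151333 F206203 F319419 (iv2 F229735)
theorem E98577 : n151338 = n146402 := (c8_3 D146407 F340888 D151338 F229724)
theorem F340890 : act 2 n146402 = n71324 := (sb E98577 F238057)
theorem F340891 : act 7 n146402 = n71323 := (sb E98577 (iv7 D151338))
theorem F340892 : act 0 n151335 = n151519 := d20_7 F339324 F303498 F108385 F338203 (iv1 F229738) F340888 D151335 F238389 (iv3 F108265) (iv1 F339322)
theorem E98578 : n151330 = n114900 := (c20_2 (iv4 F196543) (iv1 F238048) (iv4 D114900) (iv3 D53016) (iv1 D25730) (iv3 F40654) F315370 (iv1 F104848) (iv4 F229736) F340888 (iv1 F186660))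
theorem F340893 : act 0 n114900 = n71322 := (sb E98578 (iv1 D151330))
theorem F340894 : act 1 n114900 = n122677 := (sb E98578 F238048)
theorem F340895 : act 3 n114943 = n118675 := d20_5 F20214 D12217 D25735 D53039 D114943 (iv4 F196543) (iv1 F340894) (iv4 D114900) (iv3 D53016) (iv1 D25730)
theorem F340896 : act 4 n154316 = n120400 := d20_6 (iv4 D114900) F335504 (iv4 F107964) F107963 D73112 D154316 (iv1 F191813) F90882 (iv3 F196542) (iv1 F340894)
theorem E98579 : n154316 = n120417 := ((c18_7 (iv1 F336775) (iv4 D122399) (iv1 F89711) F72613 (iv5 F304458) (iv4 F90877) F191840 F340896 (iv0 D120400) F297097)).symm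
theorem F340897 : act 3 n120417 = n73112 := (sb E98579 (iv3 D154316))
theorem F340898 : act 4 n120417 = n120400 := (sb E98579 F340896)
theorem F340899 : act 5 n120400 = n182442 := d18_4 F304013 (iv4 F87725) D120417 F340898 F283987 F291474 F289890 F74797 D102440
theorem E98580 : n106177 = n52679 := (c20_8 F340898 (iv1 F191813) F90882 (iv3 F196542) (iv1 F340894) F178978 (iv4 D106180) D106177 (iv4 F177731) F177730 D120417)
theorem E98581 : n114117 = n106354 := ((D114117).symm.trans (sb E98580 (iv1 F163504)))
theorem E98582 : n114118 = n49067 := ((D114118).symm.trans (sb E98580 (iv0 D106177)))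
theorem F340900 : act 1 n106354 = n52679 := (sb E98581 (iv0 D114117))
theorem F340901 : act 0 n49067 = n52679 := (sb E98582 (iv1 D114118))
theorem F340902 : act 0 n158531 = n106181 := d17_0 (iv5 D106181) F340901 (iv5 F176870) (iv4 F337563) F321104 F309520 F307529 F249704 D158531
theorem F340903 : act 7 n106178 = n105373 := d15_2 (iv0 F340901) D106178 F161601
theorem F340904 : act 2 n114119 = n106178 := d4_3 F340903 F161601 D114119
theorem F340905 : act 3 n119055 = n106178 := d8_3 F340903 F161602 D119055
theorem F340906 : act 6 n114126 = n106178 := d14_5 F340903 (iv6 D105373) (iv7 F76673) D52682 D114126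
theorem F340907 : act 0 n106181 = n90505 := d21_1 D106181 F139299 (iv6 D90132) (iv1 F66009) (iv6 F139797) (iv5 D90820) D90818 (iv5 F251152) F340906 (iv1 D106178)
theorem E98583 : n144916 = n106182 := (c21_5 (iv5 D42536) F290575 (iv5 F290583) (iv6 F320840) D144916 (iv6 D106182) D106181 F340907 F139299 (iv6 D90132) (iv1 F66009))
theorem F340908 : act 0 n106182 = n145919 := (sb E98583 (iv1 F229110))
theorem F340909 : act 1 n106182 = n67937 := (sb E98583 (iv0 D144916))
theorem F340910 : act 5 n106182 = n144149 := (sb E98583 F227887)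
theorem F340911 : act 7 n158531 = n92720 := d15_2 (iv0 F340907) (iv0 F340902) F142935
theorem E98584 : n167467 = n92720 := ((c11_1 F340911 (iv4 D167467) F306711 D158531)).symm
theorem F340912 : act 4 n92720 = n80365 := (sb E98584 (iv4 D167467))
theorem F340913 : act 5 n114275 = n158531 := d13_3 F340911 F142936 (iv7 F178121)
theorem E98585 : n158518 = n90505 := (c1_3 F340912 F306710 D158518 (iv2 F142935))
theorem F340914 : act 4 n90505 = n75617 := (sb E98585 (iv4 D158518))
theorem F340915 : act 3 n134716 = n92720 := d5_5 F340912 F123472 (iv4 F306716) (iv3 F98514) D134716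
theorem F340916 : act 3 n158531 = n135470 := d8_3 F217828 F340915 (iv7 F340911)
theorem F340917 : act 3 n145063 = n114275 := d6_3 F340913 F340916 F338690
theorem F340918 : act 5 n106178 = n130492 := d6_2 (iv5 F328385) F340905 F209051
theorem E98586 : n152364 = n152189 := ((c20_2 (iv4 F108250) D152189 (iv4 D152364) (iv3 F334815) (iv1 F163506) (iv3 F340905) F316453 (iv1 D68416) F318013 D52965 (iv1 F259172))).symm
theorem F340919 : act 2 n152189 = n106158 := (sb E98586 F334817)
theorem F340920 : act 4 n152189 = n71882 := (sb E98586 (iv4 D152364))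
theorem F340921 : act 5 n178335 = n152189 := d2_0 F340919 F334714 D178335
theorem E98587 : n152190 = n106377 := (c15_2 (iv0 D152189) D152190 F163490 (iv2 F340919))
theorem F340922 : act 0 n106377 = n71781 := (sb E98587 (iv1 D152190))
theorem E98588 : n149661 = n105440 := (c20_11 (iv4 F259113) F259115 F163151 F77439 (iv1 F37463) D49152 D106377 F340922 F108250 (iv3 F106723) D149661)
theorem F340923 : act 0 n105440 = n102269 := (sb E98588 (iv1 F311507))
theorem F340924 : act 1 n105440 = n70289 := (sb E98588 (iv0 D149661))
theorem E98589 : n89445 = n70044 := (c20_6 F259113 F340923 (iv4 D102269) F74643 (iv1 F64407) D89445 (iv4 F199520) (iv1 D124708) D124709 F199526 D164462)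
theorem E98590 : n149233 = n41766 := ((D149233).symm.trans (sb E98589 (iv3 D89445)))
theorem E98591 : n149234 = n47544 := ((D149234).symm.trans (sb E98589 F137109))
theorem F340925 : act 3 n41766 = n70044 := (sb E98590 (iv3 D149233))
theorem F340926 : act 5 n47544 = n70044 := (sb E98591 (iv5 D149234))
theorem E98592 : n103700 = n95593 := ((c20_5 (iv4 F64408) (iv1 F64062) D88924 F307544 D95593 (iv3 F259114) F259113 F340923 (iv4 D102269) F74643 (iv1 F64407))).symm
theorem F340927 : act 2 n95593 = n84415 := (sb E98592 F311192)
theorem F340928 : act 3 n95593 = n164462 := (sb E98592 (iv3 F259114))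
theorem F340929 : act 4 n95593 = n48028 := (sb E98592 (iv4 D103700))
theorem F340930 : act 7 n95593 = n84420 := (sb E98592 F311193)
theorem F340931 : act 7 n106136 = n164462 := d8_2 F340930 F190336 (iv3 F340928)
theorem E98593 : n103705 = n95594 := (c15_4 F147267 F147272 F340930 (iv2 F315972))
theorem F340932 : act 2 n95594 = n84420 := (sb E98593 F315972)
theorem F340933 : act 4 n95594 = n48029 := (sb E98593 (iv4 D103705))
theorem F340934 : act 7 n95594 = n84415 := (sb E98593 F315973)
theorem F340935 : act 0 n123528 = n146662 := d20_4 (iv4 F340933) (iv1 D95594) (iv4 F125269) (iv3 F197955) F229963 F312709 (iv1 F85759) (iv4 F311061) (iv3 F313313) (iv1 F75489)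
theorem E98594 : n144524 = n123528 := (c21_1 D144524 F340935 F229964 F322201 (iv1 D53695) (iv6 D25986) D25985 F181563 (iv5 D31449) D31450 D67733)
theorem F340936 : act 5 n123528 = n67733 := (sb E98594 (iv5 D144524))
theorem F340937 : act 1 n123528 = n151282 := d15_1 (iv0 F340935) F238005 (iv2 F229962)
theorem E98595 : n144525 = n119280 := (c21_4 D151282 (iv1 F340937) F340936 D144525 (iv1 D119280) (iv6 D54893) F42507 F26794 D15887 D32991 D71293)
theorem F340938 : act 6 n119280 = n67733 := (sb E98595 (iv6 D144525))
theorem E98596 : n144522 = n139715 := (c7_2 F340938 D144522 F319431 (iv3 F312390))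
theorem F340939 : act 3 n139715 = n67733 := (sb E98596 (iv3 D144522))
theorem F340940 : act 0 n144574 = n143800 := d21_7 (iv5 F314371) (iv1 D123529) (iv5 F311807) F340938 (iv1 F183090) F183087 (iv5 F227433) (iv5 D143800) (iv6 D67354) F325040
theorem E98597 : n144574 = n133323 := ((c20_4 F207995 F320676 (iv4 F320675) (iv3 F214306) F340940 F226446 (iv4 F313622) F313621 (iv4 D65683) (iv3 F101400) (iv1 F318742))).symm
theorem F340941 : act 0 n133323 = n143800 := (sb E98597 F340940)
theorem F340942 : act 5 n133323 = n67752 := (sb E98597 F227433)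
theorem F340943 : act 7 n133323 = n67751 := (sb E98597 (iv7 D144574))
theorem F340944 : act 1 n117053 = n143800 := d15_0 (iv0 F340941) F340943 F183059
theorem F340945 : act 6 n129546 = n143800 := d21_3 (iv5 F189822) (iv1 F318434) F335156 (iv1 F340944) (iv6 F225412) (iv5 D142516) (iv1 F322306) F319525 (iv6 F319526) (iv1 F186351)
theorem E98598 : n117051 = n74782 := (c21_2 (iv5 D117053) D117051 F311910 (iv6 D118520) F303772 (iv6 F304078) (iv5 F189822) (iv1 F318434) F335156 F340945 (iv1 F340944))
theorem E98599 : n157279 = n67752 := ((D157279).symm.trans (sb E98598 (iv1 F183064)))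
theorem E98600 : n157280 = n53943 := ((D157280).symm.trans (sb E98598 (iv0 D117051)))
theorem E98601 : n117052 = n74786 := (((iv1 F183062)).symm.trans (sb E98599 (iv1 F247514)))
theorem F340946 : act 1 n67752 = n74782 := (sb E98599 (iv0 D157279))
theorem F340947 : act 0 n53943 = n74782 := (sb E98600 (iv1 D157280))
theorem F340948 : act 0 n74786 = n53943 := (sb E98601 (iv1 D117052))
theorem F340949 : act 1 n74786 = n67752 := (sb E98601 F183062)
theorem F340950 : act 3 n133370 = n144553 := d20_5 F85041 (iv1 D29600) (iv4 F47523) (iv3 F97610) D133370 F227414 (iv1 F340949) (iv4 F247452) F247451 (iv1 F112218)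
theorem F340951 : act 7 n144547 = n133370 := d8_0 F340950 (iv7 D144553) (iv3 F227408)
theorem E98602 : n139502 = n74414 := (c20_8 F49760 (iv1 F27071) (iv4 F53930) (iv3 F112227) F340948 (iv3 F182983) F182984 D139502 F111682 F53611 (iv1 F49763))
theorem E98603 : n156482 = n65467 := ((D156482).symm.trans (sb E98602 (iv0 D139502)))
theorem F340952 : act 0 n65467 = n74414 := (sb E98603 (iv1 D156482))
theorem F340953 : act 0 n142516 = n148266 := d21_4 (iv5 F312476) F340948 D117053 (iv6 F225412) F324848 (iv5 F183875) (iv1 F308138) F308140 (iv6 F309657) (iv1 F189774)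
theorem F340954 : act 1 n170464 = n126707 := d18_6 F340953 F324847 (iv1 F320688) F118923 D81719 D170464 F337678 F322306 D142516
theorem F340955 : act 4 n98239 = n142516 := d20_6 F317630 F315391 F85609 (iv3 F132046) (iv1 F320007) D98239 F340953 F324847 F132048 D86097
theorem F340956 : act 3 n122680 = n142516 := d20_9 F324847 (iv1 F320688) F118923 (iv3 D37348) F296562 (iv3 F89982) F89983 D56985 D122680 F340953
theorem F340957 : act 1 n142516 = n143733 := d15_1 (iv0 F340953) (iv7 F323523) (iv2 F320886)
theorem F340958 : act 1 n130892 = n148266 := d15_0 (iv0 F340953) (iv7 F337173) F337171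
theorem F340959 : act 1 n143733 = n130892 := d15_0 F340958 F320887 F323524
theorem F340960 : act 3 n112724 = n158441 := d20_3 (iv4 F324847) (iv1 F340958) F337177 (iv1 F305569) F205812 F94643 (iv1 F188307) (iv4 F123751) (iv3 F301508) F320689
theorem F340961 : act 4 n133949 = n133950 := d20_0 (iv1 D133950) (iv4 F305909) (iv3 F324846) (iv1 F340958) F209475 F315394 F125775 F316271 (iv3 F98162) D133949
theorem F340962 : act 3 n133950 = n122601 := d20_3 F305909 D133949 F340961 (iv1 D122601) F89982 F44206 (iv1 F296456) D17946 D37395 (iv1 F192537)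
theorem F340963 : act 6 n127936 = n133950 := d7_0 F340962 (iv6 F332459) F338077
theorem F340964 : act 7 n148496 = n133950 := d8_0 F340962 F336880 (iv3 F333338)
theorem F340965 : act 4 n122601 = n100893 := d20_6 F320360 D143271 F320354 (iv3 F317808) F317806 F340962 (iv1 F304526) F191861 F108072 (iv1 F309505)
theorem F340966 : act 2 n100893 = n170022 := d1_1 F340965 (iv4 D170022) (iv2 F336878)
theorem F340967 : act 6 n100893 = n152004 := d10_2 F332459 F340965 F338076
theorem F340968 : act 7 n100893 = n170027 := d11_2 (iv7 F336880) F340965 (iv4 D170027)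
theorem F340969 : act 3 n100893 = n170643 := d20_3 F185683 F301156 F340965 (iv1 F268091) F196442 F320010 (iv1 F320007) D98240 F304717 (iv1 F302003)
theorem F340970 : act 2 n170027 = n100894 := d15_3 (iv0 F304525) F304526 F340968
theorem F340971 : act 7 n170022 = n100894 := d4_2 (iv7 F340968) F340966 (iv2 F340970)
theorem E98604 : n181937 = n170022 := ((c15_4 (iv0 D181937) (iv0 F337196) (iv7 F340968) F340966)).symm
theorem F340972 : act 0 n170022 = n100896 := (sb E98604 (iv1 F283237))
theorem F340973 : act 1 n170022 = n86899 := (sb E98604 (iv0 D181937))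
theorem F340974 : act 4 n100894 = n139994 := d11_1 F340971 F332432 D170022
theorem F340975 : act 6 n140008 = n100894 := d10_0 F340974 F223213 D140008
theorem E98605 : n160086 = n139991 := ((c18_6 (iv1 D151799) (iv4 F191861) F304525 F340974 (iv5 D139994) (iv4 F223212) (iv0 D160086) F114995 D76667 (iv5 F332483))).symm
theorem F340976 : act 1 n139991 = n76665 := (sb E98605 (iv0 D160086))
theorem E98606 : n139994 = n122600 := (c20_1 F340974 (iv1 F301157) (iv4 F185683) F185682 D118170 F305043 (iv4 F205765) (iv1 D60127) (iv4 F87735) (iv3 F191860) F304525)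
theorem F340977 : act 2 n122600 = n81549 := (sb E98606 F332431)
theorem F340978 : act 4 n122600 = n100894 := (sb E98606 (iv4 F340974))
theorem F340979 : act 5 n122600 = n65722 := (sb E98606 (iv5 D139994))
theorem F340980 : act 6 n122600 = n65725 := (sb E98606 F223213)
theorem F340981 : act 7 n122600 = n81548 := (sb E98606 F332432)
theorem F340982 : act 7 n170024 = n107974 := d14_2 F340981 D170024 (iv6 F332416) (iv7 D140009) (iv6 F340980)
theorem F340983 : act 2 n107974 = n131617 := d15_3 (iv0 F247734) (iv0 F334135) F340982
theorem F340984 : act 2 n170024 = n107973 := d15_3 (iv0 D107973) D107974 (iv7 F340982)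
theorem F340985 : act 7 n107973 = n131617 := d4_2 (iv7 F340982) F340984 (iv2 F340983)
theorem E98607 : n131611 = n127936 := (c8_3 F340985 (iv3 D131617) F210853 (iv3 F338077))
theorem F340986 : act 2 n127936 = n61752 := (sb E98607 (iv2 D131611))
theorem F340987 : act 7 n127936 = n61753 := (sb E98607 (iv7 F210853))
theorem E98608 : n170435 = n131619 := ((c13_2 F340987 D131619 (iv7 D170435) (iv5 F319723))).symm
theorem F340988 : act 7 n131619 = n81711 := (sb E98608 (iv7 D170435))
theorem F340989 : act 7 n131620 = n131613 := d14_2 F340987 D131620 (iv6 F333339) F340964 (iv6 F340963)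
theorem E98609 : n131616 = n127937 := (c15_4 F205881 F205884 F340987 (iv2 F210854))
theorem F340990 : act 2 n127937 = n61753 := (sb E98609 F210854)
theorem F340991 : act 7 n127937 = n61752 := (sb E98609 (iv7 D131616))
theorem F340992 : act 4 n131620 = n127937 := d11_3 F340991 D131613 (iv7 F340989)
theorem F340993 : act 7 n131614 = n127682 := d13_2 F340991 D131614 F205882
theorem E98610 : n131614 = n97246 := ((c14_6 F340993 (iv6 D127682) F336845 (iv6 D81706) (iv7 F336833) D97246)).symm
theorem F340994 : act 1 n97246 = n116949 := (sb E98610 (iv0 F282891))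
theorem F340995 : act 5 n97246 = n61752 := (sb E98610 (iv5 D131614))
theorem F340996 : act 7 n97246 = n127682 := (sb E98610 F340993)
theorem F340997 : act 2 n127682 = n131619 := d4_1 F340996 F340988 (iv2 F336840)
theorem F340998 : act 1 n170433 = n127682 := d15_1 D170433 (iv7 F340996) F336840
theorem F340999 : act 5 n106013 = n170433 := d17_5 (iv1 F248111) (iv5 F324903) F324902 F311273 F309651 F340998 F205882 F205881 (iv4 F210852)
theorem F341000 : act 3 n170433 = n105778 := d6_1 F340999 F316388 D106013
theorem E98611 : n177128 = n106013 := (c21_11 F340999 (iv1 D170433) (iv5 F319723) F340963 (iv1 D133950) (iv6 D62917) F301115 D36115 (iv5 F303546) (iv6 F227770) F316300)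
theorem F341001 : act 0 n106013 = n84411 := (sb E98611 (iv1 D177128))
theorem F341002 : act 1 n106013 = n144846 := (sb E98611 (iv0 F316300))
theorem E98612 : n170433 = n170367 := ((F340999).symm.trans (sb E98611 (iv5 F276541)))
theorem F341003 : act 0 n170367 = n81711 := (sb E98612 (iv1 D170433))
theorem F341004 : act 1 n170367 = n127682 := (sb E98612 F340998)
theorem F341005 : act 3 n170367 = n105778 := (sb E98612 F341000)
theorem F341006 : act 5 n170367 = n106013 := (sb E98612 (iv5 F340999))
theorem F341007 : act 4 n95863 = n170367 := d17_4 (iv1 F71612) (iv5 F147502) (iv1 F149861) (iv5 F149862) F341006 F341002 (iv5 D144846) (iv0 D67888) F317684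
theorem E98613 : n177175 = n59944 := (c21_9 F341006 F341001 (iv5 D84411) (iv6 D38923) (iv1 D18487) D18488 D38926 D84423 D177175 D127682 (iv1 F341004))
theorem E98614 : n127681 = n84423 := ((D127681).symm.trans (sb E98613 (iv5 D177175)))
theorem F341008 : act 5 n84423 = n59944 := (sb E98614 (iv5 D127681))
theorem F341009 : act 5 n127679 = n177173 := d6_2 F341008 D127679 (iv3 D177173)
theorem F341010 : act 2 n116949 = n170367 := d0_5 F341005 F162451 F318668 (iv2 F182741) (iv3 F182785)
theorem F341011 : act 4 n97198 = n116949 := d1_0 F341010 (iv4 F341007) F290433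
theorem F341012 : act 2 n106013 = n157428 := d2_3 F247958 F341010 F341006
theorem F341013 : act 7 n157416 = n106013 := d15_2 (iv0 F247957) F247920 F341012
theorem F341014 : act 7 n177127 = n157428 := d15_2 F341002 F316301 (iv2 F341012)
theorem F341015 : act 2 n157416 = n177127 := d4_3 F341014 (iv2 F341012) (iv7 F341013)
theorem F341016 : act 3 n131268 = n177127 := d8_3 F341014 F309886 (iv7 F307911)
theorem F341017 : act 4 n153267 = n177127 := d11_3 F341014 (iv4 D157428) (iv7 F240790)
theorem F341018 : act 7 n116949 = n170432 := d13_2 F341014 F247958 F276548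
theorem F341019 : act 3 n170432 = n116952 := d8_1 F341018 (iv7 D116952) (iv3 F182785)
theorem F341020 : act 6 n170432 = n127674 := d14_1 F341018 F243097 (iv6 D68040) (iv7 F182732) D116949
theorem F341021 : act 1 n127682 = n170432 := d15_1 F341004 (iv7 F341018) F341010
theorem F341022 : act 6 n127937 = n131618 := d21_3 (iv5 F276548) (iv1 F341021) F205882 F247730 (iv6 D74910) (iv5 F309202) F116707 D45219 (iv6 F129558) D177127
theorem F341023 : act 2 n131618 = n131620 := d3_1 F341022 (iv6 D131620) (iv2 F340990)
theorem F341024 : act 5 n131618 = n177176 := d12_1 F341022 (iv6 D177176) F341008 D127682 F205882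
theorem F341025 : act 0 n125182 = n177176 := d21_1 (iv5 F304901) (iv5 F341024) (iv6 F341022) (iv1 D127937) (iv6 D60105) F50876 (iv1 F50880) F54321 D61586 F304900
theorem E98615 : n177167 = n140812 := (c21_4 F159159 (iv1 F75496) D84421 D177167 (iv1 F333346) F324261 (iv5 F211145) (iv1 F247735) F341024 (iv6 D177176) (iv1 F159162))
theorem F341026 : act 6 n140812 = n84421 := (sb E98615 (iv6 D177167))
theorem E98616 : n140891 = n103706 := ((c3_2 F341026 (iv2 F315974) (iv6 D140891) (iv2 F330029))).symm
theorem F341027 : act 6 n103706 = n66093 := (sb E98616 (iv6 D140891))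
theorem E98617 : n177170 = n138535 := (c12_4 F341026 (iv5 D84421) D84422 D177170 F330032 D140812)
theorem E98618 : n170366 = n156372 := (((F245763).symm.trans (sb E98617 (iv0 F276575)))).symm
theorem E98619 : n116180 = n84422 := ((F330031).symm.trans (sb E98617 (iv5 D177170)))
theorem F341028 : act 5 n156372 = n81693 := (sb E98618 (iv5 D170366))
theorem E98620 : n177168 = n53543 := ((D177168).symm.trans (sb E98619 (iv1 D116180)))
theorem F341029 : act 5 n84422 = n138535 := (sb E98619 (iv5 F330031))
theorem F341030 : act 1 n53543 = n84422 := (sb E98620 (iv0 D177168))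
theorem E98621 : n140908 = n116329 := ((c14_5 (iv7 F330030) F341026 (iv7 F311195) F330088 (iv7 F319690) (iv6 D140908))).symm
theorem F341031 : act 6 n116329 = n66098 := (sb E98621 (iv6 D140908))
theorem F341032 : act 0 n167680 = n140812 := d21_4 F299125 (iv1 F123682) D80469 D167680 F341026 (iv5 D84421) (iv1 D38925) D38926 F59966 D38938
theorem F341033 : act 5 n177151 = n170419 := d21_0 (iv1 D170419) F159155 F336843 F180663 F321032 (iv5 D66070) D66068 D140812 F341026 (iv1 F276567)
theorem F341034 : act 0 n140917 = n179637 := d21_4 (iv5 D143955) (iv1 F321647) (iv5 D140916) D140917 F330080 F159159 (iv1 F75496) D84421 (iv6 F341026) (iv1 F333346)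
theorem E98622 : n177291 = n140917 := ((c15_1 (iv0 F341034) (iv0 D177291) (iv7 F313777) D179637)).symm
theorem F341035 : act 1 n140917 = n84464 := (sb E98622 (iv0 D177291))
theorem E98623 : n170419 = n59943 := (c21_3 D84421 (iv1 F276567) F341033 (iv6 D59943) (iv1 F94371) D127535 (iv5 F313326) (iv1 F199199) F158416 (iv6 F75494) (iv1 F75496))
theorem E98624 : n127416 = n81706 := (((iv1 F204793)).symm.trans (sb E98623 (iv1 D170419)))
theorem E98625 : n177151 = n125164 := ((((iv5 F201180)).symm.trans (sb E98623 (iv5 F341033)))).symm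
theorem E98626 : n170418 = n59845 := ((D170418).symm.trans (sb E98624 (iv1 D127416)))
theorem F341036 : act 1 n81706 = n59943 := (sb E98624 F204793)
theorem F341037 : act 0 n125164 = n84416 := (sb E98625 (iv1 D177151))
theorem F341038 : act 1 n125164 = n84421 := (sb E98625 F276567)
theorem F341039 : act 1 n59845 = n81706 := (sb E98626 (iv0 D170418))
theorem E98627 : n127678 = n127415 := (c15_4 (iv0 D127415) F341039 (iv7 F336845) D127678)
theorem F341040 : act 2 n127415 = n59944 := (sb E98627 (iv2 D127678))
theorem F341041 : act 5 n127415 = n139928 := (sb E98627 F330077)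
theorem F341042 : act 7 n127415 = n59945 := (sb E98627 (iv7 F205278))
theorem F341043 : act 3 n139968 = n127415 := d8_3 F341042 (iv3 F330074) D139968
theorem F341044 : act 4 n146342 = n139968 := d20_2 (iv4 F104825) D146342 F341043 (iv1 F204798) F94417 (iv4 F76991) (iv1 F76994) (iv4 F166584) D54310 (iv1 F326376)
theorem F341045 : act 0 n127635 = n96553 := d20_1 (iv4 F205194) F334494 (iv3 F228569) F334439 F104813 (iv4 F104825) D146342 F341044 F341043 (iv1 F204798)
theorem F341046 : act 1 n95849 = n96553 := d15_0 (iv0 F341045) F205195 (iv2 F317118)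
theorem F341047 : act 1 n97278 = n95849 := d15_0 F341046 (iv7 F334493) (iv2 F334490)
theorem F341048 : act 7 n95849 = n97276 := d15_2 (iv0 F334489) F341047 (iv2 F334497)
theorem E98628 : n139928 = n103708 := (c17_2 D127415 F341041 (iv1 F159160) F129568 (iv4 F75367) (iv5 F158956) F158959 (iv5 F288198) F341047 F317119)
theorem F341049 : act 2 n103708 = n84423 := (sb E98628 F330070)
theorem F341050 : act 3 n103708 = n65710 := (sb E98628 F223154)
theorem F341051 : act 4 n103708 = n145372 := (sb E98628 (iv4 F228414))
theorem F341052 : act 5 n103708 = n127415 := (sb E98628 (iv5 F341041))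
theorem F341053 : act 7 n103708 = n65694 := (sb E98628 (iv7 D139928))
theorem F341054 : act 0 n140771 = n105747 := d20_4 (iv4 F230533) (iv1 F230536) F338182 (iv3 F223862) F162394 (iv4 F317119) (iv1 F341047) F334491 (iv3 D69284) (iv1 F105132)
theorem E98629 : n177185 = n145515 := ((c18_7 (iv1 F204798) (iv4 F205194) F341045 F334494 (iv5 D68240) (iv4 F104396) D145515 F276579 F159160 F341052)).symm
theorem F341055 : act 4 n145515 = n84426 := (sb E98629 F276579)
theorem F341056 : act 7 n145515 = n84425 := (sb E98629 (iv7 D177185))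
theorem F341057 : act 0 n131619 = n116949 := d21_10 (iv5 F247958) F316299 (iv5 D81667) (iv6 D37324) F29095 D23178 D48030 D103708 F341052 F210855
theorem E98630 : n97292 = n97198 := ((c18_2 F341057 (iv4 F341011) (iv1 D97292) (iv4 F150037) F334467 (iv4 F323832) F323831 F96342 D61753 D131619)).symm
theorem F341058 : act 0 n97198 = n45447 := (sb E98630 (iv1 D97292))
theorem E98631 : n140895 = n103707 := (c21_9 D48030 D103708 F341052 F210855 F341057 (iv6 D116949) D116948 F328587 D140895 (iv6 D103707) (iv1 D48029))
theorem F341059 : act 0 n103707 = n116149 := (sb E98631 F223950)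
theorem F341060 : act 1 n103707 = n116182 := (sb E98631 F223951)
theorem F341061 : act 5 n103707 = n66094 := (sb E98631 (iv5 D140895))
theorem F341062 : act 7 n103707 = n156374 := (sb E98631 F340693)
theorem E98632 : n177171 = n138534 := ((c4_2 F341062 (iv2 F245758) (iv7 D177171) (iv2 F315976))).symm
theorem F341063 : act 7 n138534 = n84422 := (sb E98632 (iv7 D177171))
theorem F341064 : act 6 n156374 = n127443 := d14_1 F341062 (iv7 F204853) (iv6 F307167) (iv7 F313509) D103707
theorem F341065 : act 1 n177169 = n156374 := d15_1 D177169 (iv7 F341062) F315976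
theorem E98633 : n177169 = n128296 := (c21_5 D45229 D96787 F305226 (iv6 F341064) (iv1 F341065) (iv6 D128296) F94856 F204991 (iv5 D127531) F310950 (iv1 D45228))
theorem F341066 : act 0 n128296 = n84422 := (sb E98633 (iv1 D177169))
theorem F341067 : act 1 n128296 = n156374 := (sb E98633 F341065)
theorem E98634 : n156374 = n116179 := (c15_1 F341067 (iv0 D116179) D116182 F315941)
theorem F341068 : act 0 n116179 = n128296 := (sb E98634 (iv1 F341067))
theorem F341069 : act 2 n116179 = n138534 := (sb E98634 (iv2 F245758))
theorem F341070 : act 5 n116179 = n74373 := (sb E98634 (iv5 D156374))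
theorem F341071 : act 6 n116179 = n127443 := (sb E98634 F341064)
theorem F341072 : act 7 n116179 = n103707 := (sb E98634 (iv7 F341062))
theorem E98635 : n145147 = n74373 := (c21_2 D68039 D145147 (iv5 F341070) F341071 (iv1 D127443) (iv6 D59858) F50764 (iv1 F41190) (iv5 F50964) D59886 F243327)
theorem E98636 : n156373 = n68039 := ((D156373).symm.trans (sb E98635 (iv0 D145147)))
theorem F341073 : act 0 n68039 = n74373 := (sb E98636 (iv1 D156373))
theorem E98637 : n145148 = n138535 := ((D145148).symm.trans (sb E98636 F245761))
theorem F341074 : act 0 n138535 = n68039 := (sb E98637 (iv1 D145148))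
theorem F341075 : act 5 n177055 = n167680 := d21_6 (iv5 D68039) F315261 D81695 F125623 D84384 D177055 F341032 (iv5 D140812) (iv6 F330032) F341074
theorem F341076 : act 7 n156372 = n127554 := d15_2 (iv0 F341074) F245763 F243165
theorem F341077 : act 2 n116948 = n156372 := d4_3 F341076 F243165 (iv7 F182784)
theorem F341078 : act 3 n156372 = n105777 := d0_2 (iv3 F182783) F341077 F162450 (iv3 F320780) (iv2 F182720)
theorem F341079 : act 3 n146646 = n127554 := d8_3 (iv7 F341076) F341078 (iv7 F229942)
theorem F341080 : act 6 n139744 = n146646 := d7_0 F341079 F339614 (iv3 F337761)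
theorem F341081 : act 7 n143921 = n139959 := d14_4 (iv7 F335042) F341080 F229942 (iv6 F320336) (iv6 D139959)
theorem E98638 : n144392 = n53480 := (c21_5 (iv5 F319217) (iv1 F316389) (iv5 F229939) (iv6 F341080) (iv1 F227156) (iv6 D53480) F181554 (iv1 D30993) (iv5 D14665) D14666 D30996)
theorem E98639 : n116020 = n67659 := ((D116020).symm.trans (sb E98638 (iv1 D144392)))
theorem E98640 : n139744 = n116021 := (((D116021).symm.trans (sb E98638 F227156))).symm
theorem E98641 : n144391 = n65710 := ((D144391).symm.trans (sb E98639 (iv1 F180770)))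
theorem F341082 : act 1 n67659 = n53480 := (sb E98639 (iv0 D116020))
theorem F341083 : act 2 n116021 = n65594 := (sb E98640 (iv2 D139744))
theorem F341084 : act 3 n116021 = n66063 := (sb E98640 F337761)
theorem F341085 : act 6 n116021 = n146646 := (sb E98640 F341080)
theorem F341086 : act 7 n116021 = n65707 := (sb E98640 F335042)
theorem F341087 : act 1 n65710 = n67659 := (sb E98641 (iv0 D144391))
theorem F341088 : act 0 n116022 = n116907 := d21_1 D116022 F182660 (iv6 D54500) D54498 F319218 (iv5 F319217) (iv1 F316389) (iv5 F229939) (iv6 F341085) (iv1 D116021)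
theorem F341089 : act 1 n148598 = n144394 := d18_6 F341088 (iv4 F184398) F237578 (iv4 D69640) D69641 D148598 (iv4 D144394) F341082 D116022
theorem F341090 : act 1 n116022 = n138671 := d15_1 (iv0 F341088) (iv7 F335046) F229742
theorem F341091 : act 1 n138671 = n139968 := d15_1 F341090 (iv7 D139968) (iv2 F180767)
theorem F341092 : act 1 n139968 = n116907 := d15_1 F341091 F317968 (iv2 F221827)
theorem F341093 : act 5 n184987 = n138617 := d17_3 (iv1 F341089) F337991 D184987 F221788 D138671 F341091 F223188 F341087 D144394
theorem F341094 : act 3 n147960 = n152513 := d20_3 F341044 (iv1 F341091) F335048 (iv1 F327114) F332575 F177623 F178444 F136459 F318942 D146342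
theorem E98642 : n141405 = n96303 := (c21_8 (iv5 F223188) (iv1 F341091) (iv5 D138671) (iv6 D65115) (iv1 F53744) D74537 (iv5 F321748) (iv1 F323432) F318156 F182446 (iv1 F341087))
theorem F341095 : act 0 n96303 = n66342 := (sb E98642 (iv1 D141405))
theorem F341096 : act 1 n96303 = n84440 := (sb E98642 F323432)
theorem E98643 : n156543 = n65710 := (c21_6 F311109 (iv1 D71522) (iv5 F308943) D34143 D74438 D156543 (iv5 F223188) (iv1 F341091) (iv5 D138671) (iv6 D65115) (iv1 F53744))
theorem E98644 : n116008 = n74438 := (((iv6 F180697)).symm.trans (sb E98643 (iv6 D156543)))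
theorem E98645 : n144480 = n65724 := (((iv1 F227307)).symm.trans (sb E98644 (iv1 F180690)))
theorem E98647 : n156539 = n65726 := ((D156539).symm.trans (sb E98644 (iv2 F180689)))
theorem F341097 : act 6 n74438 = n65710 := (sb E98644 F180697)
theorem E98648 : n156544 = n53475 := ((D156544).symm.trans (sb E98644 (iv7 D116008)))
theorem E98649 : n74439 = n30775 := ((((iv1 D65724)).symm.trans (sb E98645 (iv1 F227309)))).symm
theorem F341098 : act 1 n65724 = n74438 := (sb E98645 F227307)
theorem E98650 : n140001 = n67704 := (((iv2 F223215)).symm.trans (sb E98645 (iv2 D144480)))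
theorem E98651 : n140002 = n81477 := ((D140002).symm.trans (sb E98645 F313270))
theorem E98652 : n140004 = n81476 := ((D140004).symm.trans (sb E98645 F313271))
theorem E98653 : n140005 = n71050 := ((D140005).symm.trans (sb E98645 F313278))
theorem E98654 : n139996 = n74433 := ((F223214).symm.trans (sb E98645 F227306))
theorem F341099 : act 2 n65726 = n74438 := (sb E98647 (iv2 D156539))
theorem F341100 : act 7 n53475 = n74438 := (sb E98648 (iv7 D156544))
theorem F341101 : act 0 n30775 = n34143 := (sb E98649 (iv1 D74439))
theorem F341102 : act 2 n67704 = n65724 := (sb E98650 F223215)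
theorem F341103 : act 3 n81477 = n65724 := (sb E98651 (iv3 D140002))
theorem F341104 : act 5 n81476 = n65724 := (sb E98652 (iv5 D140004))
theorem F341105 : act 6 n71050 = n65724 := (sb E98653 (iv6 D140005))
theorem F341106 : act 7 n74433 = n65724 := (sb E98654 (iv7 F223214))
theorem F341107 : act 7 n140003 = n156476 := d11_2 F341106 D140003 F246004
theorem F341108 : act 2 n144481 = n140003 := d4_3 F341107 F246003 (iv7 F227312)
theorem F341109 : act 6 n150685 = n140003 := d14_5 F341107 (iv6 D156476) F111675 D138309 F312927
theorem E98663 : n140003 = n139503 := ((c15_2 (iv0 F340952) D139503 F341107 F246003)).symm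
theorem F341110 : act 2 n139503 = n144481 := (sb E98663 (iv2 F341108))
theorem F341111 : act 4 n139503 = n65724 := (sb E98663 (iv4 D140003))
theorem F341112 : act 6 n139503 = n150685 := (sb E98663 (iv6 F341109))
theorem F341113 : act 7 n139503 = n156476 := (sb E98663 F341107)
theorem F341114 : act 0 n157230 = n144177 := d20_1 (iv4 F247447) (iv4 F324368) (iv3 D138561) (iv1 F312805) F341103 (iv4 F341111) (iv1 D139503) (iv4 F182984) F182983 F340947
theorem F341115 : act 1 n157230 = n117006 := d15_1 (iv0 F341114) (iv7 F340803) (iv2 F340802)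
theorem F341116 : act 1 n157236 = n144177 := d15_0 (iv0 F341114) (iv7 F340801) (iv2 F340806)
theorem F341117 : act 1 n117006 = n157236 := d15_0 F341116 (iv7 D144177) (iv2 F182939)
theorem F341118 : act 1 n138561 = n177048 := d18_8 (iv1 D84381) (iv4 F72372) D98110 F309895 (iv5 F312476) (iv4 F247452) F341116 (iv4 F324368) (iv5 D177048)
theorem F341119 : act 3 n140716 = n179598 := d20_3 (iv4 F247452) (iv1 F341117) (iv4 F223812) (iv1 D179598) F131492 (iv4 F131496) (iv1 F322571) F322572 F322119 (iv1 F340949)
theorem F341120 : act 0 n179596 = n136447 := d20_1 (iv4 F279696) F219541 (iv3 D65080) (iv1 F53932) (iv3 F112227) (iv4 F247452) (iv1 F341117) (iv4 F223812) F341119 (iv1 D179598)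
theorem F341121 : act 1 n139503 = n156481 := d15_0 (iv0 D156481) (iv7 F227312) (iv2 F341110)
theorem F341122 : act 7 n156481 = n115948 := d15_2 D139503 F341121 (iv2 F183041)
theorem F341123 : act 2 n139505 = n156481 := d4_3 F341122 (iv2 F183041) D139505
theorem F341124 : act 6 n139494 = n156481 := d14_5 F341122 (iv6 D115948) (iv7 F183034) D65463 D139494
theorem E98664 : n148598 = n139494 := ((c21_6 (iv5 F337096) F337093 (iv5 D74413) D74414 D156481 (iv6 F341124) F337991 D184987 F341093 (iv6 D138617) (iv1 F111902))).symm
theorem F341125 : act 1 n139494 = n144394 := (sb E98664 F341089)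
theorem F341126 : act 3 n139494 = n88183 := (sb E98664 F337990)
theorem F341127 : act 4 n139494 = n69641 := (sb E98664 (iv4 D148598))
theorem F341128 : act 5 n139494 = n88182 := (sb E98664 F337991)
theorem F341129 : act 5 n185285 = n156481 := d12_5 (iv6 F341124) F341128 F135129 D88280 D185285
theorem E98665 : n154446 = n139493 := (c13_3 D139494 F341128 (iv7 F310894) (iv5 D139493))
theorem F341130 : act 3 n139493 = n73159 := (sb E98665 (iv3 D154446))
theorem F341131 : act 7 n139493 = n88182 := (sb E98665 F310894)
theorem F341132 : act 3 n156481 = n184995 := d6_1 F341129 F287393 (iv3 F287557)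
theorem F341133 : act 4 n148599 = n156481 := d10_3 (iv6 F341124) F341127 D148599
theorem F341134 : act 4 n184995 = n174939 := d5_2 F341133 F341132 F273832 (iv4 F323725) (iv3 F233351)
theorem E98666 : n177715 = n122307 := ((c18_6 F247761 F341133 (iv1 F341121) F341111 (iv5 F341104) (iv4 F195541) (iv0 D177715) (iv4 F310234) F307618 (iv5 F307108))).symm
theorem F341135 : act 1 n122307 = n84626 := (sb E98666 (iv0 D177715))
theorem F341136 : act 0 n115845 = n178902 := d20_1 (iv4 F180323) F278780 F130587 F106004 (iv3 F233351) F341133 (iv1 F341121) F341111 (iv3 F341103) F322672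
theorem F341137 : act 0 n152744 = n139974 := d20_7 (iv4 F111682) D156481 (iv4 F341133) F233351 F189480 F189477 (iv4 F239943) F223200 F101433 F341101
theorem F341138 : act 4 n120009 = n134704 := d20_0 F323783 F101397 F49217 F26156 (iv3 F53611) (iv4 F111682) D156481 (iv4 F341133) F233351 F189480
theorem F341139 : act 6 n134704 = n119562 := d10_2 D120009 F341138 F320684
theorem E98667 : n178910 = n141812 := ((c18_7 (iv1 F96162) F305718 (iv1 F123241) F305600 (iv5 F189478) F341138 F224822 F278787 (iv0 D85760) F60480)).symm
theorem F341140 : act 1 n141812 = n85307 := (sb E98667 (iv0 D178910))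
theorem F341141 : act 4 n141812 = n85760 := (sb E98667 F278787)
theorem F341142 : act 6 n141812 = n163230 := (sb E98667 (iv6 F313791))
theorem F341143 : act 0 n136824 = n179596 := d20_7 (iv4 F341141) (iv1 F224822) (iv4 F341138) F189477 (iv1 F318276) F180197 (iv4 F220030) F279696 F131492 D85760
theorem F341144 : act 2 n138585 = n141812 := d3_3 F341142 F313788 F318611
theorem F341145 : act 1 n138585 = n124959 := d15_0 F319097 D141812 (iv2 F341144)
theorem F341146 : act 1 n135459 = n138585 := d15_0 F341145 F319099 (iv2 F217789)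
theorem F341147 : act 4 n145477 = n125182 := d20_8 D138585 (iv1 F341146) F322447 F307104 F324141 F104379 (iv4 F104383) D145477 F201240 F315102
theorem F341148 : act 3 n162611 = n145477 := d5_5 F341147 F201240 (iv4 F130600) F327870 (iv4 F303395)
theorem F341149 : act 6 n125181 = n145477 := d10_0 F341147 (iv6 D125182) D125181
theorem F341150 : act 6 n162611 = n178921 := d7_2 F341149 (iv3 F341148) F278799
theorem F341151 : act 2 n178921 = n175993 := d3_1 F341150 F275319 (iv2 F303394)
theorem F341152 : act 3 n145272 = n155079 := d19_7 D80281 (iv5 F306087) F341141 (iv3 F318499) (iv1 F227296) (iv5 F317344) D145272 (iv1 F243893) (iv5 F310751) (iv4 F243144) (iv3 D117158) (iv1 D53994) F41312 (iv4 F41076) (iv3 F84710) (iv1 F317982) (iv5 D26567) (iv4 F42545) (iv3 F57449)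
theorem F341153 : act 4 n144470 = n144551 := d20_6 (iv4 F130594) (iv1 F341140) F341141 (iv3 F318499) (iv1 F227296) D144470 (iv1 D144551) F103780 (iv3 F103778) (iv1 F322115)
theorem F341154 : act 0 n157285 = n144551 := d20_1 D157285 (iv4 F341153) (iv3 D144470) (iv1 D67701) F49741 F24483 F11984 (iv4 F27062) (iv3 F53928) D74783
theorem F341155 : act 7 n157285 = n117049 := d15_2 D144551 (iv0 F341154) (iv2 F183058)
theorem F341156 : act 2 n144553 = n157285 := d4_3 F341155 (iv2 F183058) D144553
theorem F341157 : act 6 n144511 = n157285 := d14_5 F341155 (iv6 D117049) (iv7 F183024) D67726 D144511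
theorem F341158 : act 1 n157285 = n144550 := d15_0 (iv0 D144550) D144553 F341156
theorem F341159 : act 3 n119567 = n134704 := d7_3 F341139 F188545 D119567
theorem F341160 : act 5 n134699 = n119567 := d6_0 F341159 (iv5 D134704) (iv3 F216698)
theorem F341161 : act 0 n119567 = n173299 := d20_4 (iv4 F323725) F189480 F341138 (iv3 F341159) F271702 D173300 (iv1 F303393) F303395 (iv3 F327870) F322568
theorem F341162 : act 1 n119567 = n128060 := d17_6 (iv1 F310775) (iv5 D146910) (iv1 F183477) (iv5 F237478) (iv4 F237481) F341160 (iv5 D128060) (iv0 F300868) (iv4 F115116)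
theorem F341163 : act 0 n178901 = n124868 := d21_7 D142009 F225040 (iv5 D115844) D115845 F341136 (iv6 D178902) D178901 (iv5 D124868) F321301 D66595
theorem F341164 : act 1 n115845 = n181208 := d15_1 (iv0 F341136) (iv7 D181208) (iv2 F306688)
theorem F341165 : act 1 n181208 = n138562 := d15_1 F341164 F324370 (iv2 F180322)
theorem F341166 : act 1 n138562 = n178902 := d15_1 F341165 (iv7 F324362) F324359
theorem E98668 : n152322 = n115808 := (c20_4 D138562 (iv1 F341165) F282243 F308496 (iv1 D115808) F84260 F40873 F20361 (iv4 F24144) (iv3 F48974) D65066)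
theorem F341167 : act 2 n115808 = n72077 := (sb E98668 F239475)
theorem F341168 : act 3 n115808 = n86533 := (sb E98668 (iv3 F308496))
theorem F341169 : act 5 n115808 = n74858 := (sb E98668 F239476)
theorem F341170 : act 6 n115808 = n71864 := (sb E98668 (iv6 D152322))
theorem F341171 : act 7 n115808 = n85095 := (sb E98668 F239477)
theorem E98669 : n139684 = n117671 := ((c21_3 (iv5 D54207) D54205 D117671 (iv6 F246201) (iv1 F246204) F341170 F189221 (iv1 F199953) (iv5 F318401) (iv6 F100915) (iv1 F318398))).symm
theorem F341172 : act 0 n117671 = n65569 := (sb E98669 (iv1 F222860))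
theorem F341173 : act 1 n117671 = n65568 := (sb E98669 F222861)
theorem F341174 : act 2 n117671 = n65571 := (sb E98669 F222858)
theorem F341175 : act 6 n117671 = n156566 := (sb E98669 (iv6 F246201))
theorem F341176 : act 7 n117671 = n65563 := (sb E98669 (iv7 D139684))
theorem F341177 : act 6 n116229 = n119625 := d21_5 F52510 (iv1 F52434) D71862 F320927 (iv1 F320931) (iv5 F209458) (iv1 F209459) (iv5 F341169) F341170 (iv1 F108334)
theorem F341178 : act 3 n119625 = n141771 := d7_1 F341177 (iv6 D141771) (iv3 F181153)
theorem F341179 : act 5 n117691 = n116229 := d12_5 F341177 (iv5 F209458) (iv6 F307613) F307612 (iv6 F184311)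
theorem F341180 : act 5 n115233 = n178672 := d17_3 (iv1 F330606) (iv5 D115339) (iv1 F179452) (iv4 D178672) F130440 F184312 F341179 F320931 (iv4 F327621)
theorem E98670 : n151626 = n143457 := ((c19_4 (iv1 F320931) (iv5 F341179) F309419 (iv3 F321913) (iv1 D151626) F334861 (iv4 F334860) F321572 (iv1 F180960) (iv5 F180987) (iv4 F340733) F340732 F224594 F223040 (iv4 F170161) (iv3 D110027) (iv1 D50748) D50749 (iv4 F324192) F320925)).symm
theorem F341181 : act 0 n143457 = n71465 := (sb E98670 (iv1 D151626))
theorem F341182 : act 1 n143457 = n71470 := (sb E98670 F238496)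
theorem E98671 : n151625 = n117605 := (c15_2 F341182 F238500 F184200 D143457)
theorem F341183 : act 0 n117605 = n71470 := (sb E98671 (iv1 F238500))
theorem F341184 : act 1 n117605 = n71465 := (sb E98671 (iv0 D151625))
theorem F341185 : act 4 n145005 = n159900 := d18_3 (iv1 F238188) D151662 F334849 (iv5 D159900) (iv4 F321914) F341182 (iv4 D71470) F107888 (iv5 F238186)
theorem F341186 : act 4 n143184 = n159898 := d18_5 (iv1 D67062) F49544 D31229 D67089 D143184 (iv0 D159898) (iv4 F321914) F341182 F334856
theorem E98672 : n151430 = n143184 := ((c20_1 (iv4 F341186) (iv1 F238174) F107999 F52289 (iv1 F76737) F321212 (iv4 D69328) (iv1 F105591) (iv4 F314113) (iv3 F114785) D159898)).symm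
theorem F341187 : act 0 n143184 = n71462 := (sb E98672 (iv1 F238174))
theorem F341188 : act 1 n143184 = n71389 := (sb E98672 (iv0 D151430))
theorem F341189 : act 3 n105385 = n159898 := d20_5 F145381 (iv1 D34413) (iv4 F37036) (iv3 F76715) D105385 (iv4 F341186) F341187 F107999 F52289 (iv1 F76737)
theorem F341190 : act 2 n144990 = n143184 := d15_3 F341188 (iv0 F338499) (iv7 F227950)
theorem F341191 : act 1 n151432 = n133500 := d17_8 D133572 F314619 (iv1 D69311) F320523 D67089 D143184 F341188 D151432 F214684
theorem F341192 : act 0 n118905 = n122668 := d21_4 D76262 F186954 F186953 D118905 (iv6 F238171) (iv5 D151432) (iv1 F341188) (iv5 D143184) (iv6 F322264) (iv1 D76260)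
theorem F341193 : act 4 n122668 = n159401 := d20_8 D80473 D167687 F299634 F308514 (iv1 D54762) (iv3 F86529) (iv4 F186955) F341192 (iv3 F311376) (iv1 D80472)
theorem F341194 : act 7 n155935 = n151596 := d15_2 (iv0 F341192) (iv0 F244920) F238474
theorem E98673 : n143589 = n124179 := (c18_3 (iv1 D67235) D67236 D143589 F301977 (iv5 F309228) (iv4 F341193) (iv0 F341192) F186955 D118907 F332503)
theorem F341195 : act 1 n124179 = n67236 := (sb E98673 (iv0 D143589))
theorem F341196 : act 2 n123240 = n138055 := d15_3 F339052 F341195 (iv7 F316529)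
theorem F341197 : act 4 n143571 = n118135 := d18_5 (iv1 F219683) F219680 (iv1 F101011) D67231 D143571 F185617 (iv4 F301977) F341195 F339049
theorem E98674 : n143868 = n134683 := ((c20_1 (iv4 F330187) (iv1 D143868) (iv4 F226274) (iv3 D143591) (iv1 F341195) F198644 F91616 (iv1 F298941) D27672 D58019 (iv1 F242108))).symm
theorem F341198 : act 0 n134683 = n67377 := (sb E98674 (iv1 D143868))
theorem F341199 : act 0 n174829 = n124679 := d20_1 (iv4 F273705) F321522 (iv3 F330186) F341198 (iv3 D67377) (iv4 D31321) D31319 (iv4 F312421) (iv3 F315246) F333793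
theorem E98675 : n178232 = n125273 := ((c21_8 F151719 (iv1 F185437) F185439 (iv6 F330188) F341198 (iv6 F184559) F184558 D125273 (iv5 F331709) (iv6 D150241) (iv1 F151722))).symm
theorem F341200 : act 5 n125273 = n150241 := (sb E98675 (iv5 F331709))
theorem F341201 : act 6 n125273 = n84830 := (sb E98675 (iv6 D178232))
theorem E98676 : n154160 = n143869 := (c15_3 (iv0 F341198) F330184 F273673 (iv2 D143869))
theorem F341202 : act 1 n143869 = n73036 := (sb E98676 (iv0 D154160))
theorem F341203 : act 3 n143869 = n173768 := (sb E98676 F272359)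
theorem F341204 : act 4 n143869 = n174812 := (sb E98676 (iv4 F273693))
theorem F341205 : act 7 n143869 = n173777 := (sb E98676 (iv7 F273673))
theorem F341206 : act 2 n173777 = n139278 := d4_1 F341205 F222459 D143869
theorem E98677 : n173779 = n143869 := (c13_4 F341205 (iv5 F330226) F273672 D173779)
theorem F341207 : act 5 n143869 = n83102 := (sb E98677 (iv5 D173779))
theorem F341208 : act 3 n133875 = n113161 := d19_11 (iv1 F341202) F341207 (iv4 F273680) F273679 (iv1 D83497) (iv5 F316549) (iv4 F253518) (iv3 D160490) (iv1 F299820) (iv5 F330158) F330157 (iv1 F326686) (iv5 D119398) (iv4 D54945) F190514 (iv1 D16265) D16266 D33650 D73036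
theorem F341209 : act 0 n135435 = n149674 := d21_4 F341207 (iv1 D83102) F330211 D135435 (iv6 D149674) (iv5 D70296) D70293 F108407 (iv6 F109552) (iv1 F341202)
theorem E98678 : n134644 = n118491 := ((c21_11 F330203 (iv1 F341202) F341207 (iv6 F323009) (iv1 D38292) (iv6 D18287) D18286 F29484 D26389 D54569 D118491)).symm
theorem F341210 : act 2 n118491 = n63279 := (sb E98678 F330201)
theorem F341211 : act 3 n118491 = n73037 := (sb E98678 F330202)
theorem F341212 : act 4 n118491 = n63268 := (sb E98678 F216614)
theorem F341213 : act 5 n118491 = n73036 := (sb E98678 F330203)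
theorem F341214 : act 6 n118491 = n63266 := (sb E98678 (iv6 D134644))
theorem F341215 : act 7 n118491 = n63278 := (sb E98678 F330204)
theorem F341216 : act 6 n143869 = n135367 := d21_3 D135429 F328945 (iv5 F341207) (iv1 D135367) (iv6 D63630) (iv5 D30036) (iv1 D14255) D14257 D30044 D63660
theorem F341217 : act 2 n135367 = n117841 := d3_1 F341216 F184559 D143869
theorem F341218 : act 3 n135367 = n134609 := d7_1 F341216 F340186 (iv3 F341203)
theorem F341219 : act 5 n135367 = n125275 := d12_1 F341216 F319514 (iv5 D83184) F323009 (iv5 F341207)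
theorem F341220 : act 7 n135367 = n125357 := d14_2 (iv7 F341205) F341216 (iv6 F250765) F315003 (iv6 F323007)
theorem F341221 : act 5 n121390 = n125351 := d21_8 (iv5 F341219) (iv1 D135367) D135368 F217609 (iv1 F339518) (iv6 F302607) F320254 (iv1 F303117) (iv6 D125351) (iv1 F201458)
theorem F341222 : act 5 n126948 = n160541 := d21_2 (iv5 F322723) (iv1 F338457) (iv6 D160541) F319511 (iv6 F319514) (iv5 F341219) (iv1 D135367) D135368 F217609 (iv1 F339518)
theorem F341223 : act 7 n160541 = n126947 := d13_2 D126948 F341222 (iv5 D126947)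
theorem F341224 : act 0 n160541 = n138130 := d18_0 (iv4 F333845) (iv1 F327611) F327612 (iv5 F328565) F203778 D136133 F328560 F338460 F341222
theorem E98679 : n181982 = n138023 := (c17_4 (iv1 F328978) F328980 (iv1 F133637) (iv5 F295089) F221282 D138130 (iv0 F341224) (iv5 F341222) F338457 (iv4 F209401))
theorem F341225 : act 0 n138023 = n86919 := (sb E98679 (iv1 D181982))
theorem F341226 : act 1 n138023 = n135126 := (sb E98679 (iv0 F337811))
theorem F341227 : act 2 n138023 = n95411 := (sb E98679 F295088)
theorem F341228 : act 5 n138023 = n87048 := (sb E98679 F295089)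
theorem F341229 : act 7 n138023 = n95415 := (sb E98679 F295090)
theorem E98680 : n160541 = n120977 := ((c19_1 D120977 (iv5 F341222) F204201 (iv3 F329738) (iv1 D44866) (iv5 D21394) (iv4 D10194) (iv3 D4628) (iv1 F3221) F3220 F293748 (iv3 F6215) (iv1 F17547) (iv5 D9335) D9334 (iv3 F28088) (iv1 F28090) D27064 F43720 D55796)).symm
theorem F341230 : act 0 n120977 = n138130 := (sb E98680 F341224)
theorem F341231 : act 5 n120977 = n126948 := (sb E98680 (iv5 F341222))
theorem F341232 : act 6 n120977 = n76972 := (sb E98680 (iv6 D160541))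
theorem F341233 : act 7 n120977 = n126947 := (sb E98680 F341223)
theorem F341234 : act 6 n126952 = n160542 := d14_3 F341233 F204200 D126952 (iv7 D160542) (iv6 F341232)
theorem E98681 : n173988 = n124475 := (c21_4 F319515 (iv1 F128234) (iv5 F128251) D173988 (iv1 D124475) (iv6 F323137) F323136 (iv1 F100489) (iv5 F204204) F341234 F331729)
theorem F341235 : act 2 n124475 = n84565 := (sb E98681 F339272)
theorem F341236 : act 3 n124475 = n83252 := (sb E98681 F272622)
theorem F341237 : act 6 n124475 = n83189 := (sb E98681 (iv6 D173988))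
theorem F341238 : act 7 n124475 = n84566 := (sb E98681 F339273)
theorem F341239 : act 6 n137316 = n164564 := d21_5 (iv5 F313287) (iv1 F330276) (iv5 F331731) (iv6 F341234) (iv1 F220477) (iv5 D164564) F155359 D83175 F128240 F330281
theorem F341240 : act 6 n120603 = n108992 := d3_2 F341239 F259404 F325256
theorem E98682 : n177515 = n124474 := ((c21_5 (iv5 D64539) D64537 (iv5 F323136) F323137 D124474 F339268 F239839 F155360 D164564 (iv6 F341239) (iv1 D137316))).symm
theorem F341241 : act 2 n124474 = n84566 := (sb E98682 F276966)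
theorem F341242 : act 6 n124474 = n152630 := (sb E98682 F339268)
theorem F341243 : act 7 n124474 = n84565 := (sb E98682 (iv7 D177515))
theorem F341244 : act 5 n163074 = n124474 := d21_2 D78410 D163074 F341242 (iv1 F322710) (iv6 D121295) F88540 (iv1 F67488) (iv5 F250815) D76989 F339259
theorem F341245 : act 2 n177518 = n163074 := d2_3 F341244 F341241 D177518
theorem F341246 : act 7 n177513 = n163074 := d13_0 F341244 F341243 D177513
theorem F341247 : act 1 n177518 = n163070 := d15_0 (iv0 F339277) F341246 (iv2 F341245)
theorem E98683 : n125439 = n78408 := (c21_11 D163070 (iv1 F341247) (iv5 D177518) (iv6 F339267) (iv1 D121297) (iv6 D55954) F43547 D35894 (iv5 F254073) D58728 D125439)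
theorem E98684 : n160589 = n121079 := ((((iv1 F193109)).symm.trans (sb E98683 (iv1 F254438)))).symm
theorem E98685 : n121078 = n58728 := ((F193105).symm.trans (sb E98683 (iv0 D125439)))
theorem E98686 : n125440 = n55871 := ((((iv1 D121079)).symm.trans (sb E98684 (iv1 F254436)))).symm
theorem F341248 : act 2 n121079 = n78406 := (sb E98684 F339257)
theorem E98687 : n152492 = n125458 := ((F337697).symm.trans (sb E98684 F254461))
theorem F341249 : act 7 n121079 = n76989 := (sb E98684 (iv7 D160589))
theorem F341250 : act 0 n58728 = n78408 := (sb E98685 (iv1 F193105))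
theorem F341251 : act 0 n55871 = n58728 := (sb E98686 (iv1 D125440))
theorem F341252 : act 5 n125458 = n71927 := (sb E98687 (iv5 D152492))
theorem F341253 : act 6 n125458 = n121079 := (sb E98687 (iv6 F337697))
theorem F341254 : act 6 n158972 = n124626 := d21_3 (iv5 F322714) D85265 (iv5 F250303) (iv1 F199323) F130026 D163070 (iv1 F341247) (iv5 D177518) (iv6 F339267) (iv1 D121297)
theorem E98688 : n179948 = n128170 := ((c21_5 (iv5 D177518) (iv1 D84566) (iv5 F119633) D163201 F339293 (iv6 D179948) (iv5 F339417) (iv1 F330643) F320637 (iv6 F316251) (iv1 F341247))).symm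
theorem F341255 : act 6 n128170 = n85988 := (sb E98688 (iv6 D179948))
theorem E98689 : n179945 = n128174 := (c7_2 F341255 D179945 F206310 (iv3 F206307))
theorem F341256 : act 3 n128174 = n85988 := (sb E98689 (iv3 D179945))
theorem F341257 : act 5 n155005 = n124626 := d21_8 (iv5 D164564) F155359 D83175 F128240 F330281 (iv6 D79909) F321875 D155005 (iv6 F341254) (iv1 F259407)
theorem F341258 : act 0 n178223 = n178547 := d18_2 (iv1 F199323) (iv4 F277777) (iv4 D178547) (iv5 D85011) (iv4 D39312) D39311 D85005 F243737 F341257
theorem F341259 : act 3 n96390 = n124626 := d20_9 (iv4 F277777) F341258 (iv4 D178547) (iv3 F337737) (iv1 F194221) (iv3 F328293) F160347 F137958 D96390 (iv1 F199323)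
theorem F341260 : act 1 n178223 = n178522 := d15_1 (iv0 F341258) F337718 F337716
theorem F341261 : act 1 n178522 = n122316 := d15_1 F341260 F299734 D178223
theorem F341262 : act 5 n154971 = n178223 := d17_5 (iv1 D83644) (iv5 D38563) (iv1 F188448) D73522 D154971 F341260 (iv5 D178522) (iv0 F330681) F330682
theorem F341263 : act 3 n109242 = n178522 := d19_19 (iv1 F341260) (iv5 F341262) (iv4 D154971) (iv3 F118004) D83432 (iv5 F301154) (iv4 D121958) (iv3 F298991) (iv1 F194676) (iv5 F325327) (iv4 F325636) F325635 F101701 (iv5 F337421) F167683 (iv3 F80875) (iv1 F80877) (iv5 F79769) (iv4 F169197)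
theorem F341264 : act 5 n178521 = n109242 := d6_0 F341263 (iv5 D178522) D178521
theorem F341265 : act 6 n178522 = n109240 := d7_2 D109242 F341263 (iv3 D109240)
theorem F341266 : act 0 n140422 = n178521 := d17_2 F101601 D140422 F341264 F169197 F79769 F80877 F80876 (iv0 D50155) (iv4 F79462)
theorem F341267 : act 0 n178521 = n111389 := d21_7 D24977 D51379 F81105 D51425 (iv1 F166160) D109242 (iv5 F341264) (iv5 D111389) (iv6 D51373) (iv1 D24975)
theorem F341268 : act 2 n178224 = n154971 := d2_3 F341262 (iv2 D178223) D178224
theorem F341269 : act 5 n115744 = n122316 := d9_8 F341262 F277777 F320192 (iv4 D84994) (iv5 D39308) F188453 D83641 (iv4 F330962) (iv4 F302626) F317879 (iv4 D73526) (iv5 D33796) D33795 D73522 D154971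
theorem E98690 : n122317 = n53376 := (c6_3 F341269 (iv3 D122316) D122317 (iv3 F180091))
theorem E98691 : n81895 = n30850 := (((F84219).symm.trans (sb E98690 F195584))).symm
theorem E98692 : n115747 = n56640 := ((D115747).symm.trans (sb E98690 (iv5 D122317)))
theorem E98693 : n108533 = n84829 := (((iv7 F167818)).symm.trans (sb E98690 F299735))
theorem E98695 : n163953 = n65924 := (((D65924).symm.trans (sb E98691 (iv0 F301026)))).symm
theorem E98696 : n170819 = n65921 := ((((iv3 F101621)).symm.trans (sb E98691 (iv3 F268404)))).symm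
theorem E98698 : n65925 = n37501 := ((D65925).symm.trans (sb E98691 (iv5 D81895)))
theorem E98700 : n123477 = n65049 := ((((iv7 F100853)).symm.trans (sb E98691 (iv7 F304210)))).symm
theorem F341270 : act 5 n56640 = n53376 := (sb E98692 (iv5 D115747))
theorem E98701 : n178225 = n65923 := ((D178225).symm.trans (sb E98693 (iv0 F167819)))
theorem E98702 : n178226 = n50116 := ((D178226).symm.trans (sb E98693 (iv4 D108533)))
theorem E98703 : n178227 = n65935 := ((D178227).symm.trans (sb E98693 F167817))
theorem F341271 : act 7 n84829 = n53376 := (sb E98693 F167818)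
theorem F341272 : act 1 n65924 = n84829 := (sb E98695 F258412)
theorem E98704 : n140452 = n78766 := ((D140452).symm.trans (sb E98695 (iv5 D163953)))
theorem E98705 : n140444 = n81894 := ((D140444).symm.trans (sb E98696 (iv5 D170819)))
theorem E98707 : n140455 = n81893 := (((D81893).symm.trans (sb E98698 D140455))).symm
theorem F341273 : act 5 n37501 = n30850 := (sb E98698 (iv5 D65925))
theorem E98709 : n140447 = n18004 := (((F58377).symm.trans (sb E98698 (iv6 F223628)))).symm
theorem E98710 : n138493 = n57540 := ((((iv7 F301421)).symm.trans (sb E98698 (iv7 F221680)))).symm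
theorem F341274 : act 2 n65049 = n84829 := (sb E98700 F197887)
theorem F341275 : act 0 n65923 = n84829 := (sb E98701 (iv1 D178225))
theorem E98712 : n140450 = n84833 := ((D140450).symm.trans (sb E98701 F277780))
theorem F341276 : act 4 n50116 = n84829 := (sb E98702 (iv4 D178226))
theorem E98713 : n177543 = n51417 := (((F336724).symm.trans (sb E98703 F277781))).symm
theorem F341277 : act 6 n65935 = n84829 := (sb E98703 (iv6 D178227))
theorem F341278 : act 5 n78766 = n65924 := (sb E98704 (iv5 D140452))
theorem E98714 : n134838 = n112470 := ((((iv7 F326116)).symm.trans (sb E98704 F223633))).symm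
theorem F341279 : act 5 n81894 = n65921 := (sb E98705 (iv5 D140444))
theorem E98715 : n170815 = n140337 := ((D170815).symm.trans (sb E98707 (iv5 F223639)))
theorem E98716 : n65922 = n37510 := (((D37510).symm.trans (sb E98709 (iv5 D140447)))).symm
theorem F341280 : act 5 n57540 = n65049 := (sb E98710 (iv5 D138493))
theorem F341281 : act 5 n84833 = n65923 := (sb E98712 (iv5 D140450))
theorem E98723 : n111481 = n84576 := ((D111481).symm.trans (sb E98713 (iv6 D177543)))
theorem F341282 : act 5 n112470 = n63363 := (sb E98714 (iv5 D134838))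
theorem F341283 : act 0 n140337 = n123483 := (sb E98715 F304205)
theorem F341284 : act 1 n140337 = n123479 := (sb E98715 F304206)
theorem F341285 : act 2 n140337 = n178240 := (sb E98715 F304207)
theorem F341286 : act 5 n140337 = n81893 := (sb E98715 (iv5 D170815))
theorem F341287 : act 7 n140337 = n178239 := (sb E98715 F304208)
theorem E98726 : n115745 = n56645 := ((((iv2 F89583)).symm.trans (sb E98716 (iv2 F180092)))).symm
theorem E98727 : n140441 = n81916 := ((((iv3 F126259)).symm.trans (sb E98716 (iv3 F223626)))).symm
theorem E98728 : n108723 = n75233 := (((F112780).symm.trans (sb E98716 (iv4 F168681)))).symm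
theorem F341288 : act 6 n37510 = n30849 := (sb E98716 (iv6 D65922))
theorem E98731 : n177540 = n108730 := ((D177540).symm.trans (sb E98723 (iv1 F172998)))
theorem E98732 : n177541 = n108729 := ((D177541).symm.trans (sb E98723 (iv0 F172999)))
theorem E98733 : n123326 = n108747 := (((iv2 F197639)).symm.trans (sb E98723 F172995))
theorem E98734 : n177542 = n65903 := ((D177542).symm.trans (sb E98723 F172996))
theorem E98735 : n111534 = n39059 := ((((iv5 D84576)).symm.trans (sb E98723 (iv5 F173057)))).symm
theorem F341289 : act 6 n84576 = n51417 := (sb E98723 (iv6 D111481))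
theorem E98736 : n81994 = n65900 := ((F303310).symm.trans (sb E98723 F172997))
theorem E98737 : n109064 = n77347 := ((((iv4 F116161)).symm.trans (sb E98726 F180093))).symm
theorem F341290 : act 6 n56645 = n53375 := (sb E98726 (iv6 D115745))
theorem F341291 : act 6 n81916 = n65920 := (sb E98727 (iv6 D140441))
theorem F341292 : act 6 n75233 = n50202 := (sb E98728 (iv6 D108723))
theorem E98740 : n86165 = n66536 := (((iv7 F132140)).symm.trans (sb E98728 F336711))
theorem F341293 : act 1 n108730 = n84576 := (sb E98731 (iv0 D177540))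
theorem E98741 : n171073 = n111883 := ((((iv2 F173795)).symm.trans (sb E98731 (iv2 F304402)))).symm
theorem F341294 : act 5 n108730 = n123310 := (sb E98731 F276975)
theorem E98742 : n171072 = n111881 := ((((iv7 F173789)).symm.trans (sb E98731 (iv7 F304399)))).symm
theorem F341295 : act 0 n108729 = n84576 := (sb E98732 (iv1 D177541))
theorem F341296 : act 5 n108729 = n123309 := (sb E98732 F276979)
theorem F341297 : act 2 n108747 = n84576 := (sb E98733 F197639)
theorem F341298 : act 5 n108747 = n57430 := (sb E98733 (iv5 D123326))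
theorem F341299 : act 4 n65903 = n84576 := (sb E98734 (iv4 D177542))
theorem E98743 : n51882 = n51437 := ((F326430).symm.trans (sb E98735 (iv1 D111534)))
theorem E98744 : n140400 = n37558 := (((F300470).symm.trans (sb E98735 (iv7 F223552)))).symm
theorem E98746 : n171070 = n140399 := ((((iv3 F223549)).symm.trans (sb E98736 (iv3 F268791)))).symm
theorem F341300 : act 7 n65900 = n84576 := (sb E98736 (iv7 F303310))
theorem E98749 : n141933 = n39881 := (((F116162).symm.trans (sb E98737 F336705))).symm
theorem E98750 : n141932 = n75205 := (((F116163).symm.trans (sb E98737 F336706))).symm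
theorem F341301 : act 6 n77347 = n50353 := (sb E98737 (iv6 D109064))
theorem E98751 : n75234 = n65947 := ((F116160).symm.trans (sb E98737 F336707))
theorem E98752 : n180416 = n141931 := ((((iv3 F224983)).symm.trans (sb E98740 D180416))).symm
theorem E98753 : n108744 = n75203 := (((iv4 F168694)).symm.trans (sb E98740 (iv4 F132139)))
theorem E98754 : n141934 = n39893 := ((D141934).symm.trans (sb E98740 F132136))
theorem F341302 : act 7 n66536 = n75233 := (sb E98740 F132140)
theorem F341303 : act 5 n111883 = n84560 := (sb E98741 F304403)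
theorem F341304 : act 5 n111881 = n84559 := (sb E98742 F304398)
theorem E98756 : n108746 = n56715 := ((F168695).symm.trans (sb E98743 (iv1 F326429)))
theorem F341305 : act 1 n51437 = n39059 := (sb E98743 (iv0 F326430))
theorem E98757 : n111304 = n81992 := (((iv2 F172706)).symm.trans (sb E98743 F325615))
theorem E98758 : n112459 = n111519 := ((((iv3 F173044)).symm.trans (sb E98743 (iv3 F174944)))).symm
theorem E98759 : n111535 = n25180 := ((D111535).symm.trans (sb E98743 F81922))
theorem E98760 : n112466 = n25002 := ((((iv5 D51437)).symm.trans (sb E98743 D112466))).symm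
theorem E98761 : n111527 = n25178 := (((iv6 F173053)).symm.trans (sb E98743 (iv6 D51882)))
theorem E98762 : n111536 = n57939 := ((D111536).symm.trans (sb E98743 (iv7 F326434)))
theorem F341306 : act 5 n37558 = n65900 := (sb E98744 (iv5 D140400))
theorem F341307 : act 5 n140399 = n81993 := (sb E98746 (iv5 D171070))
theorem F341308 : act 0 n39881 = n66536 := (sb E98749 (iv1 D141933))
theorem F341309 : act 1 n75205 = n66536 := (sb E98750 (iv0 D141932))
theorem F341310 : act 0 n65947 = n34447 := (sb E98751 (iv1 D75234))
theorem F341311 : act 1 n65947 = n75235 := (sb E98751 (iv0 F112786))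
theorem E98764 : n140503 = n109022 := (((iv3 F223660)).symm.trans (sb E98751 (iv3 F326224)))
theorem E98765 : n108944 = n75207 := (((iv4 F168953)).symm.trans (sb E98751 (iv4 F112782)))
theorem E98766 : n140509 = n36476 := ((D140509).symm.trans (sb E98751 F112781))
theorem F341312 : act 7 n65947 = n77347 := (sb E98751 (iv7 F116160))
theorem F341313 : act 0 n141931 = n183047 := (sb E98752 F333852)
theorem F341314 : act 5 n141931 = n86192 := (sb E98752 F280795)
theorem F341315 : act 7 n141931 = n157931 := (sb E98752 F280796)
theorem F341316 : act 4 n75203 = n66536 := (sb E98753 F168694)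
theorem E98768 : n157858 = n50211 := ((D157858).symm.trans (sb E98753 (iv6 D108744)))
theorem F341317 : act 5 n39893 = n66536 := (sb E98754 (iv5 D141934))
theorem E98769 : n115758 = n86082 := (((F132042).symm.trans (sb E98754 F224986))).symm
theorem F341318 : act 1 n56715 = n51437 := (sb E98756 (iv0 F168695))
theorem F341319 : act 5 n56715 = n50212 := (sb E98756 (iv5 D108746))
theorem F341320 : act 2 n81992 = n51437 := (sb E98757 F172706)
theorem E98770 : n171065 = n51334 := ((D171065).symm.trans (sb E98757 (iv5 D111304)))
theorem F341321 : act 6 n111519 = n51880 := (sb E98758 (iv6 D112459))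
theorem F341322 : act 7 n111519 = n124278 := (sb E98758 F326431)
theorem F341323 : act 4 n25180 = n51437 := (sb E98759 (iv4 D111535))
theorem E98771 : n84562 = n51436 := (((D51436).symm.trans (sb E98760 F326432))).symm
theorem E98772 : n124280 = n51438 := (((D51438).symm.trans (sb E98760 F326433))).symm
theorem E98773 : n51881 = n51434 := ((D51881).symm.trans (sb E98761 (iv5 D111527)))
theorem F341324 : act 6 n25178 = n51437 := (sb E98761 F173053)
theorem F341325 : act 7 n57939 = n51437 := (sb E98762 (iv7 D111536))
theorem F341326 : act 3 n109022 = n65947 := (sb E98764 F223660)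
theorem F341327 : act 6 n109022 = n65945 := (sb E98764 (iv6 D140503))
theorem F341328 : act 4 n75207 = n65947 := (sb E98765 F168953)
theorem F341329 : act 6 n75207 = n50298 := (sb E98765 (iv6 D108944))
theorem F341330 : act 5 n36476 = n65947 := (sb E98766 (iv5 D140509))
theorem E98774 : n77540 = n65948 := (((iv6 F116423)).symm.trans (sb E98766 F223662))
theorem F341331 : act 6 n50211 = n75203 := (sb E98768 (iv6 D157858))
theorem E98775 : n123497 = n53380 := (((iv5 F304443)).symm.trans (sb E98769 (iv5 D115758)))
theorem E98776 : n123312 = n111303 := (((D111303).symm.trans (sb E98770 (iv0 F302552)))).symm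
theorem F341332 : act 5 n51334 = n81992 := (sb E98770 (iv5 D171065))
theorem E98777 : n160447 = n111305 := (((F172710).symm.trans (sb E98771 (iv0 F253450)))).symm
theorem E98778 : n177501 = n111531 := (((D111531).symm.trans (sb E98771 (iv3 F276951)))).symm
theorem E98780 : n111532 = n39019 := ((D111532).symm.trans (sb E98771 (iv5 D84562)))
theorem E98782 : n123319 = n111302 := (((F172702).symm.trans (sb E98771 (iv7 F197622)))).symm
theorem F341333 : act 5 n51438 = n57939 := (sb E98772 (iv5 D124280))
theorem E98783 : n112460 = n111525 := (((D111525).symm.trans (sb E98773 D112460))).symm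
theorem E98784 : n112461 = n111526 := (((D111526).symm.trans (sb E98773 D112461))).symm
theorem E98785 : n111301 = n110266 := (((iv2 F172695)).symm.trans (sb E98773 (iv2 F170488)))
theorem E98786 : n112458 = n111516 := ((((iv3 F173043)).symm.trans (sb E98773 (iv3 F174943)))).symm
theorem E98787 : n112462 = n110884 := ((((iv4 F171791)).symm.trans (sb E98773 D112462))).symm
theorem F341334 : act 5 n51434 = n25178 := (sb E98773 (iv5 D51881))
theorem E98789 : n111528 = n110257 := ((D111528).symm.trans (sb E98773 (iv7 F170468)))
theorem E98790 : n140511 = n58682 := ((D140511).symm.trans (sb E98774 F116424))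
theorem E98791 : n140512 = n81890 := ((D140512).symm.trans (sb E98774 (iv0 F125909)))
theorem F341335 : act 2 n65948 = n86082 := (sb E98774 F132041)
theorem E98792 : n140506 = n109023 := (((iv3 F223661)).symm.trans (sb E98774 (iv3 F324109)))
theorem E98793 : n140513 = n35400 := ((D140513).symm.trans (sb E98774 (iv4 D77540)))
theorem E98794 : n161507 = n30861 := ((((iv5 D65948)).symm.trans (sb E98774 D161507))).symm
theorem F341336 : act 6 n65948 = n36476 := (sb E98774 F116423)
theorem E98795 : n138487 = n86083 := (((iv7 F221677)).symm.trans (sb E98774 (iv7 F132043)))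
theorem E98796 : n108532 = n57555 := ((F167814).symm.trans (sb E98775 (iv0 D123497)))
theorem F341337 : act 5 n53380 = n86082 := (sb E98775 F304443)
theorem F341338 : act 5 n111303 = n57408 := (sb E98776 (iv5 D123312))
theorem F341339 : act 5 n111305 = n76909 := (sb E98777 (iv5 D160447))
theorem F341340 : act 5 n111531 = n84561 := (sb E98778 (iv5 D177501))
theorem F341341 : act 5 n39019 = n51436 := (sb E98780 (iv5 D111532))
theorem F341342 : act 5 n111302 = n57422 := (sb E98782 (iv5 D123319))
theorem F341343 : act 0 n111525 = n51901 := (sb E98783 (iv1 F174946))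
theorem F341344 : act 5 n111525 = n86173 := (sb E98783 F326438)
theorem F341345 : act 1 n111526 = n51901 := (sb E98784 F174947)
theorem F341346 : act 3 n111526 = n111462 := (sb E98784 (iv3 F174949))
theorem F341347 : act 5 n111526 = n86171 := (sb E98784 F325713)
theorem F341348 : act 2 n110266 = n51434 := (sb E98785 F172695)
theorem F341349 : act 4 n110266 = n53586 := (sb E98785 F172696)
theorem F341350 : act 6 n110266 = n51333 := (sb E98785 (iv6 D111301))
theorem F341351 : act 5 n111516 = n51880 := (sb E98786 (iv5 D112458))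
theorem F341352 : act 1 n110884 = n140708 := (sb E98787 (iv0 F223797))
theorem F341353 : act 7 n110257 = n51434 := (sb E98789 (iv7 D111528))
theorem F341354 : act 1 n58682 = n65948 := (sb E98790 (iv0 D140511))
theorem E98797 : n135022 = n125313 := (((D125313).symm.trans (sb E98790 F223663))).symm
theorem F341355 : act 0 n81890 = n65948 := (sb E98791 (iv1 D140512))
theorem E98798 : n170809 = n116822 := ((D170809).symm.trans (sb E98791 (iv5 F223664)))
theorem F341356 : act 3 n109023 = n65948 := (sb E98792 F223661)
theorem F341357 : act 5 n109023 = n65946 := (sb E98792 (iv5 D140506))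
theorem F341358 : act 4 n35400 = n65948 := (sb E98793 (iv4 D140513))
theorem E98799 : n123501 = n50115 := (((F79357).symm.trans (sb E98794 (iv1 F304200)))).symm
theorem E98800 : n123042 = n65048 := (((F100851).symm.trans (sb E98794 (iv0 F301712)))).symm
theorem E98801 : n123498 = n65046 := ((((iv7 F167806)).symm.trans (sb E98794 (iv7 F301997)))).symm
theorem F341359 : act 7 n86083 = n65948 := (sb E98795 F221677)
theorem F341360 : act 0 n57555 = n53380 := (sb E98796 (iv1 F167814))
theorem E98802 : n123499 = n50117 := ((D123499).symm.trans (sb E98796 F167812))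
theorem E98803 : n123500 = n108438 := ((D123500).symm.trans (sb E98796 F167813))
theorem F341361 : act 2 n125313 = n134487 := (sb E98797 F217244)
theorem F341362 : act 4 n125313 = n63453 := (sb E98797 (iv4 D135022))
theorem F341363 : act 6 n125313 = n108964 := (sb E98797 F217245)
theorem F341364 : act 0 n116822 = n123490 := (sb E98798 (iv1 F303768))
theorem F341365 : act 1 n116822 = n123487 := (sb E98798 (iv0 F303753))
theorem F341366 : act 2 n116822 = n86085 := (sb E98798 F268395)
theorem F341367 : act 5 n116822 = n81890 := (sb E98798 (iv5 D170809))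
theorem E98804 : n108531 = n57556 := ((D108531).symm.trans (sb E98799 F197914))
theorem F341368 : act 7 n50115 = n57555 := (sb E98799 (iv7 D123501))
theorem F341369 : act 2 n65048 = n57555 := (sb E98800 F197191)
theorem E98805 : n138491 = n57254 := (((iv5 F221678)).symm.trans (sb E98800 (iv5 D123042)))
theorem F341370 : act 0 n65046 = n57555 := (sb E98801 (iv1 D123498))
theorem F341371 : act 5 n65046 = n86083 := (sb E98801 F301996)
theorem F341372 : act 4 n50117 = n57555 := (sb E98802 (iv4 D123499))
theorem E98806 : n141956 = n120296 := (((iv5 F225004)).symm.trans (sb E98803 F197913))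
theorem F341373 : act 6 n108438 = n57555 := (sb E98803 (iv6 D123500))
theorem E98807 : n122310 = n65047 := (((iv2 F301715)).symm.trans (sb E98804 F167810))
theorem F341374 : act 5 n57556 = n50115 := (sb E98804 (iv5 D108531))
theorem F341375 : act 5 n57254 = n65048 := (sb E98805 F221678)
theorem F341376 : act 0 n120296 = n66549 := (sb E98806 (iv1 F225005))
theorem F341377 : act 1 n120296 = n66544 := (sb E98806 (iv0 D141956))
theorem E98808 : n156337 = n124237 := ((((iv2 F198730)).symm.trans (sb E98806 (iv2 F245677)))).symm
theorem F341378 : act 5 n120296 = n108438 := (sb E98806 F225004)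
theorem F341379 : act 7 n120296 = n108437 := (sb E98806 F225006)
theorem E98809 : n138488 = n57553 := ((D138488).symm.trans (sb E98807 F301713))
theorem E98810 : n138489 = n57552 := ((D138489).symm.trans (sb E98807 F301714))
theorem F341380 : act 2 n65047 = n57556 := (sb E98807 F301715)
theorem E98811 : n138490 = n56631 := ((D138490).symm.trans (sb E98807 (iv4 D122310)))
theorem E98812 : n138484 = n108732 := (((iv6 F221675)).symm.trans (sb E98807 (iv6 F325542)))
theorem F341381 : act 7 n65047 = n57254 := (sb E98807 F301717)
theorem F341382 : act 0 n124237 = n141836 := (sb E98808 (iv1 F245679))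
theorem F341383 : act 1 n124237 = n141834 := (sb E98808 F245680)
theorem F341384 : act 5 n124237 = n74361 := (sb E98808 F245678)
theorem F341385 : act 7 n124237 = n74360 := (sb E98808 (iv7 D156337))
theorem F341386 : act 1 n57553 = n65047 := (sb E98809 (iv0 D138488))
theorem F341387 : act 0 n57552 = n65047 := (sb E98810 (iv1 D138489))
theorem F341388 : act 4 n56631 = n65047 := (sb E98811 (iv4 D138490))
theorem E98813 : n65045 = n50384 := (((F170952).symm.trans (sb E98812 (iv5 D138484)))).symm
theorem F341389 : act 6 n108732 = n65047 := (sb E98812 F221675)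
theorem E98816 : n109156 = n108529 := (((iv2 F173750)).symm.trans (sb E98813 (iv2 F167799)))
theorem E98817 : n138477 = n109165 := (((D109165).symm.trans (sb E98813 (iv3 F221671)))).symm
theorem E98818 : n134761 = n109166 := (((D109166).symm.trans (sb E98813 (iv4 F216823)))).symm
theorem E98819 : n109168 = n30551 := ((D109168).symm.trans (sb E98813 (iv6 D65045)))
theorem E98820 : n138485 = n109155 := ((((iv7 F173754)).symm.trans (sb E98813 D138485))).symm
theorem F341390 : act 0 n108529 = n50382 := (sb E98816 (iv1 D109156))
theorem F341391 : act 1 n108529 = n50387 := (sb E98816 F169145)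
theorem F341392 : act 2 n108529 = n50384 := (sb E98816 F173750)
theorem F341393 : act 5 n108529 = n111873 := (sb E98816 (iv5 F173746))
theorem F341394 : act 7 n108529 = n50383 := (sb E98816 F173751)
theorem F341395 : act 6 n109165 = n65043 := (sb E98817 (iv6 D138477))
theorem F341396 : act 2 n109166 = n63401 := (sb E98818 F216822)
theorem F341397 : act 6 n109166 = n63329 := (sb E98818 (iv6 D134761))
theorem F341398 : act 6 n30551 = n50384 := (sb E98819 (iv6 D109168))
theorem F341399 : act 6 n109155 = n156333 := (sb E98820 (iv6 F245672))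
theorem F341400 : act 6 n122328 = n115743 := d12_4 D115744 F341269 F195583 D122328 (iv5 D115743)
theorem F341401 : act 7 n178224 = n115744 := d13_0 F341269 F299734 D178224
theorem F341402 : act 4 n119352 = n178224 := d11_3 F341401 F330962 F188455
theorem F341403 : act 6 n140472 = n178224 := d14_5 F341401 (iv6 D115744) F84213 D65930 D140472
theorem F341404 : act 3 n136751 = n119352 := d5_5 F341402 F277779 (iv4 F341276) (iv3 F100113) (iv4 F219950)
theorem F341405 : act 6 n108943 = n157867 := d14_5 F248788 F341400 F180090 (iv6 F336712) (iv7 F168951)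
theorem F341406 : act 4 n183039 = n108943 := d10_3 F341405 F333847 D183039
theorem F341407 : act 3 n140502 = n183039 := d5_5 F341406 (iv3 D108943) F79681 (iv3 F101658) D140502
theorem F341408 : act 6 n88932 = n140502 := d7_0 F341407 (iv6 D183039) (iv3 F284674)
theorem F341409 : act 5 n140502 = n123251 := d21_6 (iv5 D39694) (iv1 F91430) D57972 F91730 D88932 F341408 (iv1 D123251) D123252 F303354 (iv1 F92440)
theorem F341410 : act 6 n102541 = n123251 := d12_4 (iv6 F341408) F294272 (iv6 F294273) D102541 (iv5 F341409)
theorem E98821 : n179783 = n134812 := ((c21_11 (iv5 F301815) (iv1 F197540) (iv5 F341409) (iv6 F341408) (iv1 F295294) F325749 (iv5 D63340) (iv1 D29925) D29927 D63349 D134812)).symm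
theorem F341411 : act 5 n134812 = n122643 := (sb E98821 (iv5 F301815))
theorem F341412 : act 7 n134812 = n85869 := (sb E98821 (iv7 D179783))
theorem E98822 : n134813 = n123252 := ((c15_4 F216931 F216934 F341412 (iv2 F303353))).symm
theorem F341413 : act 0 n123252 = n63349 := (sb E98822 (iv1 D134813))
theorem F341414 : act 1 n123252 = n63526 := (sb E98822 F216931)
theorem E98823 : n134074 = n111131 := ((c21_10 (iv5 F98835) (iv1 F341414) (iv5 D123252) (iv6 D57369) (iv1 D27463) D27464 F328885 (iv1 F53581) D51260 D111131 (iv1 F216084))).symm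
theorem F341415 : act 0 n111131 = n63145 := (sb E98823 (iv1 F216084))
theorem F341416 : act 1 n111131 = n62976 := (sb E98823 (iv0 D134074))
theorem E98824 : n122694 = n57714 := (c21_5 (iv5 D13143) D13140 (iv5 F44245) D56990 D122694 (iv6 F329969) (iv5 F98835) (iv1 F341414) (iv5 D123252) (iv6 D57369) (iv1 D27463))
theorem E98825 : n123850 = n56990 := ((D123850).symm.trans (sb E98824 (iv0 D122694)))
theorem F341417 : act 0 n56990 = n57714 := (sb E98825 (iv1 D123850))
theorem E98826 : n122695 = n57719 := ((D122695).symm.trans (sb E98825 F198308))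
theorem F341418 : act 0 n57719 = n56990 := (sb E98826 (iv1 D122695))
theorem F341419 : act 6 n177968 = n123872 := d21_5 F301754 (iv1 F129946) (iv5 D84717) D84718 D177968 (iv5 D123872) F341418 D122696 F196556 D123205
theorem F341420 : act 7 n123849 = n120335 := d15_2 (iv0 F341418) F198312 F191644
theorem F341421 : act 2 n122697 = n123849 := d4_3 F341420 F191644 D122697
theorem F341422 : act 3 n160089 = n123849 := d8_3 F341420 F191645 D160089
theorem F341423 : act 4 n122702 = n123849 := d11_3 F341420 F191646 D122702
theorem F341424 : act 5 n177931 = n123849 := d13_3 F341420 F300527 D177931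
theorem F341425 : act 6 n122702 = n123849 := d14_5 F341420 (iv6 D120335) F87654 D56992 D122702
theorem E98827 : n177968 = n134077 := ((c12_6 F341419 (iv5 D123872) F329886 F80892 D62977 D134077)).symm
theorem E98828 : n135208 = n84718 := ((F217385).symm.trans (sb E98827 (iv0 D177968)))
theorem F341426 : act 6 n134077 = n123872 := (sb E98827 F341419)
theorem F341427 : act 0 n84718 = n134077 := (sb E98828 (iv1 F217385))
theorem E98829 : n177969 = n63530 := ((D177969).symm.trans (sb E98828 (iv0 D135208)))
theorem F341428 : act 0 n63530 = n84718 := (sb E98829 (iv1 D177969))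
theorem F341429 : act 7 n135209 = n177764 := d15_2 (iv0 F341428) D135209 F277225
theorem F341430 : act 2 n177971 = n135209 := d4_3 F341429 F277225 D177971
theorem F341431 : act 6 n177982 = n135209 := d14_5 F341429 (iv6 D177764) F129839 D84721 D177982
theorem F341432 : act 0 n133289 = n123446 := d17_0 F306408 F341427 (iv5 D134077) F98274 F47930 F48192 D63534 (iv0 F164113) (iv4 F214253)
theorem F341433 : act 2 n130839 = n98440 := d15_3 (iv0 F306407) (iv0 F341432) F214254
theorem F341434 : act 4 n98440 = n109028 := d1_2 (iv4 F209404) F341433 F169024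
theorem F341435 : act 2 n123872 = n134443 := d3_1 F341426 F216408 (iv2 F216087)
theorem F341436 : act 0 n123852 = n138632 := d21_1 D123852 (iv5 D138632) (iv6 D65091) F329213 (iv6 D27464) (iv5 D13143) D13140 (iv5 F44245) D56990 F341417
theorem E98830 : n138323 = n134075 := ((c15_2 F341416 D134075 (iv7 D138323) (iv2 F172344))).symm
theorem F341437 : act 3 n134075 = n67115 := (sb E98830 F337206)
theorem F341438 : act 4 n134075 = n67130 := (sb E98830 F337207)
theorem F341439 : act 6 n134075 = n156491 := (sb E98830 (iv6 F246027))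
theorem F341440 : act 7 n134075 = n64970 := (sb E98830 (iv7 D138323))
theorem E98831 : n143001 = n134073 := ((c11_2 F341440 (iv4 F216081) F225868 (iv4 F341438))).symm
theorem F341441 : act 3 n134073 = n67022 := (sb E98831 (iv3 D143001))
theorem F341442 : act 7 n134073 = n67130 := (sb E98831 F225868)
theorem E98832 : n143302 = n134421 := (c4_2 F341442 D143302 (iv7 D134421) (iv2 F216080))
theorem F341443 : act 2 n134421 = n67130 := (sb E98832 (iv2 D143302))
theorem E98833 : n143301 = n134419 := ((c15_1 D134419 (iv0 D143301) (iv7 F341442) F216080)).symm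
theorem F341444 : act 1 n134419 = n67130 := (sb E98833 (iv0 D143301))
theorem E98834 : n138319 = n134419 := ((c21_5 (iv5 D102541) (iv1 F74794) D102440 F316953 (iv1 F341444) (iv6 D138319) F100768 (iv1 F48987) D51298 (iv6 F329502) (iv1 F289880))).symm
theorem F341445 : act 2 n134419 = n156487 := (sb E98834 (iv2 F246023))
theorem F341446 : act 4 n134419 = n110809 := (sb E98834 F221515)
theorem F341447 : act 6 n134419 = n64969 := (sb E98834 (iv6 D138319))
theorem F341448 : act 7 n117434 = n156487 := d15_2 F341444 (iv0 F183941) (iv2 F341445)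
theorem F341449 : act 3 n156487 = n117274 := d8_1 F341448 F183522 D117434
theorem E98835 : n117250 = n110797 := ((c11_2 F341448 F246024 F183478 (iv4 F183940))).symm
theorem F341450 : act 3 n110797 = n54040 := (sb E98835 (iv3 D117250))
theorem E98836 : n148128 = n108427 := (((F171540).symm.trans (sb E98835 (iv5 F231938)))).symm
theorem F341451 : act 7 n110797 = n68874 := (sb E98835 F183478)
theorem F341452 : act 3 n108427 = n69399 := (sb E98836 (iv3 D148128))
theorem F341453 : act 7 n108427 = n146924 := (sb E98836 F231939)
theorem E98837 : n148130 = n108426 := (c7_3 D108427 F341452 D148130 F167638)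
theorem F341454 : act 2 n108426 = n146936 := (sb E98837 F231943)
theorem F341455 : act 6 n108426 = n69399 := (sb E98837 (iv6 D148130))
theorem F341456 : act 7 n146923 = n110809 := d4_2 F341451 D146923 F171575
theorem F341457 : act 7 n146925 = n134139 := d14_2 F341451 D146925 (iv6 D134139) F98323 D110797
theorem F341458 : act 1 n110809 = n146921 := d15_0 (iv0 D146921) (iv7 F341451) (iv2 F171575)
theorem F341459 : act 3 n134139 = n146930 := d8_1 F341457 (iv7 D146930) (iv3 F230327)
theorem F341460 : act 1 n146922 = n110809 := d15_1 D146922 (iv7 F341456) (iv2 D146923)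
theorem E98838 : n146922 = n111188 := (c21_5 (iv5 D29837) (iv1 F38931) D51086 D110809 (iv1 F341460) (iv6 D111188) F80885 (iv1 F48176) F329118 F329774 (iv1 F98373))
theorem F341461 : act 0 n111188 = n68874 := (sb E98838 (iv1 D146922))
theorem F341462 : act 1 n111188 = n110809 := (sb E98838 F341460)
theorem F341463 : act 7 n146921 = n111260 := d15_2 F341462 F341458 F172560
theorem E98839 : n164572 = n134183 := ((c20_4 F341446 (iv1 F341462) F172433 (iv3 F216223) (iv1 F259445) (iv3 D143124) (iv4 D67068) (iv1 F49551) D31243 D67130 (iv1 F341444))).symm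
theorem F341464 : act 0 n134183 = n143124 := (sb E98839 (iv1 F259445))
theorem F341465 : act 1 n134183 = n79048 := (sb E98839 (iv0 D164572))
theorem F341466 : act 6 n134173 = n175159 := d21_9 F336356 (iv1 F172512) (iv5 F333939) F259421 (iv1 F341465) (iv6 D134183) (iv5 D63036) D63033 D134173 (iv1 F336353)
theorem F341467 : act 2 n175368 = n134173 := d3_3 F341466 F274170 D175368
theorem F341468 : act 4 n175161 = n134173 := d10_3 F341466 (iv4 D175159) D175161
theorem F341469 : act 5 n134023 = n175368 := d2_0 F341467 (iv5 D134173) (iv2 F215982)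
theorem F341470 : act 0 n146924 = n120308 := d21_1 D146924 (iv5 D120308) (iv6 D55365) (iv1 F44335) D57260 (iv5 F329104) F53579 (iv5 F80885) D111188 F341461
theorem E98840 : n134188 = n123123 := (c17_1 D134188 F253208 (iv1 D160307) (iv5 D76830) (iv4 F87628) D120308 (iv0 F341470) (iv5 D146924) (iv0 F341461) F172433)
theorem F341471 : act 1 n123123 = n63038 := (sb E98840 (iv0 D134188))
theorem E98841 : n123901 = n68874 := (c21_6 (iv5 D27424) (iv1 F21905) (iv5 F21963) D27564 D57727 D123901 D146924 F341470 (iv5 D120308) (iv6 D55365) (iv1 F44335))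
theorem E98842 : n146925 = n57727 := ((D146925).symm.trans (sb E98841 (iv6 D123901)))
theorem E98843 : n123898 = n68876 := ((D123898).symm.trans (sb E98842 F230327))
theorem F341472 : act 6 n57727 = n68874 := (sb E98842 (iv6 D146925))
theorem E98844 : n134139 = n123902 := (((D123902).symm.trans (sb E98842 F341457))).symm
theorem F341473 : act 3 n68876 = n57727 := (sb E98843 (iv3 D123898))
theorem F341474 : act 3 n123902 = n146930 := (sb E98844 F341459)
theorem F341475 : act 4 n123902 = n110827 := (sb E98844 F216177)
theorem F341476 : act 6 n123902 = n63007 := (sb E98844 (iv6 D134139))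
theorem F341477 : act 1 n146924 = n120472 := d15_1 (iv0 F341470) (iv7 D120472) (iv2 F191565)
theorem F341478 : act 1 n108521 = n120308 := d15_0 (iv0 F341470) (iv7 F341453) (iv2 F167780)
theorem E98845 : n123906 = n108812 := ((c3_2 F341476 (iv2 F168754) (iv6 D123906) (iv2 F198336))).symm
theorem F341479 : act 6 n108812 = n57728 := (sb E98845 (iv6 D123906))
theorem E98846 : n123902 = n57709 := (c21_4 (iv5 D29829) D29827 (iv5 F98320) (iv6 F341476) (iv1 D57709) (iv6 D27559) F21956 F21810 D13165 D27532 (iv1 F329503))
theorem E98847 : n123827 = n57728 := (((iv2 F198294)).symm.trans (sb E98846 F198336))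
theorem E98848 : n146930 = n123828 := (((D123828).symm.trans (sb E98846 F341474))).symm
theorem E98849 : n123829 = n110827 := ((D123829).symm.trans (sb E98846 F341475))
theorem E98850 : n123831 = n63007 := ((D123831).symm.trans (sb E98846 F341476))
theorem E98851 : n123822 = n57727 := ((F198292).symm.trans (sb E98846 (iv7 D123902)))
theorem F341480 : act 2 n57728 = n57709 := (sb E98847 F198294)
theorem E98852 : n123897 = n57708 := ((F198335).symm.trans (sb E98847 (iv7 D123827)))
theorem F341481 : act 6 n123828 = n134138 := (sb E98848 (iv6 F336973))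
theorem F341482 : act 7 n123828 = n68876 := (sb E98848 (iv7 D146930))
theorem F341483 : act 4 n110827 = n57709 := (sb E98849 (iv4 D123829))
theorem F341484 : act 6 n63007 = n57709 := (sb E98850 (iv6 D123831))
theorem F341485 : act 7 n57727 = n57709 := (sb E98851 (iv7 F198292))
theorem F341486 : act 2 n57708 = n57727 := (sb E98852 (iv2 D123897))
theorem F341487 : act 7 n57708 = n57728 := (sb E98852 (iv7 F198335))
theorem F341488 : act 7 n123903 = n123823 := d8_2 F341487 D123903 (iv3 D123823)
theorem F341489 : act 7 n123904 = n123824 := d11_2 F341487 D123904 (iv4 D123824)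
theorem F341490 : act 7 n123905 = n123825 := d13_2 F341487 D123905 (iv5 D123825)
theorem E98853 : n146923 = n123826 := (c14_5 F341487 (iv6 F341479) F168756 D110809 (iv7 F341456) (iv6 D123826))
theorem F341491 : act 2 n123826 = n68874 := (sb E98853 (iv2 D146923))
theorem F341492 : act 7 n123826 = n110809 := (sb E98853 F341456)
theorem F341493 : act 7 n108521 = n120470 := d13_2 F341492 F171576 (iv5 F198293)
theorem F341494 : act 2 n120470 = n146924 := d4_1 F341493 (iv7 F341453) (iv2 F167780)
theorem F341495 : act 1 n120472 = n108521 := d15_1 F341477 F341493 F341494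
theorem E98854 : n120469 = n108427 := ((c15_4 (iv0 D120469) D120470 (iv7 F341493) F167780)).symm
theorem F341496 : act 1 n108427 = n55457 := (sb E98854 (iv0 D120469))
theorem F341497 : act 2 n123899 = n123824 := d1_3 (iv4 D123824) F341486 D123899
theorem F341498 : act 2 n123900 = n123825 := d2_3 (iv5 D123825) F341486 D123900
theorem F341499 : act 7 n110827 = n123899 := d11_2 F341485 (iv4 F341483) (iv4 D123899)
theorem F341500 : act 7 n123830 = n123900 := d13_2 F341485 D123830 (iv5 D123900)
theorem F341501 : act 2 n123905 = n123830 := d4_3 F341500 F341498 (iv7 F341490)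
theorem E98855 : n156485 = n123904 := ((c4_3 F341499 F341497 (iv7 F341489) F246019)).symm
theorem F341502 : act 2 n123904 = n110827 := (sb E98855 F246019)
theorem F341503 : act 5 n123904 = n110817 := (sb E98855 F246020)
theorem F341504 : act 6 n123904 = n74415 := (sb E98855 (iv6 D156485))
theorem F341505 : act 5 n123899 = n110912 := d13_1 F341499 (iv7 D110912) (iv5 F171649)
theorem F341506 : act 6 n123899 = n117434 := d14_1 F341499 F341448 (iv6 D156487) F111688 D110827
theorem F341507 : act 3 n117436 = n123899 := d7_3 F341506 (iv3 D117434) D117436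
theorem F341508 : act 3 n110912 = n136359 := d6_3 (iv5 F328433) F341507 F341505
theorem F341509 : act 7 n136359 = n110903 := d8_2 D110912 F341508 F171811
theorem E98856 : n161576 = n123904 := ((c21_4 (iv5 D34173) D34170 (iv5 F111683) (iv6 F341504) (iv1 D161576) (iv6 D77606) (iv5 D35424) F28146 D27410 D57218 (iv1 F329489))).symm
theorem F341510 : act 0 n123904 = n77606 := (sb E98856 (iv1 D161576))
theorem F341511 : act 1 n123904 = n122702 := (sb E98856 F255572)
theorem E98857 : n161575 = n123899 := (c15_2 F341511 F255578 (iv7 F341499) (iv2 F341502))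
theorem F341512 : act 0 n123899 = n122702 := (sb E98857 (iv1 F255578))
theorem F341513 : act 1 n123899 = n77606 := (sb E98857 (iv0 D161575))
theorem F341514 : act 0 n136358 = n122653 := d21_7 (iv5 D27417) (iv1 F28147) D35424 D77606 (iv1 F341513) F341506 F328432 (iv5 D122653) (iv6 D56974) (iv1 F44319)
theorem F341515 : act 5 n135909 = n159137 := d21_2 F332958 D135909 (iv6 D159137) (iv1 F300525) (iv6 F255574) (iv5 D161577) (iv1 F341513) F341505 (iv6 F332965) (iv1 F332957)
theorem F341516 : act 3 n159137 = n136597 := d6_1 F341515 (iv5 D136597) (iv3 F218631)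
theorem E98858 : n160353 = n135909 := (c12_1 D160353 F341515 (iv6 D159137) (iv5 D76074) (iv6 F299037) D76860)
theorem F341517 : act 6 n135909 = n76860 := (sb E98858 (iv6 D160353))
theorem F341518 : act 7 n159137 = n135922 := d13_2 (iv7 F218632) F341515 (iv5 D135922)
theorem F341519 : act 6 n179866 = n111744 := d21_5 (iv5 D77607) (iv1 F300012) D39736 D85907 D179866 F332958 D135909 F341515 (iv6 D159137) (iv1 F300525)
theorem F341520 : act 1 n135924 = n159137 := d15_1 D135924 F341518 F218638
theorem F341521 : act 1 n159160 = n135922 := d15_1 D159160 (iv7 F341518) F250556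
theorem F341522 : act 6 n160352 = n156009 := d10_2 F341517 D160352 F245112
theorem F341523 : act 5 n135919 = n177999 := d21_6 (iv5 D56977) (iv1 F115381) D76860 (iv6 F341517) (iv1 F218633) D135919 (iv1 D177999) (iv5 F198921) (iv6 D124389) F301788
theorem F341524 : act 2 n156027 = n160352 := d3_3 F341522 (iv2 F245110) D156027
theorem F341525 : act 3 n156212 = n160352 := d7_3 F341522 F245111 D156212
theorem F341526 : act 6 n136597 = n159134 := d7_2 D159137 F341516 F250553
theorem F341527 : act 2 n159134 = n136657 := d3_1 F341526 F219807 (iv2 F219674)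
theorem F341528 : act 4 n136597 = n159134 := d1_0 F341527 F219806 (iv2 F219674)
theorem F341529 : act 5 n136657 = n150119 := d2_2 D159134 F341527 F236276
theorem F341530 : act 7 n136642 = n159134 := d4_0 F341527 (iv7 D136657) (iv2 F219789)
theorem F341531 : act 3 n120532 = n136642 := d8_3 F341530 F250553 (iv7 F301666)
theorem F341532 : act 1 n136653 = n159134 := d15_1 D136653 (iv7 F341530) F219789
theorem F341533 : act 6 n159709 = n133506 := d21_9 (iv5 D64217) D64213 D136597 F341526 (iv1 F341532) F309899 (iv5 D76410) D76408 D159709 (iv1 F219692)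
theorem F341534 : act 3 n133507 = n159709 := d7_3 F341533 F214693 D133507
theorem F341535 : act 5 n133500 = n159710 := d12_3 F341533 (iv5 D133506) (iv6 F214685) (iv6 D159710) D159709
theorem E98859 : n159710 = n145931 := (c6_1 F341535 (iv3 D145931) F328431 D133500)
theorem F341536 : act 5 n145931 = n133500 := (sb E98859 (iv5 F341535))
theorem F341537 : act 6 n145931 = n76408 := (sb E98859 (iv6 D159710))
theorem F341538 : act 0 n137878 = n145931 := d21_7 (iv5 F219788) (iv1 D136641) (iv5 D64226) F48632 F102781 D64803 D137878 F341536 F214685 D133503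
theorem F341539 : act 4 n159732 = n137878 := d17_9 F341538 F341536 (iv1 F341191) (iv5 D151432) F107882 D71392 D151445 (iv5 F238182) D159732
theorem E98860 : n137877 = n137466 := ((c17_10 (iv1 D137877) D137878 F341538 F341536 F214684 (iv5 F181644) (iv0 F210315) (iv5 D67026) (iv0 F320526) (iv4 F220669))).symm
theorem F341540 : act 0 n137466 = n64803 := (sb E98860 (iv1 D137877))
theorem F341541 : act 1 n137466 = n64824 := (sb E98860 F221100)
theorem F341542 : act 4 n145936 = n143119 := d18_3 F341538 F229152 D145936 F225964 F103042 (iv0 F320284) D69338 F323277 D137878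
theorem F341543 : act 4 n186510 = n144938 := d1_2 F341542 F335426 F229162
theorem E98861 : n144937 = n143118 := ((c11_4 F229164 F341542 (iv7 D143119) D143118)).symm
theorem F341544 : act 0 n143118 = n145938 := (sb E98861 (iv1 F229168))
theorem F341545 : act 1 n143118 = n67948 := (sb E98861 (iv0 D144937))
theorem F341546 : act 2 n143118 = n145937 := (sb E98861 (iv2 F229163))
theorem F341547 : act 7 n143118 = n145936 := (sb E98861 F229164)
theorem F341548 : act 4 n145937 = n142998 := d1_2 D143118 F341546 F225857
theorem F341549 : act 3 n142998 = n137899 := d5_1 F341548 (iv4 D137899) (iv3 F221130) (iv4 F228532) F229160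
theorem F341550 : act 7 n142998 = n186510 := d11_2 (iv7 F229161) F341548 F341543
theorem F341551 : act 3 n186510 = n139758 := d8_1 F341550 F222937 (iv3 F341549)
theorem F341552 : act 5 n186510 = n141767 := d13_1 F341550 F319177 D142998
theorem F341553 : act 1 n143117 = n186510 := d15_1 D143117 (iv7 F341550) F225857
theorem F341554 : act 3 n141767 = n117614 := d6_1 F341552 (iv5 F222933) (iv3 F341551)
theorem F341555 : act 0 n159728 = n186510 := d17_0 F341552 F319173 (iv5 F334856) (iv4 D71470) D71471 F238506 F238501 F259142 (iv4 F251652)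
theorem F341556 : act 5 n181740 = n159728 := d17_1 F282907 F341555 F341552 (iv4 D141767) (iv5 F318372) F314489 F312194 F233150 D148014
theorem E98862 : n138338 = n99669 := ((c21_4 F74591 D99074 F157305 D99669 F313681 D181740 F341556 F341555 F341552 F319176 (iv1 F334880))).symm
theorem F341557 : act 0 n99669 = n86783 := (sb E98862 F313681)
theorem F341558 : act 1 n99669 = n86797 := (sb E98862 F313682)
theorem F341559 : act 2 n99669 = n133579 := (sb E98862 F221545)
theorem F341560 : act 4 n99669 = n64982 := (sb E98862 (iv4 D138338))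
theorem F341561 : act 7 n99669 = n133576 := (sb E98862 F221546)
theorem F341562 : act 0 n186491 = n151629 := d21_4 (iv5 D41471) D41469 D88823 D186491 (iv6 D151629) F334861 (iv1 F319174) (iv5 F341552) (iv6 D186510) (iv1 D88831)
theorem E98863 : n118724 = n99667 := (c10_3 D99669 F341560 (iv6 F313683) (iv4 D99667))
theorem F341563 : act 0 n99667 = n54661 := (sb E98863 (iv1 D118724))
theorem F341564 : act 1 n99667 = n54690 := (sb E98863 F305895)
theorem F341565 : act 2 n99667 = n54703 := (sb E98863 F187220)
theorem F341566 : act 3 n99667 = n72611 := (sb E98863 (iv3 F190929))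
theorem F341567 : act 5 n99667 = n55117 := (sb E98863 (iv5 F186745))
theorem F341568 : act 6 n99667 = n64982 := (sb E98863 F313683)
theorem F341569 : act 7 n99667 = n54702 := (sb E98863 F187221)
theorem F341570 : act 1 n139067 = n181739 := d17_6 F311304 (iv5 D39338) D39334 (iv5 F310035) D65278 D139067 (iv5 D181739) (iv0 F341557) F341560
theorem F341571 : act 1 n181739 = n139106 := d15_1 F341570 (iv7 D139106) (iv2 F222247)
theorem F341572 : act 0 n139068 = n102010 := d21_4 D181739 (iv1 F341570) (iv5 D139067) D139068 (iv6 D102010) F74591 D99074 F157305 D99669 F341557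
theorem E98864 : n148030 = n143459 := (c21_11 (iv5 D143459) D143455 F335427 F321996 F114300 F314641 (iv5 F222292) (iv1 F341571) (iv5 D181739) D181740 F282912)
theorem F341573 : act 1 n143459 = n181740 := (sb E98864 (iv0 F282912))
theorem F341574 : act 4 n143459 = n69334 := (sb E98864 (iv4 D148030))
theorem F341575 : act 4 n148009 = n151317 := d16_2 D69328 D148009 (iv5 D151317) F321916 D143459 F341574 (iv5 D69334) F247819 (iv2 F247812)
theorem F341576 : act 2 n145005 = n148009 := d1_3 F341575 (iv2 F252152) (iv4 F341185)
theorem F341577 : act 6 n151319 = n148009 := d10_0 F341575 F238036 D151319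
theorem F341578 : act 7 n148028 = n145005 := d16_8 F341575 (iv5 D151317) F321916 D143459 F341574 (iv5 D69334) D69333 D148028 F341576
theorem F341579 : act 3 n114579 = n148028 := d8_3 F341578 F227964 (iv7 F318210)
theorem F341580 : act 2 n148028 = n114394 := d0_1 F341579 F178420 (iv2 F161736) F321213 (iv2 F318208)
theorem F341581 : act 7 n114394 = n148009 := d4_2 (iv7 F341578) F341580 (iv2 F341576)
theorem F341582 : act 3 n148009 = n105405 := d8_1 F341581 F161747 (iv3 F178420)
theorem F341583 : act 1 n151662 = n114394 := d15_1 (iv0 F334849) F341581 (iv2 F341576)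
theorem F341584 : act 3 n130604 = n151319 := d7_3 F341577 F341582 (iv6 F209178)
theorem F341585 : act 3 n107553 = n131131 := d8_3 F210027 F341584 F238038
theorem F341586 : act 3 n159351 = n136341 := d19_7 F96201 D131335 F210502 F341585 (iv1 D131131) (iv5 F114203) (iv4 F250869) (iv1 D136341) (iv5 D64099) F48594 (iv3 D24092) (iv1 F23239) D29333 F46995 (iv3 F77734) (iv1 F136657) (iv5 D89019) F64164 F55476
theorem F341587 : act 6 n136341 = n159350 := d7_2 D159351 F341586 (iv3 D159350)
theorem F341588 : act 6 n145005 = n107552 := d3_2 F341577 (iv2 F341576) (iv2 F238037)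
theorem F341589 : act 3 n107552 = n145007 := d7_1 F341588 (iv6 D145007) (iv3 F227964)
theorem F341590 : act 3 n144998 = n105874 := d5_3 (iv4 F165935) F341589 F227966 (iv4 D105874) (iv3 F162588)
theorem F341591 : act 6 n105874 = n144996 := d7_2 D144998 F341590 F227961
theorem E98865 : n159607 = n132014 := (c20_7 (iv4 D121363) F88607 D105874 (iv3 F341590) F319880 F251409 D159607 F211511 D132126 F211654 (iv1 F193594))
theorem F341592 : act 4 n132014 = n76361 := (sb E98865 (iv4 D159607))
theorem F341593 : act 5 n148713 = n132013 := d16_1 D148713 (iv4 D132013) D132014 F341592 (iv5 D76361) F177837 D69701 F193526 F193520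
theorem F341594 : act 5 n110777 = n106622 := d17_1 F177831 (iv1 F164234) D132014 F341592 (iv5 D76361) F83156 F83153 F78004 D106758
theorem F341595 : act 5 n106542 = n106453 := d17_5 (iv1 F251387) F251389 (iv1 D106371) F77751 D106542 (iv0 D106453) (iv5 F96579) (iv0 F211511) F341592
theorem E98866 : n164204 = n132126 := (c18_5 D78962 (iv4 F178973) (iv1 F178976) (iv4 F161877) (iv5 F258811) (iv4 D132126) (iv0 F211511) F341592 F193524 (iv5 D78964))
theorem F341596 : act 0 n132126 = n78882 := (sb E98866 (iv1 D164204))
theorem F341597 : act 1 n132126 = n78887 := (sb E98866 F258809)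
theorem F341598 : act 2 n132126 = n114967 := (sb E98866 (iv2 F258812))
theorem F341599 : act 5 n132126 = n105465 := (sb E98866 F258811)
theorem F341600 : act 6 n132126 = n106693 := (sb E98866 (iv6 F258813))
theorem F341601 : act 7 n132126 = n114857 := (sb E98866 F258810)
theorem E98867 : n159599 = n132009 := (c9_10 D76361 (iv4 F341592) (iv5 D132014) D132013 (iv5 F341593) (iv4 D148713) (iv5 D69696) F177812 D76356 D159599 (iv5 D132009) D132008 (iv5 F212958) F327790 (iv5 D69701) (iv4 F177837))
theorem F341602 : act 4 n132009 = n76356 := (sb E98867 (iv4 D159599))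
theorem F341603 : act 3 n164416 = n106797 := d20_3 F341602 F120142 D164416 (iv1 D106797) F78014 (iv4 F38890) (iv1 F38892) (iv4 F47010) D61988 (iv1 F212478)
theorem F341604 : act 3 n114857 = n105415 := d8_1 F341601 (iv7 F163731) (iv3 F211654)
theorem F341605 : act 4 n114857 = n106649 := d11_1 F341601 F164272 D132126
theorem F341606 : act 4 n114967 = n132125 := d16_0 F211653 (iv4 F217867) F217868 F327782 (iv5 D76468) (iv4 F136443) D114857 (iv7 F341601) F341598
theorem F341607 : act 4 n126518 = n159635 := d9_13 D114967 F341606 F211653 (iv4 F217867) F217868 F327782 (iv5 D76468) (iv4 F136443) D114857 F341605 F164271 (iv4 F99031) (iv5 F203428) (iv5 F251474) F178969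
theorem F341608 : act 5 n106674 = n106758 := d17_7 D49696 (iv5 F161881) (iv1 F161884) D114967 F341606 F211653 F164358 F177832 F78523
theorem F341609 : act 7 n106453 = n106674 := d13_0 F341608 F164561 F341595
theorem F341610 : act 2 n106674 = n106454 := d15_3 F164363 F164361 F341609
theorem F341611 : act 2 n106453 = n106675 := d15_3 F164362 F164358 (iv7 F341609)
theorem F341612 : act 7 n106675 = n106454 := d4_2 (iv7 F341609) F341611 (iv2 F341610)
theorem F341613 : act 5 n106454 = n106539 := d13_1 F341612 (iv7 F164566) F322877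
theorem E98868 : n132127 = n131957 := (c21_4 (iv5 F341613) (iv1 D106454) (iv5 F96579) D132127 (iv1 D131957) (iv6 D61914) (iv5 D29333) (iv1 F37708) (iv5 F38885) D51069 (iv1 F177656))
theorem F341614 : act 3 n131957 = n61989 := (sb E98868 F211655)
theorem F341615 : act 6 n131957 = n61988 := (sb E98868 (iv6 D132127))
theorem F341616 : act 4 n106693 = n131957 := d10_3 F341615 D132126 F341600
theorem F341617 : act 0 n106509 = n151452 := d20_4 F341616 (iv1 D131957) F96520 (iv3 F163771) (iv3 D151452) (iv4 D71395) (iv1 F78520) (iv4 F165943) (iv3 F324329) (iv1 F164406)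
theorem F341618 : act 4 n132128 = n106527 := d20_0 (iv1 F164541) F333532 F96470 F46976 (iv3 F78054) F325498 (iv1 F164406) F341616 F341614 D132128
theorem E98869 : n132130 = n113399 := ((c18_9 D132128 F341618 (iv1 F164541) F333532 (iv5 D61886) F324333 F161494 (iv4 F203012) F203016 (iv5 D132130))).symm
theorem F341619 : act 5 n113399 = n61989 := (sb E98869 (iv5 D132130))
theorem F341620 : act 6 n113399 = n106459 := (sb E98869 F211656)
theorem F341621 : act 5 n113354 = n128967 := d21_6 F329264 F164036 D106459 (iv6 F341620) (iv1 F203016) F203013 (iv1 D128967) D128968 F207179 (iv1 F329263)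
theorem F341622 : act 7 n128967 = n113353 := d13_2 D113354 F341621 (iv5 D113353)
theorem F341623 : act 4 n128968 = n92701 := d17_4 F176997 F341621 (iv1 D128967) D128968 (iv5 D92701) F135445 F135441 F94267 D113745
theorem F341624 : act 4 n128850 = n113437 := d18_3 (iv1 D128967) F95250 D128850 (iv5 D113437) F82738 D52520 D113750 F177002 F341621
theorem F341625 : act 3 n96675 = n128850 := d5_5 F341624 F331142 (iv4 D58173) (iv3 F297488) (iv4 F148993)
theorem F341626 : act 6 n113441 = n128850 := d10_0 F341624 F176624 D113441
theorem E98870 : n163610 = n128961 := (c20_5 (iv4 D78622) (iv1 D35813) (iv4 F56471) (iv3 F119781) D163610 F207176 F95250 D128850 F341624 F331142 (iv1 F299101))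
theorem F341627 : act 1 n128961 = n78610 := (sb E98870 (iv0 D163610))
theorem E98871 : n158329 = n128961 := ((c20_8 (iv4 F151596) (iv1 F151605) F321832 (iv3 D58692) F45063 (iv3 F56475) (iv4 F119782) (iv1 F341627) (iv4 D158329) F113292 D75500)).symm
theorem F341628 : act 4 n128961 = n75484 := (sb E98871 (iv4 D158329))
theorem F341629 : act 2 n180255 = n128961 := d1_3 F341628 F324621 D180255
theorem F341630 : act 1 n161596 = n163674 := d18_8 (iv1 D78635) (iv4 F119782) (iv1 F341627) F341628 (iv5 D75484) F305917 D133095 F305918 (iv5 D163674)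
theorem F341631 : act 7 n163674 = n131709 := d15_2 F315281 F341630 F306579
theorem F341632 : act 3 n170452 = n163674 := d20_3 F118923 D81716 D170452 (iv1 F341630) (iv3 D161596) F304581 F104182 (iv4 F316271) (iv3 F132048) (iv1 F320688)
theorem F341633 : act 6 n121035 = n128293 := d21_5 D163674 (iv1 F341630) F318580 F123947 D121035 (iv5 D128293) F310176 (iv5 F330161) F262287 (iv1 F258001)
theorem F341634 : act 5 n128291 = n121035 := d12_5 F341633 (iv5 D128293) (iv6 D60310) D60309 D128291
theorem E98872 : n163045 = n128291 := (c21_8 (iv5 D127885) F308673 D133875 F337762 (iv1 D79597) (iv6 F299710) D78399 D163045 F341634 F341633 F206413)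
theorem F341635 : act 0 n128291 = n177557 := (sb E98872 (iv1 F277003))
theorem F341636 : act 1 n128291 = n78399 := (sb E98872 (iv0 D163045))
theorem E98873 : n177681 = n166646 := (c21_2 D162957 (iv1 F277121) (iv5 D166646) (iv6 D79983) (iv1 D36428) D36430 D79987 (iv1 F316578) D128293 (iv6 F341633) (iv1 F193007))
theorem F341637 : act 0 n166646 = n84613 := (sb E98873 (iv1 D177681))
theorem F341638 : act 1 n166646 = n162957 := (sb E98873 F277121)
theorem E98874 : n177680 = n177549 := (c15_2 F341638 F277116 (iv7 F338330) F329760)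
theorem F341639 : act 0 n177549 = n162957 := (sb E98874 (iv1 F277116))
theorem F341640 : act 1 n177549 = n84613 := (sb E98874 (iv0 D177680))
theorem E98875 : n167936 = n113292 := ((c21_4 (iv5 F204835) F204836 (iv5 D113291) D113292 (iv1 D167936) F123947 (iv5 F129783) (iv1 F341640) (iv5 D177549) (iv6 F338325) (iv1 F202947))).symm
theorem F341641 : act 0 n113292 = n80611 := (sb E98875 (iv1 D167936))
theorem F341642 : act 3 n124651 = n113312 := d20_9 (iv4 F176506) F341641 F299822 (iv3 D124612) (iv1 D58187) D58188 F91977 D58248 D124651 (iv1 D113312)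
theorem F341643 : act 2 n133008 = n167935 := d15_3 (iv0 D167935) (iv0 F341641) (iv7 F338315)
theorem F341644 : act 5 n167935 = n132964 := d2_2 D133008 F341643 F213601
theorem F341645 : act 6 n167935 = n120939 := d3_2 (iv6 F213663) F341643 F338316
theorem F341646 : act 6 n127880 = n163674 := d21_9 F318580 D167935 F341644 (iv6 D132964) (iv1 F312940) (iv6 D128093) (iv5 F192388) (iv1 F267389) F267386 (iv1 F341630)
theorem F341647 : act 6 n133055 = n161596 := d21_5 F312942 (iv1 F96739) F212087 D62434 D133055 F318580 D167935 F341644 (iv6 D132964) (iv1 F312940)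
theorem E98876 : n133127 = n133055 := (c7_4 F341647 (iv3 D161596) (iv6 F306594) D133127)
theorem F341648 : act 3 n133055 = n62459 := (sb E98876 (iv3 D133127))
theorem F341649 : act 7 n133055 = n130446 := (sb E98876 F213817)
theorem F341650 : act 5 n155662 = n133055 := d12_5 F341647 F318580 F123947 (iv5 F129783) (iv6 F313874)
theorem F341651 : act 2 n130446 = n133056 := d15_3 F217715 F217717 F341649
theorem F341652 : act 3 n133056 = n130366 := d0_2 D130446 F341651 (iv2 F339297) (iv3 D133130) (iv2 F182268)
theorem F341653 : act 5 n133056 = n155658 := d2_2 (iv5 F320267) F341651 F244681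
theorem F341654 : act 2 n163674 = n172242 := d3_1 F341646 (iv6 D172242) F205793
theorem F341655 : act 6 n170452 = n118527 := d7_2 F341646 (iv3 F341632) F305813
theorem F341656 : act 4 n163674 = n152660 := d10_1 F341646 F312094 (iv4 F205792)
theorem E98877 : n163675 = n79787 := (c12_3 F341646 (iv5 D163674) D163675 D166173 F337730 F267386)
theorem E98878 : n166174 = n78635 := ((D166174).symm.trans (sb E98877 (iv6 D163675)))
theorem F341657 : act 6 n78635 = n79787 := (sb E98878 (iv6 D166174))
theorem F341658 : act 6 n121698 = n163671 := d3_2 F341657 (iv2 F337736) F258004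
theorem F341659 : act 6 n166171 = n163672 := d7_2 F341657 D166171 (iv3 D163672)
theorem F341660 : act 6 n166172 = n163673 := d10_2 F341657 D166172 (iv4 D163673)
theorem F341661 : act 3 n163671 = n178548 := d7_1 F341658 (iv6 D178548) (iv3 F337737)
theorem F341662 : act 5 n163671 = n172242 := d12_1 F341658 (iv6 D172242) (iv5 F192395) (iv6 F192396) (iv5 F337738)
theorem F341663 : act 7 n163670 = n166169 := d14_4 (iv7 F337739) F341658 (iv7 D163671) D163670 (iv6 D166169)
theorem E98879 : n163671 = n163663 := (c21_4 (iv5 F319815) F334037 (iv5 F337738) F341658 (iv1 D163663) (iv6 D78633) F56474 (iv1 F57244) F250818 D78578 (iv1 F334029))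
theorem F341664 : act 2 n163663 = n78635 := (sb E98879 F258004)
theorem F341665 : act 3 n163663 = n178548 := (sb E98879 F341661)
theorem F341666 : act 5 n163663 = n172242 := (sb E98879 F341662)
theorem F341667 : act 6 n163663 = n121698 := (sb E98879 (iv6 F341658))
theorem F341668 : act 7 n163663 = n78634 := (sb E98879 (iv7 D163671))
theorem E98880 : n170354 = n162974 := ((c21_11 (iv5 D170354) F300299 (iv5 F317070) F122766 (iv1 F257994) F341667 F337738 F334036 (iv5 D178285) D178286 (iv1 F277846))).symm
theorem F341669 : act 3 n162974 = n83623 := (sb E98880 F314071)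
theorem F341670 : act 5 n162974 = n81688 := (sb E98880 (iv5 D170354))
theorem F341671 : act 7 n162974 = n83599 := (sb E98880 F314072)
theorem F341672 : act 2 n162974 = n128293 := d15_3 F320972 (iv0 F340246) (iv7 F341671)
theorem F341673 : act 4 n128293 = n121068 := d16_0 (iv5 D121068) (iv4 D55863) F297051 (iv4 F58273) F311335 F121917 D83599 (iv7 F341671) F341672
theorem F341674 : act 4 n181133 = n162974 := d1_2 F341673 (iv2 F282128) F341672
theorem E98881 : n175061 = n157789 := (c9_10 D128293 F341673 (iv5 D121068) (iv4 D55863) F297051 (iv4 F58273) F311335 F121917 D83599 D175061 (iv5 D157789) F296336 F296054 (iv4 F33965) F311223 (iv4 F94852))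
theorem E98882 : n174126 = n162905 := (((F297449).symm.trans (sb E98881 F274018))).symm
theorem F341675 : act 4 n157789 = n83599 := (sb E98881 (iv4 D175061))
theorem F341676 : act 4 n162905 = n83240 := (sb E98882 (iv4 D174126))
theorem F341677 : act 7 n162973 = n128293 := d11_0 F341673 F193088 (iv4 F334234)
theorem F341678 : act 4 n160491 = n127870 := d18_3 (iv1 F320972) F341673 (iv1 F299605) (iv5 D127870) F94600 D60065 D127878 (iv0 F308405) F311623
theorem E98883 : n178290 = n162899 := ((c18_1 (iv1 F299606) F277854 (iv1 F320972) F341673 (iv5 D121068) (iv4 D55863) (iv0 F118523) (iv4 F122721) F297050 D81649)).symm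
theorem F341679 : act 3 n162899 = n120872 := (sb E98883 (iv3 F299807))
theorem F341680 : act 4 n162899 = n84850 := (sb E98883 F277854)
theorem F341681 : act 6 n162899 = n84848 := (sb E98883 (iv6 D178290))
theorem F341682 : act 7 n162899 = n162928 := (sb E98883 (iv7 F277855))
theorem E98884 : n174124 = n173870 := (c18_9 F306722 (iv4 F304759) (iv1 D60318) (iv4 F94852) D128293 F341673 (iv0 F257223) F341676 D174124 (iv5 D173870))
theorem F341683 : act 0 n173870 = n83240 := (sb E98884 (iv1 D174124))
theorem F341684 : act 4 n162895 = n127885 := d18_5 (iv1 D78312) (iv4 D35697) D35695 D78306 D162895 (iv0 F206413) F341673 (iv0 F257223) (iv5 D162905)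
theorem F341685 : act 3 n127870 = n166501 := d20_3 F341673 (iv1 F299605) F341678 F330741 (iv3 D80491) (iv4 D36712) (iv1 F300112) (iv4 F302666) (iv3 F130058) (iv1 F320972)
theorem F341686 : act 6 n113302 = n127870 := d7_0 F341685 F330735 F176511
theorem F341687 : act 7 n166492 = n127870 := d8_0 F341685 (iv7 D166501) (iv3 F262041)
theorem E98885 : n174125 = n166492 := (c4_4 F341687 F205782 (iv7 F300888) D174125)
theorem F341688 : act 2 n166492 = n83240 := (sb E98885 (iv2 D174125))
theorem F341689 : act 4 n159216 = n166492 := d11_3 F341687 (iv4 F341678) F253520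
theorem F341690 : act 5 n127871 = n166492 := d13_3 F341687 (iv5 D127870) D127871
theorem F341691 : act 1 n150254 = n166492 := d15_1 D150254 F341687 F205782
theorem E98886 : n163024 = n150255 := ((c16_1 D150255 F299715 (iv4 D81639) (iv5 D37313) D37312 (iv5 F311664) (iv4 F205784) F341690 F341687 F205782)).symm
theorem F341692 : act 0 n150255 = n78392 := (sb E98886 (iv1 D163024))
theorem F341693 : act 1 n150255 = n181133 := (sb E98886 (iv0 F282130))
theorem F341694 : act 2 n150255 = n160491 := (sb E98886 F299714)
theorem F341695 : act 5 n150255 = n81639 := (sb E98886 F299715)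
theorem F341696 : act 7 n150255 = n162905 := (sb E98886 F257384)
theorem F341697 : act 1 n173870 = n127870 := d15_1 (iv0 F341683) (iv7 F341687) F341688
theorem F341698 : act 2 n150253 = n173870 := d15_3 F341697 (iv0 F206364) F242260
theorem F341699 : act 4 n96709 = n173870 := d18_5 F297535 (iv4 D76960) (iv1 F126090) D45183 D96709 F341697 (iv4 F341678) F299605 (iv5 D121068)
theorem E98887 : n170250 = n150253 := ((c1_2 F341699 (iv2 F341698) (iv4 D170250) (iv2 F149083))).symm
theorem F341700 : act 4 n150253 = n81649 := (sb E98887 (iv4 D170250))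
theorem F341701 : act 4 n170252 = n128235 := d9_9 D96709 F341699 (iv5 D173870) (iv4 F304703) (iv5 F310103) F58259 (iv5 F58263) (iv4 F125554) (iv5 F267766) (iv5 D128235) F310098 (iv5 D45169) F33937 D21565 D45183
theorem F341702 : act 0 n162928 = n96709 := d18_2 (iv1 D162974) (iv4 F257259) F341699 (iv5 D173870) (iv4 F304703) F308079 D86497 (iv0 F300299) (iv5 F341670)
theorem F341703 : act 5 n162928 = n121027 := d18_9 (iv1 F299678) (iv4 D160487) (iv1 F116790) (iv4 F301255) D162905 F341676 (iv0 F341683) (iv4 F341699) (iv0 F341702)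
theorem F341704 : act 2 n162895 = n162928 := d2_3 F341703 F192990 D162895
theorem E98888 : n177458 = n121027 := ((c6_1 F341703 (iv3 D177458) F299651 D162928)).symm
theorem F341705 : act 3 n121027 = n84544 := (sb E98888 (iv3 D177458))
theorem F341706 : act 0 n170252 = n162928 := d17_0 F341703 (iv1 F299678) F330164 F330162 (iv5 D157619) (iv0 F112567) D127870 (iv0 F206364) (iv4 F341701)
theorem F341707 : act 4 n126251 = n166651 := d17_9 (iv1 F262289) (iv5 F330139) (iv1 F206092) (iv5 F316546) (iv4 F257259) F341703 F192993 (iv5 F322995) (iv0 F326407)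
theorem F341708 : act 0 n166606 = n126251 := d18_0 F341707 (iv1 F262289) (iv4 F330143) F330149 (iv4 D78279) F88300 D121025 F300176 F330164
theorem F341709 : act 0 n174077 = n157619 := d18_0 (iv4 F330162) F341708 F341707 F330161 F308163 F131035 (iv4 F109707) (iv0 F304755) D174077
theorem F341710 : act 4 n159237 = n174077 := d17_9 F341709 (iv5 D157619) F112566 (iv5 F300887) (iv4 F341676) (iv5 D162905) F132683 (iv5 F330158) F330155
theorem F341711 : act 3 n174077 = n120923 := d20_3 (iv4 D162913) (iv1 F299544) F341710 (iv1 D120923) (iv3 D55773) (iv4 D26915) (iv1 F297466) (iv4 F57205) (iv3 F122765) (iv1 F319346)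
theorem F341712 : act 3 n159237 = n177617 := d5_1 (iv4 F341710) F277082 (iv3 F277077) F334658 (iv3 F341711)
theorem F341713 : act 5 n177617 = n113493 := d6_2 D159237 F341712 F327209
theorem E98889 : n177614 = n160509 := (c8_4 F253559 F341712 (iv7 D177617) D177614)
theorem F341714 : act 3 n160509 = n84596 := (sb E98889 (iv3 D177614))
theorem F341715 : act 0 n101671 = n177622 := d19_0 F277086 (iv4 F277082) (iv3 F341712) (iv1 F330155) F330158 (iv4 D86501) F118826 (iv1 F88338) (iv5 F121372) F310622 (iv3 D62469) (iv1 D29525) F23406 (iv4 F23631) (iv3 F27072) D34269 D74797 (iv4 F307238) (iv3 F333802)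
theorem E98890 : n163125 = n125738 := ((c20_10 F129713 F334655 (iv4 F277082) (iv3 F341712) (iv1 F330155) F202321 F93138 F82159 (iv4 F93099) D125738 F257442)).symm
theorem F341716 : act 0 n125738 = n84542 := (sb E98890 F257442)
theorem F341717 : act 1 n125738 = n84540 := (sb E98890 (iv0 F257443))
theorem F341718 : act 4 n125738 = n78424 := (sb E98890 (iv4 D163125))
theorem E98891 : n177439 = n125738 := (c11_1 F276864 F341718 (iv7 F327212) F325664)
theorem F341719 : act 2 n125738 = n84538 := (sb E98891 (iv2 D177439))
theorem F341720 : act 7 n125738 = n84539 := (sb E98891 (iv7 F276864))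
theorem E98892 : n177441 = n163124 := (c1_3 (iv4 F341718) F341719 D177441 (iv2 D163124))
theorem F341721 : act 4 n163124 = n84538 := (sb E98892 (iv4 D177441))
theorem E98893 : n177445 = n125544 := (c8_2 F341720 D177445 F201941 D125738)
theorem F341722 : act 3 n125544 = n84539 := (sb E98893 (iv3 D177445))
theorem E98894 : n177448 = n177444 := ((c15_4 F276866 (iv0 F341716) F341720 (iv2 F276865))).symm
theorem F341723 : act 0 n177444 = n84540 := (sb E98894 (iv1 D177448))
theorem F341724 : act 1 n177444 = n84542 := (sb E98894 F276866)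
theorem F341725 : act 3 n177447 = n105226 := d7_3 (iv6 F201942) F341722 D177447
theorem E98895 : n160509 = n125811 := (c20_4 F60009 D39071 D84596 (iv3 F341714) (iv1 D125811) F93131 (iv4 F76477) D105169 (iv4 F201938) F341722 (iv1 D84539))
theorem F341726 : act 2 n125811 = n126390 := (sb E98895 (iv2 F326142))
theorem F341727 : act 3 n125811 = n84596 := (sb E98895 F341714)
theorem F341728 : act 5 n125811 = n76960 := (sb E98895 (iv5 D160509))
theorem F341729 : act 7 n125811 = n159237 := (sb E98895 F253559)
theorem E98896 : n113492 = n84596 := (c6_3 F341728 (iv3 F326414) D113492 (iv3 F341727))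
theorem E98897 : n177615 = n52386 := ((D177615).symm.trans (sb E98896 (iv5 D113492)))
theorem F341730 : act 5 n52386 = n84596 := (sb E98897 (iv5 D177615))
theorem F341731 : act 0 n121031 = n125811 := d17_0 F341728 F126152 D157789 F341675 (iv5 D83599) D83598 (iv5 F330161) F262290 (iv4 F330160)
theorem F341732 : act 0 n169887 = n121696 := d21_7 (iv5 F341728) (iv1 D125811) F330149 (iv6 F325535) (iv1 F202162) (iv6 F325724) D169887 (iv5 D121696) F88937 F297535
theorem E98898 : n169887 = n169886 := ((c19_20 F341732 (iv5 D121696) (iv4 D56230) F43779 (iv1 F43753) F43754 (iv4 F52545) (iv3 F131013) (iv1 D72054) D72055 D152721 (iv3 F339233) (iv1 D121450) (iv5 D56072) F43709 F28846 D17889 D37204 D81480 D169886)).symm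
theorem F341733 : act 0 n169886 = n121696 := (sb E98898 F341732)
theorem F341734 : act 1 n169886 = n95267 := (sb E98898 F267317)
theorem F341735 : act 2 n169886 = n86032 := (sb E98898 F267316)
theorem F341736 : act 5 n169886 = n81480 := (sb E98898 (iv5 D169887))
theorem F341737 : act 7 n163452 = n169886 := d13_0 F341736 F297297 D163452
theorem F341738 : act 4 n138480 = n169886 := d16_2 (iv4 F100849) D138480 F341736 (iv4 D81480) (iv5 D37204) D37203 D81477 F299430 F310578
theorem F341739 : act 0 n169904 = n138480 := d18_2 (iv1 F297523) D169904 F341738 F341736 (iv4 D81480) F325175 (iv4 F325285) (iv0 D86540) D86543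
theorem F341740 : act 0 n165605 = n128981 := d21_7 D95267 (iv1 F341734) F341736 F325724 F171083 F323185 D165605 (iv5 F337897) F199266 (iv1 F126195)
theorem F341741 : act 4 n135287 = n170606 := d18_3 F341740 (iv4 F207231) D135287 (iv5 D170606) (iv4 D81776) (iv0 F58308) (iv4 F91979) (iv0 F122171) D165605
theorem F341742 : act 4 n130205 = n165605 := d18_1 (iv1 F208724) F341740 (iv4 F207231) D135289 F337894 (iv0 D124541) D124543 F337903 (iv5 F333914)
theorem E98899 : n129768 = n63233 := (c20_6 F341742 F341740 (iv4 F207231) F98952 D63616 (iv3 F337839) D134567 F340126 (iv4 F333890) F208745 (iv1 F208724))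
theorem E98900 : n132624 = n88538 := (((F329046).symm.trans (sb E98899 (iv1 F212880)))).symm
theorem E98902 : n134565 = n60947 := ((D134565).symm.trans (sb E98899 (iv2 D129768)))
theorem E98903 : n134566 = n63616 := ((D134566).symm.trans (sb E98899 F337839))
theorem E98904 : n134569 = n63632 := ((D134569).symm.trans (sb E98899 F339528))
theorem E98905 : n134570 = n126674 := ((D134570).symm.trans (sb E98899 (iv7 F324674)))
theorem E98906 : n63234 = n62228 := (((iv1 F329047)).symm.trans (sb E98900 (iv1 D132624)))
theorem F341743 : act 2 n60947 = n63233 := (sb E98902 (iv2 D134565))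
theorem F341744 : act 3 n63616 = n63233 := (sb E98903 (iv3 D134566))
theorem F341745 : act 6 n63632 = n63233 := (sb E98904 (iv6 D134569))
theorem F341746 : act 7 n126674 = n63233 := (sb E98905 (iv7 D134570))
theorem F341747 : act 0 n62228 = n29889 := (sb E98906 (iv1 D63234))
theorem F341748 : act 1 n62228 = n88538 := (sb E98906 F329047)
theorem E98911 : n130205 = n129804 := ((c20_6 (iv4 F337840) (iv1 F318998) (iv4 F338590) F213552 (iv1 F336587) F212937 F341742 F341740 (iv4 F207231) F98952 D63616)).symm
theorem E98912 : n132642 = n61121 := (((iv1 F212926)).symm.trans (sb E98911 (iv1 D130205)))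
theorem E98913 : n132641 = n61143 := ((F212921).symm.trans (sb E98911 F208724))
theorem F341749 : act 4 n129804 = n165605 := (sb E98911 F341742)
theorem E98914 : n130204 = n62239 := ((D130204).symm.trans (sb E98912 (iv1 D132642)))
theorem F341750 : act 1 n61121 = n129804 := (sb E98912 F212926)
theorem F341751 : act 0 n61143 = n129804 := (sb E98913 (iv1 F212921))
theorem F341752 : act 0 n62239 = n61143 := (sb E98914 (iv1 F208728))
theorem F341753 : act 1 n62239 = n61121 := (sb E98914 (iv0 D130204))
theorem F341754 : act 1 n165605 = n129002 := d15_1 (iv0 F341740) (iv7 D129002) (iv2 F207199)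
theorem F341755 : act 2 n124613 = n132638 := d15_3 (iv0 F337859) (iv0 F341740) F260880
theorem E98915 : n129179 = n124620 := (c17_5 (iv1 F341750) D130206 (iv1 F333924) F333927 (iv4 F207409) F297832 (iv0 F297828) F337897 (iv0 F341740) (iv4 F341749))
theorem F341756 : act 3 n124620 = n60730 := (sb E98915 F207408)
theorem F341757 : act 4 n124620 = n60737 := (sb E98915 F207409)
theorem F341758 : act 6 n124620 = n60728 := (sb E98915 (iv6 D129179))
theorem F341759 : act 6 n128797 = n177429 := d14_5 F276855 F341758 (iv7 F96418) (iv6 F204338) (iv7 F207045)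
theorem F341760 : act 5 n132084 = n180360 := d21_0 (iv1 D180360) (iv5 F199312) (iv6 D124623) D124620 F341758 (iv5 F340294) F340291 (iv5 D61973) D61974 D132084
theorem F341761 : act 3 n177429 = n128799 := d7_1 F341759 (iv6 D128799) D128797
theorem F341762 : act 4 n177429 = n129207 := d10_1 F341759 F207428 (iv4 F207044)
theorem F341763 : act 5 n177428 = n128797 := d12_5 F341759 (iv5 D177429) (iv6 D84534) D84533 D177428
theorem F341764 : act 3 n128798 = n177428 := d6_3 F341763 (iv3 D128797) D128798
theorem F341765 : act 6 n177424 = n128798 := d7_0 F341764 (iv6 D177428) (iv3 F276844)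
theorem E98916 : n177425 = n128943 := ((c12_4 F341765 (iv5 D128798) D128799 F207167 (iv6 D177425) D177424)).symm
theorem F341766 : act 3 n128943 = n84534 := (sb E98916 F276845)
theorem F341767 : act 4 n128943 = n186297 := (sb E98916 (iv4 F289062))
theorem F341768 : act 6 n128943 = n84531 := (sb E98916 (iv6 D177425))
theorem E98917 : n163586 = n129183 := (c14_6 F207413 F341768 (iv7 F297570) (iv6 D166556) F122677 D163586)
theorem F341769 : act 3 n129183 = n78599 := (sb E98917 F257846)
theorem F341770 : act 4 n129183 = n162554 := (sb E98917 F257847)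
theorem F341771 : act 6 n129183 = n78598 := (sb E98917 (iv6 D163586))
theorem F341772 : act 6 n163585 = n128942 := d3_2 F341771 D163585 (iv2 F207412)
theorem E98918 : n129180 = n90056 := ((c12_2 F341771 (iv5 F138384) (iv6 D129180) (iv5 D60729) D60730 D129183)).symm
theorem F341773 : act 2 n90056 = n131801 := (sb E98918 (iv2 F211177))
theorem F341774 : act 4 n90056 = n106501 := (sb E98918 F207410)
theorem F341775 : act 6 n90056 = n60729 := (sb E98918 (iv6 D129180))
theorem F341776 : act 7 n131813 = n185726 := d14_4 (iv7 F138385) F341775 (iv7 F96420) D131813 (iv6 D185726)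
theorem F341777 : act 3 n185730 = n131813 := d8_3 F341776 F288006 D185730
theorem E98919 : n132027 = n97383 := (c0_2 F341777 (iv2 F211521) (iv3 D97383) (iv2 F293053) (iv3 F257693) F327189)
theorem F341778 : act 2 n97383 = n131813 := (sb E98919 F211521)
theorem F341779 : act 4 n97383 = n90111 := (sb E98919 F211522)
theorem F341780 : act 6 n97383 = n61953 := (sb E98919 (iv6 D132027))
theorem E98920 : n126125 = n111041 := ((c12_4 F341780 F96550 (iv6 F80795) D111041 F325219 (iv5 F293082))).symm
theorem F341781 : act 0 n111041 = n113338 := (sb E98920 F203210)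
theorem F341782 : act 3 n111041 = n59104 := (sb E98920 (iv3 D126125))
theorem F341783 : act 4 n111041 = n64077 := (sb E98920 F202824)
theorem F341784 : act 6 n111041 = n79942 := (sb E98920 F325219)
theorem F341785 : act 7 n111041 = n59183 := (sb E98920 F202825)
theorem F341786 : act 5 n132145 = n166563 := d21_6 (iv5 D29349) (iv1 D13962) D13964 D29358 D61992 D132145 (iv1 D166563) (iv5 F293082) F341780 (iv1 F96554)
theorem F341787 : act 4 n94317 = n132145 := d16_0 F341786 (iv4 F262091) (iv5 F294702) (iv4 D97425) (iv5 D45495) F294529 (iv5 F137621) (iv7 F292788) (iv2 F145461)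
theorem F341788 : act 2 n132145 = n94322 := d1_1 F341787 (iv4 D94322) (iv2 F145461)
theorem E98921 : n132143 = n110785 := (c10_4 F171497 F341787 (iv6 D132145) D132143)
theorem F341789 : act 4 n110785 = n61992 := (sb E98921 (iv4 D132143))
theorem F341790 : act 4 n132141 = n94323 := d1_2 F341789 D132141 F171499
theorem F341791 : act 4 n132146 = n107577 := d11_3 F171500 F341789 D132146
theorem E98922 : n132148 = n110786 := ((c1_2 F341791 F171503 (iv4 D132148) (iv2 F211664))).symm
theorem F341792 : act 4 n110786 = n61993 := (sb E98922 (iv4 D132148))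
theorem E98923 : n157775 = n129076 := ((c18_2 (iv1 F206946) D129076 (iv1 D157775) F330371 F99177 (iv4 F80544) D110786 F341792 F164280 (iv5 F206944))).symm
theorem F341793 : act 0 n129076 = n75173 := (sb E98923 (iv1 D157775))
theorem F341794 : act 1 n129076 = n113598 := (sb E98923 (iv0 F327404))
theorem F341795 : act 3 n129076 = n180364 := (sb E98923 F334364)
theorem E98924 : n166597 = n132147 := (c20_5 (iv4 D45472) (iv1 F291951) F67268 (iv3 F140961) (iv1 F262186) (iv3 D132147) (iv4 F341792) (iv1 D110786) F80544 F330368 F134291)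
theorem F341796 : act 0 n132147 = n163460 := (sb E98924 F262185)
theorem F341797 : act 1 n132147 = n91691 := (sb E98924 F262186)
theorem F341798 : act 2 n132147 = n163463 := (sb E98924 F262183)
theorem F341799 : act 5 n132147 = n79957 := (sb E98924 (iv5 D166597))
theorem F341800 : act 7 n132147 = n163462 := (sb E98924 (iv7 F262195))
theorem F341801 : act 3 n163462 = n132141 := d8_1 F341800 (iv7 F211663) D132147
theorem F341802 : act 4 n176737 = n163462 := d5_0 F341801 F341790 F145465 F292790 (iv3 F276111)
theorem F341803 : act 5 n132141 = n163599 := d6_2 (iv5 F262194) F341801 (iv3 D163599)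
theorem F341804 : act 3 n106803 = n97412 := d20_9 F119712 (iv1 F292278) (iv4 F293339) (iv3 F119739) D163462 F341801 F341790 (iv1 F171496) F171493 F294046
theorem F341805 : act 2 n163599 = n132144 := d2_1 F341803 (iv5 D132144) D132141
theorem E98925 : n166596 = n132149 := (c13_3 F211663 F341803 (iv7 F262181) (iv5 D132149))
theorem F341806 : act 3 n132149 = n79957 := (sb E98925 (iv3 D166596))
theorem F341807 : act 4 n132149 = n96677 := (sb E98925 F262182)
theorem F341808 : act 7 n132149 = n163599 := (sb E98925 F262181)
theorem F341809 : act 4 n132144 = n96676 := d1_2 (iv4 F281466) F341805 (iv2 F281469)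
theorem F341810 : act 6 n163462 = n176736 := d10_2 D176737 F341802 (iv4 D176736)
theorem F341811 : act 6 n94322 = n132141 := d7_2 F341810 (iv3 F293807) (iv3 F341801)
theorem F341812 : act 0 n161012 = n176736 := d21_4 F294048 (iv1 D77264) D77266 D161012 (iv6 F341810) F262194 (iv1 F122744) (iv5 F324248) (iv6 D161002) (iv1 F294047)
theorem F341813 : act 3 n186421 = n90053 := d20_5 F112880 (iv1 D41451) D41452 D88792 D186421 (iv4 F254524) F341812 (iv4 D176736) F129333 (iv1 F112882)
theorem F341814 : act 5 n104649 = n186421 := d6_0 F341813 F291965 (iv3 F160361)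
theorem F341815 : act 6 n90052 = n186421 := d7_0 F341813 (iv6 D90053) D90052
theorem E98926 : n129075 = n91688 := ((c5_5 D129076 F341795 (iv4 F280685) (iv3 F194325) F140954 (iv3 D129075))).symm
theorem F341816 : act 3 n91688 = n60678 := (sb E98926 (iv3 D129075))
theorem F341817 : act 3 n129077 = n163606 := d6_3 F257872 F341816 D129077
theorem E98927 : n163453 = n129069 := ((c8_3 (iv7 F254431) F341816 F207308 (iv3 D163453))).symm
theorem F341818 : act 3 n129069 = n78551 := (sb E98927 (iv3 D163453))
theorem F341819 : act 4 n129069 = n180329 := (sb E98927 F280624)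
theorem F341820 : act 0 n129034 = n163962 := d20_7 (iv4 D80057) D80054 F140954 F341816 (iv1 D60678) (iv3 F95262) (iv4 F207277) F258431 (iv3 D163503) F122857
theorem E98928 : n185558 = n60668 := (c20_11 (iv4 F207277) F341820 F258431 (iv3 D163503) F122857 D166778 F262509 (iv1 F323702) F323703 F287812 (iv1 F287864))
theorem E98929 : n129036 = n88391 := ((D129036).symm.trans (sb E98928 (iv1 D185558)))
theorem E98930 : n163448 = n129037 := (((D129037).symm.trans (sb E98928 F287864))).symm
theorem F341821 : act 1 n88391 = n60668 := (sb E98929 (iv0 D129036))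
theorem F341822 : act 1 n129037 = n185557 := (sb E98930 F287859)
theorem F341823 : act 2 n129037 = n78548 := (sb E98930 (iv2 D163448))
theorem F341824 : act 3 n129037 = n185531 := (sb E98930 (iv3 F287812))
theorem F341825 : act 4 n129037 = n124235 := (sb E98930 F257732)
theorem F341826 : act 7 n129037 = n185559 := (sb E98930 (iv7 F287862))
theorem F341827 : act 4 n120293 = n130130 := d5_2 F341825 F198728 (iv3 F213411) F323703 (iv3 F341824)
theorem F341828 : act 7 n185557 = n129020 := d15_2 D129037 F341822 F207269
theorem F341829 : act 2 n129038 = n185557 := d4_3 F341828 F207269 D129038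
theorem F341830 : act 4 n132119 = n158061 := d17_9 (iv1 D158061) (iv5 D75289) D75286 D158050 (iv4 F294066) F294067 F341821 (iv5 F96575) D132119
theorem F341831 : act 0 n108775 = n129034 := d20_10 F207277 (iv1 F341821) F135380 (iv3 D76893) (iv1 F87615) F326755 (iv4 D51625) (iv1 F164118) (iv4 F79578) (iv3 F168708)
theorem F341832 : act 3 n163949 = n129034 := d20_5 F87617 (iv1 F44558) (iv4 F56525) D78765 D163949 F207277 (iv1 F341821) F135380 (iv3 D76893) (iv1 F87615)
theorem F341833 : act 4 n129064 = n163949 := d5_0 F341832 F207277 F95262 (iv4 F95273) (iv3 F207304)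
theorem F341834 : act 6 n129033 = n163949 := d7_0 F341832 (iv6 D129034) D129033
theorem E98931 : n129064 = n113591 := (c20_7 (iv4 D51625) (iv1 F164118) (iv4 F79578) (iv3 F168708) F341831 (iv3 F341832) (iv4 F341833) (iv1 D113591) (iv4 F176734) F176733 F164100)
theorem F341835 : act 3 n113591 = n60676 := (sb E98931 F207304)
theorem F341836 : act 4 n113591 = n163949 := (sb E98931 F341833)
theorem F341837 : act 6 n113591 = n60675 := (sb E98931 (iv6 D129064))
theorem E98932 : n163962 = n108767 := ((c15_4 (iv0 F341820) (iv0 F341831) (iv7 D108775) (iv2 F168705))).symm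
theorem F341838 : act 1 n108767 = n129034 := (sb E98932 (iv0 F341820))
theorem F341839 : act 3 n108767 = n78770 := (sb E98932 (iv3 D163962))
theorem F341840 : act 4 n108767 = n163503 := (sb E98932 F258431)
theorem F341841 : act 2 n163503 = n108698 := d1_1 F341840 F168635 (iv2 F168705)
theorem F341842 : act 6 n163503 = n108696 := d10_2 D108767 F341840 F168631
theorem E98933 : n121269 = n108608 := (c0_2 F341839 F254248 F167989 F79446 (iv3 F79573) (iv2 F168705))
theorem F341843 : act 0 n108608 = n78771 := (sb E98933 (iv1 F193374))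
theorem F341844 : act 1 n108608 = n55945 := (sb E98933 (iv0 D121269))
theorem F341845 : act 2 n108608 = n78770 := (sb E98933 (iv2 F254248))
theorem F341846 : act 4 n108608 = n163500 := (sb E98933 (iv4 F257780))
theorem F341847 : act 5 n108608 = n160458 := (sb E98933 (iv5 F254092))
theorem F341848 : act 7 n108608 = n78769 := (sb E98933 F254250)
theorem E98934 : n163963 = n108606 := (c7_3 D108767 F341839 D163963 F167982)
theorem F341849 : act 4 n108606 = n163501 := (sb E98934 F258432)
theorem F341850 : act 6 n108606 = n78770 := (sb E98934 (iv6 D163963))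
theorem F341851 : act 2 n163501 = n108594 := d1_1 F341849 F167935 D108606
theorem F341852 : act 7 n163501 = n108831 := d11_2 (iv7 F167983) F341849 F168808
theorem F341853 : act 3 n108831 = n163509 := d8_1 F341852 (iv7 D163509) (iv3 F257784)
theorem F341854 : act 1 n108830 = n163501 := d15_1 D108830 F341852 (iv2 D108831)
theorem F341855 : act 2 n163509 = n108819 := d0_1 F341853 (iv3 D108819) F79609 D50251 D108831
theorem F341856 : act 4 n163509 = n113201 := d5_2 (iv4 F168808) F341853 (iv3 F202148) F202149 F168480
theorem E98935 : n163509 = n162963 := ((c20_5 F28296 F28247 (iv4 F56403) (iv3 F119571) D162963 (iv3 F341853) F168808 (iv1 F167985) F325297 (iv3 D78719) (iv1 D35844))).symm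
theorem F341857 : act 2 n162963 = n108819 := (sb E98935 F341855)
theorem F341858 : act 3 n162963 = n108831 := (sb E98935 (iv3 F341853))
theorem F341859 : act 4 n162963 = n113201 := (sb E98935 F341856)
theorem F341860 : act 7 n162963 = n78573 := (sb E98935 (iv7 D163509))
theorem E98936 : n166337 = n162963 := (c14_6 F341860 (iv6 D78573) F254220 (iv6 F334013) (iv7 F330050) D166337)
theorem F341861 : act 6 n162963 = n79871 := (sb E98936 (iv6 D166337))
theorem E98937 : n178283 = n108819 := (c3_3 F341861 F335058 D178283 (iv2 F341857))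
theorem F341862 : act 6 n108819 = n84846 := (sb E98937 (iv6 D178283))
theorem F341863 : act 6 n166334 = n108831 := d7_2 F341861 D166334 (iv3 F341858)
theorem F341864 : act 6 n166335 = n113201 := d10_2 F341861 D166335 (iv4 F341859)
theorem F341865 : act 5 n147783 = n162963 := d12_5 F341861 (iv5 F330051) (iv6 D69236) (iv5 F105508) D147783
theorem E98938 : n163041 = n162960 := (c21_1 D163041 (iv1 D162960) (iv5 D78352) D78353 D162963 F341861 (iv5 F330051) (iv1 F230530) F338186 F194223 (iv1 F129748))
theorem F341866 : act 2 n162960 = n177549 := (sb E98938 F338331)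
theorem F341867 : act 5 n162960 = n78397 := (sb E98938 (iv5 D163041))
theorem F341868 : act 7 n162960 = n166646 := (sb E98938 (iv7 F338332))
theorem E98939 : n163036 = n162959 := (c15_4 (iv0 D162959) D162960 F341868 (iv2 F329760))
theorem F341869 : act 2 n162959 = n166646 := (sb E98939 F329760)
theorem F341870 : act 5 n162959 = n78396 := (sb E98939 (iv5 D163036))
theorem F341871 : act 7 n162959 = n177549 := (sb E98939 F338330)
theorem F341872 : act 6 n178939 = n162959 := d12_0 F341870 (iv6 F329761) F250810 D121160 (iv5 F336572)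
theorem E98940 : n162974 = n162956 := (c21_9 D78352 D162959 F341870 (iv6 F329761) (iv1 F57198) D79984 F318945 F302998 (iv5 F341670) (iv6 D162956) (iv1 D78350))
theorem F341873 : act 0 n162956 = n78361 := (sb E98940 (iv1 D162974))
theorem F341874 : act 1 n162956 = n178286 := (sb E98940 F277846)
theorem F341875 : act 2 n162956 = n128293 := (sb E98940 F341672)
theorem F341876 : act 3 n162956 = n83623 := (sb E98940 F341669)
theorem F341877 : act 4 n162956 = n181133 := (sb E98940 (iv4 F341674))
theorem F341878 : act 5 n162956 = n81688 := (sb E98940 F341670)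
theorem F341879 : act 7 n162956 = n83599 := (sb E98940 F341671)
theorem F341880 : act 0 n167937 = n133008 := d21_4 (iv5 F341870) (iv1 F277120) F277118 (iv6 F264645) F213663 (iv5 D62411) F338366 F322724 (iv6 F299710) D78396
theorem E98941 : n133006 = n78636 := (c21_2 (iv5 D133008) D133006 (iv5 D78636) (iv6 D35818) D35815 F329761 (iv5 F341870) (iv1 F277120) F277118 (iv6 F264645) F341880)
theorem E98942 : n163677 = n62408 := ((D163677).symm.trans (sb E98941 (iv0 D133006)))
theorem F341881 : act 0 n62408 = n78636 := (sb E98942 (iv1 D163677))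
theorem F341882 : act 0 n125248 = n131363 := d20_1 (iv4 F201395) (iv4 F213643) F213642 F341881 F119802 F315313 (iv1 F47743) (iv4 F317143) (iv3 F326089) F332098
theorem E98943 : n176450 = n163678 := ((c20_1 D163678 (iv1 D176450) F129157 F59683 D38793 D84166 (iv4 F201395) F341882 (iv4 F213643) F213642 F341881)).symm
theorem F341883 : act 0 n163678 = n84128 := (sb E98943 (iv1 D176450))
theorem E98944 : n163669 = n158137 := (c21_3 (iv5 D78636) D78634 D163669 (iv6 D158137) F304849 (iv6 D61793) (iv5 F47317) (iv1 F47319) D29510 D62408 F341881)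
theorem F341884 : act 5 n158137 = n78634 := (sb E98944 (iv5 D163669))
theorem F341885 : act 7 n133007 = n163664 := d15_2 (iv0 F341881) D133007 F257995
theorem F341886 : act 2 n133009 = n163676 := d15_3 (iv0 D163676) (iv0 F341881) D133009
theorem E98945 : n173513 = n163676 := ((c3_2 (iv6 F213666) F341886 (iv6 D173513) F313350)).symm
theorem F341887 : act 3 n163676 = n83013 := (sb E98945 F271967)
theorem F341888 : act 6 n163676 = n83010 := (sb E98945 (iv6 D173513))
theorem F341889 : act 7 n163676 = n132964 := d4_2 D133009 F341886 F213601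
theorem F341890 : act 1 n133009 = n163664 := d15_0 F334239 (iv7 F341889) (iv2 F341886)
theorem F341891 : act 2 n133007 = n127732 := d15_3 F334238 F341890 (iv7 F341885)
theorem F341892 : act 5 n133009 = n113292 := d21_2 D163664 (iv1 F341890) (iv6 D113292) F320721 (iv6 D79875) (iv5 F319815) F334037 (iv5 F337738) (iv6 F341667) (iv1 D163663)
theorem E98946 : n131359 = n113294 := ((c6_3 F341892 F176505 D113294 (iv3 F213664))).symm
theorem F341893 : act 0 n113294 = n131185 := (sb E98946 F210570)
theorem F341894 : act 3 n113294 = n133009 := (sb E98946 (iv3 F213664))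
theorem F341895 : act 4 n113294 = n61654 := (sb E98946 F210569)
theorem F341896 : act 6 n113294 = n61653 := (sb E98946 (iv6 D131359))
theorem F341897 : act 7 n113294 = n132990 := (sb E98946 (iv7 F213644))
theorem F341898 : act 6 n127885 = n113289 := d21_3 (iv5 F311611) F205791 D127885 (iv1 D113289) D113292 (iv5 F341892) (iv1 F334238) F205328 (iv6 F122766) (iv1 F319346)
theorem F341899 : act 3 n147358 = n127885 := d7_3 F341898 (iv3 F176497) D147358
theorem E98947 : n131693 = n127882 := ((c6_4 F336550 F341899 (iv5 D127885) (iv3 F205797))).symm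
theorem F341900 : act 0 n127882 = n61792 := (sb E98947 (iv1 D131693))
theorem E98948 : n174484 = n133047 := (((iv0 F273372)).symm.trans (sb E98947 F217740))
theorem F341901 : act 5 n127882 = n147358 := (sb E98947 F336550)
theorem F341902 : act 0 n133047 = n127882 := (sb E98948 F273372)
theorem F341903 : act 4 n133047 = n83393 := (sb E98948 (iv4 D174484))
theorem F341904 : act 7 n166386 = n147358 := d8_0 F341899 F318829 F277843
theorem F341905 : act 1 n147644 = n166386 := d15_1 D147644 F341904 F231079
theorem F341906 : act 1 n166392 = n147358 := d15_1 D166392 (iv7 F341904) F261970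
theorem E98949 : n166392 = n131541 := (c21_5 F51140 (iv1 F51099) D69085 D147358 (iv1 F341906) (iv6 D131541) (iv5 D61725) D61722 D131530 F323067 (iv1 F105343))
theorem F341907 : act 0 n131541 = n79890 := (sb E98949 (iv1 D166392))
theorem F341908 : act 1 n131541 = n147358 := (sb E98949 F341906)
theorem E98950 : n172612 = n160961 := (c21_1 (iv5 F334256) (iv1 D160961) (iv5 D77245) F55990 D35266 (iv6 F333995) F51140 (iv1 F51099) D69085 D147358 (iv1 F341908))
theorem F341909 : act 2 n160961 = n172012 := (sb E98950 F270834)
theorem F341910 : act 3 n160961 = n131554 := (sb E98950 (iv3 F307274))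
theorem F341911 : act 4 n160961 = n82729 := (sb E98950 F270835)
theorem F341912 : act 5 n160961 = n131541 := (sb E98950 F334256)
theorem F341913 : act 6 n160961 = n82637 := (sb E98950 (iv6 D172612))
theorem F341914 : act 0 n175055 = n160961 := d21_4 (iv5 D128052) F199419 F331982 F334223 F341913 (iv5 D82637) (iv1 D37971) D37973 (iv6 F305048) (iv1 F333401)
theorem F341915 : act 7 n175055 = n160959 := d15_2 D160961 (iv0 F341914) F254166
theorem F341916 : act 5 n160946 = n175055 := d13_3 F341915 (iv5 D160959) (iv7 F254160)
theorem F341917 : act 6 n133007 = n128151 := d14_3 F341915 (iv6 F257997) (iv7 F341885) F334198 F334223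
theorem F341918 : act 5 n163665 = n133007 := d12_5 F341917 (iv5 D128151) F310177 (iv5 F330161) F262287
theorem F341919 : act 3 n133007 = n130311 := d6_1 F341918 F330128 F333986
theorem F341920 : act 4 n133007 = n133087 := d17_4 (iv1 F315281) F341884 (iv1 F258002) F341918 (iv5 D133087) (iv0 D62442) D62444 D133095 F305918
theorem E98951 : n174289 = n163670 := (c21_9 F341918 (iv1 D133007) D133008 F213663 (iv1 F338347) (iv6 F299578) (iv5 F322744) F310246 D174289 (iv6 D163670) (iv1 F258002))
theorem F341921 : act 3 n163670 = n101604 := (sb E98951 F273087)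
theorem F341922 : act 5 n163670 = n83310 := (sb E98951 (iv5 D174289))
theorem F341923 : act 5 n129402 = n166656 := d21_2 F322746 D129402 (iv6 D166656) (iv1 F262290) F262287 F341918 (iv1 D133007) D133008 F213663 (iv1 F338347)
theorem E98952 : n129402 = n129226 := ((c12_1 D129226 F341923 (iv6 D166656) (iv5 F330147) (iv6 D61176) F208883)).symm
theorem F341924 : act 0 n129226 = n132373 := (sb E98952 (iv1 F212380))
theorem F341925 : act 1 n129226 = n60814 := (sb E98952 (iv0 D129402))
theorem E98953 : n166656 = n165727 := ((((iv5 F337767)).symm.trans (sb E98952 F341923))).symm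
theorem F341926 : act 6 n165727 = n79985 := (sb E98953 (iv6 D166656))
theorem E98954 : n165727 = n121796 := ((c21_5 F334017 (iv1 F338189) (iv5 D79789) F299594 D121796 F341926 (iv5 F330147) (iv1 F309724) F334038 (iv6 D178286) F334030)).symm
theorem F341927 : act 2 n121796 = n79597 := (sb E98954 F261083)
theorem F341928 : act 5 n121796 = n129226 := (sb E98954 F337767)
theorem F341929 : act 6 n121796 = n79985 := (sb E98954 F341926)
theorem F341930 : act 7 n121796 = n79596 := (sb E98954 (iv7 D165727))
theorem E98955 : n165722 = n121797 := (c15_4 F194397 F194392 F341930 D165722)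
theorem F341931 : act 2 n121797 = n79596 := (sb E98955 (iv2 D165722))
theorem F341932 : act 7 n121797 = n79597 := (sb E98955 (iv7 F261079))
theorem F341933 : act 6 n107581 = n121797 := d14_5 F341932 (iv6 F337762) F330145 (iv6 F330144) (iv7 F165975)
theorem F341934 : act 2 n165726 = n107581 := d3_3 F341933 F341931 D165726
theorem F341935 : act 3 n121797 = n107583 := d7_1 F341933 (iv6 D107583) D107581
theorem F341936 : act 4 n121797 = n113211 := d10_1 F341933 (iv6 D113211) (iv4 F165974)
theorem F341937 : act 2 n113211 = n165724 := d1_1 F341936 (iv4 D165724) (iv2 F341931)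
theorem F341938 : act 7 n113211 = n165729 := d11_2 (iv7 F341932) F341936 (iv4 D165729)
theorem E98956 : n125778 = n95286 := (c20_4 F327081 (iv1 F92929) (iv4 F93118) (iv3 F202290) (iv1 F248679) (iv3 F260954) F260955 (iv1 F194397) F341936 F176385 (iv1 F327080))
theorem F341939 : act 3 n95286 = n58902 := (sb E98956 F202290)
theorem F341940 : act 7 n95286 = n58897 := (sb E98956 (iv7 D125778))
theorem F341941 : act 0 n157825 = n113211 := d20_10 (iv4 F341936) (iv1 D121797) F89011 (iv3 D44987) F33771 D34428 F54630 D34430 D75190 D157825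
theorem F341942 : act 5 n113211 = n132001 := d19_1 F341941 F211498 (iv3 D62296) F79853 F322725 F92679 (iv3 F296417) F21984 (iv5 D8134) F5687 (iv3 D3662) D3661 (iv5 F5873) D8840 D18875 D39900 (iv5 F248725) D75190 D157825
theorem F341943 : act 4 n95426 = n129226 := d16_6 F341936 F341942 F211498 F322724 (iv4 F122203) (iv5 F147041) (iv5 F341928) F341930 (iv2 F341931)
theorem F341944 : act 5 n133000 = n96344 := d18_9 (iv1 F260957) F260955 (iv1 F194397) F341936 F341942 F211498 (iv0 F338366) (iv4 F97293) D133000
theorem F341945 : act 6 n96344 = n166606 := d21_9 (iv5 D126251) (iv1 F326403) D81649 D170251 (iv1 F339667) F339670 (iv5 F248694) (iv1 F338343) F341944 F341708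
theorem F341946 : act 6 n133000 = n170606 := d12_2 (iv6 F341945) (iv5 F341944) (iv5 D170606) (iv6 F253514) F330164
theorem F341947 : act 4 n133000 = n132716 := d19_2 D96344 (iv5 F341944) (iv3 D132716) (iv1 D62279) F323785 F28519 (iv3 D8266) (iv1 F12907) (iv5 F21451) (iv4 D12912) (iv3 F21447) (iv1 F27990) (iv5 D17058) D17057 F27984 (iv1 D10251) D10252 D21480 D44987
theorem F341948 : act 6 n133001 = n91690 := d21_9 D163458 F257742 (iv5 D79960) D79961 D166606 (iv6 F341945) (iv5 F341944) (iv1 D133000) D133001 (iv1 F140960)
theorem F341949 : act 0 n170606 = n163633 := d21_10 (iv5 D163633) F299098 (iv5 F331164) (iv6 D113430) D113427 F338381 (iv5 D96347) D96344 (iv5 F341944) F341946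
theorem F341950 : act 4 n163633 = n129803 := d18_3 D135287 F341741 F341949 F338383 F229982 (iv0 F309609) D124595 F337899 (iv5 D135289)
theorem E98957 : n163496 = n128693 := ((c21_2 F330426 D128693 (iv5 D163496) (iv6 F192991) (iv1 F299678) F253514 D170606 F341949 (iv5 D163633) (iv6 F330423) (iv1 F202803))).symm
theorem F341951 : act 5 n128693 = n78567 := (sb E98957 (iv5 D163496))
theorem E98958 : n128866 = n124610 := ((c18_5 (iv1 F147883) (iv4 D96180) (iv1 F122169) (iv4 F122175) D124610 F207117 D129803 (iv4 F341950) (iv0 F341949) (iv5 D170606))).symm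
theorem F341952 : act 3 n124610 = n60605 := (sb E98958 (iv3 D128866))
theorem F341953 : act 4 n124610 = n60970 := (sb E98958 F207117)
theorem F341954 : act 7 n124610 = n132638 := (sb E98958 (iv7 F212915))
theorem F341955 : act 5 n132638 = n124518 := d13_1 F341954 F199178 D124610
theorem F341956 : act 1 n163626 = n124610 := d15_1 F297645 F341954 (iv2 F341755)
theorem F341957 : act 1 n129002 = n132638 := d15_1 F341754 (iv7 F341954) (iv2 F260879)
theorem F341958 : act 5 n129804 = n170483 := d16_1 (iv4 F341749) (iv4 D170483) (iv5 D81725) F297931 D80561 (iv4 F297643) (iv5 F341955) (iv7 F341954) (iv2 F260879)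
theorem E98959 : n129805 = n124556 := ((c2_2 F341958 F267929 (iv5 D129805) D129804)).symm
theorem F341959 : act 3 n124556 = n60971 := (sb E98959 F208150)
theorem F341960 : act 5 n124556 = n60970 := (sb E98959 (iv5 D129805))
theorem F341961 : act 6 n124556 = n75930 := (sb E98959 F320784)
theorem F341962 : act 7 n124556 = n132644 := (sb E98959 (iv7 F212929))
theorem F341963 : act 4 n132644 = n124510 := d9_9 F341958 (iv4 D170483) (iv5 D81725) F297931 D80561 (iv4 F297643) (iv5 F341955) F212913 D132644 (iv5 F301034) F123882 F298412 D79541 D165605 (iv4 F341749)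
theorem E98960 : n130270 = n124553 := ((c13_3 (iv7 F337776) F341958 F267930 (iv5 D130270))).symm
theorem F341964 : act 2 n124553 = n132644 := (sb E98960 (iv2 F338397))
theorem F341965 : act 3 n124553 = n132968 := (sb E98960 F338396)
theorem F341966 : act 5 n124553 = n61140 := (sb E98960 (iv5 D130270))
theorem F341967 : act 6 n124553 = n69237 := (sb E98960 F337775)
theorem E98961 : n130269 = n124613 := (c9_2 F341966 D130269 (iv5 D124613) (iv4 F296849) (iv5 D36774) (iv4 F57662) (iv5 F299837) D124556 F341960 (iv4 F341953) (iv5 D124610) F122175 (iv5 F297868) (iv4 F300194) (iv5 F151616) D124553)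
theorem F341968 : act 4 n124613 = n61140 := (sb E98961 (iv4 D130269))
theorem F341969 : act 6 n124613 = n133017 := (sb E98961 (iv6 F338372))
theorem F341970 : act 5 n129204 = n169805 := d21_0 F267224 F341966 F338370 (iv1 D62410) (iv6 D29511) D29510 (iv1 F212100) (iv5 D60736) D60737 D129204
theorem F341971 : act 4 n146672 = n130206 := d17_9 (iv1 F333924) F333927 D129204 F341970 (iv4 D169805) (iv5 D81433) (iv0 F120903) (iv5 F308536) F229992
theorem F341972 : act 7 n130206 = n146670 := d11_2 D146672 F341971 F229982
theorem F341973 : act 5 n130199 = n161099 := d16_3 F341971 (iv5 D130206) (iv4 F208718) (iv4 D161099) (iv5 D77311) F312170 (iv5 F50355) D68745 (iv2 F229988)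
theorem F341974 : act 5 n130244 = n163590 := d16_1 (iv4 F208759) (iv4 D163590) (iv5 F123851) F312863 (iv5 F229990) F341971 (iv5 D130206) (iv7 F337772) F337770
theorem F341975 : act 1 n170483 = n147505 := d17_8 F231278 (iv5 D133305) (iv1 F109067) (iv5 F229990) F341971 (iv5 D130206) F341750 F341958 F231290
theorem E98962 : n175839 = n175322 := (c20_4 (iv4 D88506) F68973 F319799 D175839 (iv1 D175322) (iv3 F337910) (iv4 F341971) (iv1 F229992) (iv4 F310540) (iv3 D90259) (iv1 F135504))
theorem F341976 : act 3 n175322 = n83925 := (sb E98962 (iv3 D175839))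
theorem F341977 : act 0 n144902 = n124539 := d20_4 D144808 (iv1 F338169) (iv4 F204827) (iv3 F227867) F199203 D124543 (iv1 F337904) (iv4 F341971) F229989 (iv1 F227687)
theorem F341978 : act 2 n144904 = n124539 := d15_3 (iv0 F341977) (iv0 F340874) (iv7 F230224)
theorem F341979 : act 5 n105944 = n144904 := d2_0 F341978 (iv5 D124539) (iv2 F297819)
theorem F341980 : act 7 n144905 = n124539 := d15_2 (iv0 D144904) D144905 (iv2 F341978)
theorem F341981 : act 2 n146048 = n144905 := d4_3 F341980 (iv2 F341978) F230224
theorem F341982 : act 3 n124509 = n144905 := d8_3 F341980 F199203 (iv7 F199156)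
theorem F341983 : act 5 n124508 = n144905 := d13_3 F341980 (iv5 D124539) (iv7 F199154)
theorem E98963 : n179466 = n179371 := ((c21_4 (iv5 D61611) F94565 F314279 D179371 (iv1 D179466) (iv6 F199153) F341983 (iv1 D144905) F104025 (iv6 D61698) (iv1 F96301))).symm
theorem F341984 : act 0 n179371 = n85618 := (sb E98963 (iv1 D179466))
theorem F341985 : act 1 n179371 = n86458 := (sb E98963 F301864)
theorem E98964 : n181028 = n179371 := (c15_4 F341985 (iv0 F307934) F311201 D181028)
theorem F341986 : act 2 n179371 = n86459 := (sb E98964 (iv2 D181028))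
theorem F341987 : act 7 n179371 = n86460 := (sb E98964 (iv7 F281870))
theorem F341988 : act 5 n132752 = n173492 := d18_4 (iv1 F47192) D62209 (iv1 F212805) (iv4 F213142) (iv4 F279326) F341985 (iv4 F307932) F208670 (iv5 D61010)
theorem F341989 : act 0 n173492 = n130973 := d20_1 F279326 F209582 (iv3 F314464) F314461 F312135 (iv4 D85660) (iv1 F60451) (iv4 F61038) (iv3 F132579) (iv1 F341985)
theorem E98965 : n170284 = n127855 := (c21_9 F97988 F78820 (iv5 F46918) D61708 D131489 (iv6 F247996) F307936 (iv1 F341985) F279327 (iv6 D127855) F97993)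
theorem F341990 : act 0 n127855 = n81664 := (sb E98965 (iv1 D170284))
theorem F341991 : act 5 n127855 = n179371 := (sb E98965 (iv5 F279327))
theorem F341992 : act 7 n181036 = n127855 := d13_0 F341991 F341987 D181036
theorem E98966 : n170285 = n123931 := ((c18_7 F341984 (iv4 F312003) (iv1 F208667) D129882 (iv5 F208225) (iv4 F215106) F306371 (iv4 D170285) (iv0 F341990) F341991)).symm
theorem F341993 : act 4 n123931 = n81664 := (sb E98966 (iv4 D170285))
theorem F341994 : act 6 n127839 = n122615 := d21_9 F301167 F187341 F147545 (iv6 F313000) F166710 D127855 F341991 F341984 (iv5 F312113) (iv1 F301164)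
theorem F341995 : act 2 n170010 = n127839 := d3_3 F341994 F196430 D170010
theorem F341996 : act 6 n123776 = n144905 := d12_2 F341994 (iv5 F198255) (iv5 F341983) F199153 (iv5 F312113)
theorem F341997 : act 6 n120389 = n131490 := d14_3 (iv7 F205674) F341994 F196431 (iv7 F309067) (iv6 F309904)
theorem F341998 : act 0 n181285 = n127855 := d21_10 F341991 F341984 (iv5 F312113) F341994 (iv1 F301164) (iv6 D100062) D100061 F153998 (iv5 F132808) D181285
theorem F341999 : act 5 n132335 = n181285 := d17_1 F313843 F341998 F341991 F279326 (iv5 F341988) F213139 D132982 F213619 F316291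
theorem F342000 : act 4 n127855 = n98937 := d18_1 F341998 (iv1 F272723) F308186 F207752 (iv4 F213189) (iv0 F217652) F317697 (iv0 F312040) F341999
theorem F342001 : act 3 n127855 = n179371 := d20_5 (iv4 F314459) (iv1 F311848) F198087 (iv3 F282368) F341998 F279326 F341989 F209582 (iv3 F314464) F314461
theorem F342002 : act 1 n181285 = n131405 := d15_1 (iv0 F341998) (iv7 D131405) (iv2 F205730)
theorem F342003 : act 7 n181285 = n131403 := d15_2 (iv0 F341990) (iv0 F341998) (iv2 F313845)
theorem F342004 : act 2 n131404 = n181285 := d4_3 F342003 (iv2 F313845) F313846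
theorem F342005 : act 7 n133677 = n123932 := d11_2 F342003 (iv4 F215105) F314264
theorem F342006 : act 2 n133677 = n123931 := d15_3 (iv0 D123931) D123932 (iv7 F342005)
theorem F342007 : act 7 n123931 = n107903 := d4_2 (iv7 F342005) F342006 (iv2 F314262)
theorem F342008 : act 3 n107906 = n123931 := d8_3 F342007 (iv3 D107903) D107906
theorem F342009 : act 4 n131405 = n88954 := d20_8 (iv4 F54838) D75559 F155416 F315650 (iv1 F166745) F342008 F341993 (iv1 F316297) (iv3 D88954) (iv1 D41533)
theorem F342010 : act 2 n181034 = n131405 := d1_3 F342009 F272716 (iv4 F281874)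
theorem F342011 : act 0 n154062 = n101542 := d20_4 (iv4 F342009) (iv1 F342002) (iv4 F314264) F314263 (iv3 D101542) F155125 F314615 F312269 D125114 F201012
theorem E98967 : n181036 = n181034 := (c2_1 D181036 F342010 F213639 F311200)
theorem F342012 : act 5 n181034 = n86460 := (sb E98967 (iv5 D181036))
theorem F342013 : act 7 n181034 = n127855 := (sb E98967 F341992)
theorem F342014 : act 1 n181034 = n131403 := d15_0 (iv0 D131403) D131405 (iv2 F342010)
theorem F342015 : act 1 n131404 = n181034 := d15_0 F342014 (iv7 F342003) (iv2 F342004)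
theorem F342016 : act 0 n123664 = n151500 := d20_7 (iv4 F299927) F155441 (iv4 F315980) (iv3 F210629) (iv1 F342002) F282368 (iv4 F198087) F238353 F107936 F311654
theorem F342017 : act 7 n123664 = n151986 := d15_2 F316789 (iv0 F342016) (iv2 F316790)
theorem F342018 : act 5 n136650 = n123664 := d16_7 F316792 (iv5 F312167) (iv4 F298514) (iv5 F60475) D85756 (iv5 F316158) D136650 F342017 (iv2 F316790)
theorem F342019 : act 1 n154244 = n151986 := d15_1 D154244 (iv7 F342017) F198086
theorem E98968 : n154244 = n123748 := ((c15_4 F342019 (iv0 D151986) (iv7 F314460) D123748)).symm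
theorem F342020 : act 0 n123748 = n73080 := (sb E98968 (iv1 D154244))
theorem F342021 : act 1 n123748 = n151986 := (sb E98968 F342019)
theorem E98969 : n181751 = n123748 := (c18_6 (iv1 F131386) (iv4 D85668) (iv1 F60455) D40238 D86795 D181751 F342021 (iv4 F310014) (iv0 D124054) (iv5 F311163))
theorem F342022 : act 4 n123748 = n86795 := (sb E98969 (iv4 D181751))
theorem F342023 : act 6 n151964 = n123748 := d10_0 F342022 (iv6 F312449) (iv4 F238967)
theorem F342024 : act 7 n151500 = n123748 := d11_0 F342022 (iv7 F312123) (iv4 F238353)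
theorem F342025 : act 4 n181757 = n151987 := d16_6 F342022 (iv5 D86795) (iv4 D40238) D40239 D86797 D181757 (iv5 D151987) (iv7 F314460) D123748
theorem F342026 : act 3 n101564 = n125200 := d20_5 (iv4 F312443) F312353 (iv4 F342022) F274481 (iv1 F310375) (iv4 D125200) (iv1 F92498) (iv4 F131802) F305160 (iv1 F197402)
theorem F342027 : act 0 n131350 = n161345 := d20_7 (iv4 F199605) (iv1 F310046) (iv4 F311082) F311081 (iv1 F166671) (iv3 F337634) (iv4 F337633) F311736 F342026 F201290
theorem F342028 : act 1 n99363 = n161574 := d17_6 F342027 F311737 (iv1 D174038) (iv5 D83206) (iv4 F195692) D99363 (iv5 D161574) (iv0 F310437) (iv4 F337633)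
theorem E98970 : n180450 = n107028 := (c18_6 F342027 F311736 (iv1 D101564) F308281 (iv5 F330870) (iv4 F280857) (iv0 D107028) (iv4 F332997) (iv0 F330850) F337635)
theorem F342029 : act 2 n107028 = n157956 := (sb E98970 F280856)
theorem F342030 : act 4 n107028 = n86183 := (sb E98970 F280857)
theorem F342031 : act 6 n107028 = n86181 := (sb E98970 (iv6 D180450))
theorem F342032 : act 4 n174038 = n144325 := d19_2 F342027 F311737 (iv3 D144325) (iv1 D67622) (iv5 D31410) (iv4 D14807) F11301 F5076 (iv5 D2194) F1994 F1260 D835 D1539 D3491 (iv3 F26529) F50569 D29212 D61647 D131350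
theorem F342033 : act 3 n101544 = n177818 := d20_5 (iv4 F337633) F342027 F311736 F342026 F201290 (iv4 D177818) (iv1 F129900) (iv4 F152449) (iv3 F198465) (iv1 F310438)
theorem F342034 : act 7 n172413 = n131412 := d15_2 (iv0 F342027) (iv0 F337631) F333009
theorem F342035 : act 5 n107029 = n157153 := d17_1 (iv1 F337618) (iv1 D157153) (iv5 F227056) (iv4 F342032) (iv5 F311737) (iv0 F342027) (iv5 F337635) F330851 D173222
theorem F342036 : act 7 n132956 = n176535 := d8_2 F342034 F333010 (iv3 F337629)
theorem E98971 : n131411 = n101923 := ((c15_4 (iv0 D131411) D131412 (iv7 F342034) F274807)).symm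
theorem F342037 : act 1 n101923 = n61678 := (sb E98971 (iv0 D131411))
theorem E98972 : n174872 = n174060 := ((c18_3 (iv1 F330837) D83215 D174060 (iv4 D174872) F310668 F308584 (iv0 F156909) (iv4 F156913) F342037 F330849)).symm
theorem F342038 : act 2 n174060 = n107029 := (sb E98972 (iv2 F337615))
theorem F342039 : act 4 n174060 = n83534 := (sb E98972 (iv4 D174872))
theorem F342040 : act 3 n179980 = n98896 := d20_5 F317269 (iv1 F342037) F156913 (iv3 F314170) D179980 (iv4 D98896) (iv1 D46280) (iv4 F72940) (iv3 F128797) (iv1 F310425)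
theorem E98973 : n131365 = n101603 := ((c20_9 (iv4 D34274) F50439 D29240 D61678 (iv1 F342037) (iv3 F337628) F188776 (iv1 F305844) (iv4 F308156) (iv3 D131365) F96236)).symm
theorem F342041 : act 3 n101603 = n61658 := (sb E98973 (iv3 D131365))
theorem E98974 : n152587 = n131546 := ((F308157).symm.trans (sb E98973 (iv5 F210795)))
theorem F342042 : act 7 n101603 = n145262 := (sb E98973 (iv7 F228254))
theorem F342043 : act 0 n131546 = n164563 := (sb E98974 (iv1 F259403))
theorem F342044 : act 1 n131546 = n71964 := (sb E98974 (iv0 D152587))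
theorem F342045 : act 5 n131546 = n101603 := (sb E98974 (iv5 F308157))
theorem F342046 : act 4 n110958 = n131546 := d18_3 F322709 F333005 D110958 F342045 F308156 F305844 (iv4 F188776) F303119 (iv5 F322711)
theorem F342047 : act 3 n166738 = n110958 := d5_5 F342046 (iv3 D131546) F330825 (iv3 F122844) (iv4 F262470)
theorem F342048 : act 6 n166736 = n110958 := d10_0 F342046 F330854 (iv4 F262464)
theorem F342049 : act 2 n158420 = n101603 := d4_3 F342042 F315647 (iv7 F249603)
theorem F342050 : act 0 n173412 = n132911 := d20_7 (iv4 F117108) (iv1 F310647) D61658 (iv3 F342041) (iv1 D101603) (iv3 F128408) (iv4 F271881) F213515 F210591 F312918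
theorem F342051 : act 7 n173412 = n132961 := d15_2 (iv0 F213518) (iv0 F342050) (iv2 F213595)
theorem F342052 : act 3 n132961 = n130262 := d8_1 F342051 F315332 (iv3 F271880)
theorem F342053 : act 4 n132961 = n163534 := d11_1 F342051 F323684 (iv4 F271881)
theorem E98975 : n173461 = n158420 := (c20_5 F213589 D132961 F342053 F323683 (iv1 F271920) (iv3 D158420) (iv4 F155419) (iv1 D41640) (iv4 F54793) (iv3 F113290) F315825)
theorem F342054 : act 0 n158420 = n82998 := (sb E98975 (iv1 D173461))
theorem F342055 : act 1 n158420 = n101605 := (sb E98975 F271920)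
theorem E98976 : n184757 = n181400 := ((c20_1 (iv4 F282516) (iv1 D184757) F135085 (iv3 F255170) F311735 F317268 F213589 D132961 F342053 F323683 (iv1 F342055))).symm
theorem F342056 : act 0 n181400 = n88104 := (sb E98976 (iv1 D184757))
theorem E98977 : n173460 = n145262 := ((c20_4 (iv4 F71094) (iv1 F312913) (iv4 F104234) D145262 (iv1 F271925) (iv3 F323683) (iv4 F342053) (iv1 F213599) F210564 (iv3 D61663) F314518)).symm
theorem F342057 : act 0 n145262 = n101605 := (sb E98977 (iv1 F271925))
theorem F342058 : act 1 n145262 = n82998 := (sb E98977 (iv0 D173460))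
theorem F342059 : act 5 n164561 = n145262 := d17_7 F199911 (iv5 F199914) (iv1 D79045) (iv5 D35974) (iv4 F56685) D79035 D164561 F342058 F305941
theorem F342060 : act 2 n152588 = n164561 := d2_3 F342059 F315647 F307033
theorem F342061 : act 7 n131546 = n164561 := d13_0 F342059 (iv7 F342042) (iv5 F342045)
theorem F342062 : act 1 n157875 = n164562 := d18_6 F342057 F308161 (iv1 F199935) F302833 (iv5 F320254) F302606 (iv4 D164562) D164561 F342059
theorem F342063 : act 2 n131546 = n164560 := d15_3 (iv0 D164560) D164561 (iv7 F342061)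
theorem F342064 : act 3 n164560 = n158421 := d0_2 D131546 F342063 F249604 (iv3 F315645) F210683
theorem F342065 : act 5 n164560 = n158420 := d2_2 (iv5 F342045) F342063 F342049
theorem F342066 : act 6 n164560 = n166750 := d3_2 (iv6 F330854) F342063 (iv2 D166750)
theorem F342067 : act 7 n164560 = n152588 := d4_2 (iv7 F342061) F342063 F342060
theorem F342068 : act 6 n152588 = n125369 := d14_1 F342067 (iv7 F261300) D180374 F334666 (iv6 F342066)
theorem F342069 : act 6 n163499 = n164561 := d3_2 F342068 (iv2 F261299) (iv2 F342060)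
theorem F342070 : act 6 n163806 = n180372 := d14_5 F280693 F342069 (iv7 F342061) F330854 F258248
theorem F342071 : act 6 n174807 = n125399 := d21_9 F327515 (iv1 F280844) F280842 F342069 (iv1 D164561) (iv6 F259374) (iv5 D164554) (iv1 F272357) D174807 (iv1 F327513)
theorem F342072 : act 6 n164556 = n111548 := d21_3 (iv5 D79035) D79033 D164556 (iv1 D111548) D111551 F327515 (iv1 F280844) F280842 F342069 (iv1 D164561)
theorem F342073 : act 3 n111548 = n125405 := d7_1 F342072 F336017 (iv3 F307508)
theorem F342074 : act 5 n175939 = n111548 := d6_0 F342073 F336016 D175939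
theorem F342075 : act 6 n114983 = n175939 := d12_0 F342074 (iv6 F342072) (iv5 D164556) D164557 (iv5 F335511)
theorem F342076 : act 4 n175939 = n114998 := d10_1 F342075 (iv6 D114998) (iv4 F179066)
theorem F342077 : act 0 n117355 = n114998 := d20_1 (iv4 F183788) (iv4 F342076) (iv3 D175939) (iv1 D83958) (iv3 F128939) F321782 F319230 (iv4 F113852) (iv3 F318491) F339247
theorem E98978 : n175931 = n69023 := (c20_2 (iv4 F128942) D175931 F105236 (iv3 D32117) (iv1 F51035) D68994 (iv4 F183788) F342077 (iv4 F342076) (iv3 D175939) (iv1 D83958))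
theorem E98979 : n147234 = n83956 := ((D147234).symm.trans (sb E98978 (iv0 D175931)))
theorem F342078 : act 0 n83956 = n69023 := (sb E98979 (iv1 D147234))
theorem F342079 : act 7 n175932 = n147235 := d15_2 (iv0 F342078) D175932 (iv2 D147235)
theorem E98980 : n175934 = n92462 := (c15_3 F330316 (iv0 F342078) D175934 F142266)
theorem F342080 : act 4 n92462 = n83960 := (sb E98980 F275293)
theorem F342081 : act 7 n92462 = n83956 := (sb E98980 (iv7 D175934))
theorem F342082 : act 7 n132867 = n90255 := d4_2 F342081 (iv2 F317560) (iv2 F142266)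
theorem F342083 : act 4 n90255 = n173650 := d11_1 F342082 (iv7 D173650) (iv4 F317561)
theorem F342084 : act 1 n175932 = n90255 := d15_1 D175932 (iv7 F342082) F317560
theorem F342085 : act 2 n144910 = n175932 := d15_3 F342084 F330316 (iv7 F227875)
theorem F342086 : act 3 n175932 = n155974 := d0_2 D144910 F342085 F245009 (iv3 D145915) (iv2 F104605)
theorem F342087 : act 4 n175932 = n112590 := d1_2 (iv4 F227874) F342085 F175176
theorem F342088 : act 0 n112574 = n175943 := d18_2 (iv1 D112573) D112574 (iv4 D175943) (iv5 D83959) (iv4 F128942) D175932 F342087 F175180 (iv5 F330314)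
theorem F342089 : act 1 n125606 = n175943 := d15_0 (iv0 F342088) F175148 D125606
theorem F342090 : act 0 n147235 = n92462 := d20_7 F316436 (iv1 F130608) (iv4 F323587) F80475 D51019 (iv3 F105257) (iv4 F230824) F342080 (iv3 F319403) F318682
theorem F342091 : act 0 n92462 = n144910 := d20_7 F105138 F51440 D59876 F320737 (iv1 F317154) F319403 (iv4 F342080) F227874 (iv3 D68961) D68960
theorem F342092 : act 5 n177678 = n173647 := d18_9 (iv1 F272132) (iv4 F342080) F342091 F227874 (iv5 F202633) F202632 (iv0 D113217) F318605 D177678
theorem F342093 : act 1 n132867 = n144910 := d15_0 (iv0 F342091) F342081 (iv2 F317560)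
theorem F342094 : act 1 n147235 = n132867 := d15_0 F342093 F227875 D147235
theorem F342095 : act 5 n173648 = n177677 := d18_9 (iv1 F319464) (iv4 D113223) (iv1 D52263) (iv4 F82571) F105258 (iv4 F230824) F342094 F317561 D173648
theorem F342096 : act 0 n110583 = n173640 := d20_4 (iv4 D50547) D50545 (iv4 F80432) (iv3 F171151) F272117 (iv4 F317561) (iv1 F342094) F230824 F105257 (iv1 F80479)
theorem E98981 : n159890 = n145763 := ((c17_5 F342096 (iv5 F334726) (iv1 F175128) (iv5 F175131) F228898 (iv5 D159890) F229416 F229412 F228847 F228846)).symm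
theorem F342097 : act 5 n145763 = n76542 := (sb E98981 (iv5 D159890))
theorem F342098 : act 7 n145763 = n81998 := (sb E98981 F328283)
theorem E98982 : n180113 = n98230 := (c21_1 D180113 (iv1 D98230) (iv5 F321013) (iv6 F322769) (iv1 F332201) (iv6 D110584) D110583 F342096 (iv5 F334726) (iv6 F334724) (iv1 F201503))
theorem F342099 : act 5 n98230 = n86059 := (sb E98982 (iv5 D180113))
theorem F342100 : act 5 n180111 = n158442 := d6_2 F342099 D180111 F307598
theorem E98983 : n180114 = n159201 := (c21_4 F321788 (iv1 F151581) F342099 D180114 (iv1 D159201) (iv6 F115595) F316547 F118798 D38349 D83268 (iv1 F324242))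
theorem F342101 : act 6 n159201 = n86059 := (sb E98983 (iv6 D180114))
theorem F342102 : act 6 n158583 = n98230 := d21_5 F208664 (iv1 F47415) F315091 D75643 D158583 F342099 (iv1 D86059) F320828 (iv6 D61102) D61099
theorem F342103 : act 0 n158583 = n130442 := d21_4 (iv5 F323360) (iv1 F201503) (iv5 F342099) (iv6 F342102) (iv6 F213756) F313454 F333774 F329144 (iv6 F333768) F333764
theorem F342104 : act 2 n158586 = n130442 := d15_3 (iv0 F342103) (iv0 D158583) D158586
theorem F342105 : act 5 n130442 = n176161 := d2_2 (iv5 F249766) F342104 (iv2 D176161)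
theorem F342106 : act 2 n133106 = n160322 := d3_3 (iv6 F303419) F342104 (iv6 F213756)
theorem F342107 : act 1 n158586 = n130439 := d15_0 (iv0 D130439) D130442 (iv2 F342104)
theorem F342108 : act 4 n160321 = n133106 := d1_0 F342106 (iv4 D160322) D160321
theorem F342109 : act 5 n160322 = n160514 := d2_2 (iv5 F313454) F342106 (iv2 D160514)
theorem F342110 : act 1 n160322 = n133103 := d15_0 (iv0 D133103) D133106 F342106
theorem F342111 : act 4 n160323 = n177622 := d16_2 (iv4 D160322) D160323 F277086 (iv4 F277082) F341713 F327210 F316544 D133106 F342106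
theorem F342112 : act 1 n133106 = n160781 := d15_0 (iv0 D160781) (iv7 F253228) (iv2 F342106)
theorem F342113 : act 7 n160781 = n152463 := d15_2 (iv0 F334765) F342112 (iv2 F240888)
theorem F342114 : act 3 n134628 = n160781 := d8_3 F342113 F239653 (iv7 F310818)
theorem F342115 : act 5 n177452 = n160781 := d16_7 F240889 F339096 (iv4 D84609) (iv5 D39074) (iv4 F60009) D84541 D177452 F342113 (iv2 F240888)
theorem F342116 : act 7 n177452 = n160493 := d13_2 (iv7 F342113) (iv5 F342115) F318840
theorem F342117 : act 4 n160493 = n177454 := d11_1 F342116 (iv7 D177454) D177452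
theorem F342118 : act 2 n177452 = n160492 := d15_3 (iv0 D160492) D160493 (iv7 F342116)
theorem F342119 : act 4 n160492 = n177449 := d1_2 D177452 F342118 F276867
theorem F342120 : act 5 n177655 = n153322 := d16_5 F342119 (iv5 D177449) F129709 D84606 D177655 F240881 (iv5 F318840) (iv7 F342116) F342118
theorem E98984 : n174836 = n160492 := (c16_9 (iv4 D177452) (iv5 D84541) F60009 D39074 D84609 (iv5 F339096) (iv4 F240889) F300660 F273706 (iv2 F342118))
theorem E98985 : n177452 = n83520 := (((iv2 F342118)).symm.trans (sb E98984 (iv2 D174836)))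
theorem F342121 : act 7 n160492 = n83521 := (sb E98984 (iv7 F273706))
theorem F342122 : act 2 n83520 = n160492 := (sb E98985 F342118)
theorem E98986 : n174838 = n84541 := ((D174838).symm.trans (sb E98985 (iv4 D177452)))
theorem E98987 : n174839 = n160781 := ((D174839).symm.trans (sb E98985 F342115))
theorem E98988 : n174841 = n160493 := ((D174841).symm.trans (sb E98985 F342116))
theorem F342123 : act 4 n84541 = n83520 := (sb E98986 (iv4 D174838))
theorem F342124 : act 5 n160781 = n83520 := (sb E98987 (iv5 D174839))
theorem F342125 : act 2 n160493 = n83521 := (sb E98988 F273707)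
theorem F342126 : act 7 n160493 = n83520 := (sb E98988 (iv7 D174841))
theorem F342127 : act 2 n174843 = n177454 := d1_3 (iv4 F342117) F342125 D174843
theorem F342128 : act 5 n177438 = n174843 := d2_0 F342127 F276871 F276860
theorem F342129 : act 7 n177449 = n174843 := d4_0 F342127 (iv7 D177454) (iv2 F276867)
theorem F342130 : act 1 n174843 = n177450 := d15_0 (iv0 D177450) D177454 (iv2 F342127)
theorem F342131 : act 1 n177451 = n174843 := d15_1 D177451 (iv7 F342129) F276867
theorem F342132 : act 0 n172537 = n177442 := d17_0 (iv5 D177442) D177438 F342128 (iv4 D174843) (iv5 F300660) (iv0 F334765) F313454 (iv0 F333783) (iv4 F270723)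
theorem F342133 : act 5 n174837 = n134628 := d6_2 F342124 D174837 F342114
theorem F342134 : act 1 n177446 = n157827 := d17_8 D157834 F333772 D160781 F342124 (iv4 F342123) (iv5 D84541) D84539 D177446 F248709
theorem F342135 : act 5 n174846 = n177613 := d17_1 D174846 (iv1 D177613) (iv5 F341730) F326415 (iv5 F313454) F342112 F342124 (iv0 D83520) D83522
theorem E98989 : n174840 = n58249 := (c21_4 F333772 D160781 F342124 D174840 (iv1 D58249) F44791 (iv5 F30119) D39900 (iv5 F248725) D75192 D157834)
theorem E98990 : n160684 = n124657 := (((D124657).symm.trans (sb E98989 (iv5 F333797)))).symm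
theorem E98991 : n124658 = n83520 := ((D124658).symm.trans (sb E98989 (iv6 D174840)))
theorem F342136 : act 0 n124657 = n146732 := (sb E98990 (iv1 F315400))
theorem F342137 : act 1 n124657 = n77069 := (sb E98990 (iv0 D160684))
theorem F342138 : act 3 n124657 = n85008 := (sb E98990 F331712)
theorem F342139 : act 4 n124657 = n158388 := (sb E98990 (iv4 F336434))
theorem F342140 : act 6 n83520 = n58249 := (sb E98991 (iv6 D124658))
theorem E98992 : n175440 = n113480 := ((c21_5 (iv5 F342124) (iv1 F342112) F313454 F325716 D113480 (iv6 D175440) F317101 (iv1 F317095) D83508 F128616 D83520)).symm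
theorem F342141 : act 5 n113480 = n174982 := (sb E98992 F274627)
theorem F342142 : act 6 n113480 = n83775 := (sb E98992 (iv6 D175440))
theorem F342143 : act 3 n131522 = n113480 := d7_3 F342142 F317100 D131522
theorem F342144 : act 6 n128712 = n113386 := d10_2 F342142 (iv4 F319379) (iv4 F176670)
theorem F342145 : act 0 n124497 = n174982 := d21_7 (iv5 D38600) D38598 D83767 (iv6 F330868) (iv1 D58706) D58708 (iv5 F199126) (iv5 F342141) F342142 (iv1 D83775)
theorem F342146 : act 5 n113499 = n133269 := d21_6 (iv5 F322741) F317096 (iv5 F317101) (iv6 F342142) (iv1 F176676) D113499 (iv1 F214237) D133278 F334671 F322734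
theorem F342147 : act 0 n113498 = n175020 := d21_1 D113498 F273923 F339186 (iv1 D177508) F129726 (iv5 F322741) F317096 (iv5 F317101) (iv6 F342142) (iv1 F176676)
theorem F342148 : act 5 n130811 = n165710 := d6_2 F342146 F214234 (iv3 F327282)
theorem F342149 : act 6 n107382 = n113498 := d12_4 D113499 F342146 (iv6 F330906) F336037 (iv5 D113498)
theorem E98993 : n132888 = n132779 := (c21_4 (iv5 F342146) (iv1 F337546) (iv5 D132887) D132888 (iv1 F213261) F97194 F324233 F330895 F330889 F330891 (iv1 F214238))
theorem F342150 : act 6 n132779 = n62359 := (sb E98993 (iv6 D132888))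
theorem F342151 : act 6 n113481 = n177678 := d21_5 F324228 (iv1 F214238) (iv5 F342146) (iv6 D113499) (iv1 F176671) F342092 (iv1 F272132) (iv5 F323364) (iv6 D164070) (iv1 F299413)
theorem E98994 : n132799 = n132779 := (c3_4 F342150 (iv2 F336069) (iv6 D132803) D132799)
theorem F342152 : act 2 n132779 = n62326 := (sb E98994 (iv2 D132799))
theorem F342153 : act 7 n132779 = n62327 := (sb E98994 (iv7 F213293))
theorem F342154 : act 4 n185907 = n132779 := d10_3 F342150 F333826 D185907
theorem F342155 : act 2 n132801 = n185907 := d1_3 F342154 F342152 D132801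
theorem F342156 : act 7 n132806 = n185907 := d11_0 F342154 F342153 D132806
theorem F342157 : act 3 n135782 = n185907 := d20_5 (iv4 F336160) F336156 F93600 (iv3 F99300) D135782 F342154 (iv1 F213261) (iv4 F213272) F213271 (iv1 F99101)
theorem F342158 : act 6 n185904 = n135782 := d7_0 F342157 (iv6 D185907) D185904
theorem F342159 : act 7 n135782 = n159674 := d14_2 (iv7 F288403) F342158 (iv6 D159674) F114514 D105327
theorem F342160 : act 3 n159674 = n132806 := d8_1 F342159 F342156 (iv3 F342157)
theorem F342161 : act 2 n132806 = n159575 := d0_1 F342160 F251337 F114456 (iv3 F161514) (iv2 F251540)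
theorem F342162 : act 6 n132806 = n159501 := d7_2 D159674 F342160 F251180
theorem F342163 : act 0 n135785 = n159674 := d20_4 (iv4 F164154) (iv1 F203338) F203336 (iv3 F218366) F342160 (iv4 D132806) (iv1 D62327) (iv4 F97186) F97185 D63543
theorem F342164 : act 1 n113902 = n159674 := d15_0 (iv0 F342163) (iv7 D135785) (iv2 F326359)
theorem F342165 : act 4 n159501 = n132808 := d10_1 F342162 (iv6 D132808) D132806
theorem F342166 : act 2 n132808 = n137357 := d1_1 F342165 F220552 (iv2 F251179)
theorem F342167 : act 5 n132808 = n127156 := d9_2 D159501 F342165 (iv4 F204413) (iv5 F218803) F218804 (iv5 D69726) F51390 D69710 (iv4 F324726) F324727 F204074 (iv5 F218832) (iv4 F251999) (iv5 D159852) F114693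
theorem F342168 : act 7 n132808 = n137347 := d11_2 (iv7 F251181) F342165 F220541
theorem F342169 : act 0 n132808 = n113679 := d17_0 (iv5 F223088) F223079 F325869 (iv4 F325868) (iv5 D42395) D42394 D90568 (iv0 F251182) F342165
theorem F342170 : act 1 n132808 = n113676 := d18_6 D25472 (iv4 F76658) (iv1 F114695) F114693 D159501 F342165 (iv4 D113676) (iv0 D52488) (iv5 D25475)
theorem F342171 : act 6 n130809 = n158517 := d21_5 F342167 (iv1 D127156) (iv5 F322560) F97765 (iv1 F209363) (iv5 F307529) (iv1 F309520) (iv5 F321104) (iv6 F337549) (iv1 F342170)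
theorem F342172 : act 6 n167465 = n133275 := d14_3 (iv7 F334619) F342171 (iv7 F308594) (iv7 D133275) (iv6 F330891)
theorem E98995 : n185782 = n61104 := (c21_10 D61105 (iv1 F334379) F336091 F342171 (iv1 D158517) (iv6 F319945) F139296 (iv1 F143267) F143265 D185782 (iv1 D61104))
theorem E98996 : n130164 = n130046 := (((iv2 F208688)).symm.trans (sb E98995 (iv2 F323384)))
theorem E98997 : n130166 = n88484 := ((D130166).symm.trans (sb E98995 F288111))
theorem E98998 : n130168 = n88483 := ((D130168).symm.trans (sb E98995 (iv6 D185782)))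
theorem E98999 : n130159 = n130128 := ((F208687).symm.trans (sb E98995 (iv7 F331841)))
theorem F342173 : act 2 n130046 = n61104 := (sb E98996 F208688)
theorem F342174 : act 7 n130046 = n61103 := (sb E98996 (iv7 D130164))
theorem F342175 : act 4 n88484 = n61104 := (sb E98997 (iv4 D130166))
theorem F342176 : act 6 n88483 = n61104 := (sb E98998 (iv6 D130168))
theorem F342177 : act 2 n130128 = n61103 := (sb E98999 (iv2 D130159))
theorem F342178 : act 7 n130128 = n61104 := (sb E98999 (iv7 F208687))
theorem F342179 : act 7 n130165 = n136731 := d8_2 F342178 D130165 F336032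
theorem F342180 : act 7 n130167 = n124490 := d13_2 F342178 D130167 F336025
theorem F342181 : act 2 n130167 = n165708 := d15_3 (iv0 D165708) (iv0 F336023) (iv7 F342180)
theorem F342182 : act 4 n136962 = n130165 := d11_3 F342179 F219892 D136962
theorem E99000 : n136962 = n134602 := (c20_7 F176880 F82934 (iv4 F157536) F321700 (iv1 F208643) D130165 (iv4 F342182) (iv1 D134602) F98486 (iv3 F98485) (iv1 F327765))
theorem F342183 : act 4 n134602 = n130165 := (sb E99000 F342182)
theorem F342184 : act 7 n134602 = n64373 := (sb E99000 (iv7 D136962))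
theorem F342185 : act 6 n135305 = n134602 := d14_5 F342184 (iv6 D64373) (iv7 F99453) D135975 (iv7 F338567)
theorem E99001 : n134601 = n110739 := ((c15_4 (iv0 D134601) D134602 F342184 (iv2 F171415))).symm
theorem F342186 : act 1 n110739 = n63246 := (sb E99001 (iv0 D134601))
theorem F342187 : act 6 n130165 = n132928 := d10_2 F342185 F342183 F338550
theorem E99002 : n130048 = n106400 := (c14_3 (iv7 F342179) F342187 F338551 (iv6 D106400) (iv7 F100066) D136731)
theorem F342188 : act 3 n106400 = n61067 := (sb E99002 (iv3 D130048))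
theorem F342189 : act 7 n106400 = n132928 := (sb E99002 (iv7 F338551))
theorem F342190 : act 1 n138198 = n132928 := d15_1 F338562 (iv7 F342189) (iv2 F338563)
theorem F342191 : act 3 n102943 = n113135 := d6_3 F176266 F342188 (iv5 F323376)
theorem F342192 : act 0 n185796 = n135290 := d20_4 (iv4 F321705) (iv1 F74818) (iv4 F135468) D185796 F217527 (iv4 F332705) F338461 F218746 F342188 (iv1 D61067)
theorem F342193 : act 4 n135290 = n163623 := d20_0 F299823 F341953 (iv3 D60970) F53623 (iv3 F46573) (iv4 F321705) (iv1 F74818) (iv4 F135468) D185796 F342192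
theorem F342194 : act 3 n163623 = n89189 := d5_1 F342193 (iv4 D89189) (iv3 F136866) F332705 (iv3 F217527)
theorem F342195 : act 7 n163623 = n128981 := d11_2 D135290 F342193 (iv4 F207231)
theorem E99003 : n147166 = n135290 := (c16_2 (iv4 F312107) D147166 F342193 (iv5 D163623) F297779 F60178 (iv4 F115629) (iv5 F299085) (iv7 F310879) F310878)
theorem F342196 : act 5 n135290 = n68996 := (sb E99003 (iv5 D147166))
theorem F342197 : act 4 n130277 = n124509 := d18_1 D130277 (iv1 F299087) (iv4 F312107) (iv5 F342196) F342193 F299824 F341968 (iv0 D61140) D61142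
theorem E99004 : n163629 = n129199 := (c9_16 (iv5 F212089) F342197 (iv5 D124509) F296511 (iv5 F119771) (iv4 F297474) D177429 F341762 F333923 (iv4 D86673) (iv5 D40168) F30302 (iv5 F28282) (iv4 F56471) D78616 D163629)
theorem F342198 : act 4 n129199 = n78616 := (sb E99004 (iv4 D163629))
theorem F342199 : act 7 n124543 = n130277 := d11_0 F342197 F199156 D124543
theorem F342200 : act 1 n146670 = n130277 := d17_8 (iv1 F299087) (iv5 F132912) (iv1 D80575) (iv5 F299837) D124556 F341960 D129803 F338383 F342197
theorem F342201 : act 3 n162571 = n181589 := d20_5 (iv4 D73126) (iv1 F109253) (iv4 F206349) F206348 (iv1 F256812) (iv4 D181589) F299083 (iv4 F342197) (iv3 F213606) F339657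
theorem F342202 : act 4 n181804 = n162571 := d5_0 F342201 (iv4 D181589) (iv3 F311261) (iv4 F133112) (iv3 F282978)
theorem E99005 : n162576 = n132812 := (c20_3 F119267 D78071 D162576 F213295 (iv1 F97211) F333922 (iv4 D86673) D86671 D181589 (iv3 F342201) (iv1 D162571))
theorem F342203 : act 4 n132812 = n78071 := (sb E99005 (iv4 D162576))
theorem F342204 : act 4 n162574 = n172113 := d1_2 F342203 D162574 F336062
theorem E99006 : n162575 = n73287 := (c5_2 F342203 D162575 F310599 (iv3 F310598) (iv4 F315525) (iv3 F213295))
theorem E99007 : n154603 = n78071 := ((D154603).symm.trans (sb E99006 (iv3 D162575)))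
theorem F342205 : act 3 n78071 = n73287 := (sb E99007 (iv3 D154603))
theorem E99008 : n162579 = n132811 := (c11_3 D132812 F342203 D162579 (iv4 D132811))
theorem F342206 : act 2 n132811 = n78072 := (sb E99008 F256822)
theorem F342207 : act 7 n132811 = n78071 := (sb E99008 (iv7 D162579))
theorem E99009 : n154344 = n63235 := (c20_6 F342203 (iv1 F256748) F256745 (iv3 F206348) (iv1 F206351) D154344 D134576 F334636 F234641 (iv3 F195630) F334635)
theorem E99010 : n134532 = n73121 := (((iv3 F216514)).symm.trans (sb E99009 (iv3 D154344)))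
theorem F342208 : act 3 n73121 = n63235 := (sb E99010 F216514)
theorem E99011 : n154346 = n63220 := ((D154346).symm.trans (sb E99010 (iv5 D134532)))
theorem F342209 : act 5 n63220 = n73121 := (sb E99011 (iv5 D154346))
theorem F342210 : act 0 n154601 = n170728 := d20_4 (iv4 D33737) (iv1 F52973) D73285 D154601 F268252 (iv4 F195631) F334635 F342203 F342205 (iv1 F109792)
theorem E99012 : n132310 = n129733 := ((c20_5 (iv4 F309120) (iv1 F311295) (iv4 D60954) (iv3 F95480) D129733 F321203 F119267 D78071 (iv4 F342203) F213295 (iv1 F97211))).symm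
theorem F342211 : act 2 n129733 = n73119 := (sb E99012 F321202)
theorem F342212 : act 3 n129733 = n78070 := (sb E99012 F321203)
theorem F342213 : act 4 n129733 = n123094 := (sb E99012 F321204)
theorem F342214 : act 5 n129733 = n62074 := (sb E99012 (iv5 D132310))
theorem F342215 : act 6 n129733 = n73118 := (sb E99012 F321205)
theorem F342216 : act 6 n128056 = n120150 := d21_9 (iv5 D84903) (iv1 F155154) D39344 (iv6 F313370) D129733 F342215 F109614 (iv1 F94736) D128056 F311316
theorem E99013 : n120155 = n95833 := (c7_3 F342216 F189783 D120155 (iv3 F206068))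
theorem F342217 : act 6 n95833 = n55289 := (sb E99013 (iv6 D120155))
theorem E99014 : n175397 = n151428 := (c10_3 F342216 F311318 D175397 (iv4 F238166))
theorem F342218 : act 6 n151428 = n83754 := (sb E99014 (iv6 D175397))
theorem E99015 : n175393 = n156244 := (c3_2 F342218 (iv2 F274434) F335202 F238167)
theorem F342219 : act 2 n156244 = n83754 := (sb E99015 F274434)
theorem F342220 : act 7 n156244 = n83753 := (sb E99015 (iv7 D175393))
theorem E99016 : n175394 = n89577 := (c7_2 F342218 D175394 (iv6 F301800) F238165)
theorem F342221 : act 3 n89577 = n83754 := (sb E99016 (iv3 D175394))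
theorem E99017 : n111207 = n100128 := (c6_4 F154055 F342221 (iv5 F320429) (iv3 F245546))
theorem F342222 : act 0 n100128 = n111128 := (sb E99017 (iv1 F172464))
theorem F342223 : act 1 n100128 = n51294 := (sb E99017 (iv0 D111207))
theorem F342224 : act 3 n100128 = n156235 := (sb E99017 F245546)
theorem F342225 : act 0 n111141 = n89577 := d20_4 F100737 (iv1 F98404) (iv4 F80868) (iv3 F172369) F342221 (iv4 F311318) F311316 (iv4 F332234) F172412 (iv1 F100739)
theorem F342226 : act 0 n100119 = n111142 := d21_4 F152915 (iv1 F73294) D46735 D100119 (iv6 D111142) D111141 F342225 (iv5 F154055) (iv6 D100128) (iv1 F152918)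
theorem F342227 : act 6 n156235 = n100125 := d7_2 D100128 F342224 (iv3 D100125)
theorem F342228 : act 2 n100125 = n156245 := d3_1 F342227 (iv6 D156245) (iv2 F245545)
theorem F342229 : act 4 n100125 = n156236 := d10_1 F342227 (iv6 D156236) D156235
theorem F342230 : act 5 n100125 = n172013 := d12_1 F342227 (iv6 D172013) (iv5 F238164) F342218 (iv5 F320429)
theorem F342231 : act 0 n156236 = n139631 := d20_7 (iv4 D53468) (iv1 F81180) F328500 F73809 D46737 D100125 F342229 F222798 F171706 F99504
theorem F342232 : act 7 n175389 = n148160 := d8_2 F342220 D175389 (iv3 F335200)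
theorem E99018 : n175388 = n175165 := (c15_4 (iv0 D175165) (iv0 F332252) F342220 D175388)
theorem F342233 : act 2 n175165 = n83753 := (sb E99018 (iv2 D175388))
theorem F342234 : act 7 n175165 = n83754 := (sb E99018 (iv7 F274429))
theorem E99019 : n175165 = n157078 := (c16_10 (iv4 D157078) (iv5 D74685) (iv4 D34226) (iv5 D16560) (iv4 F26105) D34095 D74326 D156244 F342220 (iv2 F342233))
theorem F342235 : act 0 n157078 = n83757 := (sb E99019 (iv1 F274188))
theorem F342236 : act 1 n157078 = n83662 := (sb E99019 (iv0 D175165))
theorem F342237 : act 2 n157078 = n83753 := (sb E99019 F342233)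
theorem F342238 : act 7 n157078 = n83754 := (sb E99019 F342234)
theorem F342239 : act 0 n118548 = n147813 := d20_4 D83662 (iv1 F342236) (iv4 D157078) (iv3 F186455) F231576 F105525 (iv1 F185299) (iv4 F231369) F334535 (iv1 D83661)
theorem F342240 : act 5 n147813 = n133682 := d17_3 (iv1 F310581) D118548 F342239 F215109 F97951 (iv0 F93549) F50559 (iv0 F96293) (iv4 F308480)
theorem F342241 : act 1 n118554 = n147813 := d15_0 (iv0 F342239) F186456 (iv2 F186463)
theorem F342242 : act 7 n147813 = n120152 := d15_2 (iv0 F336916) F342241 F309687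
theorem F342243 : act 4 n131173 = n183227 := d18_5 F309689 (iv4 F310773) F86241 D61536 D131173 (iv0 D183227) (iv4 F330757) F342241 F342240
theorem F342244 : act 4 n95521 = n147813 := d20_6 (iv4 D81704) (iv1 F71703) F71699 F34142 (iv1 F70144) D95521 (iv1 F342241) F330757 F134283 (iv1 F332548)
theorem F342245 : act 6 n147799 = n95521 := d10_0 F342244 (iv6 D147813) (iv4 F231539)
theorem E99020 : n120152 = n95907 := (c11_3 (iv7 F317851) F342244 F342242 (iv4 D95907))
theorem F342246 : act 1 n95907 = n55289 := (sb E99020 (iv0 D120152))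
theorem F342247 : act 2 n95907 = n83161 := (sb E99020 F309687)
theorem F342248 : act 5 n95907 = n83158 := (sb E99020 F309688)
theorem F342249 : act 7 n95907 = n147813 := (sb E99020 (iv7 F342242))
theorem F342250 : act 1 n97084 = n95521 := d18_6 D118547 F186451 F106296 (iv4 F186375) F332309 F259256 F342244 (iv0 F342239) (iv5 D118548)
theorem F342251 : act 1 n95906 = n97084 := d15_0 F342250 F317851 D95906
theorem E99021 : n173904 = n95906 := (c18_6 (iv1 F189744) F189745 (iv1 F309972) F70570 D83161 D173904 F342251 (iv4 F259256) F336414 (iv5 D120137))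
theorem F342252 : act 3 n95906 = n164621 := (sb E99021 F332639)
theorem F342253 : act 4 n95906 = n83161 := (sb E99021 (iv4 D173904))
theorem F342254 : act 2 n147813 = n120153 := d4_1 F342249 F312215 (iv2 F342247)
theorem F342255 : act 3 n147820 = n95907 := d8_3 F342249 F231576 D147820
theorem F342256 : act 4 n95904 = n118558 := d20_8 (iv4 D152446) (iv1 D71911) (iv4 F108418) (iv3 F239623) F334519 F342255 (iv4 D95907) D95904 F332316 (iv1 F327792)
theorem F342257 : act 3 n97281 = n95904 := d5_5 F342256 F332316 (iv4 F327798) (iv3 F177958) F259000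
theorem F342258 : act 5 n112928 = n95904 := d9_0 F342256 (iv5 D118558) F96295 F104017 F104014 (iv5 F94244) D112926 (iv5 F336410) (iv4 F336407) (iv5 D118561) (iv4 F86282) (iv5 D32453) (iv4 F51516) F82402 D112928
theorem F342259 : act 7 n97084 = n95904 := d11_0 F342256 F336412 F259256
theorem F342260 : act 6 n120153 = n147811 := d3_2 D147813 F342254 (iv2 D147811)
theorem E99022 : n173902 = n118548 := ((c15_1 (iv0 F342239) (iv0 D173902) (iv7 F312215) (iv2 F342254))).symm
theorem F342261 : act 1 n118548 = n83161 := (sb E99022 (iv0 D173902))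
theorem F342262 : act 3 n147811 = n173692 := d7_1 F342260 (iv6 D173692) (iv3 F312213)
theorem E99023 : n147811 = n125967 := ((c21_5 F82051 (iv1 D28028) D28029 D58981 D125967 (iv6 F342260) F312214 F128024 D85129 (iv6 F328397) (iv1 F82049))).symm
theorem F342263 : act 2 n125967 = n69255 := (sb E99023 (iv2 D147811))
theorem F342264 : act 3 n125967 = n173692 := (sb E99023 F342262)
theorem F342265 : act 6 n125967 = n120153 := (sb E99023 (iv6 F342260))
theorem E99024 : n147413 = n125968 := ((c15_2 (iv0 D125967) D125968 F231160 (iv2 F342263))).symm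
theorem F342266 : act 3 n125968 = n69106 := (sb E99024 (iv3 D147413))
theorem F342267 : act 4 n125968 = n127628 := (sb E99024 F231159)
theorem F342268 : act 7 n125968 = n69255 := (sb E99024 F231160)
theorem F342269 : act 4 n112361 = n157550 := d20_6 F51141 (iv1 F51103) D69106 (iv3 F342266) (iv1 D125968) (iv3 F174807) (iv1 D157550) (iv4 F334590) (iv3 D147388) (iv1 F105398)
theorem F342270 : act 1 n155885 = n112361 := d17_8 (iv1 D157550) (iv5 D74991) (iv1 F87529) F87526 (iv4 F92374) F92375 D74140 D155885 F342269
theorem F342271 : act 0 n121499 = n112361 := d18_0 F342269 (iv1 D157550) (iv4 F334590) F334591 (iv4 D117914) F85703 (iv4 F92377) F110858 (iv5 F323517)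
theorem E99025 : n166512 = n147875 := ((c19_8 F342271 F319474 F311379 (iv3 F243045) (iv1 D147880) (iv5 D69286) D69285 D147875 (iv1 F262046) F122667 (iv4 F304721) (iv3 D73841) (iv1 F58351) D81829 (iv4 F315394) (iv3 F209475) (iv1 F340959) (iv5 D143733) (iv4 F226387) (iv3 F323515))).symm
theorem F342272 : act 0 n147875 = n79929 := (sb E99025 (iv1 F262046))
theorem F342273 : act 1 n147875 = n79925 := (sb E99025 (iv0 D166512))
theorem F342274 : act 5 n147875 = n120992 := d21_8 (iv5 F320950) D62086 F330785 (iv6 D78701) (iv1 F56499) (iv6 F57148) D79925 (iv1 F342273) (iv6 D120992) (iv1 D55799)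
theorem E99026 : n166515 = n147875 := (c2_4 F342274 (iv2 F330773) F330774 D166515)
theorem F342275 : act 2 n147875 = n79926 := (sb E99026 (iv2 D166515))
theorem F342276 : act 7 n147875 = n79927 := (sb E99026 (iv7 F262050))
theorem F342277 : act 3 n120992 = n147876 := d6_1 F342274 (iv5 D147876) D147875
theorem F342278 : act 7 n120992 = n166523 := d13_2 (iv7 F342276) F342274 (iv5 D166523)
theorem F342279 : act 1 n120992 = n166149 := d17_8 (iv1 F330728) (iv5 F327556) (iv1 F278302) (iv5 F321017) F304721 (iv5 F122667) (iv0 F342272) F342274 F304979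
theorem E99027 : n167732 = n166511 := (c21_9 D79925 (iv1 F342273) F342274 (iv6 D120992) (iv1 D55799) (iv6 F88204) F316541 (iv1 F215118) (iv5 F332072) (iv6 D166511) (iv1 D79924))
theorem F342280 : act 0 n166511 = n160926 := (sb E99027 (iv1 F264044))
theorem F342281 : act 1 n166511 = n80491 := (sb E99027 (iv0 D167732))
theorem F342282 : act 3 n166511 = n82901 := (sb E99027 F332071)
theorem F342283 : act 5 n166511 = n120146 := (sb E99027 F332072)
theorem F342284 : act 7 n166511 = n83244 := (sb E99027 F332073)
theorem E99028 : n163845 = n110353 := ((c21_5 (iv5 F342274) F342272 F122667 (iv6 F119856) (iv1 F325671) F330808 (iv5 F325405) (iv1 F187463) (iv5 F321836) (iv6 F261631) (iv1 F342279))).symm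
theorem F342285 : act 2 n110353 = n78712 := (sb E99028 F258292)
theorem F342286 : act 6 n110353 = n79563 := (sb E99028 F330808)
theorem F342287 : act 7 n110353 = n78711 := (sb E99028 (iv7 D163845))
theorem E99029 : n163840 = n110352 := (c15_4 (iv0 D110352) D110353 F342287 D163840)
theorem F342288 : act 2 n110352 = n78711 := (sb E99029 (iv2 D163840))
theorem F342289 : act 7 n110352 = n78712 := (sb E99029 (iv7 F258291))
theorem F342290 : act 5 n178520 = n110353 := d12_5 F342286 (iv5 F325405) F278195 (iv5 D178519) D178520
theorem F342291 : act 0 n178520 = n125995 := d21_7 F326015 (iv1 D62279) F323785 (iv6 F56936) D79563 (iv6 F342286) (iv5 F342290) (iv5 D125995) (iv6 F325140) (iv1 F132210)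
theorem F342292 : act 2 n163848 = n178520 := d2_3 F342290 F342285 D163848
theorem F342293 : act 7 n163843 = n178520 := d13_0 F342290 F342287 D163843
theorem F342294 : act 6 n163080 = n119345 := d21_3 F202656 (iv1 F175544) F317713 (iv1 F187940) D178520 F342290 (iv1 D110353) D110355 F325677 (iv1 F325667)
theorem F342295 : act 2 n178524 = n163080 := d3_3 F342294 F187937 D178524
theorem F342296 : act 5 n112737 = n178524 := d2_0 F342295 (iv5 F317713) (iv2 F175504)
theorem F342297 : act 1 n178524 = n125972 := d15_0 (iv0 F228795) F321759 (iv2 F342295)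
theorem F342298 : act 1 n125975 = n178524 := d15_0 F342297 F327215 (iv2 F327221)
theorem E99030 : n163177 = n110401 := (c21_1 D163177 F175508 F342296 (iv6 D178524) (iv1 F187934) (iv6 F330811) (iv5 D163848) (iv1 D78712) (iv5 F119628) (iv6 D78439) D78436)
theorem F342299 : act 5 n110401 = n78436 := (sb E99030 (iv5 D163177))
theorem E99031 : n172509 = n163175 := ((c6_2 F342299 D163175 (iv5 D172509) (iv3 F328005))).symm
theorem F342300 : act 2 n163175 = n167781 := (sb E99031 (iv2 F303747))
theorem F342301 : act 5 n163175 = n82588 := (sb E99031 (iv5 D172509))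
theorem F342302 : act 6 n163175 = n82590 := (sb E99031 F270703)
theorem E99032 : n172504 = n163178 := ((c12_3 (iv6 F170767) F342299 D163178 (iv5 D172504) (iv6 D82586) F328004)).symm
theorem F342303 : act 1 n163178 = n150562 := (sb E99032 F340799)
theorem F342304 : act 3 n163178 = n82590 := (sb E99032 F270701)
theorem F342305 : act 5 n163178 = n82586 := (sb E99032 (iv5 D172504))
theorem F342306 : act 7 n163178 = n176587 := (sb E99032 (iv7 F275948))
theorem F342307 : act 5 n110393 = n163787 := d21_0 (iv1 D163787) (iv5 D78683) (iv6 D35834) (iv1 D17356) (iv6 F28252) D35742 D78436 (iv5 F342299) F170767 F170760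
theorem E99033 : n163787 = n129883 := (c2_1 F342307 F208229 F326963 (iv2 F170757))
theorem F342308 : act 0 n129883 = n78683 := (sb E99033 (iv1 D163787))
theorem F342309 : act 5 n129883 = n110393 := (sb E99033 (iv5 F342307))
theorem E99034 : n129563 = n82586 := (c21_5 (iv5 D60862) (iv1 D28869) D28871 D60869 D129563 (iv6 D82586) F328004 F170760 (iv5 F342309) (iv6 D129883) (iv1 F208670))
theorem E99035 : n172503 = n60869 := ((D172503).symm.trans (sb E99034 (iv0 D129563)))
theorem F342310 : act 0 n60869 = n82586 := (sb E99035 (iv1 D172503))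
theorem F342311 : act 0 n163178 = n119596 := d17_2 F342310 (iv5 F342305) (iv5 D119596) F311239 (iv5 D74785) F320414 D67751 (iv0 F340819) F207754
theorem F342312 : act 4 n163178 = n183930 := d19_2 F342310 (iv5 F342305) (iv3 D183930) F134709 D101424 F290802 (iv3 F158488) (iv1 F251840) (iv5 D159808) (iv4 D76477) D76476 F290311 (iv5 D52935) (iv4 F83650) F311526 (iv1 D31561) F24519 (iv4 F46514) (iv3 F95416)
theorem E99036 : n163155 = n129578 := (c21_4 (iv5 D125954) (iv1 F325660) D78431 D163155 (iv1 D129578) (iv6 F207756) (iv5 D129565) F342310 (iv5 F342305) (iv6 D163178) (iv1 F325662))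
theorem F342313 : act 6 n129578 = n78431 := (sb E99036 (iv6 D163155))
theorem F342314 : act 7 n129564 = n172497 := d15_2 (iv0 F342310) D129564 F270699
theorem F342315 : act 2 n129566 = n172502 := d15_3 (iv0 D172502) (iv0 F342310) D129566
theorem F342316 : act 7 n172502 = n129547 := d4_2 D129566 F342315 F207680
theorem F342317 : act 1 n129566 = n172497 := d15_0 F337059 (iv7 F342316) (iv2 F342315)
theorem F342318 : act 2 n129564 = n158754 := d15_3 (iv0 F337057) F342317 (iv7 F342314)
theorem F342319 : act 3 n167761 = n172497 := d20_3 (iv4 F215588) F310796 (iv4 F264112) (iv1 F342317) F207757 F95420 (iv1 F47820) (iv4 F102691) D133130 F333391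
theorem F342320 : act 1 n129564 = n172502 := d15_0 (iv0 D172502) (iv7 F249935) (iv2 F342318)
theorem F342321 : act 6 n183930 = n163176 := d10_2 D163178 F342312 (iv4 D163176)
theorem F342322 : act 3 n163176 = n157613 := d7_1 F342321 F310134 D183930
theorem F342323 : act 4 n183053 = n163175 := d5_4 D163176 F342322 F310133 (iv3 F284683) (iv3 D163175)
theorem F342324 : act 0 n183053 = n177672 := d20_7 F311374 F309336 (iv4 D35746) (iv3 F56417) D78436 D163175 (iv4 F342323) F277108 F129779 (iv1 F60082)
theorem E99037 : n177662 = n177654 := ((c20_2 F277108 (iv1 F277100) (iv4 F339174) F324286 (iv1 D76842) F55819 D75030 D157613 F310133 (iv3 F284683) F342324)).symm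
theorem F342325 : act 2 n177654 = n84608 := (sb E99037 F277105)
theorem F342326 : act 4 n177654 = n101715 := (sb E99037 (iv4 F339174))
theorem F342327 : act 5 n177654 = n162799 := (sb E99037 F339180)
theorem F342328 : act 6 n177654 = n150581 := (sb E99037 F339197)
theorem F342329 : act 7 n177654 = n84607 := (sb E99037 (iv7 D177662))
theorem E99038 : n183051 = n174764 := (c18_1 D183051 (iv4 D174764) (iv1 F128603) F324285 D101715 (iv4 F342326) F277100 (iv4 F277108) (iv0 F342324) (iv5 D183053))
theorem F342330 : act 1 n174764 = n87384 := (sb E99038 (iv0 D183051))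
theorem E99039 : n183052 = n174768 := (c15_2 F342330 D183052 (iv7 F273684) (iv2 F273661))
theorem F342331 : act 0 n174768 = n87384 := (sb E99039 (iv1 D183052))
theorem F342332 : act 1 n154570 = n174764 := d15_0 F342330 (iv7 F310131) (iv2 F242639)
theorem F342333 : act 0 n155227 = n177188 := d20_10 (iv4 D177188) F272905 (iv4 D174099) (iv3 F310566) F310563 (iv3 F334395) F334396 (iv1 F342330) (iv4 D174764) (iv3 F244135)
theorem F342334 : act 2 n173388 = n177188 := d15_3 (iv0 F342333) F333752 D173388
theorem F342335 : act 1 n155232 = n177188 := d15_0 (iv0 F342333) F273659 F273655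
theorem F342336 : act 7 n177188 = n131554 := d15_2 (iv0 F333737) F342335 F307273
theorem E99040 : n177198 = n141362 := (c18_1 D177198 F245566 (iv1 D156252) F111530 F312563 D155232 F342335 (iv4 D177188) (iv0 D84427) D84430)
theorem F342337 : act 1 n141362 = n84430 := (sb E99040 (iv0 D177198))
theorem F342338 : act 5 n131555 = n177188 := d13_3 F342336 (iv5 D131554) D131555
theorem F342339 : act 1 n173388 = n116719 := d15_0 F333756 (iv7 F342336) (iv2 F342334)
theorem E99041 : n174824 = n173388 := (c15_1 D174824 F342339 (iv7 F314271) (iv2 F273655))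
theorem F342340 : act 0 n173388 = n83516 := (sb E99041 (iv1 D174824))
theorem F342341 : act 0 n159287 = n173393 := d20_7 (iv4 F309664) F309663 (iv4 F123345) F123344 (iv1 F311679) (iv3 F114167) D159287 F271874 (iv3 F271873) F342340
theorem E99042 : n174811 = n98874 := (c20_8 D159287 F342341 F271874 (iv3 F271873) F342340 (iv3 D83516) D83517 (iv1 F273692) (iv4 F156288) (iv3 F197266) F330177)
theorem F342342 : act 0 n98874 = n83512 := (sb E99042 (iv1 D174811))
theorem F342343 : act 1 n98874 = n83517 := (sb E99042 F273692)
theorem F342344 : act 3 n123223 = n159287 := d20_9 F271874 F321092 (iv4 F191103) (iv3 D73018) (iv1 F190550) (iv3 F52948) (iv4 F109597) (iv1 F306274) F306275 F342341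
theorem F342345 : act 7 n159287 = n123237 := d15_2 (iv0 F322815) (iv0 F342341) (iv2 F272612)
theorem E99043 : n123231 = n123223 := (c8_3 F342345 (iv3 D123237) F197525 F342344)
theorem F342346 : act 2 n123223 = n57363 := (sb E99043 (iv2 D123231))
theorem F342347 : act 7 n123223 = n57364 := (sb E99043 (iv7 F197525))
theorem F342348 : act 2 n159287 = n173390 := d15_3 (iv0 D173390) (iv0 F333751) (iv7 F342345)
theorem F342349 : act 4 n173390 = n159284 := d1_2 D159287 F342348 F250764
theorem F342350 : act 7 n173390 = n173962 := d4_2 (iv7 F342345) F342348 F272612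
theorem F342351 : act 1 n159287 = n172013 := d15_0 F314197 (iv7 F342350) (iv2 F342348)
theorem E99044 : n154250 = n101496 := (c20_9 (iv4 F74545) (iv1 F308346) F308347 F306533 (iv1 F342351) (iv3 F342344) (iv4 F306275) (iv1 F307794) (iv4 F242356) F156308 (iv1 F156732))
theorem F342352 : act 0 n101496 = n73085 := (sb E99044 (iv1 F242358))
theorem F342353 : act 1 n101496 = n73084 := (sb E99044 F242359)
theorem F342354 : act 2 n101496 = n73087 := (sb E99044 F242355)
theorem F342355 : act 4 n101496 = n151776 := (sb E99044 F242356)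
theorem F342356 : act 7 n101496 = n73081 := (sb E99044 (iv7 D154250))
theorem F342357 : act 4 n141181 = n154249 := d16_6 (iv4 F235756) F306292 (iv4 F308736) (iv5 F313831) (iv4 F323828) D141181 (iv5 D154249) (iv7 F342356) F342354
theorem F342358 : act 2 n154270 = n141181 := d1_3 F342357 F242353 D154270
theorem F342359 : act 5 n116251 = n154270 := d2_0 F342358 (iv5 D141181) (iv2 F181204)
theorem F342360 : act 7 n179166 = n141181 := d16_8 (iv4 D154270) (iv5 D73086) (iv4 F109597) (iv5 F307712) F305977 (iv5 F313853) (iv4 F130706) D179166 (iv2 F342358)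
theorem F342361 : act 7 n116251 = n156695 := d16_8 F130706 F313853 (iv4 F305977) F307712 F109597 D73086 D154270 (iv5 F342359) (iv2 F319244)
theorem E99045 : n143872 = n116251 := (c15_2 F319711 D143872 F342361 (iv2 F319244))
theorem F342362 : act 0 n116251 = n67393 := (sb E99045 (iv1 D143872))
theorem F342363 : act 1 n141180 = n156695 := d15_1 D141180 (iv7 F342361) F181204
theorem E99046 : n141180 = n116833 := ((c18_6 F307337 F210469 (iv1 F309379) F309381 F316243 (iv4 F182429) F342363 F316926 (iv0 F252457) (iv5 F307338))).symm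
theorem F342364 : act 0 n116833 = n66226 := (sb E99046 (iv1 D141180))
theorem F342365 : act 1 n116833 = n156695 := (sb E99046 F342363)
theorem F342366 : act 4 n141358 = n142741 := d20_8 (iv4 F316926) (iv1 F342365) F182429 (iv3 D53841) (iv1 F100812) (iv3 F49407) (iv4 F102222) D141358 F339014 F252457
theorem F342367 : act 6 n116833 = n123279 := d21_5 D138308 (iv1 F337094) F337096 D156695 (iv1 F342365) (iv5 D123279) F191057 D72964 (iv6 F327048) F311113
theorem F342368 : act 4 n123279 = n112219 := d10_1 F342367 F174507 (iv4 F182429)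
theorem F342369 : act 1 n140976 = n150915 := d17_6 F320755 (iv5 F334423) (iv1 D123276) D123279 F342368 (iv5 F223997) (iv5 D150915) F318714 (iv4 F180563)
theorem F342370 : act 0 n120231 = n184300 := d19_8 (iv1 D123276) D123279 F342368 (iv3 D112219) (iv1 F104481) (iv5 F317402) (iv4 F319655) (iv3 F323320) F332035 F332039 F332045 F278069 (iv5 F311343) F149207 F127164 (iv1 F72480) (iv5 F300785) D162730 (iv3 F334412)
theorem F342371 : act 0 n123279 = n141050 := d20_7 F321955 (iv1 D35485) (iv4 F324255) F318616 (iv1 F81734) D112219 (iv4 F342368) (iv4 D141050) F101773 D66152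
theorem F342372 : act 0 n167922 = n112219 := d18_0 (iv4 F342368) F342371 (iv4 D141050) (iv5 D66150) (iv4 F100434) (iv0 F320750) (iv4 D116060) (iv0 F320766) (iv5 F264613)
theorem F342373 : act 6 n140976 = n149330 := d21_3 (iv5 F264613) F342372 (iv5 F223997) (iv1 D149330) (iv6 F309993) F55715 F104207 (iv5 F104206) D127971 F205947
theorem F342374 : act 0 n140976 = n150911 := d21_1 (iv5 F223997) (iv5 D150911) F311112 (iv1 F53603) D65002 (iv5 F312930) F194685 (iv5 F191355) D167922 F342372
theorem F342375 : act 7 n150915 = n116056 := d15_2 (iv0 F342374) F342369 F327178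
theorem F342376 : act 6 n138054 = n145673 := d14_5 F228727 F342373 F309026 F333280 (iv7 F333281)
theorem F342377 : act 4 n145673 = n138056 := d10_1 F342376 (iv6 D138056) D138054
theorem F342378 : act 0 n109845 = n116332 := d21_7 F312126 F311498 F236655 D86812 (iv1 F316239) F342376 F228726 F327728 F327185 (iv1 F312125)
theorem F342379 : act 0 n145673 = n116051 := d21_10 (iv5 D116051) (iv1 F318716) (iv5 F205946) (iv6 D127971) (iv1 F106664) (iv6 F166810) (iv5 D107946) (iv1 F247541) (iv5 F316241) F342376
theorem F342380 : act 3 n116050 = n149018 := d19_3 F342379 (iv5 D116051) D116050 (iv1 D149018) (iv5 D69886) F51537 (iv3 F51525) D69875 D149000 F307436 (iv3 D128157) F190667 D60267 (iv4 F315032) (iv3 D77369) (iv1 F57415) (iv5 F123260) F324235 D145673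
theorem F342381 : act 6 n116051 = n146632 := d21_5 (iv5 D107946) (iv1 F247541) (iv5 F316241) F342376 F342379 (iv5 D146632) F319869 D103696 F159147 F311369
theorem E99047 : n141543 = n135243 := (c21_5 F229939 F162391 F319219 D66392 D141543 F217432 (iv5 F228726) F342379 (iv5 D116051) F324373 D146646)
theorem F342382 : act 1 n135243 = n66392 := (sb E99047 (iv0 D141543))
theorem E99048 : n141546 = n107924 := (c15_3 (iv0 F312220) F342382 D141546 F166780)
theorem F342383 : act 7 n107924 = n66392 := (sb E99048 (iv7 D141546))
theorem E99049 : n141545 = n84341 := (c18_10 (iv1 F313268) D145288 (iv1 F307624) F307625 F96076 (iv4 F110814) D155682 (iv4 F312221) F342382 D141545)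
theorem E99050 : n176950 = n66392 := ((D176950).symm.trans (sb E99049 (iv5 D141545)))
theorem F342384 : act 5 n66392 = n84341 := (sb E99050 (iv5 D176950))
theorem F342385 : act 5 n138045 = n123018 := d17_7 F313272 (iv5 F342384) (iv1 F342382) (iv5 F223132) (iv4 F339043) (iv5 D138046) D138045 (iv0 D123018) F90298
theorem F342386 : act 0 n139914 = n156542 := d21_1 (iv5 F223132) (iv5 D156542) F341097 (iv1 F180766) F341085 F229939 F162391 F319219 D66392 (iv1 F342382)
theorem F342387 : act 3 n156542 = n131620 := d20_5 D65623 (iv1 F314535) F314536 D139914 F342386 F340992 (iv1 D127937) (iv4 F205880) F315783 (iv1 D65622)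
theorem F342388 : act 1 n140007 = n156542 := d15_0 (iv0 F342386) (iv7 F226529) (iv2 F332424)
theorem F342389 : act 7 n156542 = n116007 := d15_2 D140007 F342388 (iv2 F180688)
theorem F342390 : act 2 n140009 = n156542 := d4_3 F342389 (iv2 F180688) D140009
theorem F342391 : act 6 n131617 = n156542 := d14_5 F342389 F332433 (iv7 F336880) (iv6 F332459) F340985
theorem E99051 : n140006 = n139914 := ((c15_1 (iv0 F342386) (iv0 D140006) D140009 F342390)).symm
theorem F342392 : act 1 n139914 = n65725 := (sb E99051 (iv0 D140006))
theorem E99052 : n140898 = n116028 := (c21_2 F327728 D140898 (iv5 D116028) (iv6 D53482) (iv1 F40945) D30775 D65725 (iv1 F342392) F223132 F217432 F342378)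
theorem F342393 : act 1 n116028 = n66096 := (sb E99052 (iv0 D140898))
theorem E99053 : n145564 = n140821 := ((c20_7 (iv4 F320492) (iv1 F223945) (iv4 D66097) D66096 (iv1 F342393) F180781 D140821 (iv1 D145564) (iv4 D68248) D68247 (iv1 F322221))).symm
theorem F342394 : act 0 n140821 = n68248 := (sb E99053 (iv1 D145564))
theorem F342395 : act 1 n140821 = n68253 := (sb E99053 F228611)
theorem E99054 : n140569 = n124829 := ((c18_2 F109175 (iv4 F200493) (iv1 D140569) F101666 D66070 D140821 F342395 (iv4 D68253) F104401 (iv5 F318462))).symm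
theorem F342396 : act 0 n124829 = n65970 := (sb E99054 (iv1 D140569))
theorem F342397 : act 1 n124829 = n65978 := (sb E99054 F223702)
theorem F342398 : act 7 n140568 = n156319 := d15_2 F342397 F223706 (iv2 F312823)
theorem F342399 : act 0 n145605 = n140384 := d20_4 F200493 F320496 D68258 D145605 (iv3 D140384) (iv4 D65890) (iv1 F49265) (iv4 F49328) (iv3 F101669) (iv1 F342397)
theorem E99055 : n167231 = n145632 := (c18_10 (iv1 D145632) (iv4 F228632) F342399 F223502 F333407 F312052 (iv0 F311822) F71178 D80278 D167231)
theorem F342400 : act 5 n145632 = n80278 := (sb E99055 (iv5 D167231))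
theorem F342401 : act 3 n123662 = n145632 := d20_9 (iv4 F228632) F342399 F223502 (iv3 D137117) F100393 (iv3 F329678) (iv4 D88063) (iv1 F304418) D123662 (iv1 D145632)
theorem F342402 : act 2 n145632 = n178492 := d0_1 F342401 (iv3 F337651) F337648 F337644 (iv2 F198076)
theorem F342403 : act 7 n149029 = n145632 := d13_0 F342400 F316650 D149029
theorem F342404 : act 7 n178492 = n131500 := d4_2 F342403 F342402 (iv2 F234313)
theorem E99056 : n145631 = n131500 := ((c15_4 (iv0 D145631) D145632 (iv7 F342403) F234313)).symm
theorem F342405 : act 1 n131500 = n68266 := (sb E99056 (iv0 D145631))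
theorem F342406 : act 3 n131500 = n101759 := d8_1 F342404 (iv7 F337647) F337651
theorem E99057 : n156319 = n65976 := (c11_1 F342398 (iv4 F318451) F321162 F223708)
theorem E99058 : n140591 = n124829 := (((iv2 F223718)).symm.trans (sb E99057 (iv2 F312823)))
theorem E99059 : n140595 = n74353 := ((D140595).symm.trans (sb E99057 (iv6 D156319)))
theorem E99060 : n140586 = n140568 := ((F223717).symm.trans (sb E99057 (iv7 F342398)))
theorem F342407 : act 2 n124829 = n65976 := (sb E99058 F223718)
theorem F342408 : act 7 n124829 = n65975 := (sb E99058 (iv7 D140591))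
theorem F342409 : act 6 n74353 = n65976 := (sb E99059 (iv6 D140595))
theorem F342410 : act 2 n140568 = n65975 := (sb E99060 (iv2 D140586))
theorem F342411 : act 7 n140568 = n65976 := (sb E99060 (iv7 F223717))
theorem E99061 : n140588 = n124832 := (c1_3 F223708 F342410 D140588 F322222)
theorem F342412 : act 4 n124832 = n65975 := (sb E99061 (iv4 D140588))
theorem E99062 : n145541 = n140923 := ((c18_7 F320487 F342412 (iv1 F223709) F223705 (iv5 F223895) F320770 (iv0 F322614) (iv4 D145541) (iv0 D68242) D68244)).symm
theorem F342413 : act 2 n140923 = n68248 := (sb E99062 F321166)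
theorem F342414 : act 3 n140923 = n107146 := (sb E99062 (iv3 F228591))
theorem F342415 : act 4 n140923 = n68242 := (sb E99062 (iv4 D145541))
theorem F342416 : act 7 n140923 = n68253 := (sb E99062 F321167)
theorem F342417 : act 3 n128032 = n140675 := d20_3 (iv4 F342412) F318466 (iv4 F318467) (iv1 D140675) (iv3 D66001) (iv4 D30882) (iv1 D14623) (iv4 F24300) (iv3 F49324) D65975
theorem F342418 : act 4 n140675 = n145635 := d5_2 (iv4 F318467) F342417 F228654 F104415 (iv3 F104405)
theorem F342419 : act 6 n140675 = n128030 := d7_2 D128032 F342417 (iv3 D128030)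
theorem F342420 : act 7 n140675 = n145605 := d8_2 (iv7 F318468) F342417 (iv3 D145605)
theorem F342421 : act 2 n145605 = n140674 := d15_3 (iv0 D140674) D140675 F342420
theorem F342422 : act 4 n140674 = n145633 := d1_2 (iv4 F228632) F342421 (iv2 D145633)
theorem E99063 : n140926 = n140568 := ((c18_9 D140923 F342415 (iv1 F104400) (iv4 F104318) (iv5 F331035) F221694 (iv0 F330024) (iv4 F101670) F223706 (iv5 D140926))).symm
theorem F342423 : act 5 n140568 = n66102 := (sb E99063 (iv5 D140926))
theorem E99064 : n153571 = n145540 := ((c20_10 (iv4 F185816) F233205 F131915 F60601 F316869 (iv3 F49355) D66102 D140923 F342415 D145540 (iv1 D153571))).symm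
theorem F342424 : act 0 n145540 = n72615 := (sb E99064 (iv1 D153571))
theorem E99065 : n145581 = n124814 := (c15_4 (iv0 F233170) (iv0 F342424) F321165 D145581)
theorem F342425 : act 2 n124814 = n68252 := (sb E99065 (iv2 D145581))
theorem E99066 : n140821 = n140589 := (c2_2 F342423 (iv2 F223893) (iv5 D140589) (iv2 F342410))
theorem F342426 : act 0 n140589 = n68248 := (sb E99066 F342394)
theorem F342427 : act 1 n140589 = n68253 := (sb E99066 F342395)
theorem F342428 : act 2 n140589 = n66102 := (sb E99066 F223893)
theorem F342429 : act 4 n140589 = n66070 := (sb E99066 (iv4 D140821))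
theorem F342430 : act 7 n140589 = n72740 := (sb E99066 F322613)
theorem E99067 : n140927 = n140594 := (c13_3 (iv7 F342411) F342423 D140927 (iv5 D140594))
theorem F342431 : act 0 n140594 = n68253 := (sb E99067 F320752)
theorem F342432 : act 1 n140594 = n68248 := (sb E99067 F320753)
theorem F342433 : act 2 n140594 = n72740 := (sb E99067 F320775)
theorem F342434 : act 4 n140594 = n66103 := (sb E99067 F223960)
theorem F342435 : act 6 n140594 = n72579 := (sb E99067 F320776)
theorem F342436 : act 7 n140594 = n66102 := (sb E99067 (iv7 D140927))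
theorem E99068 : n140598 = n124831 := (c16_7 F223708 F342423 (iv4 D66102) (iv5 D30908) (iv4 F49325) D65977 D140598 (iv5 D124831) D124832 F322222)
theorem F342437 : act 4 n124831 = n65977 := (sb E99068 (iv4 D140598))
theorem F342438 : act 5 n140923 = n143926 := d17_3 D140568 F342423 D140923 F226564 D143955 F333346 (iv5 D140812) (iv0 D66068) (iv4 F101666)
theorem F342439 : act 4 n153721 = n140599 := d17_4 (iv1 D68243) D68244 F320487 (iv5 F241584) F223721 F223706 F342423 D140924 F322616
theorem E99069 : n140883 = n68258 := (c18_1 (iv1 F223941) (iv4 D68258) F322229 F223708 F342423 (iv4 D66102) D66101 (iv4 F322618) (iv0 F331036) (iv5 D140905))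
theorem E99070 : n145603 = n66092 := ((D145603).symm.trans (sb E99069 (iv1 D140883)))
theorem E99071 : n145604 = n66097 := ((D145604).symm.trans (sb E99069 F223941))
theorem F342440 : act 1 n66092 = n68258 := (sb E99070 (iv0 D145603))
theorem F342441 : act 0 n66097 = n68258 := (sb E99071 (iv1 D145604))
theorem E99072 : n145560 = n142896 := (c16_8 F342437 (iv5 D65977) F49325 D30908 D66102 (iv5 F342423) (iv4 F223708) D145560 (iv7 D142896) (iv2 F322364))
theorem F342442 : act 3 n142896 = n68249 := (sb E99072 F228608)
theorem F342443 : act 5 n142896 = n68247 := (sb E99072 (iv5 D145560))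
theorem F342444 : act 2 n153721 = n142896 := d2_3 F342443 (iv2 F322222) (iv5 F241584)
theorem E99073 : n143834 = n142896 := (c21_11 F342443 (iv1 F322221) F318462 (iv6 F318463) F54204 D33567 (iv5 F96008) F318419 (iv5 D67364) D67365 D143834)
theorem F342445 : act 1 n142896 = n67365 := (sb E99073 (iv0 D143834))
theorem F342446 : act 6 n118431 = n142896 := d21_5 F25766 F50786 D26374 D54538 D118431 F342443 (iv1 F322221) F318462 (iv6 F318463) F54204
theorem E99074 : n169807 = n103605 := ((c21_7 (iv5 F96008) F318419 (iv5 D67364) D67365 (iv1 F342445) (iv6 F342446) F335074 (iv1 D169807) (iv5 F319430) F319431 (iv1 D72756))).symm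
theorem F342447 : act 0 n103605 = n81434 := (sb E99074 (iv1 D169807))
theorem F342448 : act 1 n103605 = n146728 := (sb E99074 (iv0 F314953))
theorem E99075 : n169806 = n103601 := (c15_2 F342448 F314954 F335087 (iv2 F335075))
theorem F342449 : act 0 n103601 = n146728 := (sb E99075 (iv1 F314954))
theorem F342450 : act 1 n103601 = n81434 := (sb E99075 (iv0 D169806))
theorem F342451 : act 0 n103604 = n89449 := d20_4 (iv4 F314955) (iv1 F342448) (iv4 D103605) D103604 F312634 F147489 (iv1 F340924) (iv4 F259113) (iv3 F340928) (iv1 F147272)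
theorem F342452 : act 1 n103604 = n89451 := d15_1 (iv0 F342451) (iv7 D89451) D89449
theorem F342453 : act 1 n103720 = n89449 := d15_0 (iv0 F342451) F335078 D103720
theorem E99076 : n142911 = n103601 := ((c21_8 (iv5 F318408) D33303 D72138 (iv6 F308111) (iv1 F310140) (iv6 F319431) F319430 (iv1 F342450) (iv5 D142911) (iv6 D66970) (iv1 D31183))).symm
theorem F342454 : act 5 n103601 = n66970 := (sb E99076 (iv5 D142911))
theorem E99077 : n139715 = n116860 := ((c21_11 F319430 (iv1 F342450) F342454 (iv6 D66970) (iv1 D31183) (iv6 D14731) D14730 D31178 F180722 D53850 D116860)).symm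
theorem F342455 : act 2 n116860 = n65576 := (sb E99077 (iv2 D139715))
theorem F342456 : act 3 n116860 = n67733 := (sb E99077 F340939)
theorem F342457 : act 5 n116860 = n81434 := (sb E99077 F319430)
theorem F342458 : act 6 n116860 = n72756 := (sb E99077 F319431)
theorem F342459 : act 7 n116860 = n68239 := (sb E99077 F324917)
theorem F342460 : act 5 n146728 = n109674 := d21_2 (iv5 F342454) F342449 (iv6 F316117) F314355 (iv6 D74737) (iv5 F311941) D58330 (iv5 F311280) (iv6 F313641) F322382
theorem E99078 : n116861 = n109674 := ((c17_2 F342449 F342460 (iv1 D116861) (iv5 F334486) F150022 D97277 (iv0 F150033) F75502 F75369 D103601)).symm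
theorem F342461 : act 0 n109674 = n53850 := (sb E99078 (iv1 D116861))
theorem F342462 : act 1 n109674 = n68241 := (sb E99078 F182572)
theorem E99079 : n177182 = n116858 := ((c18_2 F342461 (iv4 F182483) (iv1 D177182) (iv4 D84425) (iv5 D38926) (iv4 F36226) D47986 D103605 F342448 F342460)).symm
theorem F342463 : act 0 n116858 = n84425 := (sb E99079 (iv1 D177182))
theorem E99080 : n140562 = n139734 := (c20_8 F49709 (iv1 F39907) (iv4 F79944) D109674 F342461 (iv3 F182471) F182472 D140562 F222918 (iv3 D65588) (iv1 F49712))
theorem F342464 : act 1 n139734 = n65968 := (sb E99080 (iv0 D140562))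
theorem E99081 : n143835 = n124831 := (c15_2 F342445 D143835 (iv7 F241583) F342444)
theorem F342465 : act 0 n124831 = n67365 := (sb E99081 (iv1 D143835))
theorem F342466 : act 4 n143836 = n145385 := d17_4 F109175 D124831 F342465 D143836 (iv5 D145385) (iv0 F331036) (iv5 D140905) F223945 F320492
theorem F342467 : act 0 n143829 = n140890 := d18_2 F342465 (iv4 F226472) (iv4 D140890) (iv5 D66093) D66092 F342440 (iv4 D68258) (iv0 F320496) D124831
theorem F342468 : act 4 n107273 = n140652 := d20_2 F228437 F175367 (iv3 D140652) (iv1 D65994) (iv3 F101668) (iv4 F342437) F342465 (iv4 F226472) F226471 (iv1 F228438)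
theorem F342469 : act 0 n143836 = n142880 := d21_1 D143836 F320592 (iv6 F318455) (iv1 F79052) (iv6 F311943) (iv5 F92134) F190674 D58366 (iv6 F200494) F342465
theorem F342470 : act 1 n143836 = n145542 := d15_1 (iv0 F342469) F320596 (iv2 F320593)
theorem F342471 : act 7 n140652 = n107424 := d11_2 F165466 F342468 F165700
theorem F342472 : act 5 n140652 = n145427 := d17_5 (iv1 F39789) (iv5 F76478) D105169 F165326 F342468 F228454 (iv5 D68181) F82149 F82142
theorem F342473 : act 0 n140652 = n107259 := d17_0 F175348 (iv1 D112682) (iv5 D52006) F39778 D25244 D52012 (iv5 F82164) D107273 F342468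
theorem F342474 : act 3 n145427 = n140654 := d6_1 F342472 (iv5 D140654) D140652
theorem F342475 : act 6 n141833 = n145427 := d7_0 F342474 F223755 D141833
theorem F342476 : act 3 n107424 = n140380 := d8_1 F342471 F223750 D140652
theorem F342477 : act 6 n140380 = n107422 := d7_2 D107424 F342476 (iv3 D107422)
theorem F342478 : act 5 n133871 = n113161 := d19_17 F82159 (iv5 F79670) (iv4 F165700) F342476 (iv1 F223499) F101683 F49328 F24304 (iv1 F19018) (iv5 D11680) (iv4 F19014) (iv3 F38660) (iv1 F325598) F117883 (iv4 F58574) (iv3 F108176) (iv1 F308675) F176315 F82592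
theorem F342479 : act 2 n107422 = n140651 := d3_1 F342477 (iv6 D140651) (iv2 F223749)
theorem F342480 : act 5 n107422 = n108636 := d12_1 F342477 (iv6 F337420) (iv5 D156594) D156595 (iv5 F246270)
theorem F342481 : act 0 n107422 = n142745 := d21_4 F223733 (iv1 F246271) (iv5 F246270) F342477 (iv6 D142745) (iv5 F172093) (iv1 F163671) F78287 F331811 D140636
theorem F342482 : act 5 n140661 = n140711 := d21_6 F169076 (iv1 F168526) (iv5 F342480) (iv6 F342477) (iv1 F223499) D140661 (iv1 D140711) (iv5 F223788) (iv6 D140697) (iv1 F175464)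
theorem E99082 : n153766 = n138456 := ((c21_3 F101683 (iv1 F100840) D138456 (iv6 D153766) (iv1 F326608) (iv6 F331105) F169076 (iv1 F168526) (iv5 F342480) (iv6 F342477) (iv1 F223499))).symm
theorem F342483 : act 6 n138456 = n72744 := (sb E99082 (iv6 D153766))
theorem E99083 : n153765 = n138455 := (c12_2 F342483 D153765 (iv6 D138455) (iv5 D65035) D65036 D138456)
theorem F342484 : act 5 n138455 = n72744 := (sb E99083 (iv5 D153765))
theorem E99084 : n179713 = n153776 := (c21_10 (iv5 D72747) D72744 (iv5 F342484) (iv6 D138455) F100835 D108539 F329074 (iv1 F302063) (iv5 F304352) D179713 (iv1 D153776))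
theorem F342485 : act 2 n153776 = n85874 := (sb E99084 F279920)
theorem F342486 : act 4 n153776 = n85837 := (sb E99084 F279921)
theorem F342487 : act 6 n153776 = n85836 := (sb E99084 (iv6 D179713))
theorem E99085 : n153778 = n134865 := ((c21_5 (iv5 D50119) F38355 D29945 D63380 D134865 (iv6 D153778) (iv5 D72747) D72744 (iv5 F342484) (iv6 D138455) F100835)).symm
theorem F342488 : act 2 n134865 = n90321 := (sb E99085 F241631)
theorem F342489 : act 3 n134865 = n72752 := (sb E99085 F241632)
theorem F342490 : act 5 n134865 = n109096 := (sb E99085 F331129)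
theorem F342491 : act 6 n134865 = n72747 := (sb E99085 (iv6 D153778))
theorem F342492 : act 7 n134865 = n109095 := (sb E99085 (iv7 F331127))
theorem F342493 : act 5 n104011 = n90321 := d2_2 F342490 (iv2 F331131) (iv2 F342488)
theorem F342494 : act 0 n107251 = n140376 := d21_1 F331096 (iv5 D140376) (iv6 D65886) (iv1 F84244) (iv6 F331531) (iv5 F331536) D134865 F342490 F331094 (iv1 F331095)
theorem F342495 : act 6 n116102 = n109066 := d21_5 F84246 (iv1 D25919) D25921 D53510 D116102 F331096 F342494 (iv5 D140376) (iv6 D65886) (iv1 F84244)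
theorem E99086 : n142904 = n140630 := (c15_2 (iv0 F342494) F225782 (iv7 D140630) (iv2 F223482))
theorem F342496 : act 0 n140630 = n107251 := (sb E99086 (iv1 F225782))
theorem F342497 : act 1 n140630 = n107255 := (sb E99086 (iv0 F225781))
theorem F342498 : act 3 n140630 = n66968 := (sb E99086 (iv3 D142904))
theorem E99087 : n142905 = n140585 := (c6_3 (iv5 F223730) F342498 D142905 F223716)
theorem F342499 : act 5 n140585 = n66968 := (sb E99087 (iv5 D142905))
theorem E99088 : n107252 = n65985 := (c8_4 D140630 F342498 (iv7 F322363) F322345)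
theorem E99089 : n140628 = n49553 := ((D140628).symm.trans (sb E99088 (iv0 D107252)))
theorem E99090 : n140584 = n124833 := (((iv3 F223714)).symm.trans (sb E99088 (iv3 F322345)))
theorem F342500 : act 0 n49553 = n65985 := (sb E99089 (iv1 D140628))
theorem F342501 : act 3 n124833 = n65985 := (sb E99090 F223714)
theorem F342502 : act 5 n124833 = n65974 := (sb E99090 (iv5 D140584))
theorem F342503 : act 6 n124833 = n65977 := (sb E99090 F223715)
theorem E99091 : n142886 = n140570 := ((c3_2 F342503 (iv2 F223703) (iv6 D142886) (iv2 F322362))).symm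
theorem F342504 : act 4 n140570 = n66965 := (sb E99091 F225768)
theorem F342505 : act 6 n140570 = n66963 := (sb E99091 (iv6 D142886))
theorem E99092 : n142885 = n140567 := (c12_2 F342505 D142885 (iv6 D140567) (iv5 D65969) D65970 D140570)
theorem F342506 : act 5 n140567 = n66963 := (sb E99092 (iv5 D142885))
theorem E99093 : n153750 = n124829 := (c21_7 F322373 (iv1 D153703) (iv5 D72722) F52852 D33562 D72740 D153750 F342396 D140570 F342505 D142882)
theorem F342507 : act 5 n124829 = n72740 := (sb E99093 (iv5 D153750))
theorem E99094 : n142883 = n142700 := ((c21_4 (iv5 F180735) (iv1 F225597) (iv5 D142699) D142700 (iv1 D142883) (iv6 F342505) (iv5 D140570) D140568 F342423 (iv6 F322683) (iv1 F182479))).symm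
theorem F342508 : act 0 n142700 = n66963 := (sb E99094 (iv1 D142883))
theorem F342509 : act 1 n142700 = n66968 := (sb E99094 F225767)
theorem F342510 : act 7 n142882 = n127206 := d15_2 F342509 F225771 (iv2 F225598)
theorem F342511 : act 0 n127964 = n143289 := d20_10 (iv4 D143289) F334869 F334867 (iv3 F321989) F322379 (iv3 D66967) D66968 (iv1 F342509) F225600 (iv3 F322432)
theorem F342512 : act 5 n143289 = n179042 := d17_3 D60120 D127964 F342511 (iv4 F322964) (iv5 D142155) (iv0 F322959) (iv5 D127966) F305305 F94680
theorem E99095 : n137936 = n116378 := ((c20_10 (iv4 F322433) F342511 (iv4 D143289) (iv3 F334877) (iv1 D46597) F329013 F48852 F161288 D53642 D116378 (iv1 D137936))).symm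
theorem F342513 : act 0 n116378 = n64825 := (sb E99095 (iv1 D137936))
theorem F342514 : act 1 n116378 = n64839 := (sb E99095 F221186)
theorem E99096 : n102473 = n102397 := (c20_5 D46598 (iv1 F74734) (iv4 D47538) D47537 D102473 F331212 (iv4 F322433) F342511 (iv4 D143289) (iv3 F334877) (iv1 D46597))
theorem F342515 : act 1 n102397 = n47537 := (sb E99096 (iv0 D102473))
theorem E99097 : n179042 = n138379 := (c21_3 D127964 F342511 F342512 (iv6 D138379) F212194 (iv6 F312990) F41697 F25452 D13621 D28570 D60120)
theorem F342516 : act 0 n138379 = n85424 := (sb E99097 (iv1 F278984))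
theorem F342517 : act 1 n138379 = n85419 := (sb E99097 (iv0 D179042))
theorem F342518 : act 4 n138379 = n142155 := (sb E99097 (iv4 F322964))
theorem F342519 : act 5 n138379 = n143289 := (sb E99097 (iv5 F342512))
theorem F342520 : act 6 n143289 = n116056 := d21_5 F180302 (iv1 F221154) F221152 (iv6 F322434) F342511 (iv5 D116056) (iv1 D53488) D53489 (iv6 F318780) (iv1 F180294)
theorem F342521 : act 2 n137951 = n143289 := d15_3 (iv0 F342511) F322958 (iv7 F321321)
theorem F342522 : act 1 n127966 = n143289 := d15_0 (iv0 F342511) F334865 (iv2 F334863)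
theorem F342523 : act 7 n143289 = n102009 := d15_2 (iv0 F322959) F342522 F334895
theorem F342524 : act 7 n149875 = n138379 := d13_2 F342523 F334896 F342519
theorem F342525 : act 3 n143289 = n142131 := d0_2 (iv3 F321320) F342521 (iv2 D142131) (iv3 D66644) (iv2 F321316)
theorem F342526 : act 4 n143287 = n137951 := d1_0 F342521 (iv4 D143289) D143287
theorem E99098 : n143287 = n143121 := ((c17_9 (iv1 F334892) (iv5 D118814) F305692 (iv5 F114290) (iv4 F339155) F73565 F73545 F334881 F225970 F342526)).symm
theorem F342527 : act 2 n143121 = n67126 := (sb E99098 (iv2 D143287))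
theorem F342528 : act 4 n143121 = n137951 := (sb E99098 F342526)
theorem F342529 : act 7 n143121 = n67127 := (sb E99098 (iv7 F226090))
theorem F342530 : act 3 n97021 = n143121 := d8_3 F342529 (iv3 F334875) (iv7 F292259)
theorem F342531 : act 5 n97020 = n143121 := d13_3 F342529 (iv5 F334876) F291816
theorem F342532 : act 2 n89540 = n97020 := d2_3 F342531 F342527 (iv5 F334878)
theorem F342533 : act 0 n99074 = n97020 := d17_2 D46574 (iv5 F157305) F342531 F342528 F319303 F278905 (iv5 F339137) (iv0 D99675) (iv4 D46576)
theorem F342534 : act 1 n99075 = n97020 := d15_0 (iv0 F342533) F288492 (iv2 F289319)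
theorem E99099 : n118723 = n99672 := (c17_4 (iv1 F320547) F320540 (iv1 F232901) F232903 (iv4 D99672) (iv5 F289320) F342534 F342531 (iv0 D143121) F103044)
theorem F342535 : act 0 n99672 = n54690 := (sb E99099 F305896)
theorem F342536 : act 1 n99672 = n54661 := (sb E99099 (iv0 D118723))
theorem F342537 : act 2 n99672 = n54702 := (sb E99099 F187223)
theorem F342538 : act 5 n99672 = n73818 := (sb E99099 (iv5 F232903))
theorem F342539 : act 6 n99672 = n65613 := (sb E99099 F314747)
theorem F342540 : act 7 n99672 = n54703 := (sb E99099 F187224)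
theorem E99100 : n139769 = n99674 := (c10_2 F342539 D139769 (iv6 D99674) D99672)
theorem F342541 : act 4 n99674 = n65613 := (sb E99100 (iv4 D139769))
theorem E99101 : n181721 = n143559 := ((c21_11 (iv5 D181721) (iv1 F190020) F312358 (iv6 F342539) F342535 (iv6 F186865) (iv5 D118787) F338968 (iv5 D67227) D67228 D143559)).symm
theorem F342542 : act 5 n143559 = n86747 := (sb E99101 (iv5 D181721))
theorem E99102 : n143559 = n141771 := ((c21_6 (iv5 D54690) (iv1 F303867) F321994 (iv6 F322296) (iv1 F320527) D141771 F342542 (iv1 F190020) F312358 (iv6 F342539) F342535)).symm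
theorem F342543 : act 1 n141771 = n67228 := (sb E99102 (iv0 D143559))
theorem F342544 : act 5 n141771 = n86747 := (sb E99102 F342542)
theorem F342545 : act 7 n118861 = n141771 := d13_0 F342544 F307421 (iv5 F186932)
theorem F342546 : act 6 n139189 = n143561 := d21_5 F83678 (iv1 F83677) (iv5 F51994) (iv6 F310065) (iv1 F222383) (iv5 D143561) (iv1 F342543) F342544 (iv6 F307076) (iv1 F106873)
theorem F342547 : act 3 n143561 = n170091 := d7_1 F342546 (iv6 D170091) (iv3 F311607)
theorem E99103 : n150655 = n143561 := ((c10_1 F342546 (iv4 D150655) (iv6 F236649) (iv4 F311608))).symm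
theorem F342548 : act 4 n143561 = n71015 := (sb E99103 (iv4 D150655))
theorem F342549 : act 7 n143561 = n148965 := (sb E99103 F237195)
theorem F342550 : act 5 n143557 = n139189 := d12_5 F342546 (iv5 D143561) (iv6 D67228) D67227 D143557
theorem F342551 : act 0 n131091 = n143557 := d21_1 F209939 F342550 F342546 F226263 (iv6 F311700) F311699 D143127 (iv5 F312141) F235807 F309911
theorem E99104 : n151183 = n67228 := (c21_2 (iv5 F107751) D151183 D143561 (iv6 F342546) (iv1 D139189) (iv6 F232501) F305962 (iv1 F305956) F309783 F188920 F308053)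
theorem E99105 : n143560 = n71251 := ((D143560).symm.trans (sb E99104 (iv0 D151183)))
theorem F342552 : act 0 n71251 = n67228 := (sb E99105 (iv1 D143560))
theorem F342553 : act 0 n143552 = n166054 := d18_2 F342552 (iv4 F226255) (iv4 D166054) (iv5 D79725) F57034 F190024 (iv4 F61210) (iv0 F307422) (iv5 F107751)
theorem F342554 : act 7 n151184 = n139226 := d15_2 (iv0 F342552) D151184 F338985
theorem F342555 : act 2 n143562 = n151184 := d4_3 F342554 F338985 D143562
theorem E99106 : n155691 = n151184 := (c8_4 F342554 (iv3 F339085) F252476 D155691)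
theorem F342556 : act 3 n151184 = n74064 := (sb E99106 (iv3 D155691))
theorem F342557 : act 6 n142314 = n151184 := d14_5 F342554 (iv6 D139226) (iv7 F338978) D67233 (iv7 F338993)
theorem F342558 : act 3 n143577 = n142314 := d7_3 F342557 F342556 (iv6 F338991)
theorem F342559 : act 5 n151184 = n150653 := d12_1 F342557 (iv6 F339075) (iv5 D143568) (iv6 F339082) F333269
theorem F342560 : act 0 n139757 = n150653 := d21_1 D139757 (iv5 F342559) (iv6 F342557) (iv1 D142314) (iv6 D66721) F318388 D39450 (iv5 F232886) D118844 F311658
theorem F342561 : act 0 n141771 = n151184 := d21_4 (iv5 D69329) (iv1 F105591) F317046 D141771 (iv6 F342557) (iv5 F333269) (iv1 D141049) (iv5 D66150) D66151 F314625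
theorem E99107 : n139757 = n139209 := ((c17_10 F342560 (iv5 F342559) (iv1 D151184) F107751 (iv4 F307998) (iv5 F309988) F103106 (iv5 F222361) F222365 D139209)).symm
theorem F342562 : act 0 n139209 = n150653 := (sb E99107 F342560)
theorem F342563 : act 1 n139209 = n143561 := (sb E99107 (iv0 F226263))
theorem F342564 : act 2 n139209 = n65614 := (sb E99107 F222932)
theorem F342565 : act 5 n139209 = n65607 := (sb E99107 (iv5 D139757))
theorem F342566 : act 6 n139209 = n105919 := (sb E99107 (iv6 F311700))
theorem E99108 : n139774 = n139182 := (c1_3 D139209 F342564 D139774 F313503)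
theorem F342567 : act 4 n139182 = n65614 := (sb E99108 (iv4 D139774))
theorem F342568 : act 4 n139773 = n149337 := d18_7 (iv1 F189471) D166111 (iv1 F316944) F226077 (iv5 F315962) F342567 D139773 (iv0 F234767) F107563
theorem F342569 : act 0 n157462 = n131620 := d20_10 F340992 (iv1 D127937) (iv4 F205880) F315783 (iv1 D65622) (iv3 F101348) (iv4 F342567) (iv1 F222363) (iv4 F222407) (iv3 F248088)
theorem F342570 : act 1 n120651 = n131620 := d15_0 (iv0 F342569) F248090 F311221
theorem F342571 : act 1 n128376 = n155944 := d17_6 (iv1 D127937) (iv5 F103942) F103943 D128334 (iv4 F215344) F215345 (iv5 F311175) F342570 F340992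
theorem F342572 : act 2 n143561 = n139773 := d1_3 F342568 F234765 (iv4 F342548)
theorem F342573 : act 6 n150376 = n139773 := d10_0 F342568 (iv6 F234768) D150376
theorem F342574 : act 7 n150653 = n139773 := d11_0 F342568 F234766 D150653
theorem F342575 : act 0 n118861 = n139226 := d17_2 F307423 (iv5 F186932) F222949 F342568 (iv5 D149337) (iv0 D70120) (iv5 D32532) D32529 D70110
theorem F342576 : act 1 n118861 = n143562 := d15_1 (iv0 F342575) (iv7 D143562) (iv2 F338985)
theorem E99109 : n141777 = n139226 := (c15_1 D141777 (iv0 F342575) F342545 F224801)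
theorem F342577 : act 0 n139226 = n66475 := (sb E99109 (iv1 D141777))
theorem E99110 : n143562 = n141776 := (c15_4 (iv0 D141776) (iv0 F342577) (iv7 F342554) (iv2 F342555))
theorem F342578 : act 0 n141776 = n118861 := (sb E99110 (iv1 F342576))
theorem F342579 : act 2 n141776 = n151184 := (sb E99110 F342555)
theorem F342580 : act 7 n141776 = n67228 := (sb E99110 (iv7 D143562))
theorem F342581 : act 5 n148965 = n141776 := d13_3 F342580 D143561 F342549
theorem E99111 : n148965 = n139772 := ((c17_1 D139772 F342581 F342578 F186932 F307068 (iv5 F308020) F103103 (iv5 F101051) F222363 F342567)).symm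
theorem F342582 : act 2 n139772 = n150653 := (sb E99111 (iv2 F237192))
theorem F342583 : act 4 n139772 = n69834 := (sb E99111 F234098)
theorem F342584 : act 5 n139772 = n141776 := (sb E99111 F342581)
theorem F342585 : act 6 n139772 = n69832 := (sb E99111 (iv6 D148965))
theorem F342586 : act 7 n139772 = n143561 := (sb E99111 (iv7 F342549))
theorem F342587 : act 6 n142355 = n157372 := d21_9 (iv5 F114932) F314017 D139763 F222944 D139772 F342585 (iv5 F308073) F325035 D142355 (iv1 D157372)
theorem F342588 : act 6 n133738 = n119554 := d10_2 F342587 F247703 (iv4 F335224)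
theorem F342589 : act 5 n157372 = n142352 := d12_1 F342587 (iv6 D142352) (iv5 D66755) D66756 D142355
theorem F342590 : act 0 n142352 = n150623 := d21_7 F51994 F51662 D48754 D105434 (iv1 F323798) F342587 F342589 (iv5 D150623) F305236 F106254
theorem E99112 : n143519 = n142352 := (c21_8 F312015 (iv1 F238087) F305351 (iv6 D76592) F55461 D48971 F314153 D143519 (iv5 F342589) (iv6 F342587) F323797)
theorem F342591 : act 1 n142352 = n67218 := (sb E99112 (iv0 D143519))
theorem F342592 : act 5 n120000 = n133738 := d17_3 F186888 F106995 D120000 (iv4 F247703) F342589 F342591 (iv5 F314153) (iv0 F306599) F306601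
theorem E99113 : n148026 = n106036 := ((c21_7 F314153 (iv1 F342591) (iv5 F342589) (iv6 F342587) F323797 (iv6 D106037) D106036 (iv1 F340862) F340864 F311586 F306599)).symm
theorem F342593 : act 0 n106036 = n105824 := (sb E99113 (iv1 F340862))
theorem F342594 : act 3 n106036 = n69335 := (sb E99113 F231839)
theorem F342595 : act 6 n106036 = n69332 := (sb E99113 (iv6 D148026))
theorem F342596 : act 2 n146366 = n106036 := d3_3 F342595 F317205 D146366
theorem F342597 : act 6 n106041 = n99606 := d21_9 (iv5 D46558) D46556 (iv5 F147546) F311489 (iv1 F317204) (iv6 F342595) (iv5 D106036) D106033 F337030 (iv1 D99606)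
theorem E99114 : n178598 = n170889 := ((c12_3 F342597 F153360 D170889 (iv5 D178598) (iv6 F210917) F337030)).symm
theorem F342598 : act 5 n170889 = n85051 := (sb E99114 (iv5 D178598))
theorem F342599 : act 2 n139114 = n170889 := d2_3 F342598 F308956 D139114
theorem F342600 : act 3 n131098 = n170889 := d6_3 F342598 F308957 (iv5 F209954)
theorem F342601 : act 7 n131091 = n170889 := d13_0 F342598 F308958 F209939
theorem F342602 : act 4 n139106 = n170892 := d16_0 (iv5 D170892) (iv4 F268487) F342598 (iv4 D85051) (iv5 F310035) D65278 D139067 F222248 (iv2 F222291)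
theorem F342603 : act 0 n152071 = n170889 := d17_2 (iv1 F310090) F310091 F342598 (iv4 D85051) (iv5 F310035) (iv0 F210262) D30647 F54496 D74947
theorem F342604 : act 0 n124081 = n170892 := d17_2 F312099 D124081 (iv5 D170892) (iv4 F268487) F342598 F133057 F312446 D71660 (iv4 F307896)
theorem E99115 : n170891 = n150119 := ((c18_2 (iv1 F307944) F309165 (iv1 D170891) (iv4 F268487) F342598 (iv4 D85051) (iv0 D39334) F307940 F305999 D86584)).symm
theorem F342605 : act 0 n150119 = n81923 := (sb E99115 (iv1 D170891))
theorem F342606 : act 0 n170892 = n123173 := d17_2 F342605 D170892 (iv5 D123173) F90494 (iv5 F312239) (iv0 D85670) (iv5 F307184) D127941 F309165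
theorem F342607 : act 0 n149674 = n148844 := d20_7 F74344 (iv1 F51878) D70650 D150119 F342605 (iv3 F153842) (iv4 F235328) F233861 (iv3 F233067) (iv1 F107118)
theorem F342608 : act 6 n136662 = n150119 := d21_3 (iv5 F339092) (iv1 D136661) D136662 F342605 (iv6 D81923) F75468 F65442 (iv5 F44574) D57953 D124316
theorem E99116 : n170890 = n120531 := ((c15_4 (iv0 D170890) (iv0 F342605) (iv7 F313530) (iv2 F315989))).symm
theorem F342609 : act 1 n120531 = n81923 := (sb E99116 (iv0 D170890))
theorem F342610 : act 3 n139188 = n152071 := d20_9 F268487 (iv1 F342609) F315990 F112415 F311410 (iv3 F310078) (iv4 F312364) F191381 F310088 F342603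
theorem F342611 : act 0 n136642 = n124074 := d21_1 F315991 (iv5 D124074) (iv6 F316781) F317084 (iv6 D69906) (iv5 F61993) F61994 (iv5 F75468) D81923 (iv1 F342609)
theorem F342612 : act 1 n136642 = n123221 := d15_1 (iv0 F342611) (iv7 F337496) F337495
theorem F342613 : act 1 n136657 = n124074 := d15_0 (iv0 F342611) F341530 F341527
theorem F342614 : act 4 n154245 = n136641 := d18_5 (iv1 F197401) F311129 (iv1 F309647) F197418 D154245 F219787 (iv4 F219806) F342613 (iv5 D124074)
theorem F342615 : act 2 n136650 = n154245 := d1_3 F342614 F221564 D136650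
theorem F342616 : act 7 n136646 = n154245 := d11_0 F342614 F221565 D136646
theorem F342617 : act 0 n101136 = n154245 := d18_0 F342614 (iv1 D136641) D136642 (iv5 F315991) F315990 (iv0 F112417) F308657 F311974 D101136
theorem F342618 : act 3 n130870 = n154245 := d20_5 D124069 F198472 (iv4 D123152) (iv3 F309772) (iv1 F209466) F342614 (iv1 D136641) D136642 (iv3 F341531) (iv1 F192004)
theorem F342619 : act 1 n123221 = n136657 := d15_1 F342612 (iv7 D136657) (iv2 F219789)
theorem F342620 : act 7 n124074 = n136653 := d15_2 F342619 F342613 F309896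
theorem F342621 : act 2 n152071 = n101135 := d0_1 F342610 F155840 (iv2 F310532) F310533 F309387
theorem F342622 : act 4 n152071 = n99884 := d5_2 F310088 F342610 (iv3 D99884) F310574 (iv3 F310087)
theorem F342623 : act 5 n184547 = n139188 := d6_0 F342610 (iv5 F310091) F303965
theorem F342624 : act 7 n152071 = n184547 := d8_2 F310092 F342610 (iv3 F303965)
theorem F342625 : act 5 n154105 = n178896 := d19_13 F310005 (iv5 F310089) F310088 F342610 F342603 F342598 (iv4 D85051) (iv3 F133058) (iv1 D18690) D18693 D39448 F327047 D154105 F278774 (iv3 D85328) F60363 (iv5 F60463) (iv4 D39589) (iv3 F60459)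
theorem E99117 : n181381 = n99884 := (c20_2 D86599 D181381 (iv4 F342622) (iv3 F342610) (iv1 F222381) F310064 F51997 D32840 D70869 (iv3 F311222) (iv1 D86598))
theorem F342626 : act 1 n99884 = n86599 := (sb E99117 (iv0 D181381))
theorem E99118 : n181382 = n99493 := (c15_2 F342626 D181382 F155801 (iv2 F155373))
theorem F342627 : act 0 n99493 = n86599 := (sb E99118 (iv1 D181382))
theorem E99119 : n99884 = n99552 := ((c15_1 D99552 F342626 (iv7 F309083) F150962)).symm
theorem F342628 : act 1 n99552 = n86599 := (sb E99119 F342626)
theorem F342629 : act 2 n99552 = n47108 := (sb E99119 F155373)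
theorem F342630 : act 3 n99552 = n46646 := (sb E99119 (iv3 D99884))
theorem F342631 : act 4 n99552 = n152071 := (sb E99119 (iv4 F342622))
theorem F342632 : act 7 n99552 = n88004 := (sb E99119 (iv7 F155820))
theorem E99120 : n99551 = n99493 := ((c15_4 (iv0 D99551) D99552 F342632 F155415)).symm
theorem F342633 : act 1 n99493 = n46535 := (sb E99120 (iv0 D99551))
theorem F342634 : act 0 n152168 = n160109 := d20_1 F338850 F252709 F153295 (iv1 F342633) (iv3 D99493) (iv4 F155405) (iv1 F123112) F59353 (iv3 F74085) (iv1 F154414)
theorem F342635 : act 0 n170010 = n157440 := d20_7 (iv4 D63644) (iv1 F52400) D71762 D152168 F342634 F252708 (iv4 F267453) (iv4 F247993) (iv3 D152038) (iv1 F108161)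
theorem F342636 : act 3 n100417 = n151505 := d20_3 F252709 F338835 (iv4 F268814) (iv1 F238368) (iv3 D135384) (iv4 D63644) (iv1 F52400) D71762 D152168 F342634
theorem F342637 : act 2 n151995 = n160109 := d15_3 (iv0 F342634) (iv0 F239246) (iv7 F239013)
theorem F342638 : act 2 n99542 = n133582 := d1_3 (iv4 F239012) F342637 F252709
theorem F342639 : act 6 n100403 = n151995 := d3_0 F342637 (iv6 D160109) F154451
theorem F342640 : act 6 n133582 = n92761 := d10_2 F342639 F239012 (iv4 F154450)
theorem F342641 : act 1 n150112 = n130866 := d15_1 F338836 (iv7 F214880) (iv2 F342638)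
theorem F342642 : act 1 n130866 = n171091 := d15_1 F342641 (iv7 F286425) F286424
theorem F342643 : act 4 n151505 = n173798 := d5_2 (iv4 F268814) F342636 (iv3 F332322) (iv4 D171092) D171091
theorem F342644 : act 3 n119334 = n167564 := d19_19 (iv1 F263823) (iv5 F272380) (iv4 F342643) (iv3 F342636) (iv1 F338834) (iv5 D179763) (iv4 F338886) F200490 (iv1 F308463) F134771 F309285 F111600 F309282 (iv5 F311109) D74535 (iv3 F172505) (iv1 F172506) (iv5 F332240) (iv4 F274413)
theorem F342645 : act 0 n153588 = n173798 := d20_1 (iv4 F241412) (iv4 F342643) (iv3 F342636) (iv1 F338834) F279985 F300559 (iv1 F90015) F91465 D55465 (iv1 F303682)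
theorem E99121 : n157073 = n153588 := (c20_10 (iv4 F342643) (iv1 F238368) F217614 (iv3 D134626) F186476 F332290 (iv4 F309718) (iv1 F311945) (iv4 F313596) D157073 F342645)
theorem F342646 : act 3 n153588 = n74684 := (sb E99121 (iv3 D157073))
theorem F342647 : act 5 n167565 = n173693 := d21_2 F272380 (iv1 F263818) F272218 F306724 (iv6 D72825) D72824 (iv1 F163147) F163145 D153588 F342645
theorem F342648 : act 2 n178619 = n167565 := d2_3 F342647 F272216 D178619
theorem F342649 : act 3 n173694 = n167565 := d6_3 F342647 (iv3 D173693) D173694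
theorem F342650 : act 7 n174378 = n167565 := d13_0 F342647 F272219 D174378
theorem F342651 : act 2 n174378 = n167564 := d15_3 (iv0 D167564) D167565 (iv7 F342650)
theorem F342652 : act 5 n167564 = n119333 := d2_2 D174378 F342651 F187914
theorem F342653 : act 7 n167564 = n178619 := d4_2 (iv7 F342650) F342651 F342648
theorem F342654 : act 6 n98541 = n167564 := d12_0 F342652 (iv6 D119333) (iv5 F306539) (iv6 D98542) D98541
theorem E99122 : n174378 = n172858 := (c3_2 F342654 (iv2 F342651) (iv6 D172858) (iv2 F268298))
theorem F342655 : act 2 n172858 = n167564 := (sb E99122 F342651)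
theorem F342656 : act 3 n172858 = n83355 := (sb E99122 F273223)
theorem F342657 : act 4 n172858 = n160725 := (sb E99122 (iv4 F323227))
theorem F342658 : act 5 n172858 = n83352 := (sb E99122 (iv5 D174378))
theorem F342659 : act 7 n172858 = n167565 := (sb E99122 F342650)
theorem E99123 : n172858 = n83105 := ((c21_8 F304281 (iv1 D82517) (iv5 F304007) (iv6 F306117) (iv1 F298707) (iv6 F128114) (iv5 D83107) D83105 F342658 (iv6 D83352) F128204)).symm
theorem E99124 : n173785 = n167564 := ((D173785).symm.trans (sb E99123 F342655))
theorem E99125 : n173786 = n83355 := ((D173786).symm.trans (sb E99123 F342656))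
theorem E99126 : n173787 = n160725 := ((D173787).symm.trans (sb E99123 F342657))
theorem E99127 : n173788 = n83352 := ((D173788).symm.trans (sb E99123 F342658))
theorem E99128 : n173789 = n82757 := ((D173789).symm.trans (sb E99123 (iv6 D172858)))
theorem E99129 : n173790 = n167565 := ((D173790).symm.trans (sb E99123 F342659))
theorem F342660 : act 2 n167564 = n83105 := (sb E99124 (iv2 D173785))
theorem E99130 : n178619 = n83106 := ((F342653).symm.trans (sb E99124 (iv7 F272377)))
theorem F342661 : act 3 n83355 = n83105 := (sb E99125 (iv3 D173786))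
theorem F342662 : act 4 n160725 = n83105 := (sb E99126 (iv4 D173787))
theorem F342663 : act 5 n83352 = n83105 := (sb E99127 (iv5 D173788))
theorem F342664 : act 6 n82757 = n83105 := (sb E99128 (iv6 D173789))
theorem F342665 : act 7 n167565 = n83105 := (sb E99129 (iv7 D173790))
theorem F342666 : act 2 n83106 = n167565 := (sb E99130 F342648)
theorem E99131 : n173791 = n85073 := ((D173791).symm.trans (sb E99130 F278409))
theorem E99132 : n173792 = n160726 := ((D173792).symm.trans (sb E99130 (iv4 F323225)))
theorem E99133 : n173793 = n85072 := ((D173793).symm.trans (sb E99130 (iv5 D178619)))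
theorem F342667 : act 7 n83106 = n167564 := (sb E99130 (iv7 F342653))
theorem F342668 : act 3 n85073 = n83106 := (sb E99131 (iv3 D173791))
theorem F342669 : act 4 n160726 = n83106 := (sb E99132 (iv4 D173792))
theorem F342670 : act 5 n85072 = n83106 := (sb E99133 (iv5 D173793))
theorem F342671 : act 4 n160594 = n173347 := d18_3 (iv1 D83106) (iv4 F115743) D160594 (iv5 D173347) (iv4 F271797) F319028 F277347 F273222 F342670
theorem F342672 : act 2 n174761 = n160594 := d1_3 F342671 F271799 D174761
theorem F342673 : act 6 n124663 = n160594 := d10_0 F342671 F306609 (iv4 F336438)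
theorem F342674 : act 7 n175739 = n160594 := d11_0 F342671 F320211 D175739
theorem E99134 : n175967 = n175739 := (c15_2 F336416 (iv0 F323230) F342674 (iv2 F342672))
theorem F342675 : act 0 n175739 = n86325 := (sb E99134 F323230)
theorem F342676 : act 1 n175739 = n83969 := (sb E99134 (iv0 D175967))
theorem F342677 : act 2 n175739 = n160595 := d15_3 (iv0 F311541) F311542 (iv7 F342674)
theorem F342678 : act 4 n160595 = n173633 := d1_2 D175739 F342677 F279266
theorem F342679 : act 7 n160595 = n174761 := d4_2 (iv7 F342674) F342677 F342672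
theorem E99135 : n173663 = n173633 := ((c20_1 F342678 (iv1 D173663) (iv4 F319552) (iv3 F325428) F97739 F316238 (iv4 D55583) (iv1 F57124) (iv4 F113805) D158984 F311541)).symm
theorem F342680 : act 0 n173633 = n83054 := (sb E99135 (iv1 D173663))
theorem F342681 : act 1 n173633 = n83966 := (sb E99135 F272158)
theorem E99136 : n179599 = n136387 := (c18_1 D179599 (iv4 D136387) (iv1 D64119) (iv4 F99712) F325430 F319552 (iv0 F342680) (iv4 F342678) (iv0 F311541) F250318)
theorem F342682 : act 0 n136387 = n160596 := (sb E99136 (iv1 F313967))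
theorem F342683 : act 1 n136387 = n85758 := (sb E99136 (iv0 D179599))
theorem F342684 : act 5 n136387 = n175461 := d21_2 F250318 (iv1 F342683) (iv6 D175461) (iv1 F249564) F298188 F334608 F323502 F336440 F342673 (iv1 F311542)
theorem E99137 : n173662 = n173347 := ((c21_4 F249561 (iv1 F113386) D83786 (iv6 F306609) (iv1 F272154) (iv6 F323223) F250318 (iv1 F342683) F342684 (iv6 D175461) (iv1 F249564))).symm
theorem F342685 : act 0 n173347 = n83966 := (sb E99137 (iv1 F272154))
theorem F342686 : act 1 n173347 = n83054 := (sb E99137 (iv0 D173662))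
theorem F342687 : act 3 n167567 = n166287 := d20_3 (iv4 F342671) (iv1 F311542) F311544 F334060 F129051 D84067 (iv1 F318986) F322823 D83054 (iv1 F342686)
theorem F342688 : act 4 n167569 = n167565 := d18_3 F342685 (iv4 F323221) (iv1 F263826) F342647 F272217 F155434 (iv4 D83897) F319561 D173347
theorem F342689 : act 2 n160726 = n167569 := d1_3 F342688 (iv2 F342666) (iv4 F342669)
theorem F342690 : act 7 n160725 = n167569 := d11_0 F342688 F342665 (iv4 F342662)
theorem F342691 : act 2 n160725 = n167568 := d15_3 (iv0 D167568) D167569 (iv7 F342690)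
theorem F342692 : act 4 n167568 = n167564 := d1_2 (iv4 F342662) F342691 F342660
theorem F342693 : act 7 n167568 = n160726 := d4_2 (iv7 F342690) F342691 F342689
theorem E99138 : n175983 = n52217 := (c20_6 F342692 (iv1 F263823) F323228 F128951 D83974 D175983 F97735 (iv1 D62648) D62649 F325428 D167568)
theorem E99139 : n113133 = n83974 := (((iv3 F176261)).symm.trans (sb E99138 (iv3 D175983)))
theorem F342694 : act 3 n83974 = n52217 := (sb E99139 F176261)
theorem E99140 : n175985 = n52216 := ((D175985).symm.trans (sb E99139 (iv5 D113133)))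
theorem F342695 : act 5 n52216 = n83974 := (sb E99140 (iv5 D175985))
theorem F342696 : act 3 n153912 = n167568 := d20_5 (iv4 F324718) F161727 (iv4 F241888) F241887 D153912 F342692 (iv1 F263823) F323228 F128951 D83974
theorem E99141 : n157077 = n119334 := ((c20_10 D157078 F342235 F128794 F59409 (iv1 F59080) D83054 (iv4 F319552) D167568 F342692 (iv3 F342644) (iv1 D157077))).symm
theorem F342697 : act 0 n119334 = n74685 := (sb E99141 (iv1 D157077))
theorem F342698 : act 4 n153912 = n123655 := d5_2 (iv4 F342692) (iv3 F342696) F336364 (iv4 F274413) F342644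
theorem F342699 : act 4 n124685 = n120606 := d20_2 F206311 (iv1 F199454) (iv3 D120606) (iv1 F113921) (iv3 F309318) F132306 D167564 (iv4 F342692) (iv3 F342696) (iv1 F241899)
theorem F342700 : act 3 n120605 = n124685 := d5_5 F342699 (iv3 D120606) (iv4 D55545) (iv3 F87835) D120605
theorem E99142 : n154100 = n124685 := (c11_1 D154100 F342699 F192182 (iv4 F330641))
theorem F342701 : act 2 n124685 = n72967 := (sb E99142 F242175)
theorem F342702 : act 7 n124685 = n72966 := (sb E99142 (iv7 D154100))
theorem F342703 : act 3 n154254 = n139144 := d20_5 F342699 F336309 F94775 (iv3 F109599) D154254 (iv4 F334910) (iv1 F235081) (iv4 F328076) F328075 (iv1 F199454)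
theorem F342704 : act 3 n159123 = n128175 := d20_5 (iv4 D76045) (iv1 D34743) D34744 D76046 D159123 F206311 (iv1 F199454) F342699 (iv3 D120606) (iv1 F113921)
theorem F342705 : act 2 n154102 = n120606 := d1_3 (iv4 F342699) F342701 D154102
theorem F342706 : act 3 n159004 = n154102 := d0_0 F342705 (iv3 D120606) F87838 D75930 D159004
theorem F342707 : act 5 n107688 = n154102 := d2_0 F342705 F192181 (iv2 F321602)
theorem F342708 : act 7 n158989 = n154102 := d4_0 F342705 F192182 D158989
theorem E99143 : n158987 = n107658 := ((c15_1 (iv0 F330644) (iv0 D158987) (iv7 F192182) (iv2 F342705))).symm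
theorem F342709 : act 1 n107658 = n75906 := (sb E99143 (iv0 D158987))
theorem E99144 : n159917 = n151577 := ((c20_11 (iv4 D159917) (iv1 D76554) (iv4 F114794) (iv3 F312497) (iv1 D158980) F330642 F330641 (iv1 F342709) F329468 (iv3 F242373) (iv1 F242377))).symm
theorem F342710 : act 4 n151577 = n76554 := (sb E99144 (iv4 D159917))
theorem F342711 : act 0 n134279 = n158983 := d20_4 F329468 (iv1 F336370) F336375 F336377 (iv3 D158983) (iv4 D75903) (iv1 D34693) D34694 D75906 (iv1 F342709)
theorem F342712 : act 0 n107659 = n147772 := d21_4 (iv5 F113812) (iv1 F342709) (iv5 D107658) D107659 (iv6 D147772) D147771 (iv1 F231512) D154599 F336313 (iv1 D85508)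
theorem F342713 : act 0 n127902 = n174311 := d21_4 (iv5 D107658) (iv1 F321899) (iv5 F250351) (iv6 F339311) F340283 F329087 (iv1 D79856) D79858 F317963 (iv1 F342709)
theorem F342714 : act 2 n127905 = n174311 := d15_3 (iv0 F342713) (iv0 D127902) D127905
theorem F342715 : act 4 n174311 = n89257 := d1_2 (iv4 F205819) F342714 F308373
theorem F342716 : act 6 n104804 = n127905 := d3_0 F342714 F340283 F293377
theorem F342717 : act 7 n174311 = n123697 := d4_2 D127905 F342714 F198162
theorem F342718 : act 1 n159016 = n123697 := d15_1 (iv0 F339317) (iv7 F342717) (iv2 F342714)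
theorem F342719 : act 5 n119466 = n123697 := d21_0 (iv1 F342718) F339316 (iv6 D167116) F334202 (iv6 D82635) (iv5 F113261) D82982 F127899 D83313 (iv1 F303174)
theorem F342720 : act 3 n123697 = n119469 := d6_1 F342719 (iv5 D119469) (iv3 F188249)
theorem E99145 : n181972 = n154328 := ((c16_2 F205819 (iv5 F242415) F283281 (iv5 F287393) F341134 (iv5 D174939) (iv4 F303175) F342719 (iv7 F342717) (iv2 F342714))).symm
theorem F342721 : act 2 n154328 = n87002 := (sb E99145 F283280)
theorem F342722 : act 4 n154328 = n88282 := (sb E99145 F283281)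
theorem F342723 : act 6 n154328 = n86911 := (sb E99145 (iv6 D181972))
theorem E99146 : n185289 = n154327 := (c11_3 D154328 F342722 D185289 (iv4 D154327))
theorem F342724 : act 7 n154327 = n88282 := (sb E99146 (iv7 D185289))
theorem E99147 : n182223 = n154325 := (c15_1 D182223 (iv0 D154325) D154328 F342721)
theorem F342725 : act 0 n154325 = n87002 := (sb E99147 (iv1 D182223))
theorem F342726 : act 1 n127903 = n174311 := d15_1 D127903 F342717 F198162
theorem F342727 : act 5 n174435 = n167590 := d17_3 (iv1 F128484) D83381 (iv1 F273315) F263844 (iv5 F339315) F342726 (iv5 D174311) F273100 F273098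
theorem F342728 : act 4 n153389 = n127903 := d18_7 (iv1 D83316) F59246 D38410 D83375 (iv5 F308263) (iv4 F108990) D153389 F342726 (iv5 D174311)
theorem F342729 : act 5 n161311 = n163521 := d21_0 (iv1 D163521) D163522 F323694 F216509 F311014 D174311 (iv1 F342726) F339315 (iv6 D161315) D161311
theorem F342730 : act 3 n163521 = n164563 := d6_1 F342729 F259400 (iv3 F255131)
theorem E99148 : n163529 = n163521 := ((c13_2 F255133 F342729 (iv7 D163529) (iv5 F323679))).symm
theorem F342731 : act 2 n163521 = n78581 := (sb E99148 F257800)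
theorem F342732 : act 7 n163521 = n78580 := (sb E99148 (iv7 D163529))
theorem E99149 : n154167 = n134642 := (c18_7 (iv1 D163521) (iv4 F339686) F339683 (iv4 F339655) F323613 F298857 (iv0 F312586) F216613 F314730 F342729)
theorem F342733 : act 0 n134642 = n82744 := (sb E99149 F312586)
theorem F342734 : act 1 n134642 = n167586 := (sb E99149 F312587)
theorem F342735 : act 2 n134642 = n75764 := (sb E99149 (iv2 F315033))
theorem F342736 : act 5 n134642 = n124713 := (sb E99149 F242284)
theorem F342737 : act 6 n134642 = n73037 := (sb E99149 (iv6 D154167))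
theorem F342738 : act 0 n147693 = n133062 := d21_1 (iv5 F340286) (iv5 D133062) (iv6 F312346) F239793 F255132 F342729 (iv1 D163521) D163522 F323694 F216509
theorem E99150 : n163521 = n162951 := (c21_9 (iv5 F277118) (iv1 F277122) F341867 F329021 F320733 (iv6 F323068) (iv5 D161314) D161311 F342729 (iv6 D162951) (iv1 F193010))
theorem F342739 : act 0 n162951 = n78579 := (sb E99150 (iv1 D163521))
theorem F342740 : act 1 n162951 = n78583 := (sb E99150 F257793)
theorem F342741 : act 2 n162951 = n78581 := (sb E99150 F342731)
theorem F342742 : act 3 n162951 = n164563 := (sb E99150 F342730)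
theorem F342743 : act 5 n162951 = n161311 := (sb E99150 (iv5 F342729))
theorem F342744 : act 7 n162951 = n78580 := (sb E99150 F342732)
theorem E99151 : n167036 = n163532 := (c2_2 F342743 F263049 (iv5 D163532) (iv2 F342741))
theorem F342745 : act 0 n163532 = n80181 := (sb E99151 (iv1 D167036))
theorem F342746 : act 1 n163532 = n133065 := (sb E99151 (iv0 F312338))
theorem F342747 : act 2 n163532 = n161311 := (sb E99151 (iv2 F263049))
theorem F342748 : act 3 n163532 = n83609 := (sb E99151 (iv3 F263050))
theorem F342749 : act 6 n163532 = n161165 := (sb E99151 (iv6 F263051))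
theorem F342750 : act 7 n163532 = n83596 := (sb E99151 F263048)
theorem F342751 : act 6 n146712 = n163534 := d21_9 (iv5 F322743) (iv1 F257797) D163532 F342749 (iv1 D161165) D161168 F339821 (iv1 D146711) D146712 F323681
theorem F342752 : act 0 n104805 = n131534 := d21_1 F334262 (iv5 D131534) D131535 F314735 (iv6 F342749) (iv5 D163532) (iv1 D78581) D78582 (iv6 F322748) F200730
theorem F342753 : act 2 n176442 = n146712 := d3_3 F342751 F323682 D176442
theorem E99152 : n146712 = n119689 := ((c7_4 F342751 F323683 F308162 D119689)).symm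
theorem F342754 : act 2 n119689 = n176442 := (sb E99152 (iv2 F342753))
theorem F342755 : act 5 n119689 = n68775 := (sb E99152 (iv5 D146712))
theorem F342756 : act 6 n119689 = n163534 := (sb E99152 F342751)
theorem F342757 : act 5 n163534 = n166169 := d12_1 F342756 (iv6 D166169) (iv5 F334597) (iv6 D146713) (iv5 F342755)
theorem F342758 : act 0 n161314 = n166169 := d21_1 D161314 (iv5 F342757) (iv6 F342756) F273070 (iv6 D174279) F128378 (iv1 D38545) D38547 D83596 F263052
theorem F342759 : act 5 n127436 = n133067 := d21_8 D62437 F334254 (iv5 F322747) F322748 D163534 (iv6 F342756) F342755 (iv1 F243008) (iv6 D133067) (iv1 D62436)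
theorem F342760 : act 2 n166169 = n176441 := d2_1 F342757 (iv5 D176441) (iv2 F323682)
theorem F342761 : act 4 n166169 = n130233 := d19_2 D163534 F342757 F208751 D130236 (iv5 F212212) (iv4 D132315) (iv3 D62076) (iv1 D29391) D29393 D62084 F96752 (iv1 F52710) F310264 (iv4 D39576) (iv3 F296462) F116639 F296574 F322036 (iv3 F119755)
theorem F342762 : act 5 n124714 = n130213 := d16_3 F323687 D174302 F336899 F208735 D130233 (iv4 F342761) (iv5 F342757) F323684 (iv2 F323686)
theorem F342763 : act 3 n130214 = n124714 := d6_3 F342762 (iv3 D130213) D130214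
theorem F342764 : act 7 n134373 = n124714 := d13_0 F342762 F208736 D134373
theorem E99153 : n174302 = n128143 := ((c18_3 (iv1 D73061) (iv4 F94793) D128143 F336899 F342762 F208735 D130231 (iv4 F208750) (iv0 D108814) F329776)).symm
theorem F342765 : act 3 n128143 = n83321 := (sb E99153 F273102)
theorem F342766 : act 4 n128143 = n124714 := (sb E99153 F336899)
theorem F342767 : act 5 n128143 = n83314 := (sb E99153 (iv5 D174302))
theorem F342768 : act 6 n128143 = n83317 := (sb E99153 F273103)
theorem E99154 : n132975 = n127899 := (c21_5 F342767 (iv1 F308028) D132962 F213596 D132975 (iv6 D127899) F94634 (iv1 F46184) D28626 D60232 D128143)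
theorem F342769 : act 0 n127899 = n73126 := (sb E99154 F339657)
theorem F342770 : act 1 n127899 = n62395 := (sb E99154 (iv0 D132975))
theorem E99155 : n153236 = n130080 := (((iv2 F240670)).symm.trans (sb E99154 (iv2 F213605)))
theorem F342771 : act 3 n127899 = n130277 := (sb E99154 F213606)
theorem F342772 : act 5 n127899 = n132283 := (sb E99154 F213604)
theorem F342773 : act 2 n130080 = n127899 := (sb E99155 F240670)
theorem F342774 : act 4 n130080 = n72459 := (sb E99155 F240671)
theorem F342775 : act 6 n130080 = n72360 := (sb E99155 (iv6 D153236))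
theorem F342776 : act 0 n130214 = n123399 := d19_4 F308029 (iv5 F342767) F342766 (iv3 F342763) F328725 F95851 (iv3 D29042) F23086 D13980 F23293 D14138 F50878 (iv5 D13614) (iv4 F22787) (iv3 F46091) F54067 D29218 D61653 D131357
theorem F342777 : act 6 n141324 = n130717 := d21_5 D130214 F342776 F328725 (iv6 F102209) D141324 (iv5 F217349) (iv1 D135138) (iv5 D63511) F48184 F95640
theorem F342778 : act 4 n153372 = n132822 := d11_3 F213318 F342774 D153372
theorem F342779 : act 4 n153369 = n185827 := d20_8 (iv4 F328614) (iv1 F67778) F320210 F95585 D61078 D130080 F342774 D153369 (iv3 D185827) (iv1 F328229)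
theorem E99156 : n154345 = n153370 := (c20_1 D154345 (iv1 D153370) (iv4 F342774) (iv3 D130080) (iv1 F97212) (iv3 F213295) F342203 (iv1 F256748) F256745 (iv3 F206348) (iv1 F206351))
theorem F342780 : act 4 n153370 = n73121 := (sb E99156 (iv4 D154345))
theorem E99157 : n153369 = n102775 := ((c5_6 F342779 (iv3 D185827) (iv4 D88506) F291115 D47665 D102775)).symm
theorem F342781 : act 1 n102775 = n72459 := (sb E99157 (iv0 D153369))
theorem F342782 : act 4 n102775 = n185827 := (sb E99157 F342779)
theorem E99158 : n153372 = n119604 := ((c5_6 F342778 (iv3 D132822) F312464 F87026 D55030 D119604)).symm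
theorem F342783 : act 4 n119604 = n132822 := (sb E99158 F342778)
theorem F342784 : act 7 n119604 = n72459 := (sb E99158 (iv7 D153372))
theorem E99159 : n111263 = n27434 := (c20_8 D73126 (iv1 F339658) (iv4 F342783) (iv3 D119604) (iv1 F188564) F331659 F98424 D111263 (iv4 F44471) F44470 D33681)
theorem E99160 : n57712 = n57293 := (((D57293).symm.trans (sb E99159 F329919))).symm
theorem E99161 : n57294 = n51315 := ((D57294).symm.trans (sb E99159 (iv0 D111263)))
theorem E99162 : n111264 = n27563 := ((((iv1 F90379)).symm.trans (sb E99160 (iv1 F329920)))).symm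
theorem E99163 : n123119 = n27560 := ((D123119).symm.trans (sb E99160 (iv2 D57712)))
theorem E99164 : n123838 = n123120 := (((D123120).symm.trans (sb E99160 D123838))).symm
theorem E99165 : n123839 = n123121 := (((D123121).symm.trans (sb E99160 D123839))).symm
theorem E99166 : n123840 = n123122 := (((D123122).symm.trans (sb E99160 D123840))).symm
theorem E99167 : n123841 = n123123 := (((D123123).symm.trans (sb E99160 D123841))).symm
theorem E99168 : n123124 = n27561 := ((D123124).symm.trans (sb E99160 (iv7 F90892)))
theorem F342785 : act 0 n51315 = n27434 := (sb E99161 (iv1 D57294))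
theorem F342786 : act 0 n27563 = n51315 := (sb E99162 (iv1 D111264))
theorem F342787 : act 2 n27560 = n57293 := (sb E99163 (iv2 D123119))
theorem F342788 : act 2 n123120 = n155500 := (sb E99164 F331653)
theorem F342789 : act 7 n123120 = n57718 := (sb E99164 F198299)
theorem F342790 : act 2 n123121 = n57714 := (sb E99165 F198300)
theorem F342791 : act 7 n123121 = n57719 := (sb E99165 F198301)
theorem F342792 : act 0 n123122 = n134015 := (sb E99166 F329929)
theorem F342793 : act 1 n123122 = n134014 := (sb E99166 F329930)
theorem F342794 : act 2 n123122 = n57715 := (sb E99166 F198302)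
theorem F342795 : act 6 n123122 = n139299 := (sb E99166 F329931)
theorem F342796 : act 7 n123122 = n57720 := (sb E99166 F198303)
theorem F342797 : act 2 n123123 = n57716 := (sb E99167 F198304)
theorem F342798 : act 7 n27561 = n57293 := (sb E99168 (iv7 D123124))
theorem E99173 : n154359 = n89330 := ((c20_4 F331658 (iv1 D128274) D128275 F318174 (iv1 D154359) (iv3 D73125) D73126 (iv1 F339658) (iv4 F342783) (iv3 D119604) (iv1 F188564))).symm
theorem F342799 : act 0 n89330 = n73125 := (sb E99173 (iv1 D154359))
theorem F342800 : act 7 n123123 = n111196 := d14_2 F342798 D123123 (iv6 D111196) (iv7 D51286) (iv6 F329778)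
theorem F342801 : act 4 n134076 = n123123 := d11_3 F342800 F172441 D134076
theorem F342802 : act 1 n134427 = n123123 := d15_1 D134427 F342800 F172440
theorem F342803 : act 1 n123861 = n111196 := d15_1 D123861 (iv7 F342800) F342797
theorem E99174 : n134032 = n123861 := ((c21_5 (iv5 D51303) (iv1 F39122) (iv5 F80898) D111196 (iv1 F342803) (iv6 D134032) (iv5 D62959) (iv1 F95290) (iv5 F98372) (iv6 F329774) (iv1 F329101))).symm
theorem F342804 : act 2 n123861 = n63038 := (sb E99174 F216006)
theorem F342805 : act 4 n123861 = n111260 := (sb E99174 F216007)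
theorem F342806 : act 6 n123861 = n62959 := (sb E99174 (iv6 D134032))
theorem F342807 : act 0 n111260 = n123826 := d17_0 F198293 (iv1 D120470) (iv5 D55457) (iv4 F87755) D120457 (iv0 F198318) (iv5 D123862) D123861 F342805
theorem F342808 : act 1 n111260 = n110797 := d15_1 (iv0 F342807) F341451 (iv2 F341491)
theorem F342809 : act 0 n134399 = n146893 := d20_4 (iv4 F342805) (iv1 D123861) (iv4 F329968) (iv3 F216388) (iv3 D146893) F105051 (iv1 F104598) F104595 (iv3 F341450) (iv1 F342808)
theorem F342810 : act 1 n134384 = n146893 := d15_0 (iv0 F342809) (iv7 D134399) (iv2 F216382)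
theorem F342811 : act 1 n111196 = n134191 := d15_1 F342803 (iv7 D134191) (iv2 F342804)
theorem E99175 : n134191 = n123860 := (c15_1 F342811 (iv0 D123860) (iv7 F329970) (iv2 F172440))
theorem F342812 : act 0 n123860 = n111196 := (sb E99175 (iv1 F342811))
theorem F342813 : act 7 n123860 = n63038 := (sb E99175 (iv7 D134191))
theorem F342814 : act 2 n123860 = n134427 := d15_3 F342802 F341471 (iv7 F342813)
theorem F342815 : act 7 n134427 = n123861 := d4_2 (iv7 F342813) F342814 F342804
theorem F342816 : act 4 n146921 = n134427 := d11_3 F342815 F342805 (iv7 F341463)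
theorem F342817 : act 6 n134143 = n134427 := d14_5 F342815 F342806 F98238 D63008 D134143
theorem E99176 : n134189 = n63142 := (c15_1 D134189 D134427 F342815 F342804)
theorem E99177 : n134426 = n63038 := ((D134426).symm.trans (sb E99176 (iv1 D134189)))
theorem F342818 : act 1 n63038 = n63142 := (sb E99177 (iv0 D134426))
theorem E99178 : n160306 = n134428 := (c21_11 (iv5 D134428) (iv1 F342818) D134190 F216226 D134197 F328518 (iv5 D76839) (iv1 D35118) D35119 (iv6 F115367) D160306)
theorem F342819 : act 1 n134428 = n76830 := (sb E99178 (iv0 D160306))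
theorem F342820 : act 0 n160303 = n135196 := d17_0 (iv5 D135196) (iv1 D63525) F48188 (iv4 F98423) D134428 F342819 (iv5 D76830) D76829 D160303
theorem E99179 : n139304 = n124427 := (c21_9 (iv5 D76839) (iv1 D35118) D35119 (iv6 F115367) (iv1 F342819) F216401 (iv5 D111266) (iv1 F101079) D139304 (iv6 D124427) (iv1 F303347))
theorem F342821 : act 5 n124427 = n65380 := (sb E99179 (iv5 D139304))
theorem E99180 : n139305 = n123008 := (c12_3 D124427 F342821 D139305 (iv5 D123008) F300804 D58020)
theorem F342822 : act 4 n123008 = n110921 := (sb E99180 F222498)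
theorem F342823 : act 6 n123008 = n65380 := (sb E99180 (iv6 D139305))
theorem F342824 : act 0 n139610 = n124427 := d21_7 (iv5 D81979) (iv1 D37543) D37544 (iv6 F62337) (iv1 F329679) D65523 D139610 F342821 (iv6 F342823) F303602
theorem E99181 : n123315 = n111197 := ((c3_2 F342823 F172444 (iv6 D123315) (iv2 F197087))).symm
theorem F342825 : act 6 n111197 = n57420 := (sb E99181 (iv6 D123315))
theorem E99182 : n177487 = n139302 := (c14_5 F172445 F342825 F121101 D84554 D177487 (iv6 D139302))
theorem F342826 : act 7 n139302 = n84554 := (sb E99182 (iv7 D177487))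
theorem F342827 : act 7 n177486 = n139427 := d13_2 F342826 D177486 (iv5 F222630)
theorem E99183 : n141314 = n123307 := ((c15_4 (iv0 D141314) (iv0 F227001) F342826 (iv2 F197600))).symm
theorem F342828 : act 0 n123307 = n156714 := (sb E99183 (iv1 F246510))
theorem F342829 : act 1 n123307 = n66291 := (sb E99183 (iv0 D141314))
theorem F342830 : act 5 n123307 = n139426 := (sb E99183 (iv5 F246051))
theorem F342831 : act 2 n139426 = n177486 := d2_1 F342830 (iv5 D177486) (iv2 F197600)
theorem F342832 : act 6 n139426 = n120421 := d12_2 D123307 F342830 (iv5 F191844) (iv6 D57405) D57404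
theorem F342833 : act 6 n170660 = n141316 := d21_5 (iv5 D55440) (iv1 F121343) D37418 D81803 D170660 (iv5 D141316) (iv1 F342829) F342830 F342832 (iv1 D120421)
theorem F342834 : act 5 n141313 = n170660 := d12_5 F342833 (iv5 D141316) (iv6 D66291) D66290 D141313
theorem E99184 : n141313 = n129681 := ((c17_5 (iv1 F216214) (iv5 F226998) F227000 F171836 D129681 F342834 (iv0 D170660) (iv5 F329398) (iv0 F328196) F328199)).symm
theorem F342835 : act 5 n129681 = n170660 := (sb E99184 F342834)
theorem F342836 : act 6 n129681 = n66290 := (sb E99184 (iv6 D141313))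
theorem E99185 : n141312 = n129682 := (c10_2 F342836 D141312 (iv6 D129682) D129681)
theorem F342837 : act 4 n129682 = n66290 := (sb E99185 (iv4 D141312))
theorem F342838 : act 5 n140426 = n141295 := d9_8 F227017 F342837 (iv5 D66290) (iv4 D30968) D30969 D66292 (iv5 F329663) F223601 (iv4 D141295) (iv5 D66277) (iv4 D30963) D30964 D66281 (iv5 F329662) (iv4 F227018)
theorem F342839 : act 7 n141295 = n131931 := d16_8 F342837 (iv5 D66290) (iv4 D30968) D30969 D66292 (iv5 F329663) F223601 F342838 F211412
theorem E99186 : n141294 = n141156 := (c18_3 (iv1 F227003) F342837 (iv1 F224312) (iv4 D141156) (iv5 D66210) D66209 F162112 F80638 D51120 D110861)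
theorem F342840 : act 0 n141156 = n66277 := (sb E99186 (iv1 D141294))
theorem F342841 : act 1 n141156 = n66290 := (sb E99186 F224312)
theorem F342842 : act 5 n141156 = n134969 := (sb E99186 F224313)
theorem E99187 : n141293 = n134455 := (c18_7 F168249 (iv4 F100741) D138279 (iv4 F227018) F227017 F342837 F224311 F216413 (iv0 F98803) F168267)
theorem F342843 : act 0 n134455 = n66290 := (sb E99187 (iv1 F224311))
theorem F342844 : act 1 n134455 = n66277 := (sb E99187 (iv0 D141293))
theorem F342845 : act 5 n134455 = n134970 := (sb E99187 F224310)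
theorem F342846 : act 4 n141258 = n110860 := d18_5 (iv1 D134970) (iv4 D63432) (iv1 F168234) D133570 F224287 (iv0 F227002) F342837 (iv0 F342843) F342845
theorem F342847 : act 3 n146481 = n141258 := d5_5 F342846 (iv3 F328266) (iv4 D113786) (iv3 F104881) D146481
theorem F342848 : act 0 n110860 = n141295 := d17_0 (iv5 F342838) (iv1 F223604) F103623 (iv4 F167607) F328804 F101812 D66252 D141258 F342846
theorem F342849 : act 3 n141295 = n131974 := d20_5 (iv4 D52566) (iv1 F83020) D113786 F328266 F342848 (iv4 F216449) F218543 F218540 F102031 F326867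
theorem F342850 : act 6 n98456 = n141295 := d7_0 F342849 (iv6 D131974) (iv3 F327629)
theorem F342851 : act 3 n126819 = n136195 := d20_5 D141156 F342840 D141295 F342849 F211458 (iv4 D136195) (iv1 F204277) F331024 F216876 F216044
theorem F342852 : act 0 n141295 = n110861 := d20_10 (iv4 F217383) (iv1 F329772) (iv4 F329875) F168247 F48018 (iv3 F49439) D66460 F218231 F216449 (iv3 F342849)
theorem F342853 : act 4 n105259 = n106774 := d20_8 D66460 F218231 F216449 (iv3 F342849) F342852 F171714 (iv4 F329139) (iv1 F161211) (iv3 F165537) (iv1 F102042)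
theorem E99188 : n113932 = n105259 := (c1_4 F342853 F165504 F329449 D113932)
theorem F342854 : act 2 n105259 = n52598 := (sb E99188 (iv2 D113932))
theorem F342855 : act 7 n105259 = n52599 := (sb E99188 (iv7 F177295))
theorem F342856 : act 6 n106589 = n105259 := d10_0 F342853 (iv6 D106774) (iv4 F165530)
theorem E99189 : n135679 = n113939 := (c11_3 (iv7 F342855) F342853 (iv7 F218179) (iv4 D113939))
theorem F342857 : act 0 n113939 = n106419 := (sb E99189 F218180)
theorem F342858 : act 1 n113939 = n106418 := (sb E99189 (iv0 F218181))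
theorem F342859 : act 2 n113939 = n107215 := (sb E99189 F218176)
theorem F342860 : act 3 n113939 = n63838 := (sb E99189 F218177)
theorem F342861 : act 5 n113939 = n106940 := (sb E99189 F218178)
theorem F342862 : act 6 n113939 = n63800 := (sb E99189 (iv6 D135679))
theorem F342863 : act 7 n113939 = n106774 := (sb E99189 F218179)
theorem F342864 : act 5 n127352 = n105259 := d17_3 F96433 (iv5 F329195) (iv1 F204595) F342853 (iv5 F165683) (iv0 F165686) (iv5 D60561) (iv0 F77657) (iv4 F96432)
theorem E99190 : n128791 = n48662 := (c17_6 F165502 (iv5 D49533) (iv1 F77662) (iv5 F163665) (iv4 F163669) D128791 (iv0 D48662) D48665 D105259 F342853)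
theorem E99191 : n105248 = n60568 := ((D105248).symm.trans (sb E99190 (iv5 D128791)))
theorem E99192 : n131827 = n105250 := (((D105250).symm.trans (sb E99190 (iv7 F211245)))).symm
theorem F342865 : act 5 n60568 = n48662 := (sb E99191 (iv5 D105248))
theorem E99193 : n107227 = n48663 := (((F161202).symm.trans (sb E99192 F211244))).symm
theorem F342866 : act 5 n105250 = n61858 := (sb E99192 (iv5 D131827))
theorem E99194 : n105253 = n49541 := ((D105253).symm.trans (sb E99193 (iv5 D107227)))
theorem F342867 : act 5 n49541 = n48663 := (sb E99194 (iv5 D105253))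
theorem F342868 : act 5 n105251 = n107226 := d6_2 F342867 D105251 (iv3 D107226)
theorem F342869 : act 5 n105254 = n131953 := d12_3 (iv6 F78296) F342867 D105254 (iv6 D131953) F96509
theorem F342870 : act 5 n105245 = n107228 := d13_3 (iv7 D107228) F342867 F161201
theorem F342871 : act 5 n105247 = n107209 := d16_1 D105247 (iv4 D107209) (iv5 D49528) F37886 D24175 D49541 F342867 F161201 (iv2 D105245)
theorem F342872 : act 0 n136297 = n111981 := d17_2 (iv1 F173973) D136297 (iv5 D111981) (iv4 F82173) F328854 (iv0 F96511) F342867 F161200 (iv4 F173970)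
theorem E99195 : n128798 = n126243 := ((c18_4 (iv1 D48663) (iv4 F48582) D64076 (iv4 F203022) (iv5 D128798) (iv4 D60572) (iv0 D28765) (iv4 F46403) (iv0 F96511) F342867)).symm
theorem F342873 : act 3 n126243 = n177428 := (sb E99195 F341764)
theorem F342874 : act 5 n126243 = n60572 := (sb E99195 (iv5 D128798))
theorem F342875 : act 6 n126243 = n177424 := (sb E99195 (iv6 F341765))
theorem F342876 : act 7 n126243 = n127090 := (sb E99195 F207046)
theorem F342877 : act 0 n105261 = n125781 := d21_4 F342867 (iv1 D48663) D48665 D105261 F202291 (iv5 D58901) D58899 (iv5 F332769) F165247 (iv1 D107225)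
theorem E99196 : n125779 = n106575 := (c21_2 (iv5 D125781) D125779 (iv5 D106575) (iv6 D49247) (iv1 F77681) (iv6 F78296) F342867 (iv1 D48663) D48665 D105261 F342877)
theorem F342878 : act 1 n106575 = n58898 := (sb E99196 (iv0 D125779))
theorem E99197 : n131905 = n125780 := ((c15_2 F342878 D125780 (iv7 D131905) (iv2 F163847))).symm
theorem F342879 : act 5 n125780 = n61892 := (sb E99197 F211338)
theorem F342880 : act 7 n125780 = n61891 := (sb E99197 (iv7 D131905))
theorem F342881 : act 4 n105261 = n111012 := d17_9 F172145 (iv5 F168048) F168045 (iv5 D49249) (iv4 F77797) D106575 F342878 D125781 (iv0 F342877)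
theorem F342882 : act 7 n132168 = n105261 := d11_0 F342881 F172144 (iv4 F211706)
theorem F342883 : act 3 n105265 = n132168 := d8_3 F342882 F161214 D105265
theorem F342884 : act 4 n106477 = n125816 := d18_5 (iv1 F96477) F95150 (iv1 D49199) (iv4 F77693) D106477 (iv0 D125816) F93137 D125780 F342879
theorem F342885 : act 4 n127090 = n111953 := d11_1 F342876 (iv7 F173968) (iv4 F203022)
theorem F342886 : act 4 n136297 = n107292 := d16_2 F341783 D136297 F165357 F78325 (iv5 F80788) D60572 (iv5 F342874) F342876 F204339
theorem F342887 : act 1 n126242 = n127090 := d15_1 D126242 (iv7 F342876) (iv2 D126243)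
theorem F342888 : act 5 n111954 = n107291 := d16_1 F173963 (iv4 D107291) (iv5 D49574) F37903 D28299 D59641 D127090 (iv7 F342876) (iv2 D126243)
theorem E99198 : n136295 = n111034 := ((c2_2 F342888 (iv2 F172201) (iv5 D136295) (iv2 F173967))).symm
theorem F342889 : act 5 n111034 = n64076 := (sb E99198 (iv5 D136295))
theorem F342890 : act 3 n107291 = n176872 := d6_1 F342888 F276243 (iv3 F325607)
theorem F342891 : act 7 n107291 = n136297 := d13_2 (iv7 F173965) F342888 (iv5 D136297)
theorem E99199 : n126244 = n111042 := ((c16_1 (iv4 F172215) (iv5 D126244) F173963 F342888 (iv4 D107291) (iv5 D49574) F37903 D28299 (iv7 F80789) (iv2 F80796))).symm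
theorem F342892 : act 3 n111042 = n59185 := (sb E99199 F203023)
theorem F342893 : act 5 n111042 = n59183 := (sb E99199 (iv5 D126244))
theorem F342894 : act 5 n126241 = n107222 := d17_3 (iv1 F172217) F342893 D126241 (iv4 D107222) (iv5 D49538) F77661 (iv5 F163665) F163668 (iv4 F164604)
theorem F342895 : act 5 n126242 = n107217 := d17_7 F96531 (iv5 D59635) (iv1 F45811) (iv5 F80798) (iv4 F172215) F342893 D126242 F211456 F211453
theorem E99200 : n105256 = n105250 := (c18_9 F96433 F95063 (iv1 F80800) (iv4 F172215) F342893 F173963 (iv0 F173964) F99677 D105256 F342866)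
theorem F342896 : act 0 n105250 = n48664 := (sb E99200 (iv1 D105256))
theorem F342897 : act 1 n105250 = n48666 := (sb E99200 F161204)
theorem F342898 : act 3 n105250 = n125559 := (sb E99200 (iv3 F201972))
theorem F342899 : act 5 n125559 = n131825 := d6_2 (iv5 F342866) F342898 F211240
theorem F342900 : act 7 n125559 = n105246 := d8_2 D105250 F342898 (iv3 D105246)
theorem E99201 : n125562 = n125552 := (c11_2 F342900 (iv4 F201973) (iv7 F201969) D125559)
theorem F342901 : act 0 n125552 = n58789 := (sb E99201 (iv1 F201974))
theorem F342902 : act 1 n125552 = n58787 := (sb E99201 (iv0 D125562))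
theorem F342903 : act 4 n125552 = n105246 := (sb E99201 F201973)
theorem F342904 : act 5 n105246 = n128790 := d13_1 F342900 F211242 (iv5 F342899)
theorem F342905 : act 2 n105246 = n125554 := d1_1 F342903 (iv4 D125554) D125552
theorem F342906 : act 1 n113421 = n125559 := d15_1 (iv0 F201970) F342900 F342905
theorem E99202 : n125563 = n125557 := (c15_2 F342902 D125563 (iv7 D125557) D125552)
theorem F342907 : act 0 n125557 = n58787 := (sb E99202 (iv1 D125563))
theorem F342908 : act 1 n125557 = n58789 := (sb E99202 F201975)
theorem E99203 : n105255 = n105245 := (c15_2 F342897 F161203 (iv7 F161201) (iv2 F161202))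
theorem F342909 : act 0 n105245 = n48666 := (sb E99203 (iv1 F161203))
theorem F342910 : act 1 n105245 = n48664 := (sb E99203 (iv0 D105255))
theorem E99204 : n133343 = n105576 := (c19_7 (iv1 F342897) F342866 F96432 (iv3 F98328) F98331 (iv5 F97591) (iv4 F214382) F162177 (iv1 F101146) (iv5 D65427) (iv4 D30678) (iv3 D14542) (iv1 D6951) (iv5 D3135) F9978 F9964 (iv1 F7547) (iv5 F18011) (iv4 F36925) (iv3 F76553))
theorem F342911 : act 0 n105576 = n132426 := (sb E99204 F219462)
theorem F342912 : act 1 n105576 = n132429 := (sb E99204 (iv0 F214383))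
theorem F342913 : act 2 n105576 = n108055 := (sb E99204 F214381)
theorem F342914 : act 4 n105576 = n62584 := (sb E99204 F214382)
theorem F342915 : act 6 n105576 = n62583 := (sb E99204 (iv6 D133343))
theorem E99205 : n125648 = n113941 := (c21_9 (iv5 F76554) (iv1 F342897) F342866 (iv6 D61858) (iv1 D29310) D29313 D61867 D131855 F211259 (iv6 D113941) (iv1 D52599))
theorem F342916 : act 0 n113941 = n60620 := (sb E99205 (iv1 F202111))
theorem F342917 : act 1 n113941 = n58835 := (sb E99205 (iv0 D125648))
theorem F342918 : act 2 n113941 = n60617 := (sb E99205 (iv2 F202109))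
theorem F342919 : act 4 n113941 = n63800 := (sb E99205 F202108)
theorem F342920 : act 5 n113941 = n131855 := (sb E99205 (iv5 F211259))
theorem F342921 : act 7 n113941 = n60618 := (sb E99205 (iv7 F202110))
theorem F342922 : act 4 n131856 = n106171 := d16_0 (iv5 F164568) (iv4 F332818) F202083 (iv4 D105222) (iv5 F99165) (iv4 F342919) F342920 (iv7 F211261) F211264
theorem F342923 : act 5 n128875 = n131849 := d21_6 (iv5 F342920) F342916 F332858 (iv6 D60615) D60611 D128875 (iv1 D131849) (iv5 F332813) F332814 D131855
theorem E99206 : n128875 = n61931 := ((c17_1 D61931 F342923 (iv1 D131849) (iv5 F332813) F333523 D113759 F326362 (iv5 F218066) (iv0 D63852) F48419)).symm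
theorem E99207 : n131885 = n131849 := (((iv5 F211318)).symm.trans (sb E99206 F342923))
theorem E99208 : n131975 = n60611 := ((D131975).symm.trans (sb E99206 (iv6 D128875)))
theorem F342924 : act 1 n131849 = n61886 := (sb E99207 (iv0 D131885))
theorem F342925 : act 5 n131849 = n61931 := (sb E99207 F211318)
theorem F342926 : act 6 n60611 = n61931 := (sb E99208 (iv6 D131975))
theorem F342927 : act 6 n106583 = n128598 := d3_2 F342926 F203512 F207735
theorem F342928 : act 6 n126524 = n128872 := d7_2 F342926 F203444 (iv3 D128872)
theorem F342929 : act 6 n126530 = n128873 := d10_2 F342926 (iv4 F203450) (iv4 D128873)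
theorem F342930 : act 6 n132860 = n130132 := d3_2 F342929 F213420 F208645
theorem F342931 : act 3 n128873 = n126531 := d7_1 F342929 (iv6 D126531) D126530
theorem E99209 : n159526 = n128873 := ((c12_1 F342929 (iv5 D159526) D159527 (iv5 F332614) (iv6 D134492) (iv5 F203451))).symm
theorem F342932 : act 5 n128873 = n76319 := (sb E99209 (iv5 D159526))
theorem F342933 : act 7 n128873 = n106118 := (sb E99209 F251262)
theorem F342934 : act 0 n126530 = n113631 := d21_10 (iv5 F326586) F326585 F114435 (iv6 D48689) (iv1 F40245) D52447 F82802 D76319 (iv5 F342932) (iv6 F342929)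
theorem F342935 : act 3 n113631 = n135682 := d20_5 (iv4 F93637) (iv1 D59362) D59363 D126530 F342934 (iv4 D135682) (iv1 F99339) (iv4 D63874) F48426 (iv1 F48356)
theorem F342936 : act 1 n106123 = n113631 := d15_0 (iv0 F342934) (iv7 F332602) F177876
theorem F342937 : act 6 n135682 = n113628 := d7_2 D113631 F342935 (iv3 D113628)
theorem F342938 : act 4 n113628 = n135684 := d10_1 F342937 (iv6 D135684) D135682
theorem E99210 : n128597 = n113951 := ((c11_2 F342933 F177856 F207739 D128873)).symm
theorem F342939 : act 0 n113951 = n60613 := (sb E99210 (iv1 F206840))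
theorem F342940 : act 1 n113951 = n60483 := (sb E99210 (iv0 D128597))
theorem F342941 : act 2 n113951 = n60612 := (sb E99210 F207738)
theorem F342942 : act 7 n113951 = n60611 := (sb E99210 F207739)
theorem F342943 : act 1 n132860 = n113693 := d15_0 (iv0 F251393) (iv7 F342933) F213420
theorem F342944 : act 4 n128632 = n113693 := d20_6 (iv4 D28961) D28958 (iv4 F95252) (iv3 F206914) (iv1 F206917) D128632 (iv1 F342943) F213418 F207736 (iv1 D61130)
theorem F342945 : act 6 n113691 = n128632 := d10_0 F342944 (iv6 D113693) D113691
theorem F342946 : act 3 n128635 = n113691 := d7_3 F342945 (iv3 D128632) D128635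
theorem F342947 : act 5 n128965 = n128635 := d6_0 F342946 F329262 (iv3 F207178)
theorem F342948 : act 7 n128964 = n128635 := d8_0 F342946 (iv7 F329577) (iv3 F207177)
theorem F342949 : act 6 n106582 = n105355 := d14_3 F342942 F342926 F203510 F177864 D113951
theorem E99211 : n128880 = n105354 := (c3_3 D113951 F342941 D128880 F177868)
theorem F342950 : act 6 n105354 = n60612 := (sb E99211 (iv6 D128880))
theorem E99212 : n128879 = n128779 := (c21_7 F45914 (iv1 F36916) (iv5 F36993) D48705 D105354 F342950 D128879 (iv1 D128779) (iv5 D60565) F328467 F82177)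
theorem F342951 : act 5 n128779 = n60612 := (sb E99212 (iv5 D128879))
theorem E99213 : n115193 = n105362 := (c17_1 (iv1 F179393) F161577 (iv1 D70568) (iv5 F82800) (iv4 F328466) D60565 D128779 F342951 F206846 F206842)
theorem F342952 : act 0 n105362 = n53151 := (sb E99213 (iv1 D115193))
theorem F342953 : act 1 n105362 = n115122 := (sb E99213 F179393)
theorem F342954 : act 5 n159736 = n115122 := d21_6 (iv5 D52992) (iv1 F43583) (iv5 F88592) D121349 (iv1 F251647) D159736 (iv1 F342953) F161577 F193535 (iv1 D114845)
theorem F342955 : act 2 n115123 = n159736 := d2_3 F342954 (iv2 D115122) D115123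
theorem E99214 : n150001 = n95516 := ((c18_6 F342952 F83920 D60611 D128873 F342932 (iv4 F261858) (iv0 D150001) F107033 D70568 (iv5 F161577))).symm
theorem F342956 : act 0 n95516 = n164624 := (sb E99214 (iv1 F259573))
theorem F342957 : act 1 n95516 = n70566 := (sb E99214 (iv0 D150001))
theorem F342958 : act 5 n105348 = n125642 := d21_6 F83756 F178437 (iv5 D105361) D105362 F342952 (iv6 F332852) F332833 F165962 (iv6 D53046) D53043
theorem F342959 : act 2 n125642 = n113930 := d2_1 F342958 (iv5 D113930) F177292
theorem F342960 : act 3 n125642 = n115198 := d6_1 F342958 (iv5 D115198) (iv3 F332851)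
theorem F342961 : act 7 n125642 = n113926 := d13_2 F177293 F342958 (iv5 D113926)
theorem E99215 : n132746 = n114963 := ((c17_5 (iv1 F161553) F342958 F332833 F165962 (iv4 F179055) (iv5 D132746) (iv0 F164024) (iv5 F329262) F288402 F176470)).symm
theorem F342962 : act 0 n114963 = n106459 := (sb E99215 F213127)
theorem F342963 : act 2 n114963 = n128908 := (sb E99215 F213125)
theorem F342964 : act 5 n114963 = n62302 := (sb E99215 (iv5 D132746))
theorem F342965 : act 7 n114963 = n128905 := (sb E99215 F213126)
theorem F342966 : act 4 n105347 = n89076 := d16_0 F327325 (iv4 D58835) (iv5 D27972) (iv4 F45223) D58824 D125642 (iv5 F342958) (iv7 F177293) (iv2 F177290)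
theorem F342967 : act 6 n106470 = n125642 := d21_5 (iv5 D49194) (iv1 D24005) D24007 D49195 D106470 (iv5 F342958) (iv1 D105348) (iv5 F77920) (iv6 D49295) (iv1 F77692)
theorem F342968 : act 2 n106671 = n106470 := d3_3 F342967 F342959 (iv6 F177294)
theorem F342969 : act 4 n125635 = n106470 := d10_3 F342967 (iv4 D125642) (iv6 F202079)
theorem F342970 : act 6 n151644 = n106493 := d21_3 (iv5 F235975) F338509 D151644 (iv1 F164411) F164408 F163739 (iv1 F161553) F342958 (iv6 F342967) (iv1 F164357)
theorem F342971 : act 3 n106493 = n151650 := d7_1 F342970 (iv6 D151650) (iv3 F238508)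
theorem F342972 : act 7 n106471 = n106671 := d15_2 (iv0 D106470) D106471 F342968
theorem F342973 : act 7 n106672 = n106470 := d15_2 (iv0 D106671) D106672 (iv2 F342968)
theorem F342974 : act 2 n106471 = n106672 := d4_3 F342973 (iv2 F342968) (iv7 F342972)
theorem F342975 : act 3 n106470 = n142486 := d8_1 F342973 (iv7 F227410) F338515
theorem F342976 : act 7 n125635 = n131894 := d11_2 F342973 (iv4 F342969) F338514
theorem F342977 : act 5 n131894 = n125636 := d13_1 F342976 (iv7 D125636) D125635
theorem F342978 : act 2 n125635 = n131893 := d15_3 (iv0 D131893) D131894 (iv7 F342976)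
theorem F342979 : act 4 n131893 = n106671 := d1_2 (iv4 F342969) F342978 F342968
theorem F342980 : act 5 n131893 = n125527 := d2_2 D125635 F342978 F201892
theorem F342981 : act 6 n131893 = n125529 := d3_2 (iv6 F202079) F342978 F201899
theorem E99216 : n131903 = n125546 := ((c21_4 F82640 F45170 D58780 D125546 (iv1 D131903) (iv6 F211323) (iv5 D131895) D131893 F342980 (iv6 D125527) F92884)).symm
theorem F342982 : act 0 n125546 = n61891 := (sb E99216 (iv1 D131903))
theorem F342983 : act 3 n106671 = n151444 := d20_3 (iv4 F96472) D131893 F342979 (iv1 F238187) F108003 (iv4 F178450) (iv1 F178452) (iv4 D112954) (iv3 F331451) (iv1 D106523)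
theorem E99217 : n151656 = n144506 := (c0_3 F342983 F251619 D151656 F227356 (iv3 F342975) (iv2 F342968))
theorem F342984 : act 3 n144506 = n71473 := (sb E99217 (iv3 D151656))
theorem E99218 : n151661 = n106471 := (c8_4 F342972 F342983 F251620 D151661)
theorem F342985 : act 3 n106471 = n71474 := (sb E99218 (iv3 D151661))
theorem F342986 : act 3 n151445 = n142485 := d0_2 F342985 (iv2 F251616) (iv2 F227409) F338515 (iv2 F342974)
theorem E99219 : n159723 = n145897 := ((c6_3 F238182 F342986 (iv5 F229066) F251649)).symm
theorem F342987 : act 3 n145897 = n76416 := (sb E99219 F251649)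
theorem F342988 : act 6 n145897 = n76413 := (sb E99219 (iv6 D159723))
theorem F342989 : act 6 n159721 = n142520 := d10_2 F342988 D159721 F229067
theorem F342990 : act 7 n115133 = n145897 := d14_0 F342988 (iv7 F335482) (iv6 D115189) F83917 D115133
theorem F342991 : act 6 n159718 = n114701 := d21_5 (iv5 D142488) D142485 (iv5 F229066) F342988 D159718 F178809 F337866 D121340 (iv6 F338531) F338522
theorem E99220 : n152184 = n76413 := (c21_5 (iv5 D17409) D17407 (iv5 F52404) D71778 D152184 (iv6 F342988) F229066 (iv1 F227981) F316732 (iv6 D79002) (iv1 D35957))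
theorem E99221 : n159719 = n71778 := ((D159719).symm.trans (sb E99220 (iv0 D152184)))
theorem F342992 : act 0 n71778 = n76413 := (sb E99221 (iv1 D159719))
theorem E99222 : n106309 = n105378 := ((c20_6 D159721 F251640 F177583 F83196 (iv1 F76689) D105378 (iv4 F322654) F322650 F144549 F144547 F342992)).symm
theorem F342993 : act 0 n105378 = n49134 := (sb E99222 (iv1 D106309))
theorem F342994 : act 4 n105378 = n145488 := (sb E99222 (iv4 F322654))
theorem F342995 : act 7 n152185 = n159720 := d15_2 (iv0 F342992) D152185 (iv2 D159720)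
theorem F342996 : act 2 n152186 = n159718 := d15_3 (iv0 D159718) (iv0 F342992) D152186
theorem F342997 : act 7 n159718 = n114651 := d4_2 D152186 F342996 F178748
theorem E99223 : n159781 = n159718 := (c8_4 F342997 F178749 (iv7 F290302) D159781)
theorem F342998 : act 3 n159718 = n76457 := (sb E99223 (iv3 D159781))
theorem F342999 : act 5 n159718 = n182143 := (sb E99223 F283526)
theorem F343000 : act 7 n159823 = n182143 := d13_2 F342997 (iv5 F251901) (iv5 F342999)
theorem F343001 : act 1 n152185 = n159718 := d15_1 D152185 F342997 F178748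
theorem E99224 : n152185 = n115125 := ((c15_4 F343001 (iv0 D159718) (iv7 F335482) F179381)).symm
theorem F343002 : act 0 n115125 = n71778 := (sb E99224 (iv1 D152185))
theorem F343003 : act 1 n115125 = n159718 := (sb E99224 F343001)
theorem F343004 : act 7 n115125 = n159720 := (sb E99224 F342995)
theorem F343005 : act 3 n121358 = n115125 := d8_3 F343004 F251644 (iv7 F251674)
theorem F343006 : act 7 n159783 = n114655 := d8_2 F343000 F283524 (iv3 F251899)
theorem F343007 : act 2 n114696 = n159783 := d4_3 F343006 F178753 D114696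
theorem F343008 : act 5 n89198 = n123814 := d16_1 (iv4 F136904) F334556 (iv5 D175130) (iv4 F334561) F226409 F316454 D159783 F343006 F178753
theorem E99225 : n155404 = n93848 := (c20_3 F315372 D73863 D155404 (iv3 D93848) (iv1 F69404) F69401 F55137 (iv1 F40459) (iv4 F114619) D105378 F342993)
theorem F343009 : act 4 n93848 = n73863 := (sb E99225 (iv4 D155404))
theorem E99226 : n155402 = n119971 := (c1_2 F343009 D155402 (iv4 F333375) F145314)
theorem F343010 : act 2 n119971 = n73863 := (sb E99226 (iv2 D155402))
theorem F343011 : act 7 n119971 = n73864 := (sb E99226 (iv7 F244378))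
theorem E99227 : n155406 = n141457 := (c10_3 F333377 F343009 D155406 F224491)
theorem F343012 : act 6 n141457 = n73863 := (sb E99227 (iv6 D155406))
theorem E99228 : n155407 = n119970 := (c11_3 F145392 F343009 D155407 F335779)
theorem F343013 : act 2 n119970 = n73864 := (sb E99228 F244379)
theorem F343014 : act 7 n119970 = n73863 := (sb E99228 (iv7 D155407))
theorem F343015 : act 4 n155405 = n155410 := d16_2 F343009 D155405 (iv5 D155410) (iv4 F317611) F144683 F139219 (iv5 F144683) (iv7 F145315) F145314
theorem E99229 : n155410 = n133950 := (c18_6 (iv1 D120688) F88000 (iv1 F290279) F343009 D155405 F343015 (iv0 F317806) F317809 F267528 (iv5 F334473))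
theorem E99230 : n155405 = n133949 := ((((iv4 F340961)).symm.trans (sb E99229 (iv4 F343015)))).symm
theorem F343016 : act 5 n133950 = n73864 := (sb E99229 (iv5 D155410))
theorem F343017 : act 5 n133949 = n73863 := (sb E99230 (iv5 D155405))
theorem E99231 : n176695 = n89895 := ((c19_12 D133949 F343017 (iv4 F343009) (iv3 D93848) (iv1 F69404) F69402 F63215 F35867 (iv1 F16110) D19801 D42003 D89895 (iv1 D176695) (iv5 D84242) F59861 (iv3 D18861) D18859 D39854 F316271 (iv3 F98162))).symm
theorem F343018 : act 0 n89895 = n84242 := (sb E99231 (iv1 D176695))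
theorem F343019 : act 0 n172373 = n103122 := d17_0 F158405 F343018 (iv5 D84242) F59861 D39861 (iv0 F330235) D134610 F340178 D172373
theorem F343020 : act 2 n89830 = n176694 := d15_3 (iv0 D176694) (iv0 F343018) F138018
theorem E99232 : n184380 = n176694 := ((c0_2 D89830 F343020 F286309 F292800 F64763 (iv2 F64735))).symm
theorem F343021 : act 3 n176694 = n87938 := (sb E99232 F286309)
theorem F343022 : act 4 n176694 = n176694 := (sb E99232 (tr F286310 E99232))
theorem F343023 : act 6 n176694 = n87936 := (sb E99232 (iv6 D184380))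
theorem F343024 : act 5 n176694 = n103100 := d2_2 F159070 F343020 (iv2 F159069)
theorem F343025 : act 6 n91355 = n89830 := d3_0 F343020 F343023 (iv2 F294328)
theorem F343026 : act 7 n176694 = n89825 := d4_2 F138018 F343020 (iv2 F138015)
theorem F343027 : act 4 n103100 = n175343 := d19_2 D176694 F343024 F274388 F188505 (iv5 D72179) (iv4 D33318) (iv3 D16088) (iv1 D7512) D7513 (iv4 F316120) F111230 (iv1 F53439) F53436 (iv4 F99569) F328620 (iv1 F153599) F327390 (iv4 D84245) (iv3 F129303)
theorem F343028 : act 0 n103100 = n104771 := d21_1 F343024 (iv5 D104771) (iv6 F289681) (iv1 F76038) F291907 D89996 F335321 F335316 F335314 D176694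
theorem F343029 : act 1 n172353 = n175343 := d17_8 F343028 (iv5 D104771) (iv1 D48442) D48443 D104775 F335307 (iv0 F304306) D172353 (iv4 F343027)
theorem E99233 : n166305 = n91380 := (c19_17 F343028 (iv5 D104771) D104770 F160507 (iv1 F148067) (iv5 F340577) F174983 F81947 F39631 F38665 D30736 D65588 (iv1 F337757) F335054 F335056 D147786 F337750 F323552 (iv4 F323551) D103100)
theorem F343030 : act 0 n91380 = n79858 := (sb E99233 (iv1 D166305))
theorem F343031 : act 1 n91380 = n147786 := (sb E99233 (iv0 F337750))
theorem F343032 : act 1 n103100 = n103582 := d15_1 (iv0 F343028) F289628 (iv2 F160508)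
theorem E99234 : n172373 = n104771 := (c15_1 (iv0 F343019) (iv0 F343028) (iv7 F159121) F159119)
theorem F343033 : act 0 n104771 = n103122 := (sb E99234 F343019)
theorem F343034 : act 4 n104771 = n82542 := (sb E99234 (iv4 D172373))
theorem F343035 : act 1 n175343 = n172371 := d18_8 (iv1 F264239) F239274 (iv1 F304307) (iv4 D82541) D82542 (iv4 F343034) (iv0 F343028) F343027 (iv5 D172371)
theorem F343036 : act 4 n165635 = n103020 := d11_3 F289650 F343034 (iv7 F322458)
theorem E99235 : n176548 = n95371 := (c17_1 D176548 (iv5 D95371) (iv1 F76184) D104771 F343034 (iv5 D82542) F301543 F324613 (iv0 D86019) (iv4 F129211))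
theorem E99236 : n104774 = n84241 := (((iv1 F160512)).symm.trans (sb E99235 (iv1 F275880)))
theorem E99237 : n104773 = n84174 := ((F160511).symm.trans (sb E99235 (iv0 D176548)))
theorem E99238 : n176549 = n48443 := (((iv1 F275885)).symm.trans (sb E99236 (iv1 D104774)))
theorem F343037 : act 1 n84241 = n95371 := (sb E99236 F160512)
theorem F343038 : act 0 n84174 = n95371 := (sb E99237 (iv1 F160511))
theorem F343039 : act 0 n48443 = n84174 := (sb E99238 (iv1 D176549))
theorem F343040 : act 1 n48443 = n84241 := (sb E99238 F275885)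
theorem E99239 : n162681 = n104775 := (((D104775).symm.trans (sb E99238 (iv4 F275881)))).symm
theorem F343041 : act 3 n104775 = n78148 := (sb E99239 (iv3 D162681))
theorem E99240 : n182854 = n95511 := (c21_1 D182854 (iv1 F293079) (iv5 D91842) F293334 (iv1 F70972) D96544 F335313 (iv1 F343040) (iv5 D48443) D48444 (iv1 F293074))
theorem F343042 : act 5 n95511 = n87290 := (sb E99240 (iv5 D182854))
theorem F343043 : act 5 n182851 = n96545 := d2_2 F343042 (iv2 F284401) F158933
theorem E99241 : n182847 = n103024 := (c13_3 (iv7 F158932) F343042 F284399 F158271)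
theorem E99242 : n103591 = n87289 := (((iv2 F158928)).symm.trans (sb E99241 (iv2 D182847)))
theorem F343044 : act 7 n103024 = n87290 := (sb E99241 (iv7 F284399))
theorem F343045 : act 2 n87289 = n103024 := (sb E99242 F158928)
theorem E99243 : n182849 = n95512 := ((D182849).symm.trans (sb E99242 F158929))
theorem E99244 : n182850 = n47981 := ((D182850).symm.trans (sb E99242 (iv6 D103591)))
theorem F343046 : act 5 n95512 = n87289 := (sb E99243 (iv5 D182849))
theorem F343047 : act 6 n47981 = n87289 := (sb E99244 (iv6 D182850))
theorem E99245 : n182855 = n104220 := (c21_4 D44616 D95511 F343042 D182855 F290791 (iv6 D48377) D48376 F335305 D84242 (iv6 F335314) (iv1 D44615))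
theorem F343048 : act 6 n104220 = n87290 := (sb E99245 (iv6 D182855))
theorem E99246 : n182858 = n96543 := ((c21_1 D96543 (iv1 D182858) (iv5 D87292) (iv6 F75811) D104220 F343048 (iv5 F343042) (iv1 F293079) (iv5 D91842) F293334 (iv1 F70972))).symm
theorem F343049 : act 0 n96543 = n87292 := (sb E99246 (iv1 D182858))
theorem E99247 : n182857 = n96538 := ((c15_4 (iv0 D182857) (iv0 F343049) (iv7 F270456) F270487)).symm
theorem F343050 : act 1 n96538 = n87292 := (sb E99247 (iv0 D182857))
theorem F343051 : act 1 n95977 = n96538 := d15_0 F343050 (iv7 F138248) F291968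
theorem F343052 : act 4 n89690 = n91097 := d20_8 (iv4 F119734) F119735 (iv4 F61665) (iv3 F133983) (iv1 F343050) F335324 (iv4 F276292) (iv1 F276295) F140145 (iv1 F133322)
theorem F343053 : act 1 n96543 = n95977 := d15_0 F343051 F335325 (iv2 F335322)
theorem F343054 : act 4 n96113 = n89689 := d20_0 (iv1 F276296) F276292 (iv3 F335324) (iv1 F343051) (iv3 D95977) D95978 F147608 (iv4 D44855) (iv3 F70454) D96113
theorem E99248 : n184376 = n96539 := (c21_5 D103582 (iv1 F343032) (iv5 F343024) F343023 D184376 (iv6 D96539) D96538 (iv1 F343051) F147605 (iv6 D48444) F289627)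
theorem F343055 : act 1 n96539 = n87936 := (sb E99248 (iv0 D184376))
theorem F343056 : act 7 n184377 = n95506 := d15_2 F343055 D184377 (iv2 F270488)
theorem E99249 : n184129 = n96539 := (c15_1 D184129 F343055 (iv7 F292273) F292220)
theorem F343057 : act 0 n96539 = n87826 := (sb E99249 (iv1 D184129))
theorem F343058 : act 5 n103595 = n184377 := d13_3 F343056 F158272 (iv7 F270490)
theorem F343059 : act 7 n95977 = n182856 := d15_2 (iv0 F343049) F343053 F284403
theorem F343060 : act 1 n95505 = n182856 := d15_1 F291967 (iv7 F343059) (iv2 F291968)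
theorem E99250 : n182856 = n176908 := (c15_1 F343060 (iv0 D176908) (iv7 F335325) (iv2 F270487))
theorem F343061 : act 0 n176908 = n95505 := (sb E99250 (iv1 F343060))
theorem F343062 : act 2 n176908 = n87292 := (sb E99250 F284403)
theorem F343063 : act 3 n176908 = n88450 := (sb E99250 F284404)
theorem F343064 : act 5 n176908 = n87291 := (sb E99250 (iv5 D182856))
theorem F343065 : act 7 n176908 = n95977 := (sb E99250 (iv7 F343059))
theorem F343066 : act 6 n104615 = n182851 := d21_5 (iv5 F335316) D176908 F343064 F291222 D104615 F343043 (iv1 F148713) F147138 (iv6 F293334) (iv1 F294336)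
theorem F343067 : act 2 n104220 = n104615 := d3_3 F343066 F284401 (iv6 F343048)
theorem F343068 : act 7 n103027 = n104615 := d14_0 F343066 (iv7 D182851) (iv6 F343047) (iv7 F155000) D103027
theorem F343069 : act 0 n95822 = n96528 := d21_1 (iv5 F147504) (iv5 D96528) (iv6 D45075) (iv1 F33850) D21522 D45080 D96545 (iv5 F343043) (iv6 F343066) (iv1 F160293)
theorem F343070 : act 1 n95774 = n96528 := d15_0 (iv0 F343069) (iv7 F149871) F149870
theorem E99251 : n103024 = n89994 := ((c21_11 F158271 (iv1 D96546) (iv5 D45080) (iv6 D21522) D21520 D45075 D96528 (iv1 F343070) F147459 (iv6 F291222) (iv1 F138245))).symm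
theorem F343071 : act 2 n89994 = n87289 := (sb E99251 (iv2 F343045))
theorem F343072 : act 5 n89994 = n96546 := (sb E99251 F158271)
theorem F343073 : act 6 n89994 = n47764 := (sb E99251 (iv6 D103024))
theorem F343074 : act 7 n89994 = n87290 := (sb E99251 F343044)
theorem F343075 : act 7 n104220 = n103594 := d14_2 F343074 (iv6 F343048) (iv6 D103594) F154997 (iv6 F343073)
theorem E99252 : n182851 = n89993 := (c15_4 (iv0 D89993) D89994 F343074 (iv2 F284401))
theorem F343076 : act 2 n89993 = n87290 := (sb E99252 F284401)
theorem F343077 : act 5 n89993 = n96545 := (sb E99252 F343043)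
theorem F343078 : act 6 n89993 = n104615 := (sb E99252 (iv6 F343066))
theorem F343079 : act 7 n89993 = n87289 := (sb E99252 (iv7 D182851))
theorem E99253 : n104221 = n103027 := ((c15_4 F290792 (iv0 F290791) F343075 F158940)).symm
theorem F343080 : act 0 n103027 = n48225 := (sb E99253 (iv1 D104221))
theorem F343081 : act 1 n103027 = n48377 := (sb E99253 F290792)
theorem E99254 : n104616 = n103594 := (c15_2 (iv0 D104615) D104616 (iv7 F343075) F343067)
theorem F343082 : act 0 n103594 = n48380 := (sb E99254 (iv1 D104616))
theorem F343083 : act 1 n103594 = n95372 := (sb E99254 F160299)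
theorem E99255 : n100868 = n90382 := (c20_8 (iv4 D23421) (iv1 F290775) (iv4 F70061) (iv3 F147004) (iv1 F343083) F158941 F155004 D100868 F291781 (iv3 D103365) (iv1 F290958))
theorem F343084 : act 1 n90382 = n47020 := (sb E99255 (iv0 D100868))
theorem F343085 : act 4 n185469 = n100863 := d20_2 (iv4 F135313) D185469 F155003 (iv1 F343084) F139096 F65273 D43827 F68883 F291057 (iv1 D88374)
theorem F343086 : act 0 n90381 = n89114 := d21_7 F294160 (iv1 F154956) (iv5 D47019) D47020 (iv1 F343084) (iv6 D90382) D90381 (iv5 D89114) D89115 (iv1 F294158)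
theorem F343087 : act 4 n185145 = n109018 := d20_6 (iv4 F294282) F63876 (iv4 F65268) (iv3 F139094) F343086 (iv3 F289710) (iv1 D109018) (iv4 F327616) F65101 (iv1 F293265)
theorem F343088 : act 1 n91094 = n89114 := d15_0 (iv0 F343086) F139095 (iv2 F140142)
theorem E99256 : n170771 = n109030 := ((c16_7 (iv4 F136829) F289707 F343087 F169012 F168455 F168454 (iv4 F169031) (iv5 D170771) F295450 (iv2 F295447))).symm
theorem F343089 : act 5 n109030 = n81872 := (sb E99256 (iv5 D170771))
theorem F343090 : act 4 n109012 = n185137 := d17_4 (iv1 D109018) (iv5 D50331) D50329 D109012 (iv5 D185137) (iv0 D88234) D88236 D185145 F343087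
theorem E99257 : n185137 = n135044 := (c18_2 F327458 F343090 (iv1 D135044) (iv4 F111766) (iv5 F336678) F172910 F171662 (iv4 F172605) (iv0 D111277) (iv5 F327460))
theorem F343091 : act 4 n135044 = n109012 := (sb E99257 (iv4 F343090))
theorem F343092 : act 5 n135044 = n88234 := (sb E99257 (iv5 D185137))
theorem E99258 : n135044 = n98083 := (c18_6 (iv1 F163208) (iv4 F98658) F169931 (iv4 D109011) D109012 (iv4 F343091) (iv0 D98083) D98085 (iv0 F336753) (iv5 D112325))
theorem F343093 : act 0 n98083 = n63467 := (sb E99258 (iv1 D135044))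
theorem F343094 : act 4 n98083 = n109012 := (sb E99258 F343091)
theorem F343095 : act 5 n98083 = n88234 := (sb E99258 F343092)
theorem E99259 : n111424 = n108552 := ((c18_6 D45801 F295361 (iv1 F327641) (iv4 F328111) D93136 F325748 F172909 (iv4 F343094) (iv0 D98083) (iv5 D45803))).symm
theorem F343096 : act 0 n108552 = n109016 := (sb E99259 (iv1 F172908))
theorem F343097 : act 1 n108552 = n109012 := (sb E99259 F172909)
theorem F343098 : act 5 n108552 = n51385 := (sb E99259 F172907)
theorem F343099 : act 7 n108552 = n51384 := (sb E99259 (iv7 D111424))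
theorem F343100 : act 1 n93140 = n111421 := d15_0 (iv0 D111421) (iv7 F343099) (iv2 F325750)
theorem F343101 : act 1 n111422 = n93140 := d15_0 F343100 (iv7 F172903) F172906
theorem F343102 : act 5 n111279 = n93140 := d17_5 D50167 (iv5 F81120) F81121 (iv5 F80979) (iv4 F172617) F343100 F172901 (iv0 D108644) F79491
theorem F343103 : act 3 n163968 = n111279 := d6_3 F343102 (iv3 F143820) (iv5 F301261)
theorem F343104 : act 3 n112607 = n166749 := d5_5 (iv4 F301260) F343103 F172617 (iv3 F172585) (iv4 F175202)
theorem F343105 : act 6 n111473 = n163968 := d7_0 F343103 F172618 (iv3 F172983)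
theorem F343106 : act 6 n108646 = n108496 := d21_3 F172905 (iv1 D108645) D108646 (iv1 D108496) (iv6 D50093) (iv5 D24427) D24424 D50080 (iv6 F325751) (iv1 F343101)
theorem F343107 : act 2 n108496 = n109007 := d3_1 F343106 F169009 (iv2 F168547)
theorem F343108 : act 5 n108496 = n108643 := d12_1 F343106 (iv6 D108643) (iv5 D50165) D50166 D108646
theorem F343109 : act 6 n110222 = n106929 := d21_9 F216785 (iv1 F167929) F343108 (iv6 D108643) (iv1 F79568) F341331 (iv5 D75203) F327002 D110222 (iv1 F216789)
theorem E99260 : n109207 = n108874 := ((c21_5 (iv5 D50211) (iv1 F38449) D24518 D50271 D108874 (iv6 F216786) F216785 (iv1 F167929) F343108 (iv6 D108643) (iv1 F79568))).symm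
theorem F343110 : act 3 n108874 = n85857 := (sb E99260 F337467)
theorem F343111 : act 4 n108874 = n50397 := (sb E99260 F169169)
theorem F343112 : act 6 n108874 = n134749 := (sb E99260 (iv6 F216786))
theorem F343113 : act 7 n108874 = n50394 := (sb E99260 (iv7 D109207))
theorem E99261 : n125123 = n109203 := ((c8_2 F343113 (iv3 F169167) F201030 (iv3 F343110))).symm
theorem F343114 : act 4 n109203 = n58506 := (sb E99261 (iv4 D125123))
theorem F343115 : act 7 n109203 = n85857 := (sb E99261 F201030)
theorem F343116 : act 7 n179747 = n134742 := d14_2 F343115 D179747 (iv6 D134742) F98552 D109203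
theorem F343117 : act 1 n179732 = n108585 := d15_0 (iv0 F332976) F343115 (iv2 F279952)
theorem F343118 : act 5 n108556 = n109203 := d16_7 (iv4 D179732) (iv5 D85853) F60583 (iv5 F311550) D74368 D156348 (iv4 F245710) F343115 (iv2 F279952)
theorem E99262 : n179746 = n108453 := ((c13_3 (iv7 F343115) (iv5 F343118) (iv7 F245711) (iv5 D179746))).symm
theorem F343119 : act 5 n108453 = n85857 := (sb E99262 (iv5 D179746))
theorem F343120 : act 5 n179732 = n108555 := d2_2 F343119 (iv2 F279952) (iv2 F245713)
theorem F343121 : act 2 n125177 = n132437 := d16_9 (iv4 F212506) F343119 (iv4 D85857) (iv5 D39713) F30036 D18801 D39761 D85969 (iv7 F201221)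
theorem E99263 : n108455 = n101552 := ((c17_5 (iv1 F236437) (iv5 D101548) (iv1 D47238) D47239 D101552 (iv5 D108455) D108453 F343119 D179744 F279969)).symm
theorem F343122 : act 3 n101552 = n50080 := (sb E99263 F167690)
theorem F343123 : act 5 n101552 = n50079 := (sb E99263 (iv5 D108455))
theorem F343124 : act 7 n101552 = n108558 := (sb E99263 (iv7 F167890))
theorem E99264 : n179917 = n108452 := ((c16_10 (iv4 D179917) (iv5 D85969) (iv4 D39761) (iv5 D18801) (iv4 F30036) D39713 D85857 (iv5 F343119) F245711 F245712)).symm
theorem F343125 : act 4 n108452 = n85969 := (sb E99264 (iv4 D179917))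
theorem F343126 : act 4 n125177 = n108555 := d11_3 F245714 F343125 (iv7 F201221)
theorem E99265 : n179916 = n108133 := (c18_9 D108129 F167218 (iv1 F79079) D49995 F167193 (iv4 F167884) F167886 F343125 D179916 (iv5 D108133))
theorem F343127 : act 0 n108133 = n85969 := (sb E99265 (iv1 D179916))
theorem F343128 : act 4 n108137 = n134853 := d20_2 F343125 (iv1 F315168) (iv3 D134853) (iv1 D63376) (iv3 D29944) (iv4 D14222) D14220 (iv4 F38366) D50079 D108452
theorem F343129 : act 0 n179913 = n111248 := d20_10 (iv4 D111248) (iv1 D51309) (iv4 F80906) (iv3 D51291) (iv1 F78892) D108025 F166951 D108452 F343125 (iv3 F280196)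
theorem F343130 : act 5 n134853 = n179730 := d16_3 F210265 D108137 F343128 (iv4 D179730) (iv5 D85851) (iv4 F133068) F314617 F314321 F313648
theorem F343131 : act 3 n179730 = n134855 := d6_1 F343130 (iv5 D134855) D134853
theorem F343132 : act 0 n124858 = n134853 := d19_0 F343130 (iv4 D179730) F233142 (iv1 F283425) (iv5 F283426) F307361 F130790 F105535 F52685 (iv4 F105197) (iv3 F333932) (iv1 F274130) (iv5 F311310) (iv4 D120172) (iv3 F311307) F304645 (iv5 D58376) D58375 D124858
theorem F343133 : act 0 n134854 = n138934 := d20_7 F200391 (iv1 F92189) D58375 D124858 F343132 (iv3 D134853) D134854 (iv4 F314696) (iv3 D124867) (iv1 F200396)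
theorem F343134 : act 0 n134855 = n138460 := d19_4 (iv1 F92437) D85851 D179730 F343131 (iv5 D138460) F100842 (iv3 D61253) (iv1 F46631) (iv5 F46658) (iv4 D29018) (iv3 F46657) F83589 F83588 (iv4 F83568) F83567 (iv1 D29201) D29202 D61635 (iv3 F313475)
theorem F343135 : act 1 n130551 = n112885 := d17_6 (iv1 F217038) D134855 F343134 (iv5 D138460) F100842 D130551 (iv5 D112885) F175800 (iv4 F217036)
theorem E99266 : n145648 = n144424 := (c21_5 D108133 F343127 (iv5 D85969) D85970 (iv1 F320843) (iv6 D144424) F162345 (iv1 D105635) (iv5 D48836) (iv6 F38172) D49944)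
theorem F343136 : act 0 n144424 = n68274 := (sb E99266 (iv1 D145648))
theorem F343137 : act 1 n144424 = n85970 := (sb E99266 F320843)
theorem F343138 : act 7 n118273 = n139823 := d15_2 F343137 (iv0 F233205) (iv2 F227221)
theorem F343139 : act 2 n140995 = n118273 := d4_3 F343138 (iv2 F227221) (iv7 F245709)
theorem E99267 : n153572 = n145503 := ((c11_2 F343138 (iv4 F228552) (iv7 D153572) (iv4 F185816))).symm
theorem F343140 : act 3 n145503 = n85413 := (sb E99267 (iv3 F244604))
theorem F343141 : act 7 n145503 = n72615 := (sb E99267 (iv7 D153572))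
theorem F343142 : act 6 n118183 = n140995 := d3_0 F343139 (iv6 D118273) F185719
theorem F343143 : act 5 n108108 = n124813 := d18_9 (iv1 F312674) F312675 (iv1 D58543) D58544 D125177 F343126 (iv0 D108555) F79396 D108108
theorem F343144 : act 4 n108558 = n101553 := d11_1 F343124 (iv7 D101553) D101552
theorem F343145 : act 2 n108558 = n179884 := d16_9 (iv4 D179884) (iv5 D85942) (iv4 D39754) F312689 D49990 (iv5 F167058) F166951 (iv5 F343123) F343124
theorem F343146 : act 5 n179884 = n108557 := d2_2 D108558 F343145 (iv2 D108557)
theorem F343147 : act 5 n108456 = n111473 := d12_3 F295442 F343123 D108456 F343105 F301261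
theorem F343148 : act 7 n111472 = n108456 := d13_0 F343147 (iv7 D111473) D111472
theorem F343149 : act 6 n140335 = n108556 := d12_0 F343118 (iv6 D109203) F79761 D65864 D140335
theorem F343150 : act 3 n134749 = n179747 := d8_3 F343116 F216772 D134749
theorem F343151 : act 4 n134742 = n179751 := d11_1 F343116 (iv7 D179751) (iv4 F279971)
theorem E99268 : n179799 = n109178 := (c5_3 F343151 F279974 (iv4 F280025) F169158 (iv4 F98564) (iv3 F216772))
theorem F343152 : act 4 n109178 = n85878 := (sb E99268 F280025)
theorem F343153 : act 7 n109178 = n85874 := (sb E99268 (iv7 D179799))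
theorem F343154 : act 6 n179751 = n134741 := d10_2 D134742 F343151 (iv4 D134741)
theorem F343155 : act 2 n106929 = n170862 := d3_1 F343109 (iv6 D170862) (iv2 F327008)
theorem F343156 : act 4 n106929 = n170854 := d10_1 F343109 (iv6 D170854) (iv4 F327009)
theorem F343157 : act 5 n106929 = n110219 := d12_1 F343109 (iv6 D110219) (iv5 D50820) D50821 D110222
theorem F343158 : act 6 n110161 = n111422 := d21_5 F79289 D106929 F343157 (iv6 D110219) (iv1 F170313) F172905 (iv1 D108645) D108646 F343106 (iv1 D108496)
theorem E99269 : n112469 = n108492 := (c21_3 (iv5 F170972) (iv1 F170973) D112469 (iv6 D108492) (iv1 D50091) D50093 F79289 D106929 F343157 (iv6 D110219) (iv1 F170313))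
theorem F343159 : act 5 n108492 = n51886 := (sb E99269 (iv5 D112469))
theorem F343160 : act 5 n109378 = n108586 := d2_2 F343159 F170452 F167921
theorem E99270 : n135169 = n112498 := ((c16_1 D112498 (iv5 D135169) (iv4 F167721) F343159 (iv4 D51886) (iv5 D25179) D25178 (iv5 F341334) (iv7 F341353) F170467)).symm
theorem F343161 : act 5 n112498 = n63519 := (sb E99270 (iv5 D135169))
theorem E99271 : n135168 = n109174 := ((c18_2 (iv1 F169144) (iv4 F169156) (iv1 D135168) (iv4 F167721) F343159 (iv4 D51886) (iv0 F170928) (iv4 F81421) F325550 (iv5 F326095))).symm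
theorem F343162 : act 0 n109174 = n63519 := (sb E99271 (iv1 D135168))
theorem E99272 : n116265 = n112498 := ((c16_8 F171791 F341334 (iv4 D25178) D25179 D51886 (iv5 F343159) F167721 (iv5 F343161) (iv7 D116265) (iv2 F171790))).symm
theorem F343163 : act 6 n112498 = n66248 := (sb E99272 F181221)
theorem F343164 : act 7 n112498 = n53586 := (sb E99272 (iv7 D116265))
theorem E99273 : n135170 = n116264 := ((c13_2 F343164 D116264 (iv7 D135170) (iv5 F343161))).symm
theorem F343165 : act 7 n116264 = n63519 := (sb E99273 (iv7 D135170))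
theorem E99274 : n134809 = n116274 := (c14_4 F343165 (iv6 D63519) (iv7 F98625) D134809 (iv7 D116274) (iv6 F181220))
theorem F343166 : act 2 n116274 = n63521 := (sb E99274 F216925)
theorem F343167 : act 4 n116274 = n108584 := (sb E99274 F216926)
theorem F343168 : act 6 n116274 = n63347 := (sb E99274 (iv6 D134809))
theorem F343169 : act 6 n138325 = n90230 := d21_5 (iv5 D61332) (iv1 F79321) (iv5 F98626) (iv6 F343168) (iv1 F221521) F294985 (iv1 D43578) D43580 F324642 (iv1 F95812)
theorem F343170 : act 6 n88926 = n116272 := d3_2 F343169 F294280 (iv2 F221518)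
theorem F343171 : act 0 n140502 = n138322 := d21_4 (iv5 D42173) D42170 (iv5 F294272) F341408 F221516 (iv5 D64973) D64971 D138325 F343169 (iv1 D90230)
theorem F343172 : act 3 n116272 = n183019 := d7_1 F343170 (iv6 D183019) (iv3 F136488)
theorem F343173 : act 6 n116267 = n120327 := d21_3 (iv5 D53589) D53587 D116267 F301601 F91730 (iv5 D41526) D41524 D88926 F343170 (iv1 D116272)
theorem E99275 : n135176 = n116272 := (c21_5 (iv5 D63385) (iv1 F79239) (iv5 F79241) D63521 D135176 (iv6 F343170) (iv5 D88926) (iv1 F294842) D93136 F325749 (iv1 F98691))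
theorem F343174 : act 1 n116272 = n63521 := (sb E99275 (iv0 D135176))
theorem E99276 : n135177 = n116271 := (c15_2 F343174 D135177 (iv7 F221519) F221518)
theorem F343175 : act 0 n116271 = n63521 := (sb E99276 (iv1 D135177))
theorem E99277 : n135179 = n110885 := (c15_3 D116272 F343174 D135179 F171792)
theorem F343176 : act 7 n110885 = n63521 := (sb E99277 (iv7 D135179))
theorem E99278 : n135178 = n110886 := (c17_8 (iv1 F93973) (iv5 F171773) (iv1 F171775) (iv5 F112152) (iv4 F172346) (iv5 F181225) F343174 D135178 F171797 F166465)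
theorem F343177 : act 5 n110886 = n63521 := (sb E99278 (iv5 D135178))
theorem F343178 : act 5 n108490 = n156336 := d16_3 (iv4 F171794) F343177 (iv4 F167719) (iv4 D156336) (iv5 D74360) F53525 F26113 D25953 (iv2 F84526)
theorem F343179 : act 7 n156336 = n124308 := d16_8 F253468 F341378 F167659 (iv5 F84528) (iv4 F171794) F343177 (iv4 F167719) F343178 (iv2 F253467)
theorem F343180 : act 5 n116273 = n160463 := d16_1 D116273 F253468 F341378 F167659 (iv5 F84528) (iv4 F171794) F343177 (iv7 F343176) F171792
theorem E99279 : n138322 = n134433 := ((c21_9 (iv5 D116267) (iv1 F171797) F343177 (iv6 D63521) (iv1 D29996) D29998 F48188 D63143 D134433 F221516 (iv1 F181223))).symm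
theorem F343181 : act 1 n134433 = n140502 := (sb E99279 (iv0 F343171))
theorem E99280 : n64970 = n63143 := ((((iv5 D134433)).symm.trans (sb E99279 (iv5 D138322)))).symm
theorem F343182 : act 6 n134433 = n64973 := (sb E99279 F221516)
theorem E99283 : n134430 = n111131 := ((D134430).symm.trans (sb E99280 (iv2 F172344)))
theorem E99284 : n138313 = n134431 := (((D134431).symm.trans (sb E99280 (iv3 F221510)))).symm
theorem E99285 : n134432 = n134073 := ((D134432).symm.trans (sb E99280 (iv4 F216081)))
theorem E99286 : n134434 = n30522 := ((D134434).symm.trans (sb E99280 (iv6 D64970)))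
theorem E99287 : n134435 = n134075 := ((D134435).symm.trans (sb E99280 (iv7 F341440)))
theorem F343183 : act 2 n111131 = n63143 := (sb E99283 (iv2 D134430))
theorem F343184 : act 7 n111131 = n63144 := (sb E99283 (iv7 F216404))
theorem F343185 : act 0 n134431 = n65721 := (sb E99284 F337201)
theorem F343186 : act 1 n134431 = n65704 := (sb E99284 F337202)
theorem F343187 : act 2 n134431 = n141459 := (sb E99284 F337203)
theorem F343188 : act 4 n134431 = n67014 := (sb E99284 F337204)
theorem F343189 : act 6 n134431 = n64967 := (sb E99284 (iv6 D138313))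
theorem F343190 : act 7 n134431 = n67115 := (sb E99284 F337205)
theorem F343191 : act 4 n134073 = n63143 := (sb E99285 (iv4 D134432))
theorem F343192 : act 6 n30522 = n63143 := (sb E99286 (iv6 D134434))
theorem F343193 : act 2 n134075 = n63144 := (sb E99287 F216405)
theorem F343194 : act 7 n134075 = n63143 := (sb E99287 (iv7 D134435))
theorem F343195 : act 7 n116273 = n108584 := d16_8 F167719 (iv5 F343177) F171794 F84528 (iv4 F167659) (iv5 F341378) (iv4 F253468) (iv5 F343180) F167918
theorem F343196 : act 2 n134436 = n146912 := d0_3 (iv3 F341437) F343193 D134436 (iv3 F230298) (iv2 F223182)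
theorem E99288 : n134437 = n134421 := (c1_3 (iv4 F341438) F343193 D134437 F341443)
theorem F343197 : act 4 n134421 = n63144 := (sb E99288 (iv4 D134437))
theorem E99289 : n134439 = n102472 := (c3_3 (iv6 F341439) F343193 D134439 (iv2 F340886))
theorem F343198 : act 6 n102472 = n63144 := (sb E99289 (iv6 D134439))
theorem E99290 : n134421 = n102458 := (c10_2 F343198 (iv4 F343197) F157409 D102472)
theorem F343199 : act 2 n102458 = n67130 := (sb E99290 F341443)
theorem F343200 : act 4 n102458 = n63144 := (sb E99290 F343197)
theorem F343201 : act 7 n102458 = n63140 := (sb E99290 (iv7 D134421))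
theorem F343202 : act 0 n134438 = n140502 := d21_7 (iv5 D82034) (iv1 F126277) (iv5 F289826) F304016 (iv1 F340885) F343198 D134438 F341409 (iv6 F341410) F289879
theorem E99291 : n134420 = n102459 := (c13_2 F343201 D134420 (iv7 D102459) D102458)
theorem F343203 : act 2 n102459 = n64028 := (sb E99291 F331000)
theorem F343204 : act 5 n102459 = n63140 := (sb E99291 (iv5 D134420))
theorem F343205 : act 6 n102459 = n64024 := (sb E99291 F331001)
theorem E99292 : n134418 = n117434 := ((c15_1 (iv0 F183941) (iv0 D134418) (iv7 F343201) F343199)).symm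
theorem F343206 : act 1 n117434 = n63140 := (sb E99292 (iv0 D134418))
theorem F343207 : act 4 n146399 = n134070 := d20_8 F172345 (iv1 F343206) F183940 (iv3 D68874) (iv1 F85257) D117238 F183443 D146399 F216076 (iv1 F341416)
theorem F343208 : act 3 n146911 = n111131 := d20_5 (iv4 D54036) (iv1 F41436) D32033 D68869 D146911 F172345 (iv1 F343206) F183940 (iv3 D68874) (iv1 F85257)
theorem F343209 : act 6 n111129 = n146911 := d7_0 F343208 (iv6 D111131) (iv3 F172341)
theorem F343210 : act 7 n134436 = n146911 := d8_0 F343208 F343184 D134436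
theorem F343211 : act 6 n134069 = n146399 := d10_0 F343207 (iv6 D134070) D134069
theorem E99293 : n136165 = n134073 := ((c2_2 F343204 (iv2 F216080) (iv5 D136165) (iv2 F343203))).symm
theorem F343212 : act 5 n134073 = n64028 := (sb E99293 (iv5 D136165))
theorem E99294 : n143002 = n136151 := ((c6_2 F343212 (iv3 F219195) (iv5 D143002) (iv3 F341441))).symm
theorem F343213 : act 2 n136151 = n67079 := (sb E99294 F225869)
theorem F343214 : act 5 n136151 = n67022 := (sb E99294 (iv5 D143002))
theorem F343215 : act 7 n136151 = n67131 := (sb E99294 F225870)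
theorem E99295 : n143303 = n136166 := ((c13_3 (iv7 F341442) F343212 D136166 (iv5 D143303))).symm
theorem F343216 : act 3 n136166 = n67131 := (sb E99295 F226093)
theorem F343217 : act 5 n136166 = n67130 := (sb E99295 (iv5 D143303))
theorem F343218 : act 5 n136164 = n122652 := d17_7 (iv1 F197540) (iv5 F341409) (iv1 F343181) (iv5 D134433) (iv4 F343191) F343212 D136164 F197538 F197535
theorem E99296 : n136164 = n102456 := ((c21_11 F343218 (iv1 D122652) D122653 F196517 (iv1 F299213) F91693 (iv5 D46690) (iv1 F289717) D22841 D47533 D102456)).symm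
theorem F343219 : act 0 n102456 = n64028 := (sb E99296 (iv1 D136164))
theorem F343220 : act 5 n102456 = n122652 := (sb E99296 F343218)
theorem E99297 : n136166 = n102439 := ((c2_4 F343217 (iv2 F343199) (iv5 D102458) (iv2 F157398))).symm
theorem F343221 : act 3 n102439 = n67131 := (sb E99297 F343216)
theorem F343222 : act 5 n102439 = n67130 := (sb E99297 F343217)
theorem F343223 : act 7 n102439 = n64028 := (sb E99297 (iv7 D136166))
theorem E99298 : n136163 = n102457 := ((c15_1 D102457 (iv0 D136163) (iv7 F343223) F157398)).symm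
theorem F343224 : act 1 n102457 = n64028 := (sb E99298 (iv0 D136163))
theorem E99299 : n137452 = n102439 := (c21_2 F329155 D137452 F343222 (iv6 F316953) F304013 (iv6 D55383) (iv5 D26760) (iv1 F28693) (iv5 F44381) D57368 (iv1 F324899))
theorem F343225 : act 1 n102439 = n64607 := (sb E99299 (iv0 D137452))
theorem F343226 : act 6 n89545 = n136355 := d21_3 (iv5 F290002) F335667 D89545 (iv1 D136355) D136358 (iv5 F328432) F183941 (iv5 F343222) (iv6 D102439) (iv1 F153741)
theorem F343227 : act 3 n136355 = n89547 := d7_1 F343226 (iv6 D89547) (iv3 F137268)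
theorem E99300 : n102241 = n102183 := ((c20_1 D102183 (iv1 D102241) (iv4 F137270) (iv3 F343227) (iv1 D136355) (iv3 D64106) (iv4 D30214) (iv1 F23962) D14347 D30225 F329265)).symm
theorem F343228 : act 0 n102183 = n47456 := (sb E99300 (iv1 D102241))
theorem E99301 : n137453 = n102459 := (c15_2 F343225 D137453 (iv7 D102459) (iv2 F157398))
theorem F343229 : act 0 n102459 = n64607 := (sb E99301 (iv1 D137453))
theorem F343230 : act 6 n117533 = n138631 := d21_3 (iv5 F343204) F343229 (iv5 F329155) (iv1 D138631) (iv6 D65091) (iv5 D30567) D30565 (iv5 F100768) (iv6 F341447) (iv1 D134419)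
theorem F343231 : act 0 n138632 = n123872 := d21_1 D138632 (iv5 D123872) F329886 F80893 D63140 (iv5 F343204) F343229 (iv5 F329155) F343230 (iv1 D138631)
theorem F343232 : act 4 n134286 = n138631 := d17_9 (iv1 D138631) D138632 F343231 (iv5 D123872) (iv4 D57719) D57720 F198317 F329808 D134286
theorem F343233 : act 6 n123205 = n138637 := d21_5 (iv5 D123872) F341418 D122696 F196556 D123205 (iv5 D138637) (iv1 D65093) D65094 (iv6 F221802) F343231
theorem F343234 : act 7 n123852 = n134443 := d15_2 (iv0 F343231) (iv0 F341436) (iv2 F341435)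
theorem F343235 : act 2 n138637 = n177921 := d3_1 F343233 (iv6 D177921) (iv2 F301753)
theorem E99302 : n179847 = n139453 := (c21_7 F222644 (iv1 F172387) D138637 (iv6 F343233) F301752 D177761 (iv5 F280083) (iv1 D139453) D139454 F222643 D139456)
theorem F343236 : act 2 n139453 = n124070 := (sb E99302 (iv2 F305164))
theorem F343237 : act 5 n139453 = n177761 := (sb E99302 F280083)
theorem F343238 : act 6 n139453 = n85897 := (sb E99302 (iv6 D179847))
theorem F343239 : act 6 n177747 = n139456 := d21_5 (iv5 D84640) (iv1 D39088) D39089 (iv6 F129807) D177747 F222644 (iv1 F172387) D138637 (iv6 F343233) F301752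
theorem E99303 : n177890 = n138641 := ((c3_2 F343239 (iv2 F222645) (iv6 D177890) (iv2 F277422))).symm
theorem F343240 : act 6 n138641 = n84688 := (sb E99303 (iv6 D177890))
theorem F343241 : act 6 n171184 = n139558 := d12_2 F343240 F277423 F222712 F111910 (iv5 F221805)
theorem E99304 : n141235 = n124070 := ((c21_1 (iv5 F305165) (iv1 D141235) D141236 F224272 F221806 F343240 F277423 (iv1 F335641) F335643 F290057 (iv1 D177954))).symm
theorem F343242 : act 0 n124070 = n66244 := (sb E99304 (iv1 D141235))
theorem F343243 : act 1 n124070 = n139455 := (sb E99304 F224270)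
theorem F343244 : act 5 n111145 = n177921 := d21_8 (iv5 D39127) (iv1 D18573) D18574 (iv6 F60130) D84688 (iv6 F343240) F221805 (iv1 F172381) (iv6 D177921) (iv1 F129933)
theorem F343245 : act 6 n99985 = n111145 := d12_0 F343244 (iv6 D177921) F153925 (iv6 D99986) D99985
theorem F343246 : act 7 n177921 = n138635 := d13_2 (iv7 F172382) F343244 (iv5 D138635)
theorem F343247 : act 0 n177921 = n139389 := d17_2 (iv1 F172381) F343244 (iv5 D139389) (iv4 D65421) D65422 (iv0 F101116) F81292 F80873 (iv4 F100886)
theorem F343248 : act 1 n177921 = n139393 := d17_6 F165728 D144359 F227105 (iv5 F223577) F223576 F343244 (iv5 D139393) F180542 F180540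
theorem F343249 : act 7 n141234 = n139453 := d15_2 F343243 F224275 F343236
theorem F343250 : act 2 n141234 = n139452 := d15_3 (iv0 D139452) D139453 (iv7 F343249)
theorem F343251 : act 7 n139452 = n124070 := d4_2 (iv7 F343249) F343250 (iv2 F343236)
theorem F343252 : act 5 n177955 = n139452 := d13_3 F343251 F305165 D177955
theorem F343253 : act 2 n139558 = n92641 := d3_1 F343241 (iv6 F335650) F335648
theorem F343254 : act 5 n99847 = n139567 := d21_2 D46632 D99847 (iv6 D139567) (iv1 F222710) (iv6 F343241) (iv5 F277423) (iv1 F289761) (iv5 D102417) (iv6 F289774) (iv1 D46630)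
theorem F343255 : act 2 n139567 = n102449 := d2_1 F343254 (iv5 D102449) (iv2 F290009)
theorem F343256 : act 6 n139568 = n99847 := d12_0 F343254 (iv6 D139567) (iv5 D65489) D65490 D139568
theorem F343257 : act 7 n139567 = n93130 := d13_2 (iv7 F290010) F343254 F295315
theorem E99305 : n139567 = n89542 := (c17_4 (iv1 D46630) D46632 D99847 F343254 F137266 F335643 F290053 (iv5 D177745) F129805 (iv4 F289773))
theorem F343258 : act 2 n89542 = n102449 := (sb E99305 F343255)
theorem F343259 : act 3 n89542 = n136088 := (sb E99305 F335550)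
theorem F343260 : act 5 n89542 = n99847 := (sb E99305 (iv5 F343254))
theorem F343261 : act 6 n89542 = n65489 := (sb E99305 (iv6 D139567))
theorem F343262 : act 7 n89542 = n93130 := (sb E99305 F343257)
theorem F343263 : act 0 n89495 = n185119 := d17_0 (iv5 D185119) (iv1 F157181) (iv5 D102375) F74676 D47528 F153740 (iv5 F343260) (iv0 D89542) (iv4 F137186)
theorem E99306 : n99970 = n89545 := (c21_11 (iv5 D89545) D89542 F343260 (iv6 F343256) F222715 (iv6 F332953) (iv5 D123285) F299211 D57955 F91693 D99970)
theorem F343264 : act 0 n89545 = n47521 := (sb E99306 F289740)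
theorem F343265 : act 1 n89545 = n46690 := (sb E99306 (iv0 D99970))
theorem F343266 : act 0 n111745 = n136355 := d21_4 (iv5 D116834) F111889 D66221 (iv6 F173438) (iv6 F343226) (iv5 D89545) D89542 F343260 (iv6 F343256) F222715
theorem F343267 : act 5 n136355 = n159160 := d21_0 (iv1 D159160) (iv5 F324295) F324296 F303340 F332953 (iv5 D116834) F111889 D66221 (iv6 F173438) F343266
theorem F343268 : act 4 n118713 = n99958 := d20_2 F339156 (iv1 F305879) F153894 (iv1 F343265) F137268 F64472 (iv1 F64414) F64411 (iv3 F73564) (iv1 F153329)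
theorem F343269 : act 2 n99958 = n118797 := d1_1 F343268 (iv4 D118797) (iv2 F186735)
theorem F343270 : act 3 n99972 = n152328 := d5_3 F343268 F153894 D99972 F239489 (iv3 F305880)
theorem F343271 : act 7 n99958 = n118725 := d11_2 (iv7 F305881) F343268 (iv4 D118725)
theorem F343272 : act 5 n99842 = n118725 := d16_1 (iv4 F153727) (iv4 D118725) (iv5 D54661) (iv4 F86442) D118713 F343268 (iv5 D99958) (iv7 F289735) F157351
theorem F343273 : act 0 n99958 = n118851 := d18_2 (iv1 F305879) F343268 (iv4 F339136) F339137 F308237 F232901 F318563 (iv0 F318559) (iv5 F232886)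
theorem F343274 : act 1 n99958 = n118850 := d18_6 D60120 F305727 (iv1 D54660) (iv4 F86442) D118713 F343268 (iv4 F339143) F339140 (iv5 D60122)
theorem E99307 : n118853 = n99638 := ((c9_8 D99958 (iv4 F343268) (iv5 D118713) F86442 D54661 D118725 (iv5 F343272) F153727 (iv5 D118853) (iv4 D54704) (iv5 D26455) (iv4 F42311) D54690 D118797 (iv5 F327681) F153893)).symm
theorem F343275 : act 5 n99638 = n54704 := (sb E99307 (iv5 D118853))
theorem F343276 : act 5 n118903 = n102080 := d12_5 F290129 F343275 F86513 D54721 D118903
theorem E99308 : n137935 = n137619 := ((c17_10 (iv1 F221185) F331211 D99638 F343275 (iv4 D54704) (iv5 D26455) D26454 F319258 (iv0 F320546) (iv4 F220771))).symm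
theorem F343277 : act 0 n137619 = n64839 := (sb E99308 (iv1 F221185))
theorem F343278 : act 1 n137619 = n64825 := (sb E99308 (iv0 D137935))
theorem E99309 : n137879 = n137465 := ((c21_5 D118891 (iv1 F251055) (iv5 D159422) F322264 (iv1 F322900) F221104 F331211 D99638 F343275 F86513 D54718)).symm
theorem E99310 : n64822 = n64617 := ((((iv1 D137465)).symm.trans (sb E99309 (iv1 F221106)))).symm
theorem E99311 : n67089 = n64821 := ((F322900).symm.trans (sb E99309 F221107))
theorem F343279 : act 2 n137465 = n64824 := (sb E99309 F221102)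
theorem F343280 : act 4 n137465 = n127150 := (sb E99309 F221103)
theorem F343281 : act 6 n137465 = n64839 := (sb E99309 F221104)
theorem F343282 : act 7 n137465 = n64803 := (sb E99309 (iv7 D137879))
theorem E99312 : n137464 = n30476 := ((D137464).symm.trans (sb E99310 (iv1 D64822)))
theorem E99313 : n137925 = n137466 := (((D137466).symm.trans (sb E99310 (iv2 F221179)))).symm
theorem E99318 : n137920 = n69338 := ((((iv7 F318375)).symm.trans (sb E99310 F221178))).symm
theorem F343283 : act 0 n64821 = n137465 := (sb E99311 (iv1 F322900))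
theorem E99320 : n137922 = n31229 := ((D137922).symm.trans (sb E99311 (iv4 D67089)))
theorem E99321 : n143184 = n137923 := (((D137923).symm.trans (sb E99311 D143184))).symm
theorem E99322 : n137924 = n76260 := ((D137924).symm.trans (sb E99311 (iv6 F322264)))
theorem F343284 : act 1 n30476 = n64617 := (sb E99312 (iv0 D137464))
theorem F343285 : act 7 n137466 = n64821 := (sb E99313 (iv7 D137925))
theorem F343286 : act 2 n69338 = n64821 := (sb E99318 (iv2 D137920))
theorem F343287 : act 4 n31229 = n64821 := (sb E99320 (iv4 D137922))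
theorem F343288 : act 0 n137923 = n71462 := (sb E99321 F341187)
theorem F343289 : act 1 n137923 = n71389 := (sb E99321 F341188)
theorem F343290 : act 2 n137923 = n144990 := (sb E99321 (iv2 F341190))
theorem F343291 : act 4 n137923 = n159898 := (sb E99321 F341186)
theorem F343292 : act 6 n76260 = n64821 := (sb E99322 (iv6 D137924))
theorem F343293 : act 6 n137921 = n159421 := d7_2 F343292 D137921 (iv3 D159421)
theorem E99323 : n159898 = n144995 := (c1_1 F343291 (iv2 D144995) (iv4 F227949) (iv2 F343290))
theorem F343294 : act 0 n144995 = n151318 := (sb E99323 (iv1 F252158))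
theorem F343295 : act 1 n144995 = n76549 := (sb E99323 (iv0 D159898))
theorem F343296 : act 3 n144995 = n105385 := (sb E99323 (iv3 F341189))
theorem F343297 : act 4 n144995 = n137923 := (sb E99323 (iv4 F343291))
theorem F343298 : act 2 n105385 = n117106 := d0_1 F343296 (iv3 D117106) F85145 D67975 D144995
theorem F343299 : act 7 n144971 = n105385 := d4_0 F343298 F183162 D144971
theorem F343300 : act 1 n144970 = n105385 := d15_1 D144970 (iv7 F343299) (iv2 D144971)
theorem F343301 : act 2 n105387 = n144970 := d15_3 F343300 (iv0 D105385) D105387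
theorem F343302 : act 3 n144970 = n114196 := d0_2 (iv3 F161718) F343301 F177983 F83306 (iv2 F76717)
theorem F343303 : act 6 n144970 = n114250 := d3_2 (iv6 F161719) F343301 F178067
theorem F343304 : act 7 n144970 = n105382 := d4_2 D105387 F343301 F161708
theorem F343305 : act 5 n144970 = n186170 := d21_6 F65053 (iv1 F32468) D43281 (iv6 F83340) (iv1 F178070) (iv6 F343303) (iv1 D186170) F322607 F320840 (iv1 F67887)
theorem F343306 : act 2 n186170 = n113033 := d2_1 F343305 F176087 F343301
theorem F343307 : act 7 n186170 = n113022 := d13_2 (iv7 F343304) F343305 F176072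
theorem F343308 : act 5 n145919 = n113032 := d21_0 F291597 (iv5 F343305) F343303 (iv1 F178069) D114275 F340913 F340902 (iv5 D106181) D106182 F340908
theorem E99324 : n159899 = n117110 := (c15_2 F343295 D159899 F183168 D144995)
theorem F343309 : act 0 n117110 = n76549 := (sb E99324 (iv1 D159899))
theorem F343310 : act 1 n117110 = n151318 := (sb E99324 F252151)
theorem F343311 : act 4 n151318 = n117605 := d18_7 (iv1 F319174) (iv4 D141767) (iv1 D66472) (iv4 F102074) (iv5 F329157) F184132 F343310 F341184 F334861
theorem F343312 : act 4 n147602 = n151627 := d20_8 (iv4 F343311) (iv1 F343310) (iv4 F184132) (iv3 D117531) (iv1 F85486) D54163 (iv4 F112656) (iv1 F319425) (iv3 D151627) (iv1 F341184)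
theorem F343313 : act 3 n151422 = n114552 := d20_5 (iv4 F184132) F338499 F107882 (iv3 F107876) D151422 F320376 (iv1 F318251) (iv4 F223879) F318362 (iv1 F343310)
theorem F343314 : act 7 n143655 = n151422 := d8_0 F343313 F318192 D143655
theorem F343315 : act 2 n143655 = n151423 := d15_3 F238144 F238152 (iv7 F343314)
theorem F343316 : act 4 n151423 = n147320 := d1_2 (iv4 F226336) F343315 (iv2 F230991)
theorem F343317 : act 7 n147549 = n151423 := d11_0 F343316 (iv7 F230993) D147549
theorem E99325 : n151421 = n147367 := (c20_3 (iv4 F343316) (iv1 D151423) (iv4 F238143) (iv3 D147367) (iv1 D69088) (iv3 D32144) (iv4 D15174) D15172 D32137 D69069 D147320)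
theorem F343318 : act 1 n147367 = n84870 := (sb E99325 F334761)
theorem F343319 : act 2 n147367 = n71919 := (sb E99325 F238142)
theorem F343320 : act 4 n147367 = n71386 := (sb E99325 F238143)
theorem F343321 : act 5 n147367 = n174845 := (sb E99325 F334763)
theorem F343322 : act 6 n147367 = n71385 := (sb E99325 (iv6 D151421))
theorem E99326 : n151420 = n147370 := (c7_2 F343322 D151420 (iv6 D147370) D147367)
theorem F343323 : act 0 n147370 = n123088 := (sb E99326 F238140)
theorem F343324 : act 1 n147370 = n83752 := (sb E99326 F332273)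
theorem F343325 : act 2 n147370 = n71837 := (sb E99326 F238137)
theorem F343326 : act 3 n147370 = n71385 := (sb E99326 (iv3 D151420))
theorem F343327 : act 4 n147370 = n71388 := (sb E99326 F238138)
theorem F343328 : act 5 n147370 = n153323 := (sb E99326 (iv5 F240884))
theorem F343329 : act 7 n147370 = n114439 := (sb E99326 F238139)
theorem E99327 : n151429 = n147368 := (c10_3 D147370 F343327 D151429 (iv4 D147368))
theorem F343330 : act 3 n147368 = n71389 := (sb E99327 F238168)
theorem F343331 : act 6 n147368 = n71388 := (sb E99327 (iv6 D151429))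
theorem E99328 : n152265 = n147366 := (c3_3 D147370 F343325 D152265 F231086)
theorem F343332 : act 3 n147366 = n71838 := (sb E99328 F239322)
theorem F343333 : act 6 n147366 = n71837 := (sb E99328 (iv6 D152265))
theorem E99329 : n147366 = n147049 := ((c20_5 (iv4 D15178) (iv1 F24737) D32064 D68952 D147049 F343332 F108280 D71839 (iv4 F319129) (iv3 D69116) (iv1 D32154))).symm
theorem F343334 : act 2 n147049 = n69088 := (sb E99329 F231086)
theorem F343335 : act 3 n147049 = n71838 := (sb E99329 F343332)
theorem F343336 : act 6 n147049 = n71837 := (sb E99329 F343333)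
theorem F343337 : act 7 n147049 = n69087 := (sb E99329 (iv7 D147366))
theorem E99330 : n147361 = n147050 := (c15_4 F230528 F230527 F343337 D147361)
theorem F343338 : act 2 n147050 = n69087 := (sb E99330 (iv2 D147361))
theorem F343339 : act 7 n147050 = n69088 := (sb E99330 (iv7 F231085))
theorem F343340 : act 0 n147369 = n147139 := d21_7 (iv5 F311310) F311308 (iv5 D83751) D83752 (iv1 F343324) (iv6 D147370) D147369 (iv5 D147139) F333941 (iv1 F274130)
theorem F343341 : act 2 n174845 = n152466 := d2_1 F343321 (iv5 D152466) (iv2 F343319)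
theorem F343342 : act 3 n174845 = n147369 := d6_1 F343321 (iv5 D147369) D147367
theorem F343343 : act 6 n147369 = n174842 := d7_2 D174845 F343342 (iv3 D174842)
theorem F343344 : act 4 n147369 = n110352 := d20_6 F57144 F56541 (iv4 F119978) (iv3 F258562) (iv1 F334766) F343342 F325672 F324569 F171156 F321478
theorem F343345 : act 4 n173649 = n125605 := d20_0 (iv1 D125605) F92985 (iv3 D51008) (iv1 F39657) D51924 F81972 D110352 (iv4 F343344) (iv3 F343342) F334764
theorem F343346 : act 2 n125605 = n175943 := d1_1 F343345 (iv4 D175943) (iv2 F272128)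
theorem F343347 : act 6 n125605 = n172487 := d10_2 (iv6 F272129) F343345 F270685
theorem F343348 : act 5 n110618 = n147072 := d18_9 (iv1 D147072) (iv4 F227874) (iv1 F342093) F317561 D173649 F343345 F231344 (iv4 D147555) F171206
theorem E99331 : n147268 = n147072 := (c21_6 (iv5 D72824) (iv1 F94813) (iv5 F142222) F142220 (iv1 F328231) (iv6 F330307) (iv5 F343348) (iv1 F171206) (iv5 D69152) F308681 (iv1 F109326))
theorem E99332 : n84163 = n68961 := ((((iv1 D147072)).symm.trans (sb E99331 F330304))).symm
theorem F343349 : act 2 n147072 = n69037 := (sb E99331 (iv2 D147268))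
theorem F343350 : act 4 n147072 = n93849 := (sb E99331 F330306)
theorem F343351 : act 6 n147072 = n84100 := (sb E99331 F330307)
theorem F343352 : act 7 n147072 = n69038 := (sb E99331 (iv7 F230885))
theorem E99334 : n147071 = n38792 := ((D147071).symm.trans (sb E99332 (iv1 D84163)))
theorem E99337 : n176521 = n144910 := ((((iv4 F227874)).symm.trans (sb E99332 D176521))).symm
theorem E99338 : n172454 = n125962 := ((((iv5 F202633)).symm.trans (sb E99332 (iv5 F270666)))).symm
theorem E99339 : n176522 = n147073 := (((D147073).symm.trans (sb E99332 D176522))).symm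
theorem F343353 : act 0 n38792 = n69039 := (sb E99334 (iv1 F230552))
theorem F343354 : act 1 n38792 = n68961 := (sb E99334 (iv0 D147071))
theorem F343355 : act 6 n144910 = n152354 := (sb E99337 (iv6 F314194))
theorem F343356 : act 6 n125962 = n82568 := (sb E99338 (iv6 D172454))
theorem F343357 : act 0 n147073 = n101905 := (sb E99339 (iv1 F275832))
theorem F343358 : act 1 n147073 = n101922 := (sb E99339 (iv0 F275830))
theorem F343359 : act 4 n147073 = n152354 := (sb E99339 (iv4 F314193))
theorem F343360 : act 5 n147073 = n174492 := (sb E99339 F275828)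
theorem F343361 : act 7 n147073 = n174491 := (sb E99339 (iv7 F275829))
theorem F343362 : act 3 n174491 = n146704 := d8_1 F343361 F242985 (iv3 F230554)
theorem F343363 : act 6 n174491 = n147279 := d14_1 F343361 (iv7 D147279) (iv6 D69041) (iv7 F105142) D147073
theorem F343364 : act 5 n147279 = n174488 := d12_1 F343363 (iv6 D174488) (iv5 D83395) D83396 D174491
theorem F343365 : act 0 n162609 = n174488 := d21_7 (iv5 D172412) (iv1 D82555) D82556 F127189 F298441 D158707 (iv5 F256839) (iv5 F343364) (iv6 F343363) (iv1 F274819)
theorem F343366 : act 3 n174488 = n147291 := d6_1 F343364 F230911 (iv3 F230893)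
theorem F343367 : act 7 n174488 = n147278 := d13_2 D147279 F343364 (iv5 D147278)
theorem F343368 : act 6 n147291 = n174485 := d7_2 D174488 F343366 F273373
theorem F343369 : act 5 n174486 = n146704 := d12_3 F343368 (iv5 D174485) D174486 F242984 (iv5 F230911)
theorem F343370 : act 2 n147192 = n174486 := d2_3 F343369 F242983 (iv5 F230764)
theorem F343371 : act 7 n131672 = n174486 := d13_0 F343369 F242985 (iv5 F333685)
theorem F343372 : act 0 n147189 = n174486 := d17_2 (iv1 F313328) F313329 F343369 (iv4 D146704) (iv5 F242986) F105192 D147094 (iv0 F230591) (iv4 F231164)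
theorem F343373 : act 4 n133057 = n103035 := d16_2 (iv4 F333686) D133057 (iv5 D103035) (iv4 F319381) F242986 D146704 (iv5 F343369) (iv7 F343371) F333684
theorem E99345 : n172799 = n98140 := ((c21_9 F310749 (iv1 F242982) (iv5 F343369) (iv6 D174486) (iv1 F305465) (iv6 D173861) (iv5 D83145) (iv1 F72395) D98140 (iv6 D172799) (iv1 D82732))).symm
theorem F343374 : act 6 n98140 = n82732 := (sb E99345 (iv6 D172799))
theorem E99346 : n172796 = n121439 := (c7_2 F343374 D172796 (iv6 D121439) (iv3 F151346))
theorem F343375 : act 1 n121439 = n131376 := (sb E99346 (iv0 F339748))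
theorem F343376 : act 3 n121439 = n82732 := (sb E99346 (iv3 D172796))
theorem F343377 : act 4 n121439 = n131271 := (sb E99346 (iv4 F311034))
theorem F343378 : act 6 n172797 = n153241 := d10_2 F343374 D172797 F240687
theorem F343379 : act 0 n172797 = n167007 := d21_4 (iv5 F305674) F305672 (iv5 F240688) (iv6 F343378) (iv6 D167007) F123115 D82879 F306573 (iv6 F306344) F128260
theorem E99347 : n155660 = n103197 := (c18_9 F343379 F262995 (iv1 F315771) (iv4 F126932) D172056 (iv4 F337131) F337132 F329941 D155660 (iv5 F334511))
theorem F343380 : act 0 n103197 = n74051 := (sb E99347 (iv1 D155660))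
theorem F343381 : act 3 n175219 = n131376 := d20_3 (iv4 F178845) (iv1 F178847) D175219 (iv1 F343375) F343376 D172797 F343379 F262995 F310548 (iv1 F128706)
theorem E99348 : n175219 = n121481 := ((c7_1 F313513 F343381 (iv6 D131376) D131374)).symm
theorem F343382 : act 3 n121481 = n131376 := (sb E99348 F343381)
theorem F343383 : act 4 n121481 = n83683 := (sb E99348 (iv4 D175219))
theorem E99349 : n161660 = n98297 := ((c16_6 F343383 (iv5 F317115) F125479 F106107 (iv4 F72572) D98297 (iv4 D161660) (iv5 D77642) (iv7 F300374) D121481)).symm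
theorem F343384 : act 4 n98297 = n77642 := (sb E99349 (iv4 D161660))
theorem E99350 : n177026 = n105944 := (c20_5 (iv4 F343383) F303160 (iv4 F319557) F235692 D177026 F162689 F77286 D48982 D105950 (iv3 F309820) (iv1 F178847))
theorem F343385 : act 1 n105944 = n84375 := (sb E99350 (iv0 D177026))
theorem E99351 : n177027 = n124508 := (c15_2 F343385 D177027 F199154 (iv2 F297819))
theorem F343386 : act 0 n124508 = n84375 := (sb E99351 (iv1 D177027))
theorem F343387 : act 0 n173359 = n177024 := d20_10 F276443 (iv1 F343385) F162690 F94737 F77289 D73241 F109706 D73265 F303663 D173359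
theorem F343388 : act 0 n128281 = n173413 := d20_4 (iv4 D33708) D33705 F110589 D128281 (iv3 F276442) F276443 (iv1 F343385) F162690 F94737 F77289
theorem E99352 : n174430 = n155077 := ((c20_1 F271883 (iv1 D174430) (iv4 D83375) D83374 (iv1 F309615) (iv3 D73241) (iv4 D33708) D33705 F110589 D128281 F343388)).symm
theorem F343389 : act 0 n155077 = n83375 := (sb E99352 (iv1 D174430))
theorem F343390 : act 1 n155077 = n83380 := (sb E99352 F273310)
theorem F343391 : act 1 n128281 = n173417 := d15_1 (iv0 F343388) (iv7 D173417) (iv2 F271882)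
theorem F343392 : act 4 n153214 = n123698 := d18_1 D153214 (iv1 F198169) (iv4 F205819) F309748 (iv4 F206407) F343391 (iv4 F315044) F319574 (iv5 F308263)
theorem F343393 : act 3 n158230 = n153214 := d20_5 F179066 (iv1 F339738) (iv4 F177555) F177554 D158230 F343392 (iv1 F198169) (iv4 F205819) F309747 (iv1 F335510)
theorem F343394 : act 7 n153214 = n172869 := d8_2 (iv7 F298227) F343393 (iv3 D172869)
theorem F343395 : act 2 n172869 = n153215 := d15_3 F240576 F240581 F343394
theorem F343396 : act 0 n177024 = n155093 := d20_4 D83380 (iv1 F343390) (iv4 F271883) (iv3 F276442) F243922 F110323 D73621 (iv4 F328944) F243913 (iv1 F128484)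
theorem F343397 : act 0 n149842 = n143741 := d20_7 F308147 F206147 F206144 F188692 (iv1 F343390) (iv3 F317254) (iv4 F319557) F334561 (iv3 F334560) D101596
theorem F343398 : act 3 n101596 = n119467 := d20_5 (iv4 F319557) F343397 F334561 (iv3 F334560) D101596 (iv4 F267245) F310645 (iv4 F210587) (iv3 F343382) F303160
theorem F343399 : act 1 n149842 = n114682 := d15_1 (iv0 F343397) F312775 (iv2 F312769)
theorem F343400 : act 7 n145083 = n175178 := d15_2 F343399 F313479 F274217
theorem F343401 : act 5 n150013 = n150014 := d21_0 (iv1 D150014) (iv5 F311166) (iv6 F313481) (iv1 F343399) (iv6 D149842) F106898 (iv1 D52931) (iv5 F51823) D70572 D150013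
theorem E99353 : n178442 = n150014 := ((c16_2 F274049 F343401 (iv4 D178442) (iv5 F333678) F93223 F79608 (iv4 F93223) F333678 (iv7 F317454) F317453)).symm
theorem F343402 : act 3 n150014 = n131687 := (sb E99353 (iv3 F312036))
theorem F343403 : act 4 n150014 = n84909 := (sb E99353 (iv4 D178442))
theorem F343404 : act 6 n150014 = n108361 := d21_3 F311166 D150013 F343401 (iv1 D108361) (iv6 D50038) F38254 F26598 D13903 D29241 F210511
theorem F343405 : act 4 n108361 = n115695 := d10_1 F343404 F333679 (iv4 F343403)
theorem E99354 : n141364 = n108361 := ((c21_6 (iv5 F321075) F321071 (iv5 D131503) (iv6 F210636) F311431 F343404 (iv5 D141364) (iv1 F167369) F315121 F309395 D148969)).symm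
theorem F343406 : act 5 n108361 = n66313 := (sb E99354 (iv5 D141364))
theorem E99355 : n149841 = n141372 := (c21_10 (iv5 D66315) D66313 (iv5 F343406) (iv6 F343404) (iv1 D150014) (iv6 D70572) F51823 D52930 (iv5 F106894) D149841 (iv1 D141372))
theorem F343407 : act 1 n141372 = n70444 := (sb E99355 F311625)
theorem F343408 : act 2 n141372 = n155904 := (sb E99355 (iv2 F312333))
theorem F343409 : act 4 n141372 = n77663 := (sb E99355 F235691)
theorem F343410 : act 5 n141372 = n118287 := (sb E99355 F310055)
theorem F343411 : act 6 n141372 = n70434 := (sb E99355 (iv6 D149841))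
theorem F343412 : act 7 n141372 = n155900 := (sb E99355 F310056)
theorem E99356 : n131574 = n119489 := (c17_6 (iv1 F343407) F343410 (iv1 D118287) F86019 (iv4 F96335) D131574 (iv0 D119489) (iv5 D54976) D54975 (iv4 F316596))
theorem F343413 : act 3 n119489 = n133074 := (sb E99356 (iv3 F213722))
theorem F343414 : act 5 n119489 = n61736 := (sb E99356 (iv5 D131574))
theorem E99357 : n161922 = n161685 := (c17_3 (iv1 D121989) (iv5 F300211) D161922 (iv5 D161685) (iv4 F343409) F343410 F185833 F305280 (iv0 F305278) (iv4 F333408))
theorem F343415 : act 1 n161685 = n77764 := (sb E99357 (iv0 D161922))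
theorem F343416 : act 3 n161685 = n83397 := (sb E99357 F302954)
theorem E99358 : n178423 = n174495 := ((c7_3 (iv6 F255694) F343416 D174495 F278015)).symm
theorem F343417 : act 2 n174495 = n101469 := (sb E99358 F278014)
theorem F343418 : act 3 n174495 = n84898 := (sb E99358 F278015)
theorem F343419 : act 5 n174495 = n84895 := (sb E99358 (iv5 D178423))
theorem F343420 : act 5 n162731 = n174516 := d21_8 (iv5 D38426) (iv1 D18325) D18326 (iv6 F59275) D83397 D174495 F343419 (iv1 F334417) (iv6 D174516) (iv1 F128518)
theorem F343421 : act 6 n101469 = n173291 := d3_2 D174495 F343417 F271680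
theorem F343422 : act 5 n101467 = n162606 := d21_8 (iv5 D82937) (iv1 D38160) D38161 (iv6 F127786) D173291 (iv6 F343421) (iv5 D101469) D101467 (iv6 D162606) F300603
theorem F343423 : act 2 n162606 = n174516 := d2_1 F343422 (iv5 F343420) F334418
theorem F343424 : act 3 n162606 = n153922 := d6_1 F343422 F241921 (iv3 F306242)
theorem F343425 : act 7 n162606 = n153910 := d13_2 (iv7 F306244) F343422 (iv5 D153910)
theorem F343426 : act 6 n153922 = n162604 := d7_2 D162606 F343424 (iv3 D162604)
theorem F343427 : act 5 n162604 = n158835 := d12_1 F343426 (iv6 D158835) (iv5 F312592) (iv6 F109335) (iv5 F241921)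
theorem F343428 : act 0 n154614 = n162604 := d21_4 (iv5 D154608) (iv1 D73288) D73290 D154614 (iv6 F343426) F241921 F190374 D79810 (iv6 F340235) F242705
theorem E99359 : n174392 = n154614 := (c17_2 D83362 D174392 F343428 F343427 (iv4 F263216) (iv5 F339316) F342718 (iv5 F342719) F303174 F128415)
theorem F343429 : act 2 n154614 = n83376 := (sb E99359 F273245)
theorem F343430 : act 3 n154614 = n84946 := (sb E99359 F273246)
theorem F343431 : act 5 n154614 = n83362 := (sb E99359 (iv5 D174392))
theorem F343432 : act 7 n154614 = n83381 := (sb E99359 F273247)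
theorem F343433 : act 1 n174395 = n162604 := d15_0 (iv0 F343428) F343432 (iv2 F273254)
theorem F343434 : act 6 n184664 = n128121 := d21_5 (iv5 D174395) (iv1 D83363) D83364 (iv6 F273237) (iv1 F332010) (iv5 D128121) (iv1 F190375) (iv5 F241921) F343426 (iv1 F343433)
theorem F343435 : act 4 n128121 = n184665 := d10_1 F343434 (iv6 D184665) D184664
theorem F343436 : act 5 n161632 = n184664 := d12_5 F343434 (iv5 D128121) F302136 (iv5 F116529) D161632
theorem F343437 : act 0 n154284 = n128174 := d21_4 F273299 (iv1 F331994) F311889 (iv6 F242385) F206310 (iv5 D60258) (iv1 F190372) D128121 (iv6 F343434) (iv1 F331995)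
theorem F343438 : act 3 n184664 = n161636 := d6_1 F343436 (iv5 D161636) (iv3 F255641)
theorem F343439 : act 4 n130388 = n161632 := d9_15 F343436 (iv4 D184664) (iv5 D88054) (iv4 F304412) (iv5 F205224) F309698 D130383 (iv4 F334230) (iv5 F340221) F340227 (iv5 D88059) (iv4 F304417) F191374 F308258 D130388
theorem F343440 : act 0 n184301 = n161632 := d17_0 F343436 (iv1 F331995) F273299 F128501 (iv5 F312593) F300779 (iv5 F314802) (iv0 F317080) F332029
theorem E99360 : n184354 = n153919 := ((c21_3 F261707 F239788 (iv5 F241912) (iv6 D184354) (iv1 D87925) (iv6 F134901) D184301 F343440 F343436 F343434 (iv1 F261706))).symm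
theorem F343441 : act 4 n153919 = n88067 := (sb E99360 F286287)
theorem F343442 : act 6 n153919 = n87925 := (sb E99360 (iv6 D184354))
theorem F343443 : act 6 n93098 = n128176 := d3_2 F343442 (iv2 F294652) (iv2 F241915)
theorem F343444 : act 6 n184353 = n167786 := d7_2 F343442 D184353 F264157
theorem F343445 : act 2 n174564 = n184353 := d3_3 F343444 (iv2 F301374) (iv6 F273427)
theorem F343446 : act 5 n173303 = n184353 := d12_5 F343444 F264158 F300500 F127810 D173303
theorem E99361 : n184353 = n136715 := ((c21_5 (iv5 F219862) (iv1 D136713) (iv5 D64255) D64256 D136715 F343444 F264158 F300497 (iv5 F300736) F327825 (iv1 F100476))).symm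
theorem F343447 : act 2 n136715 = n174564 := (sb E99361 (iv2 F343445))
theorem F343448 : act 3 n136715 = n87925 := (sb E99361 (iv3 D184353))
theorem F343449 : act 5 n136715 = n173303 := (sb E99361 (iv5 F343446))
theorem F343450 : act 6 n136715 = n167786 := (sb E99361 F343444)
theorem F343451 : act 3 n173303 = n89924 := d6_1 F343449 F292274 (iv3 F343448)
theorem F343452 : act 0 n173301 = n107354 := d21_4 F59280 (iv1 F59013) D82937 D173301 (iv6 F338739) (iv5 D136717) D136715 F343449 (iv6 D173303) (iv1 F127807)
theorem F343453 : act 4 n107083 = n173301 := d18_1 (iv1 F227076) F343452 (iv4 D107354) (iv5 D49594) D49593 F165394 F165389 F181497 D111061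
theorem E99362 : n174549 = n145474 := (c1_3 F343453 F271706 (iv4 F273418) F228522)
theorem E99363 : n136758 = n83418 := (((iv4 F228524)).symm.trans (sb E99362 F273418))
theorem F343454 : act 6 n145474 = n83417 := (sb E99362 (iv6 D174549))
theorem E99364 : n174550 = n145329 := ((D174550).symm.trans (sb E99363 F228527))
theorem E99365 : n174551 = n145333 := ((D174551).symm.trans (sb E99363 (iv0 F228525)))
theorem E99366 : n128263 = n64289 := (((iv3 F305566)).symm.trans (sb E99363 (iv3 D136758)))
theorem F343455 : act 4 n83418 = n145474 := (sb E99363 F228524)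
theorem F343456 : act 1 n145329 = n83418 := (sb E99364 (iv0 D174550))
theorem F343457 : act 0 n145333 = n83418 := (sb E99365 (iv1 D174551))
theorem F343458 : act 3 n64289 = n83418 := (sb E99366 F305566)
theorem E99367 : n136761 = n60290 := ((D136761).symm.trans (sb E99366 (iv6 D128263)))
theorem F343459 : act 6 n60290 = n64289 := (sb E99367 (iv6 D136761))
theorem F343460 : act 6 n173300 = n107083 := d10_0 F343453 (iv6 D173301) D173300
theorem F343461 : act 0 n107338 = n173301 := d20_1 D107338 (iv4 F343453) (iv3 D107083) (iv1 D49465) (iv3 D24144) (iv4 D11339) D11337 D24140 D49456 F180531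
theorem F343462 : act 6 n174473 = n107338 := d21_3 (iv5 F308348) F308345 F273356 F343461 (iv6 D173301) (iv5 D82937) (iv1 D38160) D38161 (iv6 F127786) D173291
theorem F343463 : act 1 n107338 = n174552 := d15_1 (iv0 F343461) (iv7 D174552) (iv2 F271706)
theorem F343464 : act 7 n107338 = n145329 := d15_2 (iv0 F343452) (iv0 F343461) (iv2 F336135)
theorem F343465 : act 2 n145333 = n107338 := d4_3 F343464 (iv2 F336135) (iv7 F336111)
theorem F343466 : act 1 n174552 = n107354 := d15_1 F343463 (iv7 F336111) F343465
theorem F343467 : act 4 n107339 = n174473 := d10_3 F343462 (iv4 D107338) D107339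
theorem F343468 : act 0 n107158 = n107339 := d18_2 F312796 (iv4 F331954) F343467 (iv5 F273356) F271109 F156728 F308329 F311765 D101656
theorem F343469 : act 1 n174981 = n107339 := d18_6 (iv1 D38415) F29521 D22614 F155084 D83571 D174981 F343467 F273355 (iv5 D83395)
theorem F343470 : act 3 n174473 = n154126 := d20_9 F242395 F304419 D88063 F329678 F100410 (iv3 F331943) (iv4 F331954) F343468 F343467 (iv1 F242397)
theorem F343471 : act 3 n149941 = n172849 := d6_3 F273356 F343470 F242195
theorem F343472 : act 0 n174474 = n162045 := d20_1 D174474 (iv4 D162045) F117654 F323715 (iv3 F324108) (iv4 D72982) D72980 D154126 (iv3 F343470) (iv1 D174473)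
theorem E99368 : n162023 = n89047 := (c18_7 (iv1 D174473) D174474 F343472 (iv4 D162045) (iv5 D77845) (iv4 F117649) D162023 F184763 D172849 F273356)
theorem F343473 : act 0 n89047 = n77831 := (sb E99368 (iv1 D162023))
theorem F343474 : act 1 n89047 = n123270 := (sb E99368 F256038)
theorem F343475 : act 6 n98969 = n123270 := d21_9 F136722 (iv1 D46738) (iv5 D22406) (iv6 D10659) D10657 D22401 D46719 D100056 (iv5 F153988) (iv1 F343474)
theorem F343476 : act 2 n123272 = n98969 := d3_3 F343475 (iv2 D123270) D123272
theorem F343477 : act 3 n154090 = n98969 := d7_3 F343475 F197554 D154090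
theorem F343478 : act 0 n89046 = n123447 := d21_7 D46719 D100056 (iv5 F153988) F343475 (iv1 F343474) (iv6 D89047) D89046 F304693 (iv6 D100055) (iv1 D46718)
theorem F343479 : act 1 n89051 = n123447 := d15_0 (iv0 F343478) F268272 (iv2 F268259)
theorem E99369 : n179816 = n154090 := (c0_6 F343477 (iv2 F343476) F197556 F301700 D85879 D179816)
theorem F343480 : act 2 n154090 = n85879 := (sb E99369 (iv2 D179816))
theorem F343481 : act 0 n98898 = n154090 := d20_4 (iv4 F308438) (iv1 F190868) (iv4 F307010) F281932 F343477 (iv4 F249721) (iv1 F249725) F156563 F156464 (iv1 D101332)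
theorem F343482 : act 1 n98898 = n124160 := d15_1 (iv0 F343481) F304440 (iv2 F343480)
theorem F343483 : act 5 n98363 = n123272 := d2_0 F343476 F153988 F275100
theorem F343484 : act 3 n120382 = n98363 := d6_3 F343483 F197556 (iv5 F191767)
theorem F343485 : act 0 n162025 = n99311 := d17_2 F343473 D162025 (iv5 D99311) F155511 D83395 F273360 (iv5 D101826) F271113 (iv4 F184763)
theorem E99370 : n100954 = n100133 := (c18_6 F343473 F117649 (iv1 F198061) (iv4 F307519) F153516 D100954 (iv0 D100133) (iv4 D46739) D46738 (iv5 F136722))
theorem F343486 : act 2 n100133 = n140371 := (sb E99370 (iv2 F331768))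
theorem F343487 : act 4 n100133 = n47046 := (sb E99370 (iv4 D100954))
theorem F343488 : act 7 n89047 = n123199 := d15_2 F311768 (iv0 F343473) (iv2 F306532)
theorem F343489 : act 5 n123199 = n99313 := d13_1 F343488 F268284 (iv5 F136722)
theorem F343490 : act 4 n140370 = n99448 := d18_3 (iv1 F152916) (iv4 F329204) D140370 (iv5 F153176) (iv4 F184684) (iv0 F306604) F121528 (iv0 F318849) F343489
theorem F343491 : act 2 n100134 = n140370 := d1_3 F343490 F156764 (iv4 F155571)
theorem F343492 : act 7 n100133 = n140370 := d11_0 F343490 F156765 (iv4 F343487)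
theorem F343493 : act 1 n99314 = n140370 := d18_6 (iv1 F73444) (iv4 F155525) (iv1 D82965) F59045 D46435 D99314 F343490 F153175 F74293
theorem F343494 : act 1 n140365 = n100133 := d15_1 F331775 F343492 (iv2 F343491)
theorem F343495 : act 1 n162025 = n99306 := d15_1 (iv0 F343485) F275011 (iv2 F275003)
theorem F343496 : act 3 n101827 = n119855 := d0_2 F343471 (iv2 F271112) F305106 D161356 F331989
theorem F343497 : act 3 n119286 = n161508 := d20_9 (iv4 F128085) (iv1 F317081) D149941 F343471 (iv1 D172849) (iv3 F333711) F333712 (iv1 F314104) F338961 (iv1 D161508)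
theorem F343498 : act 0 n149941 = n172399 := d20_4 (iv4 F308329) (iv1 F156728) (iv4 F271109) (iv3 F343471) F270612 (iv4 F136506) (iv1 F136509) (iv4 F156571) D47276 (iv1 F311765)
theorem F343499 : act 0 n130383 = n128150 := d20_1 F334230 F206280 (iv3 D73655) (iv1 F190065) (iv3 F128586) (iv4 F308329) (iv1 F156728) (iv4 F271109) (iv3 F343471) F343498
theorem F343500 : act 1 n130388 = n128150 := d15_0 (iv0 F343499) (iv7 F340242) F340238
theorem F343501 : act 0 n141060 = n154140 := d18_0 (iv4 D154140) F306442 D184664 (iv5 F343436) (iv4 F343439) F343500 F206280 (iv0 F325792) (iv5 F224068)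
theorem F343502 : act 1 n149941 = n161632 := d18_6 F199418 F94794 (iv1 F190001) D32714 D70519 D149941 (iv4 F343439) F343500 (iv5 F331982)
theorem F343503 : act 6 n130388 = n128092 := d21_5 (iv5 F336539) D160946 F341916 (iv6 F334223) (iv1 F343500) F302486 F191047 D69195 (iv6 F336538) (iv1 D133045)
theorem E99371 : n184270 = n124689 := ((c17_10 (iv1 D184270) (iv5 D87893) (iv1 F75734) (iv5 F306635) D154126 F242195 F343502 F343436 F332010 (iv4 F332003))).symm
theorem F343504 : act 0 n124689 = n87893 := (sb E99371 (iv1 D184270))
theorem F343505 : act 1 n124689 = n87898 := (sb E99371 F286219)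
theorem F343506 : act 0 n175198 = n150096 := d20_10 (iv4 D150096) F107165 (iv4 F307994) (iv3 F255641) (iv1 F343502) F343471 F271109 F156733 (iv4 F184684) (iv3 F274243)
theorem F343507 : act 0 n174414 = n166899 := d21_4 (iv5 F242195) (iv1 F242397) F332024 D174414 (iv6 D166899) (iv5 F122978) (iv1 F72392) (iv5 F116529) D161632 (iv1 F343502)
theorem E99372 : n174414 = n100493 := ((c20_10 F298857 F301465 F123621 (iv3 D77442) (iv1 F57371) (iv3 F123109) F123110 (iv1 F73370) D46887 D100493 F343507)).symm
theorem E99373 : n166899 = n131465 := (((F316727).symm.trans (sb E99372 F343507))).symm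
theorem F343508 : act 6 n100493 = n83369 := (sb E99372 (iv6 D174414))
theorem F343509 : act 2 n131465 = n173867 := (sb E99373 (iv2 F272514))
theorem F343510 : act 3 n131465 = n80123 := (sb E99373 F262759)
theorem F343511 : act 4 n131465 = n82744 := (sb E99373 F298857)
theorem F343512 : act 5 n131465 = n164151 := (sb E99373 (iv5 F323613))
theorem F343513 : act 6 n131465 = n80120 := (sb E99373 (iv6 D166899))
theorem F343514 : act 6 n150253 = n164151 := d12_4 F343513 (iv5 F122978) D98138 F304708 (iv5 F343512)
theorem F343515 : act 5 n131468 = n153215 := d21_6 (iv5 D45845) D45842 F122978 (iv6 F343513) (iv1 D131465) D131468 (iv1 D153215) F308263 F306315 F300715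
theorem F343516 : act 2 n174035 = n131468 := d2_3 F343515 (iv2 F343395) F272767
theorem F343517 : act 3 n153215 = n131474 := d6_1 F343515 (iv5 D131474) (iv3 F210733)
theorem F343518 : act 4 n123699 = n153215 := d20_2 F205819 (iv1 F198164) F343517 F337066 F116548 (iv4 F318676) (iv1 D75941) (iv4 F113835) (iv3 F250352) F339317
theorem E99374 : n115009 = n71435 := (c20_8 F343518 (iv1 D153215) (iv4 F108990) (iv3 F240920) F240922 (iv3 F179094) (iv4 D115012) D115009 (iv4 F238389) F238388 (iv1 F198164))
theorem E99375 : n118744 = n114899 := (((iv1 F186800)).symm.trans (sb E99374 (iv1 F179088)))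
theorem E99376 : n118743 = n53069 := ((F186803).symm.trans (sb E99374 (iv0 D115009)))
theorem E99377 : n115010 = n54671 := (((iv1 F179092)).symm.trans (sb E99375 (iv1 D118744)))
theorem F343519 : act 1 n114899 = n71435 := (sb E99375 F186800)
theorem F343520 : act 0 n53069 = n71435 := (sb E99376 (iv1 F186803))
theorem F343521 : act 0 n54671 = n53069 := (sb E99377 (iv1 D115010))
theorem F343522 : act 1 n54671 = n114899 := (sb E99377 F179092)
theorem E99378 : n103740 = n95792 := (c20_2 (iv4 D103743) D103740 (iv4 F163338) F163337 F343521 (iv3 D53069) (iv4 F177643) (iv1 F37465) (iv4 F55107) (iv3 F114329) (iv1 F234603))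
theorem F343523 : act 1 n95792 = n48038 := (sb E99378 (iv0 D103740))
theorem E99379 : n159670 = n159646 := ((c21_7 (iv5 D15928) (iv1 F21014) D26442 D54671 F343521 D115014 (iv5 F251498) (iv1 D159670) (iv5 D76389) (iv6 D34902) (iv1 F27843))).symm
theorem F343524 : act 0 n159646 = n76389 := (sb E99379 (iv1 D159670))
theorem F343525 : act 1 n159646 = n144869 := (sb E99379 F251529)
theorem F343526 : act 2 n133534 = n159646 := d15_3 F343525 (iv0 F328831) (iv7 F214810)
theorem E99380 : n128768 = n113608 := ((c20_11 (iv4 D128768) (iv1 F206823) F336929 (iv3 F227811) (iv1 F343525) (iv3 D159646) (iv4 F251294) (iv1 D159554) (iv4 D76334) (iv3 F82801) D113608)).symm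
theorem F343527 : act 2 n113608 = n113711 := (sb E99380 (iv2 F332630))
theorem F343528 : act 4 n113608 = n60562 := (sb E99380 (iv4 D128768))
theorem F343529 : act 3 n145462 = n128673 := d20_3 (iv4 F343528) (iv1 F176941) (iv4 F228500) (iv1 D128673) (iv3 D60517) (iv4 D28741) (iv1 F22956) D13716 D28762 D60562
theorem F343530 : act 7 n128673 = n145459 := d8_2 D145462 F343529 F228499
theorem F343531 : act 2 n145459 = n128672 := d15_3 (iv0 D128672) D128673 F343530
theorem F343532 : act 6 n128672 = n145457 := d3_2 D145459 F343531 F228490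
theorem F343533 : act 5 n177381 = n128672 := d12_5 F343532 (iv5 D145457) (iv6 F325290) D84509 D177381
theorem F343534 : act 6 n105235 = n128675 := d21_5 F276730 (iv1 D84515) D84517 (iv6 F331156) (iv1 F161179) (iv5 D128675) D128672 (iv5 F343533) (iv6 D177381) (iv1 F276729)
theorem F343535 : act 2 n128675 = n113419 := d3_1 F343534 (iv6 D113419) (iv2 F204628)
theorem F343536 : act 3 n128677 = n105235 := d7_3 F343534 F206973 D128677
theorem F343537 : act 3 n111503 = n128937 := d0_4 F343536 F204628 D113416 (iv2 F204651) F207162
theorem F343538 : act 3 n108923 = n128691 := d5_5 F206986 F343536 (iv4 F168937) (iv3 D108922) D108923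
theorem F343539 : act 7 n113421 = n128677 := d8_0 F343536 F204630 D113421
theorem F343540 : act 0 n106209 = n128691 := d20_1 D106209 F206986 F343536 (iv1 D105235) (iv3 D48659) F36919 (iv1 D11218) D11219 D23944 D49080
theorem F343541 : act 7 n125714 = n128935 := d15_2 (iv0 F343540) (iv0 F202213) F207159
theorem F343542 : act 3 n128935 = n111653 := d8_1 F343541 F204644 D125714
theorem F343543 : act 6 n113421 = n125714 := d14_5 F343541 (iv6 D128935) (iv7 F95241) D128677 (iv7 F343539)
theorem E99381 : n125717 = n52361 := (c7_3 F343543 (iv3 D125714) D125717 D113421)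
theorem E99382 : n113424 = n58866 := ((D113424).symm.trans (sb E99381 (iv6 D125717)))
theorem F343544 : act 6 n58866 = n52361 := (sb E99382 (iv6 D113424))
theorem F343545 : act 6 n105234 = n111652 := d3_2 F343544 (iv2 F204617) F204638
theorem F343546 : act 6 n113422 = n125715 := d10_2 F343544 D113422 (iv4 D125715)
theorem F343547 : act 6 n128934 = n111653 := d14_5 F204644 F343544 (iv7 F204630) F343534 (iv7 F207158)
theorem F343548 : act 2 n125712 = n128934 := d3_3 F343547 F204643 D125712
theorem F343549 : act 3 n128994 = n125712 := d0_0 F343548 (iv3 D128934) (iv2 F95240) (iv3 F206983) F208788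
theorem F343550 : act 7 n113419 = n125712 := d4_0 F343548 F207158 F343535
theorem F343551 : act 4 n125712 = n110936 := d16_0 (iv5 D110936) (iv4 F82341) (iv5 F295479) F295478 (iv5 D131799) F96402 D128675 (iv7 F207158) (iv2 F343548)
theorem F343552 : act 6 n110936 = n125710 := d10_2 D125712 F343551 (iv4 D125710)
theorem F343553 : act 4 n107009 = n113419 := d11_3 F343550 F343551 F171972
theorem F343554 : act 0 n113555 = n125712 := d20_7 F103642 F103625 (iv4 F92845) F330483 (iv1 F81288) D111764 (iv4 F176708) F343551 F171971 (iv1 F103640)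
theorem E99383 : n130301 = n59204 := (c20_10 F45432 D28117 (iv4 F161391) D113555 F343554 (iv3 F343549) F208787 (iv1 F208839) (iv4 D130303) (iv3 F208836) (iv1 D59204))
theorem E99384 : n128705 = n58791 := (((F93406).symm.trans (sb E99383 (iv0 F246709)))).symm
theorem E99385 : n126306 = n61152 := ((D126306).symm.trans (sb E99383 F208836))
theorem E99386 : n126307 = n61151 := ((D126307).symm.trans (sb E99383 (iv5 D130301)))
theorem E99387 : n125569 = n60530 := (((iv3 F201980)).symm.trans (sb E99384 F206992))
theorem E99388 : n125573 = n60529 := ((D125573).symm.trans (sb E99384 (iv5 D128705)))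
theorem F343555 : act 3 n61152 = n59204 := (sb E99385 (iv3 D126306))
theorem E99390 : n130303 = n109232 := ((D130303).symm.trans (sb E99385 F203081))
theorem E99391 : n130198 = n113564 := (((iv7 F208716)).symm.trans (sb E99385 F203082))
theorem E99392 : n113569 = n106812 := ((((iv2 F218489)).symm.trans (sb E99386 F203083))).symm
theorem F343556 : act 5 n61151 = n59204 := (sb E99386 (iv5 D126307))
theorem E99393 : n113565 = n106811 := ((((iv7 F208387)).symm.trans (sb E99386 F203084))).symm
theorem F343557 : act 3 n60530 = n58791 := (sb E99387 F201980)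
theorem E99394 : n106224 = n60593 := ((((iv4 F95217)).symm.trans (sb E99387 F201981))).symm
theorem E99395 : n128707 = n58789 := ((D128707).symm.trans (sb E99387 (iv6 D125569)))
theorem E99396 : n128702 = n126310 := ((D128702).symm.trans (sb E99388 (iv1 F203090)))
theorem E99397 : n128703 = n126309 := ((D128703).symm.trans (sb E99388 F203089))
theorem E99398 : n128704 = n58962 := ((D128704).symm.trans (sb E99388 F201989))
theorem F343558 : act 5 n60529 = n58791 := (sb E99388 (iv5 D125573))
theorem E99399 : n128706 = n125919 := ((D128706).symm.trans (sb E99388 (iv6 F202404)))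
theorem E99400 : n106971 = n106228 := (((iv7 F164887)).symm.trans (sb E99388 F201990))
theorem F343559 : act 0 n109232 = n156787 := (sb E99390 (iv1 F246708))
theorem F343560 : act 1 n109232 = n65259 := (sb E99390 F208839)
theorem F343561 : act 2 n109232 = n156798 := (sb E99390 F246737)
theorem F343562 : act 4 n109232 = n61152 := (sb E99390 (iv4 D130303))
theorem F343563 : act 5 n109232 = n74718 := (sb E99390 F208838)
theorem E99401 : n156797 = n111770 := ((((iv7 F173455)).symm.trans (sb E99390 F246732))).symm
theorem F343564 : act 2 n113564 = n61132 := (sb E99391 F208715)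
theorem F343565 : act 5 n113564 = n61119 := (sb E99391 (iv5 D130198))
theorem F343566 : act 7 n113564 = n61152 := (sb E99391 F208716)
theorem F343567 : act 5 n106812 = n52417 := (sb E99392 (iv5 D113569))
theorem F343568 : act 7 n106812 = n126304 := (sb E99392 (iv7 F203076))
theorem F343569 : act 2 n106811 = n126304 := (sb E99393 (iv2 F203075))
theorem F343570 : act 5 n106811 = n52412 := (sb E99393 (iv5 D113565))
theorem F343571 : act 3 n60593 = n49086 := (sb E99394 F163230)
theorem E99402 : n128849 = n49084 := ((D128849).symm.trans (sb E99394 (iv6 D106224)))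
theorem E99403 : n128847 = n125551 := (((F201964).symm.trans (sb E99395 (iv2 F207106)))).symm
theorem F343572 : act 6 n58789 = n60530 := (sb E99395 (iv6 D128707))
theorem F343573 : act 1 n126310 = n60529 := (sb E99396 (iv0 D128702))
theorem F343574 : act 3 n126310 = n132281 := (sb E99396 F212065)
theorem F343575 : act 0 n126309 = n60529 := (sb E99397 (iv1 D128703))
theorem F343576 : act 2 n58962 = n60529 := (sb E99398 (iv2 D128704))
theorem E99404 : n129126 = n125937 := (((D125937).symm.trans (sb E99398 F207367))).symm
theorem F343577 : act 3 n125919 = n60531 := (sb E99399 F206993)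
theorem F343578 : act 4 n125919 = n132392 := (sb E99399 (iv4 F212434))
theorem F343579 : act 6 n125919 = n60529 := (sb E99399 (iv6 D128706))
theorem F343580 : act 7 n125919 = n131897 := (sb E99399 (iv7 F211326))
theorem F343581 : act 3 n106228 = n49421 := (sb E99400 (iv3 D106971))
theorem F343582 : act 4 n106228 = n60705 := (sb E99400 F164886)
theorem F343583 : act 7 n106228 = n60529 := (sb E99400 F164887)
theorem F343584 : act 0 n111770 = n139010 := (sb E99401 (iv1 F246729))
theorem F343585 : act 1 n111770 = n74572 := (sb E99401 (iv0 D156797))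
theorem F343586 : act 2 n111770 = n130238 := (sb E99401 (iv2 F246731))
theorem F343587 : act 5 n111770 = n108194 := (sb E99401 F246730)
theorem E99405 : n128698 = n106206 := (((F163211).symm.trans (sb E99402 F207110))).symm
theorem F343588 : act 6 n49084 = n60593 := (sb E99402 (iv6 D128849))
theorem F343589 : act 6 n125551 = n60592 := (sb E99403 (iv6 D128847))
theorem F343590 : act 0 n125937 = n129124 := (sb E99404 (iv1 F207366))
theorem F343591 : act 1 n125937 = n129123 := (sb E99404 F207368)
theorem F343592 : act 2 n125937 = n62118 := (sb E99404 F207363)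
theorem F343593 : act 3 n125937 = n60706 := (sb E99404 F207364)
theorem F343594 : act 5 n125937 = n60705 := (sb E99404 (iv5 D129126))
theorem E99406 : n129125 = n126311 := ((((iv7 F203091)).symm.trans (sb E99404 F207365))).symm
theorem F343595 : act 6 n106206 = n60527 := (sb E99405 (iv6 D128698))
theorem F343596 : act 0 n126311 = n132391 := (sb E99406 (iv1 F212432))
theorem F343597 : act 1 n126311 = n132390 := (sb E99406 F212431)
theorem F343598 : act 2 n126311 = n60705 := (sb E99406 (iv2 D129125))
theorem F343599 : act 3 n126311 = n60905 := (sb E99406 F207361)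
theorem F343600 : act 5 n126311 = n62118 := (sb E99406 (iv5 F207362))
theorem F343601 : act 1 n113555 = n128675 := d15_1 (iv0 F343554) (iv7 F207158) (iv2 F343548)
theorem F343602 : act 1 n126304 = n106813 := d17_8 (iv1 F207822) (iv5 F212430) (iv1 F343597) F343600 F96829 F343558 F93405 D126304 F164613
theorem F343603 : act 5 n132391 = n129639 := d17_7 (iv1 F164619) F343556 (iv1 D59204) D59205 D126311 F343600 D132391 (iv0 D129639) (iv4 F164618)
theorem F343604 : act 1 n106815 = n126304 := d15_0 F343602 (iv7 F218485) F218483
theorem F343605 : act 5 n106813 = n112664 := d17_7 (iv1 F173740) F173737 F161229 (iv5 D105272) (iv4 F161241) D126304 F343602 (iv0 F176714) (iv4 D113567)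
theorem F343606 : act 4 n126304 = n126593 := d20_8 (iv4 F216254) (iv1 F216257) (iv4 F171536) F96842 (iv1 F48324) (iv3 F99070) (iv4 F164613) (iv1 F343602) (iv3 D126593) D126591
theorem F343607 : act 2 n112664 = n106814 := d2_1 F343605 (iv5 D106814) D106813
theorem F343608 : act 3 n112664 = n135690 := d6_1 F343605 (iv5 D135690) (iv3 F164612)
theorem F343609 : act 6 n112663 = n106844 := d12_4 (iv6 F164614) F343605 (iv6 D112664) D112663 (iv5 D106844)
theorem F343610 : act 4 n112662 = n106814 := d16_0 (iv5 D106814) F78024 F99071 (iv4 F164613) F343605 F175332 F82112 (iv7 F82113) (iv2 F175324)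
theorem F343611 : act 5 n113276 = n106815 := d9_8 (iv5 F343605) F164613 (iv5 F99071) (iv4 F78024) D106814 (iv4 F343610) F175326 (iv4 F176474) F164618 (iv5 F99344) (iv4 F218484) (iv5 F330396) F171132 (iv5 F82112) (iv4 F175332)
theorem F343612 : act 7 n106814 = n113276 := d16_8 F171132 (iv5 F82112) (iv4 F175332) (iv5 F343605) F164613 (iv5 F99071) (iv4 F78024) D106814 F176473
theorem F343613 : act 3 n113276 = n106816 := d8_1 F343612 F164624 (iv3 F164616)
theorem F343614 : act 6 n108700 = n106814 := d14_5 F343612 (iv6 D113276) F164340 (iv6 F93004) (iv7 F168637)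
theorem F343615 : act 3 n106817 = n108700 := d7_3 F343614 F164616 D106817
theorem E99407 : n113407 = n106848 := ((c12_5 F343614 (iv5 D106814) F78025 D49367 D106848 F176596)).symm
theorem F343616 : act 0 n106848 = n126240 := (sb E99407 (iv1 F203021))
theorem F343617 : act 1 n106848 = n52348 := (sb E99407 (iv0 D113407))
theorem F343618 : act 2 n106848 = n112663 := (sb E99407 (iv2 F176597))
theorem F343619 : act 4 n106848 = n106690 := (sb E99407 F332836)
theorem F343620 : act 5 n106848 = n108700 := (sb E99407 F176596)
theorem F343621 : act 7 n106848 = n106625 := (sb E99407 (iv7 F328934))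
theorem F343622 : act 3 n106625 = n106852 := d8_1 F343621 (iv7 D106852) (iv3 F164647)
theorem F343623 : act 5 n113273 = n106567 := d16_3 F328935 F163739 (iv4 F176470) (iv4 D106567) (iv5 F77782) D58828 (iv5 F328933) (iv7 F343621) F343618
theorem F343624 : act 4 n106662 = n113720 := d17_4 F288399 F343623 (iv1 F164040) D106662 F176952 F164432 F163758 F94256 D113687
theorem F343625 : act 6 n113718 = n106662 := d10_0 F343624 (iv6 D113720) D113718
theorem F343626 : act 4 n106700 = n113409 := d16_4 (iv4 F77883) D106662 F343624 F176952 F176598 F82730 (iv5 F77683) (iv7 D49191) (iv2 F37626)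
theorem F343627 : act 7 n106700 = n113408 := d16_8 F332825 (iv5 D59180) F45417 (iv5 F37628) (iv4 F77883) D106662 F343624 F176952 (iv2 F332824)
theorem F343628 : act 2 n113399 = n113718 := d3_3 F343625 F164301 (iv6 F341620)
theorem F343629 : act 5 n106648 = n113718 := d12_5 F343625 (iv5 D106662) (iv6 D49282) (iv5 F77863) D106648
theorem E99408 : n126235 = n113718 := (c21_5 (iv5 F37378) (iv1 F37379) D28107 D59177 D126235 F343625 (iv5 D106662) (iv1 F164047) (iv5 F328928) (iv6 D59197) (iv1 F45423))
theorem F343630 : act 0 n113718 = n113402 := (sb E99408 (iv1 F203014))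
theorem F343631 : act 1 n113718 = n59177 := (sb E99408 (iv0 D126235))
theorem F343632 : act 7 n126236 = n113399 := d15_2 F343631 D126236 F343628
theorem F343633 : act 5 n132131 = n126236 := d13_3 F343632 F341619 D132131
theorem F343634 : act 2 n126236 = n113400 := d15_3 F203015 F203016 (iv7 F343632)
theorem F343635 : act 7 n113400 = n113718 := d4_2 (iv7 F343632) F343634 (iv2 F343628)
theorem F343636 : act 4 n113721 = n113400 := d11_3 F343635 (iv4 D113718) D113721
theorem E99409 : n126236 = n113723 := (c1_2 F343636 (iv2 F343634) (iv4 D113723) (iv2 F176954))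
theorem F343637 : act 0 n113723 = n59177 := (sb E99409 (iv1 D126236))
theorem F343638 : act 1 n113723 = n113402 := (sb E99409 F203008)
theorem F343639 : act 2 n113723 = n113400 := (sb E99409 F343634)
theorem F343640 : act 5 n113723 = n132131 := (sb E99409 (iv5 F343633))
theorem F343641 : act 7 n113723 = n113399 := (sb E99409 F343632)
theorem E99410 : n113721 = n105310 := ((c20_11 F343636 (iv1 D113400) F82729 (iv3 F50290) F323478 F99133 (iv4 F93710) (iv1 F96813) F96811 (iv3 F324646) (iv1 F161479))).symm
theorem F343642 : act 2 n105310 = n52507 := (sb E99410 F176954)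
theorem F343643 : act 4 n105310 = n113400 := (sb E99410 F343636)
theorem F343644 : act 7 n105310 = n52506 := (sb E99410 (iv7 D113721))
theorem E99411 : n113716 = n105309 := (c15_4 (iv0 D105309) D105310 F343644 D113716)
theorem F343645 : act 2 n105309 = n52506 := (sb E99411 (iv2 D113716))
theorem F343646 : act 7 n105309 = n52507 := (sb E99411 (iv7 F176951))
theorem F343647 : act 4 n113399 = n105309 := d11_3 F343646 D113723 F343641
theorem F343648 : act 5 n159339 = n136330 := d16_5 D113718 (iv5 F343629) F164270 (iv5 F114191) (iv4 F250837) (iv4 F333539) (iv5 D113724) (iv7 F343646) F343645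
theorem F343649 : act 3 n136332 = n159339 := d6_3 F343648 (iv3 D136330) D136332
theorem F343650 : act 6 n159338 = n136332 := d7_0 F343649 (iv6 D159339) D159338
theorem F343651 : act 3 n105309 = n130923 := d20_3 (iv4 F82729) D113399 F343647 (iv1 D130923) (iv3 D61426) F46968 (iv1 D29318) D29319 F324332 (iv1 D52525)
theorem F343652 : act 7 n130923 = n113722 := d8_2 (iv7 F343646) F343651 (iv3 D113722)
theorem F343653 : act 2 n113722 = n130922 := d15_3 (iv0 D130922) D130923 F343652
theorem F343654 : act 4 n106685 = n131848 := d18_7 (iv1 F163811) (iv4 F323238) (iv1 F161484) D113723 F343640 F211657 F164393 (iv0 D131848) (iv5 F332813)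
theorem E99412 : n113727 = n113722 := ((c20_4 (iv4 F176594) (iv1 F343638) (iv4 D113723) D113722 (iv1 D113727) F326593 F47385 (iv1 F46492) D49236 (iv3 F333525) (iv1 F161493))).symm
theorem F343655 : act 0 n113722 = n52508 := (sb E99412 (iv1 D113727))
theorem F343656 : act 1 n113722 = n130924 := (sb E99412 F325758)
theorem F343657 : act 7 n113726 = n130922 := d15_2 F343656 (iv0 F325759) (iv2 F343653)
theorem F343658 : act 2 n130923 = n113726 := d4_3 F343657 (iv2 F343653) (iv7 F343652)
theorem F343659 : act 4 n131849 = n106686 := d18_1 (iv1 F342924) (iv1 D106686) (iv4 F164270) F343629 (iv4 D113718) (iv0 D52506) (iv4 F82743) (iv0 F327329) D61886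
theorem F343660 : act 3 n106648 = n106531 := d20_3 F343659 (iv1 D106686) (iv4 F164270) (iv1 D106531) (iv3 D49229) (iv4 D24026) D24024 (iv4 F46975) (iv3 F96470) (iv1 F342924)
theorem F343661 : act 6 n106531 = n106647 := d7_2 D106648 F343660 (iv3 D106647)
theorem E99413 : n132050 = n97371 := ((c0_4 F343622 F164650 F341804 F150152 F211534 (iv2 F164238))).symm
theorem F343662 : act 3 n97371 = n61964 := (sb E99413 F211534)
theorem F343663 : act 6 n97371 = n61962 := (sb E99413 (iv6 D132050))
theorem F343664 : act 3 n107576 = n157361 := d5_3 (iv4 F164239) F343622 (iv4 F165963) F247679 F112314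
theorem F343665 : act 5 n106852 = n125644 := d6_2 (iv5 F328933) F343622 (iv3 D125644)
theorem F343666 : act 2 n125644 = n135697 := d2_1 F343665 F218192 (iv2 F164650)
theorem F343667 : act 5 n113598 = n106624 := d12_3 F319143 F343665 F202093 (iv6 D106624) D106623
theorem F343668 : act 7 n125644 = n106817 := d13_2 D106852 F343665 F164626
theorem F343669 : act 5 n126510 = n148768 := d16_5 F165963 F343665 F202092 F343667 (iv4 F203419) F233570 F106098 (iv7 F171494) F171492
theorem E99414 : n157774 = n129071 := (c18_7 D61992 (iv4 F341789) (iv1 F171498) F165963 F343665 F202092 F327405 (iv4 D129071) (iv0 D60677) (iv5 F47015))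
theorem F343670 : act 0 n129071 = n113598 := (sb E99414 (iv1 F327405))
theorem F343671 : act 1 n129071 = n75173 := (sb E99414 (iv0 D157774))
theorem F343672 : act 0 n129070 = n186313 := d20_10 (iv4 D186313) (iv1 D88755) (iv4 F133001) (iv3 D86719) (iv1 F112718) (iv3 F330369) (iv4 F330371) (iv1 F343671) (iv4 D129071) D129070
theorem F343673 : act 3 n129079 = n169908 := d20_3 (iv4 D129071) (iv1 F206947) (iv4 F207311) (iv1 D169908) (iv3 D81502) (iv4 D37215) F29069 D34425 D75173 (iv1 F343671)
theorem F343674 : act 6 n169908 = n129038 := d7_2 D129079 F343673 F207283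
theorem F343675 : act 7 n169908 = n129039 := d8_2 (iv7 F207312) F343673 F207284
theorem F343676 : act 4 n94314 = n132142 := d19_18 (iv1 F164281) (iv5 F206944) (iv4 F207311) F343673 (iv1 D169908) (iv5 F294455) (iv4 F147848) (iv3 D96162) F327926 (iv5 F327930) F147816 (iv3 F157821) (iv1 F157823) (iv5 D89035) (iv4 F69421) F294679 F294538 D94314 (iv3 D132142)
theorem F343677 : act 7 n132142 = n131826 := d11_2 F157296 F343676 F211243
theorem F343678 : act 3 n131826 = n132146 := d8_1 F343677 (iv7 D132146) D132142
theorem F343679 : act 3 n163463 = n131953 := d0_4 F343678 F211664 D132147 F341798 F211426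
theorem F343680 : act 6 n132146 = n131824 := d7_2 D131826 F343678 F211239
theorem F343681 : act 2 n131824 = n132150 := d3_1 F343680 (iv6 D132150) (iv2 F211664)
theorem F343682 : act 5 n132150 = n131823 := d2_2 D131824 F343681 (iv2 D131823)
theorem F343683 : act 5 n107562 = n133389 := d21_0 (iv1 F214454) (iv5 F343682) (iv6 D132150) (iv1 D61993) (iv6 D29358) (iv5 D13964) D13961 D29346 (iv6 F324328) D107562
theorem E99415 : n163602 = n105254 := ((c6_3 (iv5 F257746) F343679 (iv5 F342869) (iv3 D163602))).symm
theorem F343684 : act 0 n105254 = n176847 := (sb E99415 F276226)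
theorem F343685 : act 3 n105254 = n78607 := (sb E99415 (iv3 D163602))
theorem F343686 : act 4 n105254 = n159306 := (sb E99415 F257865)
theorem F343687 : act 7 n105254 = n166599 := (sb E99415 (iv7 F262189))
theorem F343688 : act 6 n131952 = n163463 := d7_0 F343679 (iv6 D131953) D131952
theorem F343689 : act 0 n160999 = n94349 := d20_10 (iv4 D94349) (iv1 F177448) (iv4 F211427) (iv3 F343679) (iv1 D163463) F119739 F293339 F292277 (iv4 F116025) (iv3 F254500)
theorem F343690 : act 4 n94002 = n160999 := d18_1 F331421 F343689 (iv4 D94349) F292529 F64566 D86876 F293510 (iv0 D94033) D94036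
theorem F343691 : act 4 n94357 = n95563 := d16_6 F294583 D94002 F343690 (iv5 D160999) F116024 (iv5 F292455) (iv5 D95563) F205505 (iv2 F294582)
theorem F343692 : act 5 n131813 = n166564 := d16_7 F116024 (iv5 F292455) F343691 (iv5 D95563) F70188 D92425 (iv4 F211227) F262094 (iv2 D160998)
theorem F343693 : act 0 n94351 = n176726 := d20_4 (iv4 F67599) F292531 D44099 D94351 (iv3 F283196) (iv4 D181900) (iv1 F294513) (iv4 F343691) (iv3 D94357) (iv1 F292431)
theorem F343694 : act 1 n158059 = n176726 := d15_0 (iv0 F343693) F293605 (iv2 F249006)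
theorem E99416 : n174259 = n104815 := (c21_5 D176726 (iv1 F343694) (iv5 D158059) (iv6 F128369) D174259 (iv6 D104815) (iv5 F137912) (iv1 F147285) F326715 F127834 D84256)
theorem F343695 : act 0 n104815 = n83294 := (sb E99416 (iv1 F273055))
theorem F343696 : act 1 n104815 = n83292 := (sb E99416 (iv0 D174259))
theorem F343697 : act 7 n174260 = n104661 := d15_2 F343696 D174260 (iv2 F160650)
theorem E99417 : n160834 = n104815 := ((c19_1 (iv1 F343696) (iv5 D160834) F115935 (iv3 D35263) (iv1 F55001) F314098 F47340 (iv3 F47624) D62695 (iv5 F304075) F188906 F110267 F324782 (iv5 D64457) F48781 F24057 D30162 (iv5 F79975) (iv4 F169687) F326920)).symm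
theorem E99418 : n104661 = n83290 := ((F160650).symm.trans (sb E99417 F337356))
theorem F343698 : act 3 n104815 = n77183 := (sb E99417 F253994)
theorem F343699 : act 5 n104815 = n77182 := (sb E99417 (iv5 D160834))
theorem F343700 : act 7 n104815 = n83291 := (sb E99417 F337357)
theorem F343701 : act 2 n83290 = n104815 := (sb E99418 (iv2 F160650))
theorem E99419 : n174251 = n48396 := ((D174251).symm.trans (sb E99418 F160364))
theorem E99420 : n174253 = n48395 := ((D174253).symm.trans (sb E99418 (iv6 D104661)))
theorem E99421 : n174260 = n174254 := (((D174254).symm.trans (sb E99418 (iv7 F343697)))).symm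
theorem F343702 : act 4 n48396 = n83290 := (sb E99419 (iv4 D174251))
theorem F343703 : act 6 n48395 = n83290 := (sb E99420 (iv6 D174253))
theorem F343704 : act 0 n174254 = n83292 := (sb E99421 (iv1 D174260))
theorem F343705 : act 1 n174254 = n83294 := (sb E99421 F273056)
theorem E99422 : n160838 = n111624 := (c20_7 (iv4 D50616) (iv1 F79978) (iv4 F169687) F326920 (iv1 F343696) F343698 D160838 (iv1 D111624) (iv4 F173169) F173168 (iv1 F169743))
theorem F343706 : act 2 n111624 = n174130 := (sb E99422 F300950)
theorem F343707 : act 4 n111624 = n77183 := (sb E99422 (iv4 D160838))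
theorem F343708 : act 5 n111624 = n83542 := (sb E99422 F300951)
theorem F343709 : act 7 n111624 = n174139 := (sb E99422 F300952)
theorem E99423 : n160774 = n111623 := (c15_4 (iv0 D111623) D111624 F343709 (iv2 F300909))
theorem F343710 : act 2 n111623 = n174139 := (sb E99423 F300909)
theorem F343711 : act 4 n111623 = n173255 := (sb E99423 F300910)
theorem F343712 : act 5 n111623 = n77132 := (sb E99423 (iv5 D160774))
theorem F343713 : act 7 n111623 = n174130 := (sb E99423 F300911)
theorem E99424 : n160797 = n111618 := (c17_9 D111623 F343712 (iv1 F300902) D83545 (iv4 F300942) (iv5 D160820) F298324 D83280 (iv0 F300924) F173169)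
theorem F343714 : act 0 n111618 = n83280 := (sb E99424 F300924)
theorem F343715 : act 1 n111618 = n83282 := (sb E99424 F300925)
theorem F343716 : act 2 n111618 = n174190 := (sb E99424 F300926)
theorem F343717 : act 5 n111618 = n77153 := (sb E99424 (iv5 D160797))
theorem F343718 : act 7 n111618 = n174192 := (sb E99424 F300927)
theorem E99425 : n111683 = n111625 := (c17_1 (iv1 F326171) (iv5 D111625) D111623 F343712 (iv4 D77132) (iv5 D35218) D35217 D77128 (iv0 F300896) D83234)
theorem F343719 : act 0 n111625 = n83225 := (sb E99425 F326170)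
theorem F343720 : act 1 n111625 = n83234 := (sb E99425 F326171)
theorem F343721 : act 2 n111625 = n174180 := (sb E99425 F326172)
theorem E99426 : n51504 = n51486 := (((F173171).symm.trans (sb E99425 F173254))).symm
theorem F343722 : act 4 n111625 = n76191 := (sb E99425 F326173)
theorem F343723 : act 6 n111625 = n51501 := (sb E99425 (iv6 D111683))
theorem F343724 : act 7 n111625 = n123014 := (sb E99425 F326174)
theorem E99427 : n108726 = n57437 := (((iv1 F168683)).symm.trans (sb E99426 (iv1 F326168)))
theorem E99428 : n111636 = n57436 := ((D111636).symm.trans (sb E99426 (iv0 F326169)))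
theorem E99429 : n111324 = n57440 := (((iv2 F172763)).symm.trans (sb E99426 (iv2 F325611)))
theorem E99430 : n111637 = n34801 := ((D111637).symm.trans (sb E99426 F325243))
theorem E99431 : n111693 = n25020 := ((((iv5 D51486)).symm.trans (sb E99426 D111693))).symm
theorem E99432 : n111634 = n25026 := (((iv6 F173201)).symm.trans (sb E99426 (iv6 D51504)))
theorem E99433 : n111638 = n57234 := ((D111638).symm.trans (sb E99426 (iv7 F326177)))
theorem F343725 : act 1 n57437 = n51486 := (sb E99427 F168683)
theorem E99434 : n111879 = n77342 := ((((iv2 F297553)).symm.trans (sb E99427 (iv2 F173778)))).symm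
theorem E99435 : n123333 = n50203 := ((D123333).symm.trans (sb E99427 (iv5 D108726)))
theorem F343726 : act 0 n57436 = n51486 := (sb E99428 (iv1 D111636))
theorem E99436 : n123331 = n111491 := ((D123331).symm.trans (sb E99428 F173202))
theorem F343727 : act 2 n57440 = n51486 := (sb E99429 F172763)
theorem E99437 : n123344 = n51346 := (((iv5 F197653)).symm.trans (sb E99429 (iv5 D111324)))
theorem F343728 : act 4 n34801 = n51486 := (sb E99430 (iv4 D111637))
theorem E99438 : n123340 = n51445 := ((((iv0 F111668)).symm.trans (sb E99431 F326175))).symm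
theorem E99439 : n123015 = n51487 := (((D51487).symm.trans (sb E99431 F326176))).symm
theorem E99440 : n51503 = n51483 := ((D51503).symm.trans (sb E99432 (iv5 D111634)))
theorem F343729 : act 6 n25026 = n51486 := (sb E99432 F173201)
theorem F343730 : act 7 n57234 = n51486 := (sb E99433 (iv7 D111638))
theorem E99441 : n161128 = n51588 := ((D161128).symm.trans (sb E99434 (iv5 D111879)))
theorem E99442 : n171056 = n108724 := (((D108724).symm.trans (sb E99435 (iv1 F302045)))).symm
theorem E99443 : n159230 = n108725 := (((D108725).symm.trans (sb E99435 (iv0 F302046)))).symm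
theorem F343731 : act 5 n50203 = n57437 := (sb E99435 (iv5 D123333))
theorem F343732 : act 5 n111491 = n57436 := (sb E99436 (iv5 D123331))
theorem E99444 : n162036 = n50651 := (((F100284).symm.trans (sb E99437 (iv1 F256079)))).symm
theorem F343733 : act 5 n51346 = n57440 := (sb E99437 F197653)
theorem E99445 : n111325 = n57439 := ((D111325).symm.trans (sb E99437 (iv7 D123344)))
theorem E99446 : n111542 = n84797 := ((D111542).symm.trans (sb E99438 F302654))
theorem F343734 : act 5 n51487 = n57234 := (sb E99439 (iv5 D123015))
theorem E99447 : n111688 = n111632 := (((D111632).symm.trans (sb E99440 D111688))).symm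
theorem E99448 : n111633 = n66021 := ((D111633).symm.trans (sb E99440 F173250))
theorem E99449 : n111323 = n110279 := (((iv2 F172762)).symm.trans (sb E99440 (iv2 F173294)))
theorem E99450 : n111682 = n111622 := ((((iv3 F173170)).symm.trans (sb E99440 (iv3 F173253)))).symm
theorem F343735 : act 5 n51483 = n25026 := (sb E99440 (iv5 D51503))
theorem E99453 : n111635 = n110275 := ((D111635).symm.trans (sb E99440 F173303))
theorem E99454 : n160477 = n111877 := (((D111877).symm.trans (sb E99441 F254727))).symm
theorem F343736 : act 5 n51588 = n77342 := (sb E99441 (iv5 D161128))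
theorem F343737 : act 5 n108724 = n81987 := (sb E99442 (iv5 D171056))
theorem F343738 : act 5 n108725 = n76173 := (sb E99443 (iv5 D159230))
theorem E99455 : n123341 = n51441 := (((F168300).symm.trans (sb E99444 F256076))).symm
theorem E99456 : n109837 = n77836 := ((D109837).symm.trans (sb E99444 (iv5 D162036)))
theorem F343739 : act 0 n57439 = n51445 := (sb E99445 (iv1 F172767))
theorem F343740 : act 2 n57439 = n51487 := (sb E99445 F172764)
theorem E99457 : n123342 = n58862 := ((D123342).symm.trans (sb E99445 F172765))
theorem E99458 : n123343 = n51499 := ((D123343).symm.trans (sb E99445 F172766))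
theorem F343741 : act 7 n57439 = n51346 := (sb E99445 (iv7 D111325))
theorem F343742 : act 5 n84797 = n51445 := (sb E99446 (iv5 D111542))
theorem F343743 : act 0 n111632 = n51508 := (sb E99447 (iv1 F173415))
theorem F343744 : act 2 n111632 = n111373 := (sb E99447 (iv2 F173414))
theorem F343745 : act 5 n111632 = n110170 := (sb E99447 F173413)
theorem F343746 : act 7 n111632 = n140707 := (sb E99447 (iv7 F223794))
theorem F343747 : act 0 n66021 = n51483 := (sb E99448 (iv1 D111633))
theorem F343748 : act 2 n110279 = n51483 := (sb E99449 F172762)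
theorem F343749 : act 4 n110279 = n126878 := (sb E99449 (iv4 F204125))
theorem F343750 : act 6 n110279 = n51345 := (sb E99449 (iv6 D111323))
theorem F343751 : act 5 n111622 = n51501 := (sb E99450 (iv5 D111682))
theorem F343752 : act 7 n110275 = n51483 := (sb E99453 (iv7 D111635))
theorem F343753 : act 5 n111877 = n76928 := (sb E99454 (iv5 D160477))
theorem F343754 : act 0 n51441 = n57439 := (sb E99455 (iv1 D123341))
theorem E99459 : n160474 = n111538 := (((D111538).symm.trans (sb E99455 (iv5 F303609)))).symm
theorem F343755 : act 5 n77836 = n50651 := (sb E99456 (iv5 D109837))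
theorem F343756 : act 4 n58862 = n57439 := (sb E99457 (iv4 D123342))
theorem E99460 : n120276 = n111671 := ((((iv5 F173241)).symm.trans (sb E99458 F197652))).symm
theorem F343757 : act 6 n51499 = n57439 := (sb E99458 (iv6 D123343))
theorem F343758 : act 0 n111538 = n122387 := (sb E99459 (iv1 F253486))
theorem F343759 : act 1 n111538 = n76928 := (sb E99459 (iv0 D160474))
theorem F343760 : act 2 n111538 = n77836 := (sb E99459 F303607)
theorem F343761 : act 4 n111538 = n77828 := (sb E99459 F303608)
theorem F343762 : act 6 n111538 = n111875 := (sb E99459 (iv6 F325165))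
theorem F343763 : act 7 n111538 = n159227 := (sb E99459 F255332)
theorem F343764 : act 2 n111671 = n160267 := (sb E99460 (iv2 F253113))
theorem F343765 : act 4 n111671 = n124286 := (sb E99460 (iv4 F198778))
theorem F343766 : act 6 n111671 = n55349 := (sb E99460 (iv6 D120276))
theorem F343767 : act 7 n160420 = n111668 := d14_4 D111671 F343766 (iv7 F115528) D160420 F173240
theorem F343768 : act 5 n141965 = n111317 := d21_6 F191507 (iv1 D55357) D55359 D120296 F341376 D141965 (iv1 F172750) (iv5 F173241) F343766 D120274
theorem F343769 : act 2 n111593 = n141965 := d2_3 F343768 F172743 D111593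
theorem F343770 : act 7 n111596 = n141965 := d13_0 F343768 F172744 D111596
theorem F343771 : act 6 n141836 = n111593 := d3_0 F343769 (iv6 D141965) (iv2 F224867)
theorem F343772 : act 3 n162293 = n141836 := d7_3 F343771 F326022 D162293
theorem F343773 : act 5 n111333 = n160267 := d21_8 (iv5 D124231) (iv1 D57921) D57923 D124237 F341382 F343771 (iv5 D111593) (iv1 F172783) (iv6 D160267) (iv1 F198723)
theorem F343774 : act 0 n141972 = n111668 := d21_4 (iv5 D108437) D108435 F167646 D141972 F173240 (iv5 D51498) (iv1 F168439) D111593 (iv6 F343771) F224869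
theorem F343775 : act 7 n160267 = n111332 := d13_2 D111333 F343773 (iv5 D111332)
theorem E99461 : n111670 = n111580 := (c16_1 D111670 (iv5 D111580) F81236 D66247 F329153 (iv5 F215924) F215923 F343773 F343775 F172779)
theorem F343776 : act 4 n111580 = n51498 := (sb E99461 (iv4 D111670))
theorem F343777 : act 0 n160267 = n108798 := d17_2 (iv1 F172783) F343773 (iv5 D108798) (iv4 D50230) D50231 F79582 (iv5 F81032) F81038 D51467
theorem F343778 : act 1 n160267 = n108802 := d17_6 (iv1 F167995) F167997 (iv1 F167602) (iv5 F215924) F215923 F343773 (iv5 D108802) F168717 F168716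
theorem E99462 : n156587 = n112325 := (c21_2 F336678 D156587 (iv5 D112325) F81834 (iv1 F172716) (iv6 F172781) F343773 F343777 (iv5 D108798) (iv6 F81115) D111425)
theorem F343779 : act 1 n112325 = n74456 := (sb E99462 (iv0 D156587))
theorem F343780 : act 7 n111580 = n124286 := d16_8 F253431 (iv5 F343773) (iv4 F215923) F215924 (iv4 F329153) (iv5 D66247) (iv4 F81236) D111580 (iv2 F253430)
theorem F343781 : act 5 n124286 = n111581 := d13_1 F343780 (iv7 D111581) D111580
theorem E99463 : n160446 = n111591 := (c14_4 F343780 (iv6 D124286) (iv7 F115542) D160446 (iv7 D111591) (iv6 F173115))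
theorem F343782 : act 2 n111591 = n124279 := (sb E99463 F253447)
theorem F343783 : act 4 n111591 = n160420 := (sb E99463 F253448)
theorem F343784 : act 6 n111591 = n76908 := (sb E99463 (iv6 D160446))
theorem E99464 : n163976 = n108781 := (c21_7 F173229 (iv1 F172737) (iv5 F173130) F343784 F115543 D78775 D163976 (iv1 D108781) D108782 F168711 D108792)
theorem F343785 : act 2 n108781 = n157893 := (sb E99464 F301275)
theorem F343786 : act 4 n108781 = n180402 := (sb E99464 F301276)
theorem F343787 : act 5 n108781 = n78775 := (sb E99464 (iv5 D163976))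
theorem F343788 : act 6 n108781 = n78778 := (sb E99464 F258446)
theorem F343789 : act 5 n134731 = n163975 := d21_6 (iv5 D81911) (iv1 D37508) D37510 F341288 (iv1 F98546) D134731 (iv1 D163975) (iv5 F343787) F343788 (iv1 F301272)
theorem F343790 : act 6 n163975 = n134732 := d12_2 D134731 F343789 (iv5 D134732) (iv6 D63316) D63315
theorem F343791 : act 0 n124306 = n141844 := d21_10 (iv5 D141844) F166196 D134732 (iv6 F343790) (iv1 D163975) (iv6 D78775) (iv5 D35865) D35862 (iv5 F91666) D124306
theorem F343792 : act 6 n108792 = n141844 := d21_5 (iv5 F343787) (iv1 D108781) D108782 F168711 D108792 (iv5 D141844) F166196 D134732 (iv6 F343790) (iv1 D163975)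
theorem E99465 : n141998 = n111585 := (c3_3 F343792 F224889 D141998 F202537)
theorem F343793 : act 6 n111585 = n66580 := (sb E99465 (iv6 D141998))
theorem F343794 : act 6 n156599 = n111313 := d12_4 F343792 (iv5 D141844) (iv6 F111774) D156599 (iv5 F173229)
theorem F343795 : act 5 n140453 = n124306 := d17_1 (iv1 F223638) F343791 (iv5 D141844) (iv4 D66504) F95818 F84525 (iv5 F53528) F79265 D108439
theorem E99466 : n139612 = n111474 := ((c21_8 F343795 F343791 (iv5 D141844) (iv6 F111774) F336728 (iv6 F336731) F336730 D111474 (iv5 D139612) (iv6 F167663) (iv1 F223638))).symm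
theorem F343796 : act 0 n111474 = n108467 := (sb E99466 F222765)
theorem F343797 : act 2 n111474 = n115796 := (sb E99466 F222763)
theorem F343798 : act 5 n111474 = n65524 := (sb E99466 (iv5 D139612))
theorem F343799 : act 7 n111474 = n115798 := (sb E99466 F222764)
theorem F343800 : act 1 n124306 = n141842 := d15_1 (iv0 F343791) F224885 (iv2 F224889)
theorem F343801 : act 7 n124306 = n141987 := d15_2 (iv0 F224891) (iv0 F343791) (iv2 F225019)
theorem E99467 : n160465 = n141986 := ((c4_3 F343801 (iv2 F225019) F225016 F253471)).symm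
theorem F343802 : act 2 n141986 = n124306 := (sb E99467 F253471)
theorem F343803 : act 4 n141986 = n160409 := (sb E99467 F253472)
theorem F343804 : act 6 n141986 = n76915 := (sb E99467 (iv6 D160465))
theorem F343805 : act 4 n134829 = n156332 := d16_0 (iv5 D156332) F111575 (iv5 F329890) F171726 (iv5 F171773) (iv4 F223635) F343795 F343801 (iv2 F225019)
theorem F343806 : act 6 n156336 = n134829 := d10_0 F343805 F245670 D156336
theorem F343807 : act 7 n156332 = n160409 := d11_2 (iv7 F225016) F343805 (iv4 F343803)
theorem F343808 : act 0 n156332 = n141957 := d18_2 F224891 F343805 (iv4 D141957) (iv5 D66544) D66543 F166499 (iv4 F98548) (iv0 F166196) D141844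
theorem F343809 : act 1 n156332 = n141964 := d18_6 (iv1 F167660) (iv4 F112157) (iv1 D63359) (iv4 F98661) D134829 F343805 (iv4 D141964) (iv0 F341376) F341378
theorem F343810 : act 7 n126879 = n134767 := d16_8 (iv4 F111575) D156332 (iv4 F343805) (iv5 D134829) F98661 F48122 (iv4 F93968) D126879 F216837
theorem E99468 : n134956 = n110870 := (c4_3 F343810 F216837 D134956 (iv2 F204126))
theorem F343811 : act 4 n110870 = n156333 := (sb E99468 (iv4 F245671))
theorem F343812 : act 7 n110870 = n63424 := (sb E99468 (iv7 D134956))
theorem F343813 : act 5 n134767 = n116275 := d13_1 F343810 F181230 D126879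
theorem F343814 : act 6 n134919 = n126879 := d14_5 F343810 (iv6 D134767) F98589 D63401 D134919
theorem E99469 : n138335 = n134954 := ((c15_1 D134954 F221539 F343810 F216837)).symm
theorem F343815 : act 1 n134954 = n126879 := (sb E99469 F221539)
theorem F343816 : act 5 n134954 = n64980 := (sb E99469 (iv5 D138335))
theorem F343817 : act 5 n156333 = n160409 := d16_1 F343811 (iv4 F343803) F225014 F216978 F98663 (iv4 F181227) (iv5 F343813) (iv7 F343810) F204126
theorem F343818 : act 4 n116272 = n156330 := d18_5 (iv1 F215959) F215957 F112151 (iv4 F172346) (iv5 F181225) (iv0 D156330) F111575 D134954 F343816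
theorem F343819 : act 6 n156330 = n109499 := d10_2 F343170 F343818 F326836
theorem F343820 : act 3 n157914 = n156330 := d7_3 F343819 F326835 D157914
theorem F343821 : act 5 n126878 = n134919 := d12_5 F343814 (iv5 D126879) (iv6 D59542) D59541 D126878
theorem F343822 : act 7 n111702 = n126878 := d13_0 F343821 (iv7 D134919) (iv5 F332716)
theorem E99470 : n134919 = n109161 := (c16_2 F343749 F343821 (iv4 D109161) F325167 F91650 (iv5 F44570) (iv4 F324519) D110275 F343752 (iv2 F343748))
theorem F343823 : act 5 n109161 = n126878 := (sb E99470 (iv5 F343821))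
theorem F343824 : act 6 n109161 = n126879 := (sb E99470 F343814)
theorem F343825 : act 7 n109161 = n63401 := (sb E99470 (iv7 D134919))
theorem F343826 : act 0 n120500 = n109161 := d21_7 (iv5 D50283) (iv1 F39008) D51111 F336747 F301454 D123140 F197337 F343823 (iv6 D126878) F93965
theorem F343827 : act 4 n126879 = n109163 := d10_1 F343824 (iv6 D109163) D109161
theorem F343828 : act 2 n109163 = n156333 := d1_1 F343827 (iv4 F343811) (iv2 F204126)
theorem F343829 : act 5 n109163 = n124247 := d9_2 D126879 F343827 (iv4 F198786) (iv5 F343795) F223635 F171773 (iv4 F171726) F329890 (iv4 F111575) D156332 (iv4 F343805) (iv5 D134829) F98661 F48122 (iv4 F93968)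
theorem F343830 : act 7 n109163 = n108434 := d11_2 (iv7 F343810) F343827 (iv4 F216838)
theorem F343831 : act 1 n109163 = n156330 := d18_6 (iv1 F171796) (iv4 F166139) (iv1 D59544) (iv4 F93968) D126879 F343827 (iv4 F343818) F343174 (iv5 F343177)
theorem F343832 : act 1 n156331 = n109163 := d15_1 D156331 F343830 F167645
theorem F343833 : act 4 n116271 = n156331 := d18_5 (iv1 F216115) F216112 (iv1 F215960) F215965 (iv5 F215966) F343832 (iv4 F343827) (iv0 F336662) F336663
theorem F343834 : act 0 n124247 = n141964 := d18_0 (iv4 D141964) (iv1 F111576) D156336 (iv5 F343178) F167719 (iv0 F343175) F343833 F343832 F343829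
theorem F343835 : act 3 n126878 = n91282 := d8_1 F343822 F331060 F224948
theorem E99471 : n123994 = n110858 := ((c14_4 F343822 (iv6 D126878) F93963 D110858 F328919 (iv6 F332717))).symm
theorem F343836 : act 0 n110858 = n57766 := (sb E99471 (iv1 D123994))
theorem F343837 : act 1 n110858 = n134290 := (sb E99471 F328917)
theorem F343838 : act 5 n110858 = n63405 := (sb E99471 F328918)
theorem F343839 : act 7 n110858 = n63404 := (sb E99471 F328919)
theorem F343840 : act 7 n111600 = n133997 := d4_2 F343839 (iv2 F173150) F215928
theorem E99472 : n134925 = n111669 := (c11_2 F343839 D134925 (iv7 D111669) (iv4 F171713))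
theorem F343841 : act 4 n111669 = n63404 := (sb E99472 (iv4 D134925))
theorem F343842 : act 1 n133997 = n123996 := d15_0 F328923 (iv7 F343839) (iv2 F215928)
theorem F343843 : act 1 n123150 = n133997 := d15_0 F343842 (iv7 D123996) (iv2 F197353)
theorem F343844 : act 5 n111601 = n133997 := d17_5 D50237 (iv5 F81028) (iv1 F81034) (iv5 F81248) (iv4 F173152) F343842 F328925 (iv0 D108806) (iv4 D50239)
theorem F343845 : act 5 n111669 = n160420 := d16_1 (iv4 F343841) (iv4 F343783) F173130 F81237 (iv5 F81248) (iv4 F173152) F343844 (iv7 F343840) F173150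
theorem F343846 : act 6 n171107 = n134295 := d21_5 (iv5 D53452) F40918 D51102 (iv6 F337442) (iv1 F268835) F216316 (iv1 F173155) F343844 (iv6 D133997) F98203
theorem F343847 : act 5 n182718 = n171107 := d12_5 F343846 F216316 F168002 (iv5 F327407) D182718
theorem E99473 : n182718 = n103955 := ((c17_1 D103955 F343847 (iv1 D171107) (iv5 D82008) F58455 F328503 F101096 (iv5 F328895) (iv0 F335660) F142760)).symm
theorem F343848 : act 5 n103955 = n171107 := (sb E99473 F343847)
theorem F343849 : act 6 n103955 = n87223 := (sb E99473 (iv6 D182718))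
theorem F343850 : act 2 n139590 = n103955 := d3_3 F343849 (iv2 F295447) (iv6 F329818)
theorem F343851 : act 4 n98079 = n103955 := d10_3 F343849 (iv4 F295361) D98079
theorem F343852 : act 5 n184624 = n103959 := d21_2 D88033 D184624 (iv6 D103959) D103955 F343849 F327407 F169041 (iv5 F336760) F294260 F289583
theorem E99474 : n184624 = n101245 := ((c6_4 F343852 F159416 (iv5 F291143) D101245)).symm
theorem F343853 : act 1 n101245 = n88033 := (sb E99474 (iv0 D184624))
theorem F343854 : act 5 n101245 = n103959 := (sb E99474 F343852)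
theorem F343855 : act 7 n103959 = n89490 := d13_2 (iv7 F155981) F343854 (iv5 F137169)
theorem F343856 : act 4 n103959 = n89523 := d17_4 F289583 D88033 (iv1 F343853) F343854 F335649 (iv0 D177747) (iv5 D84634) D84633 (iv4 F289756)
theorem F343857 : act 7 n103955 = n139606 := d11_2 F329802 F343851 (iv4 D139606)
theorem F343858 : act 4 n171107 = n115796 := d16_2 F343851 F343848 (iv5 D115796) (iv4 D53395) F49123 D65406 D139349 F222562 (iv2 F329763)
theorem F343859 : act 0 n103955 = n156711 := d18_2 F336645 F343851 (iv4 D156711) (iv5 D74523) F53736 D34176 D74527 (iv0 F335378) (iv5 F294641)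
theorem F343860 : act 1 n92641 = n139339 := d18_8 (iv1 D65398) F49120 D30668 D65403 (iv5 F329764) F343851 (iv0 D103955) (iv4 F142760) (iv5 D139339)
theorem F343861 : act 4 n90780 = n139339 := d20_0 (iv1 F343860) F142760 (iv3 D48127) (iv1 D23243) (iv3 F292861) F33588 F291356 D20064 D42507 D90780
theorem F343862 : act 3 n103924 = n90780 := d20_5 (iv4 D10930) D10928 D23235 D48115 D103924 F343861 (iv1 F343860) F142760 (iv3 D48127) (iv1 D23243)
theorem F343863 : act 6 n102449 = n139339 := d21_3 D99845 (iv1 F153735) D102449 (iv1 F343860) (iv6 F335650) F335649 (iv1 F277191) F129921 F289728 (iv1 F73665)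
theorem E99475 : n98430 = n90780 := ((c10_2 F343863 (iv4 F343861) F277391 F290006)).symm
theorem E99476 : n183993 = n103924 := ((((iv3 F343862)).symm.trans (sb E99475 (iv3 F285878)))).symm
theorem F343864 : act 5 n90780 = n65479 := (sb E99475 F329841)
theorem F343865 : act 6 n90780 = n171182 := (sb E99475 F277391)
theorem F343866 : act 7 n90780 = n46039 := (sb E99475 (iv7 D98430))
theorem F343867 : act 5 n103924 = n87770 := (sb E99476 (iv5 D183993))
theorem F343868 : act 7 n103924 = n98416 := (sb E99476 F285879)
theorem E99477 : n143876 = n102450 := (c12_4 F343863 (iv5 D139339) D139340 (iv5 F226494) (iv6 D102450) D102449)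
theorem F343869 : act 0 n102450 = n124374 := (sb E99477 F332949)
theorem F343870 : act 1 n102450 = n67394 := (sb E99477 (iv0 D143876))
theorem F343871 : act 2 n102450 = n139568 := (sb E99477 (iv2 F226499))
theorem F343872 : act 5 n102450 = n139340 := (sb E99477 F226494)
theorem F343873 : act 6 n137010 = n141173 := d21_5 (iv5 D22841) D22838 D47521 (iv6 F327689) D137010 F224195 (iv1 F222535) (iv5 F343872) (iv6 D102450) (iv1 D47531)
theorem F343874 : act 0 n185435 = n89404 := d21_7 F343867 (iv1 F335362) F335364 (iv6 F143898) (iv1 F143902) F289863 D185435 (iv5 D89404) F294173 D103924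
theorem F343875 : act 5 n89407 = n185304 := d17_7 (iv1 F135280) D185435 F343874 (iv5 D89404) (iv4 D41748) D41749 D89407 (iv0 F287564) F153555
theorem F343876 : act 1 n185431 = n89404 := d15_0 (iv0 F343874) F289903 (iv2 F289912)
theorem F343877 : act 5 n95388 = n117450 := d21_6 D89404 (iv1 F343876) (iv5 D185431) F295087 (iv1 F133634) (iv6 F147018) F229235 F319321 (iv6 F335584) (iv1 D89403)
theorem E99478 : n182634 = n103925 := (c21_4 (iv5 F328980) (iv1 F219160) F328561 D182634 (iv1 D103925) (iv6 F294173) D89404 (iv1 F343876) (iv5 D185431) F295087 (iv1 F133634))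
theorem F343878 : act 2 n103925 = n98416 := (sb E99478 F295465)
theorem F343879 : act 4 n103925 = n87374 := (sb E99478 F295466)
theorem F343880 : act 5 n103925 = n87771 := (sb E99478 F295467)
theorem F343881 : act 6 n103925 = n87189 := (sb E99478 (iv6 D182634))
theorem E99479 : n183021 = n103063 := ((c20_10 (iv4 F343879) (iv1 D103925) F293940 F64389 F291854 F292954 (iv4 D42026) (iv1 F63399) D47783 D103063 (iv1 D183021))).symm
theorem F343882 : act 0 n103063 = n87374 := (sb E99479 (iv1 D183021))
theorem F343883 : act 1 n89167 = n96154 := d17_8 F343882 (iv5 F328894) F328891 (iv5 D101036) F74322 D47075 D101044 (iv5 F155703) (iv4 F294029)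
theorem E99480 : n98400 = n90781 := (c20_7 (iv4 D42026) (iv1 F63399) D47783 D103063 F343882 (iv3 F136489) (iv4 F151818) (iv1 D90781) (iv4 F293859) F136966 F292854)
theorem F343884 : act 2 n90781 = n46039 := (sb E99480 F152046)
theorem F343885 : act 4 n90781 = n88927 := (sb E99480 F151818)
theorem F343886 : act 5 n90781 = n65478 := (sb E99480 F329837)
theorem F343887 : act 6 n90781 = n46031 := (sb E99480 (iv6 D98400))
theorem E99481 : n183961 = n182262 := (c21_2 D87755 D183961 (iv5 D182262) F294174 F343882 (iv6 D87374) D87373 D183016 (iv5 F294103) F294104 F289750)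
theorem F343888 : act 0 n182262 = n88296 := (sb E99481 (iv1 F289792))
theorem F343889 : act 1 n182262 = n87755 := (sb E99481 (iv0 D183961))
theorem E99482 : n183020 = n103334 := ((c15_4 (iv0 D183020) (iv0 F343882) F158331 D103334)).symm
theorem F343890 : act 1 n103334 = n87374 := (sb E99482 (iv0 D183020))
theorem F343891 : act 1 n137625 = n103334 := d15_0 F343890 (iv7 F335547) F335549
theorem F343892 : act 0 n185323 = n102349 := d18_2 F343888 D185323 (iv4 D102349) F136231 F136230 (iv0 F335573) D137624 F335581 D182262
theorem E99483 : n185218 = n177898 := ((c20_7 D19367 D41194 (iv4 F133563) (iv3 F283706) F343888 F289793 (iv4 F277468) (iv1 D185218) (iv4 D88262) (iv3 D41190) (iv1 D19366))).symm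
theorem F343893 : act 0 n177898 = n88262 := (sb E99483 (iv1 D185218))
theorem F343894 : act 0 n137625 = n103063 := d21_4 (iv5 D30469) (iv1 F166059) D64690 D137625 (iv6 F294174) D182262 F343888 (iv5 D88296) (iv6 F289784) (iv1 F327678)
theorem F343895 : act 4 n103924 = n137625 := d20_0 F343894 F294029 (iv3 D96154) (iv1 D44870) F292861 (iv4 D10930) D10928 D23235 D48115 D103924
theorem F343896 : act 7 n137625 = n183003 := d15_2 (iv0 F343882) (iv0 F343894) F284602
theorem E99484 : n183003 = n103333 := ((c15_2 (iv0 D103332) D103333 (iv7 F343896) (iv2 F335549))).symm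
theorem F343897 : act 2 n103333 = n87374 := (sb E99484 F284602)
theorem F343898 : act 4 n103333 = n98416 := (sb E99484 F284603)
theorem F343899 : act 5 n103333 = n101058 := (sb E99484 F284604)
theorem F343900 : act 6 n103333 = n87363 := (sb E99484 (iv6 D183003))
theorem F343901 : act 7 n103333 = n137625 := (sb E99484 (iv7 F343896))
theorem F343902 : act 6 n103335 = n110824 := d21_3 (iv5 F343899) (iv1 D103333) D103335 (iv1 D110824) F80601 D51137 D110900 (iv5 F222654) D139462 (iv1 F338297)
theorem F343903 : act 3 n110824 = n103338 := d7_1 F343902 (iv6 D103338) (iv3 F158583)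
theorem F343904 : act 0 n139565 = n126785 := d21_10 (iv5 D126785) F93923 D64502 D137243 F338242 (iv6 F343902) (iv5 D103335) D103332 F335546 D139565
theorem E99485 : n136670 = n93077 := ((c20_10 (iv4 F343898) (iv1 D103333) F293855 F137141 F292148 F293220 F36335 F33560 D44842 (iv3 F143566) F335566)).symm
theorem F343905 : act 0 n93077 = n98416 := (sb E99485 F335566)
theorem F343906 : act 5 n93077 = n64234 := (sb E99485 (iv5 D136670))
theorem F343907 : act 6 n93077 = n94121 := (sb E99485 (iv6 F335571))
theorem E99486 : n136667 = n87802 := (c6_2 F343906 (iv3 F219813) F293422 (iv3 F143566))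
theorem E99487 : n184072 = n64234 := ((D184072).symm.trans (sb E99486 F219813))
theorem E99488 : n184073 = n64233 := ((D184073).symm.trans (sb E99486 (iv6 D136667)))
theorem F343908 : act 3 n64234 = n87802 := (sb E99487 (iv3 D184072))
theorem E99489 : n136663 = n136545 := ((D136663).symm.trans (sb E99488 F338910))
theorem E99490 : n136664 = n136550 := ((D136664).symm.trans (sb E99488 F338912))
theorem F343909 : act 6 n64233 = n87802 := (sb E99488 (iv6 D184073))
theorem F343910 : act 1 n136545 = n64233 := (sb E99489 (iv0 D136663))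
theorem F343911 : act 0 n136550 = n64233 := (sb E99490 (iv1 D136664))
theorem E99491 : n136671 = n103927 := (c13_3 (iv7 F143567) F343906 D136671 (iv5 D103927))
theorem F343912 : act 2 n103927 = n183975 := (sb E99491 F338294)
theorem F343913 : act 7 n103927 = n64234 := (sb E99491 (iv7 D136671))
theorem F343914 : act 0 n99431 = n93078 := d17_2 (iv1 F153156) D99431 (iv5 D93078) D93077 F343906 (iv0 F338290) (iv5 D87768) F134734 (iv4 F153154)
theorem F343915 : act 5 n183975 = n103926 := d2_2 D103927 F343912 (iv2 D103926)
theorem F343916 : act 6 n103926 = n89399 := d21_3 D87763 D183975 F343915 F335691 (iv6 D70662) F51890 F41986 (iv5 F27837) D19276 D40895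
theorem F343917 : act 0 n98416 = n103926 := d21_10 (iv5 F343915) (iv1 F285857) (iv5 D87768) D87769 F293413 F70070 D44565 (iv1 F328977) (iv5 F333869) D98416
theorem F343918 : act 1 n183984 = n103335 := d17_6 F343917 (iv5 F343915) (iv1 F285857) (iv5 D87768) D87767 D183984 (iv5 D103335) D103333 F343898
theorem F343919 : act 4 n183975 = n159362 := d19_2 F343917 (iv5 F343915) (iv3 D159362) (iv1 D76231) (iv5 F83113) (iv4 D52620) (iv3 F83098) D113890 F177185 (iv4 F115163) (iv3 D76763) (iv1 D35086) (iv5 F318249) (iv4 F49141) F49140 D30697 D65485 (iv4 F329516) (iv3 F151840)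
theorem F343920 : act 4 n115063 = n135930 := d11_3 (iv7 F338293) F343919 F250892
theorem F343921 : act 0 n159362 = n101097 := d18_2 D183975 F343919 (iv4 D101097) (iv5 D47096) (iv4 F153158) F153156 F153154 F134736 D87763
theorem F343922 : act 2 n134160 = n115063 := d1_3 F343920 F218648 (iv4 F216191)
theorem F343923 : act 3 n135930 = n100520 := d5_1 F343920 F325481 (iv3 F108388) (iv4 F83792) D115063
theorem F343924 : act 6 n105488 = n115063 := d10_0 F343920 (iv6 D135930) (iv4 F161937)
theorem F343925 : act 3 n115064 = n105488 := d7_3 F343924 (iv3 D115063) D115064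
theorem F343926 : act 4 n135929 = n152397 := d5_4 (iv4 F179170) F343925 F161937 D135929 F239585
theorem F343927 : act 5 n115089 = n115064 := d6_0 F343925 F161936 D115089
theorem F343928 : act 7 n136318 = n115064 := d8_0 F343925 F161935 (iv3 F219387)
theorem F343929 : act 4 n159485 = n136318 := d11_3 F343928 F179170 D159485
theorem F343930 : act 5 n131136 = n129046 := d16_3 F250891 F163521 (iv4 F210042) (iv4 D129046) F95267 (iv4 F99696) D136318 F343928 (iv2 F250890)
theorem F343931 : act 6 n129046 = n126180 := d12_2 D131136 F343930 (iv5 D126180) F93331 (iv5 F96050)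
theorem F343932 : act 4 n126180 = n129047 := d10_1 F343931 (iv6 D129047) D129046
theorem F343933 : act 2 n129047 = n170246 := d1_1 F343932 F332911 (iv2 F202913)
theorem F343934 : act 5 n129047 = n126173 := d16_1 F343932 F202896 F332899 F161168 F78429 (iv4 F100366) D137097 F220260 (iv2 F202913)
theorem F343935 : act 2 n113356 = n113441 := d16_9 (iv4 D113441) (iv5 D52368) F40204 D28095 D59147 D126180 F343932 F343934 F202898
theorem F343936 : act 1 n113356 = n170243 := d15_0 (iv0 D170243) (iv7 F331141) (iv2 F343935)
theorem F343937 : act 4 n170243 = n113359 := d18_7 (iv1 F93370) F165833 (iv1 D49074) (iv4 F76542) D105232 F332907 F343936 F202987 F202986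
theorem F343938 : act 5 n117028 = n170243 := d16_3 (iv4 F41250) D53932 D117028 F343937 F176553 F176522 F92976 (iv7 D49656) F37951
theorem F343939 : act 5 n125521 = n177409 := d18_9 (iv1 D177409) F299386 D170243 F343937 F176553 F176522 F92980 D110472 (iv0 F201877)
theorem F343940 : act 2 n177409 = n113439 := d2_1 F343939 F176626 (iv2 F201873)
theorem F343941 : act 7 n177409 = n113440 := d13_2 (iv7 F201875) F343939 (iv5 F176627)
theorem F343942 : act 4 n136457 = n174999 := d19_6 (iv1 F332910) (iv5 F343939) F201874 F92947 (iv1 F317715) (iv5 F319910) (iv3 D174999) (iv1 D83579) (iv5 D38529) F29539 (iv3 F34950) (iv1 F91296) D76925 (iv4 F332915) F171731 F104275 F104274 (iv4 F168924) F332904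
theorem F343943 : act 3 n174500 = n145408 := d5_3 F343942 (iv3 D174999) (iv4 F273380) F228437 (iv3 F219567)
theorem F343944 : act 6 n174999 = n107678 := d10_2 D136457 F343942 F175457
theorem F343945 : act 7 n174999 = n126902 := d11_2 F220309 F343942 F220311
theorem F343946 : act 5 n174999 = n126811 := d16_1 F343942 F331971 F243936 (iv4 F189964) (iv5 F319923) (iv4 F173769) (iv5 F218957) (iv7 F220304) F220301
theorem F343947 : act 0 n174999 = n126337 := d17_0 F332521 (iv1 F331940) (iv5 D137118) (iv4 D64459) D64460 (iv0 F163874) D109749 (iv0 F219569) F343942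
theorem F343948 : act 1 n174999 = n126343 := d18_6 (iv1 D51006) (iv4 F80460) (iv1 F319909) D83622 (iv5 F319910) F343942 (iv4 D126343) (iv0 F171203) (iv5 D110617)
theorem E99492 : n178477 = n126343 := ((c18_9 (iv1 F307480) F307481 (iv1 D150197) F306048 (iv5 F306764) (iv4 F321760) (iv0 F219569) F343942 F343948 (iv5 D178477))).symm
theorem F343949 : act 5 n126343 = n84928 := (sb E99492 (iv5 D178477))
theorem F343950 : act 2 n173425 = n126337 := d16_9 (iv4 D126337) (iv5 D59227) D59226 (iv5 F326684) (iv4 F189972) D39290 D84928 (iv5 F343949) (iv7 F332373)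
theorem F343951 : act 6 n126811 = n173464 := d21_3 (iv5 F343949) (iv1 F343948) F343946 F317467 (iv6 F317470) D178890 (iv1 F278760) (iv5 D164559) (iv6 F331942) F331939
theorem F343952 : act 2 n173464 = n101596 := d3_1 F343951 F308148 (iv2 F331969)
theorem E99493 : n173464 = n158383 := (c7_1 F343951 (iv3 D158383) (iv6 F306603) (iv3 F331970))
theorem F343953 : act 0 n158383 = n83692 := (sb E99493 F317467)
theorem F343954 : act 1 n158383 = n82999 := (sb E99493 (iv0 D173464))
theorem F343955 : act 2 n158383 = n101596 := (sb E99493 F343952)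
theorem F343956 : act 6 n158383 = n126811 := (sb E99493 (iv6 F343951))
theorem F343957 : act 0 n172024 = n128110 := d20_1 (iv4 F270079) (iv4 F307888) F271468 (iv1 F343954) (iv3 D158383) (iv4 F184700) (iv1 F64288) (iv4 F58867) (iv3 F127503) (iv1 F243894)
theorem E99494 : n155080 = n98145 := ((c20_6 (iv4 F306921) (iv1 F234125) F106347 F314175 (iv1 F272645) (iv3 F151370) (iv4 F270079) F343957 (iv4 F307888) F271468 (iv1 F343954))).symm
theorem F343958 : act 0 n98145 = n73607 := (sb E99494 (iv1 D155080))
theorem F343959 : act 1 n98145 = n82734 := (sb E99494 F243894)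
theorem F343960 : act 4 n98145 = n172024 := (sb E99494 (iv4 F270079))
theorem F343961 : act 5 n98145 = n147853 := (sb E99494 F335861)
theorem F343962 : act 5 n176540 = n147177 := d21_6 (iv5 F313329) (iv1 F334518) (iv5 F343961) (iv6 D98145) D98142 F303096 (iv1 D147177) F333676 (iv6 F333677) D147189
theorem F343963 : act 6 n174403 = n147189 := d21_5 F151358 (iv1 F72471) (iv5 F123322) (iv6 F312094) F312091 (iv5 F313329) (iv1 F334518) (iv5 F343961) (iv6 D98145) D98142
theorem E99495 : n172790 = n155079 := ((c21_11 (iv5 F334515) (iv1 F313328) F313329 (iv6 F343963) (iv1 D174403) (iv6 D83367) F59263 (iv1 F54782) (iv5 F53182) D73607 D155079)).symm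
theorem F343964 : act 2 n155079 = n82731 := (sb E99495 (iv2 D172790))
theorem F343965 : act 5 n155079 = n147415 := (sb E99495 (iv5 F334515))
theorem F343966 : act 7 n155079 = n82732 := (sb E99495 (iv7 F271058))
theorem F343967 : act 7 n121439 = n145272 := d8_2 F343966 (iv3 F343376) F341152
theorem F343968 : act 2 n145272 = n119130 := d4_1 F343967 F315080 (iv2 F193781)
theorem F343969 : act 6 n145272 = n161637 := d14_1 F343967 (iv7 D161637) (iv6 D77633) (iv7 F88730) D121439
theorem E99496 : n121439 = n119131 := ((c15_2 (iv0 D119130) D119131 F343967 F343968)).symm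
theorem F343970 : act 1 n119131 = n131376 := (sb E99496 F343375)
theorem F343971 : act 2 n119131 = n77630 := (sb E99496 F193781)
theorem F343972 : act 3 n119131 = n82732 := (sb E99496 F343376)
theorem F343973 : act 4 n119131 = n131271 := (sb E99496 F343377)
theorem F343974 : act 6 n119131 = n56063 := (sb E99496 (iv6 D121439))
theorem F343975 : act 7 n119131 = n145272 := (sb E99496 F343967)
theorem F343976 : act 1 n161629 = n145272 := d15_1 D161629 (iv7 F343975) F343971
theorem E99497 : n161629 = n119133 := (c20_2 D145272 (iv1 F343976) F187458 F125276 F297315 (iv3 F303484) (iv4 F304353) D38523 (iv4 F305718) (iv3 F307724) F307722)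
theorem F343977 : act 0 n119133 = n77630 := (sb E99497 (iv1 D161629))
theorem F343978 : act 1 n119133 = n145272 := (sb E99497 F343976)
theorem E99498 : n177041 = n68101 := (c20_6 F60912 F296243 (iv4 F29667) (iv3 F59951) D84380 D177041 D145272 (iv1 F343978) F187458 F125276 F297315)
theorem E99499 : n145271 = n84380 := ((D145271).symm.trans (sb E99498 (iv3 D177041)))
theorem F343979 : act 3 n84380 = n68101 := (sb E99499 (iv3 D145271))
theorem F343980 : act 5 n167234 = n161637 := d21_2 (iv5 F305463) F305461 (iv6 F343969) (iv1 F343978) F187459 (iv5 F312921) (iv1 F210736) (iv5 D61710) D61711 (iv1 F314259)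
theorem F343981 : act 2 n161832 = n167234 := d2_3 F343980 (iv2 F314288) D161832
theorem F343982 : act 7 n161636 = n167234 := d13_0 F343980 (iv7 D161637) D161636
theorem F343983 : act 4 n161637 = n145274 := d17_4 (iv1 F314259) (iv5 F305463) F305461 F343980 F228264 F210769 (iv5 D131503) (iv0 D61712) (iv4 F96309)
theorem F343984 : act 0 n119012 = n145272 := d21_4 F57444 F51868 D54766 D119012 F343969 (iv5 F343980) (iv1 D167234) (iv5 D80279) (iv6 D36575) D36573
theorem F343985 : act 0 n153916 = n119595 := d20_1 F306072 (iv4 F305793) (iv3 F240787) F240788 (iv3 F309649) (iv4 F187164) F343984 (iv4 D145272) (iv3 F343979) (iv1 F306071)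
theorem E99500 : n161628 = n119012 := ((c15_1 (iv0 F343984) (iv0 D161628) (iv7 F315080) (iv2 F343968))).symm
theorem F343986 : act 1 n119012 = n77630 := (sb E99500 (iv0 D161628))
theorem F343987 : act 1 n140716 = n177043 := d18_8 (iv1 F306071) F306072 F343985 (iv4 F305793) (iv5 F311910) (iv4 F247447) F341115 (iv4 F223812) (iv5 D177043)
theorem F343988 : act 0 n157427 = n124592 := d20_1 (iv4 F247952) (iv4 F306819) F306818 F306057 (iv3 F215243) F306072 F343985 (iv4 F305793) (iv3 F240787) F240788
theorem F343989 : act 6 n133682 = n153916 := d21_3 D118548 F342239 F342240 F343985 F300860 D128054 F206066 F115839 D80410 (iv1 F310581)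
theorem F343990 : act 1 n153916 = n98110 := d15_1 (iv0 F343985) (iv7 F162722) D119595
theorem E99501 : n119595 = n98111 := ((c15_1 D98111 (iv0 F343985) (iv7 F300730) F151257)).symm
theorem F343991 : act 1 n98111 = n153916 := (sb E99501 (iv0 F343985))
theorem F343992 : act 2 n98111 = n55027 := (sb E99501 (iv2 D119595))
theorem F343993 : act 3 n98111 = n77468 := (sb E99501 F331885)
theorem F343994 : act 4 n98111 = n118520 := (sb E99501 (iv4 F305793))
theorem F343995 : act 6 n98111 = n60177 := (sb E99501 F300860)
theorem F343996 : act 7 n98111 = n77704 := (sb E99501 F331886)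
theorem F343997 : act 5 n124592 = n147429 := d17_1 F343988 F248103 (iv5 D157465) F324909 (iv5 D68225) (iv0 F323604) F311273 (iv0 F190804) (iv4 F247952)
theorem F343998 : act 4 n147429 = n96260 := d17_4 (iv1 F313018) (iv5 F314849) F343988 F343997 F148057 F149586 F149584 F71443 (iv4 F321366)
theorem F343999 : act 2 n157426 = n124592 := d15_3 (iv0 F343988) (iv0 F304896) F304898
theorem F344000 : act 3 n96260 = n109865 := d5_1 F343998 F169856 (iv3 F174807) F342269 F248278
theorem F344001 : act 7 n147429 = n169961 := d13_2 (iv7 F199283) F343997 (iv5 D169961)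
theorem F344002 : act 5 n148306 = n131107 := d21_2 (iv5 D148310) D148306 (iv6 F209981) (iv1 F309641) (iv6 F199285) F343997 F248103 (iv5 D157465) F310546 (iv1 F324852)
theorem F344003 : act 0 n157469 = n147429 := d21_10 (iv5 F343997) (iv1 D124592) F313014 (iv6 D45193) (iv1 F58153) D81434 (iv5 F342457) (iv1 F182574) (iv5 F228589) F324929
theorem F344004 : act 5 n177360 = n133852 := d21_2 D84501 D177360 F215538 (iv1 F248111) (iv6 F248114) D157469 F344003 (iv5 F343997) F199285 (iv1 D84499)
theorem F344005 : act 2 n124862 = n177360 := d2_3 F344004 F215536 (iv5 F200542)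
theorem F344006 : act 7 n124863 = n177360 := d13_0 F344004 (iv7 D133852) F200545
theorem F344007 : act 1 n157460 = n116090 := d18_6 (iv1 F215539) F185287 (iv1 D34329) (iv4 F54481) D74908 D157460 F338949 F338952 F344004
theorem F344008 : act 2 n116820 = n157460 := d15_3 F344007 F338957 (iv7 F182406)
theorem F344009 : act 1 n138751 = n157460 := d15_0 F344007 (iv7 F338955) F316988
theorem F344010 : act 7 n157460 = n142051 := d15_2 (iv0 F338958) F344009 F328204
theorem F344011 : act 0 n116136 = n154619 := d18_0 (iv4 D154619) F109796 F309671 D84501 (iv4 F316710) F344009 (iv4 D157460) F319272 D116136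
theorem F344012 : act 4 n150422 = n116136 := d18_1 (iv1 F307641) F344011 (iv4 D154619) (iv5 D73298) F308422 (iv0 D47140) F35250 D40151 (iv5 F309644)
theorem F344013 : act 3 n123541 = n116136 := d20_9 (iv4 D154619) F109796 F309671 (iv3 D38975) (iv1 F121222) (iv3 F90730) F90731 D57577 D123541 F344011
theorem F344014 : act 5 n116129 = n123541 := d6_0 F344013 (iv5 D116136) (iv3 F180922)
theorem F344015 : act 3 n154619 = n106015 := d20_5 F90731 D57577 D123541 F344013 F344011 (iv4 F188524) (iv1 F232781) (iv4 F308737) (iv3 F311961) (iv1 D123529)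
theorem F344016 : act 0 n127334 = n116136 := d20_4 (iv4 F103246) (iv1 F312566) (iv4 F313489) D127334 (iv3 F344013) (iv4 D123541) (iv1 F197948) F317092 (iv3 D67369) (iv1 F53875)
theorem F344017 : act 6 n116136 = n127931 := d21_5 (iv5 F306823) (iv1 F253863) (iv5 F306828) (iv6 F315957) F344016 (iv5 F317799) F318762 D148493 F317810 F305338
theorem F344018 : act 2 n141374 = n154619 := d15_3 (iv0 F344011) (iv0 F344016) (iv7 F224416)
theorem F344019 : act 4 n101323 = n141374 := d1_0 F344018 (iv4 D154619) (iv2 F308435)
theorem F344020 : act 6 n141374 = n157428 := d10_2 (iv6 F308436) F344019 (iv4 D157428)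
theorem F344021 : act 5 n154690 = n101345 := d16_3 F344019 F224415 F318152 (iv4 D101345) (iv5 D47177) D47176 D101343 F310325 (iv2 F308435)
theorem F344022 : act 5 n154691 = n101328 := d16_1 (iv4 F248078) (iv4 D101328) (iv5 D47172) D47171 D101323 F344019 F224415 F182428 (iv2 F320344)
theorem F344023 : act 0 n141374 = n156612 := d17_0 (iv5 D156612) (iv1 F321303) (iv5 F328205) F112430 F54486 F52721 D72417 (iv0 F308433) F344019
theorem F344024 : act 4 n156612 = n148951 := d18_3 (iv1 F308434) F344019 F344023 (iv5 D148951) F108928 (iv0 D72410) F52716 D33434 D72421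
theorem E99502 : n142054 = n141374 := ((c18_6 (iv1 D47166) F35278 D22694 D47171 D101323 F344019 (iv0 D142054) (iv4 F324798) (iv0 F210343) F310336)).symm
theorem F344025 : act 1 n141374 = n66617 := (sb E99502 (iv0 D142054))
theorem F344026 : act 0 n116820 = n124860 := d18_2 F327174 (iv4 F182405) F200539 F311846 (iv4 F311843) (iv0 F308433) F344019 F344025 (iv5 D66617)
theorem F344027 : act 5 n128047 = n177063 := d9_8 (iv5 F224415) (iv4 F344019) (iv5 D101323) (iv4 D47171) D47172 D101328 (iv5 F344022) F248078 (iv4 F310323) (iv5 D101343) (iv4 D47176) D47177 D101345 (iv5 F344021) (iv4 F318152)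
theorem F344028 : act 7 n177063 = n154619 := d16_8 (iv4 F344019) (iv5 D101323) (iv4 D47171) D47172 D101328 (iv5 F344022) F248078 F344027 (iv2 F344018)
theorem E99503 : n142037 = n99614 := ((c20_9 (iv4 F344019) F308433 F311843 (iv3 F316600) (iv1 D119476) F86990 F73557 D46560 D99614 F225062 (iv1 F344025))).symm
theorem F344029 : act 3 n99614 = n66617 := (sb E99503 F225062)
theorem F344030 : act 5 n99614 = n66610 := (sb E99503 (iv5 D142037))
theorem E99504 : n119481 = n66315 := (c20_3 F86991 D54974 D119481 F102223 D66316 D141374 (iv4 F344019) F308433 F311843 (iv3 F316600) (iv1 D119476))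
theorem E99505 : n141373 = n54974 := ((D141373).symm.trans (sb E99504 (iv4 D119481)))
theorem F344031 : act 4 n54974 = n66315 := (sb E99505 (iv4 D141373))
theorem E99506 : n127730 = n119483 := (((D119483).symm.trans (sb E99505 F224414))).symm
theorem F344032 : act 0 n119483 = n131366 := (sb E99506 F318857)
theorem F344033 : act 4 n119483 = n59964 := (sb E99506 (iv4 D127730))
theorem F344034 : act 7 n119483 = n133751 := (sb E99506 F318858)
theorem F344035 : act 6 n150096 = n119484 := d14_3 F344034 (iv6 F234301) (iv7 F236210) (iv7 D119484) D119483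
theorem E99507 : n148970 = n119488 := ((c3_3 F344035 F188279 D119488 (iv2 F236209))).symm
theorem F344036 : act 2 n119488 = n150096 := (sb E99507 (iv2 F236209))
theorem F344037 : act 4 n119488 = n69839 := (sb E99507 (iv4 D148970))
theorem F344038 : act 7 n119488 = n150100 := (sb E99507 (iv7 F236224))
theorem E99508 : n119484 = n119286 := (c10_1 F344035 (iv4 F338961) (iv6 F311674) D150096)
theorem F344039 : act 2 n119286 = n54975 := (sb E99508 F188279)
theorem F344040 : act 6 n119286 = n150096 := (sb E99508 (iv6 F344035))
theorem F344041 : act 7 n119286 = n54974 := (sb E99508 (iv7 D119484))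
theorem E99509 : n161508 = n155165 := ((c8_3 F344041 D119480 (iv7 F336286) (iv3 F343497))).symm
theorem F344042 : act 0 n155165 = n77542 := (sb E99509 (iv1 D161508))
theorem F344043 : act 3 n155165 = n119286 := (sb E99509 (iv3 F343497))
theorem F344044 : act 3 n150096 = n173201 := d7_3 (iv6 F334216) F344043 F344040
theorem F344045 : act 3 n101615 = n119488 := d0_4 F344044 (iv2 F334219) (iv3 D101616) (iv2 F156539) F344036
theorem F344046 : act 3 n160962 = n149024 := d8_3 (iv7 F236210) F344044 (iv7 F318084)
theorem F344047 : act 3 n133751 = n163678 := d7_3 F258005 F344046 F234301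
theorem F344048 : act 4 n161392 = n148969 := d20_0 (iv1 F234112) D149024 (iv3 F344046) F318081 (iv3 D77794) (iv4 F325330) D50644 F324935 D77476 D161392
theorem E99510 : n161392 = n98109 := ((c1_4 F344048 (iv2 F234111) (iv4 F307994) (iv2 F151266))).symm
theorem F344049 : act 0 n98109 = n77725 := (sb E99510 (iv1 F255217))
theorem F344050 : act 1 n98109 = n77476 := (sb E99510 (iv0 D161392))
theorem F344051 : act 4 n98109 = n148969 := (sb E99510 F344048)
theorem F344052 : act 3 n148969 = n98486 := d5_1 F344051 F151896 F72640 (iv4 F72374) (iv3 F151267)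
theorem F344053 : act 5 n167233 = n98109 := d17_3 (iv1 D80278) D80279 D167233 F344051 (iv5 F321075) F321072 (iv5 F79217) (iv0 F184624) F319020
theorem F344054 : act 1 n149029 = n145633 := d17_6 (iv1 F234112) (iv5 D69896) (iv1 D32459) D32460 D69900 D149029 F325024 (iv0 F344049) F344051
theorem F344055 : act 0 n98486 = n148961 := d20_4 F132663 (iv1 F344050) F344051 F344052 F234096 (iv4 F311102) (iv1 F342353) F342355 (iv3 F312349) F312347
theorem F344056 : act 4 n162722 = n99715 := d20_2 (iv4 F127679) (iv1 F334403) (iv3 D99715) F272739 (iv3 F151267) F344051 (iv1 F234112) D149024 (iv3 F344046) F318081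
theorem F344057 : act 0 n155147 = n119488 := d20_10 F344037 D148969 (iv4 F344051) F151267 F272738 F324655 (iv4 F324783) (iv1 F188983) (iv4 F119546) D155147
theorem E99511 : n101615 = n101607 := ((c20_5 (iv4 D46580) (iv1 F34820) (iv4 F35296) (iv3 F74516) (iv1 F156532) F344045 F344037 D148969 (iv4 F344051) F151267 F272738)).symm
theorem F344058 : act 2 n101607 = n47267 := (sb E99511 F156539)
theorem F344059 : act 3 n101607 = n119488 := (sb E99511 F344045)
theorem F344060 : act 4 n101607 = n55166 := (sb E99511 F316741)
theorem F344061 : act 6 n101607 = n73603 := (sb E99511 F316742)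
theorem F344062 : act 7 n101607 = n47266 := (sb E99511 (iv7 D101615))
theorem E99512 : n150100 = n101611 := ((c8_2 F344062 D101611 (iv7 F344038) (iv3 F344059))).symm
theorem F344063 : act 2 n101611 = n149024 := (sb E99512 F236222)
theorem F344064 : act 4 n101611 = n70631 := (sb E99512 (iv4 D150100))
theorem F344065 : act 6 n101611 = n131392 := (sb E99512 F236223)
theorem F344066 : act 7 n101611 = n119488 := (sb E99512 (iv7 F344038))
theorem E99513 : n119845 = n101612 := ((c11_2 F344062 D101612 F189156 (iv4 F344060))).symm
theorem F344067 : act 0 n101612 = n55157 := (sb E99513 (iv1 D119845))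
theorem F344068 : act 1 n101612 = n55168 := (sb E99513 F189155)
theorem F344069 : act 2 n101612 = n55167 := (sb E99513 (iv2 F189160))
theorem F344070 : act 3 n101612 = n70753 := (sb E99513 F309019)
theorem F344071 : act 5 n101612 = n75116 := (sb E99513 F189159)
theorem F344072 : act 6 n101612 = n58439 := (sb E99513 (iv6 F199919))
theorem F344073 : act 7 n101612 = n55166 := (sb E99513 F189156)
theorem E99514 : n125000 = n101614 := ((c14_2 F344062 D101614 F200782 (iv6 D73643) (iv7 F110287) (iv6 F344061))).symm
theorem F344074 : act 4 n101614 = n58439 := (sb E99514 (iv4 D125000))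
theorem F344075 : act 7 n101614 = n73643 := (sb E99514 F200782)
theorem E99515 : n101610 = n101606 := (c15_4 (iv0 D101606) D101607 F344062 D101610)
theorem F344076 : act 2 n101606 = n47266 := (sb E99515 (iv2 D101610))
theorem F344077 : act 4 n101606 = n55167 := (sb E99515 F316748)
theorem F344078 : act 7 n101606 = n47267 := (sb E99515 (iv7 F156538))
theorem F344079 : act 3 n173200 = n101606 := d8_3 F344078 D101616 F334221
theorem F344080 : act 0 n99715 = n155078 := d20_10 (iv4 F270066) F334244 F334246 F344079 (iv1 F156535) F74516 F35296 (iv1 F34816) D46585 D99715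
theorem F344081 : act 1 n99715 = n172788 := d15_1 (iv0 F344080) (iv7 D172788) (iv2 F243891)
theorem E99516 : n172788 = n161877 := ((c20_4 F344031 D141371 F333729 D161877 (iv1 F344081) (iv3 D99715) (iv4 D46585) (iv1 D22320) (iv4 F29564) (iv3 F42587) D54974)).symm
theorem F344082 : act 0 n161877 = n99715 := (sb E99516 (iv1 F344081))
theorem F344083 : act 7 n161877 = n82729 := (sb E99516 (iv7 D172788))
theorem F344084 : act 3 n131392 = n101614 := d5_5 F344074 F199917 F309022 F155492 D131392
theorem F344085 : act 7 n155153 = n131392 := d8_0 F344084 F344075 (iv3 F243966)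
theorem F344086 : act 2 n119483 = n155153 := d4_3 F344085 (iv2 F215288) (iv7 F344034)
theorem F344087 : act 4 n127716 = n155153 := d11_3 F344085 (iv4 D131392) (iv7 F318801)
theorem F344088 : act 1 n145261 = n155153 := d15_1 (iv0 F235424) F344085 (iv2 F215288)
theorem E99517 : n149276 = n149273 := ((c18_2 (iv1 F210610) D149273 (iv1 D149276) (iv4 F230854) F230855 (iv4 F228253) F344088 (iv4 F344087) F318799 (iv5 F210607))).symm
theorem F344089 : act 0 n149273 = n70068 := (sb E99517 (iv1 D149276))
theorem F344090 : act 3 n172446 = n135444 := d20_9 F200765 F199952 (iv4 F110334) (iv3 F243966) (iv1 F344088) F315646 (iv4 F155181) (iv1 F156675) F272680 F308620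
theorem E99518 : n179933 = n99707 := (c5_6 F272680 F344090 F308623 (iv3 D85976) D85977 D179933)
theorem F344091 : act 3 n99707 = n85977 := (sb E99518 (iv3 D179933))
theorem E99519 : n174022 = n135442 := ((c6_4 (iv5 F272678) F344090 (iv5 D135444) D135442)).symm
theorem F344092 : act 0 n135442 = n172273 := (sb E99519 (iv1 F272677))
theorem F344093 : act 1 n135442 = n83201 := (sb E99519 (iv0 D174022))
theorem F344094 : act 2 n135442 = n172270 := (sb E99519 (iv2 F272674))
theorem F344095 : act 4 n135442 = n158546 := (sb E99519 F272681)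
theorem F344096 : act 5 n135442 = n172446 := (sb E99519 (iv5 F272678))
theorem F344097 : act 7 n135442 = n172271 := (sb E99519 (iv7 F272675))
theorem F344098 : act 3 n124988 = n99698 := d8_3 F272683 F344090 F308625
theorem F344099 : act 2 n101757 = n155116 := d0_3 F344098 F156673 (iv3 F156631) F243932 F200762
theorem E99520 : n172271 = n127032 := (c6_3 F325866 F344098 (iv5 F272684) F204270)
theorem F344100 : act 0 n127032 = n82507 := (sb E99520 (iv1 D172271))
theorem F344101 : act 1 n127032 = n129688 := (sb E99520 (iv0 F339471))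
theorem F344102 : act 2 n127032 = n101766 := (sb E99520 (iv2 F272676))
theorem F344103 : act 5 n127032 = n99698 := (sb E99520 F272684)
theorem F344104 : act 7 n127032 = n135442 := (sb E99520 (iv7 F344097))
theorem F344105 : act 6 n135442 = n138118 := d14_1 F344104 F336102 (iv6 D136714) F100054 D127032
theorem F344106 : act 6 n185880 = n158546 := d10_2 F344105 (iv4 F336101) (iv4 F344095)
theorem F344107 : act 4 n172449 = n179819 := d17_9 (iv1 D179819) (iv5 F311784) (iv1 D100057) (iv5 D46719) (iv4 F58744) D82507 (iv0 F344100) F344103 F272753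
theorem F344108 : act 2 n179819 = n98972 := d1_1 F344107 (iv4 F272736) (iv2 F272686)
theorem F344109 : act 6 n179819 = n98956 := d10_2 F337637 F344107 (iv4 F337633)
theorem F344110 : act 7 n179819 = n88957 := d11_2 D172449 F344107 (iv4 F155440)
theorem F344111 : act 1 n133160 = n130135 := d18_6 (iv1 F272752) F344107 (iv1 D179819) F309572 (iv5 F308631) D133160 F208655 F339472 (iv5 F271103)
theorem F344112 : act 3 n176499 = n101767 := d20_9 F344107 (iv1 D179819) F309572 (iv3 F309571) (iv1 F118741) (iv3 F129156) F129157 D84156 D176499 (iv1 F272752)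
theorem F344113 : act 0 n133176 = n131352 := d20_4 F59677 D38783 (iv4 F305448) (iv3 F213954) (iv3 F337638) F344107 (iv1 D179819) F309572 (iv3 F309571) (iv1 F118741)
theorem E99521 : n170572 = n149265 := ((c18_7 F316656 (iv4 F307467) F344113 F210551 F96213 (iv4 F106462) D149265 (iv4 D170572) D170571 (iv5 F337079))).symm
theorem F344114 : act 4 n149265 = n81761 := (sb E99521 (iv4 D170572))
theorem F344115 : act 1 n133176 = n131390 := d15_1 (iv0 F344113) (iv7 D131390) (iv2 F210550)
theorem F344116 : act 1 n161841 = n131352 := d15_0 (iv0 F344113) (iv7 F307535) (iv2 F255810)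
theorem F344117 : act 1 n131390 = n161841 := d15_0 F344116 F337658 F337659
theorem F344118 : act 5 n129691 = n161841 := d17_7 F155496 F315911 (iv1 F317384) (iv5 F210713) F306999 F322468 F326063 F344116 F210551
theorem F344119 : act 4 n161841 = n131367 := d20_2 (iv4 F210551) (iv1 F344116) (iv3 F232770) F205867 F205863 (iv4 F311127) (iv1 D119829) F309255 (iv3 F318800) F318798
theorem F344120 : act 3 n131388 = n161841 := d5_5 F344119 (iv3 F232770) (iv4 F209982) F238916 (iv4 F337663)
theorem F344121 : act 7 n131388 = n161841 := d11_0 F344119 (iv7 F238915) (iv4 F337663)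
theorem F344122 : act 0 n131363 = n133747 := d20_4 (iv4 F344119) (iv1 F344117) F210598 (iv3 F210574) (iv3 D133747) (iv4 F314126) (iv1 F194697) (iv4 F312456) F114993 D131367
theorem E99522 : n163788 = n133747 := ((c20_11 (iv4 D163788) F332099 D110657 F326958 F112584 F232770 (iv4 F344119) (iv1 F344117) F210598 (iv3 F210574) F344122)).symm
theorem F344123 : act 2 n133747 = n84431 := (sb E99522 F332095)
theorem F344124 : act 4 n133747 = n78683 := (sb E99522 (iv4 D163788))
theorem F344125 : act 6 n133747 = n84429 := (sb E99522 F332096)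
theorem F344126 : act 7 n133747 = n131360 := (sb E99522 F337672)
theorem F344127 : act 6 n149000 = n174099 := d14_3 F344126 (iv6 F337671) (iv7 F307437) F272904 (iv6 F344125)
theorem F344128 : act 1 n177203 = n131360 := d15_1 D177203 (iv7 F344126) F344123
theorem F344129 : act 2 n131363 = n177203 := d15_3 F344128 (iv0 D131360) D131363
theorem F344130 : act 5 n170463 = n177203 := d17_7 (iv1 D129902) F326963 (iv1 F82248) (iv5 F327536) F118923 D81719 D170463 F344128 F337668
theorem F344131 : act 4 n170463 = n136742 := d17_4 F337680 F337673 (iv1 F344128) (iv5 F344130) (iv5 D136742) (iv0 F103661) (iv5 F332111) F231431 (iv4 F231433)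
theorem F344132 : act 7 n177203 = n131353 := d16_8 (iv4 F341895) (iv5 D113294) F82675 (iv5 F48694) (iv4 F100087) D136742 (iv4 F344131) F344130 F210552
theorem E99523 : n181037 = n177203 := (c14_6 F344132 (iv6 D131353) (iv7 F311865) D179371 F341987 D181037)
theorem F344133 : act 6 n177203 = n86460 := (sb E99523 (iv6 D181037))
theorem E99524 : n131361 = n84431 := (c15_1 D131361 D177203 F344132 F210552)
theorem E99525 : n177202 = n61654 := ((D177202).symm.trans (sb E99524 (iv1 D131361)))
theorem F344134 : act 1 n61654 = n84431 := (sb E99525 (iv0 D177202))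
theorem F344135 : act 1 n125248 = n131353 := d15_1 (iv0 F341882) (iv7 F344132) (iv2 F344129)
theorem F344136 : act 1 n131353 = n133747 := d15_1 F344135 F344126 (iv2 F337669)
theorem F344137 : act 4 n148331 = n131353 := d20_0 (iv1 F344135) F201395 (iv3 D84166) (iv1 F59820) (iv3 F319731) F319732 (iv1 F330234) (iv4 F232126) (iv3 D148333) D148331
theorem F344138 : act 3 n174177 = n148331 := d20_5 F59665 F29592 (iv4 F59189) (iv3 F128332) D174177 F344137 (iv1 F344135) F201395 (iv3 D84166) (iv1 F59820)
theorem E99526 : n170515 = n170453 := (c21_2 F201396 D170515 (iv5 D170453) (iv6 F312086) (iv1 F123664) (iv6 F307174) (iv5 D62761) (iv1 F54253) D61649 D131353 (iv1 F344135))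
theorem F344139 : act 1 n170453 = n81739 := (sb E99526 (iv0 D170515))
theorem E99527 : n170453 = n147684 := ((c18_8 F341882 (iv4 F213643) F319527 (iv4 D69516) (iv5 D32276) (iv4 F51139) D69209 D147684 F344139 (iv5 F201396))).symm
theorem F344140 : act 1 n147684 = n81739 := (sb E99527 F344139)
theorem F344141 : act 5 n147684 = n81716 := (sb E99527 (iv5 D170453))
theorem F344142 : act 7 n127719 = n147684 := d13_0 F344141 (iv7 F317487) (iv5 F340797)
theorem E99528 : n147677 = n147665 := (c11_3 F344142 (iv4 D147684) F231441 (iv4 F231433))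
theorem F344143 : act 2 n147665 = n69208 := (sb E99528 (iv2 D147677))
theorem F344144 : act 7 n147665 = n69209 := (sb E99528 (iv7 F231441))
theorem E99529 : n147682 = n147666 := (c15_4 F231427 F231431 F344144 (iv2 F231442))
theorem F344145 : act 2 n147666 = n69209 := (sb E99529 F231442)
theorem F344146 : act 7 n147666 = n69208 := (sb E99529 (iv7 D147682))
theorem F344147 : act 2 n147679 = n127719 := d1_3 F231433 F344143 D147679
theorem E99530 : n156601 = n147685 := (c18_4 (iv1 F219563) F219560 (iv1 F165263) D156601 (iv5 D147685) D147684 F344140 (iv4 F332092) (iv0 F332097) F334103)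
theorem F344148 : act 0 n147685 = n107603 := (sb E99530 F246288)
theorem F344149 : act 1 n147685 = n107680 := (sb E99530 (iv0 F246289))
theorem F344150 : act 2 n147685 = n107678 := (sb E99530 F246286)
theorem F344151 : act 4 n147685 = n74464 := (sb E99530 (iv4 D156601))
theorem F344152 : act 7 n147685 = n107677 := (sb E99530 F246287)
theorem F344153 : act 5 n107677 = n147665 := d13_1 F344152 F344144 D147685
theorem F344154 : act 2 n147680 = n107677 := d2_3 F344153 F344143 D147680
theorem F344155 : act 4 n106982 = n147680 := d1_0 F344154 F166311 (iv2 F164894)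
theorem F344156 : act 6 n107274 = n147680 := d3_0 F344154 (iv6 F166478) F166476
theorem F344157 : act 7 n107678 = n147680 := d4_0 F344154 (iv7 F344152) F344150
theorem F344158 : act 1 n147680 = n107603 := d15_0 (iv0 F344148) F344152 (iv2 F344154)
theorem F344159 : act 5 n126710 = n147668 := d17_5 (iv1 F166076) D108229 F167358 F93848 D126710 F231434 D147680 F344158 F166019
theorem F344160 : act 5 n170464 = n136455 := d18_4 F331699 (iv4 F344131) (iv1 D170463) D170464 F219560 F165264 F344155 F344158 F331694
theorem E99531 : n175376 = n147681 := ((c21_4 (iv5 F331694) (iv1 F344158) (iv5 D147680) D147681 (iv1 D175376) F332285 (iv5 F156014) (iv1 D101257) F87992 D120682 F332299)).symm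
theorem F344161 : act 0 n147681 = n83749 := (sb E99531 (iv1 D175376))
theorem E99532 : n175330 = n147681 := (c20_4 F323228 (iv1 F342676) (iv4 D175739) (iv3 F274377) F344161 (iv3 D83749) D83750 (iv1 F274412) (iv4 F274413) F342644 (iv1 F263823))
theorem F344162 : act 3 n147681 = n83890 := (sb E99532 F274377)
theorem F344163 : act 5 n147681 = n83730 := (sb E99532 (iv5 D175330))
theorem E99533 : n176286 = n133256 := (c17_2 F315326 D176286 (iv1 F327909) F327912 F186475 F332291 (iv0 F344161) F344163 (iv0 F315334) (iv4 F315327))
theorem F344164 : act 5 n133256 = n84071 := (sb E99533 (iv5 D176286))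
theorem E99534 : n173923 = n119693 := (c18_6 (iv1 D83730) D83732 (iv1 F313065) F120110 D83167 D173923 (iv0 F188826) F332287 (iv0 F344161) F344163)
theorem F344165 : act 4 n119693 = n83167 := (sb E99534 (iv4 D173923))
theorem E99535 : n173909 = n152435 := (c5_2 F344165 (iv3 F272555) F283772 D164510 (iv4 F315716) F315715)
theorem F344166 : act 3 n152435 = n83167 := (sb E99535 F272555)
theorem F344167 : act 5 n152435 = n83164 := (sb E99535 (iv5 D173909))
theorem F344168 : act 5 n173726 = n164213 := d13_3 (iv7 F283773) F344167 (iv7 F315790)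
theorem E99536 : n171093 = n123115 := ((c17_3 (iv1 D57290) D57291 D123115 (iv5 D171093) D171092 F332323 F325425 F344167 (iv0 F315795) (iv4 D123112))).symm
theorem F344169 : act 2 n123115 = n184484 := (sb E99536 (iv2 F286417))
theorem F344170 : act 5 n123115 = n82003 := (sb E99536 (iv5 D171093))
theorem F344171 : act 7 n123115 = n184488 := (sb E99536 (iv7 F286429))
theorem E99537 : n171096 = n123116 := ((c15_2 (iv0 D123115) D123116 (iv7 F286419) (iv2 F344169))).symm
theorem F344172 : act 2 n123116 = n184488 := (sb E99537 (iv2 F286428))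
theorem E99538 : n136401 = n101077 := (((iv3 F335884)).symm.trans (sb E99537 F268818))
theorem F344173 : act 5 n123116 = n82004 := (sb E99537 (iv5 D171096))
theorem F344174 : act 7 n123116 = n184484 := (sb E99537 (iv7 F286419))
theorem F344175 : act 3 n101077 = n123116 := (sb E99538 F335884)
theorem F344176 : act 4 n101077 = n105489 := (sb E99538 F219506)
theorem F344177 : act 6 n101077 = n64123 := (sb E99538 (iv6 D136401))
theorem F344178 : act 6 n105494 = n150113 := d3_2 F344177 (iv2 F161943) F236260
theorem F344179 : act 6 n136400 = n123116 := d7_2 F344177 D136400 (iv3 F344175)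
theorem F344180 : act 0 n101106 = n136406 := d21_1 D101106 (iv5 D136406) (iv6 D64125) D64123 (iv6 F344177) (iv5 D101077) (iv1 D47085) D47086 F74342 D47098
theorem E99539 : n136528 = n101107 := (c21_5 F99809 (iv1 F48622) D30241 D64181 D136528 (iv6 D101107) D101106 F344180 (iv5 D136406) (iv6 D64125) D64123)
theorem F344181 : act 1 n101107 = n64181 := (sb E99539 (iv0 D136528))
theorem F344182 : act 2 n96154 = n136406 := d15_3 (iv0 F344180) (iv0 F338298) (iv7 F147824)
theorem E99540 : n132194 = n90914 := (c2_4 F293909 F344182 (iv5 D136406) (iv2 F211776))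
theorem F344183 : act 2 n90914 = n64125 := (sb E99540 F211776)
theorem F344184 : act 4 n90914 = n129422 := (sb E99540 F211777)
theorem F344185 : act 6 n90914 = n62019 := (sb E99540 (iv6 D132194))
theorem F344186 : act 6 n136440 = n104007 := d14_5 (iv7 F293910) F344185 F96634 D64142 D136440
theorem F344187 : act 3 n104008 = n136440 := d7_3 F344186 (iv3 D104007) D104008
theorem F344188 : act 7 n136432 = n104008 := d8_0 F344187 (iv7 D136440) (iv3 F219533)
theorem F344189 : act 2 n136395 = n104006 := d0_3 D90914 F344183 (iv3 F219501) (iv3 D104006) (iv2 F292896)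
theorem F344190 : act 2 n136407 = n104007 := d4_3 (iv7 F293910) F344183 D136407
theorem F344191 : act 1 n136405 = n104007 := d15_1 D136405 (iv7 F293910) F344183
theorem F344192 : act 1 n104007 = n136404 := d15_0 (iv0 D136404) D136407 F344190
theorem E99541 : n136404 = n101038 := ((c20_4 F340058 (iv1 F340066) (iv4 D184498) (iv3 F155643) (iv1 F344192) (iv3 D104007) (iv4 F154596) (iv1 F154597) (iv4 D46910) (iv3 F74119) D100548)).symm
theorem F344193 : act 0 n101038 = n104007 := (sb E99541 (iv1 F344192))
theorem F344194 : act 1 n101038 = n64125 := (sb E99541 (iv0 D136404))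
theorem E99542 : n136405 = n101041 := (c15_2 F344194 D136405 F155700 F155697)
theorem F344195 : act 0 n101041 = n64125 := (sb E99542 (iv1 D136405))
theorem F344196 : act 1 n101041 = n104007 := (sb E99542 F344191)
theorem F344197 : act 0 n101118 = n136379 := d21_4 (iv5 D101038) (iv1 F74326) (iv5 F74348) D101118 (iv6 D136379) (iv5 D64117) (iv1 D30218) D30220 D64125 (iv1 F344194)
theorem F344198 : act 5 n90311 = n100531 := d19_17 (iv1 F344196) (iv5 D101041) F153148 F335922 (iv1 F244607) (iv5 D155588) (iv4 D74020) F86463 F86465 F42319 (iv4 F42298) F42297 (iv1 F27330) D25623 D52787 (iv3 F329912) F139683 F154596 D104007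
theorem E99543 : n101042 = n99752 := (c21_10 F337255 (iv1 F337251) (iv5 D89397) (iv6 F337240) F337236 D89472 (iv5 F159457) (iv1 F344196) (iv5 D101041) D101042 (iv1 F287569))
theorem F344199 : act 2 n99752 = n47097 := (sb E99543 F155701)
theorem F344200 : act 6 n99752 = n47074 := (sb E99543 (iv6 D101042))
theorem F344201 : act 7 n185303 = n99752 := d14_0 F344200 F155654 F338430 (iv7 F338432) F338451
theorem F344202 : act 5 n186544 = n99752 := d21_2 D88850 D186544 F344200 (iv1 D47074) (iv6 D22640) F27270 (iv1 F51853) (iv5 F58824) D82683 (iv1 F337260)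
theorem F344203 : act 0 n101111 = n89472 := d21_10 (iv5 F159457) (iv1 F344196) (iv5 D101041) (iv6 F344200) (iv1 F287569) F287567 F338476 (iv1 F218993) (iv5 F338481) F155774
theorem F344204 : act 2 n101101 = n186544 := d2_3 F344202 F344199 D101101
theorem F344205 : act 7 n148052 = n186544 := d13_0 F344202 (iv7 F344201) (iv5 F337276)
theorem F344206 : act 4 n117264 = n186544 := d17_4 (iv1 D117271) (iv5 D54046) D54044 D117264 F344202 (iv0 D99752) (iv5 F73588) (iv0 F337241) (iv4 F337247)
theorem F344207 : act 4 n101101 = n148545 := d1_2 F344206 (iv2 F344204) F233320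
theorem E99544 : n182994 = n89153 := ((c18_3 D88847 (iv4 F337263) (iv1 F241334) (iv4 D182994) D182995 (iv4 F339710) (iv0 F233280) F344206 (iv0 D186544) (iv5 D88850))).symm
theorem F344208 : act 4 n89153 = n87360 := (sb E99544 (iv4 D182994))
theorem E99545 : n182993 = n88922 := (c5_2 F344208 D182993 (iv4 F147372) F147371 (iv4 F289549) (iv3 F337271))
theorem F344209 : act 3 n88922 = n87360 := (sb E99545 (iv3 D182993))
theorem F344210 : act 1 n91131 = n89154 := d17_6 (iv1 D87360) D87361 (iv1 F293415) (iv5 D95389) F70069 D91131 (iv5 D89154) D89153 F344208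
theorem F344211 : act 3 n89232 = n122399 := d20_5 (iv4 F344208) (iv1 D89153) (iv4 F127381) (iv3 F133456) (iv1 F337266) (iv4 D122399) (iv1 F89711) F72613 (iv3 F107133) (iv1 F134118)
theorem F344212 : act 2 n122399 = n89204 := d0_1 F344211 (iv3 D89204) (iv2 F64320) D41692 D89232
theorem F344213 : act 7 n89241 = n122399 := d4_0 F344212 F136915 D89241
theorem E99546 : n186561 = n186482 := ((c20_11 (iv4 F289498) (iv1 F149588) F147372 F344209 (iv1 D87360) (iv3 F134116) F134117 (iv1 F335615) (iv4 D88822) D88821 D186482)).symm
theorem F344214 : act 3 n186482 = n88857 := (sb E99546 (iv3 D186561))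
theorem F344215 : act 4 n186482 = n96995 := (sb E99546 (iv4 F289498))
theorem F344216 : act 7 n89090 = n186482 := d8_0 F344214 F335726 (iv3 F136801)
theorem E99547 : n183217 = n96995 := ((c11_2 F344216 F344215 (iv7 D183217) (iv4 F136802))).symm
theorem F344217 : act 6 n96995 = n95611 := (sb E99547 F289561)
theorem F344218 : act 7 n96995 = n87458 := (sb E99547 (iv7 D183217))
theorem F344219 : act 2 n96995 = n95679 := d15_3 F149594 F289532 (iv7 F344218)
theorem F344220 : act 6 n95679 = n183222 := d3_2 (iv6 F344217) F344219 F289560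
theorem F344221 : act 7 n95679 = n96947 := d4_2 (iv7 F344218) F344219 F149500
theorem F344222 : act 3 n183222 = n95679 := d8_3 F344221 F149501 D183222
theorem E99548 : n101101 = n89407 := ((c17_4 (iv1 F329753) F153556 F287564 (iv5 F343875) F344207 (iv5 F233319) (iv0 D117241) F85260 F183639 D117287)).symm
theorem F344223 : act 2 n89407 = n186544 := (sb E99548 F344204)
theorem F344224 : act 4 n89407 = n148545 := (sb E99548 F344207)
theorem E99549 : n185304 = n47097 := ((F343875).symm.trans (sb E99548 (iv5 D101101)))
theorem E99550 : n101099 = n88286 := ((D101099).symm.trans (sb E99549 (iv1 D185304)))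
theorem E99551 : n101100 = n99747 := ((D101100).symm.trans (sb E99549 (iv0 F287564)))
theorem E99552 : n99432 = n91130 := (((iv4 F153169)).symm.trans (sb E99549 (iv4 F339712)))
theorem F344225 : act 5 n47097 = n89407 := (sb E99549 (iv5 F343875))
theorem F344226 : act 1 n88286 = n47097 := (sb E99550 (iv0 D101099))
theorem F344227 : act 0 n99747 = n47097 := (sb E99551 (iv1 D101100))
theorem F344228 : act 4 n91130 = n47097 := (sb E99552 F153169)
theorem F344229 : act 6 n91130 = n46489 := (sb E99552 (iv6 D99432))
theorem E99553 : n185049 = n93335 := ((c7_2 F344229 F153157 (iv6 D185049) (iv3 F339711))).symm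
theorem F344230 : act 6 n93335 = n88203 := (sb E99553 (iv6 D185049))
theorem E99554 : n185045 = n101201 := (c3_2 F344230 D185045 (iv6 D101201) F155689)
theorem F344231 : act 2 n101201 = n88203 := (sb E99554 (iv2 D185045))
theorem F344232 : act 7 n101201 = n88204 := (sb E99554 (iv7 F287437))
theorem F344233 : act 6 n185047 = n149657 := d10_2 F344230 D185047 (iv4 F235260)
theorem E99555 : n185048 = n182153 := ((c21_2 D86978 D182153 (iv5 D185048) (iv6 F344230) (iv1 F143942) (iv6 D47127) (iv5 F44096) (iv1 F62316) F64305 D86948 (iv1 F333362))).symm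
theorem F344234 : act 5 n182153 = n88203 := (sb E99555 (iv5 D185048))
theorem E99556 : n101381 = n101096 := (c20_5 F70829 F290920 F70674 (iv3 F74469) D101381 F155768 (iv4 F344228) (iv1 D91130) (iv4 F70069) (iv3 D44553) D44551)
theorem F344235 : act 1 n101096 = n47187 := (sb E99556 (iv0 D101381))
theorem E99557 : n184513 = n101382 := ((c15_2 F344235 D101382 (iv7 D184513) (iv2 F155767))).symm
theorem F344236 : act 7 n101382 = n87992 := (sb E99557 (iv7 D184513))
theorem E99558 : n101087 = n90914 := (c21_8 (iv5 D64671) (iv1 F99573) F328621 D99747 F344227 (iv6 D47097) D47096 (iv1 F155760) F293909 (iv6 F152606) F329008)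
theorem F344237 : act 0 n90914 = n47091 := (sb E99558 (iv1 D101087))
theorem F344238 : act 1 n90914 = n47096 := (sb E99558 F155760)
theorem E99559 : n137597 = n89410 := ((c21_5 F344225 (iv1 D89407) (iv5 D41749) D41750 D89410 (iv6 D137597) (iv5 D64671) (iv1 F99573) F328621 D99747 F344227)).symm
theorem F344239 : act 6 n89410 = n64671 := (sb E99559 (iv6 D137597))
theorem F344240 : act 7 n93232 = n89410 := d14_0 F344239 (iv7 F219008) F339534 (iv7 D93233) D93232
theorem F344241 : act 5 n99433 = n89410 := d21_8 (iv5 D102200) (iv1 F328959) (iv5 D99420) (iv6 D46486) (iv1 D22281) D22283 D46490 D99433 F344239 (iv1 F328963)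
theorem F344242 : act 6 n99433 = n136020 := d12_2 (iv6 F344239) (iv5 F344241) (iv5 F218861) (iv6 D64672) D64671
theorem F344243 : act 2 n137226 = n99433 := d3_3 F344242 (iv2 F219001) D137226
theorem F344244 : act 7 n99434 = n137226 := d15_2 (iv0 D99433) D99434 F344243
theorem F344245 : act 4 n89410 = n101106 := d17_4 (iv1 D46489) D46490 D99433 F344241 (iv5 D101106) (iv0 D47098) (iv5 D22649) D22648 (iv4 F153158)
theorem F344246 : act 6 n101106 = n137596 := d10_2 (iv6 F344239) F344245 (iv4 D137596)
theorem F344247 : act 7 n101106 = n89167 := d11_2 F344240 F344245 (iv4 F295299)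
theorem E99560 : n183998 = n101105 := ((c18_6 (iv1 D103925) F293940 D89410 F344245 (iv5 D101106) D101105 (iv0 D183998) (iv4 D87772) D87771 (iv5 F343880))).symm
theorem F344248 : act 1 n101105 = n87772 := (sb E99560 (iv0 D183998))
theorem E99561 : n101108 = n101044 := ((c13_2 F344247 F155703 (iv7 D101108) D101106)).symm
theorem F344249 : act 2 n101044 = n47099 := (sb E99561 F155770)
theorem F344250 : act 7 n101044 = n47098 := (sb E99561 (iv7 D101108))
theorem F344251 : act 2 n89167 = n101111 := d15_3 (iv0 F338485) (iv0 F344180) F344247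
theorem E99562 : n89164 = n89156 := ((c3_3 D89167 F344251 (iv6 F155774) (iv2 D89164))).symm
theorem F344252 : act 2 n89156 = n41653 := (sb E99562 (iv2 D89164))
theorem E99563 : n93228 = n91001 := ((((iv4 F294779)).symm.trans (sb E99562 (iv4 F295297)))).symm
theorem F344253 : act 7 n89156 = n41654 := (sb E99562 (iv7 F136875))
theorem F344254 : act 2 n91001 = n43615 := (sb E99563 (iv2 D93228))
theorem F344255 : act 7 n91001 = n43616 := (sb E99563 (iv7 F143808))
theorem F344256 : act 7 n93234 = n89200 := d8_2 F344255 D93234 (iv3 F294778)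
theorem E99564 : n93233 = n91000 := (c15_4 (iv0 D91000) D91001 F344255 (iv2 F143810))
theorem F344257 : act 2 n91000 = n43616 := (sb E99564 F143810)
theorem E99565 : n89168 = n89157 := (((F294777).symm.trans (sb E99564 F295300))).symm
theorem F344258 : act 6 n91000 = n136082 := (sb E99564 (iv6 F339534))
theorem F344259 : act 7 n91000 = n43615 := (sb E99564 (iv7 D93233))
theorem F344260 : act 2 n89157 = n41654 := (sb E99565 F136876)
theorem F344261 : act 7 n89157 = n41653 := (sb E99565 (iv7 D89168))
theorem F344262 : act 7 n89165 = n186448 := d8_2 F344261 D89165 (iv3 F289260)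
theorem F344263 : act 7 n89017 = n93995 := d11_2 F344262 (iv4 F289261) (iv4 F144819)
theorem F344264 : act 2 n186448 = n182055 := d15_3 (iv0 F294968) F294969 F344262
theorem F344265 : act 2 n89165 = n182694 := d15_3 F294955 D186448 (iv7 F344262)
theorem E99566 : n182693 = n86949 := (c0_4 D89165 F344265 (iv3 D182694) (iv2 F284268) F150720 F344252)
theorem E99567 : n182050 = n87214 := ((D182050).symm.trans (sb E99566 F284268))
theorem E99568 : n182054 = n87213 := ((D182054).symm.trans (sb E99566 (iv7 D182693)))
theorem F344266 : act 2 n87214 = n86949 := (sb E99567 (iv2 D182050))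
theorem E99569 : n182689 = n86950 := ((F284267).symm.trans (sb E99567 (iv7 F283457)))
theorem F344267 : act 7 n87213 = n86949 := (sb E99568 (iv7 D182054))
theorem F344268 : act 2 n86950 = n87213 := (sb E99569 (iv2 D182689))
theorem F344269 : act 7 n86950 = n87214 := (sb E99569 (iv7 F284267))
theorem F344270 : act 2 n89016 = n93995 := d1_3 (iv4 F144819) F344265 (iv4 F295035)
theorem F344271 : act 7 n182694 = n182055 := d4_2 (iv7 F344262) F344265 (iv2 F344264)
theorem F344272 : act 7 n93994 = n89016 := d11_2 F344271 F283463 F295035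
theorem F344273 : act 2 n89017 = n93994 := d4_3 F344272 F344270 (iv7 F344263)
theorem F344274 : act 7 n94132 = n93789 := d8_2 F344272 (iv3 F145089) (iv3 F144817)
theorem E99570 : n93782 = n44014 := (c11_3 F344274 (iv4 D93789) F144564 D94132)
theorem E99571 : n94130 = n43839 := ((D94130).symm.trans (sb E99570 (iv2 D93782)))
theorem E99572 : n94135 = n43840 := ((D94135).symm.trans (sb E99570 (iv7 F144564)))
theorem F344275 : act 2 n43839 = n44014 := (sb E99571 (iv2 D94130))
theorem E99573 : n93787 = n44015 := ((D93787).symm.trans (sb E99571 (iv7 F145088)))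
theorem F344276 : act 7 n43840 = n44014 := (sb E99572 (iv7 D94135))
theorem F344277 : act 2 n44015 = n43840 := (sb E99573 F144567)
theorem F344278 : act 7 n44015 = n43839 := (sb E99573 (iv7 D93787))
theorem F344279 : act 2 n94132 = n93784 := d15_3 (iv0 F178353) F178354 (iv7 F344274)
theorem E99574 : n98691 = n90991 := (c0_4 (iv3 F145089) F344279 (iv3 F144565) D98691 F292998 (iv2 F344270))
theorem F344280 : act 2 n90991 = n46137 := (sb E99574 (iv2 D98691))
theorem F344281 : act 7 n90991 = n46138 := (sb E99574 (iv7 F152156))
theorem F344282 : act 7 n94137 = n93784 := d15_2 (iv0 F178358) F178359 (iv2 F344279)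
theorem F344283 : act 2 n93789 = n94137 := d4_3 F344282 (iv2 F344279) F344274
theorem E99575 : n98695 = n90990 := (c8_3 F344282 (iv3 F144565) D98695 (iv3 F293983))
theorem F344284 : act 2 n90990 = n46138 := (sb E99575 F152159)
theorem F344285 : act 7 n90990 = n46137 := (sb E99575 (iv7 D98695))
theorem F344286 : act 7 n98697 = n93229 := d11_2 F344281 D98697 F143809
theorem F344287 : act 2 n93229 = n98692 := d15_3 (iv0 F294811) F294812 F344286
theorem F344288 : act 2 n93257 = n89200 := d0_3 D93229 F344287 (iv3 F294591) (iv3 F294778) F344254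
theorem F344289 : act 7 n89201 = n93257 := d15_2 (iv0 D89200) D89201 F344288
theorem F344290 : act 2 n89201 = n93234 := d4_3 F344256 (iv2 F344288) (iv7 F344289)
theorem F344291 : act 7 n93783 = n94136 := d11_2 F344289 F294592 F145092
theorem F344292 : act 7 n93785 = n94138 := d13_2 F344278 D93785 (iv5 D94138)
theorem F344293 : act 2 n93785 = n94133 := d15_3 F295140 (iv0 F335776) (iv7 F344292)
theorem F344294 : act 2 n93790 = n94138 := d2_3 (iv5 D94138) F344277 D93790
theorem F344295 : act 2 n93791 = n94139 := d3_3 (iv6 D94139) F344277 D93791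
theorem F344296 : act 2 n185855 = n185753 := d2_3 (iv5 F335769) F344295 (iv5 F290245)
theorem F344297 : act 7 n185754 = n185855 := d15_2 (iv0 D185753) D185754 F344296
theorem F344298 : act 7 n185854 = n185753 := d15_2 F288283 F288282 (iv2 F344296)
theorem F344299 : act 2 n185754 = n185854 := d4_3 F344298 (iv2 F344296) (iv7 F344297)
theorem F344300 : act 7 n94133 = n93790 := d4_0 F344294 (iv7 F344292) F344293
theorem E99576 : n176930 = n93785 := (c15_2 F335771 D176930 F344292 (iv2 F344294))
theorem F344301 : act 0 n93785 = n84335 := (sb E99576 (iv1 D176930))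
theorem F344302 : act 1 n93785 = n98038 := (sb E99576 F276285)
theorem F344303 : act 7 n94131 = n93788 := d8_2 F344276 D94131 (iv3 D93788)
theorem F344304 : act 2 n93788 = n159831 := d15_3 F251924 (iv0 F151943) F344303
theorem F344305 : act 2 n94131 = n182051 := d15_3 (iv0 F283459) F157563 (iv7 F344303)
theorem F344306 : act 7 n182051 = n159831 := d4_2 (iv7 F344303) F344305 (iv2 F344304)
theorem F344307 : act 2 n94134 = n93786 := d3_3 (iv6 D93786) F344275 D94134
theorem F344308 : act 2 n90291 = n92587 := d2_3 (iv5 F145090) F344307 F144566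
theorem F344309 : act 7 n92586 = n90291 := d15_2 F142614 F142619 F344308
theorem F344310 : act 7 n90290 = n92587 := d15_2 F142620 F142621 (iv2 F344308)
theorem F344311 : act 2 n92586 = n90290 := d4_3 F344310 (iv2 F344308) (iv7 F344309)
theorem F344312 : act 7 n182696 = n182056 := d13_2 F344269 D182696 (iv5 D182056)
theorem F344313 : act 2 n182691 = n182056 := d2_3 (iv5 D182056) F344268 D182691
theorem F344314 : act 2 n182692 = n182057 := d3_3 (iv6 D182057) F344268 D182692
theorem F344315 : act 5 n182057 = n185026 := d2_2 (iv5 F339542) F344314 (iv2 D185026)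
theorem F344316 : act 7 n185034 = n182057 := d15_2 F339555 (iv0 F287431) (iv2 F344314)
theorem E99577 : n185026 = n183853 := ((c21_2 D88195 (iv1 F285663) (iv5 F344315) (iv6 D182057) (iv1 D86950) (iv6 D40370) (iv5 F35261) (iv1 F74317) (iv5 D47065) D47066 (iv1 F290188))).symm
theorem F344317 : act 2 n183853 = n88199 := (sb E99577 (iv2 D185026))
theorem F344318 : act 5 n183853 = n182057 := (sb E99577 (iv5 F344315))
theorem F344319 : act 7 n183853 = n88200 := (sb E99577 (iv7 F287428))
theorem E99578 : n185031 = n183852 := (c15_4 (iv0 D183852) D183853 F344319 (iv2 F287429))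
theorem F344320 : act 2 n183852 = n88200 := (sb E99578 F287429)
theorem F344321 : act 7 n183852 = n88199 := (sb E99578 (iv7 D185031))
theorem E99579 : n185019 = n182409 := ((c21_4 D86951 (iv1 F328105) F328106 D182409 (iv1 D185019) (iv6 D88196) D88195 (iv1 F285663) F344318 (iv6 D182057) (iv1 D86950))).symm
theorem F344322 : act 0 n182409 = n88196 := (sb E99579 (iv1 D185019))
theorem F344323 : act 1 n182409 = n88206 := (sb E99579 F287403)
theorem F344324 : act 7 n137582 = n182691 := d13_2 F344267 (iv5 F338483) (iv5 D182691)
theorem F344325 : act 2 n182696 = n137582 := d4_3 F344324 F344313 (iv7 F344312)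
theorem F344326 : act 3 n182691 = n137576 := d8_1 F344324 (iv7 F220748) D137582
theorem F344327 : act 1 n182056 = n182415 := d15_0 (iv0 F338482) F344324 F344313
theorem E99580 : n185175 = n182057 := ((c21_10 (iv5 D88249) (iv1 F285653) (iv5 D88188) (iv6 F290200) (iv1 F290172) F292333 D182415 (iv1 F344327) (iv5 D182056) D182057 (iv1 D185175))).symm
theorem F344328 : act 0 n182057 = n88249 := (sb E99580 (iv1 D185175))
theorem F344329 : act 2 n185034 = n185174 := d15_3 (iv0 D185174) (iv0 F344328) (iv7 F344316)
theorem F344330 : act 5 n185174 = n183852 := d2_2 D185034 F344329 F344320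
theorem F344331 : act 7 n185174 = n182692 := d4_2 (iv7 F344316) F344329 F344314
theorem F344332 : act 1 n185167 = n182692 := d15_1 F339549 (iv7 F344331) (iv2 F344329)
theorem E99581 : n182691 = n182419 := ((c21_8 (iv5 D185167) (iv1 F285652) (iv5 D183848) (iv6 F290223) F290167 F291462 D87099 D182419 (iv5 D182691) D182692 (iv1 F344332))).symm
theorem F344333 : act 2 n182419 = n182056 := (sb E99581 F344313)
theorem F344334 : act 3 n182419 = n137576 := (sb E99581 F344326)
theorem F344335 : act 5 n182419 = n87213 := (sb E99581 (iv5 D182691))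
theorem F344336 : act 7 n182419 = n137582 := (sb E99581 (iv7 F344324))
theorem E99582 : n137576 = n89171 := ((c6_3 F344335 (iv3 F294952) D89171 (iv3 F344334))).symm
theorem F344337 : act 2 n89171 = n64664 := (sb E99582 (iv2 D137576))
theorem F344338 : act 3 n89171 = n182419 := (sb E99582 (iv3 F344334))
theorem F344339 : act 7 n89171 = n64665 := (sb E99582 (iv7 F220748))
theorem E99583 : n137581 = n89166 := (c15_4 (iv0 F329582) (iv0 F338455) F344339 (iv2 F220750))
theorem F344340 : act 2 n89166 = n64665 := (sb E99583 F220750)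
theorem F344341 : act 7 n89166 = n64664 := (sb E99583 (iv7 D137581))
theorem E99584 : n137579 = n89157 := (c13_2 F344341 D137579 F344261 D89166)
theorem F344342 : act 5 n89157 = n64664 := (sb E99584 (iv5 D137579))
theorem F344343 : act 5 n137577 = n186448 := d6_2 F344342 D137577 (iv3 F289260)
theorem F344344 : act 1 n137578 = n126641 := d18_6 (iv1 D87189) (iv4 F66461) D91000 F294777 F344342 D137578 F203778 D136133 F328561
theorem E99585 : n137578 = n133276 := (c19_3 (iv1 F136855) F344342 D137578 (iv3 D133276) (iv1 D62542) D62543 (iv4 F320967) (iv3 D78602) (iv1 F57163) (iv5 F63612) (iv4 D41292) (iv3 F63608) (iv1 F293038) (iv5 D21329) (iv4 F35773) F66213 (iv1 F30781) F30777 (iv4 F31388) (iv3 F64281))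
theorem F344345 : act 1 n133276 = n126641 := (sb E99585 F344344)
theorem F344346 : act 4 n133276 = n64664 := (sb E99585 (iv4 D137578))
theorem E99586 : n99753 = n91122 := (c21_5 F344342 (iv1 F218994) (iv5 F338476) (iv6 F287567) (iv1 F287570) (iv6 D91122) D91121 F338444 F66917 F293931 (iv1 F136855))
theorem F344347 : act 0 n91122 = n46596 := (sb E99586 (iv1 D99753))
theorem F344348 : act 1 n91122 = n185305 := (sb E99586 F287570)
theorem F344349 : act 2 n185303 = n91122 := d15_3 F344348 F287569 (iv7 F344201)
theorem F344350 : act 1 n126853 = n133276 := d18_6 D47417 (iv4 F293736) (iv1 F139073) (iv4 F70080) (iv5 F328980) (iv4 F204097) F344346 (iv0 D64664) F329339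
theorem F344351 : act 2 n95420 = n126853 := d15_3 F344350 F344345 F328566
theorem F344352 : act 1 n95420 = n126850 := d15_0 (iv0 D126850) D126853 (iv2 F344351)
theorem E99587 : n166751 = n126850 := ((c18_9 F261279 (iv4 F301265) (iv1 D163969) F119941 F323610 F333868 F328977 D95420 F344352 (iv5 D166751))).symm
theorem F344353 : act 3 n126850 = n80041 := (sb E99587 F262492)
theorem F344354 : act 5 n126850 = n80040 := (sb E99587 (iv5 D166751))
theorem F344355 : act 4 n89171 = n126850 := d20_6 (iv4 F146895) F146897 F71166 (iv3 F133703) D182419 (iv3 F344338) (iv1 F344352) (iv4 D95420) F70081 D44566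
theorem F344356 : act 2 n126850 = n133276 := d1_1 F344355 F344346 (iv2 F344337)
theorem F344357 : act 7 n126850 = n137583 := d11_2 (iv7 F344339) F344355 (iv4 D137583)
theorem E99588 : n102072 = n91120 := ((c18_8 (iv1 F338456) F344355 (iv1 F344352) (iv4 D95420) (iv5 D44565) F33435 D42671 D91120 (iv0 D102072) (iv5 F329014))).symm
theorem F344358 : act 0 n91120 = n47420 := (sb E99588 (iv1 F157021))
theorem F344359 : act 1 n91120 = n47408 := (sb E99588 (iv0 D102072))
theorem F344360 : act 1 n166736 = n135382 := d18_6 F338459 F100483 (iv1 F338456) F344355 F344354 (iv4 F262464) (iv4 D135382) F339517 (iv5 F323628)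
theorem E99589 : n185601 = n181923 := (c19_17 (iv1 F136861) D89171 F344355 F344353 D166753 F262494 (iv4 D160986) (iv3 D77255) (iv1 D35267) (iv5 F28283) (iv4 F56470) (iv3 D35809) D35807 (iv5 F119742) F119743 (iv3 F135403) D185601 (iv5 D181923) (iv4 F295446) F294219)
theorem F344361 : act 1 n181923 = n88411 := (sb E99589 (iv0 D185601))
theorem F344362 : act 0 n182419 = n109031 := d20_4 (iv4 F93953) D126850 (iv4 F344355) F344338 (iv3 D109031) (iv4 D50343) F164323 F325958 F333867 (iv1 D64779)
theorem F344363 : act 5 n109031 = n105042 := d17_3 D87213 (iv5 F344335) F344362 F160954 (iv5 F291020) (iv0 D94043) (iv5 D43961) F292497 F63888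
theorem F344364 : act 2 n94801 = n109031 := d15_3 (iv0 F344362) (iv0 D182419) (iv7 F292474)
theorem F344365 : act 1 n182696 = n109031 := d15_0 (iv0 F344362) F344336 (iv2 F344325)
theorem F344366 : act 7 n109031 = n182415 := d4_2 (iv7 F292474) F344364 F283960
theorem F344367 : act 1 n94801 = n182056 := d15_0 F344327 (iv7 F344366) (iv2 F344364)
theorem E99590 : n186162 = n94041 := ((c17_2 F293186 D94041 (iv1 D186162) (iv5 D88689) (iv4 F76400) (iv5 F292473) F344367 (iv5 D182056) (iv0 F294194) (iv4 F136151))).symm
theorem F344368 : act 0 n94041 = n88689 := (sb E99590 (iv1 D186162))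
theorem F344369 : act 1 n94041 = n186405 := (sb E99590 F289183)
theorem F344370 : act 0 n102870 = n90243 := d21_1 D102870 (iv5 D90243) D90244 (iv1 F145644) (iv6 D94042) D94041 F344368 (iv5 D88689) D88690 F291619
theorem F344371 : act 5 n94042 = n115112 := d21_0 (iv1 F179262) (iv5 F323387) F291611 (iv1 D47703) D47706 D102870 F344370 (iv5 D90243) D90244 (iv1 F145644)
theorem F344372 : act 1 n102870 = n90135 := d15_1 (iv0 F344370) (iv7 F142388) F142386
theorem F344373 : act 0 n98312 = n102530 := d17_2 (iv1 F137209) D98312 (iv5 D102530) F291614 D102870 F344372 (iv5 D90135) D90133 (iv4 F138577)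
theorem F344374 : act 4 n170576 = n102870 := d18_5 (iv1 D61705) (iv4 F96302) D131472 F337062 D170576 F344372 F333656 F264353 (iv5 D131484)
theorem F344375 : act 3 n102883 = n170592 := d5_3 F344374 F158177 D102883 (iv4 D170592) (iv3 F267999)
theorem F344376 : act 7 n175222 = n170576 := d11_0 F344374 F291383 F339573
theorem E99591 : n151990 = n81762 := (c17_3 (iv1 F315221) F183143 D151990 D170576 F344374 (iv5 D102870) (iv0 F291619) F318687 F316438 (iv4 F125479))
theorem E99592 : n170575 = n71662 := ((D170575).symm.trans (sb E99591 (iv0 D151990)))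
theorem F344377 : act 0 n71662 = n81762 := (sb E99592 (iv1 D170575))
theorem F344378 : act 1 n114736 = n170576 := d17_8 F344370 (iv5 D90243) F138579 (iv5 F317458) (iv4 F233197) F335212 (iv0 D114734) D114736 F344374
theorem F344379 : act 0 n175225 = n170576 := d18_0 F344374 F344370 (iv4 F338694) (iv5 F333695) (iv4 F319555) F303156 (iv4 F312735) F312733 (iv5 F274259)
theorem E99593 : n158465 = n133840 := ((c17_1 F247851 F274109 (iv1 D175138) (iv5 D83649) (iv4 F83687) D114736 F344378 (iv5 D170576) (iv0 F344377) (iv4 F210665))).symm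
theorem F344380 : act 5 n133840 = n175138 := (sb E99593 F274109)
theorem F344381 : act 6 n133840 = n75596 := (sb E99593 (iv6 D158465))
theorem E99594 : n158463 = n133842 := (c10_2 F344381 D158463 (iv6 D133842) D133840)
theorem F344382 : act 4 n133842 = n75596 := (sb E99594 (iv4 D158463))
theorem E99595 : n158462 = n133095 := (c5_2 F344382 D158462 F305918 (iv3 D161596) F304581 (iv3 F215497))
theorem F344383 : act 3 n133095 = n75596 := (sb E99595 (iv3 D158462))
theorem F344384 : act 4 n158466 = n131593 := d11_3 F321620 F344382 D158466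
theorem E99596 : n172261 = n152662 := ((c20_3 (iv4 F305917) D75482 (iv4 F239874) (iv3 D172261) (iv1 F128286) F303193 (iv4 F309311) (iv1 F278620) F344382 (iv3 F344383) (iv1 D133095))).symm
theorem F344385 : act 3 n152662 = n82505 := (sb E99596 (iv3 D172261))
theorem E99597 : n174403 = n174019 := (c20_5 (iv4 F344382) F278617 F306999 (iv3 F312093) F312091 (iv3 D174019) F272666 (iv1 D47033) F35156 (iv3 F54856) D75596)
theorem F344386 : act 0 n174019 = n83367 := (sb E99597 (iv1 D174403))
theorem F344387 : act 1 n174019 = n152660 := (sb E99597 (iv0 F312091))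
theorem F344388 : act 6 n174019 = n147189 := (sb E99597 F343963)
theorem F344389 : act 4 n174019 = n158315 := d20_0 (iv1 D158315) (iv4 F305915) F213489 (iv1 F213733) F344383 (iv4 F344382) F278617 F306999 (iv3 F312093) (iv1 F344387)
theorem F344390 : act 2 n152305 = n174019 := d1_3 F344389 (iv2 F249436) (iv4 F239419)
theorem F344391 : act 7 n152662 = n174019 := d11_0 F344389 F249435 (iv4 F239874)
theorem F344392 : act 3 n158466 = n130401 := d20_9 (iv4 F306316) (iv1 F249434) (iv4 F344389) (iv3 D174019) (iv1 D83200) (iv3 F128277) F307905 D131593 (iv4 F344384) (iv1 D130401)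
theorem E99598 : n152729 = n130401 := ((c0_1 F344392 (iv2 D152729) (iv3 D72064) (iv2 F185105) F307279 (iv2 F249675))).symm
theorem F344393 : act 2 n130401 = n72064 := (sb E99598 (iv2 D152729))
theorem F344394 : act 7 n130401 = n133095 := d8_2 D158466 F344392 F344383
theorem E99599 : n172244 = n152662 := (c20_11 F239874 (iv1 F249443) (iv4 F305687) (iv3 F213489) (iv1 F213492) (iv3 F344392) F344384 F333618 F333596 F130120 (iv1 F311733))
theorem F344395 : act 0 n152662 = n82501 := (sb E99599 (iv1 D172244))
theorem F344396 : act 1 n152662 = n82718 := (sb E99599 F311733)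
theorem E99600 : n158466 = n158447 := (c20_10 (iv4 F149002) F300252 (iv4 F262791) F262790 (iv1 F340787) F130120 (iv4 F306580) F334243 (iv4 F306365) (iv3 F344392) (iv1 D158447))
theorem F344397 : act 2 n158447 = n75597 := (sb E99600 F249675)
theorem F344398 : act 3 n158447 = n130401 := (sb E99600 F344392)
theorem F344399 : act 4 n158447 = n131593 := (sb E99600 F344384)
theorem F344400 : act 7 n158447 = n75596 := (sb E99600 (iv7 D158466))
theorem F344401 : act 4 n98054 = n98343 := d20_6 (iv4 F344399) (iv1 D158447) (iv4 F149002) (iv3 F302988) (iv1 F233990) F235906 (iv1 D98343) (iv4 F151771) F307595 D131593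
theorem F344402 : act 2 n98343 = n153418 := d1_1 F344401 (iv4 F319997) F319995
theorem F344403 : act 3 n98343 = n118171 := d5_1 F344401 F190269 F190264 F233992 F235906
theorem F344404 : act 7 n98343 = n118192 := d11_2 F319993 F344401 (iv4 F319992)
theorem F344405 : act 0 n98344 = n153672 := d17_2 (iv1 D98343) D98344 (iv5 F330118) (iv4 D131169) (iv5 F315549) F317782 (iv5 F319981) D98054 F344401
theorem F344406 : act 0 n98159 = n120412 := d20_4 F85981 D54440 (iv4 F190295) F190294 (iv3 F196442) (iv4 F315556) F315553 F344401 F344403 (iv1 D118171)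
theorem E99601 : n184238 = n118192 := (c15_2 F306625 F286173 (iv7 F344404) F344402)
theorem F344407 : act 0 n118192 = n98345 := (sb E99601 (iv1 F286173))
theorem F344408 : act 1 n118192 = n87879 := (sb E99601 (iv0 D184238))
theorem F344409 : act 0 n170021 = n184237 := d20_10 F286166 (iv1 F344408) (iv4 F319992) F319991 F191324 D150622 F304003 (iv1 F340973) (iv4 D170022) D170021
theorem F344410 : act 0 n172550 = n98239 := d20_7 F304003 (iv1 F340973) (iv4 D170022) D170021 F344409 F286165 F340796 F340955 (iv3 F340956) (iv1 F332491)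
theorem F344411 : act 0 n158406 = n172242 := d20_7 F271105 (iv1 F74289) F74285 (iv3 F113457) (iv1 F249647) F344398 F306365 F270505 F127153 D82505
theorem E99602 : n172243 = n152305 := ((c20_10 (iv4 F306580) F334243 (iv4 F306365) (iv3 F344398) (iv1 D158447) (iv3 F305323) F123926 (iv1 F234142) (iv4 F234144) D152305 F311732)).symm
theorem F344412 : act 0 n152305 = n82718 := (sb E99602 F311732)
theorem F344413 : act 1 n152305 = n82501 := (sb E99602 (iv0 D172243))
theorem F344414 : act 0 n172245 = n135437 := d18_0 F217754 (iv1 D132122) F96577 D62444 (iv4 F305917) D75483 (iv4 F239419) F344413 D172245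
theorem E99603 : n158344 = n100041 := (c20_5 F86763 F110796 D118910 (iv3 F186969) (iv1 F249482) (iv3 F270504) F270505 (iv1 F344413) F239419 (iv3 F234199) (iv1 D119145))
theorem F344415 : act 0 n100041 = n75519 := (sb E99603 (iv1 D158344))
theorem F344416 : act 1 n100041 = n82608 := (sb E99603 F249482)
theorem E99604 : n122684 = n100042 := ((c20_2 F153973 D100042 (iv4 F255708) (iv3 D161708) (iv1 D77670) (iv3 F86762) F86763 F110796 D118910 (iv3 F186969) (iv1 F344416))).symm
theorem F344417 : act 2 n100042 = n172368 := (sb E99604 (iv2 F270596))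
theorem F344418 : act 3 n100042 = n56986 := (sb E99604 (iv3 D122684))
theorem F344419 : act 4 n100042 = n161708 := (sb E99604 (iv4 F255708))
theorem F344420 : act 0 n127072 = n175015 := d21_1 (iv5 F332377) F273920 (iv6 D172560) (iv1 F344416) (iv6 D100041) (iv5 F87996) (iv1 F125811) (iv5 D81848) D81849 D170729
theorem F344421 : act 4 n175015 = n116121 := d18_3 F166339 (iv4 F204305) F344420 (iv5 F209210) (iv4 F211795) (iv0 D132201) F96642 D62024 F166336
theorem E99605 : n175015 = n173438 := ((c15_1 D173438 (iv0 F344420) (iv7 F207860) F332370)).symm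
theorem F344422 : act 1 n173438 = n127072 := (sb E99605 (iv0 F344420))
theorem F344423 : act 2 n173438 = n83584 := (sb E99605 (iv2 D175015))
theorem F344424 : act 3 n173438 = n83644 := (sb E99605 F273919)
theorem F344425 : act 4 n173438 = n116121 := (sb E99605 F344421)
theorem F344426 : act 5 n173438 = n172560 := (sb E99605 F273920)
theorem E99606 : n116124 = n84834 := (c5_3 F344425 F180915 (iv4 F180916) (iv3 F262003) F330682 (iv3 F344424))
theorem E99607 : n178241 = n53523 := ((D178241).symm.trans (sb E99606 F180916))
theorem E99608 : n178242 = n53521 := ((D178242).symm.trans (sb E99606 (iv6 D116124)))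
theorem F344427 : act 4 n53523 = n84834 := (sb E99607 (iv4 D178241))
theorem F344428 : act 6 n53521 = n84834 := (sb E99608 (iv6 D178242))
theorem F344429 : act 6 n116119 = n173438 := d10_0 F344425 (iv6 D116121) D116119
theorem F344430 : act 3 n175120 = n116119 := d7_3 F344429 F344424 D175120
theorem F344431 : act 4 n116122 = n175120 := d5_0 F344430 (iv4 D116119) (iv3 D53520) D53521 D116122
theorem F344432 : act 7 n126854 = n175120 := d8_0 F344430 F180907 D126854
theorem F344433 : act 6 n166444 = n116122 := d10_0 F344431 (iv6 D175120) (iv4 F330682)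
theorem F344434 : act 6 n123483 = n106883 := d3_2 F344428 (iv2 F197897) F164739
theorem F344435 : act 6 n124410 = n116123 := d12_4 F344428 (iv5 D84834) (iv6 F303751) D124410 (iv5 D116123)
theorem F344436 : act 6 n123479 = n108544 := d14_3 F164731 F344428 (iv7 F197891) F167850 (iv6 F164730)
theorem F344437 : act 2 n138779 = n123479 := d3_3 F344436 F167849 D138779
theorem F344438 : act 3 n154765 = n123479 := d7_3 F344436 F322268 D154765
theorem F344439 : act 4 n108545 = n123479 := d10_3 F344436 (iv4 D108544) D108545
theorem F344440 : act 4 n106884 = n123483 := d9_9 (iv5 F167853) F344439 (iv5 D123479) (iv4 D57545) (iv5 F121130) (iv4 F125736) (iv5 F125737) F329108 (iv5 F164744) (iv5 D123483) (iv4 D57550) F300423 (iv4 F89765) (iv5 F301991) F329109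
theorem F344441 : act 5 n120284 = n115746 := d17_7 (iv1 F79370) (iv5 F98306) (iv1 F98308) (iv5 F167853) F344439 (iv5 D123479) (iv0 F191533) F180094 (iv4 D65049)
theorem F344442 : act 7 n123483 = n138779 := d16_8 (iv4 F344439) F167853 (iv4 F329109) F301991 F89765 (iv5 F300423) D57550 D123483 F344437
theorem F344443 : act 5 n138779 = n123037 := d13_1 F344442 F197171 D123483
theorem F344444 : act 1 n178240 = n138779 := d15_1 D178240 (iv7 F344442) F197897
theorem F344445 : act 1 n138779 = n178239 := d15_1 F344444 (iv7 F341287) F341285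
theorem F344446 : act 4 n132571 = n178240 := d18_5 (iv1 F163931) (iv4 F327639) D122303 F327851 D132571 F344444 F221917 (iv0 F164020) (iv5 D63179)
theorem F344447 : act 6 n178240 = n106933 := d10_2 (iv6 F212799) F344446 (iv4 F168111)
theorem F344448 : act 4 n170812 = n128819 := d11_3 (iv7 F212798) F344446 (iv7 F304204)
theorem F344449 : act 4 n123487 = n134845 := d18_1 (iv1 F303754) F217034 F344446 (iv5 F299222) F195580 (iv0 F298974) (iv4 F301636) (iv0 D125311) D125313
theorem F344450 : act 6 n108540 = n123487 := d10_0 F344449 (iv6 D134845) F167835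
theorem E99609 : n180173 = n138771 := (c3_2 F344450 F303755 (iv6 D138771) (iv2 F171592))
theorem F344451 : act 0 n138771 = n86085 := (sb E99609 (iv1 D180173))
theorem F344452 : act 2 n138771 = n123487 := (sb E99609 (iv2 F303755))
theorem F344453 : act 5 n138771 = n111374 := (sb E99609 (iv5 F325345))
theorem F344454 : act 7 n138771 = n123490 := (sb E99609 (iv7 F303770))
theorem E99610 : n180172 = n116111 := (c14_3 (iv7 F171586) F344450 F303756 (iv6 D116111) F172149 F171593)
theorem F344455 : act 1 n116111 = n86085 := (sb E99610 (iv0 D180172))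
theorem F344456 : act 2 n116111 = n123490 := (sb E99610 (iv2 F303769))
theorem F344457 : act 5 n116111 = n123040 := (sb E99610 (iv5 F300434))
theorem F344458 : act 7 n116111 = n123487 := (sb E99610 (iv7 F303756))
theorem F344459 : act 6 n124455 = n116110 := d12_4 D116111 F344457 (iv6 F253288) F303293 (iv5 D116110)
theorem E99611 : n180174 = n106938 := ((c17_9 (iv1 F344455) F344457 (iv1 D123040) F341375 F100850 (iv5 F97494) (iv0 F98303) F98302 F164817 (iv4 D180174))).symm
theorem F344460 : act 4 n106938 = n86085 := (sb E99611 (iv4 D180174))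
theorem F344461 : act 1 n134487 = n116111 := d18_8 (iv1 D123040) (iv4 D57254) D57252 D123037 (iv5 F344443) F221917 (iv0 F164020) D134487 F344457
theorem F344462 : act 0 n160360 = n162074 := d21_1 D160360 (iv5 D162074) (iv6 F299748) (iv1 F198702) (iv6 F299737) D86085 (iv1 F344455) F344457 (iv6 F253288) (iv1 D160358)
theorem F344463 : act 5 n134487 = n122312 := d17_3 (iv1 F197182) (iv5 F344457) (iv1 F344461) (iv4 D122312) (iv5 F299695) (iv0 D37424) (iv5 F29895) (iv0 F121132) (iv4 F90704)
theorem F344464 : act 6 n122312 = n109180 := d21_3 (iv5 F344457) (iv1 F344461) F344463 (iv1 D109180) (iv6 D50388) (iv5 F79756) (iv1 F341391) F341393 F324428 (iv1 F197182)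
theorem E99612 : n164193 = n125484 := ((c21_2 (iv5 F330465) (iv1 F201818) (iv5 D164193) (iv6 F302622) (iv1 F253286) F253288 (iv5 F344457) (iv1 F344461) F344463 F344464 (iv1 D109180))).symm
theorem F344465 : act 5 n125484 = n78876 := (sb E99612 (iv5 D164193))
theorem F344466 : act 5 n121283 = n106988 := d13_3 (iv7 F214174) F344465 F299720
theorem F344467 : act 5 n156038 = n108119 := d17_7 (iv1 F201818) F344465 F257770 (iv5 F337383) F163562 (iv5 F167234) F245162 F220006 F220001
theorem F344468 : act 3 n166900 = n127848 := d19_11 (iv1 F201818) F344465 (iv4 D78876) (iv3 D35905) (iv1 D17381) F12908 (iv4 F28333) (iv3 F56556) D78859 (iv5 F323614) (iv4 F262760) (iv1 F310794) F215584 (iv4 F219730) (iv3 F245055) (iv1 D155991) F111471 F330476 F330466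
theorem F344469 : act 5 n138501 = n166900 := d6_0 F344468 (iv5 F312527) (iv3 F246091)
theorem F344470 : act 0 n150079 = n166900 := d20_4 D74952 F311604 (iv4 D150377) F236654 F344468 F205718 (iv1 F313591) (iv4 D74671) F53855 (iv1 F54500)
theorem F344471 : act 0 n166900 = n138543 := d20_4 (iv4 F87498) (iv1 F311313) (iv4 F205718) (iv3 F344468) (iv3 D138543) (iv4 F310573) (iv1 F73705) (iv4 F132730) F311307 (iv1 D55295)
theorem F344472 : act 6 n177048 = n138501 := d12_0 F344469 (iv6 D166900) (iv5 F122970) F317265 D177048
theorem F344473 : act 0 n140716 = n177048 := d21_4 D141340 F224365 (iv5 D140715) D140716 F344472 F344469 F344471 F222373 F321300 (iv1 F179988)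
theorem F344474 : act 0 n142501 = n141341 := d21_4 (iv5 D177048) (iv1 D84381) D84382 (iv6 F319223) (iv6 D141341) D141340 F224365 (iv5 D140715) D140716 F344473
theorem F344475 : act 0 n154738 = n170375 := d20_1 D154738 (iv4 D170375) (iv3 F319221) F344474 F224367 (iv4 F336187) F336185 F242910 F110082 D73381
theorem F344476 : act 7 n142501 = n116170 := d15_2 (iv0 F330014) (iv0 F344474) F319282
theorem E99613 : n142494 = n142438 := ((c11_2 F344476 (iv4 F225346) (iv7 F225402) D142501)).symm
theorem F344477 : act 2 n142438 = n66807 := (sb E99613 (iv2 D142494))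
theorem F344478 : act 7 n142438 = n66808 := (sb E99613 (iv7 F225402))
theorem F344479 : act 6 n118250 = n177053 := d14_3 F344476 F319284 (iv7 F185786) (iv7 D177053) (iv6 F319223)
theorem F344480 : act 2 n177053 = n150025 := d3_1 F344479 (iv6 D150025) (iv2 F185789)
theorem F344481 : act 4 n177053 = n151267 := d10_1 F344479 (iv6 D151267) (iv4 F185790)
theorem F344482 : act 7 n151267 = n177052 := d11_2 D177053 F344481 (iv4 D177052)
theorem F344483 : act 0 n151267 = n143793 := d20_7 F84517 F48016 D63180 (iv3 F314571) (iv1 F300066) (iv3 F276464) F344481 F226444 F103220 F101302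
theorem F344484 : act 7 n150025 = n177038 := d4_2 D177053 F344480 F276455
theorem F344485 : act 1 n150025 = n177050 := d15_0 (iv0 D177050) D177053 F344480
theorem F344486 : act 3 n177038 = n166050 := d8_1 F344484 (iv7 F306076) (iv3 F236016)
theorem F344487 : act 1 n177051 = n150025 := d15_1 D177051 F344484 F276455
theorem E99614 : n142499 = n142439 := (c15_4 F225348 (iv0 F225347) F344478 (iv2 F225403))
theorem F344488 : act 2 n142439 = n66808 := (sb E99614 F225403)
theorem F344489 : act 7 n142439 = n66807 := (sb E99614 (iv7 D142499))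
theorem E99615 : n159414 = n142496 := ((c1_3 (iv4 F225346) F344477 D142496 (iv2 F319282))).symm
theorem F344490 : act 1 n142496 = n141341 := (sb E99615 (iv0 F330014))
theorem F344491 : act 2 n142496 = n116170 := (sb E99615 (iv2 F319282))
theorem F344492 : act 3 n142496 = n76259 := (sb E99615 F251039)
theorem E99616 : n151264 = n66807 := ((((iv4 D142496)).symm.trans (sb E99615 F251040))).symm
theorem F344493 : act 5 n142496 = n117587 := (sb E99615 F251041)
theorem F344494 : act 6 n142496 = n76257 := (sb E99615 (iv6 D159414))
theorem E99617 : n142498 = n71288 := ((D142498).symm.trans (sb E99616 (iv6 D151264)))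
theorem F344495 : act 6 n71288 = n66807 := (sb E99617 (iv6 D142498))
theorem F344496 : act 6 n118414 = n142438 := d3_0 F344477 (iv6 F344495) F186080
theorem E99618 : n177052 = n142503 := ((c14_4 (iv7 F186078) F344496 F344478 D142503 (iv7 F344482) (iv6 D151267))).symm
theorem F344497 : act 4 n142503 = n84382 := (sb E99618 (iv4 D177052))
theorem F344498 : act 7 n142503 = n151267 := (sb E99618 (iv7 F344482))
theorem F344499 : act 6 n142495 = n151262 := d7_2 F344495 D142495 (iv3 D151262)
theorem F344500 : act 6 n142497 = n104625 := d12_2 F344495 D142497 F331238 (iv6 F331235) F324610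
theorem F344501 : act 3 n109422 = n142497 := d7_3 F344500 (iv3 F331239) (iv6 F325206)
theorem F344502 : act 7 n160846 = n142497 := d14_0 F344500 F331241 F253700 (iv7 F115939) D160846
theorem F344503 : act 6 n137259 = n142505 := d21_9 (iv5 D66809) D66807 D142497 F344500 (iv1 D104625) D104627 F340593 (iv1 F173556) D137259 (iv1 D142505)
theorem F344504 : act 4 n142497 = n140396 := d11_1 F344502 (iv7 F223539) F326452
theorem F344505 : act 5 n142439 = n160846 := d13_3 F344502 (iv5 D142497) (iv7 F344489)
theorem F344506 : act 2 n160846 = n142502 := d2_1 F344505 (iv5 D142502) (iv2 F344488)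
theorem F344507 : act 3 n160850 = n142439 := d6_3 F344505 F254010 D160850
theorem F344508 : act 7 n142495 = n160850 := d8_0 F344507 F344489 D142495
theorem E99619 : n160850 = n102035 := (c20_6 (iv4 D111011) (iv1 F80762) (iv4 F162258) F162257 (iv1 F225348) (iv3 F344507) (iv4 D102035) F329746 (iv4 F328447) F328446 (iv1 F172157))
theorem F344509 : act 2 n102035 = n163254 := (sb E99619 (iv2 F257558))
theorem F344510 : act 3 n102035 = n142439 := (sb E99619 F344507)
theorem F344511 : act 5 n102035 = n77188 := (sb E99619 (iv5 D160850))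
theorem F344512 : act 7 n102035 = n142495 := (sb E99619 (iv7 F344508))
theorem F344513 : act 4 n142495 = n102037 := d11_1 F344512 (iv7 D102037) D102035
theorem F344514 : act 5 n142495 = n109422 := d13_1 F344512 F325207 (iv5 F344511)
theorem F344515 : act 2 n142495 = n102039 := d16_9 (iv4 D102039) D102040 F319201 (iv5 D112488) (iv4 D51897) (iv5 F324441) (iv4 F115941) (iv5 F344511) F344512
theorem F344516 : act 7 n163254 = n102039 := d4_2 (iv7 F344512) F344509 (iv2 F344515)
theorem F344517 : act 4 n102033 = n163254 := d11_3 F344516 (iv4 D102039) F156980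
theorem F344518 : act 5 n102039 = n112038 := d13_1 F344516 (iv7 F325184) D163254
theorem F344519 : act 0 n112281 = n102039 := d17_2 F170252 D112281 F344518 F324863 (iv5 F122795) F323054 (iv5 F323959) F323957 D110119
theorem F344520 : act 4 n110206 = n101864 := d17_9 (iv1 D101864) F319206 (iv1 F319200) (iv5 D102040) D102039 F344518 F174153 D112050 F174186
theorem F344521 : act 1 n112274 = n102039 := d17_6 (iv1 D25101) (iv5 F19682) D25118 (iv5 F81766) D51790 D112274 F344518 F174153 (iv4 D51677)
theorem E99620 : n176675 = n112282 := (c21_5 (iv5 F331183) F331181 (iv5 D84234) D84235 D176675 (iv6 D112282) D112281 F344519 F344518 F324864 F298062)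
theorem F344522 : act 1 n112282 = n84235 := (sb E99620 (iv0 D176675))
theorem F344523 : act 7 n112151 = n109773 := d15_2 F344522 (iv0 F325270) (iv2 F174644)
theorem F344524 : act 0 n162654 = n109939 := d18_2 F323965 (iv4 F256893) F170062 (iv5 F326183) (iv4 F174645) F344522 (iv4 F297276) (iv0 F323059) F323062
theorem F344525 : act 4 n121284 = n109179 := d20_0 (iv1 F170407) F170404 F80199 (iv1 F80214) (iv3 F328278) (iv4 F256893) F344524 F170062 F325266 (iv1 F301319)
theorem F344526 : act 1 n162654 = n109773 := d15_1 (iv0 F344524) (iv7 F344523) F174383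
theorem F344527 : act 1 n166250 = n109939 := d15_0 (iv0 F344524) F300521 (iv2 F300515)
theorem F344528 : act 4 n162655 = n176659 := d20_6 (iv4 F170062) (iv1 F344527) F261752 F298088 F257706 F257704 (iv1 D176659) F129300 (iv3 F298680) F326182
theorem F344529 : act 0 n164087 = n109938 := d21_1 D164087 (iv5 D109938) D109939 (iv1 F344527) (iv6 D166250) (iv5 F331171) (iv1 D100752) (iv5 F331180) F325639 F324536
theorem F344530 : act 4 n89440 = n164087 := d20_0 F344529 (iv4 F324390) F328712 (iv1 F343206) (iv3 D117434) F94296 (iv1 D59850) D59851 (iv3 F329603) D89440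
theorem F344531 : act 1 n164087 = n89446 := d15_1 (iv0 F344529) F322927 F174378
theorem F344532 : act 4 n111837 = n102045 := d18_5 D109928 F170045 (iv1 F323056) (iv4 F324464) (iv5 F173654) F156993 F344530 F344531 F322926
theorem E99621 : n112009 = n102032 := ((c16_3 F344532 F156989 (iv4 F156979) F174109 (iv4 F81761) F322511 (iv4 F322504) F94318 (iv7 F169508) F173655)).symm
theorem F344533 : act 0 n102032 = n51658 := (sb E99621 (iv1 D112009))
theorem F344534 : act 1 n102032 = n109332 := (sb E99621 F174107)
theorem F344535 : act 2 n102032 = n109334 := (sb E99621 (iv2 F174110))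
theorem F344536 : act 5 n102032 = n51771 := (sb E99621 F174109)
theorem E99622 : n109335 = n47390 := ((((iv7 D102032)).symm.trans (sb E99621 F174108))).symm
theorem E99623 : n102029 = n50452 := ((D102029).symm.trans (sb E99622 (iv1 D109335)))
theorem E99624 : n112006 = n102030 := (((D102030).symm.trans (sb E99622 F174100))).symm
theorem E99625 : n112008 = n99758 := ((((iv2 F153573)).symm.trans (sb E99622 F174105))).symm
theorem E99626 : n102031 = n50603 := ((D102031).symm.trans (sb E99622 F169352))
theorem F344537 : act 1 n50452 = n47390 := (sb E99623 (iv0 D102029))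
theorem F344538 : act 1 n102030 = n109334 := (sb E99624 F174099)
theorem F344539 : act 2 n102030 = n51658 := (sb E99624 F174097)
theorem F344540 : act 5 n102030 = n51657 := (sb E99624 (iv5 D112006))
theorem F344541 : act 7 n102030 = n109332 := (sb E99624 F174098)
theorem F344542 : act 0 n99758 = n109332 := (sb E99625 (iv1 F174104))
theorem F344543 : act 1 n99758 = n51658 := (sb E99625 (iv0 D112008))
theorem F344544 : act 5 n99758 = n51770 := (sb E99625 F174103)
theorem F344545 : act 7 n99758 = n109334 := (sb E99625 (iv7 F174106))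
theorem F344546 : act 5 n50603 = n47390 := (sb E99626 (iv5 D102031))
theorem E99627 : n102180 = n101864 := (c17_2 (iv1 F156992) (iv5 F157066) (iv1 D101864) F319206 (iv4 F317865) (iv5 F320053) F81393 D109553 F173656 F344532)
theorem F344547 : act 5 n101864 = n89441 := (sb E99627 F157066)
theorem F344548 : act 6 n101864 = n47438 := (sb E99627 (iv6 D102180))
theorem E99628 : n109332 = n102503 := (c18_7 D102511 F324387 D111837 F344532 F156989 (iv4 F156979) F344534 (iv4 D102503) (iv0 D47546) D47548)
theorem F344549 : act 0 n102503 = n102032 := (sb E99628 (iv1 F344534))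
theorem F344550 : act 1 n102503 = n99758 := (sb E99628 (iv0 F344542))
theorem F344551 : act 2 n102503 = n50452 := (sb E99628 F169349)
theorem F344552 : act 5 n102503 = n50451 := (sb E99628 (iv5 D109332))
theorem F344553 : act 7 n102503 = n102030 := (sb E99628 (iv7 F344541))
theorem F344554 : act 4 n102030 = n102506 := d11_1 F344553 (iv7 D102506) D102503
theorem F344555 : act 5 n102506 = n109887 := d16_1 F344554 (iv4 D109887) (iv5 D50678) F38673 F19020 (iv4 F38601) D50452 (iv7 F81565) (iv2 F344539)
theorem E99629 : n102506 = n99834 := (c18_8 (iv1 F157857) F322923 (iv1 F329860) (iv4 D102044) (iv5 D47393) (iv4 F74601) D102030 F344554 F153710 (iv5 F157442))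
theorem F344556 : act 2 n99834 = n47547 := (sb E99629 F157439)
theorem F344557 : act 4 n99834 = n102030 := (sb E99629 (iv4 F344554))
theorem F344558 : act 5 n99834 = n109887 := (sb E99629 F344555)
theorem F344559 : act 7 n99834 = n47546 := (sb E99629 (iv7 D102506))
theorem F344560 : act 5 n109720 = n102644 := d17_5 (iv1 D102030) (iv5 F344546) (iv1 D50603) D50605 D109720 (iv0 D102644) F74861 D99834 F344557
theorem F344561 : act 0 n163254 = n102500 := d18_0 F157437 (iv1 F153710) F344557 F344540 F81559 F39447 D50481 (iv0 F325182) D163254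
theorem E99630 : n109785 = n99832 := (c18_5 (iv1 F81764) F81762 (iv1 F39567) D50631 D109785 F153709 D99834 F344557 F344538 F171079)
theorem E99631 : n112274 = n47545 := (((F153708).symm.trans (sb E99630 (iv2 F174629)))).symm
theorem F344562 : act 5 n99832 = n50631 := (sb E99630 (iv5 D109785))
theorem F344563 : act 7 n99832 = n112281 := (sb E99630 (iv7 F174643))
theorem E99632 : n102498 = n102039 := ((D102498).symm.trans (sb E99631 F344521))
theorem E99633 : n116636 = n102496 := ((((iv3 F157436)).symm.trans (sb E99631 F182008))).symm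
theorem E99634 : n102499 = n51790 := ((D102499).symm.trans (sb E99631 (iv5 D112274)))
theorem E99635 : n109772 = n102500 := (((D102500).symm.trans (sb E99631 F174630))).symm
theorem F344564 : act 0 n102039 = n47545 := (sb E99632 (iv1 D102498))
theorem F344565 : act 0 n102496 = n139639 := (sb E99633 (iv1 F222808))
theorem F344566 : act 4 n102496 = n53743 := (sb E99633 (iv4 D116636))
theorem F344567 : act 5 n102496 = n112273 := (sb E99633 F182007)
theorem F344568 : act 5 n51790 = n47545 := (sb E99634 (iv5 D102499))
theorem F344569 : act 2 n102500 = n112281 := (sb E99635 (iv2 F174642))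
theorem F344570 : act 5 n102500 = n50626 := (sb E99635 (iv5 D109772))
theorem E99636 : n102033 = n99759 := ((c17_9 F344561 F344570 F80187 D110206 F344520 F344547 F156992 F156989 F153579 F344517)).symm
theorem F344571 : act 2 n99759 = n47391 := (sb E99636 (iv2 D102033))
theorem F344572 : act 4 n99759 = n163254 := (sb E99636 F344517)
theorem F344573 : act 7 n99759 = n47392 := (sb E99636 (iv7 F156980))
theorem F344574 : act 1 n176872 = n112050 := d17_8 (iv1 F226166) F344560 (iv1 F157860) F157442 (iv4 F157437) F344570 (iv0 F324512) (iv5 F276243) (iv4 F226165)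
theorem F344575 : act 1 n142495 = n102500 := d17_6 F323962 F322511 (iv1 F322509) (iv5 F323924) (iv4 F325205) (iv5 F344514) F344570 (iv0 F324512) F297250
theorem E99637 : n102501 = n99833 := (c18_2 (iv1 F344537) (iv4 F326382) (iv1 F153713) (iv4 F157437) F344570 (iv4 D50626) (iv0 D24656) (iv4 F38649) D50603 F344546)
theorem F344576 : act 2 n99833 = n47546 := (sb E99637 (iv2 D102501))
theorem F344577 : act 4 n99833 = n50452 := (sb E99637 F326382)
theorem F344578 : act 7 n99833 = n47547 := (sb E99637 (iv7 F157438))
theorem E99638 : n102037 = n99760 := ((c18_7 F80187 (iv4 D50816) D50813 F81760 (iv5 F344544) F153574 D99760 (iv4 F344513) F344575 F344570)).symm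
theorem F344579 : act 2 n99760 = n47392 := (sb E99638 F156983)
theorem F344580 : act 4 n99760 = n142495 := (sb E99638 (iv4 F344513))
theorem F344581 : act 7 n99760 = n47391 := (sb E99638 (iv7 D102037))
theorem F344582 : act 0 n166250 = n109773 := d21_4 F331184 (iv1 F289599) F331171 D166250 (iv6 D109773) (iv5 F344570) (iv1 F344575) F344514 F325206 (iv1 F298058)
theorem F344583 : act 7 n109939 = n112282 := d15_2 (iv0 F344582) F344527 F174644
theorem F344584 : act 3 n142996 = n99760 := d5_5 F344580 (iv3 D142495) D142496 F344492 (iv4 F321995)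
theorem F344585 : act 6 n159415 = n99760 := d10_0 F344580 F344499 (iv4 F251042)
theorem F344586 : act 3 n99758 = n128530 := d20_9 (iv4 D105667) (iv1 D48848) (iv4 F76919) F76918 D66807 D142495 (iv4 F344580) (iv1 D99760) (iv4 F153574) (iv1 F206731)
theorem F344587 : act 5 n128530 = n112239 := d6_2 (iv5 F344544) F344586 (iv3 D112239)
theorem F344588 : act 5 n125763 = n128567 := d2_2 F344587 (iv2 F202279) F206794
theorem E99639 : n128529 = n109710 := ((c13_3 D128530 F344587 F174577 (iv5 D128529))).symm
theorem F344589 : act 0 n109710 = n131914 := (sb E99639 (iv1 F211364))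
theorem F344590 : act 2 n109710 = n128566 := (sb E99639 (iv2 F206793))
theorem F344591 : act 5 n109710 = n60455 := (sb E99639 (iv5 D128529))
theorem F344592 : act 1 n112239 = n130554 := d17_6 (iv1 D61247) F46622 D49198 (iv5 F99517) (iv4 F206729) F344587 (iv5 D130554) (iv0 F209129) (iv4 D130540)
theorem E99640 : n136257 = n111009 := (c18_9 F101857 (iv4 D66271) (iv1 F111172) (iv4 F206729) F344587 F201923 F201928 (iv4 F202253) F219305 (iv5 D111009))
theorem E99641 : n130535 = n125753 := (((iv1 F209116)).symm.trans (sb E99640 (iv1 F219305)))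
theorem F344593 : act 1 n111009 = n64061 := (sb E99640 (iv0 D136257))
theorem F344594 : act 1 n125753 = n111009 := (sb E99641 F209116)
theorem E99642 : n133350 = n58886 := ((((iv2 D125753)).symm.trans (sb E99641 (iv2 F214397)))).symm
theorem F344595 : act 5 n125753 = n61245 := (sb E99641 (iv5 D130535))
theorem E99643 : n125752 = n105661 := ((D125752).symm.trans (sb E99642 F214398))
theorem E99644 : n125754 = n62586 := ((D125754).symm.trans (sb E99642 (iv5 D133350)))
theorem F344596 : act 0 n105661 = n58886 := (sb E99643 (iv1 D125752))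
theorem F344597 : act 1 n105661 = n136259 := (sb E99643 F219312)
theorem E99645 : n133348 = n58887 := (((iv3 F214392)).symm.trans (sb E99644 F202254))
theorem F344598 : act 5 n62586 = n58886 := (sb E99644 (iv5 D125754))
theorem E99646 : n136260 = n117025 := ((((iv7 F182963)).symm.trans (sb E99644 (iv7 F219314)))).symm
theorem F344599 : act 3 n58887 = n62586 := (sb E99645 F214392)
theorem E99647 : n125756 = n62585 := ((D125756).symm.trans (sb E99645 (iv6 D133348)))
theorem F344600 : act 3 n117025 = n64062 := (sb E99646 F219313)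
theorem F344601 : act 5 n117025 = n64061 := (sb E99646 (iv5 D136260))
theorem E99648 : n136268 = n133347 := (((D133347).symm.trans (sb E99647 (iv2 F219331)))).symm
theorem E99649 : n133342 = n105579 := (((iv4 F214378)).symm.trans (sb E99647 F202257))
theorem F344602 : act 6 n62585 = n58887 := (sb E99647 (iv6 D125756))
theorem F344603 : act 6 n133347 = n64065 := (sb E99648 (iv6 D136268))
theorem F344604 : act 3 n105579 = n62583 := (sb E99649 (iv3 D133342))
theorem F344605 : act 4 n105579 = n62585 := (sb E99649 F214378)
theorem F344606 : act 5 n105579 = n126769 := (sb E99649 F214379)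
theorem F344607 : act 7 n105579 = n108056 := (sb E99649 F214380)
theorem E99650 : n137799 = n48815 := (c12_4 D105579 F344606 F336212 D137799 (iv6 D48815) D48814)
theorem E99651 : n105582 = n64763 := ((D105582).symm.trans (sb E99650 (iv5 D137799)))
theorem F344608 : act 5 n64763 = n48815 := (sb E99651 (iv5 D105582))
theorem F344609 : act 5 n105504 = n105574 := d2_2 F344608 (iv2 F161973) F218966
theorem F344610 : act 5 n105577 = n115456 := d6_2 F344608 (iv3 F162179) F179761
theorem F344611 : act 5 n105583 = n105573 := d13_3 (iv7 F218968) F344608 D105583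
theorem F344612 : act 4 n138095 = n143080 := d16_0 (iv5 D143080) (iv4 F103034) F344608 F76896 (iv5 F46493) (iv4 F95390) D129431 (iv7 F212492) F328421
theorem F344613 : act 5 n126562 = n138095 := d16_1 D126562 F344612 (iv5 D143080) (iv4 F103034) F344608 F76896 (iv5 F46493) (iv7 F93681) (iv2 F93680)
theorem E99652 : n145661 = n137805 := (c17_10 (iv1 D137805) (iv5 D64765) D64763 F344608 F76896 (iv5 F46493) F47136 (iv5 F50059) D68278 D145661)
theorem F344614 : act 1 n137805 = n108055 := (sb E99652 (iv0 F228700))
theorem F344615 : act 2 n137805 = n132426 := (sb E99652 F228698)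
theorem F344616 : act 4 n137805 = n68278 := (sb E99652 (iv4 D145661))
theorem F344617 : act 7 n137805 = n132429 := (sb E99652 F228699)
theorem F344618 : act 5 n108055 = n105575 := d17_5 (iv1 D53252) D53253 F84102 D63417 (iv4 F167059) F162174 F344608 D105581 (iv4 F163645)
theorem E99653 : n137783 = n105616 := ((c18_4 D105580 F162186 (iv1 F163622) F163618 (iv5 D137783) (iv4 D64757) F99585 (iv4 F162172) F162174 F344608)).symm
theorem F344619 : act 5 n105616 = n64757 := (sb E99653 (iv5 D137783))
theorem E99654 : n137807 = n105565 := ((c21_5 (iv5 F162074) (iv1 F162076) (iv5 D48807) D48808 D105565 (iv6 D137807) (iv5 D64765) D64763 F344608 (iv6 D48815) D48812)).symm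
theorem F344620 : act 6 n105565 = n64765 := (sb E99654 (iv6 D137807))
theorem F344621 : act 4 n105507 = n137802 := d9_7 (iv5 F344608) F103034 D143080 (iv4 F344612) (iv5 F344613) (iv4 D126562) (iv5 F161977) (iv5 D137802) (iv4 F100625) (iv5 F220109) (iv4 F328625) (iv5 D129431) F95390 F46493 (iv4 F76896)
theorem F344622 : act 0 n126942 = n110405 := d19_12 (iv1 D105581) (iv5 F344608) F103034 (iv3 F331006) (iv1 D134198) (iv5 D63041) F47987 (iv3 F47978) D63024 (iv5 F100466) F100465 (iv3 F204195) (iv5 D110405) (iv4 F81531) (iv3 D51642) D51640 (iv5 F99664) (iv4 F161962) F336175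
theorem F344623 : act 1 n126931 = n110405 := d15_0 (iv0 F344622) (iv7 D126942) (iv2 F204187)
theorem F344624 : act 4 n137364 = n112730 := d20_8 F82588 (iv1 F49189) (iv4 F80321) (iv3 F170769) (iv1 F344623) (iv3 F220454) F220455 D137364 F175484 (iv1 F82590)
theorem F344625 : act 6 n128229 = n110405 := d21_3 (iv5 F233863) (iv1 F233865) (iv5 F206361) (iv1 F344623) (iv6 D126931) D126930 F226676 (iv5 D136760) (iv6 F343459) (iv1 F206078)
theorem F344626 : act 2 n110405 = n174570 := d3_1 F344625 (iv6 D174570) (iv2 F305715)
theorem F344627 : act 3 n110407 = n128229 := d7_3 F344625 F170769 D110407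
theorem E99655 : n128007 = n110406 := ((c12_3 F344625 (iv5 D110405) D110406 (iv5 D128007) D128008 (iv5 F206361))).symm
theorem F344628 : act 0 n110406 = n167763 := (sb E99655 (iv1 F264123))
theorem F344629 : act 1 n110406 = n167762 := (sb E99655 F264115)
theorem F344630 : act 2 n110406 = n71038 := (sb E99655 F205993)
theorem F344631 : act 5 n110406 = n60148 := (sb E99655 (iv5 D128007))
theorem F344632 : act 7 n110406 = n167760 := (sb E99655 (iv7 F264108))
theorem F344633 : act 3 n167760 = n109578 := d8_1 F344632 F169524 (iv3 F170770)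
theorem F344634 : act 4 n167760 = n109579 := d11_1 F344632 F174019 F174018
theorem F344635 : act 2 n109579 = n167764 := d1_1 F344634 (iv4 D167764) (iv2 F264107)
theorem F344636 : act 2 n150669 = n111974 := d4_3 (iv7 F174019) F344635 F264127
theorem F344637 : act 5 n141916 = n111974 := d16_7 (iv4 D167764) (iv5 D80505) F57604 F318568 (iv4 F49460) D66531 D141916 (iv7 F174019) F344635
theorem F344638 : act 3 n111977 = n141916 := d6_3 F344637 F174017 D111977
theorem F344639 : act 4 n141975 = n111977 := d5_0 F344638 (iv4 D141916) F102398 D66553 D141975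
theorem F344640 : act 6 n111972 = n150669 := d3_0 F344636 (iv6 D111974) D111972
theorem F344641 : act 6 n110402 = n180621 := d21_5 (iv5 D167759) (iv1 F188333) (iv5 F344631) (iv6 D110406) D110402 (iv5 D180621) F254289 (iv5 F254418) (iv6 F330687) (iv1 F264106)
theorem F344642 : act 2 n180624 = n110402 := d3_3 F344641 F281146 D180624
theorem F344643 : act 7 n110403 = n180624 := d15_2 (iv0 D110402) D110403 F344642
theorem F344644 : act 3 n180653 = n110403 := d8_3 F344643 F281161 D180653
theorem F344645 : act 6 n95361 = n110403 := d14_5 F344643 (iv6 D180624) F254308 (iv6 F330288) F148378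
theorem F344646 : act 4 n110403 = n95362 := d10_1 F344645 (iv6 D95362) D95361
theorem F344647 : act 7 n95362 = n163277 := d11_2 (iv7 F344643) F344646 (iv4 F281162)
theorem F344648 : act 0 n95362 = n109329 := d20_1 F344646 F323177 (iv3 D80070) (iv1 F60699) (iv3 F92772) (iv4 F160849) F324562 (iv4 F170761) (iv3 F175529) (iv1 F175534)
theorem F344649 : act 3 n109306 = n95362 := d20_5 F81523 (iv1 F49293) (iv4 F49292) D50443 D109306 (iv4 F344646) (iv1 D110403) (iv4 F81531) (iv3 D51642) D51640
theorem F344650 : act 6 n95360 = n109306 := d7_0 F344649 (iv6 D95362) D95360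
theorem E99656 : n121141 = n96397 := (c14_3 F344647 (iv6 D163277) (iv7 F254309) (iv6 D96397) (iv7 F71540) D95362)
theorem F344651 : act 0 n96397 = n55898 := (sb E99656 (iv1 D121141))
theorem F344652 : act 1 n96397 = n78473 := (sb E99656 F193202)
theorem E99657 : n95365 = n78471 := ((F148380).symm.trans (sb E99656 (iv2 F254305)))
theorem F344653 : act 4 n96397 = n78790 := (sb E99656 (iv4 F193198))
theorem E99658 : n160904 = n95617 := (((F148381).symm.trans (sb E99656 (iv5 F254101)))).symm
theorem F344654 : act 7 n96397 = n78472 := (sb E99656 F254309)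
theorem F344655 : act 2 n78471 = n96397 := (sb E99657 (iv2 F148380))
theorem E99659 : n163273 = n97070 := ((D163273).symm.trans (sb E99657 (iv5 F149739)))
theorem E99660 : n163274 = n44541 := ((D163274).symm.trans (sb E99657 (iv6 D95365)))
theorem F344656 : act 0 n95617 = n77211 := (sb E99658 (iv1 D160904))
theorem F344657 : act 1 n95617 = n166710 := (sb E99658 (iv0 F262414))
theorem F344658 : act 7 n95617 = n163276 := (sb E99658 (iv7 F257587))
theorem F344659 : act 0 n97070 = n160902 := (sb E99659 F257585)
theorem F344660 : act 1 n97070 = n80013 := (sb E99659 F257586)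
theorem F344661 : act 5 n97070 = n78471 := (sb E99659 (iv5 D163273))
theorem F344662 : act 7 n97070 = n160903 := (sb E99659 (iv7 F257592))
theorem F344663 : act 6 n44541 = n78471 := (sb E99660 (iv6 D163274))
theorem F344664 : act 6 n163272 = n95363 := d7_2 F344663 D163272 (iv3 D95363)
theorem F344665 : act 6 n121779 = n95364 := d10_2 F344663 (iv4 F194340) (iv4 D95364)
theorem E99661 : n162665 = n95353 := ((c21_4 (iv5 D21181) D21179 D44535 D95353 (iv1 D162665) F119315 D80013 (iv1 F344660) F344661 (iv6 F344663) (iv1 D44541))).symm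
theorem F344666 : act 0 n95353 = n78142 := (sb E99661 (iv1 D162665))
theorem F344667 : act 4 n150242 = n95353 := d18_1 (iv1 F304292) F344666 F119314 D78151 (iv4 F318946) (iv0 F314340) F314344 (iv0 D162723) F303459
theorem F344668 : act 3 n125273 = n150242 := d20_5 (iv4 D18853) (iv1 F22102) D27885 D58626 D125273 F344667 F344666 F119314 (iv3 D35631) (iv1 F45056)
theorem F344669 : act 6 n150242 = n178229 := d7_2 (iv6 F341201) F344668 (iv3 D178229)
theorem F344670 : act 2 n178229 = n128204 := d3_1 F344669 F206341 (iv2 F236444)
theorem E99662 : n178229 = n95352 := (c10_1 F344669 (iv4 D95352) D95353 (iv4 F344667))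
theorem E99663 : n128204 = n96383 := ((((iv2 F148345)).symm.trans (sb E99662 F344670))).symm
theorem F344671 : act 3 n95352 = n84830 := (sb E99662 (iv3 D178229))
theorem F344672 : act 6 n95352 = n150242 := (sb E99662 (iv6 F344669))
theorem F344673 : act 5 n96383 = n60272 := (sb E99663 (iv5 D128204))
theorem F344674 : act 6 n96383 = n72627 := (sb E99663 F206341)
theorem E99664 : n182966 = n95352 := ((c12_1 (iv6 F344672) (iv5 D182966) F309575 F90854 D70724 D150242)).symm
theorem F344675 : act 5 n95352 = n87352 := (sb E99664 (iv5 D182966))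
theorem E99665 : n163757 = n150242 := ((c21_4 (iv5 F292332) F156199 (iv5 F344675) F344672 (iv1 D163757) (iv6 D78675) D78674 F254300 (iv5 F254301) F344665 F146997)).symm
theorem F344676 : act 0 n150242 = n78675 := (sb E99665 (iv1 D163757))
theorem E99666 : n167795 = n163758 := ((c17_4 (iv1 F190179) D150242 F344676 D163758 F264194 (iv5 F185836) (iv0 F190972) (iv5 D60101) (iv0 F188308) D32896)).symm
theorem F344677 : act 0 n163758 = n162724 := (sb E99666 (iv1 F264198))
theorem F344678 : act 1 n163758 = n162723 := (sb E99666 F264197)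
theorem F344679 : act 2 n163758 = n80519 := (sb E99666 (iv2 D167795))
theorem F344680 : act 4 n163758 = n80553 := (sb E99666 F264194)
theorem F344681 : act 6 n163758 = n83219 := (sb E99666 (iv6 F304756))
theorem F344682 : act 7 n163758 = n154159 := (sb E99666 F264196)
theorem E99667 : n167763 = n147156 := (c21_3 D163758 F344677 F264126 (iv6 D147156) (iv1 F105305) (iv6 F320991) (iv5 F292332) F156199 (iv5 F344675) F344672 F344676)
theorem F344683 : act 0 n147156 = n80505 := (sb E99667 (iv1 D167763))
theorem F344684 : act 1 n147156 = n110406 := (sb E99667 (iv0 F344628))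
theorem E99668 : n150667 = n147452 := ((((iv2 F231246)).symm.trans (sb E99667 (iv2 F264125)))).symm
theorem F344685 : act 5 n147156 = n162724 := (sb E99667 (iv5 F264126))
theorem F344686 : act 7 n147156 = n150668 := (sb E99667 F264124)
theorem F344687 : act 0 n147452 = n167760 := (sb E99668 (iv1 F264110))
theorem F344688 : act 1 n147452 = n71038 := (sb E99668 (iv0 D150667))
theorem F344689 : act 5 n147452 = n167794 := (sb E99668 (iv5 F264186))
theorem F344690 : act 7 n147452 = n167762 := (sb E99668 F264122)
theorem E99669 : n163756 = n150666 := ((c15_4 (iv0 D163756) (iv0 F344676) (iv7 F264104) F264103)).symm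
theorem F344691 : act 1 n150666 = n78675 := (sb E99669 (iv0 D163756))
theorem E99670 : n163759 = n153595 := (c15_3 (iv0 F304293) F344691 D163759 F304294)
theorem F344692 : act 3 n153595 = n78684 := (sb E99670 F258117)
theorem F344693 : act 7 n153595 = n78675 := (sb E99670 (iv7 D163759))
theorem E99671 : n180624 = n112747 := ((c21_5 (iv5 D150666) (iv1 D71037) D71038 (iv6 F328793) (iv1 F175533) (iv6 D180624) (iv5 D86281) (iv1 F254423) (iv5 D78674) D78675 (iv1 F344691))).symm
theorem F344694 : act 2 n112747 = n110402 := (sb E99671 F344642)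
theorem F344695 : act 3 n112747 = n86293 := (sb E99671 F281161)
theorem F344696 : act 4 n112747 = n163277 := (sb E99671 F281162)
theorem F344697 : act 6 n112747 = n86281 := (sb E99671 (iv6 D180624))
theorem F344698 : act 7 n112747 = n110403 := (sb E99671 (iv7 F344643))
theorem F344699 : act 2 n110403 = n112746 := d15_3 (iv0 D112746) D112747 F344698
theorem F344700 : act 7 n110402 = n112746 := d4_2 (iv7 F344698) F344694 (iv2 F344699)
theorem F344701 : act 6 n112746 = n96393 := d14_1 F344700 F148371 (iv6 F344665) (iv7 F281148) (iv6 F344641)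
theorem F344702 : act 4 n96394 = n112746 := d10_3 F344701 (iv4 D96393) D96394
theorem F344703 : act 5 n112746 = n115689 := d21_6 F105211 (iv1 D32154) D32156 (iv6 F319398) (iv1 F148372) (iv6 F344701) (iv1 F230899) (iv5 D147280) (iv6 D69042) (iv1 F105210)
theorem F344704 : act 0 n112004 = n96394 := d20_10 F344702 (iv1 F175528) (iv4 F174010) F174009 (iv1 F174031) F326098 F119654 F323906 F81558 D112004
theorem F344705 : act 1 n112004 = n163277 := d15_1 (iv0 F344704) (iv7 F344647) (iv2 F148374)
theorem F344706 : act 4 n124666 = n107168 := d20_6 F344696 (iv1 F344705) F324595 (iv3 D86187) F92085 (iv3 F199414) (iv1 F176429) F328794 (iv3 F328791) (iv1 F175533)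
theorem F344707 : act 6 n107168 = n124619 := d10_2 D124666 F344706 F199311
theorem F344708 : act 3 n111990 = n163277 := d20_5 (iv4 D27977) D27976 F45232 D51651 D111990 (iv4 F344696) (iv1 D112747) F82249 (iv3 D50432) (iv1 F45236)
theorem F344709 : act 6 n163275 = n111990 := d7_0 F344708 (iv6 D163277) D163275
theorem F344710 : act 7 n109306 = n111990 := d8_0 F344708 (iv7 F344647) (iv3 F344649)
theorem F344711 : act 2 n111990 = n109307 := d15_3 F174066 F174064 F344710
theorem F344712 : act 2 n109306 = n111991 := d15_3 F174065 F174060 (iv7 F344710)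
theorem F344713 : act 7 n111991 = n109307 := d4_2 (iv7 F344710) F344712 (iv2 F344711)
theorem F344714 : act 6 n126327 = n153595 := d7_0 F344692 F327557 D126327
theorem F344715 : act 2 n172517 = n126327 := d3_3 F344714 F304294 D172517
theorem F344716 : act 7 n163682 = n126327 := d14_0 F344714 F344693 (iv6 D78675) (iv7 F119812) D163682
theorem F344717 : act 5 n119378 = n163682 := d13_3 F344716 F320703 F191348
theorem F344718 : act 2 n163682 = n173213 := d2_1 F344717 (iv5 D173213) (iv2 F191349)
theorem E99672 : n158328 = n121214 := ((c12_5 F243934 F344717 (iv6 D163682) F254383 D121214 (iv5 F271477))).symm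
theorem F344719 : act 0 n121214 = n75484 := (sb E99672 (iv1 D158328))
theorem F344720 : act 5 n121214 = n84157 := (sb E99672 (iv5 F271477))
theorem F344721 : act 0 n163682 = n158791 := d21_1 F344717 (iv5 D158791) (iv6 D75757) (iv1 F205694) (iv6 D75478) (iv5 F59263) (iv1 F59264) F58960 D82886 F271474
theorem E99673 : n160565 = n147173 := (c21_5 F308691 F271474 F344717 (iv6 D163682) F254381 (iv6 D147173) F105208 (iv1 F51119) D32166 D69154 D147561)
theorem F344722 : act 0 n147173 = n78672 := (sb E99673 (iv1 F254416))
theorem F344723 : act 1 n147173 = n78643 := (sb E99673 (iv0 F254381))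
theorem F344724 : act 2 n147173 = n76981 := (sb E99673 (iv2 D160565))
theorem F344725 : act 3 n147173 = n125446 := (sb E99673 F254339)
theorem F344726 : act 4 n147173 = n77208 := (sb E99673 F254340)
theorem F344727 : act 5 n147173 = n80054 := (sb E99673 F254341)
theorem F344728 : act 7 n147173 = n78670 := (sb E99673 (iv7 F254350))
theorem E99674 : n166775 = n147439 := (c12_3 D147173 F344727 D166775 (iv5 D147439) (iv6 D69115) (iv5 F105208))
theorem F344729 : act 6 n147439 = n80054 := (sb E99674 (iv6 D166775))
theorem F344730 : act 5 n115690 = n112747 := d21_8 F194341 D80054 (iv5 F344727) (iv6 D147173) (iv1 F105209) D69042 D147280 (iv1 F230898) F344697 F254307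
theorem F344731 : act 0 n147163 = n121783 := d21_4 (iv5 D32118) (iv1 F51035) D68995 D147163 (iv6 D121783) F194341 D80054 (iv5 F344727) (iv6 D147173) (iv1 F105209)
theorem F344732 : act 3 n129494 = n115690 := d6_3 F344730 F344695 (iv5 F338764)
theorem F344733 : act 6 n180627 = n115690 := d12_0 F344730 F344697 (iv5 D86281) D86282 D180627
theorem F344734 : act 0 n108832 = n107636 := d20_10 F166245 D133325 (iv4 F214316) F344732 (iv1 D115690) (iv3 D53350) (iv4 D25854) D25852 F80283 (iv3 F168809)
theorem F344735 : act 4 n107632 = n108832 := d18_1 (iv1 F166232) F344734 F166245 F97563 (iv4 F98336) (iv0 F98337) (iv4 D59538) F46501 (iv5 F85109)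
theorem F344736 : act 6 n126710 = n108832 := d21_3 (iv5 D147680) (iv1 F231434) (iv5 F344159) F344734 (iv6 D107636) D107635 F166243 (iv5 D107602) D107603 (iv1 F344158)
theorem F344737 : act 1 n108832 = n126808 := d15_1 (iv0 F344734) (iv7 F209077) F209075
theorem F344738 : act 5 n116119 = n108829 := d17_5 (iv1 F214321) (iv5 F326874) F326871 (iv5 D116120) D116119 (iv0 D108829) D108832 F344737 F204057
theorem F344739 : act 2 n108829 = n126857 := d2_1 F344738 (iv5 D126857) (iv2 F180906)
theorem F344740 : act 6 n108829 = n166473 := d12_2 (iv6 F344429) F344738 F328130 D172560 (iv5 F344426)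
theorem F344741 : act 7 n108829 = n126855 := d13_2 (iv7 F180907) F344738 (iv5 D126855)
theorem F344742 : act 0 n108857 = n108995 := d17_2 D50266 D108857 (iv5 D108995) (iv4 F168975) F330499 (iv0 F180908) F344738 (iv0 D108829) F79627
theorem F344743 : act 0 n108829 = n163501 := d18_0 (iv4 F341849) (iv1 F167986) D108861 F323136 F102075 F162105 (iv4 F93780) (iv0 F180908) F344738
theorem F344744 : act 3 n166475 = n108829 := d20_9 (iv4 F341849) (iv1 F167986) D108861 (iv3 F168865) (iv1 F323125) (iv3 F119855) F324569 F330732 (iv4 F262030) F344743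
theorem F344745 : act 2 n126855 = n108830 := d15_3 F341854 (iv0 F344743) F344741
theorem F344746 : act 5 n108830 = n107211 := d2_2 D126855 F344745 F165225
theorem F344747 : act 7 n108830 = n126857 := d4_2 F344741 F344745 (iv2 F344739)
theorem F344748 : act 3 n172572 = n108830 := d8_3 F344747 F332388 D172572
theorem F344749 : act 3 n107211 = n175020 := d6_3 F273923 F344748 F344746
theorem F344750 : act 4 n175020 = n107213 := d5_2 D107211 F344749 (iv3 D107213) (iv4 D49532) D49531
theorem E99675 : n155760 = n113482 := ((c20_5 (iv4 F48810) (iv1 F102179) D107211 F344749 F339189 (iv3 D155760) F189610 F314547 D66440 F102339 F98731)).symm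
theorem F344751 : act 3 n113482 = n74094 := (sb E99675 (iv3 D155760))
theorem F344752 : act 6 n113482 = n150549 := (sb E99675 F244768)
theorem E99676 : n176161 = n150549 := ((c12_1 F344752 (iv5 F342105) (iv6 F213756) F313454 F325716 D113482)).symm
theorem F344753 : act 2 n150549 = n84027 := (sb E99676 (iv2 D176161))
theorem F344754 : act 5 n150549 = n130442 := (sb E99676 (iv5 F342105))
theorem F344755 : act 2 n113482 = n176163 := d3_1 (iv6 F344752) (iv6 D176163) (iv2 F344753)
theorem F344756 : act 5 n176110 = n158583 := d21_0 F342103 (iv5 F344754) (iv6 F344752) (iv1 F339190) (iv6 D173378) (iv5 F127881) (iv1 F301152) F301154 F331867 D176110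
theorem E99677 : n174735 = n150549 := (c21_5 (iv5 D101656) (iv1 F311765) (iv5 F309557) F309558 D174735 (iv6 F344752) (iv5 D113482) D113480 F342141 (iv6 D174982) (iv1 F312797))
theorem F344757 : act 1 n150549 = n83486 := (sb E99677 (iv0 D174735))
theorem E99678 : n174736 = n158585 := (c15_2 F344757 D174736 (iv7 F249764) (iv2 F344753))
theorem F344758 : act 0 n158585 = n83486 := (sb E99678 (iv1 D174736))
theorem F344759 : act 6 n106397 = n158585 := d21_3 F319763 F336049 (iv5 F323657) F344758 (iv6 F309558) F309557 F191367 F325020 (iv6 F322684) (iv1 F330919)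
theorem F344760 : act 6 n174728 = n124632 := d21_3 (iv5 D83486) D83484 D174728 (iv1 D124632) D124634 F319763 F336049 (iv5 F323657) F344759 F344758
theorem E99679 : n174728 = n155663 := ((c14_1 (iv7 F244684) F344760 F199341 F327350 (iv7 F131498) (iv6 F237081))).symm
theorem F344761 : act 2 n155663 = n84010 := (sb E99679 F331914)
theorem F344762 : act 5 n155663 = n83484 := (sb E99679 (iv5 D174728))
theorem F344763 : act 6 n155663 = n124632 := (sb E99679 F344760)
theorem F344764 : act 3 n124632 = n130477 := d7_1 F344763 F318735 D155663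
theorem F344765 : act 3 n133146 = n166197 := d0_2 F344764 (iv2 F213877) F302334 F331871 F199343
theorem F344766 : act 3 n124959 = n174509 := d20_3 F320395 (iv1 D124960) (iv4 F200687) (iv1 D174509) F128511 D83409 D174520 F273399 F344764 F209044
theorem F344767 : act 6 n174509 = n124958 := d7_2 D124959 F344766 (iv3 D124958)
theorem F344768 : act 7 n174509 = n119567 := d8_2 (iv7 F319099) F344766 F341159
theorem F344769 : act 2 n119567 = n174508 := d15_3 (iv0 D174508) D174509 F344768
theorem F344770 : act 6 n174508 = n119302 := d3_2 D119567 F344769 F187794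
theorem F344771 : act 7 n166197 = n179602 := d8_2 (iv7 F320870) F344765 F279705
theorem F344772 : act 2 n179602 = n176128 := d4_1 F344771 (iv7 D176128) (iv2 F302334)
theorem F344773 : act 1 n176126 = n179602 := d15_1 D176126 (iv7 F344771) F302334
theorem F344774 : act 1 n179602 = n176125 := d15_1 F344773 (iv7 F337519) (iv2 F337516)
theorem F344775 : act 5 n160595 = n137358 := d21_8 F204415 F322895 D133264 (iv6 F337530) (iv1 F344774) (iv6 D179602) (iv5 F250318) F311541 (iv6 D137358) (iv1 F204416)
theorem F344776 : act 7 n137358 = n177621 := d13_2 (iv7 F342679) F344775 (iv5 F336421)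
theorem F344777 : act 4 n177621 = n137362 := d11_1 F344776 (iv7 D137362) (iv4 F220560)
theorem F344778 : act 6 n177622 = n126827 := d14_3 F344776 (iv6 D177621) D177622 (iv7 F218813) D137358
theorem F344779 : act 2 n137358 = n179561 := d15_3 F279623 (iv0 F336423) (iv7 F344776)
theorem F344780 : act 4 n179561 = n136064 := d1_2 (iv4 F220560) F344779 F218969
theorem F344781 : act 5 n179561 = n175739 := d2_2 F344775 F344779 F342677
theorem F344782 : act 6 n179561 = n127156 := d3_2 D137358 F344779 (iv2 F218828)
theorem F344783 : act 6 n132807 = n175739 := d12_4 F344782 (iv5 F342167) (iv6 D132808) D132807 (iv5 F344781)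
theorem F344784 : act 4 n175740 = n132807 := d10_3 F344783 (iv4 D175739) D175740
theorem E99680 : n167613 = n118483 := ((c21_1 F334740 (iv1 D167613) (iv5 F302295) D83969 (iv1 F342676) (iv6 F344783) (iv5 D132807) (iv1 D62327) D62328 F315055 (iv1 F334737))).symm
theorem F344785 : act 0 n118483 = n80440 := (sb E99680 (iv1 D167613))
theorem F344786 : act 3 n104129 = n151506 := d20_9 (iv4 F186377) F344785 (iv4 F191572) (iv3 D120310) (iv1 F87633) (iv3 F87749) F87750 (iv1 F87799) (iv4 F307361) (iv1 D151506)
theorem F344787 : act 7 n130484 = n167614 := d15_2 (iv0 F344785) (iv0 F217819) (iv2 D167614)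
theorem F344788 : act 2 n175784 = n167612 := d15_3 (iv0 D167612) (iv0 F344785) (iv7 F334742)
theorem F344789 : act 5 n167612 = n175781 := d2_2 D175784 F344788 F275206
theorem F344790 : act 7 n167612 = n114461 := d4_2 (iv7 F334742) F344788 (iv2 F311483)
theorem E99681 : n167612 = n134626 := ((c8_4 F344790 F178516 F308849 D134626)).symm
theorem F344791 : act 1 n134626 = n80440 := (sb E99681 (iv0 D167612))
theorem F344792 : act 2 n134626 = n175784 := (sb E99681 (iv2 F344788))
theorem F344793 : act 5 n134626 = n175781 := (sb E99681 F344789)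
theorem F344794 : act 7 n134626 = n114461 := (sb E99681 F344790)
theorem F344795 : act 6 n160781 = n134626 := d14_5 F344794 (iv6 D114461) (iv7 F108429) D152463 (iv7 F342113)
theorem F344796 : act 1 n130484 = n134626 := d15_1 (iv0 F217819) F344794 (iv2 F311483)
theorem E99682 : n175781 = n173637 := ((c21_11 (iv5 F344793) (iv1 F344796) F316724 (iv6 D77023) F296755 D82257 F324774 D110606 F334726 (iv6 D173640) D173637)).symm
theorem F344797 : act 2 n173637 = n83905 := (sb E99682 F275206)
theorem F344798 : act 5 n173637 = n134626 := (sb E99682 (iv5 F344793))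
theorem F344799 : act 7 n173637 = n83904 := (sb E99682 (iv7 D175781))
theorem F344800 : act 6 n124657 = n173637 := d21_5 (iv5 D37714) (iv1 F296132) D35198 D77069 (iv1 F342137) F344798 (iv1 F344796) F316724 (iv6 D77023) F296755
theorem F344801 : act 2 n175785 = n124657 := d3_3 F344800 F344797 D175785
theorem F344802 : act 3 n173637 = n134627 := d7_1 F344800 F331680 (iv3 F342138)
theorem F344803 : act 2 n118571 = n175782 := d0_3 F344802 F216586 (iv3 F186483) (iv3 D175782) (iv2 F344797)
theorem F344804 : act 4 n134627 = n176326 := d20_6 D80436 F315831 (iv4 F315830) (iv3 F127983) D173637 F344802 (iv1 D176326) (iv4 D84083) F59517 F298823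
theorem F344805 : act 4 n173637 = n181802 := d20_6 F333934 (iv1 D67871) (iv4 F103928) (iv3 F222866) F332294 (iv3 F344802) (iv1 D181802) D181803 F282976 F333946
theorem F344806 : act 2 n181802 = n175783 := d1_1 F344805 (iv4 D175783) (iv2 F344797)
theorem F344807 : act 6 n181802 = n158388 := d10_2 F344800 F344805 (iv4 F342139)
theorem F344808 : act 7 n181802 = n175778 := d11_2 (iv7 F344799) F344805 (iv4 D175778)
theorem F344809 : act 5 n181802 = n176156 := d17_5 F321887 F302295 (iv1 F344791) (iv5 F344798) F344805 (iv0 F327862) (iv5 D175969) (iv0 F336415) (iv4 D174761)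
theorem E99683 : n181793 = n160595 := (c17_4 (iv1 D181802) (iv5 D86826) D86823 D181793 F342678 (iv5 D173633) F127981 D83898 F272114 F344805)
theorem E99684 : n137358 = n86823 := ((F344775).symm.trans (sb E99683 (iv5 D181793)))
theorem E99685 : n181790 = n179561 := ((D181790).symm.trans (sb E99684 F344779))
theorem E99686 : n64569 = n64156 := ((((iv4 F319242)).symm.trans (sb E99684 F220560))).symm
theorem F344810 : act 5 n86823 = n160595 := (sb E99684 (iv5 F344775))
theorem E99687 : n181794 = n64567 := ((D181794).symm.trans (sb E99684 (iv6 D137358)))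
theorem E99688 : n181795 = n177621 := ((D181795).symm.trans (sb E99684 F344776))
theorem F344811 : act 2 n179561 = n86823 := (sb E99685 (iv2 D181790))
theorem F344812 : act 7 n179561 = n86824 := (sb E99685 (iv7 F282967))
theorem E99691 : n136471 = n136064 := (((iv2 F219589)).symm.trans (sb E99686 (iv2 F218969)))
theorem E99692 : n137356 = n136472 := (((D136472).symm.trans (sb E99686 (iv3 F220551)))).symm
theorem E99693 : n137361 = n136474 := (((D136474).symm.trans (sb E99686 D137361))).symm
theorem E99694 : n136475 = n30389 := ((D136475).symm.trans (sb E99686 (iv6 D64569)))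
theorem E99695 : n137362 = n136466 := (((F219586).symm.trans (sb E99686 D137362))).symm
theorem F344813 : act 6 n64567 = n86823 := (sb E99687 (iv6 D181794))
theorem F344814 : act 2 n177621 = n86824 := (sb E99688 F282969)
theorem F344815 : act 7 n177621 = n86823 := (sb E99688 (iv7 D181795))
theorem F344816 : act 2 n136064 = n64156 := (sb E99691 F219589)
theorem F344817 : act 7 n136064 = n64155 := (sb E99691 (iv7 D136471))
theorem F344818 : act 5 n136472 = n124008 := (sb E99692 (iv5 F331012))
theorem F344819 : act 6 n136472 = n64566 := (sb E99692 (iv6 D137356))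
theorem F344820 : act 7 n136472 = n124007 := (sb E99692 F331010)
theorem F344821 : act 3 n136474 = n124008 := (sb E99693 F331013)
theorem F344822 : act 7 n136474 = n124002 := (sb E99693 (iv7 F331015))
theorem F344823 : act 6 n30389 = n64156 := (sb E99694 (iv6 D136475))
theorem F344824 : act 3 n136466 = n124007 := (sb E99695 (iv3 F331011))
theorem F344825 : act 4 n136466 = n177621 := (sb E99695 (iv4 F344777))
theorem F344826 : act 5 n136466 = n124002 := (sb E99695 F331016)
theorem F344827 : act 5 n181803 = n174376 := d18_4 D173637 F344805 (iv1 D181802) D181803 F273220 (iv0 F319027) F271797 (iv0 F319560) D83045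
theorem F344828 : act 5 n107713 = n147285 := d18_4 (iv1 F279624) (iv4 F319243) (iv1 F179696) F179694 F319429 F272114 F344805 F282975 (iv5 F279620)
theorem F344829 : act 3 n147286 = n107713 := d6_3 F344828 (iv3 D147285) D147286
theorem F344830 : act 5 n167568 = n136449 := d17_1 D167568 (iv1 F219544) F344828 F319429 (iv5 D83898) F319561 D173347 F342686 (iv4 F319552)
theorem F344831 : act 6 n147285 = n162538 := d21_3 F344830 (iv1 F219544) F344828 (iv1 D162538) (iv6 D78047) (iv5 D35599) (iv1 F29420) (iv5 F57523) D80423 D167568
theorem F344832 : act 2 n162538 = n175790 := d3_1 F344831 (iv6 D175790) (iv2 F319428)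
theorem F344833 : act 3 n162538 = n147287 := d7_1 F344831 (iv6 D147287) D147285
theorem E99696 : n162538 = n132811 := (c10_1 F344831 (iv4 D132811) F315055 (iv4 F319429))
theorem F344834 : act 0 n132811 = n78047 := (sb E99696 (iv1 D162538))
theorem F344835 : act 1 n132811 = n78074 := (sb E99696 F256741)
theorem E99697 : n175790 = n78072 := (((F342206).symm.trans (sb E99696 F344832))).symm
theorem F344836 : act 3 n132811 = n147287 := (sb E99696 F344833)
theorem F344837 : act 6 n132811 = n147285 := (sb E99696 (iv6 F344831))
theorem E99698 : n162581 = n83907 := ((D162581).symm.trans (sb E99697 F275208))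
theorem E99699 : n162583 = n83906 := ((D162583).symm.trans (sb E99697 (iv6 D175790)))
theorem F344838 : act 4 n83907 = n78072 := (sb E99698 (iv4 D162581))
theorem F344839 : act 6 n83906 = n78072 := (sb E99699 (iv6 D162583))
theorem E99700 : n162580 = n107716 := (c7_2 F344839 D162580 (iv6 D107716) (iv3 F321881))
theorem F344840 : act 3 n107716 = n78072 := (sb E99700 (iv3 D162580))
theorem F344841 : act 5 n160725 = n107712 := d21_0 (iv1 D107712) F323563 F344839 (iv1 D78072) (iv6 D35609) (iv5 D17248) D17247 (iv5 F55955) D77117 D160725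
theorem F344842 : act 2 n107712 = n136449 := d2_1 F344841 (iv5 F344830) (iv2 F342691)
theorem E99701 : n136064 = n115388 := ((c18_3 (iv1 D107712) (iv4 F84081) D115388 (iv4 F344780) F344781 (iv4 D175739) F278411 D83967 (iv0 F323226) F344841)).symm
theorem F344843 : act 2 n115388 = n64156 := (sb E99701 F344816)
theorem F344844 : act 4 n115388 = n179561 := (sb E99701 (iv4 F344780))
theorem F344845 : act 6 n115388 = n63985 := (sb E99701 (iv6 D136064))
theorem F344846 : act 7 n115388 = n64155 := (sb E99701 F344817)
theorem E99702 : n137352 = n136470 := ((c14_2 F344846 D136470 (iv7 D137352) (iv6 D64564) (iv7 F218809) (iv6 F344845))).symm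
theorem F344847 : act 7 n136470 = n64564 := (sb E99702 (iv7 D137352))
theorem E99703 : n136466 = n115389 := (c15_4 F179697 F179692 F344846 D136466)
theorem F344848 : act 2 n115389 = n64155 := (sb E99703 (iv2 D136466))
theorem F344849 : act 3 n115389 = n124007 := (sb E99703 F344824)
theorem F344850 : act 4 n115389 = n177621 := (sb E99703 F344825)
theorem F344851 : act 5 n115389 = n124002 := (sb E99703 F344826)
theorem F344852 : act 7 n115389 = n64156 := (sb E99703 (iv7 F219586))
theorem F344853 : act 4 n175734 = n124002 := d16_6 F344844 F344781 (iv4 D175739) (iv5 D83890) D83889 D175734 (iv5 F344851) F344852 (iv2 F344843)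
theorem F344854 : act 6 n124000 = n175734 := d10_0 F344853 (iv6 D124002) D124000
theorem F344855 : act 2 n124002 = n136469 := d2_1 F344851 (iv5 D136469) (iv2 F344848)
theorem F344856 : act 0 n124002 = n132243 := d17_2 (iv1 F179697) F344851 F211885 (iv4 F167725) F324293 (iv0 F323226) F344841 F219550 F219546
theorem F344857 : act 6 n136469 = n123999 := d3_2 D124002 F344855 (iv2 D123999)
theorem F344858 : act 4 n178791 = n124007 := d5_4 F344850 F336425 (iv4 D178792) D178791 (iv3 F344849)
theorem F344859 : act 6 n177620 = n115389 := d10_0 F344850 (iv6 D177621) D177620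
theorem F344860 : act 5 n160726 = n107711 := d18_9 (iv1 F219548) F219546 (iv1 F179697) F344850 (iv5 F336421) (iv4 D174761) F321888 (iv4 F115836) D160726
theorem E99704 : n175783 = n148873 := ((c18_1 D148873 (iv4 D175783) (iv1 D83905) D83906 (iv5 F323563) (iv4 F84081) D115389 F344850 F336424 F131407)).symm
theorem F344861 : act 2 n148873 = n181802 := (sb E99704 (iv2 F344806))
theorem F344862 : act 4 n148873 = n83905 := (sb E99704 (iv4 D175783))
theorem E99705 : n178792 = n107669 := ((c20_5 (iv4 D11421) D11419 D24258 D49743 D107669 (iv3 F336425) (iv4 F344850) (iv1 D115389) F84081 (iv3 D49759) (iv1 D24264))).symm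
theorem F344863 : act 3 n107669 = n177621 := (sb E99705 (iv3 F336425))
theorem F344864 : act 4 n107669 = n85198 := (sb E99705 (iv4 D178792))
theorem F344865 : act 0 n178791 = n135917 := d20_10 (iv4 D135917) (iv1 D63909) (iv4 F53410) (iv3 D34042) D34040 D74200 F111013 D107669 F344864 D178791
theorem F344866 : act 0 n135912 = n178791 := d20_4 D156169 (iv1 F247120) (iv4 D157008) F247049 (iv3 D178791) (iv4 F344864) (iv1 F245456) (iv4 D156193) (iv3 F167144) (iv1 F167147)
theorem F344867 : act 2 n137061 = n178791 := d15_3 (iv0 F344866) (iv0 F245115) F220231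
theorem F344868 : act 4 n160318 = n137061 := d1_0 F344867 F344858 (iv2 F253225)
theorem F344869 : act 6 n137061 = n160317 := d10_2 D160318 F344868 (iv4 D160317)
theorem F344870 : act 0 n156012 = n160318 := d18_2 D74206 D156012 F344868 (iv5 F245025) F245024 D156307 (iv4 F245625) (iv0 D156023) (iv5 D74209)
theorem F344871 : act 3 n160317 = n137062 := d7_1 F344869 (iv6 D137062) D137061
theorem F344872 : act 6 n177609 = n107669 := d7_0 F344863 (iv6 D177621) (iv3 F277075)
theorem F344873 : act 4 n178794 = n177609 := d10_3 F344872 F344864 D178794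
theorem F344874 : act 5 n177200 = n178794 := d16_3 F127690 D84430 D177200 F344873 (iv5 D177609) (iv4 F304984) F330763 (iv7 F188030) (iv2 F188027)
theorem E99706 : n177611 = n163771 := (c16_9 F193280 F330713 F127690 D84430 D177200 F344874 F344873 (iv5 D177609) D177611 F258127)
theorem F344875 : act 3 n163771 = n84599 := (sb E99706 F277077)
theorem E99707 : n120923 = n78680 := (((F258128).symm.trans (sb E99706 F334658))).symm
theorem F344876 : act 7 n163771 = n84595 := (sb E99706 (iv7 D177611))
theorem E99708 : n163772 = n55773 := ((D163772).symm.trans (sb E99707 (iv1 D120923)))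
theorem E99709 : n163773 = n113168 := ((D163773).symm.trans (sb E99707 (iv0 F320945)))
theorem E99710 : n174077 = n163755 := ((((iv3 F258115)).symm.trans (sb E99707 (iv3 F341711)))).symm
theorem E99711 : n120922 = n83230 := ((D120922).symm.trans (sb E99708 F330718))
theorem F344877 : act 1 n55773 = n78680 := (sb E99708 (iv0 D163772))
theorem F344878 : act 0 n113168 = n78680 := (sb E99709 (iv1 D163773))
theorem F344879 : act 0 n163755 = n157619 := (sb E99710 F341709)
theorem F344880 : act 2 n163755 = n83221 := (sb E99710 F272880)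
theorem F344881 : act 4 n163755 = n159237 := (sb E99710 (iv4 F341710))
theorem F344882 : act 5 n163755 = n83219 := (sb E99710 (iv5 D174077))
theorem F344883 : act 0 n83230 = n113168 := (sb E99711 (iv1 F320946))
theorem F344884 : act 1 n83230 = n55773 := (sb E99711 (iv0 D120922))
theorem F344885 : act 5 n125334 = n178458 := d21_6 F324207 (iv1 D62087) F320950 (iv6 F88204) (iv1 F344884) (iv6 F330725) F278299 (iv5 F323012) F122195 (iv1 F119850)
theorem F344886 : act 3 n178458 = n173804 := d6_1 F344885 F304132 (iv3 F330724)
theorem F344887 : act 6 n178458 = n173801 := d12_2 (iv6 F330725) F344885 (iv5 D173801) (iv6 F302294) D83230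
theorem F344888 : act 1 n121091 = n121678 := d17_8 D125334 F344885 F278299 (iv5 F323012) F122194 D79925 D166513 (iv5 F262048) F304736
theorem F344889 : act 4 n98249 = n120992 := d18_5 F278299 F130467 F130234 (iv4 F125770) (iv5 F151595) F342279 F304979 F201601 F344885
theorem F344890 : act 4 n107239 = n173290 := d19_10 D125334 F344885 F278301 (iv3 F278297) (iv1 F131907) (iv5 F319581) D66682 F102585 F104362 D107239 F271674 (iv1 F127808) (iv5 F59279) F298883 F43895 D27153 F43897 (iv4 F45065) D58694
theorem F344891 : act 0 n113167 = n163848 := d21_7 F321017 (iv1 F278300) (iv5 F344885) F330725 F344883 (iv6 D113168) D113167 (iv5 D163848) (iv6 F330807) F322772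
theorem F344892 : act 0 n119570 = n173801 := d21_4 (iv5 F298856) (iv1 F134282) F134281 (iv6 F304094) (iv6 F344887) (iv5 F344885) (iv1 F201601) F321836 (iv6 F186522) (iv1 F186531)
theorem F344893 : act 1 n119303 = n173801 := d15_0 (iv0 F344892) (iv7 D119570) (iv2 F187796)
theorem E99712 : n162707 = n119384 := (c15_3 (iv0 F332084) F344893 F272384 F188072)
theorem F344894 : act 3 n119384 = n78187 := (sb E99712 F256940)
theorem F344895 : act 5 n119384 = n78186 := (sb E99712 (iv5 D162707))
theorem F344896 : act 7 n119384 = n173801 := (sb E99712 (iv7 F272384))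
theorem F344897 : act 5 n119303 = n120159 := d21_0 F314771 (iv5 F306118) (iv6 D119011) (iv1 F86628) D54826 (iv5 F321018) D125334 F344885 F344887 (iv1 F344893)
theorem F344898 : act 3 n120228 = n119303 := d6_3 F344897 F314773 D120228
theorem F344899 : act 7 n120158 = n119303 := d13_0 F344897 (iv7 D120159) D120158
theorem F344900 : act 5 n148993 = n149893 := d17_3 F311340 F234279 (iv1 F234174) (iv4 F242262) F332064 (iv0 F332084) F344897 F314772 (iv4 F149207)
theorem F344901 : act 0 n171032 = n162762 := d19_16 (iv1 F344893) F344897 F189790 F87502 (iv1 F42841) (iv5 F27132) (iv4 F41670) (iv3 F301594) (iv1 F28117) D17212 (iv4 F324120) (iv3 F39334) D51589 (iv5 F172398) F332945 (iv3 F268749) (iv5 F320204) F320203 (iv3 F272383)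
theorem F344902 : act 0 n120211 = n120225 := d18_2 (iv1 F257117) (iv4 F335260) (iv4 D120225) (iv5 D55317) D55316 F187423 F187161 D148993 F344900
theorem F344903 : act 3 n150910 = n150088 := d19_15 (iv1 F234174) F344900 (iv4 F242262) (iv3 D154157) (iv1 F109557) F312592 (iv4 F123248) (iv3 D80227) (iv1 D36546) D36547 F323536 D140976 F342374 (iv5 D150911) D150910 (iv1 F236193) F234298 F106312 (iv3 F106302)
theorem E99713 : n170466 = n131459 := (c21_5 (iv5 F344130) (iv1 D170463) (iv5 D81719) D81720 D170466 (iv6 F234280) F234279 (iv1 F234174) F344900 F337671 (iv1 F344128))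
theorem F344904 : act 0 n131459 = n133833 := (sb E99713 (iv1 F337047))
theorem F344905 : act 1 n131459 = n81720 := (sb E99713 (iv0 D170466))
theorem E99714 : n170467 = n131453 := ((c15_4 F337046 (iv0 F344904) (iv7 D131459) (iv2 F210714))).symm
theorem F344906 : act 0 n131453 = n81720 := (sb E99714 (iv1 D170467))
theorem F344907 : act 1 n131453 = n133833 := (sb E99714 F337046)
theorem E99715 : n170462 = n131362 := (c21_8 F96189 (iv1 F104018) (iv5 F104017) D131453 F344906 (iv6 D81720) D81719 D170462 (iv5 D131362) (iv6 D61654) F96190)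
theorem F344908 : act 1 n131362 = n81719 := (sb E99715 (iv0 D170462))
theorem F344909 : act 0 n170468 = n177028 := d21_1 D170468 (iv5 D177028) (iv6 D84375) (iv1 F70564) (iv6 F309684) F96189 (iv1 F104018) (iv5 F104017) D131453 F344906
theorem E99716 : n170464 = n160119 := (c17_10 (iv1 D160119) (iv5 F326213) (iv1 F203911) (iv5 F337674) F233326 F337673 (iv0 D131360) D131362 F344908 D170464)
theorem F344910 : act 1 n160119 = n126707 := (sb E99716 F340954)
theorem F344911 : act 2 n160119 = n144351 := (sb E99716 (iv2 F337166))
theorem F344912 : act 4 n160119 = n81719 := (sb E99716 (iv4 D170464))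
theorem F344913 : act 5 n160119 = n136455 := (sb E99716 F344160)
theorem F344914 : act 7 n160119 = n136454 := (sb E99716 (iv7 F337169))
theorem F344915 : act 5 n126718 = n120682 := d18_4 D126705 F203907 (iv1 F100093) (iv4 F203935) F210573 F344908 (iv4 F344912) F344910 (iv5 D126707)
theorem F344916 : act 0 n170452 = n110661 := d18_2 D81716 D170452 (iv4 F331698) (iv5 D144559) (iv4 F227421) (iv0 F332299) F210573 F344908 (iv5 D81719)
theorem E99717 : n172352 = n110661 := ((c20_5 F187617 D152660 (iv4 F341656) (iv3 F341632) F344916 (iv3 D172352) (iv4 D82536) F301542 F127021 (iv3 F113289) F249406)).symm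
theorem F344917 : act 3 n110661 = n82536 := (sb E99717 (iv3 D172352))
theorem E99718 : n172353 = n110660 := (c6_3 D110661 F344917 D172353 (iv3 D110660))
theorem F344918 : act 1 n110660 = n175343 := (sb E99718 F343029)
theorem F344919 : act 5 n110660 = n82536 := (sb E99718 (iv5 D172353))
theorem F344920 : act 0 n110661 = n170260 := d20_10 F267774 (iv1 F317485) (iv4 F118923) (iv3 D45946) F296817 (iv3 F58675) F58676 D37892 D82536 (iv3 F344917)
theorem F344921 : act 2 n180111 = n110660 := d2_3 F344919 (iv2 F314493) (iv5 F342100)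
theorem F344922 : act 5 n158441 = n112721 := d13_3 (iv7 F175451) F344919 (iv7 F309961)
theorem E99719 : n175342 = n174808 := ((c17_10 (iv1 D175342) D175343 (iv1 F344918) F344919 (iv4 D82536) (iv5 F320694) (iv0 F340177) (iv5 D134610) D134609 (iv4 F334683))).symm
theorem F344923 : act 0 n174808 = n83734 := (sb E99719 (iv1 D175342))
theorem F344924 : act 7 n174808 = n180290 := (sb E99719 F335282)
theorem F344925 : act 3 n180290 = n173641 := d8_1 F344924 F334731 (iv3 F273652)
theorem F344926 : act 6 n180290 = n173927 := d14_1 F344924 F315005 (iv6 F323008) F273681 D174808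
theorem F344927 : act 5 n180182 = n180290 := d6_0 F344925 F334728 D180182
theorem E99720 : n173641 = n130156 := (c20_4 (iv4 F334685) F330232 D180290 F344925 (iv1 D130156) F95616 F46590 D29136 (iv4 F315014) (iv3 F60653) D86117)
theorem F344928 : act 1 n130156 = n83046 := (sb E99720 (iv0 D173641))
theorem F344929 : act 2 n130156 = n173831 := (sb E99720 (iv2 F334729))
theorem F344930 : act 3 n130156 = n180290 := (sb E99720 (iv3 F344925))
theorem F344931 : act 5 n130156 = n86087 := (sb E99720 F334728)
theorem F344932 : act 6 n130156 = n124413 := (sb E99720 (iv6 F334730))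
theorem F344933 : act 7 n130156 = n83514 := (sb E99720 F334731)
theorem F344934 : act 7 n130155 = n173831 := d4_2 F344933 (iv2 F333765) (iv2 F344929)
theorem F344935 : act 1 n173831 = n125292 := d15_0 F334684 (iv7 F344933) F344929
theorem F344936 : act 1 n123967 = n173831 := d15_0 F344935 F319530 (iv2 F315287)
theorem E99721 : n180463 = n176168 := ((c21_8 D125292 (iv1 F344935) F303617 (iv6 D83268) (iv1 F128334) (iv6 F334616) F334615 D176168 (iv5 D180463) (iv6 F336015) F336008)).symm
theorem F344937 : act 5 n176168 = n86186 := (sb E99721 (iv5 D180463))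
theorem F344938 : act 0 n120487 = n114461 := d21_10 F334147 (iv1 F272111) (iv5 D173635) (iv6 F319529) (iv1 F344935) (iv6 D173831) (iv5 D83126) (iv1 F121254) F315037 (iv6 F298358)
theorem F344939 : act 5 n175778 = n179600 := d17_5 F342680 (iv5 F298357) F344938 F334147 D175778 (iv0 F313966) (iv5 D160596) D160595 F342678
theorem F344940 : act 3 n100934 = n120485 := d20_9 D120487 F344938 F178517 F310707 (iv1 F108167) (iv3 F323427) (iv4 F324754) F324751 F273362 (iv1 D120485)
theorem E99722 : n175780 = n114464 := (c21_10 F104507 D76541 F326660 (iv6 D122498) (iv1 F296715) F319553 (iv5 F298357) F344938 F334147 D175780 F322759)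
theorem F344941 : act 6 n114464 = n83904 := (sb E99722 (iv6 D175780))
theorem F344942 : act 1 n120487 = n175784 := d15_1 (iv0 F344938) F334742 F311483
theorem F344943 : act 1 n167614 = n114461 := d15_0 (iv0 F344938) F191928 D167614
theorem F344944 : act 1 n175784 = n167614 := d15_0 F344943 (iv7 F344794) F344792
theorem F344945 : act 3 n167614 = n130488 := d20_5 (iv4 D63266) (iv1 F86349) (iv4 F308848) (iv3 F178516) (iv1 F344943) (iv4 F214927) (iv1 D133598) (iv4 F207537) (iv3 F216611) (iv1 D134641)
theorem F344946 : act 5 n130488 = n158985 := d6_2 (iv5 F303420) F344945 F324712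
theorem F344947 : act 3 n175784 = n118485 := d20_5 F217804 (iv1 F214925) F214927 (iv3 F344945) (iv1 F344944) F186380 (iv1 F86251) D54594 (iv3 F209862) D135463
theorem F344948 : act 4 n107948 = n175784 := d5_0 F344947 F186380 F86249 (iv4 F78850) D107948
theorem F344949 : act 5 n118485 = n175782 := d6_2 D175784 F344947 (iv3 D175782)
theorem F344950 : act 7 n175782 = n118484 := d13_2 D118485 F344949 (iv5 D118484)
theorem F344951 : act 4 n175782 = n111848 := d16_2 (iv4 F186380) F344949 F330766 (iv4 D52128) (iv5 D25311) F19878 D12599 D26403 (iv2 F86248)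
theorem F344952 : act 0 n175782 = n118568 := d17_2 (iv1 F186382) F344949 (iv5 F189740) F189741 F96226 F94589 (iv5 F106305) F106303 (iv4 F96295)
theorem F344953 : act 1 n175782 = n118567 := d17_6 F42828 (iv5 D26396) (iv1 F42132) (iv5 F86250) (iv4 F186380) F344949 F189747 F189744 (iv4 D55284)
theorem E99723 : n118567 = n111445 := ((c21_10 (iv5 F344949) (iv1 F186381) D118561 F336408 (iv1 F323301) (iv6 D112557) (iv5 D51931) F39678 D51402 D111445 (iv1 F344953))).symm
theorem F344954 : act 0 n111445 = n175782 := (sb E99723 (iv1 F344953))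
theorem F344955 : act 1 n111445 = n54599 := (sb E99723 (iv0 D118567))
theorem E99724 : n131358 = n113293 := ((((iv2 F176507)).symm.trans (sb E99723 (iv2 F210565)))).symm
theorem F344956 : act 5 n111445 = n120126 := (sb E99723 F189747)
theorem F344957 : act 0 n113293 = n118571 := (sb E99724 F210567)
theorem F344958 : act 1 n113293 = n118484 := (sb E99724 F210568)
theorem F344959 : act 5 n113293 = n61653 := (sb E99724 (iv5 D131358))
theorem F344960 : act 7 n113293 = n118568 := (sb E99724 F210566)
theorem F344961 : act 5 n137280 = n112922 := d16_1 (iv4 F220427) (iv4 D112922) (iv5 D52124) (iv4 F50577) (iv5 F96226) (iv4 F189741) F189740 (iv7 F344960) F176507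
theorem F344962 : act 6 n112922 = n137281 := d12_2 D137280 F344961 (iv5 D137281) (iv6 D64521) D64520
theorem F344963 : act 4 n137281 = n112923 := d10_1 F344962 (iv6 D112923) D112922
theorem F344964 : act 4 n131399 = n135624 := d16_6 F48424 (iv5 F76579) (iv4 F100455) D137281 F344963 (iv5 F210617) F218098 (iv7 D63772) (iv2 F48423)
theorem F344965 : act 7 n131399 = n135623 := d16_8 (iv4 D135809) (iv5 D63860) F48424 (iv5 F76579) (iv4 F100455) D137281 F344963 (iv5 F210617) (iv2 F218424)
theorem F344966 : act 7 n135809 = n119100 := d4_2 F344965 (iv2 F218424) (iv2 F210616)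
theorem F344967 : act 4 n119100 = n135810 := d11_1 F344966 (iv7 D135810) D135809
theorem E99725 : n186247 = n135809 := (c14_6 F344966 (iv6 D119100) (iv7 F112347) (iv6 F138531) F292214 D186247)
theorem F344968 : act 3 n135809 = n88717 := (sb E99725 F289009)
theorem F344969 : act 6 n135809 = n88716 := (sb E99725 (iv6 D186247))
theorem E99726 : n186251 = n113018 := (c8_3 (iv7 F344966) F344968 D186251 (iv3 F187364))
theorem F344970 : act 7 n113018 = n88717 := (sb E99726 (iv7 D186251))
theorem F344971 : act 1 n151975 = n186248 := d15_0 (iv0 D186248) (iv7 F344970) (iv2 F238989)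
theorem F344972 : act 6 n186245 = n135623 := d3_2 F344969 D186245 (iv2 F218424)
theorem E99727 : n186246 = n135807 := (c10_2 F344969 D186246 F218418 D135809)
theorem F344973 : act 4 n135807 = n88716 := (sb E99727 (iv4 D186246))
theorem F344974 : act 4 n186245 = n135619 := d1_2 F344973 D186245 (iv2 F218417)
theorem E99728 : n135806 = n135534 := ((c19_20 (iv1 D135806) D135807 F344973 (iv3 D88716) (iv1 D41417) (iv5 D19506) (iv4 D9180) (iv3 F14273) F30751 (iv5 D19136) (iv4 F28491) (iv3 D17504) D17503 (iv5 F325361) F18984 (iv3 F18971) D24592 F48333 D63730 D135534)).symm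
theorem F344975 : act 0 n135534 = n63857 := (sb E99728 (iv1 D135806))
theorem F344976 : act 1 n135534 = n135620 := (sb E99728 F218416)
theorem F344977 : act 2 n133229 = n135805 := d15_3 (iv0 D135805) (iv0 F344975) F217959
theorem F344978 : act 5 n126580 = n182060 := d16_3 F344974 (iv5 D135619) (iv4 F203603) (iv4 D182060) (iv5 D86951) (iv4 F65039) D90103 F292214 D186245
theorem F344979 : act 2 n182702 = n126587 := d16_9 F203620 (iv5 F328109) (iv4 F136151) (iv5 F289005) F344974 (iv5 D135619) (iv4 F203603) F344978 F294309
theorem F344980 : act 6 n126585 = n182702 := d3_0 F344979 (iv6 D126587) D126585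
theorem F344981 : act 1 n126587 = n98606 := d15_0 (iv0 F283465) F294309 F344979
theorem E99729 : n98604 = n98294 := (c18_9 (iv1 F157609) (iv4 F68937) (iv1 F293187) F136151 F328109 (iv4 F203620) F344981 (iv4 D98606) D98604 (iv5 D98294))
theorem F344982 : act 0 n98294 = n46097 := (sb E99729 (iv1 D98604))
theorem F344983 : act 6 n182060 = n126581 := d12_2 D126580 F344978 (iv5 D126581) (iv6 D59388) D59387
theorem F344984 : act 5 n98606 = n127382 := d21_8 D146770 F230134 (iv5 F176906) F326343 F96818 D126580 F344978 F283465 (iv6 D127382) (iv1 F105006)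
theorem F344985 : act 4 n126581 = n101261 := d10_1 F344983 F156022 D182060
theorem E99730 : n170764 = n126504 := (c1_3 F344985 F156020 D170764 (iv2 F203604))
theorem F344986 : act 4 n126504 = n81869 := (sb E99730 (iv4 D170764))
theorem F344987 : act 5 n126505 = n126502 := d9_8 D126581 F344985 (iv5 D101261) (iv4 F156017) F332362 F219950 F100114 (iv4 F203406) (iv4 F328118) (iv5 D123472) F121577 F330940 F93863 F48647 (iv4 F93712)
theorem F344988 : act 7 n126502 = n126504 := d16_8 F344985 (iv5 D101261) (iv4 F156017) F332362 F219950 F100114 (iv4 F203406) F344987 (iv2 F203604)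
theorem F344989 : act 3 n126504 = n126505 := d8_1 F344988 (iv7 D126505) (iv3 F203404)
theorem F344990 : act 1 n126502 = n132203 := d17_6 (iv1 D130638) F95782 (iv1 F100117) F100114 (iv4 F203406) F344987 (iv5 D132203) D132202 F211972
theorem F344991 : act 4 n98550 = n132203 := d20_6 F327854 (iv1 F167626) F326605 F60124 D46074 D98550 (iv1 F344990) (iv4 F328118) F197880 (iv1 F302517)
theorem F344992 : act 0 n129674 = n98550 := d18_2 (iv1 D129673) D129674 F344991 (iv5 D132203) F96642 D62024 D132206 (iv0 F211812) F207849
theorem F344993 : act 5 n129674 = n98512 := d18_9 (iv1 D98512) (iv4 F315082) (iv1 F317289) (iv4 F121577) D123472 F328118 F344990 (iv4 F344991) (iv0 F344992)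
theorem F344994 : act 7 n98512 = n153965 := d16_8 F332397 (iv5 D116845) F84883 F41148 (iv4 F46530) D60909 D129674 F344993 F332398
theorem E99731 : n98512 = n98291 := ((c4_4 F344994 F332398 (iv7 F332401) F332345)).symm
theorem F344995 : act 0 n98291 = n46065 := (sb E99731 (iv1 D98512))
theorem F344996 : act 5 n98291 = n129674 := (sb E99731 (iv5 F344993))
theorem F344997 : act 7 n98291 = n153965 := (sb E99731 F344994)
theorem E99732 : n173420 = n153965 := (c15_2 (iv0 D173419) D173420 (iv7 F344997) (iv2 F332345))
theorem F344998 : act 0 n153965 = n82986 := (sb E99732 (iv1 D173420))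
theorem F344999 : act 1 n137315 = n127061 := d18_8 D128224 F332357 F344998 F127910 D82990 (iv4 F332372) (iv0 F203787) (iv4 F220476) F332352
theorem F345000 : act 3 n129674 = n174722 := d6_1 F344996 (iv5 D174722) (iv3 F151707)
theorem F345001 : act 6 n129674 = n98294 := d12_2 D98291 F344996 (iv5 D98294) (iv6 D45992) D45991
theorem F345002 : act 4 n98294 = n129664 := d10_1 F345001 F207840 D129674
theorem F345003 : act 5 n131120 = n134497 := d16_7 F99232 D129664 (iv4 F345002) (iv5 D98294) (iv4 F114666) F114667 (iv4 F210010) (iv7 D134497) (iv2 F99231)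
theorem F345004 : act 5 n135623 = n186370 := d12_1 F344972 (iv6 D186370) (iv5 D88776) (iv6 F293723) (iv5 F289005)
theorem F345005 : act 7 n92487 = n186245 := d14_0 F344972 (iv7 F344965) (iv6 D131399) F96258 (iv6 F142363)
theorem F345006 : act 3 n186245 = n151946 := d8_1 F345005 (iv7 D151946) (iv3 F142362)
theorem F345007 : act 1 n186157 = n92487 := d15_1 (iv0 F339539) F345005 (iv2 D186245)
theorem F345008 : act 6 n186157 = n159605 := d21_5 (iv5 D26512) D26510 D54805 (iv6 F142363) (iv1 F345007) (iv5 D159605) F258961 D78893 F120064 F56584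
theorem F345009 : act 6 n152447 = n105147 := d3_2 F345008 F251408 (iv2 F288902)
theorem F345010 : act 3 n159608 = n186157 := d7_3 F345008 F251409 D159608
theorem F345011 : act 6 n115104 = n152452 := d21_5 F136056 (iv1 F292497) D43961 D94046 F327566 F239641 (iv1 F258962) D159605 (iv6 F345008) F339539
theorem F345012 : act 7 n119103 = n115104 := d14_0 F345011 (iv7 D152452) F108419 (iv7 F86725) D119103
theorem F345013 : act 1 n130707 = n119103 := d15_1 D130707 F345012 F179247
theorem F345014 : act 1 n119103 = n130706 := d15_1 F345013 (iv7 F327570) F327568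
theorem F345015 : act 6 n130707 = n94041 := d21_5 (iv5 D62690) (iv1 F54422) (iv5 F86726) D119103 (iv1 F345013) (iv5 D94041) F136750 D90103 F138531 (iv1 F112346)
theorem F345016 : act 0 n134496 = n133581 := d21_4 F209268 (iv1 D63190) D63191 (iv6 F216448) (iv6 D133581) (iv5 D62690) (iv1 F54422) (iv5 F86726) D119103 (iv1 F345013)
theorem F345017 : act 6 n144911 = n134501 := d21_9 F218328 (iv1 F99239) (iv5 F209268) F345015 F344368 F325365 (iv5 D67938) D67935 D144911 (iv1 F218330)
theorem F345018 : act 6 n94060 = n131117 := d21_3 (iv5 D88689) (iv1 F290709) D94060 (iv1 F215039) (iv6 F333580) F218328 (iv1 F99239) (iv5 F209268) F345015 F344368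
theorem F345019 : act 3 n131117 = n94061 := d7_1 F345018 (iv6 D94061) (iv3 F144907)
theorem F345020 : act 4 n133581 = n94060 := d10_3 F345018 F210006 D133581
theorem F345021 : act 4 n131123 = n134496 := d20_6 D92418 (iv1 F144615) (iv4 D93812) D93811 F235284 (iv3 F210011) F345016 F345020 F144907 F69125
theorem F345022 : act 3 n90332 = n157403 := d6_3 F247887 F345019 F144913
theorem F345023 : act 6 n130704 = n144974 := d3_2 F345017 (iv2 F216451) (iv2 F227944)
theorem F345024 : act 4 n134501 = n147238 := d10_1 F345017 (iv6 D147238) (iv4 F227877)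
theorem F345025 : act 0 n147238 = n131399 := d18_2 D134501 F345024 F344964 F218098 (iv4 F203500) F203503 F168378 (iv0 D63189) D63191
theorem F345026 : act 1 n147238 = n135809 := d18_6 F328438 F328039 (iv1 F202276) (iv4 F179246) (iv5 F216450) F345024 (iv4 D135809) (iv0 F209279) (iv5 D130713)
theorem E99733 : n186404 = n186327 := (c21_11 (iv5 D186327) (iv1 D88760) (iv5 F136056) (iv6 F344969) (iv1 F345026) (iv6 D147238) (iv5 D69024) (iv1 F51060) D68430 (iv6 F326238) F291017)
theorem F345027 : act 0 n186327 = n88788 := (sb E99733 (iv1 D186404))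
theorem F345028 : act 1 n186327 = n94043 := (sb E99733 (iv0 F291017))
theorem F345029 : act 2 n93817 = n186327 := d15_3 F345028 (iv0 D94043) (iv7 F144623)
theorem E99734 : n186328 = n100672 := (c21_4 (iv5 F291020) (iv1 F345028) (iv5 D186327) D186328 (iv1 D100672) F291330 (iv5 F108436) (iv1 F239684) (iv5 F239627) F291560 (iv1 F136030))
theorem F345030 : act 6 n100672 = n88760 := (sb E99734 (iv6 D186328))
theorem F345031 : act 2 n93063 = n100672 := d3_3 F345030 F293184 (iv6 F143547)
theorem E99735 : n144268 = n100672 := (c7_4 F345030 (iv3 F294190) F305031 D144268)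
theorem F345032 : act 3 n100672 = n67572 := (sb E99735 (iv3 D144268))
theorem F345033 : act 4 n98571 = n100672 := d10_3 F345030 (iv4 F294193) D98571
theorem F345034 : act 5 n184471 = n100672 := d21_2 (iv5 F239757) (iv1 F286372) F345030 (iv1 D88760) F292088 D94442 F340448 (iv5 D88620) (iv6 F291524) D92620
theorem E99736 : n100875 = n93064 := ((c19_17 (iv1 D31389) D31390 D67572 (iv3 F345032) (iv1 D100672) F291329 F340054 F153039 (iv1 F137397) (iv5 D89615) F64523 F290814 (iv1 F290823) (iv5 D46843) (iv4 F68056) D43548 D93064 (iv5 D100875) (iv4 F329867) (iv3 D67567))).symm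
theorem F345035 : act 5 n93064 = n47021 := (sb E99736 (iv5 D100875))
theorem F345036 : act 6 n93064 = n84036 := (sb E99736 F335333)
theorem F345037 : act 7 n93064 = n89115 := (sb E99736 F270478)
theorem F345038 : act 0 n104040 = n144264 := d20_10 (iv4 D144264) (iv1 D67571) D67572 (iv3 F345032) (iv1 D100672) (iv3 D46953) (iv4 F291292) F73995 (iv4 F292146) D104040
theorem F345039 : act 3 n139349 = n93064 := d8_3 F345037 F329813 (iv7 F222562)
theorem F345040 : act 6 n176191 = n139349 := d7_0 F345039 F345036 (iv3 F275415)
theorem F345041 : act 4 n139349 = n103956 := d20_6 (iv4 D22502) D22500 (iv4 F68056) D43548 D93064 (iv3 F345039) (iv1 D103956) (iv4 F142760) (iv3 D92641) F68041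
theorem F345042 : act 2 n103956 = n139606 := d1_1 F345041 (iv4 D139606) (iv2 F222561)
theorem F345043 : act 7 n103956 = n139590 := d11_2 (iv7 F222562) F345041 (iv4 D139590)
theorem F345044 : act 5 n103956 = n171106 := d17_5 (iv1 D88035) D88036 (iv1 F329610) D139349 F345041 (iv0 D171106) (iv5 D82008) D82007 F135037
theorem E99737 : n115793 = n91273 := ((c17_2 (iv1 D103956) (iv5 F292868) F337445 (iv5 D99871) F135046 (iv5 F329834) (iv0 F335378) (iv5 F294641) F336649 F345041)).symm
theorem F345045 : act 0 n91273 = n99871 := (sb E99737 F337445)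
theorem F345046 : act 4 n91273 = n53391 := (sb E99737 (iv4 D115793))
theorem F345047 : act 1 n103956 = n156711 := d18_6 (iv1 F101096) F49142 (iv1 F49122) D65406 D139349 F345041 (iv4 D156711) F329237 F328895
theorem F345048 : act 3 n100692 = n111165 := d20_9 F345041 (iv1 D103956) (iv4 F142760) (iv3 D92641) F68041 D46846 F74034 D46960 D100692 (iv1 F222563)
theorem F345049 : act 4 n115798 = n171106 := d9_15 (iv5 F345044) (iv4 F345041) (iv5 D139349) (iv4 D65406) (iv5 F49123) D53395 D115796 (iv4 F343858) (iv5 F343848) (iv4 F343851) F329764 (iv4 D65403) F49121 D53398 D115798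
theorem F345050 : act 2 n171106 = n99876 := d1_1 F345049 (iv4 F337447) F222737
theorem F345051 : act 1 n111286 = n115798 := d18_6 D82006 (iv4 F126433) F126435 F294395 (iv5 F329713) (iv4 F172638) F345049 (iv0 D171106) (iv5 D82008)
theorem F345052 : act 3 n154772 = n115798 := d20_5 F110062 (iv1 F110090) (iv4 D73395) (iv3 F110086) D154772 F345049 (iv1 F268840) F337441 (iv3 F337431) (iv1 F110064)
theorem F345053 : act 7 n171107 = n99876 := d16_8 (iv4 F345049) (iv5 D115798) (iv4 D53398) (iv5 F49121) D65403 (iv5 F329764) F343851 F343848 (iv2 F345050)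
theorem F345054 : act 3 n99488 = n171106 := d20_5 D46917 F74128 (iv4 D46517) (iv3 F73488) D99488 (iv4 F345049) (iv1 F345051) F172638 (iv3 F329788) F293165
theorem F345055 : act 5 n99876 = n139606 := d13_1 F345053 (iv7 F343857) F343848
theorem F345056 : act 2 n171107 = n99877 := d15_3 (iv0 F337435) F337436 (iv7 F345053)
theorem F345057 : act 4 n99877 = n111474 := d16_0 F343798 (iv4 D65524) (iv5 D30708) D30707 D65522 D139606 (iv5 F345055) (iv7 F345053) F345056
theorem F345058 : act 7 n171106 = n99877 := d11_0 F345057 F343799 F345049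
theorem F345059 : act 4 n138778 = n99871 := d17_4 F343796 (iv5 D108467) (iv1 F167851) D138778 (iv5 D99871) (iv0 D46642) D46644 D99877 F345057
theorem E99738 : n108467 = n99358 := (c18_3 F337435 F345057 F343796 (iv4 D99358) (iv5 D46460) F34736 D41106 (iv4 F142704) F329533 (iv5 F337438))
theorem F345060 : act 0 n99358 = n139594 := (sb E99738 (iv1 F222739))
theorem F345061 : act 1 n99358 = n111474 := (sb E99738 (iv0 F343796))
theorem E99739 : n111477 = n108561 := (((iv2 F329831)).symm.trans (sb E99738 (iv2 F167894)))
theorem F345062 : act 5 n99358 = n50084 := (sb E99738 (iv5 D108467))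
theorem F345063 : act 2 n108561 = n99358 := (sb E99739 F329831)
theorem F345064 : act 4 n108561 = n65481 := (sb E99739 F172985)
theorem F345065 : act 6 n108561 = n122396 := (sb E99739 F329832)
theorem F345066 : act 7 n108561 = n51416 := (sb E99739 (iv7 D111477))
theorem F345067 : act 7 n111286 = n99358 := d4_2 F345066 (iv2 F172637) (iv2 F345063)
theorem F345068 : act 5 n108468 = n111286 := d13_3 F345067 F345062 D108468
theorem F345069 : act 1 n115796 = n111286 := d15_1 (iv0 F180170) F345067 (iv2 F345063)
theorem E99740 : n139594 = n111475 := ((c15_1 D111475 (iv0 F345060) (iv7 F345067) F172637)).symm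
theorem F345070 : act 1 n111475 = n99358 := (sb E99740 (iv0 F345060))
theorem F345071 : act 2 n111475 = n115798 := (sb E99740 F222737)
theorem F345072 : act 4 n111475 = n99876 := (sb E99740 F337447)
theorem F345073 : act 5 n111475 = n65511 := (sb E99740 (iv5 D139594))
theorem F345074 : act 7 n111475 = n115796 := (sb E99740 F222738)
theorem E99741 : n139542 = n111735 := ((c18_5 (iv1 F101923) F79556 D50198 F111368 (iv5 F337425) (iv4 D139542) (iv0 D65478) (iv4 F81183) D111475 F345073)).symm
theorem F345075 : act 4 n111735 = n65478 := (sb E99741 (iv4 D139542))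
theorem F345076 : act 4 n98429 = n138774 := d1_2 F345075 (iv2 F329835) (iv2 F337424)
theorem E99742 : n139547 = n111736 := ((c9_9 (iv5 F337425) F345075 (iv5 F343886) F343885 F328895 (iv4 F101098) (iv5 F111365) F111364 (iv5 F337429) (iv4 D139547) (iv5 F343864) F343861 (iv5 D139339) (iv4 F168674) (iv5 D108716) F111368)).symm
theorem F345077 : act 4 n111736 = n65479 := (sb E99742 (iv4 D139547))
theorem F345078 : act 4 n139334 = n138773 := d11_3 (iv7 F337426) F345075 (iv7 F329839)
theorem F345079 : act 5 n139566 = n139334 := d9_0 F345078 F221908 (iv4 F167974) (iv5 F167972) F111417 D65485 (iv4 F329516) D98429 F345076 F221912 (iv4 D67582) (iv5 F111414) F111413 D65489 D139566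
theorem F345080 : act 4 n115792 = n100019 := d17_4 F337444 F337422 (iv1 F167846) (iv5 F180167) (iv5 D100019) F295001 (iv5 F329713) D139334 F345078
theorem F345081 : act 7 n139566 = n90781 := d16_8 F329516 (iv5 D65485) (iv4 F111417) F167972 F167974 (iv5 F221908) (iv4 F345078) (iv5 F345079) F343884
theorem F345082 : act 2 n90780 = n139566 := d4_3 F345081 F343884 (iv7 F343866)
theorem F345083 : act 6 n89521 = n139566 := d14_5 F345081 F343887 (iv7 F152047) D46044 (iv7 F335644)
theorem F345084 : act 1 n89546 = n139566 := d15_1 (iv0 F336646) F345081 F343884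
theorem F345085 : act 1 n139566 = n98427 := d15_0 (iv0 D98427) (iv7 F343866) F345082
theorem F345086 : act 4 n98427 = n111165 := d17_9 (iv1 F222563) (iv5 D139349) F111408 (iv5 F329612) F294395 (iv5 F329713) D139334 (iv5 F345079) F345085
theorem E99743 : n98427 = n90782 := ((c1_4 F345086 (iv2 F335387) F293859 D90782)).symm
theorem F345087 : act 0 n90782 = n139566 := (sb E99743 (iv1 F345085))
theorem F345088 : act 1 n90782 = n46039 := (sb E99743 (iv0 D98427))
theorem F345089 : act 4 n90782 = n111165 := (sb E99743 F345086)
theorem F345090 : act 4 n115791 = n100002 := d9_9 (iv5 F180167) F345080 (iv5 D100019) (iv4 D46707) D46708 D100021 F329707 (iv4 F167848) (iv5 F180166) (iv5 D100002) (iv4 D46702) D46703 D100007 F329697 F171582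
theorem F345091 : act 1 n100019 = n90783 := d18_8 D90780 F343861 (iv1 F343860) F142760 (iv5 F292868) F345046 D115792 F345080 (iv5 D90783)
theorem F345092 : act 0 n103927 = n183967 := d20_4 D42723 D91276 F294498 (iv3 F159362) F285832 (iv4 F345080) (iv1 D115792) (iv4 F345046) (iv3 D91273) (iv1 D42722)
theorem F345093 : act 0 n102461 = n95388 := d21_4 D103927 F345092 (iv5 D183967) (iv6 F289858) F147018 (iv5 F328980) (iv1 F219160) F328561 (iv6 F343881) (iv1 D103925)
theorem F345094 : act 1 n103927 = n183966 := d15_1 (iv0 F345092) F285830 (iv2 F285831)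
theorem F345095 : act 1 n135930 = n183967 := d15_0 (iv0 F345092) F343913 (iv2 F218648)
theorem F345096 : act 1 n183966 = n135930 := d15_0 F345095 F285833 (iv2 F285829)
theorem F345097 : act 0 n184002 = n110904 := d21_4 (iv5 D183966) (iv1 F134733) (iv5 F134744) D184002 F338255 F100013 F96622 (iv5 F99405) D135930 (iv1 F345096)
theorem E99744 : n139459 = n115939 := ((c17_1 (iv1 F180526) (iv5 F338284) F345097 F171813 F80661 F39067 D51053 (iv5 F220819) F165707 F104276)).symm
theorem F345098 : act 2 n115939 = n65451 := (sb E99744 (iv2 D139459))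
theorem F345099 : act 3 n115939 = n93323 := (sb E99744 (iv3 F331756))
theorem F345100 : act 5 n115939 = n184002 := (sb E99744 (iv5 F338284))
theorem F345101 : act 7 n115939 = n65452 := (sb E99744 (iv7 F222652))
theorem F345102 : act 5 n108650 = n184116 := d19_17 F345097 F171813 F80661 F39066 (iv1 F37515) F37512 (iv4 D13393) (iv3 F18967) D24577 F38575 (iv4 F39000) F38999 (iv1 F38446) F24597 (iv4 F38418) D50170 D108650 F286058 (iv3 F285887)
theorem F345103 : act 1 n184002 = n110899 := d15_1 (iv0 F345097) F338276 (iv2 F338253)
theorem F345104 : act 0 n184116 = n109193 := d17_2 D108650 F345102 F169163 F101594 D127358 F204607 (iv5 D113418) (iv0 D52360) (iv4 F79502)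
theorem E99745 : n140561 = n109086 := ((c21_3 F169163 (iv1 F176731) F203751 (iv6 D140561) F180972 (iv6 F331054) D91279 (iv1 F294323) F294324 D184116 F345104)).symm
theorem F345105 : act 2 n109086 = n141892 := (sb E99745 (iv2 F224936))
theorem F345106 : act 6 n109086 = n65967 := (sb E99745 (iv6 D140561))
theorem F345107 : act 1 n184116 = n108685 := d15_1 (iv0 F345104) F168616 D109193
theorem F345108 : act 6 n140564 = n113574 := d12_4 F345106 (iv5 D65967) D65968 D140564 F203751
theorem F345109 : act 5 n90712 = n140574 := d21_8 (iv5 D115768) (iv1 F84234) D65967 (iv6 F345106) (iv1 D109086) D109088 F331133 (iv1 F241646) (iv6 D140574) F180139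
theorem F345110 : act 6 n138474 = n90712 := d12_0 F345109 (iv6 D140574) F180140 (iv6 F323803) (iv5 F245657)
theorem F345111 : act 2 n90712 = n99386 := d3_1 F345110 (iv6 F333016) F316134
theorem F345112 : act 6 n153513 = n138755 := d21_9 (iv5 D65155) D65152 (iv5 F245657) F345110 (iv1 D90712) (iv6 F109101) (iv5 D72582) D72579 D153513 (iv1 D138755)
theorem E99746 : n153747 = n124828 := ((c3_2 F345112 (iv2 F312821) (iv6 D153747) (iv2 F241260))).symm
theorem F345113 : act 6 n124828 = n72739 := (sb E99746 (iv6 D153747))
theorem F345114 : act 0 n128392 = n109165 := d21_4 (iv5 D128387) (iv1 D60359) D60361 D128392 F341395 (iv5 D65043) (iv1 F310576) D124828 F345113 (iv1 F206507)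
theorem E99747 : n153787 = n99386 := ((c21_4 (iv5 D138752) (iv1 F313632) D124843 F333016 (iv1 D153787) (iv6 D72752) (iv5 D33565) D33562 D72739 (iv6 F345113) F312819)).symm
theorem F345115 : act 0 n99386 = n72752 := (sb E99747 (iv1 D153787))
theorem F345116 : act 1 n99386 = n90714 := (sb E99747 F241643)
theorem F345117 : act 7 n153786 = n90712 := d15_2 F345116 F241645 F345111
theorem E99748 : n101166 = n90412 := (c20_10 (iv4 D90314) (iv1 F65179) (iv4 F65578) (iv3 F139618) (iv1 F345116) (iv3 D99386) (iv4 D46472) D46470 (iv4 F74359) D101166 F139157)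
theorem F345118 : act 3 n90412 = n47119 := (sb E99748 (iv3 D101166))
theorem E99749 : n100577 = n90684 := (((F139601).symm.trans (sb E99748 F155859))).symm
theorem F345119 : act 3 n90684 = n46917 := (sb E99749 (iv3 D100577))
theorem E99750 : n100575 = n93010 := (c5_5 (iv4 F139599) F345119 (iv4 D46917) D46916 D100575 F143448)
theorem E99751 : n184469 = n152562 := ((((iv1 F239749)).symm.trans (sb E99750 (iv1 F286365)))).symm
theorem E99752 : n184528 = n152561 := (((F239758).symm.trans (sb E99750 F286461))).symm
theorem E99753 : n184525 = n152563 := ((((iv2 F239756)).symm.trans (sb E99750 (iv2 F286458)))).symm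
theorem F345120 : act 4 n93010 = n46916 := (sb E99750 (iv4 D100575))
theorem E99754 : n184524 = n87972 := (((F143449).symm.trans (sb E99750 F286456))).symm
theorem E99755 : n184471 = n87995 := ((F286374).symm.trans (sb E99751 F286363))
theorem F345121 : act 4 n152562 = n87969 := (sb E99751 (iv4 D184469))
theorem F345122 : act 6 n152562 = n171100 := (sb E99751 F286364)
theorem F345123 : act 4 n152561 = n87996 := (sb E99752 F286460)
theorem F345124 : act 4 n152563 = n100574 := (sb E99753 (iv4 F286457))
theorem E99756 : n184472 = n99381 := ((D184472).symm.trans (sb E99754 F286455))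
theorem F345125 : act 0 n87995 = n87972 := (sb E99755 (iv1 D184471))
theorem F345126 : act 1 n87995 = n152563 := (sb E99755 F286372)
theorem F345127 : act 2 n87995 = n152562 := (sb E99755 (iv2 F286374))
theorem E99757 : n184526 = n114358 := ((D184526).symm.trans (sb E99755 (iv3 F286375)))
theorem E99758 : n184527 = n100672 := ((D184527).symm.trans (sb E99755 F345034))
theorem F345128 : act 7 n87995 = n152561 := (sb E99755 F286373)
theorem F345129 : act 2 n99381 = n152560 := (sb E99756 F286376)
theorem F345130 : act 4 n99381 = n87972 := (sb E99756 (iv4 D184472))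
theorem F345131 : act 6 n99381 = n152288 := (sb E99756 F286377)
theorem F345132 : act 3 n114358 = n87995 := (sb E99757 (iv3 D184526))
theorem F345133 : act 4 n114358 = n88022 := (sb E99757 F286459)
theorem F345134 : act 5 n100672 = n87995 := (sb E99758 (iv5 D184527))
theorem F345135 : act 3 n90635 = n99377 := d6_3 (iv5 F291187) F345119 (iv5 F291192)
theorem F345136 : act 3 n90711 = n90709 := d20_5 (iv4 D42459) (iv1 D20040) D20041 D42464 D90711 F139616 F293165 D46917 (iv3 F345119) (iv1 F139600)
theorem F345137 : act 5 n90708 = n90711 := d6_0 F345136 (iv5 D90709) D90708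
theorem F345138 : act 7 n99386 = n90711 := d8_0 F345136 F293368 D99386
theorem F345139 : act 2 n90711 = n153786 := d4_1 F345138 F345117 F345111
theorem F345140 : act 0 n107090 = n91370 := d20_7 F159461 F137273 D99377 (iv3 F345135) (iv1 F139549) D90670 F335538 (iv4 F159469) (iv3 D104011) D104009
theorem F345141 : act 3 n91362 = n110990 := d20_9 (iv4 F335544) (iv1 D90661) (iv4 F335536) (iv3 F165064) F345140 (iv3 D91370) (iv4 D42759) D42757 D91362 (iv1 F172046)
theorem F345142 : act 3 n150956 = n91274 := d0_4 F345141 (iv2 F339939) F339940 (iv2 F237665) (iv2 F140485)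
theorem F345143 : act 5 n103618 = n91362 := d6_0 F345141 F172045 (iv3 F302687)
theorem E99759 : n153726 = n91366 := (c9_9 F345143 (iv4 D91362) F292830 F134829 F134826 F69052 D44794 (iv4 F323710) D153726 (iv4 D91366) F67000 F291818 D43532 F291824 (iv5 F292223) D103618)
theorem F345144 : act 3 n91366 = n72732 := (sb E99759 F241593)
theorem F345145 : act 5 n91366 = n72731 := (sb E99759 (iv5 D153726))
theorem F345146 : act 5 n91369 = n96088 := d18_9 F147702 (iv4 D47992) D47991 D103618 F345143 (iv4 D91362) (iv0 D42757) D42759 D91369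
theorem F345147 : act 5 n91368 = n103620 := d9_8 F345146 (iv4 D96088) (iv5 D44834) F33549 D21364 D44842 (iv5 F293422) (iv4 F140502) F158983 F293229 (iv4 D42769) F66097 (iv4 F61505) D87032 (iv4 F140504)
theorem F345148 : act 6 n142774 = n91366 := d12_0 F345145 F323711 F80715 D66926 D142774
theorem F345149 : act 6 n111023 = n103790 := d21_5 (iv5 F166900) (iv1 D31730) (iv5 F39055) D51195 D111023 F294257 F159720 F345145 F323711 (iv1 F80719)
theorem F345150 : act 3 n153728 = n142774 := d7_3 F345148 F345144 D153728
theorem F345151 : act 4 n91367 = n142774 := d10_3 F345148 (iv4 D91366) D91367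
theorem E99760 : n142820 = n91272 := (c1_3 F345151 F225669 D142820 (iv2 F140499))
theorem F345152 : act 4 n91272 = n66941 := (sb E99760 (iv4 D142820))
theorem E99761 : n181969 = n153683 := (((iv5 F283269)).symm.trans (sb E99760 F330107))
theorem F345153 : act 2 n153683 = n86990 := (sb E99761 F283268)
theorem F345154 : act 5 n153683 = n91272 := (sb E99761 F283269)
theorem F345155 : act 6 n153683 = n86909 := (sb E99761 (iv6 D181969))
theorem F345156 : act 0 n153704 = n91272 := d18_2 (iv1 D153703) D153704 F345152 (iv5 D66941) F49519 D31183 D66968 F225771 F322373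
theorem F345157 : act 5 n182945 = n153704 := d21_6 (iv5 D88329) F62421 F61463 F337950 (iv1 F134103) (iv6 F284525) F345156 (iv5 F345154) F345155 (iv1 F135251)
theorem F345158 : act 1 n182945 = n153675 := d17_8 (iv1 D86972) (iv5 D40379) (iv1 F304409) D72706 D153683 F345154 (iv0 F345156) (iv5 F345157) F308321
theorem F345159 : act 7 n182945 = n153424 := d16_8 (iv4 D72669) (iv5 D33534) F25762 D16205 D33548 D72722 D153704 (iv5 F345157) F240998
theorem F345160 : act 1 n153676 = n182945 := d15_1 D153676 F345159 F240998
theorem E99762 : n182129 = n153676 := (c18_6 (iv1 F268183) (iv4 D170678) (iv1 F190559) (iv4 F308445) F309031 D182129 F345160 (iv4 D182945) (iv0 F308337) F240087)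
theorem F345161 : act 4 n153676 = n86971 := (sb E99762 (iv4 D182129))
theorem F345162 : act 2 n107311 = n153728 := d0_5 F345150 F225669 F102893 F80804 (iv3 F165372)
theorem F345163 : act 5 n107304 = n153728 := d6_0 F345150 (iv5 D142774) (iv3 F165365)
theorem F345164 : act 4 n115794 = n91365 := d5_4 D91366 F345144 (iv4 F185980) (iv3 F322386) (iv3 D91365)
theorem E99763 : n104194 = n90603 := (c19_16 (iv1 F86108) D118348 F185980 (iv3 F345144) (iv1 F158604) (iv5 F294252) F159220 F159221 (iv1 D103353) (iv5 D47894) (iv4 F75165) (iv3 D47882) F66119 D23348 D48213 D104194 (iv1 D90603) (iv5 F109100) (iv4 F109176) (iv3 D72645))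
theorem F345165 : act 3 n90603 = n48213 := (sb E99763 (iv3 D104194))
theorem F345166 : act 3 n184112 = n159371 := d0_4 F345165 F75777 D87818 D184112 F250909
theorem F345167 : act 3 n150847 = n91359 := d20_9 F135021 (iv1 D48212) D48213 (iv3 F345165) (iv1 D90603) F109099 (iv4 F110054) F110055 D150847 F140480
theorem E99764 : n184589 = n107012 := (c0_3 F345167 F140478 (iv3 F286575) F164953 F319665 (iv2 F237415))
theorem F345168 : act 3 n107012 = n88024 := (sb E99764 F286575)
theorem F345169 : act 7 n107012 = n88022 := (sb E99764 (iv7 D184589))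
theorem E99765 : n184587 = n144306 := (c4_2 F345169 D184587 (iv7 D144306) (iv2 F164953))
theorem F345170 : act 2 n144306 = n88022 := (sb E99765 (iv2 D184587))
theorem E99766 : n107013 = n103806 := ((c13_2 F345169 (iv5 F294312) (iv7 D107013) D107012)).symm
theorem F345171 : act 0 n103806 = n67611 := (sb E99766 (iv1 F164956))
theorem F345172 : act 1 n103806 = n67610 := (sb E99766 F164957)
theorem F345173 : act 2 n103806 = n67613 := (sb E99766 F164954)
theorem F345174 : act 4 n103806 = n58747 := (sb E99766 F164955)
theorem F345175 : act 6 n103806 = n110942 := (sb E99766 (iv6 F171989))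
theorem F345176 : act 7 n103806 = n49438 := (sb E99766 (iv7 D107013))
theorem F345177 : act 5 n144270 = n127818 := d16_5 F103620 F49663 (iv4 F49657) (iv5 F103453) (iv4 F226957) (iv4 F339946) (iv5 D107012) (iv7 F345176) F345173
theorem F345178 : act 2 n93054 = n144270 := d2_3 F345177 (iv2 F205636) (iv5 F205513)
theorem F345179 : act 0 n94015 = n144270 := d17_2 D92963 F205464 F345177 (iv4 F339946) (iv5 D107012) (iv0 F164933) (iv5 F172041) (iv0 F339937) (iv4 D92965)
theorem F345180 : act 1 n94016 = n144270 := d17_6 (iv1 F201843) (iv5 D125496) (iv1 F201799) F201798 F339935 (iv5 F205484) F345177 (iv0 D127818) (iv4 F339926)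
theorem E99767 : n159811 = n90696 := ((c18_10 (iv1 D159811) (iv4 F340047) (iv1 F226716) (iv4 F226957) F345177 (iv4 F339946) (iv0 F165072) F339959 F157293 D90696)).symm
theorem F345181 : act 0 n90696 = n76478 := (sb E99767 (iv1 D159811))
theorem F345182 : act 4 n107105 = n90651 := d17_9 F157730 D90696 F345181 (iv5 F178555) (iv4 F340040) F172041 F164934 (iv5 F227014) F227016
theorem F345183 : act 5 n103306 = n97428 := d18_9 (iv1 D97428) F139608 F345181 (iv4 F340047) F226713 F172061 (iv0 D52185) F331327 D103306
theorem F345184 : act 0 n98313 = n93039 := d20_7 (iv4 F291670) F291668 F65571 (iv3 F139607) F345181 (iv3 F251831) F251832 F143503 F74180 (iv1 F291311)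
theorem F345185 : act 0 n157731 = n90697 := d21_4 F178549 F325417 (iv5 F325420) D157731 (iv6 D90697) D90696 F345181 (iv5 F178555) (iv6 D114495) D114492
theorem F345186 : act 2 n104040 = n159810 := d15_3 (iv0 D159810) (iv0 F345181) F293289
theorem F345187 : act 5 n90313 = n104040 := d2_0 F345186 F251843 (iv2 F228241)
theorem F345188 : act 4 n159810 = n144274 := d16_0 (iv5 D144274) (iv4 F111212) (iv5 F111466) (iv4 F201845) F339955 (iv4 D90695) D90696 F293289 F345186
theorem F345189 : act 2 n89934 = n144274 := d1_3 (iv4 F345188) (iv2 F345186) (iv4 F294335)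
theorem F345190 : act 3 n144274 = n184397 := d0_2 D89934 F345189 (iv2 F286327) F134942 (iv2 F293333)
theorem F345191 : act 5 n136737 = n89934 := d2_0 F345189 (iv5 D144274) (iv2 F219901)
theorem F345192 : act 1 n144274 = n97427 := d15_0 (iv0 D97427) (iv7 F138127) F345189
theorem F345193 : act 4 n90313 = n125496 := d16_2 F294335 (iv5 F345187) (iv5 D125496) F92848 F53493 (iv4 F99427) (iv5 F331261) F331262 (iv2 F345189)
theorem F345194 : act 3 n125496 = n106928 := d5_1 F345193 F164796 (iv3 F332991) (iv4 D90314) D90313
theorem F345195 : act 7 n125496 = n90695 := d11_2 (iv7 F138929) F345193 (iv4 D90695)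
theorem F345196 : act 0 n94260 = n104040 := d17_2 F235272 F157813 (iv5 F345187) F345193 (iv5 D125496) (iv0 F201809) (iv5 F201811) F202874 F335539
theorem E99768 : n114523 = n90313 := (c17_9 F201842 (iv5 D107467) F111356 D59122 (iv4 F335535) (iv5 D90654) F157740 (iv5 F228246) F228249 F345193)
theorem F345197 : act 0 n90313 = n145259 := (sb E99768 (iv1 F228249))
theorem F345198 : act 1 n90313 = n52861 := (sb E99768 (iv0 D114523))
theorem F345199 : act 4 n107467 = n114359 := d18_3 (iv1 F345198) F345193 F201842 F178325 (iv4 F142733) (iv0 D47864) (iv4 F65159) F157742 (iv5 F83506)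
theorem F345200 : act 0 n95580 = n89934 := d18_2 D94015 F204781 F294335 (iv5 F345187) F345193 F201843 F339926 (iv0 F178372) (iv5 D94017)
theorem F345201 : act 0 n106928 = n103984 := d20_4 F339957 (iv1 F345198) F345193 F345194 (iv3 D103984) (iv4 D48137) (iv1 F293361) D41099 D88022 (iv1 F335719)
theorem E99769 : n180496 = n103984 := ((c21_5 (iv5 D24552) (iv1 F38429) (iv5 F78121) D106928 F345201 (iv6 D180496) F132159 F60814 D77347 F341301 (iv1 D50353))).symm
theorem F345202 : act 2 n103984 = n86349 := (sb E99769 F280923)
theorem F345203 : act 4 n103984 = n86199 := (sb E99769 F280924)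
theorem F345204 : act 6 n103984 = n86198 := (sb E99769 (iv6 D180496))
theorem F345205 : act 1 n106928 = n180794 := d15_1 (iv0 F345201) (iv7 D180794) (iv2 F345202)
theorem F345206 : act 1 n180794 = n109218 := d15_1 F345205 F169172 (iv2 F164795)
theorem E99770 : n180490 = n96155 := (c5_2 F345203 (iv3 F280916) (iv4 D96155) F293867 D48137 D103984)
theorem F345207 : act 3 n96155 = n86199 := (sb E99770 F280916)
theorem F345208 : act 6 n96155 = n86196 := (sb E99770 (iv6 D180490))
theorem E99771 : n180487 = n100588 := (c3_2 F345208 (iv2 F280911) (iv6 D100588) (iv2 F147825))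
theorem F345209 : act 0 n100588 = n166737 := (sb E99771 F280912)
theorem F345210 : act 1 n100588 = n180405 := (sb E99771 F280913)
theorem F345211 : act 2 n100588 = n86196 := (sb E99771 F280911)
theorem F345212 : act 5 n100588 = n86195 := (sb E99771 (iv5 D180487))
theorem F345213 : act 7 n100588 = n180789 := (sb E99771 (iv7 F281420))
theorem E99772 : n180489 = n96151 := (c10_2 F345208 D180489 F147821 D96155)
theorem F345214 : act 4 n96151 = n86196 := (sb E99772 (iv4 D180489))
theorem F345215 : act 7 n96151 = n180790 := (sb E99772 (iv7 F281423))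
theorem F345216 : act 7 n180791 = n100585 := d14_4 (iv7 F147826) F345208 (iv7 F132347) D180791 (iv6 D100585)
theorem F345217 : act 3 n100585 = n180794 := d8_1 F345216 (iv7 D180794) (iv3 F281424)
theorem F345218 : act 4 n101158 = n180791 := d11_3 F345216 F154651 D101158
theorem F345219 : act 6 n180790 = n101158 := d10_0 F345218 (iv6 D180791) D180790
theorem E99773 : n180500 = n100583 := (c7_3 D100585 F345217 F281425 (iv3 D100583))
theorem F345220 : act 6 n100583 = n180794 := (sb E99773 (iv6 F281425))
theorem F345221 : act 7 n100583 = n86199 := (sb E99773 (iv7 D180500))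
theorem F345222 : act 2 n180790 = n101165 := d4_1 F345215 (iv7 D101165) (iv2 F147819)
theorem F345223 : act 5 n180790 = n96152 := d13_1 F345215 (iv7 D96152) D96151
theorem F345224 : act 1 n101164 = n180790 := d15_1 D101164 (iv7 F345215) F147819
theorem E99774 : n180356 = n128726 := (c16_6 (iv4 F154653) F345212 F132153 F60713 (iv4 F132098) D180356 (iv4 F332745) (iv5 F345223) (iv7 F345215) F147819)
theorem F345225 : act 2 n128726 = n86140 := (sb E99774 F280675)
theorem F345226 : act 5 n128726 = n86139 := (sb E99774 (iv5 D180356))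
theorem F345227 : act 5 n104967 = n96148 := d13_3 (iv7 F332746) F345226 (iv7 F160843)
theorem F345228 : act 4 n101165 = n180789 := d16_0 (iv5 D180789) F132342 (iv5 F92767) (iv4 F160842) F345227 F147818 D96151 F345215 F345222
theorem E99775 : n180357 = n98657 := (c16_1 D180357 (iv5 F155858) F345228 (iv5 D180789) F132342 (iv5 F92767) (iv4 F160842) F345227 (iv7 F332746) F345225)
theorem F345229 : act 4 n98657 = n86140 := (sb E99775 (iv4 D180357))
theorem F345230 : act 1 n96148 = n128720 := d17_6 D34430 F248725 (iv1 F60826) (iv5 F92767) (iv4 F160842) F345227 F332752 (iv0 D75181) F54630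
theorem F345231 : act 4 n157844 = n96149 := d18_5 (iv1 F323109) F323111 (iv1 F92788) D75195 D157844 (iv0 D96149) (iv4 F147818) F345230 F332752
theorem F345232 : act 3 n183526 = n98657 := d5_5 F345229 F132099 F294431 (iv3 F134468) D183526
theorem F345233 : act 4 n157826 = n96150 := d18_5 (iv1 D75182) F54630 D34430 D75190 D157826 F152089 F345229 (iv0 F332754) F332755
theorem F345234 : act 7 n98649 = n183526 := d8_0 F345232 (iv7 D98657) (iv3 F152080)
theorem E99776 : n182617 = n98649 := (c11_4 F345234 (iv4 D183526) F294429 D182617)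
theorem F345235 : act 4 n98649 = n87183 := (sb E99776 (iv4 D182617))
theorem F345236 : act 2 n98648 = n98649 := d1_3 F345235 (iv2 F294450) D98648
theorem E99777 : n182618 = n98648 := (c10_3 D98649 F345235 D182618 (iv4 D98648))
theorem F345237 : act 3 n98648 = n87184 := (sb E99777 F284120)
theorem F345238 : act 6 n98648 = n87183 := (sb E99777 (iv6 D182618))
theorem F345239 : act 1 n128728 = n96148 := d15_1 (iv0 F332754) (iv7 F332746) F345225
theorem F345240 : act 5 n128910 = n180352 := d21_8 F345227 (iv1 F345239) F332755 F330698 F127218 (iv6 F326207) (iv5 F332707) F218457 (iv6 D180352) (iv1 F160844)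
theorem F345241 : act 6 n107169 = n104967 := d21_5 (iv5 F151608) (iv1 F151609) F127217 (iv6 F328795) (iv1 F176434) F345227 (iv1 F345239) F332755 F330698 F127218
theorem F345242 : act 0 n157804 = n89055 := d21_4 F332755 (iv1 D75182) D75184 D157804 F136726 (iv5 F72689) (iv1 F136778) F136781 D96148 (iv1 F345239)
theorem F345243 : act 4 n89188 = n157804 := d18_1 (iv1 F136882) F345242 (iv4 D89055) (iv5 D41590) (iv4 F54822) D75536 F184696 F64283 (iv5 F74497)
theorem E99778 : n157804 = n128842 := (c15_1 (iv0 F345242) (iv0 D128842) (iv7 F327327) (iv2 F136725))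
theorem F345244 : act 0 n128842 = n89055 := (sb E99778 F345242)
theorem F345245 : act 3 n128842 = n75187 := (sb E99778 F248691)
theorem F345246 : act 4 n128842 = n89188 := (sb E99778 (iv4 F345243))
theorem F345247 : act 5 n128842 = n177453 := (sb E99778 (iv5 F276869))
theorem F345248 : act 6 n128842 = n75184 := (sb E99778 (iv6 D157804))
theorem F345249 : act 6 n157803 = n89188 := d10_2 F345248 D157803 (iv4 F345246)
theorem F345250 : act 2 n101532 = n157803 := d3_3 F345249 (iv2 F155798) D101532
theorem F345251 : act 4 n157800 = n101532 := d1_0 F345250 (iv4 D157803) (iv2 F248689)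
theorem F345252 : act 6 n98559 = n157800 := d10_0 F345251 (iv6 D101532) (iv4 F184694)
theorem E99779 : n157929 = n101127 := ((c16_2 F345251 F156342 (iv4 D157929) (iv5 D75232) F54648 (iv5 F45084) (iv4 F92776) D125378 F201659 (iv2 F248689))).symm
theorem F345253 : act 4 n101127 = n75232 := (sb E99779 (iv4 D157929))
theorem F345254 : act 7 n101127 = n180411 := (sb E99779 (iv7 F280792))
theorem E99780 : n157930 = n101126 := (c10_3 D101127 F345253 D157930 (iv4 D101126))
theorem F345255 : act 3 n101126 = n75236 := (sb E99780 F248826)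
theorem F345256 : act 5 n101126 = n178157 := (sb E99780 (iv5 F277710))
theorem F345257 : act 6 n101126 = n75232 := (sb E99780 (iv6 D157930))
theorem F345258 : act 0 n100514 = n178157 := d21_7 F258034 (iv1 F132339) (iv5 F345212) (iv6 D100588) (iv1 D46920) (iv6 F74095) D100514 (iv5 F345256) F345257 D157927
theorem F345259 : act 4 n178157 = n107025 := d18_1 F345258 (iv1 F164963) (iv4 F79284) (iv5 F167714) (iv4 F332980) F153266 (iv4 F274947) (iv0 D100511) D100514
theorem F345260 : act 6 n107025 = n178156 := d10_2 D178157 F345259 (iv4 D178156)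
theorem F345261 : act 5 n107025 = n111497 := d16_3 D101126 F345256 F345259 F332198 (iv5 D83532) F155362 D47110 (iv7 F155805) F155804
theorem F345262 : act 2 n108916 = n174859 := d16_9 (iv4 D174859) (iv5 D83527) F155368 D47105 D101126 F345256 F345259 F345261 F173029
theorem F345263 : act 1 n138749 = n178157 := d18_6 (iv1 F337622) F248849 (iv1 F330871) D83536 (iv5 F333020) F246676 F345259 (iv0 D107025) D107027
theorem E99781 : n134752 = n84806 := (c20_5 F38359 F38168 D29918 D63325 D134752 (iv3 F277709) F345259 (iv1 F164963) (iv4 F79284) F79283 (iv1 F38358))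
theorem E99782 : n178166 = n156571 := ((D178166).symm.trans (sb E99781 (iv1 F246218)))
theorem E99783 : n178167 = n63325 := ((D178167).symm.trans (sb E99781 (iv0 D134752)))
theorem E99784 : n178165 = n156018 := (((iv4 F277716)).symm.trans (sb E99781 F332974))
theorem F345264 : act 1 n156571 = n84806 := (sb E99782 (iv0 D178166))
theorem F345265 : act 0 n63325 = n84806 := (sb E99783 (iv1 D178167))
theorem F345266 : act 4 n156018 = n84806 := (sb E99784 F277716)
theorem F345267 : act 6 n156018 = n84805 := (sb E99784 (iv6 D178165))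
theorem E99785 : n157936 = n111755 := (c16_7 D111749 (iv5 F332959) (iv4 D156017) D156018 F345266 F130011 (iv4 F248835) (iv5 D111755) F173440 (iv2 D111747))
theorem F345268 : act 2 n111755 = n86166 := (sb E99785 F248834)
theorem F345269 : act 4 n111755 = n75236 := (sb E99785 F248835)
theorem F345270 : act 6 n111755 = n75235 := (sb E99785 (iv6 D157936))
theorem E99786 : n180421 = n111750 := ((c16_8 F345269 (iv5 F130011) (iv4 F345266) (iv5 D156018) D156017 F332959 (iv4 D111749) D111750 (iv7 D180421) (iv2 F345268))).symm
theorem F345271 : act 6 n111750 = n157939 := (sb E99786 F280800)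
theorem F345272 : act 7 n111750 = n86166 := (sb E99786 (iv7 D180421))
theorem F345273 : act 5 n156012 = n111754 := d16_1 D156012 (iv4 D111754) D111755 F345269 (iv5 F130011) (iv4 F345266) (iv5 D156018) F245116 (iv2 D156010)
theorem F345274 : act 0 n139299 = n111754 := d21_10 (iv5 F345273) F344870 F253226 (iv6 D123153) (iv1 D57306) (iv6 F90377) (iv5 D57295) D57293 D123122 F342795
theorem F345275 : act 1 n115923 = n111754 := d15_0 (iv0 F345274) (iv7 D139299) (iv2 F180489)
theorem E99787 : n135182 = n65982 := (c18_3 (iv1 F168626) D109215 (iv1 F332977) (iv4 F216954) F216955 F215902 F345275 (iv4 D111754) F172807 F172805)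
theorem E99788 : n140614 = n109215 := ((D140614).symm.trans (sb E99787 F332977))
theorem E99789 : n115779 = n63522 := (((iv2 F180154)).symm.trans (sb E99787 (iv2 D135182)))
theorem E99790 : n156571 = n140615 := (((D140615).symm.trans (sb E99787 (iv5 F246216)))).symm
theorem F345276 : act 0 n109215 = n65982 := (sb E99788 (iv1 D140614))
theorem F345277 : act 2 n63522 = n65982 := (sb E99789 F180154)
theorem E99791 : n135151 = n108779 := (((iv4 F217355)).symm.trans (sb E99789 F180155))
theorem E99792 : n135183 = n53386 := ((D135183).symm.trans (sb E99789 (iv6 D115779)))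
theorem F345278 : act 0 n140615 = n134753 := (sb E99790 (iv1 F246219))
theorem F345279 : act 1 n140615 = n84806 := (sb E99790 F345264)
theorem F345280 : act 2 n140615 = n74449 := (sb E99790 (iv2 D156571))
theorem F345281 : act 3 n140615 = n134846 := (sb E99790 F246214)
theorem F345282 : act 4 n140615 = n137054 := (sb E99790 F246215)
theorem F345283 : act 7 n140615 = n134754 := (sb E99790 F246217)
theorem F345284 : act 3 n108779 = n63514 := (sb E99791 (iv3 D135151))
theorem F345285 : act 4 n108779 = n63522 := (sb E99791 F217355)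
theorem E99793 : n115778 = n63523 := ((D115778).symm.trans (sb E99792 F217368))
theorem F345286 : act 6 n53386 = n63522 := (sb E99792 (iv6 D135183))
theorem F345287 : act 3 n63523 = n53386 := (sb E99793 (iv3 D115778))
theorem E99794 : n135186 = n53502 := ((D135186).symm.trans (sb E99793 F180152))
theorem E99795 : n135187 = n65979 := ((D135187).symm.trans (sb E99793 F180153))
theorem F345288 : act 5 n53502 = n63523 := (sb E99794 (iv5 D135186))
theorem E99796 : n156573 = n116083 := (((D116083).symm.trans (sb E99794 (iv6 F246224)))).symm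
theorem E99797 : n140603 = n63526 := ((D140603).symm.trans (sb E99795 F217369))
theorem F345289 : act 7 n65979 = n63523 := (sb E99795 (iv7 D135187))
theorem F345290 : act 0 n116083 = n141869 := (sb E99796 F246226)
theorem F345291 : act 1 n116083 = n141868 := (sb E99796 F246227)
theorem F345292 : act 2 n116083 = n134868 := (sb E99796 F246223)
theorem F345293 : act 5 n116083 = n74450 := (sb E99796 (iv5 D156573))
theorem E99798 : n156572 = n116084 := (((iv7 F246222)).symm.trans (sb E99796 F246225))
theorem F345294 : act 4 n63526 = n65979 := (sb E99797 (iv4 D140603))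
theorem F345295 : act 3 n116084 = n74450 := (sb E99798 F246220)
theorem F345296 : act 4 n116084 = n137056 := (sb E99798 F246221)
theorem F345297 : act 6 n116084 = n74449 := (sb E99798 (iv6 D156572))
theorem F345298 : act 7 n116084 = n116083 := (sb E99798 F246222)
theorem F345299 : act 2 n137056 = n141870 := d1_1 F345296 (iv4 D141870) (iv2 F180859)
theorem F345300 : act 6 n141870 = n137054 := d3_2 D137056 F345299 (iv2 D137054)
theorem F345301 : act 2 n134864 = n141867 := d0_3 F345295 F111750 (iv3 F217047) F224909 (iv2 F180859)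
theorem F345302 : act 4 n141867 = n116967 := d1_2 (iv4 F331508) F345301 F182833
theorem F345303 : act 5 n141864 = n134864 := d2_0 F345301 (iv5 D141867) (iv2 F224908)
theorem F345304 : act 6 n141867 = n134846 := d3_2 D134864 F345301 (iv2 F217035)
theorem F345305 : act 7 n141867 = n141864 := d4_2 (iv7 F217049) F345301 F224908
theorem F345306 : act 1 n141867 = n141865 := d15_0 (iv0 D141865) (iv7 F217049) F345301
theorem F345307 : act 3 n141864 = n134868 := d8_1 F345305 F217050 (iv3 F224909)
theorem F345308 : act 1 n141866 = n141867 := d15_1 D141866 F345305 F224908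
theorem F345309 : act 7 n141865 = n145429 := d15_2 F345308 F345306 (iv2 F339996)
theorem F345310 : act 6 n134868 = n116082 := d7_2 D141864 F345307 F180854
theorem F345311 : act 5 n116082 = n134811 := d12_1 F345310 (iv6 D134811) F98630 D63381 D134868
theorem F345312 : act 3 n134811 = n140610 := d6_1 F345311 F223724 (iv3 F180854)
theorem F345313 : act 7 n134811 = n140602 := d13_2 (iv7 F180855) F345311 F223722
theorem E99799 : n141918 = n141847 := (c21_11 (iv5 D141847) (iv1 F180856) F345311 (iv6 D134811) F98631 F341398 (iv5 F170952) (iv1 D108732) D108734 F336700 D141918)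
theorem F345314 : act 0 n141847 = n140498 := (sb E99799 (iv1 F224958))
theorem F345315 : act 1 n141847 = n66533 := (sb E99799 (iv0 D141918))
theorem E99800 : n157734 = n140602 := ((c8_1 F345313 (iv3 D157734) (iv7 F331526) (iv3 F345312))).symm
theorem F345316 : act 3 n140602 = n75156 := (sb E99800 (iv3 D157734))
theorem F345317 : act 6 n140602 = n75159 := (sb E99800 F248601)
theorem F345318 : act 4 n140602 = n134814 := d11_1 F345313 (iv7 D134814) (iv4 F216930)
theorem F345319 : act 1 n140601 = n134811 := d15_1 D140601 F345313 (iv2 D140602)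
theorem F345320 : act 1 n135185 = n140602 := d15_1 D135185 (iv7 F345313) F216929
theorem E99801 : n140601 = n140496 := ((c17_8 D134812 F341411 (iv1 F197540) (iv5 F341409) (iv4 D140502) (iv5 D65945) D65943 D140496 F345319 F216930)).symm
theorem F345321 : act 0 n140496 = n65979 := (sb E99801 (iv1 D140601))
theorem F345322 : act 1 n140496 = n134811 := (sb E99801 F345319)
theorem E99802 : n178131 = n115750 := (c21_10 D140496 F345321 F101671 (iv6 F98570) F345265 (iv6 D84806) (iv5 D39188) D39185 D84793 D178131 (iv1 F180104))
theorem F345323 : act 6 n115750 = n84793 := (sb E99802 (iv6 D178131))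
theorem E99803 : n177792 = n115751 := (c3_2 F345323 (iv2 F277289) (iv6 D115751) D115750)
theorem F345324 : act 0 n115751 = n124215 := (sb E99803 (iv1 F302548))
theorem F345325 : act 1 n115751 = n124210 := (sb E99803 (iv0 F302541))
theorem F345326 : act 2 n115751 = n84793 := (sb E99803 F277289)
theorem F345327 : act 5 n115751 = n84656 := (sb E99803 (iv5 D177792))
theorem F345328 : act 7 n115751 = n84796 := (sb E99803 F277290)
theorem E99804 : n178126 = n140525 := (c7_2 F345323 (iv3 F277679) (iv6 D140525) (iv3 F180100))
theorem F345329 : act 3 n140525 = n84793 := (sb E99804 F277679)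
theorem F345330 : act 5 n140525 = n84791 := (sb E99804 (iv5 D178126))
theorem F345331 : act 6 n109122 = n141920 := d12_4 F345323 (iv5 D84793) D84794 F325548 F224960
theorem F345332 : act 5 n140501 = n116081 := d21_0 (iv1 D116081) F345288 (iv6 D63523) (iv1 F79354) D108529 F341393 (iv1 F325545) F325548 F345331 (iv1 F224964)
theorem E99805 : n140491 = n120471 := ((c21_6 (iv5 D50378) (iv1 D24558) D24560 D50386 (iv1 F337474) (iv6 F191913) (iv5 D140491) (iv1 F180102) (iv5 F224960) (iv6 F345331) (iv1 F169120))).symm
theorem F345333 : act 5 n120471 = n65942 := (sb E99805 (iv5 D140491))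
theorem F345334 : act 5 n111353 = n122341 := d21_2 F304352 (iv1 F336749) (iv6 F336672) F201994 F341327 (iv5 D65945) D65942 (iv5 F345333) F191913 (iv1 F304351)
theorem E99806 : n178125 = n111492 := (c2_2 F345330 D178125 F336692 (iv2 F223673))
theorem F345335 : act 2 n111492 = n84791 := (sb E99806 (iv2 D178125))
theorem F345336 : act 5 n134851 = n178124 := d21_6 F340478 (iv1 D114510) (iv5 F331530) F84418 D63375 D134851 (iv1 D178124) (iv5 F345330) (iv6 D140525) (iv1 F180117)
theorem F345337 : act 2 n123485 = n108890 := d1_3 (iv4 F173024) F345335 (iv4 F197905)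
theorem F345338 : act 2 n178127 = n108603 := d3_3 (iv6 F173025) F345335 D178127
theorem F345339 : act 7 n108720 = n178127 := d4_0 F345338 F167980 D108720
theorem F345340 : act 1 n178127 = n108718 := d15_0 (iv0 D108718) (iv7 F167980) (iv2 F345338)
theorem F345341 : act 1 n108719 = n178127 := d15_1 D108719 (iv7 F345339) (iv2 D108720)
theorem F345342 : act 3 n108719 = n164012 := d20_5 (iv4 D51886) F170927 (iv4 F325547) (iv3 F277680) (iv1 F345341) F258475 (iv1 F336490) (iv4 D108861) D108860 (iv1 F170973)
theorem F345343 : act 6 n164010 = n108719 := d7_0 F345342 (iv6 D164012) D164010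
theorem E99807 : n164014 = n108856 := ((c20_1 D108856 (iv1 D164014) (iv4 F258475) (iv3 F345342) (iv1 D108719) (iv3 D50201) (iv4 D24486) (iv1 F18895) D11599 D24517 D50266)).symm
theorem F345344 : act 0 n108856 = n78798 := (sb E99807 (iv1 D164014))
theorem F345345 : act 1 n108856 = n180653 := (sb E99807 F281194)
theorem E99808 : n127060 = n124471 := ((c21_2 F193134 D124471 (iv5 D127060) D127061 (iv1 F344999) (iv6 D137315) (iv5 F325294) F345344 D164015 (iv6 F336487) (iv1 F323019))).symm
theorem F345346 : act 2 n124471 = n84571 := (sb E99808 F338796)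
theorem F345347 : act 5 n124471 = n59620 := (sb E99808 (iv5 D127060))
theorem F345348 : act 7 n124471 = n84570 := (sb E99808 F338797)
theorem E99809 : n127063 = n124472 := (c15_4 F199098 F199094 F345348 (iv2 F338794))
theorem F345349 : act 2 n124472 = n84570 := (sb E99809 F338794)
theorem F345350 : act 4 n124472 = n180644 := (sb E99809 F338806)
theorem F345351 : act 5 n124472 = n59621 := (sb E99809 (iv5 D127063))
theorem F345352 : act 6 n124472 = n78860 := (sb E99809 F340152)
theorem F345353 : act 7 n124472 = n84571 := (sb E99809 (iv7 F338795))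
theorem F345354 : act 5 n177531 = n180645 := d16_1 D177531 F281176 (iv5 F336482) F227084 F219834 F166383 F338793 (iv7 F345348) F345346
theorem F345355 : act 7 n180644 = n177531 := d13_0 F345354 (iv7 D180645) D180644
theorem E99810 : n177528 = n124983 := ((c3_2 F345352 (iv2 F323615) (iv6 D177528) (iv2 F345349))).symm
theorem F345356 : act 6 n124983 = n84570 := (sb E99810 (iv6 D177528))
theorem F345357 : act 6 n164157 = n180644 := d10_2 F345352 D164157 (iv4 F345350)
theorem F345358 : act 6 n161331 = n145686 := d12_2 F345352 (iv5 F323617) (iv5 F228756) (iv6 D127064) (iv5 F345351)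
theorem F345359 : act 5 n180270 = n152591 := d21_0 (iv1 F255152) F323617 (iv6 F345352) (iv1 D124472) (iv6 F125773) F318548 (iv1 F301540) F323207 D86110 D180270
theorem F345360 : act 5 n120970 = n130833 := d21_0 (iv1 F209390) F323631 (iv6 F322696) F322694 (iv6 F345352) F345351 (iv1 D59621) (iv5 F318569) F301441 D120970
theorem E99811 : n180704 = n180270 := (c21_6 (iv5 F193134) F323018 F336482 (iv6 F254490) (iv1 F254485) D180704 F345359 (iv1 F255152) F323617 (iv6 F345352) (iv1 D124472))
theorem F345361 : act 6 n180270 = n86312 := (sb E99811 (iv6 D180704))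
theorem E99812 : n180703 = n53745 := (c21_7 F318548 (iv1 F301540) F323207 D86110 D180270 F345361 D180703 (iv1 F181953) (iv5 F232050) (iv6 F340172) F340180)
theorem E99813 : n116643 = n86312 := ((D116643).symm.trans (sb E99812 (iv5 D180703)))
theorem E99814 : n180566 = n39934 := ((((iv1 D86312)).symm.trans (sb E99813 F323577))).symm
theorem E99816 : n180700 = n78726 := (((iv2 F281233)).symm.trans (sb E99813 F323579))
theorem E99817 : n180701 = n125456 := ((D180701).symm.trans (sb E99813 (iv3 F339253)))
theorem F345362 : act 5 n86312 = n53745 := (sb E99813 (iv5 D116643))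
theorem E99818 : n180695 = n159315 := ((F281232).symm.trans (sb E99813 (iv7 F330667)))
theorem E99819 : n86311 = n86237 := ((D86311).symm.trans (sb E99814 (iv1 D180566)))
theorem F345363 : act 2 n78726 = n86312 := (sb E99816 F281233)
theorem F345364 : act 3 n125456 = n86312 := (sb E99817 (iv3 D180701))
theorem F345365 : act 7 n159315 = n86312 := (sb E99818 (iv7 F281232))
theorem F345366 : act 0 n86237 = n159318 := (sb E99819 (iv1 F254487))
theorem F345367 : act 1 n86237 = n39934 := (sb E99819 (iv0 D86311))
theorem E99824 : n177534 = n164154 := (c21_5 D86313 (iv1 F330660) (iv5 F171347) F321853 D177534 (iv6 D164154) (iv5 F323614) F306313 (iv5 F345359) F345361 (iv1 D86312))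
theorem F345368 : act 1 n164154 = n84573 := (sb E99824 (iv0 D177534))
theorem F345369 : act 2 n180270 = n155084 := d3_1 (iv6 F345361) F324182 F345363
theorem F345370 : act 3 n180270 = n152592 := d7_1 (iv6 F345361) (iv6 F339255) F345364
theorem F345371 : act 7 n155085 = n180270 := d15_2 (iv0 D155084) D155085 F345369
theorem F345372 : act 2 n155085 = n161333 := d4_3 (iv7 F303132) (iv2 F345369) (iv7 F345371)
theorem E99825 : n180271 = n161333 := (c15_2 (iv0 D180270) D180271 (iv7 F303132) (iv2 F345369))
theorem F345373 : act 0 n161333 = n86110 := (sb E99825 (iv1 D180271))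
theorem E99826 : n155069 = n127064 := (c21_8 D161333 F345373 (iv5 F324181) (iv6 D55053) (iv1 F42613) D33825 D73598 D155069 F228756 (iv6 F345358) (iv1 D161331))
theorem F345374 : act 0 n127064 = n73638 := (sb E99826 (iv1 F243870))
theorem F345375 : act 1 n127064 = n73598 := (sb E99826 (iv0 D155069))
theorem F345376 : act 2 n127064 = n73635 := (sb E99826 F243873)
theorem F345377 : act 7 n127064 = n73636 := (sb E99826 F243872)
theorem F345378 : act 1 n161333 = n124982 := d15_1 (iv0 F345373) F200755 F324618
theorem F345379 : act 1 n124982 = n180270 := d15_1 F345378 (iv7 F345371) F345372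
theorem F345380 : act 0 n128838 = n172463 := d20_1 (iv4 F333047) F270671 (iv3 F200754) (iv1 F345378) F255153 F324573 (iv1 D39846) (iv4 F60650) (iv3 F322420) D158423
theorem F345381 : act 1 n128839 = n172463 := d15_0 (iv0 F345380) F333048 F333044
theorem F345382 : act 4 n172430 = n128593 := d17_4 (iv1 F249454) (iv5 F249455) (iv1 F275041) (iv5 F270652) (iv5 D128593) D128591 F339370 F345381 F270671
theorem F345383 : act 5 n172463 = n98634 := d18_9 F325740 D128833 (iv1 F332690) F332693 F332707 F326206 D158424 (iv4 F333042) F345381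
theorem F345384 : act 5 n134897 = n91211 := d17_5 (iv1 F325741) (iv5 F345383) (iv1 F345381) (iv5 F339370) (iv4 F217104) (iv0 D91211) F294781 F332685 (iv4 D128828)
theorem F345385 : act 3 n173462 = n110346 := d20_5 (iv4 F270671) (iv1 F345381) F333042 F303270 (iv1 F339368) F170603 (iv1 F161340) (iv4 F93187) (iv3 F202637) F327355
theorem F345386 : act 3 n131375 = n112538 := d20_9 F93223 (iv1 F161337) (iv4 F170603) (iv3 F345385) F339359 F210772 F96317 (iv1 F313004) F313005 F175021
theorem F345387 : act 0 n118449 = n112534 := d20_4 (iv4 F210661) F210662 F210362 (iv3 F316889) F175008 F81968 D51922 D112538 (iv3 F345386) F210586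
theorem F345388 : act 0 n112237 = n178833 := d18_2 F345387 F175009 (iv4 D178833) (iv5 D85255) D85254 (iv0 F155119) F200276 (iv0 D118447) D118449
theorem F345389 : act 0 n176472 = n149040 := d20_4 F175009 F345388 (iv4 D178833) (iv3 F275776) F234365 (iv4 F210661) F210662 F210362 (iv3 F316889) F345387
theorem F345390 : act 1 n124975 = n112534 := d15_0 (iv0 F345387) F200297 (iv2 F200731)
theorem F345391 : act 5 n112534 = n131435 := d17_7 (iv1 F245870) (iv5 D74589) (iv1 F53827) F313576 D58425 D124975 F345390 (iv0 D131435) F96278
theorem F345392 : act 0 n106959 = n180403 := d19_8 (iv1 F345390) (iv5 D124975) (iv4 D58425) (iv3 F199642) (iv1 F311935) F208780 D74740 (iv3 F164870) (iv5 D180403) F132126 F88804 F324762 (iv5 D50864) F80223 D28158 F166152 F39652 (iv4 F81968) (iv3 F175008)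
theorem F345393 : act 5 n109180 = n106959 := d17_1 (iv1 F170406) F345392 (iv5 D180403) F132126 F88805 (iv0 F326634) (iv5 D110306) F80216 (iv4 F170404)
theorem F345394 : act 3 n128996 = n109180 := d6_3 F345393 F164870 (iv5 F208765)
theorem F345395 : act 6 n106959 = n140637 := d12_2 F344464 F345393 (iv5 F223736) (iv6 F216434) F344463
theorem F345396 : act 6 n106413 = n125484 := d21_9 (iv5 F330458) (iv1 F170406) F345393 F345395 (iv1 D140637) (iv6 F331811) (iv5 F78287) (iv1 F163677) F172122 (iv1 D125484)
theorem F345397 : act 6 n160373 = n106424 := d12_4 F345396 F344465 (iv6 F302622) D160373 F172122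
theorem F345398 : act 6 n106401 = n153698 := d21_9 D153700 (iv1 F331095) F331096 (iv6 D107251) (iv1 F163631) F345396 F344465 F257770 (iv5 F337383) (iv1 D153698)
theorem F345399 : act 3 n153698 = n106402 := d7_1 F345398 (iv6 D106402) D106401
theorem F345400 : act 4 n153698 = n156041 := d10_1 F345398 (iv6 D156041) (iv4 F163562)
theorem F345401 : act 5 n153698 = n157904 := d12_1 F345398 (iv6 D157904) (iv5 D75224) D75225 (iv5 F337383)
theorem F345402 : act 2 n107191 = n160373 := d3_3 F345397 F172121 D107191
theorem F345403 : act 5 n160286 = n107191 := d2_0 F345402 (iv5 D160373) (iv2 F253164)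
theorem F345404 : act 7 n107191 = n160360 := d13_2 (iv7 F253166) F345403 (iv5 D160360)
theorem F345405 : act 0 n107191 = n124448 := d17_2 F325841 F345403 (iv5 D124448) F297438 (iv5 D36537) D36536 (iv5 F299373) F325817 (iv4 F223782)
theorem F345406 : act 1 n107191 = n124445 := d17_6 D27675 (iv5 F299728) (iv1 F55805) D76822 D160286 F345403 (iv5 D124445) (iv0 D58036) (iv4 D27677)
theorem F345407 : act 7 n159185 = n160373 := d15_2 F345406 (iv0 F250665) (iv2 F345402)
theorem F345408 : act 2 n160360 = n159185 := d4_3 F345407 (iv2 F345402) F345404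
theorem E99827 : n124458 = n107089 := (c21_4 (iv5 D124448) (iv1 D58037) D58039 D124458 (iv1 D107089) (iv6 D49467) (iv5 F37899) D49550 F172110 D107191 F345405)
theorem E99828 : n109219 = n86349 := (((iv5 F331115)).symm.trans (sb E99827 F199045))
theorem F345409 : act 6 n107089 = n58039 := (sb E99827 (iv6 D124458))
theorem E99829 : n180793 = n50398 := ((D180793).symm.trans (sb E99828 (iv0 D109219)))
theorem F345410 : act 5 n86349 = n107089 := (sb E99828 F331115)
theorem F345411 : act 0 n50398 = n86349 := (sb E99829 (iv1 D180793))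
theorem F345412 : act 0 n116104 = n109221 := d21_10 (iv5 D109221) F345411 F345410 F345409 D124455 F344459 (iv5 D116110) (iv1 D53512) D53513 (iv6 F180895)
theorem F345413 : act 6 n160360 = n106972 := d21_3 (iv5 F303293) (iv1 D160358) D160360 F330474 (iv6 F169173) (iv5 D109221) F345411 F345410 F345409 D124455
theorem F345414 : act 7 n109220 = n103984 := d15_2 (iv0 F345411) D109220 F345202
theorem F345415 : act 2 n109218 = n180792 := d15_3 (iv0 D180792) (iv0 F345411) (iv7 F169172)
theorem F345416 : act 4 n180792 = n106931 := d1_2 F216784 F345415 (iv2 F216783)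
theorem F345417 : act 6 n180792 = n108691 := d3_2 D109218 F345415 F168624
theorem F345418 : act 7 n180792 = n106928 := d4_2 (iv7 F169172) F345415 F164795
theorem F345419 : act 1 n109218 = n103984 := d15_0 (iv0 F345201) (iv7 F345418) (iv2 F345415)
theorem F345420 : act 2 n109220 = n180794 := d15_3 F345206 F345419 (iv7 F345414)
theorem E99830 : n184579 = n179802 := ((c20_9 (iv4 D91359) F293486 D48137 D103984 (iv1 F345419) F337468 F131728 D85875 D179802 (iv3 D184579) (iv1 F140481))).symm
theorem F345421 : act 3 n179802 = n88020 := (sb E99830 (iv3 D184579))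
theorem F345422 : act 7 n179802 = n184099 := (sb E99830 F286562)
theorem E99831 : n111711 = n111357 := ((c21_8 (iv5 F341317) (iv1 F60815) (iv5 F132159) (iv6 F345204) (iv1 F345419) (iv6 D109218) (iv5 F81286) (iv1 F172803) F326448 (iv6 D86166) F341308)).symm
theorem F345423 : act 5 n111357 = n86166 := (sb E99831 F326448)
theorem F345424 : act 6 n111357 = n51511 := (sb E99831 (iv6 D111711))
theorem F345425 : act 5 n180418 = n124014 := d21_8 D57775 F337475 (iv5 F81283) (iv6 D51514) D51511 (iv6 F345424) F345423 D180418 (iv6 D124014) (iv1 D57773)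
theorem F345426 : act 6 n115791 = n111373 := d21_5 F81064 F337449 D115784 F180161 D115791 (iv5 D111373) F325627 (iv5 F325634) (iv6 F345424) (iv1 D111357)
theorem F345427 : act 3 n111375 = n115791 := d7_3 F345426 F172857 D111375
theorem F345428 : act 5 n138770 = n111375 := d6_0 F345427 F180166 D138770
theorem F345429 : act 6 n111376 = n138770 := d12_0 F345428 (iv6 D111375) (iv5 D51366) D51367 D111376
theorem F345430 : act 3 n138771 = n111376 := d7_3 F345429 (iv3 D138770) D138771
theorem F345431 : act 3 n108889 = n123490 := d8_3 (iv7 F344454) F345430 F172865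
theorem F345432 : act 4 n102186 = n180412 := d19_18 D180418 F345425 F306415 F322825 (iv1 F99418) F92806 (iv4 D58736) F45103 (iv1 F78880) F78882 F39767 (iv3 F37830) (iv1 D24138) F18509 D14352 D30240 D64176 (iv5 F329869) F280793
theorem F345433 : act 6 n180411 = n102186 := d10_0 F345432 (iv6 D180412) D180411
theorem F345434 : act 5 n137162 = n180411 := d12_5 F345433 F329869 (iv6 F326615) F221252 D137162
theorem F345435 : act 7 n101532 = n137162 := d13_0 F345434 (iv7 F345254) (iv5 F156342)
theorem F345436 : act 6 n135966 = n89187 := d14_3 F345435 (iv6 D137162) (iv7 F225344) (iv7 F155796) D101532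
theorem F345437 : act 3 n184747 = n135966 := d7_3 F345436 F156045 D184747
theorem F345438 : act 2 n143066 = n184747 := d0_5 F345437 F225342 D137164 F221255 (iv3 F225919)
theorem F345439 : act 5 n136030 = n184747 := d6_0 F345437 F225343 D136030
theorem F345440 : act 7 n137159 = n184747 := d8_0 F345437 F225344 D137159
theorem F345441 : act 6 n101327 = n136030 := d12_0 F345439 (iv6 D184747) (iv5 F307567) F308314 (iv5 F307564)
theorem F345442 : act 0 n136030 = n101244 := d21_7 (iv5 D40808) (iv1 F293869) D40520 (iv6 F294439) D88100 D184747 (iv5 F345439) F293822 (iv6 D87101) (iv1 F293491)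
theorem F345443 : act 5 n182427 = n140764 := d17_3 F345442 F293822 D182427 F223845 D140773 F223867 (iv5 D106896) D106894 (iv4 F218893)
theorem F345444 : act 1 n136030 = n101417 := d15_1 (iv0 F345442) (iv7 D101417) (iv2 F155979)
theorem F345445 : act 1 n137512 = n101244 := d15_0 (iv0 F345442) F218892 D137512
theorem F345446 : act 4 n182427 = n113496 := d18_1 D182427 (iv1 F220846) (iv4 D137679) (iv5 D64720) D64719 F164755 (iv4 F220709) F345445 F293822
theorem F345447 : act 4 n137655 = n101244 := d20_0 (iv1 F345445) F220709 F164754 (iv1 F180923) (iv3 F181445) (iv4 F101516) F204206 (iv4 F220828) (iv3 D137657) D137655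
theorem F345448 : act 3 n110736 = n101244 := d20_3 D137780 (iv1 F336128) (iv4 F336133) (iv1 F345445) F220708 (iv4 F103000) F102535 (iv4 D30474) D30473 (iv1 F219213)
theorem F345449 : act 2 n101409 = n115274 := d0_3 F345448 F155979 (iv3 F156246) F179539 (iv2 F336132)
theorem E99832 : n182422 = n136856 := (c6_4 (iv5 F220821) F345448 F293822 (iv3 F283969))
theorem F345450 : act 3 n136856 = n87101 := (sb E99832 F283969)
theorem F345451 : act 6 n136856 = n87099 := (sb E99832 (iv6 D182422))
theorem F345452 : act 6 n101242 = n110736 := d7_0 F345448 (iv6 D101244) (iv3 F155975)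
theorem F345453 : act 7 n101244 = n137327 := d8_2 (iv7 F336134) F345448 (iv3 D137327)
theorem F345454 : act 0 n102619 = n136031 := d20_1 (iv4 F157826) (iv4 D136031) D136030 F345442 (iv3 F345448) F336133 F336127 F172299 (iv3 F333094) (iv1 F153754)
theorem F345455 : act 1 n102619 = n116486 := d15_1 (iv0 F345454) F181790 (iv2 F218894)
theorem F345456 : act 2 n137515 = n102619 := d15_3 F345455 (iv0 F333110) F333112
theorem F345457 : act 0 n137487 = n142357 := d20_4 F157826 (iv1 F153749) F333104 D137487 (iv3 D142357) F102626 F162313 (iv4 F102515) D116486 (iv1 F345455)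
theorem F345458 : act 3 n127105 = n102619 := d20_5 F225276 (iv1 F219378) F219376 F176209 (iv1 F204358) F157826 (iv1 F153749) F333104 D137487 F345457
theorem F345459 : act 7 n102615 = n127105 := d8_0 F345458 (iv7 D102619) (iv3 F157825)
theorem F345460 : act 2 n127105 = n113058 := d15_3 (iv0 D113058) (iv0 F333131) F345459
theorem F345461 : act 2 n102615 = n127104 := d15_3 (iv0 D127104) D127105 (iv7 F345459)
theorem F345462 : act 6 n127104 = n102614 := d3_2 D102615 F345461 (iv2 D102614)
theorem F345463 : act 7 n127104 = n113058 := d4_2 (iv7 F345459) F345461 (iv2 F345460)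
theorem F345464 : act 2 n137327 = n101417 := d4_1 F345453 (iv7 D101417) (iv2 F155979)
theorem F345465 : act 7 n107332 = n137655 := d11_2 F345453 F220508 F345447
theorem F345466 : act 5 n137327 = n182430 := d13_1 F345453 (iv7 D182430) (iv5 F293822)
theorem F345467 : act 6 n137327 = n101397 := d14_1 F345453 (iv7 D101397) (iv6 D47191) (iv7 F74408) D101244
theorem F345468 : act 1 n101417 = n137512 := d15_0 F345445 F345453 F345464
theorem E99833 : n101416 = n67046 := (c15_1 D101416 (iv0 F220509) (iv7 F345453) F155979)
theorem E99834 : n137511 = n47200 := (((iv1 F220711)).symm.trans (sb E99833 (iv1 D101416)))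
theorem E99835 : n101415 = n64645 := ((D101415).symm.trans (sb E99834 (iv1 D137511)))
theorem F345469 : act 1 n47200 = n67046 := (sb E99834 F220711)
theorem E99836 : n141850 = n101414 := ((((iv4 F156248)).symm.trans (sb E99834 (iv4 F224894)))).symm
theorem F345470 : act 1 n64645 = n47200 := (sb E99835 (iv0 D101415))
theorem F345471 : act 0 n101414 = n136116 := (sb E99836 F224895)
theorem F345472 : act 1 n101414 = n136119 := (sb E99836 F224896)
theorem F345473 : act 3 n101414 = n66506 := (sb E99836 (iv3 D141850))
theorem F345474 : act 4 n115278 = n101409 := d5_4 (iv4 F156248) F345473 D141851 (iv3 F224897) F156246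
theorem E99837 : n141853 = n101412 := (c7_3 D101414 F345473 D141853 (iv3 D101412))
theorem F345475 : act 6 n101412 = n66506 := (sb E99837 (iv6 D141853))
theorem E99838 : n115278 = n115272 := ((c1_4 F345474 F345449 (iv4 D115274) (iv2 F179538))).symm
theorem F345476 : act 0 n115272 = n53183 := (sb E99838 (iv1 D115278))
theorem F345477 : act 1 n115272 = n53185 := (sb E99838 F179541)
theorem F345478 : act 3 n115272 = n141851 := (sb E99838 F224897)
theorem F345479 : act 4 n115272 = n101409 := (sb E99838 F345474)
theorem F345480 : act 6 n101408 = n115272 := d10_0 F345479 (iv6 D101409) D101408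
theorem F345481 : act 7 n101409 = n115269 := d11_2 D115272 F345479 (iv4 D115269)
theorem F345482 : act 5 n101409 = n131028 := d18_4 (iv1 F224168) (iv4 F84002) (iv1 F345477) F345479 (iv4 D131028) (iv0 D61465) D61467 (iv0 F111646) (iv5 F330999)
theorem F345483 : act 0 n101409 = n134198 := d20_1 F345479 F331007 (iv3 D115455) (iv1 D53259) (iv3 D25824) (iv4 D12264) (iv1 F20298) (iv4 F40762) (iv3 F84001) (iv1 F345477)
theorem F345484 : act 0 n134197 = n101409 := d20_10 (iv4 F345479) F345476 F83999 F48563 F102781 D64800 F102782 F204075 F204074 (iv3 F331002)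
theorem F345485 : act 0 n141851 = n115544 := d20_4 (iv4 F331003) F345484 (iv4 F345479) F345478 (iv3 D115544) D115545 F224188 (iv4 F330550) F330549 D136153
theorem F345486 : act 1 n116118 = n135016 := d18_8 F345484 (iv4 F345479) F345476 F83999 D64036 (iv4 F323860) (iv0 F168738) D116118 (iv5 F217237)
theorem F345487 : act 0 n136195 = n113853 := d20_10 F336153 (iv1 F345486) (iv4 D116118) (iv3 F163648) (iv1 F342858) F342860 (iv4 F218335) (iv1 F218337) F218157 F342851
theorem F345488 : act 3 n136004 = n135016 := d20_9 (iv4 D116118) F168738 F323860 F99627 D64849 (iv3 F177217) F177215 (iv1 F252001) F251999 (iv1 F345486)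
theorem F345489 : act 5 n123576 = n134768 := d21_8 F301991 (iv1 F303348) F328116 D135016 (iv1 F345486) F180905 (iv5 F329662) (iv1 F329231) (iv6 F329066) (iv1 F301990)
theorem F345490 : act 0 n122463 = n134249 := d21_7 (iv5 F329662) (iv1 F329231) F345489 (iv6 F329066) (iv1 F301990) D123640 (iv5 F304300) (iv5 D134249) D134250 (iv1 F224143)
theorem F345491 : act 6 n101481 = n136004 := d7_0 F345488 (iv6 D135016) (iv3 F328114)
theorem F345492 : act 2 n136926 = n101481 := d3_3 F345491 (iv2 F218833) D136926
theorem F345493 : act 6 n159852 = n135563 := d10_2 F345491 (iv4 F251999) (iv4 F328115)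
theorem E99839 : n160323 = n136066 := ((c12_3 F345491 F218832 D136066 (iv5 D160323) D160324 (iv5 F304190))).symm
theorem F345494 : act 3 n136066 = n76839 := (sb E99839 F253229)
theorem F345495 : act 4 n136066 = n177622 := (sb E99839 F342111)
theorem F345496 : act 5 n136066 = n76837 := (sb E99839 (iv5 D160323))
theorem F345497 : act 0 n136069 = n172224 := d21_10 (iv5 D172224) (iv1 D82488) D82489 F127124 D101481 F345491 F218832 (iv1 D63986) D63988 D136069
theorem E99840 : n160321 = n137351 := (c2_2 F345496 D160321 (iv5 D137351) (iv2 F218971))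
theorem F345498 : act 2 n137351 = n76837 := (sb E99840 (iv2 D160321))
theorem F345499 : act 4 n137351 = n133106 := (sb E99840 F342108)
theorem F345500 : act 2 n160274 = n133102 := d16_9 F213752 (iv5 F316544) (iv4 F327210) (iv5 F341713) F277082 (iv5 F277086) (iv4 F345495) F345496 (iv7 F253129)
theorem F345501 : act 0 n99713 = n136066 := d17_2 (iv1 D99710) D99713 F345496 D160322 F342109 F334673 (iv5 D83518) F128604 (iv4 F321038)
theorem F345502 : act 4 n101839 = n177653 := d17_9 (iv1 F277099) F129780 F334655 (iv5 F277086) (iv4 F345495) F345496 (iv0 F305528) (iv5 D101842) D101839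
theorem F345503 : act 4 n113477 = n160514 := d16_0 (iv5 F342109) (iv4 D160322) (iv5 F345496) F345495 F277086 (iv4 F277082) F341713 (iv7 D113493) (iv2 F176663)
theorem F345504 : act 5 n177602 = n113477 := d16_1 D177602 F345503 (iv5 F342109) (iv4 D160322) (iv5 F345496) F345495 F277086 (iv7 D84599) D84594
theorem E99841 : n101839 = n100757 := ((c21_10 D101842 F305528 (iv5 F345496) (iv6 D136066) (iv1 D63986) D63989 (iv5 F328242) F289580 D46987 (iv6 F154851) (iv1 D101839))).symm
theorem F345505 : act 0 n100757 = n47329 := (sb E99841 (iv1 D101839))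
theorem E99842 : n177653 = n176119 := ((((iv4 F339170)).symm.trans (sb E99841 F345502))).symm
theorem F345506 : act 0 n176119 = n84611 := (sb E99842 (iv1 F277099))
theorem F345507 : act 1 n176119 = n84606 := (sb E99842 (iv0 D177653))
theorem E99843 : n136904 = n101843 := (c21_5 D63988 (iv1 F106599) (iv5 D64354) D64355 D136904 (iv6 D101843) D101842 F305528 (iv5 F345496) (iv6 D136066) (iv1 D63986))
theorem F345508 : act 1 n101843 = n64355 := (sb E99843 (iv0 D136904))
theorem F345509 : act 0 n172048 = n110387 := d21_10 (iv5 D110387) F324543 (iv5 F277103) (iv6 D177656) (iv1 F345507) (iv6 D176119) F128972 F299526 (iv5 F299448) D172048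
theorem F345510 : act 3 n120045 = n172048 := d19_19 F345509 (iv5 D110387) (iv4 F170745) (iv3 D110383) F80305 D51320 F80971 (iv3 F84361) D115955 F181692 (iv4 F84533) (iv3 F319059) F319058 D53717 (iv4 F321607) (iv3 F315631) D85782 (iv5 F319592) (iv4 F321561)
theorem E99844 : n137383 = n110387 := ((c20_11 (iv4 D137383) (iv1 D64577) (iv4 F100481) F100480 D64537 F319213 (iv4 F53356) F320651 (iv4 F321561) F345510 F345509)).symm
theorem F345511 : act 4 n110387 = n64577 := (sb E99844 (iv4 D137383))
theorem F345512 : act 5 n172048 = n111681 := d18_9 F173252 F82192 D111494 (iv4 F330496) (iv5 D137306) F100481 D64577 (iv4 F345511) (iv0 F345509)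
theorem F345513 : act 6 n112705 = n101643 := d21_9 (iv5 D47278) (iv1 D22731) D22732 (iv6 F58638) D82400 D172048 F345512 F173252 D112705 (iv1 F156562)
theorem E99845 : n110388 = n86058 := (c21_10 F323360 (iv1 F344928) F344931 (iv6 F329143) F318817 (iv6 F325226) (iv5 F345512) F345509 (iv5 D110387) D110388 (iv1 F201501))
theorem E99846 : n180106 = n50905 := ((D180106).symm.trans (sb E99845 F170749))
theorem E99847 : n180107 = n108881 := ((D180107).symm.trans (sb E99845 F170750))
theorem E99848 : n180109 = n50903 := ((D180109).symm.trans (sb E99845 (iv6 D110388)))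
theorem F345514 : act 3 n50905 = n86058 := (sb E99846 (iv3 D180106))
theorem F345515 : act 4 n108881 = n86058 := (sb E99847 (iv4 D180107))
theorem F345516 : act 6 n50903 = n86058 := (sb E99848 (iv6 D180109))
theorem E99849 : n180105 = n98236 := (c3_2 F345516 D180105 F336015 (iv2 F324598))
theorem F345517 : act 2 n98236 = n86058 := (sb E99849 (iv2 D180105))
theorem F345518 : act 7 n98236 = n86059 := (sb E99849 (iv7 F280490))
theorem E99850 : n180108 = n98229 := ((c21_2 F321013 D98229 (iv5 D180108) (iv6 F345516) F324543 (iv6 D86184) F60689 (iv1 F92787) F248743 D86359 (iv1 F328764))).symm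
theorem F345519 : act 5 n98229 = n86058 := (sb E99850 (iv5 D180108))
theorem E99851 : n98233 = n98229 := (c2_4 F345519 (iv2 F345517) (iv5 D98236) D98233)
theorem F345520 : act 2 n98229 = n45913 := (sb E99851 (iv2 D98233))
theorem F345521 : act 7 n98229 = n45914 := (sb E99851 (iv7 F151590))
theorem E99852 : n180110 = n98241 := (c13_3 (iv7 F345521) F345519 D180110 (iv5 D98241))
theorem F345522 : act 2 n98241 = n86059 := (sb E99852 F280491)
theorem F345523 : act 7 n98241 = n86058 := (sb E99852 (iv7 D180110))
theorem F345524 : act 6 n166153 = n130167 := d21_5 (iv5 F345519) (iv1 F151587) (iv5 F321788) (iv6 F277731) (iv1 F277735) (iv5 D130167) (iv1 D61104) D61105 F322581 D86058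
theorem F345525 : act 5 n166153 = n178358 := d21_0 (iv1 F277918) F130076 D84872 (iv1 F324544) F345516 (iv5 F345519) (iv1 F151587) (iv5 F321788) (iv6 F277731) (iv1 F277735)
theorem E99853 : n178362 = n178358 := ((c12_2 (iv6 F345524) F345525 F336001 F143265 F342176 D130167)).symm
theorem F345526 : act 2 n178358 = n84867 := (sb E99853 (iv2 D178362))
theorem F345527 : act 6 n178358 = n92888 := (sb E99853 F336001)
theorem F345528 : act 7 n178358 = n84868 := (sb E99853 (iv7 F277924))
theorem F345529 : act 7 n178177 = n166153 := d13_0 F345525 F345528 (iv5 F336002)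
theorem F345530 : act 2 n166153 = n178176 := d2_1 (iv5 F345525) F336010 (iv2 F345526)
theorem E99854 : n130823 = n130167 := ((c21_4 D84866 D178358 (iv5 F345525) F345524 (iv1 D130823) F311787 (iv5 D75670) D75668 (iv5 F127840) F334701 (iv1 F328595))).symm
theorem F345531 : act 0 n130167 = n61366 := (sb E99854 (iv1 D130823))
theorem F345532 : act 1 n130167 = n165710 := (sb E99854 F320274)
theorem F345533 : act 7 n130822 = n165708 := d15_2 F345532 (iv0 F320273) (iv2 F342181)
theorem F345534 : act 2 n124490 = n130822 := d4_3 F345533 (iv2 F342181) F342180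
theorem E99855 : n130822 = n126020 := ((c8_4 F345533 (iv3 F325138) F202598 D126020)).symm
theorem F345535 : act 0 n126020 = n165710 := (sb E99855 F320273)
theorem F345536 : act 1 n126020 = n61366 := (sb E99855 (iv0 D130822))
theorem F345537 : act 2 n126020 = n124490 := (sb E99855 (iv2 F345534))
theorem F345538 : act 7 n126020 = n165708 := (sb E99855 F345533)
theorem E99856 : n130162 = n126020 := (c13_4 F345538 F334634 F342174 D130162)
theorem F345539 : act 5 n126020 = n61103 := (sb E99856 (iv5 D130162))
theorem E99857 : n130160 = n126021 := (c6_2 F345539 D130160 (iv5 D126021) D126020)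
theorem F345540 : act 3 n126021 = n61103 := (sb E99857 (iv3 D130160))
theorem F345541 : act 5 n174710 = n111588 := d16_3 F137620 (iv5 F128579) (iv4 F273557) (iv4 F202716) F345539 D130161 F336098 (iv7 D94332) F292789
theorem F345542 : act 6 n126020 = n124492 := d21_3 (iv5 D61105) D61103 (iv5 F345539) (iv1 D124492) F91891 (iv5 F92767) (iv1 F92771) (iv5 F256340) D75246 (iv1 F336082)
theorem E99858 : n124492 = n124486 := (c3_1 F345542 F199118 D124490 (iv2 F345537))
theorem F345543 : act 0 n124486 = n58100 := (sb E99858 (iv1 D124492))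
theorem F345544 : act 1 n124486 = n58102 := (sb E99858 F199120)
theorem F345545 : act 3 n124486 = n125957 := (sb E99858 (iv3 F326938))
theorem F345546 : act 6 n124486 = n126020 := (sb E99858 (iv6 F345542))
theorem F345547 : act 4 n124486 = n108950 := d10_1 (iv6 F345546) (iv6 F173127) (iv4 F202716)
theorem F345548 : act 7 n124485 = n178176 := d14_4 (iv7 F345538) (iv6 F345546) (iv7 D124486) D124485 (iv6 F336007)
theorem F345549 : act 0 n116687 = n180556 := d21_1 (iv5 F182080) F281005 F132176 (iv1 F345544) F345546 F345539 (iv1 F208644) (iv5 F336086) F336087 (iv1 F175124)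
theorem E99859 : n171080 = n116914 := ((c17_8 F345549 F281005 (iv1 F319455) D110583 (iv4 F228846) (iv5 F228889) (iv0 D145753) (iv5 F182677) (iv0 D171080) (iv4 F325852))).symm
theorem F345550 : act 1 n116914 = n81998 := (sb E99859 (iv0 D171080))
theorem F345551 : act 2 n178177 = n124485 := d4_3 F345548 (iv2 F345530) (iv7 F345529)
theorem E99860 : n178359 = n175991 := ((c13_3 F345548 F336010 (iv7 F336000) (iv5 F277920))).symm
theorem F345552 : act 0 n175991 = n84866 := (sb E99860 (iv1 D178359))
theorem F345553 : act 1 n175991 = n84871 := (sb E99860 F277919)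
theorem F345554 : act 5 n175991 = n124485 := (sb E99860 (iv5 F277920))
theorem E99861 : n166152 = n124485 := (c15_2 F277735 F277733 F345548 (iv2 F345530))
theorem F345555 : act 0 n124485 = n178178 := (sb E99861 (iv1 F277733))
theorem F345556 : act 1 n124485 = n79781 := (sb E99861 (iv0 D166152))
theorem F345557 : act 3 n124485 = n125989 := d20_5 (iv4 D27735) D27733 (iv4 F57076) D79781 (iv1 F345556) F202668 F166518 F326028 (iv3 D121679) F88906
theorem E99862 : n175037 = n124484 := (c21_2 (iv5 F320976) D175037 (iv5 D124484) D124485 F345555 F277731 F321788 (iv1 F151581) F342099 (iv6 F342101) (iv1 D159201))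
theorem F345558 : act 1 n124484 = n83591 := (sb E99862 (iv0 D175037))
theorem F345559 : act 6 n124484 = n175990 := (sb E99862 F275317)
theorem E99863 : n179112 = n175990 := (c21_8 (iv5 D84866) (iv1 F329027) (iv5 F334719) F334721 (iv1 D76542) (iv6 F107259) (iv5 F130684) D179112 (iv5 D175990) D175991 F345552)
theorem F345560 : act 0 n175990 = n113131 := (sb E99863 (iv1 F320628))
theorem F345561 : act 1 n175990 = n85468 := (sb E99863 (iv0 D179112))
theorem F345562 : act 2 n113134 = n175990 := d15_3 F345561 (iv0 F318513) D113134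
theorem F345563 : act 6 n173647 = n150320 := d21_9 (iv5 F130684) (iv1 F345561) (iv5 D175990) D175991 F345552 D178361 (iv5 F319466) F319463 F342092 (iv1 D150320)
theorem E99864 : n170732 = n145741 := (c21_8 (iv5 D175990) (iv1 D83975) D83976 F199338 F298757 (iv6 F268301) (iv5 D170734) D170732 (iv5 F279071) (iv6 D179116) (iv1 F345561))
theorem F345564 : act 1 n145741 = n81850 := (sb E99864 (iv0 D170732))
theorem F345565 : act 2 n150320 = n175938 := d3_1 F345563 (iv6 D175938) (iv2 F273889)
theorem F345566 : act 7 n150320 = n175579 := d14_2 (iv7 F273887) F345563 (iv6 D175579) F334799 F334787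
theorem F345567 : act 5 n150320 = n178919 := d21_6 F29567 (iv1 F29454) D38218 D83048 D173647 F345563 (iv1 D178919) F326618 (iv6 D83053) (iv1 F59084)
theorem F345568 : act 2 n178919 = n175992 := d2_1 F345567 (iv5 F275318) (iv2 F345565)
theorem E99865 : n178919 = n130513 := (c13_2 (iv7 F345566) F345567 F209074 F331957)
theorem F345569 : act 0 n130513 = n85311 := (sb E99865 (iv1 D178919))
theorem F345570 : act 1 n130513 = n175994 := (sb E99865 (iv0 F327866))
theorem F345571 : act 2 n130513 = n175992 := (sb E99865 F345568)
theorem F345572 : act 5 n130513 = n150320 := (sb E99865 (iv5 F345567))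
theorem F345573 : act 3 n150320 = n107675 := d6_1 F345572 F166308 D130513
theorem E99866 : n163480 = n129019 := ((c19_11 (iv1 F46671) D61311 (iv4 F166309) (iv3 F345573) (iv1 D150320) (iv5 F130684) D179115 F279068 F313643 D139004 F222182 (iv3 D163480) (iv1 D78560) D78561 D163484 (iv3 F333486) (iv1 D135710) (iv5 D63811) (iv4 F83864) (iv3 D53137))).symm
theorem F345574 : act 3 n129019 = n78560 := (sb E99866 (iv3 D163480))
theorem F345575 : act 6 n170230 = n129019 := d7_0 F345574 (iv6 F299559) D170230
theorem F345576 : act 4 n174903 = n170230 := d10_3 F345575 (iv4 F222182) (iv6 F333025)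
theorem F345577 : act 3 n122387 = n174903 := d5_5 F345576 (iv3 D170230) (iv4 D81639) (iv3 F117316) D122387
theorem F345578 : act 7 n174903 = n171055 := d8_2 (iv7 F195816) F345577 (iv3 D171055)
theorem F345579 : act 2 n171055 = n174905 := d4_1 F345578 (iv7 D174905) D174903
theorem F345580 : act 7 n162904 = n170230 := d11_2 F345578 F306131 (iv4 F345576)
theorem F345581 : act 1 n174902 = n171055 := d15_1 D174902 (iv7 F345578) (iv2 D174903)
theorem F345582 : act 1 n171055 = n174901 := d15_0 (iv0 D174901) D174905 (iv2 F345579)
theorem F345583 : act 4 n175992 = n157150 := d1_2 (iv4 F209073) F345571 (iv2 D157150)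
theorem F345584 : act 7 n178918 = n175992 := d15_2 F345570 F327867 (iv2 F345571)
theorem F345585 : act 2 n107637 = n178918 := d4_3 F345584 (iv2 F345571) F209074
theorem F345586 : act 6 n178918 = n162043 := d3_2 (iv6 F331958) F345585 F311769
theorem F345587 : act 6 n175994 = n123601 := d21_5 F128657 (iv1 F127867) (iv5 F311770) (iv6 F345586) (iv1 F327867) (iv5 D123601) F331906 D83486 (iv6 F309558) (iv1 F271845)
theorem F345588 : act 2 n123601 = n150560 := d3_1 F345587 F237081 (iv2 F327868)
theorem F345589 : act 5 n150560 = n101478 := d2_2 D123601 F345588 F302338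
theorem F345590 : act 1 n150560 = n176110 := d15_0 (iv0 D176110) (iv7 F302340) F345588
theorem F345591 : act 3 n107647 = n176110 := d20_3 F209091 (iv1 F99716) F166257 (iv1 F345590) (iv3 D150560) (iv4 D70970) (iv1 D32869) D32870 (iv3 F319576) F209092
theorem F345592 : act 3 n158583 = n126905 := d6_3 F204152 F345591 F344756
theorem F345593 : act 6 n126905 = n158442 := d7_2 (iv6 F342102) F345592 F307598
theorem F345594 : act 2 n172354 = n126905 := d3_3 F345593 F314493 D172354
theorem F345595 : act 4 n172155 = n126905 := d10_3 F345593 F307599 D172155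
theorem F345596 : act 5 n128101 = n157219 := d21_0 F247408 (iv5 F204152) F345593 (iv1 D158442) (iv6 D75585) F54847 (iv1 F77327) (iv5 F86954) D119437 F314816
theorem E99867 : n107648 = n54984 := (c21_9 F87074 (iv1 F83188) (iv5 F94631) D127898 (iv1 F307597) (iv6 F345593) F204152 (iv1 D107647) D107648 F301376 (iv1 F94758))
theorem E99868 : n119515 = n49729 := ((D119515).symm.trans (sb E99867 (iv5 D107648)))
theorem E99869 : n107643 = n54986 := (((iv3 F166250)).symm.trans (sb E99868 F188495))
theorem F345597 : act 5 n49729 = n54984 := (sb E99868 (iv5 D119515))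
theorem F345598 : act 3 n54986 = n49729 := (sb E99869 F166250)
theorem E99870 : n119520 = n49727 := ((D119520).symm.trans (sb E99869 (iv6 D107643)))
theorem F345599 : act 6 n49727 = n54986 := (sb E99870 (iv6 D119520))
theorem F345600 : act 6 n119294 = n107641 := d3_2 F345599 (iv2 F187775) (iv2 D107641)
theorem F345601 : act 6 n119519 = n107618 := d10_2 F345599 D119519 F166055
theorem F345602 : act 3 n107619 = n119519 := d7_3 F345601 (iv3 D107618) D107619
theorem F345603 : act 0 n107641 = n107590 := d21_4 F87000 (iv1 F86839) D119294 F345600 (iv6 D107590) (iv5 D49703) D49700 D107579 (iv6 F336278) (iv1 F187783)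
theorem F345604 : act 3 n128050 = n119294 := d0_4 F345598 (iv2 F162216) F329466 (iv2 F206059) F187775
theorem F345605 : act 3 n107649 = n119290 := d8_3 F187765 F345598 D107649
theorem F345606 : act 3 n107641 = n124963 := d7_3 (iv6 F339306) F345604 F345600
theorem F345607 : act 4 n128050 = n184691 := d20_6 F328305 (iv1 F289576) F327675 (iv3 F240161) (iv1 F240164) (iv3 F345604) (iv1 D184691) (iv4 F343441) (iv3 F264157) F300829
theorem F345608 : act 2 n184691 = n128118 := d1_1 F345607 (iv4 D128118) (iv2 F206059)
theorem F345609 : act 5 n183174 = n126877 := d17_3 (iv1 D184691) F135059 D183174 F204123 F329083 (iv0 F333391) (iv5 F339295) (iv0 F339299) F345607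
theorem F345610 : act 3 n126879 = n183174 := d6_3 F345609 F204122 D126879
theorem F345611 : act 0 n126877 = n184665 := d21_1 F345609 (iv5 F287202) (iv6 D184729) (iv1 D88087) (iv6 F64310) (iv5 D41680) F66208 D40650 D87434 D183174
theorem F345612 : act 5 n126873 = n184595 := d21_0 (iv1 D184595) (iv5 F143965) (iv6 D93341) F68619 D88067 F135059 D183174 F345609 (iv6 D126877) D126873
theorem F345613 : act 7 n184595 = n109194 := d13_2 F220443 F345612 (iv5 F171710)
theorem F345614 : act 4 n184595 = n108685 := d19_2 D126873 F345612 (iv3 D108685) (iv1 F79518) F38553 F18958 F8215 (iv1 F3676) (iv5 F4891) (iv4 D2776) F10005 (iv1 F8300) (iv5 F8291) (iv4 F18572) (iv3 F24280) (iv1 F24282) (iv5 F23743) D28269 D59540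
theorem F345615 : act 6 n111232 = n126873 := d21_5 (iv5 F66321) (iv1 F68685) (iv5 F68684) (iv6 F335391) D111232 F345612 (iv1 D184595) (iv5 F143965) (iv6 D93341) F68619
theorem F345616 : act 0 n126776 = n184595 := d21_7 F336361 (iv1 D73089) D73090 F109603 D73102 (iv6 F329623) D126776 (iv5 F345612) (iv6 F345615) (iv1 F172525)
theorem F345617 : act 3 n140368 = n184595 := d5_5 F345614 (iv3 D108685) (iv4 F79521) (iv3 F101548) D140368
theorem E99871 : n140366 = n139327 := (c20_8 F80673 D51355 (iv4 F93906) (iv3 F204026) F345616 (iv3 F345617) (iv4 D140368) D140366 (iv4 D139327) F101089 (iv1 F80676))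
theorem F345618 : act 1 n139327 = n65884 := (sb E99871 (iv0 D140366))
theorem F345619 : act 2 n109194 = n184594 := d15_3 (iv0 D184594) D184595 F345613
theorem F345620 : act 4 n184594 = n109193 := d1_2 D109194 F345619 (iv2 D109193)
theorem F345621 : act 5 n184594 = n126874 := d2_2 F171710 F345619 F220442
theorem F345622 : act 1 n126776 = n184594 := d17_6 (iv1 F203737) (iv5 F336591) (iv1 D126796) (iv5 D59503) (iv4 F93902) D126776 F345621 F204118 (iv4 F203734)
theorem F345623 : act 6 n126876 = n91282 := d21_3 F345621 (iv1 D126874) D126876 (iv1 D91282) (iv6 D42724) (iv5 D20170) (iv1 F65806) (iv5 F62332) D88025 D184594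
theorem F345624 : act 4 n140776 = n126876 := d10_3 F345623 F331059 D140776
theorem F345625 : act 3 n108933 = n140776 := d5_5 F345624 F204120 F93964 (iv3 F172758) (iv4 F219103)
theorem F345626 : act 5 n113586 = n140776 := d16_1 D113586 F345624 (iv5 D126876) F93960 D59549 (iv4 F176741) (iv5 D113582) (iv7 F203744) F203743
theorem F345627 : act 4 n127096 = n113587 := d16_0 (iv5 D113587) D113586 F345626 F345624 (iv5 D126876) F93960 D59549 (iv7 F203739) F325313
theorem F345628 : act 5 n126638 = n127096 := d16_1 (iv4 F203734) F345627 (iv5 D113587) D113586 F345626 F345624 (iv5 D126876) F93961 D110855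
theorem F345629 : act 0 n126876 = n109087 := d20_7 (iv4 F84215) F84217 F78109 (iv3 F79671) D108933 F345625 F345624 (iv4 D109087) F79741 (iv1 F79736)
theorem F345630 : act 1 n140776 = n110157 := d18_8 F168938 F168937 (iv1 D105235) F76543 D50362 D109087 (iv0 F345629) (iv4 F345624) (iv5 D110157)
theorem F345631 : act 4 n141196 = n110157 := d20_6 (iv4 F81204) (iv1 F81206) F39245 (iv3 F49383) D66233 D141196 (iv1 F345630) F345624 F204120 F93965
theorem F345632 : act 3 n110162 = n141197 := d5_3 F345631 F170309 D110162 (iv4 D141197) D141196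
theorem F345633 : act 3 n127096 = n126836 := d6_1 F345628 (iv5 D126836) (iv3 F203733)
theorem F345634 : act 6 n127096 = n129403 := d21_9 (iv5 F322746) D79631 (iv5 F338362) F338363 (iv1 F336587) (iv6 F336588) (iv5 F204050) (iv1 F203736) F345628 (iv1 D129403)
theorem F345635 : act 2 n129403 = n132371 := d3_1 F345634 F338380 F325313
theorem F345636 : act 7 n129403 = n132282 := d14_2 F325316 F345634 (iv6 D132282) (iv7 F211994) (iv6 F325315)
theorem F345637 : act 5 n176449 = n126797 := d21_8 (iv5 F204050) (iv1 F203736) F345628 F345634 (iv1 D129403) D129406 F307466 D176449 (iv6 D126797) D126795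
theorem F345638 : act 5 n121797 = n129403 := d21_2 F324232 (iv1 F194397) (iv6 F345634) (iv1 D127096) F94046 (iv5 F95587) (iv1 F213169) F97283 D62397 (iv1 F338307)
theorem F345639 : act 1 n157807 = n132999 := d17_6 (iv1 F194397) F345638 (iv1 D129403) (iv5 F322746) (iv4 F122335) (iv5 F248694) F338378 F260959 F260955
theorem E99872 : n177561 = n162950 := ((c21_7 F345638 (iv1 D129403) (iv5 F322746) (iv6 F299578) (iv1 F342740) (iv6 D162951) D162950 (iv1 F277009) (iv5 D163043) F302615 (iv1 F194397))).symm
theorem F345640 : act 0 n162950 = n163043 := (sb E99872 (iv1 F277009))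
theorem F345641 : act 1 n162950 = n84583 := (sb E99872 (iv0 D177561))
theorem F345642 : act 6 n176441 = n121699 := d21_3 D163522 F323690 D176441 (iv1 D121699) F88942 D84583 (iv1 F345641) (iv5 D162950) D162951 F342739
theorem E99873 : n166165 = n121699 := ((c3_1 F345642 (iv2 D166165) D166169 F342760)).symm
theorem F345643 : act 2 n121699 = n79786 := (sb E99873 (iv2 D166165))
theorem F345644 : act 7 n121699 = n79787 := (sb E99873 (iv7 F261646))
theorem F345645 : act 5 n146736 = n121699 := d21_8 F303678 F130931 F323679 (iv6 F334236) (iv1 F277845) (iv6 D178286) D178285 (iv1 F321710) (iv6 F345642) F275744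
theorem F345646 : act 2 n146713 = n146736 := d2_3 F345645 F345643 (iv5 F334597)
theorem F345647 : act 7 n166173 = n146736 := d13_0 F345645 F345644 D166173
theorem F345648 : act 1 n140796 = n148867 := d17_8 (iv1 F321710) F345645 (iv1 D121699) (iv5 F337740) F338182 (iv5 D66064) D66063 D140796 (iv4 F334042)
theorem F345649 : act 4 n146709 = n146736 := d17_4 D32208 D69286 D147879 (iv5 F243007) F345645 F194226 F337755 (iv0 D69237) F51142
theorem F345650 : act 6 n146736 = n146707 := d21_3 (iv5 F337755) (iv1 F194226) (iv5 F345645) (iv1 F243117) (iv6 D144817) (iv5 F105342) (iv1 F105343) F51140 D32196 D69237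
theorem F345651 : act 5 n146707 = n176442 := d12_1 F345650 (iv6 D176442) D176441 F345642 (iv5 F345645)
theorem E99874 : n176442 = n174295 := (c6_1 F345651 F334566 D175135 F339384)
theorem F345652 : act 2 n174295 = n119689 := (sb E99874 (iv2 F342754))
theorem F345653 : act 5 n174295 = n146707 := (sb E99874 (iv5 F345651))
theorem F345654 : act 6 n174295 = n84125 := (sb E99874 (iv6 D176442))
theorem E99875 : n174295 = n174281 := (c18_10 (iv1 D174281) F300343 (iv1 F184758) F127500 F310749 (iv4 F243033) (iv0 F243094) (iv4 F227728) F243117 (iv5 F345653))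
theorem F345655 : act 2 n174281 = n119689 := (sb E99875 F345652)
theorem F345656 : act 3 n174281 = n83648 := (sb E99875 F334566)
theorem F345657 : act 5 n174281 = n146707 := (sb E99875 F345653)
theorem F345658 : act 6 n174281 = n84125 := (sb E99875 F345654)
theorem F345659 : act 7 n174281 = n83312 := (sb E99875 (iv7 D174295))
theorem F345660 : act 5 n147395 = n161515 := d21_6 F319815 D79871 (iv5 F330051) (iv6 D69236) (iv1 F105394) D147395 (iv1 F303090) F345657 (iv6 F345650) (iv1 D146736)
theorem F345661 : act 4 n103144 = n147395 := d18_3 (iv1 F334517) F243361 F313332 F345660 (iv4 F328942) F328940 F127500 D82732 D172798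
theorem F345662 : act 4 n96781 = n89414 := d16_4 F328942 (iv5 F345660) (iv4 F345661) (iv5 F158415) F137093 F328704 (iv5 D84212) (iv7 F126933) (iv2 F328941)
theorem F345663 : act 5 n117280 = n173197 := d21_0 F307886 (iv5 F345660) (iv6 D147395) (iv1 D69096) (iv6 D32146) D32145 D69092 F105342 D144817 F243105
theorem F345664 : act 1 n96781 = n127674 := d17_6 F243105 F345663 F307886 (iv5 F345660) (iv4 F345661) (iv5 F158415) F243096 (iv0 F243094) (iv4 F227728)
theorem F345665 : act 3 n166167 = n166083 := d19_11 (iv1 F307887) (iv5 F345663) (iv4 D117280) (iv3 D54050) (iv1 F41459) (iv5 F50366) (iv4 F317181) (iv3 F130056) (iv1 F337732) F334597 D166167 F299601 (iv5 D177347) F129613 F325178 (iv1 F39456) (iv5 F324131) (iv4 F59235) (iv3 F128382)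
theorem F345666 : act 5 n166082 = n166167 := d6_0 F345665 (iv5 D166083) D166082
theorem F345667 : act 2 n95888 = n96781 := d15_3 F345664 (iv0 D127674) (iv7 F308817)
theorem F345668 : act 1 n127555 = n96781 := d15_0 F345664 F243097 (iv2 F243157)
theorem F345669 : act 6 n103144 = n147393 := d21_3 (iv5 F243096) (iv1 F345664) F158415 F310858 (iv6 F310861) (iv5 D68973) F50722 (iv5 F51450) D69783 F243094
theorem F345670 : act 6 n106030 = n103127 := d21_3 (iv5 D88115) F306890 D106030 F298867 (iv6 F310742) (iv5 F243096) (iv1 F345664) F158415 F345669 F310858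
theorem F345671 : act 2 n103127 = n154437 := d3_1 F345670 (iv6 D154437) (iv2 F162998)
theorem F345672 : act 3 n154437 = n153363 := d0_2 D103127 F345671 F240931 (iv3 D103688) F75484
theorem F345673 : act 4 n154437 = n153242 := d1_2 (iv4 F192391) F345671 F240692
theorem F345674 : act 1 n154437 = n160712 := d15_0 F253863 F159136 F345671
theorem F345675 : act 1 n152372 = n154437 := d15_0 F345674 F298394 (iv2 F298860)
theorem F345676 : act 6 n139739 = n160712 := d21_3 (iv5 D66064) F337758 D139739 (iv1 F345674) (iv6 D154437) (iv5 D73154) D73151 (iv5 F231484) F335050 (iv1 D140799)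
theorem F345677 : act 6 n148951 = n138816 := d21_3 F98084 F186861 D148951 F338959 F315957 F306828 (iv1 F345674) F242482 (iv6 F309042) F309037
theorem F345678 : act 6 n156612 = n150420 := d3_2 F345677 (iv2 F246309) F236798
theorem E99876 : n176963 = n138816 := ((c7_1 F345677 (iv3 D176963) (iv6 F339109) (iv3 F234025))).symm
theorem F345679 : act 3 n138816 = n84345 := (sb E99876 (iv3 D176963))
theorem F345680 : act 4 n138816 = n150420 := (sb E99876 (iv4 F307642))
theorem F345681 : act 5 n137686 = n124874 := d16_1 (iv4 F339063) F314713 D138816 F345680 (iv5 D150420) F109931 D75021 (iv7 F307565) F307563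
theorem F345682 : act 0 n154619 = n138816 := d18_2 (iv1 F112564) D154619 F345680 (iv5 D150420) F109931 (iv0 D34369) F27292 D16662 D34381
theorem F345683 : act 5 n116133 = n157596 := d9_12 D150420 (iv4 F345680) (iv5 D138816) (iv4 F314713) (iv5 F345681) F339063 (iv5 D75026) (iv4 F215532) D150422 F344012 (iv5 D116136) (iv4 F180928) (iv4 D157596) (iv5 D75021) (iv4 F109931)
theorem F345684 : act 2 n157596 = n142042 := d2_1 F345683 (iv5 D142042) (iv2 F180927)
theorem F345685 : act 7 n116136 = n156612 := d16_8 F345680 (iv5 D150420) F109931 D75021 D157596 (iv5 F345683) F180928 D116136 F246309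
theorem F345686 : act 7 n116133 = n156609 := d16_8 F314713 D138816 F345680 (iv5 D150420) F109931 D75021 D157596 (iv5 F345683) (iv2 F314712)
theorem F345687 : act 1 n142041 = n156609 := d15_1 D142041 (iv7 F345686) F180927
theorem F345688 : act 4 n177360 = n142041 := d18_5 F209901 F307178 (iv1 F307177) (iv4 F215537) (iv5 F344004) F345687 F246307 F327173 (iv5 F316246)
theorem E99877 : n177360 = n116713 := (c20_3 (iv4 F246307) (iv1 F345687) (iv4 F345688) (iv3 D116713) (iv1 D53781) F41104 F20478 D12333 D26022 D53832 (iv1 F327173))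
theorem F345689 : act 0 n116713 = n124865 := (sb E99877 (iv1 F338952))
theorem F345690 : act 1 n116713 = n84501 := (sb E99877 (iv0 D177360))
theorem F345691 : act 2 n116713 = n124862 := (sb E99877 (iv2 F344005))
theorem F345692 : act 4 n116713 = n142041 := (sb E99877 F345688)
theorem F345693 : act 5 n116713 = n133852 := (sb E99877 F344004)
theorem F345694 : act 7 n116713 = n124863 := (sb E99877 (iv7 F344006))
theorem F345695 : act 3 n133852 = n116715 := d6_1 F345693 (iv5 D116715) D116713
theorem F345696 : act 2 n116715 = n107869 := d0_1 F345695 (iv3 D107869) (iv2 F189538) (iv3 F209890) (iv2 F215536)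
theorem F345697 : act 4 n116715 = n132342 := d5_2 (iv4 F215537) F345695 F212314 F96762 (iv3 F98091)
theorem F345698 : act 7 n116715 = n118574 := d8_2 D133852 F345695 (iv3 F209896)
theorem F345699 : act 0 n116715 = n118531 := d20_4 F307178 (iv1 F307177) (iv4 F215537) F345695 F186434 (iv4 F302494) (iv1 F304919) F208023 D62930 F209901
theorem F345700 : act 0 n118486 = n116715 := d20_4 F309201 F337498 F166818 (iv3 F186384) (iv3 F345695) F215537 (iv1 F309038) F309041 (iv3 F305312) F305310
theorem F345701 : act 0 n116716 = n151305 := d21_10 (iv5 F318342) (iv1 F183097) (iv5 F318324) (iv6 D33292) (iv1 F42601) D55038 (iv5 F186385) F345700 (iv5 D116715) D116716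
theorem F345702 : act 0 n139725 = n151282 := d21_7 (iv5 F224077) F345701 (iv5 F318342) (iv6 F320506) F230118 (iv6 F316154) D139725 (iv5 D151282) D151283 (iv1 F318332)
theorem E99878 : n160186 = n142603 := ((c21_7 (iv5 F186385) F345700 (iv5 D116715) D116716 F345701 (iv6 D151305) (iv5 F320612) (iv1 D160186) F321134 F319032 (iv1 F313893))).symm
theorem F345703 : act 0 n142603 = n76736 := (sb E99878 (iv1 D160186))
theorem F345704 : act 6 n120017 = n141079 := d21_5 (iv5 D69350) (iv1 F184037) F321228 D142457 (iv1 F340827) (iv5 F224077) F345701 (iv5 F318342) (iv6 F320506) F230118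
theorem F345705 : act 0 n152713 = n116716 := d21_1 (iv5 F316056) F224077 (iv6 F345704) (iv1 D120017) (iv6 D55230) (iv5 F42830) F42831 (iv5 F42356) F318343 (iv1 F318268)
theorem E99879 : n160185 = n146660 := ((c15_4 (iv0 D160185) (iv0 F345703) F320613 (iv2 F229956))).symm
theorem F345706 : act 1 n146660 = n76736 := (sb E99879 (iv0 D160185))
theorem F345707 : act 6 n117242 = n139725 := d21_3 D69615 F183296 F183453 F345702 (iv6 F278484) F278483 (iv1 F313719) F313722 F184299 (iv1 D69614)
theorem F345708 : act 7 n139725 = n158953 := d15_2 F340937 (iv0 F345702) F310205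
theorem F345709 : act 2 n139725 = n117270 := d15_3 (iv0 F230373) D158953 (iv7 F345708)
theorem F345710 : act 7 n117270 = n123528 := d4_2 (iv7 F345708) F345709 (iv2 F310205)
theorem F345711 : act 1 n139725 = n146662 := d15_0 (iv0 F340935) (iv7 F345710) (iv2 F345709)
theorem F345712 : act 2 n149654 = n151282 := d15_3 (iv0 F345702) F345711 F315201
theorem E99880 : n186301 = n144135 := ((c19_7 (iv1 F345711) (iv5 D139725) D139724 F222898 F103387 D67527 D144135 F289065 F136141 (iv5 D83444) (iv4 D38453) (iv3 F117936) D18601 F29830 (iv4 F51488) F311676 (iv1 F79097) (iv5 F310511) (iv4 F312709) (iv3 F229963))).symm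
theorem F345713 : act 3 n144135 = n88752 := (sb E99880 F289065)
theorem F345714 : act 5 n144135 = n88751 := (sb E99880 (iv5 D186301))
theorem F345715 : act 5 n181007 = n110500 := d16_5 (iv4 F82625) D67527 D144135 F345714 (iv4 F281846) F170994 (iv5 F97621) F97620 (iv2 F82622)
theorem F345716 : act 3 n110500 = n181008 := d6_1 F345715 (iv5 D181008) D181007
theorem E99881 : n166030 = n125670 := ((c13_4 (iv7 F281848) F345715 F170993 D125670)).symm
theorem F345717 : act 3 n125670 = n79713 := (sb E99881 (iv3 D166030))
theorem F345718 : act 4 n125670 = n186302 := (sb E99881 (iv4 F289067))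
theorem F345719 : act 7 n125670 = n181007 := (sb E99881 (iv7 F281848))
theorem F345720 : act 1 n169900 = n181007 := d17_6 (iv1 F82313) (iv5 F85030) (iv1 F85033) (iv5 F93120) (iv4 F326907) D169900 F345715 (iv0 F175699) (iv4 D112838)
theorem F345721 : act 4 n125696 = n186299 := d18_1 D125696 (iv1 D186299) (iv4 F281846) F345715 F170994 F93066 (iv4 F93069) (iv0 D58856) D58858
theorem E99882 : n167776 = n125696 := (c20_6 (iv4 D86028) (iv1 D39801) D39802 F323361 F303720 D167776 F345721 (iv1 D186299) (iv4 F281846) (iv3 D181007) (iv1 F298914))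
theorem F345722 : act 3 n125696 = n80509 := (sb E99882 (iv3 D167776))
theorem F345723 : act 3 n167764 = n186299 := d5_5 (iv4 F345721) F345722 (iv4 D80509) (iv3 F123756) D167764
theorem F345724 : act 3 n98251 = n113368 := d6_3 (iv5 F202175) F345722 F301020
theorem F345725 : act 7 n172489 = n125696 := d8_0 F345722 (iv7 F301516) D172489
theorem E99883 : n172530 = n125785 := ((c13_3 F345725 F202175 (iv7 F202297) F270718)).symm
theorem F345726 : act 3 n125785 = n82597 := (sb E99883 (iv3 D172530))
theorem F345727 : act 5 n125785 = n172489 := (sb E99883 F270718)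
theorem F345728 : act 6 n172489 = n127353 := d12_2 D125785 F345727 (iv5 F328812) (iv6 F165247) F332769
theorem F345729 : act 1 n172489 = n125699 := d17_6 (iv1 F93059) (iv5 F175993) (iv1 F175995) (iv5 F176399) (iv4 F202296) F345727 F202176 F201917 F201915
theorem F345730 : act 0 n172489 = n125537 := d21_7 (iv5 F93088) (iv1 F93091) (iv5 D28000) D28001 D58899 D125785 F345727 (iv5 D125537) (iv6 D58773) (iv1 F81368)
theorem F345731 : act 2 n125694 = n172489 := d3_3 F345728 (iv2 D127353) (iv6 F202173)
theorem F345732 : act 6 n113366 = n98251 := d7_0 F345724 (iv6 D113368) D113366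
theorem F345733 : act 2 n172519 = n113366 := d3_3 F345732 (iv2 F151597) D172519
theorem F345734 : act 4 n158336 = n113366 := d10_3 F345732 F151596 D158336
theorem F345735 : act 7 n163695 = n113366 := d14_0 F345732 (iv7 F151598) (iv6 F330698) (iv7 F254369) D163695
theorem F345736 : act 3 n105213 = n163695 := d8_3 F345735 (iv3 D113366) F168348
theorem F345737 : act 1 n113493 = n163695 := d15_1 (iv0 F334680) F345735 (iv2 F345733)
theorem F345738 : act 3 n150251 = n163698 := d20_9 (iv4 F258048) (iv1 F345737) F327210 (iv3 D76183) (iv1 F57208) (iv3 F122765) (iv4 F319350) (iv1 F282150) F330166 (iv1 D163698)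
theorem F345739 : act 3 n174830 = n126209 := d20_3 F327210 F334674 D174830 (iv1 D126209) F93361 F45411 D48651 D105213 F345736 (iv1 F345737)
theorem F345740 : act 5 n163698 = n150250 := d6_2 D150251 F345738 (iv3 D150250)
theorem F345741 : act 5 n163695 = n128724 := d6_2 (iv5 F332761) F345736 F206998
theorem F345742 : act 1 n128724 = n174849 := d17_8 (iv1 D177508) F333804 F341715 F277086 (iv4 F277082) F341713 F345737 F345741 (iv4 F339183)
theorem F345743 : act 0 n180352 = n129027 := d21_4 D125378 (iv1 F280668) (iv5 D180351) D180352 F333036 D174849 (iv1 F345742) (iv5 F345741) (iv6 D163695) F119818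
theorem F345744 : act 4 n158421 = n128722 := d18_3 F345743 F333035 (iv1 F305497) F332809 D128833 (iv0 F332684) F332687 (iv0 F218460) F345240
theorem F345745 : act 1 n180352 = n163478 := d15_1 (iv0 F345743) (iv7 F320979) (iv2 F333034)
theorem E99884 : n129008 = n113526 := ((c17_5 F330862 (iv5 F330866) (iv1 F113415) (iv5 F128815) (iv4 F327541) (iv5 D129008) (iv0 F218460) F345240 F345745 F299561)).symm
theorem F345746 : act 3 n113526 = n60660 := (sb E99884 F207261)
theorem F345747 : act 5 n113526 = n60658 := (sb E99884 (iv5 D129008))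
theorem E99885 : n180352 = n172432 := ((c18_6 (iv1 D75560) F54838 D41532 F155435 D82561 D172432 F345745 F299561 (iv0 F322734) (iv5 D158421))).symm
theorem F345748 : act 0 n172432 = n129027 := (sb E99885 F345743)
theorem F345749 : act 1 n172432 = n163478 := (sb E99885 F345745)
theorem F345750 : act 5 n172432 = n128910 := (sb E99885 (iv5 F345240))
theorem F345751 : act 6 n172432 = n86137 := (sb E99885 (iv6 D180352))
theorem E99886 : n172433 = n121759 := ((c10_2 F345751 F258237 (iv6 D172433) D172432)).symm
theorem F345752 : act 6 n121759 = n82561 := (sb E99886 (iv6 D172433))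
theorem F345753 : act 5 n107169 = n105351 := d21_6 (iv5 F332707) F218457 (iv5 F345750) F345751 (iv1 F160844) (iv6 F345241) (iv1 D105351) F76644 D52399 D113525
theorem F345754 : act 6 n105351 = n89075 := d12_2 (iv6 F345241) F345753 F136781 D96148 (iv5 F345227)
theorem F345755 : act 6 n107171 = n128592 := d21_9 D128717 (iv1 F333057) (iv5 D125656) (iv6 F325753) (iv1 F136778) (iv6 F345754) (iv5 F345753) (iv1 D107169) D107171 (iv1 F206834)
theorem F345756 : act 2 n128594 = n107171 := d3_3 F345755 (iv2 D128592) D128594
theorem F345757 : act 5 n107170 = n128594 := d2_0 F345756 (iv5 D107171) D107170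
theorem F345758 : act 1 n128594 = n113489 := d15_0 (iv0 F228497) F175388 (iv2 F345756)
theorem F345759 : act 1 n113476 = n128594 := d15_0 F345758 (iv7 D113489) (iv2 F176661)
theorem F345760 : act 0 n143093 = n90094 := d20_7 (iv4 D59641) F46336 (iv4 F95063) (iv3 F206837) (iv1 F345759) (iv3 F220913) F225944 F138496 (iv3 F328081) F165242
theorem F345761 : act 0 n113477 = n163695 := d21_4 F345757 (iv1 F345759) (iv5 D113476) D113477 (iv6 D163695) F332753 (iv1 F332747) F332749 D104969 F324562
theorem F345762 : act 0 n128724 = n170683 := d17_2 F345761 F345741 (iv5 F339176) F250713 F315960 F128605 D83513 F334676 (iv4 F345503)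
theorem F345763 : act 4 n121097 = n174825 := d20_8 (iv4 F345503) F345761 F258048 F119821 D78665 (iv3 F328017) F192836 D121097 F273700 (iv1 F334673)
theorem F345764 : act 1 n113477 = n172519 := d15_1 (iv0 F345761) (iv7 F334382) (iv2 F258047)
theorem F345765 : act 0 n158791 = n172517 := d20_4 D83259 (iv1 F250003) (iv4 D158800) (iv3 F249996) F270708 (iv4 F270710) (iv1 F345764) F345503 F320955 (iv1 D83258)
theorem F345766 : act 5 n172517 = n162722 := d21_2 D158791 F345765 (iv6 D162722) D162719 F317079 F128076 F307679 F305670 (iv6 F307478) (iv1 D158790)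
theorem F345767 : act 7 n173213 = n172517 := d13_0 F345766 F334405 D173213
theorem F345768 : act 3 n101730 = n173213 := d8_3 F345767 F270708 (iv7 F334391)
theorem F345769 : act 6 n160564 = n173213 := d14_5 F345767 (iv6 D172517) (iv7 F302489) F330687 F254419
theorem F345770 : act 5 n173214 = n180620 := d12_3 F345769 (iv5 D173213) D173214 (iv6 D180620) (iv5 F253648)
theorem F345771 : act 7 n180620 = n176500 := d13_2 F275788 F345770 (iv5 D176500)
theorem E99887 : n180620 = n180253 := (c21_1 F345770 (iv1 D180253) (iv5 F324622) (iv6 D75480) (iv1 F54787) D38023 (iv5 F318552) (iv1 F211615) F317498 (iv6 F129197) (iv1 F278522))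
theorem F345772 : act 2 n180253 = n121214 := (sb E99887 F281145)
theorem F345773 : act 5 n180253 = n173214 := (sb E99887 (iv5 F345770))
theorem F345774 : act 6 n180253 = n86279 := (sb E99887 (iv6 D180620))
theorem F345775 : act 7 n180253 = n176500 := (sb E99887 F345771)
theorem F345776 : act 0 n167490 = n130393 := d17_0 (iv5 D130393) (iv1 F97260) D132905 F305915 F324622 D180253 F345773 F278522 (iv4 F263660)
theorem F345777 : act 0 n158330 = n180253 := d21_1 (iv5 F249453) F345773 (iv6 D173214) (iv1 F271505) F271503 (iv5 F273268) (iv1 F273270) D174454 F273322 F187611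
theorem F345778 : act 4 n130393 = n163664 := d20_2 (iv4 F263660) F345776 F257996 F340259 F315321 (iv4 F274161) (iv1 F278517) (iv4 D178696) (iv3 F278519) (iv1 F275785)
theorem E99888 : n131538 = n120961 := (c21_8 (iv5 D130393) (iv1 F97260) D132905 F305916 (iv1 F113253) (iv6 F306582) D61725 D131538 F320328 (iv6 F303149) F345776)
theorem F345779 : act 0 n120961 = n133025 := (sb E99888 (iv1 F213678))
theorem F345780 : act 1 n120961 = n61725 := (sb E99888 (iv0 D131538))
theorem F345781 : act 1 n176444 = n130393 := d15_0 (iv0 F345776) F263661 (iv2 F275746)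
theorem F345782 : act 5 n121062 = n163003 := d21_6 (iv5 F336567) (iv1 D132375) F322727 D120961 F345779 F333978 (iv1 F336326) (iv5 D147712) (iv6 F336336) (iv1 F122327)
theorem F345783 : act 2 n163003 = n162819 := d2_1 F345782 (iv5 D162819) (iv2 F336598)
theorem F345784 : act 7 n163003 = n162814 := d13_2 (iv7 F336599) F345782 (iv5 D162814)
theorem F345785 : act 5 n147698 = n155757 := d21_6 F345782 (iv1 F336326) (iv5 D147712) (iv6 F336336) (iv1 F122327) (iv6 F336570) (iv1 D155757) F318576 F132145 D121062
theorem F345786 : act 2 n162814 = n163004 := d15_3 (iv0 F336325) F336326 F345784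
theorem F345787 : act 7 n162819 = n163004 := d4_2 (iv7 F345784) F345783 (iv2 F345786)
theorem E99889 : n177585 = n162814 := (c15_2 F336595 F277040 (iv7 F345784) F345783)
theorem F345788 : act 0 n162814 = n163002 := (sb E99889 (iv1 F277040))
theorem F345789 : act 1 n162814 = n84589 := (sb E99889 (iv0 D177585))
theorem F345790 : act 3 n162814 = n107755 := d20_5 (iv4 F323621) (iv1 F92356) F311391 (iv3 F129762) (iv1 F345789) (iv4 D107755) (iv1 D49774) (iv4 F78631) F313848 F323620
theorem F345791 : act 4 n162814 = n139300 := d20_8 F80959 F168209 D53839 D116833 F342364 (iv3 F224199) F324987 (iv1 F345789) (iv3 D139300) (iv1 F101078)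
theorem F345792 : act 0 n162815 = n147358 := d21_4 D84589 (iv1 F345789) (iv5 D162814) D162815 (iv6 D147358) (iv5 D69085) (iv1 D32143) D32145 D69094 F333961
theorem F345793 : act 1 n152598 = n161177 := d17_6 D160960 F336620 F345792 (iv5 F341901) F205798 D152598 F303249 (iv0 F318081) (iv4 D160962)
theorem F345794 : act 6 n173417 = n160960 := d21_5 (iv5 F267386) F267388 F192390 F303709 (iv1 F317290) F336620 F345792 (iv5 F341901) (iv6 D127882) D127880
theorem E99890 : n166391 = n162815 := ((c15_1 (iv0 F345792) (iv0 D166391) F322491 (iv2 F231079))).symm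
theorem F345795 : act 1 n162815 = n79890 := (sb E99890 (iv0 D166391))
theorem F345796 : act 7 n162815 = n147643 := d15_2 F341908 (iv0 F345792) (iv2 F334255)
theorem F345797 : act 2 n147644 = n162815 := d4_3 F345796 (iv2 F334255) (iv7 F334257)
theorem F345798 : act 7 n172012 = n160960 := d13_2 F345796 F334247 F336620
theorem F345799 : act 1 n166386 = n147643 := d15_1 F341905 (iv7 F345796) (iv2 F345797)
theorem F345800 : act 3 n160960 = n172017 := d8_1 F345798 (iv7 D172017) (iv3 F270065)
theorem F345801 : act 1 n175055 = n160960 := d15_1 (iv0 F341914) (iv7 F345798) (iv2 F341909)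
theorem F345802 : act 4 n101753 = n160960 := d20_0 (iv1 F345801) (iv4 F334220) (iv3 D101616) (iv1 D47267) F35295 F17285 D10753 D22736 D47299 D101753
theorem F345803 : act 0 n173390 = n98516 := d20_7 (iv4 F334220) F334217 F271473 F127673 D83169 F317229 (iv4 F342349) (iv4 F333750) (iv3 F345800) (iv1 F345801)
theorem F345804 : act 0 n166901 = n159284 := d20_10 (iv4 F342349) F345803 (iv4 F333750) (iv3 F345800) (iv1 F345801) (iv3 D175055) F308163 (iv1 F308074) (iv4 F310093) (iv3 F262762)
theorem F345805 : act 2 n173393 = n98516 := d15_3 (iv0 F345803) (iv0 D173390) D173393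
theorem F345806 : act 1 n123237 = n98516 := d15_0 (iv0 F345803) F342350 F272612
theorem F345807 : act 7 n98516 = n172013 := d15_2 (iv0 F333751) F345806 F270067
theorem F345808 : act 6 n98513 = n173393 := d3_0 F345805 (iv6 D98516) D98513
theorem F345809 : act 3 n173393 = n183400 := d7_1 F345808 (iv6 D183400) F233022
theorem F345810 : act 7 n172007 = n98513 := d14_0 F345808 (iv7 D173393) (iv6 D82976) (iv7 F126888) D172007
theorem F345811 : act 3 n98536 = n172007 := d8_3 F345810 (iv3 F233022) F233023
theorem F345812 : act 1 n98291 = n172007 := d15_1 (iv0 F344995) F345810 (iv2 D98513)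
theorem F345813 : act 1 n153965 = n98513 := d15_1 (iv0 F344998) (iv7 F345810) F270056
theorem F345814 : act 1 n98513 = n173419 := d15_1 F345813 F332401 (iv2 F332398)
theorem F345815 : act 6 n123377 = n98536 := d7_0 F345811 (iv6 D172007) F197748
theorem F345816 : act 7 n183400 = n153930 := d14_4 (iv7 F197746) F345815 (iv7 F233023) D183400 (iv6 D153930)
theorem F345817 : act 0 n183400 = n154119 := d20_10 (iv4 F244089) (iv1 D123529) F90731 F44418 (iv1 F121192) D57403 F121563 (iv1 F321093) (iv4 F271874) F345809
theorem F345818 : act 0 n124688 = n183400 := d20_4 F50908 (iv1 F189889) (iv4 F190610) D124688 (iv3 F345809) F271874 F321092 (iv4 F191103) (iv3 D73018) (iv1 F190550)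
theorem F345819 : act 5 n164154 = n166901 := d21_0 F345804 (iv5 D159284) F114166 (iv1 F55017) D39934 D86313 (iv1 F330660) (iv5 F171347) F321853 (iv1 F345368)
theorem F345820 : act 5 n125274 = n152142 := d21_8 F302366 D36491 D80122 D166901 F345804 F250765 (iv5 D125357) (iv1 F201459) (iv6 D152142) (iv1 D71749)
theorem E99891 : n159206 = n152173 := (c21_2 (iv5 D159284) (iv1 F250702) (iv5 D152173) (iv6 D71764) (iv1 D33173) (iv6 F52388) F302366 D36491 D80122 D166901 F345804)
theorem F345821 : act 0 n152173 = n76153 := (sb E99891 (iv1 D159206))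
theorem F345822 : act 1 n152173 = n76203 := (sb E99891 F250702)
theorem F345823 : act 1 n166901 = n157527 := d15_1 (iv0 F345804) F248239 (iv2 F250764)
theorem E99892 : n123301 = n122556 := ((c20_1 F262763 (iv1 D123301) F121563 (iv3 D38332) (iv1 F118799) F315684 F115599 (iv1 D74967) D74968 D157527 (iv1 F345823))).symm
theorem F345824 : act 0 n122556 = n57403 := (sb E99892 (iv1 D123301))
theorem F345825 : act 1 n122556 = n73018 := (sb E99892 F197591)
theorem E99893 : n123300 = n123083 := (c15_2 F345825 F197587 (iv7 D123083) (iv2 F196222))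
theorem F345826 : act 0 n123083 = n73018 := (sb E99893 (iv1 F197587))
theorem F345827 : act 1 n123083 = n57403 := (sb E99893 (iv0 D123300))
theorem E99894 : n159279 = n159205 := ((c15_2 F345822 F250698 (iv7 D159279) (iv2 F330172))).symm
theorem F345828 : act 2 n159205 = n76202 := (sb E99894 F250763)
theorem F345829 : act 5 n159205 = n135399 := (sb E99894 F330175)
theorem F345830 : act 7 n159205 = n76201 := (sb E99894 (iv7 D159279))
theorem F345831 : act 0 n135322 = n125357 := d21_4 F25495 (iv1 F207213) (iv5 F98962) D135322 (iv6 F250765) (iv5 D159284) (iv1 F345822) (iv5 D152173) (iv6 D71764) (iv1 D33173)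
theorem F345832 : act 5 n152171 = n121724 := d21_2 (iv5 D152173) D152171 (iv6 D121724) (iv1 F336469) (iv6 D92193) (iv5 F250805) (iv1 F55910) (iv5 F55013) (iv6 F114166) (iv1 F345822)
theorem E99895 : n152171 = n131092 := ((c6_4 F345832 F194287 F313143 D131092)).symm
theorem F345833 : act 0 n131092 = n135399 := (sb E99895 (iv1 F239255))
theorem F345834 : act 1 n131092 = n71764 := (sb E99895 (iv0 D152171))
theorem F345835 : act 5 n131092 = n121724 := (sb E99895 F345832)
theorem E99896 : n157625 = n153325 := ((c20_2 F240889 D153325 (iv4 F338860) F239244 (iv1 F345834) (iv3 D131092) (iv4 D61498) (iv1 F47631) (iv4 F97335) (iv3 F213755) F334765)).symm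
theorem F345836 : act 2 n153325 = n75046 := (sb E99896 (iv2 D157625))
theorem F345837 : act 4 n153325 = n152167 := (sb E99896 (iv4 F338860))
theorem F345838 : act 6 n153325 = n152166 := (sb E99896 F338857)
theorem E99897 : n153326 = n153296 := (c15_2 (iv0 D153325) D153326 F240858 (iv2 F345836))
theorem F345839 : act 0 n153296 = n72443 := (sb E99897 (iv1 D153326))
theorem E99898 : n160782 = n153324 := ((c20_1 (iv4 F240889) (iv1 D160782) (iv4 F253127) (iv3 D160274) F115322 F55820 F54542 (iv1 F52717) D72420 D153296 F345839)).symm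
theorem F345840 : act 0 n153324 = n77147 := (sb E99898 (iv1 D160782))
theorem E99899 : n177619 = n162803 := (c21_8 (iv5 F300660) F345840 (iv5 F333772) F336019 F337544 (iv6 D84603) D84602 (iv1 F277084) (iv5 D162803) F119457 (iv1 F318158))
theorem F345841 : act 0 n162803 = n84597 := (sb E99899 (iv1 D177619))
theorem F345842 : act 1 n162803 = n84602 := (sb E99899 F277084)
theorem E99900 : n177637 = n101734 := (c17_10 (iv1 D101734) (iv5 D47294) D47290 D101715 (iv4 F342326) F342327 (iv0 D162799) D162803 F345842 D177637)
theorem F345843 : act 4 n101734 = n84602 := (sb E99900 (iv4 D177637))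
theorem E99901 : n101734 = n64564 := ((c1_4 F345843 (iv2 F277085) (iv4 F345495) F218971)).symm
theorem E99902 : n137349 = n47294 := ((D137349).symm.trans (sb E99901 (iv1 D101734)))
theorem E99903 : n137348 = n84602 := (((iv4 F220542)).symm.trans (sb E99901 F345843))
theorem F345844 : act 1 n47294 = n64564 := (sb E99902 (iv0 D137349))
theorem F345845 : act 4 n84602 = n64564 := (sb E99903 F220542)
theorem E99904 : n177638 = n64562 := ((D177638).symm.trans (sb E99903 (iv6 D137348)))
theorem F345846 : act 6 n64562 = n84602 := (sb E99904 (iv6 D177638))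
theorem F345847 : act 6 n177632 = n137346 := d7_2 F345846 (iv3 F277092) (iv3 D137346)
theorem F345848 : act 6 n132856 = n137347 := d12_4 F345846 (iv5 D84602) D84603 (iv5 F333821) (iv5 D137347)
theorem E99905 : n181799 = n177603 := ((c14_3 (iv7 F218810) F345846 (iv7 F277071) (iv6 D181799) (iv7 F344812) F344782)).symm
theorem F345849 : act 6 n177603 = n86824 := (sb E99905 (iv6 D181799))
theorem E99906 : n141786 = n137347 := ((c21_7 F304825 (iv1 F263168) F304821 D175717 F333807 (iv6 F345846) D137347 (iv1 D141786) (iv5 F312972) (iv6 D101646) D101643)).symm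
theorem F345850 : act 0 n137347 = n66479 := (sb E99906 (iv1 D141786))
theorem F345851 : act 3 n137192 = n137347 := d20_3 F94022 D64486 D137192 F345850 (iv3 D66479) (iv4 D31037) (iv1 F48218) F323653 (iv3 F203833) (iv1 F336110)
theorem F345852 : act 0 n127362 = n127027 := d20_4 (iv4 F327484) F139268 D105300 (iv3 F204612) F204267 F94022 D64486 D137192 F345851 F345850
theorem E99907 : n133275 = n133267 := (c21_10 D133268 F337544 (iv5 F333821) F345848 F345850 F102365 F308631 (iv1 F249609) (iv5 F308593) F342172 (iv1 D133267))
theorem F345853 : act 2 n133267 = n62542 := (sb E99907 F214240)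
theorem F345854 : act 6 n133267 = n167465 := (sb E99907 (iv6 F342172))
theorem F345855 : act 7 n133267 = n62541 := (sb E99907 (iv7 D133275))
theorem F345856 : act 3 n163819 = n133267 := d8_3 F345855 (iv3 F324227) (iv7 F258264)
theorem F345857 : act 5 n132889 = n133267 := d13_3 F345855 (iv5 F324228) (iv7 F323707)
theorem F345858 : act 4 n163819 = n132238 := d20_6 (iv4 D29052) (iv1 F23435) (iv4 F47425) (iv3 F97508) (iv1 F214230) (iv3 F345856) (iv1 D132238) F96678 F47088 (iv1 F80100)
theorem E99908 : n132238 = n129852 := (c1_1 F345858 (iv2 F208201) F334297 (iv2 F258263))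
theorem F345859 : act 0 n129852 = n62039 := (sb E99908 (iv1 D132238))
theorem F345860 : act 4 n129852 = n163819 := (sb E99908 (iv4 F345858))
theorem F345861 : act 4 n163807 = n129853 := d9_9 D163819 (iv4 F345860) F208200 F203353 (iv5 F167949) (iv4 F164134) (iv5 F325695) D78699 D163807 F208204 F203347 F167944 F167953 (iv5 F325702) D78704
theorem E99909 : n132329 = n129854 := ((c18_8 (iv1 F330780) F57018 (iv1 F56500) D78704 D163819 (iv4 F345860) (iv0 D129852) D129854 F212252 F330785)).symm
theorem F345862 : act 0 n129854 = n62087 := (sb E99909 (iv1 F212251))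
theorem F345863 : act 1 n129854 = n62086 := (sb E99909 F212252)
theorem F345864 : act 2 n129854 = n62089 := (sb E99909 F212247)
theorem F345865 : act 3 n129854 = n125998 := (sb E99909 (iv3 F324940))
theorem F345866 : act 5 n129854 = n86258 := (sb E99909 F324201)
theorem F345867 : act 6 n129854 = n129551 := (sb E99909 F212249)
theorem F345868 : act 7 n129854 = n62081 := (sb E99909 (iv7 D132329))
theorem E99910 : n132232 = n129855 := (c11_2 F345868 (iv4 F211872) (iv7 D129855) D129854)
theorem F345869 : act 2 n129855 = n62039 := (sb E99910 F211871)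
theorem F345870 : act 4 n129855 = n62081 := (sb E99910 F211872)
theorem F345871 : act 6 n129855 = n62037 := (sb E99910 (iv6 D132232))
theorem E99911 : n132239 = n129817 := (c16_2 (iv4 F96678) D132239 F208167 F95523 F326500 (iv5 F60732) D86258 (iv5 F345866) F345868 F96748)
theorem F345872 : act 3 n129817 = n62045 := (sb E99911 F211877)
theorem F345873 : act 5 n129817 = n62039 := (sb E99911 (iv5 D132239))
theorem F345874 : act 5 n132236 = n132531 := d12_5 F212725 F345873 (iv6 D62039) D62038 D132236
theorem E99912 : n132237 = n129853 := (c17_3 (iv1 F208169) F345873 D132237 F208204 F203347 F167944 F167940 (iv5 F176303) F176306 F168299)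
theorem F345875 : act 1 n129853 = n62039 := (sb E99912 (iv0 D132237))
theorem F345876 : act 5 n132228 = n129156 := d21_6 F207398 (iv1 F208169) F345873 (iv6 D62039) D62035 D132228 (iv1 D129156) D129157 F207397 D129164
theorem F345877 : act 0 n129659 = n129156 := d21_7 D129468 (iv1 F211874) (iv5 F212264) (iv6 F325489) (iv1 D60901) D60904 D129659 (iv5 F345876) (iv6 D132228) (iv1 F96668)
theorem F345878 : act 7 n129659 = n126478 := d15_2 D129156 (iv0 F345877) F203345
theorem F345879 : act 2 n129158 = n129659 := d4_3 F345878 F203345 D129158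
theorem F345880 : act 3 n126478 = n129675 := d8_1 F345878 (iv7 D129675) (iv3 F207836)
theorem F345881 : act 4 n130945 = n129659 := d11_3 F345878 F203346 D130945
theorem F345882 : act 5 n126478 = n129660 := d13_1 F345878 (iv7 D129660) D129659
theorem F345883 : act 2 n129660 = n129157 := d2_1 F345882 (iv5 D129157) (iv2 F203345)
theorem E99913 : n132667 = n126481 := (c12_3 D126478 F345882 (iv6 F212987) (iv5 D126481) (iv6 D59342) D59341)
theorem F345884 : act 3 n126481 = n62260 := (sb E99913 F212985)
theorem F345885 : act 4 n126481 = n62281 := (sb E99913 F212986)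
theorem F345886 : act 6 n126481 = n129660 := (sb E99913 F212987)
theorem F345887 : act 7 n126481 = n62255 := (sb E99913 (iv7 D132667))
theorem E99914 : n132678 = n126477 := (c6_3 D126481 F345884 (iv5 F212997) F203344)
theorem F345888 : act 0 n126477 = n132250 := (sb E99914 (iv1 F212998))
theorem F345889 : act 1 n126477 = n132252 := (sb E99914 F212999)
theorem F345890 : act 5 n126477 = n62260 := (sb E99914 F212997)
theorem F345891 : act 7 n126477 = n62259 := (sb E99914 (iv7 D132678))
theorem F345892 : act 7 n132677 = n132181 := d11_2 F345891 D132677 F211744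
theorem F345893 : act 7 n132670 = n126557 := d14_2 F345891 (iv6 F212988) (iv6 D126557) F93666 D126477
theorem F345894 : act 4 n126571 = n129839 := d16_0 (iv5 D129839) F95532 F323390 (iv4 F325952) (iv5 F47237) (iv4 F97071) (iv5 F345890) F345891 (iv2 F203566)
theorem F345895 : act 2 n129839 = n132677 := d1_1 F345894 (iv4 D132677) (iv2 F203566)
theorem F345896 : act 3 n132677 = n132185 := d0_2 (iv3 F208190) F345895 F211752 (iv3 F334298) F208163
theorem F345897 : act 5 n132677 = n129832 := d2_2 D129839 F345895 F208185
theorem F345898 : act 3 n126561 = n132670 := d8_3 F345893 F203530 D126561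
theorem F345899 : act 5 n126557 = n132671 := d13_1 F345893 (iv7 D132671) D132670
theorem F345900 : act 3 n132671 = n126560 := d6_1 F345899 (iv5 D126560) (iv3 F203530)
theorem F345901 : act 7 n126560 = n132663 := d8_2 D132671 F345900 F212983
theorem F345902 : act 2 n132663 = n132422 := d4_1 F345901 (iv7 D132422) (iv2 F203537)
theorem F345903 : act 5 n132663 = n126561 := d13_1 F345901 (iv7 D126561) D126560
theorem F345904 : act 1 n132420 = n132663 := d15_1 D132420 (iv7 F345901) F203537
theorem E99915 : n137819 = n132420 := (c18_8 (iv1 F203541) F96666 F84102 (iv4 F98735) (iv5 F329051) (iv4 D64769) D64768 D137819 F345904 F345903)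
theorem F345905 : act 4 n132420 = n64768 := (sb E99915 (iv4 D137819))
theorem E99916 : n137773 = n132418 := (c17_5 (iv1 D64768) (iv5 D30463) D30459 D64753 D137773 (iv5 D132418) (iv0 D62127) D62128 D132420 F345905)
theorem F345906 : act 4 n132418 = n64753 := (sb E99916 (iv4 D137773))
theorem E99917 : n143087 = n132421 := (c18_5 (iv1 F99585) D64757 F219214 F162230 (iv5 F225938) (iv4 D132421) D132420 F345905 F219054 (iv5 D136099))
theorem F345907 : act 0 n132421 = n136897 := (sb E99917 F225958)
theorem F345908 : act 3 n132421 = n67060 := (sb E99917 F225937)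
theorem F345909 : act 5 n132421 = n67055 := (sb E99917 F225938)
theorem F345910 : act 7 n132421 = n67053 := (sb E99917 (iv7 D143087))
theorem F345911 : act 3 n140765 = n182427 := d20_5 (iv4 F345905) (iv1 D132420) D132421 F345908 (iv1 F223853) F345446 (iv1 F220846) (iv4 D137679) (iv3 F219052) (iv1 F219054)
theorem E99918 : n137884 = n137818 := (c20_5 F223854 (iv1 D137910) (iv4 D64818) (iv3 F100651) D137884 (iv3 D137818) (iv4 F345905) (iv1 D132420) D132421 F345908 (iv1 F223853))
theorem F345912 : act 1 n137818 = n64807 := (sb E99918 (iv0 D137884))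
theorem F345913 : act 2 n182427 = n137545 := d0_1 F345911 (iv3 D137545) (iv2 F220887) (iv3 F180642) (iv2 F223850)
theorem F345914 : act 3 n113500 = n137910 := d5_5 (iv4 F223854) F345911 F345446 F176686 D113500
theorem F345915 : act 7 n182427 = n143093 := d8_2 (iv7 F223851) F345911 (iv3 D143093)
theorem F345916 : act 0 n182427 = n134031 := d20_4 D64834 (iv1 F221171) (iv4 F223854) F345911 F216004 F98241 (iv1 F95961) D131029 F326700 (iv1 F100665)
theorem E99919 : n128764 = n113345 := (c20_1 F216005 (iv1 D113345) F106586 F106585 (iv1 F139189) F100671 D64834 (iv1 F221171) (iv4 F223854) F345911 F345916)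
theorem F345917 : act 3 n113345 = n60559 := (sb E99919 F207031)
theorem F345918 : act 4 n113345 = n134031 := (sb E99919 (iv4 F216005))
theorem F345919 : act 6 n113345 = n60558 := (sb E99919 (iv6 D128764))
theorem E99920 : n169940 = n113345 := (c14_1 D169940 F345919 (iv7 F98276) F328765 F112707 D81515)
theorem F345920 : act 7 n113345 = n81515 := (sb E99920 (iv7 D169940))
theorem F345921 : act 7 n90094 = n134031 := d11_2 F345920 (iv4 F138496) (iv4 F345918)
theorem F345922 : act 7 n169905 = n105201 := d13_2 F345920 (iv5 F267331) (iv5 F219127)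
theorem E99921 : n113344 = n96680 := ((c15_4 (iv0 D113344) D113345 F345920 (iv2 F148999))).symm
theorem F345923 : act 0 n96680 = n126225 := (sb E99921 (iv1 F202995))
theorem F345924 : act 1 n96680 = n52315 := (sb E99921 (iv0 D113344))
theorem F345925 : act 5 n96680 = n105200 := (sb E99921 F219125)
theorem F345926 : act 2 n105200 = n169905 := d2_1 F345925 F267331 (iv2 F148999)
theorem F345927 : act 6 n105200 = n96674 := d12_2 D96680 F345925 (iv5 D96674) F71154 D45162
theorem F345928 : act 6 n177347 = n113348 := d21_3 F282298 (iv1 F298917) D177347 (iv1 D113348) (iv6 D52316) D52315 (iv1 F345924) F345925 F345927 (iv1 F330418)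
theorem E99922 : n184750 = n126288 := (c21_5 (iv5 D95269) F70011 D86125 (iv6 F295054) D184750 (iv6 D126288) F93400 D105200 (iv5 F345925) (iv6 D96680) (iv1 F146892))
theorem F345929 : act 1 n126288 = n88102 := (sb E99922 (iv0 D184750))
theorem E99923 : n183450 = n137660 := (c18_5 F308315 F108590 D72156 D152913 F311652 F220832 F345929 (iv4 D88102) D88101 (iv5 F135083))
theorem F345930 : act 2 n137660 = n87566 := (sb E99923 (iv2 D183450))
theorem F345931 : act 5 n137660 = n152913 := (sb E99923 (iv5 F311652))
theorem F345932 : act 7 n137660 = n87567 := (sb E99923 (iv7 F285207))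
theorem F345933 : act 7 n183457 = n126288 := d11_2 F345932 D183457 (iv4 F220832)
theorem F345934 : act 3 n126292 = n183457 := d8_3 F345933 F203062 D126292
theorem F345935 : act 3 n113908 = n106591 := d20_9 F104284 (iv1 D49359) (iv4 F77851) (iv3 F164219) F328262 (iv3 F345934) F203067 (iv1 F161547) D113908 (iv1 F164160)
theorem F345936 : act 6 n131989 = n113908 := d7_0 F345935 F164158 (iv3 F211481)
theorem F345937 : act 7 n106586 = n113908 := d8_0 F345935 (iv7 D106591) (iv3 F164148)
theorem F345938 : act 0 n154017 = n95425 := d21_4 F345931 (iv1 F242041) (iv5 D154016) D154017 (iv6 D95425) F294176 (iv1 D40333) D40334 (iv6 F133378) (iv1 F339701)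
theorem F345939 : act 0 n183896 = n138067 := d21_1 F294942 (iv5 D138067) (iv6 D64880) (iv1 F161537) D137660 F345931 (iv1 F242041) (iv5 D154016) D154017 F345938
theorem F345940 : act 1 n154017 = n183493 := d15_1 (iv0 F345938) (iv7 D183493) F295062
theorem F345941 : act 2 n183452 = n126288 := d1_3 (iv4 F220832) F345930 D183452
theorem E99924 : n183454 = n136120 := (c3_3 D137660 F345930 D183454 F219096)
theorem F345942 : act 6 n136120 = n87566 := (sb E99924 (iv6 D183454))
theorem F345943 : act 6 n183452 = n126287 := d10_2 F345942 D183452 (iv4 F219098)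
theorem E99925 : n153993 = n96491 := (c21_5 (iv5 D72880) (iv1 D33605) D33606 (iv6 F109363) D153993 F329741 (iv5 D64720) (iv1 F99601) D136120 F345942 F310388)
theorem E99926 : n95428 = n72870 := ((F148596).symm.trans (sb E99925 (iv0 D153993)))
theorem F345944 : act 0 n72870 = n96491 := (sb E99926 (iv1 F148596))
theorem E99927 : n153994 = n44569 := ((D153994).symm.trans (sb E99926 (iv0 D95428)))
theorem F345945 : act 0 n44569 = n72870 := (sb E99927 (iv1 D153994))
theorem F345946 : act 6 n153986 = n183500 := d21_3 (iv5 D72870) D72868 D153986 (iv1 D183500) (iv6 D87586) F292536 (iv1 D21198) D21200 D44569 F345945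
theorem F345947 : act 7 n95429 = n96489 := d15_2 (iv0 F345945) D95429 F339694
theorem F345948 : act 2 n153996 = n95429 := d4_3 F345947 F339694 D153996
theorem F345949 : act 5 n124717 = n95429 := d13_3 F345947 F339695 D124717
theorem E99928 : n153996 = n96490 := (c15_4 F329742 (iv0 F329743) (iv7 F345947) (iv2 F345948))
theorem F345950 : act 2 n96490 = n95429 := (sb E99928 F345948)
theorem F345951 : act 5 n96490 = n72871 := (sb E99928 F242014)
theorem F345952 : act 7 n96490 = n72870 := (sb E99928 (iv7 D153996))
theorem E99929 : n124684 = n89726 := ((c21_4 F309400 (iv1 F64630) D41909 D89726 (iv1 F199459) (iv6 F199539) F345949 (iv1 D95429) (iv5 F147024) (iv6 D95394) F309576)).symm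
theorem F345953 : act 0 n89726 = n72969 := (sb E99929 (iv1 F199459))
theorem F345954 : act 1 n89726 = n58267 := (sb E99929 (iv0 D124684))
theorem E99930 : n154095 = n89726 := (c15_4 F345954 D124685 F342702 D154095)
theorem F345955 : act 2 n89726 = n72966 := (sb E99930 (iv2 D154095))
theorem F345956 : act 7 n89726 = n72967 := (sb E99930 (iv7 F242173))
theorem F345957 : act 4 n158989 = n89726 := d11_3 F345956 D154102 (iv7 F342708)
theorem F345958 : act 6 n89725 = n158989 := d10_0 F345957 (iv6 D89726) D89725
theorem E99931 : n166303 = n89725 := (c3_4 F345958 (iv2 D158989) (iv6 F317963) (iv2 F261880))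
theorem F345959 : act 0 n89725 = n104896 := (sb E99931 (iv1 F340632))
theorem F345960 : act 1 n89725 = n178247 := (sb E99931 (iv0 F333964))
theorem F345961 : act 2 n89725 = n79858 := (sb E99931 F261880)
theorem F345962 : act 3 n89725 = n147053 := (sb E99931 (iv3 F338185))
theorem F345963 : act 5 n89725 = n79857 := (sb E99931 (iv5 D166303))
theorem F345964 : act 7 n89725 = n147786 := (sb E99931 (iv7 F337754))
theorem F345965 : act 0 n158989 = n179063 := d21_10 (iv5 D179063) (iv1 D85432) (iv5 F113834) D159016 F339317 (iv6 F342716) (iv5 D104804) (iv1 F328688) (iv5 F345963) F345958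
theorem E99932 : n158989 = n128106 := ((c21_5 F94638 (iv1 D28614) D28616 D60204 D128106 (iv6 F345958) F345963 F328687 (iv5 D89255) F306547 (iv1 F94637))).symm
theorem F345966 : act 0 n128106 = n179063 := (sb E99932 F345965)
theorem F345967 : act 2 n128106 = n75906 := (sb E99932 (iv2 D158989))
theorem F345968 : act 4 n128106 = n89726 := (sb E99932 F345957)
theorem F345969 : act 5 n128106 = n85509 := (sb E99932 F250323)
theorem F345970 : act 6 n128106 = n89725 := (sb E99932 (iv6 F345958))
theorem F345971 : act 7 n128106 = n154102 := (sb E99932 F342708)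
theorem F345972 : act 1 n120606 = n179063 := d15_0 (iv0 F345966) F345971 F342705
theorem F345973 : act 1 n158988 = n154102 := d15_1 D158988 (iv7 F345971) F345967
theorem E99933 : n158988 = n123654 := ((c15_4 F345973 (iv0 F330644) F329469 (iv2 F198062))).symm
theorem F345974 : act 0 n123654 = n75906 := (sb E99933 (iv1 D158988))
theorem F345975 : act 1 n123654 = n154102 := (sb E99933 F345973)
theorem F345976 : act 4 n107691 = n123724 := d17_4 F345974 F113812 F321287 D107691 (iv5 F336362) (iv0 F335392) (iv5 F336365) (iv0 D123655) (iv4 F198063)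
theorem E99934 : n158979 = n138628 := (c20_5 (iv4 F198063) F345974 (iv4 F330641) (iv3 F330642) D158979 (iv3 D138628) F100884 (iv1 F98373) (iv4 F80879) (iv3 F172402) F336369)
theorem F345977 : act 0 n138628 = n117659 := (sb E99934 (iv1 F250313))
theorem F345978 : act 1 n138628 = n75901 := (sb E99934 (iv0 D158979))
theorem F345979 : act 2 n179063 = n107658 := d15_3 F342709 (iv0 F345974) F339310
theorem F345980 : act 4 n123658 = n179063 := d1_0 F345979 F329468 (iv2 F198067)
theorem F345981 : act 6 n179063 = n128146 := d10_2 (iv6 F198068) F345980 F206276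
theorem F345982 : act 0 n120605 = n122992 := d20_4 F345980 (iv1 F345972) (iv4 F342699) (iv3 F342700) F197047 (iv4 F90347) (iv1 F329640) F98244 F335399 (iv1 F198071)
theorem F345983 : act 5 n138294 = n164565 := d17_3 F345982 F329492 D138294 (iv4 D164565) F199914 (iv0 F199911) F131189 (iv0 F131071) D120605
theorem F345984 : act 1 n152593 = n122992 := d15_0 (iv0 F345982) F192180 (iv2 F239780)
theorem F345985 : act 4 n119695 = n175366 := d20_2 (iv4 D152593) F188834 (iv3 D175366) (iv1 F332236) F172513 F80939 F329641 F90347 (iv3 F197047) (iv1 F345984)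
theorem F345986 : act 6 n152593 = n182995 := d21_5 F191739 (iv1 D57214) D57216 D122992 (iv1 F345984) (iv5 D182995) (iv1 D87360) D87361 F306471 (iv1 F191737)
theorem F345987 : act 2 n182995 = n148546 := d3_1 F345986 F233321 (iv2 F239780)
theorem E99935 : n150144 = n148546 := ((c2_2 D182995 F345987 (iv5 D150144) (iv2 F335685))).symm
theorem F345988 : act 1 n148546 = n183990 := (sb E99935 (iv0 F338299))
theorem F345989 : act 5 n148546 = n70664 := (sb E99935 (iv5 D150144))
theorem F345990 : act 7 n150139 = n182995 := d15_2 F345988 (iv0 F285873) F345987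
theorem F345991 : act 2 n150139 = n117665 := d4_3 (iv7 F233322) (iv2 F345987) (iv7 F345990)
theorem E99936 : n117665 = n89707 := (c2_2 D150139 F345991 (iv5 D89707) F335676)
theorem F345992 : act 2 n89707 = n150139 := (sb E99936 (iv2 F345991))
theorem F345993 : act 4 n89707 = n54203 := (sb E99936 F184263)
theorem F345994 : act 6 n89707 = n54201 := (sb E99936 (iv6 D117665))
theorem F345995 : act 7 n89707 = n148546 := (sb E99936 (iv7 F233322))
theorem F345996 : act 6 n117522 = n150139 := d3_0 (iv2 F345992) F345994 (iv2 F184114)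
theorem F345997 : act 3 n148546 = n89694 := d8_1 F345995 F137633 (iv3 F137674)
theorem E99937 : n117663 = n89712 := (c7_2 F345994 D117663 (iv6 D89712) (iv3 F137674))
theorem F345998 : act 3 n89712 = n54201 := (sb E99937 (iv3 D117663))
theorem F345999 : act 6 n117664 = n149108 := d12_2 F345994 D117664 (iv5 F335595) (iv6 D89708) D89707
theorem F346000 : act 4 n129798 = n89712 := d5_0 F345998 (iv4 D54201) D54200 (iv4 F318354) (iv3 F208147)
theorem F346001 : act 4 n117269 = n186545 := d18_7 (iv1 F337259) F127381 (iv1 F337269) F135750 D89707 F345993 (iv0 F230372) F289472 (iv5 D89400)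
theorem F346002 : act 5 n102025 = n147208 := d19_17 F183957 (iv5 F130902) (iv4 F345993) F137674 D89709 F291576 F291027 F36117 F291025 (iv5 D5003) (iv4 F7341) F7340 D4918 D10761 D22765 D47389 D102025 (iv4 D147208) (iv3 F242999)
theorem F346003 : act 2 n186545 = n148052 := d1_1 F346001 F231855 (iv2 F183595)
theorem F346004 : act 6 n186545 = n117548 := d10_2 F183503 F346001 (iv4 D117548)
theorem F346005 : act 7 n186545 = n89407 := d11_2 F233318 F346001 F344224
theorem F346006 : act 5 n186545 = n91122 := d17_5 (iv1 F183509) (iv5 F183458) (iv1 F183461) D117269 F346001 F344348 F337255 (iv0 D146686) (iv4 D68756)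
theorem E99938 : n185366 = n182239 := (c17_2 (iv1 F135281) D185366 (iv1 D182239) (iv5 D87010) (iv4 F63926) D88850 D186545 F346006 F344348 F287566)
theorem F346007 : act 2 n182239 = n185431 := (sb E99938 (iv2 F289912))
theorem F346008 : act 5 n182239 = n88310 := (sb E99938 (iv5 D185366))
theorem F346009 : act 7 n182239 = n185435 := (sb E99938 (iv7 F289903))
theorem F346010 : act 6 n186548 = n89157 := d21_5 (iv5 F346006) (iv1 D186545) (iv5 D88850) D88851 D186548 F344342 (iv1 F218994) (iv5 F338476) (iv6 F287567) (iv1 F344348)
theorem F346011 : act 0 n117548 = n170358 := d21_4 (iv5 F337255) (iv1 F344348) (iv5 F346006) F346004 (iv6 D170358) F306799 (iv1 F286783) (iv5 F305555) (iv6 F312493) D146686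
theorem F346012 : act 2 n89172 = n186548 := d3_3 F346010 F344260 D89172
theorem F346013 : act 4 n136082 = n186548 := d10_3 F346010 (iv4 F294777) F344258
theorem F346014 : act 7 n137596 = n186548 := d14_0 F346010 F344261 D89167 (iv7 F344247) F344246
theorem F346015 : act 4 n102346 = n137643 := d18_1 D102346 F220804 (iv4 F335560) (iv5 F335559) (iv4 D136411) (iv0 F219009) F346013 (iv0 D186548) (iv5 F136231)
theorem E99939 : n182261 = n136411 := ((c20_3 (iv4 F346013) F219009 D136411 (iv3 F340565) (iv1 F340560) (iv3 D89536) F290834 (iv1 F290816) (iv4 F63931) (iv3 F136229) D186548)).symm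
theorem F346016 : act 2 n136411 = n87020 := (sb E99939 (iv2 D182261))
theorem F346017 : act 3 n136411 = n112030 := (sb E99939 (iv3 F340565))
theorem F346018 : act 3 n184234 = n149107 := d6_3 (iv5 F335559) F346017 F340562
theorem F346019 : act 2 n182262 = n149107 := d2_3 (iv5 F335559) F346016 D182262
theorem F346020 : act 1 n182631 = n89708 := d15_1 F335558 (iv7 F137677) (iv2 F346016)
theorem F346021 : act 4 n115247 = n149108 := d16_6 (iv4 D136411) (iv5 D64128) F48613 (iv5 F40754) (iv4 F83976) D115247 (iv5 F335595) (iv7 F137677) (iv2 F346016)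
theorem F346022 : act 2 n149108 = n115525 := d1_1 F346021 (iv4 D115525) (iv2 F179484)
theorem E99940 : n149109 = n137638 := (c18_4 F220799 F346021 (iv1 D149108) D149109 (iv5 D137638) (iv4 D64702) F53438 (iv4 F111098) F111101 D137641)
theorem E99941 : n183963 = n115606 := (((F220791).symm.trans (sb E99940 (iv2 F285817)))).symm
theorem F346023 : act 4 n137638 = n69974 := (sb E99940 (iv4 D149109))
theorem F346024 : act 6 n137638 = n69988 := (sb E99940 F234486)
theorem E99942 : n185323 = n115607 := (((F220792).symm.trans (sb E99940 F290126))).symm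
theorem F346025 : act 4 n115606 = n87755 := (sb E99941 (iv4 D183963))
theorem F346026 : act 6 n115606 = n149053 := (sb E99941 F285818)
theorem E99943 : n102349 = n53324 := ((((iv1 D115607)).symm.trans (sb E99942 F343892))).symm
theorem F346027 : act 4 n115607 = n88296 := (sb E99942 (iv4 D185323))
theorem E99944 : n115608 = n47492 := ((D115608).symm.trans (sb E99943 (iv4 D102349)))
theorem F346028 : act 4 n47492 = n53324 := (sb E99944 (iv4 D115608))
theorem F346029 : act 4 n102081 = n137636 := d18_7 F166206 (iv4 D31122) (iv1 F161275) (iv4 F83976) D115247 F346021 (iv0 F289780) F220790 F179935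
theorem E99945 : n102346 = n99416 := ((c18_5 (iv1 D47410) (iv4 D22774) F290138 (iv4 F73433) D99416 F346015 F220805 F346021 (iv0 F289780) (iv5 D102081))).symm
theorem F346030 : act 1 n99416 = n47492 := (sb E99945 (iv0 D102346))
theorem F346031 : act 4 n99416 = n137643 := (sb E99945 F346015)
theorem F346032 : act 7 n149107 = n115525 := d16_8 (iv4 F346021) (iv5 D115247) F83976 F40754 (iv4 F48613) D64128 D136411 F335559 (iv2 F346022)
theorem F346033 : act 7 n149108 = n182262 := d4_2 F346032 (iv2 F346022) F346019
theorem E99946 : n183962 = n115525 := (c15_2 F343889 D183962 (iv7 F346032) (iv2 F346019))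
theorem F346034 : act 0 n115525 = n87755 := (sb E99946 (iv1 D183962))
theorem F346035 : act 1 n115525 = n88296 := (sb E99946 (iv0 F289791))
theorem F346036 : act 5 n115525 = n150140 := (sb E99946 (iv5 F285816))
theorem F346037 : act 2 n150140 = n89708 := d2_1 F346036 F335595 F346022
theorem F346038 : act 7 n150140 = n136411 := d13_2 F346032 F346036 F335559
theorem F346039 : act 4 n150140 = n102200 := d16_4 (iv4 F40818) D53288 D115525 F346036 (iv5 D102200) (iv4 F328961) (iv5 F83981) (iv7 D53174) F40753
theorem F346040 : act 1 n150140 = n137624 := d17_8 F335573 (iv5 F335579) F326315 (iv5 D87750) (iv4 F61997) D87755 (iv0 F346034) F346036 (iv4 D137624)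
theorem F346041 : act 5 n102083 = n137624 := d17_1 D102083 (iv1 F346040) (iv5 F346036) (iv4 D115525) (iv5 D53288) D53287 D115522 (iv0 F328981) (iv4 D102085)
theorem F346042 : act 6 n103924 = n137624 := d21_9 (iv5 F346036) F346034 (iv5 D87755) (iv6 D40893) (iv1 D19274) D19276 D40897 D87770 (iv5 F343867) (iv1 F346040)
theorem F346043 : act 3 n137624 = n171182 := d7_1 F346042 (iv6 F343865) (iv3 F343862)
theorem F346044 : act 7 n137624 = n182631 := d14_2 (iv7 F343868) F346042 (iv6 D182631) F295249 D98416
theorem F346045 : act 2 n185349 = n137624 := d4_3 F346044 (iv2 F329308) F329311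
theorem F346046 : act 1 n137632 = n150140 := d15_0 F346040 F346044 (iv2 F329308)
theorem F346047 : act 4 n115531 = n102083 := d16_6 (iv4 D137632) (iv5 D64698) (iv4 D30437) (iv5 F83877) D53296 D115531 F346041 F346044 (iv2 F329308)
theorem F346048 : act 1 n185349 = n136411 := d15_0 F335558 (iv7 F346044) (iv2 F346045)
theorem F346049 : act 1 n89708 = n185349 := d15_0 F346048 (iv7 F346038) F346037
theorem F346050 : act 4 n136088 = n185349 := d18_5 (iv1 D63992) F48542 D30176 D63997 D136088 F346048 (iv4 D136411) (iv0 F219009) (iv5 D136082)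
theorem F346051 : act 4 n115264 = n102348 := d18_3 (iv1 F289781) F346029 F220789 F289470 F289469 F335575 F346050 F346048 F335559
theorem F346052 : act 0 n185350 = n149132 := d21_4 (iv5 F335559) (iv1 F346048) (iv5 D185349) D185350 (iv6 D149132) (iv5 D69984) (iv1 D32487) D32488 (iv6 F106389) D149107
theorem F346053 : act 4 n115609 = n97983 := d9_9 D115264 F346051 F289470 F289469 F335576 F219520 (iv5 F179928) F179927 (iv5 F179935) (iv5 F291495) F291494 F335570 F201734 F92802 (iv4 F83997)
theorem E99947 : n101032 = n97983 := ((c18_8 (iv1 F290143) F72133 F74720 F74719 D102081 F346029 F220790 F346053 (iv0 D101032) (iv5 D47070))).symm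
theorem F346054 : act 1 n97983 = n47070 := (sb E99947 (iv0 D101032))
theorem F346055 : act 3 n89713 = n149108 := d20_9 (iv4 F346023) F220793 F346053 (iv3 D97983) (iv1 F72157) F35347 (iv4 F62386) (iv1 F134628) (iv4 F137688) (iv1 D149108)
theorem E99948 : n115523 = n101034 := (c18_1 D115523 (iv4 D101034) (iv1 F346054) (iv4 F346053) F179935 (iv4 F179927) F179931 (iv4 F171720) (iv0 D53286) D53288)
theorem F346056 : act 1 n101034 = n53288 := (sb E99948 (iv0 D115523))
theorem F346057 : act 2 n101034 = n137643 := (sb E99948 (iv2 F220802))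
theorem F346058 : act 5 n101034 = n74234 := (sb E99948 (iv5 F201738))
theorem F346059 : act 7 n101034 = n137641 := (sb E99948 (iv7 F220798))
theorem F346060 : act 4 n137641 = n101035 := d11_1 F346059 (iv7 D101035) D101034
theorem F346061 : act 6 n136982 = n137641 := d10_0 F346060 F329015 D136982
theorem E99949 : n102347 = n101035 := ((c18_2 (iv1 F220800) F346060 (iv1 D102347) F346028 (iv5 D53324) (iv4 F84167) D115600 (iv4 F179924) F179483 (iv5 F179810))).symm
theorem F346062 : act 0 n101035 = n47492 := (sb E99949 (iv1 D102347))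
theorem E99950 : n186547 = n54190 := (c21_7 (iv5 D30320) D30318 D64381 (iv6 F329015) F346062 D102350 (iv5 F289475) (iv1 D54190) D54191 F329193 (iv1 D64388))
theorem E99951 : n117639 = n88853 := ((D117639).symm.trans (sb E99950 F289474))
theorem E99952 : n117641 = n102350 := ((D117641).symm.trans (sb E99950 F289475))
theorem E99953 : n117642 = n88850 := ((D117642).symm.trans (sb E99950 (iv6 D186547)))
theorem F346063 : act 3 n88853 = n54190 := (sb E99951 (iv3 D117639))
theorem F346064 : act 0 n102350 = n155375 := (sb E99952 (iv1 F244348))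
theorem F346065 : act 5 n102350 = n54190 := (sb E99952 (iv5 D117641))
theorem F346066 : act 6 n88850 = n54190 := (sb E99953 (iv6 D117642))
theorem F346067 : act 6 n117516 = n186542 := d3_2 F346066 (iv2 F233833) F289462
theorem F346068 : act 6 n117640 = n186546 := d10_2 F346066 D117640 (iv4 D186546)
theorem F346069 : act 5 n117643 = n94245 := d21_2 D54191 D117643 F252692 (iv1 F252690) (iv6 F310781) F310780 (iv1 F337260) D88850 F346066 (iv1 D54190)
theorem F346070 : act 3 n94246 = n117643 := d6_3 F346069 (iv3 D94245) D94246
theorem F346071 : act 6 n149055 = n117643 := d12_0 F346069 F252692 F252689 F303907 D149055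
theorem F346072 : act 2 n117643 = n149172 := d3_1 F346071 (iv6 D149172) (iv2 F234394)
theorem F346073 : act 5 n149172 = n128275 := d2_2 (iv5 F346069) F346072 F318173
theorem F346074 : act 7 n117644 = n149172 := d15_2 (iv0 D117643) D117644 (iv2 F346072)
theorem F346075 : act 3 n175507 = n149172 := d6_3 F346073 F318174 (iv5 F274765)
theorem F346076 : act 0 n117517 = n149172 := d21_1 D117517 F346073 F318175 (iv1 D76675) (iv6 F312493) (iv5 F314946) (iv1 F337225) D186542 (iv6 F346067) (iv1 D117516)
theorem E99954 : n102312 = n101911 := (c0_5 F346075 (iv2 F346072) (iv3 F346070) F292337 D102312 F274831)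
theorem F346077 : act 3 n101911 = n47478 := (sb E99954 (iv3 D102312))
theorem F346078 : act 7 n117643 = n102328 := d8_2 (iv7 F292339) F346070 (iv3 D102328)
theorem F346079 : act 2 n102328 = n117644 := d4_1 F346078 F346074 (iv2 F346072)
theorem F346080 : act 1 n117517 = n102328 := d15_1 (iv0 F346076) (iv7 F346078) F346072
theorem F346081 : act 1 n102328 = n117646 := d15_1 F346080 (iv7 D117646) (iv2 F184097)
theorem F346082 : act 5 n102328 = n155373 := d17_7 (iv1 F110801) (iv5 D54908) (iv1 D26558) (iv5 F41602) (iv4 F85471) D117517 F346080 (iv0 D155373) (iv4 D73846)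
theorem F346083 : act 6 n144801 = n155373 := d21_5 D117502 F184069 (iv5 D67860) D67861 D144801 (iv5 F346082) (iv1 F346080) (iv5 D117517) (iv6 D54148) D54144
theorem F346084 : act 3 n155373 = n94247 := d6_1 F346082 F290936 D102328
theorem F346085 : act 7 n155373 = n94245 := d13_2 F346078 F346082 (iv5 F346069)
theorem F346086 : act 7 n160102 = n144801 := d14_4 F346085 F252692 (iv7 D160103) D160102 F346083
theorem E99955 : n160087 = n102366 := ((c20_10 F114995 F317624 (iv4 F244347) (iv3 D155374) D155373 F346084 F145322 (iv1 F69375) F290743 (iv3 F157160) (iv1 D160087))).symm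
theorem F346087 : act 0 n102366 = n76665 := (sb E99955 (iv1 D160087))
theorem F346088 : act 4 n141466 = n102366 := d20_0 F346087 F114995 (iv3 F114931) F314017 F101347 F49202 F25900 (iv4 F53297) (iv3 F110753) F336877
theorem E99956 : n155408 = n141466 := (c20_6 (iv4 F222942) (iv1 F319417) F244524 (iv3 F189382) (iv1 F189386) D155408 F346088 F346087 F114995 (iv3 F114931) F314017)
theorem F346089 : act 3 n141466 = n73864 := (sb E99956 (iv3 D155408))
theorem F346090 : act 7 n102366 = n141462 := d15_2 F340976 (iv0 F346087) F224503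
theorem F346091 : act 3 n141462 = n90147 := d8_1 F346090 F290882 (iv3 F157160)
theorem F346092 : act 5 n141462 = n102291 := d13_1 F346090 F157105 D102366
theorem F346093 : act 5 n100894 = n185284 := d16_3 F223212 (iv5 F340979) F340978 (iv4 D185284) (iv5 D88280) (iv4 F74673) D102366 F346090 F224503
theorem F346094 : act 4 n185283 = n179710 := d18_7 (iv1 D56986) (iv4 F89983) D122600 F340978 F346093 (iv4 D185284) D185283 F332471 (iv5 D122686)
theorem F346095 : act 6 n90147 = n141460 := d7_2 D141462 F346091 (iv3 D141460)
theorem F346096 : act 2 n141460 = n102776 := d3_1 F346095 (iv6 D102776) (iv2 F290880)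
theorem F346097 : act 3 n92507 = n117253 := d20_3 (iv4 D43285) D43283 D92507 F184663 (iv3 F244526) F244527 F336877 F346088 F157160 (iv1 F290702)
theorem E99957 : n123823 = n90141 := (c0_5 F346097 F183482 F341473 (iv2 F341486) D123823 (iv2 F142425))
theorem F346098 : act 3 n90141 = n57708 := (sb E99957 (iv3 D123823))
theorem E99958 : n123903 = n92510 := ((((iv7 F142434)).symm.trans (sb E99957 (iv7 F341488)))).symm
theorem F346099 : act 3 n92510 = n57728 := (sb E99958 (iv3 D123903))
theorem F346100 : act 6 n117252 = n92507 := d7_0 F346097 (iv6 D117253) D117252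
theorem E99959 : n159711 = n123904 := ((c5_3 D92510 F346099 D123904 (iv3 D159711) (iv4 F142432) (iv3 D92509))).symm
theorem F346101 : act 3 n123904 = n76409 := (sb E99959 (iv3 D159711))
theorem E99960 : n154340 = n102775 := (c20_9 F138601 (iv1 F67882) D92510 F346099 (iv1 D57728) F44470 (iv4 F52950) D73120 D154340 (iv3 D102775) F290675)
theorem E99961 : n185827 = n73120 := ((F342782).symm.trans (sb E99960 (iv4 D154340)))
theorem E99962 : n154339 = n88506 := ((D154339).symm.trans (sb E99961 (iv3 D185827)))
theorem F346102 : act 4 n73120 = n102775 := (sb E99961 (iv4 F342782))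
theorem E99963 : n185860 = n154341 := (((D154341).symm.trans (sb E99961 (iv5 F288286)))).symm
theorem E99964 : n154342 = n147269 := ((D154342).symm.trans (sb E99961 (iv6 F330313)))
theorem E99965 : n154343 = n128222 := ((D154343).symm.trans (sb E99961 (iv7 F336896)))
theorem F346103 : act 3 n88506 = n73120 := (sb E99962 (iv3 D154339))
theorem F346104 : act 3 n154341 = n88522 := (sb E99963 (iv3 D185860))
theorem F346105 : act 7 n154341 = n132077 := (sb E99963 (iv7 F327759))
theorem F346106 : act 6 n147269 = n73120 := (sb E99964 (iv6 D154342))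
theorem F346107 : act 2 n128222 = n73121 := (sb E99965 F242431)
theorem F346108 : act 7 n128222 = n73120 := (sb E99965 (iv7 D154343))
theorem F346109 : act 0 n141462 = n160089 := d20_4 (iv4 D44056) D44054 (iv4 F138599) (iv3 F346091) F341422 (iv4 F341423) (iv1 F341511) (iv4 D123904) (iv3 F346099) F142435
theorem E99966 : n154338 = n128221 := (c15_4 (iv0 D128221) D128222 F346108 D154338)
theorem F346110 : act 2 n128221 = n73120 := (sb E99966 (iv2 D154338))
theorem F346111 : act 7 n128221 = n73121 := (sb E99966 (iv7 F242430))
theorem F346112 : act 3 n134577 = n128221 := d8_3 F346111 F342208 D134577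
theorem F346113 : act 5 n134533 = n128221 := d13_3 F346111 (iv5 F342209) D134533
theorem F346114 : act 2 n154341 = n134533 := d2_3 F346113 F346110 D154341
theorem F346115 : act 1 n154341 = n134530 := d15_0 (iv0 D134530) D134533 (iv2 F346114)
theorem F346116 : act 2 n176333 = n134577 := d0_5 F346112 F346110 (iv3 F346103) (iv2 F328232) (iv3 F275639)
theorem F346117 : act 1 n134577 = n120672 := d15_0 F323532 D176333 F346116
theorem F346118 : act 1 n176331 = n134577 := d15_0 F346117 F314430 (iv2 F340123)
theorem F346119 : act 4 n134577 = n139976 := d20_2 (iv4 F192373) (iv1 F346117) F223204 F336881 F110753 F53297 (iv1 F50362) F312988 (iv3 F237526) (iv1 D120674)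
theorem F346120 : act 6 n134577 = n116593 := d21_5 F108410 (iv1 F151700) F151698 D120672 (iv1 F346117) (iv5 F232046) (iv1 F232048) (iv5 D69494) (iv6 F321868) (iv1 F106740)
theorem F346121 : act 5 n120971 = n130739 := d21_2 D134620 F333836 (iv6 D130739) (iv1 D61338) D61340 (iv5 F314429) (iv1 F346117) F216548 (iv6 F333828) (iv1 F333831)
theorem F346122 : act 2 n159278 = n120971 := d2_3 F346121 F214186 F330176
theorem F346123 : act 6 n152173 = n120971 := d12_0 F346121 (iv6 D130739) F211940 D71764 D152173
theorem E99967 : n130834 = n130739 := ((c21_7 (iv5 F250805) (iv1 F55910) (iv5 F55013) (iv6 F114166) (iv1 F345822) F346123 F346121 (iv1 D130834) (iv5 F323398) (iv6 D43109) D43106)).symm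
theorem F346124 : act 0 n130739 = n61374 := (sb E99967 (iv1 D130834))
theorem F346125 : act 1 n130739 = n129377 := (sb E99967 F209395)
theorem F346126 : act 6 n152667 = n129377 := d21_9 (iv5 F346121) (iv1 D120971) (iv5 F322422) (iv6 D59619) (iv1 F93812) F327365 (iv5 F308619) (iv1 F239428) (iv5 F239880) (iv1 F346125)
theorem F346127 : act 0 n155471 = n107745 := d21_7 (iv5 F340139) F298620 (iv5 F323631) (iv6 F346126) (iv1 F239881) D152684 (iv5 F244468) F166378 (iv6 F323862) (iv1 F340132)
theorem F346128 : act 0 n129256 = n152684 := d21_10 (iv5 F244468) F346127 F166378 (iv6 F323862) (iv1 F340132) (iv6 D63237) (iv5 F98479) F319728 (iv5 F314811) D129256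
theorem E99968 : n147162 = n135335 := ((c21_3 F166378 (iv1 F338467) (iv5 F217563) (iv6 D147162) F182010 (iv6 F339235) F339219 F233274 (iv5 F189145) D155471 F346127)).symm
theorem F346129 : act 3 n135335 = n68996 := (sb E99968 F230750)
theorem F346130 : act 6 n135335 = n68994 := (sb E99968 (iv6 D147162))
theorem F346131 : act 1 n155471 = n107615 := d15_1 (iv0 F346127) (iv7 F338698) (iv2 F338699)
theorem F346132 : act 4 n164337 = n155471 := d18_5 (iv1 F337865) F313534 D106078 F321132 D164337 F346131 (iv4 F179446) (iv0 F338533) (iv5 D121340)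
theorem F346133 : act 6 n155470 = n164337 := d10_0 F346132 (iv6 D155471) D155470
theorem F346134 : act 0 n155470 = n164220 := d21_4 D35929 D78928 D164337 (iv6 F346133) (iv6 D164220) D164219 (iv1 F319881) F319882 (iv6 D78927) (iv1 D35928)
theorem F346135 : act 4 n164220 = n173443 := d18_3 (iv1 F189144) D155470 F346134 (iv5 D173443) F307808 (iv0 F162995) (iv4 D73934) F87245 D119841
theorem E99969 : n164309 = n147160 := ((c3_2 F346130 D147160 (iv6 D164309) (iv2 F337850))).symm
theorem F346136 : act 4 n147160 = n78922 := (sb E99969 F258935)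
theorem F346137 : act 6 n147160 = n78920 := (sb E99969 (iv6 D164309))
theorem E99970 : n152522 = n117355 := ((c10_2 F346130 (iv4 F183788) F239695 (iv4 F337851))).symm
theorem F346138 : act 2 n117355 = n78922 := (sb E99970 F325815)
theorem E99971 : n147966 = n71936 := (((iv5 F231779)).symm.trans (sb E99970 (iv5 D152522)))
theorem F346139 : act 6 n117355 = n78910 := (sb E99970 F239695)
theorem E99972 : n152520 = n69318 := ((D152520).symm.trans (sb E99971 (iv3 D147966)))
theorem F346140 : act 5 n71936 = n117355 := (sb E99971 F231779)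
theorem E99973 : n152514 = n146542 := ((F239693).symm.trans (sb E99971 F231780))
theorem F346141 : act 3 n69318 = n71936 := (sb E99972 (iv3 D152520))
theorem F346142 : act 2 n146542 = n71935 := (sb E99973 (iv2 D152514))
theorem F346143 : act 7 n146542 = n71936 := (sb E99973 (iv7 F239693))
theorem F346144 : act 2 n152515 = n147969 := d0_3 (iv3 F229855) F346142 D152515 (iv3 D147969) (iv2 F105600)
theorem E99974 : n152517 = n146540 := (c2_3 D146542 F346142 D152517 (iv2 D146540))
theorem F346145 : act 5 n146540 = n71935 := (sb E99974 (iv5 D152517))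
theorem F346146 : act 5 n152515 = n159882 := d6_2 F346145 D152515 F252110
theorem F346147 : act 3 n152523 = n147968 := d7_3 (iv6 D147968) F346141 D152523
theorem E99975 : n152519 = n152280 := ((c2_3 F346140 F346138 F239354 F239694)).symm
theorem F346148 : act 2 n152280 = n71936 := (sb E99975 F239694)
theorem F346149 : act 7 n152280 = n71935 := (sb E99975 (iv7 D152519))
theorem F346150 : act 0 n133456 = n117355 := d21_10 (iv5 F346140) (iv1 D71936) (iv5 D33236) (iv6 D16045) D16042 (iv6 F324294) (iv5 D29624) D29621 D62637 D133456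
theorem F346151 : act 5 n147830 = n133481 := d21_8 (iv5 D29624) D29621 D62637 D133456 F346150 F346139 (iv5 F325814) F231596 (iv6 D133481) (iv1 D62648)
theorem F346152 : act 1 n133456 = n164318 := d15_1 (iv0 F346150) (iv7 D164318) (iv2 F346138)
theorem F346153 : act 6 n135251 = n147830 := d12_0 F346151 (iv6 D133481) F97733 D63569 D135251
theorem F346154 : act 0 n133481 = n164337 := d17_2 F231596 F346151 (iv5 D164337) (iv4 F321132) (iv5 F185696) (iv0 F185697) (iv5 F87900) D59978 D127738
theorem F346155 : act 1 n106400 = n132931 := d17_6 D78910 (iv5 F325814) F231596 F346151 F214667 F176266 F338589 (iv0 D164262) F120104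
theorem F346156 : act 1 n133481 = n164342 := d17_6 D73322 D154639 (iv1 F242765) (iv5 D147831) D147830 F346151 (iv5 D164342) F319014 (iv4 D73324)
theorem F346157 : act 5 n150111 = n136954 := d16_7 F218746 (iv5 F176266) (iv4 F214667) (iv5 F346151) (iv4 D147830) D147831 (iv4 F236257) (iv7 D136954) (iv2 F218745)
theorem F346158 : act 2 n136954 = n135305 := d2_1 F346157 F332699 (iv2 F236256)
theorem F346159 : act 3 n136954 = n170763 := d6_1 F346157 (iv5 F286423) F286422
theorem F346160 : act 1 n136954 = n128432 := d17_6 F232347 (iv5 F230808) (iv1 F232282) D147831 (iv4 F236257) F346157 (iv5 D128432) F131170 (iv4 D72789)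
theorem F346161 : act 7 n170763 = n136950 := d8_2 D136954 F346159 F220120
theorem F346162 : act 2 n136950 = n170762 := d15_3 (iv0 D170762) D170763 F346161
theorem F346163 : act 4 n170762 = n129672 := d16_0 F207846 F97581 (iv5 D62580) (iv4 F97576) D133335 F332328 F286423 F346161 F346162
theorem F346164 : act 4 n129457 = n136950 := d1_2 F346163 (iv2 F207847) F346162
theorem F346165 : act 6 n136949 = n129457 := d10_0 F346164 (iv6 D136950) D136949
theorem F346166 : act 4 n170763 = n129673 := d11_3 F207848 F346164 (iv7 F346161)
theorem F346167 : act 0 n136950 = n123472 := d18_2 (iv1 F207625) F346164 F328118 (iv5 F344987) F203406 (iv0 F163864) (iv4 F203365) (iv0 D126489) D126491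
theorem F346168 : act 3 n129657 = n129673 := d20_5 (iv4 D60918) (iv1 D28889) (iv4 F46530) (iv3 F95447) D129657 (iv4 F346166) (iv1 D170763) (iv4 F344986) F344989 (iv1 F203407)
theorem F346169 : act 6 n170762 = n136948 := d3_2 D136950 F346162 (iv2 D136948)
theorem F346170 : act 3 n114031 = n133481 := d19_19 F346154 (iv5 D164337) (iv4 F321132) F244517 F244514 (iv5 D106052) (iv4 F307808) F127913 D83647 D175130 (iv4 F334556) F198277 D154809 (iv5 F333325) (iv4 D159764) F114590 F293791 (iv5 F293276) F177771
theorem F346171 : act 3 n147830 = n114152 := d6_3 F177769 F346170 (iv5 F346151)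
theorem F346172 : act 2 n164373 = n147834 := d0_3 F346171 (iv2 F177883) D164373 (iv3 D147834) (iv2 F231594)
theorem E99976 : n164376 = n144999 := (c8_4 (iv7 F231595) F346171 (iv7 F177884) D164376)
theorem F346173 : act 3 n144999 = n78946 := (sb E99976 (iv3 D164376))
theorem E99977 : n164377 = n95932 := (c5_3 F232255 F346173 D164377 F147583 F315578 (iv3 F232254))
theorem F346174 : act 0 n95932 = n121334 := (sb E99977 F259026)
theorem F346175 : act 1 n95932 = n121342 := (sb E99977 F259027)
theorem F346176 : act 4 n95932 = n78946 := (sb E99977 (iv4 D164377))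
theorem F346177 : act 3 n127742 = n114859 := d20_9 (iv4 F178187) (iv1 D114311) F290524 F120138 (iv1 F120133) (iv3 F346173) (iv4 F232255) F232252 F205353 F178927
theorem E99978 : n114180 = n95930 := (c10_3 D95932 F346176 (iv6 F178024) (iv4 D95930))
theorem F346178 : act 0 n95930 = n52705 := (sb E99978 (iv1 D114180))
theorem F346179 : act 1 n95930 = n76321 := (sb E99978 F177938)
theorem F346180 : act 2 n95930 = n76320 := (sb E99978 F177940)
theorem F346181 : act 5 n95930 = n106118 := (sb E99978 (iv5 F177939))
theorem F346182 : act 6 n95930 = n78946 := (sb E99978 F178024)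
theorem F346183 : act 7 n95930 = n76319 := (sb E99978 (iv7 F177948))
theorem F346184 : act 0 n164380 = n127725 := d20_10 (iv4 D127725) (iv1 D59963) (iv4 F94399) F94398 F317844 (iv3 F147583) F346176 (iv1 D78946) D78947 D164380
theorem F346185 : act 0 n127670 = n164412 := d20_4 F317842 (iv1 F94375) D59940 D127670 (iv3 D164412) (iv4 D78960) (iv1 F120133) (iv4 F346176) F147583 D95938
theorem F346186 : act 4 n170600 = n164380 := d18_1 F340786 F346184 (iv4 D127725) (iv5 F320015) (iv4 F307905) (iv0 F340789) F123001 (iv0 F303001) D158459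
theorem F346187 : act 1 n164380 = n127720 := d18_6 (iv1 F318851) (iv4 F96247) F316719 F303286 D170600 F346186 (iv4 D127720) (iv0 D59962) D59964
theorem F346188 : act 0 n170051 = n127719 := d20_4 D86386 (iv1 F264515) F301931 D170051 (iv3 D127719) D127720 (iv1 F346187) (iv4 F346186) F268035 F299189
theorem F346189 : act 4 n148291 = n170051 := d17_9 F346188 F340797 F340792 (iv5 F337163) (iv4 F337161) F227086 (iv0 F167738) F337679 D148291
theorem F346190 : act 7 n144350 = n148291 := d11_0 F346189 F267500 (iv4 F332092)
theorem F346191 : act 2 n144347 = n148291 := d16_9 F346189 F267499 (iv4 F314284) F330692 (iv4 F327019) F173098 (iv4 F203913) (iv5 F337674) (iv7 F337676)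
theorem E99979 : n148338 = n148307 := (c20_4 D81560 (iv1 F317894) (iv4 D148339) D148338 (iv1 D148307) (iv3 D69510) D69511 (iv1 F232111) F346189 (iv3 D170051) (iv1 D81559))
theorem F346192 : act 3 n148307 = n69518 := (sb E99979 (iv3 D148338))
theorem F346193 : act 5 n131106 = n148307 := d6_0 F346192 (iv5 F317899) (iv3 F214985)
theorem F346194 : act 7 n149728 = n148307 := d8_0 F346192 (iv7 F317901) (iv3 F309884)
theorem F346195 : act 0 n148309 = n92518 := d20_1 D148309 F321793 (iv3 F223911) F332439 F125421 D81560 (iv1 F317894) (iv4 D148339) (iv3 F346192) (iv1 D148307)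
theorem F346196 : act 6 n148307 = n119720 := d14_1 F346194 (iv7 F190831) F318360 (iv7 F318232) D149728
theorem F346197 : act 2 n148307 = n154036 := d15_3 (iv0 F242062) F240642 F346194
theorem F346198 : act 2 n149728 = n148306 := d15_3 (iv0 D148306) D148307 (iv7 F346194)
theorem E99980 : n148306 = n143676 := (c3_2 D149728 F346198 (iv6 D143676) (iv2 F320878))
theorem F346199 : act 1 n143676 = n69510 := (sb E99980 (iv0 D148306))
theorem F346200 : act 2 n143676 = n149728 := (sb E99980 (iv2 F346198))
theorem F346201 : act 5 n143676 = n131107 := (sb E99980 F344002)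
theorem F346202 : act 7 n143676 = n154036 := d4_2 (iv7 F346194) (iv2 F346200) (iv2 F346197)
theorem F346203 : act 3 n119720 = n148341 := d7_1 F346196 (iv6 D148341) (iv3 F346192)
theorem F346204 : act 5 n148341 = n152595 := d6_2 F190815 F346203 F239786
theorem E99981 : n148341 = n142718 := (c8_2 F190831 F346203 (iv7 D142718) (iv3 F318359))
theorem F346205 : act 3 n142718 = n119720 := (sb E99981 (iv3 F346203))
theorem F346206 : act 5 n142718 = n152595 := (sb E99981 F346204)
theorem F346207 : act 6 n142718 = n69518 := (sb E99981 (iv6 D148341))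
theorem F346208 : act 4 n142718 = n166279 := d20_6 (iv4 F315590) F122600 (iv4 F313160) (iv3 F87097) D119720 (iv3 F346205) (iv1 D166279) (iv4 D79847) F57114 F315106
theorem F346209 : act 2 n154034 = n143754 := d0_3 F346205 (iv2 F190828) D154034 (iv3 D143754) (iv2 F320146)
theorem F346210 : act 7 n154885 = n143754 := d15_2 F242060 D154885 (iv2 F346209)
theorem F346211 : act 3 n116402 = n154885 := d8_3 F346210 (iv3 D143754) (iv7 F320144)
theorem F346212 : act 6 n116398 = n154885 := d14_5 F346210 (iv6 F337126) (iv7 F321824) (iv6 D142740) (iv7 F181519)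
theorem F346213 : act 2 n154885 = n143022 := d3_1 F346212 (iv6 D143022) (iv2 F181517)
theorem F346214 : act 5 n154887 = n158460 := d21_6 F103028 (iv1 F102939) D116398 F346212 (iv1 D154885) D154887 F301226 D167345 F334993 (iv1 F225728)
theorem F346215 : act 2 n170561 = n154887 := d2_3 F346214 F304005 D170561
theorem F346216 : act 7 n158459 = n154887 := d13_0 F346214 (iv7 D158460) D158459
theorem E99982 : n158459 = n117805 := ((c8_4 F346216 F243585 F318163 D117805)).symm
theorem F346217 : act 0 n117805 = n170600 := (sb E99982 F340786)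
theorem F346218 : act 5 n117805 = n75595 := (sb E99982 (iv5 D158459))
theorem F346219 : act 7 n117805 = n154887 := (sb E99982 F346216)
theorem F346220 : act 1 n170561 = n170600 := d15_0 (iv0 F346217) F346219 (iv2 F346215)
theorem F346221 : act 6 n142733 = n153555 := d21_5 (iv5 D170561) (iv1 F300254) F334996 (iv6 D142834) (iv1 F225633) (iv5 D153555) (iv1 F243626) F337124 (iv6 F337126) (iv1 F346220)
theorem F346222 : act 6 n103585 = n141565 := d10_2 F346221 (iv4 F241359) (iv4 F225632)
theorem F346223 : act 0 n154887 = n142740 := d21_4 (iv5 D124699) F190369 D73458 D154887 (iv6 D142740) (iv5 D66915) D66912 D142733 F346221 F241356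
theorem F346224 : act 5 n143022 = n152914 := d21_6 F180130 F180129 F169672 (iv6 F321929) F205102 D143022 F243627 D153555 (iv6 F346221) (iv1 F225635)
theorem F346225 : act 3 n119721 = n143022 := d6_3 F346224 (iv3 D152914) F190833
theorem F346226 : act 6 n152914 = n139075 := d12_2 D143022 F346224 (iv5 D139075) F323802 D67029
theorem F346227 : act 7 n154034 = n143022 := d13_0 F346224 F240141 (iv5 F242058)
theorem F346228 : act 0 n124705 = n143022 := d21_1 D124705 F346224 F346226 F222261 (iv6 F312715) (iv5 D119775) F190616 (iv5 F109443) (iv6 F199498) (iv1 F199499)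
theorem E99983 : n143505 = n143022 := ((c21_1 (iv5 F346224) (iv1 D143505) F311084 (iv6 F305125) F305123 (iv6 D73316) D73315 (iv1 F241778) (iv5 F233220) (iv6 F243623) (iv1 F243630))).symm
theorem F346229 : act 0 n143022 = n67215 := (sb E99983 (iv1 D143505))
theorem F346230 : act 0 n145508 = n143046 := d21_4 (iv5 F103145) F182584 D68232 D145508 F316978 D154932 (iv1 F243630) (iv5 F346224) (iv6 D143022) F103021
theorem F346231 : act 0 n143507 = n149175 := d18_2 F346229 D143507 (iv4 D149175) F106414 (iv4 F234300) (iv0 F243629) (iv4 F190222) (iv0 F243627) (iv5 F346224)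
theorem E99984 : n170561 = n143509 := ((c21_6 (iv5 D142733) (iv1 F102842) D67029 D143022 F346229 D143509 (iv5 D170561) (iv1 F300254) F334996 (iv6 D142834) (iv1 F225633))).symm
theorem F346232 : act 1 n143509 = n170600 := (sb E99984 F346220)
theorem F346233 : act 2 n143509 = n154887 := (sb E99984 F346215)
theorem F346234 : act 5 n143509 = n81758 := (sb E99984 (iv5 D170561))
theorem E99985 : n143754 = n143504 := (c15_4 (iv0 D143504) (iv0 F346229) (iv7 F346227) F346209)
theorem F346235 : act 0 n143504 = n124705 := (sb E99985 F337123)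
theorem F346236 : act 2 n143504 = n154034 := (sb E99985 (iv2 F346209))
theorem F346237 : act 3 n143504 = n67335 := (sb E99985 (iv3 D143754))
theorem F346238 : act 5 n143504 = n149009 := (sb E99985 (iv5 F337124))
theorem F346239 : act 6 n143504 = n170600 := (sb E99985 (iv6 F337126))
theorem F346240 : act 7 n143504 = n154885 := (sb E99985 (iv7 F346210))
theorem F346241 : act 0 n143046 = n170573 := d21_4 F346238 F243625 (iv5 D154932) (iv6 F316978) (iv6 D170573) (iv5 D81761) D81758 (iv5 F346234) (iv6 D143509) D143504
theorem F346242 : act 1 n143027 = n170573 := d15_0 (iv0 F346241) (iv7 D143046) (iv2 F225891)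
theorem F346243 : act 1 n145508 = n143027 := d15_0 F346242 (iv7 F334992) (iv2 F228567)
theorem F346244 : act 2 n143387 = n124705 := d15_3 (iv0 F346235) (iv0 D143504) (iv7 F226150)
theorem F346245 : act 5 n119325 = n143387 := d2_0 F346244 (iv5 D124705) F191117
theorem F346246 : act 5 n102238 = n149119 := d16_3 (iv4 F337112) F137322 D102238 (iv4 D149119) (iv5 D69979) (iv4 F191109) (iv5 F311084) (iv7 F226150) F346244
theorem F346247 : act 1 n143387 = n154034 := d15_0 F242060 (iv7 F199512) (iv2 F346244)
theorem F346248 : act 1 n154885 = n143387 := d15_0 F346247 F346227 (iv2 F346213)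
theorem F346249 : act 0 n143388 = n149336 := d20_7 (iv4 F233348) (iv1 F339621) (iv4 D154035) D154034 (iv1 F346247) (iv3 D143387) D143388 (iv4 D149336) (iv3 F318765) F339623
theorem F346250 : act 1 n143388 = n149339 := d15_1 (iv0 F346249) (iv7 F321934) F321932
theorem F346251 : act 1 n143384 = n149336 := d15_0 (iv0 F346249) F226152 (iv2 F226144)
theorem F346252 : act 1 n149339 = n143384 := d15_0 F346251 (iv7 F314566) F314564
theorem F346253 : act 4 n116402 = n166278 := d20_6 D149339 (iv1 F346250) (iv4 D143388) D143387 (iv1 F346248) (iv3 F346211) (iv1 F261816) (iv4 D128123) F188442 (iv1 F122442)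
theorem F346254 : act 4 n154885 = n149178 := d20_0 (iv1 D149178) (iv4 D70011) (iv3 F106406) D149156 (iv3 F234537) D149339 (iv1 F346250) (iv4 D143388) D143387 (iv1 F346248)
theorem F346255 : act 6 n149178 = n127697 := d10_2 F346212 F346254 F205297
theorem E99986 : n116770 = n116402 := ((c20_4 D70027 (iv1 F234549) (iv4 F346254) (iv3 F346211) (iv1 D116770) (iv3 D53802) (iv4 F114314) (iv1 F77163) (iv4 F76991) (iv3 F312694) (iv1 F106418))).symm
theorem F346256 : act 0 n116402 = n53802 := (sb E99986 (iv1 D116770))
theorem F346257 : act 1 n116402 = n67336 := (sb E99986 F182296)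
theorem F346258 : act 0 n116772 = n149287 := d20_1 D116772 (iv4 D149287) (iv3 F278140) (iv1 D149185) F106420 D70027 (iv1 F234549) (iv4 F346254) (iv3 F346211) F346256
theorem F346259 : act 5 n157132 = n116402 := d18_9 F346256 D116772 F346258 (iv4 D149287) (iv5 F201146) (iv4 F311948) (iv0 F314367) F311475 D157132
theorem E99987 : n149186 = n116694 := (c20_1 D149186 (iv1 D116694) F84792 F41103 D26015 D53802 D116772 F346258 (iv4 D149287) (iv3 F278140) (iv1 D149185))
theorem F346260 : act 1 n116694 = n154977 := (sb E99987 (iv0 F243685))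
theorem F346261 : act 4 n116694 = n70022 := (sb E99987 (iv4 D149186))
theorem F346262 : act 5 n116694 = n178546 := (sb E99987 (iv5 F278245))
theorem F346263 : act 1 n116772 = n149290 := d15_1 (iv0 F346258) (iv7 F315725) F315723
theorem F346264 : act 1 n143758 = n149287 := d15_0 (iv0 F346258) F182291 (iv2 F226422)
theorem F346265 : act 1 n149290 = n143758 := d15_0 F346264 (iv7 F333390) F333388
theorem F346266 : act 0 n178547 = n122316 := d18_2 (iv1 D178546) D178547 (iv4 F302626) F317879 (iv4 D73526) F313307 (iv4 F84792) D116694 F346262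
theorem F346267 : act 0 n149176 = n143507 := d20_1 D149176 (iv4 D143507) (iv3 D67215) (iv1 F103107) (iv3 F313435) D154977 (iv1 F346260) F346261 F106420 (iv1 F106415)
theorem F346268 : act 5 n143507 = n149236 := d17_1 F346267 (iv1 F337142) F337145 F158908 F106352 F51552 D32493 D70010 D149176
theorem F346269 : act 7 n154977 = n116664 := d15_2 D116694 F346260 F182022
theorem F346270 : act 2 n116696 = n154977 := d4_3 F346269 F182022 D116696
theorem F346271 : act 6 n147668 = n154977 := d14_5 F346269 (iv6 D116664) F84773 D69204 D147668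
theorem F346272 : act 5 n154977 = n108833 := d12_1 F346271 (iv6 D108833) D108832 (iv6 F344736) F344159
theorem F346273 : act 5 n170728 = n136743 := d21_6 F346262 (iv1 D178546) (iv5 D85011) F87998 (iv1 F125811) D170728 (iv1 F219925) F344159 F346271 (iv1 F346260)
theorem F346274 : act 3 n136743 = n170734 := d6_1 F346273 (iv5 D170734) (iv3 F268252)
theorem F346275 : act 7 n136742 = n170728 := d13_0 F346273 (iv7 D136743) D136742
theorem F346276 : act 1 n107679 = n170728 := d17_6 (iv1 F93851) F49690 (iv1 F39842) F39840 (iv4 F78615) D107679 F346273 F332103 (iv4 F332105)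
theorem F346277 : act 5 n107668 = n147674 := d21_6 (iv5 F346273) (iv1 F346276) (iv5 D107679) (iv6 D49745) D49742 D107668 (iv1 D147674) (iv5 F332107) F332108 (iv1 F332103)
theorem F346278 : act 5 n101596 = n147686 := d21_8 D69210 (iv1 F332103) (iv5 F346273) (iv6 D170728) (iv1 F125812) (iv6 F304865) (iv5 D101598) D101596 (iv6 D147686) (iv1 D69209)
theorem F346279 : act 6 n147685 = n155148 := d12_4 (iv6 F308148) F346278 (iv6 D147686) D147685 (iv5 D155148)
theorem F346280 : act 7 n147686 = n152204 := d13_2 (iv7 F308149) F346278 (iv5 D152204)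
theorem E99988 : n149158 = n147686 := ((c18_10 F243709 (iv4 D154987) F313411 F325889 (iv5 D55059) F42628 D26615 D55068 (iv0 F308146) F346278)).symm
theorem F346281 : act 0 n147686 = n154987 := (sb E99988 F243709)
theorem F346282 : act 4 n147686 = n70000 := (sb E99988 (iv4 D149158))
theorem F346283 : act 5 n154987 = n152314 := d21_2 F346278 F346281 (iv6 D152314) F306645 (iv6 D75323) (iv5 D34485) D34482 F90886 D47259 D101596
theorem F346284 : act 0 n132843 = n155159 := d21_1 (iv5 F317542) (iv5 D155159) (iv6 D73643) D73639 (iv6 F308148) F346278 F346281 F346283 (iv6 D152314) F306645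
theorem F346285 : act 4 n148977 = n149155 := d16_0 (iv5 D149155) (iv4 D69999) D70000 (iv4 F346282) (iv5 F346278) F308147 D149151 F234528 (iv2 F234120)
theorem F346286 : act 0 n119644 = n143601 := d18_0 F226285 F339635 (iv4 F346282) (iv5 F346278) F308147 (iv0 D69996) D69999 (iv0 F106405) D119644
theorem E99989 : n143724 = n143601 := (c15_1 D143724 (iv0 F346286) (iv7 F334104) F226384)
theorem F346287 : act 0 n143601 = n67314 := (sb E99989 (iv1 D143724))
theorem F346288 : act 3 n172414 = n143601 := d20_3 D38625 D83867 F272776 F346287 F323513 (iv4 F323506) F315673 D65134 (iv3 F323547) (iv1 D38624)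
theorem E99990 : n175276 = n143712 := ((c20_3 (iv4 D67314) D67311 D143712 (iv3 D175276) (iv1 D83697) F59404 D38625 D83867 F272776 F346288 F346287)).symm
theorem F346289 : act 3 n143712 = n83697 := (sb E99990 (iv3 D175276))
theorem F346290 : act 7 n143601 = n119670 := d15_2 (iv0 D143723) (iv0 F346287) (iv2 F324817)
theorem E99991 : n152710 = n143712 := (c6_1 D152710 F346289 (iv5 F333658) F333657)
theorem F346291 : act 0 n143712 = n152204 := (sb E99991 F239915)
theorem F346292 : act 5 n143712 = n72046 := (sb E99991 (iv5 D152710))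
theorem F346293 : act 4 n175280 = n145784 := d20_2 D83698 D175280 F228911 (iv1 F321812) (iv3 F323513) (iv4 D67314) D67311 D143712 F346289 (iv1 D83697)
theorem F346294 : act 3 n117230 = n175280 := d5_5 F346293 F228911 F104534 (iv3 F85246) (iv4 F183426)
theorem F346295 : act 6 n117228 = n175280 := d10_0 F346293 (iv6 D145784) (iv4 F183421)
theorem F346296 : act 0 n145784 = n161651 := d20_1 F346293 (iv4 F339570) F136952 D89235 (iv3 F289358) (iv4 F336807) (iv1 D175675) (iv4 F274290) (iv3 D175282) D175280
theorem F346297 : act 0 n89723 = n117230 := d20_4 F333968 (iv1 F345960) (iv4 D89725) (iv3 F137718) F346294 F346293 F346296 (iv4 F339570) F136952 D89235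
theorem E99992 : n175283 = n89498 := (c18_10 (iv1 F137204) F72572 F136300 F67866 D89233 F339570 (iv0 F346296) (iv4 F346293) (iv0 D175280) D175283)
theorem F346298 : act 5 n89498 = n83698 := (sb E99992 (iv5 D175283))
theorem F346299 : act 6 n98297 = n158130 := d21_9 F177716 F128226 (iv5 F238164) F342218 (iv1 D83754) (iv6 F128760) (iv5 F346298) (iv1 F137204) D98297 F249076
theorem F346300 : act 4 n117231 = n186484 := d18_3 F346297 F183426 D117231 (iv5 D186484) F137892 (iv0 F137893) F70297 (iv0 F136299) D89723
theorem F346301 : act 4 n144966 = n89723 := d20_6 (iv4 F324830) F324828 (iv4 D74495) (iv3 F111803) (iv1 F330018) (iv3 F330015) F346297 F183426 F85246 F315529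
theorem F346302 : act 5 n117230 = n96417 := d21_8 F293665 (iv1 D98990) (iv5 D46308) D46309 F139759 (iv6 D89724) D89723 F346297 F293553 (iv1 F293663)
theorem E99993 : n89527 = n68828 := (c15_3 (iv0 F346297) (iv0 F286184) F157499 (iv2 F183425))
theorem E99994 : n146805 = n41802 := (((iv3 F230164)).symm.trans (sb E99993 (iv3 D89527)))
theorem E99995 : n146809 = n47550 := ((D146809).symm.trans (sb E99993 F137237))
theorem E99996 : n146810 = n102536 := ((D146810).symm.trans (sb E99993 (iv7 F157499)))
theorem F346303 : act 3 n41802 = n68828 := (sb E99994 F230164)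
theorem E99997 : n89529 = n68826 := ((D89529).symm.trans (sb E99994 (iv6 D146805)))
theorem F346304 : act 5 n47550 = n68828 := (sb E99995 (iv5 D146809))
theorem F346305 : act 4 n102536 = n68831 := (sb E99996 F230165)
theorem F346306 : act 6 n102536 = n69599 := (sb E99996 F230166)
theorem F346307 : act 7 n102536 = n68828 := (sb E99996 (iv7 D146810))
theorem E99998 : n146801 = n122636 := ((D146801).symm.trans (sb E99997 (iv1 F301801)))
theorem E99999 : n146803 = n102532 := ((D146803).symm.trans (sb E99997 (iv2 F157482)))
theorem E100000 : n146804 = n46328 := ((D146804).symm.trans (sb E99997 F137243))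
theorem F346308 : act 6 n68826 = n41802 := (sb E99997 (iv6 D89529))
theorem F346309 : act 1 n122636 = n68826 := (sb E99998 (iv0 D146801))
theorem F346310 : act 2 n102532 = n68826 := (sb E99999 (iv2 D146803))
theorem E100001 : n99028 = n68827 := (((iv3 F152563)).symm.trans (sb E100000 F230163))
theorem F346311 : act 5 n46328 = n68826 := (sb E100000 (iv5 D146804))
theorem F346312 : act 3 n68827 = n46328 := (sb E100001 F152563)
theorem E100002 : n146806 = n46325 := ((D146806).symm.trans (sb E100001 (iv6 D99028)))
theorem F346313 : act 6 n46325 = n68827 := (sb E100002 (iv6 D146806))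
theorem F346314 : act 6 n117229 = n99025 := d3_2 F346313 (iv2 F183423) (iv2 D99025)
theorem F346315 : act 6 n146770 = n99026 := d10_2 F346313 (iv4 F230133) (iv4 D99026)
theorem F346316 : act 3 n99034 = n117236 := d8_3 F183439 F346312 D99034
theorem F346317 : act 5 n117235 = n99034 := d6_0 F346316 (iv5 D117236) D117235
theorem F346318 : act 7 n146802 = n174785 := d15_2 F346309 D146802 F273606
theorem F346319 : act 6 n117780 = n146802 := d14_5 F346318 (iv6 D174785) F128609 F321937 (iv7 F205145)
theorem F346320 : act 6 n127606 = n111898 := d10_2 F346319 (iv4 F230162) F205143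
theorem E100003 : n127609 = n105725 := ((c7_2 F346320 (iv3 F205109) (iv6 D127609) D127606)).symm
theorem F346321 : act 6 n105725 = n59919 := (sb E100003 (iv6 D127609))
theorem F346322 : act 5 n174213 = n127606 := d12_5 F346320 (iv5 D111898) (iv6 F325304) D83273 D174213
theorem F346323 : act 3 n127608 = n174213 := d6_3 F346322 (iv3 D127606) D127608
theorem F346324 : act 2 n174213 = n109621 := d0_1 F346323 (iv3 D109621) (iv2 F173334) D111897 (iv2 F205174)
theorem F346325 : act 6 n174211 = n127608 := d7_0 F346323 (iv6 D174213) (iv3 F338787)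
theorem F346326 : act 4 n127608 = n163865 := d10_1 F346325 F258296 (iv4 F272999)
theorem F346327 : act 5 n163865 = n126863 := d16_1 F346326 (iv4 F336172) (iv5 D139825) (iv4 F101371) F103145 F94395 (iv5 F182588) (iv7 F173849) (iv2 F205174)
theorem F346328 : act 3 n163865 = n126864 := d19_3 D59919 D127608 F346326 (iv1 F338758) F338760 (iv4 F214326) (iv3 F214324) (iv1 D64110) F48607 (iv4 F326698) (iv3 F120080) F120082 (iv5 D59871) (iv4 D28426) (iv3 D13560) (iv1 D6455) D6457 D13569 D28461
theorem F346329 : act 2 n126863 = n120064 := d2_1 F346327 F318522 D163865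
theorem F346330 : act 6 n126863 = n120062 := d12_2 (iv6 F258296) F346327 F325004 D136725 F323017
theorem F346331 : act 6 n173288 = n137313 := d14_5 F220472 F346330 F189645 D155788 (iv7 F331744)
theorem F346332 : act 4 n120064 = n105634 := d1_2 F336172 F346329 (iv2 F223027)
theorem F346333 : act 6 n105634 = n120063 := d10_2 D120064 F346332 (iv4 D120063)
theorem F346334 : act 6 n109621 = n173250 := d3_2 D174213 F346324 F271591
theorem E100004 : n173250 = n173249 := (c7_1 F346334 (iv3 D173249) F326209 D109621)
theorem F346335 : act 0 n173249 = n158892 := (sb E100004 F271593)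
theorem F346336 : act 1 n173249 = n176844 := (sb E100004 F276222)
theorem F346337 : act 2 n173249 = n83273 := (sb E100004 F271591)
theorem F346338 : act 5 n173249 = n82908 := (sb E100004 (iv5 D173250))
theorem F346339 : act 6 n173249 = n109621 := (sb E100004 (iv6 F346334))
theorem E100005 : n83265 = n83264 := (((F271590).symm.trans (sb E100004 F271592))).symm
theorem E100006 : n174193 = n160820 := ((D174193).symm.trans (sb E100005 (iv1 F300940)))
theorem E100007 : n174194 = n84305 := ((D174194).symm.trans (sb E100005 (iv0 F129376)))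
theorem E100008 : n174195 = n124470 := ((D174195).symm.trans (sb E100005 (iv2 F199092)))
theorem E100009 : n174196 = n38337 := ((((iv3 D83264)).symm.trans (sb E100005 (iv3 F272985)))).symm
theorem E100010 : n174156 = n123311 := ((((iv4 F197611)).symm.trans (sb E100005 (iv4 F272952)))).symm
theorem F346340 : act 1 n160820 = n83264 := (sb E100006 (iv0 D174193))
theorem F346341 : act 0 n84305 = n83264 := (sb E100007 (iv1 D174194))
theorem F346342 : act 2 n124470 = n83264 := (sb E100008 (iv2 D174195))
theorem F346343 : act 5 n38337 = n83264 := (sb E100009 (iv5 D174196))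
theorem F346344 : act 0 n123311 = n83250 := (sb E100010 (iv1 D174156))
theorem F346345 : act 1 n123311 = n83297 := (sb E100010 F272950)
theorem F346346 : act 5 n123311 = n83267 := (sb E100010 F272951)
theorem E100012 : n174201 = n111303 := (c6_2 F346346 D174201 F341338 D123311)
theorem F346347 : act 3 n111303 = n83267 := (sb E100012 (iv3 D174201))
theorem E100013 : n173239 = n83297 := (c19_20 (iv1 F346345) F346346 (iv4 D83267) F326691 (iv1 F100411) D113160 F323468 (iv3 D160009) (iv1 D76609) (iv5 F306994) (iv4 F56369) (iv3 D35692) (iv1 F121049) (iv5 F307344) (iv4 F106970) F302233 (iv1 D38135) D38136 D82903 D173239)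
theorem E100014 : n174272 = n82903 := ((D174272).symm.trans (sb E100013 (iv3 D173239)))
theorem F346348 : act 3 n82903 = n83297 := (sb E100014 (iv3 D174272))
theorem F346349 : act 3 n173266 = n111123 := d0_2 F346348 (iv2 F271628) F332998 (iv3 D83249) (iv2 F127705)
theorem E100015 : n174264 = n82890 := (c5_5 D82903 F346348 (iv4 D83297) (iv3 F128370) D174264 F127677)
theorem E100016 : n173219 = n83293 := ((D173219).symm.trans (sb E100015 (iv4 D174264)))
theorem F346350 : act 4 n83293 = n82890 := (sb E100016 (iv4 D173219))
theorem F346351 : act 3 n173241 = n173240 := d6_3 (iv5 D173240) F346348 (iv5 F271576)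
theorem F346352 : act 3 n174273 = n173222 := d7_3 F271528 F346348 D174273
theorem F346353 : act 0 n174904 = n160773 := d20_4 F197611 (iv1 F346340) F300942 (iv3 F273801) (iv3 D160773) (iv4 D77132) (iv1 F298317) D82903 F346348 (iv1 F346345)
theorem F346354 : act 2 n125520 = n174273 := d0_5 F346352 F271527 (iv3 F332993) (iv2 F92863) D125520
theorem F346355 : act 4 n173267 = n125520 := d1_0 F346354 F273064 (iv2 F271631)
theorem F346356 : act 6 n173266 = n125520 := d3_0 F346354 (iv6 D174273) (iv2 F271628)
theorem F346357 : act 5 n107387 = n174158 := d12_3 F346356 F201871 (iv6 F165435) (iv6 D174158) (iv5 F271629)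
theorem F346358 : act 7 n107390 = n174157 := d14_4 F271630 F346356 F201872 (iv6 F165437) (iv6 D174157)
theorem F346359 : act 3 n174157 = n107042 := d8_1 F346358 F164980 (iv3 F165436)
theorem F346360 : act 5 n174157 = n107033 := d13_1 F346358 F164971 D107390
theorem F346361 : act 6 n107042 = n174153 := d7_2 D174157 F346359 F272945
theorem F346362 : act 7 n174153 = n111123 := d14_2 (iv7 F164980) F346361 F172334 F92867 (iv6 F78356)
theorem F346363 : act 2 n174154 = n174153 := d4_3 F346362 F332998 D174154
theorem F346364 : act 4 n110966 = n174153 := d11_3 F346362 (iv4 D111123) (iv7 F172012)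
theorem F346365 : act 5 n111123 = n174154 := d13_1 F346362 (iv7 D174154) D174153
theorem F346366 : act 1 n174151 = n174153 := d15_1 D174151 F346362 F332998
theorem F346367 : act 6 n174154 = n107040 := d12_2 (iv6 F172334) F346365 F164977 F78351 (iv5 F92864)
theorem F346368 : act 4 n174154 = n110965 := d16_2 D111123 F346365 F172010 F80836 F45137 (iv4 F80836) (iv5 F172010) (iv7 D110965) (iv2 F80841)
theorem F346369 : act 3 n110965 = n173987 := d5_1 F346368 F272621 F128250 (iv4 F128329) (iv3 F272946)
theorem F346370 : act 5 n173987 = n111111 := d6_2 (iv5 F172010) F346369 F172314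
theorem F346371 : act 0 n177460 = n173987 := d19_0 F346370 (iv4 F219578) F219577 F101317 F326330 D47316 (iv3 F319568) F189986 F77329 F59374 (iv3 F59373) F316579 (iv5 D79987) (iv4 F122749) F122748 (iv1 F296368) D38997 D84545 D177460
theorem F346372 : act 4 n174837 = n177460 := d20_6 D77132 (iv1 F300902) (iv4 D38519) (iv3 F59350) D83520 D174837 F346371 F272621 F128250 F298318
theorem F346373 : act 1 n174837 = n164554 := d18_8 (iv1 F272357) (iv4 F272355) F272358 F128112 (iv5 F128251) (iv4 F272621) (iv0 F346371) (iv4 F346372) (iv5 D164554)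
theorem F346374 : act 0 n130341 = n134628 := d19_0 (iv5 F342133) F346372 (iv3 D177460) (iv1 F276666) F276667 (iv4 D84503) (iv3 F129632) (iv1 F345690) F345693 F215537 F98091 (iv1 F47839) F110509 (iv4 F94894) F94893 F297804 (iv5 F310560) F309722 (iv3 F208863)
theorem E100017 : n118492 = n98200 := (c20_2 F216588 F308707 F151518 (iv3 D77127) (iv1 D35217) (iv3 F51908) F51909 D32790 F309722 (iv3 F208863) F346374)
theorem F346375 : act 0 n98200 = n54569 := (sb E100017 (iv1 D118492))
theorem F346376 : act 1 n98200 = n63263 := (sb E100017 (iv0 F308707))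
theorem F346377 : act 0 n134627 = n175144 := d21_7 (iv5 F344164) (iv1 F327909) F327912 D130341 F346374 (iv6 D134628) D134627 (iv5 D175144) (iv6 F319791) F315326
theorem F346378 : act 1 n130341 = n118490 := d15_1 (iv0 F346374) F306852 (iv2 F216587)
theorem E100018 : n175333 = n139686 := ((c15_2 (iv0 F346377) (iv0 F332294) (iv7 F334170) F334165)).symm
theorem F346379 : act 2 n139686 = n83733 := (sb E100018 F274383)
theorem F346380 : act 5 n139686 = n83731 := (sb E100018 (iv5 D175333))
theorem F346381 : act 7 n139686 = n134667 := (sb E100018 (iv7 F334170))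
theorem F346382 : act 1 n118566 = n175144 := d15_0 (iv0 F346377) (iv7 F334155) F334150
theorem F346383 : act 1 n139686 = n118566 := d15_0 F346382 F274127 (iv2 F346379)
theorem E100019 : n118569 = n111849 := (c20_7 (iv4 F315807) F315804 (iv4 D175147) (iv3 F274126) (iv1 F346382) F186481 D118569 (iv1 D111849) F328399 F130465 (iv1 F130429))
theorem F346384 : act 4 n111849 = n54599 := (sb E100019 (iv4 D118569))
theorem F346385 : act 4 n176325 = n118566 := d20_0 (iv1 F346383) F222867 F101288 D65572 D139705 F335140 (iv1 D176368) (iv4 F275635) (iv3 D176327) D176325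
theorem F346386 : act 3 n141345 = n176325 := d20_5 F104789 (iv1 F50161) (iv4 F101380) (iv3 F223051) (iv1 F333610) F346385 (iv1 F346383) F222867 F101288 D65572
theorem F346387 : act 5 n176325 = n134383 := d6_2 (iv5 F333611) F346386 F331667
theorem F346388 : act 6 n176325 = n141340 := d7_2 D141345 F346386 F224363
theorem F346389 : act 7 n176325 = n134669 := d8_2 F333614 F346386 (iv3 F331670)
theorem F346390 : act 2 n134669 = n176326 := d16_9 (iv4 F344804) (iv5 D134627) (iv4 D63262) (iv5 D29897) (iv4 F48002) D63130 D134383 (iv5 F346387) F346389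
theorem F346391 : act 2 n176325 = n134394 := d16_9 (iv4 F334152) F334153 F308848 F86347 (iv4 F98409) (iv5 F329414) (iv4 F228933) (iv5 F331669) (iv7 F346389)
theorem F346392 : act 6 n134394 = n140718 := d3_2 (iv6 F346388) F346391 (iv2 F224362)
theorem F346393 : act 7 n134394 = n176326 := d4_2 (iv7 F346389) F346391 (iv2 F346390)
theorem F346394 : act 1 n176312 = n134669 := d15_1 (iv0 F334143) (iv7 F346389) F346391
theorem F346395 : act 5 n134396 = n176326 := d16_7 F346385 (iv5 D118566) F86283 F42204 (iv4 F48005) (iv5 F98418) (iv4 F216387) (iv7 F346393) (iv2 F346391)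
theorem F346396 : act 1 n113810 = n134396 := d18_8 (iv1 D176326) (iv4 D84083) F319106 F102669 (iv5 F318483) D117383 (iv0 F328458) F328459 F346395
theorem F346397 : act 0 n141469 = n176326 := d19_0 (iv5 F346395) F216387 F98417 (iv1 F98267) F98269 (iv4 D51082) (iv3 F45599) F46491 F46490 (iv4 D25214) D25213 (iv1 F39708) F38923 (iv4 F47922) D62967 D134045 F336850 F224529 (iv3 F224524)
theorem F346398 : act 6 n178534 = n176326 := d21_5 (iv5 D32508) (iv1 F54151) D69871 (iv6 F188163) (iv1 F278232) (iv5 F346395) (iv1 F346396) (iv5 F234633) (iv6 D149242) (iv1 D70049)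
theorem F346399 : act 6 n142001 = n128089 := d14_5 F278237 F346398 (iv7 F346393) F346392 (iv7 F225025)
theorem F346400 : act 6 n119366 = n144513 := d10_2 F346399 F278236 F227367
theorem F346401 : act 3 n148881 = n119366 := d7_3 F346400 F227369 D148881
theorem F346402 : act 5 n116472 = n151621 := d21_0 F238492 F331686 (iv6 F346400) (iv1 D119366) (iv6 F87532) (iv5 F134977) (iv1 D87976) D87977 (iv6 F321609) F205312
theorem F346403 : act 2 n151621 = n114198 := d2_1 F346402 F330344 (iv2 F181756)
theorem F346404 : act 3 n151621 = n147504 := d6_1 F346402 (iv5 D147504) (iv3 F316674)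
theorem F346405 : act 7 n151621 = n114199 := d13_2 (iv7 F181757) F346402 F330347
theorem F346406 : act 4 n151622 = n116457 := d16_4 D116472 F346402 (iv4 D151621) D151622 (iv5 D116457) (iv4 D53675) D53676 F102970 (iv2 F102959)
theorem F346407 : act 1 n151621 = n114193 := d17_6 F181562 (iv5 D31136) (iv1 F41068) D53681 D116472 F346402 (iv5 F331683) (iv0 D144512) (iv4 D67730)
theorem E100020 : n147656 = n116472 := (c18_9 F238492 F177990 (iv1 F177982) (iv4 F330335) F225423 (iv4 F103162) (iv0 F223804) F323313 D147656 F346402)
theorem F346408 : act 0 n116472 = n69200 := (sb E100020 (iv1 D147656))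
theorem F346409 : act 6 n147657 = n106377 := d21_3 (iv5 F346402) F346408 D147657 F340922 (iv6 D71781) D71780 F108248 (iv5 F83297) D114193 (iv1 F346407)
theorem E100021 : n159888 = n147657 := (c7_4 F346409 (iv3 F179116) F334721 D159888)
theorem F346410 : act 3 n147657 = n76542 := (sb E100021 (iv3 D159888))
theorem F346411 : act 4 n106379 = n147657 := d10_3 F346409 (iv4 D106377) D106379
theorem F346412 : act 5 n106377 = n147654 := d12_1 F346409 (iv6 D147654) (iv5 D69199) D69200 D147657
theorem F346413 : act 7 n175811 = n147657 := d14_0 F346409 F163490 (iv6 F340658) F340659 D175811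
theorem E100022 : n147658 = n142374 := (c13_3 F346413 (iv5 D147657) D147658 F323290)
theorem F346414 : act 7 n142374 = n69200 := (sb E100022 (iv7 D147658))
theorem E100023 : n147652 = n145763 := (c8_2 F346414 (iv3 F231420) F342098 (iv3 F323289))
theorem F346415 : act 3 n145763 = n69200 := (sb E100023 F231420)
theorem F346416 : act 6 n145763 = n69197 := (sb E100023 (iv6 D147652))
theorem E100024 : n147655 = n116459 := ((c15_1 F205313 (iv0 D147655) (iv7 F346414) (iv2 F225298))).symm
theorem F346417 : act 1 n116459 = n69200 := (sb E100024 (iv0 D147655))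
theorem F346418 : act 6 n108019 = n181801 := d21_3 (iv5 D86226) (iv1 F321445) D108019 (iv1 F282974) F233919 (iv5 F229412) (iv1 F229416) (iv5 F342097) F346416 F319462
theorem E100025 : n175448 = n145765 := ((c21_6 (iv5 F334726) (iv1 F175128) (iv5 F175131) (iv6 F346416) (iv1 D145763) D145765 (iv5 F274667) F272028 F262964 F332205 F342096)).symm
theorem F346419 : act 0 n145765 = n83781 := (sb E100025 (iv1 D175448))
theorem F346420 : act 1 n145765 = n83786 := (sb E100025 F274665)
theorem F346421 : act 5 n145765 = n158536 := (sb E100025 (iv5 F274667))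
theorem F346422 : act 7 n145765 = n158535 := (sb E100025 F274666)
theorem E100026 : n175640 = n145765 := (c4_4 F346422 (iv2 F309537) (iv7 F273752) D175640)
theorem F346423 : act 2 n145765 = n83858 := (sb E100026 (iv2 D175640))
theorem E100027 : n158535 = n156666 := (c8_1 F346422 (iv3 D156666) (iv7 F317406) (iv3 F228899))
theorem F346424 : act 0 n156666 = n158386 := (sb E100027 (iv1 F249717))
theorem F346425 : act 1 n156666 = n158384 := (sb E100027 (iv0 F249716))
theorem F346426 : act 2 n156666 = n173586 := (sb E100027 (iv2 F309537))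
theorem F346427 : act 5 n156666 = n75623 := (sb E100027 (iv5 D158535))
theorem F346428 : act 7 n156666 = n145765 := (sb E100027 (iv7 F346422))
theorem E100028 : n175638 = n158384 := ((c15_1 F346425 (iv0 D175638) F273752 (iv2 F346426))).symm
theorem F346429 : act 1 n158384 = n83858 := (sb E100028 (iv0 D175638))
theorem F346430 : act 2 n175641 = n147436 := d1_3 F231225 F346423 D175641
theorem E100029 : n175643 = n145764 := (c3_3 D145765 F346423 D175643 (iv2 D145764))
theorem F346431 : act 3 n145764 = n83861 := (sb E100029 F274966)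
theorem F346432 : act 6 n145764 = n83858 := (sb E100029 (iv6 D175643))
theorem F346433 : act 6 n175641 = n147435 := d10_2 F346432 D175641 F231223
theorem E100030 : n171081 = n145764 := (c12_6 F346432 (iv5 F309540) (iv6 F273722) (iv5 D83860) D83861 (iv5 F298374))
theorem F346434 : act 0 n145764 = n81998 := (sb E100030 (iv1 D171081))
theorem F346435 : act 5 n145764 = n83861 := (sb E100030 F298374)
theorem E100031 : n175651 = n145753 := ((c21_7 (iv5 D158384) (iv1 F113385) (iv5 F128822) (iv6 F315403) (iv1 F336448) F336445 (iv5 F228889) (iv1 D175651) (iv5 F346435) F346432 (iv1 F346429))).symm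
theorem F346436 : act 0 n145753 = n83861 := (sb E100031 (iv1 D175651))
theorem E100032 : n175650 = n52833 := (c21_8 (iv5 D173635) F318052 D83494 (iv6 F306605) F336431 (iv6 F346432) F346435 D175650 D114464 F344941 (iv1 F272111))
theorem E100033 : n114463 = n83861 := ((D114463).symm.trans (sb E100032 (iv0 D175650)))
theorem F346437 : act 0 n83861 = n52833 := (sb E100033 (iv1 D114463))
theorem E100034 : n175648 = n152275 := (((iv4 F274974)).symm.trans (sb E100033 (iv4 F239346)))
theorem E100035 : n175652 = n145755 := ((D175652).symm.trans (sb E100033 (iv7 F321001)))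
theorem F346438 : act 4 n152275 = n83861 := (sb E100034 F274974)
theorem F346439 : act 6 n152275 = n83859 := (sb E100034 (iv6 D175648))
theorem F346440 : act 7 n145755 = n83861 := (sb E100035 (iv7 D175652))
theorem E100036 : n175461 = n148873 := ((c21_5 (iv5 F298375) (iv1 F334744) F104730 (iv6 F106191) D148873 (iv6 D175461) (iv5 F249711) (iv1 F273720) F309540 (iv6 F346432) F346434)).symm
theorem F346441 : act 5 n148873 = n136387 := (sb E100036 (iv5 F342684))
theorem F346442 : act 6 n148873 = n83788 := (sb E100036 (iv6 D175461))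
theorem E100037 : n175785 = n166843 := ((c10_2 F346442 (iv4 F298402) (iv6 D175785) (iv4 F344862))).symm
theorem F346443 : act 2 n166843 = n124657 := (sb E100037 F344801)
theorem F346444 : act 6 n166843 = n83905 := (sb E100037 (iv6 D175785))
theorem F346445 : act 6 n175699 = n136387 := d12_4 F346442 (iv5 F249711) (iv6 F304817) F304816 (iv5 F346441)
theorem F346446 : act 7 n181801 = n148873 := d14_0 F346442 F262966 F332205 F171152 F346418
theorem F346447 : act 2 n175778 = n181801 := d4_3 F346446 F344861 F344808
theorem F346448 : act 4 n148878 = n181801 := d11_3 F346446 F344862 (iv7 F334741)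
theorem E100038 : n175778 = n148874 := (c15_4 F282972 F282973 (iv7 F346446) (iv2 F346447))
theorem F346449 : act 2 n148874 = n181801 := (sb E100038 F346447)
theorem F346450 : act 4 n148874 = n83904 := (sb E100038 (iv4 D175778))
theorem F346451 : act 5 n148874 = n179600 := (sb E100038 F344939)
theorem F346452 : act 7 n148874 = n181802 := (sb E100038 (iv7 F344808))
theorem F346453 : act 4 n153334 = n136388 := d16_4 F346450 (iv5 F334147) F178517 D153334 (iv5 D136388) D136387 (iv5 F346441) (iv7 F346446) (iv2 F346449)
theorem E100039 : n179600 = n136382 := ((c16_1 D136382 (iv5 F346451) F346450 (iv5 F334147) F178517 D153334 F346453 (iv5 D136388) F219496 (iv2 D136380))).symm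
theorem F346454 : act 0 n136382 = n85758 := (sb E100039 (iv1 D179600))
theorem F346455 : act 1 n136382 = n160596 := (sb E100039 (iv0 F313966))
theorem F346456 : act 5 n136382 = n148874 := (sb E100039 (iv5 F346451))
theorem F346457 : act 7 n176156 = n136382 := d13_0 F346456 F346452 F344809
theorem F346458 : act 0 n115391 = n136383 := d17_2 (iv1 D115389) D115391 (iv5 D136383) D136382 F346456 F282972 (iv5 D181800) (iv0 F336423) (iv4 F344850)
theorem E100040 : n175787 = n172867 := (c18_9 (iv1 D136347) F99712 D64118 D136382 F346456 F346450 (iv0 D83904) D83906 D175787 F337654)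
theorem F346459 : act 0 n172867 = n83906 := (sb E100040 (iv1 D175787))
theorem F346460 : act 4 n172867 = n176481 := (sb E100040 (iv4 F275789))
theorem F346461 : act 2 n176156 = n136387 := d16_9 (iv4 D136387) D136388 (iv4 F346453) (iv5 D153334) (iv4 F178517) F334147 (iv4 F346450) (iv5 F346456) (iv7 F346457)
theorem F346462 : act 6 n136382 = n177674 := d21_3 D181800 (iv1 F282972) (iv5 F346456) (iv1 D177674) (iv6 D84610) (iv5 D39074) D39071 D84597 D177621 F336423
theorem F346463 : act 6 n112730 = n128511 := d21_3 F129778 (iv1 F323179) D112730 (iv1 F206673) (iv6 F133109) D181800 (iv1 F282972) (iv5 F346456) F346462 (iv1 D177674)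
theorem F346464 : act 3 n128511 = n112732 := d7_1 F346463 (iv6 D112732) (iv3 F175484)
theorem E100041 : n119635 = n115333 := ((c20_7 F42783 (iv1 F27657) (iv4 F46272) (iv3 F94956) D128511 F346464 (iv4 F179626) (iv1 D119635) F87041 (iv3 D26695) D26693)).symm
theorem F346465 : act 0 n115333 = n55044 := (sb E100041 (iv1 D119635))
theorem F346466 : act 1 n115333 = n155864 := (sb E100041 F244846)
theorem F346467 : act 7 n119634 = n115470 := d15_2 F346466 F244848 F179770
theorem F346468 : act 4 n177674 = n136384 := d10_1 F346462 (iv6 D136384) D136382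
theorem F346469 : act 5 n177674 = n107593 := d21_6 (iv5 D38690) F298926 D76999 (iv6 F253682) (iv1 F346455) F346462 (iv1 F175407) (iv5 F345512) (iv6 D172048) (iv1 F126923)
theorem F346470 : act 2 n107594 = n177674 := d2_3 F346469 (iv2 D107593) D107594
theorem F346471 : act 4 n136385 = n176156 := d1_0 F346461 (iv4 D136387) (iv2 F219497)
theorem E100042 : n167091 = n101644 := ((c3_4 F336422 F346461 (iv6 F346445) (iv2 F275109))).symm
theorem F346472 : act 3 n101644 = n164523 := (sb E100042 F263180)
theorem F346473 : act 5 n101644 = n80217 := (sb E100042 (iv5 D167091))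
theorem F346474 : act 6 n101644 = n176156 := (sb E100042 F336422)
theorem F346475 : act 7 n176155 = n136387 := d15_2 (iv0 F327862) F327863 (iv2 F346461)
theorem F346476 : act 2 n136382 = n176155 := d4_3 F346475 (iv2 F346461) F346457
theorem E100043 : n136380 = n102161 := (c11_3 F346475 (iv4 D136387) F219496 (iv4 F336419))
theorem F346477 : act 2 n102161 = n64118 := (sb E100043 (iv2 D136380))
theorem F346478 : act 7 n102161 = n64119 := (sb E100043 (iv7 F219496))
theorem F346479 : act 5 n181801 = n176155 := d13_3 F346475 (iv5 F346441) (iv7 F346446)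
theorem F346480 : act 6 n107594 = n176155 := d14_5 F346475 (iv6 F346445) F275107 (iv6 F345513) F175414
theorem F346481 : act 3 n176155 = n107595 := d7_1 F346480 (iv6 D107595) (iv3 F165996)
theorem F346482 : act 5 n127158 = n107592 := d21_6 (iv5 D175969) (iv1 F342676) (iv5 F344781) F344782 (iv1 D127156) D127158 (iv1 D107592) D107594 F346480 (iv1 F327863)
theorem F346483 : act 0 n107594 = n177656 := d21_4 D86826 D181801 F346479 (iv6 F346480) (iv6 D177656) (iv5 D84606) (iv1 F334653) D177603 F345849 (iv1 D86824)
theorem F346484 : act 5 n112729 = n159441 := d21_2 F277103 (iv1 F324546) (iv6 D159441) (iv1 D76266) (iv6 F61218) D86826 D181801 F346479 (iv6 F346480) F346483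
theorem F346485 : act 2 n159441 = n112730 := d2_1 F346484 (iv5 D112730) D112729
theorem F346486 : act 7 n159441 = n176168 := d13_2 (iv7 F324597) F346484 F344937
theorem F346487 : act 0 n159441 = n172048 := d21_1 F346484 F345512 F325226 (iv1 F318816) (iv6 F327955) (iv5 F248734) (iv1 F92782) (iv5 F60689) D86184 (iv1 F324546)
theorem F346488 : act 6 n162806 = n112729 := d21_5 (iv5 D58055) F118800 (iv5 F59356) D83547 (iv1 F322728) F346484 F346487 F345512 F325226 (iv1 F318816)
theorem E100044 : n128505 = n127766 := ((c21_2 (iv5 F94468) D127766 F339213 (iv6 F342328) (iv1 D177654) D177656 F277103 (iv1 F324546) F346484 (iv6 D159441) (iv1 D76266))).symm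
theorem F346489 : act 2 n127766 = n60440 := (sb E100044 F206667)
theorem F346490 : act 5 n127766 = n150581 := (sb E100044 F339213)
theorem F346491 : act 7 n127766 = n60439 := (sb E100044 (iv7 D128505))
theorem F346492 : act 7 n128501 = n154768 := d8_2 F346491 D128501 (iv3 F243422)
theorem E100045 : n128500 = n127767 := (c15_4 F205394 F205390 F346491 D128500)
theorem F346493 : act 2 n127767 = n60439 := (sb E100045 (iv2 D128500))
theorem F346494 : act 5 n127767 = n150582 := (sb E100045 F339203)
theorem F346495 : act 6 n127767 = n82968 := (sb E100045 F339204)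
theorem F346496 : act 7 n127767 = n60440 := (sb E100045 (iv7 F206666))
theorem E100046 : n175020 = n128509 := ((c14_2 F346496 D128509 (iv7 D175020) (iv6 D83585) F127877 (iv6 F346495))).symm
theorem F346497 : act 0 n128509 = n113482 := (sb E100046 F339189)
theorem F346498 : act 1 n128509 = n113498 := (sb E100046 (iv0 F342147))
theorem F346499 : act 3 n128509 = n107211 := (sb E100046 (iv3 F344749))
theorem F346500 : act 4 n128509 = n107213 := (sb E100046 F344750)
theorem F346501 : act 5 n128509 = n172572 := (sb E100046 F273923)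
theorem F346502 : act 7 n128509 = n83585 := (sb E100046 (iv7 D175020))
theorem F346503 : act 6 n107213 = n128507 := d10_2 D128509 F346500 (iv4 D128507)
theorem F346504 : act 3 n128507 = n106999 := d7_1 F346503 F164931 D107213
theorem F346505 : act 4 n106998 = n128506 := d5_4 D128507 F346504 (iv4 D106999) D106998 (iv3 D128506)
theorem F346506 : act 7 n144301 = n128507 := d8_0 F346504 F164932 D144301
theorem F346507 : act 4 n127767 = n144301 := d11_3 F346506 (iv4 D128507) (iv7 F346496)
theorem F346508 : act 6 n173306 = n144301 := d14_5 F346506 (iv6 F346503) (iv7 F172188) F332391 F271717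
theorem F346509 : act 2 n144301 = n128502 := d3_1 F346508 F339206 F271716
theorem F346510 : act 3 n107694 = n127767 := d5_5 F346507 (iv3 D144301) F164914 (iv3 F169294) F175797
theorem F346511 : act 7 n128506 = n107694 := d8_0 F346510 F346496 D128506
theorem F346512 : act 6 n107211 = n128506 := d14_5 F346511 F332382 F271856 (iv6 F332386) (iv7 F165226)
theorem F346513 : act 2 n128506 = n107695 := d3_1 F346512 (iv6 F167750) (iv2 F165225)
theorem F346514 : act 5 n128506 = n126757 := d21_6 D59457 F93856 (iv5 D59415) D59416 F165227 F346512 (iv1 D126757) (iv5 D59471) (iv6 D28240) D28236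
theorem F346515 : act 3 n126757 = n128508 := d6_1 F346514 (iv5 D128508) D128506
theorem F346516 : act 0 n107697 = n128506 := d17_0 F346514 (iv1 D126757) (iv5 D59471) F45727 D28243 F321598 F319603 (iv0 F162017) (iv4 F166328)
theorem F346517 : act 1 n126757 = n103256 := d17_6 (iv1 F48712) (iv5 F100134) (iv1 F100136) F164920 F346505 F346514 F294115 (iv0 F329607) F111289
theorem F346518 : act 7 n103256 = n126628 := d15_2 D126757 F346517 F203710
theorem F346519 : act 4 n128508 = n136922 := d20_6 (iv4 D23024) D23022 D47849 D103256 (iv1 F346517) F346515 (iv1 D136922) (iv4 F331264) (iv3 D103275) (iv1 D47855)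
theorem F346520 : act 6 n136922 = n177664 := d10_2 (iv6 F339201) F346519 (iv4 D177664)
theorem F346521 : act 4 n103840 = n155619 := d20_8 F346519 (iv1 D136922) (iv4 F331264) (iv3 D103275) (iv1 D47855) D47856 (iv4 F75521) D103840 (iv3 F326897) (iv1 F339199)
theorem F346522 : act 2 n153512 = n103840 := d1_3 F346521 (iv2 D155619) (iv4 F241258)
theorem F346523 : act 7 n153754 = n103840 := d11_0 F346521 F244654 (iv4 F241615)
theorem E100047 : n150590 = n126753 := (c20_2 F346521 (iv1 F244657) F203975 (iv3 D110984) (iv1 D51170) F302683 (iv4 D48067) (iv1 D23190) D23191 D48071 D103840)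
theorem F346524 : act 0 n126753 = n70981 := (sb E100047 (iv1 D150590))
theorem F346525 : act 1 n126753 = n155619 := (sb E100047 F244657)
theorem E100048 : n159440 = n126753 := ((c21_2 F326898 (iv1 F346525) (iv5 D159440) D159441 F346487 (iv6 D172048) F299448 (iv1 F300932) F128979 (iv6 F339210) F339207)).symm
theorem F346526 : act 5 n126753 = n76266 := (sb E100048 (iv5 D159440))
theorem E100049 : n159438 = n126754 := (c6_2 F346526 D159438 (iv5 D126754) D126753)
theorem F346527 : act 3 n126754 = n76266 := (sb E100049 (iv3 D159438))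
theorem F346528 : act 5 n159432 = n136771 := d13_3 F219974 F346526 F251062
theorem F346529 : act 6 n126753 = n124495 := d21_9 (iv5 D58101) D58098 D124484 F345559 F345560 F320631 D128510 (iv1 F206671) (iv5 F346526) (iv1 D124495)
theorem F346530 : act 3 n124495 = n126755 := d7_1 F346529 (iv6 D126755) D126753
theorem F346531 : act 5 n124495 = n162806 := d12_1 F346529 F346488 F346484 (iv6 D159441) (iv5 F346526)
theorem F346532 : act 2 n136771 = n159435 := d2_1 F346528 (iv5 D159435) D159432
theorem F346533 : act 3 n136772 = n159432 := d6_3 F346528 (iv3 D136771) D136772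
theorem E100050 : n159435 = n150589 := (c15_4 (iv0 D150589) (iv0 F346524) (iv7 F219974) F346532)
theorem F346534 : act 2 n150589 = n136771 := (sb E100050 (iv2 F346532))
theorem F346535 : act 5 n150589 = n76265 := (sb E100050 (iv5 D159435))
theorem E100051 : n141756 = n106399 := ((c21_7 F346535 (iv1 F206672) (iv5 D128510) (iv6 F320631) (iv1 D113131) F82558 D106399 (iv1 D141756) (iv5 F322267) F322565 D150589)).symm
theorem F346536 : act 0 n106399 = n66469 := (sb E100051 (iv1 D141756))
theorem F346537 : act 0 n159436 = n162624 := d21_10 (iv5 D162624) (iv1 F337523) F337526 F337530 F325512 F322632 (iv5 F107533) D150589 F346535 D159436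
theorem F346538 : act 6 n150589 = n176111 := d21_3 F94468 D76265 (iv5 F346535) (iv1 D176111) (iv6 F331867) (iv5 F301154) F301151 (iv5 F127876) (iv6 F346495) (iv1 D127767)
theorem F346539 : act 0 n167086 = n159436 := d21_4 F346473 (iv1 D80217) D80218 (iv6 F263172) (iv6 D159436) (iv5 F346535) (iv1 F244655) (iv5 F326898) (iv6 D101662) (iv1 F156559)
theorem F346540 : act 5 n176111 = n158584 := d21_6 D106399 F346536 (iv5 F322267) F322565 D150589 F346538 (iv1 D158584) D158585 (iv6 F344759) (iv1 D106397)
theorem F346541 : act 0 n130442 = n158584 := d21_1 F344754 (iv5 F346540) (iv6 F346538) (iv1 F244655) (iv6 F337554) (iv5 D101656) (iv1 F311765) (iv5 F309557) F309558 (iv1 F344757)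
theorem F346542 : act 0 n150560 = n176111 := d21_4 F342695 F323371 F326620 (iv6 F237081) (iv6 F346538) F346535 (iv1 F206672) (iv5 D128510) (iv6 F320631) (iv1 D113131)
theorem E100052 : n136740 = n131008 := (c21_2 (iv5 F322267) (iv1 F219912) (iv5 D131008) F330902 (iv1 F214816) (iv6 F334637) (iv5 F142259) (iv1 F293278) F323376 (iv6 F336036) F346536)
theorem F346543 : act 0 n131008 = n126720 := (sb E100052 (iv1 F219917))
theorem F346544 : act 1 n131008 = n126719 := (sb E100052 F219912)
theorem F346545 : act 2 n131008 = n64279 := (sb E100052 (iv2 D136740))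
theorem F346546 : act 3 n131008 = n126713 := (sb E100052 F219909)
theorem F346547 : act 4 n131008 = n107058 := (sb E100052 F219910)
theorem F346548 : act 7 n131008 = n124634 := (sb E100052 (iv7 F330923))
theorem F346549 : act 6 n174603 = n131008 := d14_5 F346548 (iv6 D124634) (iv7 F118005) D83435 D174603
theorem F346550 : act 5 n140440 = n131007 := d16_5 F93859 (iv5 F78212) F78211 D65920 D140440 (iv4 D131007) D131008 F346548 F330920
theorem F346551 : act 7 n131007 = n133522 := d16_8 F209362 (iv5 F330915) F93859 (iv5 F78212) F78211 D65920 D140440 F346550 (iv2 F214779)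
theorem F346552 : act 0 n114481 = n140440 := d17_2 D185879 F288345 F346550 (iv4 D131007) D131008 F346544 F322267 (iv0 F346536) F336035
theorem F346553 : act 2 n136741 = n174603 := d3_3 F346549 F346545 D136741
theorem F346554 : act 7 n170734 = n136741 := d4_0 F346553 (iv7 D174603) (iv2 F298390)
theorem F346555 : act 1 n136741 = n174601 := d15_0 (iv0 D174601) D174603 (iv2 F346553)
theorem F346556 : act 5 n136741 = n170735 := d13_1 F346554 (iv7 D170735) D170734
theorem F346557 : act 1 n174602 = n136741 := d15_1 D174602 (iv7 F346554) F298390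
theorem F346558 : act 3 n174602 = n124503 := d20_5 F203913 (iv1 D64282) (iv4 F100087) (iv3 F219919) (iv1 F346557) F199146 (iv1 F309222) D127755 F318610 (iv1 F203911)
theorem F346559 : act 4 n177183 = n174602 := d5_0 F346558 F199146 F106716 D84425 D177183
theorem F346560 : act 6 n124498 = n174602 := d7_0 F346558 (iv6 D124503) (iv3 F199127)
theorem F346561 : act 3 n170735 = n136742 := d6_1 F346556 (iv5 D136742) (iv3 F219919)
theorem F346562 : act 0 n170735 = n181804 := d21_7 F346490 (iv1 F237101) (iv5 F237111) F337553 (iv1 D136739) D136741 F346556 F282979 F205389 D127766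
theorem F346563 : act 0 n177183 = n162586 := d18_2 (iv1 F346557) (iv4 F346559) (iv4 D162586) (iv5 D78073) (iv4 F119267) D162571 (iv4 F342202) (iv0 F346562) (iv5 F346556)
theorem F346564 : act 3 n128216 = n126706 := d20_5 (iv4 F346559) F346563 (iv4 D162586) F119268 D128216 F203913 (iv1 D64282) (iv4 F100087) (iv3 F219919) (iv1 F346557)
theorem F346565 : act 4 n144061 = n128216 := d5_0 F346564 F203913 F169548 (iv4 F175997) D144061
theorem F346566 : act 7 n144346 = n128216 := d8_0 F346564 F203912 D144346
theorem F346567 : act 0 n181589 = n90259 := d20_4 (iv4 F336059) F346562 F342202 F342201 (iv3 D90259) (iv4 D42188) D42186 F319805 (iv3 F336063) (iv1 F336066)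
theorem F346568 : act 1 n158394 = n181804 := d15_0 (iv0 F346562) (iv7 D170735) (iv2 F298184)
theorem F346569 : act 0 n165197 = n154367 := d20_4 (iv4 F342202) (iv1 F346568) F298185 (iv3 F260459) (iv3 D154367) (iv4 D73126) (iv1 F109253) (iv4 F206349) F206348 (iv1 F256812)
theorem E100053 : n181798 = n160594 := ((c21_11 (iv5 D181798) (iv1 D86824) D86826 D181804 (iv1 F346568) (iv6 D158394) F296652 (iv1 D35173) D35174 D76996 D160594)).symm
theorem F346570 : act 5 n160594 = n86824 := (sb E100053 (iv5 D181798))
theorem E100054 : n136469 = n136392 := (c17_6 F342682 (iv5 D160596) D160594 F346570 (iv4 F319243) D136469 (iv0 D136392) (iv5 D64121) D64119 D136387)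
theorem F346571 : act 2 n136392 = n124002 := (sb E100054 (iv2 F344855))
theorem F346572 : act 5 n136392 = n64155 := (sb E100054 (iv5 D136469))
theorem F346573 : act 6 n136392 = n123999 := (sb E100054 F344857)
theorem F346574 : act 5 n136450 = n167569 := d18_9 (iv1 D167569) F319552 (iv1 F342686) (iv4 F342671) F346570 (iv4 F319243) (iv0 D64155) (iv4 F99857) D136450
theorem F346575 : act 0 n177603 = n101671 := d21_4 (iv5 D160596) D160594 F346570 (iv6 F345849) (iv6 D101671) F304833 (iv1 F263158) F304816 F346445 F342682
theorem F346576 : act 2 n107711 = n136450 := d2_3 F346574 (iv2 F342689) F344860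
theorem F346577 : act 7 n107712 = n136450 := d13_0 F346574 (iv7 F342690) F344841
theorem E100055 : n136474 = n136393 := ((c17_7 (iv1 F219549) F346574 (iv1 D167569) (iv5 F325430) F99712 D64121 D136393 (iv5 D136474) F179698 F179694)).symm
theorem F346578 : act 3 n136393 = n124008 := (sb E100055 F344821)
theorem F346579 : act 5 n136393 = n64156 := (sb E100055 (iv5 D136474))
theorem F346580 : act 7 n136393 = n124002 := (sb E100055 F344822)
theorem E100056 : n137301 = n136450 := (c21_6 F264158 F300497 (iv5 F300736) F327825 (iv1 F100476) D137301 F346574 (iv1 D167569) (iv5 F325430) (iv6 F326293) (iv1 F300830))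
theorem E100057 : n126954 = n107711 := ((((iv2 F346576)).symm.trans (sb E100056 F220452))).symm
theorem F346581 : act 6 n136450 = n64532 := (sb E100056 (iv6 D137301))
theorem E100058 : n137938 = n136626 := ((((iv4 F219764)).symm.trans (sb E100057 (iv4 F221188)))).symm
theorem F346582 : act 6 n107711 = n59582 := (sb E100057 (iv6 D126954))
theorem F346583 : act 6 n136626 = n64826 := (sb E100058 (iv6 D137938))
theorem F346584 : act 7 n107711 = n136449 := d4_2 F346577 (iv2 F346576) (iv2 F344842)
theorem F346585 : act 0 n136470 = n99713 := d21_10 (iv5 D99713) (iv1 F321036) D83502 (iv6 F153212) F289575 (iv6 F328529) D64121 D136392 F346572 D136470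
theorem F346586 : act 4 n177603 = n136470 := d17_9 F346585 (iv5 D99713) (iv1 F321036) D83502 (iv4 F339167) (iv5 F339172) F333805 F333804 (iv0 F346575)
theorem F346587 : act 2 n136470 = n177620 := d1_1 F346586 (iv4 D177620) (iv2 F277070)
theorem E100059 : n138245 = n136470 := ((c9_2 D177603 F346586 (iv5 F334679) F213752 (iv5 F316544) (iv4 F327210) (iv5 F341713) F277082 (iv5 F277086) (iv4 F345495) F345496 D160322 F342109 (iv4 F345503) (iv5 F345504) (iv4 D177602))).symm
theorem F346588 : act 1 n136470 = n64937 := (sb E100059 (iv0 D138245))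
theorem F346589 : act 5 n136470 = n133102 := (sb E100059 (iv5 F334679))
theorem F346590 : act 7 n133102 = n137351 := d16_8 D160322 F342109 (iv4 F345503) (iv5 F345504) (iv4 D177602) D177603 F346586 F346589 F345498
theorem F346591 : act 4 n174828 = n101671 := d18_5 (iv1 F156709) F321038 (iv1 F128604) D83517 D174828 (iv0 F346575) F346586 F346588 F327150
theorem F346592 : act 7 n136066 = n177620 := d16_8 (iv4 F346586) (iv5 D177603) D177602 F345504 F345503 (iv5 F342109) (iv4 D160322) (iv5 F345496) (iv2 F346587)
theorem E100060 : n174828 = n138053 := (c20_3 (iv4 F346586) F346575 (iv4 F346591) (iv3 D138053) (iv1 D64874) F48893 F24116 D14478 D30508 D64937 (iv1 F346588))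
theorem F346593 : act 4 n138053 = n101671 := (sb E100060 F346591)
theorem F346594 : act 5 n138053 = n83517 := (sb E100060 (iv5 D174828))
theorem F346595 : act 5 n174817 = n177333 := d16_1 D174817 F276715 F333804 (iv4 F346593) F346594 (iv4 D83517) D83518 F329455 (iv2 F329454)
theorem F346596 : act 6 n101669 = n138053 := d10_0 F346593 (iv6 D101671) D101669
theorem F346597 : act 0 n124401 = n160352 := d20_1 D124401 (iv4 D160352) (iv3 F339057) (iv1 F219682) D138053 F346593 F341715 (iv4 F345495) F345494 F303346
theorem E100061 : n142036 = n138054 := ((c20_1 D138054 (iv1 D142036) (iv4 F103033) (iv3 F339062) (iv1 F307576) F307577 D124401 F346597 (iv4 D160352) (iv3 F339057) (iv1 F219682))).symm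
theorem F346598 : act 0 n138054 = n66610 := (sb E100061 (iv1 D142036))
theorem F346599 : act 1 n124401 = n115284 := d15_1 (iv0 F346597) (iv7 F245129) F341524
theorem F346600 : act 0 n137062 = n156300 := d20_4 (iv4 D124401) F301960 D160317 F344871 (iv3 D156300) (iv4 D74344) (iv1 F53514) (iv4 F84013) (iv3 F179545) (iv1 F346599)
theorem E100062 : n118134 = n99614 := ((c17_2 F346598 (iv5 F344030) (iv1 F185624) (iv5 F309228) (iv4 F341193) (iv5 D122668) F339034 (iv5 D64875) D64874 D138054)).symm
theorem F346601 : act 0 n99614 = n84347 := (sb E100062 (iv1 F185624))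
theorem F346602 : act 1 n99614 = n54419 := (sb E100062 (iv0 D118134))
theorem F346603 : act 1 n99615 = n137529 := d17_6 (iv1 F247541) (iv5 F316241) F346598 (iv5 F344030) (iv4 D99614) D99615 (iv5 F339099) (iv0 F339001) F166808
theorem E100063 : n179195 = n142040 := ((c20_8 F311426 D78385 F307238 (iv3 F316240) F346598 F102554 (iv4 F102555) D142040 (iv4 D179195) (iv3 D85520) (iv1 D39482))).symm
theorem F346604 : act 4 n142040 = n85520 := (sb E100063 (iv4 D179195))
theorem E100064 : n143070 = n139224 := (c20_2 (iv4 F103033) D143070 (iv4 D139224) F339084 (iv1 D85505) F60390 F311426 D78385 F307238 (iv3 F316240) F346598)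
theorem F346605 : act 1 n139224 = n67048 := (sb E100064 (iv0 D143070))
theorem F346606 : act 6 n99614 = n131262 := d21_3 (iv5 F316241) F346598 (iv5 F344030) (iv1 F313748) (iv6 D125214) F311357 (iv1 F47780) F46854 D49858 (iv1 F247541)
theorem E100065 : n181770 = n137895 := (c15_3 (iv0 F346598) F316239 D181770 F221127)
theorem F346607 : act 7 n137895 = n86812 := (sb E100065 (iv7 D181770))
theorem E100066 : n142035 = n138049 := ((c15_4 (iv0 D142035) (iv0 F346598) F333281 (iv2 F339046))).symm
theorem F346608 : act 1 n138049 = n66610 := (sb E100066 (iv0 D142035))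
theorem E100067 : n143590 = n118071 := ((c17_10 (iv1 D143590) F339049 (iv1 F219683) F339058 (iv4 F309201) (iv5 F339047) F346608 (iv5 F344030) F346602 (iv4 F185500))).symm
theorem F346609 : act 0 n118071 = n67236 := (sb E100067 (iv1 D143590))
theorem F346610 : act 4 n99625 = n107946 := d17_4 (iv1 F346605) (iv5 F339086) (iv1 F153319) (iv5 F153368) (iv5 D107946) D107945 (iv5 F339047) F346608 (iv4 F103033)
theorem F346611 : act 2 n159400 = n99625 := d1_3 F346610 F166809 (iv4 F250997)
theorem F346612 : act 6 n149486 = n99625 := d10_0 F346610 F166810 D149486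
theorem F346613 : act 3 n99738 = n149486 := d7_3 F346612 F153367 D99738
theorem E100068 : n159398 = n157612 := (c0_3 F346613 F235105 D159398 (iv2 F308454) F156128 (iv2 F153540))
theorem F346614 : act 3 n157612 = n76249 := (sb E100068 (iv3 D159398))
theorem F346615 : act 4 n157612 = n128040 := (sb E100068 F250992)
theorem F346616 : act 7 n157612 = n127972 := (sb E100068 F250993)
theorem E100069 : n102284 = n30153 := (c20_6 F107525 (iv1 F106664) D149486 (iv3 F346613) (iv1 F153542) D102284 F48490 F111193 D53436 F320621 D54718)
theorem E100070 : n63930 = n47468 := (((iv3 F99448)).symm.trans (sb E100069 (iv3 D102284)))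
theorem E100073 : n135965 = n102283 := ((((iv2 F157102)).symm.trans (sb E100070 (iv2 F218734)))).symm
theorem F346617 : act 3 n47468 = n30153 := (sb E100070 F99448)
theorem E100074 : n135941 = n102285 := (((D102285).symm.trans (sb E100070 (iv4 F218676)))).symm
theorem E100075 : n135972 = n102286 := (((D102286).symm.trans (sb E100070 D135972))).symm
theorem E100076 : n102287 = n30151 := ((D102287).symm.trans (sb E100070 (iv6 D63930)))
theorem E100077 : n135973 = n102278 := (((F157100).symm.trans (sb E100070 D135973))).symm
theorem F346618 : act 3 n102283 = n64362 := (sb E100073 F218735)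
theorem F346619 : act 6 n102283 = n63928 := (sb E100073 (iv6 D135965))
theorem F346620 : act 0 n102285 = n96210 := (sb E100074 F340531)
theorem F346621 : act 2 n102285 = n87948 := (sb E100074 F340528)
theorem F346622 : act 3 n102285 = n63919 := (sb E100074 F218675)
theorem F346623 : act 5 n102285 = n87947 := (sb E100074 F340529)
theorem F346624 : act 6 n102285 = n63918 := (sb E100074 (iv6 D135941))
theorem F346625 : act 7 n102285 = n144273 := (sb E100074 (iv7 F226962))
theorem F346626 : act 3 n102286 = n63935 := (sb E100075 F218740)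
theorem F346627 : act 6 n30151 = n47468 := (sb E100076 (iv6 D102287))
theorem F346628 : act 3 n102278 = n63936 := (sb E100077 F218741)
theorem F346629 : act 4 n102278 = n144273 := (sb E100077 (iv4 F226960))
theorem F346630 : act 6 n102278 = n64485 := (sb E100077 F218742)
theorem E100078 : n137157 = n102282 := (c3_2 F346630 (iv2 F220336) (iv6 D102282) D102278)
theorem F346631 : act 0 n102282 = n64483 := (sb E100078 (iv1 F220338))
theorem F346632 : act 1 n102282 = n64482 := (sb E100078 F220339)
theorem F346633 : act 2 n102282 = n64485 := (sb E100078 F220336)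
theorem F346634 : act 7 n102282 = n64477 := (sb E100078 (iv7 D137157))
theorem F346635 : act 7 n137156 = n100971 := d13_2 F346634 D137156 (iv5 F157101)
theorem F346636 : act 2 n100971 = n137189 := d4_1 F346635 (iv7 D137189) (iv2 F220335)
theorem E100079 : n137187 = n47051 := (c15_1 D137187 D100971 (iv7 F346635) F220335)
theorem E100080 : n100970 = n64484 := ((D100970).symm.trans (sb E100079 (iv1 D137187)))
theorem F346637 : act 1 n64484 = n47051 := (sb E100080 (iv0 D100970))
theorem F346638 : act 2 n100972 = n137186 := d15_3 (iv0 D137186) F346637 D100972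
theorem E100081 : n137172 = n87124 := (c21_8 (iv5 D43549) (iv1 F68058) (iv5 F292711) D47051 (iv1 F346637) (iv6 F220344) (iv5 D137174) D137172 (iv5 F295239) (iv6 D47935) F293192)
theorem E100082 : n182489 = n64481 := ((D182489).symm.trans (sb E100081 (iv0 D137172)))
theorem F346639 : act 0 n64481 = n87124 := (sb E100082 (iv1 D182489))
theorem F346640 : act 7 n137173 = n89193 := d15_2 (iv0 F346639) D137173 F295371
theorem F346641 : act 2 n137175 = n182488 := d15_3 (iv0 D182488) (iv0 F346639) D137175
theorem F346642 : act 7 n182488 = n137153 := d4_2 D137175 F346641 F220333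
theorem F346643 : act 1 n137173 = n182488 := d15_1 D137173 F346642 F220333
theorem F346644 : act 2 n182490 = n137173 := d15_3 F346643 (iv0 D182488) D182490
theorem F346645 : act 5 n100247 = n137173 := d13_3 F346640 F136891 D100247
theorem F346646 : act 5 n182490 = n103455 := d2_2 F346645 (iv2 F346644) F158762
theorem F346647 : act 7 n137186 = n93110 := d4_2 D100972 F346638 F292959
theorem F346648 : act 3 n184687 = n137186 := d8_3 F346647 F292960 D184687
theorem F346649 : act 5 n102020 = n137186 := d13_3 F346647 F292961 D102020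
theorem F346650 : act 6 n93109 = n137186 := d14_5 F346647 (iv6 D93110) (iv7 D43563) D43562 D93109
theorem F346651 : act 1 n100971 = n137186 := d15_1 D100971 F346647 F292959
theorem E100083 : n102020 = n101831 := ((c21_11 F346649 (iv1 F346651) (iv5 F157101) (iv6 D102282) (iv1 F153543) (iv6 D99738) F73573 (iv1 F34821) D22742 D47323 D101831)).symm
theorem F346652 : act 5 n101831 = n137186 := (sb E100083 F346649)
theorem F346653 : act 7 n101831 = n47386 := (sb E100083 (iv7 D102020))
theorem E100084 : n137180 = n101863 := ((c21_9 F157101 (iv1 D100971) (iv5 F153570) (iv6 D99756) (iv1 D46597) D46599 F73596 D89440 (iv5 F156994) (iv6 D137180) (iv1 F346632))).symm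
theorem F346654 : act 6 n101863 = n64482 := (sb E100084 (iv6 D137180))
theorem F346655 : act 2 n144273 = n102280 := d1_1 F346629 (iv4 D102280) D102278
theorem E100085 : n102278 = n99813 := ((c20_8 (iv4 D31398) (iv1 D14797) (iv4 F24445) (iv3 F49646) D67550 (iv3 F339162) F137116 D99813 F346629 (iv3 D144273) (iv1 F103470))).symm
theorem F346656 : act 2 n99813 = n47467 := (sb E100085 (iv2 D102278))
theorem F346657 : act 3 n99813 = n63936 := (sb E100085 F346628)
theorem F346658 : act 4 n99813 = n144273 := (sb E100085 F346629)
theorem F346659 : act 6 n99813 = n64485 := (sb E100085 F346630)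
theorem F346660 : act 7 n99813 = n47468 := (sb E100085 (iv7 F157100))
theorem E100086 : n102283 = n99814 := (c15_4 F153653 F153652 F346660 (iv2 F157102))
theorem F346661 : act 2 n99814 = n47468 := (sb E100086 F157102)
theorem F346662 : act 3 n99814 = n64362 := (sb E100086 F346618)
theorem F346663 : act 6 n99814 = n63928 := (sb E100086 F346619)
theorem F346664 : act 7 n99814 = n47467 := (sb E100086 (iv7 D102283))
theorem E100087 : n136924 = n102279 := ((c8_2 F346664 D102279 (iv7 D136924) (iv3 F346662))).symm
theorem F346665 : act 0 n102279 = n64367 := (sb E100087 (iv1 F220107))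
theorem F346666 : act 1 n102279 = n64366 := (sb E100087 F220108)
theorem F346667 : act 2 n102279 = n64369 := (sb E100087 F220105)
theorem F346668 : act 7 n102279 = n64362 := (sb E100087 (iv7 D136924))
theorem E100088 : n184413 = n99814 := (c10_4 F346663 (iv4 F218667) F331274 D184413)
theorem F346669 : act 4 n99814 = n87948 := (sb E100088 (iv4 D184413))
theorem F346670 : act 0 n97990 = n136526 := d21_1 (iv5 F151050) (iv5 D136526) (iv6 D64180) D64176 (iv6 F326615) F221252 (iv1 F218733) (iv5 D135964) (iv6 F346663) (iv1 D99814)
theorem F346671 : act 1 n101887 = n136526 := d15_0 (iv0 F346670) (iv7 F274881) F274879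
theorem E100089 : n101771 = n64177 := (c21_4 (iv5 F73569) (iv1 F155791) (iv5 F74536) D101771 (iv1 D64177) D64180 D136526 (iv1 F346671) (iv5 D101887) (iv6 D47343) (iv1 F73568))
theorem E100090 : n136516 = n101139 := ((D136516).symm.trans (sb E100089 F156641))
theorem E100091 : n136517 = n47303 := ((D136517).symm.trans (sb E100089 (iv6 D101771)))
theorem F346672 : act 5 n101139 = n64177 := (sb E100090 (iv5 D136516))
theorem F346673 : act 6 n47303 = n64177 := (sb E100091 (iv6 D136517))
theorem F346674 : act 6 n135882 = n99700 := d3_2 F346673 (iv2 F221980) (iv2 F155832)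
theorem F346675 : act 6 n136515 = n101770 := d10_2 F346673 D136515 (iv4 D101770)
theorem F346676 : act 3 n101770 = n138933 := d7_1 F346675 (iv6 D138933) (iv3 F219623)
theorem F346677 : act 4 n138933 = n181764 := d5_2 D101770 F346676 F282929 (iv4 F339121) (iv3 D101769)
theorem E100092 : n143790 = n138933 := (c20_5 F85008 F168096 D105743 F162376 D143790 (iv3 F346676) (iv4 D101770) (iv1 F74540) D47322 (iv3 F328193) (iv1 F168127))
theorem F346678 : act 1 n138933 = n67352 := (sb E100092 (iv0 D143790))
theorem F346679 : act 7 n116491 = n156874 := d15_2 F346678 (iv0 F321332) F246889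
theorem F346680 : act 5 n123546 = n181764 := d18_4 F317090 (iv4 F317092) (iv1 F197947) D123546 (iv4 F346677) F346678 (iv4 D67352) F325041 (iv5 F320424)
theorem F346681 : act 6 n150078 = n123546 := d12_0 F346680 (iv6 D181764) F236168 (iv6 D150079) D150078
theorem F346682 : act 4 n123548 = n150078 := d10_3 F346681 (iv4 D123546) D123548
theorem F346683 : act 0 n123546 = n177030 := d21_4 F96308 D70615 D150078 F346681 (iv6 D177030) (iv5 F191801) (iv1 F240935) F240933 F341997 (iv1 D131490)
theorem E100093 : n118135 = n99619 := ((c20_3 (iv4 F332517) (iv1 F153320) D99619 F197970 F346683 F276447 F129502 (iv1 F333752) (iv4 D155227) (iv3 F317231) (iv1 F222415))).symm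
theorem F346684 : act 0 n99619 = n54419 := (sb E100093 (iv1 D118135))
theorem F346685 : act 1 n99619 = n84347 := (sb E100093 F185617)
theorem F346686 : act 2 n99619 = n84345 := (sb E100093 F339107)
theorem F346687 : act 3 n99619 = n123546 := (sb E100093 F197970)
theorem E100094 : n143571 = n46561 := ((((iv4 D99619)).symm.trans (sb E100093 (iv4 F341197)))).symm
theorem F346688 : act 5 n99619 = n86812 := (sb E100093 F313323)
theorem F346689 : act 6 n99619 = n148899 := (sb E100093 F313324)
theorem F346690 : act 7 n99619 = n84344 := (sb E100093 F339108)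
theorem E100095 : n99620 = n67231 := ((D99620).symm.trans (sb E100094 (iv5 D143571)))
theorem E100096 : n143549 = n137529 := (((iv1 F226254)).symm.trans (sb E100095 (iv1 F339104)))
theorem F346691 : act 5 n67231 = n46561 := (sb E100095 (iv5 D99620))
theorem E100097 : n99615 = n67226 := (((iv1 F346603)).symm.trans (sb E100096 (iv1 D143549)))
theorem F346692 : act 1 n137529 = n67231 := (sb E100096 F226254)
theorem F346693 : act 1 n67226 = n137529 := (sb E100097 F346603)
theorem E100098 : n143551 = n46560 := ((D143551).symm.trans (sb E100097 (iv5 D99615)))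
theorem F346694 : act 5 n46560 = n67226 := (sb E100098 (iv5 D143551))
theorem F346695 : act 0 n153930 = n142394 := d20_1 F276448 (iv4 D142394) (iv3 F225274) F323797 (iv3 F332513) (iv4 F332517) (iv1 F153320) D99619 F346687 F346683
theorem F346696 : act 2 n124688 = n142394 := d15_3 (iv0 F346695) F333736 (iv7 F199463)
theorem F346697 : act 3 n142394 = n122993 := d0_2 D124688 F346696 (iv2 F197050) (iv3 D72971) (iv2 F190663)
theorem F346698 : act 7 n142394 = n154119 := d4_2 (iv7 F199463) F346696 (iv2 D154119)
theorem F346699 : act 1 n154118 = n142394 := d15_1 D154118 F346698 (iv2 D154119)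
theorem F346700 : act 2 n183400 = n154118 := d15_3 F346699 (iv0 F346695) (iv7 F345816)
theorem F346701 : act 3 n154118 = n89047 := d0_2 F345809 F346700 F268273 (iv3 F151914) (iv2 F345805)
theorem F346702 : act 6 n154118 = n89044 := d3_2 D183400 F346700 F268267
theorem F346703 : act 5 n154118 = n184246 := d21_6 F62134 (iv1 F34490) D40746 D87542 F232485 (iv6 F346702) (iv1 D184246) (iv5 D87882) (iv6 D41002) D41001
theorem E100099 : n184246 = n100130 := (c6_1 F346703 (iv3 D100130) (iv5 F136722) (iv3 F346701))
theorem F346704 : act 0 n100130 = n87882 := (sb E100099 (iv1 D184246))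
theorem F346705 : act 5 n100130 = n154118 := (sb E100099 (iv5 F346703))
theorem F346706 : act 0 n123047 = n121044 := d20_4 F190976 (iv1 F312425) F312427 (iv3 F197204) F334411 (iv4 F271109) (iv1 D172849) (iv4 F184763) (iv3 F346701) (iv1 D154118)
theorem F346707 : act 1 n123047 = n162709 := d15_1 (iv0 F346706) (iv7 F320205) F320202
theorem F346708 : act 1 n162709 = n101475 := d15_1 F346707 F303606 (iv2 F197203)
theorem F346709 : act 1 n101475 = n121044 := d15_1 F346708 F193030 (iv2 F256942)
theorem F346710 : act 0 n119384 = n120158 := d20_4 (iv4 F303605) (iv1 F346708) (iv4 D162709) (iv3 F344894) (iv3 F307776) F307777 F187414 F335247 F303616 (iv1 F317072)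
theorem F346711 : act 1 n128132 = n118113 := d17_8 F346710 (iv5 D120158) D120156 (iv5 F318556) (iv4 F335255) (iv5 F335249) F335256 (iv5 F335257) (iv4 F188073)
theorem F346712 : act 5 n119508 = n120225 := d18_4 F346710 (iv4 F308895) (iv1 F187811) (iv4 F188488) (iv4 D120225) (iv0 F188575) (iv4 F332078) F332077 (iv5 F344895)
theorem E100100 : n120142 = n110650 := (c21_1 D120142 (iv1 D110650) F327538 F326962 F332098 F301024 (iv5 F344895) F346710 (iv5 D120158) (iv6 D55290) D55286)
theorem F346713 : act 1 n110650 = n133683 := (sb E100100 (iv0 F215116))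
theorem F346714 : act 5 n110650 = n55286 := (sb E100100 (iv5 D120142))
theorem F346715 : act 7 n110650 = n166497 := (sb E100100 F330755)
theorem F346716 : act 2 n167547 = n110650 := d4_3 F346715 F330754 (iv7 F298337)
theorem E100101 : n176357 = n51021 := (c15_1 D176357 D110650 F346715 F330754)
theorem E100102 : n110649 = n84091 := ((D110649).symm.trans (sb E100101 (iv1 D176357)))
theorem F346717 : act 1 n84091 = n51021 := (sb E100102 (iv0 D110649))
theorem F346718 : act 5 n176359 = n110756 := d16_1 D176359 (iv4 D110756) F80527 F54249 D62761 F97916 (iv5 F346714) F346715 F330754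
theorem F346719 : act 1 n167547 = n110652 := d15_0 F330756 (iv7 F346715) (iv2 F346716)
theorem F346720 : act 0 n137280 = n176359 := d17_0 F346718 (iv1 F175869) (iv5 F336410) (iv4 F336407) (iv5 D118561) F186381 F344949 (iv0 F344954) (iv4 F220427)
theorem F346721 : act 6 n103720 = n176359 := d21_5 F33521 D22997 (iv5 F71594) (iv6 F312636) (iv1 F342453) F346718 (iv1 F175869) (iv5 F336410) (iv6 D95732) F70293
theorem F346722 : act 2 n176359 = n103723 := d3_1 F346721 (iv6 D103723) D103720
theorem F346723 : act 4 n176361 = n103720 := d10_3 F346721 (iv4 D176359) D176361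
theorem F346724 : act 2 n103721 = n176361 := d1_3 F346723 (iv2 D103720) D103721
theorem F346725 : act 3 n176364 = n178236 := d20_5 (iv4 F312635) (iv1 F342453) (iv4 F346723) F275656 D176364 (iv4 F337709) (iv1 F206164) F185062 D178537 F278239
theorem F346726 : act 4 n176364 = n114437 := d20_0 F206230 D115022 F179116 F340922 (iv3 F239270) (iv4 F312635) (iv1 F342453) (iv4 F346723) F275656 D176364
theorem E100103 : n114975 = n101922 := (c10_4 (iv6 F275660) F346726 F206243 D114975)
theorem F346727 : act 4 n101922 = n53053 := (sb E100103 (iv4 D114975))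
theorem E100104 : n172407 = n159506 := (((iv7 F274817)).symm.trans (sb E100103 F251204))
theorem F346728 : act 0 n159506 = n174491 := (sb E100104 F273375)
theorem E100105 : n114428 = n101905 := ((F251202).symm.trans (sb E100104 F274829))
theorem F346729 : act 5 n159506 = n82554 := (sb E100104 (iv5 D172407))
theorem F346730 : act 7 n159506 = n101922 := (sb E100104 F274817)
theorem F346731 : act 2 n101905 = n159506 := (sb E100105 (iv2 F251202))
theorem F346732 : act 3 n101905 = n72335 := (sb E100105 F178465)
theorem F346733 : act 4 n101905 = n52811 := (sb E100105 F178466)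
theorem F346734 : act 6 n101905 = n52810 := (sb E100105 (iv6 D114428))
theorem F346735 : act 7 n114434 = n176364 := d11_0 F346726 (iv7 D114437) (iv4 F178470)
theorem F346736 : act 0 n114053 = n176363 := d20_10 F275659 D176364 F346726 (iv3 F206227) (iv1 F339354) (iv3 D152230) D152231 F339228 F177555 (iv3 F177552)
theorem F346737 : act 3 n114182 = n176363 := d20_5 F339234 F322156 (iv4 F163342) F163341 D114182 F275659 D176364 F346726 (iv3 F206227) (iv1 F339354)
theorem F346738 : act 6 n176362 = n114182 := d7_0 F346737 (iv6 D176363) D176362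
theorem E100106 : n176365 = n128201 := ((c20_1 (iv4 F206340) (iv1 D176365) (iv4 F275659) (iv3 F346737) (iv1 F177953) F114329 F55107 (iv1 F37463) F177650 D53074 (iv1 F206233))).symm
theorem F346739 : act 0 n128201 = n84094 := (sb E100106 (iv1 D176365))
theorem E100107 : n127120 = n114182 := ((c20_6 D152231 F339228 F177555 (iv3 F177552) F346736 (iv3 F346737) (iv4 D127120) D127118 F297683 F193576 (iv1 F186266))).symm
theorem F346740 : act 4 n114182 = n59667 := (sb E100107 (iv4 D127120))
theorem E100108 : n116496 = n103720 := (c5_2 F346740 (iv3 F181808) (iv4 F346723) F275656 (iv4 F275659) (iv3 F346737))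
theorem F346741 : act 3 n103720 = n59667 := (sb E100108 F181808)
theorem F346742 : act 5 n103720 = n53689 := (sb E100108 (iv5 D116496))
theorem F346743 : act 4 n127111 = n176362 := d10_3 F346738 F346740 (iv6 F204364)
theorem F346744 : act 4 n114382 = n107313 := d18_5 D114182 F346740 D127118 F297683 F193577 (iv0 D107313) D107315 F339909 F94496
theorem F346745 : act 0 n102046 = n95302 := d18_0 F146946 D114182 F346740 (iv5 D59667) F45827 D28317 D59675 F163547 (iv5 F329744)
theorem F346746 : act 0 n103720 = n89451 := d20_4 F146946 D114182 F346740 (iv3 F346741) F137113 F64416 (iv1 F35336) D47395 D102046 F346745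
theorem F346747 : act 4 n164463 = n149662 := d20_0 (iv1 D149662) (iv4 F147489) (iv3 F312634) (iv1 F342453) F346741 (iv4 F346740) (iv1 F177953) (iv4 F251085) F251084 (iv1 F259116)
theorem F346748 : act 3 n164463 = n100794 := d20_3 D102269 F311506 (iv4 F346747) (iv1 D100794) F74213 F314846 (iv1 F105192) F319381 (iv3 F314182) (iv1 D102268)
theorem F346749 : act 5 n99677 = n127962 := d17_5 (iv1 D116495) (iv5 F346742) F346746 F137114 (iv4 F153487) F300970 (iv5 F317374) F317373 F225083
theorem F346750 : act 6 n97257 = n95904 := d21_5 F137114 D99810 F337158 (iv6 D97262) D97257 (iv5 F342258) F175872 (iv5 F346718) (iv6 F346721) F346746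
theorem F346751 : act 3 n150004 = n97257 := d7_3 F346750 (iv3 F342257) (iv6 F259001)
theorem F346752 : act 7 n95725 = n97257 := d14_0 F346750 (iv7 F342259) (iv6 D97084) F71563 D95725
theorem F346753 : act 2 n167806 = n99677 := d2_3 F346749 (iv2 F303433) D167806
theorem F346754 : act 7 n148996 = n99677 := d13_0 F346749 F300971 D148996
theorem E100109 : n118946 = n99811 := (c18_2 (iv1 F113927) D118946 (iv1 D99811) (iv4 F153487) F346749 F205931 (iv0 F299520) (iv4 D54727) (iv0 F113935) D26546)
theorem F346755 : act 4 n99811 = n54740 := (sb E100109 (iv4 D118946))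
theorem F346756 : act 7 n99811 = n72195 := (sb E100109 F187041)
theorem F346757 : act 2 n103756 = n99811 := d4_3 F346756 (iv2 F337149) F337160
theorem F346758 : act 3 n108174 = n99811 := d8_3 F346756 (iv3 F318274) D108174
theorem F346759 : act 6 n157236 = n99811 := d14_5 F346756 F316058 F79010 D74767 D157236
theorem F346760 : act 1 n103756 = n89450 := d15_0 F335757 (iv7 F346756) (iv2 F346757)
theorem F346761 : act 1 n99812 = n103756 := d15_0 F346760 (iv7 F137112) D99812
theorem F346762 : act 4 n118945 = n103756 := d18_5 (iv1 F274162) F274161 (iv1 F274061) F274059 (iv5 F187036) F346760 F335758 (iv0 F234192) F185773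
theorem F346763 : act 3 n119248 = n102169 := d20_3 (iv4 F346762) (iv1 F187039) (iv4 F187688) (iv1 D102169) (iv3 D47436) (iv4 D22786) (iv1 F34846) (iv4 F64411) (iv3 F137111) (iv1 F346760)
theorem F346764 : act 4 n102169 = n155662 := d5_2 (iv4 F187688) F346763 F244683 F110791 (iv3 F86818)
theorem E100110 : n176621 = n47827 := (c20_2 F328704 D176621 (iv4 D47827) (iv3 F36290) D48042 D103756 (iv4 F346762) (iv1 F187039) (iv4 F187688) F346763 (iv1 D102169))
theorem E100111 : n103200 = n84212 := ((D103200).symm.trans (sb E100110 (iv0 D176621)))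
theorem F346765 : act 0 n84212 = n47827 := (sb E100111 (iv1 D103200))
theorem F346766 : act 0 n130579 = n102169 := d20_4 F111188 (iv1 F82375) (iv4 F95738) (iv3 F209153) (iv3 F346763) F187688 (iv1 F86820) D72195 (iv3 F318274) F167022
theorem F346767 : act 5 n102169 = n95590 := d19_1 F346766 F314952 (iv3 D68792) (iv1 D31998) (iv5 D15090) (iv4 F24373) (iv3 F49475) (iv1 F317998) (iv5 D28620) (iv4 F46189) (iv3 F94759) (iv1 F331901) F331925 F166135 (iv3 F163587) (iv1 F77672) (iv5 F46638) (iv4 F95738) (iv3 F209153)
theorem F346768 : act 0 n103766 = n176112 := d20_7 F328302 (iv1 F289605) (iv4 F327918) (iv3 F129279) F346765 D103201 (iv4 F159194) (iv4 D176112) F128970 D84012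
theorem F346769 : act 7 n176622 = n103042 := d15_2 (iv0 F346765) D176622 F158277
theorem F346770 : act 2 n172056 = n103199 := d15_3 (iv0 D103199) (iv0 F346765) (iv7 F270146)
theorem F346771 : act 3 n103199 = n130523 := d0_2 (iv3 F270145) F346770 F328144 F129232 (iv2 F126934)
theorem F346772 : act 5 n103199 = n155099 := d2_2 D172056 F346770 F328941
theorem F346773 : act 7 n103199 = n174382 := d4_2 (iv7 F270146) F346770 F273230
theorem E100112 : n174382 = n130521 := (c8_1 F346773 F209089 D130523 (iv3 F346771))
theorem F346774 : act 0 n130521 = n103042 := (sb E100112 (iv1 F339828))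
theorem F346775 : act 1 n130521 = n103203 := (sb E100112 F339827)
theorem F346776 : act 2 n130521 = n84212 := (sb E100112 F273230)
theorem F346777 : act 5 n130521 = n83358 := (sb E100112 (iv5 D174382))
theorem F346778 : act 7 n130521 = n103199 := (sb E100112 (iv7 F346773))
theorem F346779 : act 4 n130579 = n103199 := d11_3 (iv7 F346778) F209090 D130579
theorem F346780 : act 1 n176622 = n103199 := d15_1 D176622 (iv7 F346778) F346776
theorem F346781 : act 2 n103203 = n176622 := d15_3 F346780 (iv0 D103199) D103203
theorem F346782 : act 4 n103043 = n176622 := d18_7 F328939 (iv4 F189170) (iv1 F189171) D172797 F334511 (iv4 D103197) F158282 F346780 F346772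
theorem F346783 : act 0 n95293 = n130579 := d18_0 F346779 (iv1 F346780) (iv4 F346782) F158280 F317107 F315749 (iv4 F332539) (iv0 D95291) D95293
theorem F346784 : act 5 n176622 = n158326 := d21_2 (iv5 F346772) (iv1 F346780) (iv6 D158326) (iv1 D75483) (iv6 D34541) D34540 (iv1 F110297) (iv5 F110300) D82730 (iv1 F328940)
theorem F346785 : act 0 n158326 = n167783 := d17_2 (iv1 F346780) F346784 (iv5 F339823) F156951 F329955 F317103 (iv5 F346767) (iv0 F346766) F346779
theorem F346786 : act 5 n130579 = n127672 := d17_3 F317102 D95293 F346783 F205276 (iv5 F315761) (iv0 D103143) (iv5 D47813) (iv0 F317061) (iv4 F94321)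
theorem F346787 : act 4 n155658 = n95293 := d20_6 F219434 (iv1 F112190) D105608 F329466 D128116 (iv3 F336308) F346783 F346779 F346771 (iv1 F219432)
theorem F346788 : act 2 n99801 = n130579 := d15_3 (iv0 F346783) F339715 (iv7 F153638)
theorem E100113 : n130576 = n95589 := ((c15_1 F337132 (iv0 D130576) D130579 (iv2 F346788))).symm
theorem F346789 : act 1 n95589 = n61262 := (sb E100113 (iv0 D130576))
theorem F346790 : act 4 n95888 = n130578 := d16_6 F337131 (iv5 D172056) F126932 (iv5 F334575) (iv4 F310998) (iv5 F199193) (iv5 D130578) D130579 (iv2 F346788)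
theorem F346791 : act 2 n130578 = n89414 := d1_1 F346790 (iv4 F345662) (iv2 F345667)
theorem F346792 : act 6 n130578 = n95886 := d10_2 D95888 F346790 (iv4 D95886)
theorem F346793 : act 7 n130578 = n127672 := d11_2 (iv7 F308817) F346790 F205276
theorem F346794 : act 5 n130577 = n95294 := d17_7 (iv1 F91933) (iv5 F158416) (iv1 F199192) (iv5 F199193) F346790 (iv5 D130578) D130577 F147258 F315634
theorem F346795 : act 0 n130578 = n95476 := d17_0 F339838 (iv1 D102026) F329955 F94321 (iv5 F94306) (iv0 F243304) F183275 (iv0 F308815) F346790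
theorem E100114 : n155659 = n103192 := ((c18_6 F346795 F339837 D146714 (iv4 F334502) F334503 D103192 (iv0 D155659) (iv4 F329941) F346789 D130578)).symm
theorem F346796 : act 1 n103192 = n74051 := (sb E100114 (iv0 D155659))
theorem F346797 : act 1 n186551 = n95476 := d15_0 (iv0 F346795) F346793 (iv2 F337128)
theorem E100115 : n174385 = n126654 := ((c17_10 (iv1 D174385) (iv5 D83359) (iv1 F184739) D172056 (iv4 F337131) (iv5 F289480) F346797 F339838 F339833 F206745)).symm
theorem F346798 : act 0 n126654 = n83359 := (sb E100115 (iv1 D174385))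
theorem F346799 : act 1 n130577 = n99801 := d17_6 D146714 F243016 (iv1 F231172) F105427 (iv4 F317104) (iv5 F346794) (iv5 F289480) F346797 F339837
theorem F346800 : act 0 n186546 = n145998 := d20_4 (iv4 F339837) (iv1 F346797) (iv4 F337127) (iv3 F337129) F229225 D146007 F338693 F338679 F317669 F243019
theorem F346801 : act 4 n145998 = n183990 := d20_0 (iv1 F345988) (iv4 D148546) F105891 F51347 (iv3 F104967) (iv4 F339837) (iv1 F346797) (iv4 F337127) (iv3 F337129) F346800
theorem F346802 : act 5 n184215 = n112088 := d21_6 F289480 (iv1 F346799) F346794 (iv6 F147271) (iv1 F147273) D184215 (iv1 D112088) F337310 D95476 (iv1 F346797)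
theorem E100116 : n184215 = n177165 := ((c17_5 D81693 (iv5 F341028) (iv1 F245763) (iv5 F341029) (iv4 F276574) F346802 (iv0 F337328) (iv5 D95470) (iv0 D44599) (iv4 F58275))).symm
theorem F346803 : act 5 n177165 = n112088 := (sb E100116 F346802)
theorem E100117 : n87861 = n84420 := ((((iv6 D177165)).symm.trans (sb E100116 (iv6 D184215)))).symm
theorem E100118 : n177145 = n40979 := (((iv1 F276561)).symm.trans (sb E100117 (iv1 D87861)))
theorem E100119 : n177144 = n95596 := ((F276565).symm.trans (sb E100117 F147273))
theorem E100125 : n87860 = n84415 := ((D87860).symm.trans (sb E100118 (iv1 D177145)))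
theorem F346804 : act 1 n40979 = n84420 := (sb E100118 F276561)
theorem F346805 : act 0 n95596 = n84420 := (sb E100119 (iv1 F276565))
theorem F346806 : act 0 n84415 = n95596 := (sb E100125 (iv1 F147274))
theorem F346807 : act 1 n84415 = n40979 := (sb E100125 (iv0 D87860))
theorem E100128 : n184209 = n177147 := (((D177147).symm.trans (sb E100125 D184209))).symm
theorem F346808 : act 4 n177147 = n111083 := (sb E100128 (iv4 F340518))
theorem F346809 : act 6 n177147 = n111081 := (sb E100128 F340517)
theorem E100130 : n177152 = n156801 := ((c18_3 F315361 (iv4 F111981) D156801 (iv4 D177152) (iv5 D84416) D84415 F346807 (iv4 F125484) F321384 (iv5 F317722))).symm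
theorem F346810 : act 4 n156801 = n84416 := (sb E100130 (iv4 D177152))
theorem E100131 : n147168 = n119132 := (c20_8 (iv4 D84415) (iv1 F75497) F75493 F36292 (iv1 F75027) (iv3 F319384) F110938 D147168 F304284 F134847 (iv1 F346807))
theorem F346811 : act 1 n119132 = n68997 := (sb E100131 (iv0 D147168))
theorem E100132 : n156801 = n153715 := (c20_1 (iv4 F346810) (iv1 D153715) F109217 (iv3 F86824) F318260 (iv3 F318396) D117911 F184923 F130686 (iv3 F201179) F341037)
theorem F346812 : act 1 n153715 = n74573 := (sb E100132 (iv0 D156801))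
theorem F346813 : act 4 n153715 = n84416 := (sb E100132 F346810)
theorem F346814 : act 0 n170411 = n95341 := d18_2 (iv1 F341036) (iv4 F267881) F318904 F105013 (iv4 F109217) D153715 F346813 (iv0 F341037) F201180
theorem F346815 : act 1 n145532 = n177174 := d18_6 D38924 D84415 F346806 (iv4 F317105) F324915 D145532 (iv4 D177174) (iv0 D84423) (iv5 D38926)
theorem F346816 : act 0 n117270 = n149654 := d20_4 D84415 F346806 (iv4 F317105) F313060 (iv3 D149654) (iv4 D70283) (iv1 D32617) (iv4 F51668) F51667 D38924
theorem F346817 : act 4 n102517 = n117270 := d20_6 (iv4 D33790) D33788 D73493 (iv3 F309579) (iv1 F74747) D102517 F346816 (iv4 F243662) (iv3 D154955) (iv1 D73502)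
theorem F346818 : act 6 n149654 = n116446 := d21_5 D148521 (iv1 F233281) (iv5 D117269) D117270 F346816 F181648 F313725 (iv5 F130443) F183645 (iv1 F183648)
theorem E100133 : n149654 = n138971 := (c21_11 (iv5 D138971) (iv1 D65234) D65235 F315527 (iv1 F85639) D69604 D148521 (iv1 F233281) (iv5 D117269) D117270 F346816)
theorem F346819 : act 1 n138971 = n117270 := (sb E100133 (iv0 F346816))
theorem F346820 : act 2 n138971 = n151282 := (sb E100133 F345712)
theorem F346821 : act 3 n138971 = n70283 := (sb E100133 (iv3 D149654))
theorem F346822 : act 4 n138971 = n154955 := (sb E100133 (iv4 F243662))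
theorem F346823 : act 6 n138971 = n116446 := (sb E100133 F346818)
theorem F346824 : act 7 n138971 = n146662 := (sb E100133 (iv7 F315201))
theorem F346825 : act 1 n158953 = n138971 := d15_0 F346819 F345710 (iv2 F310205)
theorem F346826 : act 5 n102535 = n138975 := d17_3 F284557 F284556 (iv1 F157491) (iv4 D138975) (iv5 D65235) D65234 D138971 F346819 (iv4 F346817)
theorem F346827 : act 2 n138975 = n102536 := d2_1 F346826 (iv5 D102536) D102535
theorem F346828 : act 7 n138975 = n117230 := d13_2 F293554 F346826 F346302
theorem F346829 : act 4 n138943 = n89907 := d16_6 F160376 F346826 (iv4 D138975) (iv5 D65235) (iv4 F100981) D138943 F138053 F76106 D104695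
theorem E100134 : n139663 = n104800 := (c19_11 (iv1 F157491) F346826 (iv4 D138975) F100984 (iv1 F49197) (iv5 D30733) F24225 (iv3 F24220) D30722 D65547 D139663 (iv3 D104800) (iv1 F76208) (iv5 D44545) (iv4 D21185) F66713 (iv1 F16231) F291120 D42779 D91408)
theorem F346830 : act 0 n104800 = n103090 := (sb E100134 (iv1 F340583))
theorem F346831 : act 2 n104800 = n112145 := (sb E100134 F222835)
theorem F346832 : act 4 n104800 = n65547 := (sb E100134 (iv4 D139663))
theorem F346833 : act 6 n104800 = n112099 := (sb E100134 F222836)
theorem E100135 : n112269 = n104633 := (((F160615).symm.trans (sb E100134 F222837))).symm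
theorem F346834 : act 2 n104633 = n139666 := (sb E100135 (iv2 F222838))
theorem F346835 : act 4 n104633 = n51784 := (sb E100135 F174626)
theorem F346836 : act 6 n104633 = n51783 := (sb E100135 (iv6 D112269))
theorem E100136 : n112267 = n104635 := (c7_2 F346836 D112267 (iv6 D104635) D104633)
theorem F346837 : act 3 n104635 = n51783 := (sb E100136 (iv3 D112267))
theorem F346838 : act 6 n112268 = n95532 := d12_2 F346836 D112268 (iv5 D95532) (iv6 F137923) (iv5 F160334)
theorem F346839 : act 0 n89858 = n125664 := d21_7 D50439 (iv1 F99659) (iv5 D64065) D64066 F172747 (iv6 F346836) F160334 (iv5 D125664) (iv6 D58843) F45237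
theorem F346840 : act 3 n95534 = n112268 := d7_3 F346838 F147159 D95534
theorem F346841 : act 3 n176845 = n96011 := d0_4 F346837 (iv2 F174537) F326838 D176845 (iv2 F160338)
theorem E100137 : n176874 = n104635 := ((c20_4 F39558 D25142 D51783 (iv3 F346837) (iv1 D176874) (iv3 D84318) D84319 (iv1 F254181) (iv4 F326846) (iv3 D112259) (iv1 D51778))).symm
theorem F346842 : act 0 n104635 = n84318 := (sb E100137 (iv1 D176874))
theorem F346843 : act 1 n104635 = n164842 := (sb E100137 F276246)
theorem F346844 : act 7 n176873 = n96011 := d15_2 F346843 F276245 (iv2 F160338)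
theorem E100138 : n176873 = n176851 := ((c8_4 F346844 (iv3 F346841) (iv7 F276224) D176851)).symm
theorem F346845 : act 0 n176851 = n164842 := (sb E100138 (iv1 F276245))
theorem F346846 : act 1 n176851 = n84318 := (sb E100138 (iv0 D176873))
theorem F346847 : act 7 n176851 = n96011 := (sb E100138 F346844)
theorem F346848 : act 5 n96012 = n176851 := d13_3 F346847 (iv5 D96011) D96012
theorem F346849 : act 3 n176853 = n96012 := d6_3 F346848 (iv3 D176851) D176853
theorem E100139 : n176853 = n67559 := ((c8_1 F306990 F346849 (iv7 D96012) (iv3 F147635))).symm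
theorem E100140 : n144221 = n96012 := (((iv3 F226917)).symm.trans (sb E100139 F346849))
theorem E100141 : n144224 = n84308 := ((D144224).symm.trans (sb E100139 (iv5 D176853)))
theorem F346850 : act 3 n96012 = n67559 := (sb E100140 F226917)
theorem F346851 : act 6 n96012 = n67558 := (sb E100140 (iv6 D144221))
theorem E100142 : n176850 = n117021 := (((iv2 F276227)).symm.trans (sb E100141 F226919))
theorem F346852 : act 5 n84308 = n67559 := (sb E100141 (iv5 D144224))
theorem E100143 : n176854 = n107487 := ((D176854).symm.trans (sb E100141 F226920))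
theorem F346853 : act 2 n117021 = n84308 := (sb E100142 F276227)
theorem F346854 : act 7 n117021 = n84307 := (sb E100142 (iv7 D176850))
theorem F346855 : act 6 n107487 = n84308 := (sb E100143 (iv6 D176854))
theorem F346856 : act 0 n111982 = n130547 := d21_10 (iv5 D130547) F95724 D107487 F346855 (iv1 D84308) F326186 D136297 F342872 (iv5 D111981) D111982
theorem F346857 : act 5 n126178 = n111982 := d21_6 (iv5 F77742) F77743 F76747 D52194 F168322 (iv6 F202908) F346856 (iv5 D130547) (iv6 D61252) F46626
theorem F346858 : act 3 n111986 = n126178 := d6_3 F346857 F174035 D111986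
theorem F346859 : act 6 n111981 = n127339 := d12_4 (iv6 F202908) F346857 (iv6 D111982) D111981 (iv5 D127339)
theorem F346860 : act 3 n127339 = n111983 := d7_1 F346859 (iv6 D111983) (iv3 F174033)
theorem F346861 : act 5 n111983 = n116806 := d6_2 D127339 F346860 F182374
theorem F346862 : act 6 n116806 = n111986 := d12_2 D111983 F346861 (iv5 D111986) (iv6 D51647) D51646
theorem F346863 : act 7 n143792 = n111983 := d13_0 F346861 F182375 D143792
theorem F346864 : act 4 n111986 = n116808 := d10_1 F346862 (iv6 D116808) D116806
theorem E100144 : n117021 = n112270 := ((c8_4 F346854 (iv3 F326838) F174538 D112270)).symm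
theorem F346865 : act 2 n112270 = n84308 := (sb E100144 F346853)
theorem F346866 : act 5 n112270 = n53930 := (sb E100144 (iv5 D117021))
theorem F346867 : act 6 n112270 = n53932 := (sb E100144 F182960)
theorem F346868 : act 7 n112270 = n84307 := (sb E100144 F346854)
theorem F346869 : act 7 n176847 = n113413 := d11_2 F346868 D176847 F176601
theorem F346870 : act 3 n105222 = n176847 := d8_3 F346869 (iv3 D113413) F165506
theorem E100145 : n180785 = n109090 := (c20_1 (iv4 F281412) (iv1 D109090) (iv4 F161184) F161183 (iv1 F165570) F346870 (iv4 D176847) (iv1 F250175) (iv4 F254499) (iv3 F262132) (iv1 F262136))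
theorem F346871 : act 3 n109090 = n86345 := (sb E100145 (iv3 D180785))
theorem F346872 : act 4 n109090 = n163411 := (sb E100145 F281412)
theorem F346873 : act 7 n109090 = n180483 := (sb E100145 F281413)
theorem F346874 : act 2 n180483 = n109089 := d15_3 (iv0 D109089) D109090 F346873
theorem F346875 : act 4 n109089 = n163410 := d1_2 (iv4 F280908) F346874 (iv2 F262248)
theorem F346876 : act 6 n174092 = n109090 := d7_0 F346871 (iv6 F330715) D174092
theorem E100146 : n117015 = n112097 := (c7_2 F346867 (iv3 F182952) F174276 D112270)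
theorem F346877 : act 3 n112097 = n53932 := (sb E100146 F182952)
theorem F346878 : act 5 n112097 = n53928 := (sb E100146 (iv5 D117015))
theorem E100147 : n125736 = n117028 := ((c10_2 F346867 D117028 F202231 F176601)).symm
theorem F346879 : act 3 n117028 = n58873 := (sb E100147 (iv3 D125736))
theorem F346880 : act 6 n117028 = n113413 := (sb E100147 F202231)
theorem F346881 : act 3 n125737 = n170243 := d6_3 (iv5 F343938) F346879 D125737
theorem F346882 : act 4 n125852 = n117027 := d20_6 (iv4 D107515) (iv1 F78452) D58883 (iv3 F326939) F326456 (iv3 F202352) (iv1 D117027) D117028 F346879 (iv1 F165880)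
theorem E100148 : n158855 = n117027 := ((c5_1 F346882 (iv3 D158855) (iv4 F122689) (iv3 F122688) (iv4 F325641) (iv3 F202352))).symm
theorem F346883 : act 3 n117027 = n75800 := (sb E100148 (iv3 D158855))
theorem F346884 : act 6 n117027 = n109513 := d10_2 D125852 F346882 (iv4 F169469)
theorem F346885 : act 7 n117027 = n160638 := d11_2 (iv7 F326457) F346882 (iv4 F296355)
theorem F346886 : act 2 n160638 = n117026 := d15_3 (iv0 D117026) D117027 F346885
theorem F346887 : act 6 n117026 = n160643 := d3_2 (iv6 F253749) F346886 (iv2 D160643)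
theorem F346888 : act 2 n155969 = n117027 := d3_3 F346884 F174372 D155969
theorem F346889 : act 7 n117026 = n155969 := d4_0 F346888 F346885 F346886
theorem F346890 : act 6 n109512 = n166680 := d14_3 F346889 (iv6 D155969) (iv7 F174374) F262332 (iv6 F346887)
theorem E100149 : n117010 = n112138 := (c2_2 F346878 (iv2 F182948) (iv5 D112138) (iv2 F174275))
theorem F346891 : act 0 n112138 = n140878 := (sb E100149 F223937)
theorem F346892 : act 2 n112138 = n53928 := (sb E100149 F182948)
theorem F346893 : act 4 n112138 = n53949 := (sb E100149 F182949)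
theorem F346894 : act 6 n112138 = n53926 := (sb E100149 (iv6 D117010))
theorem E100150 : n117012 = n112271 := (c12_5 (iv6 F174276) F346878 (iv6 D53928) D53927 D117012 (iv5 D112271))
theorem F346895 : act 3 n112271 = n53930 := (sb E100150 F182951)
theorem F346896 : act 6 n112271 = n53927 := (sb E100150 (iv6 D117012))
theorem E100151 : n117016 = n112144 := (c13_3 (iv7 F174277) F346878 D117016 (iv5 D112144))
theorem F346897 : act 1 n112144 = n140878 := (sb E100151 (iv0 F223936))
theorem F346898 : act 3 n112144 = n53933 := (sb E100151 F182953)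
theorem F346899 : act 4 n112144 = n53953 := (sb E100151 F182954)
theorem F346900 : act 6 n112144 = n54747 := (sb E100151 (iv6 F320508))
theorem F346901 : act 7 n112144 = n53928 := (sb E100151 (iv7 D117016))
theorem F346902 : act 5 n117083 = n156302 := d16_5 D112097 F346878 F85061 D53952 D117083 F245612 F111542 F99280 (iv2 F99277)
theorem F346903 : act 5 n117014 = n109289 := d17_7 D50435 D109294 F174284 (iv5 D112098) D112097 F346878 D117014 (iv0 D109289) F79810
theorem F346904 : act 5 n117013 = n109290 := d21_2 F346878 D117013 F175102 (iv1 D111803) (iv6 D51552) D51551 (iv1 F110927) (iv5 D74174) D74175 F174278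
theorem F346905 : act 6 n142132 = n155954 := d21_5 (iv5 F181606) (iv1 F181768) (iv5 D116478) (iv6 F337686) F337682 (iv5 D155954) F174278 F346878 (iv6 D53928) D53924
theorem F346906 : act 4 n155954 = n142134 := d10_1 F346905 (iv6 D142134) D142132
theorem F346907 : act 5 n155953 = n142132 := d12_5 F346905 (iv5 D155954) (iv6 D74175) D74174 D155953
theorem F346908 : act 0 n97262 = n155953 := d19_0 F346907 (iv4 D142132) (iv3 D66644) F319289 (iv5 D60149) D60148 F301513 (iv1 F151632) (iv5 F320019) (iv4 F326045) F167355 F79072 F45507 (iv4 F79944) D109674 F342461 (iv5 F334486) F150022 (iv3 F150018)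
theorem F346909 : act 5 n111984 = n157226 := d21_2 (iv5 D111986) D111984 (iv6 D157226) (iv1 F314313) (iv6 F337151) F337158 F346908 F346907 F346905 F244976
theorem E100152 : n89447 = n48033 := (c21_11 D103722 F337682 (iv5 F346907) (iv6 D155953) F110926 F314292 F70341 (iv1 F36252) (iv5 F71597) (iv6 F310448) D89447)
theorem E100153 : n103719 = n41767 := ((D103719).symm.trans (sb E100152 (iv0 D89447)))
theorem F346910 : act 0 n41767 = n48033 := (sb E100153 (iv1 D103719))
theorem F346911 : act 0 n155977 = n103723 := d21_4 (iv5 D51558) (iv1 F81338) (iv5 F110946) D155977 (iv6 D103723) D103722 F337682 (iv5 F346907) (iv6 D155953) F110926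
theorem F346912 : act 4 n103723 = n166497 := d18_3 (iv1 F344958) (iv4 F245017) F346911 F330752 F186451 F96301 D61697 F96291 D118484
theorem F346913 : act 3 n166497 = n144823 := d20_3 (iv4 F245017) F346911 F346912 (iv1 F230746) (iv3 F282976) (iv4 D181803) D181801 (iv4 F346448) F334739 (iv1 F344958)
theorem F346914 : act 6 n144823 = n166491 := d7_2 D166497 F346913 F262040
theorem F346915 : act 3 n147150 = n110650 := d8_3 F346715 F346913 (iv7 F230736)
theorem F346916 : act 4 n166491 = n103727 := d10_1 F346914 F308700 D144823
theorem E100154 : n103721 = n79921 := (c5_5 F346916 (iv3 D103727) (iv4 D48034) D48033 D103721 (iv3 F262040))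
theorem E100155 : n176361 = n166481 := ((((iv2 F262035)).symm.trans (sb E100154 F346724))).symm
theorem E100156 : n166496 = n48033 := ((D166496).symm.trans (sb E100154 (iv4 D103721)))
theorem E100157 : n166462 = n157705 := (((iv7 F262021)).symm.trans (sb E100154 (iv7 F340702)))
theorem F346917 : act 3 n166481 = n84094 := (sb E100155 F275656)
theorem F346918 : act 4 n166481 = n103720 := (sb E100155 F346723)
theorem F346919 : act 6 n166481 = n84091 := (sb E100155 (iv6 D176361))
theorem F346920 : act 4 n48033 = n79921 := (sb E100156 (iv4 D166496))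
theorem F346921 : act 2 n157705 = n79916 := (sb E100157 F262020)
theorem F346922 : act 5 n157705 = n79913 := (sb E100157 (iv5 D166462))
theorem F346923 : act 7 n157705 = n79921 := (sb E100157 F262021)
theorem E100158 : n166478 = n146143 := (c19_5 D124886 (iv5 F308699) (iv4 F346916) F262040 (iv1 F262034) F318783 F304736 (iv3 D58694) (iv1 F45066) (iv5 F51195) (iv4 D32286) (iv3 F51193) (iv1 F317234) F86272 (iv4 F115043) (iv3 F309862) (iv1 F200974) F104744 F92377 (iv3 F92223))
theorem F346924 : act 0 n146143 = n79916 := (sb E100158 (iv1 D166478))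
theorem F346925 : act 1 n146143 = n79921 := (sb E100158 F262034)
theorem F346926 : act 6 n121678 = n131469 := d21_9 (iv5 D61710) (iv1 F96299) F330834 (iv6 F330835) F330769 (iv6 D79922) D79921 (iv1 F346925) F318783 (iv1 F210736)
theorem F346927 : act 0 n163190 = n112712 := d21_7 D79921 (iv1 F346925) F318783 F346926 (iv1 F210736) D131497 (iv5 F330812) (iv5 D112712) (iv6 F326496) (iv1 F122660)
theorem F346928 : act 0 n120992 = n121678 := d21_4 (iv5 F334322) F334318 (iv5 F326015) D120992 F346926 F312921 (iv1 F312917) F330830 (iv6 D79683) (iv1 F119844)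
theorem F346929 : act 2 n166523 = n121091 := d15_3 F344888 (iv0 F346928) F342278
theorem E100159 : n166520 = n166513 := ((c2_3 D166523 F346929 F262048 F262051)).symm
theorem F346930 : act 2 n166513 = n79927 := (sb E100159 F262051)
theorem F346931 : act 7 n166513 = n79926 := (sb E100159 (iv7 D166520))
theorem E100160 : n121097 = n121087 := ((c3_4 F262052 F346929 (iv6 D121091) D121087)).symm
theorem F346932 : act 0 n121087 = n55878 := (sb E100160 (iv1 F193126))
theorem F346933 : act 1 n121087 = n55876 := (sb E100160 (iv0 D121097))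
theorem F346934 : act 4 n121087 = n174825 := (sb E100160 F345763)
theorem F346935 : act 6 n121087 = n166523 := (sb E100160 F262052)
theorem F346936 : act 7 n121091 = n166147 := d4_2 F342278 F346929 F330773
theorem F346937 : act 1 n166149 = n121091 := d15_1 F342279 F346936 F330773
theorem F346938 : act 4 n152951 = n166513 := d16_6 (iv4 F344889) F151595 F125770 F58347 D72195 D152951 (iv5 F262048) F346936 F330773
theorem F346939 : act 2 n166522 = n152951 := d1_3 F346938 F346930 D166522
theorem F346940 : act 7 n166517 = n152951 := d11_0 F346938 F346931 D166517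
theorem F346941 : act 5 n103718 = n152950 := d17_1 D103718 (iv1 D152950) D152951 F346938 (iv5 F262048) F344888 (iv5 F318783) F346925 (iv4 F346920)
theorem F346942 : act 3 n152951 = n108173 := d19_3 (iv1 F344888) F262048 (iv4 F346938) (iv1 F204365) (iv5 D127114) F163598 (iv3 F163600) (iv1 F165273) F165270 F328145 F129232 (iv1 F301022) (iv5 D80513) F57606 F28770 (iv1 F43751) (iv5 F43748) D56205 D121678
theorem F346943 : act 5 n99811 = n166517 := d13_3 F346940 (iv5 D152951) (iv7 F346756)
theorem E100161 : n166523 = n166148 := (c16_2 (iv4 D166522) D166523 (iv4 F323856) F249619 F201139 F130165 (iv4 F346755) F346943 F346940 (iv2 F346939))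
theorem F346944 : act 2 n166148 = n121091 := (sb E100161 F346929)
theorem F346945 : act 5 n166148 = n79927 := (sb E100161 (iv5 D166523))
theorem F346946 : act 6 n166148 = n121087 := (sb E100161 (iv6 F346935))
theorem F346947 : act 7 n166148 = n120992 := (sb E100161 (iv7 F342278))
theorem E100162 : n166522 = n97262 := (c16_5 (iv4 F201139) (iv5 F249619) F323856 F346945 D166522 (iv5 F337158) F337150 (iv5 F86815) D84931 F130176)
theorem F346948 : act 2 n97262 = n152951 := (sb E100162 F346939)
theorem F346949 : act 4 n97262 = n79927 := (sb E100162 (iv4 D166522))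
theorem F346950 : act 0 n119236 = n166148 := d17_0 F346945 (iv1 D79927) (iv5 D36405) (iv4 F56935) F321399 (iv0 F318020) F325406 F324253 D119236
theorem F346951 : act 6 n131375 = n119236 := d21_9 F346945 (iv1 D79927) (iv5 D36405) F28557 D17598 D36452 (iv5 F330826) (iv1 F96245) D131375 F346950
theorem F346952 : act 4 n166147 = n158444 := d9_9 (iv5 F346945) (iv4 F323856) F249619 F201139 F130165 (iv4 F346755) F346943 (iv4 D166517) (iv5 F330774) (iv5 F249645) F189977 F86815 (iv4 F337150) F337158 F346949
theorem F346953 : act 6 n158444 = n162408 := d10_2 (iv6 F330775) F346952 F256612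
theorem E100163 : n166299 = n158445 := ((c20_3 F346952 (iv1 D158444) D158445 (iv3 D166299) (iv1 D79856) (iv3 D36375) (iv4 D17561) (iv1 F28539) D36333 D79779 D166147)).symm
theorem F346954 : act 3 n158445 = n79856 := (sb E100163 (iv3 D166299))
theorem F346955 : act 6 n131269 = n158445 := d7_0 F346954 (iv6 F340287) F340285
theorem F346956 : act 2 n158445 = n145264 := d3_1 F346955 (iv6 D145264) (iv2 F210360)
theorem F346957 : act 4 n145264 = n120196 := d1_2 D158445 F346956 F189854
theorem F346958 : act 0 n163726 = n145264 := d18_2 F328799 (iv4 F258086) F346957 (iv5 D120196) (iv4 F106299) F188319 F185139 F320087 (iv5 D86104)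
theorem F346959 : act 1 n177610 = n145264 := d18_6 (iv1 F264410) (iv4 F274161) (iv1 F278517) (iv4 D178696) F325406 (iv4 F333811) F346957 (iv0 F191350) F151595
theorem F346960 : act 0 n180231 = n158330 := d20_4 (iv4 F346957) (iv1 F346959) F333811 D180231 F249452 (iv4 F127228) (iv1 F127231) F127227 D98249 F191350
theorem F346961 : act 5 n176477 = n180231 := d21_0 F346960 F249453 F297039 D77106 D160709 F298852 (iv1 F272230) (iv5 D84150) D84151 D176477
theorem F346962 : act 6 n128158 = n176477 := d21_5 (iv5 F305671) (iv1 F307680) (iv5 F128076) (iv6 F317079) (iv1 F256948) F346961 F346960 F249453 F297039 D77106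
theorem F346963 : act 7 n180231 = n121214 := d15_2 (iv0 F345777) (iv0 F346960) (iv2 F345772)
theorem F346964 : act 0 n176444 = n130398 := d17_0 (iv5 D130398) (iv1 D61189) D61190 (iv4 F306316) (iv5 F249453) (iv0 F346960) (iv5 F346961) (iv0 D176477) (iv4 F275747)
theorem F346965 : act 4 n130398 = n127732 := d18_3 F278521 (iv4 F275747) F346964 F205328 (iv4 F257881) (iv0 F280578) (iv4 D180255) D180253 F345773
theorem F346966 : act 6 n130398 = n119480 := d21_5 F323679 (iv1 F257798) F322743 D176444 F346964 F336283 (iv1 F334192) F325014 (iv6 F300966) F130931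
theorem F346967 : act 3 n119483 = n130398 := d7_3 F346966 (iv3 D119480) D119483
theorem E100164 : n130399 = n126793 := ((c12_4 F346966 F336283 (iv6 D126794) D126793 (iv6 D130399) D130398)).symm
theorem F346968 : act 6 n126793 = n61189 := (sb E100164 (iv6 D130399))
theorem F346969 : act 7 n163678 = n130398 := d14_0 F346966 (iv7 F336286) F334216 (iv7 F318084) (iv6 F258005)
theorem E100165 : n172609 = n154140 := ((c21_2 (iv5 F224068) F343501 (iv5 D172609) (iv6 D82635) (iv1 F113252) (iv6 F305916) (iv5 D132905) (iv1 F97259) D130398 F346966 (iv1 F336288))).symm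
theorem F346970 : act 3 n154140 = n173425 := (sb E100165 (iv3 F271889))
theorem F346971 : act 5 n154140 = n82635 := (sb E100165 (iv5 D172609))
theorem F346972 : act 6 n154140 = n173416 := (sb E100165 (iv6 F271885))
theorem F346973 : act 0 n130398 = n167490 := d21_4 (iv5 F331984) F334191 (iv5 F336283) (iv6 F346966) F303149 (iv5 F320328) F345779 (iv5 D133025) D133026 F333402
theorem E100166 : n172443 = n161849 := ((c20_11 F337660 (iv1 D127729) (iv4 F344033) F346967 F346973 (iv3 D167490) F300371 (iv1 F118680) (iv4 F300419) (iv3 F116599) D161849)).symm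
theorem F346974 : act 0 n161849 = n131388 := (sb E100166 (iv1 F337661))
theorem F346975 : act 2 n161849 = n131390 := (sb E100166 F337659)
theorem F346976 : act 3 n161849 = n82567 := (sb E100166 F270662)
theorem F346977 : act 4 n161849 = n127729 := (sb E100166 F337660)
theorem F346978 : act 6 n161849 = n82564 := (sb E100166 (iv6 D172443))
theorem F346979 : act 7 n161849 = n131352 := (sb E100166 (iv7 F337658))
theorem F346980 : act 4 n173214 = n101757 := d20_2 F263660 (iv1 F278522) F156631 (iv1 F272689) (iv3 F346976) F346977 (iv1 D127729) (iv4 F344033) F346967 F346973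
theorem F346981 : act 5 n167490 = n132377 := d21_2 D130398 F346973 (iv6 D132377) (iv1 F336580) (iv6 D132295) F211211 (iv1 F47329) (iv5 F47317) D62368 (iv1 F97259)
theorem F346982 : act 2 n163678 = n130393 := d15_3 (iv0 F345776) (iv0 F346973) (iv7 F346969)
theorem F346983 : act 5 n130390 = n163678 := d2_0 F346982 (iv5 D130393) D130390
theorem F346984 : act 6 n130393 = n173200 := d3_2 (iv6 F258005) F346982 (iv2 F318083)
theorem E100167 : n130390 = n62443 := ((c21_11 F346983 F341883 (iv5 F307466) (iv6 D129406) (iv1 F341925) (iv6 D129226) (iv5 F208883) (iv1 F47845) F47843 D61115 (iv1 F97317))).symm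
theorem E100168 : n133089 = n61188 := (((iv2 F213731)).symm.trans (sb E100167 (iv2 D130390)))
theorem E100169 : n163678 = n133092 := (((D133092).symm.trans (sb E100167 F346983))).symm
theorem E100170 : n133084 = n61189 := ((F213730).symm.trans (sb E100167 (iv7 F208910)))
theorem F346985 : act 2 n61188 = n62443 := (sb E100168 F213731)
theorem E100171 : n130395 = n62442 := ((D130395).symm.trans (sb E100168 (iv7 D133089)))
theorem F346986 : act 0 n133092 = n84128 := (sb E100169 F341883)
theorem F346987 : act 2 n133092 = n130393 := (sb E100169 F346982)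
theorem F346988 : act 3 n133092 = n133751 := (sb E100169 (iv3 F344047))
theorem F346989 : act 4 n133092 = n78636 := (sb E100169 (iv4 D163678))
theorem F346990 : act 6 n133092 = n160962 := (sb E100169 F258005)
theorem F346991 : act 7 n133092 = n130398 := (sb E100169 F346969)
theorem F346992 : act 7 n61189 = n62443 := (sb E100170 (iv7 F213730))
theorem F346993 : act 2 n62442 = n61189 := (sb E100171 F208911)
theorem F346994 : act 7 n62442 = n61188 := (sb E100171 (iv7 D130395))
theorem F346995 : act 7 n130391 = n133085 := d8_2 F346994 D130391 (iv3 D133085)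
theorem F346996 : act 7 n130392 = n133086 := d11_2 F346994 D130392 (iv4 D133086)
theorem F346997 : act 7 n130393 = n133087 := d13_2 F346994 D130393 (iv5 D133087)
theorem F346998 : act 2 n133087 = n130398 := d4_1 F346997 (iv7 F346991) F346987
theorem F346999 : act 6 n133087 = n126800 := d14_1 F346997 F331975 (iv6 F316743) F334221 (iv6 F346984)
theorem F347000 : act 3 n125001 = n133087 := d7_3 F346999 F204052 (iv6 F331978)
theorem E100172 : n176449 = n133087 := (c12_6 F346999 (iv5 D126800) (iv6 D59504) D59503 D126797 (iv5 F345637))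
theorem F347001 : act 1 n133087 = n84128 := (sb E100172 (iv0 D176449))
theorem E100173 : n126797 = n62442 := ((((iv5 D133087)).symm.trans (sb E100172 F345637))).symm
theorem E100174 : n133085 = n59505 := ((D133085).symm.trans (sb E100173 F204051))
theorem E100175 : n133088 = n59503 := ((D133088).symm.trans (sb E100173 (iv6 D126797)))
theorem F347002 : act 3 n59505 = n62442 := (sb E100174 (iv3 D133085))
theorem E100176 : n134402 = n30493 := (((F93931).symm.trans (sb E100174 F216390))).symm
theorem E100177 : n130391 = n126805 := (((D126805).symm.trans (sb E100174 (iv7 F346995)))).symm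
theorem F347003 : act 6 n59503 = n62442 := (sb E100175 (iv6 D133088))
theorem E100178 : n64881 = n63136 := ((D64881).symm.trans (sb E100176 (iv1 D134402)))
theorem E100179 : n135111 = n64882 := (((D64882).symm.trans (sb E100176 F217329))).symm
theorem F347004 : act 3 n126805 = n61188 := (sb E100177 (iv3 D130391))
theorem E100180 : n135160 = n64884 := (((F204055).symm.trans (sb E100177 F217363))).symm
theorem E100181 : n136221 = n134401 := (((D134401).symm.trans (sb E100178 (iv1 F219248)))).symm
theorem F347005 : act 1 n63136 = n30493 := (sb E100178 (iv0 D64881))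
theorem E100182 : n138069 = n134357 := ((((iv2 F216359)).symm.trans (sb E100178 D138069))).symm
theorem E100187 : n138074 = n63517 := ((((iv7 F98833)).symm.trans (sb E100178 D138074))).symm
theorem E100188 : n138076 = n63592 := ((D138076).symm.trans (sb E100179 F217327))
theorem E100189 : n138078 = n63500 := ((D138078).symm.trans (sb E100179 (iv6 D135111)))
theorem E100190 : n136219 = n63517 := (((iv1 F219242)).symm.trans (sb E100180 (iv1 D135160)))
theorem E100191 : n136218 = n134357 := ((F219246).symm.trans (sb E100180 F217362))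
theorem F347006 : act 0 n134401 = n64882 := (sb E100181 (iv1 F219247))
theorem F347007 : act 2 n134401 = n64884 := (sb E100181 F219244)
theorem F347008 : act 6 n134401 = n64893 := (sb E100181 F219245)
theorem F347009 : act 7 n134401 = n64043 := (sb E100181 (iv7 D136221))
theorem F347010 : act 7 n134357 = n64882 := (sb E100182 (iv7 F221310))
theorem F347011 : act 2 n63517 = n64882 := (sb E100187 F221311)
theorem F347012 : act 4 n63592 = n64882 := (sb E100188 (iv4 D138076))
theorem F347013 : act 6 n63500 = n64882 := (sb E100189 (iv6 D138078))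
theorem E100192 : n135159 = n64043 := ((D135159).symm.trans (sb E100190 (iv1 D136219)))
theorem F347014 : act 1 n63517 = n64884 := (sb E100190 F219242)
theorem F347015 : act 0 n134357 = n64884 := (sb E100191 (iv1 F219246))
theorem F347016 : act 0 n64043 = n134357 := (sb E100192 (iv1 F217361))
theorem F347017 : act 1 n64043 = n63517 := (sb E100192 (iv0 D135159))
theorem E100193 : n155159 = n126634 := (c18_5 F308620 F200765 F199952 (iv4 F110334) D155159 F203723 F347017 F98832 D63664 D135444)
theorem F347018 : act 0 n126634 = n164517 := (sb E100193 F259293)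
theorem F347019 : act 1 n126634 = n132843 := (sb E100193 (iv0 F346284))
theorem F347020 : act 5 n126634 = n73643 := (sb E100193 (iv5 D155159))
theorem F347021 : act 3 n126634 = n158472 := d20_3 (iv4 F98832) (iv1 F347017) (iv4 F203723) (iv1 D158472) F113455 D75626 D158546 (iv4 F344095) (iv3 D135442) (iv1 D63664)
theorem F347022 : act 0 n132659 = n130502 := d20_1 (iv4 F319893) F209064 (iv3 D61232) (iv1 F98511) (iv3 F48262) (iv4 F98832) (iv1 F347017) (iv4 F203723) F347021 (iv1 D158472)
theorem F347023 : act 5 n155153 = n158472 := d18_9 (iv1 D158472) (iv4 F319893) F347022 F209064 (iv5 F307534) F303286 (iv0 F314273) (iv4 F228253) F344088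
theorem F347024 : act 6 n158472 = n126632 := d12_2 D155153 F347023 (iv5 D126632) D126633 F331936
theorem F347025 : act 0 n158483 = n126839 := d21_10 (iv5 F220098) (iv1 D126630) D126632 (iv6 F347024) (iv1 D158472) F113456 (iv5 D34583) D34581 D75603 D158483
theorem F347026 : act 1 n158483 = n126838 := d15_1 (iv0 F347025) (iv7 F220093) F220097
theorem F347027 : act 7 n158483 = n126836 := d15_2 D126839 (iv0 F347025) F204081
theorem F347028 : act 2 n115589 = n158483 := d4_3 F347027 F204081 (iv7 F179902)
theorem F347029 : act 3 n126887 = n158483 := d8_3 F347027 (iv3 F345633) (iv7 F325316)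
theorem F347030 : act 5 n115584 = n158483 := d13_3 F347027 (iv5 D126836) (iv7 F179890)
theorem F347031 : act 5 n136745 = n126740 := d21_8 F233516 (iv1 F179893) F347030 (iv6 D158483) (iv1 F315448) F330966 F204088 D136745 (iv6 D126740) D126737
theorem F347032 : act 3 n126749 = n136745 := d6_3 F347031 F203967 D126749
theorem F347033 : act 6 n126743 = n136745 := d12_0 F347031 (iv6 D126740) (iv5 D59465) D59466 D126743
theorem F347034 : act 5 n126741 = n128501 := d21_8 F188189 (iv1 F86952) D83641 (iv6 F330963) D136745 (iv6 F347033) (iv5 D126743) D126741 F339205 F243743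
theorem F347035 : act 3 n128503 = n126741 := d6_3 F347034 (iv3 D128501) D128503
theorem F347036 : act 6 n119504 = n126741 := d12_0 F347034 F339205 F243745 F243739 F233265
theorem E100194 : n126834 = n126738 := (c21_1 D126834 (iv1 D126738) (iv5 D59465) D59466 D126741 (iv6 F347036) (iv5 F233265) F233266 F187779 F336276 (iv1 F179891))
theorem F347037 : act 5 n126738 = n59518 := (sb E100194 (iv5 D126834))
theorem F347038 : act 4 n126741 = n152793 := d20_6 (iv4 D26697) (iv1 F24977) D32590 D70221 (iv1 F339208) F347035 (iv1 D152793) (iv4 F189404) (iv3 D119981) F87357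
theorem F347039 : act 4 n128503 = n136921 := d20_6 (iv4 D53872) (iv1 F101929) (iv4 F45727) (iv3 F93865) D126741 (iv3 F347035) (iv1 F220106) (iv4 F323248) F323247 (iv1 F111241)
theorem E100195 : n136921 = n101949 := (c10_2 (iv6 F339210) F347039 (iv6 D101949) (iv4 F328301))
theorem F347040 : act 0 n101949 = n64369 := (sb E100195 (iv1 F220106))
theorem F347041 : act 1 n101949 = n64362 := (sb E100195 (iv0 D136921))
theorem F347042 : act 4 n101949 = n128503 := (sb E100195 (iv4 F347039))
theorem F347043 : act 2 n158472 = n130396 := d0_1 F347021 (iv3 D130396) (iv2 F346993) (iv3 F347002) (iv2 F203722)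
theorem F347044 : act 5 n130396 = n119483 := d2_2 F347023 F347043 F344086
theorem F347045 : act 0 n132754 = n130396 := d17_2 F305382 (iv5 F321680) F347044 F344033 (iv5 D59964) D59963 (iv5 F320015) (iv0 F210844) F324173
theorem F347046 : act 0 n130396 = n158448 := d21_7 (iv5 D26583) (iv1 D12707) D12708 D26588 D54974 D119483 (iv5 F347044) (iv5 D158448) (iv6 D75590) F54851
theorem E100196 : n164517 = n136965 := ((c18_8 F239309 F239308 (iv1 F330101) (iv4 F280214) F309873 D134687 F338725 D136965 (iv0 F347018) F347020)).symm
theorem F347047 : act 1 n136965 = n126634 := (sb E100196 (iv0 F347018))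
theorem F347048 : act 2 n136965 = n130115 := (sb E100196 (iv2 F322820))
theorem F347049 : act 5 n136965 = n79009 := (sb E100196 (iv5 D164517))
theorem F347050 : act 7 n136965 = n152699 := (sb E100196 F259292)
theorem F347051 : act 0 n155148 = n173425 := d21_1 D155148 (iv5 D173425) (iv6 D82987) F113262 D75323 (iv5 F317542) (iv1 F347019) F347020 (iv6 D73643) D73639
theorem F347052 : act 6 n158420 = n155158 := d21_9 (iv5 F347020) (iv1 F347047) F347049 (iv6 D79009) (iv1 F56655) D35971 D79035 D164560 F342065 (iv1 D155158)
theorem F347053 : act 3 n155158 = n158422 := d7_1 F347052 (iv6 D158422) D158420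
theorem F347054 : act 5 n155158 = n152706 := d21_6 F339378 (iv1 F339385) (iv5 D119690) (iv6 F308162) (iv1 F342055) F347052 (iv1 D152706) (iv5 D72045) D72046 F239808
theorem F347055 : act 3 n152706 = n133279 := d6_1 F347054 F334629 (iv3 F347053)
theorem F347056 : act 6 n133276 = n152706 := d21_5 (iv5 D63311) F48049 D59415 D126641 (iv1 F344345) (iv5 F347054) (iv1 D155158) (iv5 F347020) (iv6 D126634) (iv1 F98533)
theorem F347057 : act 4 n152706 = n137580 := d10_1 F347056 (iv6 D137580) (iv4 F344346)
theorem F347058 : act 5 n166750 = n133276 := d12_5 F347056 (iv5 F347054) (iv6 F347052) (iv5 F342065) F342066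
theorem F347059 : act 4 n137122 = n155148 := d18_1 F220305 F347051 (iv4 F331935) (iv5 D126319) (iv4 F326679) F326677 F165973 D108625 (iv5 F219291)
theorem F347060 : act 0 n137122 = n163720 := d17_0 (iv5 D163720) (iv1 F328012) F82593 (iv4 F93932) D126807 F331949 D173425 (iv0 F347051) (iv4 F347059)
theorem F347061 : act 4 n163720 = n155070 := d18_1 F347060 (iv1 D155070) (iv4 F321021) (iv5 D110617) D110616 (iv0 F315483) (iv4 F317706) F168834 D137122
theorem F347062 : act 6 n163720 = n135481 := d21_5 F327659 (iv1 F327658) F173466 (iv6 F220303) F347060 (iv5 D135481) (iv1 F99069) (iv5 F100096) F100097 (iv1 F100094)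
theorem F347063 : act 2 n109749 = n163720 := d15_3 (iv0 F347060) (iv0 F220305) F219290
theorem F347064 : act 1 n137123 = n163720 := d15_0 (iv0 F347060) F220304 (iv2 F220306)
theorem F347065 : act 7 n163720 = n113163 := d15_2 (iv0 F220310) F347064 (iv2 F219287)
theorem F347066 : act 3 n105214 = n163720 := d8_3 F347065 F176320 F168349
theorem F347067 : act 2 n155136 = n145686 := d16_9 F331934 F236382 (iv4 D84914) F327551 (iv4 F119825) D163720 F347061 (iv5 F243865) (iv7 F243957)
theorem E100197 : n166912 = n145686 := ((c4_2 (iv7 F243957) F347067 (iv7 D166912) F304767)).symm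
theorem F347068 : act 7 n145686 = n80128 := (sb E100197 (iv7 D166912))
theorem F347069 : act 2 n155148 = n174999 := d1_1 F347059 (iv4 F343942) (iv2 F220301)
theorem F347070 : act 4 n152699 = n136968 := d11_1 F347050 (iv7 D136968) D136965
theorem F347071 : act 6 n152699 = n132841 := d14_1 F347050 F213375 F325797 (iv7 F208628) (iv6 F339489)
theorem F347072 : act 2 n132843 = n152699 := d3_3 F347071 (iv2 D132841) D132843
theorem F347073 : act 3 n158448 = n152699 := d7_3 F347071 F315467 (iv6 F249649)
theorem F347074 : act 0 n133533 = n152708 := d21_4 (iv5 F317519) F300672 (iv5 F317522) D133533 (iv6 D152708) (iv5 D72045) D72042 D152699 F347071 (iv1 F213377)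
theorem E100198 : n152699 = n126803 := (c21_4 (iv5 F217674) F315461 (iv5 F315468) (iv6 F347071) (iv1 D126803) (iv6 D59505) (iv5 D28255) (iv1 F45725) D59460 (iv6 F330916) D130793)
theorem F347075 : act 2 n126803 = n132843 := (sb E100198 (iv2 F347072))
theorem F347076 : act 3 n126803 = n158448 := (sb E100198 (iv3 F347073))
theorem F347077 : act 4 n126803 = n136968 := (sb E100198 F347070)
theorem F347078 : act 5 n126803 = n72042 := (sb E100198 (iv5 D152699))
theorem F347079 : act 6 n126803 = n132841 := (sb E100198 F347071)
theorem F347080 : act 7 n126803 = n136965 := (sb E100198 (iv7 F347050))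
theorem F347081 : act 0 n152733 = n92795 := d21_10 (iv5 F143134) (iv1 F258904) F338581 (iv6 D132919) (iv1 F213376) (iv6 F347079) F347078 (iv1 F108518) D72065 D152733
theorem F347082 : act 7 n130115 = n132843 := d4_2 F347080 F347048 (iv2 F347075)
theorem E100199 : n130115 = n126802 := (c15_4 (iv0 D126802) D126803 F347080 F347048)
theorem F347083 : act 2 n126802 = n136965 := (sb E100199 (iv2 F347048))
theorem F347084 : act 3 n126802 = n61091 := (sb E100199 F208632)
theorem F347085 : act 4 n126802 = n134536 := (sb E100199 (iv4 F216517))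
theorem F347086 : act 5 n126802 = n71961 := (sb E100199 F322821)
theorem F347087 : act 6 n126802 = n61088 := (sb E100199 (iv6 D130115))
theorem F347088 : act 7 n126802 = n132843 := (sb E100199 F347082)
theorem E100200 : n135976 = n134536 := (c18_3 D63663 (iv4 F327364) D135976 (iv4 F347085) F347086 F108459 D148981 (iv4 F234144) F108313 (iv5 F304776))
theorem F347089 : act 0 n134536 = n64377 := (sb E100200 (iv1 F218752))
theorem F347090 : act 1 n134536 = n63932 := (sb E100200 (iv0 D135976))
theorem F347091 : act 0 n152708 = n126716 := d21_4 F347086 F191282 D72045 D152708 (iv6 D126716) (iv5 D59457) (iv1 F45724) D28255 D59505 D126802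
theorem F347092 : act 7 n133533 = n126849 := d15_2 (iv0 F347091) (iv0 F347074) F204094
theorem F347093 : act 3 n126849 = n133540 := d8_1 F347092 (iv7 D133540) (iv3 F214809)
theorem F347094 : act 4 n136889 = n133533 := d11_3 F347092 F204095 D136889
theorem F347095 : act 4 n144342 = n137393 := d20_0 (iv1 F220601) F347094 F214809 (iv1 F319754) (iv3 D132287) F96719 F47402 (iv4 F95842) (iv3 F324797) D144342
theorem F347096 : act 5 n120680 = n133533 := d18_4 F212895 D134576 F334636 F234641 (iv4 F347094) F220601 (iv4 F347095) (iv0 D144342) (iv5 F325881)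
theorem E100201 : n136968 = n135977 := ((c15_2 F347090 D135977 (iv7 D136968) (iv2 F339486))).symm
theorem F347097 : act 2 n135977 = n64375 := (sb E100201 F220125)
theorem F347098 : act 3 n135977 = n135032 := (sb E100201 (iv3 F339484))
theorem F347099 : act 4 n135977 = n126803 := (sb E100201 (iv4 F347077))
theorem F347100 : act 6 n135977 = n135030 := (sb E100201 F339482)
theorem F347101 : act 7 n135977 = n64374 := (sb E100201 (iv7 D136968))
theorem F347102 : act 7 n134274 = n135032 := d8_2 F347101 (iv3 F339488) (iv3 F347098)
theorem F347103 : act 6 n134771 = n134036 := d14_3 F347102 (iv6 D135032) (iv7 F216848) F216016 D134274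
theorem E100202 : n134271 = n63462 := (c3_3 F347103 F216018 D134271 (iv2 F216851))
theorem E100203 : n135029 = n63081 := ((D135029).symm.trans (sb E100202 (iv6 D134271)))
theorem F347104 : act 6 n63081 = n63462 := (sb E100203 (iv6 D135029))
theorem F347105 : act 6 n129825 = n132656 := d10_2 F347103 (iv4 F216015) F216847
theorem F347106 : act 6 n135027 = n134269 := d3_2 F347105 (iv2 F217259) F216299
theorem F347107 : act 6 n135026 = n134268 := d7_2 F347104 D135026 (iv3 D134268)
theorem F347108 : act 0 n113953 = n133086 := d20_7 F347085 F347089 F327366 D135442 F344092 (iv3 F339476) (iv4 F339477) (iv4 D133086) (iv3 F347002) D126802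
theorem F347109 : act 1 n126805 = n136965 := d18_8 F191322 (iv4 D71857) (iv1 F52438) (iv4 F52505) (iv5 F304776) (iv4 F98832) F347014 (iv4 F204055) F347049
theorem F347110 : act 6 n164289 = n152319 := d21_5 F312962 (iv1 F313065) (iv5 F310830) (iv6 F313067) D164289 (iv5 D152319) (iv1 F191323) (iv5 F347049) F339489 (iv1 F208630)
theorem F347111 : act 2 n152733 = n164289 := d3_3 F347110 F239469 D152733
theorem F347112 : act 7 n164290 = n152733 := d15_2 (iv0 D164289) D164290 F347111
theorem F347113 : act 1 n132843 = n126805 := d15_0 F347109 (iv7 F347080) F347075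
theorem F347114 : act 0 n134274 = n135216 := d20_4 (iv4 F203723) (iv1 F347047) (iv4 D136965) (iv3 F339488) (iv3 D135216) (iv4 D63538) (iv1 D30002) (iv4 F48190) (iv3 F98831) (iv1 F347017)
theorem F347115 : act 6 n138075 = n134788 := d7_2 F347013 D138075 F216902
theorem F347116 : act 2 n134807 = n138075 := d3_3 F347115 (iv2 F216901) D134807
theorem E100204 : n152767 = n138077 := ((c16_2 F347012 D138077 (iv4 D152767) (iv5 D72086) (iv4 D33282) (iv5 D16066) (iv4 F25590) (iv5 F305863) (iv7 F48263) (iv2 F98937))).symm
theorem F347117 : act 4 n138077 = n72086 := (sb E100204 (iv4 D152767))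
theorem F347118 : act 2 n135161 = n138077 := d16_9 F347117 (iv5 D72086) (iv4 D33282) (iv5 D16066) (iv4 F25590) (iv5 F305863) (iv4 F98420) D134403 (iv7 F217365)
theorem F347119 : act 4 n135161 = n152327 := d1_2 (iv4 F347117) (iv2 F347118) F239487
theorem F347120 : act 6 n133086 = n113418 := d10_2 F347003 D133086 F176609
theorem F347121 : act 3 n138064 = n133086 := d7_3 F347120 F176608 D138064
theorem F347122 : act 2 n130397 = n133086 := d1_3 (iv4 D133086) F346993 D130397
theorem F347123 : act 6 n127361 = n130397 := d3_0 F347122 F347120 (iv2 F204621)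
theorem F347124 : act 1 n130397 = n132935 := d15_0 (iv0 F337579) F346996 (iv2 F347122)
theorem F347125 : act 0 n135437 = n132690 := d20_10 (iv4 F213556) (iv1 F347124) (iv4 D130397) D130396 F347046 (iv3 F347076) (iv4 F347099) (iv1 D135977) F327364 D135437
theorem F347126 : act 5 n155116 = n135437 := d21_6 (iv5 D38131) F58861 F110300 D155078 F321094 D155116 F347125 F320708 (iv6 D82718) (iv1 F59259)
theorem F347127 : act 0 n155116 = n131381 := d18_0 (iv4 F213665) (iv1 F334238) (iv4 F346965) (iv5 D130398) D130397 F347124 F213556 (iv0 F347125) (iv5 F347126)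
theorem F347128 : act 6 n135437 = n126676 := d12_2 D155116 F347126 F203843 D135995 F321763
theorem E100205 : n132316 = n126935 := ((c21_9 F302483 (iv1 D82503) D82504 (iv6 F270507) F344414 F347128 F203843 D135992 (iv5 F333077) (iv6 D132316) (iv1 F311930))).symm
theorem F347129 : act 3 n126935 = n62079 := (sb E100205 F212221)
theorem F347130 : act 6 n126935 = n62076 := (sb E100205 (iv6 D132316))
theorem F347131 : act 6 n125160 = n136760 := d3_2 F347130 (iv2 F316704) F333075
theorem F347132 : act 6 n128068 = n135992 := d12_4 F347130 (iv5 F312121) F201155 (iv5 F206081) (iv5 F333077)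
theorem F347133 : act 6 n154351 = n136755 := d14_5 F333076 F347130 F209648 (iv6 F314449) D154351
theorem F347134 : act 5 n136756 = n123714 := d12_3 F347133 (iv5 D136755) D136756 F198201 (iv5 F242432)
theorem F347135 : act 6 n129245 = n126653 := d21_3 F320705 (iv1 F312342) F209326 (iv1 F333079) (iv6 F347133) F242432 (iv1 F206354) F336894 (iv6 D132077) D132074
theorem F347136 : act 2 n128219 = n136756 := d2_3 F347134 F198199 (iv5 F206346)
theorem F347137 : act 7 n123713 = n136756 := d13_0 F347134 (iv7 D123714) D123713
theorem E100206 : n128214 = n103360 := (c21_9 (iv5 F155934) F155935 F331256 (iv6 D64291) D64288 D136756 F347134 (iv1 F198203) D128214 (iv6 D103360) (iv1 F291978))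
theorem F347138 : act 5 n103360 = n60274 := (sb E100206 (iv5 D128214))
theorem F347139 : act 1 n128217 = n136756 := d15_1 D128217 (iv7 F347137) F198197
theorem F347140 : act 6 n135993 = n128219 := d3_0 F347136 (iv6 D136756) (iv2 F226661)
theorem F347141 : act 1 n136756 = n128216 := d15_0 (iv0 D128216) D128219 F347136
theorem F347142 : act 2 n144346 = n128217 := d15_3 F347139 F347141 (iv7 F346566)
theorem E100207 : n174570 = n126940 := (c21_4 D128256 F206382 (iv5 F303650) D174570 (iv1 D126940) (iv6 D59575) D59574 D126935 F333077 (iv6 F347132) (iv1 F206083))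
theorem F347143 : act 2 n126940 = n110405 := (sb E100207 (iv2 F344626))
theorem F347144 : act 3 n126940 = n83425 := (sb E100207 F273430)
theorem F347145 : act 5 n126940 = n110404 := (sb E100207 (iv5 F328792))
theorem F347146 : act 6 n126940 = n83423 := (sb E100207 (iv6 D174570))
theorem F347147 : act 1 n155733 = n126934 := d18_6 (iv1 F175533) F344696 (iv1 F344705) F324595 (iv5 F318576) (iv4 F244742) F204191 D126940 F347145
theorem E100208 : n155756 = n136282 := (c20_2 F244742 D155756 (iv4 D136282) F99663 D64071 (iv3 F336177) F176208 (iv1 D113096) (iv4 F95035) (iv3 F204190) (iv1 F347147))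
theorem F347148 : act 1 n136282 = n74093 := (sb E100208 (iv0 D155756))
theorem E100209 : n155739 = n109342 := ((c20_4 (iv4 F161962) F161964 F98195 D109342 (iv1 D155739) (iv3 F244741) F244742 (iv1 F347148) (iv4 D136282) F99663 D64071)).symm
theorem F347149 : act 0 n109342 = n74087 := (sb E100209 (iv1 D155739))
theorem F347150 : act 2 n109342 = n142361 := (sb E100209 F330011)
theorem F347151 : act 4 n109342 = n141341 := (sb E100209 (iv4 F319612))
theorem F347152 : act 6 n109342 = n116454 := (sb E100209 (iv6 F330010))
theorem E100210 : n178882 = n109702 := ((c21_8 D178867 (iv1 F316042) (iv5 D156841) F321144 D116454 (iv6 F347152) F169357 D109702 (iv5 D178882) (iv6 D85283) D85279)).symm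
theorem F347153 : act 5 n109702 = n85283 := (sb E100210 (iv5 D178882))
theorem F347154 : act 0 n142455 = n109342 := d17_0 F169357 D109702 F347153 F130578 D85286 (iv0 F318481) (iv5 D66795) D66794 D142455
theorem F347155 : act 5 n109307 = n142455 := d18_9 F347154 F347151 (iv1 F344490) (iv4 D142496) D142497 F344504 (iv0 D140396) F101589 D109307
theorem E100211 : n142586 = n111990 := (c2_3 F347155 F322327 D142586 F344711)
theorem F347156 : act 5 n111990 = n66836 := (sb E100211 (iv5 D142586))
theorem E100212 : n142566 = n111991 := (c13_4 F344713 F347155 F322328 D142566)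
theorem F347157 : act 5 n111991 = n66831 := (sb E100212 (iv5 D142566))
theorem E100213 : n155740 = n109306 := (c2_3 F347157 (iv2 F322314) D155740 F344712)
theorem F347158 : act 5 n109306 = n74087 := (sb E100213 (iv5 D155740))
theorem F347159 : act 5 n178880 = n109308 := d17_1 D178880 (iv1 F174065) F347157 (iv4 D66831) (iv5 F320554) D54160 (iv5 F200299) (iv0 D85284) (iv4 F130578)
theorem F347160 : act 2 n109309 = n178880 := d2_3 F347159 (iv2 D109308) D109309
theorem F347161 : act 3 n115656 = n178880 := d6_3 F347159 (iv3 F174073) (iv5 F180024)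
theorem E100214 : n178881 = n109726 := (c15_2 (iv0 D178880) D178881 F169715 F347160)
theorem F347162 : act 0 n109726 = n85283 := (sb E100214 (iv1 D178881))
theorem F347163 : act 4 n178939 = n109286 := d20_8 (iv4 F161984) (iv1 F162059) F162057 D109726 F347162 (iv3 F318272) F318273 D178939 F169305 (iv1 F99653)
theorem F347164 : act 3 n178884 = n130533 := d20_3 F130578 D85284 D178884 (iv1 F209111) F344600 (iv4 F161984) (iv1 F162059) F162057 D109726 F347162
theorem F347165 : act 3 n129614 = n148053 := d8_3 (iv7 F278748) F347164 (iv7 F209110)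
theorem F347166 : act 6 n148053 = n139724 := d7_2 (iv6 F207790) F347165 F222898
theorem F347167 : act 0 n109309 = n178883 := d20_10 F278747 F230118 D148053 (iv3 F347165) F207791 (iv3 F344599) F93108 (iv1 F101146) F101144 (iv3 F169332)
theorem F347168 : act 4 n145075 = n109309 := d20_6 F313898 (iv1 F313806) F92488 (iv3 F92480) F155431 (iv3 F228026) F347167 F278747 F130581 (iv1 F92269)
theorem E100215 : n145080 = n139397 := ((c5_4 F347168 F169332 (iv4 F101144) (iv3 F222607) (iv4 D145080) (iv3 F228026))).symm
theorem F347169 : act 4 n139397 = n68003 := (sb E100215 (iv4 D145080))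
theorem F347170 : act 6 n139397 = n155899 := (sb E100215 (iv6 F244890))
theorem F347171 : act 1 n109309 = n178829 := d18_6 (iv1 F184037) (iv4 F184146) F228024 (iv4 D145074) D145075 F347168 F278693 F230119 (iv5 D69350)
theorem F347172 : act 3 n155899 = n139399 := d7_1 F347170 (iv6 D139399) (iv3 F222607)
theorem F347173 : act 0 n153584 = n155899 := d21_4 D118168 (iv1 F241402) F241400 D153584 (iv6 F347170) (iv5 D139397) D139394 F340719 (iv6 D154725) F110080
theorem E100216 : n153586 = n119477 := ((c18_10 (iv1 D153586) (iv4 F241404) F347173 (iv4 D155899) D155900 (iv4 F333712) (iv0 D161383) F116297 F316597 D119477)).symm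
theorem F347174 : act 0 n119477 = n72620 := (sb E100216 (iv1 D153586))
theorem F347175 : act 4 n99622 = n99610 := d20_2 (iv4 D99624) D99622 (iv3 F188274) F347174 F109147 (iv4 F109238) D153790 F312881 F311376 (iv1 F339129)
theorem F347176 : act 6 n149007 = n119476 := d21_9 D119477 F347174 (iv5 F209794) (iv6 D131073) (iv1 F96001) (iv6 F106310) (iv5 D69882) D69880 D149007 (iv1 D119476)
theorem F347177 : act 5 n119476 = n124857 := d12_1 F347176 (iv6 D124857) D124856 (iv6 F232759) D149007
theorem F347178 : act 0 n142741 = n124857 := d21_1 F339013 (iv5 F347177) (iv6 F347176) F309797 (iv6 D151769) (iv5 D71541) D71539 F108054 D86375 (iv1 F339004)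
theorem F347179 : act 1 n161882 = n174470 := d17_6 (iv1 F339004) F339013 F347178 (iv5 F347177) F316601 D161882 (iv5 D174470) (iv0 F155518) (iv4 F132400)
theorem F347180 : act 2 n139003 = n124857 := d15_3 (iv0 F347178) (iv0 D142741) (iv7 F322258)
theorem E100217 : n143541 = n139003 := ((c15_4 (iv0 D143541) (iv0 F338960) (iv7 F339011) (iv2 F347180))).symm
theorem F347181 : act 1 n139003 = n67225 := (sb E100217 (iv0 D143541))
theorem F347182 : act 5 n174468 = n161889 := d17_1 (iv1 F275044) (iv1 D161889) (iv5 D77748) D77747 (iv5 F321155) F347181 D143545 F338963 F307672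
theorem F347183 : act 0 n139005 = n167679 := d20_7 F221128 (iv1 F346693) (iv4 D67226) D67225 (iv1 F347181) F222180 (iv4 F222184) (iv4 D167679) (iv3 F263959) F339091
theorem E100218 : n142465 = n142384 := (c20_8 (iv4 F222184) F347183 (iv4 D167679) (iv3 F263959) F339091 (iv3 F225382) F225383 D142465 (iv4 D142384) (iv3 F323791) F321158)
theorem F347184 : act 1 n142384 = n66799 := (sb E100218 (iv0 D142465))
theorem F347185 : act 1 n116390 = n167679 := d15_0 (iv0 F347183) F322259 (iv2 F181499)
theorem E100219 : n142466 = n116806 := (c15_2 F347184 D142466 F182375 (iv2 F323792))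
theorem F347186 : act 0 n116806 = n66799 := (sb E100219 (iv1 D142466))
theorem F347187 : act 5 n142462 = n176958 := d18_4 (iv1 F325037) D116806 F347186 (iv4 F225383) F276307 (iv0 D123522) (iv4 F312427) F312425 F314092
theorem F347188 : act 5 n140878 = n111985 := d21_0 (iv1 D111985) D111986 (iv6 F346862) F347186 (iv6 D66799) D66798 (iv1 F182946) (iv5 D117009) (iv6 F346894) F346891
theorem F347189 : act 1 n116806 = n156874 := d15_1 (iv0 F347186) (iv7 F346679) F181804
theorem E100220 : n143969 = n105643 := ((c21_4 (iv5 D64074) (iv1 F48580) (iv5 F76911) D105643 (iv1 D143969) D143971 (iv5 F340025) (iv1 F347189) (iv5 F346861) (iv6 D111983) (iv1 F99674))).symm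
theorem F347190 : act 0 n105643 = n67449 := (sb E100220 (iv1 D143969))
theorem F347191 : act 1 n105643 = n113099 := (sb E100220 F226619)
theorem E100221 : n113097 = n111958 := ((((iv2 F173979)).symm.trans (sb E100220 (iv2 F340505)))).symm
theorem F347192 : act 7 n105643 = n113098 := (sb E100220 F340506)
theorem F347193 : act 0 n111958 = n143970 := (sb E100221 (iv1 F226618))
theorem F347194 : act 1 n111958 = n52202 := (sb E100221 (iv0 D113097))
theorem F347195 : act 3 n111958 = n141861 := (sb E100221 F224907)
theorem F347196 : act 7 n111958 = n143968 := (sb E100221 F340503)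
theorem F347197 : act 6 n143968 = n136310 := d14_1 F347196 (iv7 D136310) (iv6 D64082) (iv7 F81509) D111958
theorem F347198 : act 6 n103157 = n113098 := d3_2 F347197 (iv2 F319854) (iv2 F340504)
theorem F347199 : act 3 n113098 = n103169 := d7_1 F347198 (iv6 D103169) (iv3 F158425)
theorem F347200 : act 6 n141861 = n111956 := d7_2 D111958 F347195 F173974
theorem F347201 : act 4 n111956 = n127081 := d10_1 F347200 F339932 D141861
theorem F347202 : act 4 n136299 = n127086 := d9_9 D111956 F347201 (iv5 D127081) (iv4 D59634) D59635 (iv4 F329142) (iv5 D105257) (iv4 F99677) D136299 (iv5 D127086) (iv4 D59638) F328411 F83086 (iv5 F76554) (iv4 F81505)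
theorem E100222 : n136302 = n107205 := ((c11_3 (iv7 F173975) F347201 F204322 (iv4 D136302))).symm
theorem F347203 : act 4 n107205 = n64079 := (sb E100222 (iv4 D136302))
theorem F347204 : act 5 n107232 = n105613 := d19_17 (iv1 F103601) D127081 (iv4 F347201) F173974 (iv1 F99667) F99668 F81529 (iv3 F45734) F45736 (iv5 F45186) F38495 (iv3 F38482) (iv1 F38484) F19220 D24178 D49544 D107232 (iv4 F163637) F163636
theorem E100223 : n136096 = n105615 := ((c6_3 F347204 F162220 D105615 (iv3 F219045))).symm
theorem F347205 : act 0 n105615 = n67033 := (sb E100223 F219043)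
theorem E100224 : n115436 = n64752 := (((iv2 F179741)).symm.trans (sb E100223 F219041))
theorem F347206 : act 3 n105615 = n107232 := (sb E100223 (iv3 F219045))
theorem F347207 : act 4 n105615 = n64003 := (sb E100223 (iv4 D136096))
theorem F347208 : act 7 n105615 = n64757 := (sb E100223 F219042)
theorem E100225 : n137767 = n132433 := ((D137767).symm.trans (sb E100224 (iv1 F212502)))
theorem F347209 : act 2 n64752 = n105615 := (sb E100224 F179741)
theorem E100226 : n137769 = n53250 := ((D137769).symm.trans (sb E100224 (iv5 D115436)))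
theorem F347210 : act 0 n132433 = n64757 := (sb E100225 (iv1 F221017))
theorem F347211 : act 1 n132433 = n64752 := (sb E100225 (iv0 D137767))
theorem F347212 : act 2 n132433 = n67033 := (sb E100225 (iv2 F221016))
theorem F347213 : act 3 n132433 = n134001 := (sb E100225 (iv3 F221018))
theorem F347214 : act 4 n132433 = n67052 := (sb E100225 F221015)
theorem F347215 : act 5 n53250 = n64752 := (sb E100226 (iv5 D137769))
theorem F347216 : act 5 n137768 = n115434 := d6_2 F347215 D137768 F179735
theorem E100227 : n137785 = n132225 := (c9_12 F347215 (iv4 D64752) D64753 (iv4 F345906) (iv5 D132418) (iv4 F163624) (iv5 F163619) F163618 F344619 (iv4 D64757) D64758 D137785 (iv5 D132225) F96666 (iv5 D53253) (iv4 F84099))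
theorem F347217 : act 4 n132225 = n64758 := (sb E100227 (iv4 D137785))
theorem F347218 : act 5 n137770 = n112252 := d12_3 D53250 F347215 D137770 (iv6 D112252) F81773
theorem F347219 : act 5 n136092 = n115437 := d13_3 (iv7 D115437) F347215 (iv7 F219036)
theorem F347220 : act 5 n105630 = n145644 := d17_7 (iv1 F217144) F165116 (iv1 F99037) (iv5 D53253) (iv4 F84099) F347215 F219215 (iv0 F228662) F217146
theorem F347221 : act 0 n137802 = n105581 := d18_0 (iv4 F163645) (iv1 D53252) (iv4 F84099) F347215 (iv4 D64752) (iv0 D30459) D30462 D64764 D137802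
theorem E100228 : n138091 = n30460 := (c17_8 (iv1 F162176) D137802 F347221 F336181 F161959 F93921 D64886 D138091 F99585 (iv4 F162172))
theorem E100229 : n64886 = n64758 := (((D64758).symm.trans (sb E100228 (iv5 D138091)))).symm
theorem E100230 : n137772 = n30495 := (((iv1 F221021)).symm.trans (sb E100229 (iv1 D64886)))
theorem E100231 : n137771 = n136215 := ((F221020).symm.trans (sb E100229 F219239))
theorem E100237 : n64885 = n64753 := ((D64885).symm.trans (sb E100230 (iv1 D137772)))
theorem F347222 : act 1 n30495 = n64758 := (sb E100230 F221021)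
theorem F347223 : act 0 n136215 = n64758 := (sb E100231 (iv1 F221020))
theorem F347224 : act 0 n64753 = n136215 := (sb E100237 (iv1 F219237))
theorem F347225 : act 1 n64753 = n30495 := (sb E100237 (iv0 D64885))
theorem F347226 : act 1 n137802 = n105580 := d15_1 (iv0 F347221) (iv7 F162187) (iv2 F163646)
theorem F347227 : act 7 n137802 = n105504 := d15_2 D105581 (iv0 F347221) F161973
theorem F347228 : act 2 n105583 = n137802 := d4_3 F347227 F161973 D105583
theorem F347229 : act 6 n105600 = n137802 := d14_5 F347227 (iv6 D105504) F76812 D48822 D105600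
theorem E100242 : n137806 = n107132 := ((c17_4 (iv1 F163622) F163619 (iv1 F99038) (iv5 F165116) (iv4 D137806) (iv5 D64765) D64764 D137802 F347226 F162186)).symm
theorem F347230 : act 4 n107132 = n64765 := (sb E100242 (iv4 D137806))
theorem F347231 : act 4 n137791 = n134935 := d1_2 F347230 (iv2 F221032) F217147
theorem E100243 : n145659 = n137804 := ((c20_2 F347230 D137804 (iv4 D145659) (iv3 F328270) F328268 F95172 D60576 D128802 F207056 (iv3 F217140) (iv1 F217144))).symm
theorem F347232 : act 0 n137804 = n108055 := (sb E100243 F228689)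
theorem F347233 : act 2 n137804 = n132429 := (sb E100243 F228687)
theorem F347234 : act 4 n137804 = n68277 := (sb E100243 (iv4 D145659))
theorem F347235 : act 7 n137804 = n132426 := (sb E100243 F228688)
theorem F347236 : act 5 n105541 = n137805 := d16_7 F347234 F104431 (iv4 F213008) F328662 F221048 F220569 F218795 F344617 (iv2 F347233)
theorem F347237 : act 5 n105540 = n137804 := d16_1 (iv4 F220072) F347234 F104431 (iv4 F213008) F328662 F221048 F220569 F218794 D136895
theorem F347238 : act 0 n105504 = n105543 := d17_0 (iv5 D105543) D105540 F347237 F347234 F104431 (iv0 F162047) (iv5 D59646) (iv0 F162019) (iv4 F161974)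
theorem E100244 : n143032 = n108051 := ((c18_4 D137804 F347234 (iv1 F104432) (iv4 F167043) (iv5 D143032) F103024 D67051 (iv4 F103034) (iv0 D64763) D64765)).symm
theorem F347239 : act 3 n108051 = n67034 := (sb E100244 F225898)
theorem F347240 : act 5 n108051 = n67033 := (sb E100244 (iv5 D143032))
theorem E100245 : n143085 = n132422 := (c16_5 (iv4 F167043) F347240 F103024 D67053 D143085 F212490 F96846 (iv5 F50059) F50060 (iv2 F78938))
theorem F347241 : act 4 n132422 = n67053 := (sb E100245 (iv4 D143085))
theorem F347242 : act 4 n143082 = n132663 := d1_2 F347241 (iv2 F225933) F345902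
theorem F347243 : act 4 n137340 = n145658 := d16_0 (iv5 D145658) F104429 F50059 (iv4 F96846) (iv5 F212490) F347241 (iv5 D67053) D67055 (iv2 F220527)
theorem F347244 : act 4 n143084 = n137822 := d18_7 F203545 (iv4 D126562) (iv1 F93676) (iv4 F96846) (iv5 F212490) F347241 D143084 (iv0 D137822) F329051
theorem F347245 : act 2 n136897 = n143084 := d1_3 F347244 (iv2 F233557) F233555
theorem F347246 : act 5 n137822 = n132575 := d16_1 F347244 F212802 F104434 (iv4 F344616) (iv5 F347236) (iv4 F218795) (iv5 F220569) F220571 F347245
theorem F347247 : act 5 n136895 = n143084 := d16_1 F220072 F347244 F347246 F212802 F104434 (iv4 F344616) (iv5 F347236) (iv7 F220068) F220071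
theorem F347248 : act 0 n137820 = n105520 := d18_0 F162007 D105540 F220072 F347247 F347244 (iv0 D137822) (iv4 D64769) D64768 D137820
theorem E100246 : n143084 = n134195 := (c20_9 F47987 (iv1 F95817) D61467 F325880 (iv1 F48869) (iv3 F48876) D64769 D137822 (iv4 F347244) (iv3 D134195) (iv1 D63040))
theorem F347249 : act 0 n134195 = n67053 := (sb E100246 (iv1 D143084))
theorem F347250 : act 2 n134195 = n136897 := (sb E100246 (iv2 F347245))
theorem E100247 : n137822 = n132212 := (((F216230).symm.trans (sb E100246 F347244))).symm
theorem F347251 : act 5 n134195 = n136895 := (sb E100246 (iv5 F347247))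
theorem F347252 : act 1 n132212 = n64769 := (sb E100247 (iv0 D137822))
theorem F347253 : act 2 n132212 = n148760 := (sb E100247 (iv2 F233557))
theorem F347254 : act 5 n132212 = n132575 := (sb E100247 F347246)
theorem F347255 : act 2 n132575 = n148771 := d2_1 F347254 F233571 (iv2 F347253)
theorem F347256 : act 3 n132575 = n132215 := d6_1 F347254 (iv5 D132215) (iv3 F211824)
theorem F347257 : act 6 n132574 = n132211 := d12_4 D132212 F347254 (iv6 D132575) D132574 (iv5 D132211)
theorem F347258 : act 3 n132213 = n132574 := d7_3 F347257 F211822 D132213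
theorem F347259 : act 5 n132573 = n132213 := d6_0 F347258 (iv5 D132574) D132573
theorem F347260 : act 6 n132215 = n132573 := d12_0 F347259 (iv6 D132213) (iv5 D62029) D62030 D132215
theorem F347261 : act 6 n148771 = n132534 := d3_2 D132575 F347255 F212738
theorem F347262 : act 3 n132534 = n148772 := d7_1 F347261 (iv6 D148772) D148771
theorem F347263 : act 7 n148772 = n132567 := d8_2 (iv7 F212739) F347262 (iv3 D132567)
theorem F347264 : act 6 n148760 = n132210 := d3_2 D132212 F347253 (iv2 D132210)
theorem F347265 : act 4 n132409 = n126839 := d20_0 (iv1 D126839) D126840 F204084 (iv1 F347252) F211824 F96661 F47054 (iv4 F47131) (iv3 F96844) D132409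
theorem F347266 : act 2 n159565 = n132409 := d1_3 F347265 (iv2 F220097) (iv4 F251327)
theorem F347267 : act 7 n132409 = n129463 := d4_2 F325511 F347266 (iv2 F211863)
theorem E100248 : n132410 = n132230 := (c15_2 (iv0 D132409) D132410 F325511 F347266)
theorem F347268 : act 0 n132230 = n62125 := (sb E100248 (iv1 D132410))
theorem F347269 : act 4 n129463 = n126733 := d11_1 F347267 (iv7 F220096) (iv4 F347265)
theorem F347270 : act 6 n126733 = n129461 := d10_2 D129463 F347269 (iv4 D129461)
theorem F347271 : act 3 n136895 = n134196 := d6_1 F347251 (iv5 D134196) D134195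
theorem F347272 : act 2 n145658 = n105630 := d1_1 F347243 F162230 (iv2 F220527)
theorem F347273 : act 1 n145658 = n136092 := d18_8 (iv1 F179745) (iv4 D105586) (iv1 D48817) (iv4 F76896) (iv5 F344608) F103034 F220529 F347243 F347219
theorem F347274 : act 4 n135552 = n136880 := d5_4 F347242 F212983 (iv4 F99100) (iv3 F217977) (iv3 F225934)
theorem F347275 : act 6 n132662 = n143082 := d10_0 F347242 (iv6 D132663) D132662
theorem F347276 : act 1 n132663 = n137814 := d18_6 D30459 D64752 (iv1 F347211) F347214 D143082 F347242 (iv4 D137814) (iv0 D64767) (iv5 D30463)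
theorem F347277 : act 4 n132668 = n135593 := d20_0 (iv1 F218376) F333186 F233562 (iv1 F106092) D148760 F233555 (iv1 F225959) F347242 F212983 D132668
theorem F347278 : act 3 n159566 = n132668 := d20_5 F106088 (iv1 D34873) D34874 D76340 D159566 F347277 (iv1 F218376) F333186 F233562 (iv1 F106092)
theorem E100249 : n137814 = n132419 := (c15_1 F347276 (iv0 D132419) D132422 (iv2 F345902))
theorem F347279 : act 0 n132419 = n132663 := (sb E100249 (iv1 F347276))
theorem F347280 : act 4 n132419 = n64767 := (sb E100249 (iv4 D137814))
theorem E100250 : n137813 = n102629 := (c20_10 F245960 (iv1 F333067) (iv4 D137551) D137550 (iv1 F220975) (iv3 F345908) (iv4 D132421) D132419 F347280 D137813 (iv1 F333140))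
theorem F347281 : act 3 n102629 = n64767 := (sb E100250 (iv3 D137813))
theorem F347282 : act 3 n137816 = n128658 := d7_3 F333141 F347281 D137816
theorem E100251 : n143086 = n134104 := (c3_3 F347275 F225933 D143086 (iv2 F216151))
theorem F347283 : act 3 n134104 = n67059 := (sb E100251 F225936)
theorem F347284 : act 6 n134104 = n67053 := (sb E100251 (iv6 D143086))
theorem F347285 : act 6 n136880 = n135551 := d7_2 F347275 F225934 F217976
theorem F347286 : act 5 n143083 = n142664 := d12_3 F347275 (iv5 D143082) D143083 F316210 (iv5 F336980)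
theorem E100252 : n178674 = n143090 := (c2_2 F347286 F316209 (iv5 D143090) (iv2 F225935))
theorem F347287 : act 2 n143090 = n142664 := (sb E100252 (iv2 F316209))
theorem F347288 : act 4 n143090 = n85104 := (sb E100252 (iv4 D178674))
theorem F347289 : act 6 n143090 = n85106 := (sb E100252 F278480)
theorem E100253 : n178677 = n143103 := (c7_2 F347289 D178677 F225960 (iv3 F225939))
theorem F347290 : act 3 n143103 = n85106 := (sb E100253 (iv3 D178677))
theorem E100254 : n186507 = n158950 := ((F335424).symm.trans (sb E100253 F278491))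
theorem F347291 : act 5 n158950 = n143104 := (sb E100254 F335421)
theorem F347292 : act 6 n158950 = n88830 := (sb E100254 (iv6 D186507))
theorem F347293 : act 7 n158950 = n143103 := (sb E100254 (iv7 F335424))
theorem F347294 : act 5 n117698 = n143089 := d21_0 (iv1 D143089) D143090 F347289 F155240 (iv6 D68879) D68878 F105066 (iv5 D54214) D54215 D117698
theorem F347295 : act 0 n143090 = n155503 := d21_4 F329643 D134104 F336978 (iv6 F347289) (iv6 D155503) D155502 F244519 (iv5 D117847) (iv6 F131042) (iv1 F311646)
theorem E100255 : n186505 = n158952 := (c7_2 F347292 D186505 (iv6 D158952) D158950)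
theorem F347296 : act 3 n158952 = n88830 := (sb E100255 (iv3 D186505))
theorem E100256 : n183387 = n158953 := (c20_1 D183387 (iv1 D158953) (iv4 F250288) F347296 (iv1 F309261) F309263 F291551 (iv1 F292806) (iv4 F137671) D182962 (iv1 F284558))
theorem F347297 : act 4 n158953 = n87540 := (sb E100256 (iv4 D183387))
theorem F347298 : act 4 n88923 = n123528 := d1_2 F347297 (iv2 F136481) (iv2 F310205)
theorem F347299 : act 4 n183388 = n139725 := d11_3 F345708 F347297 D183388
theorem F347300 : act 5 n183386 = n96419 := d17_1 D183386 F293556 F346304 F105016 (iv5 F86825) F318261 (iv5 F318392) D158953 F347297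
theorem F347301 : act 2 n96420 = n183386 := d2_3 F347300 (iv2 D96419) D96420
theorem F347302 : act 3 n117450 = n183386 := d6_3 F347300 F148431 F343877
theorem E100257 : n183386 = n158959 := ((c21_6 D146779 F230142 (iv5 D69734) (iv6 F54933) D75879 D158959 F347300 F293556 F346304 (iv6 D68828) (iv1 F105009))).symm
theorem F347303 : act 0 n158959 = n102517 := (sb E100257 (iv1 F285100))
theorem F347304 : act 1 n158959 = n87540 := (sb E100257 (iv0 D183386))
theorem F347305 : act 2 n158959 = n96420 := (sb E100257 (iv2 F347301))
theorem F347306 : act 3 n158959 = n117450 := (sb E100257 (iv3 F347302))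
theorem F347307 : act 5 n158959 = n96419 := (sb E100257 F347300)
theorem F347308 : act 6 n96478 = n158958 := d12_4 D158959 F347307 F148432 D96478 (iv5 D158958)
theorem F347309 : act 2 n158958 = n96482 := d3_1 F347308 (iv6 D96482) (iv2 F148579)
theorem F347310 : act 3 n158958 = n130750 := d7_1 F347308 F328671 (iv3 F329337)
theorem F347311 : act 7 n158958 = n136104 := d14_2 (iv7 F329338) F347308 (iv6 D136104) F99587 D64770
theorem F347312 : act 0 n182387 = n158970 := d21_4 (iv5 D89057) F295197 D87087 D182387 (iv6 D158970) (iv5 D75882) D75879 D158958 (iv6 F347308) (iv1 F295123)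
theorem F347313 : act 4 n136104 = n129115 := d11_1 F347311 (iv7 F212408) (iv4 F337005)
theorem F347314 : act 5 n136104 = n146918 := d13_1 F347311 (iv7 F230315) D158958
theorem F347315 : act 4 n96482 = n129114 := d16_0 F207344 (iv4 F208362) F312966 (iv4 F128776) (iv5 F227855) (iv4 F230302) (iv5 F347314) (iv7 F347311) F347309
theorem F347316 : act 5 n146917 = n96482 := d9_0 F347315 F207344 (iv4 F208362) F312966 (iv4 F128776) (iv5 F227855) (iv4 F230302) (iv5 F347314) F347313 (iv5 F208392) F208382 D130287 F315293 F261826 F233901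
theorem F347317 : act 6 n129114 = n96481 := d10_2 D96482 F347315 (iv4 D96481)
theorem F347318 : act 4 n96489 = n128762 := d20_0 (iv1 D128762) (iv4 F98234) (iv3 D62958) (iv1 F95290) D129113 F207342 D129114 (iv4 F347315) F148581 D96489
theorem F347319 : act 2 n128762 = n134078 := d1_1 F347318 F339644 (iv2 F339694)
theorem F347320 : act 6 n128762 = n124725 := d10_2 (iv6 F339696) F347318 (iv4 D124725)
theorem F347321 : act 7 n134079 = n128762 := d15_2 (iv0 D134078) D134079 F347319
theorem F347322 : act 4 n161611 = n128959 := d16_6 F339644 (iv5 D72870) (iv4 F94820) F317250 (iv4 F300965) (iv5 F303678) (iv5 F336396) F347321 F347319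
theorem F347323 : act 7 n128761 = n134078 := d15_2 F216094 F216092 (iv2 F347319)
theorem F347324 : act 2 n134079 = n128761 := d4_3 F347323 (iv2 F347319) (iv7 F347321)
theorem F347325 : act 4 n96490 = n128761 := d11_3 F347323 F339644 (iv7 F345952)
theorem F347326 : act 4 n134079 = n95429 := d1_2 F347325 (iv2 F347324) (iv2 F345950)
theorem F347327 : act 0 n134232 = n128191 := d18_2 F329651 D134232 F206331 (iv5 F345951) F347325 (iv0 D128761) (iv4 F98234) (iv0 F329131) (iv5 D123673)
theorem F347328 : act 3 n96488 = n125935 := d20_3 (iv4 F347325) (iv1 D96490) (iv4 F148591) (iv1 F202419) F343581 (iv4 D49421) F37800 D28759 D60558 D128761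
theorem F347329 : act 6 n125935 = n96487 := d7_2 D96488 F347328 (iv3 D96487)
theorem E100258 : n134123 = n134027 := ((c17_7 F347327 F336902 D167586 F301463 (iv4 F339652) F329135 F215994 F336387 F329650 D134232)).symm
theorem F347330 : act 2 n134027 = n63003 := (sb E100258 F216168)
theorem F347331 : act 5 n134027 = n73063 := (sb E100258 F336387)
theorem F347332 : act 7 n134027 = n63002 := (sb E100258 (iv7 D134123))
theorem F347333 : act 4 n124715 = n147738 := d20_2 F206331 (iv1 F199535) F231471 F231479 F334535 D175163 (iv1 F332232) F332234 (iv3 F336890) F347327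
theorem F347334 : act 0 n167590 = n158324 := d21_4 (iv5 F336891) F347327 F336902 D167590 (iv6 D158324) D158323 F275781 (iv5 D176479) (iv6 D84151) (iv1 F155157)
theorem F347335 : act 5 n132961 = n147738 := d18_4 F155156 F323696 D163534 (iv4 F342053) (iv4 F347333) F199535 (iv4 F206331) (iv0 F347327) F336891
theorem E100259 : n147738 = n128144 := (c17_2 D132961 F347335 (iv1 D128144) (iv5 F311886) F186472 D149040 (iv0 F345389) (iv5 D176472) F315824 F213589)
theorem F347336 : act 3 n128144 = n69226 := (sb E100259 F231471)
theorem F347337 : act 4 n128144 = n124715 := (sb E100259 (iv4 F347333))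
theorem F347338 : act 5 n128144 = n132961 := (sb E100259 (iv5 F347335))
theorem F347339 : act 6 n128144 = n69223 := (sb E100259 (iv6 D147738))
theorem E100260 : n154217 = n83355 := (c18_4 (iv1 D128144) F94793 D73060 D154217 (iv5 D83355) (iv4 F113291) F315826 (iv4 F210564) F213599 (iv5 F347338))
theorem E100261 : n174380 = n73060 := ((D174380).symm.trans (sb E100260 (iv4 D154217)))
theorem F347340 : act 4 n73060 = n83355 := (sb E100261 (iv4 D174380))
theorem F347341 : act 2 n134373 = n124715 := d16_9 (iv4 F347337) F347338 F342053 F342757 F342761 (iv5 D130233) (iv4 F208735) (iv5 F342762) (iv7 F342764)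
theorem F347342 : act 5 n124715 = n134372 := d2_2 D134373 F347341 (iv2 D134372)
theorem F347343 : act 4 n172783 = n154219 := d10_3 (iv6 D154219) F347340 (iv6 F271054)
theorem F347344 : act 4 n174379 = n124717 := d18_3 D73060 F347340 D174379 F345949 (iv4 F347326) F216093 (iv4 F215997) F215999 (iv5 F336393)
theorem E100262 : n153991 = n63126 := (c18_10 F216302 (iv4 D128948) (iv1 F206881) F206879 F329918 F347340 F319547 F94820 D72869 D153991)
theorem E100263 : n134373 = n72869 := ((D134373).symm.trans (sb E100262 (iv5 D153991)))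
theorem E100264 : n153988 = n124715 := (((iv2 F242012)).symm.trans (sb E100263 F347341))
theorem E100265 : n153989 = n63127 := ((D153989).symm.trans (sb E100263 F216371))
theorem F347345 : act 5 n72869 = n63126 := (sb E100263 (iv5 D134373))
theorem E100266 : n153983 = n124714 := ((F242010).symm.trans (sb E100263 F342764))
theorem F347346 : act 2 n124715 = n72869 := (sb E100264 F242012)
theorem F347347 : act 7 n124715 = n72868 := (sb E100264 (iv7 D153988))
theorem F347348 : act 3 n63127 = n72869 := (sb E100265 (iv3 D153989))
theorem F347349 : act 2 n124714 = n72868 := (sb E100266 (iv2 D153983))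
theorem F347350 : act 7 n124714 = n72869 := (sb E100266 (iv7 F242010))
theorem F347351 : act 7 n153990 = n128143 := d11_2 F347350 D153990 F342766
theorem F347352 : act 3 n130072 = n153990 := d8_3 F347351 F342765 (iv7 F308031)
theorem F347353 : act 5 n130071 = n153990 := d13_3 F347351 F342767 (iv7 F308030)
theorem F347354 : act 2 n153990 = n128144 := d2_1 F347353 F347338 (iv2 F213595)
theorem F347355 : act 0 n153990 = n123670 := d18_0 F198096 F329651 D134232 F336891 (iv4 F188733) (iv0 F315778) F315780 F313349 F347353
theorem F347356 : act 1 n128710 = n95427 := d18_6 (iv1 F199541) D153990 F347355 F198096 D123673 F329133 F147042 D95429 (iv5 F345949)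
theorem F347357 : act 3 n151593 = n134361 := d20_3 F253047 (iv1 F193591) (iv4 F238472) (iv1 F216369) F347348 D153990 F347355 F198096 (iv3 F107991) D151557
theorem F347358 : act 1 n153990 = n128146 := d15_1 (iv0 F347355) (iv7 D128146) (iv2 F198094)
theorem F347359 : act 4 n134361 = n170400 := d5_2 (iv4 F238472) F347357 F334465 F334455 (iv3 F193587)
theorem F347360 : act 3 n151558 = n158914 := d20_9 (iv4 F280342) F280339 F337006 F216364 D134361 (iv3 F347357) F238472 (iv1 F193590) (iv4 F253051) (iv1 F280347)
theorem F347361 : act 5 n134796 = n151558 := d6_0 F347360 (iv5 F336961) (iv3 F216911)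
theorem E100267 : n159678 = n158938 := ((c8_4 (iv7 F253052) F347360 F250220 D158938)).symm
theorem F347362 : act 0 n158938 = n151560 := (sb E100267 (iv1 F251556))
theorem F347363 : act 1 n158938 = n76395 := (sb E100267 (iv0 D159678))
theorem F347364 : act 2 n158938 = n151557 := (sb E100267 (iv2 F253049))
theorem F347365 : act 4 n158938 = n121359 := (sb E100267 (iv4 F261870))
theorem F347366 : act 7 n158938 = n151558 := (sb E100267 (iv7 F253052))
theorem F347367 : act 3 n148151 = n114104 := d20_5 F238472 (iv1 F193590) (iv4 F253051) F347360 (iv1 F280347) F177706 (iv1 F336936) (iv4 F336932) (iv3 F336933) (iv1 F251563)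
theorem F347368 : act 0 n134238 = n158914 := d20_4 F96502 (iv1 F100881) F100884 D134238 (iv3 F347360) F253051 (iv1 D76598) (iv4 F114871) F114870 (iv1 F328717)
theorem E100268 : n130660 = n114107 := (c19_1 D130660 (iv5 D114107) (iv4 F177706) (iv3 F347367) F280346 (iv5 F336958) (iv4 D129149) F95323 F48436 F48434 F46526 (iv3 F37722) (iv1 F37724) (iv5 F23840) (iv4 F22167) (iv3 F45146) F48131 (iv5 F93557) F93558 D61307)
theorem F347369 : act 0 n114107 = n133453 := (sb E100268 (iv1 F214607))
theorem F347370 : act 1 n114107 = n61307 := (sb E100268 (iv0 D130660))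
theorem F347371 : act 7 n130661 = n114257 := d15_2 F347370 D130661 F178090
theorem F347372 : act 4 n113698 = n132222 := d20_6 (iv4 D59326) D59325 F93558 D61307 (iv1 F347370) F177707 (iv1 D132222) (iv4 F97675) (iv3 D62628) (iv1 F93567)
theorem F347373 : act 2 n132222 = n146868 := d1_1 F347372 F230258 (iv2 F176913)
theorem F347374 : act 6 n132222 = n113697 := d10_2 D113698 F347372 (iv4 D113697)
theorem F347375 : act 7 n132221 = n146868 := d15_2 F211847 F211843 (iv2 F347373)
theorem F347376 : act 4 n146871 = n132221 := d11_3 F347375 F230258 D146871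
theorem F347377 : act 5 n144944 = n130682 := d18_9 F334259 F347376 (iv1 F211843) (iv4 F209216) F335150 F335147 F199848 (iv4 F104052) D144944
theorem F347378 : act 1 n130682 = n113698 := d17_6 F233446 (iv5 F301922) F306459 F236031 (iv4 F229135) F347377 F176914 D119073 (iv4 F337009)
theorem F347379 : act 6 n144945 = n127384 := d21_3 (iv5 F347377) (iv1 D144944) D144945 (iv1 D127384) (iv6 D59831) (iv5 D28387) D28384 (iv5 F82884) D113698 (iv1 F347378)
theorem F347380 : act 5 n127384 = n144942 := d12_1 F347379 (iv6 D144942) (iv5 D67949) D67950 D144945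
theorem F347381 : act 5 n114258 = n130661 := d13_3 F347371 (iv5 D114257) D114258
theorem E100269 : n137373 = n123607 := ((c18_2 (iv1 D130661) (iv4 F329635) (iv1 D137373) (iv4 F220579) F324637 (iv4 F324635) D153956 (iv4 F336956) F178095 F347381)).symm
theorem F347382 : act 0 n123607 = n64575 := (sb E100269 (iv1 D137373))
theorem F347383 : act 0 n137374 = n146935 := d17_2 F347382 D137374 F336974 (iv4 F217436) (iv5 F336942) F336936 D114107 F347370 (iv4 F329635)
theorem F347384 : act 0 n136926 = n101484 := d21_10 F156298 F301993 D57619 (iv6 F198025) F347382 (iv6 D64575) (iv5 D30391) D30388 (iv5 F114701) D136926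
theorem F347385 : act 6 n135813 = n101484 := d21_5 D137374 F347383 F336974 F171572 (iv1 F218439) F156298 F301993 D57619 (iv6 F198025) F347382
theorem E100270 : n137372 = n134113 := ((c15_4 (iv0 D137372) (iv0 F347382) F329636 D134113)).symm
theorem F347386 : act 1 n134113 = n64575 := (sb E100270 (iv0 D137372))
theorem F347387 : act 4 n101484 = n135814 := d10_1 F347385 (iv6 D135814) D135813
theorem F347388 : act 6 n93218 = n108517 := d14_5 F218442 F347385 (iv7 D101484) (iv6 F127124) (iv7 F294223)
theorem F347389 : act 2 n135356 = n93218 := d3_3 F347388 F218441 D135356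
theorem F347390 : act 3 n108517 = n93222 := d7_1 F347388 F143798 (iv3 F143794)
theorem F347391 : act 5 n108517 = n93215 := d12_1 F347388 (iv6 D93215) (iv5 D43608) D43609 D93218
theorem F347392 : act 2 n93215 = n135355 := d2_1 F347391 (iv5 D135355) (iv2 F218441)
theorem E100271 : n135304 = n91210 := (c0_4 (iv3 F143793) F347392 F217604 (iv2 F217538) F140248 (iv2 F68556))
theorem F347393 : act 2 n91210 = n63627 := (sb E100271 F217538)
theorem F347394 : act 5 n91210 = n63610 := (sb E100271 F217539)
theorem F347395 : act 7 n91210 = n63608 := (sb E100271 (iv7 D135304))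
theorem F347396 : act 6 n135355 = n93207 := d3_2 D93215 F347392 F143779
theorem E100272 : n135303 = n101553 := (c14_2 F347395 D135303 (iv7 D101553) F295430 F68561 D91210)
theorem F347397 : act 6 n101553 = n63608 := (sb E100272 (iv6 D135303))
theorem E100273 : n179885 = n135275 := ((c3_2 F347397 (iv2 F217489) (iv6 D179885) (iv2 F156351))).symm
theorem F347398 : act 6 n135275 = n85942 := (sb E100273 (iv6 D179885))
theorem F347399 : act 6 n135302 = n108558 := d10_2 F347397 D135302 F343144
theorem E100274 : n179725 = n135302 := (c7_4 F347399 F167889 (iv6 F326581) D179725)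
theorem F347400 : act 3 n135302 = n85843 := (sb E100274 (iv3 D179725))
theorem F347401 : act 0 n136865 = n91210 := d17_2 F330958 D136865 F347394 F98958 (iv5 F98962) F208795 (iv5 D60768) D60765 D129281
theorem F347402 : act 4 n93222 = n129006 := d5_2 F218448 F347390 (iv3 F218466) F218467 (iv3 F218447)
theorem F347403 : act 6 n129006 = n89195 := d10_2 (iv6 F143798) F347402 F294225
theorem E100275 : n175444 = n128978 := (c16_8 (iv4 F347402) (iv5 D93222) F295367 (iv5 D22141) (iv4 F29555) D38600 D83776 D175444 F207193 D129006)
theorem F347404 : act 5 n128978 = n83776 := (sb E100275 (iv5 D175444))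
theorem E100276 : n175443 = n128980 := (c6_2 F347404 D175443 (iv5 D128980) D128978)
theorem F347405 : act 3 n128980 = n83776 := (sb E100276 (iv3 D175443))
theorem F347406 : act 6 n128980 = n98253 := (sb E100276 F274629)
theorem F347407 : act 2 n98253 = n128997 := d3_1 F347406 (iv6 D128997) (iv2 F207197)
theorem E100277 : n125328 = n98253 := ((c12_1 F347406 (iv5 D125328) (iv6 F199266) F337897 (iv6 D128981) D128980)).symm
theorem F347408 : act 0 n98253 = n180025 := (sb E100277 (iv1 F280409))
theorem F347409 : act 1 n98253 = n79866 := (sb E100277 F299699)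
theorem E100278 : n166089 = n128997 := (((F347407).symm.trans (sb E100277 F299700))).symm
theorem F347410 : act 5 n98253 = n58691 := (sb E100277 (iv5 D125328))
theorem F347411 : act 7 n98253 = n86065 := (sb E100277 F201590)
theorem F347412 : act 0 n128997 = n121709 := (sb E100278 F261502)
theorem F347413 : act 1 n128997 = n166314 := (sb E100278 (iv0 F261904))
theorem F347414 : act 5 n128997 = n79739 := (sb E100278 (iv5 D166089))
theorem F347415 : act 7 n128997 = n166324 := (sb E100278 (iv7 F261919))
theorem F347416 : act 7 n180132 = n129013 := d14_4 (iv7 F207198) F347406 F347411 D180132 (iv6 D129013)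
theorem F347417 : act 5 n180131 = n166063 := d16_1 D180131 (iv4 D166063) (iv5 F312315) (iv4 F312865) (iv5 F116701) F297487 (iv5 F347414) F347415 F299697
theorem E100279 : n163626 = n60656 := (c12_4 D128997 F347414 (iv6 F148928) D163626 (iv6 D60656) D60655)
theorem E100280 : n128999 = n124613 := ((D128999).symm.trans (sb E100279 (iv1 F297645)))
theorem E100281 : n129000 = n124610 := ((D129000).symm.trans (sb E100279 F341956))
theorem E100282 : n129001 = n78615 := ((D129001).symm.trans (sb E100279 (iv5 D163626)))
theorem F347418 : act 1 n124613 = n60656 := (sb E100280 (iv0 D128999))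
theorem F347419 : act 0 n124610 = n60656 := (sb E100281 (iv1 D129000))
theorem F347420 : act 5 n78615 = n60656 := (sb E100282 (iv5 D129001))
theorem F347421 : act 0 n104974 = n166315 := d21_4 D78616 (iv1 F301894) F199313 (iv6 F160855) (iv6 D166315) D166314 (iv1 F347413) F347414 (iv6 F148928) (iv1 D78615)
theorem F347422 : act 1 n96428 = n166315 := d15_0 (iv0 F347421) (iv7 D104974) (iv2 F148456)
theorem F347423 : act 7 n166315 = n104971 := d15_2 (iv0 F324455) F347422 F324451
theorem F347424 : act 3 n105285 = n166315 := d8_3 F347423 F324452 F173637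
theorem F347425 : act 6 n104971 = n162858 := d14_1 F347423 (iv7 F299407) F276591 (iv7 F297616) D166315
theorem F347426 : act 3 n162858 = n113658 := d7_1 F347425 (iv6 D113658) (iv3 F324452)
theorem F347427 : act 5 n162858 = n177019 := d21_6 (iv5 F70086) (iv1 F76349) (iv5 D48513) D48514 D104971 F347425 (iv1 D177019) (iv5 D84370) F59944 (iv1 F56943)
theorem F347428 : act 4 n177019 = n142806 := d16_2 D162858 F347427 (iv5 D142806) F102892 (iv5 F322810) F59924 D55732 F297858 (iv2 F119478)
theorem F347429 : act 0 n160322 = n152463 := d19_16 (iv1 F276425) (iv5 F347427) (iv4 D162858) (iv3 F121410) (iv1 F115919) (iv5 D35228) D35227 F309591 (iv1 F97331) (iv5 F313457) (iv4 D55757) (iv3 F118783) F299334 (iv5 D77059) D77058 (iv3 F253227) (iv5 F318840) F342117 F276870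
theorem E100283 : n101838 = n101715 := ((c18_8 F305528 D160322 F347429 (iv4 F240881) (iv5 F342120) (iv4 D177655) D177654 F342326 (iv0 D101838) D101842)).symm
theorem F347430 : act 1 n101715 = n47329 := (sb E100283 (iv0 D101838))
theorem F347431 : act 0 n172314 = n100492 := d20_4 D160322 F347429 (iv4 F240881) (iv3 F270557) F154555 (iv4 F154556) (iv1 F272863) (iv4 D101849) (iv3 F156800) F305528
theorem E100284 : n157624 = n153322 := ((c20_1 (iv4 F240881) (iv1 D157624) (iv4 F248370) (iv3 D157618) F112566 F107190 F55962 (iv1 F55936) D77058 (iv3 F253227) F347429)).symm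
theorem F347432 : act 0 n153322 = n75046 := (sb E100284 (iv1 D157624))
theorem F347433 : act 6 n160493 = n175942 := d21_3 (iv5 F342109) F347429 (iv5 F318840) (iv1 D175942) F128943 (iv5 D38672) D38670 (iv5 F113427) F333788 (iv1 F334673)
theorem E100285 : n176160 = n173352 := ((c21_1 D173352 (iv1 D176160) (iv5 F249766) F303419 F347429 (iv6 D152463) (iv5 D71918) D71917 F108424 (iv6 F302339) (iv1 F331862))).symm
theorem F347434 : act 0 n173352 = n84027 := (sb E100285 (iv1 D176160))
theorem F347435 : act 7 n133103 = n153324 := d15_2 (iv0 F347429) F342110 F240888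
theorem E100286 : n152463 = n133104 := ((c15_1 D133104 (iv0 F347429) F253228 (iv2 F314211))).symm
theorem F347436 : act 1 n133104 = n160322 := (sb E100286 (iv0 F347429))
theorem F347437 : act 2 n133104 = n153324 := (sb E100286 (iv2 F240888))
theorem F347438 : act 3 n133104 = n71920 := (sb E100286 F239653)
theorem F347439 : act 4 n133104 = n153322 := (sb E100286 (iv4 F240881))
theorem F347440 : act 5 n133104 = n160493 := (sb E100286 (iv5 F318840))
theorem F347441 : act 6 n133104 = n71918 := (sb E100286 (iv6 D152463))
theorem F347442 : act 7 n133104 = n160781 := (sb E100286 (iv7 F342113))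
theorem F347443 : act 2 n160781 = n133103 := d4_1 F347442 F347435 (iv2 F347437)
theorem F347444 : act 5 n133103 = n160492 := d2_2 (iv5 F342124) F347443 (iv2 F342122)
theorem F347445 : act 6 n133103 = n175784 := d3_2 (iv6 F344795) F347443 (iv2 F344792)
theorem F347446 : act 6 n124660 = n160492 := d12_4 F347445 (iv5 D175784) (iv6 F346444) F332209 (iv5 F347444)
theorem E100287 : n176159 = n174738 := (c21_8 D173635 (iv1 F272110) D175784 (iv6 F347445) (iv1 F342110) (iv6 F303419) F249766 D176159 F273570 F321530 (iv1 F127980))
theorem F347447 : act 1 n174738 = n84027 := (sb E100287 (iv0 D176159))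
theorem F347448 : act 2 n158585 = n127215 := d15_3 F331853 F347447 F249764
theorem F347449 : act 7 n127215 = n150549 := d4_2 F249764 F347448 F344753
theorem E100288 : n124660 = n124654 := ((c3_4 F347446 (iv2 F342122) F342140 (iv2 F199407))).symm
theorem F347450 : act 0 n124654 = n58250 := (sb E100288 (iv1 D124660))
theorem F347451 : act 1 n124654 = n58252 := (sb E100288 F199409)
theorem F347452 : act 3 n124654 = n165662 := (sb E100288 F260941)
theorem F347453 : act 5 n124654 = n166843 := (sb E100288 (iv5 F332209))
theorem F347454 : act 6 n124654 = n160492 := (sb E100288 F347446)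
theorem F347455 : act 7 n174845 = n124653 := d14_4 D124654 F347454 F342121 D174845 (iv6 D124653)
theorem F347456 : act 7 n165662 = n124650 := d8_2 D124654 F347452 (iv3 D124650)
theorem E100289 : n124659 = n124649 := (c15_2 F347451 F199408 (iv7 F199406) (iv2 F199407))
theorem F347457 : act 0 n124649 = n58252 := (sb E100289 (iv1 F199408))
theorem F347458 : act 1 n124649 = n58250 := (sb E100289 (iv0 D124659))
theorem F347459 : act 5 n124649 = n148881 := (sb E100289 F336426)
theorem F347460 : act 7 n148881 = n124657 := d13_2 F199406 F347459 (iv5 D124657)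
theorem E100290 : n177453 = n124656 := (c16_6 (iv4 F336443) (iv5 F262964) F262963 F153256 (iv4 F345246) F345247 (iv4 D124656) D124657 (iv7 F347460) (iv2 F336444))
theorem F347461 : act 3 n124656 = n84546 := (sb E100290 F276868)
theorem F347462 : act 5 n124656 = n128842 := (sb E100290 (iv5 F345247))
theorem F347463 : act 6 n124656 = n84541 := (sb E100290 (iv6 D177453))
theorem E100291 : n172172 = n128844 := ((c17_8 (iv1 F333809) F300664 (iv1 F342137) (iv5 D124657) D124656 F347462 (iv0 D128842) D128844 (iv0 F336449) F277080)).symm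
theorem F347464 : act 1 n128844 = n177616 := (sb E100291 (iv0 F336449))
theorem F347465 : act 2 n128844 = n172545 := (sb E100291 F303452)
theorem F347466 : act 4 n128844 = n82451 := (sb E100291 (iv4 D172172))
theorem F347467 : act 6 n128844 = n82457 := (sb E100291 F270331)
theorem F347468 : act 3 n178186 = n128861 := d5_3 F347466 F335989 D178186 (iv4 D128861) (iv3 F207102)
theorem F347469 : act 6 n128861 = n180281 := d7_2 (iv6 F335990) F347468 (iv3 D180281)
theorem F347470 : act 0 n186297 = n128861 := d20_4 (iv4 D78132) F298018 D88746 D186297 (iv3 F347468) (iv4 D178186) (iv1 D84813) (iv4 F128548) (iv3 D83443) (iv1 F300457)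
theorem F347471 : act 4 n180281 = n128852 := d10_1 F347469 F207112 D128861
theorem F347472 : act 7 n172391 = n180281 := d11_0 F347471 F325916 (iv4 F270605)
theorem F347473 : act 5 n92695 = n180281 := d16_1 D92695 F347471 (iv5 D128852) (iv4 F95250) D128968 F341623 (iv5 D92701) (iv7 F160272) F160271
theorem F347474 : act 1 n128852 = n104658 := d18_6 (iv1 D47804) F36070 D43361 D92695 F347473 F347471 (iv4 D104658) (iv0 F160666) (iv5 D103117)
theorem F347475 : act 0 n166207 = n180281 := d20_7 F248749 (iv1 F329438) D75575 (iv3 F323857) D86063 D180123 F299705 F347471 F325915 (iv1 F329443)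
theorem F347476 : act 2 n180281 = n95316 := d2_1 F347473 (iv5 D95316) (iv2 F160269)
theorem F347477 : act 3 n180282 = n92695 := d6_3 F347473 (iv3 D180281) D180282
theorem E100292 : n172391 = n95320 := (c13_3 (iv7 F160270) F347473 (iv7 F347472) (iv5 D95320))
theorem F347478 : act 3 n95320 = n82546 := (sb E100292 (iv3 D172391))
theorem F347479 : act 4 n95320 = n82602 := (sb E100292 F270605)
theorem F347480 : act 7 n95320 = n180281 := (sb E100292 F347472)
theorem E100293 : n172541 = n104820 := (c18_7 (iv1 D48448) (iv4 F63613) D88464 F135436 D95320 F347479 D172541 (iv4 D104820) (iv0 F160588) (iv5 D104788))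
theorem F347481 : act 0 n104820 = n82602 := (sb E100293 (iv1 D172541))
theorem F347482 : act 0 n98129 = n95320 := d20_7 F127225 F321828 (iv4 F321832) F321831 (iv1 F126195) D95266 (iv4 F151324) F347479 (iv3 D82602) D82600
theorem F347483 : act 4 n172389 = n180303 := d20_0 (iv1 F335309) (iv4 D104606) F76040 (iv1 F36754) D48460 D104820 F347481 (iv4 F347479) F347478 D172389
theorem F347484 : act 3 n112130 = n172389 := d5_5 F347483 (iv3 F335285) (iv4 D144358) (iv3 F227090) (iv4 F227093)
theorem E100294 : n172392 = n95319 := ((c18_9 D172389 F347483 (iv1 F335309) (iv4 D104606) (iv5 D48376) F36627 F289646 (iv4 F158269) F289644 (iv5 D172392))).symm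
theorem F347485 : act 5 n95319 = n82546 := (sb E100294 (iv5 D172392))
theorem F347486 : act 1 n179997 = n172389 := d18_6 D158441 F270322 (iv1 F301540) (iv4 F127021) F324613 D179997 F347483 (iv0 F332000) (iv5 D158443)
theorem E100295 : n185454 = n112130 := (c20_5 D48461 (iv1 F135304) (iv4 D88349) (iv3 F135288) D185454 F347484 F347483 (iv1 F335309) (iv4 D104606) F76040 (iv1 F36754))
theorem F347487 : act 1 n112130 = n88345 := (sb E100295 (iv0 D185454))
theorem F347488 : act 0 n179996 = n121214 := d20_4 (iv4 F347483) (iv1 F347486) (iv4 D179997) D179996 F193293 (iv4 F193295) (iv1 F330729) (iv4 D158445) (iv3 F249643) F332000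
theorem F347489 : act 5 n158317 = n179996 := d17_1 (iv1 F249443) F347488 F344720 (iv4 F243933) F347126 (iv0 F344414) (iv5 D172245) (iv0 F344395) F239874
theorem F347490 : act 1 n179996 = n176500 := d15_1 (iv0 F347488) (iv7 F345775) F345772
theorem E100296 : n149942 = n84156 := (c21_6 D82743 F307685 F306844 D83090 (iv1 F317081) D149942 D176500 (iv1 F347490) (iv5 F347489) F298828 F297024)
theorem E100297 : n176498 = n121045 := ((D176498).symm.trans (sb E100296 F235847))
theorem E100298 : n176501 = n70519 := ((D176501).symm.trans (sb E100296 (iv6 D149942)))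
theorem F347491 : act 3 n121045 = n84156 := (sb E100297 (iv3 D176498))
theorem F347492 : act 6 n70519 = n84156 := (sb E100298 (iv6 D176501))
theorem F347493 : act 6 n176499 = n149941 := d10_2 F347492 D176499 (iv4 D149941)
theorem F347494 : act 6 n176500 = n149944 := d12_2 F347492 D176500 (iv5 D149944) (iv6 D70520) D70519
theorem E100299 : n176500 = n158327 := ((c21_8 (iv5 F334186) F334187 (iv5 F310294) (iv6 D75479) (iv1 D34538) D34541 D75484 D158327 (iv5 D176500) (iv6 F347492) D149939)).symm
theorem F347495 : act 0 n158327 = n179996 := (sb E100299 (iv1 F347490))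
theorem F347496 : act 5 n158327 = n84156 := (sb E100299 (iv5 D176500))
theorem F347497 : act 6 n158327 = n149944 := (sb E100299 F347494)
theorem F347498 : act 7 n158327 = n180253 := (sb E100299 (iv7 F345775))
theorem F347499 : act 2 n180231 = n158327 := d4_3 F347498 F345772 (iv7 F346963)
theorem E100300 : n180252 = n180231 := ((c15_4 (iv0 D180252) D180253 (iv7 F347498) (iv2 F347499))).symm
theorem F347500 : act 1 n180231 = n86107 := (sb E100300 (iv0 D180252))
theorem F347501 : act 2 n179996 = n158330 := d15_3 (iv0 F346960) F347500 (iv7 F324624)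
theorem F347502 : act 3 n158327 = n173232 := d0_2 D180231 F347499 F271554 (iv3 F330724) F330723
theorem F347503 : act 5 n173232 = n121045 := d6_2 (iv5 F347496) F347502 F347491
theorem F347504 : act 0 n173232 = n153593 := d21_7 (iv5 F163145) F163146 F161729 F321523 (iv1 F300821) D121045 (iv5 F347503) (iv5 D153593) (iv6 D72624) D72621
theorem F347505 : act 0 n164151 = n131380 := d21_10 (iv5 D131380) (iv1 F315826) (iv5 F318045) F318046 D158327 F347497 (iv5 D149944) (iv1 F304706) F304708 F343514
theorem E100301 : n129053 = n128954 := ((c17_8 F347505 (iv5 D131380) (iv1 F315826) (iv5 F318045) (iv4 D128960) (iv5 D60644) D60642 D128954 F339667 (iv4 F339655))).symm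
theorem F347506 : act 0 n128954 = n60673 := (sb E100301 (iv1 D129053))
theorem F347507 : act 1 n128954 = n170251 := (sb E100301 F339667)
theorem F347508 : act 3 n128954 = n78562 := (sb E100301 F339668)
theorem F347509 : act 4 n128954 = n78583 := (sb E100301 F339669)
theorem F347510 : act 6 n128954 = n79623 := (sb E100301 F339670)
theorem F347511 : act 7 n128954 = n78555 := (sb E100301 F339671)
theorem F347512 : act 0 n131381 = n176499 := d21_4 F343512 F347505 (iv5 D131380) D131381 F347493 (iv5 F242195) (iv1 F242397) F332024 (iv6 F343508) F316727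
theorem F347513 : act 5 n132951 = n128955 := d12_3 F347510 (iv5 F248694) F338342 (iv6 D128955) D128954
theorem F347514 : act 7 n128955 = n132950 := d13_2 D132951 F347513 (iv5 D132950)
theorem E100302 : n132950 = n132044 := (c14_1 F347514 (iv6 D132044) (iv7 F218396) (iv6 F339689) (iv7 F207169) D128955)
theorem F347515 : act 5 n132044 = n62386 := (sb E100302 (iv5 D132950))
theorem F347516 : act 7 n132044 = n128955 := (sb E100302 (iv7 F347514))
theorem E100303 : n132946 = n132043 := (c12_5 D132044 F347515 (iv6 D62386) D62385 D132946 (iv5 D132043))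
theorem F347517 : act 6 n132043 = n62385 := (sb E100303 (iv6 D132946))
theorem F347518 : act 6 n96653 = n132944 := d21_3 (iv5 F293084) (iv1 F71121) D96653 (iv1 D132944) (iv6 F347517) (iv5 D132043) (iv1 D61960) D61962 (iv6 F343663) (iv1 F150113)
theorem F347519 : act 2 n132944 = n182878 := d3_1 F347518 (iv6 D182878) (iv2 F148941)
theorem F347520 : act 4 n132944 = n97432 := d10_1 F347518 (iv6 D97432) F293573
theorem F347521 : act 5 n91690 = n132998 := d21_2 (iv5 D163455) (iv1 F140958) (iv6 D132998) (iv1 F213567) (iv6 F347518) (iv5 D96653) F71120 F293098 F326271 (iv1 F257741)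
theorem F347522 : act 2 n132998 = n91691 := d2_1 F347521 (iv5 D91691) D91690
theorem F347523 : act 7 n132998 = n163460 := d13_2 (iv7 F140957) F347521 (iv5 D163460)
theorem F347524 : act 0 n132998 = n163463 := d17_2 (iv1 F140958) F347521 F257746 (iv4 F119778) (iv5 F250798) (iv0 F258228) F194361 F258227 (iv4 D163454)
theorem F347525 : act 1 n132998 = n163462 := d17_6 D35815 F250810 (iv1 F88447) (iv5 F88404) (iv4 F140956) F347521 F262194 (iv0 D78606) F56470
theorem F347526 : act 6 n91691 = n132947 := d3_2 D132998 F347522 F213570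
theorem F347527 : act 3 n132947 = n91693 := d7_1 F347526 (iv6 D91693) (iv3 F140961)
theorem F347528 : act 7 n132043 = n163465 := d14_4 (iv7 F140962) F347526 (iv7 D132947) (iv6 F347517) (iv6 D163465)
theorem F347529 : act 0 n132947 = n182878 := d21_4 F257876 (iv1 D91689) D91691 F347526 (iv6 D182878) (iv5 D87312) F61686 D77261 D161002 F324245
theorem F347530 : act 5 n182878 = n132450 := d17_3 (iv1 F213155) (iv5 F213571) F347529 (iv4 D132450) F318038 (iv0 F317955) (iv5 D132095) F211564 F211558
theorem F347531 : act 0 n181932 = n132081 := d18_2 F347529 F284452 (iv4 D132081) (iv5 D61973) D61972 (iv0 F96567) D129696 (iv0 F213154) (iv5 F213571)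
theorem F347532 : act 1 n132908 = n182878 := d15_0 (iv0 F347529) (iv7 D132947) (iv2 F213503)
theorem F347533 : act 3 n106754 = n182878 := d19_19 (iv1 F347532) (iv5 D132908) (iv4 D62372) D62371 F213158 F212758 F212287 (iv3 F214932) F312777 (iv5 F312548) (iv4 D69591) F309131 F309056 F86656 (iv4 F104887) (iv3 F325421) (iv1 D105465) F80537 (iv4 F177805)
theorem F347534 : act 3 n131982 = n106535 := d0_4 F347533 (iv2 F347519) (iv3 F213569) F211471 (iv2 F177804)
theorem F347535 : act 6 n126186 = n106754 := d7_0 F347533 (iv6 D182878) (iv3 F326806)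
theorem F347536 : act 6 n106535 = n113404 := d3_2 F347535 F177804 (iv2 F202928)
theorem F347537 : act 4 n110783 = n126186 := d10_3 F347535 F177805 D110783
theorem F347538 : act 4 n113404 = n107575 := d1_2 F347537 F202928 (iv2 F171490)
theorem F347539 : act 3 n89690 = n110783 := d5_5 F347537 F326806 F134053 (iv3 F140145) (iv4 F343052)
theorem F347540 : act 4 n128908 = n105463 := d16_0 (iv5 F171491) F347537 (iv5 D126186) (iv4 D59156) (iv5 F77811) D60623 D128905 (iv7 F342965) F342963
theorem F347541 : act 0 n113930 = n110783 := d18_2 (iv1 F201901) (iv4 F332867) F347537 (iv5 D126186) (iv4 D59156) (iv0 D28100) (iv4 F40206) (iv0 F165560) D113414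
theorem F347542 : act 3 n185723 = n125529 := d20_5 (iv4 D45469) F291942 D41292 D88459 D185723 (iv4 F332867) F347541 F347537 F326806 F293833
theorem F347543 : act 4 n114965 = n128905 := d16_0 (iv5 D128905) (iv4 D60623) F77811 D59156 D126186 (iv4 F347537) F171491 (iv7 F227670) F227669
theorem F347544 : act 5 n125526 = n185723 := d6_0 F347542 (iv5 D125529) (iv3 F201891)
theorem E100304 : n113984 = n113931 := (c21_5 F161857 (iv1 F177324) (iv5 D52609) D52610 D113984 (iv6 D113931) D113930 F347541 F171491 (iv6 D105463) D105460)
theorem F347545 : act 0 n113931 = n115121 := (sb E100304 (iv1 F333509))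
theorem F347546 : act 1 n113931 = n52610 := (sb E100304 (iv0 D113984))
theorem F347547 : act 2 n113931 = n53151 := (sb E100304 F333499)
theorem F347548 : act 3 n113931 = n115130 := (sb E100304 F333500)
theorem F347549 : act 4 n113931 = n60613 := (sb E100304 F333501)
theorem F347550 : act 7 n113931 = n115122 := (sb E100304 F333502)
theorem F347551 : act 5 n132860 = n114179 := d18_4 (iv1 F347546) F347549 (iv1 F206845) (iv4 F213418) F332627 (iv0 D164621) F120357 D79102 (iv5 F120359)
theorem F347552 : act 3 n135816 = n113978 := d20_5 D128833 (iv1 F332690) F332693 (iv3 D135818) D135816 F177315 (iv1 F347546) F347549 (iv3 F325743) F325740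
theorem F347553 : act 5 n113978 = n180340 := d6_2 (iv5 F330404) F347552 F280645
theorem F347554 : act 6 n113976 = n135816 := d7_0 F347552 (iv6 D113978) D113976
theorem E100305 : n183462 = n113976 := (c12_6 F347554 F330404 (iv6 D86133) F295055 (iv6 F134451) D183462)
theorem F347555 : act 5 n113976 = n87568 := (sb E100305 (iv5 D183462))
theorem E100306 : n183461 = n113977 := (c6_2 F347555 D183461 (iv5 D113977) D113976)
theorem F347556 : act 3 n113977 = n87568 := (sb E100306 (iv3 D183461))
theorem F347557 : act 6 n113977 = n87592 := (sb E100306 F285212)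
theorem F347558 : act 0 n113977 = n131962 := d20_4 (iv4 D183457) (iv1 D87567) D87568 (iv3 F347556) (iv3 D131962) F104284 (iv1 D49359) (iv4 F77851) (iv3 F164219) F328262
theorem F347559 : act 6 n115130 = n113928 := d7_2 D113931 F347548 (iv3 D113928)
theorem F347560 : act 2 n113928 = n115132 := d3_1 F347559 (iv6 D115132) D115130
theorem F347561 : act 4 n113928 = n89042 := d10_1 F347559 F332666 F216883
theorem F347562 : act 7 n89041 = n113928 := d11_0 F347561 (iv7 D89042) D89041
theorem F347563 : act 3 n105347 = n89041 := d8_3 F347562 (iv3 D113928) (iv7 F177291)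
theorem F347564 : act 6 n185768 = n89041 := d14_5 F347562 (iv6 F347559) (iv7 F179373) F336799 (iv7 F288075)
theorem F347565 : act 0 n105327 = n89041 := d21_4 F114527 (iv1 F55242) (iv5 F76633) D105327 (iv6 F347564) (iv5 D185768) (iv1 F135457) D92774 F143094 (iv1 F114529)
theorem F347566 : act 4 n132856 = n185863 := d20_2 F324732 D132856 F288295 F347565 (iv3 F347563) F342966 F332868 F176700 (iv3 F176886) (iv1 F176887)
theorem F347567 : act 0 n115132 = n105327 := d20_4 F203297 (iv1 D126456) F93584 (iv3 F179292) (iv3 F288295) (iv4 F347566) (iv1 F213415) (iv4 F321704) F321703 (iv1 F179352)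
theorem F347568 : act 0 n159741 = n115131 := d21_1 (iv5 F251686) (iv5 D115131) D115132 F347567 (iv6 D105327) F76633 (iv1 D31574) D31575 D67904 D144867
theorem E100307 : n159799 = n159741 := (c20_4 F161702 F177675 (iv4 F177835) D159799 F347568 F179291 (iv4 F166016) (iv1 F166248) F166246 F333216 (iv1 F177674))
theorem F347569 : act 3 n159741 = n76466 := (sb E100307 (iv3 D159799))
theorem E100308 : n148724 = n144867 := (((F251686).symm.trans (sb E100307 F251811))).symm
theorem F347570 : act 7 n159741 = n115014 := (sb E100307 F251812)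
theorem F347571 : act 3 n144867 = n69703 := (sb E100308 (iv3 D148724))
theorem F347572 : act 7 n144867 = n159646 := (sb E100308 (iv7 F251499))
theorem F347573 : act 2 n159744 = n115131 := d15_3 (iv0 F347568) (iv0 D159741) D159744
theorem F347574 : act 5 n115130 = n159744 := d2_0 F347573 (iv5 D115131) D115130
theorem F347575 : act 2 n130799 = n144867 := d4_3 F347572 (iv2 F343526) F214810
theorem F347576 : act 4 n113712 = n128585 := d20_0 (iv1 F206820) F328852 (iv3 F103981) D144867 F347571 D148725 (iv1 F251299) F251297 (iv3 F176780) (iv1 F176936)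
theorem F347577 : act 2 n128773 = n113712 := d1_3 F347576 F214641 D128773
theorem F347578 : act 7 n113608 = n113712 := d11_0 F347576 F214642 (iv4 F343528)
theorem E100309 : n164622 = n44777 := (c18_7 (iv1 F176936) F347576 (iv1 F206820) F328852 F82946 (iv4 F120357) D164622 D95930 F346179 (iv5 F176781))
theorem E100310 : n95927 = n79100 := ((D95927).symm.trans (sb E100309 (iv1 D164622)))
theorem E100311 : n150004 = n95928 := (((D95928).symm.trans (sb E100309 F259565))).symm
theorem F347579 : act 1 n79100 = n44777 := (sb E100310 (iv0 D95927))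
theorem F347580 : act 1 n95928 = n164621 := (sb E100311 F259571)
theorem F347581 : act 2 n95928 = n164624 := (sb E100311 (iv2 F259568))
theorem F347582 : act 3 n95928 = n97257 := (sb E100311 F346751)
theorem F347583 : act 4 n95928 = n70569 := (sb E100311 F235983)
theorem F347584 : act 6 n95928 = n97281 := (sb E100311 F259001)
theorem F347585 : act 7 n95928 = n70566 := (sb E100311 (iv7 D150004))
theorem F347586 : act 0 n145459 = n128583 := d20_4 (iv4 F347576) (iv1 D113712) (iv4 F104369) (iv3 F228499) (iv3 D128583) (iv4 D60476) (iv1 D28721) D28722 D60478 D128585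
theorem F347587 : act 3 n95930 = n119073 := d20_9 F311999 (iv1 F155298) F324669 F83859 D53133 (iv3 F328855) (iv4 F347583) (iv1 D95928) D95930 (iv1 D119073)
theorem F347588 : act 2 n119073 = n176269 := d0_1 F347587 (iv3 D176269) F129052 F332635 (iv2 F346180)
theorem F347589 : act 6 n119073 = n144999 := d7_2 (iv6 F346182) F347587 F346173
theorem F347590 : act 7 n119073 = n159524 := d8_2 (iv7 F346183) F347587 (iv3 D159524)
theorem F347591 : act 2 n159524 = n175973 := d4_1 F347590 (iv7 F275559) (iv2 F347588)
theorem F347592 : act 4 n159524 = n159892 := d11_1 F347590 (iv7 F310423) F337009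
theorem F347593 : act 6 n159524 = n134493 := d14_1 F347590 (iv7 F217454) F346153 F231595 (iv6 F347589)
theorem E100312 : n175973 = n119072 := (c15_4 (iv0 D119072) D119073 F347590 F347591)
theorem F347594 : act 2 n119072 = n159524 := (sb E100312 (iv2 F347591))
theorem F347595 : act 3 n119072 = n83971 := (sb E100312 (iv3 D175973))
theorem F347596 : act 4 n119072 = n148682 := (sb E100312 (iv4 F334529))
theorem F347597 : act 6 n119072 = n135220 := (sb E100312 (iv6 F338680))
theorem F347598 : act 7 n119072 = n176269 := (sb E100312 (iv7 F275559))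
theorem F347599 : act 5 n126531 = n159524 := d16_7 F336871 (iv5 F233085) F233084 D101077 F344176 F161939 (iv4 F203452) (iv7 F347590) F347588
theorem F347600 : act 5 n119072 = n126611 := d2_2 F347599 (iv2 F347594) F203658
theorem F347601 : act 0 n144945 = n126531 := d17_2 (iv1 D144944) D144945 F347599 F347592 (iv5 D159892) (iv0 D76544) D76546 F233094 (iv4 F229135)
theorem E100313 : n159895 = n159524 := (c21_8 (iv5 D29080) D29077 D61424 (iv6 F325469) F82881 D68851 (iv5 F114783) D159895 (iv5 F347599) (iv6 D126531) F93639)
theorem F347602 : act 0 n159524 = n119074 := (sb E100313 (iv1 F252148))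
theorem F347603 : act 1 n159524 = n76548 := (sb E100313 (iv0 D159895))
theorem E100314 : n176269 = n159896 := ((c15_2 F347603 D159896 (iv7 F347598) F347594)).symm
theorem F347604 : act 2 n159896 = n119073 := (sb E100314 (iv2 F347588))
theorem F347605 : act 3 n159896 = n84067 := (sb E100314 (iv3 D176269))
theorem F347606 : act 4 n159896 = n147405 := (sb E100314 F336871)
theorem F347607 : act 7 n159896 = n119072 := (sb E100314 (iv7 F347598))
theorem E100315 : n159907 = n159640 := ((c20_1 D159640 (iv1 D159907) F114794 (iv3 F114782) (iv1 F347603) (iv3 D159524) (iv4 F261858) F342956 F259569 F120361 (iv1 F336797))).symm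
theorem F347608 : act 0 n159640 = n76552 := (sb E100315 (iv1 D159907))
theorem F347609 : act 1 n159640 = n123230 := (sb E100315 F252170)
theorem F347610 : act 0 n159892 = n148685 := d20_1 F347592 F233440 F106042 (iv1 F55213) D76376 D159640 F347608 F114794 (iv3 F114782) (iv1 F347603)
theorem F347611 : act 5 n148685 = n133733 := d17_3 D76544 D159892 F347610 (iv4 F311082) (iv5 F318995) F318993 (iv5 D120630) F232531 (iv4 F55387)
theorem F347612 : act 2 n123228 = n159640 := d15_3 F347609 F336791 (iv7 F332646)
theorem F347613 : act 5 n132863 = n159896 := d13_3 F347607 F347600 F326069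
theorem F347614 : act 6 n147403 = n159896 := d14_5 F347607 F347597 F217410 F338642 (iv7 F231127)
theorem F347615 : act 4 n150113 = n105495 := d16_4 (iv4 F337009) F310421 (iv4 F155410) D150113 F161949 (iv4 F203659) (iv5 F347600) (iv7 F347607) F347604
theorem F347616 : act 3 n176270 = n147403 := d7_3 F347614 F347605 D176270
theorem F347617 : act 0 n132863 = n144945 := d21_7 D144914 F227883 (iv5 D117107) D117108 F231128 F347614 (iv5 F347613) (iv5 D144945) (iv6 D67950) (iv1 F104033)
theorem F347618 : act 4 n144945 = n129819 := d18_1 F347617 (iv1 F208173) F99073 F325785 F310930 F155394 (iv4 F312206) D159896 (iv5 F347613)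
theorem F347619 : act 4 n136344 = n149197 := d18_1 (iv1 F219424) (iv1 F236262) F344176 F161939 (iv4 F203452) (iv0 F347601) F347618 (iv0 D129819) (iv5 F100038)
theorem E100316 : n128923 = n126525 := ((c20_4 (iv4 F347618) F347601 F203452 (iv3 F203445) (iv1 D128923) F95235 (iv4 D30207) (iv1 F40708) F46560 D60979 D129819)).symm
theorem F347620 : act 0 n126525 = n60631 := (sb E100316 (iv1 D128923))
theorem F347621 : act 4 n126525 = n128872 := (sb E100316 (iv4 F207149))
theorem F347622 : act 5 n146868 = n136344 := d16_3 (iv4 F312206) F114783 (iv4 F230258) F347619 (iv5 D149197) F106422 D70031 F155275 F155387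
theorem F347623 : act 5 n101081 = n129820 := d17_5 (iv1 F236262) (iv5 D101077) (iv1 D47085) D47086 D101081 F208177 (iv5 F99711) D136344 F347619
theorem F347624 : act 1 n129843 = n101081 := d17_6 (iv1 F203441) F335155 (iv1 F232609) (iv5 F322394) F97675 (iv5 F208196) F347623 F208177 F99073
theorem E100317 : n132669 = n132224 := ((c21_4 (iv5 F347623) (iv1 F347624) F208196 D132224 (iv1 D132669) (iv6 D62256) (iv5 D29459) (iv1 F23824) D30070 D63712 (iv1 F208177))).symm
theorem F347625 : act 0 n132224 = n62256 := (sb E100317 (iv1 D132669))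
theorem F347626 : act 3 n114153 = n175972 := d0_4 F347616 F231129 F346173 F177887 (iv2 F275560)
theorem F347627 : act 7 n147834 = n176270 := d8_0 F347616 F231127 D147834
theorem F347628 : act 7 n175972 = n164373 := d4_2 F347627 F275560 F346172
theorem F347629 : act 6 n164373 = n175644 := d14_1 F347628 (iv7 F274969) F270641 F128955 D175972
theorem F347630 : act 1 n176270 = n176091 := d15_0 (iv0 F335478) (iv7 F347628) (iv2 F275560)
theorem E100318 : n176090 = n147630 := ((c20_5 F231485 (iv1 F231482) (iv4 D69229) D69228 (iv1 F338176) (iv3 D176090) D176091 (iv1 F347630) F275561 F334065 D147406)).symm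
theorem F347631 : act 3 n147630 = n84004 := (sb E100318 (iv3 D176090))
theorem E100319 : n177676 = n176092 := ((c6_3 (iv5 F313890) F347631 D176092 F277111)).symm
theorem F347632 : act 3 n176092 = n84622 := (sb E100319 F277111)
theorem F347633 : act 6 n176092 = n84611 := (sb E100319 (iv6 D177676))
theorem E100320 : n176093 = n147628 := (c7_3 D147630 F347631 D176093 (iv3 D147628))
theorem F347634 : act 6 n147628 = n84004 := (sb E100320 (iv6 D176093))
theorem E100321 : n178380 = n176084 := ((c8_3 (iv7 F313891) F347631 F275349 F277930)).symm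
theorem F347635 : act 3 n176084 = n84880 := (sb E100321 F277930)
theorem F347636 : act 6 n176084 = n84871 := (sb E100321 (iv6 D178380))
theorem E100322 : n176084 = n173679 := ((c21_5 (iv5 D18392) (iv1 F29460) (iv5 F59083) D83060 D173679 F347636 F130076 F328596 F334698 (iv6 D83919) (iv1 D38651))).symm
theorem F347637 : act 2 n173679 = n84003 := (sb E100322 (iv2 D176084))
theorem F347638 : act 3 n173679 = n84880 := (sb E100322 F347635)
theorem F347639 : act 6 n173679 = n84871 := (sb E100322 F347636)
theorem F347640 : act 7 n173679 = n84004 := (sb E100322 (iv7 F275349))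
theorem E100323 : n176089 = n173680 := (c15_4 F272177 F272176 F347640 (iv2 F275351))
theorem F347641 : act 2 n173680 = n84004 := (sb E100323 F275351)
theorem F347642 : act 7 n173680 = n84003 := (sb E100323 (iv7 D176089))
theorem F347643 : act 6 n128510 = n176094 := d21_9 (iv5 F272043) (iv1 F272045) D176092 F347633 (iv1 F277100) F342328 (iv5 F346490) (iv1 F205390) D128510 (iv1 F275352)
theorem F347644 : act 0 n136902 = n176092 := d21_4 (iv5 D133543) F324785 F143120 D136902 F347633 F129780 F334655 (iv5 F277086) F344778 (iv1 F323474)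
theorem F347645 : act 2 n176094 = n128514 := d3_1 F347643 (iv6 D128514) (iv2 F206668)
theorem F347646 : act 3 n175644 = n164375 := d7_1 F347629 (iv6 D164375) D164373
theorem F347647 : act 0 n173692 = n147844 := d20_7 (iv4 D98062) F321822 (iv4 F321779) F177909 (iv1 F177885) F347626 F275311 F332127 (iv3 D170522) (iv1 F297919)
theorem F347648 : act 0 n144349 = n154673 := d21_1 F332128 (iv5 D154673) (iv6 F337901) F328226 (iv6 D83074) (iv5 D38232) D38229 D83066 D173692 F347647
theorem F347649 : act 7 n173692 = n147845 := d15_2 D147844 (iv0 F347647) (iv2 D147845)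
theorem F347650 : act 0 n175972 = n114135 := d17_0 (iv5 D114135) (iv1 F142465) F142462 F319017 D154673 (iv0 F347648) (iv5 F332128) (iv0 F347647) (iv4 F275311)
theorem F347651 : act 4 n114135 = n173679 := d20_8 F334583 (iv1 F248273) (iv4 F342269) F174807 D125967 F342264 (iv4 F275311) F347650 F347638 (iv1 F334582)
theorem F347652 : act 1 n147834 = n114135 := d15_0 (iv0 F347650) F347628 F346172
theorem F347653 : act 2 n176086 = n114135 := d1_3 F347651 F347637 D176086
theorem F347654 : act 6 n178377 = n114135 := d10_0 F347651 F347639 (iv4 F277929)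
theorem F347655 : act 7 n176091 = n114135 := d11_0 F347651 F347640 D176091
theorem F347656 : act 5 n114137 = n176091 := d13_3 F347655 (iv5 D114135) D114137
theorem F347657 : act 1 n176086 = n176270 := d15_0 F347630 F347655 (iv2 F347653)
theorem F347658 : act 1 n164373 = n176086 := d15_0 F347657 (iv7 F347627) (iv2 F346172)
theorem F347659 : act 5 n176086 = n114112 := d21_0 (iv1 F177719) (iv5 F142279) (iv6 D92467) (iv1 F67778) (iv6 F321706) (iv5 F315833) (iv1 F97228) (iv5 F317559) D176270 (iv1 F347657)
theorem E100324 : n114132 = n114112 := ((c2_1 F347659 (iv2 D114132) D114135 (iv2 F347653))).symm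
theorem F347660 : act 2 n114112 = n52685 := (sb E100324 (iv2 D114132))
theorem F347661 : act 7 n114112 = n52686 := (sb E100324 (iv7 F177751))
theorem F347662 : act 7 n114140 = n176086 := d13_0 F347659 F347661 D114140
theorem F347663 : act 2 n176091 = n114140 := d4_3 F347662 F347653 (iv7 F347655)
theorem F347664 : act 4 n173680 = n114140 := d11_3 F347662 (iv4 D176086) (iv7 F347642)
theorem F347665 : act 1 n175972 = n114140 := d15_1 (iv0 F347650) F347662 F347653
theorem F347666 : act 1 n114140 = n147834 := d15_1 F347665 F347627 F275560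
theorem F347667 : act 4 n114128 = n170508 := d18_3 (iv1 D52686) (iv4 F83259) D114128 (iv5 F267965) (iv4 F332127) (iv0 F347647) (iv4 F275311) F347665 (iv5 D114140)
theorem F347668 : act 3 n143133 = n114128 := d5_5 F347667 (iv3 D170508) (iv4 D81734) F307967 (iv4 F325374)
theorem E100325 : n128453 = n114138 := (c20_9 (iv4 F83259) D114128 F347667 (iv3 D170508) (iv1 F318180) (iv3 D128459) (iv4 D60414) D60412 D128453 (iv3 D114138) (iv1 D52686))
theorem F347669 : act 0 n114138 = n69729 := (sb E100325 F316646)
theorem F347670 : act 1 n114138 = n78930 := (sb E100325 (iv0 F319009))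
theorem F347671 : act 2 n114138 = n78929 := (sb E100325 F321126)
theorem F347672 : act 4 n114138 = n60412 := (sb E100325 (iv4 D128453))
theorem F347673 : act 5 n114138 = n114206 := (sb E100325 F316647)
theorem F347674 : act 6 n114138 = n147240 := (sb E100325 (iv6 F230830))
theorem F347675 : act 7 n114138 = n78928 := (sb E100325 F321127)
theorem E100326 : n164335 = n114112 := (c8_2 F347675 D164335 F347661 D114138)
theorem F347676 : act 3 n114112 = n78928 := (sb E100326 (iv3 D164335))
theorem F347677 : act 7 n164337 = n114206 := d13_2 F347675 D164337 (iv5 F347673)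
theorem F347678 : act 7 n107744 = n155471 := d11_2 F347677 (iv4 F338696) (iv4 F346132)
theorem F347679 : act 2 n155471 = n107743 := d15_3 (iv0 D107743) D107744 F347678
theorem F347680 : act 4 n155500 = n114112 := d5_0 F347676 (iv4 F321132) F244517 (iv4 D155501) D155500
theorem F347681 : act 3 n164337 = n176086 := d6_3 F347659 F347676 D164337
theorem F347682 : act 0 n123580 = n155500 := d20_7 (iv4 D73324) D73322 F320372 (iv3 F335466) (iv1 D105431) (iv3 F161824) (iv4 F197999) F347680 F347676 F319015
theorem E100327 : n123865 = n123580 := ((c15_1 (iv0 F347682) (iv0 D123865) (iv7 F342789) F342788)).symm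
theorem F347683 : act 1 n123580 = n57718 := (sb E100327 (iv0 D123865))
theorem F347684 : act 7 n123866 = n114837 := d15_2 F347683 D123866 (iv2 F197998)
theorem E100328 : n123868 = n114113 := ((c20_11 (iv4 D123868) (iv1 F347683) F197999 F161824 (iv1 F335470) (iv3 D55972) F136679 (iv1 F55139) (iv4 F40463) (iv3 F83262) (iv1 F177720))).symm
theorem F347685 : act 4 n114113 = n57718 := (sb E100328 (iv4 D123868))
theorem F347686 : act 0 n114259 = n111176 := d21_10 (iv5 D111176) (iv1 D51278) D51280 (iv6 F329885) (iv1 F347683) (iv6 D123580) (iv5 D57602) (iv1 F90324) F90322 D114259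
theorem F347687 : act 4 n111176 = n164490 := d20_2 (iv4 F178098) F347686 (iv3 D164490) (iv1 F177963) F177958 F327798 (iv1 F327792) (iv4 D152446) (iv3 F239630) (iv1 D114261)
theorem E100329 : n186570 = n111176 := ((c21_5 (iv5 D57602) (iv1 F90324) F90322 D114259 F347686 (iv6 D186570) (iv5 D88859) F335724 (iv5 F300577) (iv6 D57700) (iv1 F90744))).symm
theorem F347688 : act 3 n111176 = n88862 := (sb E100329 F289512)
theorem F347689 : act 6 n111176 = n88859 := (sb E100329 (iv6 D186570))
theorem F347690 : act 6 n186569 = n164490 := d10_2 F347689 D186569 (iv4 F347687)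
theorem E100330 : n111177 = n93067 := ((c12_4 F347689 (iv5 D88859) F293194 D93067 (iv6 D111177) D111176)).symm
theorem F347691 : act 6 n93067 = n51278 := (sb E100330 (iv6 D111177))
theorem F347692 : act 6 n111173 = n100848 := d3_2 F347691 (iv2 F172422) (iv2 F294162)
theorem E100331 : n111174 = n93071 := (c7_2 F347691 D111174 (iv6 D93071) (iv3 F143548))
theorem F347693 : act 3 n93071 = n51278 := (sb E100331 (iv3 D111174))
theorem F347694 : act 3 n164493 = n186569 := d7_3 F347690 (iv3 D164490) D164493
theorem F347695 : act 5 n186569 = n90676 := d6_2 (iv5 F259233) F347694 F178408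
theorem E100332 : n90675 = n89367 := (c13_4 (iv7 F289511) F347695 (iv7 D90676) D90675)
theorem F347696 : act 5 n89367 = n42447 := (sb E100332 (iv5 D90675))
theorem F347697 : act 6 n89367 = n42450 := (sb E100332 F139595)
theorem E100333 : n90677 = n89368 := (c10_2 F347697 D90677 (iv6 D89368) D89367)
theorem F347698 : act 0 n89368 = n92503 := (sb E100333 (iv1 F142410))
theorem F347699 : act 1 n89368 = n92496 := (sb E100333 (iv0 F142395))
theorem F347700 : act 4 n89368 = n42450 := (sb E100333 (iv4 D90677))
theorem F347701 : act 5 n89368 = n47490 := (sb E100333 F291703)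
theorem E100334 : n102340 = n89386 := (c6_2 F347701 D102340 (iv5 D89386) (iv3 F137039))
theorem F347702 : act 3 n89386 = n47490 := (sb E100334 (iv3 D102340))
theorem E100335 : n102342 = n89371 := (c12_3 D89368 F347701 D102342 (iv5 D89371) (iv6 D41733) D41732)
theorem F347703 : act 4 n89371 = n47491 := (sb E100335 F157153)
theorem F347704 : act 6 n89371 = n47490 := (sb E100335 (iv6 D102342))
theorem F347705 : act 5 n102339 = n90141 := d17_3 (iv1 F347699) F347701 D102339 (iv4 D90141) F290619 (iv0 F66481) D89550 (iv0 F290603) D92496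
theorem F347706 : act 5 n102668 = n92496 := d17_1 F292335 (iv1 F347699) F347701 (iv4 D47490) (iv5 F72162) F72164 D44883 (iv0 F72137) (iv4 F292338)
theorem F347707 : act 5 n102671 = n92503 := d17_5 D46676 F291078 (iv1 F290833) F74880 D102671 (iv0 F347698) F347701 F74671 (iv4 D46677)
theorem F347708 : act 0 n102361 = n90155 := d18_0 (iv4 D90155) F65565 (iv4 F347700) F347701 (iv4 D47490) (iv0 D22811) D22813 D47496 D102361
theorem F347709 : act 5 n90155 = n96168 := d17_1 F347708 (iv1 F290883) (iv5 F142452) F142451 F67886 F32475 D42129 F290589 (iv4 F157158)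
theorem F347710 : act 1 n102361 = n89768 := d15_1 (iv0 F347708) F137764 (iv2 F138607)
theorem F347711 : act 5 n102308 = n89758 := d2_2 F347709 (iv2 F157124) (iv2 F138607)
theorem F347712 : act 5 n102310 = n92520 := d13_3 F142473 F347709 (iv7 F157129)
theorem F347713 : act 0 n92503 = n102352 := d18_0 F157155 (iv1 F291320) D90155 F347709 (iv4 D96168) (iv0 F72137) (iv4 F292338) F292336 F347707
theorem F347714 : act 5 n102311 = n90137 := d18_4 (iv1 F290883) (iv4 D90175) D90173 F291161 (iv4 D90137) F67878 D90823 F139800 F347709
theorem F347715 : act 5 n98602 = n90131 := d9_8 F347714 (iv4 D90137) (iv5 D42131) F63550 (iv5 F290804) F66279 D46095 D98602 (iv4 D90131) (iv5 D42129) (iv4 F63475) D43265 F290821 (iv5 F291162) F291161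
theorem F347716 : act 6 n137379 = n90137 := d21_5 F44463 D57078 (iv5 F161805) (iv6 F338494) F338497 (iv5 F347714) (iv1 D102311) F291468 (iv6 F92117) F92115
theorem F347717 : act 2 n114271 = n137379 := d3_3 F347716 (iv2 F142408) (iv6 F178119)
theorem F347718 : act 5 n137376 = n114271 := d2_0 F347717 (iv5 D137379) D137376
theorem F347719 : act 7 n114271 = n137384 := d13_2 F220584 F347718 (iv5 D137384)
theorem F347720 : act 4 n137384 = n114248 := d11_1 F347719 F178061 D114271
theorem F347721 : act 1 n117504 = n137384 := d15_1 (iv0 F338497) (iv7 F347719) F347717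
theorem F347722 : act 3 n147932 = n114248 := d20_5 (iv4 D54065) F50511 D32216 D69307 D147932 (iv4 F347720) (iv1 F347721) (iv4 F314507) F161808 (iv1 F314505)
theorem F347723 : act 2 n119205 = n147932 := d0_5 F347722 (iv2 F178062) F320841 F318691 D119205
theorem F347724 : act 7 n114270 = n147932 := d8_0 F347722 F178061 D114270
theorem F347725 : act 4 n147932 = n118747 := d20_6 (iv4 F136453) (iv1 F76743) F40527 (iv3 F83343) (iv1 F178060) (iv3 F347722) (iv1 D118747) F86484 F42287 D34412
theorem F347726 : act 3 n118747 = n122641 := d20_9 (iv4 F90559) (iv1 F324899) F184134 (iv3 D69395) (iv1 F85541) D117686 F184291 D147932 F347725 (iv1 D122641)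
theorem F347727 : act 2 n114270 = n147933 := d15_3 F318936 (iv0 F318935) (iv7 F347724)
theorem E100336 : n147933 = n145077 := (c0_2 D114270 F347727 (iv3 D145077) F318689 (iv3 F138587) F138586)
theorem F347728 : act 0 n145077 = n69307 := (sb E100336 (iv1 D147933))
theorem F347729 : act 1 n145077 = n76550 := (sb E100336 F318936)
theorem F347730 : act 2 n145077 = n114270 := (sb E100336 (iv2 F347727))
theorem F347731 : act 7 n145077 = n119205 := d4_2 (iv7 F347724) (iv2 F347730) F347723
theorem F347732 : act 4 n118746 = n145077 := d20_0 F347728 (iv4 F184291) (iv3 D117686) F85540 D69397 F105680 F331478 (iv4 F161717) F161716 D118746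
theorem F347733 : act 3 n145074 = n118746 := d5_5 F347732 (iv3 D145077) (iv4 D68002) D68001 D145074
theorem F347734 : act 3 n105793 = n117546 := d20_3 (iv4 F51180) (iv1 F105036) D105793 F228024 F347733 F347732 F347728 (iv4 F184291) (iv3 D117686) F85540
theorem F347735 : act 6 n123392 = n105793 := d7_0 F347734 F312097 D123392
theorem E100337 : n117539 = n68815 := (c8_4 (iv7 F162489) F347734 (iv7 D117546) (iv3 F184137))
theorem E100338 : n146775 = n54158 := ((D146775).symm.trans (sb E100337 F184137))
theorem E100339 : n146777 = n54156 := ((D146777).symm.trans (sb E100337 (iv6 D117539)))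
theorem F347736 : act 3 n54158 = n68815 := (sb E100338 (iv3 D146775))
theorem F347737 : act 6 n54156 = n68815 := (sb E100339 (iv6 D146777))
theorem E100340 : n148121 = n117586 := ((c20_4 (iv4 D145074) (iv1 F251051) F184187 (iv3 F184185) (iv1 D148121) (iv3 D69397) (iv4 F51180) (iv1 F105036) D105793 F347734 F228024)).symm
theorem F347738 : act 0 n117586 = n69397 := (sb E100340 (iv1 D148121))
theorem F347739 : act 2 n123603 = n148120 := d15_3 (iv0 D148120) (iv0 F347738) (iv7 F338496)
theorem F347740 : act 3 n148120 = n154188 := d0_2 F337284 F347739 (iv2 F307585) F307586 (iv2 F337283)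
theorem F347741 : act 4 n148120 = n164614 := d1_2 (iv4 F198023) F347739 F259534
theorem F347742 : act 6 n148120 = n114097 := d3_2 D123603 F347739 (iv2 F177694)
theorem E100341 : n148123 = n102002 := ((c21_3 (iv5 F156941) (iv1 F156943) D102002 (iv6 D148123) D148120 F347742 F177691 (iv1 D57079) (iv5 F44463) D57700 (iv1 F335732))).symm
theorem F347743 : act 3 n102002 = n69398 := (sb E100341 F231934)
theorem F347744 : act 4 n102002 = n144973 := (sb E100341 F231935)
theorem F347745 : act 6 n102002 = n69397 := (sb E100341 (iv6 D148123))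
theorem E100342 : n148126 = n102000 := (c6_3 D102002 F347743 D148126 (iv3 D102000))
theorem F347746 : act 5 n102000 = n69398 := (sb E100342 (iv5 D148126))
theorem E100343 : n102002 = n89366 := (c20_4 (iv4 F346301) (iv1 D144966) (iv4 F105681) (iv3 F347743) (iv1 D89366) F64362 D41739 D89380 F137063 (iv3 F157498) F286184)
theorem F347747 : act 3 n89366 = n69398 := (sb E100343 F347743)
theorem F347748 : act 4 n89366 = n144973 := (sb E100343 F347744)
theorem F347749 : act 5 n89366 = n47377 := (sb E100343 (iv5 D102002))
theorem F347750 : act 6 n89366 = n69397 := (sb E100343 F347745)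
theorem E100344 : n102003 = n90379 := (c21_10 D90381 F343086 (iv5 D89114) D89115 (iv1 F294158) F294161 D186565 (iv1 F289505) F347749 D102003 (iv1 D90379))
theorem F347751 : act 6 n90379 = n47377 := (sb E100344 (iv6 D102003))
theorem F347752 : act 5 n93213 = n90379 := d21_2 D89100 F295262 F347751 (iv1 D47377) (iv6 D22757) D22756 D47372 (iv5 F335329) (iv6 D93200) F294964
theorem F347753 : act 6 n93213 = n146941 := d12_2 (iv6 F347751) (iv5 F347752) F230337 (iv6 F347750) F347749
theorem F347754 : act 3 n146942 = n93213 := d7_3 F347753 (iv3 D146941) D146942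
theorem F347755 : act 4 n121343 = n127594 := d20_0 (iv1 D127594) (iv4 F319199) F319198 (iv1 D67966) D67967 (iv4 F105680) D148120 F347741 F259535 F193554
theorem F347756 : act 2 n127594 = n97209 := d1_1 F347755 (iv4 F338511) (iv2 F193553)
theorem F347757 : act 6 n127594 = n121342 := d10_2 D121343 F347755 (iv4 D121342)
theorem F347758 : act 7 n127594 = n97210 := d11_2 F235972 F347755 (iv4 F338506)
theorem F347759 : act 1 n131888 = n125635 := d18_6 F193554 F347755 (iv1 D127594) (iv4 F319199) (iv5 F163785) (iv4 F333544) F342969 (iv0 D106470) (iv5 F120346)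
theorem F347760 : act 5 n109512 = n127594 := d19_1 D109512 (iv4 F347755) F338532 F338522 (iv5 D142488) (iv4 D66805) (iv3 F76916) (iv1 F85039) (iv5 D53919) F41239 (iv3 F40143) (iv1 F37865) (iv5 D12249) F10122 (iv3 F8495) (iv1 F8499) D11653 D24615 D50524
theorem F347761 : act 3 n97190 = n127594 := d20_5 D95474 F337313 F71136 (iv3 F71667) D97190 (iv4 F347755) (iv1 F259540) F235974 F148007 (iv1 F70644)
theorem E100345 : n151643 = n127593 := (c15_4 (iv0 D127593) D127594 F347758 (iv2 F338504))
theorem F347762 : act 2 n127593 = n97210 := (sb E100345 F338504)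
theorem F347763 : act 4 n127593 = n71469 := (sb E100345 (iv4 D151643))
theorem F347764 : act 5 n127593 = n109513 := (sb E100345 (iv5 F338518))
theorem F347765 : act 7 n127593 = n97209 := (sb E100345 F338503)
theorem F347766 : act 0 n95453 = n96368 := d20_4 F347763 (iv1 F338508) (iv4 F147991) F147990 (iv3 D96368) (iv4 F320025) (iv1 F51110) (iv4 F51112) D59915 D127593
theorem E100346 : n151600 = n67975 := (c20_3 (iv4 F52286) D71459 D151600 (iv3 D67975) (iv1 F104080) (iv3 F319198) F319199 D127593 F347763 (iv3 D71469) (iv1 D33065))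
theorem E100347 : n144990 = n71459 := (((iv4 F227949)).symm.trans (sb E100346 (iv4 D151600)))
theorem E100348 : n151598 = n137923 := ((D151598).symm.trans (sb E100347 (iv2 F343290)))
theorem E100349 : n151599 = n67973 := ((D151599).symm.trans (sb E100347 (iv3 D144990)))
theorem F347767 : act 4 n71459 = n67975 := (sb E100347 F227949)
theorem E100350 : n151603 = n117531 := ((D151603).symm.trans (sb E100347 F227950))
theorem F347768 : act 2 n137923 = n71459 := (sb E100348 (iv2 D151598))
theorem F347769 : act 7 n137923 = n71460 := (sb E100348 (iv7 F238481))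
theorem F347770 : act 3 n67973 = n71459 := (sb E100349 (iv3 D151599))
theorem F347771 : act 2 n117531 = n71460 := (sb E100350 F238482)
theorem F347772 : act 7 n117531 = n71459 := (sb E100350 (iv7 D151603))
theorem F347773 : act 0 n119056 = n147986 := d20_4 (iv4 F347763) (iv1 F316659) F149962 (iv3 F187317) (iv3 D147986) D147987 (iv1 F243219) (iv4 F314503) (iv3 F235973) F338509
theorem F347774 : act 4 n147986 = n147628 := d18_3 (iv1 F230987) (iv4 F313050) F347773 (iv5 F316337) (iv4 F318605) (iv0 D52262) (iv4 F82571) D113141 F232043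
theorem F347775 : act 6 n176091 = n147986 := d10_0 F347774 F347634 D176091
theorem F347776 : act 7 n119061 = n147986 := d11_0 F347774 F313887 (iv4 F334759)
theorem F347777 : act 0 n147986 = n119063 := d20_7 F105293 F94301 (iv4 D32179) D32178 D69186 D147628 (iv4 F347774) F313051 (iv3 D69069) D69067
theorem E100351 : n152464 = n147628 := (c20_8 F51168 D32222 D69328 (iv3 F321212) (iv1 D48735) (iv3 F76736) (iv4 F108432) D152464 (iv4 F347774) (iv3 D147986) (iv1 D69323))
theorem F347778 : act 1 n147628 = n71919 := (sb E100351 (iv0 D152464))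
theorem E100352 : n175942 = n152466 := ((c18_10 (iv1 D175942) D175943 (iv1 F342089) F202057 (iv5 F171210) (iv4 F313051) (iv0 F347777) F347774 F347778 D152466)).symm
theorem F347779 : act 0 n152466 = n83959 := (sb E100352 (iv1 D175942))
theorem F347780 : act 6 n152466 = n160493 := (sb E100352 (iv6 F347433))
theorem E100353 : n143655 = n105399 := (c20_10 (iv4 F108432) (iv1 F347778) (iv4 F347774) (iv3 D147986) (iv1 D69323) (iv3 F101741) F101742 D66086 (iv4 F321034) D143655 (iv1 D105399))
theorem F347781 : act 2 n105399 = n151423 := (sb E100353 F343315)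
theorem F347782 : act 3 n105399 = n67283 := (sb E100353 (iv3 D143655))
theorem F347783 : act 4 n105399 = n69150 := (sb E100353 F226336)
theorem F347784 : act 7 n105399 = n151422 := (sb E100353 F343314)
theorem F347785 : act 2 n151422 = n147549 := d4_1 F347784 F343317 (iv2 F347781)
theorem E100354 : n147549 = n105398 := (c15_4 (iv0 D105398) D105399 F347784 F347785)
theorem F347786 : act 2 n105398 = n151422 := (sb E100354 (iv2 F347785))
theorem F347787 : act 4 n105398 = n69149 := (sb E100354 (iv4 D147549))
theorem F347788 : act 7 n105398 = n151423 := (sb E100354 F343317)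
theorem E100355 : n152473 = n108009 := (c20_6 (iv4 F347783) (iv1 D105399) (iv4 F108432) F108431 D71921 D152473 F166885 F93335 (iv4 F80463) (iv3 F171212) (iv1 F171214))
theorem F347789 : act 3 n108009 = n71921 := (sb E100355 (iv3 D152473))
theorem E100356 : n152266 = n147592 := (c0_2 F347789 (iv2 F283576) (iv3 D147592) (iv2 F231072) F202961 (iv2 F166884))
theorem F347790 : act 0 n147592 = n71924 := (sb E100356 (iv1 F239327))
theorem F347791 : act 1 n147592 = n71838 := (sb E100356 (iv0 D152266))
theorem F347792 : act 2 n147592 = n71921 := (sb E100356 F283576)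
theorem F347793 : act 4 n147592 = n118751 := (sb E100356 (iv4 F239329))
theorem F347794 : act 7 n147592 = n71922 := (sb E100356 F283577)
theorem F347795 : act 4 n149998 = n113455 := d5_4 (iv4 F166885) F347789 D152474 F259559 F176640
theorem E100357 : n152475 = n108008 := (c6_3 D108009 F347789 D152475 (iv3 D108008))
theorem F347796 : act 5 n108008 = n71921 := (sb E100357 (iv5 D152475))
theorem E100358 : n152267 = n111550 := (c8_3 (iv7 F166886) F347789 (iv7 F283579) F173077)
theorem F347797 : act 0 n111550 = n71838 := (sb E100358 (iv1 D152267))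
theorem F347798 : act 1 n111550 = n71924 := (sb E100358 F239323)
theorem F347799 : act 2 n111550 = n71922 := (sb E100358 F283578)
theorem F347800 : act 4 n111550 = n164499 := (sb E100358 (iv4 F290478))
theorem F347801 : act 7 n111550 = n71921 := (sb E100358 F283579)
theorem E100359 : n152474 = n114606 := ((c20_8 F82006 (iv1 F81616) F81613 F320745 D78729 (iv3 F319481) F178695 D114606 (iv4 D152474) (iv3 F347789) F166887)).symm
theorem F347802 : act 2 n114606 = n118751 := (sb E100359 F283580)
theorem F347803 : act 3 n114606 = n149998 := (sb E100359 F259559)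
theorem F347804 : act 4 n114606 = n71921 := (sb E100359 (iv4 D152474))
theorem F347805 : act 7 n114606 = n164499 := (sb E100359 F290480)
theorem E100360 : n152479 = n114607 := (c15_4 F259242 F259243 F347805 (iv2 F290479))
theorem F347806 : act 2 n114607 = n164499 := (sb E100360 F290479)
theorem F347807 : act 3 n114607 = n118703 := (sb E100360 (iv3 F239662))
theorem F347808 : act 4 n114607 = n71922 := (sb E100360 (iv4 D152479))
theorem F347809 : act 7 n114607 = n118751 := (sb E100360 (iv7 F283575))
theorem F347810 : act 3 n116678 = n164501 := d20_9 F347808 (iv1 D71922) F52466 F25580 D28489 D60000 F290352 F318230 D116678 (iv1 F259242)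
theorem E100361 : n152478 = n147355 := ((c20_5 F314979 (iv1 D69735) (iv4 F105002) (iv3 F314977) (iv1 F231068) (iv3 D152478) (iv4 F347808) (iv1 D114607) (iv4 F178695) F319481 (iv1 F132238))).symm
theorem F347811 : act 3 n147355 = n71922 := (sb E100361 (iv3 D152478))
theorem E100362 : n152480 = n111549 := (c6_3 (iv5 F328755) F347811 D152480 F328386)
theorem F347812 : act 5 n111549 = n71922 := (sb E100362 (iv5 D152480))
theorem F347813 : act 3 n152481 = n163332 := d7_3 (iv6 F328756) F347811 D152481
theorem F347814 : act 4 n116680 = n164501 := d20_0 (iv1 F259242) F347808 (iv3 F347811) (iv1 D147355) (iv3 D69084) (iv4 F103937) (iv1 F105167) F105168 D69116 F182065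
theorem F347815 : act 2 n152489 = n116680 := d1_3 F347814 F259239 (iv4 F290472)
theorem F347816 : act 4 n111296 = n125456 := d18_7 F182065 F347814 (iv1 F259242) F347808 (iv5 F347812) F173076 F172684 F339251 F230756
theorem E100363 : n152482 = n51401 := (c18_1 D152482 F81148 D51411 D111456 (iv5 F182069) F347814 F259243 F347804 (iv0 D71921) D71923)
theorem E100364 : n111441 = n71923 := ((D111441).symm.trans (sb E100363 (iv0 D152482)))
theorem F347817 : act 0 n71923 = n51401 := (sb E100364 (iv1 D111441))
theorem F347818 : act 0 n95854 = n113455 := d20_7 (iv4 F347814) F336517 F336474 D152275 (iv1 F239347) F163148 (iv4 F147536) (iv4 F347795) (iv3 F347803) (iv1 F259243)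
theorem F347819 : act 4 n148819 = n97186 := d19_18 F347818 (iv5 D113455) (iv4 D52373) (iv3 D25426) (iv1 D12088) D12090 (iv4 F36998) (iv3 F76636) (iv1 F106127) (iv5 D69737) (iv4 D32370) (iv3 D15269) (iv1 D7231) D7232 D15272 D32376 D69750 D148819 F149935
theorem F347820 : act 5 n113453 = n103745 := d21_2 (iv5 D113455) D113453 (iv6 D103745) (iv1 F343523) (iv6 D95792) F70321 (iv1 F36258) (iv5 F70345) D95854 F347818
theorem F347821 : act 2 n97189 = n148819 := d1_3 F347819 F149934 (iv4 F149943)
theorem F347822 : act 6 n97185 = n148819 := d10_0 F347819 (iv6 D97186) D97185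
theorem E100365 : n148820 = n85084 := (c12_3 F347822 (iv5 D148819) D148820 F316075 (iv6 F316076) (iv5 F301496))
theorem E100366 : n178635 = n69750 := ((D178635).symm.trans (sb E100365 (iv6 D148820)))
theorem F347823 : act 6 n69750 = n85084 := (sb E100366 (iv6 D178635))
theorem F347824 : act 7 n148819 = n110623 := d14_2 (iv7 F149931) F347822 (iv6 D110623) (iv7 F82026) (iv6 F309692)
theorem F347825 : act 6 n110650 = n146164 := d21_9 F104741 D69750 D148819 (iv6 F347822) F149932 F342217 (iv5 D55289) D55286 (iv5 F346714) (iv1 D146164)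
theorem E100367 : n154609 = n146166 := (c21_5 (iv5 F300858) (iv1 F188635) F301505 (iv6 F308644) D154609 (iv6 D146166) F104741 D69750 D148819 (iv6 F347822) F149932)
theorem F347826 : act 1 n146166 = n73289 := (sb E100367 (iv0 D154609))
theorem F347827 : act 3 n130082 = n147776 := d20_9 (iv4 D73285) (iv1 D33719) D33720 D73289 (iv1 F347826) F229435 F104743 D68801 (iv4 F317158) (iv1 F231518)
theorem F347828 : act 4 n146166 = n96982 := d20_8 F317478 F315258 F321177 F319119 (iv1 D44724) (iv3 F70300) F310752 (iv1 F347826) (iv3 D96982) (iv1 F71441)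
theorem F347829 : act 6 n96982 = n127447 := d10_2 D146166 F347828 F204859
theorem F347830 : act 7 n96982 = n179314 := d11_2 (iv7 F229437) F347828 F279203
theorem E100368 : n179314 = n95664 := (c8_1 F347830 (iv3 D95664) F322992 D96982)
theorem F347831 : act 4 n95664 = n85557 := (sb E100368 F279203)
theorem F347832 : act 6 n95664 = n85556 := (sb E100368 (iv6 D179314))
theorem F347833 : act 7 n95664 = n96982 := (sb E100368 (iv7 F347830))
theorem E100369 : n120585 = n95667 := (c7_2 F347832 (iv3 F192153) (iv6 D95667) D95664)
theorem F347834 : act 3 n95667 = n85556 := (sb E100369 F192153)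
theorem F347835 : act 4 n95667 = n55532 := (sb E100369 F192154)
theorem F347836 : act 7 n95667 = n55531 := (sb E100369 (iv7 D120585))
theorem F347837 : act 2 n96990 = n95667 := d1_3 F347835 (iv2 F192113) (iv4 F338159)
theorem F347838 : act 7 n120557 = n96990 := d4_0 F347837 F347836 (iv2 F192111)
theorem F347839 : act 1 n96990 = n120581 := d15_0 (iv0 D120581) (iv7 F347836) (iv2 F347837)
theorem F347840 : act 1 n120582 = n96990 := d15_1 D120582 (iv7 F347838) F192111
theorem F347841 : act 4 n179315 = n95738 := d20_8 F177933 (iv1 F88595) (iv4 F149563) F149562 (iv1 F71442) D95664 F347831 D179315 F147430 D114175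
theorem F347842 : act 4 n95749 = n179316 := d20_6 (iv4 F58266) (iv1 F315254) F322039 F320368 (iv1 F71653) (iv3 F147444) (iv1 D179316) (iv4 F347831) (iv3 D95664) (iv1 D44683)
theorem E100370 : n179316 = n153903 := (c5_1 F347842 (iv3 D153903) (iv4 D72816) (iv3 F109296) (iv4 F314847) (iv3 F147444))
theorem F347843 : act 0 n153903 = n85557 := (sb E100370 (iv1 D179316))
theorem F347844 : act 4 n153903 = n95749 := (sb E100370 (iv4 F347842))
theorem E100371 : n179315 = n154611 := ((c15_4 (iv0 D179315) (iv0 F347843) F241877 D154611)).symm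
theorem F347845 : act 1 n154611 = n85557 := (sb E100371 (iv0 D179315))
theorem F347846 : act 4 n154611 = n95738 := (sb E100371 F347841)
theorem F347847 : act 3 n114144 = n154611 := d5_5 F347846 F147430 (iv4 D52703) (iv3 F83260) D114144
theorem F347848 : act 6 n95737 = n154611 := d10_0 F347846 (iv6 D95738) D95737
theorem F347849 : act 6 n97187 = n179264 := d21_9 (iv5 D85549) (iv1 D39489) D39491 D85557 (iv1 F347845) (iv6 F347848) (iv5 F300848) F303645 (iv5 F300854) (iv1 F279190)
theorem F347850 : act 5 n179264 = n119599 := d12_1 F347849 (iv6 D119599) (iv5 D55028) D55029 (iv5 F300854)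
theorem F347851 : act 0 n119599 = n110428 := d21_7 (iv5 D25206) D25203 D51942 (iv6 F309692) (iv1 F149936) F347849 F347850 (iv5 F175186) (iv6 D112592) (iv1 D51951)
theorem F347852 : act 5 n132595 = n179267 := d21_8 F347850 F347851 (iv5 F175186) (iv6 D112592) (iv1 D51951) D51952 (iv5 F326082) (iv1 F212834) (iv6 D179267) D179264
theorem E100372 : n126321 = n119558 := (c21_11 (iv5 D119558) (iv1 F87018) D55028 D119599 F347851 (iv6 D110428) F80333 F40096 D28120 D59219 D126321)
theorem F347853 : act 1 n119558 = n59219 := (sb E100372 (iv0 D126321))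
theorem F347854 : act 6 n179317 = n119558 := d21_5 (iv5 F175186) F339811 F87855 D85558 D179317 (iv5 D119558) (iv1 F87018) D55028 D119599 F347851
theorem F347855 : act 1 n119599 = n113195 := d15_1 (iv0 F347851) (iv7 D113195) (iv2 F170803)
theorem F347856 : act 5 n178621 = n179317 := d12_5 F347854 (iv5 D119558) F184585 D85073 D178621
theorem F347857 : act 6 n148676 = n119565 := d21_9 (iv5 D55008) D55005 D119558 (iv6 F347854) (iv1 F279204) (iv6 D155865) (iv5 D74134) (iv1 F106023) D148676 (iv1 D119565)
theorem E100373 : n178515 = n69676 := (c12_5 F347857 (iv5 F317292) F317293 (iv5 D178514) D178515 D148676)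
theorem E100374 : n148677 = n84953 := ((D148677).symm.trans (sb E100373 (iv6 D178515)))
theorem F347858 : act 6 n84953 = n69676 := (sb E100374 (iv6 D148677))
theorem E100375 : n174558 = n55247 := (c21_10 (iv5 D74134) (iv1 F106023) D148676 F347857 (iv1 D119565) D119567 (iv5 F341160) F337054 (iv5 D174557) D174558 (iv1 F110852))
theorem E100376 : n120068 = n83422 := ((D120068).symm.trans (sb E100375 F273424))
theorem E100377 : n120071 = n83419 := ((D120071).symm.trans (sb E100375 (iv6 D174558)))
theorem F347859 : act 3 n83422 = n55247 := (sb E100376 (iv3 D120068))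
theorem F347860 : act 6 n83419 = n55247 := (sb E100377 (iv6 D120071))
theorem F347861 : act 6 n120067 = n174555 := d3_2 F347860 D120067 (iv2 D174555)
theorem F347862 : act 6 n120069 = n174556 := d10_2 F347860 D120069 (iv4 D174556)
theorem F347863 : act 6 n120070 = n176587 := d12_2 F347860 D120070 F275947 F273423 (iv5 D174557)
theorem F347864 : act 3 n174564 = n120070 := d7_3 F347863 (iv3 D176587) (iv6 F273427)
theorem F347865 : act 3 n120067 = n103216 := d0_2 F347859 D120067 F158461 (iv3 F343451) F271709
theorem F347866 : act 3 n120072 = n174565 := d8_3 (iv7 D174565) F347859 D120072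
theorem F347867 : act 0 n128390 = n174561 := d20_1 (iv4 F206508) F273426 F347859 (iv1 F110852) F110849 (iv4 F231733) (iv1 F231737) D154768 (iv3 F243422) (iv1 F205390)
theorem F347868 : act 0 n174561 = n127694 := d20_7 (iv4 D26691) (iv1 D12750) D12751 D26695 D55247 (iv3 F347859) (iv4 F273426) F205289 (iv3 D59998) F46010
theorem F347869 : act 3 n93348 = n174563 := d20_9 (iv4 F273426) F347868 F205289 (iv3 D59998) F46010 D55238 F329561 (iv1 F293857) (iv4 F294126) (iv1 D174563)
theorem F347870 : act 2 n174563 = n155783 := d0_1 F347869 (iv3 D155783) (iv2 F338746) F338747 (iv2 F144136)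
theorem F347871 : act 5 n174563 = n103359 := d6_2 (iv5 F294127) F347869 (iv3 D103359)
theorem F347872 : act 5 n155807 = n155783 := d2_2 F347871 (iv2 F336639) (iv2 F347870)
theorem F347873 : act 0 n103359 = n148669 := d18_0 F251056 (iv1 D159424) F114304 (iv5 F94468) (iv4 F205289) (iv0 F347868) F273426 D174563 F347871
theorem F347874 : act 6 n166234 = n103359 := d21_5 (iv5 D38818) (iv1 F298713) D36358 D79815 D166234 (iv5 F347871) (iv1 D174563) D174564 F273427 (iv1 D84189)
theorem F347875 : act 3 n103360 = n166234 := d7_3 F347874 (iv3 D103359) D103360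
theorem F347876 : act 5 n166234 = n128212 := d6_2 (iv5 F347138) F347875 (iv3 D128212)
theorem E100378 : n184351 = n120073 := (c8_3 F189658 F347865 (iv7 F336634) (iv3 D120073))
theorem F347877 : act 0 n120073 = n103056 := (sb E100378 F336632)
theorem F347878 : act 1 n120073 = n103061 := (sb E100378 F336633)
theorem F347879 : act 2 n120073 = n93527 := (sb E100378 F286284)
theorem F347880 : act 4 n120073 = n87937 := (sb E100378 F286285)
theorem F347881 : act 5 n120073 = n87924 := (sb E100378 (iv5 D184351))
theorem F347882 : act 6 n120073 = n126939 := (sb E100378 (iv6 F333073))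
theorem F347883 : act 7 n120073 = n103216 := (sb E100378 F336634)
theorem E100379 : n120067 = n74136 := (c20_4 (iv4 D47836) D47834 D103216 (iv3 F347865) (iv1 D74136) F53332 F25923 (iv1 F20722) D16443 D33997 (iv1 F328220))
theorem E100380 : n155871 = n55247 := (((iv2 F244853)).symm.trans (sb E100379 (iv2 D120067)))
theorem E100381 : n155872 = n103216 := ((D155872).symm.trans (sb E100379 F347865))
theorem E100382 : n174555 = n155875 := (((D155875).symm.trans (sb E100379 F347861))).symm
theorem E100383 : n155866 = n55248 := ((F244851).symm.trans (sb E100379 (iv7 F189658)))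
theorem F347884 : act 2 n55247 = n74136 := (sb E100380 F244853)
theorem E100384 : n120072 = n74135 := ((D120072).symm.trans (sb E100380 (iv7 D155871)))
theorem F347885 : act 3 n103216 = n74136 := (sb E100381 (iv3 D155872))
theorem F347886 : act 1 n155875 = n84936 := (sb E100382 F273419)
theorem F347887 : act 2 n155875 = n83419 := (sb E100382 (iv2 D174555))
theorem F347888 : act 7 n55248 = n74136 := (sb E100383 (iv7 F244851))
theorem F347889 : act 2 n74135 = n55248 := (sb E100384 F189659)
theorem E100385 : n174565 = n155867 := (((D155867).symm.trans (sb E100384 F347866))).symm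
theorem F347890 : act 7 n74135 = n55247 := (sb E100384 (iv7 D120072))
theorem F347891 : act 7 n155867 = n83422 := (sb E100385 (iv7 D174565))
theorem F347892 : act 7 n174561 = n128389 := d11_2 F347891 (iv4 F273426) (iv4 F244852)
theorem F347893 : act 6 n110397 = n155867 := d14_5 F347891 (iv6 D83422) F127812 (iv6 F328395) F175522
theorem E100386 : n155870 = n50909 := (c7_3 F347893 (iv3 D155867) D155870 (iv3 F170762))
theorem E100387 : n110399 = n74135 := ((D110399).symm.trans (sb E100386 (iv6 D155870)))
theorem E100388 : n112751 = n55248 := (((F347889).symm.trans (sb E100387 (iv2 F175539)))).symm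
theorem E100389 : n155868 = n115566 := ((D155868).symm.trans (sb E100387 (iv4 F179881)))
theorem F347894 : act 6 n74135 = n50909 := (sb E100387 (iv6 D110399))
theorem E100390 : n120074 = n115316 := ((D120074).symm.trans (sb E100388 (iv4 F179609)))
theorem E100391 : n120076 = n52042 := ((D120076).symm.trans (sb E100388 (iv6 D112751)))
theorem F347895 : act 4 n115566 = n74135 := (sb E100389 (iv4 D155868))
theorem F347896 : act 4 n115316 = n55248 := (sb E100390 (iv4 D120074))
theorem F347897 : act 6 n52042 = n55248 := (sb E100391 (iv6 D120076))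
theorem E100392 : n126939 = n112749 := (c7_3 F347897 D120073 F347882 F175535)
theorem F347898 : act 1 n112749 = n59575 := (sb E100392 (iv0 D126939))
theorem F347899 : act 4 n112749 = n184381 := (sb E100392 (iv4 F333074))
theorem F347900 : act 6 n112749 = n120073 := (sb E100392 (iv6 F347882))
theorem E100393 : n163183 = n120075 := ((c12_2 F347897 D120075 (iv6 D163183) (iv5 F327228) (iv6 D52043) D52042)).symm
theorem F347901 : act 6 n120075 = n78437 := (sb E100393 (iv6 D163183))
theorem F347902 : act 7 n155875 = n110407 := d14_4 (iv7 F82252) F347897 F347888 D155875 (iv6 D110407)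
theorem E100394 : n179304 = n52246 := (c21_9 (iv5 D50889) (iv1 F39858) D52042 F347897 (iv1 D55248) F42791 D39491 D85554 D179304 (iv6 D52246) (iv1 F80282))
theorem E100395 : n110646 = n85554 := (((iv5 F171252)).symm.trans (sb E100394 (iv5 D179304)))
theorem E100396 : n179301 = n112592 := ((D179301).symm.trans (sb E100395 (iv2 F175183)))
theorem E100397 : n179302 = n147275 := ((D179302).symm.trans (sb E100395 (iv3 F230888)))
theorem E100398 : n179303 = n109517 := ((D179303).symm.trans (sb E100395 F171251))
theorem F347903 : act 5 n85554 = n52246 := (sb E100395 F171252)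
theorem E100399 : n179305 = n51019 := ((D179305).symm.trans (sb E100395 (iv6 D110646)))
theorem F347904 : act 2 n112592 = n85554 := (sb E100396 (iv2 D179301))
theorem F347905 : act 7 n112592 = n85555 := (sb E100396 (iv7 F279201))
theorem F347906 : act 3 n147275 = n85554 := (sb E100397 (iv3 D179302))
theorem F347907 : act 4 n109517 = n85554 := (sb E100398 (iv4 D179303))
theorem F347908 : act 6 n51019 = n85554 := (sb E100399 (iv6 D179305))
theorem E100400 : n148824 = n69118 := (c21_9 (iv5 D28137) (iv1 F40098) (iv5 F80478) F347908 (iv1 F192213) F192211 (iv5 F233674) (iv1 F233676) D148824 (iv6 D69118) F51121)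
theorem E100401 : n147447 = n69751 := ((D147447).symm.trans (sb E100400 (iv5 D148824)))
theorem E100402 : n148822 = n69124 := ((D148822).symm.trans (sb E100401 F231231))
theorem F347909 : act 5 n69751 = n69118 := (sb E100401 (iv5 D147447))
theorem E100403 : n148825 = n112579 := ((D148825).symm.trans (sb E100401 F231232))
theorem F347910 : act 3 n69124 = n69751 := (sb E100402 (iv3 D148822))
theorem F347911 : act 6 n112579 = n69751 := (sb E100403 (iv6 D148825))
theorem E100404 : n179284 = n79927 := (c21_4 F192210 (iv1 F130718) D85549 D179284 (iv1 D79927) (iv6 F320746) (iv5 D28137) (iv1 F40098) (iv5 F80478) F347908 (iv1 F192213))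
theorem E100405 : n166524 = n85549 := ((D166524).symm.trans (sb E100404 (iv6 D179284)))
theorem F347912 : act 6 n85549 = n79927 := (sb E100405 (iv6 D166524))
theorem F347913 : act 6 n166513 = n179268 := d3_2 F347912 (iv2 F346930) F279188
theorem F347914 : act 6 n166521 = n179278 := d7_2 F347912 D166521 F279193
theorem E100406 : n97260 = n85549 := (c10_4 F347912 (iv4 F346949) (iv6 D97262) D97260)
theorem E100407 : n179283 = n45439 := ((D179283).symm.trans (sb E100406 (iv4 D97260)))
theorem F347915 : act 4 n45439 = n85549 := (sb E100407 (iv4 D179283))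
theorem E100408 : n179287 = n121087 := ((c12_3 F347912 (iv5 F346945) F346946 (iv5 D179287) (iv6 D85550) D85549)).symm
theorem F347916 : act 5 n121087 = n85550 := (sb E100408 (iv5 D179287))
theorem F347917 : act 6 n166150 = n95585 := d21_9 (iv5 F300848) F303645 (iv5 F300854) F347849 (iv1 F279190) F347912 (iv5 F346945) (iv1 D166148) D166150 (iv1 F147428)
theorem E100409 : n166480 = n146163 := (c21_4 (iv5 D36405) D36402 D79916 D166480 (iv1 F229429) (iv6 F192211) F192210 (iv1 F130718) D85549 F347912 (iv1 D79927))
theorem F347918 : act 6 n146163 = n79916 := (sb E100409 (iv6 D166480))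
theorem E100410 : n157701 = n146163 := (c3_4 F347918 (iv2 F346921) (iv6 D157705) (iv2 F248506))
theorem F347919 : act 2 n146163 = n75137 := (sb E100410 F248506)
theorem F347920 : act 7 n146163 = n75136 := (sb E100410 (iv7 D157701))
theorem E100411 : n167547 = n157700 := (c14_5 (iv7 F347920) F347918 D166481 F346919 (iv7 F298337) (iv6 D157700))
theorem F347921 : act 0 n157700 = n85129 := (sb E100411 F298336)
theorem F347922 : act 1 n157700 = n110652 := (sb E100411 F346719)
theorem F347923 : act 2 n157700 = n110650 := (sb E100411 F346716)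
theorem F347924 : act 3 n157700 = n80412 := (sb E100411 F263784)
theorem F347925 : act 5 n157700 = n80410 := (sb E100411 (iv5 D167547))
theorem F347926 : act 7 n157700 = n84091 := (sb E100411 F298337)
theorem E100412 : n160729 = n157699 := (c12_5 D157700 F347925 (iv6 D80410) (iv5 F115839) D160729 (iv5 D157699))
theorem F347927 : act 2 n157699 = n157572 := (sb E100412 F253886)
theorem F347928 : act 3 n157699 = n77119 := (sb E100412 F253887)
theorem F347929 : act 4 n157699 = n154210 := (sb E100412 F253888)
theorem F347930 : act 6 n157699 = n77118 := (sb E100412 (iv6 D160729))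
theorem F347931 : act 5 n148826 = n97189 := d21_2 F229430 D148826 (iv6 D97189) (iv1 F134282) (iv6 F330758) (iv5 D118554) F310582 (iv5 F347925) (iv6 D157700) (iv1 F229432)
theorem E100413 : n148826 = n148816 := ((c2_4 F347931 F347821 (iv5 D148819) D148816)).symm
theorem F347932 : act 0 n148816 = n69753 := (sb E100413 (iv1 F233680))
theorem F347933 : act 1 n148816 = n69752 := (sb E100413 (iv0 D148826))
theorem F347934 : act 5 n148816 = n97189 := (sb E100413 F347931)
theorem F347935 : act 6 n176485 = n148816 := d12_0 F347934 (iv6 D97189) F298856 D119139 (iv5 F275797)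
theorem E100414 : n147448 = n97189 := ((c13_2 F233677 F347934 (iv7 D147448) (iv5 F347909))).symm
theorem F347936 : act 3 n97189 = n69125 := (sb E100414 F231233)
theorem F347937 : act 7 n97189 = n69118 := (sb E100414 (iv7 D147448))
theorem F347938 : act 3 n148816 = n147470 := d6_1 (iv5 F347934) F231254 (iv3 F347936)
theorem F347939 : act 5 n120618 = n113195 := d21_0 (iv1 F347855) (iv5 F347850) (iv6 F347849) (iv1 D97187) D97189 (iv5 F347934) F347932 F106153 (iv6 F87856) D120618
theorem E100415 : n179306 = n120618 := (c13_1 D179306 F347939 (iv7 D113195) (iv5 F347903))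
theorem F347940 : act 2 n120618 = n85555 := (sb E100415 F279202)
theorem F347941 : act 7 n120618 = n85554 := (sb E100415 (iv7 D179306))
theorem F347942 : act 2 n179309 = n113195 := d2_3 (iv5 F347939) F347940 D179309
theorem F347943 : act 7 n110428 = n179309 := d4_0 F347942 (iv7 D113195) (iv2 F170803)
theorem F347944 : act 1 n179309 = n113193 := d15_0 (iv0 D113193) D113195 (iv2 F347942)
theorem F347945 : act 3 n179309 = n133328 := d8_1 F347943 (iv7 F335859) F230774
theorem F347946 : act 4 n179309 = n115707 := d11_1 F347943 F180043 (iv4 F170804)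
theorem F347947 : act 6 n179309 = n115696 := d14_1 F347943 (iv7 D115696) (iv6 D53351) (iv7 F80332) D110428
theorem F347948 : act 1 n113194 = n179309 := d15_1 D113194 (iv7 F347943) F170803
theorem F347949 : act 5 n115707 = n156200 := d17_5 D85540 (iv5 F192210) (iv1 F192215) D179309 F347946 F245474 F245083 F245081 (iv4 F325780)
theorem F347950 : act 0 n115707 = n107618 := d20_7 F78589 (iv1 D29587) D29588 D62576 D133328 (iv3 F347945) F347946 F166055 (iv3 D49727) D49725
theorem F347951 : act 1 n113192 = n107618 := d15_0 (iv0 F347950) F180043 (iv2 F176355)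
theorem F347952 : act 7 n156200 = n115710 := d13_2 (iv7 F180043) F347949 (iv5 D115710)
theorem F347953 : act 2 n115710 = n156199 := d15_3 (iv0 D156199) D156200 F347952
theorem F347954 : act 5 n156199 = n113192 := d2_2 D115710 F347953 F176355
theorem F347955 : act 6 n156199 = n115292 := d3_2 (iv6 F180044) F347953 F179558
theorem E100416 : n156203 = n115316 := ((c21_4 F79619 F79617 D53202 D115316 (iv1 D156203) (iv6 D74304) D74303 D156199 F347954 (iv6 D113192) F82607)).symm
theorem F347956 : act 0 n115316 = n74304 := (sb E100416 (iv1 D156203))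
theorem E100417 : n179307 = n146996 := ((c6_3 D179309 F347945 F335857 (iv3 D179307))).symm
theorem F347957 : act 3 n146996 = n85555 := (sb E100417 (iv3 D179307))
theorem E100418 : n179308 = n103158 := (c5_3 D146996 F347957 D179308 F158426 F317651 (iv3 F190187))
theorem F347958 : act 4 n103158 = n85555 := (sb E100418 (iv4 D179308))
theorem E100419 : n179310 = n103156 := (c7_3 (iv6 F230405) F347957 D179310 F319850)
theorem F347959 : act 6 n103156 = n85555 := (sb E100419 (iv6 D179310))
theorem F347960 : act 7 n111782 = n103158 := d11_0 F347958 (iv7 F347905) F175185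
theorem E100420 : n147445 = n116916 := ((c15_1 (iv0 F248415) (iv0 D147445) (iv7 F347937) F347821)).symm
theorem F347961 : act 1 n116916 = n69118 := (sb E100420 (iv0 D147445))
theorem E100421 : n157699 = n145781 := ((c21_2 F182682 D145781 (iv5 D157699) D157700 F347921 (iv6 F328397) (iv5 D50993) (iv1 F39686) F51122 D69118 (iv1 F347961))).symm
theorem F347962 : act 2 n145781 = n157572 := (sb E100421 F347927)
theorem F347963 : act 3 n145781 = n77119 := (sb E100421 F347928)
theorem F347964 : act 4 n145781 = n154210 := (sb E100421 F347929)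
theorem F347965 : act 5 n145781 = n75136 := (sb E100421 (iv5 D157699))
theorem F347966 : act 6 n145781 = n77118 := (sb E100421 F347930)
theorem F347967 : act 0 n123710 = n148828 := d21_4 (iv5 D128056) (iv1 D60178) (iv5 F90858) D123710 (iv6 D148828) F106153 D75136 (iv5 F347965) F347966 (iv1 F206070)
theorem F347968 : act 5 n157696 = n157572 := d2_2 F347965 D157696 (iv2 F347962)
theorem E100422 : n160732 = n157697 := ((c6_2 F347965 D157697 (iv5 D160732) (iv3 F347963))).symm
theorem F347969 : act 2 n157697 = n80426 := (sb E100422 F253890)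
theorem E100423 : n175823 = n146550 := (((F248505).symm.trans (sb E100422 F298341))).symm
theorem F347970 : act 5 n157697 = n77119 := (sb E100422 (iv5 D160732))
theorem F347971 : act 6 n157697 = n80412 := (sb E100422 F253891)
theorem F347972 : act 2 n146550 = n167584 := (sb E100423 (iv2 F301472))
theorem F347973 : act 6 n146550 = n83920 := (sb E100423 (iv6 D175823))
theorem F347974 : act 7 n146549 = n167584 := d15_2 F252115 F252113 (iv2 F347972)
theorem F347975 : act 4 n167585 = n146549 := d11_3 F347974 (iv4 D167584) D167585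
theorem E100424 : n147318 = n77120 := (c18_2 (iv1 F345550) (iv4 F230980) (iv1 F253767) F253764 (iv5 F263839) F347975 (iv0 D146549) F104896 F334744 F298375)
theorem E100425 : n160735 = n69068 := ((D160735).symm.trans (sb E100424 (iv3 D147318)))
theorem E100426 : n160736 = n116914 := ((D160736).symm.trans (sb E100424 F230980))
theorem E100427 : n160739 = n69114 := ((D160739).symm.trans (sb E100424 F230981))
theorem F347976 : act 3 n69068 = n77120 := (sb E100425 (iv3 D160735))
theorem F347977 : act 4 n116914 = n77120 := (sb E100426 (iv4 D160736))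
theorem E100428 : n147435 = n77121 := ((D147435).symm.trans (sb E100427 F253899))
theorem F347978 : act 7 n69114 = n77120 := (sb E100427 (iv7 D160739))
theorem F347979 : act 2 n77121 = n69114 := (sb E100428 (iv2 D147435))
theorem E100429 : n160741 = n145764 := ((D160741).symm.trans (sb E100428 F231223))
theorem E100430 : n175641 = n160743 := (((D160743).symm.trans (sb E100428 (iv6 F346433)))).symm
theorem F347980 : act 4 n145764 = n77121 := (sb E100429 (iv4 D160741))
theorem F347981 : act 2 n160743 = n147436 := (sb E100430 F346430)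
theorem F347982 : act 3 n160743 = n164144 := (sb E100430 (iv3 F339581))
theorem F347983 : act 4 n160743 = n83858 := (sb E100430 (iv4 D175641))
theorem F347984 : act 0 n172857 = n160743 := d18_2 F314202 D172857 F347983 (iv5 F309540) F273721 F154548 (iv4 F272839) (iv0 F311778) (iv5 F244467)
theorem F347985 : act 1 n172846 = n160743 := d18_6 (iv1 D75536) F54822 D41588 (iv4 F184760) D82752 D172846 F347983 (iv0 F336431) (iv5 D158386)
theorem F347986 : act 5 n164138 = n160743 := d6_0 F347982 (iv5 D164144) (iv3 F258687)
theorem E100431 : n160740 = n125457 := ((c7_3 D160743 F347982 F258692 (iv3 D160740))).symm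
theorem F347987 : act 3 n125457 = n77121 := (sb E100431 (iv3 D160740))
theorem E100432 : n160742 = n125449 := (c6_3 D125457 F347987 D160742 F201730)
theorem F347988 : act 5 n125449 = n77121 := (sb E100432 (iv5 D160742))
theorem E100433 : n160734 = n152491 := (c8_3 (iv7 F336475) F347987 F253898 (iv3 D152491))
theorem F347989 : act 2 n152491 = n77120 := (sb E100433 (iv2 D160734))
theorem F347990 : act 7 n152491 = n77121 := (sb E100433 (iv7 F253898))
theorem E100434 : n154211 = n147593 := (c20_8 F108434 (iv1 F108281) (iv4 F336474) F347987 (iv1 D77121) (iv3 F107188) (iv4 F109588) D154211 (iv4 D147593) D147592 F347790)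
theorem F347991 : act 0 n147593 = n120438 := (sb E100434 (iv1 F242329))
theorem F347992 : act 1 n147593 = n73059 := (sb E100434 (iv0 D154211))
theorem F347993 : act 3 n147320 = n150244 := d20_9 (iv4 F109588) (iv1 F347992) (iv4 D147593) D147592 F347790 (iv3 F239655) F239656 (iv1 F238144) F343316 (iv1 D150244)
theorem F347994 : act 2 n150244 = n148203 := d0_1 F347993 (iv3 D148203) (iv2 F330658) (iv3 F330662) F230991
theorem F347995 : act 7 n150244 = n147548 := d8_2 F230993 F347993 (iv3 D147548)
theorem F347996 : act 4 n150244 = n153976 := d20_6 (iv4 D15174) D15172 D32137 D69069 D147320 F347993 (iv1 D153976) F311879 (iv3 D69084) (iv1 D32143)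
theorem F347997 : act 2 n153976 = n140043 := d1_1 F347996 (iv4 F232031) (iv2 F347994)
theorem F347998 : act 7 n153976 = n147597 := d11_2 (iv7 F347995) F347996 (iv4 F231386)
theorem F347999 : act 2 n147597 = n153975 := d15_3 (iv0 D153975) D153976 F347998
theorem F348000 : act 7 n140043 = n153975 := d4_2 (iv7 F347998) F347997 (iv2 F347999)
theorem F348001 : act 3 n153975 = n116037 := d8_1 F348000 F181679 D140043
theorem F348002 : act 3 n147595 = n117492 := d20_5 (iv4 D65727) (iv1 F84384) D116037 (iv3 F348001) (iv1 F316671) F184032 F183454 D69349 (iv3 F322082) (iv1 F180790)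
theorem F348003 : act 7 n117492 = n122837 := d8_2 (iv7 F316672) F348002 F196824
theorem E100435 : n142588 = n122837 := ((c11_1 F348003 (iv4 D142588) (iv7 F322316) (iv4 F184032))).symm
theorem F348004 : act 4 n122837 = n66837 := (sb E100435 (iv4 D142588))
theorem F348005 : act 1 n117544 = n122837 := d15_1 D117544 (iv7 F348003) F184031
theorem E100436 : n140050 = n117550 := ((c20_9 (iv4 D116024) (iv1 F84379) D65740 D140043 F316668 (iv3 F196824) F348004 (iv1 F322324) D117550 (iv3 D140050) (iv1 F180776))).symm
theorem F348006 : act 3 n117550 = n65743 := (sb E100436 (iv3 D140050))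
theorem F348007 : act 0 n117543 = n122837 := d20_7 (iv4 F316332) (iv1 F318598) F112677 F54595 D67957 D144956 (iv4 F227929) F348004 (iv3 F322330) (iv1 F112638)
theorem E100437 : n144956 = n127536 := ((c20_11 (iv4 F227929) F348007 F348004 (iv3 F322330) (iv1 F112638) F243077 (iv4 F337320) (iv1 F70643) F317483 (iv3 F94377) D127536)).symm
theorem F348008 : act 2 n127536 = n170360 := (sb E100437 F337290)
theorem F348009 : act 3 n127536 = n67957 := (sb E100437 (iv3 D144956))
theorem F348010 : act 4 n127536 = n117543 := (sb E100437 (iv4 F227929))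
theorem F348011 : act 7 n127536 = n68001 := (sb E100437 F264340)
theorem F348012 : act 2 n145074 = n117544 := d15_3 F348005 (iv0 F348007) (iv7 F264373)
theorem F348013 : act 4 n117544 = n145073 := d1_2 D145074 F348012 (iv2 D145073)
theorem E100438 : n145073 = n127537 := ((c20_11 (iv4 F348013) (iv1 D117544) F85488 (iv3 F85484) F317199 (iv3 F317210) (iv4 F319484) (iv1 F321491) (iv4 F187251) (iv3 F267845) (iv1 F337288))).symm
theorem F348014 : act 2 n127537 = n68001 := (sb E100438 (iv2 D145073))
theorem F348015 : act 4 n127537 = n117544 := (sb E100438 (iv4 F348013))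
theorem F348016 : act 7 n127537 = n170360 := (sb E100438 (iv7 F337292))
theorem F348017 : act 3 n117544 = n122640 := d20_3 F337285 (iv1 F337288) F348015 (iv1 F197548) F321947 (iv4 D67187) (iv1 F181669) F181670 F322082 (iv1 F337282)
theorem F348018 : act 1 n170357 = n127536 := d15_1 F337288 F348011 (iv2 F348014)
theorem F348019 : act 0 n123603 = n117694 := d20_4 (iv4 F348010) (iv1 F348018) (iv4 F337285) F337284 (iv3 D117694) (iv4 F85546) F162433 F162432 (iv3 F347736) D117543
theorem E100439 : n95460 = n95338 := ((c20_1 (iv4 F318896) (iv1 D95460) (iv4 F307587) F307586 F337300 F348006 (iv4 F318912) F321940 (iv4 F184470) F321945 (iv1 D146802))).symm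
theorem F348020 : act 0 n95338 = n44596 := (sb E100439 (iv1 D95460))
theorem F348021 : act 6 n89528 = n95338 := d21_3 F64402 (iv1 F74599) (iv5 F137239) F348020 (iv6 D44596) (iv5 D21213) D21211 D44590 (iv6 F306525) F72584
theorem F348022 : act 2 n96368 = n95459 := d15_3 (iv0 D95459) (iv0 F348020) F318897
theorem F348023 : act 3 n95341 = n89528 := d7_3 F348021 (iv3 D95338) D95341
theorem F348024 : act 5 n102023 = n95341 := d6_0 F348023 F137239 D102023
theorem F348025 : act 0 n177147 = n102023 := d17_2 (iv1 F346807) D177147 F348024 F318904 F105013 D72729 F313063 (iv0 F321383) F125484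
theorem F348026 : act 1 n177164 = n102023 := d17_6 (iv1 F341039) D127417 F319123 (iv5 D84421) D84420 D177164 F348024 (iv0 F346814) F267881
theorem F348027 : act 0 n177165 = n110647 := d21_10 F171253 (iv1 F340720) F147114 (iv6 F317869) F317866 D95341 (iv5 F348024) (iv1 F348026) (iv5 D177164) D177165
theorem F348028 : act 0 n179642 = n177163 := d20_4 (iv4 F113841) (iv1 F317154) F317155 D179642 F276573 (iv4 F276574) F348027 F340718 (iv3 D159036) (iv1 D75950)
theorem F348029 : act 4 n177163 = n145950 := d18_1 F348028 (iv1 D145950) F324991 (iv5 D67026) (iv4 F103008) D142997 (iv4 F333290) F333288 F321576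
theorem F348030 : act 1 n137904 = n177163 := d15_0 (iv0 F348028) (iv7 F321282) (iv2 F221156)
theorem F348031 : act 7 n177163 = n181743 := d15_2 (iv0 F339797) F348030 F282908
theorem F348032 : act 5 n179631 = n177163 := d21_0 (iv1 F348030) (iv5 D137904) (iv6 D64814) D64810 D137895 F333283 (iv1 F185626) F185623 (iv6 F309229) D179631
theorem E100440 : n177162 = n118333 := ((c21_2 F182660 D118333 (iv5 D177162) D177163 (iv1 F348030) (iv6 F339798) F339434 F336866 D141475 F224532 F341088)).symm
theorem F348033 : act 3 n118333 = n84421 := (sb E100440 F276572)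
theorem F348034 : act 5 n118333 = n84419 := (sb E100440 (iv5 D177162))
theorem F348035 : act 6 n116058 = n179631 := d21_5 (iv5 F320913) (iv1 D116045) F320908 F318780 D116058 F348032 (iv1 F348030) (iv5 D137904) (iv6 D64814) D64810
theorem F348036 : act 0 n116058 = n127971 := d21_4 F321576 F348028 (iv5 F348032) (iv6 F348035) (iv6 D127971) F104206 F104205 F93556 D76259 F323278
theorem E100441 : n140810 = n116058 := ((c15_2 (iv0 F205947) (iv0 F348036) F330026 (iv2 F327726))).symm
theorem F348037 : act 3 n116058 = n66068 := (sb E100441 (iv3 D140810))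
theorem F348038 : act 7 n116058 = n66096 := (sb E100441 F330026)
theorem F348039 : act 2 n150580 = n116058 := d4_3 F348038 (iv2 F327726) (iv7 F237100)
theorem E100442 : n181744 = n179631 := (c14_5 F348038 F327185 (iv7 F309998) D86784 D181744 (iv6 F348035))
theorem F348040 : act 7 n179631 = n86784 := (sb E100442 (iv7 D181744))
theorem F348041 : act 1 n150580 = n116028 := d15_0 F342393 (iv7 F348038) (iv2 F348039)
theorem F348042 : act 7 n116028 = n127971 := d15_2 D150580 F348041 F205944
theorem F348043 : act 5 n150580 = n138695 := d21_2 D116028 (iv1 F348041) (iv6 D138695) (iv1 D65121) (iv6 D30576) D30575 F312534 F311111 (iv6 F311112) F318713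
theorem F348044 : act 0 n138695 = n109845 := d21_1 F348043 (iv5 F228726) (iv6 F342376) F346598 (iv6 D66610) (iv5 F103127) (iv1 F320914) F320916 (iv6 F320749) (iv1 F348041)
theorem F348045 : act 7 n138695 = n167922 := d15_2 (iv0 F342378) (iv0 F348044) (iv2 F319694)
theorem F348046 : act 3 n138535 = n179631 := d8_3 F348040 F312255 D138535
theorem F348047 : act 3 n140877 = n150580 := d0_0 F348039 F348037 (iv2 F330025) D66091 D140877
theorem F348048 : act 7 n181746 = n140877 := d8_0 F348047 F237100 (iv3 F282922)
theorem F348049 : act 4 n117013 = n140877 := d20_2 (iv4 F85061) D117013 F348047 (iv1 D150580) F107526 (iv4 F107529) F107530 F92302 (iv3 F320587) (iv1 D53951)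
theorem F348050 : act 2 n140878 = n117013 := d1_3 F348049 (iv2 D140877) D140878
theorem F348051 : act 7 n117014 = n140878 := d15_2 (iv0 D117013) D117014 F348050
theorem F348052 : act 3 n145417 = n117014 := d8_3 F348051 F331784 D145417
theorem F348053 : act 2 n138504 = n181746 := d4_3 F348048 (iv2 D140877) (iv7 F327719)
theorem F348054 : act 1 n140876 = n181746 := d15_1 D140876 F348048 (iv2 D140877)
theorem E100443 : n140876 = n140714 := ((c15_4 F348054 (iv0 F318708) F227272 F227270)).symm
theorem F348055 : act 0 n140714 = n66091 := (sb E100443 (iv1 D140876))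
theorem F348056 : act 1 n140714 = n181746 := (sb E100443 F348054)
theorem E100444 : n140989 = n140875 := (c15_1 (iv0 F318708) (iv0 D140875) (iv7 F327719) F348053)
theorem F348057 : act 0 n140875 = n181746 := (sb E100444 F318708)
theorem F348058 : act 3 n140875 = n66129 := (sb E100444 (iv3 D140989))
theorem F348059 : act 5 n140875 = n118258 := (sb E100444 F318709)
theorem F348060 : act 6 n140875 = n68020 := (sb E100444 F318710)
theorem F348061 : act 7 n140875 = n144459 := (sb E100444 F227272)
theorem F348062 : act 5 n144459 = n139799 := d13_1 F348061 (iv7 F320486) (iv5 F348059)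
theorem F348063 : act 0 n157261 = n144498 := d18_2 (iv1 F318268) (iv4 F247493) F227341 F348062 (iv4 F339861) F339860 F224070 (iv0 F316903) F318324
theorem F348064 : act 0 n178876 = n157260 := d21_1 (iv5 F278745) (iv5 D157260) D157261 F348063 (iv6 D144498) (iv5 F225287) (iv1 F225288) (iv5 D66780) (iv6 F319063) D85457
theorem F348065 : act 2 n124997 = n157260 := d15_3 (iv0 F348064) (iv0 D178876) (iv7 F200778)
theorem F348066 : act 7 n157260 = n178828 := d4_2 (iv7 F200778) F348065 F278691
theorem F348067 : act 4 n157260 = n164100 := d16_0 (iv5 D164100) F120006 (iv5 F321959) (iv4 D18675) D18676 D39407 D85282 (iv7 F200778) F348065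
theorem F348068 : act 1 n164100 = n138939 := d18_6 (iv1 D74764) F53914 D34262 D74774 D157260 F348067 (iv4 D138939) D138938 (iv5 F246567)
theorem F348069 : act 5 n104776 = n138939 := d21_6 F254080 (iv1 F250195) (iv5 D84326) (iv6 F129302) (iv1 F343040) D104776 (iv1 F348068) (iv5 D164100) (iv6 D78836) D78832
theorem F348070 : act 6 n138939 = n95977 := d12_2 D104776 F348069 F147605 (iv6 D48444) D48443
theorem F348071 : act 4 n95977 = n138940 := d10_1 F348070 (iv6 D138940) D138939
theorem E100445 : n113013 = n95978 := (c5_4 F348071 F222131 F167331 (iv3 F176045) (iv4 D95978) D95977)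
theorem F348072 : act 3 n95978 = n52165 := (sb E100445 F176045)
theorem F348073 : act 6 n95978 = n52164 := (sb E100445 (iv6 D113013))
theorem F348074 : act 0 n106290 = n145519 := d21_10 (iv5 D145519) (iv1 F228530) F340513 (iv6 D96081) (iv1 F147609) F348073 (iv5 D52164) F54247 D49126 (iv6 F163354)
theorem E100446 : n133717 = n106734 := ((c21_5 (iv5 D49316) (iv1 D24069) D24071 D49322 D106734 F331353 (iv5 F147211) F147212 (iv5 F147607) F348073 (iv1 F163360))).symm
theorem F348075 : act 2 n106734 = n96040 := (sb E100446 F331352)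
theorem F348076 : act 3 n106734 = n62769 := (sb E100446 (iv3 D133717))
theorem F348077 : act 4 n106734 = n103322 := (sb E100446 (iv4 F331341))
theorem F348078 : act 6 n106734 = n95542 := (sb E100446 F331353)
theorem F348079 : act 7 n106734 = n131304 := (sb E100446 F215222)
theorem F348080 : act 6 n95952 = n106721 := d21_5 F70456 (iv1 F70388) (iv5 D44814) (iv6 F70359) D95952 (iv5 F164500) (iv1 D52163) D52164 (iv6 F348073) F147608
theorem F348081 : act 2 n106727 = n95952 := d3_3 F348080 F164501 D106727
theorem F348082 : act 7 n95953 = n106727 := d15_2 (iv0 D95952) D95953 F348081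
theorem F348083 : act 3 n185644 = n106732 := d20_5 F95728 F46641 D49651 (iv3 F295477) F293088 F164513 D106734 F348077 F331340 (iv1 F95730)
theorem F348084 : act 4 n106752 = n185644 := d5_0 F348083 F164513 F77981 (iv4 F77999) (iv3 F164549)
theorem F348085 : act 6 n106730 = n185644 := d7_0 F348083 (iv6 D106732) D106730
theorem F348086 : act 7 n106735 = n96040 := d15_2 (iv0 D106734) D106735 (iv2 F348075)
theorem F348087 : act 2 n131304 = n106735 := d4_3 F348086 (iv2 F348075) F348079
theorem F348088 : act 1 n106290 = n113052 := d15_1 (iv0 F348074) F176132 F326247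
theorem E100447 : n106501 = n104861 := (c0_4 F348072 F82479 (iv3 F163714) (iv2 F163756) (iv3 D104861) (iv2 F147606))
theorem F348089 : act 2 n104861 = n106468 := (sb E100447 F163756)
theorem F348090 : act 4 n104861 = n90056 := (sb E100447 (iv4 F341774))
theorem F348091 : act 5 n104861 = n52165 := (sb E100447 F163757)
theorem F348092 : act 6 n104861 = n49214 := (sb E100447 (iv6 D106501))
theorem F348093 : act 7 n185701 = n104861 := d11_0 F348090 F138385 (iv4 F287995)
theorem F348094 : act 5 n113016 = n185701 := d13_3 F348093 F348091 D113016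
theorem F348095 : act 3 n185691 = n113016 := d6_3 F348094 (iv3 D185701) (iv5 F287989)
theorem F348096 : act 6 n186219 = n185691 := d7_0 F348095 F292599 D186219
theorem F348097 : act 7 n95978 = n185691 := d8_0 F348095 (iv7 D113016) (iv3 F348072)
theorem F348098 : act 7 n186219 = n112915 := d14_2 F348097 (iv6 F348096) (iv6 D112915) (iv7 F82477) (iv6 F348073)
theorem F348099 : act 1 n95552 = n185691 := d15_1 (iv0 F147212) (iv7 F348097) F147606
theorem F348100 : act 1 n185691 = n95557 := d15_1 F348099 F147228 (iv2 F147209)
theorem F348101 : act 2 n185702 = n186219 := d3_3 F348096 F287988 D185702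
theorem F348102 : act 4 n185692 = n186219 := d10_3 F348096 (iv4 D185691) D185692
theorem F348103 : act 1 n178877 = n157260 := d15_1 D178877 F348066 F278691
theorem F348104 : act 0 n119265 = n157261 := d21_4 F327290 F326525 (iv5 D119264) D119265 (iv6 D157261) D157260 (iv1 F348103) F278746 F155446 F107047
theorem E100448 : n119265 = n112129 := ((c18_10 F348104 F247493 (iv1 F320428) (iv4 F346893) (iv5 D112138) (iv4 D51713) (iv0 D25115) (iv4 F39480) D51708 D112129)).symm
theorem F348105 : act 0 n112129 = n157261 := (sb E100448 F348104)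
theorem F348106 : act 6 n112129 = n54888 := (sb E100448 (iv6 D119265))
theorem F348107 : act 5 n157261 = n111888 := d17_3 (iv1 F174267) D112129 F348105 (iv4 D111888) F161266 (iv0 F111165) (iv5 D51719) F81625 (iv4 F174264)
theorem F348108 : act 7 n141091 = n157261 := d13_0 F348107 F173813 D141091
theorem F348109 : act 0 n141054 = n152713 := d17_2 (iv1 F318331) (iv5 F224055) F316056 (iv4 F247493) F348107 (iv0 F173814) D111999 (iv0 F174262) F339843
theorem F348110 : act 1 n140877 = n144459 := d18_6 (iv1 F174053) (iv4 F176837) (iv1 F176840) (iv4 F175062) (iv5 F346904) F348049 (iv4 F227341) (iv0 F348063) F348107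
theorem E100449 : n144498 = n112126 := (c21_2 (iv5 F348107) F348063 (iv5 D112126) D112127 F174548 (iv6 D51764) D51763 F81740 F79990 D51654 F173814)
theorem F348111 : act 1 n112126 = n157261 := (sb E100449 (iv0 F348063))
theorem F348112 : act 4 n112126 = n144459 := (sb E100449 F227341)
theorem F348113 : act 6 n112126 = n67722 := (sb E100449 (iv6 D144498))
theorem F348114 : act 5 n119245 = n166526 := d21_6 (iv5 D111999) F173814 (iv5 F348107) (iv6 D157261) (iv1 F316052) (iv6 F189712) (iv1 D166526) (iv5 F339839) (iv6 F339844) F174262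
theorem F348115 : act 0 n111856 = n112527 := d21_4 D112228 (iv1 F174609) (iv5 D111855) D111856 F174984 (iv5 F348107) (iv1 F348111) (iv5 D112126) D112127 F174548
theorem F348116 : act 1 n144459 = n138504 := d15_1 F348110 F327719 D140877
theorem F348117 : act 3 n157261 = n158840 := d19_3 F348109 F316056 (iv4 F247493) F302221 (iv5 D173849) F297242 F296271 (iv1 F118524) F57179 (iv4 F60902) F305736 F130992 (iv5 D34398) D34397 (iv3 F55984) (iv1 F116667) (iv5 F299463) (iv4 F321955) D141054
theorem F348118 : act 1 n141054 = n151305 := d15_1 (iv0 F348109) F319187 F318376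
theorem E100450 : n158839 = n111888 := (c6_4 (iv5 F348107) F348117 (iv5 D158840) D158839)
theorem F348119 : act 3 n111888 = n75788 := (sb E100450 (iv3 D158839))
theorem F348120 : act 6 n158840 = n157259 := d7_2 D157261 F348117 (iv3 D157259)
theorem F348121 : act 3 n162751 = n141091 := d8_3 F348108 F348117 F302224
theorem F348122 : act 6 n130566 = n162754 := d3_2 F348120 F247491 (iv2 F302223)
theorem F348123 : act 3 n162754 = n130569 := d7_1 F348122 (iv6 D130569) D130566
theorem F348124 : act 5 n130569 = n162753 := d6_2 D162754 F348123 (iv3 D162753)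
theorem F348125 : act 3 n158841 = n112527 := d7_3 F174984 F348119 D158841
theorem E100451 : n141091 = n117073 := ((c11_4 F348108 F247493 (iv7 F320427) D117073)).symm
theorem F348126 : act 3 n117073 = n162751 := (sb E100451 (iv3 F348121))
theorem F348127 : act 5 n117073 = n66174 := (sb E100451 (iv5 D141091))
theorem F348128 : act 7 n117073 = n157261 := (sb E100451 F348108)
theorem F348129 : act 0 n157098 = n117074 := d19_0 (iv5 D117074) D117073 F348126 (iv1 F257335) (iv5 D162979) (iv4 D78373) (iv3 F118095) (iv1 F118795) (iv5 D35685) D35684 D78272 F305742 (iv5 D55328) D55327 (iv3 F91235) F117080 (iv5 F302380) (iv4 F323606) (iv3 F316177)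
theorem F348130 : act 5 n125992 = n157098 := d21_6 F200239 F322323 (iv5 D66837) D66838 (iv1 F322333) F212934 F348129 (iv5 D117074) D117075 F320289
theorem F348131 : act 2 n151305 = n117074 := d15_3 (iv0 F348129) F316176 (iv7 F319187)
theorem F348132 : act 6 n117074 = n117678 := d3_2 D151305 F348131 (iv2 F199966)
theorem F348133 : act 7 n117074 = n152713 := d4_2 (iv7 F319187) F348131 (iv2 F318376)
theorem F348134 : act 6 n107869 = n139790 := d12_4 F212934 F348130 (iv6 D157098) (iv5 F316175) F222977
theorem F348135 : act 7 n157098 = n141054 := d13_2 (iv7 F202670) F348130 F224055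
theorem F348136 : act 0 n116078 = n125992 := d21_10 F348130 F348129 (iv5 D117074) D117075 F320289 (iv6 F318381) F318380 (iv1 F346819) (iv5 D138971) (iv6 F318397)
theorem F348137 : act 0 n125992 = n112132 := d21_1 (iv5 F348130) F339847 F314632 F312275 (iv6 F313700) (iv5 F199923) (iv1 D58440) (iv5 F316289) D116375 (iv1 F316176)
theorem E100452 : n144571 = n139790 := (c21_8 F339847 F180195 F318321 (iv6 D53949) (iv1 F41260) D31455 D67751 D144571 F222977 F212934 F348137)
theorem F348138 : act 1 n139790 = n67751 := (sb E100452 (iv0 D144571))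
theorem E100453 : n144570 = n118945 := ((c21_9 D67751 (iv1 F348138) F222977 F212934 F348137 F339848 (iv5 F322190) F130236 (iv5 F187036) (iv6 D144570) (iv1 D67750))).symm
theorem F348139 : act 6 n118945 = n67750 := (sb E100453 (iv6 D144570))
theorem F348140 : act 6 n144175 = n103756 := d10_2 F348139 (iv4 F340807) (iv4 F346762)
theorem E100454 : n144569 = n120139 := (c21_7 (iv5 D15887) (iv1 F26795) D26533 (iv6 F86776) (iv1 F187038) F348139 D144569 (iv1 D120139) F87497 (iv6 D55230) F42774)
theorem F348141 : act 5 n120139 = n67750 := (sb E100454 (iv5 D144569))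
theorem E100455 : n143798 = n142457 := (c21_11 F340837 (iv1 F331878) F348141 (iv6 F348139) (iv1 F187039) D119249 F307610 F318427 (iv5 D67353) D67354 D143798)
theorem F348142 : act 1 n142457 = n67354 := (sb E100455 (iv0 D143798))
theorem F348143 : act 2 n132647 = n120017 := d15_3 F340827 F348142 (iv7 F212935)
theorem F348144 : act 0 n141219 = n155682 := d20_7 (iv4 F313901) F49824 (iv4 F101305) (iv3 F103220) (iv1 F348142) F340826 (iv4 F340830) (iv4 F312221) (iv3 D135243) (iv1 F311453)
theorem F348145 : act 7 n141219 = n151374 := d15_2 D155682 (iv0 F348144) F238091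
theorem F348146 : act 2 n155684 = n141219 := d4_3 F348145 F238091 D155684
theorem F348147 : act 6 n141215 = n155684 := d3_0 F348146 (iv6 D141219) (iv2 F224239)
theorem F348148 : act 1 n141219 = n155681 := d15_0 (iv0 D155681) D155684 F348146
theorem F348149 : act 4 n155681 = n141398 := d18_7 (iv1 D86569) (iv4 F90298) D123018 (iv4 F331874) F340836 (iv4 F340830) F348148 F321895 F313276
theorem F348150 : act 2 n143875 = n155681 := d1_3 F348149 F321896 (iv4 F226493)
theorem F348151 : act 6 n141396 = n155681 := d10_0 F348149 (iv6 D141398) D141396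
theorem F348152 : act 7 n155682 = n143875 := d15_2 (iv0 D155681) D155682 F348150
theorem F348153 : act 3 n135242 = n155682 := d8_3 F348152 F226492 (iv7 F217430)
theorem E100456 : n141215 = n141193 := ((c10_4 F348147 F244714 (iv6 F189589) (iv4 F340844))).symm
theorem F348154 : act 2 n141193 = n66238 := (sb E100456 F224239)
theorem F348155 : act 6 n141193 = n155684 := (sb E100456 F348147)
theorem F348156 : act 7 n141193 = n66237 := (sb E100456 (iv7 D141215))
theorem F348157 : act 3 n184315 = n141193 := d8_3 F348156 (iv3 F329562) D184315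
theorem F348158 : act 4 n180476 = n184315 := d5_0 F348157 F340844 F189588 F316315 (iv3 F280899)
theorem F348159 : act 0 n180476 = n126640 := d20_7 (iv4 D66209) (iv1 F49379) (iv4 F49393) (iv3 F101829) (iv1 F224210) (iv3 F348157) (iv4 F348158) F203776 F171712 (iv1 F162112)
theorem E100457 : n165612 = n133008 := ((c21_4 F338369 (iv1 D62410) D62411 (iv6 F213663) (iv1 D165612) F302655 D180476 F348159 F338382 (iv6 D165726) (iv1 F194396))).symm
theorem F348160 : act 0 n133008 = n79546 := (sb E100457 (iv1 D165612))
theorem F348161 : act 0 n165604 = n176504 := d18_2 F348160 (iv4 F260877) (iv4 D176504) (iv5 D84158) (iv4 F129157) (iv0 F346986) F346989 (iv0 F341881) D133008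
theorem F348162 : act 3 n112723 = n133008 := d20_3 (iv4 F167739) (iv1 F82679) F175455 F348160 (iv3 D79546) (iv4 D36225) (iv1 F298423) D40287 (iv3 F325157) D51022
theorem F348163 : act 4 n113314 = n133008 := d20_6 F91979 F58308 D81776 (iv3 F325865) F82686 (iv3 F176517) F348160 (iv4 F260877) (iv3 D165604) F122171
theorem F348164 : act 7 n167937 = n165613 := d15_2 (iv0 F348160) (iv0 F341880) (iv2 D165613)
theorem F348165 : act 2 n113292 = n165611 := d15_3 (iv0 D165611) (iv0 F348160) F338315
theorem F348166 : act 4 n165611 = n113306 := d1_2 (iv4 F176506) F348165 F176513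
theorem F348167 : act 5 n165611 = n163676 := d2_2 F341892 F348165 (iv2 F341886)
theorem F348168 : act 6 n165611 = n113290 := d3_2 D113292 F348165 (iv2 D113290)
theorem F348169 : act 7 n165611 = n167935 := d4_2 F338315 F348165 (iv2 F341643)
theorem F348170 : act 1 n167937 = n165611 := d15_1 (iv0 F341880) F348169 (iv2 F341643)
theorem F348171 : act 0 n163676 = n133007 := d21_7 (iv5 F330139) (iv1 F206092) (iv5 F316546) (iv6 F319442) (iv1 F176502) (iv6 F348168) F348167 (iv5 F341918) (iv6 F262287) (iv1 F262289)
theorem F348172 : act 0 n113156 = n180476 := d21_7 F348167 F348171 (iv5 F341918) (iv6 F262287) (iv1 F262289) (iv6 F330144) D113156 (iv5 D180476) (iv6 F302655) D165611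
theorem F348173 : act 3 n173520 = n165611 := d6_3 F348167 F341887 D173520
theorem E100458 : n172561 = n111444 := ((c0_5 F348173 (iv2 F348165) F176505 F82674 (iv3 F172954) (iv2 F340662))).symm
theorem F348174 : act 1 n111444 = n82609 := (sb E100458 (iv0 D172561))
theorem F348175 : act 2 n111444 = n173520 := (sb E100458 (iv2 F340662))
theorem F348176 : act 5 n111444 = n173454 := (sb E100458 F340661)
theorem F348177 : act 6 n111442 = n173520 := d7_0 F348173 F348168 F176500
theorem F348178 : act 3 n167935 = n172562 := d8_3 F340663 F348173 F348169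
theorem F348179 : act 3 n173521 = n132964 := d6_3 (iv5 F341644) F348178 (iv5 F340664)
theorem F348180 : act 4 n172562 = n178096 := d20_6 (iv4 D33911) F28957 D36786 D80611 D167935 F348178 (iv1 D178096) (iv4 F302659) (iv3 D125287) F92634
theorem F348181 : act 6 n98961 = n173521 := d7_0 F348179 (iv6 D132964) (iv3 F317518)
theorem F348182 : act 4 n173521 = n98963 := d10_1 F348181 (iv6 D98963) D98961
theorem F348183 : act 5 n172565 = n136749 := d21_0 (iv1 D136749) (iv5 F330961) D173436 F317281 F348181 F340664 (iv1 D172562) (iv5 D82609) D82610 D172565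
theorem F348184 : act 0 n172354 = n126908 := d21_1 (iv5 F331929) F204154 (iv6 F203782) (iv1 F203783) F332386 F128658 D172565 F348183 (iv6 F219947) (iv1 F209101)
theorem F348185 : act 5 n107274 = n119512 := d21_2 F204154 F166204 F331858 (iv1 D83730) D83734 D175343 (iv1 F344918) F344919 D172354 F348184
theorem F348186 : act 6 n134671 = n126908 := d21_5 D83733 F331676 (iv5 D63276) D63277 D134671 F204154 F166204 F348185 F331858 (iv1 D83730)
theorem F348187 : act 6 n126647 = n133858 := d21_9 (iv5 D130209) (iv1 D61123) D61126 D130219 F315334 (iv6 F331858) (iv5 F348185) (iv1 F166205) D126647 (iv1 F215575)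
theorem F348188 : act 3 n119533 = n126647 := d7_3 F348187 F315442 (iv6 F188510)
theorem F348189 : act 0 n126647 = n172354 := d21_10 F331929 F209100 F329467 (iv6 D60201) F56611 D78913 (iv5 F310830) (iv1 F327903) F327905 (iv6 F348187)
theorem E100459 : n152469 = n134671 := (c14_1 (iv7 F334178) F348186 (iv7 D126908) F328286 F212005 D130341)
theorem F348190 : act 0 n134671 = n71920 := (sb E100459 (iv1 D152469))
theorem F348191 : act 7 n134671 = n130341 := (sb E100459 F334178)
theorem F348192 : act 0 n152470 = n119442 := d21_1 D152470 (iv5 D119442) (iv6 D54963) D54960 D119437 (iv5 F331900) (iv1 F203794) (iv5 F204154) (iv6 F348186) F348190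
theorem F348193 : act 3 n160493 = n152470 := d19_19 F348192 (iv5 D119442) (iv4 F188205) F188204 F199419 F331982 F206280 (iv3 D73655) (iv1 F190065) (iv5 F331927) F220311 F220307 F163698 F79670 (iv4 F93099) D125738 F341716 (iv5 F276871) (iv4 F342117)
theorem F348194 : act 7 n152470 = n174837 := d8_2 (iv7 F342126) F348193 (iv3 D174837)
theorem F348195 : act 4 n152470 = n173984 := d20_6 D83241 (iv1 F128642) F128640 (iv3 F128624) (iv1 F318839) F348193 (iv1 D173984) (iv4 D83188) F59156 D38313
theorem F348196 : act 3 n176988 = n173984 := d5_5 (iv4 F348195) (iv3 F348193) F342117 F276870 (iv4 F276354)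
theorem F348197 : act 5 n173984 = n176987 := d6_2 D176988 F348196 (iv3 D176987)
theorem F348198 : act 7 n173984 = n177460 := d8_2 F276355 F348196 (iv3 D177460)
theorem F348199 : act 2 n177460 = n173983 := d15_3 (iv0 D173983) D173984 F348198
theorem F348200 : act 4 n135424 = n176987 := d16_6 F330220 (iv5 D134673) F98495 (iv5 F48261) (iv4 F98984) D135424 (iv5 F348197) F348198 F348199
theorem E100460 : n176969 = n152061 := (c5_5 F348200 (iv3 D176987) (iv4 D84354) (iv3 F129405) D176969 F239076)
theorem F348201 : act 4 n152061 = n84346 := (sb E100460 (iv4 D176969))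
theorem F348202 : act 2 n155935 = n152061 := d1_3 F348201 F311371 D155935
theorem F348203 : act 7 n122668 = n152061 := d11_0 F348201 F311372 (iv4 F341193)
theorem F348204 : act 1 n155935 = n124318 := d15_0 (iv0 F339055) F348203 (iv2 F348202)
theorem E100461 : n159400 = n157610 := ((c18_5 D124316 F319520 (iv1 F222415) (iv4 F332517) F306906 F250997 F244923 D155935 F348204 (iv5 D124318))).symm
theorem F348205 : act 2 n157610 = n99625 := (sb E100461 F346611)
theorem F348206 : act 4 n157610 = n76250 := (sb E100461 F250997)
theorem F348207 : act 6 n157610 = n76249 := (sb E100461 (iv6 D159400))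
theorem F348208 : act 7 n157610 = n99573 := (sb E100461 (iv7 F339163))
theorem F348209 : act 3 n155935 = n177672 := d20_5 D76843 F303364 (iv4 D124323) (iv3 F198798) (iv1 F348204) F277108 (iv1 F277100) F342326 F324286 (iv1 D76842)
theorem F348210 : act 5 n155935 = n107950 := d21_8 D49861 D107956 F166824 F314867 (iv1 D57952) D57953 D124318 (iv1 F348204) (iv6 D107950) (iv1 D49859)
theorem F348211 : act 5 n153328 = n177672 := d6_2 F348210 F309877 (iv3 F348209)
theorem F348212 : act 5 n157564 = n99623 := d18_9 (iv1 D99623) D99624 F339128 D155935 F348210 F166818 F338967 (iv4 F339113) F339111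
theorem F348213 : act 6 n99623 = n143459 := d12_2 D157564 F348212 (iv5 D143459) (iv6 F321918) (iv5 F112540)
theorem F348214 : act 4 n99623 = n148031 := d16_2 (iv4 F248316) F348212 (iv5 F332514) (iv4 F332517) F306906 F348206 (iv5 F166790) (iv7 F305314) F196371
theorem F348215 : act 1 n99623 = n157610 := d17_6 F346601 (iv5 F309228) (iv1 F339129) F339131 (iv4 F248316) F348212 (iv5 F306906) F153321 D99614
theorem F348216 : act 5 n99622 = n151994 := d9_8 (iv5 F348212) F248316 (iv5 F339131) (iv4 D99624) (iv5 D46562) (iv4 F73557) D99610 (iv4 F347175) F239011 F166790 (iv4 F348206) (iv5 F306906) F332517 F332514 (iv4 F348214)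
theorem F348217 : act 7 n99610 = n118906 := d16_8 (iv4 F348214) (iv5 F348212) F248316 (iv5 F339131) (iv4 D99624) (iv5 D46562) (iv4 F73557) D99610 (iv2 F247830)

end Cfsg.Agent.Helper17.ONTC
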