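import Cfsg.Agent.Helper17.ONTC.Facts42

set_option autoImplicit false
set_option linter.all false

noncomputable section

namespace Cfsg.Agent.Helper17.ONTC

theorem E100462 : n123503 = n83795 := (c21_4 (iv5 F305309) (iv1 F107811) F107809 D123503 F310342 F308271 F306906 (iv1 F348215) (iv5 F348212) (iv6 D157564) F305307)
theorem E100463 : n175479 = n73079 := ((D175479).symm.trans (sb E100462 F197917))
theorem E100464 : n175480 = n57562 := ((D175480).symm.trans (sb E100462 F197918))
theorem E100465 : n175481 = n86567 := ((D175481).symm.trans (sb E100462 F197919))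
theorem E100466 : n175483 = n57559 := ((D175483).symm.trans (sb E100462 (iv6 D123503)))
theorem E100467 : n175484 = n73168 := ((D175484).symm.trans (sb E100462 F310349))
theorem F348218 : act 2 n73079 = n83795 := (sb E100463 (iv2 D175479))
theorem E100468 : n154242 = n83796 := ((D154242).symm.trans (sb E100463 (iv7 F274744)))
theorem F348219 : act 3 n57562 = n83795 := (sb E100464 (iv3 D175480))
theorem F348220 : act 4 n86567 = n83795 := (sb E100465 (iv4 D175481))
theorem F348221 : act 6 n57559 = n83795 := (sb E100466 (iv6 D175483))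
theorem F348222 : act 7 n73168 = n83795 := (sb E100467 (iv7 D175484))
theorem F348223 : act 2 n83796 = n73168 := (sb E100468 F310348)
theorem E100469 : n175488 = n151986 := ((D175488).symm.trans (sb E100468 F338141))
theorem F348224 : act 7 n83796 = n73079 := (sb E100468 (iv7 D154242))
theorem F348225 : act 6 n151986 = n83796 := (sb E100469 (iv6 D175488))
theorem F348226 : act 6 n175486 = n124054 := d10_2 F348225 D175486 F310014
theorem F348227 : act 0 n175487 = n152006 := d21_7 (iv5 F238958) (iv1 F238959) (iv5 D71657) D71658 D151986 F348225 D175487 (iv5 D152006) (iv6 D71667) D71663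
theorem F348228 : act 3 n102700 = n175487 := d19_19 F348227 (iv5 D152006) F108159 (iv3 F108150) F344377 D170576 F344374 F158177 F290887 (iv5 D42184) (iv4 F63433) (iv3 F63498) (iv1 F63780) F63777 F63106 (iv3 F74043) F74046 D47635 D102700
theorem F348229 : act 0 n99622 = n157610 := d21_7 D175487 F348227 (iv5 D152006) (iv6 D71667) D71663 D151994 (iv5 F348216) (iv5 F306906) (iv6 F308271) (iv1 F310343)
theorem F348230 : act 1 n175487 = n153857 := d15_1 (iv0 F348227) F241747 (iv2 F338134)
theorem F348231 : act 1 n118736 = n99610 := d17_8 F348229 (iv5 F306906) (iv1 F153320) (iv5 F346691) (iv4 D67231) D67232 F338972 (iv5 F186781) (iv4 F347175)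
theorem E100470 : n124317 = n123240 := ((c17_10 (iv1 D124317) D124318 (iv1 F348204) F348210 F166818 (iv5 F186781) F348231 (iv5 D99610) F332518 (iv4 F316528))).symm
theorem F348232 : act 0 n123240 = n57953 := (sb E100470 (iv1 D124317))
theorem E100471 : n143575 = n138743 := (c21_5 F186781 (iv1 F338972) (iv5 D67232) D67233 D143575 (iv6 D138743) (iv5 F340851) F340849 F332525 F332524 (iv1 F348231))
theorem F348233 : act 1 n138743 = n67233 := (sb E100471 (iv0 D143575))
theorem F348234 : act 0 n107963 = n123239 := d21_1 D107963 (iv5 D123239) D123240 F348232 (iv6 D57953) F44574 F34946 (iv5 F72916) D81921 (iv1 F314399)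
theorem F348235 : act 4 n175487 = n102703 := d5_2 D102700 F348228 (iv3 D102703) (iv4 D47637) (iv3 F74917)
theorem F348236 : act 5 n175485 = n102700 := d6_0 F348228 (iv5 D175487) D175485
theorem F348237 : act 0 n149162 = n175485 := d19_0 F348236 (iv4 D102700) F74917 (iv1 F74878) (iv5 F74880) F290834 (iv3 F70217) F73736 (iv5 D46660) (iv4 F66351) (iv3 F74088) F74089 F309580 (iv4 D73493) D73492 (iv1 F241368) F199529 F190742 D149162
theorem F348238 : act 0 n175486 = n117916 := d20_7 (iv4 F305184) (iv1 F190741) F190742 D149162 F348237 (iv3 D175485) D175486 F184932 F106336 (iv1 F304446)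
theorem F348239 : act 4 n175485 = n154627 := d20_0 (iv1 D154627) F109813 (iv3 D33734) F109822 (iv3 F90648) (iv4 F305184) (iv1 F190741) F190742 D149162 F348237
theorem F348240 : act 1 n153811 = n175485 := d15_0 (iv0 F348237) F234540 (iv2 F304377)
theorem F348241 : act 0 n124170 = n175486 := d20_1 (iv4 F198631) (iv4 D175486) D175485 (iv1 F348240) (iv3 D153811) (iv4 F306761) F340202 (iv4 F340200) F340199 (iv1 F314826)
theorem F348242 : act 5 n175486 = n105429 := d19_1 F348241 F161828 (iv3 F161824) F337889 (iv5 F267965) (iv4 F332127) (iv3 F332126) F332100 (iv5 F321595) (iv4 D107683) F166146 (iv1 D24271) (iv5 F19749) (iv4 F38606) (iv3 F325169) (iv1 F296371) (iv5 D57879) D57878 D124170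
theorem F348243 : act 2 n124505 = n175486 := d2_3 F348242 F161827 (iv5 F338143)
theorem F348244 : act 5 n121315 = n102703 := d16_1 (iv4 F193447) (iv4 F348235) (iv5 D175487) D175486 F348242 F161828 (iv5 F88582) D121311 F193438
theorem F348245 : act 0 n152004 = n184671 := d17_0 (iv5 F308326) (iv1 F348230) (iv5 D175487) D175486 F348242 F337886 F337874 (iv0 F332460) (iv4 F338076)
theorem F348246 : act 4 n184671 = n130897 := d18_3 D107973 (iv4 F338076) F348245 F247743 (iv4 F335467) F178946 (iv4 F317067) (iv0 F206439) F104729
theorem F348247 : act 0 n175482 = n153857 := d17_2 D83795 D175482 F308326 F348246 F247743 F183772 F308170 (iv0 F332510) F128756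
theorem F348248 : act 7 n102703 = n121314 := d13_2 D121315 F348244 (iv5 D121314)
theorem F348249 : act 7 n154241 = n175487 := d11_2 F348248 (iv4 F338147) F348235
theorem F348250 : act 7 n175486 = n123178 := d4_2 (iv7 F338145) F348243 F197415
theorem E100472 : n181290 = n124170 := ((c15_1 (iv0 F348241) (iv0 D181290) (iv7 F338145) F348243)).symm
theorem F348251 : act 1 n124170 = n86567 := (sb E100472 (iv0 D181290))
theorem E100473 : n181150 = n57562 := (c20_5 D39126 F118419 (iv4 F60986) (iv3 F132705) D181150 F348219 (iv4 F348220) (iv1 F348251) F198631 (iv3 D57884) F300025)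
theorem E100474 : n124028 = n123509 := (((D123509).symm.trans (sb E100473 (iv1 F304479)))).symm
theorem E100475 : n123510 = n86509 := ((D123510).symm.trans (sb E100473 (iv0 D181150)))
theorem F348252 : act 0 n123509 = n181151 := (sb E100474 F304478)
theorem F348253 : act 2 n123509 = n57780 := (sb E100474 (iv2 D124028))
theorem F348254 : act 4 n123509 = n130852 := (sb E100474 (iv4 F303939))
theorem F348255 : act 7 n123509 = n157409 := (sb E100474 F304480)
theorem F348256 : act 0 n86509 = n57562 := (sb E100475 (iv1 D123510))
theorem F348257 : act 3 n123507 = n133762 := d20_3 (iv4 F132706) F348256 (iv4 F197932) (iv1 F215347) F306818 (iv4 F187872) (iv1 F187875) (iv4 F307068) F114907 (iv1 F305571)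
theorem F348258 : act 7 n181151 = n123062 := d15_2 (iv0 F348256) D181151 F197236
theorem F348259 : act 2 n123512 = n181151 := d4_3 F348258 F197236 D123512
theorem E100476 : n181151 = n133672 := ((c14_6 F348258 (iv6 D123062) F90715 D57566 (iv7 F314897) D133672)).symm
theorem F348260 : act 0 n133672 = n86509 := (sb E100476 (iv1 D181151))
theorem F348261 : act 1 n133672 = n123509 := (sb E100476 (iv0 F348252))
theorem E100477 : n123914 = n123512 := (((iv2 F314890)).symm.trans (sb E100476 (iv2 F348259)))
theorem F348262 : act 7 n133672 = n123062 := (sb E100476 F348258)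
theorem F348263 : act 0 n123512 = n157409 := (sb E100477 F314888)
theorem F348264 : act 1 n123512 = n57780 := (sb E100477 F314889)
theorem F348265 : act 2 n123512 = n133672 := (sb E100477 F314890)
theorem F348266 : act 3 n123512 = n73168 := (sb E100477 F314891)
theorem F348267 : act 4 n123512 = n133758 := (sb E100477 F314892)
theorem F348268 : act 6 n123512 = n57730 := (sb E100477 (iv6 D123914))
theorem F348269 : act 7 n133758 = n123507 := d11_2 D123512 F348267 F197932
theorem F348270 : act 4 n145269 = n88943 := d20_2 F348267 F228259 F136516 F310383 F90532 F44372 (iv1 F297091) (iv4 F299027) D57780 (iv1 F348264)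
theorem F348271 : act 2 n177046 = n145269 := d1_3 F348270 F136515 (iv4 F312607)
theorem F348272 : act 0 n88943 = n124670 := d20_1 F348270 F307980 F112362 (iv1 F78757) D107889 F309651 F341001 (iv4 F315267) (iv3 F215320) F228259
theorem F348273 : act 0 n130863 = n88943 := d20_1 (iv4 F209451) (iv4 F348270) (iv3 D145269) (iv1 F307723) F307724 F305718 (iv1 F123241) F305600 D130852 F209432
theorem F348274 : act 0 n145269 = n176947 := d20_7 F304373 F233187 (iv4 F241794) (iv3 F308287) F274513 (iv3 F136516) (iv4 F348270) F276301 (iv3 F252681) F332406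
theorem F348275 : act 1 n130863 = n183394 := d15_1 (iv0 F348273) (iv7 D183394) (iv2 F136515)
theorem F348276 : act 1 n183394 = n124670 := d15_1 F348275 (iv7 F199435) F307077
theorem F348277 : act 3 n123509 = n175514 := d20_3 F307980 (iv1 F209433) (iv4 F348254) (iv1 D175514) (iv3 D83805) (iv4 F272771) (iv1 D82555) (iv4 F64077) (iv3 F136516) F348272
theorem F348278 : act 2 n175514 = n100730 := d0_1 F348277 F302304 F121800 D57780 (iv2 F348253)
theorem F348279 : act 4 n175514 = n162623 := d5_2 (iv4 F348254) F348277 F303407 F305600 D130852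
theorem F348280 : act 7 n175514 = n89106 := d8_2 (iv7 F348255) F348277 (iv3 F305577)
theorem E100478 : n181291 = n117916 := ((c20_1 (iv4 F184932) (iv1 D181291) F348220 (iv3 F348219) D123509 F348277 F348279 F303405 (iv4 F303663) (iv3 F317086) F317084)).symm
theorem F348281 : act 0 n117916 = n86567 := (sb E100478 (iv1 D181291))
theorem F348282 : act 0 n107912 = n177046 := d20_1 F215095 F312607 (iv3 F151870) F331891 F241966 F323003 (iv1 F303406) (iv4 F348279) (iv3 F348277) (iv1 F348261)
theorem E100479 : n101264 = n99593 := (c20_7 F312607 F317270 (iv4 F305579) (iv3 F307419) (iv1 F190020) F308054 (iv4 F306907) (iv1 F314380) F166779 (iv3 F166755) F348282)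
theorem F348283 : act 2 n99593 = n47223 := (sb E100479 F184693)
theorem F348284 : act 3 n99593 = n47154 := (sb E100479 (iv3 D101264))
theorem F348285 : act 4 n99593 = n131182 := (sb E100479 F306907)
theorem F348286 : act 6 n99593 = n73087 := (sb E100479 F306908)
theorem F348287 : act 7 n99593 = n57652 := (sb E100479 F306909)
theorem E100480 : n99594 = n89183 := ((c15_4 (iv0 F314379) F314380 F348287 F304958)).symm
theorem F348288 : act 0 n89183 = n46550 := (sb E100480 (iv1 D99594))
theorem F348289 : act 1 n89183 = n107921 := (sb E100480 (iv0 F314379))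
theorem F348290 : act 4 n139985 = n124932 := d18_3 (iv1 D65724) (iv4 F101435) D139985 F307714 (iv4 F304747) F348289 F166779 (iv0 F311022) F341104
theorem F348291 : act 2 n179014 = n139985 := d1_3 F348290 (iv2 F232995) (iv4 F278933)
theorem F348292 : act 6 n124930 = n139985 := d10_0 F348290 (iv6 D124932) D124930
theorem F348293 : act 0 n169822 = n181198 := d20_4 (iv4 F101435) D139985 F348290 F340752 (iv3 D181198) (iv4 F312855) F312853 (iv4 D169883) F341103 (iv1 D65724)
theorem F348294 : act 1 n169819 = n181198 := d15_0 (iv0 F348293) (iv7 F340754) F340756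
theorem F348295 : act 4 n169819 = n144430 := d20_0 (iv1 D144430) F103716 F49741 F24484 (iv3 F48974) (iv4 F100849) D138478 F312855 D181198 (iv1 F348294)
theorem F348296 : act 0 n141489 = n156719 := d21_7 (iv5 F223169) (iv1 F223168) (iv5 D65719) D65720 D139985 (iv6 F348292) F338217 (iv5 D156719) F319670 F102993
theorem F348297 : act 4 n178965 = n97235 := d17_4 F348296 (iv5 D156719) (iv1 F314658) D178965 (iv5 D97235) F332446 F332445 F224472 (iv4 F224554)
theorem F348298 : act 3 n164565 = n148789 := d20_9 (iv4 D146832) (iv1 F105025) (iv4 F105070) (iv3 F224553) F348296 (iv3 F338222) F229953 (iv1 F120251) D164565 (iv1 F243397)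
theorem F348299 : act 1 n141489 = n156726 := d15_1 (iv0 F348296) F246532 (iv2 F246519)
theorem F348300 : act 4 n156726 = n142538 := d17_9 F340098 (iv5 F331620) F259463 (iv5 F106752) (iv4 F235350) F330635 (iv0 F314740) F338217 F348299
theorem F348301 : act 1 n142538 = n151764 := d18_8 D151761 F238674 (iv1 F227797) (iv4 F323336) (iv5 F318000) (iv4 F224554) F348299 F348300 (iv5 D151764)
theorem F348302 : act 6 n142621 = n156726 := d21_9 (iv5 F338217) F314740 (iv5 F330635) (iv6 D149685) F321923 (iv6 D67200) D67199 D143462 F226203 (iv1 F348299)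
theorem E100481 : n175348 = n156726 := ((c7_1 F348302 (iv3 D175348) (iv6 F333958) F259446)).symm
theorem F348303 : act 3 n156726 = n83737 := (sb E100481 (iv3 D175348))
theorem F348304 : act 6 n138661 = n149574 := d14_3 (iv7 F225490) F348302 F246532 (iv7 F316512) (iv6 D143126)
theorem F348305 : act 6 n117618 = n178965 := d21_5 F204406 (iv1 D117615) (iv5 D54182) D54183 D117618 (iv5 D178965) F314657 D156726 (iv6 F348302) F225491
theorem E100482 : n170032 = n117618 := (c10_4 F348305 F348297 F149994 D170032)
theorem F348306 : act 4 n117618 = n81550 := (sb E100482 (iv4 D170032))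
theorem F348307 : act 6 n155504 = n156719 := d3_2 F348304 (iv2 F319413) F246519
theorem F348308 : act 5 n149574 = n141418 := d12_1 F348304 (iv6 D141418) (iv5 D66351) (iv6 F321518) D138661
theorem F348309 : act 4 n141418 = n143251 := d16_2 F314030 F348308 (iv5 D143251) F103072 D67119 (iv4 F320360) (iv5 D139763) (iv7 F311587) (iv2 F314029)
theorem F348310 : act 5 n148920 = n143130 := d16_1 F233992 F314030 F348308 F348309 (iv5 D143251) F103072 D67119 (iv7 F320361) D118827
theorem F348311 : act 0 n141418 = n148528 := d17_2 F319416 F348308 (iv5 D148528) F105888 (iv5 F317921) (iv0 F303043) F311701 (iv0 F319817) (iv4 F244524)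
theorem F348312 : act 5 n118827 = n143243 := d16_7 (iv4 F103072) D143251 (iv4 F348309) (iv5 F348308) (iv4 F314030) (iv5 F348310) (iv4 F233992) (iv7 D143243) F103070
theorem F348313 : act 3 n143243 = n153523 := d6_1 F348312 (iv5 D153523) F190264
theorem E100483 : n143269 = n62778 := (c17_4 F320351 F348312 (iv1 F226065) D143269 F97963 (iv5 F51656) D70244 (iv5 F311701) F123870 (iv4 F320354))
theorem E100484 : n133739 = n67118 := ((D133739).symm.trans (sb E100483 (iv5 D143269)))
theorem E100485 : n143267 = n72181 := ((D143267).symm.trans (sb E100484 F314122))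
theorem E100486 : n143268 = n116259 := ((D143268).symm.trans (sb E100484 (iv4 F319678)))
theorem F348314 : act 5 n67118 = n62778 := (sb E100484 (iv5 D133739))
theorem E100487 : n143261 = n116506 := ((F226081).symm.trans (sb E100484 (iv7 F322187)))
theorem F348315 : act 3 n72181 = n67118 := (sb E100485 (iv3 D143267))
theorem F348316 : act 4 n116259 = n67118 := (sb E100486 (iv4 D143268))
theorem F348317 : act 2 n116506 = n67117 := (sb E100487 (iv2 D143261))
theorem F348318 : act 7 n116506 = n67118 := (sb E100487 (iv7 F226081))
theorem E100488 : n143264 = n131108 := (c17_8 F312451 (iv5 F312455) (iv1 F314028) (iv5 F348310) (iv4 F233992) F348312 F226066 D143264 F309919 (iv4 F309784))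
theorem F348319 : act 5 n131108 = n67117 := (sb E100488 (iv5 D143264))
theorem F348320 : act 6 n143243 = n120038 := d21_9 (iv5 D105796) (iv1 F317204) D148025 (iv6 F247797) (iv1 F238087) (iv6 F189446) (iv5 F320355) F320351 F348312 F319487
theorem E100489 : n143265 = n109856 := ((c21_9 (iv5 F348312) F190271 (iv5 F186692) (iv6 D118697) F86406 D74021 (iv5 F313709) (iv1 D109854) D109856 (iv6 D143265) (iv1 F226066))).symm
theorem F348321 : act 6 n109856 = n67117 := (sb E100489 (iv6 D143265))
theorem E100490 : n143262 = n109859 := (c7_2 F348321 D143262 (iv6 D109859) (iv3 F169841))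
theorem F348322 : act 3 n109859 = n67117 := (sb E100490 (iv3 D143262))
theorem E100491 : n143266 = n143241 := (c14_3 (iv7 F169842) F348321 D143266 (iv6 F333250) (iv7 F200099) F318437)
theorem F348323 : act 2 n143241 = n67118 := (sb E100491 F226082)
theorem F348324 : act 7 n143241 = n67117 := (sb E100491 (iv7 D143266))
theorem F348325 : act 6 n144876 = n145611 := d21_9 (iv5 F313709) (iv1 D109854) D109856 F348321 (iv1 F226066) F348320 F319490 F104889 D144876 F322232
theorem F348326 : act 3 n117915 = n143241 := d8_3 F348324 (iv3 F348322) F309251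
theorem F348327 : act 5 n133709 = n143241 := d13_3 F348324 (iv5 F348319) (iv7 F215201)
theorem F348328 : act 0 n155351 = n133709 := d17_0 F348327 (iv1 D143241) F320543 (iv4 F191321) F311699 (iv0 F314021) D76663 F233102 F314403
theorem F348329 : act 4 n143241 = n167923 := d18_5 (iv1 F191306) (iv4 F194657) F309480 (iv4 F215200) F348327 (iv0 D167923) (iv4 D80604) D80603 F191355
theorem F348330 : act 0 n133709 = n119799 := d21_1 (iv5 F348327) F232646 (iv6 D85402) (iv1 F92237) (iv6 F321485) (iv5 D105766) (iv1 F114842) (iv5 F326865) F319171 (iv1 F226061)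
theorem F348331 : act 1 n116330 = n143238 := d18_6 F348330 F330111 (iv1 F312139) (iv4 D149917) F319693 D116330 F226059 D143241 (iv5 F348327)
theorem F348332 : act 1 n143238 = n116335 := d15_1 F348331 F319703 (iv2 F319691)
theorem F348333 : act 1 n116335 = n143252 := d15_1 F348332 (iv7 D143252) (iv2 F226057)
theorem F348334 : act 1 n143252 = n116330 := d15_1 F348333 F319692 (iv2 F319702)
theorem E100492 : n143263 = n116258 := ((c11_3 (iv7 F348324) F348329 (iv7 F319675) (iv4 D143263))).symm
theorem F348335 : act 4 n116258 = n67117 := (sb E100492 (iv4 D143263))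
theorem F348336 : act 4 n109856 = n171128 := d10_3 (iv6 F334427) F348335 (iv6 F348321)
theorem E100493 : n126999 = n110033 := ((c20_1 (iv4 F336256) F324680 (iv4 F325779) (iv3 D53625) (iv1 D25961) (iv3 F41025) (iv4 F84543) D116258 F348335 (iv3 F348322) F309249)).symm
theorem F348337 : act 0 n110033 = n77716 := (sb E100493 F324680)
theorem F348338 : act 1 n110033 = n77469 := (sb E100493 F324681)
theorem F348339 : act 2 n110033 = n77713 := (sb E100493 F324682)
theorem F348340 : act 5 n110033 = n62160 := (sb E100493 F324683)
theorem F348341 : act 7 n110033 = n59601 := (sb E100493 (iv7 D126999))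
theorem E100494 : n142137 = n142012 := (c20_2 D66650 (iv1 F225165) F225050 F322133 (iv1 F309250) F348322 (iv4 F348335) F319673 (iv4 D167913) (iv3 F188339) (iv1 F319290))
theorem F348342 : act 0 n142012 = n66645 := (sb E100494 (iv1 D142137))
theorem F348343 : act 1 n142012 = n66650 := (sb E100494 F225165)
theorem F348344 : act 7 n142012 = n153610 := d15_2 (iv0 D142136) (iv0 F348342) (iv2 F322946)
theorem E100495 : n116656 = n115646 := (c20_1 D116656 (iv1 D115646) (iv4 F180008) F319617 F155425 F311462 F324265 (iv1 F348338) F336256 F187567 F320926)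
theorem F348345 : act 2 n115646 = n66738 := (sb E100495 F322302)
theorem F348346 : act 4 n115646 = n53748 := (sb E100495 (iv4 D116656))
theorem F348347 : act 6 n152788 = n115646 := d10_0 F348346 (iv6 F322175) D152788
theorem F348348 : act 7 n152712 = n115646 := d11_0 F348346 (iv7 F322176) D152712
theorem F348349 : act 1 n152769 = n115647 := d17_6 (iv1 D53748) (iv5 F320464) (iv1 F52438) (iv5 F52510) (iv4 F108544) (iv5 F239978) (iv5 D115647) D115646 F348346
theorem F348350 : act 1 n142323 = n152712 := d15_1 D142323 F348348 F348345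
theorem E100496 : n115645 = n115527 := ((c15_4 (iv0 D115645) D115646 (iv7 F348348) (iv2 F318567))).symm
theorem F348351 : act 1 n115527 = n53336 := (sb E100496 (iv0 D115645))
theorem F348352 : act 5 n152766 = n142323 := d17_7 (iv1 F108523) (iv5 D33278) (iv1 D16065) D16066 D33282 D72086 D152766 F348350 (iv4 D152712)
theorem F348353 : act 4 n152681 = n142323 := d18_5 (iv1 F52440) (iv4 F304772) F304769 D72023 D152681 F348350 (iv4 D152712) (iv0 D72048) (iv5 D33273)
theorem F348354 : act 0 n142249 = n105632 := d20_1 D142249 F162233 F103031 (iv1 F320547) F320539 D152712 (iv1 F348350) (iv4 F348353) F239899 F319630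
theorem F348355 : act 1 n142249 = n179940 := d15_1 (iv0 F348354) (iv7 F323262) F224403
theorem F348356 : act 7 n142249 = n179892 := d15_2 (iv0 F322290) (iv0 F348354) F280157
theorem F348357 : act 0 n127206 = n124833 := d20_7 (iv4 F280254) (iv1 F348355) (iv4 D142249) F321622 (iv1 D59726) (iv3 F94107) (iv4 F204484) (iv4 D124833) (iv3 F200488) (iv1 F241290)
theorem E100497 : n145472 = n140589 := ((c21_9 D68215 (iv1 F204482) (iv5 D127205) D127206 F348357 F342503 (iv5 D65977) D65975 D140589 (iv6 D145472) (iv1 D68213))).symm
theorem F348358 : act 6 n140589 = n68213 := (sb E100497 (iv6 D145472))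
theorem F348359 : act 1 n127206 = n142789 := d15_1 (iv0 F348357) F322376 (iv2 F322362)
theorem E100498 : n142323 = n115648 := (c11_2 F319619 F348353 (iv7 D115648) (iv4 F180008))
theorem F348360 : act 0 n115648 = n66738 := (sb E100498 (iv1 D142323))
theorem F348361 : act 1 n115648 = n152712 := (sb E100498 F348350)
theorem F348362 : act 4 n115648 = n152681 := (sb E100498 (iv4 F348353))
theorem F348363 : act 5 n115648 = n152766 := (sb E100498 (iv5 F348352))
theorem F348364 : act 7 n152766 = n115647 := d13_2 D115648 F348363 (iv5 D115647)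
theorem F348365 : act 2 n115647 = n152765 := d15_3 (iv0 D152765) D152766 F348364
theorem F348366 : act 5 n152765 = n115634 := d2_2 D115647 F348365 F179995
theorem F348367 : act 4 n115634 = n152665 := d17_4 (iv1 D72084) D72086 D152765 F348366 (iv5 D152665) F191319 D105903 F239963 (iv4 D152757)
theorem F348368 : act 3 n152665 = n142130 := d19_3 D152765 F348366 F348367 (iv1 D142130) (iv5 F322945) F128790 (iv3 F128789) F335280 D180303 (iv4 F347483) (iv3 F347484) F326024 (iv5 F325912) F148071 F134636 (iv1 F74618) D102081 F346029 F322252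
theorem E100499 : n142130 = n142002 := (c0_1 F348368 F225029 F162328 (iv2 F317348) (iv3 F319617) F319616)
theorem F348369 : act 0 n142002 = n66644 := (sb E100499 (iv1 D142130))
theorem F348370 : act 3 n142002 = n152665 := (sb E100499 (iv3 F348368))
theorem F348371 : act 5 n142002 = n119228 := d6_2 D152665 (iv3 F348370) (iv3 F187614)
theorem F348372 : act 6 n115626 = n152665 := d7_0 (iv3 F348370) (iv6 D142002) F179985
theorem E100500 : n142322 = n115634 := (c20_2 (iv4 F102613) D142322 F348367 (iv3 F348370) F348369 (iv3 D66644) D66645 D142136 F322947 F108527 (iv1 F322304))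
theorem F348373 : act 1 n115634 = n66738 := (sb E100500 (iv0 D142322))
theorem F348374 : act 1 n152712 = n115634 := d15_0 F348373 (iv7 F179812) F318567
theorem F348375 : act 0 n138543 = n107981 := d21_7 (iv5 D148996) F188318 (iv5 F348371) (iv6 D142002) (iv1 D66590) (iv6 F321300) (iv5 F222373) (iv5 F314452) (iv6 F185774) F234192
theorem F348376 : act 2 n138729 = n152788 := d3_3 F348347 F348345 (iv6 F221881)
theorem E100501 : n119535 = n115244 := (c20_2 D54990 D119535 F179482 (iv3 F170164) F348337 F324665 (iv4 D105678) F166073 (iv4 F93792) F336272 (iv1 D54989))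
theorem F348377 : act 1 n115244 = n54990 := (sb E100501 (iv0 D119535))
theorem E100502 : n119536 = n115515 := (c15_2 F348377 D119536 (iv7 D115515) (iv2 F179481))
theorem F348378 : act 0 n115515 = n54990 := (sb E100502 (iv1 D119536))
theorem F348379 : act 7 n171128 = n141050 := d11_2 (iv7 F169842) F348336 (iv4 D141050)
theorem F348380 : act 3 n141050 = n104133 := d8_1 F348379 F307389 (iv3 F268862)
theorem F348381 : act 5 n141050 = n99292 := d13_1 F348379 F307386 D171128
theorem F348382 : act 2 n171133 = n141050 := d2_3 F348381 F307385 D171133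
theorem F348383 : act 6 n148650 = n141050 := d21_5 (iv5 F328863) (iv1 F329246) F329247 D118332 F233408 F348381 (iv1 D99292) D99293 F152880 (iv1 F328485)
theorem E100503 : n177379 = n110472 := ((c19_11 (iv1 F152877) (iv5 F348381) (iv4 D141050) F101773 D66152 F101776 F94154 (iv3 F168079) F170881 (iv5 D110473) D110472 F276758 (iv1 F276729) F276730 (iv4 F129663) (iv3 F326970) F326967 F151402 F72410 (iv3 F126443))).symm
theorem F348384 : act 3 n110472 = n84509 := (sb E100503 F276758)
theorem F348385 : act 5 n110472 = n84508 := (sb E100503 (iv5 D177379))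
theorem F348386 : act 0 n148650 = n138617 := d21_4 (iv5 F328066) (iv1 F152877) (iv5 F348381) (iv6 F348383) (iv6 D138617) D138616 (iv1 F246479) (iv5 D138306) (iv6 F320764) (iv1 D115960)
theorem F348387 : act 5 n177378 = n125595 := d2_2 F348385 D177378 F202038
theorem F348388 : act 5 n176997 = n125596 := d13_3 F202044 F348385 (iv7 F276380)
theorem E100504 : n177376 = n113363 := (c17_3 F201877 F348385 D177376 (iv5 D113363) (iv4 D52324) D52325 F176153 F176151 F173786 (iv4 F201874))
theorem F348389 : act 1 n113363 = n84508 := (sb E100504 (iv0 D177376))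
theorem E100505 : n177377 = n113367 := (c17_7 (iv1 F77453) D59145 F170881 (iv5 D110473) D110472 F348385 D177377 (iv5 D113367) F168361 F161168)
theorem F348390 : act 0 n113367 = n84508 := (sb E100505 (iv1 D177377))
theorem E100506 : n177355 = n128787 := (c18_2 F348390 (iv4 F276742) (iv1 D128787) (iv4 F95268) F327965 (iv4 D59140) (iv0 D28093) (iv4 F40204) (iv0 F168360) D113367)
theorem F348391 : act 3 n128787 = n84492 := (sb E100506 (iv3 D177355))
theorem F348392 : act 4 n128787 = n84508 := (sb E100506 F276742)
theorem F348393 : act 6 n125588 = n128787 := d10_0 F348392 (iv6 F325289) (iv4 F202018)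
theorem F348394 : act 1 n129047 = n112688 := d17_6 (iv1 F348389) (iv5 D113363) F161172 (iv5 F332899) (iv4 F202896) (iv5 F343934) F329196 D128787 F348392
theorem F348395 : act 2 n128787 = n125590 := d3_1 F348393 (iv6 D125590) D125588
theorem E100507 : n177378 = n107525 := ((c1_3 (iv4 F348392) F348395 F202021 (iv2 D177378))).symm
theorem F348396 : act 2 n107525 = n84508 := (sb E100507 (iv2 D177378))
theorem F348397 : act 5 n107525 = n125595 := (sb E100507 F348387)
theorem F348398 : act 3 n125595 = n107526 := d6_1 F348397 (iv5 D107526) D107525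
theorem E100508 : n128732 = n107525 := (c17_7 D64449 (iv5 F176220) (iv1 F176222) (iv5 D105214) D105213 F332761 D128732 F348397 (iv0 F202041) F92984)
theorem F348399 : act 0 n107525 = n60538 := (sb E100508 (iv1 D128732))
theorem F348400 : act 0 n106215 = n107531 := d21_1 D106215 (iv5 D107531) (iv6 F165894) F348399 (iv6 D60538) (iv5 D28748) D28745 D60527 (iv6 F343595) (iv1 F163215)
theorem F348401 : act 0 n160995 = n106216 := d21_4 (iv5 F332761) F161150 F331155 F299387 (iv6 D106216) D106215 F348400 (iv5 D107531) (iv6 F165894) F348399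
theorem F348402 : act 5 n106216 = n106851 := d21_0 (iv1 D106851) (iv5 F164626) (iv6 D106817) F78027 D60538 (iv5 F332761) F161150 F331155 F299387 F348401
theorem F348403 : act 1 n125589 = n125560 := d17_6 (iv1 F163215) D106215 F348400 (iv5 D107531) (iv4 F92966) D125589 (iv5 D125560) F201968 F201966
theorem F348404 : act 0 n125590 = n128595 := d21_4 D125560 (iv1 F348403) (iv5 D125589) D125590 (iv6 D128595) (iv5 D60481) (iv1 F95050) (iv5 F95209) (iv6 F343589) (iv1 F201968)
theorem F348405 : act 1 n125590 = n128789 := d15_1 (iv0 F348404) (iv7 D128789) (iv2 F206838)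
theorem F348406 : act 3 n110470 = n160487 := d20_9 (iv4 D121025) (iv1 F88300) D78279 (iv3 F330148) (iv1 F165896) (iv3 F348398) (iv4 D125595) (iv1 F92978) (iv4 F170875) (iv1 F300176)
theorem F348407 : act 3 n166606 = n126214 := d6_3 F202982 F348406 F330164
theorem F348408 : act 3 n125593 = n162954 := d20_5 (iv4 D76944) D76942 D160487 (iv3 F348406) (iv1 F202029) (iv4 D162954) (iv1 D78350) (iv4 F119523) (iv3 D78313) F299826
theorem E100509 : n162953 = n110376 := (c5_4 (iv4 F202031) F348408 (iv4 D162954) D162953 F170728 F168799)
theorem F348409 : act 3 n110376 = n78350 := (sb E100509 (iv3 D162953))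
theorem F348410 : act 3 n162947 = n112733 := d8_3 (iv7 F175491) F348409 F257320
theorem E100510 : n162947 = n121036 := (c20_4 F80320 D107133 (iv4 F175489) (iv3 F348410) (iv1 D121036) (iv3 D55831) (iv4 D26937) D26935 D55829 F319902 F170743)
theorem F348411 : act 2 n121036 = n78349 := (sb E100510 (iv2 D162947))
theorem F348412 : act 3 n121036 = n112733 := (sb E100510 F348410)
theorem F348413 : act 7 n121036 = n78350 := (sb E100510 (iv7 F257320))
theorem E100511 : n163533 = n121036 := (c14_6 F348413 D162956 F341879 (iv6 F337590) F337591 D163533)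
theorem F348414 : act 5 n121036 = n163046 := (sb E100511 F338379)
theorem F348415 : act 6 n121036 = n78581 := (sb E100511 (iv6 D163533))
theorem E100512 : n162952 = n121035 := (c15_4 (iv0 D121035) D121036 F348413 (iv2 F257321))
theorem F348416 : act 2 n121035 = n78350 := (sb E100512 F257321)
theorem F348417 : act 7 n121035 = n78349 := (sb E100512 (iv7 D162952))
theorem F348418 : act 7 n163046 = n162955 := d13_2 (iv7 F348413) F348414 (iv5 D162955)
theorem F348419 : act 2 n162955 = n128291 := d15_3 F341636 D163046 F348418
theorem F348420 : act 6 n128073 = n162955 := d3_0 F348419 (iv6 D128291) (iv2 F206102)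
theorem F348421 : act 7 n162950 = n128291 := d13_2 F348417 D162950 F341634
theorem F348422 : act 2 n163046 = n162950 := d4_3 F348421 (iv2 F348419) (iv7 F348418)
theorem E100513 : n177562 = n162955 := ((c15_4 F277010 (iv0 F345640) F348421 (iv2 F348419))).symm
theorem F348423 : act 0 n162955 = n84583 := (sb E100513 (iv1 D177562))
theorem F348424 : act 1 n162955 = n163043 := (sb E100513 F277010)
theorem F348425 : act 6 n163530 = n112733 := d7_2 F348415 D163530 (iv3 F348412)
theorem F348426 : act 5 n147692 = n133065 := d21_6 (iv5 F129783) (iv1 F341640) (iv5 D177549) (iv6 F338325) (iv1 F202947) D147692 (iv1 F342746) (iv5 D163532) (iv6 F348415) (iv1 D121036)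
theorem F348427 : act 2 n161314 = n147692 := d2_3 F348426 F312340 D161314
theorem F348428 : act 0 n163670 = n147692 := d21_10 F348426 (iv1 F342746) (iv5 D163532) (iv6 F348415) (iv1 D121036) (iv6 F123947) (iv5 F318580) (iv1 F315281) F341884 D163670
theorem F348429 : act 5 n174379 = n167588 := d17_3 F155162 D83355 D174379 (iv4 F312341) (iv5 F348426) (iv0 F348428) F341922 (iv0 F310246) F59676
theorem F348430 : act 0 n147692 = n176441 := d21_1 (iv5 F348426) (iv5 D176441) (iv6 F345658) (iv1 D174281) (iv6 D83302) (iv5 F86919) (iv1 F86921) (iv5 F59370) D79031 (iv1 F312339)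
theorem F348431 : act 2 n128191 = n174379 := d2_3 F348429 (iv2 D167588) (iv5 F336902)
theorem F348432 : act 7 n167588 = n134642 := d16_8 (iv4 F300965) (iv5 F303678) F347322 (iv5 F336396) F347326 (iv5 F345949) (iv4 F347344) F348429 F342735
theorem F348433 : act 0 n167588 = n157069 := d17_2 D174379 F348429 F247168 (iv4 D134132) (iv5 D63005) D63003 (iv5 F336386) F198104 F347340
theorem F348434 : act 7 n174379 = n124713 := d13_2 (iv7 F348432) (iv5 F348429) (iv5 F342736)
theorem F348435 : act 0 n160709 = n167588 := d21_10 (iv5 F348429) (iv1 F273224) (iv5 D84148) (iv6 F155179) F184759 F298711 (iv5 F115835) F307674 F305671 D160709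
theorem E100514 : n173867 = n149037 := ((c20_11 F272515 F348435 (iv4 F312341) (iv3 D133065) (iv1 D62436) F47331 F46922 (iv1 F27206) D32462 D69904 D149037)).symm
theorem F348436 : act 2 n149037 = n131465 := (sb E100514 (iv2 F343509))
theorem F348437 : act 4 n149037 = n160709 := (sb E100514 F272515)
theorem F348438 : act 6 n149037 = n83148 := (sb E100514 (iv6 D173867))
theorem F348439 : act 3 n172299 = n149037 := d20_5 (iv4 D29517) D29515 D62427 (iv3 F323426) (iv1 F275041) F348437 F348435 (iv4 F312341) (iv3 D133065) (iv1 D62436)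
theorem E100515 : n160709 = n158802 := (c15_1 (iv0 F348435) (iv0 D158802) (iv7 F298797) D167588)
theorem F348440 : act 0 n158802 = n167588 := (sb E100515 F348435)
theorem F348441 : act 2 n158802 = n82744 := (sb E100515 F298851)
theorem F348442 : act 3 n158802 = n153208 := (sb E100515 F253856)
theorem F348443 : act 4 n158802 = n149037 := (sb E100515 (iv4 F348437))
theorem F348444 : act 5 n158802 = n173696 := (sb E100515 F298852)
theorem F348445 : act 6 n158802 = n77106 := (sb E100515 (iv6 D160709))
theorem F348446 : act 7 n158802 = n167586 := (sb E100515 F298853)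
theorem F348447 : act 0 n174034 = n176472 := d17_2 F317093 D174034 (iv5 D176472) (iv4 D84147) D84148 F273224 F348429 (iv0 F348440) F348443
theorem F348448 : act 7 n131464 = n149037 := d11_2 F348446 F339654 (iv4 F348443)
theorem F348449 : act 3 n174478 = n131464 := d8_3 F348448 (iv3 F348439) (iv7 F273364)
theorem F348450 : act 2 n131464 = n149038 := d15_3 F317094 (iv0 F317093) (iv7 F348448)
theorem F348451 : act 7 n149038 = n131465 := d4_2 (iv7 F348448) F348450 (iv2 F348436)
theorem F348452 : act 3 n166905 = n149038 := d8_3 F348451 F343510 D166905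
theorem E100516 : n158803 = n157069 := ((c20_7 F28677 D17627 D36524 D80188 (iv1 F304287) F348452 (iv4 F247160) (iv1 D158803) (iv4 F300965) (iv3 D80181) (iv1 D36519))).symm
theorem F348453 : act 0 n157069 = n75764 := (sb E100516 (iv1 D158803))
theorem F348454 : act 1 n128960 = n149040 := d17_6 F348453 (iv5 F317250) (iv1 F319547) (iv5 D83355) (iv4 F113291) (iv5 F318045) (iv5 D149040) D149038 (iv4 F247160)
theorem F348455 : act 1 n95394 = n176475 := d17_8 (iv1 F315800) (iv5 F247168) F348453 (iv5 F317250) F94820 D72870 (iv0 F345945) (iv5 F147024) (iv4 D176475)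
theorem F348456 : act 6 n182453 = n134132 := d21_5 (iv5 D32788) D32787 (iv5 F90854) (iv6 F309575) (iv1 F292467) (iv5 F247168) F348453 (iv5 F317250) (iv6 D60264) (iv1 F51907)
theorem F348457 : act 3 n178638 = n182453 := d7_3 F348456 F315802 D178638
theorem E100517 : n178638 = n121736 := ((c6_1 D121736 F348457 F283991 F327259)).symm
theorem F348458 : act 3 n121736 = n182453 := (sb E100517 F348457)
theorem F348459 : act 6 n121736 = n85085 := (sb E100517 (iv6 D178638))
theorem F348460 : act 7 n112579 = n121736 := d14_0 F348459 F275803 F347935 (iv7 F233677) (iv6 F347911)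
theorem F348461 : act 5 n180608 = n110588 := d21_0 (iv1 D110588) (iv5 F328010) (iv6 D85132) (iv1 F130429) (iv6 F348459) (iv5 D121736) (iv1 D56252) D56254 (iv6 F132222) D180608
theorem E100518 : n174137 = n110588 := ((c21_9 (iv5 D119372) D119371 F330710 (iv6 D78680) F248740 D39920 D86266 D180608 F348461 (iv6 D174137) F188034)).symm
theorem F348462 : act 3 n110588 = n83246 := (sb E100518 F272936)
theorem E100519 : n180608 = n160648 := (((iv5 F348461)).symm.trans (sb E100518 (iv5 F298813)))
theorem F348463 : act 6 n110588 = n83244 := (sb E100518 (iv6 D174137))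
theorem F348464 : act 1 n160648 = n86266 := (sb E100519 (iv0 D180608))
theorem F348465 : act 5 n160648 = n110588 := (sb E100519 F348461)
theorem E100520 : n131471 = n86265 := (c21_10 D86266 (iv1 F348464) F348465 F348463 F188034 F330835 (iv5 F330834) (iv1 D61700) D61702 D131471 (iv1 D86265))
theorem E100521 : n180605 = n131522 := ((D180605).symm.trans (sb E100520 (iv4 F210785)))
theorem E100522 : n180607 = n61702 := ((D180607).symm.trans (sb E100520 (iv6 D131471)))
theorem F348466 : act 4 n131522 = n86265 := (sb E100521 (iv4 D180605))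
theorem F348467 : act 6 n61702 = n86265 := (sb E100522 (iv6 D180607))
theorem F348468 : act 0 n160648 = n109896 := d21_1 (iv5 F348465) F169908 (iv6 F323599) (iv1 F193123) (iv6 F333779) (iv5 F324967) (iv1 F213040) F323625 D78710 (iv1 F325154)
theorem F348469 : act 0 n121095 = n162792 := d21_1 D121095 (iv5 D162792) F119452 (iv1 F318085) (iv6 F348463) (iv5 F348465) F348468 F169908 (iv6 F323599) (iv1 F193123)
theorem F348470 : act 6 n154334 = n163838 := d21_5 F248329 (iv1 F119231) F94524 D73119 D154334 (iv5 D163838) (iv1 F325154) (iv5 F348465) (iv6 D160648) (iv1 F248327)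
theorem E100523 : n154334 = n129736 := ((c7_4 F348470 F258287 (iv6 F320717) (iv3 F207924))).symm
theorem F348471 : act 1 n129736 = n73119 := (sb E100523 (iv0 D154334))
theorem F348472 : act 6 n129736 = n163838 := (sb E100523 F348470)
theorem F348473 : act 7 n163838 = n178565 := d14_2 D129736 F348472 (iv6 D178565) F130391 (iv6 F313370)
theorem F348474 : act 2 n109566 = n163838 := d4_3 F348473 F278294 (iv7 F328398)
theorem F348475 : act 3 n178565 = n110638 := d8_1 F348473 (iv7 F323589) (iv3 F258287)
theorem F348476 : act 5 n178565 = n110589 := d13_1 F348473 (iv7 F323893) D163838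
theorem F348477 : act 1 n178693 = n163838 := d15_1 D178693 F348473 F278294
theorem F348478 : act 4 n178693 = n164573 := d20_0 (iv1 D164573) F120260 (iv3 D68985) (iv1 F94350) F320737 F113841 D75949 F320522 (iv3 F258287) (iv1 F348477)
theorem F348479 : act 3 n178691 = n102511 := d20_3 (iv4 F348478) (iv1 D178693) (iv4 F278511) F324386 (iv3 D67078) (iv4 D31226) D31224 D67068 D143124 (iv1 F259449)
theorem F348480 : act 6 n102511 = n178690 := d7_2 D178691 F348479 (iv3 D178690)
theorem F348481 : act 4 n178692 = n134183 := d20_8 (iv4 F342801) (iv1 F216085) (iv4 F343200) F157408 D102511 (iv3 F348479) F278511 D178692 F216223 (iv1 F341471)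
theorem E100524 : n178692 = n159059 := ((c10_1 D159059 F348481 (iv6 D134183) F331622)).symm
theorem F348482 : act 1 n159059 = n85132 := (sb E100524 (iv0 D178692))
theorem F348483 : act 4 n159059 = n134183 := (sb E100524 F348481)
theorem F348484 : act 1 n163838 = n159059 := d15_0 F348482 (iv7 F328398) F348474
theorem E100525 : n178905 = n159058 := ((c21_7 (iv5 D85073) (iv1 F60313) D39364 D85132 (iv1 F348482) (iv6 D159059) D159058 (iv1 D178905) D178907 F336910 F316070)).symm
theorem F348485 : act 0 n159058 = n85305 := (sb E100525 (iv1 D178905))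
theorem F348486 : act 5 n126347 = n159059 := d21_0 (iv1 F348484) (iv5 D163838) (iv6 D78710) F330781 (iv6 D78701) F325695 (iv1 F325688) (iv5 F60732) F324588 D126347
theorem F348487 : act 6 n125993 = n126347 := d21_5 (iv5 F330785) (iv1 F345863) F345866 F325140 D125993 F348486 (iv1 F348484) (iv5 D163838) (iv6 D78710) F330781
theorem F348488 : act 6 n126196 = n125801 := d7_2 F348487 F203162 (iv3 F202671)
theorem F348489 : act 5 n125993 = n163191 := d21_6 F325695 (iv1 F325688) (iv5 F60732) F324588 D126347 (iv6 F348487) (iv1 D163191) F119628 (iv6 D35841) D35838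
theorem F348490 : act 6 n163191 = n159058 := d12_2 (iv6 F348487) F348489 (iv5 D159058) D159059 (iv5 F348486)
theorem F348491 : act 5 n178908 = n157036 := d21_6 (iv5 D125995) D125993 F348489 F348490 F348485 D178908 F315968 (iv5 D178519) D178520 F342291
theorem F348492 : act 0 n112712 = n163191 := d21_7 (iv5 F281116) (iv1 F281117) (iv5 D166484) (iv6 D79917) D79912 F326496 D112712 (iv5 F348489) F348487 F321901
theorem F348493 : act 2 n157082 = n178908 := d2_3 F348491 F247128 D157082
theorem F348494 : act 0 n119340 = n178908 := d17_2 (iv1 F86869) D119340 F348491 F247130 F112085 (iv0 F313430) (iv5 D54930) F42546 (iv4 F60284)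
theorem F348495 : act 0 n178908 = n119337 := d21_1 (iv5 F348491) (iv5 D119337) D119338 F303645 (iv6 D55029) D55028 (iv1 F188549) (iv5 F317292) F317293 (iv1 F315969)
theorem F348496 : act 6 n178904 = n178492 := d21_5 D178514 (iv1 F315969) (iv5 F348491) (iv6 D178908) D178904 (iv5 D178492) (iv1 D84940) D84941 F130194 D84953
theorem E100526 : n178904 = n159053 := (c21_11 (iv5 D159053) (iv1 F200964) (iv5 D125094) F92368 (iv1 F106023) (iv6 F347858) D178514 (iv1 F315969) (iv5 F348491) (iv6 D178908) D178904)
theorem F348497 : act 1 n159053 = n85305 := (sb E100526 (iv0 D178904))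
theorem F348498 : act 6 n159053 = n178492 := (sb E100526 F348496)
theorem F348499 : act 3 n136347 = n159053 := d7_3 F348498 (iv3 F337651) F337653
theorem F348500 : act 5 n178493 = n159054 := d12_3 F348498 (iv5 D178492) D178493 (iv6 D159054) D159053
theorem E100527 : n161658 = n159054 := (c21_2 D77642 D161658 (iv5 F348500) (iv6 D178493) (iv1 D84940) (iv6 D39295) (iv5 D18643) (iv1 F29911) (iv5 F56161) F319559 (iv1 D77641))
theorem F348501 : act 1 n159054 = n77642 := (sb E100527 (iv0 D161658))
theorem F348502 : act 3 n159054 = n82759 := (sb E100527 F274723)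
theorem E100528 : n161908 = n161636 := (c21_2 D84941 (iv1 F305460) (iv5 D161636) (iv6 D77633) (iv1 D35447) D35451 D77642 (iv1 F348501) (iv5 F348500) (iv6 D178493) (iv1 D84940))
theorem F348503 : act 0 n161636 = n77759 := (sb E100528 (iv1 D161908))
theorem F348504 : act 1 n161636 = n84941 := (sb E100528 F305460)
theorem E100529 : n178508 = n132445 := ((c21_5 (iv5 D161636) (iv1 F311869) F325025 F323779 F337580 (iv6 D178508) (iv5 D84951) (iv1 D39297) D39298 (iv6 F130194) (iv1 F348504))).symm
theorem F348505 : act 6 n132445 = n84951 := (sb E100529 (iv6 D178508))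
theorem F348506 : act 6 n119340 = n129322 := d3_2 F348505 (iv2 F187930) (iv2 F212519)
theorem F348507 : act 3 n129322 = n174443 := d7_1 F348506 (iv6 D174443) F188771
theorem F348508 : act 5 n174443 = n129314 := d6_2 D129322 F348507 F207507
theorem F348509 : act 3 n172866 = n178493 := d6_3 F348500 F348502 D172866
theorem E100530 : n172867 = n159051 := (c7_3 D159054 F348502 D172867 (iv3 D159051))
theorem F348510 : act 0 n159051 = n83906 := (sb E100530 F346459)
theorem F348511 : act 4 n159051 = n176481 := (sb E100530 F346460)
theorem F348512 : act 5 n159051 = n136347 := (sb E100530 F337654)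
theorem F348513 : act 6 n159051 = n82759 := (sb E100530 (iv6 D172867))
theorem E100531 : n176481 = n172164 := ((c10_3 F348513 F303450 D172164 (iv4 F348511))).symm
theorem F348514 : act 3 n172164 = n84152 := (sb E100531 (iv3 D176481))
theorem F348515 : act 4 n172164 = n159051 := (sb E100531 (iv4 F348511))
theorem F348516 : act 3 n159052 = n89248 := d5_3 F348515 (iv3 D159051) D159052 F339652 (iv3 F348514)
theorem F348517 : act 1 n181803 = n172164 := d17_8 F348510 (iv5 F323563) D107711 (iv5 F344860) F342669 (iv5 F342670) F273221 (iv5 F344827) F348515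
theorem F348518 : act 2 n134025 = n159052 := d0_5 F348516 F329134 F98318 (iv2 F98230) (iv3 F215989)
theorem F348519 : act 5 n134024 = n159052 := d6_0 F348516 F329135 (iv3 F215985)
theorem F348520 : act 6 n89246 = n159052 := d7_0 F348516 (iv6 D89248) D89246
theorem F348521 : act 0 n159052 = n134181 := d20_4 (iv4 D84154) D84152 (iv4 F339652) (iv3 F348516) (iv3 F331621) (iv4 D117478) (iv1 D54134) (iv4 F85442) (iv3 F183978) F339702
theorem F348522 : act 4 n134181 = n147292 := d20_2 D159052 F348521 (iv3 D147292) F323951 (iv3 D75947) (iv4 D34707) (iv1 D16806) D16807 D34711 D75956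
theorem F348523 : act 7 n159052 = n134178 := d15_2 D134181 (iv0 F348521) F216221
theorem F348524 : act 4 n134178 = n159055 := d11_1 F348523 (iv7 D159055) D159052
theorem F348525 : act 4 n159054 = n89246 := d10_3 F348520 (iv4 D159052) D159054
theorem F348526 : act 0 n123814 = n89246 := d21_4 (iv5 D55363) D55360 F90885 D123814 F348520 (iv5 F348519) (iv1 F215988) (iv5 F338487) (iv6 D123089) (iv1 F113276)
theorem F348527 : act 4 n178493 = n131428 := d18_5 (iv1 F339757) (iv4 F334556) F348526 (iv4 F348525) (iv5 F348500) F210656 D131478 F335004 D131514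
theorem E100532 : n155459 = n114058 := (c20_7 (iv4 F334556) F348526 (iv4 F348525) F348502 (iv1 F244453) F244450 D155459 (iv1 F177563) (iv4 F335516) F339752 (iv1 F339757))
theorem F348528 : act 4 n114058 = n73935 := (sb E100532 (iv4 D155459))
theorem F348529 : act 0 n175462 = n101598 := d20_4 F298233 (iv1 F336428) F336429 D175462 F334555 (iv4 F334556) F348526 (iv4 F348525) F348502 (iv1 F244453)
theorem F348530 : act 5 n105040 = n182700 := d21_0 (iv1 F327070) F327072 (iv6 D81866) (iv1 F64300) D89198 F343008 F348526 (iv5 F140515) F290625 D105040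
theorem E100533 : n105040 = n101198 := ((c21_6 F64302 (iv1 F58450) (iv5 D22675) D22676 D47130 D101198 F348530 (iv1 F327070) F327072 (iv6 D81866) (iv1 F64300))).symm
theorem F348531 : act 0 n101198 = n87097 := (sb E100533 (iv1 F160952))
theorem F348532 : act 1 n101198 = n48545 := (sb E100533 (iv0 D105040))
theorem F348533 : act 5 n101198 = n182700 := (sb E100533 F348530)
theorem F348534 : act 3 n182700 = n89174 := d6_1 F348533 F289984 (iv3 F289988)
theorem F348535 : act 0 n93434 = n101197 := d21_7 D182415 (iv1 F344327) (iv5 D182056) D182057 F344328 (iv6 F293947) F293946 (iv5 D101197) D101198 F348531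
theorem F348536 : act 6 n142610 = n175462 := d21_3 D32185 D69205 (iv5 F225465) F348529 F304865 F302448 (iv1 F302446) (iv5 F105084) F321623 (iv1 D32183)
theorem F348537 : act 1 n175462 = n119690 := d15_1 (iv0 F348529) F339390 F306801
theorem F348538 : act 7 n175462 = n119702 := d15_2 (iv0 F304863) (iv0 F348529) (iv2 F234588)
theorem F348539 : act 2 n119703 = n175462 := d4_3 F348538 (iv2 F234588) F234584
theorem E100534 : n174857 = n152709 := ((c13_3 F348538 F339377 (iv7 F259327) (iv5 F274710))).symm
theorem F348540 : act 3 n152709 = n83528 := (sb E100534 F273718)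
theorem F348541 : act 5 n152709 = n175462 := (sb E100534 (iv5 F274710))
theorem F348542 : act 6 n152709 = n83525 := (sb E100534 (iv6 D174857))
theorem F348543 : act 1 n119703 = n175259 := d15_0 (iv0 F339379) (iv7 F348538) (iv2 F348539)
theorem E100535 : n152252 = n147669 := (c21_2 D71819 D152252 F334612 (iv6 F348542) (iv1 D152709) (iv6 D72046) D72045 D152705 F239912 (iv6 D152251) (iv1 D71818))
theorem F348544 : act 0 n147669 = n85217 := (sb E100535 (iv1 F239310))
theorem F348545 : act 1 n147669 = n71819 := (sb E100535 (iv0 D152252))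
theorem E100536 : n152253 = n110344 := (c15_2 F348545 D152253 (iv7 F175010) (iv2 F231435))
theorem F348546 : act 0 n110344 = n71819 := (sb E100536 (iv1 D152253))
theorem F348547 : act 1 n110344 = n85217 := (sb E100536 F239311)
theorem F348548 : act 5 n110344 = n139241 := (sb E100536 (iv5 F309290))
theorem F348549 : act 6 n110598 = n175343 := d21_9 F344919 F304306 (iv5 F335307) F335308 (iv1 F348545) (iv6 D147669) (iv5 F225465) (iv1 F225468) F222851 (iv1 F344918)
theorem F348550 : act 3 n175353 = n110598 := d7_3 F348549 F274388 (iv6 F274397)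
theorem F348551 : act 5 n180804 = n174808 := d21_6 (iv5 F84783) (iv1 D53774) D53775 F334011 (iv1 F254411) D180804 F344923 D175343 (iv6 F348549) (iv1 D110598)
theorem F348552 : act 7 n180182 = n180804 := d13_0 F348551 F344924 (iv5 F344927)
theorem F348553 : act 0 n104606 = n180804 := d17_0 F348551 F344923 D175343 (iv4 F343027) (iv5 F343024) (iv0 D176694) (iv5 D84242) (iv0 F335305) D104606
theorem F348554 : act 0 n180804 = n158443 := d21_7 F113438 (iv1 F56655) D35970 D79032 (iv1 F272357) D174808 (iv5 F348551) (iv5 D158443) (iv6 D75585) D75584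
theorem F348555 : act 0 n175336 = n174808 := d17_0 (iv5 F348551) F348554 (iv5 D158443) (iv4 F205813) (iv5 F335311) F335309 (iv5 D180303) (iv0 F335280) (iv4 F274386)
theorem F348556 : act 2 n180182 = n180303 := d15_3 (iv0 F332000) (iv0 F348554) (iv7 F348552)
theorem F348557 : act 2 n172389 = n180259 := d1_3 F280583 F348556 (iv4 F347483)
theorem F348558 : act 7 n180260 = n172389 := d15_2 (iv0 D180259) D180260 F348557
theorem F348559 : act 7 n172390 = n180259 := d15_2 (iv0 D172389) D172390 (iv2 F348557)
theorem F348560 : act 5 n176696 = n172390 := d16_7 F347483 (iv5 D180303) (iv4 D86119) (iv5 D39861) (iv4 F59861) D84242 D176696 F348559 (iv2 F348557)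
theorem F348561 : act 4 n172390 = n180804 := d16_4 (iv4 F59861) D84242 D176696 F348560 F348551 F334683 F330238 F131957 (iv2 D39860)
theorem F348562 : act 6 n159304 = n172390 := d10_0 F348561 (iv6 D180804) (iv4 F250781)
theorem F348563 : act 5 n111829 = n103017 := d17_5 F348554 (iv5 D158443) D158441 F344922 F175450 F289644 F347485 D172390 F348561
theorem F348564 : act 0 n179997 = n172390 := d18_2 D86019 D179997 F348561 F348551 F334683 F330236 (iv4 F334685) (iv0 F330233) F105831
theorem F348565 : act 5 n179997 = n104585 := d18_9 F160255 (iv4 D104598) (iv1 F76038) F70796 F335303 (iv4 F335292) (iv0 F348554) (iv4 F348561) (iv0 F348564)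
theorem E100537 : n172515 = n104645 := (c20_7 (iv4 F348561) (iv1 D172390) (iv4 D82546) F58749 D37913 D82592 D172515 (iv1 D104645) (iv4 F160357) (iv3 F335310) F348553)
theorem F348566 : act 4 n104645 = n82592 := (sb E100537 (iv4 D172515))
theorem F348567 : act 2 n104585 = n180282 := d2_1 F348565 (iv5 D180282) (iv2 F324625)
theorem F348568 : act 3 n104586 = n179997 := d6_3 F348565 (iv3 D104585) D104586
theorem E100538 : n180262 = n96234 := ((c13_3 (iv7 F324626) F348565 F160256 (iv5 D180262))).symm
theorem F348569 : act 5 n96234 = n86108 := (sb E100538 (iv5 D180262))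
theorem F348570 : act 4 n104585 = n180282 := d16_2 D179997 F348565 (iv5 D180282) (iv4 D86113) (iv5 F323209) F58676 D37894 (iv7 F324620) F324619
theorem F348571 : act 1 n180282 = n103579 := d18_6 F343039 F129211 D86019 D179997 F348565 F348570 F158892 (iv0 F289627) D48443
theorem F348572 : act 6 n176696 = n95508 := d21_3 (iv5 F348565) F348564 (iv5 F348560) (iv1 F205498) (iv6 D95565) (iv5 F105249) F105248 (iv5 F75021) D103017 F289643
theorem F348573 : act 1 n104770 = n180282 := d15_0 F348571 F289625 (iv2 F160504)
theorem F348574 : act 7 n180282 = n95319 := d15_2 (iv0 F160506) F348573 (iv2 F148014)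
theorem E100539 : n180261 = n96235 := (c6_2 F348569 D180261 (iv5 D96235) D96234)
theorem F348575 : act 3 n96235 = n86108 := (sb E100539 (iv3 D180261))
theorem F348576 : act 3 n90506 = n130742 := d19_11 F301542 F324613 D179997 (iv3 F348568) F287725 F287724 F138098 F69439 F63350 (iv5 F65475) (iv4 F139300) (iv1 D130742) (iv5 F314429) F192373 F87987 (iv1 F313947) (iv5 F105825) (iv4 F316274) F192687
theorem F348577 : act 4 n136886 = n130742 := d20_8 (iv4 D88467) (iv1 F65434) D90504 (iv3 F336054) (iv1 F214822) (iv3 F347093) F204095 D136886 (iv3 F348576) (iv1 F139301)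
theorem F348578 : act 3 n92750 = n136886 := d5_5 F348577 (iv3 F348576) F139300 F68279 (iv4 F143024)
theorem F348579 : act 2 n180260 = n172390 := d15_3 (iv0 F348564) F347486 (iv7 F348558)
theorem E100540 : n180633 = n180260 := (c3_1 D180633 F348579 (iv6 F348562) F256564)
theorem F348580 : act 6 n180260 = n86285 := (sb E100540 (iv6 D180633))
theorem F348581 : act 7 n175336 = n175334 := d15_2 (iv0 F344923) (iv0 F348555) F274384
theorem F348582 : act 4 n175334 = n175344 := d11_1 F348581 (iv7 D175344) (iv4 F274386)
theorem F348583 : act 6 n175344 = n175332 := d10_2 D175334 F348582 (iv4 D175332)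
theorem F348584 : act 0 n148333 = n175334 := d20_1 (iv4 F232126) F348582 F274389 F264408 (iv3 D81824) (iv4 D37446) (iv1 F117732) (iv4 F59116) (iv3 F128063) (iv1 F330234)
theorem F348585 : act 0 n175344 = n148333 := d20_7 F46567 D29180 F316584 (iv3 F119325) D162693 (iv3 F330137) F348582 F232126 (iv3 D69546) (iv1 F315385)
theorem F348586 : act 1 n175344 = n180290 := d15_1 (iv0 F348585) (iv7 F344924) F333758
theorem F348587 : act 1 n180290 = n175334 := d15_1 F348586 (iv7 F348581) (iv2 F335283)
theorem F348588 : act 3 n162723 = n135322 := d20_3 (iv4 F330125) (iv1 F314341) F314344 F345831 F201629 D180290 (iv1 F348586) (iv4 F348582) F330137 F330132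
theorem F348589 : act 3 n164025 = n167762 := d6_3 F264116 F348588 (iv5 F339510)
theorem F348590 : act 0 n117841 = n135322 := d20_4 F310683 F314881 D54276 D117841 (iv3 F348588) (iv4 F314344) F314340 F318946 F119325 (iv1 F315310)
theorem F348591 : act 1 n117841 = n135369 := d15_1 (iv0 F348590) (iv7 D135369) (iv2 F217557)
theorem F348592 : act 1 n135369 = n125357 := d15_1 F348591 (iv7 F341220) F341217
theorem F348593 : act 5 n135369 = n165646 := d21_0 (iv1 D165646) (iv5 F318543) (iv6 F339291) F339288 F239227 (iv5 F345829) (iv1 F250698) D159284 F250765 (iv1 F348592)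
theorem F348594 : act 7 n165646 = n135368 := d13_2 D135369 F348593 (iv5 D135368)
theorem F348595 : act 6 n167762 = n164022 := d7_2 D164025 F348589 (iv3 D164022)
theorem F348596 : act 5 n164022 = n129011 := d12_1 F348595 (iv6 D129011) (iv5 F312118) F264117 (iv5 F264116)
theorem F348597 : act 7 n164022 = n147163 := d14_2 F344690 F348595 (iv6 D147163) (iv7 F105421) D147452
theorem E100541 : n164026 = n162242 := ((c8_2 F348597 F339244 (iv7 D164026) D164022)).symm
theorem F348598 : act 2 n162242 = n78801 := (sb E100541 F258484)
theorem F348599 : act 7 n162242 = n78800 := (sb E100541 (iv7 D164026))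
theorem F348600 : act 7 n157643 = n176711 := d11_2 F348597 (iv4 F248417) (iv4 F304018)
theorem F348601 : act 2 n157643 = n176710 := d15_3 (iv0 D176710) D176711 (iv7 F348600)
theorem F348602 : act 4 n176710 = n147450 := d1_2 (iv4 F248417) F348601 F231241
theorem F348603 : act 6 n176710 = n96377 := d3_2 D157643 F348601 F320056
theorem F348604 : act 5 n164028 = n183049 := d16_1 D164028 F284680 F134154 (iv4 F64282) (iv5 F136878) (iv4 F339505) (iv5 F339506) (iv7 F348599) F348598
theorem F348605 : act 5 n164023 = n183008 := d9_8 F348604 F284680 F134154 (iv4 F64282) (iv5 F136878) (iv4 F339505) (iv5 F339506) D164023 (iv4 D183008) (iv5 D87365) (iv4 F64276) D89158 F337842 F339512 D164028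
theorem F348606 : act 7 n135382 = n164028 := d13_0 F348604 (iv7 D183049) (iv5 F339515)
theorem F348607 : act 2 n135382 = n164023 := d16_9 (iv4 D164023) F339506 F339505 F136878 F64282 (iv5 F134154) (iv4 F284680) (iv5 F348604) (iv7 F348606)
theorem F348608 : act 1 n157923 = n164028 := d15_1 F304019 (iv7 F348606) F348607
theorem F348609 : act 5 n137583 = n163806 := d18_4 (iv1 F327313) F327314 (iv1 F218993) D137583 F258185 F348608 (iv4 D164028) (iv0 F302618) (iv5 F336496)
theorem E100542 : n165936 = n164027 := (c20_5 (iv4 F327435) F327432 (iv4 D79681) D79680 D165936 (iv3 D164027) D164028 (iv1 F348608) (iv4 F258185) (iv3 D163806) D163804)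
theorem F348610 : act 1 n164027 = n79680 := (sb E100542 (iv0 D165936))
theorem F348611 : act 3 n163807 = n137583 := d6_3 F348609 (iv3 D163806) D163807
theorem F348612 : act 2 n164030 = n147161 := d3_3 (iv6 F339242) F348598 D164030
theorem F348613 : act 5 n147160 = n164030 := d2_0 F348612 (iv5 D147161) D147160
theorem F348614 : act 1 n164030 = n111456 := d15_0 F231245 F231243 (iv2 F348612)
theorem F348615 : act 1 n111461 = n164030 := d15_0 F348614 (iv7 F232074) F232072
theorem E100543 : n135338 = n62288 := (c21_8 (iv5 F341257) (iv1 F243737) (iv5 F330652) F336514 (iv1 F348614) (iv6 D164030) (iv5 F339512) (iv1 F217569) F322722 (iv6 F302627) D124626)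
theorem E100544 : n132733 = n63620 := ((D132733).symm.trans (sb E100543 (iv1 D135338)))
theorem E100545 : n132734 = n63634 := ((D132734).symm.trans (sb E100543 F217569))
theorem E100546 : n135337 = n64897 := ((D135337).symm.trans (sb E100544 F326059))
theorem F348616 : act 1 n63620 = n62288 := (sb E100544 (iv0 D132733))
theorem F348617 : act 0 n63634 = n62288 := (sb E100545 (iv1 D132734))
theorem F348618 : act 0 n64897 = n63634 := (sb E100546 (iv1 F217568))
theorem F348619 : act 1 n64897 = n63620 := (sb E100546 (iv0 D135337))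
theorem F348620 : act 0 n147160 = n180579 := d21_1 (iv5 F348613) (iv5 D180579) F324630 D158972 F341254 (iv5 F341257) (iv1 F243737) (iv5 F330652) F336514 (iv1 F348614)
theorem E100547 : n164316 = n152392 := ((c17_8 F348620 (iv5 D180579) F336504 (iv5 F336472) (iv4 D71932) D71933 F239676 F239675 (iv0 D164316) (iv4 F346136))).symm
theorem F348621 : act 1 n152392 = n78922 := (sb E100547 (iv0 D164316))
theorem F348622 : act 6 n180579 = n148543 := d21_5 (iv5 D135326) F337832 (iv5 F337852) (iv6 F346137) F348620 (iv5 D148543) D148541 F233305 (iv6 F338704) (iv1 F338702)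
theorem F348623 : act 6 n152628 = n162244 := d21_3 F250303 (iv1 F303120) F303121 F302618 D164030 (iv5 F348613) F348620 (iv5 D180579) F324630 D158972
theorem F348624 : act 0 n152507 = n166533 := d21_4 (iv5 D180579) F336504 (iv5 F336472) D152507 F338700 (iv5 D135326) F337832 (iv5 F337852) (iv6 F346137) F348620
theorem F348625 : act 3 n166533 = n119356 := d20_5 F330016 (iv1 F330020) (iv4 F230979) (iv3 F339602) F348624 (iv4 D119356) F313432 (iv4 F182094) F182093 (iv1 F230530)
theorem F348626 : act 4 n166533 = n115228 := d20_8 (iv4 F315741) (iv1 D127321) D127323 F204552 F339598 (iv3 F318934) (iv4 F239688) F348624 F339638 D154038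
theorem F348627 : act 5 n124644 = n155460 := d21_2 F262056 (iv1 F199393) (iv6 D155460) (iv1 F233315) (iv6 F348622) (iv5 D180579) F336504 (iv5 F336472) D152507 F348624
theorem F348628 : act 2 n155460 = n178182 := d2_1 F348627 (iv5 D178182) (iv2 F340147)
theorem E100548 : n155460 = n152361 := (c13_2 (iv7 F340148) F348627 (iv7 D152361) (iv5 F335987))
theorem F348629 : act 2 n152361 = n178182 := (sb E100548 F348628)
theorem F348630 : act 5 n152361 = n124644 := (sb E100548 (iv5 F348627))
theorem F348631 : act 6 n152361 = n73935 := (sb E100548 (iv6 D155460))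
theorem F348632 : act 1 n152361 = n152195 := d17_8 F259171 F335975 (iv1 D63783) (iv5 F83861) (iv4 F166379) F335977 D124644 (iv5 F348630) (iv4 D152195)
theorem E100549 : n152361 = n146147 := (c21_7 F232046 (iv1 F181952) (iv5 F345362) (iv6 F345361) (iv1 F345379) F336477 (iv5 F348630) (iv1 D146147) (iv5 F321410) F321852 D148209)
theorem F348633 : act 1 n146147 = n152195 := (sb E100549 F348632)
theorem F348634 : act 2 n146147 = n178182 := (sb E100549 F348629)
theorem F348635 : act 3 n146147 = n82452 := (sb E100549 F239562)
theorem F348636 : act 4 n146147 = n71884 := (sb E100549 F239563)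
theorem F348637 : act 5 n146147 = n124644 := (sb E100549 F348630)
theorem F348638 : act 6 n146147 = n73935 := (sb E100549 F348631)
theorem F348639 : act 7 n146147 = n71881 := (sb E100549 (iv7 D152361))
theorem F348640 : act 3 n124644 = n172173 := d6_1 F348637 F270332 (iv3 F348635)
theorem F348641 : act 6 n107706 = n152379 := d21_3 (iv5 D62577) D62575 (iv5 F166348) F303497 (iv6 F348638) F348637 (iv1 D124644) (iv5 F335977) (iv6 D107746) (iv1 F97575)
theorem F348642 : act 2 n152379 = n144764 := d3_1 F348641 (iv6 D144764) F166351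
theorem F348643 : act 7 n152231 = n152379 := d4_0 F348642 F339327 F339220
theorem F348644 : act 1 n144764 = n114054 := d15_0 (iv0 F339228) F348643 F348642
theorem F348645 : act 1 n119849 = n144764 := d15_0 F348644 F298222 (iv2 F189179)
theorem F348646 : act 3 n144764 = n120617 := d20_5 F336443 F336447 F115806 (iv3 F177554) (iv1 F348644) F192207 (iv1 F318728) (iv4 F320550) (iv3 F304584) (iv1 F249557)
theorem F348647 : act 3 n144817 = n121431 := d20_9 F320551 F318729 (iv4 F192207) (iv3 F348646) (iv1 F348645) F339749 D147186 F243147 (iv4 F227728) (iv1 D121431)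
theorem F348648 : act 6 n121431 = n112333 := d7_2 D144817 F348647 F174741
theorem F348649 : act 4 n146402 = n151517 := d20_6 (iv4 F339226) (iv1 F348645) F303500 (iv3 F338206) (iv1 D146405) (iv3 F229724) (iv1 D151517) F107964 (iv3 F52417) D71808
theorem F348650 : act 2 n151517 = n151340 := d1_1 F348649 (iv4 D151340) (iv2 F340890)
theorem F348651 : act 3 n151517 = n117240 := d5_1 F348649 F183451 F85259 (iv4 F104843) (iv3 F229724)
theorem F348652 : act 6 n151517 = n117238 := d10_2 D146402 F348649 F183443
theorem F348653 : act 7 n151517 = n151335 := d11_2 (iv7 F340891) F348649 (iv4 D151335)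
theorem E100550 : n146402 = n118673 := ((c20_11 F348649 (iv1 D151517) F107964 (iv3 F52417) D71808 (iv3 F339326) (iv4 F333649) F205368 (iv4 F319324) F187305 (iv1 F186652))).symm
theorem F348654 : act 2 n118673 = n71324 := (sb E100550 F340890)
theorem F348655 : act 3 n118673 = n68645 := (sb E100550 F229724)
theorem F348656 : act 4 n118673 = n151517 := (sb E100550 F348649)
theorem F348657 : act 6 n118673 = n68643 := (sb E100550 (iv6 D146402))
theorem F348658 : act 7 n118673 = n71323 := (sb E100550 F340891)
theorem E100551 : n151333 = n118672 := (c15_4 (iv0 D118672) D118673 F348658 D151333)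
theorem F348659 : act 2 n118672 = n71323 := (sb E100551 (iv2 D151333))
theorem F348660 : act 3 n118672 = n128125 := (sb E100551 F340889)
theorem F348661 : act 7 n118672 = n71324 := (sb E100551 (iv7 F238056))
theorem E100552 : n151339 = n106327 := (c8_2 F348661 D151339 (iv7 F206204) (iv3 F348660))
theorem F348662 : act 3 n106327 = n71324 := (sb E100552 (iv3 D151339))
theorem F348663 : act 3 n151340 = n149374 := d5_3 (iv4 F320180) F348662 D151340 (iv4 D149374) F319291
theorem E100553 : n151342 = n142058 := (c7_3 (iv6 F320181) F348662 D151342 (iv3 D142058))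
theorem F348664 : act 6 n142058 = n71324 := (sb E100553 (iv6 D151342))
theorem E100554 : n151522 = n151329 := ((c20_2 (iv4 F107830) D151329 (iv4 D151522) F335496 (iv1 F206231) (iv3 F206227) F206228 F319833 (iv4 F320180) F348662 (iv1 D71324))).symm
theorem F348665 : act 4 n151329 = n71432 := (sb E100554 (iv4 D151522))
theorem F348666 : act 0 n151519 = n151340 := d20_1 (iv4 F238389) (iv4 D151340) (iv3 F348662) (iv1 D106327) F77597 F37462 D23982 F177643 D53069 F343520
theorem E100555 : n159016 = n153640 := ((c20_1 D153640 F339317 F205819 (iv3 F238388) F348666 F348663 (iv4 D149374) (iv1 F190057) (iv4 F109179) F109178 D72653)).symm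
theorem F348667 : act 0 n153640 = n127905 := (sb E100555 F339317)
theorem F348668 : act 1 n153640 = n123697 := (sb E100555 F342718)
theorem F348669 : act 2 n153640 = n127902 := (sb E100555 F339312)
theorem F348670 : act 3 n153640 = n75940 := (sb E100555 F250352)
theorem F348671 : act 5 n153640 = n167116 := (sb E100555 F339316)
theorem F348672 : act 6 n153640 = n75939 := (sb E100555 (iv6 D159016))
theorem F348673 : act 7 n153640 = n127903 := (sb E100555 (iv7 F339313))
theorem F348674 : act 0 n151328 = n153639 := d20_4 (iv4 D151340) (iv1 D71324) (iv4 F107830) (iv3 F238047) (iv3 D153639) D153640 F348667 F205819 (iv3 F238388) F348666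
theorem F348675 : act 1 n118742 = n151340 := d15_0 (iv0 F348666) (iv7 D151519) (iv2 F186798)
theorem E100556 : n159011 = n153639 := ((c20_8 (iv4 F320934) F302271 F317398 (iv3 F333646) F333644 (iv3 F267779) F267780 F348674 F250349 F113833 F104991)).symm
theorem F348676 : act 4 n153639 = n75938 := (sb E100556 F250349)
theorem F348677 : act 6 n153639 = n75937 := (sb E100556 (iv6 D159011))
theorem E100557 : n159010 = n138295 := (c21_7 (iv5 D57105) (iv1 F87702) (iv5 F107821) D151328 F348674 F348677 D159010 (iv1 D138295) (iv5 F329492) (iv6 D122992) (iv1 F94772))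
theorem F348678 : act 5 n138295 = n75937 := (sb E100557 (iv5 D159010))
theorem F348679 : act 7 n138295 = n178897 := (sb E100557 (iv7 F278776))
theorem F348680 : act 2 n178897 = n138294 := d15_3 (iv0 D138294) D138295 F348679
theorem E100558 : n159009 = n153642 := (c7_2 F348677 D159009 (iv6 D153642) D153639)
theorem F348681 : act 3 n153642 = n75937 := (sb E100558 (iv3 D159009))
theorem F348682 : act 4 n153642 = n75939 := (sb E100558 F250348)
theorem F348683 : act 7 n153642 = n178896 := (sb E100558 (iv7 F278775))
theorem F348684 : act 0 n103704 = n170267 := d20_10 F267780 F348674 F348676 F113833 F104991 (iv3 F230062) F314955 (iv1 F147267) F340933 D103704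
theorem F348685 : act 1 n177139 = n170267 := d15_0 (iv0 F348684) F315971 D177139
theorem E100559 : n153643 = n153389 := ((c11_2 F348673 (iv4 F342728) (iv7 D153643) D153640)).symm
theorem F348686 : act 2 n153389 = n72654 := (sb E100559 F241524)
theorem F348687 : act 7 n153389 = n72653 := (sb E100559 (iv7 D153643))
theorem E100560 : n153638 = n153388 := (c15_4 (iv0 D153388) D153389 F348687 D153638)
theorem F348688 : act 2 n153388 = n72653 := (sb E100560 (iv2 D153638))
theorem F348689 : act 7 n153388 = n72654 := (sb E100560 (iv7 F241523))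
theorem F348690 : act 4 n127902 = n153388 := d1_0 F348688 D153640 F348669
theorem F348691 : act 7 n153645 = n127902 := d11_0 F348690 F348689 D153645
theorem E100561 : n174440 = n128200 := ((c18_4 D127902 F348690 (iv1 F240948) (iv4 F206337) (iv5 D174440) (iv4 D83380) F128484 (iv4 F273098) F273101 (iv5 F308842))).symm
theorem F348692 : act 5 n128200 = n83380 := (sb E100561 (iv5 D174440))
theorem F348693 : act 5 n172410 = n153217 := d2_2 F348692 (iv2 F313109) F240579
theorem E100562 : n174937 = n173413 := ((c18_2 (iv1 F343390) (iv4 F271883) (iv1 D174937) (iv4 F303175) F342719 F198163 D123699 F343518 F240576 F348692)).symm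
theorem F348694 : act 0 n173413 = n83555 := (sb E100562 (iv1 D174937))
theorem E100563 : n174938 = n153243 := ((c15_3 (iv0 F348694) (iv0 F343388) F240699 (iv2 D174938))).symm
theorem F348695 : act 2 n153243 = n83555 := (sb E100563 (iv2 D174938))
theorem F348696 : act 3 n153217 = n172412 := d6_1 F348693 (iv5 D172412) D172410
theorem E100564 : n154317 = n128197 := ((c17_9 (iv1 F308372) F136971 (iv1 F336385) (iv5 F242414) (iv4 F347343) (iv5 D172783) (iv0 F315042) F348693 F240583 (iv4 D154317))).symm
theorem F348697 : act 4 n128197 = n73112 := (sb E100564 (iv4 D154317))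
theorem E100565 : n154322 = n128198 := ((c18_1 (iv1 F240582) (iv4 D154322) (iv1 D73113) (iv4 F94640) F308842 (iv4 F305078) F317255 F127909 (iv0 F315042) F348693)).symm
theorem F348698 : act 4 n128198 = n73113 := (sb E100565 (iv4 D154322))
theorem F348699 : act 0 n182453 = n128205 := d21_4 F348429 F348433 F247168 (iv6 F348456) (iv6 F240580) (iv5 F348693) F315042 D172783 F271054 D174379
theorem F348700 : act 5 n128205 = n95357 := d17_3 (iv1 F158391) (iv5 F283991) F348699 (iv4 D95357) (iv5 D44538) F33791 (iv5 F70790) F70794 D95361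
theorem F348701 : act 0 n153344 = n159471 := d20_4 D182453 F348699 F206342 (iv3 F240918) F251122 (iv4 D105470) (iv1 F258992) F309259 F136190 F292330
theorem F348702 : act 2 n182967 = n128205 := d15_3 (iv0 F348699) F292467 D182967
theorem F348703 : act 1 n101398 = n128205 := d15_0 (iv0 F348699) (iv7 F293243) (iv2 F156197)
theorem F348704 : act 5 n184087 = n95361 := d17_5 (iv1 F309577) (iv5 F134107) F137635 D87808 D184087 F146994 (iv5 F292332) F348703 F206342
theorem F348705 : act 0 n101383 = n123101 := d20_4 (iv4 F206342) (iv1 F348703) (iv4 D101398) (iv3 F156175) (iv3 F310779) (iv4 D117452) (iv1 F183518) (iv4 F339708) F147019 F309576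
theorem F348706 : act 6 n147176 = n95357 := d21_5 (iv5 D68995) (iv1 D32095) D32097 D69000 D147176 (iv5 F348700) (iv1 F348703) F292332 F320991 F105304
theorem F348707 : act 4 n95358 = n147176 := d10_3 F348706 (iv4 D95357) D95358
theorem F348708 : act 5 n176535 = n147176 := d12_5 F348706 (iv5 F348700) (iv6 F240580) (iv5 F348693) F313111
theorem F348709 : act 3 n147176 = n174037 := d6_1 F348708 F272769 F337629
theorem F348710 : act 5 n95358 = n181932 := d16_3 D176535 F348708 (iv4 F348707) (iv4 F284452) F347530 (iv4 D132450) F318038 (iv7 F275854) (iv2 F275855)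
theorem F348711 : act 0 n147176 = n133041 := d17_2 F337632 F348708 (iv5 D133041) (iv4 D62427) (iv5 F211211) (iv0 D62067) (iv5 F95587) (iv0 F213164) D132910
theorem F348712 : act 2 n132956 = n176540 := d16_9 (iv4 D176540) (iv5 F318038) D132450 (iv5 F347530) F284452 (iv5 F348710) F348707 (iv5 F348708) (iv7 F342036)
theorem F348713 : act 1 n176540 = n98964 := d15_0 (iv0 F337630) (iv7 F342036) F348712
theorem F348714 : act 1 n132910 = n176540 := d15_0 F348713 F315984 (iv2 F213509)
theorem F348715 : act 0 n101287 = n175424 := d20_7 F113413 F91584 D46299 D98964 (iv1 F348713) (iv3 F303098) F193649 (iv4 D175424) (iv3 D83765) (iv1 F113417)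
theorem F348716 : act 3 n129713 = n101287 := d20_3 (iv4 F311149) (iv1 F97088) D129713 F348715 (iv3 F299902) F299903 (iv1 F72316) (iv4 F306141) F190394 F304098
theorem F348717 : act 1 n101287 = n165029 := d15_1 (iv0 F348715) F305848 (iv2 F307157)
theorem F348718 : act 7 n101287 = n178853 := d15_2 (iv0 F307156) (iv0 F348715) F278724
theorem F348719 : act 1 n181400 = n178853 := d15_1 (iv0 F342056) (iv7 F348718) F156071
theorem F348720 : act 5 n146026 = n181400 := d17_7 (iv1 F303120) F303121 (iv1 F322704) F322707 F128243 (iv5 F227910) F259442 F348719 (iv4 D178853)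
theorem E100566 : n177138 = n177031 := ((c21_4 (iv5 D96184) (iv1 F70566) D84377 D177031 (iv1 D177138) (iv6 F307165) F348720 F342056 (iv5 F307023) F311017 (iv1 F147893))).symm
theorem F348721 : act 0 n177031 = n84414 := (sb E100566 (iv1 D177138))
theorem F348722 : act 0 n177141 = n152539 := d21_1 D177141 F239723 (iv6 D117109) (iv1 F114752) (iv6 F309682) (iv5 D96184) (iv1 F70566) D84377 D177031 F348721
theorem F348723 : act 6 n101286 = n129713 := d7_0 F348716 (iv6 D101287) D101286
theorem F348724 : act 0 n132097 = n181932 := d21_7 (iv5 D89719) F292505 F70787 D96397 F344651 D121144 F334274 (iv5 F348710) (iv6 D95358) (iv1 F293443)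
theorem F348725 : act 3 n163415 = n132079 := d20_9 D132097 F348724 (iv4 F284452) (iv3 F347533) (iv1 D106754) (iv3 F164549) F348084 (iv1 D185644) (iv4 F257695) (iv1 F211619)
theorem F348726 : act 7 n163609 = n163415 := d8_0 F348725 F340297 (iv3 F257878)
theorem F348727 : act 2 n131799 = n163609 := d4_3 F348726 (iv2 F293085) F295475
theorem F348728 : act 4 n185646 = n163609 := d11_3 F348726 F257695 D185646
theorem F348729 : act 6 n97377 = n185646 := d10_0 F348728 (iv6 D163609) (iv4 F327101)
theorem F348730 : act 2 n185668 = n97377 := d3_3 F348729 (iv2 F293090) F293091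
theorem F348731 : act 4 n163604 = n185668 := d1_0 F348730 F327101 (iv2 F257867)
theorem F348732 : act 1 n97377 = n185665 := d15_0 (iv0 D185665) D185668 F348730
theorem E100567 : n160905 = n89848 := (c16_7 F327101 (iv5 D78609) F56470 F28283 (iv4 F55979) D77211 D160905 F293336 D185668 F348730)
theorem F348733 : act 4 n89848 = n77211 := (sb E100567 (iv4 D160905))
theorem F348734 : act 7 n89848 = n166711 := (sb E100567 (iv7 F262416))
theorem F348735 : act 1 n185668 = n97375 := d15_0 (iv0 D97375) D97377 (iv2 F348730)
theorem F348736 : act 4 n160902 = n89909 := d16_6 (iv4 F348731) (iv5 D163604) F119779 F56474 (iv4 F115965) D160902 F138059 D97377 (iv2 F348730)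
theorem F348737 : act 5 n166711 = n185668 := d9_10 D160902 F348736 F138059 F326270 (iv5 D79960) F57188 (iv5 F28609) (iv4 F57236) D80013 D166711 (iv4 F348731) (iv5 D163604) F119779 F56474 (iv4 F115965)
theorem F348738 : act 6 n89908 = n160902 := d10_0 F348736 (iv6 D89909) D89908
theorem E100568 : n160906 = n89847 := (c3_3 F348738 F254100 D160906 (iv2 F138055))
theorem F348739 : act 3 n89847 = n77215 := (sb E100568 F254102)
theorem F348740 : act 6 n89847 = n77211 := (sb E100568 (iv6 D160906))
theorem F348741 : act 6 n160896 = n95608 := d21_9 (iv5 D44650) D44648 D95600 (iv6 F340716) F147298 F348740 (iv5 D77211) D77208 D160896 (iv1 D95608)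
theorem E100569 : n160839 = n104814 := (c6_3 (iv5 F137912) F348739 (iv5 F253997) (iv3 D104814))
theorem F348742 : act 5 n104814 = n77215 := (sb E100569 F253997)
theorem F348743 : act 6 n104814 = n77183 := (sb E100569 (iv6 D160839))
theorem F348744 : act 3 n160915 = n89911 := d8_3 F138064 F348739 D160915
theorem F348745 : act 5 n104650 = n160915 := d6_0 F348744 F138063 D104650
theorem F348746 : act 2 n174245 = n104814 := d3_3 F348743 (iv2 F300465) D174245
theorem F348747 : act 5 n160679 = n174245 := d2_0 F348746 F348742 (iv2 F253818)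
theorem F348748 : act 6 n131799 = n163604 := d10_0 F348731 (iv6 F293091) F295478
theorem F348749 : act 3 n163604 = n131801 := d7_1 F348748 (iv6 D131801) (iv3 F211173)
theorem F348750 : act 5 n163605 = n131800 := d12_3 F348748 (iv5 D163604) D163605 (iv6 D131800) D131799
theorem F348751 : act 2 n131800 = n163612 := d2_1 F348750 (iv5 D163612) (iv2 F257870)
theorem F348752 : act 3 n128942 = n163605 := d6_3 F348750 F211175 (iv5 F207166)
theorem F348753 : act 5 n128676 = n130397 := d16_3 (iv4 F257871) F348750 F211176 (iv4 D130397) D130398 F346965 F205328 (iv7 D78637) (iv2 F119800)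
theorem F348754 : act 3 n130397 = n128680 := d6_1 F348753 (iv5 D128680) (iv3 F206974)
theorem F348755 : act 6 n163612 = n131798 := d3_2 D131800 F348751 (iv2 D131798)
theorem F348756 : act 5 n131798 = n163609 := d12_1 F348755 (iv6 D163609) (iv5 D78609) D78610 D163612
theorem F348757 : act 5 n113419 = n128674 := d16_5 F150119 (iv5 F295476) F80745 D107009 F343553 (iv4 F211172) F348756 F348726 (iv2 F293085)
theorem F348758 : act 5 n103796 = n185646 := d16_1 (iv4 F295628) F348728 (iv5 F348756) F211172 (iv5 F348757) (iv4 F343553) (iv5 D107009) (iv7 F80695) D110935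
theorem F348759 : act 3 n185646 = n138923 := d6_1 F348758 (iv5 D138923) (iv3 F295627)
theorem E100570 : n185639 = n152258 := ((c8_3 D185646 F348759 (iv7 F319046) F287951)).symm
theorem F348760 : act 3 n152258 = n88432 := (sb E100570 F287951)
theorem F348761 : act 6 n152258 = n88430 := (sb E100570 (iv6 D185639))
theorem F348762 : act 3 n156799 = n113419 := d6_3 F348757 (iv3 F211930) (iv5 F246740)
theorem F348763 : act 6 n113416 = n156799 := d7_0 F348762 (iv6 D113419) D113416
theorem F348764 : act 0 n125940 = n113419 := d20_4 F45290 D28023 D58965 D125940 (iv3 F348762) (iv4 D156799) (iv1 F343585) (iv4 F176711) (iv3 D113564) F161320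
theorem F348765 : act 1 n125940 = n128934 := d15_1 (iv0 F348764) F207158 F343535
theorem F348766 : act 6 n128936 = n111503 := d3_2 F348763 F246739 F204651
theorem E100571 : n156800 = n111308 := (c10_3 F348763 (iv4 D156799) D156800 (iv4 F176603))
theorem F348767 : act 3 n111308 = n107002 := (sb E100571 F246744)
theorem F348768 : act 6 n111308 = n74572 := (sb E100571 (iv6 D156800))
theorem F348769 : act 5 n113497 = n132119 := d21_6 (iv5 F208887) (iv1 F211933) (iv5 F246740) (iv6 F348763) (iv1 F176606) D113497 (iv1 D132119) F96575 (iv6 D60668) D60665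
theorem F348770 : act 2 n132119 = n163472 := d2_1 F348769 F257753 (iv2 F327276)
theorem F348771 : act 3 n132119 = n113504 := d6_1 F348769 (iv5 D113504) (iv3 F176687)
theorem F348772 : act 2 n113504 = n97392 := d0_1 F348771 (iv3 D97392) F294082 D163472 (iv2 F348770)
theorem F348773 : act 2 n176726 = n158061 := d1_3 (iv4 F341830) F348770 (iv4 F276105)
theorem F348774 : act 5 n158061 = n176723 := d2_2 D176726 F348773 (iv2 D176723)
theorem F348775 : act 7 n176731 = n158061 := d13_0 F348774 (iv7 F276103) D176731
theorem E100572 : n176723 = n158869 := ((c21_11 (iv5 F348774) (iv1 D158061) (iv5 D75289) (iv6 F59228) D83290 (iv6 F343703) (iv5 F138057) (iv1 F149737) F149735 F326713 (iv1 F250131))).symm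
theorem F348776 : act 2 n158869 = n84256 := (sb E100572 (iv2 D176723))
theorem F348777 : act 5 n158869 = n158061 := (sb E100572 (iv5 F348774))
theorem F348778 : act 7 n158869 = n84257 := (sb E100572 (iv7 F276103))
theorem E100573 : n176728 = n158868 := (c15_4 (iv0 D158868) D158869 F348778 (iv2 F276106))
theorem F348779 : act 2 n158868 = n84257 := (sb E100573 F276106)
theorem F348780 : act 7 n158868 = n84256 := (sb E100573 (iv7 D176728))
theorem F348781 : act 1 n94351 = n176731 := d15_1 (iv0 F343693) F348775 (iv2 F348773)
theorem F348782 : act 2 n176731 = n158060 := d15_3 (iv0 D158060) D158061 (iv7 F348775)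
theorem F348783 : act 5 n158060 = n158868 := d2_2 D176731 F348782 F348779
theorem F348784 : act 7 n158060 = n176726 := d4_2 (iv7 F348775) F348782 F348773
theorem F348785 : act 1 n176731 = n158059 := d15_0 F343694 (iv7 F348784) (iv2 F348782)
theorem F348786 : act 4 n97389 = n158060 := d11_3 F348784 F276105 (iv7 F294904)
theorem F348787 : act 0 n97383 = n102931 := d20_4 (iv4 F67268) F291950 D45476 D97383 (iv3 F249007) (iv4 D158062) D158060 (iv4 F348786) (iv3 D97389) F294087
theorem F348788 : act 6 n109691 = n112088 := d21_5 D176731 (iv1 F348781) F293604 (iv6 F325594) (iv1 F174516) (iv5 F346803) F348027 F171253 D111791 F327730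
theorem E100574 : n156787 = n111505 := (c3_2 F348768 (iv2 F246704) (iv6 D111505) (iv2 F204649))
theorem F348789 : act 0 n111505 = n130238 := (sb E100574 F246707)
theorem F348790 : act 1 n111505 = n109232 := (sb E100574 (iv0 F343559))
theorem F348791 : act 2 n111505 = n74572 := (sb E100574 F246704)
theorem F348792 : act 4 n111505 = n128936 := (sb E100574 F246705)
theorem F348793 : act 5 n111505 = n74567 := (sb E100574 (iv5 D156787))
theorem F348794 : act 7 n111505 = n139010 := (sb E100574 F246706)
theorem F348795 : act 7 n139023 = n111510 := d14_4 (iv7 F204650) F348768 F111979 D139023 (iv6 D111510)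
theorem F348796 : act 3 n111510 = n144329 := d8_1 F348795 (iv7 D144329) (iv3 F222208)
theorem F348797 : act 6 n144329 = n111507 := d7_2 D111510 F348796 (iv3 D111507)
theorem F348798 : act 7 n111507 = n107002 := d14_2 D144329 F348797 (iv6 D107002) F78161 D67623
theorem F348799 : act 1 n110938 = n108669 := d15_0 (iv0 F173422) F348798 (iv2 F171974)
theorem E100575 : n139023 = n108639 := (c20_4 D108669 (iv1 F348799) F171975 (iv3 F222208) (iv1 D108639) (iv3 D50164) (iv4 D24466) (iv1 D11560) D11561 D24470 D50176)
theorem F348800 : act 3 n108639 = n67623 := (sb E100575 F222208)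
theorem F348801 : act 6 n108639 = n65259 := (sb E100575 (iv6 D139023))
theorem E100576 : n111510 = n50293 := (((F204636).symm.trans (sb E100575 F348795))).symm
theorem E100577 : n144329 = n108927 := (((D108927).symm.trans (sb E100576 F348796))).symm
theorem E100578 : n108930 = n51428 := ((D108930).symm.trans (sb E100576 (iv6 D111510)))
theorem F348802 : act 6 n108927 = n111507 := (sb E100577 F348797)
theorem F348803 : act 7 n108927 = n67623 := (sb E100577 (iv7 D144329))
theorem F348804 : act 6 n51428 = n50293 := (sb E100578 (iv6 D108930))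
theorem F348805 : act 6 n108638 = n111307 := d3_2 F348804 (iv2 F204632) F204646
theorem F348806 : act 6 n108928 = n111508 := d10_2 F348804 D108928 (iv4 D111508)
theorem F348807 : act 6 n113495 = n126040 := d3_2 F348806 F204652 (iv2 F204641)
theorem F348808 : act 6 n128994 = n125709 := d14_5 (iv7 F204637) F348806 (iv7 F204626) F348763 F246741
theorem F348809 : act 6 n108923 = n128689 := d3_2 F348808 F204640 F208788
theorem E100579 : n139010 = n108925 := (c10_2 F348809 (iv4 F222186) (iv6 D108925) D108923)
theorem F348810 : act 0 n108925 = n156798 := (sb E100579 (iv1 F246734))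
theorem F348811 : act 1 n108925 = n111770 := (sb E100579 (iv0 F343584))
theorem F348812 : act 2 n108925 = n65259 := (sb E100579 F222185)
theorem F348813 : act 4 n108925 = n128689 := (sb E100579 F222186)
theorem F348814 : act 5 n108925 = n65254 := (sb E100579 (iv5 D139010))
theorem F348815 : act 7 n108925 = n111505 := (sb E100579 (iv7 F348794))
theorem F348816 : act 6 n150847 = n108924 := d12_4 D108925 F348814 (iv6 F316705) (iv5 F237417) (iv5 D108924)
theorem F348817 : act 6 n145374 = n108194 := d21_5 (iv5 F240280) (iv1 D152992) (iv5 D72213) F318464 (iv1 F228417) (iv5 F343587) (iv1 F348811) F348814 (iv6 F316705) (iv1 F186221)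
theorem E100580 : n145382 = n145374 := (c3_4 F348817 (iv2 F212175) F324139 (iv2 F228424))
theorem F348818 : act 2 n145374 = n68163 := (sb E100580 F228424)
theorem F348819 : act 7 n145374 = n68162 := (sb E100580 (iv7 D145382))
theorem F348820 : act 7 n157155 = n145381 := d14_4 (iv7 F348819) F348817 (iv7 F212177) D157155 (iv6 D145381)
theorem E100581 : n145377 = n145373 := (c15_4 (iv0 D145373) D145374 F348819 D145377)
theorem F348821 : act 2 n145373 = n68162 := (sb E100581 (iv2 D145377))
theorem F348822 : act 7 n145373 = n68163 := (sb E100581 (iv7 F228423))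
theorem E100582 : n140913 = n116049 := (c11_3 F348822 F322618 F223956 (iv4 F228415))
theorem F348823 : act 2 n116049 = n66100 := (sb E100582 (iv2 D140913))
theorem F348824 : act 7 n116049 = n66101 := (sb E100582 (iv7 F223956))
theorem F348825 : act 2 n140914 = n150913 := d0_3 D116049 F348823 D140914 (iv3 D150913) F325518
theorem E100583 : n140915 = n68162 := (c1_3 F228415 F348823 D140915 (iv2 F348821))
theorem E100584 : n145379 = n66100 := ((D145379).symm.trans (sb E100583 (iv4 D140915)))
theorem F348826 : act 4 n66100 = n68162 := (sb E100584 (iv4 D145379))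
theorem F348827 : act 4 n145381 = n140917 := d10_3 (iv6 D140917) F348826 D145381
theorem F348828 : act 4 n145374 = n140918 := d11_3 (iv7 D140918) F348826 (iv7 F348819)
theorem E100585 : n145606 = n140907 := (c17_4 (iv1 F331037) (iv5 D140905) F342441 D145606 (iv4 D140907) (iv5 D66098) F101736 (iv5 F223895) F223898 F348826)
theorem F348829 : act 5 n140907 = n68258 := (sb E100585 (iv5 D145606))
theorem E100586 : n153745 = n145431 := (c20_4 (iv4 F348826) (iv1 F223898) F320770 (iv3 F241609) (iv1 D145431) (iv3 D68180) (iv4 D31741) (iv1 D14930) (iv4 F24591) (iv3 F50036) D68162)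
theorem F348830 : act 3 n145431 = n72740 := (sb E100586 F241609)
theorem F348831 : act 6 n145431 = n72737 := (sb E100586 (iv6 D153745))
theorem F348832 : act 0 n140914 = n118258 := d20_4 (iv4 F50037) D68162 (iv4 F348826) D140914 F185802 (iv4 F185803) F320846 (iv4 D145582) (iv3 D68252) (iv1 D31760)
theorem F348833 : act 5 n140890 = n140882 := d9_8 F348829 (iv4 D68258) (iv5 D31761) (iv4 F50037) F331033 (iv4 D66092) D66093 D140890 F320492 F318462 (iv4 F331039) (iv5 D140905) (iv4 D66097) D66098 D140907
theorem F348834 : act 6 n142772 = n140907 := d21_5 (iv5 F166889) (iv1 F80717) F80715 D66926 D142772 F348829 (iv1 F342440) (iv5 F331033) (iv6 D31732) D31729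
theorem F348835 : act 7 n140882 = n145549 := d16_8 (iv4 D68258) (iv5 D31761) (iv4 F50037) F331033 (iv4 D66092) D66093 D140890 F348833 F228594
theorem F348836 : act 6 n145549 = n115824 := d14_1 F348835 (iv7 F180218) (iv6 F323806) (iv7 F109169) (iv6 F320493)
theorem F348837 : act 6 n140918 = n125151 := d10_2 (iv6 F348817) F348828 F312964
theorem E100587 : n140918 = n140820 := ((c20_11 (iv4 F348828) (iv1 D145374) F104315 (iv3 F85080) D117067 F318444 F324739 (iv1 F117632) (iv4 F324992) (iv3 F101748) (iv1 F223891))).symm
theorem F348838 : act 2 n140820 = n66101 := (sb E100587 F223957)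
theorem F348839 : act 4 n140820 = n145374 := (sb E100587 (iv4 F348828))
theorem F348840 : act 6 n140820 = n125151 := (sb E100587 F348837)
theorem F348841 : act 7 n140820 = n66100 := (sb E100587 (iv7 D140918))
theorem F348842 : act 7 n140917 = n128342 := d14_2 F348841 D140917 (iv6 D128342) (iv7 F201118) (iv6 F348840)
theorem E100588 : n140819 = n116049 := ((c15_4 (iv0 D140819) D140820 F348841 (iv2 F348823))).symm
theorem F348843 : act 0 n116049 = n66103 := (sb E100588 (iv1 F223896))
theorem F348844 : act 1 n116049 = n66070 := (sb E100588 (iv0 D140819))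
theorem F348845 : act 5 n116049 = n156644 := (sb E100588 F330022)
theorem F348846 : act 6 n116049 = n146645 := (sb E100588 F330045)
theorem F348847 : act 2 n146645 = n140917 := d3_1 F348846 (iv6 D140917) (iv2 F348823)
theorem F348848 : act 7 n146645 = n138358 := d14_2 (iv7 F348824) F348846 (iv6 D138358) F312968 F322612
theorem E100589 : n179636 = n146645 := ((c21_4 F225068 F330035 (iv5 F348845) F348846 (iv1 D179636) F313776 F129568 (iv1 F75489) D103706 F341027 D140888)).symm
theorem F348849 : act 0 n146645 = n85779 := (sb E100589 (iv1 D179636))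
theorem F348850 : act 1 n146645 = n167686 := (sb E100589 F330084)
theorem F348851 : act 1 n167686 = n128342 := d15_1 F348850 (iv7 F348842) (iv2 F348847)
theorem F348852 : act 5 n147334 = n146759 := d17_1 (iv1 F243368) (iv1 D146759) (iv5 D68806) (iv4 F104909) D146645 F348850 (iv5 F330083) F243365 F231392
theorem F348853 : act 6 n124171 = n147464 := d21_5 (iv5 D139739) (iv1 F337757) F335054 (iv6 D124554) (iv1 F297822) F330083 (iv1 F348850) (iv5 D146645) (iv6 F229919) F330037
theorem F348854 : act 4 n147466 = n124171 := d10_3 F348853 (iv4 D147464) D147466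
theorem F348855 : act 2 n124562 = n147466 := d1_3 F348854 F297823 (iv4 F199216)
theorem F348856 : act 7 n124511 = n147466 := d11_0 F348854 F297824 D124511
theorem F348857 : act 5 n124622 = n147466 := d16_3 D27725 D58189 D124622 F348854 (iv5 D124171) (iv4 D57878) D57879 F296373 F44713
theorem F348858 : act 0 n92723 = n124622 := d17_2 F231632 (iv5 F331165) F348857 F348854 (iv5 D124171) F296508 D58127 (iv0 F310876) (iv4 F228840)
theorem F348859 : act 0 n124558 = n147466 := d18_2 (iv1 F310634) F310635 F348854 (iv5 D124171) (iv4 D57878) F296480 D27715 (iv0 F297116) D86714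
theorem F348860 : act 1 n124559 = n147466 := d18_6 F300193 (iv4 F123879) F297649 F312866 D133305 F310633 F348854 F297822 F151616
theorem F348861 : act 5 n124558 = n185796 := d18_9 F342192 F342193 F299823 F341953 (iv5 F341960) (iv4 D124556) F299836 (iv4 F348854) (iv0 F348859)
theorem F348862 : act 4 n185796 = n124607 := d16_2 F310635 F348861 (iv5 D124607) (iv4 D58184) (iv5 F58205) F312866 D133305 F241173 (iv2 F241168)
theorem F348863 : act 1 n185796 = n128992 := d17_8 (iv1 F347418) (iv5 D124613) (iv1 D58187) D58189 D124622 F348857 (iv0 F348859) F348861 F207238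
theorem F348864 : act 6 n147058 = n124558 := d21_5 D32097 D68998 F105208 D69115 (iv1 F241182) F348861 F342192 F342196 (iv6 D68996) (iv1 D32095)
theorem F348865 : act 5 n181589 = n128992 := d17_1 F310253 (iv1 F348863) (iv5 F348861) (iv4 F310635) (iv5 D133310) F109066 (iv5 F229990) F229993 D146679
theorem F348866 : act 6 n124622 = n154349 := d21_3 (iv5 F348861) F348859 (iv5 F348857) (iv1 D154349) F314449 F312119 F94528 (iv5 F314448) D128992 (iv1 F348863)
theorem F348867 : act 4 n154349 = n124623 := d10_1 F348866 (iv6 D124623) D124622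
theorem F348868 : act 6 n147158 = n181589 := d12_0 F348865 (iv6 D128992) F314448 F304915 (iv5 F333947)
theorem F348869 : act 0 n124607 = n130244 := d18_2 (iv1 F348863) F348862 F208759 F333914 F104937 D68744 (iv4 F310540) (iv0 F346567) F348865
theorem F348870 : act 7 n181589 = n145734 := d16_8 F312107 (iv5 F132912) (iv4 F123879) F297651 (iv4 F297782) F347420 (iv4 F207238) (iv5 F348865) F228839
theorem F348871 : act 6 n185744 = n132449 := d21_9 (iv5 F209326) (iv1 F314732) (iv5 F317036) (iv6 F325147) F207726 D128992 (iv5 F348865) F346567 (iv5 F288039) (iv1 F212539)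
theorem F348872 : act 2 n132451 = n185744 := d3_3 F348871 (iv2 D132449) D132451
theorem F348873 : act 5 n124595 = n132451 := d2_0 F348872 F288039 F331168
theorem F348874 : act 1 n132451 = n124622 := d15_0 (iv0 F348858) (iv7 F288040) (iv2 F348872)
theorem F348875 : act 4 n132451 = n124588 := d16_0 (iv5 D124588) (iv4 D58157) (iv5 D27716) D27715 (iv5 F306682) (iv4 F109947) (iv5 F331165) (iv7 F288040) (iv2 F348872)
theorem F348876 : act 6 n124588 = n132450 := d10_2 D132451 F348875 (iv4 D132450)
theorem F348877 : act 1 n124561 = n132451 := d17_8 F299382 (iv5 D181681) F297513 D124607 (iv4 F348862) (iv5 F348861) (iv0 D124558) D124561 F348875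
theorem F348878 : act 7 n124595 = n146679 := d16_8 F109947 F306682 (iv4 D27715) D27716 D58157 D124588 (iv4 F348875) (iv5 F348873) F229999
theorem F348879 : act 6 n96717 = n124595 := d14_5 F348878 F230000 F109981 D73291 (iv7 F306817)
theorem F348880 : act 1 n145734 = n124595 := d15_1 (iv0 F231632) F348878 F229999
theorem F348881 : act 3 n124595 = n97109 := d7_1 F348879 (iv6 D97109) (iv3 F149124)
theorem E100590 : n112594 = n97109 := ((c20_4 (iv4 F333917) (iv1 F309610) D124595 F348881 (iv1 D112594) F325709 (iv4 F212907) F311296 F309120 F333922 F333916)).symm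
theorem F348882 : act 0 n97109 = n51952 := (sb E100590 (iv1 D112594))
theorem F348883 : act 4 n97110 = n164280 := d20_8 F258907 (iv1 F120108) F337848 (iv3 F217526) (iv1 F337899) F348881 F149847 D97110 (iv3 D164280) (iv1 F258911)
theorem F348884 : act 3 n114175 = n97110 := d5_5 F348883 (iv3 D164280) (iv4 F338544) F338603 (iv4 F177933)
theorem F348885 : act 7 n97110 = n164446 := d8_2 (iv7 F177932) F348884 (iv3 D164446)
theorem E100591 : n109524 = n95598 := (c20_9 F318176 F315996 F319120 (iv3 F319119) (iv1 D45398) (iv3 F71603) (iv4 F149847) F348882 (iv4 F169481) (iv3 D95598) (iv1 F71531))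
theorem F348886 : act 2 n95598 = n50548 := (sb E100591 F169480)
theorem F348887 : act 4 n95598 = n51952 := (sb E100591 F169481)
theorem F348888 : act 6 n95598 = n50528 := (sb E100591 (iv6 D109524))
theorem F348889 : act 7 n132596 = n109567 := d15_2 (iv0 F348882) (iv0 F336920) F169519
theorem F348890 : act 4 n109571 = n132596 := d11_3 F348889 F169520 D109571
theorem F348891 : act 5 n109567 = n132597 := d13_1 F348889 (iv7 D132597) D132596
theorem F348892 : act 1 n132609 = n109567 := d15_1 D132609 (iv7 F348889) F212835
theorem F348893 : act 0 n92466 = n109567 := d21_7 (iv5 F332142) F322464 (iv5 F320259) (iv6 D28837) D28833 D60774 (iv5 F324315) F348891 (iv6 F326077) F326074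
theorem E100592 : n166519 = n132601 := (c21_6 (iv5 F51037) (iv1 D28136) D28137 F320746 D79926 D166519 (iv5 D132601) (iv1 F212842) (iv5 F348891) (iv6 D109567) F79921)
theorem F348894 : act 6 n132601 = n79926 := (sb E100592 (iv6 D166519))
theorem E100593 : n132699 = n132602 := (c12_4 F348894 (iv5 F330774) F330775 (iv5 F324966) (iv6 D132602) D132601)
theorem F348895 : act 0 n132602 = n62274 := (sb E100593 (iv1 D132699))
theorem F348896 : act 1 n132602 = n62281 := (sb E100593 F213034)
theorem F348897 : act 2 n132602 = n62279 := (sb E100593 F325948)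
theorem F348898 : act 5 n132602 = n86260 := (sb E100593 F324966)
theorem F348899 : act 7 n132602 = n62278 := (sb E100593 F325949)
theorem F348900 : act 7 n179267 = n132601 := d14_0 F348894 (iv7 F346931) F347913 (iv7 D179268) D179267
theorem E100594 : n132603 = n132595 := (c13_3 F348900 (iv5 D132601) D132603 F347852)
theorem F348901 : act 2 n132595 = n62219 := (sb E100594 F212844)
theorem F348902 : act 7 n132595 = n62218 := (sb E100594 (iv7 D132603))
theorem E100595 : n132598 = n132594 := (c15_4 (iv0 D132594) D132595 F348902 D132598)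
theorem F348903 : act 2 n132594 = n62218 := (sb E100595 (iv2 D132598))
theorem F348904 : act 7 n132594 = n62219 := (sb E100595 (iv7 F212843))
theorem E100596 : n132719 = n132594 := (c3_1 D132719 F348903 D132602 F348897)
theorem F348905 : act 6 n132594 = n62279 := (sb E100596 (iv6 D132719))
theorem E100597 : n129348 = n62086 := (c21_10 F345866 (iv1 F132210) F326015 (iv6 F348905) (iv1 F212840) F326083 (iv5 D51955) D51953 F325143 D129348 (iv1 F345863))
theorem E100598 : n132347 = n60786 := ((D132347).symm.trans (sb E100597 (iv6 D129348)))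
theorem F348906 : act 6 n60786 = n62086 := (sb E100598 (iv6 D132347))
theorem F348907 : act 5 n112593 = n129571 := d21_2 F326082 D112593 (iv6 D129571) (iv1 F207686) (iv6 F345867) F345866 (iv1 F132210) F326015 (iv6 F348905) (iv1 F212840)
theorem F348908 : act 0 n112593 = n132596 := d21_7 (iv5 F207693) (iv1 D60867) (iv5 D28871) D28872 D60870 D129571 (iv5 F348907) (iv5 D132596) (iv6 D62213) (iv1 F47193)
theorem F348909 : act 0 n130744 = n129571 := d21_10 (iv5 F348907) F348908 (iv5 D132596) (iv6 D62213) (iv1 F47193) D61009 (iv5 F322468) (iv1 F312088) D80313 (iv6 F309524)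
theorem F348910 : act 7 n112593 = n92466 := d15_2 (iv0 F336920) (iv0 F348908) (iv2 F149846)
theorem E100599 : n176381 = n112593 := (c8_4 F348910 (iv3 D92466) F328612 D176381)
theorem F348911 : act 3 n112593 = n84098 := (sb E100599 (iv3 D176381))
theorem E100600 : n129571 = n90508 := ((c13_3 F348910 F324315 (iv7 F324320) (iv5 F348907))).symm
theorem E100601 : n132454 = n130744 := ((F324317).symm.trans (sb E100600 (iv0 F348909)))
theorem F348912 : act 5 n90508 = n112593 := (sb E100600 (iv5 F348907))
theorem E100602 : n132446 = n60870 := ((F324319).symm.trans (sb E100600 (iv6 D129571)))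
theorem F348913 : act 0 n130744 = n90508 := (sb E100601 (iv1 F324317))
theorem F348914 : act 1 n130744 = n62146 := (sb E100601 (iv0 D132454))
theorem E100603 : n129551 = n129321 := (((iv1 F207686)).symm.trans (sb E100602 (iv1 F212523)))
theorem E100605 : n129567 = n129323 := ((D129567).symm.trans (sb E100602 F212520))
theorem F348915 : act 6 n60870 = n90508 := (sb E100602 (iv6 F324319))
theorem E100606 : n129572 = n62141 := ((D129572).symm.trans (sb E100602 (iv7 D132446)))
theorem E100607 : n60871 = n60779 := ((((iv1 D129321)).symm.trans (sb E100603 (iv1 F207685)))).symm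
theorem F348916 : act 1 n129321 = n60870 := (sb E100603 F207686)
theorem F348917 : act 2 n129321 = n60873 := (sb E100603 F207683)
theorem F348918 : act 3 n129321 = n132463 := (sb E100603 (iv3 F212570))
theorem F348919 : act 6 n129321 = n129854 := (sb E100603 (iv6 F345867))
theorem F348920 : act 7 n129321 = n60865 := (sb E100603 (iv7 D129551))
theorem F348921 : act 2 n129323 = n60870 := (sb E100605 (iv2 D129567))
theorem F348922 : act 7 n62141 = n60870 := (sb E100606 (iv7 D129572))
theorem F348923 : act 0 n60779 = n28872 := (sb E100607 (iv1 D60871))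
theorem F348924 : act 2 n112593 = n132609 := d15_3 F348892 (iv0 F348893) (iv7 F348910)
theorem F348925 : act 3 n132609 = n146679 := d0_2 (iv3 F348911) F348924 F229999 (iv3 F337900) F328613
theorem F348926 : act 5 n132609 = n132457 := d2_2 F348912 F348924 (iv2 F324318)
theorem F348927 : act 7 n132609 = n97109 := d4_2 (iv7 F348910) F348924 F149846
theorem F348928 : act 4 n97113 = n132609 := d11_3 F348927 F149847 D97113
theorem F348929 : act 6 n153903 = n132609 := d14_5 F348927 (iv6 D97109) F71602 (iv6 F308644) (iv7 F241877)
theorem E100612 : n132608 = n92466 := ((c15_4 (iv0 D132608) D132609 F348927 F149846)).symm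
theorem F348930 : act 1 n92466 = n62220 := (sb E100612 (iv0 D132608))
theorem E100613 : n132610 = n97061 := (c20_9 F315993 D60312 F319352 (iv3 F320368) (iv1 F71614) (iv3 F149850) F348928 (iv1 D132609) D132610 (iv3 D97061) (iv1 D45370))
theorem F348931 : act 4 n97061 = n62220 := (sb E100613 (iv4 D132610))
theorem E100614 : n109558 = n95649 := ((c20_5 (iv4 F324997) F315256 F58266 (iv3 F70251) D95649 F169511 (iv4 F169520) (iv1 F348892) (iv4 F348928) F149850 (iv1 F71613))).symm
theorem F348932 : act 3 n95649 = n50548 := (sb E100614 F169511)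
theorem F348933 : act 6 n95649 = n50543 := (sb E100614 (iv6 D109558))
theorem F348934 : act 5 n174714 = n95649 := d12_5 F348933 (iv5 D50543) (iv6 F325202) (iv5 F128580) D174714
theorem F348935 : act 3 n109570 = n174714 := d6_3 F348934 F348932 D109570
theorem F348936 : act 4 n174714 = n141984 := d19_2 D95649 (iv5 F348934) F225012 D141986 F225014 F216978 F98662 (iv1 F93994) F111401 (iv4 F103808) F319576 D70971 (iv5 F320687) D77705 (iv3 F309886) F316299 (iv5 D81667) F58266 (iv3 F70251)
theorem F348937 : act 6 n162663 = n95628 := d21_3 F271771 (iv1 F298766) D162663 F147307 (iv6 F147348) (iv5 D95651) D95649 (iv5 F348934) (iv6 D174714) (iv1 F271769)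
theorem F348938 : act 3 n95630 = n162663 := d7_3 F348937 (iv3 D95628) D95630
theorem F348939 : act 3 n174606 = n95626 := d8_3 (iv7 F328311) F348938 F301429
theorem F348940 : act 6 n141984 = n173309 := d10_2 D174714 F348936 F271724
theorem F348941 : act 2 n174590 = n141984 := d3_3 F348940 F271723 D174590
theorem F348942 : act 3 n173309 = n141989 := d7_1 F348940 (iv6 D141989) (iv3 F225012)
theorem F348943 : act 5 n173292 = n141985 := d12_3 F348940 (iv5 D173309) (iv6 F271684) (iv6 D141985) D141984
theorem F348944 : act 2 n141985 = n174502 := d2_1 F348943 (iv5 D174502) (iv2 F271683)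
theorem F348945 : act 3 n141991 = n173292 := d6_3 F348943 F225013 D141991
theorem F348946 : act 6 n173308 = n141991 := d7_0 F348945 F271684 D173308
theorem F348947 : act 5 n141989 = n173308 := d12_5 F348946 (iv5 D141991) (iv6 D66569) D66568 D141989
theorem F348948 : act 6 n174502 = n141983 := d3_2 D141985 F348944 (iv2 D141983)
theorem F348949 : act 5 n141983 = n174590 := d12_1 F348948 (iv6 D174590) (iv5 D83429) (iv6 F128509) D174502
theorem F348950 : act 7 n141989 = n174709 := d8_2 F271725 F348942 (iv3 D174709)
theorem F348951 : act 6 n174709 = n111589 := d14_1 F348950 (iv7 F202538) F343792 F224890 D141989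
theorem F348952 : act 3 n111589 = n174710 := d7_1 F348951 (iv6 D174710) D174709
theorem F348953 : act 2 n109571 = n97061 := d1_3 F348931 (iv2 F212835) (iv4 F348890)
theorem F348954 : act 7 n95598 = n97061 := d11_0 F348931 F326515 (iv4 F348887)
theorem E100615 : n97055 = n44648 := (c8_3 F348954 (iv3 D97061) F149721 D95598)
theorem E100616 : n95597 = n45369 := ((D95597).symm.trans (sb E100615 (iv2 D97055)))
theorem E100617 : n95602 = n45370 := ((D95602).symm.trans (sb E100615 (iv7 F149721)))
theorem F348955 : act 2 n45369 = n44648 := (sb E100616 (iv2 D95597))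
theorem E100618 : n97060 = n44649 := ((D97060).symm.trans (sb E100616 (iv7 F147275)))
theorem F348956 : act 7 n45370 = n44648 := (sb E100617 (iv7 D95602))
theorem F348957 : act 2 n44649 = n45370 := (sb E100618 F149723)
theorem F348958 : act 7 n44649 = n45369 := (sb E100618 (iv7 D97060))
theorem F348959 : act 1 n109569 = n97061 := d15_1 D109569 (iv7 F348954) F348886
theorem F348960 : act 7 n97056 = n95603 := d8_2 F348958 D97056 (iv3 D95603)
theorem E100619 : n96688 = n95604 := (c11_3 F348958 (iv4 F320362) (iv7 F314789) (iv4 D95604))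
theorem F348961 : act 0 n95604 = n45166 := (sb E100619 (iv1 D96688))
theorem F348962 : act 1 n95604 = n72811 := (sb E100619 F314784)
theorem F348963 : act 2 n95604 = n73246 := (sb E100619 F314785)
theorem F348964 : act 3 n95604 = n55163 := (sb E100619 F314786)
theorem F348965 : act 5 n95604 = n147802 := (sb E100619 F314787)
theorem F348966 : act 6 n95604 = n68894 := (sb E100619 F314788)
theorem F348967 : act 7 n95604 = n73245 := (sb E100619 F314789)
theorem F348968 : act 7 n97058 = n95605 := d13_2 F348958 D97058 (iv5 D95605)
theorem E100620 : n127492 = n95606 := (c10_2 F348966 (iv4 F332624) (iv6 D95606) D95604)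
theorem F348969 : act 0 n95606 = n59880 := (sb E100620 (iv1 D127492))
theorem F348970 : act 2 n95606 = n97064 := (sb E100620 F332623)
theorem F348971 : act 4 n95606 = n68894 := (sb E100620 F332624)
theorem F348972 : act 7 n95606 = n147260 := (sb E100620 F332625)
theorem E100621 : n146974 = n142828 := (c21_7 (iv5 D169961) F297771 (iv5 F310252) (iv6 F312408) (iv1 F348962) F348966 D146974 (iv1 F334475) (iv5 D97287) D97288 F334470)
theorem F348973 : act 2 n142828 = n139705 := (sb E100621 (iv2 F315690))
theorem F348974 : act 3 n142828 = n68896 := (sb E100621 F230364)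
theorem F348975 : act 4 n142828 = n133443 := (sb E100621 (iv4 F335842))
theorem F348976 : act 5 n142828 = n68894 := (sb E100621 (iv5 D146974))
theorem F348977 : act 6 n142828 = n72841 := (sb E100621 (iv6 F230365))
theorem F348978 : act 7 n142828 = n145522 := (sb E100621 (iv7 F335132))
theorem F348979 : act 0 n133443 = n115204 := d17_0 (iv5 D115204) D115200 (iv5 F338620) F232138 F315594 (iv0 F334458) D97287 F334475 F348975
theorem F348980 : act 3 n114951 = n142827 := d20_5 F83918 (iv1 F166306) F166309 (iv3 F333211) (iv1 F179026) F225722 D142828 F348975 F214576 F97686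
theorem F348981 : act 3 n146275 = n117364 := d20_5 F178973 (iv1 F163439) (iv4 F179028) F348980 F335126 F183802 (iv1 F183711) F335163 F251259 (iv1 F178977)
theorem E100622 : n176327 = n146273 := ((c20_2 (iv4 D146275) D146273 F275635 (iv3 D84095) (iv1 F128911) (iv3 F335160) F178973 (iv1 F163439) (iv4 F179028) F348980 F335126)).symm
theorem F348982 : act 3 n146273 = n84083 := (sb E100622 (iv3 D176327))
theorem F348983 : act 4 n146273 = n84095 := (sb E100622 F275635)
theorem E100623 : n146273 = n97245 := ((c1_4 F348983 (iv2 F335810) F339805 (iv2 F336838))).symm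
theorem F348984 : act 1 n97245 = n68593 := (sb E100623 (iv0 D146273))
theorem F348985 : act 3 n97245 = n84083 := (sb E100623 F348982)
theorem F348986 : act 4 n97245 = n84095 := (sb E100623 F348983)
theorem F348987 : act 6 n119970 = n97245 := d10_0 F348986 (iv6 F327764) (iv4 F335779)
theorem E100624 : n173739 = n142844 := (c11_3 (iv7 F336839) F348986 (iv7 F272307) F335838)
theorem F348988 : act 3 n142844 = n83084 := (sb E100624 (iv3 D173739))
theorem F348989 : act 7 n142844 = n84095 := (sb E100624 F272307)
theorem E100625 : n176367 = n130655 := (c18_3 (iv1 F348984) F348986 D176367 (iv4 F335849) F335130 D147260 (iv0 F230857) F204884 F188389 D68593)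
theorem F348990 : act 1 n130655 = n84095 := (sb E100625 (iv0 D176367))
theorem F348991 : act 0 n106533 = n131952 := d17_2 D106793 F340423 F211424 F163708 D130655 F348990 (iv5 F321099) F211590 F83928
theorem E100626 : n142844 = n115209 := ((c13_4 F348989 (iv5 F321099) (iv7 F179412) D115209)).symm
theorem F348992 : act 0 n115209 = n133443 := (sb E100626 F335837)
theorem F348993 : act 3 n115209 = n83084 := (sb E100626 F348988)
theorem F348994 : act 4 n115209 = n81705 := (sb E100626 F335838)
theorem F348995 : act 6 n115209 = n66953 := (sb E100626 (iv6 D142844))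
theorem F348996 : act 7 n115209 = n84095 := (sb E100626 F348989)
theorem F348997 : act 0 n170443 = n148353 := d17_0 F338620 (iv1 F179411) D115209 F348994 (iv5 D81705) (iv0 D37343) D37345 D81713 D170443
theorem E100627 : n170443 = n115214 := (c15_1 (iv0 F348997) (iv0 D115214) D115218 F332569)
theorem F348998 : act 0 n115214 = n148353 := (sb E100627 F348997)
theorem F348999 : act 4 n115214 = n81713 := (sb E100627 (iv4 D170443))
theorem F349000 : act 1 n115215 = n148353 := d15_0 (iv0 F348998) F335823 (iv2 F335813)
theorem F349001 : act 6 n130655 = n142080 := d21_3 (iv5 F335820) (iv1 D130653) D130655 (iv1 F225100) (iv6 F324176) (iv5 F125653) (iv1 F297919) F317908 D148353 (iv1 F349000)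
theorem F349002 : act 3 n142080 = n130657 := d7_1 F349001 (iv6 D130657) (iv3 F209225)
theorem F349003 : act 6 n116627 = n152230 := d14_3 F214577 F349001 (iv7 F225101) F339332 F335839
theorem F349004 : act 0 n142091 = n149726 := d21_1 D142091 (iv5 D149726) (iv6 D70328) (iv1 F106557) (iv6 F335816) (iv5 F335820) (iv1 D130653) D130655 F349001 (iv1 F225100)
theorem F349005 : act 1 n142083 = n149726 := d15_0 (iv0 F349004) F225123 (iv2 F225108)
theorem F349006 : act 6 n128128 = n142081 := d3_2 F349003 (iv2 F339352) (iv2 F225106)
theorem F349007 : act 3 n152233 = n116627 := d7_3 F349003 (iv3 D152230) D152233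
theorem E100628 : n170447 = n164236 := (c20_4 F348999 (iv1 D81713) D81714 D170447 (iv1 D164236) F120078 (iv4 F326284) (iv1 F83942) (iv4 D53161) (iv3 F83930) D115214)
theorem F349008 : act 1 n164236 = n173656 := (sb E100628 (iv0 F335186))
theorem F349009 : act 3 n164236 = n81714 := (sb E100628 (iv3 D170447))
theorem F349010 : act 4 n164236 = n142650 := (sb E100628 (iv4 F335181))
theorem F349011 : act 5 n164236 = n115173 := (sb E100628 F335183)
theorem F349012 : act 6 n164236 = n81747 := (sb E100628 F267897)
theorem F349013 : act 0 n146556 = n170546 := d21_1 D146556 (iv5 D170546) (iv6 F349012) (iv1 D164236) (iv6 D78898) (iv5 D35917) F28350 D34957 D76527 (iv1 F316588)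
theorem F349014 : act 2 n176020 = n164236 := d2_3 F349011 F218077 (iv5 F335034)
theorem F349015 : act 3 n115173 = n170448 := d6_1 F349011 (iv5 D170448) (iv3 F349009)
theorem F349016 : act 1 n141475 = n164234 := d18_6 (iv1 D115173) F83887 D63825 D135742 (iv5 F336847) (iv4 F336849) F258865 D164236 F349011
theorem F349017 : act 6 n92706 = n115108 := d21_9 (iv5 F349011) (iv1 D164236) F326294 (iv6 F326621) F120082 D127473 F204900 F290150 D92706 (iv1 F179338)
theorem F349018 : act 6 n146372 = n115173 := d21_5 (iv5 D59871) F45967 D31935 D68633 D146372 (iv5 F349011) (iv1 D164236) F326294 (iv6 F326621) F120082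
theorem F349019 : act 4 n105364 = n146372 := d10_3 F349018 (iv4 F218039) (iv6 F333517)
theorem F349020 : act 7 n135747 = n146372 := d14_0 F349018 F218075 F333240 (iv7 F333489) D135747
theorem E100629 : n135747 = n113970 := ((c11_4 F349020 (iv4 F349019) F193486 D113970)).symm
theorem F349021 : act 6 n113970 = n63826 := (sb E100629 (iv6 D135747))
theorem F349022 : act 7 n113970 = n146372 := (sb E100629 F349020)
theorem F349023 : act 2 n135541 = n113970 := d3_3 F349021 (iv2 F333490) D135541
theorem F349024 : act 6 n135745 = n106255 := d7_2 F349021 D135745 (iv3 F336820)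
theorem F349025 : act 4 n106255 = n113976 := d10_1 F349024 F347554 F218452
theorem F349026 : act 4 n113969 = n135541 := d1_0 F349023 (iv4 D113970) D113969
theorem F349027 : act 6 n135539 = n113969 := d10_0 F349026 (iv6 D135541) D135539
theorem F349028 : act 0 n117329 = n113969 := d21_4 (iv5 D26163) D26161 D54075 D117329 (iv6 F349027) F333164 (iv1 D76367) D76368 F114482 F55203
theorem F349029 : act 1 n151397 = n114928 := d18_6 F349028 F349026 F335888 (iv4 F229702) F337569 (iv4 F238117) (iv4 D114928) (iv0 F258991) (iv5 F183723)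
theorem F349030 : act 1 n117329 = n105364 := d15_1 (iv0 F349028) F193486 D113969
theorem F349031 : act 1 n146435 = n113969 := d15_0 (iv0 F349028) (iv7 F336817) F336812
theorem F349032 : act 1 n105364 = n146435 := d15_0 F349031 (iv7 F336810) (iv2 F336805)
theorem F349033 : act 4 n151401 = n105471 := d17_4 F335888 F104831 D71365 D151401 (iv5 D105471) F258989 (iv5 F229771) F349031 F349026
theorem F349034 : act 0 n135872 = n135541 := d20_10 (iv4 F349026) (iv1 F349031) F335971 F336459 (iv1 F99352) F99142 F83862 (iv1 F48441) D63891 D135872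
theorem F349035 : act 1 n135872 = n146372 := d15_1 (iv0 F349034) (iv7 F349022) (iv2 F349023)
theorem F349036 : act 2 n146371 = n135872 := d15_3 F349035 (iv0 D146372) (iv7 F337570)
theorem F349037 : act 5 n135872 = n118650 := d2_2 (iv5 F337569) F349036 F186613
theorem F349038 : act 6 n135872 = n117302 := d3_2 D146371 F349036 F183650
theorem F349039 : act 3 n117302 = n135874 := d7_1 F349038 (iv6 D135874) D135872
theorem F349040 : act 3 n146798 = n134508 := d20_5 (iv4 D113893) F85339 F335945 (iv3 F105015) D146798 F216461 F99365 (iv4 F218540) (iv3 F349039) F183652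
theorem F349041 : act 6 n134506 = n146798 := d7_0 F349040 (iv6 D134508) D134506
theorem F349042 : act 4 n118650 = n114931 := d16_6 (iv4 F134117) (iv5 F305317) F186611 (iv5 F183655) F328366 F349037 (iv5 F336784) (iv7 D182986) F134115
theorem F349043 : act 4 n151406 = n114929 := d17_4 (iv1 F349035) F349037 (iv1 F186616) D151406 (iv5 D114929) (iv0 F258991) (iv5 F183723) F349030 F349019
theorem F349044 : act 0 n113970 = n117303 := d18_2 F336818 D113970 F328366 F349037 F349042 (iv0 D114931) (iv4 D53033) F259135 (iv5 F104869)
theorem E100630 : n151405 = n99649 := (c18_2 (iv1 F186616) D151405 F153396 (iv4 F309259) (iv5 F183723) (iv4 F335971) F349031 F349026 (iv0 F349034) F349037)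
theorem F349045 : act 4 n99649 = n71366 := (sb E100630 (iv4 D151405))
theorem F349046 : act 5 n151397 = n170897 := d9_12 (iv5 F349037) (iv4 F328366) F183655 (iv4 F186611) F305317 F134117 (iv5 F302945) F107861 (iv5 F104831) (iv4 F229702) F337569 (iv4 F238117) (iv4 F284580) F336784 (iv4 F349042)
theorem F349047 : act 2 n151397 = n114931 := d16_9 (iv4 F349042) (iv5 F349037) (iv4 F328366) F183655 (iv4 F186611) F305317 F134117 (iv5 F302945) D151397
theorem F349048 : act 6 n114931 = n151332 := d3_2 (iv6 F238118) F349047 F238051
theorem F349049 : act 1 n114928 = n118647 := d15_1 F349029 (iv7 F336786) (iv2 F349047)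
theorem E100631 : n182983 = n98307 := (c18_1 D182983 F151729 (iv1 F136195) F63918 (iv5 F136208) (iv4 F309294) (iv0 F258990) D114928 F349049 F305317)
theorem F349050 : act 0 n98307 = n170897 := (sb E100631 (iv1 F284581))
theorem F349051 : act 1 n98307 = n87358 := (sb E100631 (iv0 D182983))
theorem E100632 : n186458 = n182984 := ((c15_2 F349051 D182984 F289304 F151730)).symm
theorem F349052 : act 2 n182984 = n88827 := (sb E100632 F289303)
theorem F349053 : act 4 n182984 = n88811 := (sb E100632 (iv4 D186458))
theorem F349054 : act 7 n182984 = n88822 := (sb E100632 F289304)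
theorem F349055 : act 5 n186501 = n113970 := d16_3 (iv4 D88827) D88828 D186501 (iv4 D113970) D113971 F336819 (iv5 D186487) (iv7 F349054) F349052
theorem F349056 : act 2 n159914 = n186501 := d2_3 F349055 (iv2 F349023) F335889
theorem E100633 : n186506 = n118648 := ((c17_9 (iv1 F309261) F309264 (iv1 F136196) D88828 D186501 F349055 (iv0 F339458) F337569 F186615 (iv4 D186506))).symm
theorem F349057 : act 4 n118648 = n88830 := (sb E100633 (iv4 D186506))
theorem F349058 : act 0 n113971 = n175675 := d18_0 F336807 (iv1 F289357) D186501 F349055 (iv4 D113970) (iv0 F336818) (iv4 F336814) (iv0 D113967) D113971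
theorem F349059 : act 6 n121367 = n186501 := d21_5 F86354 (iv1 F43593) D27007 D55991 D121367 F349055 F349044 F183655 (iv6 D54632) D54630
theorem E100634 : n159910 = n121367 := (c3_4 F349059 (iv2 F349056) (iv6 D159914) D159910)
theorem F349060 : act 2 n121367 = n76553 := (sb E100634 (iv2 D159910))
theorem F349061 : act 7 n121367 = n76554 := (sb E100634 (iv7 F252179))
theorem F349062 : act 4 n186502 = n121367 := d10_3 F349059 (iv4 D186501) D186502
theorem F349063 : act 2 n151576 = n186502 := d1_3 F349062 F349060 (iv4 F335191)
theorem F349064 : act 7 n151577 = n186502 := d11_0 F349062 F349061 (iv4 F342710)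
theorem E100635 : n186502 = n154254 := (c20_3 F90553 D121367 (iv4 F349062) F342703 (iv1 F246116) F332244 (iv4 D175159) (iv1 F128714) (iv4 F128794) (iv3 F332645) (iv1 D123228))
theorem F349065 : act 2 n154254 = n151576 := (sb E100635 (iv2 F349063))
theorem F349066 : act 4 n154254 = n121367 := (sb E100635 F349062)
theorem F349067 : act 6 n154254 = n88828 := (sb E100635 (iv6 D186502))
theorem F349068 : act 7 n154254 = n151577 := (sb E100635 (iv7 F349064))
theorem F349069 : act 2 n151577 = n154255 := d15_3 F242368 F242376 F349068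
theorem F349070 : act 7 n151576 = n154255 := d4_2 (iv7 F349068) F349065 (iv2 F349069)
theorem F349071 : act 4 n154255 = n159915 := d11_1 F349070 (iv7 D159915) (iv4 F335191)
theorem F349072 : act 3 n159915 = n176020 := d20_3 (iv4 F238469) (iv1 F242368) F349071 (iv1 D176020) (iv3 D83984) (iv4 D38681) (iv1 D18400) D18401 D38686 (iv1 F336794)
theorem E100636 : n159915 = n121368 := ((c20_11 (iv4 F349071) (iv1 D154255) F109600 (iv3 F56676) (iv1 F328839) (iv3 F83859) (iv4 F324669) F155295 (iv4 F314526) F252145 (iv1 F193598))).symm
theorem F349073 : act 2 n121368 = n76554 := (sb E100636 F252181)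
theorem F349074 : act 3 n121368 = n176020 := (sb E100636 F349072)
theorem F349075 : act 4 n121368 = n154255 := (sb E100636 (iv4 F349071))
theorem F349076 : act 7 n121368 = n76553 := (sb E100636 (iv7 D159915))
theorem F349077 : act 7 n159911 = n176020 := d8_2 F349076 D159911 (iv3 F349074)
theorem F349078 : act 2 n159911 = n176019 := d15_3 (iv0 D176019) D176020 (iv7 F349077)
theorem F349079 : act 4 n176019 = n117907 := d1_2 (iv4 F335180) F349078 (iv2 F333254)
theorem F349080 : act 5 n176019 = n115107 := d2_2 F336874 F349078 F218076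
theorem F349081 : act 7 n176019 = n164236 := d4_2 (iv7 F349077) F349078 (iv2 F349014)
theorem F349082 : act 3 n114018 = n176019 := d8_3 F349081 F349009 F311005
theorem F349083 : act 0 n176019 = n115099 := d20_4 F178627 F308836 (iv4 F308841) F349082 F179233 (iv4 F97573) F97574 (iv4 F83947) (iv3 F179422) F332571
theorem F349084 : act 3 n159635 = n135633 := d19_11 F349083 (iv5 D115099) F83837 (iv3 D30072) (iv1 F46721) D61427 (iv4 F96811) (iv3 F212402) (iv1 F212404) (iv5 F203428) F341607 F218118 F333165 F230422 (iv3 D97238) (iv1 F71701) (iv5 F125632) (iv4 F308841) F349082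
theorem F349085 : act 1 n176020 = n115099 := d15_0 (iv0 F349083) F349081 (iv2 F349014)
theorem F349086 : act 0 n159611 = n117907 := d18_2 (iv1 D159613) (iv4 F251434) (iv4 F349079) F349080 F218074 F218115 F218116 (iv0 F333504) (iv5 F336823)
theorem F349087 : act 6 n115109 = n114073 := d21_3 F349080 (iv1 D115107) D115109 F333302 (iv6 D69788) (iv5 D32405) F43625 D55990 (iv6 F323370) D176019
theorem F349088 : act 6 n117905 = n176019 := d21_5 F106192 (iv1 F337227) D92451 F339594 F339592 F349080 (iv1 D115107) D115109 F349087 F333302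
theorem F349089 : act 5 n135549 = n135506 := d21_2 D63735 D135549 F335894 F162409 (iv6 F324716) F319756 D176019 F349080 F333240 (iv1 D63733)
theorem E100637 : n135549 = n105752 := ((c2_4 F349089 F217911 D135509 F335890)).symm
theorem F349090 : act 0 n105752 = n135748 := (sb E100637 (iv1 F218283))
theorem F349091 : act 1 n105752 = n63735 := (sb E100637 (iv0 D135549))
theorem F349092 : act 3 n105752 = n63808 := (sb E100637 F218195)
theorem F349093 : act 5 n105752 = n135506 := (sb E100637 F349089)
theorem F349094 : act 3 n135506 = n135701 := d6_1 F349093 (iv5 D135701) (iv3 F349092)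
theorem F349095 : act 7 n135504 = n105752 := d13_0 F349093 (iv7 D135506) D135504
theorem E100638 : n135506 = n63808 := (c17_8 D115162 F339420 F323486 (iv5 F317535) F179335 D135748 (iv0 F349090) F349093 (iv0 D63808) (iv4 F83864))
theorem E100639 : n135698 = n63716 := ((D135698).symm.trans (sb E100638 F217911))
theorem E100640 : n135701 = n105752 := ((((iv3 F349092)).symm.trans (sb E100638 F349094))).symm
theorem E100641 : n135702 = n105750 := ((D135702).symm.trans (sb E100638 F335894))
theorem E100642 : n135703 = n63715 := ((D135703).symm.trans (sb E100638 (iv7 D135506)))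
theorem F349096 : act 2 n63716 = n63808 := (sb E100639 (iv2 D135698))
theorem E100643 : n135501 = n63809 := ((F217910).symm.trans (sb E100639 (iv7 F218193)))
theorem F349097 : act 5 n105752 = n63808 := (sb E100640 (iv5 D135701))
theorem F349098 : act 6 n105750 = n63808 := (sb E100641 (iv6 D135702))
theorem F349099 : act 7 n63715 = n63808 := (sb E100642 (iv7 D135703))
theorem F349100 : act 2 n63809 = n63715 := (sb E100643 (iv2 D135501))
theorem F349101 : act 7 n63809 = n63716 := (sb E100643 (iv7 F217910))
theorem E100644 : n146322 = n135554 := (c21_4 (iv5 D59814) (iv1 F94192) (iv5 F104820) D146322 (iv1 D135554) (iv6 D63736) D63735 (iv1 F349091) F349097 (iv6 F349098) F162409)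
theorem F349102 : act 2 n135554 = n159869 := (sb E100644 (iv2 F252049))
theorem F349103 : act 6 n135554 = n68616 := (sb E100644 (iv6 D146322))
theorem F349104 : act 7 n135507 = n135704 := d8_2 F349101 D135507 (iv3 D135704)
theorem F349105 : act 7 n135508 = n135705 := d11_2 F349101 D135508 (iv4 D135705)
theorem F349106 : act 7 n135509 = n135706 := d13_2 F349101 D135509 (iv5 D135706)
theorem F349107 : act 7 n100341 = n135707 := d14_4 F349101 (iv6 F335893) (iv7 F163256) F163255 (iv6 D135707)
theorem F349108 : act 5 n135707 = n92703 := d13_1 F349107 F290209 D100341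
theorem F349109 : act 2 n102562 = n135707 := d2_3 F349108 (iv2 F156148) D102562
theorem E100645 : n135505 = n102562 := (c3_1 D135505 F349109 (iv6 D135707) F349100)
theorem F349110 : act 6 n102562 = n63715 := (sb E100645 (iv6 D135505))
theorem F349111 : act 7 n127473 = n102562 := d4_0 F349109 (iv7 F349107) (iv2 F204898)
theorem F349112 : act 1 n100341 = n90503 := d15_0 (iv0 F157526) (iv7 F349111) F204898
theorem F349113 : act 5 n115110 = n92705 := d21_6 D135708 (iv1 F218200) F218080 (iv6 F333240) (iv1 D115107) D115110 (iv1 F142890) D102562 F349110 (iv1 F99181)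
theorem F349114 : act 2 n92706 = n115110 := d2_3 F349113 (iv2 D92705) D92706
theorem F349115 : act 7 n102564 = n115110 := d13_0 F349113 F142888 D102564
theorem F349116 : act 4 n102600 = n135555 := d16_2 D47587 D102600 (iv5 D135555) (iv4 F179256) F349113 F142887 D99822 F153682 F74840
theorem F349117 : act 0 n113896 = n115110 := d21_10 F349113 (iv1 F142890) D102562 F349110 (iv1 F99181) (iv6 F327875) (iv5 F231791) (iv1 F231793) (iv5 D113895) D113896
theorem F349118 : act 0 n115109 = n117324 := d21_7 (iv5 F231791) (iv1 F231793) (iv5 D113895) D113896 F349117 (iv6 D115110) D115109 (iv5 F339420) F339421 (iv1 F183737)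
theorem E100646 : n113896 = n102566 := (c15_1 (iv0 F349117) (iv0 D102566) (iv7 F142892) F349114)
theorem F349119 : act 0 n102566 = n115110 := (sb E100646 F349117)
theorem F349120 : act 4 n102566 = n52585 := (sb E100646 F177198)
theorem F349121 : act 6 n102566 = n52584 := (sb E100646 (iv6 D113896))
theorem F349122 : act 4 n113897 = n90527 := d18_3 D102566 F349120 D113897 (iv5 D90527) D90526 (iv0 F290148) F153294 (iv0 F290205) D47572
theorem F349123 : act 1 n115109 = n117364 := d15_1 (iv0 F349118) (iv7 D117364) (iv2 F183709)
theorem F349124 : act 2 n117362 = n115109 := d15_3 F349123 F323485 (iv7 F323490)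
theorem E100647 : n135706 = n135550 := (c17_2 (iv1 F99182) D135706 (iv1 D135550) (iv5 D63735) (iv4 F83847) D115109 F349123 (iv5 F339428) F179311 F179232)
theorem F349125 : act 5 n135550 = n63809 := (sb E100647 (iv5 D135706))
theorem F349126 : act 7 n135550 = n135509 := (sb E100647 (iv7 F349106))
theorem F349127 : act 2 n135504 = n135550 := d4_3 F349126 F335890 (iv7 F349095)
theorem F349128 : act 2 n135556 = n102568 := d16_9 (iv4 D102568) (iv5 D47572) F35573 D22883 D47587 D102600 F349116 (iv5 D135555) D135556
theorem F349129 : act 4 n102564 = n135556 := d1_0 F349128 (iv4 D102568) (iv2 F157527)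
theorem F349130 : act 7 n102568 = n135548 := d4_2 D135556 F349128 F217974
theorem F349131 : act 1 n102568 = n135553 := d15_0 (iv0 D135553) D135556 F349128
theorem F349132 : act 4 n104356 = n135553 := d20_6 (iv4 F135469) (iv1 D88489) (iv4 D41304) (iv3 F36549) D48293 D104356 (iv1 F349131) (iv4 D102568) F74812 D47574
theorem F349133 : act 7 n135553 = n159869 := d11_2 F160055 F349132 F335959
theorem F349134 : act 3 n92737 = n115113 := d20_3 D92758 (iv1 F159991) F159993 (iv1 D115113) (iv3 F179255) F179256 D135553 (iv4 F349132) (iv3 D104356) (iv1 F75902)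
theorem E100648 : n134248 = n104363 := (c5_6 F159993 F349134 (iv4 F211407) (iv3 D131929) (iv4 F180509) D134248)
theorem F349135 : act 3 n104363 = n63063 := (sb E100648 (iv3 D134248))
theorem F349136 : act 5 n115113 = n94049 := d6_2 (iv5 F142995) F349134 F144893
theorem F349137 : act 3 n115116 = n185753 := d20_3 F83850 D53119 D115116 (iv1 F288046) F143044 D92758 (iv1 F159991) F159993 F349134 (iv1 D115113)
theorem F349138 : act 3 n113927 = n115127 := d20_5 D92738 (iv1 F144772) (iv4 D93949) (iv3 F144767) F283807 (iv4 F203286) F211408 F211407 (iv3 F349134) (iv1 D92737)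
theorem E100649 : n113924 = n113849 := ((c7_3 D113927 F349138 (iv6 F327977) (iv3 D113924))).symm
theorem F349139 : act 3 n113849 = n52595 := (sb E100649 (iv3 D113924))
theorem F349140 : act 4 n185753 = n131960 := d5_2 D115116 F349137 (iv3 D131960) F165525 (iv3 F165527)
theorem F349141 : act 6 n185753 = n134509 := d7_2 (iv6 F179268) F349137 (iv3 D134509)
theorem E100650 : n185854 = n134482 := (c8_3 (iv7 F179269) F349137 (iv7 F344298) (iv3 D134482))
theorem F349142 : act 0 n134482 = n90456 := (sb E100650 (iv1 F288282))
theorem F349143 : act 1 n134482 = n88520 := (sb E100650 (iv0 D185854))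
theorem F349144 : act 2 n134482 = n185754 := (sb E100650 (iv2 F344299))
theorem F349145 : act 7 n134482 = n185753 := (sb E100650 F344298)
theorem F349146 : act 0 n113310 = n185755 := d20_10 (iv4 D185755) D185753 F349140 (iv3 D131960) (iv1 F164161) (iv3 F345935) (iv4 D113908) (iv1 D52587) (iv4 F82682) (iv3 F176515)
theorem F349147 : act 5 n139472 = n185524 := d19_9 F145642 (iv5 F349136) (iv4 F211407) (iv3 D131929) (iv1 D61905) (iv5 F50022) F50021 (iv3 F101161) D139472 (iv4 D185524) F135343 (iv1 F133369) (iv5 D86916) F61388 F31154 D20387 D43222 (iv4 F69484) D94457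
theorem F349148 : act 0 n90807 = n92974 := d21_7 (iv5 F349136) (iv1 D115113) (iv5 F324891) D92728 (iv1 F143475) (iv6 D90808) D90807 F294201 (iv6 F294202) F145642
theorem F349149 : act 1 n93434 = n101200 := d17_6 (iv1 F138956) D90807 F349148 F294201 D100697 F293946 (iv5 D101200) F143951 F143947
theorem F349150 : act 5 n89589 = n100364 := d21_6 D90807 F349148 F294201 (iv6 F294202) F145642 F291267 (iv1 F239759) F239757 (iv6 F142702) (iv1 F138956)
theorem F349151 : act 4 n100364 = n184470 := d9_1 F349150 F286368 (iv4 F142698) (iv5 F239757) F345124 F154644 F345033 F345134 (iv4 D87995) (iv5 D41079) (iv4 F62309) D87972 (iv4 F345130) (iv5 F291847) F139707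
theorem E100651 : n184517 = n103945 := (c17_8 (iv1 F295344) F349150 (iv1 F239759) F239757 F142698 (iv5 F286368) F286371 D184517 (iv0 D103945) F75619)
theorem F349152 : act 5 n103945 = n87993 := (sb E100651 (iv5 D184517))
theorem F349153 : act 4 n100848 = n100797 := d19_10 (iv1 F295344) F349150 F349151 (iv3 F337437) F337435 (iv5 F329817) (iv4 D139590) (iv3 F329813) (iv1 F294158) F294160 F154894 (iv1 F149615) (iv5 D97006) F71461 F291360 F291290 (iv5 F291293) F291292 D46953
theorem F349154 : act 7 n103905 = n100848 := d11_0 F349153 F154895 D103905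
theorem F349155 : act 4 n104140 = n103315 := d16_4 F349153 (iv5 D100797) (iv4 F75735) D104140 F158555 F293559 F292892 (iv7 F294163) F294162
theorem F349156 : act 3 n103800 = n100850 := d20_5 (iv4 F159220) (iv1 F159222) (iv4 D48061) (iv3 F75519) D103800 (iv4 D100850) D100848 F349153 F154894 (iv1 F149615)
theorem F349157 : act 5 n100850 = n144263 := d6_2 (iv5 F295849) F349156 (iv3 D144263)
theorem F349158 : act 6 n100850 = n141283 := d7_2 (iv6 F295850) F349156 (iv3 D141283)
theorem E100652 : n184321 = n103904 := ((c11_3 (iv7 F159629) F349155 (iv7 F159335) (iv4 D184321))).symm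
theorem F349159 : act 4 n103904 = n87913 := (sb E100652 (iv4 D184321))
theorem F349160 : act 4 n100240 = n100798 := d16_6 (iv4 F75735) D104140 F349155 F158555 F293559 F292892 (iv5 D100798) (iv7 F148292) (iv2 F148290)
theorem F349161 : act 2 n103905 = n100240 := d1_3 F349160 F154896 D103905
theorem F349162 : act 3 n152560 = n100561 := d19_15 (iv1 F148298) D100798 (iv4 F349160) (iv3 D100240) (iv1 D46777) (iv5 D22438) (iv4 D10666) F65671 (iv1 F291343) (iv5 D9758) D9757 D20586 (iv1 F68395) (iv5 F108453) (iv4 F239748) F329999 (iv5 F335360) (iv4 F158524) F158523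
theorem F349163 : act 6 n100561 = n152558 := d7_2 D152560 F349162 (iv3 D152558)
theorem F349164 : act 7 n100574 = n152560 := d8_0 F349162 (iv7 F285127) F285126
theorem F349165 : act 0 n128516 = n101110 := d20_7 (iv4 F345121) (iv1 D152562) (iv4 F239748) F349162 F329999 D119218 (iv4 F206683) (iv4 D101110) D101109 (iv1 F155773)
theorem F349166 : act 3 n119215 = n171107 := d20_3 (iv4 D54862) D54860 D119215 (iv1 D171107) (iv3 F134954) (iv4 F345121) (iv1 D152562) (iv4 F239748) F349162 F329999
theorem F349167 : act 3 n99876 = n114646 := d8_3 (iv7 F187585) F349166 F345053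
theorem F349168 : act 3 n114287 = n111475 := d5_5 F345072 F349167 F178746 (iv3 D114286) D114287
theorem F349169 : act 5 n139593 = n114287 := d6_0 F349168 F345073 D139593
theorem F349170 : act 5 n114482 = n107104 := d16_1 (iv4 F179197) (iv4 F222735) F349169 (iv4 D114287) (iv5 F83344) F67747 D90124 (iv7 F138566) F179195
theorem F349171 : act 3 n107105 = n114482 := d6_3 F349170 (iv3 D107104) D107105
theorem F349172 : act 3 n144306 = n118429 := d20_5 F139496 D115081 (iv4 F179197) (iv3 F349171) (iv1 F227016) F242854 (iv1 D154689) F110054 (iv3 F109099) D90602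
theorem F349173 : act 3 n154689 = n92612 := d5_3 F339944 F349172 F242854 (iv4 F142672) (iv3 F144843)
theorem F349174 : act 4 n100568 = n128391 := d20_8 (iv4 F110062) (iv1 F242850) (iv4 F242854) (iv3 F349172) (iv1 F227015) (iv3 F339961) F154642 D100568 F206509 F109237
theorem E100653 : n108542 = n92919 := ((c0_3 F349173 F142840 D92919 F167842 (iv3 F319261) F242853)).symm
theorem F349175 : act 0 n92919 = n111736 := (sb E100653 (iv1 F337427))
theorem F349176 : act 1 n92919 = n111735 := (sb E100653 (iv0 F337423))
theorem F349177 : act 2 n92919 = n65162 := (sb E100653 F167842)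
theorem F349178 : act 4 n92919 = n82008 := (sb E100653 F329852)
theorem F349179 : act 5 n92919 = n50120 := (sb E100653 (iv5 D108542))
theorem F349180 : act 6 n92919 = n82017 := (sb E100653 F329853)
theorem F349181 : act 7 n92919 = n111355 := (sb E100653 F337443)
theorem F349182 : act 5 n92612 = n89582 := d6_2 (iv5 F242852) F349173 F329722
theorem F349183 : act 3 n107926 = n101200 := d19_15 (iv1 D43946) D43947 F142672 (iv3 F349173) (iv1 D154689) (iv5 D73358) (iv4 D33745) (iv3 F52138) (iv1 F52140) D33560 (iv4 F54113) (iv3 F55721) (iv1 F77105) D49849 D107926 (iv1 F349149) (iv5 F293946) (iv4 D100697) (iv3 F294200)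
theorem E100654 : n92896 = n92822 := ((c20_9 F143271 F142696 F142672 (iv3 F349173) (iv1 D154689) (iv3 F110056) (iv4 D43437) D43435 D92822 (iv3 D92896) D92895)).symm
theorem F349184 : act 3 n92822 = n43463 := (sb E100654 (iv3 D92896))
theorem F349185 : act 4 n101200 = n119628 := d5_2 D107926 F349183 (iv3 D119628) (iv4 F166767) F166764
theorem F349186 : act 7 n101200 = n150779 := d8_2 (iv7 F166783) F349183 (iv3 D150779)
theorem F349187 : act 0 n111163 = n101200 := d20_4 (iv4 F171638) (iv1 D110821) (iv4 F80882) (iv3 F172413) (iv3 F349183) (iv4 D107926) F78831 D54499 (iv3 F319659) (iv1 F171641)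
theorem F349188 : act 5 n150779 = n93336 := d13_1 F349186 (iv7 F155687) D101200
theorem F349189 : act 2 n150779 = n101197 := d15_3 (iv0 F348535) F349149 F349186
theorem F349190 : act 3 n93336 = n150780 := d6_1 F349188 (iv5 D150780) D150779
theorem F349191 : act 0 n150779 = n93342 := d21_1 (iv5 F349188) (iv5 F294633) F294634 F337267 (iv6 D86947) (iv5 F62312) (iv1 F62311) F44096 D47127 F143945
theorem E100655 : n155588 = n92769 := ((c20_4 F153961 (iv1 F157747) F150973 (iv3 F143082) F244606 (iv3 F349190) (iv4 F143943) F154062 (iv4 D100139) (iv3 F153963) (iv1 D100015))).symm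
theorem F349192 : act 0 n92769 = n150780 := (sb E100655 F244606)
theorem F349193 : act 1 n92769 = n150773 := (sb E100655 F244607)
theorem F349194 : act 5 n92769 = n74020 := (sb E100655 (iv5 D155588))
theorem F349195 : act 7 n92769 = n160071 := (sb E100655 (iv7 F252619))
theorem F349196 : act 3 n160071 = n93326 := d8_1 F349195 F157752 (iv3 F143082)
theorem F349197 : act 6 n160071 = n99546 := d14_1 F349195 (iv7 D99546) (iv6 D46532) (iv7 F68211) D92769
theorem F349198 : act 5 n93326 = n160070 := d6_2 D160071 F349196 (iv3 D160070)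
theorem F349199 : act 2 n160070 = n99540 := d2_1 F349198 F153291 F157765
theorem E100656 : n155587 = n97953 := (c13_3 (iv7 F157752) F349198 F252617 (iv5 D97953))
theorem F349200 : act 3 n97953 = n74020 := (sb E100656 (iv3 D155587))
theorem F349201 : act 7 n97953 = n160070 := (sb E100656 (iv7 F252617))
theorem F349202 : act 0 n160070 = n92651 := d21_1 F349198 (iv5 D92651) F68045 D43345 (iv6 F294808) D98641 F294438 (iv5 D87055) (iv6 F293501) D93326
theorem F349203 : act 0 n99537 = n160070 := d21_1 F293323 (iv5 F349198) F157751 (iv1 F177421) D46941 (iv5 F137056) (iv1 F289307) (iv5 D186459) (iv6 F292924) F292921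
theorem F349204 : act 6 n93229 = n140094 := d21_5 (iv5 F125883) F125885 F109450 D94218 (iv1 F293985) (iv5 D140094) (iv1 F323740) (iv5 F349194) (iv6 D92769) F68213
theorem F349205 : act 6 n105941 = n98692 := d3_2 F349204 F323747 (iv2 F344287)
theorem F349206 : act 3 n140094 = n93232 := d7_1 F349204 (iv6 D93232) D93229
theorem F349207 : act 5 n93232 = n140093 := d6_2 D140094 F349206 (iv3 D140093)
theorem F349208 : act 3 n89410 = n150754 := d8_3 (iv7 F323748) F349206 F344240
theorem E100657 : n150753 = n99433 := (c6_4 F344241 F349208 (iv5 D150754) D150753)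
theorem F349209 : act 3 n99433 = n71079 := (sb E100657 (iv3 D150753))
theorem F349210 : act 7 n99433 = n140093 := (sb E100657 (iv7 F323744))
theorem F349211 : act 6 n150754 = n137593 := d7_2 (iv6 F344239) F349208 F220753
theorem F349212 : act 4 n150754 = n100683 := d20_6 (iv4 F292018) F68053 (iv4 F291856) (iv3 F64389) D89410 F349208 (iv1 D100683) F74176 (iv3 D43544) (iv1 F291686)
theorem F349213 : act 5 n100683 = n105914 := d16_3 D71079 D150754 F349212 (iv4 D105914) (iv5 D48967) F37299 D23896 (iv7 F323738) F323737
theorem E100658 : n151382 = n93907 := ((c18_1 D93907 (iv4 D151382) (iv1 F237314) F349212 F349213 (iv4 D105914) (iv0 F114975) (iv4 F329721) (iv0 F157313) F142663)).symm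
theorem F349214 : act 4 n93907 = n71355 := (sb E100658 (iv4 D151382))
theorem F349215 : act 1 n100683 = n150792 := d18_6 (iv1 D71139) (iv4 D32940) (iv1 F77274) D71079 D150754 F349212 (iv4 D150792) F328902 F328508
theorem F349216 : act 4 n97326 = n151381 := d20_8 F349212 (iv1 D100683) F74176 (iv3 D43544) (iv1 F291686) (iv3 F72956) F72957 D97326 F238098 (iv1 F237314)
theorem F349217 : act 5 n103209 = n97326 := d19_1 D103209 F349216 F238098 (iv1 F237314) (iv5 D150754) (iv4 D71079) (iv3 F94425) F94427 F52047 F27936 F24996 (iv1 F22835) F22834 D16440 D33990 D74066 (iv5 F329899) (iv4 D47836) (iv3 F75114)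
theorem F349218 : act 5 n99515 = n151379 := d17_1 D99515 (iv1 D151379) D151381 (iv4 F349216) (iv5 F349217) (iv0 D103209) (iv5 D47832) (iv0 F157768) F75090
theorem F349219 : act 2 n151379 = n156715 := d2_1 F349218 F329911 (iv2 F157791)
theorem F349220 : act 3 n151379 = n100781 := d6_1 F349218 (iv5 D100781) (iv3 F157792)
theorem F349221 : act 7 n151379 = n100862 := d13_2 (iv7 F157794) F349218 (iv5 D100862)
theorem F349222 : act 2 n100862 = n151378 := d15_3 (iv0 D151378) D151379 F349221
theorem F349223 : act 7 n156715 = n151378 := d4_2 (iv7 F349221) F349219 (iv2 F349222)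
theorem F349224 : act 3 n151378 = n111223 := d8_1 F349223 F172502 D156715
theorem F349225 : act 5 n151378 = n99516 := d13_1 F349223 F157790 (iv5 F329911)
theorem F349226 : act 6 n97326 = n89833 := d21_3 D47832 D103209 F349217 (iv1 F137891) (iv6 D44715) D44714 (iv1 F71598) F71600 D47791 F157768
theorem F349227 : act 2 n95756 = n97326 := d3_3 F349226 F145366 D95756
theorem E100659 : n144260 = n97326 := (c7_4 F349226 F137890 F340050 D144260)
theorem F349228 : act 3 n97326 = n67570 := (sb E100659 (iv3 D144260))
theorem F349229 : act 3 n94260 = n93907 := d5_3 (iv4 F349216) F349228 (iv4 F340049) F349214 (iv3 F238098)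
theorem F349230 : act 3 n103801 = n103209 := d6_3 F349217 F349228 (iv5 F295855)
theorem F349231 : act 6 n93907 = n94229 := d7_2 D94260 F349229 F145284
theorem F349232 : act 4 n100682 = n105941 := d20_0 F162681 (iv4 F349214) (iv3 F349229) F345196 (iv3 D104040) F292146 F291681 F68059 D46957 D100682
theorem F349233 : act 5 n150751 = n100682 := d9_0 F349232 (iv5 D105941) (iv4 D48978) (iv5 D23896) (iv4 F37299) D48967 D105914 (iv5 F349213) (iv4 F349212) (iv5 D150754) (iv4 D71079) (iv5 D32915) D32914 D71078 D150751
theorem E100660 : n100682 = n98694 := ((c10_1 D98694 F349232 F349205 (iv4 D98692))).symm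
theorem F349234 : act 1 n98694 = n46957 := (sb E100660 (iv0 D100682))
theorem F349235 : act 4 n98694 = n105941 := (sb E100660 F349232)
theorem F349236 : act 5 n98694 = n150751 := (sb E100660 (iv5 F349233))
theorem F349237 : act 1 n150792 = n98694 := d17_6 F104210 (iv5 D33969) (iv1 F50280) D68653 D146428 (iv5 F237351) F349236 (iv0 F329563) F329565
theorem F349238 : act 5 n93907 = n92840 := d18_4 (iv1 F349234) F349235 F162681 (iv4 F349214) (iv4 F335928) F162651 (iv4 F237329) (iv0 D150764) F329548
theorem F349239 : act 3 n92840 = n90661 := d6_1 F349238 F157813 F349229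
theorem F349240 : act 6 n92840 = n117305 := d12_2 (iv6 F349231) F349238 (iv5 D117305) D117306 F316821
theorem F349241 : act 7 n92840 = n118677 := d16_8 (iv4 D71329) (iv5 D33005) F25376 D15911 D33016 D71355 (iv4 F349214) F349238 F186665
theorem F349242 : act 2 n146331 = n92840 := d4_3 F349241 F186665 (iv7 F229671)
theorem F349243 : act 1 n151350 = n92840 := d15_1 D151350 F349241 F186665
theorem F349244 : act 5 n92601 = n151350 := d17_5 (iv1 D89571) (iv5 F329251) F107848 (iv5 F328509) F292313 F349243 (iv5 F349238) (iv0 D93907) F137316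
theorem F349245 : act 5 n90625 = n93904 := d21_6 F349238 (iv1 F349243) (iv5 F349244) (iv6 F251656) (iv1 D159729) F177435 (iv1 D93904) (iv5 D43896) D43897 D93907
theorem F349246 : act 2 n93904 = n151664 := d2_1 F349245 (iv5 F288409) (iv2 F288416)
theorem F349247 : act 6 n93904 = n151445 := d12_2 F177435 F349245 (iv5 F238182) (iv6 D76416) D76415
theorem F349248 : act 0 n93905 = n186141 := d18_2 (iv1 D93904) D93905 (iv4 D186141) (iv5 D88681) F63851 D43306 (iv4 F292718) D90625 F349245
theorem F349249 : act 6 n157348 = n93952 := d21_5 (iv5 D71392) D71390 D151437 F335461 (iv1 F247647) (iv5 F293382) (iv1 F293718) F349245 F349247 (iv1 D151445)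
theorem F349250 : act 3 n131147 = n157348 := d7_3 F349249 (iv3 F157809) D131147
theorem F349251 : act 4 n93952 = n157349 := d10_1 F349249 (iv6 D157349) D157348
theorem F349252 : act 0 n151692 = n157361 := d21_4 F238554 (iv1 D93805) D93807 (iv6 F238571) (iv6 D157361) F314441 (iv1 F233943) F312025 F349249 (iv1 F238556)
theorem F349253 : act 2 n151694 = n157361 := d15_3 (iv0 F349252) (iv0 D151692) D151694
theorem F349254 : act 4 n131301 = n151694 := d1_0 F349253 F247679 (iv2 F210440)
theorem F349255 : act 6 n131300 = n151694 := d3_0 F349253 (iv6 D157361) (iv2 F210439)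
theorem F349256 : act 7 n157361 = n107561 := d4_2 D151694 F349253 F165947
theorem F349257 : act 4 n107561 = n157364 := d11_1 F349256 (iv7 D157364) (iv4 F247679)
theorem F349258 : act 5 n146450 = n157361 := d13_3 F349256 F165949 D146450
theorem F349259 : act 1 n151693 = n157361 := d15_1 D151693 F349256 F165947
theorem F349260 : act 2 n157364 = n151691 := d1_1 F349257 F238570 (iv2 F165947)
theorem F349261 : act 6 n157364 = n107557 := d10_2 D107561 F349257 F165943
theorem F349262 : act 7 n151691 = n131301 := d4_2 D157364 F349260 F210440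
theorem F349263 : act 1 n151691 = n157362 := d15_0 (iv0 D157362) D157364 F349260
theorem F349264 : act 1 n157363 = n151691 := d15_1 D157363 F349262 F210440
theorem F349265 : act 0 n98702 = n157349 := d20_7 F331360 F331364 (iv4 D88710) F63858 (iv1 F291039) (iv3 F72754) D98702 (iv4 F349251) (iv3 F157809) (iv1 F157680)
theorem E100661 : n186135 = n98701 := (c18_10 (iv1 D98701) D98702 F349265 (iv4 F349251) (iv5 F293382) (iv4 D92559) (iv0 D43305) (iv4 F63851) D88679 D186135)
theorem F349266 : act 5 n98701 = n88679 := (sb E100661 (iv5 D186135))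
theorem E100662 : n186136 = n92949 := (c21_4 F292999 (iv1 F238937) F349266 D186136 (iv1 D92949) F68348 D90735 F329563 (iv5 F349236) (iv6 D98694) F293120)
theorem F349267 : act 6 n92949 = n88679 := (sb E100662 (iv6 D186136))
theorem E100663 : n186133 = n100353 := (c3_2 F349267 (iv2 F288871) (iv6 D100353) (iv2 F155663))
theorem F349268 : act 2 n100353 = n88679 := (sb E100663 F288871)
theorem F349269 : act 7 n100353 = n88678 := (sb E100663 (iv7 D186133))
theorem F349270 : act 6 n186134 = n90733 := d7_2 F349267 D186134 (iv3 F153165)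
theorem F349271 : act 7 n186131 = n151945 := d13_2 F349269 D186131 (iv5 F238933)
theorem F349272 : act 2 n186131 = n151944 := d15_3 (iv0 D151944) D151945 (iv7 F349271)
theorem F349273 : act 5 n151944 = n186129 := d2_2 D186131 F349272 (iv2 D186129)
theorem F349274 : act 7 n98701 = n151944 := d13_0 F349273 (iv7 F288870) (iv5 F349266)
theorem E100664 : n186129 = n91046 := (c17_8 (iv1 F67966) (iv5 F294858) (iv1 D91021) (iv5 D42635) (iv4 F66451) D90993 F292420 F349273 F140084 F136020)
theorem F349275 : act 2 n91046 = n88678 := (sb E100664 (iv2 D186129))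
theorem F349276 : act 5 n91046 = n151944 := (sb E100664 (iv5 F349273))
theorem F349277 : act 7 n91046 = n88679 := (sb E100664 (iv7 F288870))
theorem F349278 : act 0 n186416 = n151317 := d21_4 (iv5 F349276) (iv1 D91046) (iv5 F136169) D186416 F238036 (iv5 D71316) F54285 D33123 D71639 D151944
theorem F349279 : act 6 n157355 = n151944 := d21_5 (iv5 D151317) (iv1 F323600) D144996 (iv6 F341591) (iv1 F247667) (iv5 F349276) (iv1 D91046) (iv5 F136169) D186416 F349278
theorem F349280 : act 6 n91046 = n102581 := d21_9 F333301 (iv1 D73801) D73803 (iv6 F317607) (iv1 F64146) D46134 (iv5 F108129) D151944 (iv5 F349276) (iv1 D102581)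
theorem E100665 : n148457 = n88678 := (c3_3 F349280 F333312 D148457 (iv2 F349275))
theorem E100666 : n186132 = n69564 := ((D186132).symm.trans (sb E100665 (iv6 D148457)))
theorem F349281 : act 6 n69564 = n88678 := (sb E100666 (iv6 D186132))
theorem F349282 : act 7 n102581 = n100358 := d14_2 (iv7 F349277) F349280 (iv6 D100358) (iv7 F155664) F349267
theorem E100667 : n186412 = n98693 := (c21_2 (iv5 F136169) D186412 (iv5 D98693) D98694 (iv1 F349237) F340076 F340077 F205249 (iv5 F333313) (iv6 F349280) (iv1 D91046))
theorem F349283 : act 0 n98693 = n186137 := (sb E100667 (iv1 F289194))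
theorem F349284 : act 1 n98693 = n88790 := (sb E100667 (iv0 D186412))
theorem F349285 : act 2 n100358 = n102580 := d4_1 F349282 F333310 (iv2 F333312)
theorem F349286 : act 5 n100358 = n117868 := d13_1 F349282 F184820 (iv5 F333313)
theorem F349287 : act 1 n99815 = n100358 := d15_1 (iv0 F333298) (iv7 F349282) F333312
theorem F349288 : act 1 n100358 = n102582 := d15_1 F349287 F333315 (iv2 F333299)
theorem F349289 : act 6 n102580 = n92948 := d3_2 D100358 F349285 F155648
theorem F349290 : act 4 n184505 = n102580 := d10_3 F349289 F143347 D184505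
theorem F349291 : act 7 n148456 = n184505 := d11_0 F349290 F333310 D148456
theorem F349292 : act 5 n154901 = n184505 := d16_1 D154901 F349290 F333309 (iv4 D54294) D54295 D117878 F304981 F232643 F232644
theorem F349293 : act 1 n159764 = n184505 := d18_6 (iv1 D73801) (iv4 D33899) D33897 F322021 D76437 D159764 F349290 (iv0 D102580) F333301
theorem F349294 : act 4 n154967 = n98690 := d17_4 (iv1 F349293) F333325 F243493 (iv5 F243672) (iv5 F314942) F189341 D155324 (iv0 F333308) (iv4 F349290)
theorem E100668 : n184510 = n91377 := (c20_5 (iv4 F74827) D102580 (iv4 F349290) F286446 D184510 (iv3 D91377) F290708 (iv1 F290710) (iv4 F291022) (iv3 F291566) (iv1 D47603))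
theorem F349295 : act 1 n91377 = n87992 := (sb E100668 (iv0 D184510))
theorem E100669 : n184507 = n159791 := (c18_8 F290299 (iv4 F83650) (iv1 F313956) (iv4 F104036) (iv5 F318687) (iv4 F290624) F349295 (iv4 F286449) (iv0 D159791) (iv5 D76460))
theorem F349296 : act 3 n159791 = n92585 := (sb E100669 F286448)
theorem F349297 : act 4 n159791 = n87992 := (sb E100669 F286449)
theorem F349298 : act 6 n159791 = n87990 := (sb E100669 (iv6 D184507))
theorem E100670 : n154633 = n78916 := (c19_11 (iv1 F349295) F140515 (iv4 F348525) F348502 (iv1 F244453) (iv5 D155458) F184603 (iv3 F184610) (iv1 D73318) D73320 D154633 (iv3 F315505) (iv1 F317582) (iv5 F319946) (iv4 F321777) (iv3 F142233) F318928 (iv5 F333309) (iv4 F349290) F286446)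
theorem E100671 : n164291 = n73320 := ((D164291).symm.trans (sb E100670 (iv4 D154633)))
theorem E100672 : n185772 = n154629 := ((((iv3 F242742)).symm.trans (sb E100671 (iv3 F288091)))).symm
theorem F349299 : act 4 n73320 = n78916 := (sb E100671 (iv4 D164291))
theorem F349300 : act 4 n154629 = n88479 := (sb E100672 (iv4 D185772))
theorem F349301 : act 7 n154629 = n92786 := (sb E100672 F288092)
theorem E100673 : n185765 = n92585 := (c20_5 (iv4 D22936) (iv1 F290587) (iv4 F65356) (iv3 F139218) (iv1 F288066) (iv3 F349296) F349297 (iv1 F349295) F290624 F136032 (iv1 F72201))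
theorem F349302 : act 0 n92585 = n88475 := (sb E100673 (iv1 D185765))
theorem F349303 : act 1 n92585 = n90457 := (sb E100673 F288066)
theorem F349304 : act 0 n182053 = n103947 := d21_10 F340061 F340064 (iv5 D87991) D87992 (iv1 F349295) F290625 (iv5 F292473) F338479 F338483 D182053
theorem F349305 : act 1 n182053 = n103635 := d15_1 (iv0 F349304) F159019 D103947
theorem F349306 : act 4 n101111 = n89411 := d20_6 F75593 (iv1 F134824) (iv4 F134829) D103635 (iv1 F349305) F283460 (iv1 D89411) (iv4 F293940) (iv3 D48115) D48113
theorem F349307 : act 6 n94119 = n103635 := d21_3 D101188 F290179 (iv5 F145059) (iv1 F349305) (iv6 D182053) (iv5 F338483) F338482 (iv5 D182415) (iv6 F292333) (iv1 D101187)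
theorem F349308 : act 2 n89411 = n93232 := d1_1 F349306 F295299 F344251
theorem F349309 : act 6 n89411 = n91001 := d10_2 F155774 F349306 F294779
theorem F349310 : act 5 n89411 = n99434 := d21_6 (iv5 F44835) F44836 (iv5 F58829) (iv6 F295162) (iv1 F140049) (iv6 F349309) (iv1 D99434) (iv5 D46490) (iv6 D22283) D22280
theorem F349311 : act 2 n99434 = n140093 := d2_1 F349310 (iv5 F349207) (iv2 F349308)
theorem E100674 : n184511 = n101376 := ((c20_1 (iv4 F156173) (iv1 D184511) (iv4 F349297) F349296 F349302 (iv3 D88475) (iv4 D41299) F291627 (iv4 F36019) (iv3 F74986) (iv1 F291618))).symm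
theorem F349312 : act 0 n101376 = n87992 := (sb E100674 (iv1 D184511))
theorem F349313 : act 4 n155324 = n99837 := d20_8 (iv4 F292664) F292661 (iv4 F277439) F290118 F349312 (iv3 F286446) F349290 F333308 F153721 (iv1 F74798)
theorem F349314 : act 3 n90813 = n155324 := d5_5 F349313 F153721 (iv4 F157208) (iv3 F287414) F287415
theorem F349315 : act 6 n102856 = n155324 := d10_0 F349313 (iv6 F293579) (iv4 F158167)
theorem E100675 : n155322 = n92491 := (c6_4 (iv5 F143228) F349314 (iv5 D155324) D155322)
theorem F349316 : act 3 n92491 = n73800 := (sb E100675 (iv3 D155322))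
theorem F349317 : act 3 n92786 = n153868 := d8_1 F349301 F241761 (iv3 F242742)
theorem F349318 : act 5 n92786 = n153867 := d13_1 F349301 F241759 D154629
theorem E100676 : n154651 = n100389 := (c16_10 (iv4 D100389) (iv5 D46852) F35060 D43407 D92786 F349318 F241758 D153879 F241805 (iv2 F242804))
theorem F349319 : act 2 n100389 = n73333 := (sb E100676 F242804)
theorem F349320 : act 5 n100389 = n73332 := (sb E100676 (iv5 D154651))
theorem F349321 : act 6 n100389 = n99286 := (sb E100676 F306376)
theorem E100677 : n154655 = n99286 := ((c10_1 F349321 (iv4 D154655) (iv6 F306388) D100389)).symm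
theorem F349322 : act 4 n99286 = n73333 := (sb E100677 (iv4 D154655))
theorem F349323 : act 4 n153868 = n92795 := d5_2 D92786 F349317 (iv3 D92795) (iv4 D43414) (iv3 F68241)
theorem F349324 : act 4 n154620 = n164264 := d9_9 D153868 F349323 (iv5 F143134) F120111 (iv5 F120116) F319012 (iv5 D73315) D73314 D154620 (iv5 D164264) F120104 (iv5 F106104) F314257 (iv5 D72790) D72789
theorem F349325 : act 6 n164264 = n126897 := d10_2 (iv6 F338472) F349324 F327899
theorem F349326 : act 0 n164264 = n152733 := d21_4 (iv5 F330294) (iv1 F315324) (iv5 F327900) (iv6 F349325) (iv6 D152733) (iv5 D72065) (iv1 F191283) (iv5 F347086) F347087 D130112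
theorem E100678 : n186495 = n154967 := (c18_3 D44050 D94232 F289376 F349294 (iv5 F314942) (iv4 D119923) F87324 F322021 (iv0 F142436) (iv5 D44052))
theorem F349327 : act 0 n154967 = n88826 := (sb E100678 (iv1 D186495))
theorem F349328 : act 1 n154967 = n94232 := (sb E100678 (iv0 F289376))
theorem F349329 : act 3 n154967 = n88847 := (sb E100678 (iv3 F289374))
theorem E100679 : n98690 = n89553 := ((F349294).symm.trans (sb E100678 F289375))
theorem F349330 : act 4 n89553 = n154967 := (sb E100679 (iv4 F349294))
theorem F349331 : act 5 n89553 = n119923 := (sb E100679 (iv5 F314942))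
theorem F349332 : act 7 n89553 = n46133 := (sb E100679 (iv7 D98690))
theorem F349333 : act 2 n92448 = n89553 := d16_9 F349330 F243672 F110179 F53026 (iv4 F303387) D16387 D33899 D73803 (iv7 F337217)
theorem F349334 : act 7 n89014 = n92499 := d8_2 F349332 (iv3 F136651) (iv3 F289377)
theorem F349335 : act 6 n92499 = n89553 := d14_5 F349332 (iv6 D46133) (iv7 F64150) D89014 F349334
theorem F349336 : act 2 n92499 = n98687 := d4_1 F349334 (iv7 D98687) (iv2 F136650)
theorem E100680 : n98687 = n90126 := (c15_4 (iv0 D90126) (iv0 F337229) F349334 F349336)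
theorem F349337 : act 2 n90126 = n92499 := (sb E100680 (iv2 F349336))
theorem F349338 : act 5 n90126 = n151327 := (sb E100680 (iv5 F238045))
theorem F349339 : act 7 n90126 = n46132 := (sb E100680 (iv7 D98687))
theorem F349340 : act 6 n92448 = n90126 := d14_5 F349339 (iv6 D46132) F64149 F317607 (iv7 F337217)
theorem F349341 : act 5 n147990 = n155325 := d21_8 (iv5 F349331) (iv1 D89553) F317605 (iv6 D69317) (iv1 D32219) D32221 D69324 D147990 (iv6 D155325) (iv1 F189341)
theorem F349342 : act 0 n147990 = n105870 := d21_7 (iv5 D34998) F28352 D34959 (iv6 F312981) D73800 D155325 (iv5 F349341) (iv5 D105870) (iv6 D48945) (iv1 F55458)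
theorem F349343 : act 0 n89907 = n95751 := d19_16 (iv1 F349328) F243672 F110179 F53025 (iv1 F313299) (iv5 F315700) F42324 (iv3 F44121) D56793 F117778 D83438 (iv3 F327395) F148098 (iv5 F138057) (iv4 D89908) D89907 (iv5 D95751) D95750 F147446
theorem E100681 : n186497 = n155250 := (c17_4 F243493 (iv5 F243672) F349327 D186497 (iv4 D155250) (iv5 D73738) (iv0 F232293) (iv5 F320163) F320160 (iv4 F243491))
theorem F349344 : act 2 n155250 = n148630 := (sb E100681 (iv2 F340082))
theorem F349345 : act 3 n155250 = n88828 := (sb E100681 F289382)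
theorem F349346 : act 5 n155250 = n88826 := (sb E100681 (iv5 D186497))
theorem F349347 : act 6 n139144 = n155250 := d12_0 F349346 (iv6 F335910) (iv5 D118699) F314656 D139144
theorem F349348 : act 6 n141489 = n117983 := d21_3 (iv5 D156517) (iv1 F314741) F338217 (iv1 F243677) (iv6 D154968) (iv5 F243672) F349327 (iv5 F349346) (iv6 F349347) (iv1 F246116)
theorem F349349 : act 6 n160113 = n179013 := d3_2 F349348 F252711 (iv2 F338216)
theorem F349350 : act 5 n117983 = n143501 := d21_6 D67199 D143462 F226203 F348302 (iv1 F348299) F349348 (iv1 D143501) (iv5 D67212) (iv6 D31274) D31271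
theorem F349351 : act 7 n143501 = n149378 := d13_2 (iv7 F185148) F349350 (iv5 D149378)
theorem F349352 : act 2 n149378 = n143500 := d15_3 (iv0 D143500) D143501 F349351
theorem F349353 : act 5 n143500 = n149374 := d2_2 D149378 F349352 F234893
theorem F349354 : act 6 n149374 = n116304 := d21_3 D67212 D143500 F349353 (iv1 F181301) D141483 F335185 F218210 F336885 (iv6 D143499) (iv1 D67211)
theorem F349355 : act 2 n146287 = n139144 := d3_3 F349347 F349344 (iv6 F340089)
theorem F349356 : act 0 n155250 = n140055 := d21_4 (iv5 D138653) F101037 D139144 F349347 (iv6 D140055) D140054 F223264 (iv5 D66377) D66378 (iv1 F332626)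
theorem F349357 : act 5 n140055 = n148456 := d21_0 (iv1 F333331) (iv5 D154956) (iv6 F320781) F221213 (iv6 F330628) (iv5 D138653) F101037 D139144 F349347 F349356
theorem F349358 : act 7 n154901 = n140055 := d13_0 F349357 F349291 (iv5 F349292)
theorem F349359 : act 4 n154801 = n140055 := d16_0 F349357 (iv4 D148456) (iv5 D69564) (iv4 D32297) D32298 F304259 (iv5 F188867) (iv7 F232643) F243471
theorem F349360 : act 1 n148456 = n154953 := d17_6 D33788 D73494 (iv1 F316958) F316962 F349359 F349357 (iv5 D154953) (iv0 D73501) (iv4 D33790)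
theorem F349361 : act 1 n127309 = n140055 := d17_6 (iv1 D102742) D102744 F314437 (iv5 F321217) D94232 (iv5 F340084) F349357 F349360 F333332
theorem F349362 : act 3 n116784 = n154801 := d20_5 F76991 (iv1 F77164) F114322 D53807 D116784 F349359 (iv1 F349361) (iv4 D127309) (iv3 D59761) (iv1 F76995)
theorem E100682 : n116784 = n116460 := ((c0_6 F349362 (iv2 F243471) F232640 F87109 F318075 (iv2 F181726))).symm
theorem F349363 : act 0 n116460 = n67313 := (sb E100682 (iv1 F182318))
theorem F349364 : act 1 n116460 = n53807 := (sb E100682 (iv0 D116784))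
theorem F349365 : act 3 n116460 = n154801 := (sb E100682 F349362)
theorem F349366 : act 5 n152318 = n116460 := d6_0 F349365 (iv5 F316962) F316960
theorem F349367 : act 0 n117677 = n158977 := d21_7 (iv5 F349366) (iv1 D152318) F322162 (iv6 D53746) F175006 D65567 F317767 (iv5 F313428) (iv6 D116789) (iv1 F349364)
theorem F349368 : act 4 n130214 = n117677 := d17_9 F349367 (iv5 F313428) F313425 F235305 F331613 F214209 (iv0 D130750) (iv5 F328725) (iv0 F342776)
theorem F349369 : act 5 n134599 = n176312 := d18_4 F349367 (iv4 F339491) (iv1 F216528) D134599 (iv4 D176312) (iv0 F330292) F225427 F320800 F317767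
theorem E100683 : n155003 = n121463 := ((c19_5 F349367 (iv5 F313428) F334109 F188749 D121463 (iv5 F314392) (iv4 F307139) F192305 (iv1 F309069) F309071 F30228 (iv3 F30131) (iv1 F296622) (iv5 D38666) (iv4 D18396) D18395 F308920 D83321 (iv4 F325888) (iv3 F315537))).symm
theorem F349370 : act 2 n121463 = n178909 := (sb E100683 (iv2 F278785))
theorem F349371 : act 4 n121463 = n73564 := (sb E100683 (iv4 D155003))
theorem F349372 : act 5 n121463 = n135465 := (sb E100683 (iv5 F314392))
theorem F349373 : act 6 n121463 = n73565 := (sb E100683 F243733)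
theorem F349374 : act 7 n121463 = n135464 := (sb E100683 (iv7 F313444))
theorem F349375 : act 0 n146660 = n139699 := d21_10 (iv5 D139699) (iv1 D65569) F318281 D117677 F349367 (iv6 D158977) F199942 (iv1 F130568) (iv5 F199958) D146660
theorem F349376 : act 6 n117271 = n139699 := d21_5 (iv5 F313428) F313425 F235305 F183986 (iv1 F183504) (iv5 D139699) (iv1 D65569) F318281 D117677 F349367
theorem F349377 : act 2 n139699 = n117289 := d3_1 F349376 (iv6 D117289) F183507
theorem F349378 : act 3 n139699 = n146709 := d7_1 F349376 (iv6 D146709) (iv3 F183508)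
theorem E100684 : n139700 = n131043 := (c12_3 F349376 (iv5 D139699) D139700 F313722 F184299 F183506)
theorem F349379 : act 6 n131043 = n65569 := (sb E100684 (iv6 D139700))
theorem F349380 : act 7 n139699 = n160163 := d14_2 F183643 F349376 (iv6 D160163) F115096 (iv6 F308666)
theorem F349381 : act 0 n139699 = n142603 := d21_4 F184117 (iv1 F130922) F183506 F349376 (iv6 D142603) (iv5 F320505) F230118 (iv5 D69350) D69351 (iv1 F184118)
theorem F349382 : act 5 n160163 = n139691 := d13_1 F349380 (iv7 F222871) D139699
theorem E100685 : n160163 = n159012 := ((c15_2 (iv0 F233279) D159012 (iv7 F349380) F349377)).symm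
theorem F349383 : act 2 n159012 = n76736 := (sb E100685 F252811)
theorem F349384 : act 3 n159012 = n169956 := (sb E100685 (iv3 F267391))
theorem E100686 : n152885 = n139691 := (((iv5 F250350)).symm.trans (sb E100685 F349382))
theorem F349385 : act 6 n159012 = n76720 := (sb E100685 (iv6 D160163))
theorem F349386 : act 7 n159012 = n139699 := (sb E100685 (iv7 F349380))
theorem F349387 : act 5 n139691 = n159012 := (sb E100686 F250350)
theorem F349388 : act 6 n139691 = n72134 := (sb E100686 (iv6 D152885))
theorem E100687 : n139691 = n139681 := ((c21_5 (iv5 F84760) (iv1 F181959) (iv5 D65562) D65563 D139681 F349388 F309666 F315021 (iv5 D53782) (iv6 D26010) F181456)).symm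
theorem F349389 : act 2 n139681 = n65568 := (sb E100687 (iv2 D139691))
theorem F349390 : act 5 n139681 = n159012 := (sb E100687 F349387)
theorem F349391 : act 6 n139681 = n72134 := (sb E100687 F349388)
theorem F349392 : act 7 n139681 = n65569 := (sb E100687 (iv7 F222871))
theorem E100688 : n139696 = n139682 := (c15_4 F222854 F222859 F349392 (iv2 F222872))
theorem F349393 : act 2 n139682 = n65569 := (sb E100688 F222872)
theorem F349394 : act 7 n139682 = n65568 := (sb E100688 (iv7 D139696))
theorem E100689 : n148608 = n139682 := (c8_4 F349394 (iv3 F321133) (iv7 F313297) D148608)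
theorem F349395 : act 3 n139682 = n69648 := (sb E100689 (iv3 D148608))
theorem F349396 : act 5 n139682 = n117289 := (sb E100689 F233366)
theorem F349397 : act 6 n139682 = n85103 := (sb E100689 F233367)
theorem F349398 : act 4 n115351 = n139682 := d10_3 F349397 (iv4 F321477) D115351
theorem F349399 : act 2 n139698 = n115351 := d1_3 F349398 F349393 D139698
theorem F349400 : act 7 n139693 = n115351 := d11_0 F349398 F349394 D139693
theorem F349401 : act 3 n115363 = n139693 := d8_3 F349400 F179632 D115363
theorem F349402 : act 3 n121114 = n112769 := d5_5 (iv4 F179640) F349401 (iv4 D139693) (iv3 F321133) (iv4 F193156)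
theorem F349403 : act 7 n112761 = n121114 := d8_0 F349402 (iv7 D112769) (iv3 F175565)
theorem F349404 : act 1 n127755 = n121114 := d15_1 F230056 (iv7 F349403) F321474
theorem F349405 : act 1 n121114 = n127762 := d15_1 F349404 (iv7 F313792) F313788
theorem E100690 : n166551 = n148660 := (c17_9 (iv1 F200040) F308861 F307040 (iv5 F110533) (iv4 F200973) (iv5 F205378) F349404 (iv5 F281141) F281144 F233423)
theorem F349406 : act 0 n148660 = n180619 := (sb E100690 (iv1 F281144))
theorem F349407 : act 1 n148660 = n79935 := (sb E100690 (iv0 D166551))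
theorem E100691 : n139492 = n139392 := ((c20_7 (iv4 F193156) (iv1 F349404) (iv4 D127755) F316341 (iv1 F49711) D65594 (iv4 F222605) (iv1 D139492) (iv4 F320790) F184917 F313896)).symm
theorem F349408 : act 0 n139392 = n65463 := (sb E100691 (iv1 D139492))
theorem E100692 : n147780 = n65416 := (c20_10 F168894 (iv1 F79659) D65425 D139392 F349408 (iv3 F222675) F336316 (iv1 D69233) D69234 D147780 (iv1 F168898))
theorem E100693 : n139379 = n69234 := ((D139379).symm.trans (sb E100692 (iv3 D147780)))
theorem F349409 : act 3 n69234 = n65416 := (sb E100693 (iv3 D139379))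
theorem F349410 : act 2 n144394 = n139491 := d15_3 (iv0 D139491) (iv0 F349408) (iv7 F227159)
theorem E100694 : n139957 = n139491 := ((c1_2 D144394 F349410 (iv4 D139957) (iv2 F335040))).symm
theorem F349411 : act 4 n139491 = n65707 := (sb E100694 (iv4 D139957))
theorem F349412 : act 3 n139380 = n147781 := d6_3 (iv5 D147781) F349409 D139380
theorem F349413 : act 3 n139381 = n147721 := d7_3 F231457 F349409 D139381
theorem F349414 : act 3 n108895 = n147782 := d8_3 (iv7 D147782) F349409 F171923
theorem F349415 : act 2 n154526 = n139382 := d0_3 F349414 F231530 (iv3 F242554) (iv3 D139382) F171926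
theorem F349416 : act 5 n153865 = n108895 := d6_0 F349414 F231532 D153865
theorem F349417 : act 2 n139383 = n153865 := d2_3 F349416 (iv2 F171926) D139383
theorem F349418 : act 6 n134454 = n153865 := d12_0 F349416 F217187 (iv5 F342845) (iv6 D134455) D134454
theorem F349419 : act 7 n139380 = n153865 := d13_0 F349416 (iv7 F171923) D139380
theorem F349420 : act 1 n124046 = n153865 := d17_6 (iv1 F79652) (iv5 F168563) F168565 F79769 D65102 (iv5 F336654) F349416 F168889 F101113
theorem F349421 : act 0 n138643 = n153865 := d21_1 D138643 F349416 F217187 (iv1 D134970) F98760 F329118 (iv1 F329101) (iv5 D51303) D51304 (iv1 F172392)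
theorem F349422 : act 6 n139383 = n135217 := d3_2 F349418 (iv2 F349417) F217402
theorem F349423 : act 3 n153831 = n134454 := d7_3 F349418 (iv3 D153865) (iv6 F241677)
theorem F349424 : act 5 n134453 = n153831 := d6_0 F349423 (iv5 D134454) D134453
theorem F349425 : act 2 n154409 = n134453 := d2_3 F349424 F241676 D154409
theorem F349426 : act 3 n154525 = n139383 := d0_0 F349417 (iv3 D153865) F109257 D73193 D154525
theorem F349427 : act 5 n139382 = n154525 := d6_0 F349426 (iv5 D139383) D139382
theorem F349428 : act 3 n155606 = n162825 := d20_5 F101198 F168232 D67398 D143883 F320337 (iv4 D162825) F336611 D147721 (iv3 F349413) F226510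
theorem F349429 : act 6 n115346 = n139698 := d3_0 F349399 (iv6 D115351) (iv2 F179629)
theorem F349430 : act 4 n131043 = n115346 := d10_3 F349429 (iv4 D139698) (iv6 F349379)
theorem F349431 : act 7 n115346 = n178672 := d11_2 (iv7 F313723) F349430 (iv4 D178672)
theorem F349432 : act 5 n115231 = n115461 := d17_7 D53731 (iv5 F320932) D117689 (iv5 F313722) F349430 (iv5 D115346) F179449 (iv0 D115461) F327060
theorem F349433 : act 2 n115461 = n115344 := d2_1 F349432 (iv5 D115344) (iv2 F203960)
theorem F349434 : act 7 n115461 = n115339 := d13_2 (iv7 F203961) F349432 (iv5 D115339)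
theorem F349435 : act 4 n115461 = n141445 := d19_2 D115231 F349432 (iv3 D141445) (iv1 F102268) (iv5 F319212) (iv4 D31864) (iv3 D14999) (iv1 D7136) (iv5 D3285) (iv4 D1456) F5185 (iv1 F2122) F2119 (iv4 F2108) (iv3 F3826) (iv1 F8933) D12244 D25786 D53165
theorem F349436 : act 6 n115231 = n156091 := d21_3 D53261 D115461 (iv5 F349432) (iv1 D156091) (iv6 D74249) (iv5 D34064) (iv1 F53430) (iv5 F100350) F336208 (iv1 D53259)
theorem F349437 : act 2 n156091 = n115345 := d3_1 F349436 (iv6 D115345) (iv2 F203960)
theorem F349438 : act 6 n117683 = n115461 := d10_0 F349435 F320806 (iv4 F184281)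
theorem E100695 : n119633 = n115344 := ((c3_2 F349438 F349433 (iv6 D119633) (iv2 F184284))).symm
theorem F349439 : act 6 n115344 = n55043 := (sb E100695 (iv6 D119633))
theorem F349440 : act 0 n115348 = n178672 := d21_10 (iv5 F341180) (iv1 F179454) D115344 F349439 (iv1 D55043) F42606 D39385 D85202 F314996 (iv6 F336250)
theorem F349441 : act 2 n110429 = n178672 := d15_3 (iv0 F349440) (iv0 D115348) (iv7 F170806)
theorem F349442 : act 3 n178672 = n115402 := d0_2 D110429 F349441 F179705 F84087 (iv2 F80336)
theorem F349443 : act 4 n124970 = n110429 := d1_0 F349441 (iv4 D178672) (iv2 F200711)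
theorem F349444 : act 5 n117704 = n136105 := d16_3 (iv4 D178672) F130440 D117704 F336183 F174125 F84014 D53213 (iv7 F170806) F349441
theorem F349445 : act 1 n117442 = n116613 := d17_8 F316806 (iv5 D85104) D85102 F130440 D117704 F349444 (iv0 D136105) (iv5 F329158) (iv4 D116613)
theorem F349446 : act 1 n112020 = n143033 := d18_6 F337293 (iv4 F309419) (iv1 F184312) D117704 F349444 F336183 F225900 D143089 (iv5 F347294)
theorem F349447 : act 0 n117496 = n117704 := d19_0 F349444 F336183 (iv3 D112020) F81579 F76914 F37130 F18115 (iv1 F7605) (iv5 F5483) F5482 F5193 F4626 (iv5 F2556) D3226 D7072 D14848 F41597 D54142 D117496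
theorem E100696 : n145052 = n105805 := (c20_11 (iv4 F184049) F349447 (iv4 D117704) (iv3 F337297) F337294 (iv3 F314858) F187577 F317127 (iv4 D67997) D67996 D145052)
theorem F349448 : act 1 n105805 = n67996 := (sb E100696 (iv0 D145052))
theorem F349449 : act 3 n117704 = n102509 := d20_5 F41607 (iv1 F41595) D54142 D117496 F349447 F326381 (iv1 F169899) (iv4 F184065) (iv3 D117501) (iv1 F85466)
theorem F349450 : act 1 n117537 = n117704 := d15_0 (iv0 F349447) F184050 D117537
theorem F349451 : act 0 n145056 = n156515 := d18_0 (iv4 F336249) F349440 (iv4 D178672) F130440 D117704 (iv0 F349447) F184049 F349448 D145056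
theorem F349452 : act 4 n117537 = n144901 := d20_2 D117704 (iv1 F349450) F227865 D147605 F243353 (iv4 D147982) F316572 F314113 (iv3 F184310) (iv1 F184312)
theorem F349453 : act 2 n144901 = n117524 := d1_1 F349452 F184119 D117537
theorem F349454 : act 3 n147599 = n117537 := d5_5 F349452 F227865 F105461 (iv3 F105460) (iv4 F231388)
theorem F349455 : act 6 n117227 = n117537 := d10_0 F349452 (iv6 D144901) (iv4 F183418)
theorem F349456 : act 0 n117537 = n117702 := d20_7 F312511 F314974 F313264 D116926 F243344 (iv3 F227865) (iv4 F349452) (iv4 D117702) (iv3 F183646) (iv1 F112642)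
theorem F349457 : act 7 n117537 = n153301 := d14_2 (iv7 F183417) F349455 (iv6 D153301) (iv7 F109360) F316667
theorem F349458 : act 2 n153301 = n117496 := d4_1 F349457 F184050 D117537
theorem F349459 : act 1 n117496 = n117702 := d15_0 (iv0 F349456) F349457 F349458
theorem F349460 : act 1 n117536 = n153301 := d15_1 D117536 (iv7 F349457) (iv2 D117537)
theorem F349461 : act 6 n117496 = n122827 := d3_2 D153301 F349458 F196805
theorem F349462 : act 1 n153301 = n117535 := d15_0 (iv0 D117535) (iv7 F184050) (iv2 F349458)
theorem F349463 : act 6 n97227 = n105805 := d10_2 F349461 F196807 (iv4 F184049)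
theorem F349464 : act 5 n141537 = n176947 := d12_3 F349463 F321267 D141537 (iv6 D176947) (iv5 F149979)
theorem F349465 : act 6 n117524 = n105771 := d14_3 (iv7 F149980) F349463 (iv7 F184120) F162431 (iv6 F311488)
theorem F349466 : act 5 n141445 = n117524 := d12_5 F349465 F162430 (iv6 F115161) F115160 (iv6 F320806)
theorem F349467 : act 4 n117536 = n117690 := d18_7 F319196 (iv4 F327060) D115461 F349435 F349466 F184119 D117536 F184302 F316847
theorem F349468 : act 2 n117704 = n117536 := d1_3 F349467 (iv2 F184304) D117704
theorem F349469 : act 7 n117702 = n117536 := d11_0 F349467 F184303 D117702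
theorem F349470 : act 2 n117702 = n117535 := d15_3 (iv0 D117535) D117536 (iv7 F349469)
theorem F349471 : act 4 n117535 = n117689 := d1_2 D117702 F349470 (iv2 F184300)
theorem F349472 : act 7 n117535 = n117704 := d4_2 (iv7 F349469) F349470 F349468
theorem F349473 : act 6 n148544 = n117535 := d10_0 F349471 F184299 D148544
theorem F349474 : act 0 n144960 = n117524 := d20_10 F184119 D117535 F349471 F243076 F312417 (iv3 F86798) F86799 D54855 F316464 D144960
theorem F349475 : act 0 n123532 = n117699 := d20_10 (iv4 F227931) F349474 F184119 (iv3 D54156) D54154 D117531 F184132 F343309 (iv4 F321914) F321913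
theorem F349476 : act 3 n137379 = n117699 := d20_5 F85485 (iv1 F114752) F114753 D117504 F338497 (iv4 F227931) F349474 F184119 (iv3 D54156) D54154
theorem F349477 : act 1 n145054 = n117524 := d15_0 (iv0 F349474) F264348 D145054
theorem F349478 : act 5 n117699 = n137377 := d6_2 D137379 F349476 (iv3 D137377)
theorem E100697 : n143088 = n137377 := (c19_1 D143088 (iv5 F349478) (iv4 F227931) (iv3 D144960) (iv1 D67958) (iv5 F94954) (iv4 F206656) (iv3 F336171) (iv1 F224393) (iv5 D141351) (iv4 D66308) F49399 (iv1 F45837) D28335 (iv4 F319712) D66876 F208260 (iv5 D31231) (iv4 F49544) (iv3 F103036))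
theorem F349479 : act 1 n137377 = n67054 := (sb E100697 (iv0 D143088))
theorem F349480 : act 7 n123532 = n117688 := d15_2 D117699 (iv0 F349475) F184297
theorem F349481 : act 0 n139972 = n144467 := d21_10 F316713 F348274 (iv5 F349464) (iv6 D141537) (iv1 F336235) (iv6 D115625) D115624 (iv1 F223196) (iv5 D139971) D139972
theorem E100698 : n109883 = n95468 := (c5_3 D117704 F349449 F326381 (iv3 D95468) D95469 F337297)
theorem F349482 : act 0 n95468 = n59899 := (sb E100698 (iv1 F169899))
theorem F349483 : act 1 n95468 = n96353 := (sb E100698 (iv0 F320048))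
theorem F349484 : act 2 n95468 = n50678 := (sb E100698 F169886)
theorem F349485 : act 4 n95468 = n102509 := (sb E100698 (iv4 F326381))
theorem F349486 : act 5 n95468 = n50677 := (sb E100698 (iv5 D109883))
theorem F349487 : act 7 n95468 = n96262 := (sb E100698 (iv7 F320047))
theorem E100699 : n136105 = n102507 := ((c6_4 (iv5 F349444) F349449 (iv5 D102509) D102507)).symm
theorem F349488 : act 1 n102507 = n64006 := (sb E100699 (iv0 D136105))
theorem F349489 : act 4 n102507 = n112020 := (sb E100699 F336183)
theorem F349490 : act 5 n102507 = n117704 := (sb E100699 (iv5 F349444))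
theorem F349491 : act 4 n102497 = n143112 := d20_2 (iv4 F74745) D102497 (iv3 D143112) (iv1 D67062) (iv3 F103036) (iv4 F225900) (iv1 F349446) (iv4 F349489) (iv3 D102507) (iv1 D47547)
theorem E100700 : n143112 = n47391 := (c18_2 D102497 F349491 F329746 (iv4 F328447) F171079 F325234 F323957 D110119 (iv0 F170253) F344568)
theorem E100701 : n102034 = n67062 := ((D102034).symm.trans (sb E100700 (iv3 D143112)))
theorem E100702 : n102497 = n102035 := (((D102035).symm.trans (sb E100700 (iv4 F349491)))).symm
theorem F349492 : act 3 n67062 = n47391 := (sb E100701 (iv3 D102034))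
theorem F349493 : act 1 n102035 = n47545 := (sb E100702 (iv0 D102497))
theorem F349494 : act 1 n112281 = n102035 := d15_0 F349493 D102500 F344569
theorem E100703 : n112113 = n102504 := ((c17_2 D47546 D102504 F182589 D143400 F226165 (iv5 D112050) F325629 (iv5 F344511) F349493 F74745)).symm
theorem F349495 : act 0 n102504 = n67170 := (sb E100703 F182589)
theorem F349496 : act 4 n102504 = n51703 := (sb E100703 (iv4 D112113))
theorem F349497 : act 7 n102504 = n109887 := (sb E100703 F174323)
theorem E100704 : n137921 = n102457 := (c20_4 F49544 D31229 F343287 D137921 (iv1 D102457) F74728 (iv4 F74745) (iv1 F349493) (iv4 D102035) (iv3 F349492) (iv1 D67062))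
theorem F349498 : act 3 n102457 = n64821 := (sb E100704 (iv3 D137921))
theorem F349499 : act 6 n102457 = n159421 := (sb E100704 F343293)
theorem E100705 : n112050 = n101875 := (c21_3 F344511 (iv1 F325629) D112050 (iv6 D101875) (iv1 D47339) F35299 D22797 (iv1 F64407) F64409 D47545 (iv1 F349493))
theorem F349500 : act 0 n101875 = n176872 := (sb E100705 (iv1 F344574))
theorem F349501 : act 1 n101875 = n110206 := (sb E100705 F174186)
theorem F349502 : act 2 n101875 = n109425 := (sb E100705 F174184)
theorem F349503 : act 4 n101875 = n143400 := (sb E100705 (iv4 F226165))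
theorem F349504 : act 5 n101875 = n51677 := (sb E100705 (iv5 D112050))
theorem F349505 : act 7 n101875 = n109445 := (sb E100705 F174185)
theorem F349506 : act 6 n143400 = n98502 := d10_2 D101875 F349503 F274517
theorem F349507 : act 3 n98502 = n143404 := d7_1 F349506 (iv6 D143404) (iv3 F226164)
theorem F349508 : act 2 n143404 = n122649 := d0_1 F349507 F196512 (iv2 F300543) D124381 F286893
theorem F349509 : act 5 n143404 = n99290 := d6_2 F151902 F349507 (iv3 F303334)
theorem F349510 : act 0 n143404 = n98878 := d21_7 F44590 (iv1 F31358) D22128 (iv6 F300549) F73274 D99290 (iv5 F349509) (iv5 D98878) (iv6 D46275) (iv1 F44596)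
theorem F349511 : act 5 n183451 = n157635 := d21_8 (iv5 F349509) F349510 (iv5 D98878) (iv6 D46275) (iv1 F44596) (iv6 F298964) D123428 F301616 (iv6 D157635) (iv1 F196516)
theorem E100706 : n143305 = n99822 := ((c21_9 F226004 (iv1 D67169) D67171 D143404 F349510 F152440 (iv5 D46850) (iv1 F73645) D99822 (iv6 D143305) (iv1 F226003))).symm
theorem F349512 : act 6 n99822 = n67131 := (sb E100706 (iv6 D143305))
theorem F349513 : act 0 n183451 = n135068 := d21_7 D177824 F338830 D179763 (iv6 F301781) F196515 D157635 (iv5 F349511) (iv5 F332662) F136704 (iv1 F129901)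
theorem F349514 : act 6 n122649 = n117794 := d3_2 D143404 F349508 F205159
theorem F349515 : act 3 n117794 = n122653 := d7_1 F349514 F196517 (iv3 F196512)
theorem F349516 : act 7 n122653 = n143434 := d8_2 F205161 F349515 F226192
theorem F349517 : act 6 n109425 = n99734 := d3_2 D101875 F349502 F286963
theorem F349518 : act 0 n99832 = n163254 := d21_10 (iv5 D163254) F325182 D109425 F349517 (iv1 D99734) F73571 (iv5 F64417) (iv1 F74755) F74753 D99832
theorem F349519 : act 1 n99832 = n142495 := d15_1 (iv0 F349518) (iv7 F344512) F344509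
theorem F349520 : act 4 n101863 = n176872 := d17_4 (iv1 D99760) F73596 D89440 (iv5 F156994) F276243 F324513 (iv5 F344562) F349519 (iv4 F344580)
theorem F349521 : act 6 n176872 = n137178 := d10_2 (iv6 F346654) F349520 (iv4 D137178)
theorem F349522 : act 7 n176871 = n101863 := d11_0 F349520 (iv7 D176872) D176871
theorem F349523 : act 0 n107291 = n109299 := d19_4 D89440 (iv5 F156994) F349520 (iv3 F342890) (iv5 D109299) (iv4 F94212) (iv3 D59819) (iv1 F45872) (iv5 F45901) (iv4 D28388) (iv3 F45898) F50518 (iv5 D32022) D32021 F50393 (iv1 D28404) D28406 D59851 (iv3 F329603)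
theorem F349524 : act 4 n109299 = n144316 := d18_3 (iv1 D107290) D107291 F349523 (iv5 D144316) F103628 (iv0 F100278) D132511 (iv0 F212659) F165356
theorem F349525 : act 3 n130537 = n101861 := d20_5 F349524 F227040 F331826 F209137 F209121 F156816 D101863 F349520 (iv3 F342890) F349523
theorem F349526 : act 5 n109324 = n130537 := d6_0 F349525 F321245 D109324
theorem F349527 : act 6 n101859 = n130537 := d7_0 F349525 (iv6 D101861) D101859
theorem F349528 : act 3 n109718 = n131912 := d8_3 (iv7 F211357) F349525 F321246
theorem F349529 : act 5 n131912 = n112001 := d6_2 (iv5 F171076) F349528 (iv3 D112001)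
theorem F349530 : act 5 n136265 = n130531 := d19_13 F164583 F164582 (iv4 F211354) (iv3 F349528) (iv1 F174587) (iv5 D112243) F81762 F39562 (iv1 F39488) (iv5 F81782) D51794 (iv3 F173164) (iv1 F219321) (iv4 F221479) F221478 D138279 F329662 (iv4 D66281) (iv3 F101858)
theorem F349531 : act 2 n130531 = n136266 := d2_1 F349530 (iv5 D136266) D136265
theorem F349532 : act 5 n133455 = n111621 := d16_5 (iv4 F219319) F349530 (iv4 F221479) (iv5 F336382) F216165 (iv4 D111621) (iv5 D51478) (iv7 F81045) D111328
theorem F349533 : act 3 n111621 = n133457 := d6_1 F349532 (iv5 D133457) (iv3 F214612)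
theorem F349534 : act 4 n133457 = n110867 := d5_2 D111621 F349533 F171723 F80643 (iv3 F81253)
theorem F349535 : act 4 n115553 = n130947 := d11_3 (iv7 F214616) F349534 (iv7 F179860)
theorem F349536 : act 6 n136266 = n130529 := d3_2 D130531 F349531 (iv2 D130529)
theorem F349537 : act 5 n125672 = n130540 := d2_2 F349529 (iv2 F202158) F211355
theorem E100707 : n125818 = n58851 := (c16_8 D125672 F349537 (iv4 D130540) (iv5 F164635) (iv4 F332794) (iv5 D125781) (iv4 F93137) D125818 (iv7 F201880) F201882)
theorem E100708 : n125676 = n58918 := ((D125676).symm.trans (sb E100707 (iv5 D125818)))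
theorem E100709 : n125677 = n58920 := ((D125677).symm.trans (sb E100707 F202326))
theorem E100710 : n126045 = n125809 := ((((iv3 F202319)).symm.trans (sb E100708 F202752))).symm
theorem F349538 : act 5 n58918 = n58851 := (sb E100708 (iv5 D125676))
theorem F349539 : act 6 n58920 = n58851 := (sb E100709 (iv6 D125677))
theorem F349540 : act 0 n125809 = n59057 := (sb E100710 (iv1 D126045))
theorem F349541 : act 1 n125809 = n59077 := (sb E100710 F202750)
theorem F349542 : act 5 n125809 = n125675 := (sb E100710 F202751)
theorem F349543 : act 5 n130533 = n125659 := d18_9 (iv1 D125659) F93036 D58850 D125672 F349537 (iv4 D130540) F97600 (iv4 F182962) F209111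
theorem F349544 : act 7 n125673 = n108909 := d16_8 F93137 D125781 F332794 F164635 D130540 (iv5 F349537) (iv4 D125672) D125673 F168921
theorem F349545 : act 2 n125819 = n125673 := d4_3 F349544 F168921 D125819
theorem F349546 : act 5 n108909 = n125522 := d13_1 F349544 (iv7 F201883) D125673
theorem F349547 : act 6 n125843 = n125673 := d14_5 F349544 (iv6 D108909) F79667 D58927 D125843
theorem F349548 : act 1 n125817 = n125673 := d15_1 D125817 F349544 F168921
theorem F349549 : act 6 n125522 = n108911 := d12_2 D108909 F349546 (iv5 D108911) (iv6 D50286) D50285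
theorem E100711 : n125771 = n108909 := (c21_8 (iv5 D68193) D68190 D145443 F332891 F328128 (iv6 D58897) D58896 D125771 F349546 F349549 F168927)
theorem F349550 : act 1 n108909 = n58896 := (sb E100711 (iv0 D125771))
theorem F349551 : act 6 n125901 = n125525 := d21_5 (iv5 D51967) (iv1 F45202) (iv5 F45279) D58951 D125901 (iv5 D125525) D125522 (iv5 F349546) (iv6 D108909) (iv1 F82076)
theorem F349552 : act 3 n125527 = n125901 := d7_3 F349551 F201889 D125527
theorem E100712 : n125819 = n125772 := ((c15_2 F349550 D125772 (iv7 D125819) (iv2 F168921))).symm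
theorem F349553 : act 2 n125772 = n125673 := (sb E100712 F349545)
theorem F349554 : act 4 n125772 = n125782 := (sb E100712 F202327)
theorem F349555 : act 7 n125772 = n58918 := (sb E100712 (iv7 D125819))
theorem F349556 : act 5 n145460 = n125768 := d21_8 D58896 (iv1 F349550) F349546 F349549 F168927 D145452 F228487 D145460 (iv6 D125768) (iv1 D58894)
theorem F349557 : act 5 n125523 = n125772 := d13_3 F349555 F349538 (iv7 F201880)
theorem F349558 : act 1 n125673 = n125816 := d15_0 (iv0 D125816) (iv7 F349555) F349553
theorem E100713 : n131902 = n125782 := ((c16_5 (iv4 F211354) F349529 F201879 F349557 F349554 F211337 (iv4 F214402) (iv5 D133351) F168403 F168402)).symm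
theorem F349559 : act 1 n125782 = n61891 := (sb E100713 (iv0 D131902))
theorem F349560 : act 5 n125782 = n128858 := (sb E100713 F211337)
theorem F349561 : act 5 n106478 = n125773 := d18_4 D61889 F163726 (iv1 F77909) (iv4 F163720) (iv4 D125773) D125772 F349554 F349559 (iv5 D61891)
theorem F349562 : act 7 n125773 = n106477 := d13_2 D106478 F349561 (iv5 D106477)
theorem F349563 : act 5 n136259 = n130536 := d16_1 (iv4 F219309) F209118 F95712 (iv4 F163720) F349561 (iv4 D125773) (iv5 D58896) (iv7 F92909) D125540
theorem F349564 : act 3 n126247 = n106577 := d19_19 F163855 F349561 (iv4 D125773) F93116 (iv1 F93094) F93096 F92876 F45196 (iv1 D25399) (iv5 D12078) (iv4 F8847) (iv3 D5740) F9907 D2726 D6375 D13418 D28109 D59185 D126247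
theorem F349565 : act 7 n131909 = n126247 := d8_0 F349564 F163854 D131909
theorem E100714 : n126126 = n111040 := (c11_3 F349565 (iv4 D126247) (iv7 F202827) (iv4 F211350))
theorem F349566 : act 0 n111040 = n145457 := (sb E100714 (iv1 F228493))
theorem F349567 : act 1 n111040 = n107540 := (sb E100714 F202828)
theorem F349568 : act 2 n111040 = n59189 := (sb E100714 F202826)
theorem F349569 : act 5 n111040 = n59104 := (sb E100714 (iv5 D126126))
theorem F349570 : act 7 n111040 = n59185 := (sb E100714 F202827)
theorem F349571 : act 7 n126248 = n131800 := d14_2 F349570 D126248 (iv6 D131800) (iv7 F163805) (iv6 F172213)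
theorem F349572 : act 3 n131804 = n126248 := d8_3 F349571 F211175 D131804
theorem F349573 : act 5 n125881 = n131909 := d16_1 D125881 F211350 F349569 F323932 F57170 (iv4 F119728) (iv5 F325719) (iv7 F202369) (iv2 F202371)
theorem E100715 : n125816 = n125541 := (c19_7 D59104 (iv5 F349569) (iv4 F211350) (iv3 D131909) F96488 D106477 F342884 F201933 (iv1 F92987) (iv5 D58813) F45221 F39302 (iv1 F39208) (iv5 D23712) (iv4 F18015) (iv3 D11112) F10161 (iv5 F10405) (iv4 F22314) (iv3 F45340))
theorem F349574 : act 0 n125541 = n125673 := (sb E100715 (iv1 F349558))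
theorem F349575 : act 1 n125541 = n58918 := (sb E100715 (iv0 D125816))
theorem F349576 : act 4 n125541 = n106477 := (sb E100715 (iv4 F342884))
theorem F349577 : act 5 n125538 = n125930 := d21_2 (iv5 D125541) D125538 (iv6 D125930) (iv1 D58957) (iv6 D28020) (iv5 D13368) D13365 D28007 D58918 (iv1 F349575)
theorem F349578 : act 2 n125930 = n125767 := d2_1 F349577 (iv5 D125767) F201925
theorem F349579 : act 7 n125930 = n125764 := d13_2 F201927 F349577 (iv5 D125764)
theorem F349580 : act 4 n125767 = n131898 := d16_0 (iv5 D131898) F163726 D106680 (iv4 F206795) (iv5 F344588) (iv4 D125763) D125764 (iv7 F349579) F349578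
theorem F349581 : act 4 n125764 = n131901 := d9_9 D125767 F349580 (iv5 D131898) F163726 D106680 (iv4 F206795) (iv5 F344588) (iv4 D125763) D125764 (iv5 D131901) F96475 (iv5 F77904) (iv4 F95003) (iv5 F344591) F169702
theorem F349582 : act 7 n125763 = n128566 := d16_8 F169702 D125767 F349580 (iv5 D131898) F163726 D106680 (iv4 F206795) (iv5 F344588) (iv2 F344590)
theorem F349583 : act 4 n128566 = n125538 := d11_1 F349582 (iv7 F201927) D125763
theorem E100716 : n125817 = n125769 := ((c17_2 (iv1 F201921) D125769 (iv1 D125817) F349538 (iv4 F169346) F349526 (iv0 F209121) D130554 F209139 F349583)).symm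
theorem F349584 : act 0 n125769 = n58918 := (sb E100716 (iv1 D125817))
theorem F349585 : act 1 n125769 = n125673 := (sb E100716 F349548)
theorem F349586 : act 5 n136258 = n105662 := d18_9 (iv1 F172130) F176208 (iv1 D113096) (iv4 F95035) D128566 F349583 (iv0 D125538) (iv4 F99649) D136258
theorem F349587 : act 4 n130554 = n125558 := d20_2 (iv4 F349583) (iv1 F209139) (iv3 D125558) (iv1 D58786) (iv3 D27951) (iv4 D13334) D13332 D27947 D58775 D125538
theorem F349588 : act 3 n142507 = n136258 := d6_3 F349586 F162257 (iv5 F225405)
theorem F349589 : act 7 n105661 = n136258 := d13_0 F349586 (iv7 D105662) D105661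
theorem F349590 : act 2 n136258 = n125751 := d15_3 (iv0 D125751) (iv0 F344596) F349589
theorem F349591 : act 7 n111009 = n125751 := d4_2 (iv7 F349589) (iv2 F172133) (iv2 F349590)
theorem F349592 : act 5 n125751 = n111010 := d13_1 F349591 (iv7 D111010) D111009
theorem F349593 : act 6 n113453 = n125751 := d12_0 F349592 (iv6 F339735) (iv5 D103744) D103745 (iv5 F347820)
theorem F349594 : act 5 n125658 = n130534 := d17_1 D125658 (iv1 D130534) (iv5 F344595) F202253 D125769 F349585 (iv5 D125673) (iv0 D58850) (iv4 F93036)
theorem F349595 : act 6 n125767 = n125926 := d3_2 D125930 F349578 F202408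
theorem F349596 : act 3 n131910 = n125881 := d6_3 F349573 (iv3 D131909) D131910
theorem F349597 : act 0 n125881 = n125876 := d21_7 F170286 (iv1 D68196) D68198 D145459 F347586 (iv6 F211351) (iv5 F349573) (iv5 F203031) (iv6 D126263) (iv1 F163299)
theorem F349598 : act 1 n125881 = n125891 := d15_1 (iv0 F349597) (iv7 D125891) (iv2 F202374)
theorem F349599 : act 2 n126255 = n127089 := d0_3 D111040 F349568 (iv3 F203028) (iv3 D127089) F94039
theorem F349600 : act 2 n126257 = n131909 := d1_3 F211350 F349568 D126257
theorem F349601 : act 2 n126258 = n106553 := d3_3 (iv6 F172213) F349568 D126258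
theorem F349602 : act 3 n131811 = n126258 := d0_0 F349601 (iv3 D106553) F77768 D61851 D131811
theorem F349603 : act 5 n163415 = n126258 := d2_0 F349601 (iv5 F295474) F293085
theorem F349604 : act 7 n131798 = n126258 := d4_0 F349601 F163805 D131798
theorem F349605 : act 1 n126258 = n131796 := d15_0 (iv0 D131796) (iv7 F163805) (iv2 F349601)
theorem F349606 : act 5 n106530 = n131796 := d21_0 (iv1 F349605) (iv5 F349603) (iv6 D163415) (iv1 F294044) F332568 (iv5 D106795) D106793 F340423 (iv6 D106533) D106530
theorem E100717 : n177381 = n129061 := (c17_2 D128672 (iv5 F343533) (iv1 F207296) (iv5 D128638) F95092 D106641 F164259 F349606 (iv0 D131796) F96402)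
theorem F349607 : act 5 n129061 = n128672 := (sb E100717 F343533)
theorem F349608 : act 6 n129061 = n84509 := (sb E100717 (iv6 D177381))
theorem F349609 : act 3 n126314 = n129061 := d7_3 F349608 (iv3 F348384) (iv6 F203103)
theorem F349610 : act 3 n128672 = n113561 := d6_3 (iv5 F203105) F349609 F349607
theorem F349611 : act 4 n113561 = n132391 := d20_6 (iv4 D13710) D13708 D28741 D60517 D128672 F349610 (iv1 D132391) F96829 (iv3 D60529) (iv1 D28746)
theorem F349612 : act 4 n129639 = n113559 := d16_4 D126314 F203105 F349611 F343603 (iv5 D113559) F161334 D59214 F166426 F166428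
theorem F349613 : act 4 n128657 = n113527 := d20_8 F349611 (iv1 D132391) F96829 (iv3 D60529) (iv1 D28746) D28747 (iv4 F95124) D128657 F176695 D113561
theorem F349614 : act 0 n106262 = n128643 := d21_4 (iv5 D110139) F80171 (iv5 F77524) D106262 (iv6 D128643) (iv5 F95271) D129061 F349607 F343532 F228492
theorem F349615 : act 1 n131797 = n126258 := d15_1 D131797 (iv7 F349604) (iv2 D131798)
theorem F349616 : act 3 n131797 = n113718 := d20_5 (iv4 D129190) (iv1 F96738) (iv4 F211213) F349602 (iv1 F349615) (iv4 D113718) (iv1 F161485) F323238 D131879 F214805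
theorem F349617 : act 5 n106531 = n131797 := d6_0 F349616 (iv5 F343629) F343660
theorem E100718 : n134489 = n113719 := (c19_1 D134489 (iv5 D113719) D113718 (iv3 F349616) (iv1 D131797) D131799 (iv4 F295478) F295477 (iv1 F96041) F96038 (iv4 D29591) F26144 (iv1 F26142) (iv5 D11832) (iv4 F19464) (iv3 F22392) (iv1 F22417) (iv5 F45617) F48021 D63186)
theorem F349618 : act 0 n113719 = n126549 := (sb E100718 (iv1 F216438))
theorem F349619 : act 1 n113719 = n63186 := (sb E100718 (iv0 D134489))
theorem F349620 : act 3 n113719 = n135687 := (sb E100718 (iv3 F218186))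
theorem F349621 : act 5 n135687 = n113717 := d6_2 D113719 F349620 (iv3 D113717)
theorem E100719 : n131886 = n131848 := (c17_6 D52506 D113719 F349618 (iv5 F332609) (iv4 F332617) (iv5 F211718) (iv0 D131848) (iv5 F332813) F327328 F82743)
theorem F349622 : act 0 n131848 = n61886 := (sb E100719 (iv1 D131886))
theorem F349623 : act 5 n131848 = n61932 := (sb E100719 F211718)
theorem F349624 : act 0 n131985 = n131826 := d21_4 F349623 (iv1 D61932) D61934 D131985 (iv6 D131826) (iv5 D61857) (iv1 D29310) D29312 D61864 D131848
theorem F349625 : act 6 n106170 = n131856 := d21_3 D52604 D113957 (iv5 F177854) (iv1 D131856) (iv6 F332814) F332813 D131848 F349623 (iv6 F332621) (iv1 D52603)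
theorem F349626 : act 6 n128899 = n106367 := d3_2 F349625 (iv2 F211264) F163484
theorem F349627 : act 4 n126240 = n106503 := d20_0 (iv1 D106503) (iv4 F96535) (iv3 F211479) F349624 F343678 F341791 (iv1 D107577) F78526 (iv3 F164647) F343616
theorem F349628 : act 2 n106503 = n106700 := d1_1 F349627 F343626 (iv2 F203018)
theorem F349629 : act 7 n106503 = n106699 := d11_2 D126240 F349627 F332825
theorem F349630 : act 4 n106701 = n113469 := d18_7 (iv1 F165617) (iv4 D52352) (iv1 F76539) (iv4 F93386) (iv5 F203019) F349627 F164437 (iv0 D113469) (iv5 D52379)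
theorem F349631 : act 6 n113469 = n131959 := d10_2 (iv6 F164435) F349630 F211433
theorem E100720 : n113408 = n106502 := (c18_2 (iv1 F328929) D113408 (iv1 F164438) F349630 F176650 F172621 F92964 (iv4 F171114) (iv0 D110568) (iv5 F328520))
theorem F349632 : act 2 n106502 = n106699 := (sb E100720 (iv2 F332824))
theorem F349633 : act 4 n106502 = n52348 := (sb E100720 (iv4 D113408))
theorem F349634 : act 7 n106502 = n106700 := (sb E100720 (iv7 F343627))
theorem F349635 : act 4 n130623 = n106684 := d20_8 F343654 F349622 (iv4 F333532) F333531 F163781 D130617 F209195 D130623 F164388 D106685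
theorem E100721 : n131883 = n131851 := ((c15_3 (iv0 F349622) (iv0 D131848) D131851 F211316)).symm
theorem F349636 : act 2 n131851 = n61886 := (sb E100721 F211316)
theorem F349637 : act 5 n131851 = n61885 := (sb E100721 (iv5 D131883))
theorem F349638 : act 6 n106683 = n130623 := d10_0 F349635 (iv6 D106684) D106683
theorem F349639 : act 0 n163465 = n106647 := d21_4 (iv5 D163458) (iv1 D78552) D78554 D163465 (iv6 F343661) F349617 (iv1 D131797) D131799 F348748 F257868
theorem F349640 : act 5 n106613 = n163465 := d17_1 (iv1 F164215) F349639 F164267 F77880 D63399 D134909 F332732 (iv0 F328743) (iv4 F328937)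
theorem F349641 : act 2 n163465 = n132038 := d2_1 F349640 (iv5 D132038) (iv2 F218395)
theorem F349642 : act 3 n163476 = n106613 := d6_3 F349640 F257747 D163476
theorem F349643 : act 6 n97412 = n132045 := d21_5 F262194 (iv1 F122744) (iv5 F324248) (iv6 D161002) (iv1 F294047) (iv5 D132045) (iv1 F164215) F349640 (iv6 D163465) D163462
theorem F349644 : act 3 n132045 = n110777 := d7_1 F349643 F171473 F341804
theorem F349645 : act 4 n132045 = n97413 := d10_1 F349643 (iv6 D97413) D97412
theorem F349646 : act 7 n132045 = n110773 := d14_2 (iv7 F150153) F349643 (iv6 D110773) F80533 (iv6 F330367)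
theorem F349647 : act 2 n110773 = n106615 := d4_1 F349646 F164218 (iv2 F211531)
theorem F349648 : act 5 n110773 = n106614 := d13_1 F349646 F164213 D132045
theorem F349649 : act 1 n132048 = n110773 := d15_1 D132048 (iv7 F349646) F211531
theorem F349650 : act 5 n132048 = n106659 := d21_0 (iv1 D106659) (iv5 F164267) (iv6 F343661) (iv1 D106531) D106533 (iv5 F340423) (iv1 F164590) (iv5 F80532) D110773 (iv1 F349649)
theorem F349651 : act 0 n134904 = n91183 := d17_2 (iv1 F216832) D134904 F328749 F81135 D61962 D132048 F349650 F164297 (iv4 F216828)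
theorem F349652 : act 6 n106659 = n126225 := d21_3 (iv5 F349648) (iv1 F349649) F349650 (iv1 F202994) F345919 (iv5 F95269) (iv1 F339684) (iv5 D128949) (iv6 F339688) (iv1 F164214)
theorem F349653 : act 2 n126230 = n106659 := d3_3 F349652 F202991 D126230
theorem F349654 : act 4 n137700 = n106659 := d10_3 F349652 (iv4 F219126) D137700
theorem F349655 : act 7 n106658 = n126230 := d15_2 F164297 F164292 F349653
theorem F349656 : act 3 n126238 = n106658 := d8_3 F349655 F203004 D126238
theorem E100722 : n182427 = n134905 := (c21_5 (iv5 D19130) D19127 D40470 D87101 D182427 (iv6 D134905) D134904 F349651 F328749 F328343 (iv1 D40480))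
theorem F349657 : act 0 n134905 = n134031 := (sb E100722 F345916)
theorem F349658 : act 1 n134905 = n87101 := (sb E100722 (iv0 D182427))
theorem F349659 : act 2 n134905 = n137545 := (sb E100722 F345913)
theorem F349660 : act 3 n134905 = n140765 := (sb E100722 (iv3 F345911))
theorem F349661 : act 4 n134905 = n113496 := (sb E100722 F345446)
theorem F349662 : act 5 n134905 = n140764 := (sb E100722 F345443)
theorem F349663 : act 7 n134905 = n143093 := (sb E100722 F345915)
theorem F349664 : act 1 n134904 = n184735 := d15_1 (iv0 F349651) (iv7 F295043) F143844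
theorem F349665 : act 1 n137128 = n134031 := d15_0 (iv0 F349657) F349663 F225942
theorem F349666 : act 1 n137545 = n90094 := d15_0 (iv0 F345760) (iv7 F349663) F349659
theorem F349667 : act 3 n131028 = n90094 := d20_3 (iv4 D61467) D61465 D131028 (iv1 F349666) (iv3 D137545) (iv4 F333063) F333065 (iv4 F245960) F245959 F111646
theorem E100723 : n169938 = n59175 := (c20_8 F221091 (iv1 D92733) F106588 (iv3 F327702) F209721 F349667 F138496 D169938 D126229 F203000 (iv1 F221093))
theorem E100724 : n113258 = n81515 := (((iv0 F219135)).symm.trans (sb E100723 (iv0 D169938)))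
theorem F349668 : act 0 n81515 = n59175 := (sb E100724 F219135)
theorem E100725 : n169939 = n113342 := ((D169939).symm.trans (sb E100724 F219136))
theorem E100726 : n169905 = n52276 := (((iv5 F267331)).symm.trans (sb E100724 (iv5 D113258)))
theorem F349669 : act 0 n113342 = n81515 := (sb E100725 (iv1 D169939))
theorem E100727 : n113255 = n105200 := (((iv2 F176450)).symm.trans (sb E100726 (iv2 F345926)))
theorem F349670 : act 5 n52276 = n81515 := (sb E100726 F267331)
theorem E100728 : n113259 = n81500 := ((D113259).symm.trans (sb E100726 (iv6 D169905)))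
theorem E100729 : n113250 = n105201 := ((F176449).symm.trans (sb E100726 F345922))
theorem F349671 : act 2 n105200 = n52276 := (sb E100727 F176450)
theorem F349672 : act 7 n105200 = n52275 := (sb E100727 (iv7 D113255))
theorem F349673 : act 6 n81500 = n52276 := (sb E100728 (iv6 D113259))
theorem F349674 : act 2 n105201 = n52275 := (sb E100729 (iv2 D113250))
theorem F349675 : act 7 n105201 = n52276 := (sb E100729 (iv7 F176449))
theorem F349676 : act 2 n113253 = n113345 := d2_3 F219127 F349674 D113253
theorem F349677 : act 6 n128763 = n113253 := d3_0 F349676 F345919 D128763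
theorem F349678 : act 7 n96680 = n113253 := d4_0 F349676 F345920 (iv2 F148999)
theorem F349679 : act 4 n113253 = n182430 := d11_1 F349678 (iv7 D182430) (iv4 F149000)
theorem F349680 : act 2 n182430 = n134031 := d1_1 F349679 (iv4 F345918) (iv2 F349676)
theorem F349681 : act 6 n182430 = n134029 := d10_2 F349677 F349679 F215997
theorem F349682 : act 3 n182430 = n134179 := d19_3 D52275 D113253 F349679 F336144 F100519 F99436 (iv3 D49626) F37922 (iv5 F37512) (iv4 D23996) (iv3 F19652) (iv1 D5817) (iv5 D2430) (iv4 F3787) F3786 D2392 D5718 D12074 D25393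
theorem F349683 : act 0 n182430 = n143093 := d20_1 F349679 (iv4 F225944) F220913 (iv1 F228498) (iv3 D112698) (iv4 D52018) F39804 (iv4 F45414) (iv3 F93378) (iv1 F219100)
theorem F349684 : act 0 n137701 = n95290 := d18_2 F349683 (iv4 F225944) F146938 F294517 (iv4 F159902) F329345 (iv4 F103032) (iv0 F220509) F345466
theorem F349685 : act 1 n182430 = n137545 := d15_1 (iv0 F349683) F220892 (iv2 F225942)
theorem F349686 : act 1 n137702 = n95290 := d15_0 (iv0 F349684) F220915 F220908
theorem F349687 : act 7 n95290 = n137679 := d15_2 D137702 F349686 F220844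
theorem F349688 : act 6 n143066 = n101272 := d21_9 (iv5 F328265) (iv1 F190753) D33663 F336394 (iv1 F215999) (iv6 F349681) (iv5 F345466) F220509 D143066 F328260
theorem F349689 : act 3 n101272 = n143069 := d7_1 F349688 (iv6 D143069) (iv3 F225919)
theorem F349690 : act 5 n134996 = n134762 := d21_8 (iv5 F345466) F220509 D143066 F349688 F328260 (iv6 D63442) D63441 D134996 (iv6 F333061) (iv1 F349685)
theorem F349691 : act 3 n93221 = n134996 := d6_3 F349690 F216824 (iv5 F333058)
theorem F349692 : act 0 n134996 = n93262 := d21_7 (iv5 D40449) (iv1 F31695) D42110 D90094 (iv1 F349666) F333061 (iv5 F349690) F294739 (iv6 D87218) F61651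
theorem F349693 : act 2 n143069 = n101527 := d0_1 F349689 (iv3 D101527) (iv2 F155797) F156045 (iv2 F156043)
theorem F349694 : act 5 n143069 = n157603 := d6_2 (iv5 F306915) F349689 F248354
theorem F349695 : act 7 n143069 = n184748 := d8_2 (iv7 F156042) F349689 (iv3 D184748)
theorem F349696 : act 7 n184549 = n157603 := d13_2 F349695 F287225 (iv5 F349694)
theorem F349697 : act 6 n152069 = n99552 := d14_3 F349696 (iv6 D157603) (iv7 F339069) F342632 D184549
theorem F349698 : act 0 n99595 = n143069 := d21_1 D99595 F349694 (iv6 D157603) (iv1 F339028) (iv6 D157564) F112540 F107806 (iv5 F90806) (iv6 F304748) F348288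
theorem F349699 : act 4 n143574 = n157603 := d17_4 (iv1 F331873) F340836 (iv1 F238096) (iv5 F338980) (iv5 F349694) (iv0 F349698) (iv5 D99595) (iv0 F348288) F304747
theorem F349700 : act 3 n150653 = n143574 := d5_5 F349699 F248354 (iv4 F236812) F236811 D150653
theorem F349701 : act 0 n143574 = n130900 := d20_4 F107559 D71014 D150653 F349700 F209483 (iv4 F320668) F320666 F217792 (iv3 F222353) F309027
theorem F349702 : act 6 n101527 = n137164 := d3_2 D143069 F349693 F221255
theorem F349703 : act 0 n175477 = n101527 := d21_4 (iv5 D87596) F157592 D88808 (iv6 F274738) F349702 F221257 F103003 (iv5 F103040) (iv6 F334889) (iv1 F152078)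
theorem F349704 : act 1 n175477 = n184748 := d15_1 (iv0 F349703) (iv7 F349695) F349693
theorem F349705 : act 5 n134031 = n101417 := d2_2 F345466 F349680 (iv2 F345464)
theorem F349706 : act 3 n101417 = n115269 := d6_1 F349705 F331018 (iv3 F216004)
theorem F349707 : act 4 n101417 = n137656 := d18_5 (iv1 F329587) F219126 (iv1 F202994) F345918 F349705 F220827 (iv4 D64716) F329342 (iv5 F294517)
theorem E100730 : n184735 = n134994 := ((c21_7 F349705 (iv1 F345444) F345439 (iv6 D184747) (iv1 F156046) (iv6 F328659) D134994 (iv1 F349664) (iv5 D134904) D134905 F349657)).symm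
theorem F349708 : act 0 n134994 = n134904 := (sb E100730 (iv1 F349664))
theorem F349709 : act 6 n134994 = n88089 := (sb E100730 (iv6 D184735))
theorem F349710 : act 7 n134994 = n93262 := (sb E100730 (iv7 F295043))
theorem E100731 : n142505 = n136294 := ((c19_8 (iv1 F345468) (iv5 F349705) (iv4 F345918) F345917 F95184 (iv5 F342874) F203022 D136294 (iv1 D142505) (iv5 D66809) F49494 F24378 (iv1 F47161) (iv5 F316525) (iv4 F40950) (iv3 F84387) F320906 F180358 F103000 (iv3 F220708))).symm
theorem F349711 : act 0 n136294 = n66809 := (sb E100731 (iv1 D142505))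
theorem F349712 : act 6 n136294 = n137259 := (sb E100731 (iv6 F344503))
theorem F349713 : act 3 n137259 = n136296 := d7_1 F349712 (iv6 D136296) D136294
theorem F349714 : act 5 n136296 = n137258 := d6_2 D137259 F349713 (iv3 D137258)
theorem F349715 : act 6 n137258 = n145416 := d12_2 D136296 F349714 (iv5 D145416) (iv6 F172202) F342889
theorem F349716 : act 3 n145416 = n111985 := d7_1 F349715 F174039 D137258
theorem F349717 : act 1 n134997 = n93262 := d15_1 D134997 (iv7 F349710) F217221
theorem F349718 : act 2 n137656 = n107332 := d1_1 F349707 (iv4 F220508) F345464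
theorem F349719 : act 3 n137656 = n116081 := d5_1 F349707 (iv4 F180852) (iv3 D115268) D115269 (iv3 F349706)
theorem F349720 : act 7 n137656 = n101414 := d11_2 D101417 F349707 F156248
theorem F349721 : act 2 n101414 = n137655 := d4_1 F349720 (iv7 F345465) (iv2 F349718)
theorem E100732 : n141845 = n116081 := (c8_3 F349720 F345473 F224892 (iv3 F349719))
theorem F349722 : act 2 n116081 = n66505 := (sb E100732 (iv2 D141845))
theorem F349723 : act 7 n116081 = n66506 := (sb E100732 (iv7 F224892))
theorem F349724 : act 7 n141851 = n115268 := d11_2 F349723 D141851 F180852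
theorem F349725 : act 7 n141852 = n140501 := d13_2 F349723 D141852 F345332
theorem E100733 : n141849 = n107351 := (c15_4 (iv0 F165410) D116081 F349723 (iv2 F224893))
theorem F349726 : act 2 n107351 = n66506 := (sb E100733 F224893)
theorem F349727 : act 7 n107351 = n66505 := (sb E100733 (iv7 D141849))
theorem F349728 : act 2 n141852 = n140500 := d15_3 (iv0 D140500) D140501 (iv7 F349725)
theorem F349729 : act 5 n140500 = n107351 := d2_2 D141852 F349728 F349726
theorem F349730 : act 3 n107352 = n140500 := d6_3 F349729 (iv3 D107351) D107352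
theorem F349731 : act 7 n141847 = n140500 := d13_0 F349729 F349727 D141847
theorem E100734 : n157742 = n109095 := (c21_5 F349729 (iv1 F165411) (iv5 F223722) F345317 D157742 F169085 (iv5 D50367) (iv1 F168285) D109022 F341327 D140500)
theorem F349732 : act 1 n109095 = n75159 := (sb E100734 (iv0 D157742))
theorem F349733 : act 6 n178129 = n116821 := d21_5 (iv5 F349729) (iv1 F224962) F224960 F345323 D178129 (iv5 D116821) F168105 (iv5 F345293) (iv6 D116083) F165410
theorem F349734 : act 1 n134756 = n109095 := d15_0 F349732 F331539 (iv2 F216806)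
theorem E100735 : n180497 = n114533 := (c21_11 F178595 (iv1 F349732) (iv5 D109095) (iv6 D50364) (iv1 F79736) (iv6 F341301) (iv5 D77347) F56026 D39895 D86199 D180497)
theorem F349735 : act 1 n114533 = n86199 := (sb E100735 (iv0 D180497))
theorem F349736 : act 5 n135185 = n115749 := d21_0 (iv1 D115749) (iv5 F102401) (iv6 F336700) F325593 (iv6 F280925) (iv5 D180499) (iv1 F349735) F178595 (iv6 F345317) (iv1 F345320)
theorem E100736 : n179789 = n135185 := (c21_6 (iv5 D86202) (iv1 F324492) D50382 D109158 F337476 D179789 F349736 (iv1 D115749) (iv5 F102401) (iv6 F336700) F325593)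
theorem F349737 : act 4 n135185 = n120308 := (sb E100736 (iv4 F302437))
theorem F349738 : act 6 n135185 = n85871 := (sb E100736 (iv6 D179789))
theorem F349739 : act 2 n120471 = n135185 := d3_3 F349738 F302442 (iv6 F191913)
theorem E100737 : n140488 = n115749 := ((c2_3 (iv5 F345333) F349739 F349736 (iv2 D140488))).symm
theorem F349740 : act 2 n115749 = n65942 := (sb E100737 (iv2 D140488))
theorem F349741 : act 7 n115749 = n65943 := (sb E100737 (iv7 F223654))
theorem F349742 : act 7 n140496 = n135185 := d13_2 F349741 D140496 F349736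
theorem E100738 : n140493 = n115748 := (c15_4 (iv0 D115748) D115749 F349741 (iv2 F223656))
theorem F349743 : act 2 n115748 = n65943 := (sb E100738 F223656)
theorem F349744 : act 7 n115748 = n65942 := (sb E100738 (iv7 D140493))
theorem E100739 : n140600 = n120471 := ((c15_4 (iv0 D140600) (iv0 F345321) F349742 (iv2 F349739))).symm
theorem F349745 : act 1 n120471 = n65979 := (sb E100739 (iv0 D140600))
theorem F349746 : act 2 n140496 = n135184 := d15_3 (iv0 D135184) D135185 (iv7 F349742)
theorem F349747 : act 5 n135184 = n115748 := d2_2 D140496 F349746 F349743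
theorem F349748 : act 7 n135184 = n120471 := d4_2 (iv7 F349742) F349746 F349739
theorem F349749 : act 1 n134811 = n120471 := d15_1 F345322 (iv7 F349748) (iv2 F349746)
theorem F349750 : act 4 n120472 = n135184 := d11_3 F349748 (iv4 D120471) D120472
theorem F349751 : act 1 n140602 = n135184 := d15_1 F345320 F349748 F349739
theorem E100740 : n177804 = n156570 := ((c21_5 (iv5 F349747) (iv1 F349751) F223722 (iv6 F216803) F246213 (iv6 D177804) (iv5 D84659) D84656 (iv5 F345327) (iv6 D115751) D115748)).symm
theorem F349752 : act 2 n156570 = n84806 := (sb E100740 F277311)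
theorem F349753 : act 5 n156570 = n157863 := (sb E100740 F277312)
theorem F349754 : act 6 n156570 = n84659 := (sb E100740 (iv6 D177804))
theorem F349755 : act 6 n177803 = n156011 := d10_2 F349754 D177803 F246211
theorem F349756 : act 2 n156011 = n156018 := d3_1 F349755 F345267 (iv2 F277308)
theorem F349757 : act 3 n156014 = n177803 := d7_3 F349755 (iv3 D156011) D156014
theorem F349758 : act 5 n177993 = n156014 := d6_0 F349757 F277309 (iv3 F277534)
theorem F349759 : act 7 n177992 = n156014 := d8_0 F349757 (iv7 F277310) (iv3 F277533)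
theorem F349760 : act 5 n156015 = n156011 := d2_0 F349756 (iv5 D156018) (iv2 F245118)
theorem F349761 : act 7 n156013 = n156011 := d16_8 F345266 F130011 (iv4 F345269) (iv5 D111755) D111754 (iv5 F345273) (iv4 D156012) D156013 F349756
theorem F349762 : act 3 n156015 = n156013 := d8_3 F349761 (iv3 D156011) D156015
theorem F349763 : act 7 n134753 = n156570 := d15_2 (iv0 F345265) D134753 F349752
theorem F349764 : act 2 n134753 = n178168 := d4_3 (iv7 D178168) (iv2 F349752) (iv7 F349763)
theorem E100741 : n178168 = n156569 := ((c15_2 (iv0 F246213) F246210 (iv7 D178168) (iv2 F349752))).symm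
theorem F349765 : act 2 n156569 = n134753 := (sb E100741 (iv2 F349764))
theorem F349766 : act 5 n156569 = n157939 := (sb E100741 F277717)
theorem F349767 : act 7 n156569 = n84806 := (sb E100741 (iv7 D178168))
theorem F349768 : act 7 n178157 = n107022 := d8_2 F349767 (iv3 F277709) (iv3 F246209)
theorem F349769 : act 4 n134753 = n156013 := d16_0 (iv5 D156013) D156012 F345273 (iv4 D111754) D111755 F345269 (iv5 F130011) (iv7 F349767) F349765
theorem E100742 : n156021 = n156015 := ((c20_4 (iv4 F345282) F345278 F349769 (iv3 F349762) (iv1 D156021) F111030 F53505 (iv1 F246634) D74620 F246640 (iv1 F245322))).symm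
theorem F349770 : act 0 n156015 = n74208 := (sb E100742 (iv1 D156021))
theorem F349771 : act 1 n156015 = n74210 := (sb E100742 F245121)
theorem F349772 : act 0 n135738 = n156013 := d20_10 (iv4 F349769) (iv1 D134753) (iv4 F111148) (iv3 D74261) (iv1 D34072) (iv3 F96862) D64432 (iv1 F167047) F167044 (iv3 F218265)
theorem F349773 : act 1 n156168 = n156013 := d15_0 (iv0 F349772) (iv7 F245444) F245442
theorem F349774 : act 1 n156018 = n156168 := d15_0 F349773 F349761 F349756
theorem F349775 : act 0 n156958 = n156169 := d20_7 F345266 (iv1 F345279) F345282 (iv3 F245311) (iv1 F245315) (iv3 F245464) D156958 (iv4 D156169) D156168 (iv1 F349774)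
theorem E100743 : n176471 = n157076 := (c18_6 F349775 (iv4 D156169) (iv1 D74290) (iv4 F80935) D111227 F332238 (iv0 D157076) D157078 F342236 (iv5 F320443))
theorem F349776 : act 2 n157076 = n85073 := (sb E100743 F275772)
theorem F349777 : act 3 n157076 = n84148 := (sb E100743 F275773)
theorem F349778 : act 4 n157076 = n111227 := (sb E100743 (iv4 F332238))
theorem F349779 : act 5 n157076 = n84146 := (sb E100743 (iv5 D176471))
theorem F349780 : act 7 n157076 = n84903 := (sb E100743 F275774)
theorem F349781 : act 5 n178564 = n156166 := d17_5 D157076 F349779 F131854 D85031 D178564 (iv0 F247119) F320449 (iv0 F342235) (iv4 D157078)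
theorem F349782 : act 2 n156166 = n175404 := d2_1 F349781 F274448 (iv2 F278292)
theorem F349783 : act 5 n178551 = n156169 := d9_8 F349781 (iv4 D156166) F111497 F95944 (iv5 F311327) D39316 D85021 D178551 (iv4 D156169) F316899 (iv4 D85033) (iv5 D39322) D39321 D85031 D178564
theorem F349784 : act 7 n156166 = n175403 := d13_2 (iv7 F278293) F349781 F274443
theorem F349785 : act 2 n175403 = n156169 := d16_9 (iv4 D156169) F316899 (iv4 D85033) (iv5 D39322) D39321 D85031 D178564 F349781 F349784
theorem F349786 : act 7 n156169 = n175404 := d4_2 F349784 F349785 (iv2 F349782)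
theorem F349787 : act 4 n114099 = n175167 := d20_8 (iv4 D157078) D157076 F349778 F172513 F329100 (iv3 F177695) F177696 D114099 (iv3 D175167) (iv1 F342236)
theorem F349788 : act 3 n153985 = n147752 := d20_3 F94820 D72868 D153985 F334053 (iv3 D83744) D83745 (iv1 F332236) (iv4 F349778) F349777 F319548
theorem F349789 : act 4 n148854 = n153984 := d5_4 D153985 F349788 F233745 (iv3 F233870) (iv3 D153984)
theorem F349790 : act 5 n173412 = n153985 := d6_0 F349788 F334054 (iv3 F271880)
theorem F349791 : act 7 n128144 = n153985 := d8_0 F349788 (iv7 D147752) (iv3 F347336)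
theorem F349792 : act 0 n123670 = n153985 := d20_4 F283774 (iv1 D120660) (iv4 F108422) (iv3 F198095) F349788 F233745 D148860 F233885 F334051 F326287
theorem F349793 : act 0 n153984 = n179663 := d20_10 (iv4 D179663) F131599 D158914 (iv3 F347360) (iv1 D151558) F107991 (iv4 F198096) F349792 (iv4 D153985) D153984
theorem F349794 : act 6 n153985 = n174298 := d21_5 (iv5 D72360) F52648 (iv5 F90819) D123670 F349792 (iv5 D174298) (iv1 F303174) F342719 (iv6 D123697) (iv1 F108824)
theorem F349795 : act 2 n128143 = n153985 := d15_3 (iv0 F349792) (iv0 F347355) F347351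
theorem F349796 : act 4 n174298 = n153987 := d10_1 F349794 (iv6 D153987) D153985
theorem F349797 : act 0 n153985 = n128146 := d21_4 F309748 F303171 D174298 (iv6 F349794) (iv6 F345981) (iv5 D179063) (iv1 D85432) (iv5 F113834) (iv6 F348672) F348667
theorem E100744 : n154220 = n123672 := ((c18_3 F349797 F206276 (iv1 F198097) F339648 (iv5 D173694) (iv4 F249449) F337610 (iv4 F213515) (iv0 F342050) F349790)).symm
theorem F349798 : act 2 n123672 = n73061 := (sb E100744 F242333)
theorem F349799 : act 4 n123672 = n173694 := (sb E100744 F339648)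
theorem F349800 : act 7 n123672 = n73060 := (sb E100744 (iv7 D154220))
theorem F349801 : act 5 n128146 = n131454 := d19_1 F349797 F210716 (iv3 D61701) D61699 F322688 F320937 F123347 (iv1 F318811) (iv5 F320941) (iv4 D39966) (iv3 D18898) (iv1 D8851) F5886 (iv4 F11560) (iv3 F24877) D32389 D69772 (iv4 F233745) (iv3 F349788)
theorem F349802 : act 3 n131455 = n128146 := d6_3 F349801 (iv3 D131454) D131455
theorem F349803 : act 1 n131454 = n153251 := d17_8 (iv1 F312339) (iv5 F348426) F348430 (iv5 D176441) (iv4 F311076) F347353 F347358 F349801 F240745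
theorem F349804 : act 5 n108816 = n123672 := d13_3 F349800 (iv5 F329918) (iv7 F168767)
theorem F349805 : act 3 n123672 = n134275 := d6_1 F349804 (iv5 D134275) (iv3 F168765)
theorem E100745 : n134221 = n134130 := ((c17_1 D134130 (iv5 D134221) (iv1 F168768) F349804 F349799 (iv5 D173694) (iv0 D83067) D83070 (iv0 F315799) (iv4 D134132))).symm
theorem F349806 : act 5 n134130 = n63054 := (sb E100745 (iv5 D134221))
theorem F349807 : act 4 n173512 = n134226 := d17_4 (iv1 F347358) (iv5 F347353) (iv1 F313349) D173512 (iv5 D134226) F168770 F349804 F198097 (iv4 F206276)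
theorem F349808 : act 4 n153986 = n130232 := d18_5 (iv1 D123672) (iv4 F198096) F349792 (iv4 D153985) D153986 F216267 (iv4 D134225) F168770 F349804
theorem F349809 : act 2 n130213 = n153986 := d1_3 F349808 (iv2 D130232) (iv4 F208735)
theorem F349810 : act 3 n153986 = n126594 := d0_2 D130213 F349809 (iv2 F208380) (iv3 D63121) (iv2 F208354)
theorem F349811 : act 7 n153986 = n134372 := d4_2 (iv7 F208736) F349809 (iv2 D134372)
theorem F349812 : act 1 n153986 = n128948 := d15_0 (iv0 F216302) (iv7 F208736) F349809
theorem F349813 : act 0 n148812 = n173512 := d17_0 (iv5 D173512) (iv1 F309617) F349790 (iv4 D153985) D153986 F349812 F339682 (iv0 F339702) (iv4 F233663)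
theorem F349814 : act 3 n130232 = n126304 := d20_3 D128948 (iv1 F349812) F349808 (iv1 F343604) F164617 F78030 (iv1 F37724) F23843 D28788 D60641
theorem F349815 : act 5 n126303 = n130232 := d6_0 F349814 (iv5 D126304) D126303
theorem F349816 : act 2 n130233 = n126303 := d2_3 F349815 (iv2 D130232) D130233
theorem F349817 : act 4 n176441 = n126303 := d16_0 F349815 (iv4 F349808) (iv5 D153986) D153985 (iv5 F349790) F271881 (iv5 F341922) F341663 F342760
theorem F349818 : act 4 n128958 = n147692 := d18_1 D128958 F348430 F349817 F349815 (iv4 F349808) F349812 (iv4 D128948) (iv0 D60641) D60644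
theorem F349819 : act 5 n134078 = n128958 := d9_0 F349818 F348426 F312341 (iv5 F348429) F347344 F345949 (iv4 F347326) F336396 (iv4 F347322) F303678 F300965 (iv5 F317250) F94820 D72870 (iv4 F339644)
theorem F349820 : act 6 n147691 = n128958 := d10_0 F349818 (iv6 D147692) D147691
theorem E100746 : n163466 = n128644 := (c17_1 D163466 F206934 D134078 F349819 F349818 F348426 F312339 F323679 (iv0 D78580) (iv4 F119741))
theorem F349821 : act 1 n128644 = n78555 := (sb E100746 (iv0 D163466))
theorem E100747 : n163467 = n129054 := (c15_2 F349821 D163467 (iv7 F339665) (iv2 F339666))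
theorem F349822 : act 0 n129054 = n78555 := (sb E100747 (iv1 D163467))
theorem F349823 : act 6 n128644 = n96709 := d21_5 (iv5 F257746) (iv1 D163463) (iv5 D78554) D78555 (iv1 F349821) (iv5 D96709) F297281 D86506 (iv6 F322770) (iv1 F122745)
theorem F349824 : act 0 n147691 = n163603 := d21_4 F206934 D134078 F349819 (iv6 F349820) (iv6 D163603) (iv5 F257746) (iv1 D163463) (iv5 D78554) D78555 (iv1 F349821)
theorem F349825 : act 5 n159302 = n148203 := d18_4 (iv1 F202947) D147691 F349824 F257866 F232031 (iv0 F223260) (iv4 D69176) D69174 (iv5 F231073)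
theorem F349826 : act 4 n159315 = n147670 := d20_0 (iv1 D147670) (iv4 D69206) F51137 D32187 D69212 D147691 F349824 F257866 F250779 D159315
theorem F349827 : act 2 n147670 = n112273 := d1_1 F349826 F324000 (iv2 F330665)
theorem F349828 : act 3 n147670 = n111616 := d5_1 F349826 (iv4 F173166) (iv3 D111559) D111560 (iv3 F330666)
theorem F349829 : act 7 n147670 = n180702 := d11_2 (iv7 F345365) F349826 (iv4 D180702)
theorem F349830 : act 2 n180702 = n109771 := d4_1 F349829 (iv7 F174628) (iv2 F349827)
theorem F349831 : act 3 n180702 = n136264 := d8_1 F349829 (iv7 F219324) (iv3 F349828)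
theorem E100748 : n180702 = n176892 := ((c15_2 F334027 D176892 (iv7 F349829) F349827)).symm
theorem F349832 : act 2 n176892 = n109771 := (sb E100748 F349830)
theorem F349833 : act 3 n176892 = n136264 := (sb E100748 F349831)
theorem F349834 : act 4 n176892 = n86312 := (sb E100748 (iv4 D180702))
theorem F349835 : act 7 n176892 = n147670 := (sb E100748 (iv7 F349829))
theorem F349836 : act 5 n116583 = n176892 := d16_7 F324000 (iv5 F322657) (iv4 D53728) (iv5 D25996) D25995 D53723 D116583 F349835 F349827
theorem F349837 : act 4 n176893 = n115610 := d17_4 F222807 F349836 (iv1 D176892) D176893 (iv5 D115610) (iv0 D53326) D53330 F179948 D139639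
theorem F349838 : act 2 n115663 = n176893 := d1_3 F349837 F179936 (iv4 F180033)
theorem F349839 : act 7 n115651 = n176893 := d11_0 F349837 F179937 D115651
theorem F349840 : act 1 n115659 = n176893 := d15_1 D115659 (iv7 F349839) F180020
theorem F349841 : act 5 n109424 = n115659 := d17_5 (iv1 D86312) D86313 (iv1 F330660) (iv5 F171347) F171242 F349840 (iv5 D176893) D176892 F349834
theorem F349842 : act 3 n115659 = n109425 := d6_1 F349841 (iv5 D109425) D109424
theorem F349843 : act 5 n158897 = n115663 := d2_0 F349838 (iv5 D176893) F254236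
theorem F349844 : act 1 n176893 = n115658 := d15_0 (iv0 D115658) D115663 F349838
theorem F349845 : act 7 n115661 = n158897 := d13_0 F349843 (iv7 D115663) D115661
theorem F349846 : act 0 n109771 = n158897 := d19_0 F349843 F180033 F84181 (iv1 F84007) F84009 F49186 F38997 F24577 F24574 F24281 F11251 (iv1 F4993) F4977 D5425 D11687 D24683 F81877 D50626 D109771
theorem F349847 : act 1 n147670 = n158897 := d15_0 (iv0 F349846) (iv7 F174628) (iv2 F349827)
theorem F349848 : act 5 n116548 = n159315 := d18_4 (iv1 F225468) (iv4 D139679) (iv1 F181962) D116548 F349826 F349847 F340643 F166910 (iv5 F225465)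
theorem F349849 : act 3 n158897 = n136274 := d8_1 F349845 (iv7 D136274) (iv3 F180029)
theorem F349850 : act 6 n176884 = n115661 := d14_5 F349845 (iv6 D158897) F254225 D84321 D176884
theorem F349851 : act 1 n176892 = n115661 := d15_1 D176892 F349845 (iv2 F254236)
theorem F349852 : act 4 n125449 = n108913 := d20_6 (iv4 F180030) (iv1 F349851) F349834 (iv3 F345364) (iv1 D125456) (iv3 F201730) (iv1 F216948) F216945 F166934 (iv1 F166914)
theorem E100749 : n125452 = n111340 := ((c5_4 F349852 F172787 (iv4 D111341) D111340 F201731 (iv3 F201730))).symm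
theorem F349853 : act 2 n111340 = n160571 := (sb E100749 F254452)
theorem F349854 : act 4 n111340 = n58733 := (sb E100749 F201731)
theorem F349855 : act 6 n111340 = n58731 := (sb E100749 (iv6 D125452))
theorem F349856 : act 6 n108913 = n125447 := d10_2 D125449 F349852 (iv4 D125447)
theorem E100750 : n125450 = n111343 := (c7_2 F349855 D125450 (iv6 D111343) D111340)
theorem F349857 : act 1 n111343 = n160261 := (sb E100750 (iv0 F253101))
theorem F349858 : act 3 n111343 = n58731 := (sb E100750 (iv3 D125450))
theorem F349859 : act 7 n111343 = n160583 := (sb E100750 F254449)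
theorem F349860 : act 2 n147672 = n176884 := d3_3 F349850 F180028 D147672
theorem E100751 : n160954 = n136273 := ((c7_3 F349850 F180029 D136273 (iv3 F336526))).symm
theorem F349861 : act 3 n136273 = n176884 := (sb E100751 (iv3 F336526))
theorem F349862 : act 4 n136273 = n77243 := (sb E100751 (iv4 D160954))
theorem F349863 : act 7 n136273 = n176876 := (sb E100751 F336527)
theorem F349864 : act 4 n147664 = n176884 := d10_3 F349850 F180030 D147664
theorem F349865 : act 5 n144357 = n147664 := d18_4 (iv1 F323019) F323020 F112195 (iv4 F227096) F349864 F336525 (iv4 D121075) (iv0 F336479) (iv5 F336486)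
theorem F349866 : act 5 n107755 = n162812 := d16_1 D107755 F272998 F338789 (iv4 F349864) (iv5 F349865) F227096 F103659 F171843 (iv2 F171842)
theorem F349867 : act 2 n162812 = n127071 := d2_1 F349866 (iv5 D127071) (iv2 F171930)
theorem F349868 : act 7 n162812 = n127077 := d13_2 (iv7 F171853) F349866 (iv5 D127077)
theorem F349869 : act 3 n127077 = n121062 := d8_1 F349868 F336599 D162812
theorem F349870 : act 4 n127077 = n176883 := d11_1 F349868 F338790 (iv4 F272998)
theorem F349871 : act 5 n176877 = n127074 := d16_5 D59630 D127077 F349870 (iv5 D176883) (iv4 F276251) (iv4 D127074) (iv5 D59626) (iv7 F171843) (iv2 F171844)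
theorem F349872 : act 1 n176883 = n174211 := d18_6 F166048 F166045 (iv1 F78561) D59630 D127077 F349870 F272999 F199094 F345347
theorem F349873 : act 0 n176883 = n124469 := d20_7 (iv4 D55829) (iv1 F43436) D26944 D55856 D121062 (iv3 F349869) F349870 F199090 (iv3 D58060) (iv1 F88310)
theorem F349874 : act 0 n110373 = n127077 := d20_10 F349870 F349873 F199090 (iv3 D58060) (iv1 F88310) F319902 (iv4 D110382) (iv1 D50899) (iv4 F80298) (iv3 F170725)
theorem F349875 : act 5 n136775 = n110373 := d17_1 F227098 F349874 (iv5 D127077) (iv4 D59630) D59631 F204309 F204306 (iv0 F182648) (iv4 F227096)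
theorem F349876 : act 5 n107678 = n147666 := d21_6 F349875 F349874 (iv5 D127077) (iv6 F203155) (iv1 F343948) F343944 (iv1 D147666) F332102 D144357 F227098
theorem F349877 : act 3 n110377 = n136775 := d6_3 F349875 F170725 D110377
theorem F349878 : act 6 n110372 = n136774 := d12_4 D136775 F349875 (iv6 D110373) D110372 (iv5 D136774)
theorem F349879 : act 1 n110373 = n127071 := d17_6 F163996 D64933 F209105 F209103 (iv4 F219982) F349875 (iv5 D127071) (iv0 F168126) F100070
theorem F349880 : act 1 n109542 = n177531 := d18_6 F338808 F338803 F219285 (iv4 F219982) F349875 F170726 (iv4 D177531) F199099 (iv5 F338784)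
theorem F349881 : act 1 n177526 = n109542 := d15_0 F349880 (iv7 F345355) (iv2 F338792)
theorem E100752 : n177530 = n172507 := ((c20_5 F170727 F169190 (iv4 F170766) F328005 D172507 (iv3 D177530) D177531 (iv1 F349880) (iv4 F170726) F170725 D110375)).symm
theorem F349882 : act 3 n172507 = n84571 := (sb E100752 (iv3 D177530))
theorem F349883 : act 5 n138241 = n172507 := d6_0 F349882 (iv5 F338798) D138241
theorem F349884 : act 3 n136774 = n110374 := d7_1 F349878 (iv6 D110374) (iv3 F170724)
theorem E100753 : n159437 = n128511 := ((c0_3 F349884 (iv2 F175488) (iv3 F346464) F251064 (iv3 F346527) (iv2 F219979))).symm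
theorem F349885 : act 2 n128511 = n76266 := (sb E100753 F251064)
theorem F349886 : act 7 n128511 = n76265 := (sb E100753 (iv7 D159437))
theorem F349887 : act 5 n110374 = n136773 := d6_2 D136774 F349884 (iv3 D136773)
theorem F349888 : act 6 n136773 = n110377 := d12_2 D110374 F349887 (iv5 D110377) (iv6 D50897) D50896
theorem F349889 : act 0 n136773 = n126743 := d21_7 D126729 (iv1 F204082) (iv5 D126836) (iv6 F330506) F165979 D110374 F349887 (iv5 D126743) (iv6 D59466) D59462
theorem F349890 : act 7 n159433 = n112732 := d8_2 F349886 D159433 (iv3 F346464)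
theorem E100754 : n159432 = n128512 := (c15_4 F206674 F206673 F349886 D159432)
theorem F349891 : act 2 n128512 = n76265 := (sb E100754 (iv2 D159432))
theorem F349892 : act 3 n128512 = n136772 := (sb E100754 (iv3 F346533))
theorem F349893 : act 5 n128512 = n136771 := (sb E100754 F346528)
theorem F349894 : act 7 n128512 = n76266 := (sb E100754 (iv7 F251062))
theorem E100755 : n155618 = n136771 := ((c21_1 F349893 (iv1 D155618) F110778 F325997 (iv1 F275106) F346445 (iv5 F346441) (iv1 F282973) (iv5 D181800) F133109 (iv1 F206674))).symm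
theorem F349895 : act 0 n136771 = n74031 := (sb E100755 (iv1 D155618))
theorem F349896 : act 1 n136771 = n150591 := (sb E100755 F244656)
theorem F349897 : act 6 n173363 = n128512 := d21_5 (iv5 F304816) (iv1 D167081) (iv5 F304819) (iv6 F306790) D173363 F349893 F349895 F110778 F325997 (iv1 F275106)
theorem F349898 : act 2 n159436 = n173363 := d3_3 F349897 F349891 D159436
theorem F349899 : act 7 n173364 = n159436 := d15_2 (iv0 D173363) D173364 F349898
theorem F349900 : act 6 n110387 = n173364 := d14_5 F349899 (iv6 D159436) (iv7 F349886) (iv6 F346463) F175485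
theorem F349901 : act 3 n173364 = n110389 := d7_1 F349900 (iv6 D110389) (iv3 F170748)
theorem F349902 : act 4 n173364 = n137385 := d10_1 F349900 (iv6 D137385) (iv4 F345511)
theorem F349903 : act 7 n155617 = n150589 := d15_2 F349896 F244651 F346534
theorem F349904 : act 0 n103844 = n153754 := d20_10 F241615 (iv1 F349896) F219973 (iv3 D107101) F111269 (iv3 F302687) (iv4 D103618) (iv1 F75379) (iv4 F75522) (iv3 F159251)
theorem F349905 : act 1 n103844 = n153512 := d15_1 (iv0 F349904) F241259 D153754
theorem F349906 : act 1 n103842 = n153754 := d15_0 (iv0 F349904) (iv7 D103844) D103842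
theorem F349907 : act 1 n153512 = n103842 := d15_0 F349906 F346523 (iv2 F346522)
theorem F349908 : act 3 n150605 = n103280 := d20_5 (iv4 D16428) D16426 (iv4 F52059) D70988 D150605 (iv4 F159249) (iv1 F349907) F241258 (iv3 D74031) (iv1 D33976)
theorem F349909 : act 2 n103050 = n150605 := d0_5 F349908 (iv2 D103280) (iv3 D47856) (iv2 F75038) D103050
theorem F349910 : act 7 n150606 = n103050 := d15_2 (iv0 D150605) D150606 F349909
theorem E100756 : n150606 = n74132 := ((c8_4 F349910 (iv3 D103050) F293011 F329972)).symm
theorem E100757 : n155840 = n70988 := (((iv1 F244834)).symm.trans (sb E100756 (iv1 D150606)))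
theorem E100758 : n155824 = n103050 := (((iv7 F244822)).symm.trans (sb E100756 F349910))
theorem E100759 : n150605 = n74127 := ((D150605).symm.trans (sb E100757 (iv1 D155840)))
theorem F349911 : act 1 n70988 = n74132 := (sb E100757 F244834)
theorem F349912 : act 5 n103050 = n74124 := (sb E100758 (iv5 D155824))
theorem F349913 : act 7 n103050 = n74132 := (sb E100758 F244822)
theorem F349914 : act 1 n74127 = n70988 := (sb E100759 (iv0 D150605))
theorem F349915 : act 2 n74127 = n103050 := (sb E100759 (iv2 F349909))
theorem E100760 : n155830 = n103280 := (((iv3 F244825)).symm.trans (sb E100759 F349908))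
theorem F349916 : act 3 n103280 = n74127 := (sb E100760 F244825)
theorem F349917 : act 5 n103280 = n74125 := (sb E100760 (iv5 D155830))
theorem E100761 : n155828 = n103281 := (c2_2 F349917 D155828 (iv5 D103281) D103280)
theorem F349918 : act 2 n103281 = n74125 := (sb E100761 (iv2 D155828))
theorem F349919 : act 5 n128511 = n155617 := d18_9 (iv1 F244651) (iv4 F241615) (iv1 F349906) F159249 F349917 D155829 (iv0 F251058) F251057 F206673
theorem F349920 : act 2 n155617 = n126753 := d2_1 F349919 F346526 (iv2 F349885)
theorem F349921 : act 0 n127158 = n112730 := d21_4 (iv5 F143120) F324034 F322560 D127158 F346463 F349919 (iv1 F244651) F237111 (iv6 F337552) (iv1 D136900)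
theorem E100762 : n176169 = n112730 := ((c21_4 (iv5 F110778) D155617 (iv5 F349919) (iv6 F346463) (iv1 D176169) (iv6 D84029) (iv5 F121906) (iv1 F316625) F316628 F337557 (iv1 D150582))).symm
theorem F349922 : act 0 n112730 = n84029 := (sb E100762 (iv1 D176169))
theorem E100763 : n159200 = n112731 := (c21_5 (iv5 D38333) (iv1 F118799) (iv5 F316547) F115595 D159200 (iv6 D112731) D112730 F349922 (iv5 F334615) F334616 (iv1 D83258))
theorem F349923 : act 0 n112731 = n162807 := (sb E100763 (iv1 F257086))
theorem F349924 : act 1 n112731 = n76151 := (sb E100763 (iv0 D159200))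
theorem F349925 : act 7 n127158 = n172048 := d15_2 (iv0 F349922) (iv0 F349921) F270115
theorem F349926 : act 2 n110387 = n176168 := d15_3 (iv0 D176168) (iv0 F349922) F175485
theorem F349927 : act 4 n176168 = n137381 := d1_2 (iv4 F345511) F349926 F220585
theorem E100764 : n159441 = n137378 := ((c11_4 F346486 F349927 (iv7 D137381) D137378)).symm
theorem F349928 : act 0 n137378 = n172048 := (sb E100764 F346487)
theorem F349929 : act 2 n137378 = n112730 := (sb E100764 F346485)
theorem F349930 : act 5 n137378 = n112729 := (sb E100764 (iv5 F346484))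
theorem F349931 : act 6 n137378 = n76266 := (sb E100764 (iv6 D159441))
theorem F349932 : act 7 n137378 = n176168 := (sb E100764 F346486)
theorem F349933 : act 1 n127158 = n176168 := d15_1 (iv0 F349921) (iv7 F349932) F349929
theorem F349934 : act 2 n176170 = n127158 := d15_3 F349933 (iv0 D176168) D176170
theorem E100765 : n137381 = n137365 := ((c20_11 (iv4 F349927) (iv1 F349933) (iv4 F221095) F221094 (iv1 F323277) (iv3 F320528) (iv4 D53561) F101954 (iv4 F48833) (iv3 F100518) (iv1 F220563))).symm
theorem F349935 : act 2 n137365 = n64577 := (sb E100765 F220585)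
theorem F349936 : act 4 n137365 = n176168 := (sb E100765 (iv4 F349927))
theorem F349937 : act 7 n137365 = n64576 := (sb E100765 (iv7 D137381))
theorem E100766 : n137376 = n137364 := (c15_4 (iv0 D137364) D137365 F349937 D137376)
theorem F349938 : act 2 n137364 = n64576 := (sb E100766 (iv2 D137376))
theorem F349939 : act 5 n137364 = n114271 := (sb E100766 F347718)
theorem F349940 : act 7 n137364 = n64577 := (sb E100766 (iv7 F220584))
theorem F349941 : act 4 n111380 = n114274 := d16_6 D114271 (iv5 F349939) F344624 (iv5 D112730) F82227 D111380 (iv5 D114274) F138589 F138586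
theorem F349942 : act 6 n137389 = n101968 := d21_9 (iv5 D89095) (iv1 F289521) D41732 D89368 F347698 (iv6 F178119) (iv5 F349939) (iv1 F220566) (iv5 F220587) (iv1 F289946)
theorem F349943 : act 2 n101992 = n137389 := d3_3 F349942 F156935 (iv6 F156954)
theorem F349944 : act 0 n123604 = n114271 := d21_10 (iv5 F349939) (iv1 F220566) (iv5 F220587) F349942 (iv1 F289946) F303374 F300576 F286817 (iv5 F301487) D123604
theorem F349945 : act 3 n89301 = n123604 := d19_19 F349944 (iv5 F349939) F344624 F175484 (iv1 F82590) (iv5 D52232) (iv4 D25372) F38408 (iv1 F36864) F19978 (iv4 F17991) F22447 (iv1 D5411) D5414 D11659 D24624 D50540 (iv5 F320050) (iv4 F319204)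
theorem F349946 : act 7 n114273 = n137379 := d15_2 (iv0 F349944) (iv0 F259562) (iv2 F347717)
theorem F349947 : act 2 n137384 = n114273 := d4_3 F349946 (iv2 F347717) F347719
theorem F349948 : act 3 n145055 = n114273 := d8_3 F349946 F349476 (iv7 F264370)
theorem F349949 : act 5 n137365 = n114273 := d13_3 F349946 (iv5 D137379) (iv7 F349937)
theorem F349950 : act 1 n137384 = n117583 := d15_0 F338501 (iv7 F349946) (iv2 F349947)
theorem F349951 : act 7 n117583 = n123604 := d15_2 F347721 F349950 F338495
theorem E100767 : n117582 = n114271 := (c15_1 D117582 (iv0 F349944) (iv7 F349951) (iv2 D117583))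
theorem F349952 : act 0 n114271 = n54171 := (sb E100767 (iv1 D117582))
theorem E100768 : n127953 = n114270 := (c20_5 (iv4 D31930) (iv1 F50536) D54234 (iv3 F314114) D127953 (iv3 D114270) D114271 F349952 D117584 F184183 (iv1 D68620))
theorem F349953 : act 0 n114270 = n140802 := (sb E100768 (iv1 F318938))
theorem F349954 : act 1 n114270 = n60115 := (sb E100768 (iv0 D127953))
theorem F349955 : act 6 n117585 = n136905 := d21_3 F349939 F349952 D117585 (iv1 D136905) (iv6 D64355) D64354 (iv1 F106598) (iv5 D64570) D64571 D137364
theorem E100769 : n117581 = n114273 := ((c15_4 (iv0 D117581) (iv0 F349952) F347719 F349947)).symm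
theorem F349956 : act 1 n114273 = n54171 := (sb E100769 (iv0 D117581))
theorem F349957 : act 0 n117585 = n136384 := d18_0 (iv4 F346468) (iv1 D177674) (iv4 F339097) (iv5 D114268) F83339 D52742 D114273 F349956 D117585
theorem F349958 : act 0 n119080 = n146364 := d20_1 (iv4 F187350) F229695 (iv3 D68634) (iv1 F104824) (iv3 F184183) (iv4 D117584) (iv1 F349956) (iv4 D114273) F320841 F315232
theorem F349959 : act 1 n128496 = n105629 := d18_6 F349958 F229695 (iv1 F319125) F313962 (iv5 F94954) (iv4 F206656) F162229 (iv0 F340760) (iv5 F340765)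
theorem F349960 : act 0 n117734 = n119064 := d20_4 (iv4 F114732) F114730 F85582 D117734 F187334 (iv4 F187350) F349958 F229695 (iv3 D68634) (iv1 F104824)
theorem F349961 : act 2 n114489 = n146364 := d15_3 (iv0 F349958) (iv0 F312740) (iv7 F315237)
theorem F349962 : act 1 n119201 = n146364 := d15_0 (iv0 F349958) F310543 (iv2 F314857)
theorem F349963 : act 7 n146364 = n114634 := d15_2 (iv0 F314856) F349962 F316466
theorem F349964 : act 4 n114712 = n143061 := d17_4 (iv1 F319125) (iv5 F178738) F338609 (iv5 F325991) F225915 (iv0 F321986) (iv5 F314859) F349962 F229695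
theorem F349965 : act 7 n143060 = n114712 := d11_0 F349964 (iv7 D143061) D143060
theorem F349966 : act 1 n143039 = n128496 := d18_6 F317976 (iv4 F280365) (iv1 F338611) F349964 F225915 (iv4 F225901) F206656 F320124 D105702
theorem F349967 : act 3 n114505 = n143060 := d8_3 F349965 F325990 (iv7 F178561)
theorem E100770 : n145043 = n114503 := ((c13_3 F349965 F325991 F248598 (iv5 F331603))).symm
theorem F349968 : act 0 n114503 = n67993 := (sb E100770 (iv1 D145043))
theorem F349969 : act 5 n114503 = n143060 := (sb E100770 (iv5 F331603))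
theorem E100771 : n114637 = n114503 := (c17_3 (iv1 D52911) D52912 D114637 F349969 (iv4 D143060) (iv5 D67043) D67042 (iv5 F340746) (iv0 F290486) (iv4 D114634))
theorem F349970 : act 1 n114503 = n52912 := (sb E100771 (iv0 D114637))
theorem F349971 : act 1 n143060 = n114798 := d17_8 (iv1 F315936) (iv5 D141348) (iv1 F320119) (iv5 F317980) (iv4 F49944) D67993 (iv0 F349968) F349969 F333652
theorem F349972 : act 0 n145010 = n114797 := d21_7 (iv5 F349969) F349968 (iv5 D67993) (iv6 D31642) D31639 D67983 D145010 (iv5 D114797) D114798 (iv1 F349971)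
theorem E100772 : n145009 = n120108 := ((c17_10 (iv1 D145009) D145010 F349972 (iv5 D114797) D114796 F333647 (iv0 F317357) F86008 F278602 (iv4 F315727))).symm
theorem F349973 : act 0 n120108 = n67983 := (sb E100772 (iv1 D145009))
theorem F349974 : act 4 n145006 = n117880 := d20_6 (iv4 D143755) (iv1 D67335) D67337 (iv3 F315726) F349973 (iv3 F227965) (iv1 D117880) (iv4 F184847) F316773 (iv1 F315703)
theorem F349975 : act 2 n148010 = n145006 := d1_3 F349974 F250240 (iv4 F231829)
theorem F349976 : act 4 n114625 = n143037 := d18_1 F317973 (iv1 D143037) F103025 D67043 D143060 F349971 F333652 (iv0 F318139) (iv5 D141627)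
theorem F349977 : act 2 n143037 = n116199 := d1_1 F349976 (iv4 D116199) (iv2 F315680)
theorem F349978 : act 7 n143037 = n128496 := d11_2 (iv7 F311539) F349976 F206656
theorem F349979 : act 3 n139822 = n143037 := d20_5 F161954 (iv1 D64072) (iv4 F76913) (iv3 F102219) (iv1 F223025) (iv4 F349976) F319611 (iv4 F336187) F215918 (iv1 F161955)
theorem F349980 : act 5 n143037 = n139407 := d6_2 D139822 F349979 F222623
theorem F349981 : act 5 n144421 = n128496 := d13_3 (iv7 F349978) F349980 (iv7 F227217)
theorem E100773 : n145044 = n139408 := ((c16_4 F349976 F349980 (iv4 D139407) D139408 (iv4 D145044) (iv5 D67993) F49944 F317980 (iv7 F84468) (iv2 F315680))).symm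
theorem F349982 : act 4 n139408 = n67993 := (sb E100773 (iv4 D145044))
theorem E100774 : n139405 = n114639 := (c16_2 (iv4 D139404) D139405 (iv4 D114639) (iv5 D52912) (iv4 F83612) D114625 F349976 F349980 (iv7 F227217) (iv2 F227218))
theorem F349983 : act 5 n114639 = n65431 := (sb E100774 (iv5 D139405))
theorem E100775 : n141638 = n139404 := ((c9_8 (iv5 F349980) (iv4 F349976) (iv5 D114625) F83612 D52912 D114639 F349983 D139404 (iv5 D141638) (iv4 D66431) (iv5 F317980) (iv4 F49944) D67993 (iv4 F349982) (iv5 D139408) D139407)).symm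
theorem F349984 : act 3 n139404 = n127091 := (sb E100775 F224698)
theorem F349985 : act 5 n139404 = n66431 := (sb E100775 (iv5 D141638))
theorem F349986 : act 2 n127091 = n139824 := d0_1 F349984 (iv3 D139824) F205130 D144421 (iv2 F227218)
theorem F349987 : act 5 n139406 = n99518 := d12_3 (iv6 F178737) F349983 D139406 F335404 (iv5 D114648)
theorem F349988 : act 3 n99540 = n139406 := d6_3 F349987 F153286 (iv5 F153291)
theorem F349989 : act 7 n99517 = n139406 := d13_0 F349987 (iv7 D99518) D99517
theorem F349990 : act 2 n139406 = n155581 := d0_1 F349988 (iv3 D155581) (iv2 F114984) D160070 F349199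
theorem F349991 : act 6 n139403 = n99540 := d7_0 F349988 (iv6 D139406) D139403
theorem F349992 : act 6 n160070 = n136870 := d3_2 F349991 (iv2 F349199) (iv2 F222620)
theorem E100776 : n136872 = n118884 := (c10_3 F349992 (iv4 D136870) D136872 (iv4 F252616))
theorem F349993 : act 6 n118884 = n64342 := (sb E100776 (iv6 D136872))
theorem F349994 : act 5 n155581 = n103205 := d2_2 (iv5 F349987) F349990 F158450
theorem F349995 : act 6 n155581 = n108900 := d3_2 D139406 F349990 F205141
theorem F349996 : act 1 n116199 = n143039 := d15_0 F349966 (iv7 F349978) F349977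
theorem F349997 : act 1 n105629 = n116199 := d15_0 F349996 (iv7 D143039) (iv2 F162228)
theorem E100777 : n116098 = n73380 := (c20_8 (iv4 F225901) (iv1 F349996) (iv4 D116199) (iv3 D53551) (iv1 D25934) (iv3 F40991) (iv4 F84430) D116098 F110083 (iv3 F110082) F321986)
theorem E100778 : n154735 = n53509 := ((D154735).symm.trans (sb E100777 (iv0 D116098)))
theorem F349998 : act 0 n53509 = n73380 := (sb E100778 (iv1 D154735))
theorem F349999 : act 7 n116099 = n147431 := d15_2 (iv0 F349998) D116099 F231208
theorem F350000 : act 2 n154737 = n116099 := d4_3 F349999 F231208 D154737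
theorem F350001 : act 4 n96666 = n116099 := d11_3 F349999 (iv4 D147431) (iv7 F308553)
theorem F350002 : act 6 n96670 = n116099 := d14_5 F349999 F231209 F105557 D73372 (iv7 F308549)
theorem F350003 : act 1 n116099 = n154734 := d18_6 D59902 F316024 (iv1 D45422) (iv4 F71136) D96666 F350001 F330608 F180962 (iv5 F319287)
theorem E100779 : n142558 = n121374 := ((c20_10 F224216 (iv1 F224214) F101830 F49419 (iv1 F40994) D53551 D116199 (iv1 F349997) F162229 (iv3 F326859) (iv1 D142558))).symm
theorem F350004 : act 0 n121374 = n66830 := (sb E100779 (iv1 D142558))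
theorem F350005 : act 1 n121374 = n120040 := d15_1 (iv0 F350004) (iv7 D120040) F322319
theorem F350006 : act 5 n105350 = n107168 := d19_13 (iv1 F350005) (iv5 D121374) (iv4 D55994) F43634 (iv1 D26166) (iv5 D12411) D12410 F20674 (iv1 D11121) D11123 D23752 D48704 D105350 (iv4 F344706) F199414 (iv1 F92088) D86190 (iv4 F316315) (iv3 F189588)
theorem E100780 : n179015 = n117043 := ((c21_10 F307108 (iv1 F307618) F210129 (iv6 F189589) (iv1 F350005) F326861 D142350 F225267 (iv5 F181595) D117043 (iv1 D179015))).symm
theorem F350007 : act 0 n117043 = n85407 := (sb E100780 (iv1 D179015))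
theorem F350008 : act 1 n143037 = n141636 := d15_0 (iv0 D141636) (iv7 F181084) (iv2 F349977)
theorem F350009 : act 7 n141636 = n105629 := d15_2 D143037 F350008 F162228
theorem F350010 : act 4 n141636 = n143031 := d18_7 (iv1 F316465) (iv4 D114634) (iv1 D52911) (iv4 F83612) D114625 F349976 F350008 F225897 F340738
theorem F350011 : act 0 n142698 = n147338 := d20_7 (iv4 F350010) (iv1 F350008) (iv4 F349976) F311537 F320653 (iv3 F204382) (iv4 F225593) (iv4 D147338) F340740 (iv1 F225897)
theorem F350012 : act 3 n120038 = n143031 := d20_5 (iv4 F318530) (iv1 D120046) F87414 (iv3 F87410) D120038 (iv4 F350010) (iv1 F350008) (iv4 F349976) F311537 F320653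
theorem F350013 : act 5 n143031 = n146509 := d6_2 (iv5 F319490) F350012 (iv3 D146509)
theorem F350014 : act 0 n159926 = n141450 := d20_7 (iv4 F225593) F350011 (iv4 D147338) F340740 (iv1 F225897) (iv3 F350012) F319489 (iv4 D141450) (iv3 F320820) (iv1 F320648)
theorem F350015 : act 5 n141450 = n159673 := d17_3 (iv1 F114805) D159926 F350014 (iv4 D159673) (iv5 D76391) (iv0 D34903) D34904 F55237 D68672
theorem F350016 : act 1 n159926 = n141446 := d15_1 (iv0 F350014) F320812 (iv2 F321253)
theorem F350017 : act 1 n142986 = n141450 := d15_0 (iv0 F350014) F330618 (iv2 F225831)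
theorem F350018 : act 1 n141446 = n142986 := d15_0 F350017 F321254 (iv2 F320811)
theorem F350019 : act 5 n148798 = n141446 := d17_5 (iv1 F82182) (iv5 D52017) F51409 D69737 D148798 F350018 F326863 F221223 (iv4 D105320)
theorem F350020 : act 0 n154737 = n116093 := d20_7 D141446 (iv1 F350016) (iv4 F319489) F350012 (iv1 F225896) (iv3 F340745) (iv4 F243409) F180886 F84447 D66361
theorem E100781 : n127440 = n103751 := (c18_6 (iv1 F231207) (iv4 F243409) F350020 F180886 D116149 F321268 (iv0 D103751) (iv4 F159188) F335118 F242594)
theorem F350021 : act 3 n103751 = n59857 := (sb E100781 (iv3 D127440))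
theorem F350022 : act 4 n103751 = n116149 := (sb E100781 (iv4 F321268))
theorem F350023 : act 7 n103751 = n97172 := (sb E100781 (iv7 F340697))
theorem F350024 : act 0 n115461 = n152739 := d20_7 (iv4 F243409) F350020 F180886 F84447 D66361 D141445 (iv4 F349435) F239938 F231203 (iv1 F231207)
theorem F350025 : act 0 n138480 = n169876 := d21_1 D138480 (iv5 D169876) (iv6 F312876) F350020 (iv6 D116093) D116092 (iv1 F180884) F180318 D115767 F324146
theorem F350026 : act 1 n147431 = n116093 := d15_0 (iv0 F350020) (iv7 D154737) (iv2 F231208)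
theorem F350027 : act 0 n147510 = n107286 := d20_1 D147510 (iv4 F320821) F320820 (iv1 D66362) (iv3 F84447) (iv4 F180886) (iv1 F350026) (iv4 D147431) F105410 D69136
theorem F350028 : act 5 n128382 = n148800 := d18_4 D69136 D147510 F350027 (iv4 F320821) F233637 (iv0 F314300) (iv4 D69128) (iv0 D32158) D32160
theorem F350029 : act 7 n147510 = n107284 := d15_2 D107286 (iv0 F350027) F165349
theorem F350030 : act 2 n107288 = n147510 := d4_3 F350029 F165349 D107288
theorem F350031 : act 1 n147510 = n107285 := d15_0 (iv0 D107285) D107288 F350030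
theorem F350032 : act 4 n127692 = n107285 := d20_0 (iv1 F350031) (iv4 D147510) F320115 (iv1 F102654) (iv3 F320556) (iv4 F110835) (iv1 F189598) F318530 (iv3 F204382) F320647
theorem F350033 : act 2 n107285 = n128379 := d1_1 F350032 F206498 (iv2 F205284)
theorem F350034 : act 6 n107285 = n118426 := d10_2 D127692 F350032 F186217
theorem E100782 : n137695 = n107285 := ((c16_1 F350032 (iv5 D137695) F100598 (iv5 F328818) (iv4 F106138) F106139 (iv4 F233637) (iv5 F350028) (iv7 D128382) (iv2 F205284))).symm
theorem F350035 : act 3 n107285 = n134724 := (sb E100782 F220867)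
theorem F350036 : act 5 n107285 = n64725 := (sb E100782 (iv5 D137695))
theorem E100783 : n182963 = n147626 := (c16_10 (iv4 D147626) (iv5 D69184) (iv4 F105461) (iv5 F205285) F350032 F350036 F100598 (iv5 F328818) (iv7 F329322) (iv2 F284561))
theorem F350037 : act 2 n147626 = n104250 := (sb E100783 F284561)
theorem F350038 : act 5 n147626 = n104206 := (sb E100783 F284562)
theorem F350039 : act 6 n147626 = n87351 := (sb E100783 (iv6 D182963))
theorem F350040 : act 2 n147607 = n148800 := d16_9 F233637 (iv5 F106139) F106138 F328818 (iv4 F100598) (iv5 F350036) (iv4 F350032) F205285 D147607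
theorem F350041 : act 1 n148800 = n147605 := d15_0 (iv0 D147605) D147607 F350040
theorem F350042 : act 5 n137678 = n128379 := d16_5 F231392 (iv5 F231401) F316680 F329159 (iv4 F220843) F206498 (iv5 F162466) F316396 (iv2 F350040)
theorem F350043 : act 6 n128378 = n137677 := d12_4 D137678 F350042 (iv6 D128379) D128378 (iv5 D137677)
theorem F350044 : act 7 n117463 = n147626 := d16_8 F329321 F316681 (iv4 F162465) F162466 (iv4 F206498) (iv5 F350042) F220843 (iv5 F329159) F350037
theorem F350045 : act 1 n117462 = n147626 := d15_1 D117462 (iv7 F350044) (iv2 D117463)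
theorem E100784 : n152991 = n137692 := ((c3_3 F350043 F220840 D137692 (iv2 F240276))).symm
theorem F350046 : act 0 n137692 = n72732 := (sb E100784 (iv1 F240275))
theorem F350047 : act 1 n137692 = n72213 := (sb E100784 (iv0 D152991))
theorem F350048 : act 2 n137692 = n128378 := (sb E100784 (iv2 F240276))
theorem F350049 : act 4 n137692 = n147925 := (sb E100784 F240274)
theorem F350050 : act 5 n137692 = n118426 := (sb E100784 F240273)
theorem F350051 : act 7 n137692 = n128372 := (sb E100784 (iv7 F240277))
theorem E100785 : n154746 = n111398 := ((c10_2 F350043 F220841 (iv6 D154746) (iv4 F206496))).symm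
theorem F350052 : act 6 n111398 = n73385 := (sb E100785 (iv6 D154746))
theorem F350053 : act 6 n147925 = n111513 := d3_2 F350052 (iv2 F231725) (iv2 F219131)
theorem E100786 : n154749 = n111399 := (c12_4 F350052 (iv5 D73385) D73386 D154749 (iv6 D111399) D111398)
theorem F350054 : act 0 n111399 = n181207 := (sb E100786 F316883)
theorem F350055 : act 1 n111399 = n181234 := (sb E100786 F316884)
theorem F350056 : act 4 n111399 = n79741 := (sb E100786 F316885)
theorem F350057 : act 5 n111399 = n73386 := (sb E100786 (iv5 D154749))
theorem F350058 : act 7 n177059 = n111399 := d13_0 F350057 (iv7 F316886) D177059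
theorem F350059 : act 4 n169876 = n181233 := d18_5 (iv1 F248065) (iv4 D154719) F310607 D81461 D169876 F282291 (iv4 F282239) (iv0 F350054) F350057
theorem F350060 : act 6 n128012 = n140737 := d21_5 (iv5 F206042) (iv1 D128041) (iv5 D60162) (iv6 F94701) D128012 F324361 (iv1 F350055) F350057 (iv6 D73386) (iv1 F105135)
theorem F350061 : act 2 n177059 = n166068 := d16_9 (iv4 F299709) F280416 F297531 (iv5 D40111) (iv4 F297802) (iv5 F129507) (iv4 F314556) (iv5 F350057) (iv7 F350058)
theorem F350062 : act 6 n145385 = n154720 := d21_9 (iv5 F350057) F350054 (iv5 D181207) (iv6 F306660) F316706 (iv6 F327186) D140905 F331036 D145385 F315265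
theorem E100787 : n156381 = n124881 := (c21_1 D156381 (iv1 D124881) (iv5 D58381) F44871 D33756 D73386 (iv5 F350057) F350054 (iv5 D181207) (iv6 F306660) F316706)
theorem F350063 : act 2 n124881 = n138509 := (sb E100787 F245812)
theorem F350064 : act 4 n124881 = n150957 := (sb E100787 F331044)
theorem F350065 : act 5 n124881 = n74376 := (sb E100787 (iv5 D156381))
theorem F350066 : act 6 n124881 = n150956 := (sb E100787 (iv6 F331043))
theorem F350067 : act 7 n124881 = n138528 := (sb E100787 F245813)
theorem E100788 : n156364 = n124880 := (c15_4 (iv0 D124880) D124881 F350067 F245766)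
theorem F350068 : act 2 n124880 = n138528 := (sb E100788 (iv2 F245766))
theorem F350069 : act 5 n124880 = n74371 := (sb E100788 (iv5 D156364))
theorem F350070 : act 7 n124880 = n138509 := (sb E100788 (iv7 F245765))
theorem F350071 : act 4 n121696 = n177059 := d1_0 F350061 (iv4 F299709) F299708
theorem E100789 : n169904 = n154717 := ((c18_10 F341739 F341738 F341733 F350071 (iv5 D177059) (iv4 D84385) (iv0 F113887) (iv4 F314542) (iv0 D154715) D154717)).symm
theorem F350072 : act 0 n154717 = n138480 := (sb E100789 F341739)
theorem F350073 : act 4 n154717 = n81500 := (sb E100789 (iv4 D169904))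
theorem F350074 : act 6 n113257 = n154717 := d10_0 F350073 F349673 D113257
theorem F350075 : act 7 n181233 = n96674 := d16_8 (iv4 F350073) (iv5 D154717) F110077 F308493 F297735 (iv5 F71156) (iv4 F148993) F299391 F148991
theorem E100790 : n181230 = n147797 := ((c20_9 (iv4 F350073) F350072 F341738 (iv3 D169886) (iv1 F297618) (iv3 F130054) (iv4 D84848) F335062 D147797 F282286 (iv1 F297523))).symm
theorem F350076 : act 3 n147797 = n86543 := (sb E100790 F282286)
theorem F350077 : act 5 n147797 = n86542 := (sb E100790 (iv5 D181230))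
theorem F350078 : act 2 n169906 = n181233 := d4_3 F350075 F148991 D169906
theorem F350079 : act 5 n154714 = n113257 := d12_5 F350074 (iv5 D154717) (iv6 D73372) D73371 D154714
theorem E100791 : n169874 = n154716 := (c17_10 (iv1 D154716) D154717 F350072 (iv5 D138480) F100849 F308478 (iv0 F296889) D56226 (iv0 F300136) (iv4 F267303))
theorem F350080 : act 1 n154716 = n81461 := (sb E100791 (iv0 D169874))
theorem F350081 : act 4 n154716 = n84384 := (sb E100791 F267303)
theorem F350082 : act 2 n166060 = n154716 := d1_3 F350081 F300137 D166060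
theorem F350083 : act 7 n166063 = n154716 := d11_0 F350081 F300139 D166063
theorem F350084 : act 2 n166063 = n154715 := d15_3 (iv0 D154715) D154716 (iv7 F350083)
theorem F350085 : act 7 n154715 = n166060 := d4_2 (iv7 F350083) F350084 F350082
theorem F350086 : act 6 n181208 = n153613 := d3_2 F350060 F324359 F241475
theorem E100792 : n166097 = n111397 := (c10_3 D111399 F350056 D166097 (iv4 D111397))
theorem F350087 : act 6 n111397 = n79741 := (sb E100792 (iv6 D166097))
theorem E100793 : n166093 = n127355 := (c7_2 F350087 (iv3 F261504) (iv6 D127355) F172887)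
theorem F350088 : act 3 n127355 = n79741 := (sb E100793 F261504)
theorem F350089 : act 5 n127355 = n79740 := (sb E100793 (iv5 D166093))
theorem F350090 : act 5 n166092 = n113588 := d2_2 F350089 D166092 (iv2 F204600)
theorem F350091 : act 4 n113588 = n140779 := d16_2 (iv4 F261503) F350090 (iv5 D140779) F101729 D66064 (iv4 F338182) F337740 F88943 D79788
theorem F350092 : act 6 n140779 = n113586 := d10_2 D113588 F350091 (iv4 D113586)
theorem F350093 : act 5 n142819 = n127980 := d21_8 D72213 (iv1 F350047) F350050 (iv6 F350034) (iv1 F350031) F231296 D153687 (iv1 F330106) F205956 F94689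
theorem F350094 : act 4 n182139 = n142819 := d16_2 D86973 D182139 F350093 (iv4 D127980) (iv5 D60128) (iv4 F87735) D120428 F304530 F133334
theorem F350095 : act 1 n127976 = n142810 := d17_8 (iv1 F322351) D153687 (iv1 F330106) F350093 (iv4 D127980) (iv5 D60128) D60127 D127976 (iv4 D142810)
theorem E100794 : n142810 = n127210 := (c15_1 F350095 (iv0 D127210) (iv7 F321591) (iv2 F205954))
theorem F350096 : act 0 n127210 = n127976 := (sb E100794 (iv1 F350095))
theorem F350097 : act 4 n127210 = n66939 := (sb E100794 (iv4 D142810))
theorem F350098 : act 7 n127210 = n150534 := d15_2 F321313 (iv0 F350096) (iv2 F321314)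
theorem F350099 : act 1 n138515 = n118122 := d17_8 F268184 D124825 F240988 (iv5 D153421) (iv4 F205765) D127976 (iv0 F350096) F339622 (iv4 F199467)
theorem F350100 : act 6 n138519 = n127210 := d21_9 (iv5 D127976) (iv1 D60127) D60128 F94685 F87431 F320412 F101749 F330024 D138519 F350096
theorem F350101 : act 2 n127210 = n116329 := d3_1 F350100 F341031 (iv2 F327722)
theorem F350102 : act 4 n142812 = n138519 := d10_3 F350100 F350097 D142812
theorem F350103 : act 0 n138519 = n167680 := d21_4 (iv5 F185581) (iv1 F350099) (iv5 F339622) (iv6 F350100) (iv6 D167680) (iv5 D80469) (iv1 D36687) D36688 (iv6 F123691) (iv1 F306650)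
theorem F350104 : act 0 n177055 = n140921 := d21_1 (iv5 F341075) (iv5 D140921) (iv6 F322612) F201231 (iv6 F107516) (iv5 F185581) (iv1 F350099) (iv5 F339622) (iv6 F350100) F350103
theorem F350105 : act 1 n177055 = n140916 := d15_1 (iv0 F350104) F321648 (iv2 F321324)
theorem F350106 : act 7 n177055 = n142053 := d15_2 (iv0 F319710) (iv0 F350104) F328206
theorem F350107 : act 2 n112211 = n177055 := d4_3 F350106 F328206 (iv7 F174491)
theorem F350108 : act 7 n140888 = n167680 := d13_2 F350106 (iv5 F225068) (iv5 F341075)
theorem F350109 : act 1 n112211 = n156644 := d15_0 (iv0 F330035) (iv7 F350106) (iv2 F350107)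
theorem E100795 : n177209 = n140979 := ((c21_3 F348845 (iv1 F350109) (iv5 F224002) (iv6 D177209) (iv1 D84435) F321210 F318790 (iv1 F318251) (iv5 F321031) F321032 (iv1 F348844))).symm
theorem F350110 : act 6 n140979 = n84435 := (sb E100795 (iv6 D177209))
theorem F350111 : act 0 n140796 = n146631 := d21_1 D140796 F330038 D156644 (iv1 F350109) F316890 (iv5 F299115) (iv1 F312836) (iv5 D138563) (iv6 F324371) (iv1 F180273)
theorem E100796 : n140979 = n140889 := (c21_1 (iv5 F224002) (iv1 D140889) (iv5 D66093) D66094 (iv1 F328586) F339614 D140796 F350111 F330038 D156644 (iv1 F350109))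
theorem F350112 : act 3 n140889 = n66125 := (sb E100796 (iv3 D140979))
theorem F350113 : act 5 n140889 = n112211 := (sb E100796 F224002)
theorem F350114 : act 6 n140889 = n84435 := (sb E100796 F350110)
theorem F350115 : act 7 n140889 = n143955 := (sb E100796 (iv7 F226592))
theorem F350116 : act 2 n143955 = n140888 := d15_3 (iv0 D140888) D140889 F350115
theorem F350117 : act 2 n140889 = n167680 := d4_1 (iv7 F350115) (iv7 F350108) (iv2 F350116)
theorem E100797 : n142148 = n112211 := ((c21_7 F313025 (iv1 F215578) (iv5 F310807) (iv6 F315482) (iv1 F129581) (iv6 F350114) F350113 (iv1 D142148) F223892 F348840 (iv1 F201133))).symm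
theorem F350118 : act 0 n112211 = n66647 := (sb E100797 (iv1 D142148))
theorem F350119 : act 7 n156644 = n140921 := d15_2 (iv0 F350118) F350109 F321324
theorem E100798 : n142147 = n142053 := ((c15_4 (iv0 D142147) (iv0 F350118) F174491 (iv2 F328206))).symm
theorem F350120 : act 1 n142053 = n66647 := (sb E100798 (iv0 D142147))
theorem F350121 : act 2 n140916 = n156644 := d15_3 (iv0 F330035) F350120 (iv7 F321648)
theorem F350122 : act 0 n142140 = n145380 := d17_0 (iv5 D145380) (iv1 F331037) (iv5 D140905) (iv4 D66097) D66098 F223949 F225068 F350120 (iv4 F225166)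
theorem F350123 : act 4 n112211 = n145586 := d17_4 (iv1 F101736) D66098 (iv1 F223946) F350113 (iv5 D145586) (iv0 F342431) (iv5 D140594) F223707 F223705
theorem F350124 : act 3 n145586 = n112204 := d5_1 F350123 (iv4 D112204) F81701 D51751 D112211
theorem F350125 : act 6 n145586 = n166060 := d10_2 (iv6 F316890) F350123 (iv4 D166060)
theorem F350126 : act 7 n145586 = n143926 := d11_2 (iv7 F174491) F350123 F226564
theorem F350127 : act 0 n145586 = n145588 := d18_2 (iv1 F350109) F350123 (iv4 D145588) (iv5 D68254) D68253 (iv0 F342431) F342434 (iv0 F348843) F348845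
theorem F350128 : act 3 n162045 = n140594 := d19_19 F342431 D145586 (iv4 F350123) (iv3 D112211) F81709 (iv5 F318517) (iv4 F92589) (iv3 F318350) (iv1 F100391) (iv5 F321764) D73627 (iv3 F189961) F189959 (iv5 F243936) (iv4 F331971) F331970 (iv1 D77843) D77845 D162045
theorem F350129 : act 0 n145571 = n145586 := d20_7 F53698 F45831 (iv4 F101314) (iv3 F103233) (iv1 F342445) F342442 D145571 (iv4 F350123) (iv3 D112211) F81709
theorem F350130 : act 1 n153721 = n142767 := d17_6 F350129 (iv5 D145586) (iv1 F342427) (iv5 D140589) (iv4 F342412) (iv5 F241584) (iv5 F228616) (iv0 D145569) D145571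
theorem E100799 : n145570 = n141057 := ((c20_10 D145571 F350129 (iv4 F350123) (iv3 D112211) F81709 (iv3 F318616) F324255 D35484 (iv4 F322785) D141057 (iv1 D145570))).symm
theorem F350131 : act 0 n141057 = n68249 := (sb E100799 (iv1 D145570))
theorem F350132 : act 1 n141057 = n68254 := (sb E100799 F228617)
theorem E100800 : n153267 = n145492 := (c21_2 (iv5 F112388) F240789 (iv5 D145492) (iv6 F324906) (iv1 F79057) F319070 D68254 (iv1 F350132) F224062 (iv6 F208148) F314520)
theorem F350133 : act 0 n145492 = n74883 := (sb E100800 F240788)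
theorem F350134 : act 1 n145492 = n74875 := (sb E100800 (iv0 F240789))
theorem F350135 : act 2 n145492 = n74862 := (sb E100800 F240786)
theorem F350136 : act 3 n145492 = n118520 := (sb E100800 F240787)
theorem F350137 : act 4 n145492 = n177127 := (sb E100800 F341017)
theorem F350138 : act 6 n145492 = n72394 := (sb E100800 (iv6 D153267))
theorem F350139 : act 7 n145492 = n74881 := (sb E100800 F240790)
theorem F350140 : act 6 n131247 = n177127 := d10_2 F350138 F215352 (iv4 F350137)
theorem F350141 : act 5 n172838 = n127838 := d21_8 (iv5 F309202) F116707 D45219 (iv6 F129558) D177127 (iv6 F350140) (iv5 F308641) D172838 F205672 F94550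
theorem F350142 : act 2 n103690 = n172838 := d2_3 F350141 F205671 (iv5 F306823)
theorem F350143 : act 3 n123776 = n172838 := d6_3 F350141 F305608 (iv5 F198255)
theorem F350144 : act 4 n120683 = n172838 := d9_15 F350141 (iv4 D127838) (iv5 D60037) (iv4 F301564) (iv5 F86983) D119465 (iv5 F192390) (iv4 F192391) F158409 F305605 F94647 (iv4 F94641) (iv5 F304856) (iv4 F94750) (iv5 F192388)
theorem F350145 : act 6 n124509 = n172838 := d12_0 F350141 F205672 F311220 F131261 D124509
theorem F350146 : act 7 n154437 = n172838 := d13_0 F350141 (iv7 F211089) (iv5 F242482)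
theorem F350147 : act 1 n177062 = n172838 := d17_6 (iv1 D72397) (iv5 D33419) D33417 D72390 (iv4 F306806) D177062 F350141 F211095 F211094
theorem E100801 : n177063 = n142055 := (c21_4 (iv5 F350141) (iv1 F350147) (iv5 D177062) D177063 (iv1 D142055) F323499 F321795 (iv1 F321791) D69579 (iv6 F315919) (iv1 F211095))
theorem F350148 : act 3 n142055 = n84391 := (sb E100801 F276481)
theorem F350149 : act 4 n142055 = n101343 := (sb E100801 (iv4 F310323))
theorem F350150 : act 5 n142055 = n128047 := (sb E100801 (iv5 F344027))
theorem F350151 : act 6 n142055 = n84388 := (sb E100801 (iv6 D177063))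
theorem F350152 : act 7 n142055 = n154619 := (sb E100801 F344028)
theorem F350153 : act 2 n127334 = n142055 := d4_3 F350152 (iv2 F344018) F224416
theorem F350154 : act 6 n154619 = n106013 := d14_1 F350152 (iv7 F341013) (iv6 F305691) F148145 (iv6 F350151)
theorem F350155 : act 1 n142055 = n156612 := d15_0 (iv0 F344023) F224416 F350153
theorem F350156 : act 0 n137659 = n101328 := d17_2 F344026 (iv5 F338941) (iv5 F344022) F248078 (iv5 F350150) F350155 (iv5 D156612) F327173 (iv4 F182405)
theorem E100802 : n142051 = n141881 := (c18_2 (iv1 F321303) D142051 (iv1 D141881) (iv4 F181491) F322070 F309636 (iv0 F310319) (iv4 F350149) F350155 (iv5 D156612))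
theorem F350157 : act 2 n141881 = n67430 := (sb E100802 F328204)
theorem F350158 : act 4 n141881 = n66616 := (sb E100802 (iv4 D142051))
theorem F350159 : act 7 n141881 = n157460 := (sb E100802 (iv7 F344010))
theorem E100803 : n144399 = n66065 := (c21_5 D156612 (iv1 F350155) F350150 F320345 (iv1 F227173) F324177 (iv5 F148171) (iv1 D75996) D75997 (iv6 F313526) (iv1 F327173))
theorem E100804 : n115836 = n67661 := (((iv1 F180274)).symm.trans (sb E100803 (iv1 D144399)))
theorem E100805 : n139738 = n115835 := (((F180276).symm.trans (sb E100803 F227173))).symm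
theorem E100806 : n144398 = n53409 := ((D144398).symm.trans (sb E100804 (iv1 D115836)))
theorem F350160 : act 1 n67661 = n66065 := (sb E100804 F180274)
theorem F350161 : act 2 n115835 = n65588 := (sb E100805 (iv2 D139738))
theorem F350162 : act 3 n115835 = n65707 := (sb E100805 F335041)
theorem F350163 : act 6 n115835 = n128047 := (sb E100805 (iv6 F320345))
theorem F350164 : act 7 n115835 = n66063 := (sb E100805 (iv7 F337760))
theorem F350165 : act 1 n53409 = n67661 := (sb E100806 (iv0 D144398))
theorem F350166 : act 1 n144402 = n142164 := d17_8 (iv1 F337732) F334597 (iv1 F194225) (iv5 F338186) F330016 (iv5 D115837) F350165 D144402 F330046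
theorem F350167 : act 0 n103682 = n103020 := d19_8 (iv1 F350165) D115837 (iv4 F330016) (iv3 F345962) F345959 F324803 (iv4 F324802) D103682 (iv5 D103020) (iv4 F158269) F158268 (iv1 F289682) F325912 F325048 F100913 F49001 F39584 (iv4 F49699) D67661
theorem F350168 : act 1 n103682 = n104599 := d15_1 (iv0 F350167) (iv7 F289628) F158894
theorem F350169 : act 1 n103661 = n103020 := d15_0 (iv0 F350167) F159121 (iv2 F159069)
theorem F350170 : act 1 n104599 = n103661 := d15_0 F350169 F289650 F160508
theorem F350171 : act 1 n176551 = n89830 := d17_6 (iv1 F340181) F303740 (iv1 F330234) F105831 (iv4 F129211) D176551 (iv5 F159070) F350169 (iv4 F343036)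
theorem F350172 : act 0 n91355 = n95506 := d21_4 D103020 (iv1 F350169) F159070 (iv6 F343025) (iv6 D95506) D95505 (iv1 F291967) (iv5 D89996) (iv6 F291907) F289647
theorem F350173 : act 1 n89890 = n95506 := d15_0 (iv0 F350172) F140465 (iv2 F292220)
theorem F350174 : act 0 n103215 = n103593 := d21_1 (iv5 F158460) (iv5 D103593) D103594 F343082 (iv6 F291222) (iv5 F343064) F343061 (iv5 D95505) D95506 (iv1 F350173)
theorem F350175 : act 1 n103215 = n103590 := d15_1 (iv0 F350174) F158927 (iv2 F158937)
theorem F350176 : act 1 n89825 = n176551 := d15_0 F350171 (iv7 F138018) F138015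
theorem F350177 : act 5 n131615 = n119970 := d19_9 (iv1 F350171) (iv5 D176551) F129211 (iv3 D39782) (iv1 F45067) D58698 F92739 (iv3 F105854) (iv1 F317805) F335779 (iv3 D94261) (iv1 D44064) (iv5 D20931) F15687 F14597 (iv1 F63184) D19769 D41963 D89830
theorem F350178 : act 2 n133950 = n131615 := d2_3 F350177 F343013 (iv5 F343016)
theorem F350179 : act 7 n133949 = n131615 := d13_0 F350177 F343014 (iv5 F343017)
theorem F350180 : act 4 n148496 = n131615 := d16_2 F333375 F333336 F350177 F335779 F145391 F135452 (iv5 F145391) F145392 (iv2 F145314)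
theorem F350181 : act 0 n97245 = n116146 := d21_4 D69579 (iv1 F317805) F350177 F348987 (iv6 D116146) (iv5 D53535) (iv1 F40988) F103128 D66081 (iv1 F321791)
theorem F350182 : act 5 n116146 = n117209 := d21_0 (iv1 F188393) F313240 (iv6 F313241) (iv1 D148500) (iv6 D69580) D69579 (iv1 F317805) F350177 F348987 F350181
theorem F350183 : act 2 n133949 = n148496 := d16_9 F350180 F350177 F335779 F145391 F135452 (iv5 F145391) (iv4 F335779) (iv5 F350177) (iv7 F350179)
theorem F350184 : act 6 n117209 = n116149 := d12_2 D116146 F350182 (iv5 D116149) (iv6 D53536) D53535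
theorem F350185 : act 7 n127503 = n116146 := d13_0 F350182 F204937 D127503
theorem F350186 : act 0 n148501 = n142087 := d21_1 D148501 (iv5 D142087) (iv6 D66629) (iv1 F84445) D116146 F350182 (iv1 F188393) F313240 (iv6 F313241) (iv1 D148500)
theorem E100807 : n127688 = n103706 := (c21_2 D59946 D127688 (iv5 D103706) D103707 F341059 (iv6 F350184) (iv5 F350182) F330071 (iv5 D97240) (iv6 F330073) (iv1 D59945))
theorem F350187 : act 1 n103706 = n59946 := (sb E100807 (iv0 D127688))
theorem E100808 : n127689 = n103701 := (c15_2 F350187 D127689 F311195 (iv2 F315974))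
theorem F350188 : act 0 n103701 = n59946 := (sb E100808 (iv1 D127689))
theorem F350189 : act 0 n127690 = n153719 := d18_2 F350188 D127690 (iv4 D153719) F317722 (iv4 D48039) F75370 F75367 F75495 D103701
theorem F350190 : act 6 n153719 = n140599 := d21_5 D151155 F237832 F109232 (iv6 F205280) F350189 F223721 (iv1 F342397) F342507 (iv6 D72740) (iv1 F107721)
theorem F350191 : act 3 n140661 = n153719 := d7_3 F350190 F223720 D140661
theorem F350192 : act 7 n142906 = n153719 := d14_0 F350190 (iv7 D140599) (iv6 F342503) F322363 D142906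
theorem F350193 : act 6 n145748 = n148501 := d21_9 (iv5 D142087) D142085 F326252 F310875 F308727 F345670 F158409 F305603 (iv5 F228881) F350186
theorem F350194 : act 7 n158998 = n140786 := d15_2 (iv0 F350186) (iv0 F339818) (iv2 F225113)
theorem F350195 : act 4 n140786 = n120602 := d11_1 F350194 F192173 (iv4 F250327)
theorem E100809 : n158998 = n124557 := ((c13_4 F350194 (iv5 D140786) F326253 (iv5 F302678))).symm
theorem F350196 : act 0 n124557 = n148501 := (sb E100809 F339818)
theorem F350197 : act 3 n124557 = n75926 := (sb E100809 (iv3 D158998))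
theorem F350198 : act 4 n124557 = n75930 := (sb E100809 F250327)
theorem F350199 : act 7 n124557 = n140786 := (sb E100809 F350194)
theorem F350200 : act 7 n142087 = n170481 := d4_2 F350199 (iv2 F225113) F267927
theorem F350201 : act 4 n159004 = n170481 := d1_2 F350198 D159004 F267927
theorem E100810 : n179125 = n69054 := (c17_8 (iv1 F233907) (iv5 F326252) F326251 (iv5 F302678) F350198 F113820 D85471 D179125 F230434 (iv4 F233905))
theorem E100811 : n147293 = n85471 := ((D147293).symm.trans (sb E100810 (iv5 D179125)))
theorem F350202 : act 5 n85471 = n69054 := (sb E100811 (iv5 D147293))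
theorem F350203 : act 5 n159003 = n125004 := d18_9 (iv1 D125004) F319064 (iv1 F97603) (iv4 F209088) F335862 F335863 (iv0 F350196) F350198 D159003
theorem E100812 : n179122 = n103224 := ((c2_3 F350202 F190209 (iv5 F336315) F279074)).symm
theorem F350204 : act 2 n103224 = n85471 := (sb E100812 F279074)
theorem F350205 : act 7 n103224 = n85470 := (sb E100812 (iv7 D179122))
theorem F350206 : act 5 n147292 = n179123 := d6_2 F350202 D147292 (iv3 D179123)
theorem E100813 : n179126 = n90727 := ((c12_6 (iv6 D179126) F350202 D147294 (iv5 F231489) F336312 F336625)).symm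
theorem F350207 : act 6 n90727 = n85471 := (sb E100813 (iv6 D179126))
theorem F350208 : act 5 n146998 = n179117 := d13_3 (iv7 F279073) F350202 (iv7 F230424)
theorem E100814 : n179124 = n90728 := ((c16_4 (iv4 F181615) F333591 F147652 (iv5 F139652) (iv4 D179124) F350202 (iv4 D69054) D69055 (iv7 F318658) F181571)).symm
theorem F350209 : act 4 n90728 = n85471 := (sb E100814 (iv4 D179124))
theorem F350210 : act 0 n179277 = n90728 := d18_2 F323266 D179277 F350209 F350202 (iv4 D69054) (iv0 F190185) D146996 F230410 (iv5 F339808)
theorem F350211 : act 5 n147193 = n107703 := d18_4 F323951 (iv4 F323668) D127482 F230934 (iv4 F175931) F319048 F130680 D85471 F350202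
theorem F350212 : act 6 n177557 = n125052 := d21_9 F350202 F323951 F113840 D85317 D178939 F341872 F341870 (iv1 F129746) D177557 (iv1 F200892)
theorem F350213 : act 5 n180467 = n155755 := d21_2 F336572 F336621 (iv6 D155755) (iv1 F328598) F350207 F350202 F323951 F113840 D85317 D178939
theorem F350214 : act 7 n107703 = n147286 := d13_2 F230767 F350211 (iv5 D147286)
theorem F350215 : act 2 n147286 = n103319 := d4_1 F350214 F331339 D107703
theorem F350216 : act 4 n147286 = n103057 := d11_1 F350214 F331337 F175931
theorem F350217 : act 1 n107702 = n147286 := d15_1 D107702 (iv7 F350214) (iv2 D107703)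
theorem F350218 : act 5 n131304 = n106319 := d16_3 (iv4 F82433) (iv5 F170570) (iv4 F210444) (iv4 F315567) F315568 (iv4 F230409) D147286 (iv7 F350214) (iv2 D107703)
theorem F350219 : act 3 n106319 = n131305 := d6_1 F350218 (iv5 D131305) D131304
theorem F350220 : act 0 n106736 = n131304 := d17_2 (iv1 F230926) (iv5 F164517) F350218 (iv4 F315567) F315568 (iv0 F229515) (iv5 F313174) F313171 F253034
theorem F350221 : act 2 n142085 = n139855 := d16_9 F315567 (iv5 F350218) F210444 F170570 F82433 F339808 D147282 F339615 F339617
theorem F350222 : act 0 n131304 = n106723 := d21_7 (iv5 D23972) (iv1 D11234) D11236 D23978 D49137 D106319 (iv5 F350218) F164505 F105272 (iv1 F54190)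
theorem F350223 : act 1 n96040 = n106723 := d15_0 (iv0 F350222) (iv7 F348079) F348075
theorem F350224 : act 3 n139951 = n142085 := d0_0 F350221 (iv3 D139855) (iv2 F200167) (iv3 F336861) (iv2 F336863)
theorem F350225 : act 6 n149416 = n142085 := d3_0 F350221 F315569 F234969
theorem F350226 : act 6 n127202 = n106322 := d14_5 (iv7 F234970) F350225 (iv7 F339617) F339618 F221131
theorem F350227 : act 6 n149459 = n137901 := d7_2 F350226 F235054 F221151
theorem E100815 : n142824 = n106324 := ((c10_3 F350226 (iv4 D106322) D106324 F225720)).symm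
theorem F350228 : act 0 n106324 = n66945 := (sb E100815 (iv1 D142824))
theorem F350229 : act 1 n106324 = n66950 := (sb E100815 F225719)
theorem F350230 : act 2 n106324 = n127208 := (sb E100815 (iv2 F225721))
theorem F350231 : act 3 n106324 = n144938 := (sb E100815 F227913)
theorem F350232 : act 4 n106324 = n127202 := (sb E100815 F225720)
theorem F350233 : act 7 n106324 = n145481 := (sb E100815 (iv7 F228531))
theorem F350234 : act 1 n140853 = n112950 := d17_6 F204475 (iv5 D65693) (iv1 F180285) F320922 (iv4 F101742) D140853 F326249 (iv0 F350228) F350232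
theorem F350235 : act 1 n142836 = n140853 := d15_0 F350234 (iv7 F176132) F325371
theorem F350236 : act 7 n140853 = n106290 := d15_2 F331570 F350235 (iv2 F164507)
theorem F350237 : act 6 n95953 = n140853 := d14_5 F350236 F163354 (iv7 F77979) D106727 (iv7 F348082)
theorem F350238 : act 3 n147978 = n95953 := d7_3 F350237 F223920 (iv6 F231802)
theorem F350239 : act 5 n140850 = n95953 := d12_5 F350237 (iv5 D140853) (iv6 D66085) D66084 D140850
theorem F350240 : act 0 n96081 = n114221 := d21_10 (iv5 D114221) (iv1 F320521) D140853 (iv6 F350237) (iv1 D95953) F70359 D44814 (iv1 F70384) (iv5 F70461) D96081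
theorem F350241 : act 7 n131287 = n147978 := d8_0 F350238 F348082 (iv3 F210414)
theorem F350242 : act 5 n147979 = n131287 := d13_3 F350241 (iv5 D147978) D147979
theorem F350243 : act 2 n150752 = n147979 := d2_3 F350242 (iv2 F215148) (iv5 F237313)
theorem F350244 : act 6 n105915 = n147979 := d12_0 F350242 (iv6 D131287) (iv5 D61612) (iv6 F77257) (iv5 F162653)
theorem F350245 : act 7 n147937 = n150752 := d4_0 F350243 (iv7 D147979) (iv2 F231747)
theorem F350246 : act 1 n150752 = n147976 := d15_0 (iv0 D147976) D147979 (iv2 F350243)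
theorem F350247 : act 1 n147977 = n150752 := d15_1 D147977 (iv7 F350245) F231747
theorem F350248 : act 6 n144938 = n106321 := d7_2 D106324 F350231 (iv3 D106321)
theorem F350249 : act 6 n127208 = n106306 := d3_2 D106324 F350230 F191133
theorem F350250 : act 6 n139758 = n154810 := d10_2 F350227 (iv4 F222934) F243499
theorem F350251 : act 6 n127144 = n141440 := d21_5 F317435 F308652 F235052 F350227 (iv1 F221153) (iv5 F337014) (iv1 F310946) F228973 F315208 (iv1 F317433)
theorem F350252 : act 0 n127311 = n140833 := d21_4 F308264 F232292 (iv5 F311618) D127311 (iv6 D140833) F103127 (iv1 F102778) (iv5 F221152) (iv6 F350227) (iv1 D149459)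
theorem F350253 : act 7 n127311 = n150387 := d15_2 (iv0 F332439) (iv0 F350252) F236705
theorem E100816 : n141490 = n141440 := ((c3_1 F350251 (iv2 D141490) (iv6 F334918) (iv2 F204435))).symm
theorem F350254 : act 2 n141440 = n66379 := (sb E100816 (iv2 D141490))
theorem F350255 : act 7 n141440 = n66380 := (sb E100816 (iv7 F224555))
theorem E100817 : n179162 = n141440 := ((c10_1 F350251 (iv4 D179162) F337092 (iv4 F204436))).symm
theorem F350256 : act 4 n141440 = n85502 := (sb E100817 (iv4 D179162))
theorem E100818 : n155548 = n137898 := (c14_6 F221139 F350251 F350255 (iv6 F334921) F321721 D155548)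
theorem F350257 : act 6 n137898 = n74001 := (sb E100818 (iv6 D155548))
theorem F350258 : act 6 n155545 = n140715 := d7_2 F350257 D155545 F223808
theorem F350259 : act 6 n155546 = n143000 := d10_2 F350257 D155546 F225864
theorem F350260 : act 2 n143133 = n155546 := d3_3 F350259 (iv2 F225865) D143133
theorem F350261 : act 0 n122698 = n155546 := d21_4 F106640 (iv1 D57351) (iv5 F90071) D122698 F350259 (iv5 F226174) (iv1 D143403) (iv5 D67171) (iv6 F320242) (iv1 F106642)
theorem E100819 : n134441 = n120335 := (c20_8 (iv4 D155546) (iv1 D74001) (iv4 F110737) (iv3 D73962) D73960 (iv3 F331640) (iv4 F98424) D134441 F191646 (iv3 F196558) F350261)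
theorem F350262 : act 1 n120335 = n63146 := (sb E100819 (iv0 D134441))
theorem E100820 : n134442 = n122697 := (c15_2 F350262 D134442 (iv7 D122697) (iv2 F191644))
theorem F350263 : act 0 n122697 = n63146 := (sb E100820 (iv1 D134442))
theorem F350264 : act 1 n123121 = n120335 := d15_0 F350262 (iv7 F329958) (iv2 F342790)
theorem F350265 : act 3 n155546 = n128208 := d20_5 (iv4 F98424) (iv1 F350262) F191646 (iv3 F196558) F350261 (iv4 D128208) (iv1 F198204) F198200 F90864 F342786
theorem E100821 : n177764 = n134451 := (c21_4 F153925 (iv1 F263595) F263592 D177764 (iv1 D134451) (iv6 F216408) (iv5 D134443) (iv1 F350262) F300527 (iv6 D84703) D84700)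
theorem F350266 : act 2 n134451 = n84718 := (sb E100821 F277225)
theorem F350267 : act 6 n134451 = n84642 := (sb E100821 (iv6 D177764))
theorem F350268 : act 7 n134451 = n135209 := (sb E100821 (iv7 F341429))
theorem E100822 : n177971 = n134450 := (c15_4 (iv0 D134450) D134451 F350268 (iv2 F341430))
theorem F350269 : act 2 n134450 = n135209 := (sb E100822 F341430)
theorem F350270 : act 7 n134450 = n84718 := (sb E100822 (iv7 D177971))
theorem F350271 : act 6 n134445 = n139393 := d21_3 (iv5 D63149) D63147 D134445 (iv1 F343248) (iv6 D177921) F153925 (iv1 F263595) F263592 (iv6 F350267) (iv1 D134451)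
theorem F350272 : act 5 n131040 = n134446 := d12_3 F350271 (iv5 D139393) (iv6 F209746) (iv6 D134446) D134445
theorem F350273 : act 7 n134446 = n141258 := d13_2 F214867 F350272 (iv5 F224287)
theorem F350274 : act 1 n134446 = n135055 := d17_6 D30944 D66210 F101814 F168267 D131040 F350272 F329878 (iv0 D66203) F49376
theorem F350275 : act 0 n134446 = n141148 := d21_1 F350272 (iv5 D141148) D141149 (iv1 F332936) (iv6 D123275) (iv5 D57377) (iv1 F90272) F328499 (iv6 F328658) F328654
theorem F350276 : act 4 n134044 = n141148 := d18_7 F209747 F100760 D134084 (iv4 F217194) (iv5 F342842) (iv4 D141156) (iv0 F216044) (iv0 F350275) (iv5 F350272)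
theorem F350277 : act 3 n138021 = n135055 := d19_19 (iv1 F350274) (iv5 F350272) (iv4 D131040) (iv3 D61472) (iv1 D29096) (iv5 D13850) (iv4 F23121) (iv3 F46728) D61457 D131008 F346547 F165018 (iv1 F165051) F223614 D107379 (iv3 F165426) D126658 F203824 (iv4 F221279)
theorem F350278 : act 5 n141146 = n138021 := d6_0 F350277 F329878 D141146
theorem F350279 : act 6 n95411 = n138021 := d7_0 F350277 (iv6 D135055) F324964
theorem F350280 : act 7 n141264 = n138021 := d8_0 F350277 F329879 (iv3 F224288)
theorem F350281 : act 2 n126673 = n141264 := d4_3 F350280 (iv2 D138021) (iv7 F203840)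
theorem F350282 : act 4 n126670 = n141264 := d11_3 F350280 F221279 (iv7 F203834)
theorem F350283 : act 6 n132626 = n141264 := d14_5 F350280 (iv6 F350279) (iv7 F295086) F324215 (iv7 F212883)
theorem E100823 : n137191 = n105326 := ((c20_9 F336105 (iv1 F203836) F350282 F224288 (iv1 F224286) (iv3 F342847) (iv4 D146481) F104883 D105326 (iv3 D137191) (iv1 F218845))).symm
theorem F350285 : act 3 n105326 = n64486 := (sb E100823 (iv3 D137191))
theorem E100824 : n141519 = n137193 := ((c6_3 (iv5 F330620) F350285 D137193 (iv3 D141519))).symm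
theorem F350286 : act 3 n137193 = n66385 := (sb E100824 (iv3 D141519))
theorem F350287 : act 3 n137195 = n159673 := d8_3 F251538 F350285 D137195
theorem F350288 : act 6 n99428 = n137193 := d7_0 F350286 (iv6 F321266) F335913
theorem F350289 : act 5 n137194 = n91115 := d12_3 F350288 (iv5 D137193) D137194 F338425 D99428
theorem F350290 : act 2 n89174 = n137194 := d2_3 F350289 F338424 (iv5 F289984)
theorem F350291 : act 7 n89173 = n137194 := d13_0 F350289 F338426 (iv5 F338449)
theorem F350292 : act 0 n89176 = n137194 := d17_0 F350289 F295364 (iv5 F329014) (iv4 F100483) (iv5 F338715) F333846 (iv5 D138130) F348619 F339505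
theorem F350293 : act 1 n89158 = n137194 := d17_6 F289932 F284612 (iv1 D183007) (iv5 D87365) (iv4 F64276) D89158 F350289 F295365 (iv4 F135285)
theorem F350294 : act 6 n137190 = n89174 := d3_0 F350290 (iv6 D137194) D137190
theorem E100825 : n137190 = n136010 := ((c21_5 F48831 (iv1 F48479) D30160 D63952 D136010 F350294 F289984 (iv1 D47418) (iv5 F329339) (iv6 D30425) (iv1 F48829))).symm
theorem F350295 : act 2 n136010 = n64486 := (sb E100825 (iv2 D137190))
theorem F350296 : act 6 n136010 = n89174 := (sb E100825 F350294)
theorem F350297 : act 7 n136010 = n64487 := (sb E100825 (iv7 F220350))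
theorem E100826 : n137195 = n136011 := (c15_4 F218838 F218843 F350297 (iv2 F220351))
theorem F350298 : act 2 n136011 = n64487 := (sb E100826 F220351)
theorem F350299 : act 3 n136011 = n159673 := (sb E100826 F350287)
theorem F350300 : act 7 n136011 = n64486 := (sb E100826 (iv7 D137195))
theorem F350301 : act 3 n134446 = n105321 := d20_5 (iv4 F100058) F338722 (iv4 F221279) F350277 (iv1 F350274) (iv4 D105321) (iv1 F114516) D159673 (iv3 F350299) (iv1 D136011)
theorem F350302 : act 4 n113825 = n134446 := d5_0 F350301 (iv4 D105321) F76632 D52563 D113825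
theorem F350303 : act 6 n105321 = n134444 := d7_2 D134446 F350301 (iv3 D134444)
theorem F350304 : act 3 n141148 = n137869 := d20_5 (iv4 D148798) F106126 D105321 (iv3 F350301) F350275 (iv4 D137869) (iv1 F100638) D64860 D138002 (iv1 F233633)
theorem F350305 : act 0 n141148 = n136202 := d19_4 D30471 D64796 D137869 (iv3 F350304) (iv5 F332956) (iv4 D138282) F168313 (iv1 F101250) F98361 (iv4 F98355) (iv3 F216225) F336140 (iv5 D136853) (iv4 F104289) (iv3 F165703) (iv1 F165708) F177274 (iv4 F80831) (iv3 D30473)
theorem F350306 : act 4 n136202 = n127079 := d18_3 F216045 F350276 F350305 (iv5 D127079) F101811 (iv0 D66203) F49376 D30945 (iv5 F98428)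
theorem F350307 : act 0 n126264 = n107222 := d20_1 (iv4 F203032) (iv4 D107222) (iv3 F102054) F216880 F216876 F350276 F350305 F350306 F204318 (iv1 F328772)
theorem F350308 : act 2 n141258 = n136202 := d15_3 (iv0 F350305) (iv0 F350275) F350273
theorem F350309 : act 1 n135055 = n136202 := d15_0 (iv0 F350305) F224123 (iv2 F329877)
theorem F350310 : act 7 n136202 = n135207 := d15_2 F350274 F350309 F217382
theorem F350311 : act 3 n113506 = n136202 := d19_19 (iv1 F350309) F329878 (iv4 F101811) (iv3 D59633) (iv1 F45811) (iv5 F80798) (iv4 F172215) F342892 D126246 (iv5 F324559) (iv4 D104978) (iv3 F324411) (iv1 F170950) (iv5 D28155) D28154 (iv3 F173408) F173406 D52394 D113506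
theorem F350312 : act 6 n136199 = n113506 := d7_0 F350311 (iv6 D136202) D136199
theorem F350313 : act 2 n113521 = n136199 := d3_3 F350312 F176689 D113521
theorem F350314 : act 4 n113507 = n136199 := d10_3 F350312 (iv4 D113506) D113507
theorem E100827 : n136193 = n127038 := ((c14_4 F350310 (iv6 D135207) F103567 (iv6 F326055) (iv7 F219229) D136202)).symm
theorem E100828 : n135204 = n64037 := ((F326053).symm.trans (sb E100827 (iv2 D136193)))
theorem F350315 : act 7 n127038 = n64038 := (sb E100827 (iv7 F219229))
theorem F350316 : act 2 n64037 = n127038 := (sb E100828 (iv2 F326053))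
theorem E100829 : n136197 = n63528 := ((D136197).symm.trans (sb E100828 (iv6 D135204)))
theorem F350317 : act 6 n63528 = n64037 := (sb E100829 (iv6 D136197))
theorem F350318 : act 5 n113825 = n110811 := d16_1 (iv4 F350302) (iv4 F171610) D141148 (iv4 F350276) F216042 D138282 F332956 F350310 F217382
theorem F350319 : act 2 n110861 = n113825 := d2_3 F350318 F171609 D110861
theorem F350320 : act 7 n110860 = n113825 := d13_0 F350318 F171607 D110860
theorem F350321 : act 1 n131931 = n113825 := d17_6 (iv1 F101864) D66290 (iv1 F342841) F342842 F217194 F216108 F350318 F171606 F101866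
theorem F350322 : act 6 n108523 = n113825 := d21_5 (iv5 D13944) F19513 (iv5 F38907) D51080 (iv1 F167786) F350318 (iv1 D110811) (iv5 F96392) (iv6 D61838) (iv1 D29303)
theorem F350323 : act 6 n136194 = n135202 := d7_2 F350317 D136194 (iv3 D135202)
theorem F350324 : act 6 n136195 = n108428 := d10_2 F350317 D136195 F167641
theorem F350325 : act 6 n136198 = n141258 := d14_3 F103570 F350317 D136198 (iv7 F350273) (iv6 D134446)
theorem E100830 : n136196 = n135943 := (c21_7 D60509 F95128 F48189 D30000 D63528 F350317 D136196 (iv1 F218677) F327510 F98357 (iv1 D60507))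
theorem F350326 : act 5 n135943 = n64037 := (sb E100830 (iv5 D136196))
theorem F350327 : act 5 n136194 = n139439 := d6_2 F350326 D136194 F222637
theorem F350328 : act 5 n136195 = n126818 := d17_5 F111646 (iv5 F326702) D135943 F350326 D136195 F206705 F206703 (iv0 D74401) (iv4 F111644)
theorem F350329 : act 2 n129092 = n136195 := d2_3 F350328 F204063 (iv5 F207325)
theorem E100831 : n136788 = n136198 := (c21_3 (iv5 F326903) D64310 D136788 F350325 (iv1 D141258) (iv6 F329881) (iv5 F294609) F294606 D99853 F330994 (iv1 F330990))
theorem F350330 : act 5 n136198 = n64310 := (sb E100831 (iv5 D136788))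
theorem E100832 : n136198 = n127037 := ((c21_5 F302128 (iv1 F301785) F325791 (iv6 F325101) D127037 F350325 (iv5 F224287) F214868 (iv5 F328801) (iv6 F328256) (iv1 F302127))).symm
theorem F350331 : act 2 n127037 = n64038 := (sb E100832 F219230)
theorem F350332 : act 5 n127037 = n64310 := (sb E100832 F350330)
theorem F350333 : act 6 n127037 = n141258 := (sb E100832 F350325)
theorem F350334 : act 7 n127037 = n64037 := (sb E100832 (iv7 D136198))
theorem E100833 : n136790 = n135943 := ((c13_2 F350334 (iv5 F350326) (iv7 D136790) (iv5 F350332))).symm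
theorem F350335 : act 2 n135943 = n64311 := (sb E100833 F220010)
theorem F350336 : act 7 n135943 = n64310 := (sb E100833 (iv7 D136790))
theorem F350337 : act 7 n136786 = n139439 := d8_2 F350336 D136786 F222637
theorem E100834 : n136785 = n135944 := (c15_4 F218681 F218677 F350336 D136785)
theorem F350338 : act 2 n135944 = n64310 := (sb E100834 (iv2 D136785))
theorem F350339 : act 7 n135944 = n64311 := (sb E100834 (iv7 F220008))
theorem E100835 : n136793 = n127038 := (c13_2 F350339 D136793 F350315 (iv5 F331026))
theorem F350340 : act 5 n127038 = n64311 := (sb E100835 (iv5 D136793))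
theorem F350341 : act 5 n141143 = n108804 := d21_8 F350340 (iv1 D64311) F326903 F84438 (iv1 F79235) D108408 F329463 (iv1 F224111) F326049 (iv1 F204278)
theorem E100836 : n137011 = n136794 := ((c21_4 D64036 (iv1 F204278) F350340 D136794 (iv1 D137011) F327689 (iv5 D47521) (iv1 F73665) D99845 F333134 F224172)).symm
theorem F350342 : act 0 n136794 = n64398 := (sb E100836 (iv1 D137011))
theorem F350343 : act 2 n134298 = n141143 := d2_3 F350341 F168730 D134298
theorem F350344 : act 3 n136643 = n141143 := d6_3 F350341 F326048 (iv5 F219791)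
theorem F350345 : act 6 n135922 = n141143 := d12_0 F350341 F326049 (iv5 D64036) (iv6 F99402) D135922
theorem F350346 : act 7 n134301 = n141143 := d13_0 F350341 F168731 D134301
theorem F350347 : act 1 n123992 = n111312 := d18_6 F168732 (iv4 F164171) F168007 F168008 (iv5 F328519) (iv4 F198403) F172729 D141143 F350341
theorem F350348 : act 5 n124344 = n111276 := d21_8 F98188 (iv1 F81007) D51339 D111312 (iv1 F350347) (iv6 D123992) (iv5 F191931) F303683 (iv6 D111276) (iv1 F98191)
theorem F350349 : act 6 n120532 = n134301 := d14_5 F350346 (iv6 F350345) (iv7 F341518) (iv6 D159137) (iv7 F301666)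
theorem E100837 : n141142 = n135271 := ((c15_4 (iv0 D141142) D141143 (iv7 F350346) (iv2 F217479))).symm
theorem F350350 : act 0 n135271 = n66248 := (sb E100837 (iv1 F224115))
theorem F350351 : act 1 n135271 = n66202 := (sb E100837 (iv0 D141142))
theorem F350352 : act 4 n180409 = n141137 := d19_18 (iv1 F350351) (iv5 D135271) (iv4 D63591) (iv3 D30025) (iv1 D14252) F11041 (iv4 F18984) (iv3 F38608) (iv1 F326965) F295900 (iv4 F28175) (iv3 F28176) F21532 (iv5 F13740) D18873 D39894 D86193 (iv5 F280784) F224108
theorem E100838 : n135271 = n120633 := (c21_5 (iv5 D51091) F38948 D30942 D66202 (iv1 F350351) (iv6 D120633) (iv5 D55569) D55566 (iv5 F329236) (iv6 D53463) (iv1 F80592))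
theorem F350353 : act 0 n120633 = n66248 := (sb E100838 F350350)
theorem F350354 : act 1 n120633 = n66202 := (sb E100838 F350351)
theorem F350355 : act 2 n120633 = n134301 := (sb E100838 F217479)
theorem F350356 : act 5 n120633 = n63591 := (sb E100838 (iv5 D135271))
theorem F350357 : act 7 n120633 = n134298 := (sb E100838 F217480)
theorem F350358 : act 3 n135935 = n120633 := d8_3 F350357 F326050 D135935
theorem F350359 : act 6 n120630 = n135935 := d7_0 F350358 (iv6 D120633) (iv3 F192255)
theorem E100839 : n135167 = n109157 := (c21_8 (iv5 D37590) F91443 D55569 D120633 F350353 (iv6 F343163) F343161 D135167 F169147 F337483 F299243)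
theorem F350360 : act 1 n109157 = n63519 := (sb E100839 (iv0 D135167))
theorem E100840 : n139544 = n134353 := ((c21_3 (iv5 F329463) F171520 (iv5 F216351) (iv6 D139544) (iv1 F329823) F73358 (iv5 D37590) F91443 D55569 D120633 F350353)).symm
theorem F350361 : act 6 n134353 = n65478 := (sb E100840 (iv6 D139544))
theorem F350362 : act 6 n98429 = n130832 := d3_2 F350361 (iv2 F329835) F216352
theorem F350363 : act 3 n130832 = n138165 := d7_1 F350362 (iv6 F333872) F285840
theorem E100841 : n139513 = n135166 := (c19_19 (iv1 F350360) F169147 (iv4 D51513) F39265 D25030 (iv5 F80608) (iv4 D51098) F38975 F39671 F39667 F38471 F18900 (iv1 F20387) (iv5 D7001) D7000 D14652 D30949 (iv5 F180560) D139513 F217366)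
theorem F350364 : act 4 n135166 = n65470 := (sb E100841 (iv4 D139513))
theorem E100842 : n139514 = n135165 := (c10_3 D135166 F350364 D139514 (iv4 D135165))
theorem F350365 : act 6 n135165 = n65470 := (sb E100842 (iv6 D139514))
theorem F350366 : act 6 n140357 = n180409 := d10_0 F350352 (iv6 D141137) (iv4 F223471)
theorem F350367 : act 6 n157928 = n141822 := d3_2 F350366 (iv2 F280786) (iv2 F224846)
theorem F350368 : act 5 n180484 = n140358 := d12_3 F350366 F280784 D180484 (iv6 D140358) D140357
theorem F350369 : act 0 n123495 = n140358 := d21_7 D180789 (iv1 F281422) (iv5 D157924) (iv6 F330795) (iv1 D120292) (iv6 F90703) D123495 (iv5 F350368) (iv6 D180484) (iv1 F132344)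
theorem F350370 : act 6 n139327 = n90709 := d21_3 (iv5 D66492) D66489 F222515 F293365 D100588 F345212 F132341 (iv5 F248825) F350367 (iv1 D141822)
theorem F350371 : act 2 n100597 = n139327 := d3_3 F350370 F293367 D100597
theorem F350372 : act 6 n90711 = n137670 := d7_2 F350370 (iv3 F345136) (iv3 F222514)
theorem F350373 : act 5 n90710 = n108534 := d12_3 F350370 (iv5 D90709) D90710 F338935 F222515
theorem F350374 : act 0 n100706 = n151704 := d19_4 D108534 (iv5 F350373) F293369 (iv3 F154812) (iv5 D151704) F108021 (iv3 D52803) (iv1 F82430) (iv5 D52145) (iv4 D25321) (iv3 F22141) (iv1 F24464) (iv5 D14805) D14804 (iv3 F24460) (iv1 D14538) F19424 D24446 D50118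
theorem F350375 : act 6 n111404 = n138475 := d14_3 F345138 F350372 F220838 (iv7 F316135) F333016
theorem F350376 : act 6 n124859 = n137658 := d3_2 F350375 (iv2 F316986) F220829
theorem F350377 : act 4 n138475 = n111405 := d10_1 F350375 (iv6 D111405) D111404
theorem F350378 : act 6 n157636 = n136119 := d12_4 F350375 F222382 D138751 (iv5 F338938) F219088
theorem F350379 : act 7 n111405 = n171152 := d11_2 F316135 F350377 (iv4 F333014)
theorem F350380 : act 5 n111405 = n177833 := d16_1 F350377 (iv4 F338871) (iv5 D104178) (iv4 F238654) (iv5 F306657) (iv4 F316125) (iv5 F245657) (iv7 F316987) F316986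
theorem F350381 : act 6 n177833 = n111408 := d12_2 D111405 F350380 (iv5 D111408) (iv6 D51378) D51377
theorem F350382 : act 0 n184568 = n111405 := d17_2 F309406 D184568 F350380 (iv4 F338871) (iv5 D104178) (iv0 D48206) D48208 (iv0 F307401) D124784
theorem F350383 : act 5 n138476 = n184062 := d18_4 F350382 (iv4 F350377) (iv1 D138475) D138476 F286008 F308463 D124821 F309403 D184568
theorem E100843 : n184061 = n156324 := (c13_4 F245664 F350383 (iv7 D184062) D184061)
theorem F350384 : act 5 n156324 = n87796 := (sb E100843 (iv5 D184061))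
theorem F350385 : act 0 n111753 = n138476 := d19_0 F350383 F286008 (iv3 F236299) (iv1 F236301) (iv5 D85905) F60591 (iv3 D18809) (iv1 F30421) D36374 (iv4 F113805) D158984 F311541 (iv5 F344810) (iv4 F319242) D136472 F245117 F345273 (iv4 D111754) D111753
theorem F350386 : act 5 n184060 = n134947 := d6_2 F350384 D184060 (iv3 F245663)
theorem F350387 : act 5 n156306 = n108688 := d19_17 F331046 (iv5 F350384) (iv4 D156324) F111571 F53631 F53630 F53626 (iv3 F78920) F78922 (iv5 F39980) F37101 F22599 (iv1 F38921) (iv5 F48115) (iv4 F53516) D74349 D156306 F168622 (iv3 F180147)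
theorem F350388 : act 2 n109198 = n156306 := d2_3 F350387 F168621 D109198
theorem F350389 : act 6 n140352 = n156306 := d12_0 F350387 (iv6 D108688) F79524 D65878 D140352
theorem F350390 : act 7 n156307 = n109198 := d15_2 (iv0 D156306) D156307 F350388
theorem F350391 : act 5 n109199 = n156307 := d13_3 F350390 (iv5 D109198) D109199
theorem F350392 : act 1 n156025 = n108876 := d18_8 D108874 F343111 (iv1 F168623) (iv4 F337452) F350391 (iv4 F245625) (iv0 D156023) D156025 (iv5 D108876)
theorem F350393 : act 5 n106872 = n100597 := d2_0 F350371 (iv5 F222515) F219093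
theorem F350394 : act 7 n140367 = n100597 := d15_2 F345618 D140367 F350371
theorem F350395 : act 4 n100516 = n140367 := d11_3 F350394 F154662 (iv7 F154565)
theorem E100844 : n141817 = n140367 := (c13_4 F350394 (iv5 F350393) (iv7 F219095) D141817)
theorem F350396 : act 5 n140367 = n66490 := (sb E100844 (iv5 D141817))
theorem F350397 : act 6 n100515 = n140367 := d14_5 F350394 (iv6 D100597) (iv7 D46923) (iv6 F74095) D100515
theorem F350398 : act 3 n100516 = n115953 := d19_3 (iv1 F164712) (iv5 F350396) (iv4 F350395) (iv1 F180561) F105781 (iv4 F84686) (iv3 D53674) (iv1 F41064) D31136 D66791 D142442 (iv1 F225357) F181775 (iv4 F102666) (iv3 D66626) (iv1 F84445) (iv5 D53535) (iv4 F84423) (iv3 F164707)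
theorem F350399 : act 2 n110906 = n100516 := d0_5 F350398 F180556 F84361 F80665 D110906
theorem F350400 : act 5 n111449 = n100516 := d6_0 F350398 (iv5 D115953) (iv3 F172957)
theorem F350401 : act 6 n99315 = n111449 := d12_0 F350400 (iv6 D100516) F74096 (iv6 F73292) (iv5 F152915)
theorem F350402 : act 0 n110883 = n100103 := d21_4 D139321 (iv1 F224848) (iv5 D110882) D110883 (iv6 D100103) (iv5 D46730) (iv1 F73295) (iv5 F152915) F350401 (iv1 F172962)
theorem F350403 : act 5 n99001 = n110883 := d21_0 F350402 F154038 (iv6 D98981) (iv1 D46303) F34606 (iv5 D10557) D10555 D22146 D46315 D99001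
theorem F350404 : act 3 n110885 = n99001 := d6_3 F350403 F171788 D110885
theorem F350405 : act 5 n110879 = n100599 := d21_0 (iv1 D100599) F329481 F329201 F293150 D46766 F73883 D99001 F350403 (iv6 D110883) D110879
theorem F350406 : act 3 n100599 = n130950 := d6_1 F350405 (iv5 F330532) (iv3 F179843)
theorem F350407 : act 6 n111214 = n110879 := d21_5 (iv5 F34964) F291685 D43537 (iv6 F335711) D111214 F350405 (iv1 D100599) F329481 F329201 F293150
theorem F350408 : act 7 n99001 = n135175 := d8_2 (iv7 F343176) F350404 F217367
theorem F350409 : act 6 n99372 = n110906 := d3_0 F350399 (iv6 D100516) (iv2 F153021)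
theorem F350410 : act 1 n100516 = n139325 := d15_0 (iv0 D139325) (iv7 F171817) F350399
theorem F350411 : act 1 n110906 = n100598 := d15_0 (iv0 D100598) (iv7 F154565) (iv2 F350399)
theorem F350412 : act 5 n100598 = n110880 := d17_7 (iv1 F164712) (iv5 F350396) (iv1 D140367) (iv5 D65884) (iv4 F81165) (iv5 F171816) F350411 F171784 (iv4 F164708)
theorem F350413 : act 1 n106865 = n100597 := d17_8 D100598 F350412 (iv1 D110880) D110882 F224837 (iv5 F224839) (iv0 D106862) D106865 F154662
theorem E100845 : n141131 = n139326 := (c17_2 (iv1 F171785) D141131 (iv1 D139326) (iv5 D65394) (iv4 F78075) D106865 F350413 (iv5 F350393) F164711 (iv4 F171781))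
theorem F350414 : act 5 n139326 = n66198 := (sb E100845 (iv5 D141131))
theorem F350415 : act 0 n100516 = n139326 := d17_0 F350414 (iv1 D66198) D66200 (iv4 F223471) (iv5 D140357) (iv0 D65881) D65884 D140367 (iv4 F350395)
theorem E100846 : n141132 = n111139 := (c21_10 D111141 F342225 (iv5 F154055) (iv6 D100128) (iv1 F152918) F350401 F350400 F350415 F350414 D141132 (iv1 D111139))
theorem F350416 : act 6 n111139 = n66198 := (sb E100846 (iv6 D141132))
theorem F350417 : act 0 n140357 = n141819 := d21_10 (iv5 D141819) (iv1 F164711) F350393 (iv6 D100597) (iv1 F147828) F345208 (iv5 D86196) D86193 (iv5 F280784) (iv6 F350366)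
theorem F350418 : act 5 n141135 = n111447 := d17_1 D141135 (iv1 F172956) (iv5 F329481) (iv4 F154662) (iv5 F350393) F164711 D141819 (iv0 F350417) F223471
theorem F350419 : act 1 n140357 = n106874 := d15_1 (iv0 F350417) F164714 (iv2 F224832)
theorem F350420 : act 1 n140362 = n141819 := d15_0 (iv0 F350417) (iv7 F224838) (iv2 F224842)
theorem F350421 : act 1 n106874 = n140362 := d15_1 F350419 (iv7 F224845) (iv2 F224846)
theorem F350422 : act 5 n111448 = n141136 := d17_1 (iv1 F172961) (iv1 D141136) (iv5 D66200) (iv4 F78090) D106874 F350421 (iv5 D140362) F164690 F164686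
theorem F350423 : act 0 n106875 = n100244 := d21_4 D140362 (iv1 F350421) (iv5 D106874) D106875 (iv6 D100244) (iv5 F292034) F143220 (iv5 F143292) (iv6 F331774) (iv1 F164690)
theorem F350424 : act 0 n100237 = n137912 := d20_10 (iv4 F221172) (iv1 D67207) D67208 (iv3 F329479) (iv1 D66204) (iv3 F101803) (iv4 F164716) F350423 F154230 (iv3 F154222)
theorem F350425 : act 5 n137993 = n100237 := d17_1 (iv1 F221262) F350424 (iv5 D137912) (iv4 D64818) (iv5 D30475) (iv0 D14467) D14470 D30486 D64860
theorem F350426 : act 3 n89193 = n137993 := d6_3 F350425 F154222 (iv5 F136891)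
theorem F350427 : act 6 n89192 = n137993 := d12_0 F350425 (iv6 D100237) (iv5 D46775) D46776 (iv5 F136890)
theorem F350428 : act 1 n100237 = n137956 := d17_6 (iv1 F220975) F103040 (iv1 F102999) D142992 F225839 F350425 (iv5 D137956) F221170 F221169
theorem F350429 : act 0 n98648 = n137957 := d21_4 (iv5 D182612) (iv1 D87181) D87183 (iv6 F345238) (iv6 D137957) D137956 (iv1 F350428) (iv5 F350425) (iv6 F350427) (iv1 F295392)
theorem F350430 : act 4 n137960 = n96442 := d18_5 (iv1 D98647) D98648 F350429 F221225 D137960 F294405 F73890 (iv0 F294401) F294402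
theorem F350431 : act 2 n99658 = n137960 := d1_3 F350430 F294406 (iv4 F153483)
theorem F350432 : act 7 n182317 = n137960 := d11_0 F350430 F294432 D182317
theorem F350433 : act 5 n98398 = n137959 := d17_1 F157588 (iv1 D137959) D137960 F350430 F294407 (iv0 D98646) (iv5 D46113) F157591 (iv4 F136187)
theorem F350434 : act 3 n95396 = n137960 := d20_5 (iv4 F30736) F31629 (iv4 F33431) D44556 D95396 F350430 (iv1 D96442) F70863 (iv3 D45031) F33819
theorem F350435 : act 5 n137944 = n95396 := d6_0 F350434 (iv5 D137960) (iv3 F221208)
theorem F350436 : act 6 n100382 = n95396 := d7_0 F350434 F221226 F331195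
theorem F350437 : act 7 n96462 = n95396 := d8_0 F350434 (iv7 F350432) F283854
theorem F350438 : act 2 n95396 = n96463 := d15_3 F148558 F148553 F350437
theorem F350439 : act 2 n96462 = n95397 := d15_3 F148559 F148557 (iv7 F350437)
theorem F350440 : act 7 n95397 = n96463 := d4_2 (iv7 F350437) F350439 (iv2 F350438)
theorem F350441 : act 7 n186059 = n185649 := d11_2 F350440 (iv4 F288674) F287961
theorem E100847 : n183925 = n96463 := ((c3_2 F350436 F350438 (iv6 D183925) (iv2 F154399))).symm
theorem F350442 : act 6 n96463 = n87743 := (sb E100847 (iv6 D183925))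
theorem F350443 : act 6 n100752 = n186059 := d10_2 F350442 (iv4 F289602) F288674
theorem F350444 : act 2 n186059 = n176674 := d3_1 F350443 (iv6 D176674) F331172
theorem E100848 : n186062 = n103670 := (c7_3 F350443 (iv3 D186059) D186062 (iv3 F289601))
theorem F350445 : act 6 n103670 = n88627 := (sb E100848 (iv6 D186062))
theorem E100849 : n185651 = n103239 := (c14_4 (iv7 F159096) F350445 (iv7 F294547) D185651 (iv7 F158485) F135566)
theorem F350446 : act 6 n103239 = n88434 := (sb E100849 (iv6 D185651))
theorem F350447 : act 0 n96006 = n166248 := d21_7 D185656 (iv1 F292589) (iv5 D97349) (iv6 F157602) (iv1 D44797) D44800 D96006 (iv5 F331169) F350445 (iv1 F135856)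
theorem F350448 : act 4 n94325 = n96005 := d17_9 (iv1 D96005) D96006 F350447 (iv5 F331169) (iv4 F159097) D185866 (iv0 F288317) F135579 D94325
theorem F350449 : act 3 n97117 = n96005 := d20_5 F138094 (iv1 F135312) F135311 D89865 F160326 (iv4 F350448) (iv1 D94325) (iv4 F138098) (iv3 D89926) D89925
theorem F350450 : act 6 n96005 = n89898 := d7_2 D97117 F350449 (iv3 F138029)
theorem F350451 : act 2 n97161 = n96005 := d3_3 F350450 F283536 D97161
theorem E100850 : n159839 = n94325 := (c10_3 F350450 (iv4 F138026) D159839 F350448)
theorem F350452 : act 2 n94325 = n93855 := (sb E100850 F283558)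
theorem F350453 : act 3 n94325 = n93842 := (sb E100850 F251969)
theorem F350454 : act 5 n94325 = n90564 := (sb E100850 F251970)
theorem F350455 : act 6 n94325 = n76505 := (sb E100850 (iv6 D159839))
theorem F350456 : act 5 n96005 = n103678 := d21_6 (iv5 F70321) (iv1 F70322) F40474 D45408 F138028 (iv6 F350450) (iv1 D103678) (iv5 D48018) (iv6 D23172) D23169
theorem F350457 : act 3 n103678 = n104624 := d6_1 F350456 (iv5 F160325) F350449
theorem F350458 : act 0 n144271 = n96005 := d21_10 F350456 (iv1 D103678) (iv5 D48018) (iv6 D23172) D23169 D48013 (iv5 F296079) F101183 (iv5 F103453) D144271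
theorem F350459 : act 7 n144271 = n95999 := d15_2 D96005 (iv0 F350458) F147634
theorem F350460 : act 2 n89859 = n144271 := d4_3 F350459 F147634 (iv7 F137924)
theorem F350461 : act 6 n91390 = n89859 := d3_0 F350460 (iv6 D144271) (iv2 F299850)
theorem F350462 : act 1 n144271 = n96004 := d15_0 (iv0 D96004) (iv7 F137924) F350460
theorem F350463 : act 7 n96004 = n97161 := d15_2 (iv0 F350458) F350462 F350451
theorem F350464 : act 4 n89859 = n89606 := d10_1 F350461 (iv6 F291246) F291245
theorem F350465 : act 0 n103675 = n104636 := d21_7 (iv5 F295849) F295846 (iv5 F295845) F292583 (iv1 F135862) (iv6 F293469) D103675 F160340 (iv6 F350461) F299848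
theorem E100851 : n144265 = n97357 := (c21_6 D103675 F350465 F160340 (iv6 F350461) F299848 D144265 F288027 (iv1 F160599) (iv5 D104790) (iv6 F159105) (iv1 F159106))
theorem F350466 : act 6 n97357 = n67571 := (sb E100851 (iv6 D144265))
theorem E100852 : n159812 = n144264 := ((c10_2 F350466 D144264 (iv6 F251943) (iv4 F288024))).symm
theorem F350467 : act 5 n144264 = n90660 := (sb E100852 F251844)
theorem F350468 : act 6 n144264 = n93939 := (sb E100852 (iv6 F251943))
theorem F350469 : act 7 n144264 = n76478 := (sb E100852 (iv7 D159812))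
theorem F350470 : act 6 n141284 = n103119 := d12_4 F350466 (iv5 F295849) F295850 D141284 (iv5 F288027)
theorem E100853 : n144229 = n102924 := (c21_9 D47805 D103119 (iv5 F288027) F350466 (iv1 D67571) (iv6 F103452) (iv5 D67562) D67560 D144229 F294016 (iv1 D47804))
theorem F350471 : act 5 n102924 = n67560 := (sb E100853 (iv5 D144229))
theorem F350472 : act 5 n144226 = n104787 := d2_2 F350471 D144226 (iv2 F294015)
theorem E100854 : n185627 = n144227 := ((c6_2 F350471 D144227 (iv5 D185627) (iv3 F158223))).symm
theorem F350473 : act 5 n144227 = n88427 := (sb E100854 (iv5 D185627))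
theorem E100855 : n186316 = n144223 := ((c18_3 F306981 D96002 F306982 F289096 (iv5 D181895) F293510 (iv0 D94033) F293507 (iv0 F284060) F350471)).symm
theorem E100856 : n176921 = n67559 := ((((iv1 D144223)).symm.trans (sb E100855 (iv1 F289088)))).symm
theorem F350474 : act 2 n144223 = n88757 := (sb E100855 F289085)
theorem F350475 : act 3 n144223 = n176913 := (sb E100855 F289086)
theorem F350476 : act 4 n144223 = n181895 := (sb E100855 F289096)
theorem F350477 : act 5 n144223 = n88756 := (sb E100855 (iv5 D186316))
theorem F350478 : act 7 n144223 = n176922 := (sb E100855 F289087)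
theorem E100858 : n144222 = n84333 := ((D144222).symm.trans (sb E100856 (iv1 D176921)))
theorem F350479 : act 0 n84333 = n96002 := (sb E100858 (iv1 F306983))
theorem F350480 : act 1 n84333 = n67559 := (sb E100858 (iv0 D144222))
theorem F350481 : act 6 n95535 = n144155 := d21_3 (iv5 F350471) F284060 (iv5 F294017) (iv1 D144155) (iv6 D67534) (iv5 D31377) (iv1 D14792) D14794 D31387 D67560
theorem F350482 : act 3 n144155 = n95537 := d7_1 F350481 (iv6 D95537) D95535
theorem F350483 : act 0 n132145 = n163433 := d17_2 (iv1 F262096) (iv5 F341786) (iv5 D163433) F119726 (iv5 F129393) F350480 (iv5 F346852) F250177 (iv4 F254499)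
theorem F350484 : act 0 n144234 = n104860 := d18_0 F160711 (iv1 F251871) (iv4 F293463) (iv5 F293681) F293680 F350480 F103451 D67561 D144234
theorem F350485 : act 0 n155969 = n107487 := d21_4 D64525 (iv1 F318861) F338517 D155969 F346855 F346852 (iv1 F350480) F129393 F326126 (iv1 D64523)
theorem F350486 : act 5 n127115 = n155969 := d17_1 F204367 F350485 (iv5 D107487) F78422 (iv5 F45217) D58807 (iv5 F94074) (iv0 F168063) D125991
theorem F350487 : act 1 n155969 = n117029 := d15_1 (iv0 F350485) (iv7 D117029) (iv2 F165836)
theorem F350488 : act 1 n160638 = n107487 := d15_0 (iv0 F350485) (iv7 F346889) (iv2 F346886)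
theorem F350489 : act 1 n117029 = n160638 := d15_1 F350487 (iv7 F346885) (iv2 F346888)
theorem E100859 : n117029 = n112143 := (c20_5 F297242 F296270 D77040 D160638 (iv1 F350489) (iv3 D112143) (iv4 D51718) (iv1 D25116) (iv4 F39480) (iv3 F81642) (iv1 F326151))
theorem F350490 : act 0 n112143 = n155969 := (sb E100859 (iv1 F350487))
theorem F350491 : act 1 n112143 = n160638 := (sb E100859 F350489)
theorem F350492 : act 5 n112143 = n53933 := (sb E100859 F182964)
theorem F350493 : act 7 n112143 = n53932 := (sb E100859 (iv7 D117029))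
theorem F350494 : act 6 n97210 = n127114 := d12_4 D127115 F350486 (iv6 D155969) (iv5 F338517) (iv5 D127114)
theorem E100860 : n144234 = n102919 := ((c17_10 F350484 F160712 F177450 (iv5 D97155) F71643 D76498 F214551 (iv5 F292528) F137498 D102919)).symm
theorem F350495 : act 0 n102919 = n104860 := (sb E100860 F350484)
theorem F350496 : act 5 n102919 = n67561 := (sb E100860 (iv5 D144234))
theorem F350497 : act 7 n104787 = n102919 := d13_0 F350496 F226927 F350472
theorem E100861 : n102920 = n94320 := ((c17_3 (iv1 D44087) D44090 D94320 (iv5 D102920) D102919 F350496 F306980 (iv5 D44799) D44797 (iv4 F144800))).symm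
theorem F350498 : act 5 n94320 = n47729 := (sb E100861 (iv5 D102920))
theorem F350499 : act 6 n103804 = n102919 := d21_5 (iv5 F295855) (iv1 D103801) (iv5 D48059) D48060 D103804 F350496 (iv1 D67561) D67562 F103452 D67570
theorem E100862 : n102921 = n90664 := (c10_3 F350499 (iv4 D102919) D102921 (iv4 F251680))
theorem F350500 : act 6 n90664 = n47729 := (sb E100862 (iv6 D102921))
theorem F350501 : act 6 n102922 = n92797 := d14_3 (iv7 F251675) F350500 D102922 F160551 D92802
theorem F350502 : act 4 n104787 = n102922 := d10_3 F350501 (iv4 F143143) D104787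
theorem E100863 : n102922 = n89668 := (c21_4 D93941 F283807 F177287 (iv6 F350501) (iv1 F137494) D102928 F293796 (iv1 F177470) (iv5 D76473) D76474 F251945)
theorem F350503 : act 2 n89668 = n47730 := (sb E100863 F158222)
theorem F350504 : act 4 n89668 = n104787 := (sb E100863 (iv4 F350502))
theorem F350505 : act 6 n89668 = n92797 := (sb E100863 F350501)
theorem F350506 : act 7 n89668 = n47729 := (sb E100863 (iv7 D102922))
theorem E100864 : n102917 = n89669 := (c15_4 F137499 F137494 F350506 D102917)
theorem F350507 : act 2 n89669 = n47729 := (sb E100864 (iv2 D102917))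
theorem F350508 : act 7 n89669 = n47730 := (sb E100864 (iv7 F158219))
theorem F350509 : act 3 n185913 = n89669 := d8_3 F350508 (iv3 F293717) F288417
theorem F350510 : act 4 n89669 = n104859 := d20_6 F35574 D22877 F65919 D88545 D185913 F350509 (iv1 D104859) F76242 F65633 F65972
theorem F350511 : act 0 n185682 = n104859 := d20_1 F292484 (iv4 F350510) (iv3 F350509) (iv1 F288411) (iv3 F235276) F235277 F292563 (iv4 D88697) D88696 (iv1 F292482)
theorem F350512 : act 5 n104859 = n144020 := d17_1 F350511 (iv1 D144020) F302691 F69053 D43940 D94012 (iv5 F251425) F144873 F292484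
theorem F350513 : act 7 n185682 = n104860 := d15_2 D104859 (iv0 F350511) (iv2 D104860)
theorem F350514 : act 1 n102924 = n104860 := d15_1 (iv0 F284060) (iv7 F350513) (iv2 D185682)
theorem F350515 : act 6 n104697 = n104859 := d21_5 F226713 F321634 (iv5 F323025) D103799 (iv1 F160381) F350512 (iv1 D144020) F302691 F299847 D144026
theorem F350516 : act 0 n96031 = n176860 := d21_4 (iv5 F350512) (iv1 D104859) F76243 D96031 (iv6 D176860) (iv5 D84310) D84307 (iv5 F294880) F306985 (iv1 F226697)
theorem F350517 : act 2 n104859 = n102919 := d3_1 F350515 (iv6 F350499) (iv2 F251671)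
theorem F350518 : act 7 n104859 = n102924 := d14_2 F251670 F350515 F294016 (iv7 F160557) (iv6 F251669)
theorem F350519 : act 3 n185629 = n104859 := d8_3 F350518 F158223 D185629
theorem E100865 : n144231 = n144020 := (c13_3 F350518 F350471 D144231 (iv5 F350512))
theorem F350520 : act 2 n144020 = n67561 := (sb E100865 F226928)
theorem F350521 : act 7 n144020 = n67560 := (sb E100865 (iv7 D144231))
theorem E100866 : n104858 = n104787 := ((c15_4 (iv0 D104858) D104859 F350518 F294015)).symm
theorem F350522 : act 1 n104787 = n48473 := (sb E100866 (iv0 D104858))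
theorem F350523 : act 1 n185682 = n104787 := d15_0 F350522 F293511 D185682
theorem E100867 : n144226 = n144019 := (c15_4 (iv0 D144019) D144020 F350521 D144226)
theorem F350524 : act 2 n144019 = n67560 := (sb E100867 (iv2 D144226))
theorem F350525 : act 5 n144019 = n104787 := (sb E100867 F350472)
theorem F350526 : act 7 n144019 = n67561 := (sb E100867 (iv7 F226927))
theorem E100868 : n186318 = n96003 := (c18_7 (iv1 F350523) (iv4 F292484) (iv1 F144873) F293509 (iv5 F289094) (iv4 D186319) D186318 F306989 F226702 F350525)
theorem E100869 : n117020 = n88757 := ((F306987).symm.trans (sb E100868 (iv1 D186318)))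
theorem E100870 : n176922 = n117019 := (((F306988).symm.trans (sb E100868 F289091))).symm
theorem E100871 : n186317 = n53930 := ((D186317).symm.trans (sb E100869 (iv1 D117020)))
theorem F350527 : act 1 n88757 = n96003 := (sb E100869 (iv0 F306987))
theorem F350528 : act 2 n117019 = n84333 := (sb E100870 (iv2 D176922))
theorem F350529 : act 3 n117019 = n186423 := (sb E100870 (iv3 F289212))
theorem F350530 : act 5 n117019 = n102815 := (sb E100870 F276274)
theorem F350531 : act 7 n117019 = n144223 := (sb E100870 (iv7 F350478))
theorem F350532 : act 1 n53930 = n88757 := (sb E100871 (iv0 D186317))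
theorem F350533 : act 1 n186319 = n90004 := d18_8 (iv1 F294586) F70188 F178338 (iv4 F69053) (iv5 F302691) F103329 F350532 D186319 (iv5 D90004)
theorem F350534 : act 1 n97421 = n186319 := d15_0 F350533 F294691 (iv2 F150167)
theorem E100872 : n144228 = n137092 := (c18_6 (iv1 F138303) (iv4 F137496) (iv1 F137500) D102924 F350471 D144228 (iv0 D137092) (iv4 F331311) F350534 F289094)
theorem F350535 : act 4 n137092 = n67560 := (sb E100872 (iv4 D144228))
theorem F350536 : act 0 n97422 = n95580 := d21_4 (iv5 F289094) (iv1 F350534) (iv5 D97421) D97422 (iv6 D95580) D95579 (iv1 F177781) (iv5 D104704) F293776 D90014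
theorem F350537 : act 5 n95580 = n107110 := d17_3 (iv1 F111361) (iv5 F331261) F350536 F165792 (iv5 F92823) (iv0 D58745) F45121 D31357 D67483
theorem F350538 : act 7 n97428 = n95580 := d13_0 F350537 (iv7 F331326) F345183
theorem E100873 : n159817 = n97427 := (c15_4 (iv0 D97427) D97428 F350538 (iv2 F251856))
theorem F350539 : act 2 n97427 = n95580 := (sb E100873 F251856)
theorem F350540 : act 4 n97427 = n90122 := (sb E100873 F251857)
theorem F350541 : act 5 n97427 = n103305 := (sb E100873 (iv5 F251858))
theorem F350542 : act 6 n97427 = n76480 := (sb E100873 (iv6 D159817))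
theorem F350543 : act 5 n107114 = n90653 := d17_3 D97427 F350541 F331318 (iv4 D90653) D90654 (iv0 F178556) F178555 (iv0 F345181) (iv4 F139608)
theorem E100874 : n144266 = n90122 := (c18_3 (iv1 D67571) D67572 D144266 (iv4 F350540) F350541 F331320 (iv0 D49645) D49647 (iv0 F295846) F295849)
theorem F350544 : act 1 n90122 = n67572 := (sb E100874 (iv0 D144266))
theorem F350545 : act 7 n144267 = n94015 := d15_2 F350544 D144267 F204780
theorem F350546 : act 0 n107095 = n90695 := d17_0 (iv5 F339955) (iv1 F201847) (iv5 F202869) (iv4 F339934) F205420 F350544 (iv5 F305029) F205460 (iv4 F339956)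
theorem F350547 : act 2 n94016 = n144267 := d4_3 F350545 F204780 (iv7 F204779)
theorem F350548 : act 4 n97428 = n144267 := d11_3 F350545 F204781 (iv7 F350538)
theorem F350549 : act 6 n113746 = n144267 := d14_5 F350545 F204783 (iv7 F178246) D90119 (iv7 F178276)
theorem F350550 : act 0 n144274 = n97428 := d18_0 F350548 (iv1 D144267) (iv4 D67572) (iv5 D31390) F24445 D14797 D31398 F103470 D144274
theorem F350551 : act 1 n144267 = n93054 := d18_6 (iv1 D103801) (iv4 F295863) (iv1 F80742) (iv4 F331324) F345183 F350548 F291245 F299849 (iv5 F295855)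
theorem F350552 : act 5 n128537 = n159446 := d21_6 D144274 F350550 (iv5 F345183) F331325 (iv1 F206798) F206796 (iv1 D159446) F331290 F165092 D67585
theorem F350553 : act 2 n159446 = n102046 := d2_1 F350552 F329744 (iv2 F206748)
theorem F350554 : act 1 n159446 = n130587 := d17_6 (iv1 F82376) (iv5 F78139) (iv1 F163577) F163574 (iv4 F206749) F350552 (iv5 D130587) F329591 F329358
theorem E100875 : n127102 = n103600 := ((c18_4 (iv1 D159446) F114328 D76272 F190337 (iv5 D127102) F94053 D59660 F161379 F206750 F350552)).symm
theorem F350555 : act 1 n103600 = n78993 := (sb E100875 F297679)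
theorem F350556 : act 2 n103600 = n59667 := (sb E100875 F204348)
theorem F350557 : act 5 n103600 = n59658 := (sb E100875 (iv5 D127102))
theorem E100876 : n107308 = n103602 := (c6_2 F350557 (iv3 F165370) (iv5 D103602) D103600)
theorem F350558 : act 3 n103602 = n59658 := (sb E100876 F165370)
theorem F350559 : act 4 n103602 = n49580 := (sb E100876 F165371)
theorem F350560 : act 6 n103602 = n49579 := (sb E100876 (iv6 D107308))
theorem F350561 : act 4 n110930 = n159456 := d16_6 F190337 F350557 F94053 F45823 (iv4 F80685) D110930 (iv5 D159456) F251087 (iv2 D159449)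
theorem F350562 : act 4 n157172 = n159451 := d16_2 (iv4 F112144) (iv5 F247344) (iv5 D159451) F190337 F350557 F94053 F45823 D51151 F80690
theorem E100877 : n159455 = n127121 := ((c9_9 (iv5 F350557) (iv4 F190337) D159451 (iv4 F350562) F247344 F112144 F53886 (iv4 F94070) (iv5 F204371) (iv4 D159455) D159456 (iv4 F350561) (iv5 D110930) F80685 (iv5 F45823) (iv4 F94053))).symm
theorem F350563 : act 4 n127121 = n76273 := (sb E100877 (iv4 D159455))
theorem E100878 : n127121 = n103742 := ((c16_10 F350563 D159456 (iv4 F350561) (iv5 D110930) F80685 (iv5 F45823) (iv4 F94053) (iv5 F350557) F335085 D103742)).symm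
theorem F350564 : act 0 n103742 = n78993 := (sb E100878 F297680)
theorem F350565 : act 4 n103742 = n76273 := (sb E100878 F350563)
theorem F350566 : act 5 n103742 = n59668 := (sb E100878 F204371)
theorem F350567 : act 7 n103742 = n59667 := (sb E100878 (iv7 D127121))
theorem E100879 : n159449 = n114182 := ((c11_2 F350567 (iv4 F346740) (iv7 F251087) (iv4 F350565))).symm
theorem F350568 : act 2 n114182 = n76272 := (sb E100879 (iv2 D159449))
theorem F350569 : act 7 n114182 = n76273 := (sb E100879 (iv7 F251087))
theorem E100880 : n127118 = n103741 := ((c15_1 D103741 (iv0 D127118) (iv7 F350567) (iv2 D103742))).symm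
theorem F350570 : act 1 n103741 = n59667 := (sb E100880 (iv0 D127118))
theorem F350571 : act 3 n103741 = n103153 := (sb E100880 (iv3 F335527))
theorem F350572 : act 4 n103741 = n121356 := (sb E100880 F297683)
theorem F350573 : act 5 n103741 = n61273 := (sb E100880 F204369)
theorem F350574 : act 6 n103741 = n102266 := (sb E100880 (iv6 F314187))
theorem F350575 : act 7 n103741 = n78993 := (sb E100880 F297685)
theorem F350576 : act 5 n103743 = n157171 := d16_1 D103743 (iv4 D157171) (iv5 D74726) F53883 F26238 (iv4 F45827) D59667 (iv7 F350567) (iv2 D103742)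
theorem F350577 : act 0 n157171 = n114327 := d21_1 F350576 F178302 (iv6 D78948) D78945 D164375 F259025 (iv1 F259204) F163131 (iv6 F114330) (iv1 F234603)
theorem F350578 : act 6 n157171 = n114350 := d21_3 F178311 (iv1 F234603) F350576 (iv1 F205635) F205632 F178325 (iv1 D92631) D92633 (iv6 F339911) F339908
theorem E100881 : n159453 = n103743 := ((c16_8 F346740 (iv5 D59667) F45827 (iv5 F26238) (iv4 F53883) D74726 D157171 (iv5 F350576) (iv7 D159453) (iv2 F350568))).symm
theorem F350579 : act 2 n103743 = n76273 := (sb E100881 F251090)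
theorem F350580 : act 7 n103743 = n76272 := (sb E100881 (iv7 D159453))
theorem F350581 : act 7 n159451 = n157171 := d13_2 F350580 D159451 (iv5 F350576)
theorem F350582 : act 2 n157171 = n159456 := d16_9 (iv4 F350561) (iv5 D110930) F80685 (iv5 F45823) (iv4 F94053) (iv5 F350557) (iv4 F190337) D159451 F350581
theorem F350583 : act 2 n127814 = n114350 := d3_3 (iv6 F350578) F350582 (iv6 F251091)
theorem F350584 : act 7 n114351 = n127814 := d15_2 (iv0 D114350) D114351 F350583
theorem F350585 : act 7 n127815 = n114350 := d15_2 (iv0 D127814) D127815 (iv2 F350583)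
theorem F350586 : act 2 n114351 = n127815 := d4_3 F350585 (iv2 F350583) (iv7 F350584)
theorem F350587 : act 4 n114350 = n157166 := d10_1 F350578 F247338 D157171
theorem F350588 : act 4 n114337 = n107316 := d17_4 F350577 F178302 D164383 F259036 F165376 F80809 D111044 F172221 D157171
theorem F350589 : act 7 n107315 = n114337 := d11_0 F350588 (iv7 D107316) D107315
theorem F350590 : act 4 n108173 = n164383 := d16_2 (iv4 F79016) D108173 F259036 F350588 F165376 (iv4 F78477) (iv5 F82335) (iv7 D52090) F39940
theorem F350591 : act 4 n107264 = n127805 := d18_1 D107264 (iv1 F205604) F350588 F165376 (iv4 F78477) F78481 (iv4 F163694) (iv0 D49554) D49556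
theorem F350592 : act 4 n114338 = n157177 := d1_2 F350591 F205600 F247358
theorem F350593 : act 4 n114184 = n130587 := d9_3 (iv5 F165310) F350591 F205601 (iv5 D130587) (iv4 F163691) (iv5 F80687) (iv4 F164837) (iv5 F165311) F339921 F83357 (iv4 F114328) F331290 F165091 F80689 (iv4 F164833)
theorem F350594 : act 1 n137509 = n106283 := d18_8 F157812 F335534 D107264 F350591 F205601 F350593 F209158 D137509 F163339
theorem E100882 : n114336 = n111050 := (c18_7 (iv1 F171946) F112144 (iv1 F80688) (iv4 F164833) (iv5 F165310) F350591 F205605 (iv4 D111050) D111049 F172240)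
theorem F350595 : act 0 n111050 = n127805 := (sb E100882 (iv1 F205605))
theorem F350596 : act 1 n111050 = n52766 := (sb E100882 (iv0 D114336))
theorem F350597 : act 5 n111050 = n164384 := (sb E100882 F259038)
theorem F350598 : act 2 n159448 = n130587 := d16_9 (iv4 F350593) (iv5 F205601) (iv4 F350591) F165310 F164833 (iv5 F80689) (iv4 F165091) (iv5 F331290) D159448
theorem F350599 : act 6 n130587 = n164465 := d3_2 (iv6 F251086) F350598 F259119
theorem F350600 : act 7 n130587 = n95302 := d4_2 D159448 F350598 F146945
theorem F350601 : act 5 n112848 = n95302 := d16_7 F251085 (iv5 F178311) F350592 (iv5 D157177) (iv4 D74731) (iv5 F82330) D112848 (iv7 F350600) (iv2 F350598)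
theorem F350602 : act 0 n96223 = n133421 := d21_4 (iv5 D21614) D21611 (iv5 F70616) D96223 F214537 (iv5 D112905) (iv1 F175724) F350601 (iv6 D95302) F70037
theorem F350603 : act 7 n164496 = n130582 := d15_2 (iv0 F350602) (iv0 F259263) (iv2 F214536)
theorem F350604 : act 2 n164452 = n164496 := d4_3 F350603 (iv2 F214536) (iv7 F340440)
theorem E100883 : n164489 = n148913 := ((c11_2 F350603 F340445 (iv7 F259231) D164496)).symm
theorem F350605 : act 2 n148913 = n78998 := (sb E100883 (iv2 D164489))
theorem F350606 : act 7 n148913 = n78999 := (sb E100883 (iv7 F259231))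
theorem F350607 : act 5 n130583 = n164496 := d13_3 F350603 (iv5 D130582) D130583
theorem F350608 : act 0 n108171 = n133425 := d18_0 (iv4 D133425) (iv1 F176005) (iv4 F209155) F350607 (iv4 D164496) F177962 F259000 (iv0 F259102) F340438
theorem E100884 : n133424 = n107558 := (c20_10 (iv4 D131300) (iv1 D61619) D61620 D131304 F350222 F164504 (iv4 F167275) F350608 (iv4 D133425) D133424 (iv1 F340674))
theorem F350609 : act 3 n107558 = n62624 := (sb E100884 (iv3 D133424))
theorem F350610 : act 5 n133425 = n164448 := d21_2 F340438 F350608 (iv6 D164448) (iv1 D78977) F56625 F28369 D21666 (iv5 F56638) D78997 (iv1 F259106)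
theorem F350611 : act 6 n108173 = n164457 := d21_5 D78978 D164449 F259089 F339972 F204368 F340438 F350608 F350610 (iv6 D164448) (iv1 D78977)
theorem F350612 : act 6 n96550 = n112846 := d3_2 F350611 (iv2 F288179) F175714
theorem F350613 : act 6 n97259 = n152951 := d7_2 F350611 (iv3 F259105) F346942
theorem F350614 : act 4 n179268 = n97259 := d10_3 F350613 F346938 F347913
theorem F350615 : act 0 n95725 = n97259 := d21_4 (iv5 D21299) D21296 D44708 D95725 F350613 (iv5 D152951) (iv1 F335757) (iv5 D89450) F310448 (iv1 D44717)
theorem F350616 : act 1 n95725 = n96555 := d15_1 (iv0 F350615) F288190 D97259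
theorem E100885 : n97239 = n96246 := (c20_10 (iv4 F308128) (iv1 F335136) (iv4 D96556) D96555 (iv1 F350616) F147421 F107033 D70567 D150006 F336921 (iv1 F148035))
theorem F350617 : act 2 n96246 = n81704 := (sb E100885 F336827)
theorem F350618 : act 3 n96246 = n150006 := (sb E100885 (iv3 F336921))
theorem F350619 : act 4 n96246 = n45434 := (sb E100885 (iv4 D97239))
theorem F350620 : act 7 n96246 = n81709 := (sb E100885 F336828)
theorem F350621 : act 6 n127685 = n96246 := d10_0 F350619 (iv6 F330073) D127685
theorem F350622 : act 2 n170411 = n127685 := d3_3 F350621 F350617 D170411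
theorem F350623 : act 5 n127685 = n184217 := d21_6 (iv5 D10334) (iv1 F16421) (iv5 F33706) D44936 D96246 (iv6 F350621) (iv1 D184217) (iv5 D87862) (iv6 D40979) F30954
theorem F350624 : act 7 n97259 = n179266 := d11_2 D179268 F350614 (iv4 D179266)
theorem F350625 : act 2 n179266 = n96555 := d4_1 F350624 F288190 D97259
theorem F350626 : act 3 n179266 = n97282 := d8_1 F350624 (iv7 F259104) (iv3 F259105)
theorem F350627 : act 1 n97258 = n179266 := d15_1 D97258 (iv7 F350624) (iv2 D97259)
theorem F350628 : act 4 n175978 = n179255 := d5_4 D179266 F350626 (iv4 F288174) (iv3 F326298) F279178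
theorem F350629 : act 0 n97257 = n179266 := d20_4 F336923 (iv1 F120363) (iv4 F347583) F347582 F350626 (iv4 F288174) (iv1 D114038) (iv4 F147996) F147995 D159520
theorem E100886 : n97258 = n97092 := ((c15_4 F350627 (iv0 F350629) (iv7 F346752) (iv2 F149796))).symm
theorem F350630 : act 0 n97092 = n45439 := (sb E100886 (iv1 D97258))
theorem F350631 : act 1 n97092 = n179266 := (sb E100886 F350627)
theorem F350632 : act 6 n179255 = n182293 := d10_2 (iv6 F326300) F350628 F283814
theorem F350633 : act 0 n179255 = n114454 := d20_1 F350628 F178508 (iv3 F178506) F259270 (iv3 D164510) (iv4 F283772) (iv1 F325425) F166374 F321111 D175978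
theorem E100887 : n179265 = n155004 := ((c20_4 (iv4 D34694) (iv1 F53143) D73565 D155004 (iv1 D179265) (iv3 F279178) (iv4 F350628) F326296 (iv4 F239652) F326619 (iv1 D75905))).symm
theorem F350634 : act 0 n155004 = n85544 := (sb E100887 (iv1 D179265))
theorem F350635 : act 1 n155004 = n85549 := (sb E100887 F279187)
theorem F350636 : act 4 n97266 = n179278 := d20_2 F230379 F150021 F279193 (iv1 F350635) (iv3 D155004) (iv4 D73565) F53142 D34701 D75930 (iv1 F339817)
theorem F350637 : act 6 n174505 = n179286 := d21_3 (iv5 D83404) D83401 D174505 (iv1 D179286) (iv6 D85550) D85549 (iv1 F350635) F243736 (iv6 F344767) (iv1 D174509)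
theorem F350638 : act 3 n179286 = n178524 := d7_1 F350637 (iv6 D178524) (iv3 F273384)
theorem F350639 : act 0 n112769 = n174511 := d21_4 (iv5 F347916) F346932 (iv5 F323134) (iv6 F175571) (iv6 D174511) (iv5 D83404) D83401 D174505 F350637 (iv1 D179286)
theorem F350640 : act 1 n112714 = n174511 := d15_0 (iv0 F350639) (iv7 D112769) (iv2 F175432)
theorem F350641 : act 0 n110407 = n161725 := d21_10 (iv5 D161725) F252830 D83404 D174511 (iv1 F350640) (iv6 D112714) (iv5 D52025) F39817 D50912 D110407
theorem E100888 : n174470 = n110426 := (c21_9 (iv5 D52025) F39817 D50912 D110407 F350641 F302958 F300211 F155518 D174470 (iv6 D110426) (iv1 F82205))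
theorem F350642 : act 0 n110426 = n161882 := (sb E100888 (iv1 F347179))
theorem F350643 : act 1 n110426 = n117089 := (sb E100888 F333724)
theorem F350644 : act 3 n110426 = n83390 := (sb E100888 F273350)
theorem F350645 : act 5 n110426 = n83388 := (sb E100888 (iv5 D174470))
theorem F350646 : act 1 n110407 = n174505 := d15_1 (iv0 F350641) F273385 (iv2 F255730)
theorem E100889 : n173304 = n112744 := (c15_3 F350646 F337056 (iv7 F271711) F175525)
theorem F350647 : act 0 n112744 = n84936 := (sb E100889 F271712)
theorem F350648 : act 3 n112744 = n82939 := (sb E100889 (iv3 D173304))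
theorem F350649 : act 5 n112744 = n98261 := (sb E100889 F271710)
theorem F350650 : act 7 n112744 = n83419 := (sb E100889 F271711)
theorem F350651 : act 7 n174556 = n115304 := d11_2 F350650 D174556 F179572
theorem F350652 : act 2 n139648 = n174556 := d4_3 F350651 F179571 D139648
theorem F350653 : act 7 n115566 = n120069 := d14_4 F350651 (iv6 D115304) (iv7 F84160) D115566 F347862
theorem F350654 : act 1 n139646 = n174556 := d15_1 D139646 F350651 F179571
theorem F350655 : act 4 n155875 = n139648 := d1_0 F350652 (iv4 D174556) (iv2 F347887)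
theorem F350656 : act 1 n174556 = n139645 := d15_0 (iv0 D139645) D139648 F350652
theorem F350657 : act 6 n139648 = n155873 := d10_2 D155875 F350655 (iv4 D155873)
theorem F350658 : act 2 n155873 = n120069 := d3_1 F350657 F347862 (iv2 F350652)
theorem F350659 : act 7 n155873 = n115316 := d14_2 D139648 F350657 (iv6 D115316) F84044 D65540
theorem E100890 : n156202 = n120069 := ((c15_4 (iv0 D156202) (iv0 F347956) (iv7 F350659) F350658)).symm
theorem F350660 : act 1 n120069 = n74304 := (sb E100890 (iv0 D156202))
theorem F350661 : act 0 n152780 = n137037 := d20_4 (iv4 D120069) (iv1 F110852) D155864 (iv3 F244847) (iv3 D137037) F175909 (iv1 D112961) F82419 (iv3 F111509) (iv1 F350660)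
theorem F350662 : act 0 n155721 = n112744 := d20_4 F53327 D33992 D74076 D155721 F350648 (iv4 F128660) (iv1 D83587) (iv4 D38543) (iv3 F59359) F320134
theorem F350663 : act 5 n128058 = n155721 := d21_0 F350662 F350649 (iv6 D98261) D98258 F298808 (iv5 F198191) (iv1 D123709) F90858 D60179 D128058
theorem F350664 : act 1 n155721 = n155875 := d15_1 (iv0 F350662) F347902 (iv2 F175525)
theorem F350665 : act 7 n155721 = n161725 := d15_2 (iv0 F350647) (iv0 F350662) F255730
theorem F350666 : act 2 n174505 = n155721 := d4_3 F350665 F255730 (iv7 F273385)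
theorem F350667 : act 6 n155721 = n162792 := d12_2 (iv6 F300866) F350663 (iv5 D162792) F119452 F315912
theorem F350668 : act 2 n162792 = n179286 := d3_1 F350667 (iv6 F350637) F350666
theorem F350669 : act 6 n163078 = n161401 := d14_3 (iv7 F350665) F350667 (iv7 F257408) F255239 (iv6 F302958)
theorem F350670 : act 5 n161401 = n121991 := d12_1 F350669 (iv6 F312404) F322688 (iv6 F193005) (iv5 F257407)
theorem F350671 : act 5 n179286 = n162791 := d2_2 D162792 F350668 (iv2 D162791)
theorem F350672 : act 3 n162791 = n112737 := d6_1 F350671 F342296 (iv3 F350638)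
theorem F350673 : act 5 n160926 = n119373 := d12_3 F350637 F350671 F257073 F188038 D174505
theorem F350674 : act 0 n166150 = n166510 := d21_1 D166150 (iv5 D166510) D166511 F342280 (iv6 F257073) (iv5 F350671) (iv1 D179286) (iv5 F347916) (iv6 F346946) (iv1 D166148)
theorem E100891 : n166510 = n166481 := (c21_5 D95834 (iv1 F300986) (iv5 F303699) (iv6 F347917) F350674 F346919 F312862 (iv1 D55287) D55289 (iv6 F342217) (iv1 D95833))
theorem F350675 : act 1 n166481 = n166150 := (sb E100891 (iv0 F350674))
theorem E100892 : n79924 = n79918 := (((F262036).symm.trans (sb E100891 (iv5 D166510)))).symm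
theorem E100893 : n166459 = n36404 := (((iv1 F262016)).symm.trans (sb E100892 (iv1 D79924)))
theorem E100894 : n166458 = n36406 := ((F262015).symm.trans (sb E100892 F122664))
theorem E100896 : n166508 = n166470 := ((((iv3 F262027)).symm.trans (sb E100892 D166508))).symm
theorem E100898 : n166511 = n166486 := (((D166486).symm.trans (sb E100892 D166511))).symm
theorem E100900 : n79923 = n79913 := ((D79923).symm.trans (sb E100893 (iv1 D166459)))
theorem F350676 : act 1 n36404 = n79918 := (sb E100893 F262016)
theorem F350677 : act 0 n36406 = n79918 := (sb E100894 (iv1 F262015))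
theorem F350678 : act 4 n166470 = n84799 := (sb E100896 F262045)
theorem F350679 : act 0 n166486 = n160926 := (sb E100898 F342280)
theorem F350680 : act 1 n166486 = n80491 := (sb E100898 F342281)
theorem F350681 : act 3 n166486 = n82901 := (sb E100898 F342282)
theorem F350682 : act 5 n166486 = n120146 := (sb E100898 F342283)
theorem F350683 : act 7 n166486 = n83244 := (sb E100898 F342284)
theorem F350684 : act 0 n79913 = n36406 := (sb E100900 (iv1 F122663))
theorem F350685 : act 1 n79913 = n36404 := (sb E100900 (iv0 D79923))
theorem E100904 : n166463 = n110587 := ((D166463).symm.trans (sb E100900 (iv6 F330806)))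
theorem F350686 : act 2 n110587 = n79917 := (sb E100904 F262022)
theorem F350687 : act 6 n110587 = n79913 := (sb E100904 (iv6 D166463))
theorem F350688 : act 7 n110587 = n112540 := (sb E100904 (iv7 F330733))
theorem F350689 : act 1 n166150 = n157705 := d15_1 F350675 F346923 (iv2 F262035)
theorem F350690 : act 0 n158427 = n127990 := d17_0 (iv5 D127990) (iv1 F300972) D119239 F327102 (iv5 F262036) F350675 (iv5 D166150) D166148 (iv4 F323856)
theorem F350691 : act 2 n152923 = n127990 := d15_3 (iv0 F350690) (iv0 F249621) (iv7 F240157)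
theorem F350692 : act 1 n158444 = n127990 := d15_0 (iv0 F350690) F249620 (iv2 F249646)
theorem F350693 : act 7 n127990 = n120196 := d15_2 D158444 F350692 F189854
theorem F350694 : act 1 n119236 = n166147 := d18_6 (iv1 F300972) (iv4 D54877) (iv1 D26545) (iv4 F42498) D54868 D119236 F346952 F350692 (iv5 D127990)
theorem F350695 : act 2 n121678 = n119236 := d15_3 F350694 (iv0 D166147) (iv7 F194182)
theorem F350696 : act 3 n119236 = n166144 := d0_2 D121678 F350695 (iv2 D166144) (iv3 D79777) (iv2 F88896)
theorem F350697 : act 7 n119236 = n166149 := d4_2 (iv7 F194182) F350695 (iv2 D166149)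
theorem F350698 : act 4 n119247 = n166150 := d16_6 (iv4 D119236) (iv5 D54868) F42498 D26546 D54882 D119247 (iv5 D166150) (iv7 F194182) F350695
theorem E100905 : n119247 = n95586 := ((c5_6 F350698 F261632 F317446 F242962 (iv4 F312494) (iv3 F147252))).symm
theorem F350699 : act 4 n95586 = n166150 := (sb E100905 F350698)
theorem F350700 : act 5 n95586 = n54882 := (sb E100905 (iv5 D119247))
theorem E100906 : n166485 = n110588 := (c15_4 F325154 (iv0 F325155) F350688 (iv2 F330734))
theorem F350701 : act 2 n110588 = n112540 := (sb E100906 F330734)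
theorem F350702 : act 7 n110588 = n79917 := (sb E100906 (iv7 D166485))
theorem E100907 : n174143 = n166469 := ((c8_2 F350702 (iv3 F262026) (iv7 D174143) (iv3 F348462))).symm
theorem F350703 : act 5 n166469 = n160656 := (sb E100907 (iv5 F298820))
theorem F350704 : act 7 n166469 = n83246 := (sb E100907 (iv7 D174143))
theorem F350705 : act 7 n166484 = n160648 := d13_2 F350702 D166484 F348465
theorem F350706 : act 3 n160656 = n166484 := d8_3 F350705 F253756 D160656
theorem F350707 : act 4 n147651 = n160730 := d20_0 (iv1 F253895) (iv4 F253764) F350706 (iv1 F324023) (iv3 D112119) (iv4 D51705) (iv1 F79910) (iv4 F80459) (iv3 F324773) (iv1 F325854)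
theorem E100908 : n180555 = n160731 := ((c20_8 D69189 (iv1 F312515) (iv4 F314979) (iv3 F281115) (iv1 F281117) (iv3 F350706) F253764 (iv1 F253889) (iv4 D180555) F132173 F314976)).symm
theorem F350708 : act 4 n160731 = n86226 := (sb E100908 (iv4 D180555))
theorem F350709 : act 6 n160731 = n124664 := (sb E100908 F281003)
theorem E100909 : n160731 = n147458 := ((c5_6 F350708 F132173 (iv4 F313265) (iv3 F243346) (iv4 D147459) D147458)).symm
theorem F350710 : act 0 n147458 = n77119 := (sb E100909 (iv1 D160731))
theorem F350711 : act 1 n147458 = n80427 := (sb E100909 F253889)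
theorem F350712 : act 4 n147458 = n86226 := (sb E100909 F350708)
theorem F350713 : act 6 n147458 = n124664 := (sb E100909 F350709)
theorem F350714 : act 3 n124664 = n147461 := d7_1 F350713 (iv6 D147461) D147458
theorem F350715 : act 0 n124246 = n160746 := d18_2 (iv1 F175130) F320724 (iv4 D160746) (iv5 D77122) (iv4 F115842) (iv0 F350710) F350712 (iv0 F319462) F175131
theorem F350716 : act 3 n150243 = n116670 := d20_5 (iv4 F350712) F350710 F115842 (iv3 F107188) D150243 F182039 F181674 (iv4 D69198) D69197 F319462
theorem F350717 : act 4 n150243 = n153975 := d20_0 (iv1 F316671) (iv4 D147595) F314977 F313886 (iv3 F132173) (iv4 F350712) F350710 F115842 (iv3 F107188) D150243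
theorem F350718 : act 2 n147548 = n150243 := d1_3 F350717 (iv2 F347999) (iv4 F231386)
theorem F350719 : act 7 n148203 = n150243 := d11_0 F350717 (iv7 F348000) (iv4 F232031)
theorem F350720 : act 0 n140053 = n154210 := d20_4 F184470 (iv1 F321939) F318915 D140053 F242322 F109588 D150243 F350717 F348001 (iv1 F321943)
theorem E100910 : n157579 = n146759 := ((c20_11 (iv4 D157579) (iv1 F240831) F240828 F233860 (iv1 F350711) (iv3 D147458) D147459 (iv1 F243366) F231392 (iv3 F314966) F312500)).symm
theorem F350721 : act 4 n146759 = n75015 := (sb E100910 (iv4 D157579))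
theorem F350722 : act 5 n157574 = n147324 := d18_9 (iv1 F231001) F105425 (iv1 F105308) D147334 F348852 F350721 (iv0 D75015) (iv4 F112549) D157574
theorem E100911 : n157578 = n102040 := ((c20_5 F184021 F177058 (iv4 D54176) D54175 (iv1 F319200) (iv3 D157578) (iv4 F350721) (iv1 D146759) (iv4 F184025) (iv3 D117490) D117489)).symm
theorem F350723 : act 3 n102040 = n75015 := (sb E100911 (iv3 D157578))
theorem E100912 : n157580 = n102038 := (c6_3 D102040 F350723 D157580 (iv3 D102038))
theorem F350724 : act 5 n102038 = n75015 := (sb E100912 (iv5 D157580))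
theorem F350725 : act 3 n157581 = n186553 := d7_3 F289484 F350723 D157581
theorem F350726 : act 4 n157574 = n117558 := d20_2 F240828 (iv1 F248335) (iv3 F204403) (iv1 D67169) D67170 (iv4 F321615) F321612 (iv4 F319201) F350723 (iv1 F240831)
theorem F350727 : act 3 n116744 = n157574 := d5_5 F350726 (iv3 F204403) (iv4 F320902) (iv3 F322665) F223900
theorem E100913 : n147602 = n147504 := (c18_9 F242683 (iv4 F105461) D147605 (iv4 F243358) (iv5 F350722) F350726 F314958 F231388 D147602 (iv5 D147504))
theorem F350728 : act 0 n147504 = n69178 := (sb E100913 (iv1 D147602))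
theorem F350729 : act 1 n147504 = n75132 := (sb E100913 F319425)
theorem F350730 : act 4 n147504 = n151627 := (sb E100913 F343312)
theorem E100914 : n160298 = n122640 := (c20_1 D160298 (iv1 F197548) (iv4 F323601) (iv3 D67189) (iv1 F103130) F204403 (iv4 F350726) (iv1 D157574) F112549 (iv3 F55818) D76828)
theorem F350731 : act 4 n122640 = n76828 := (sb E100914 (iv4 D160298))
theorem E100915 : n135196 = n56967 := (c18_10 D122640 F350731 (iv1 F191910) F191906 (iv5 F191914) F349750 (iv0 D135184) F98834 D63525 D135196)
theorem E100916 : n160303 = n122641 := (((D122641).symm.trans (sb E100915 (iv0 F342820)))).symm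
theorem E100917 : n85869 = n63525 := (((iv5 F301814)).symm.trans (sb E100915 (iv5 D135196)))
theorem F350732 : act 4 n122641 = n76829 := (sb E100916 (iv4 D160303))
theorem E100920 : n135193 = n123252 := (((iv2 F217371)).symm.trans (sb E100917 (iv2 F303353)))
theorem E100921 : n179777 = n135194 := (((D135194).symm.trans (sb E100917 (iv3 F280005)))).symm
theorem E100922 : n179780 = n135195 := (((D135195).symm.trans (sb E100917 (iv4 F280010)))).symm
theorem F350733 : act 5 n63525 = n56967 := (sb E100917 F301814)
theorem E100923 : n135197 = n39716 := ((D135197).symm.trans (sb E100917 (iv6 D85869)))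
theorem E100924 : n135188 = n134812 := ((F217370).symm.trans (sb E100917 (iv7 F341412)))
theorem F350734 : act 2 n123252 = n63525 := (sb E100920 F217371)
theorem F350735 : act 7 n123252 = n63524 := (sb E100920 (iv7 D135193))
theorem F350736 : act 5 n135194 = n122636 := (sb E100921 (iv5 F301802))
theorem F350737 : act 6 n135194 = n85867 := (sb E100921 (iv6 D179777))
theorem F350738 : act 6 n135195 = n85868 := (sb E100922 (iv6 D179780))
theorem F350739 : act 6 n39716 = n63525 := (sb E100923 (iv6 D135197))
theorem F350740 : act 2 n134812 = n63524 := (sb E100924 (iv2 D135188))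
theorem F350741 : act 7 n134812 = n63525 := (sb E100924 (iv7 F217370))
theorem E100925 : n154212 = n147590 := (c20_11 (iv4 D147590) (iv1 F311874) F206189 (iv3 F196824) (iv1 F348005) F348017 F350731 (iv1 F191910) F191906 (iv3 F191884) (iv1 F242323))
theorem F350742 : act 0 n147590 = n73059 := (sb E100925 (iv1 D154212))
theorem F350743 : act 1 n147590 = n120438 := (sb E100925 F242323)
theorem E100926 : n120307 = n117692 := ((c20_10 F87628 D76828 (iv4 F350731) (iv3 F348017) (iv1 D117544) F347736 (iv4 F162432) (iv1 F162434) F104077 D117692 (iv1 D120307))).symm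
theorem F350744 : act 0 n117692 = n55365 := (sb E100926 (iv1 D120307))
theorem F350745 : act 1 n117692 = n55458 := (sb E100926 F191564)
theorem F350746 : act 0 n117609 = n160297 := d20_4 (iv4 F320902) (iv1 D70197) (iv4 F320235) D117609 (iv3 D160297) (iv4 F350731) (iv1 F197548) (iv4 F323601) (iv3 D67189) (iv1 F103130)
theorem F350747 : act 2 n117699 = n160297 := d15_3 (iv0 F350746) F321906 F264370
theorem F350748 : act 1 n117688 = n160297 := d15_0 (iv0 F350746) F321910 (iv2 F184297)
theorem F350749 : act 7 n160297 = n117698 := d15_2 (iv0 F228000) F350748 (iv2 F264371)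
theorem F350750 : act 3 n117698 = n160301 := d8_1 F350749 (iv7 D160301) D160297
theorem E100927 : n160302 = n137384 := (c0_3 F350750 F253207 D160302 F349947 (iv3 F349948) F264371)
theorem F350751 : act 3 n137384 = n76829 := (sb E100927 (iv3 D160302))
theorem F350752 : act 4 n160301 = n123251 := d20_6 (iv4 F320912) (iv1 D116045) F320907 (iv3 F320918) D117698 F350750 (iv1 D123251) F90561 F321926 (iv1 F184467)
theorem F350753 : act 3 n137923 = n122651 := d20_9 F197535 (iv1 F197540) (iv4 F350752) (iv3 F350750) F337293 (iv3 F321913) F321914 (iv1 F343295) F343297 (iv1 F197539)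
theorem F350754 : act 2 n122651 = n117533 := d0_1 F350753 (iv3 D117533) (iv2 F104082) F347770 (iv2 F347768)
theorem F350755 : act 7 n122651 = n151604 := d8_2 (iv7 F347769) F350753 (iv3 D151604)
theorem F350756 : act 4 n120306 = n122651 := d20_2 (iv4 F87628) D120306 (iv3 F350753) F343288 (iv3 F178116) F178117 (iv1 F178060) (iv4 F347720) F350751 (iv1 D76829)
theorem E100928 : n157583 = n143456 := ((c20_3 F107999 (iv1 F107883) (iv4 F330357) (iv3 D157583) (iv1 D75016) (iv3 F55818) (iv4 F87628) D120306 F350756 (iv3 F350753) F343288)).symm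
theorem F350757 : act 3 n143456 = n75016 := (sb E100928 (iv3 D157583))
theorem F350758 : act 3 n157584 = n114199 := d5_3 (iv4 F330357) F350757 D157584 (iv4 F238180) (iv3 D151440)
theorem F350759 : act 3 n157585 = n142997 := d6_3 (iv5 F335447) F350757 D157585
theorem E100929 : n157577 = n151627 := (c8_3 (iv7 F335448) F350757 F248343 (iv3 D151627))
theorem F350760 : act 2 n151627 = n75015 := (sb E100929 (iv2 D157577))
theorem F350761 : act 7 n151627 = n75016 := (sb E100929 (iv7 F248343))
theorem F350762 : act 5 n117712 = n157584 := d19_1 (iv1 F243370) (iv4 D157584) (iv3 F350757) (iv1 D143456) D143459 F341574 (iv3 F231838) (iv1 F321488) (iv5 D105754) (iv4 D48894) F51451 (iv1 D32401) (iv5 D15295) (iv4 F12056) F12055 D7757 D16678 D34404 (iv3 F314302)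
theorem E100930 : n157584 = n146758 := ((c20_8 (iv4 F321916) (iv1 F323600) (iv4 F347767) (iv3 F347770) F104084 D117490 F184025 D146758 (iv4 D157584) (iv3 F350757) (iv1 D143456))).symm
theorem F350763 : act 3 n146758 = n114199 := (sb E100930 F350758)
theorem F350764 : act 4 n146758 = n75016 := (sb E100930 (iv4 D157584))
theorem F350765 : act 5 n146758 = n117712 := (sb E100930 (iv5 F350762))
theorem F350766 : act 2 n147487 = n146758 := d2_3 F350765 F242926 D147487
theorem F350767 : act 7 n147504 = n146758 := d13_0 F350765 F242927 D147504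
theorem F350768 : act 5 n104248 = n153307 := d17_7 D146758 F350765 F243369 (iv5 F231401) F316680 F329159 (iv0 F329313) (iv0 F314962) F184025
theorem E100931 : n154600 = n68804 := (c17_10 (iv1 D68804) D68806 D146758 F350765 (iv4 D117712) D117713 (iv0 F318457) F228592 F318121 (iv4 F242680))
theorem E100932 : n146754 = n73283 := ((D146754).symm.trans (sb E100931 F242680))
theorem E100933 : n147624 = n146755 := (((D146755).symm.trans (sb E100931 (iv5 F242681)))).symm
theorem E100934 : n146756 = n73282 := ((D146756).symm.trans (sb E100931 (iv6 D154600)))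
theorem F350769 : act 4 n73283 = n68804 := (sb E100932 (iv4 D146754))
theorem F350770 : act 0 n146755 = n69745 := (sb E100933 F321140)
theorem F350771 : act 1 n146755 = n69184 := (sb E100933 (iv0 D147624))
theorem F350772 : act 6 n73282 = n68804 := (sb E100934 (iv6 D146756))
theorem F350773 : act 5 n147325 = n157573 := d18_9 (iv1 F248340) (iv4 F240828) (iv1 F240830) (iv4 F350764) F350765 (iv4 D117712) (iv0 F242920) (iv4 F105307) D147325
theorem F350774 : act 4 n147465 = n153306 := d18_5 F243369 (iv4 F231392) (iv1 F243365) (iv4 D147464) D147465 (iv0 D153306) (iv4 F206183) F312501 F350765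
theorem E100935 : n147465 = n143598 := ((c20_6 (iv4 D31803) (iv1 D14967) D14968 (iv3 F49567) D67249 D143598 F350774 (iv1 F314963) F184025 F105000 F50373)).symm
theorem F350775 : act 4 n143598 = n153306 := (sb E100935 F350774)
theorem F350776 : act 5 n143598 = n69123 := (sb E100935 (iv5 D147465))
theorem F350777 : act 2 n157573 = n143598 := d2_3 F350776 (iv2 F243350) F350773
theorem E100936 : n147463 = n142530 := (c6_2 F350776 D147463 F225422 D143598)
theorem F350778 : act 3 n142530 = n69123 := (sb E100936 (iv3 D147463))
theorem F350779 : act 7 n157574 = n143598 := d13_0 F350776 (iv7 F243359) (iv5 F350722)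
theorem E100937 : n148840 = n143598 := (c21_11 F350776 (iv1 D69123) D69124 (iv6 F321396) (iv1 F309399) (iv6 D60272) F46206 (iv1 F25744) D32387 D69764 D148840)
theorem F350780 : act 0 n143598 = n157576 := (sb E100937 (iv1 F248342))
theorem F350781 : act 1 n143598 = n69764 := (sb E100937 (iv0 D148840))
theorem F350782 : act 4 n153283 = n147487 := d18_3 F350780 F248339 (iv1 F240824) (iv5 D147487) (iv4 D69128) (iv0 D32158) (iv4 F51124) D69123 (iv5 F350776)
theorem E100938 : n157582 = n153283 := (c1_4 F350782 F350766 F350764 (iv2 F248345))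
theorem F350783 : act 2 n153283 = n75016 := (sb E100938 F248345)
theorem F350784 : act 7 n153283 = n75015 := (sb E100938 (iv7 D157582))
theorem F350785 : act 7 n147487 = n146759 := d11_2 (iv7 F350784) F350782 F350721
theorem F350786 : act 2 n146759 = n147504 := d4_1 F350785 F350767 (iv2 F350766)
theorem E100939 : n147601 = n147487 := (c15_2 F350729 (iv0 F319424) F350785 F350786)
theorem F350787 : act 0 n147487 = n75132 := (sb E100939 F319424)
theorem F350788 : act 1 n147487 = n69178 := (sb E100939 (iv0 D147601))
theorem F350789 : act 4 n144554 = n116434 := d17_9 F228622 (iv5 D145576) (iv1 F322226) (iv5 D69129) D69128 D147487 F350788 (iv5 F319427) F227417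
theorem E100940 : n137716 = n117558 := ((c17_1 (iv1 F314958) (iv5 D137716) (iv1 D64731) (iv5 F328818) (iv4 F106138) F106139 (iv0 F314300) D147487 F350788 (iv4 F231388))).symm
theorem F350790 : act 5 n117558 = n64731 := (sb E100940 (iv5 D137716))
theorem E100941 : n167573 = n147325 := (c20_6 (iv4 F350782) (iv1 D153283) F108921 F106178 D80424 D167573 F243297 F243344 F105461 (iv3 F105460) (iv1 F350788))
theorem F350791 : act 3 n147325 = n80424 := (sb E100941 (iv3 D167573))
theorem E100942 : n147765 = n147488 := ((c21_10 F334575 (iv1 F304585) F342755 D146713 F337731 F230073 F319427 (iv1 F350788) (iv5 D147487) D147488 (iv1 D147765))).symm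
theorem F350792 : act 0 n147488 = n69231 := (sb E100942 (iv1 D147765))
theorem F350793 : act 1 n130578 = n147208 := d18_6 (iv1 F231172) (iv4 F231270) F350792 (iv4 F310998) (iv5 F199193) F346790 (iv4 D147208) (iv0 F243012) F243016
theorem F350794 : act 6 n119877 = n144554 := d21_9 F319427 (iv1 F350788) (iv5 D147487) D147488 F350792 (iv6 D69231) D69230 (iv1 F231490) (iv5 F231491) (iv1 F227417)
theorem F350795 : act 5 n117299 = n144554 := d21_8 (iv5 F337905) (iv1 D147397) (iv5 D69097) (iv6 D32146) D32142 D69083 (iv5 F316681) D117299 (iv6 F350794) F337909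
theorem F350796 : act 2 n146755 = n117299 := d2_3 F350795 F230097 D146755
theorem F350797 : act 3 n144555 = n117299 := d6_3 F350795 (iv3 D144554) D144555
theorem F350798 : act 6 n178958 = n117299 := d12_0 F350795 (iv6 F350794) F231491 (iv6 F334601) F336290
theorem F350799 : act 7 n146751 = n117299 := d13_0 F350795 F227415 D146751
theorem E100943 : n147591 = n104896 := (c21_6 F350795 (iv1 F227417) F319427 (iv6 D69178) D69173 D147591 F324803 (iv1 D84837) D84840 (iv6 F321422) D117299)
theorem F350800 : act 3 n104896 = n113376 := (sb E100943 F231383)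
theorem F350801 : act 6 n104896 = n69173 := (sb E100943 (iv6 D147591))
theorem F350802 : act 5 n112341 = n178955 := d21_2 F105457 F174760 F278837 D178958 F350798 F350795 (iv1 F227417) F319427 (iv6 D69178) D69173
theorem F350803 : act 2 n178955 = n144815 := d2_1 F350802 F227723 (iv2 F202959)
theorem F350804 : act 7 n178955 = n163930 := d13_2 (iv7 F319451) F350802 (iv5 D163930)
theorem E100944 : n125027 = n107601 := ((c21_1 (iv5 F336290) (iv1 F200843) (iv5 F345969) F345970 F345959 F350801 F105457 F174760 F350802 F278837 D178958)).symm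
theorem F350805 : act 0 n107601 = n85509 := (sb E100944 (iv1 F200843))
theorem F350806 : act 1 n107601 = n58455 := (sb E100944 (iv0 D125027))
theorem F350807 : act 4 n111151 = n125088 := d20_2 F166013 D111151 (iv3 D125088) (iv1 D58475) (iv3 D27823) (iv4 D13275) D13273 D27814 D58455 (iv1 F350806)
theorem F350808 : act 0 n126793 = n132652 := d21_1 D126793 (iv5 F322390) (iv6 D125030) (iv1 F350806) F334601 (iv5 F231491) F337909 (iv5 F337905) F337907 (iv1 F203692)
theorem F350809 : act 5 n125088 = n154274 := d18_4 (iv1 F350806) F166013 D111151 F350807 (iv4 D154274) (iv0 D73088) (iv4 F94775) (iv0 F336309) F192181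
theorem F350810 : act 3 n154274 = n125090 := d6_1 F350809 (iv5 D125090) D125088
theorem F350811 : act 4 n125090 = n134038 := d5_2 D154274 F350810 F216025 F98244 F335399
theorem F350812 : act 7 n125090 = n134279 := d8_2 F336378 F350810 (iv3 F336377)
theorem F350813 : act 0 n125090 = n178907 := d20_4 F94775 D73088 D154274 F350810 F278782 F130591 F60519 D55545 D120606 F336309
theorem F350814 : act 1 n134173 = n134038 := d17_8 F350813 (iv5 D178907) (iv1 F348497) (iv5 D159053) D159052 (iv5 F348519) F215987 D134173 (iv4 F350811)
theorem E100945 : n125975 = n125091 := (c21_5 (iv5 D119337) (iv1 F86874) (iv5 F130201) D178524 (iv1 F342298) (iv6 D125091) D125090 F350813 (iv5 D178907) D178908 F348495)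
theorem F350815 : act 0 n125091 = n145703 := (sb E100945 (iv1 F228794))
theorem F350816 : act 1 n125091 = n178524 := (sb E100945 F342298)
theorem F350817 : act 2 n125091 = n78426 := (sb E100945 F327221)
theorem F350818 : act 5 n125091 = n58983 := (sb E100945 (iv5 D125975))
theorem F350819 : act 7 n125091 = n78431 := (sb E100945 F327222)
theorem F350820 : act 6 n121742 = n125090 := d12_4 D125091 F350818 D125976 F325665 (iv5 D125090)
theorem F350821 : act 6 n155869 = n110400 := d21_9 (iv5 D78435) F325125 (iv5 F350818) (iv6 D125091) (iv1 D58475) F44929 D34009 D74135 D155869 F325666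
theorem F350822 : act 2 n120075 = n155869 := d3_3 F350821 F327226 (iv6 F347901)
theorem F350823 : act 7 n120070 = n155869 := d14_0 F350821 F327227 D163178 F342306 (iv6 F347863)
theorem E100946 : n155862 = n110352 := ((c21_8 D34009 D74135 D155869 F350821 F325666 (iv6 F325677) (iv5 D110355) D110352 (iv5 D155862) (iv6 D74133) (iv1 D34007))).symm
theorem F350824 : act 5 n110352 = n74133 := (sb E100946 (iv5 D155862))
theorem E100947 : n163843 = n155848 := ((c2_2 F350824 (iv2 F244838) (iv5 D163843) (iv2 F342288))).symm
theorem F350825 : act 5 n155848 = n78711 := (sb E100947 (iv5 D163843))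
theorem F350826 : act 7 n155848 = n178520 := (sb E100947 F342293)
theorem E100948 : n163848 = n155863 := ((c13_3 (iv7 F342289) F350824 D155863 (iv5 D163848))).symm
theorem F350827 : act 0 n155863 = n126978 := (sb E100948 F330804)
theorem F350828 : act 1 n155863 = n113167 := (sb E100948 (iv0 F344891))
theorem F350829 : act 2 n155863 = n178520 := (sb E100948 F342292)
theorem F350830 : act 5 n155863 = n78712 := (sb E100948 (iv5 D163848))
theorem F350831 : act 6 n155863 = n119343 := (sb E100948 F330811)
theorem F350832 : act 5 n155860 = n110017 := d21_2 F350824 D155860 F321904 F330761 (iv6 D55920) F254376 (iv1 F254374) D35837 F325679 D110352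
theorem F350833 : act 2 n113167 = n155860 := d2_3 F350832 F170145 D113167
theorem E100949 : n155860 = n155768 := ((c6_4 F350832 (iv3 D110017) (iv5 F324186) D155768)).symm
theorem F350834 : act 1 n155768 = n74133 := (sb E100949 (iv0 D155860))
theorem F350835 : act 2 n155768 = n113167 := (sb E100949 (iv2 F350833))
theorem F350836 : act 5 n155768 = n110017 := (sb E100949 F350832)
theorem F350837 : act 7 n126978 = n155768 := d13_0 F350836 (iv7 F323162) (iv5 F320642)
theorem E100950 : n141300 = n87132 := (c19_16 (iv1 F350834) F350836 F321903 F132223 (iv1 F60747) D78727 F318591 (iv3 D66448) (iv1 D31017) (iv5 D14672) F11269 (iv3 F11262) D14656 D30964 D66281 D141300 (iv1 D87132) (iv5 F294771) (iv4 F143975) F329973)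
theorem E100951 : n182523 = n66281 := ((D182523).symm.trans (sb E100950 (iv3 D141300)))
theorem F350838 : act 3 n66281 = n87132 := (sb E100951 (iv3 D182523))
theorem F350839 : act 0 n155768 = n178520 := d21_1 (iv5 F350836) F342290 F342286 F324251 (iv6 F327537) (iv5 F328010) (iv1 F348482) (iv5 F348486) (iv6 F348487) (iv1 F202672)
theorem F350840 : act 4 n110353 = n147364 := d17_4 (iv1 F202672) (iv5 F350836) F350839 F342290 (iv5 D147364) (iv0 D69087) D69090 D147374 (iv4 F231093)
theorem F350841 : act 2 n126978 = n125995 := d15_3 (iv0 F342291) (iv0 F350839) (iv7 F350837)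
theorem F350842 : act 4 n125995 = n134735 := d1_2 F223443 F350841 (iv2 F223442)
theorem F350843 : act 6 n125995 = n126976 := d3_2 D126978 F350841 (iv2 D126976)
theorem F350844 : act 3 n126976 = n125997 := d7_1 F350843 (iv6 D125997) (iv3 F202674)
theorem F350845 : act 5 n126976 = n129321 := d12_1 F350843 F348919 F345866 F325140 D125995
theorem F350846 : act 5 n132463 = n125997 := d6_2 F350845 F348918 (iv3 F350844)
theorem F350847 : act 7 n125997 = n126991 := d13_2 D132463 F350846 F324736
theorem F350848 : act 6 n112766 = n132481 := d21_5 (iv5 D52042) (iv1 D25263) D25265 D52049 D112766 (iv5 D132481) (iv1 F212574) F350846 (iv6 D125997) F93210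
theorem F350849 : act 1 n115581 = n125997 := d15_1 (iv0 F224449) F350847 (iv2 D126991)
theorem F350850 : act 1 n126006 = n126991 := d15_1 D126006 (iv7 F350847) F202677
theorem F350851 : act 4 n126006 = n115251 := d20_0 (iv1 D115251) F83986 (iv3 D28262) D28261 D59515 F93939 D65861 (iv4 F324047) (iv3 F324735) (iv1 F350850)
theorem F350852 : act 5 n126006 = n132607 := d21_8 D62220 (iv1 F348930) F324315 (iv6 D60774) (iv1 F47140) D62148 (iv5 F324736) (iv1 F350850) (iv6 D132607) (iv1 D62219)
theorem E100952 : n129526 = n62148 := (c21_11 (iv5 F324736) (iv1 F350850) F350852 (iv6 D132607) (iv1 D62219) (iv6 D29445) D29444 F208668 (iv5 D60857) D60858 D129526)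
theorem E100953 : n132460 = n132323 := ((D132460).symm.trans (sb E100952 (iv1 F212234)))
theorem E100954 : n132461 = n60858 := ((D132461).symm.trans (sb E100952 (iv0 D129526)))
theorem E100955 : n129527 = n62156 := (((iv1 F212233)).symm.trans (sb E100953 (iv1 F212572)))
theorem F350853 : act 1 n132323 = n62148 := (sb E100953 (iv0 D132460))
theorem F350854 : act 0 n60858 = n62148 := (sb E100954 (iv1 D132461))
theorem F350855 : act 0 n62156 = n60858 := (sb E100955 (iv1 D129527))
theorem F350856 : act 1 n62156 = n132323 := (sb E100955 F212233)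
theorem E100956 : n130939 = n130684 := ((c20_7 (iv4 D28878) (iv1 F23333) (iv4 F47150) (iv3 F96887) F350855 (iv3 F207661) (iv4 F209254) (iv1 D130939) F95934 F46728 (iv1 F47159))).symm
theorem F350857 : act 0 n130684 = n61433 := (sb E100956 (iv1 D130939))
theorem F350858 : act 5 n129545 = n129734 := d21_6 (iv5 F95469) (iv1 F96870) (iv5 D62147) D62148 (iv1 F350853) F212231 (iv1 D129734) (iv5 D60937) (iv6 D28895) D28891
theorem E100957 : n154337 = n129734 := ((c13_2 D129545 F350858 (iv7 D154337) F319160)).symm
theorem F350859 : act 3 n129734 = n73123 := (sb E100957 F242428)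
theorem F350860 : act 4 n129734 = n123105 := (sb E100957 F242429)
theorem F350861 : act 7 n129734 = n73119 := (sb E100957 (iv7 D154337))
theorem F350862 : act 3 n129545 = n154351 := d6_1 (iv5 F350858) F242432 (iv3 F350859)
theorem F350863 : act 3 n136755 = n132323 := d7_3 F212231 F350862 F347133
theorem F350864 : act 5 n132323 = n136753 := d6_2 D136755 F350863 (iv3 D136753)
theorem F350865 : act 7 n136753 = n132322 := d13_2 D132323 F350864 (iv5 D132322)
theorem F350866 : act 3 n132322 = n135992 := d8_1 F350865 F226665 D136753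
theorem F350867 : act 3 n173301 = n129528 := d0_4 F350866 F226664 F343458 (iv2 F271706) (iv2 F212229)
theorem F350868 : act 4 n132322 = n126685 := d20_6 F45723 (iv1 F23978) D30157 D63944 D135992 (iv3 F350866) (iv1 D126685) F93824 (iv3 D28238) D28236
theorem F350869 : act 6 n129528 = n173299 := d7_2 D173301 F350867 F271702
theorem F350870 : act 0 n139884 = n129528 := d20_4 (iv4 F102736) (iv1 F319228) (iv4 F320396) D139884 (iv3 F350867) (iv4 F343453) F228514 F228512 F322266 F102360
theorem F350871 : act 3 n129519 = n159655 := d19_3 F350870 (iv5 D129528) (iv4 F207665) (iv1 D159655) (iv5 F233567) F233566 (iv3 D146872) (iv1 F176908) F176906 (iv4 D68882) (iv3 F102273) (iv1 F223263) (iv5 D140051) (iv4 F318912) (iv3 D70340) (iv1 F313567) D53799 (iv4 F320396) D139884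
theorem E100958 : n129692 = n62487 := (c21_5 D62080 (iv1 F96746) F207693 D61009 F326062 (iv6 F324375) (iv5 F223105) F350870 (iv5 D129528) (iv6 D60858) (iv1 F47083))
theorem E100959 : n133173 = n60924 := ((D133173).symm.trans (sb E100958 (iv1 D129692)))
theorem E100960 : n133174 = n61009 := ((D133174).symm.trans (sb E100958 (iv0 F326062)))
theorem E100961 : n130507 = n129691 := (((D129691).symm.trans (sb E100959 (iv1 F213948)))).symm
theorem F350872 : act 1 n60924 = n62487 := (sb E100959 (iv0 D133173))
theorem F350873 : act 0 n61009 = n62487 := (sb E100960 (iv1 D133174))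
theorem F350874 : act 2 n129691 = n61232 := (sb E100961 (iv2 D130507))
theorem F350875 : act 3 n129691 = n132582 := (sb E100961 (iv3 F337575))
theorem F350876 : act 7 n129691 = n132582 := (sb E100961 (iv7 F337576))
theorem F350877 : act 1 n139884 = n136753 := d15_1 (iv0 F350870) F350865 F212229
theorem F350878 : act 0 n132412 = n129463 := d18_2 (iv1 F350856) (iv4 F212483) F347269 (iv5 D126733) D126732 (iv0 F222842) (iv4 F223104) F350877 (iv5 F350864)
theorem F350879 : act 1 n132412 = n159565 := d15_1 (iv0 F350878) (iv7 F325511) F211863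
theorem F350880 : act 1 n132405 = n129463 := d15_0 (iv0 F350878) (iv7 D132412) (iv2 F212467)
theorem F350881 : act 1 n159565 = n132405 := d15_0 F350880 (iv7 F347267) (iv2 F347266)
theorem E100962 : n132443 = n60865 := (c20_5 (iv4 D113738) (iv1 F139288) (iv4 F204217) F325471 D132443 (iv3 F96872) (iv4 F212468) (iv1 F350881) F251327 F325867 F324789)
theorem E100963 : n129548 = n129323 := ((D129548).symm.trans (sb E100962 (iv1 F212522)))
theorem E100964 : n129549 = n62141 := ((D129549).symm.trans (sb E100962 (iv0 D132443)))
theorem E100965 : n132444 = n60873 := (((iv1 F212518)).symm.trans (sb E100963 (iv1 F207684)))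
theorem F350882 : act 1 n129323 = n60865 := (sb E100963 (iv0 D129548))
theorem F350883 : act 0 n62141 = n60865 := (sb E100964 (iv1 D129549))
theorem F350884 : act 0 n60873 = n62141 := (sb E100965 (iv1 D132444))
theorem F350885 : act 1 n60873 = n129323 := (sb E100965 F212518)
theorem F350886 : act 5 n126955 = n129909 := d21_2 F322574 F204206 (iv6 D129909) (iv1 F326075) F326077 (iv5 F348891) (iv1 F348892) F348926 F212556 (iv1 F350885)
theorem F350887 : act 3 n113808 = n129135 := d20_3 F105041 (iv1 F104874) D113808 (iv1 F207378) (iv3 F207634) F207635 F350884 (iv4 F212517) (iv3 F326342) F176907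
theorem F350888 : act 0 n126871 = n146875 := d20_4 F95402 (iv1 F46501) D59538 D126871 (iv3 D146875) F105041 (iv1 F104874) D113808 F350887 (iv1 F207378)
theorem F350889 : act 1 n140328 = n115743 := d17_6 F337580 (iv5 D132445) F350883 D129550 F324047 D140328 (iv5 D115743) D115741 (iv4 F322101)
theorem F350890 : act 5 n126975 = n129732 := d21_2 D129550 F324045 (iv6 D129732) (iv1 D60936) (iv6 D28895) D28894 D60931 F97403 D62141 F350883
theorem F350891 : act 1 n115743 = n140330 := d15_1 F350889 F223441 (iv2 F223437)
theorem F350892 : act 1 n140463 = n140328 := d15_0 F350889 F180090 (iv2 F223641)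
theorem F350893 : act 1 n140330 = n140463 := d15_0 F350892 F223438 (iv2 F223440)
theorem F350894 : act 0 n133086 = n130228 := d20_1 D133086 F208749 F208220 F350873 (iv3 D62487) (iv4 D29531) (iv1 F23410) (iv4 F23408) (iv3 F47335) D62442
theorem F350895 : act 5 n131352 = n165943 := d21_2 D133176 F344113 (iv6 D165943) F324199 (iv6 D62081) D62080 (iv1 F96746) F207693 D61009 F350873
theorem F350896 : act 2 n165943 = n131389 := d2_1 F350895 (iv5 D131389) (iv2 F210550)
theorem F350897 : act 0 n165943 = n167342 := d17_2 F344113 F350895 (iv5 D167342) F303002 F334996 F334999 F114989 F316655 (iv4 F307467)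
theorem F350898 : act 0 n130512 = n165943 := d21_1 (iv5 F306850) (iv5 F350895) (iv6 D131352) F312916 (iv6 D54865) (iv5 D26542) (iv1 F42450) (iv5 F60263) D84907 (iv1 F340790)
theorem F350899 : act 1 n131480 = n127721 := d17_8 (iv1 F340790) (iv5 F306850) F350898 (iv5 F350895) F210551 F96213 D70065 (iv5 F210746) F333596
theorem F350900 : act 7 n127721 = n131452 := d15_2 (iv0 F210844) F350899 F210712
theorem E100966 : n132352 = n131389 := ((c3_2 D165943 F350896 (iv6 D132352) (iv2 F324205))).symm
theorem F350901 : act 6 n131389 = n62087 := (sb E100966 (iv6 D132352))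
theorem F350902 : act 7 n129353 = n131389 := d14_0 F350901 (iv7 F324203) (iv6 F330791) F327236 D129353
theorem F350903 : act 5 n131390 = n129353 := d13_3 F350902 (iv5 D131389) D131390
theorem F350904 : act 1 n130512 = n129353 := d15_1 (iv0 F350898) F350902 (iv2 F350896)
theorem F350905 : act 2 n129353 = n167347 := d15_3 (iv0 D167347) (iv0 F337666) (iv7 F350902)
theorem F350906 : act 5 n167347 = n161849 := d2_2 F350903 F350905 F346975
theorem F350907 : act 6 n167347 = n126012 := d3_2 D129353 F350905 F325144
theorem F350908 : act 7 n167347 = n165943 := d4_2 (iv7 F350902) F350905 F350896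
theorem F350909 : act 1 n129353 = n167342 := d15_0 (iv0 F350897) (iv7 F350908) (iv2 F350905)
theorem F350910 : act 0 n178439 = n167343 := d21_4 F325937 F161243 F333673 D178439 (iv6 D167343) D167342 (iv1 F350909) (iv5 F350903) (iv6 F311205) (iv1 D121440)
theorem F350911 : act 1 n178439 = n167354 := d15_1 (iv0 F350910) (iv7 D167354) (iv2 F263477)
theorem F350912 : act 3 n172448 = n167347 := d6_3 F350906 F346976 D172448
theorem E100967 : n167352 = n147170 := ((c21_4 (iv5 F332176) F170610 (iv5 F333671) F333672 (iv1 D167352) (iv6 D80314) D80313 D167347 F350906 F346978 (iv1 F187595))).symm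
theorem F350913 : act 0 n147170 = n80314 := (sb E100967 (iv1 D167352))
theorem F350914 : act 4 n147170 = n144475 := (sb E100967 (iv4 F333697))
theorem F350915 : act 4 n131272 = n119130 := d17_9 F337584 F337585 (iv1 D147169) D147170 F350914 (iv5 F333692) (iv0 D155941) F110890 D131272
theorem F350916 : act 1 n161630 = n156836 := d17_6 (iv1 D144475) (iv5 D67702) D67700 (iv5 F317339) (iv4 F307995) D161630 F321813 (iv0 F350913) F350914
theorem F350917 : act 0 n126615 = n135855 := d20_10 (iv4 D135855) (iv1 F99352) (iv4 F208180) F208179 F102061 D133169 F213941 (iv1 F350872) (iv4 F207876) F207875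
theorem F350918 : act 0 n119376 = n112601 := d21_7 (iv5 D133176) (iv1 F350872) (iv5 F319575) (iv6 D80275) (iv1 F57445) D54937 D119376 (iv5 F332174) F311205 (iv1 F344115)
theorem F350919 : act 2 n121777 = n112601 := d15_3 (iv0 F350918) F337592 D121777
theorem E100968 : n163566 = n121777 := (c2_1 (iv5 F332181) F350919 (iv5 F332174) F282999)
theorem F350920 : act 1 n121777 = n78592 := (sb E100968 (iv0 D163566))
theorem F350921 : act 3 n121777 = n82566 := (sb E100968 F332180)
theorem F350922 : act 5 n121777 = n82564 := (sb E100968 F332181)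
theorem F350923 : act 6 n121777 = n79268 := (sb E100968 F332182)
theorem F350924 : act 5 n161385 = n115694 := d21_6 F320250 (iv1 F350920) F350922 (iv6 F346978) F346974 (iv6 F337665) (iv1 D115694) D115695 F333679 (iv1 D84909)
theorem F350925 : act 2 n115694 = n117089 := d2_1 F350924 F324092 D161385
theorem F350926 : act 3 n115694 = n145633 := d6_1 F350924 F325024 (iv3 F255194)
theorem F350927 : act 7 n115694 = n161882 := d13_2 (iv7 F255196) F350924 (iv5 D161882)
theorem E100969 : n119487 = n115699 := ((c18_4 (iv1 D115694) F84185 D53352 D115699 (iv5 D119487) (iv4 F316596) (iv0 F333662) F333729 F255199 F350924)).symm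
theorem F350928 : act 5 n115699 = n54975 := (sb E100969 (iv5 D119487))
theorem F350929 : act 3 n117092 = n115699 := d6_3 F350928 (iv3 F316595) (iv5 F331938)
theorem F350930 : act 7 n126633 = n115699 := d13_0 F350928 (iv7 F316593) (iv5 F331936)
theorem F350931 : act 4 n141360 = n115700 := d16_2 (iv4 F102222) D141360 (iv5 D115700) D115699 F350928 (iv4 F316596) (iv5 F315121) F167367 F102216
theorem F350932 : act 0 n110345 = n115699 := d17_2 F339021 F339018 F350928 (iv4 F316596) (iv5 F315121) F167369 (iv5 F343406) F167536 (iv4 F210820)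
theorem E100970 : n119529 = n52232 := (c21_6 F350928 (iv1 D54975) D54976 F86993 D54988 D119529 (iv5 D52232) F40118 D50884 D110345 F350932)
theorem E100971 : n113158 = n54988 := ((D113158).symm.trans (sb E100970 (iv6 D119529)))
theorem E100972 : n119527 = n53321 := ((D119527).symm.trans (sb E100971 F176313))
theorem F350933 : act 6 n54988 = n52232 := (sb E100971 (iv6 D113158))
theorem E100973 : n115598 = n115263 := ((((iv2 F179524)).symm.trans (sb E100972 (iv2 F336271)))).symm
theorem F350934 : act 4 n53321 = n54988 := (sb E100972 (iv4 D119527))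
theorem F350935 : act 3 n115263 = n53325 := (sb E100973 F179907)
theorem F350936 : act 4 n115263 = n119296 := (sb E100973 (iv4 F336270))
theorem F350937 : act 7 n115263 = n53319 := (sb E100973 (iv7 D115598))
theorem F350938 : act 0 n119488 = n161580 := d21_4 F339018 F350932 F350928 D119488 (iv6 D161580) F120307 F129486 F306566 D131571 F339021
theorem F350939 : act 1 n149024 = n161580 := d15_0 (iv0 F350938) (iv7 F344066) F344063
theorem F350940 : act 3 n101753 = n98522 := d20_9 F153514 D99720 F307519 (iv3 F255586) (iv1 F350939) (iv3 F344046) (iv4 D160962) D160960 (iv4 F345802) (iv1 F184680)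
theorem F350941 : act 2 n161877 = n101753 := d0_5 F350940 F268278 (iv3 F333711) F333715 D161877
theorem F350942 : act 5 n174496 = n101753 := d6_0 F350940 F184678 D174496
theorem F350943 : act 6 n98520 = n101753 := d7_0 F350940 (iv6 D98522) D98520
theorem F350944 : act 7 n155078 = n101753 := d8_0 F350940 (iv7 F308349) (iv3 F243892)
theorem F350945 : act 0 n101753 = n155065 := d20_4 F121528 (iv1 F310555) (iv4 F151917) (iv3 F350940) (iv3 D155065) D155066 F243860 F162781 (iv3 F128586) F191367
theorem E100974 : n179931 = n101289 := ((c20_2 (iv4 F74452) D101289 F280227 (iv3 F343496) F184679 (iv3 F350940) F345802 (iv1 F345801) (iv4 F334220) (iv3 D101616) (iv1 D47267))).symm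
theorem F350946 : act 0 n101289 = n162940 := (sb E100974 F280229)
theorem F350947 : act 3 n101289 = n85979 := (sb E100974 F280226)
theorem F350948 : act 4 n101289 = n119855 := (sb E100974 F280227)
theorem F350949 : act 6 n101289 = n85976 := (sb E100974 (iv6 D179931))
theorem F350950 : act 7 n101289 = n155129 := (sb E100974 F280228)
theorem F350951 : act 2 n161357 = n101289 := d4_3 F350950 (iv2 F332040) F332042
theorem F350952 : act 6 n179929 = n161357 := d3_0 F350951 F350949 D179929
theorem E100975 : n161359 = n124987 := (c10_3 F350952 (iv4 D161357) D161359 F280214)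
theorem F350953 : act 6 n124987 = n77463 := (sb E100975 (iv6 D161359))
theorem F350954 : act 0 n161357 = n101292 := d21_4 D105903 (iv1 F239952) (iv5 F280211) F350952 F310341 D154434 (iv1 F244516) F244515 (iv6 D152682) F191320
theorem F350955 : act 0 n101288 = n161357 := d21_4 (iv5 F305452) (iv1 F132358) (iv5 F74445) D101288 (iv6 F350952) F280211 (iv1 F330100) (iv5 D182069) (iv6 D86956) F303952
theorem F350956 : act 1 n101288 = n155129 := d15_1 (iv0 F350955) (iv7 F350950) (iv2 F350951)
theorem F350957 : act 7 n101288 = n162940 := d15_2 (iv0 F350954) (iv0 F350955) (iv2 F310339)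
theorem E100976 : n149084 = n101814 := (c20_7 F156074 D101606 F344077 (iv3 F306113) F300243 (iv3 F149006) F310097 (iv1 D101814) (iv4 F156772) F321074 (iv1 F350956))
theorem F350958 : act 2 n101814 = n153869 := (sb E100976 (iv2 F241762))
theorem F350959 : act 4 n101814 = n96685 := (sb E100976 (iv4 F310097))
theorem F350960 : act 5 n101814 = n150089 := (sb E100976 F236187)
theorem F350961 : act 6 n101814 = n69948 := (sb E100976 (iv6 D149084))
theorem F350962 : act 5 n145383 = n167235 := d16_1 F331766 (iv4 D167235) (iv5 D80279) (iv4 F71178) D96685 (iv4 F350959) F350960 (iv7 F241767) (iv2 F241768)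
theorem F350963 : act 3 n167235 = n145385 := d6_1 F350962 (iv5 D145385) D145383
theorem F350964 : act 3 n154720 = n119344 := d7_3 (iv6 F263393) F350963 F350062
theorem F350965 : act 1 n149015 = n101815 := d17_6 F310096 (iv5 F308046) (iv1 F310060) (iv5 D75059) (iv4 F155455) D149015 (iv5 D101815) D101814 F350959
theorem F350966 : act 1 n101815 = n149012 := d15_1 F350965 (iv7 F236183) F236182
theorem E100977 : n172396 = n161356 := (c20_5 (iv4 F309519) (iv1 F311709) F64069 (iv3 F127187) D172396 (iv3 D161356) D161357 F350954 F156078 F74516 (iv1 F59445))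
theorem F350967 : act 1 n161356 = n82549 := (sb E100977 (iv0 D172396))
theorem F350968 : act 6 n161358 = n136702 := d12_2 F350953 D161358 F338729 F338718 (iv5 F309873)
theorem E100978 : n161358 = n157664 := (c21_7 (iv5 F200758) (iv1 D124984) (iv5 D58433) D58434 D124987 F350953 D161358 (iv1 F259339) (iv5 D164529) (iv6 F311900) F311895)
theorem F350969 : act 3 n157664 = n154289 := (sb E100978 F331990)
theorem F350970 : act 5 n157664 = n77463 := (sb E100978 (iv5 D161358))
theorem F350971 : act 6 n157664 = n136702 := (sb E100978 F350968)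
theorem F350972 : act 7 n184300 = n157664 := d14_0 F350971 (iv7 F338735) F331749 (iv7 F331292) (iv6 F286245)
theorem F350973 : act 2 n184300 = n155132 := d15_3 (iv0 F259338) F259339 (iv7 F350972)
theorem E100979 : n155915 = n155132 := ((c3_2 (iv6 F286245) F350973 (iv6 D155915) F331310)).symm
theorem F350974 : act 6 n155132 = n74148 := (sb E100979 (iv6 D155915))
theorem E100980 : n179223 = n159037 := ((c21_8 F324658 F111273 F324694 (iv6 F350974) F243956 (iv6 F324091) (iv5 F113849) D159037 (iv5 D179223) (iv6 F338749) (iv1 F189643))).symm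
theorem F350975 : act 5 n159037 = n85531 := (sb E100980 (iv5 D179223))
theorem F350976 : act 6 n159037 = n144351 := (sb E100980 F331703)
theorem E100981 : n148291 = n148207 := ((c21_10 (iv5 F337679) F167738 (iv5 F227086) (iv6 F350976) (iv1 F279791) (iv6 F339411) F349848 (iv1 F254488) F330674 D148207 (iv1 D148291))).symm
theorem F350977 : act 0 n148207 = n69506 := (sb E100981 (iv1 D148291))
theorem F350978 : act 1 n148207 = n69511 := (sb E100981 F232111)
theorem F350979 : act 2 n148207 = n144347 := (sb E100981 (iv2 F346191))
theorem F350980 : act 4 n148207 = n170051 := (sb E100981 F346189)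
theorem F350981 : act 5 n148207 = n126705 := (sb E100981 F339397)
theorem F350982 : act 7 n148207 = n144350 := (sb E100981 (iv7 F346190))
theorem F350983 : act 6 n179952 = n134655 := d21_3 (iv5 F318489) F318486 D179952 F334098 (iv6 F334101) (iv5 F337679) F167738 (iv5 F227086) (iv6 F350976) (iv1 F279791)
theorem F350984 : act 3 n158707 = n179952 := d7_3 F350983 F321355 D158707
theorem E100982 : n179953 = n162607 := ((c12_4 F350983 (iv5 D134655) (iv6 F327819) F327818 (iv6 D179953) D179952)).symm
theorem F350985 : act 6 n162607 = n85989 := (sb E100982 (iv6 D179953))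
theorem F350986 : act 7 n149668 = n179952 := d14_0 F350983 F321356 F334107 F185438 D149668
theorem F350987 : act 0 n115224 = n179952 := d21_4 F341257 (iv1 F199323) F320192 (iv6 F320638) F350983 (iv5 D134655) (iv1 F216609) (iv5 F330258) F318663 D155005
theorem F350988 : act 6 n142533 = n141468 := d21_3 (iv5 D84072) (iv1 F128058) (iv5 F319104) F224522 F339411 (iv5 F318489) F318486 D179952 F350983 F334098
theorem F350989 : act 0 n179952 = n120655 := d21_4 F330248 (iv1 F216608) D134655 (iv6 F350983) F192321 F320874 F341747 D63235 F320108 (iv1 F330247)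
theorem E100983 : n175989 = n151562 := (c20_1 D175989 F326574 (iv4 F300963) F350984 F350989 (iv3 D120655) (iv4 D55610) F301902 (iv4 F303825) (iv3 F326619) F321689)
theorem F350990 : act 4 n151562 = n83975 := (sb E100983 (iv4 D175989))
theorem F350991 : act 2 n107613 = n120655 := d15_3 (iv0 F350989) (iv0 F350987) F179436
theorem F350992 : act 1 n107613 = n159123 := d15_0 (iv0 D159123) (iv7 F192322) (iv2 F350991)
theorem F350993 : act 7 n159123 = n128167 := d15_2 (iv0 F322418) F350992 (iv2 F235310)
theorem F350994 : act 2 n179952 = n159123 := d4_3 F350993 (iv2 F235310) F350986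
theorem F350995 : act 5 n179949 = n159123 := d13_3 F350993 F339417 D179949
theorem E100984 : n179949 = n125187 := ((c17_7 (iv1 F230204) F230202 (iv1 F105026) D68896 D146977 F339415 F201258 F350995 (iv0 D159123) F313192)).symm
theorem F350996 : act 2 n125187 = n85989 := (sb E100984 F280262)
theorem F350997 : act 5 n125187 = n159123 := (sb E100984 F350995)
theorem F350998 : act 7 n125187 = n85988 := (sb E100984 (iv7 D179949))
theorem E100985 : n179944 = n125188 := (c15_4 F201262 F201258 F350998 D179944)
theorem F350999 : act 2 n125188 = n85988 := (sb E100985 (iv2 D179944))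
theorem F351000 : act 7 n125188 = n85989 := (sb E100985 (iv7 F280261))
theorem F351001 : act 5 n149668 = n125188 := d13_3 F351000 D179952 (iv7 F350986)
theorem F351002 : act 6 n116498 = n179651 := d21_9 F339415 (iv1 F201262) (iv5 F351001) (iv6 D149668) (iv1 D70294) (iv6 F310239) D67251 D143602 F226286 (iv1 F339413)
theorem F351003 : act 2 n179651 = n142529 := d3_1 F351002 (iv6 D142529) F181816
theorem F351004 : act 7 n179651 = n159037 := d14_2 F181818 F351002 F350976 (iv7 F227087) F334094
theorem F351005 : act 5 n179651 = n125063 := d21_6 F337705 (iv1 F331716) (iv5 F319972) (iv6 D116500) D116498 F351002 (iv1 F200917) (iv5 F320637) F320638 (iv1 F243693)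
theorem E100986 : n179225 = n125063 := ((c2_1 F351005 F279149 (iv5 F330654) (iv2 F351003))).symm
theorem F351006 : act 2 n125063 = n85532 := (sb E100986 F279149)
theorem F351007 : act 7 n125063 = n85531 := (sb E100986 (iv7 D179225))
theorem E100987 : n155786 = n125064 := (c15_4 F200921 F200917 F351007 (iv2 F338752))
theorem F351008 : act 2 n125064 = n85531 := (sb E100987 F338752)
theorem F351009 : act 6 n125064 = n74108 := (sb E100987 (iv6 D155786))
theorem F351010 : act 7 n125064 = n85532 := (sb E100987 F338753)
theorem E100988 : n155917 = n125441 := (c21_11 (iv5 D125441) F341250 D163070 F316251 (iv1 F200921) F351009 (iv5 F324692) (iv1 D74117) (iv5 F53337) D74150 D155917)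
theorem F351011 : act 1 n125441 = n74150 := (sb E100988 (iv0 D155917))
theorem F351012 : act 7 n155918 = n160588 := d15_2 F351011 D155918 F254433
theorem F351013 : act 1 n163199 = n125441 := d15_0 F351011 F309233 D163199
theorem E100989 : n164133 = n163865 := (c21_8 (iv5 F324692) (iv1 D74117) (iv5 F53337) D74150 (iv1 F351011) (iv6 F258684) (iv5 D164135) D164133 F346327 F346330 (iv1 F189648))
theorem F351014 : act 1 n163865 = n78852 := (sb E100989 (iv0 D164133))
theorem E100990 : n164134 = n110414 := (c15_2 F351014 D164134 (iv7 F324020) D163865)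
theorem F351015 : act 0 n110414 = n78852 := (sb E100990 (iv1 D164134))
theorem E100991 : n164132 = n111826 := (c18_8 (iv1 F319636) (iv4 D142739) (iv1 F205103) F205105 D127608 F346326 F351014 (iv4 F258683) (iv0 D111826) F319639)
theorem F351016 : act 4 n111826 = n78852 := (sb E100991 F258683)
theorem F351017 : act 6 n111826 = n78850 := (sb E100991 (iv6 D164132))
theorem E100992 : n174213 = n137269 := (c20_4 F351016 (iv1 F351014) (iv4 F346326) F346323 (iv1 D137269) (iv3 D64516) F48803 F39832 F39830 D51564 D111826)
theorem F351018 : act 2 n137269 = n109621 := (sb E100992 F346324)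
theorem F351019 : act 3 n137269 = n127608 := (sb E100992 (iv3 F346323))
theorem F351020 : act 5 n137269 = n127606 := (sb E100992 F346322)
theorem F351021 : act 6 n137269 = n83273 := (sb E100992 (iv6 D174213))
theorem F351022 : act 6 n92196 = n109540 := d3_2 F351017 (iv2 F254440) (iv2 F228563)
theorem E100993 : n180684 = n50601 := (c21_5 (iv5 F281170) (iv1 F281171) (iv5 D86307) D86308 D180684 (iv6 F81631) (iv5 F173668) (iv1 F228562) F228560 F351017 F248859)
theorem E100994 : n109708 = n86308 := ((D109708).symm.trans (sb E100993 (iv0 D180684)))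
theorem F351023 : act 0 n86308 = n50601 := (sb E100994 (iv1 D109708))
theorem E100995 : n180685 = n112236 := ((D180685).symm.trans (sb E100994 F174572))
theorem F351024 : act 0 n112236 = n86308 := (sb E100995 (iv1 D180685))
theorem F351025 : act 0 n180686 = n109728 := d17_2 F351024 D180686 F169717 (iv4 F81989) (iv5 F81995) F84774 F166908 F166910 (iv4 F174568)
theorem E100996 : n180675 = n69040 := (c20_5 (iv4 F174568) F351024 F132264 (iv3 F132263) D180675 F105260 (iv4 F94402) (iv1 F94403) (iv4 D32189) (iv3 F51137) D69205)
theorem E100997 : n147550 = n125961 := (((F202630).symm.trans (sb E100996 (iv1 F330683)))).symm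
theorem E100998 : n125960 = n86305 := ((F202628).symm.trans (sb E100996 (iv0 D180675)))
theorem F351026 : act 2 n125961 = n113140 := (sb E100997 (iv2 F232039))
theorem F351027 : act 5 n125961 = n69149 := (sb E100997 (iv5 D147550))
theorem F351028 : act 7 n125961 = n113141 := (sb E100997 F232042)
theorem F351029 : act 0 n86305 = n69040 := (sb E100998 (iv1 F202628))
theorem E100999 : n180676 = n58978 := ((D180676).symm.trans (sb E100998 (iv0 D125960)))
theorem F351030 : act 0 n58978 = n86305 := (sb E100999 (iv1 D180676))
theorem F351031 : act 4 n113218 = n177598 := d20_2 (iv4 F105261) (iv1 F176408) (iv3 F319458) (iv1 F321444) (iv3 F323077) (iv4 F174568) F351024 F132264 (iv3 F132263) F351029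
theorem F351032 : act 7 n109707 = n112234 := d15_2 (iv0 F351024) F174570 F330669
theorem F351033 : act 2 n112235 = n109707 := d4_3 F351032 F330669 (iv7 F330680)
theorem F351034 : act 4 n159318 = n109707 := d11_3 F351032 F330670 D159318
theorem F351035 : act 6 n180645 = n109707 := d14_5 F351032 F330671 (iv7 F254285) D86288 D180645
theorem F351036 : act 6 n112235 = n163092 := d3_2 F351035 (iv2 F351033) (iv2 F338807)
theorem F351037 : act 7 n163092 = n159325 := d14_2 (iv7 F330680) F351036 (iv6 D159325) F254281 D86308
theorem F351038 : act 1 n180643 = n163092 := d15_1 D180643 F351037 F254463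
theorem F351039 : act 4 n126825 = n180643 := d18_5 (iv1 F166047) (iv4 F99645) F163982 (iv4 F93940) D126825 F351038 (iv4 D163092) F338768 F338767
theorem F351040 : act 0 n147664 = n126825 := d18_0 F351039 (iv1 D180643) F132252 D86297 (iv4 F336484) (iv0 F219831) (iv4 F219982) (iv0 F227098) F349865
theorem F351041 : act 3 n180643 = n109696 := d20_3 (iv4 F349864) F351040 F351039 (iv1 F169688) (iv3 F326424) (iv4 D38149) F117881 D58092 (iv3 F193100) (iv1 F336525)
theorem E101000 : n126825 = n125982 := (c5_1 (iv4 F351039) (iv3 D125982) (iv4 D58988) D58987 F169690 (iv3 F351041))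
theorem F351042 : act 1 n125982 = n147664 := (sb E101000 (iv0 F351040))
theorem F351043 : act 2 n125982 = n124487 := (sb E101000 (iv2 F336029))
theorem F351044 : act 4 n125982 = n180643 := (sb E101000 F351039)
theorem F351045 : act 5 n125982 = n59516 := (sb E101000 (iv5 D126825))
theorem E101001 : n163122 = n163091 := (c20_5 F202660 F327216 (iv4 D78425) D78424 D163122 (iv3 D163091) D163092 (iv1 F351038) (iv4 F351044) (iv3 D125982) D125981)
theorem F351046 : act 1 n163091 = n78424 := (sb E101001 (iv0 D163122))
theorem F351047 : act 3 n177628 = n125981 := d20_5 (iv4 F277078) (iv1 F277083) (iv4 D84601) D84600 D177628 F202660 F327216 (iv4 D78425) D78424 (iv1 F351046)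
theorem F351048 : act 2 n163034 = n177628 := d0_5 F351047 (iv2 F338334) F262265 (iv2 F329605) D163034
theorem F351049 : act 6 n124293 = n177628 := d7_0 F351047 (iv6 F202663) F326795
theorem F351050 : act 4 n171067 = n177628 := d20_8 (iv4 D58993) (iv1 D28032) (iv4 F45301) F323123 (iv1 F43471) D55871 F304242 D171067 F351047 (iv1 F202661)
theorem F351051 : act 3 n171067 = n111305 := d5_3 (iv4 F202660) (iv3 F351047) (iv4 F351050) F172708 (iv3 F172669)
theorem F351052 : act 0 n171067 = n163069 := d20_7 D163092 (iv1 F351038) (iv4 F351044) (iv3 D125982) D125981 (iv3 F351047) (iv4 F351050) (iv4 D163069) F338770 (iv1 F338768)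
theorem F351053 : act 3 n163069 = n174145 := d20_5 (iv4 D51441) (iv1 F81020) (iv4 F172708) (iv3 F351051) F351052 F272941 (iv1 F343715) F173169 F81254 (iv1 F168301)
theorem F351054 : act 2 n174145 = n123325 := d0_1 F351053 (iv3 D123325) (iv2 F121568) (iv3 F119606) (iv2 F257402)
theorem E101002 : n180656 = n163100 := ((c5_4 D163069 F351053 F272941 (iv3 F257420) (iv4 D180656) (iv3 F338770))).symm
theorem F351055 : act 4 n163100 = n86295 := (sb E101002 (iv4 D180656))
theorem F351056 : act 5 n174144 = n163069 := d6_0 F351053 (iv5 D174145) D174144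
theorem F351057 : act 2 n163073 = n174144 := d2_3 F351056 F257402 D163073
theorem F351058 : act 0 n177496 = n174144 := d19_0 F351056 (iv4 D163069) F338770 (iv1 F338768) D163093 F338803 F219283 (iv1 F99751) (iv5 F100724) F325442 F85893 D57983 F301791 (iv4 F123187) F123186 (iv1 F72412) D77338 (iv4 F301656) D177496
theorem F351059 : act 5 n177496 = n177498 := d17_7 D84565 D177513 F339277 (iv5 D163070) D163069 (iv5 F351056) (iv0 F351058) (iv0 D177498) F129724
theorem F351060 : act 3 n177498 = n111883 := d6_1 F351059 F341303 D177496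
theorem F351061 : act 6 n140683 = n177498 := d7_0 F351060 F173796 D140683
theorem F351062 : act 3 n173237 = n108747 := d0_4 (iv3 F257405) F351057 (iv3 D174144) F271564 F341297
theorem F351063 : act 5 n123325 = n173237 := d6_0 F351062 F341298 D123325
theorem F351064 : act 3 n111287 = n178322 := d7_3 F334709 F351062 F172644
theorem F351065 : act 3 n108725 = n173341 := d20_9 F272897 (iv1 D83296) D83297 (iv3 F346348) D173237 F351062 (iv4 F171186) (iv1 F171190) (iv4 F171191) (iv1 F272898)
theorem E101003 : n111364 = n111122 := ((c20_8 (iv4 F173019) (iv1 F171192) F171186 (iv3 F351062) (iv1 F271566) (iv3 F272946) F346368 (iv1 F172331) F172817 F168680 D108724)).symm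
theorem F351066 : act 3 n111122 = n51361 := (sb E101003 F172816)
theorem F351067 : act 4 n111122 = n108722 := (sb E101003 F172817)
theorem F351068 : act 6 n111122 = n51359 := (sb E101003 (iv6 D111364))
theorem F351069 : act 6 n111363 = n145319 := d12_2 F351068 D111363 (iv5 D145319) F165716 F172332
theorem F351070 : act 0 n111342 = n111363 := d21_1 D111342 (iv5 D111363) (iv6 F351068) (iv1 D111122) F80842 (iv5 D27937) D27934 D58749 (iv6 F330493) (iv1 F170397)
theorem F351071 : act 6 n107412 = n160261 := d21_3 (iv5 D51248) (iv1 F165540) D107412 (iv1 F349857) (iv6 D111343) D111342 F351070 (iv5 D111363) (iv6 F351068) (iv1 D111122)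
theorem F351072 : act 3 n109127 = n107412 := d7_3 F351071 (iv3 D160261) (iv6 F324501)
theorem F351073 : act 4 n123332 = n107412 := d10_3 F351071 F253099 (iv6 F299238)
theorem F351074 : act 5 n108722 = n123332 := d16_3 D107425 F172332 F351067 F351073 (iv5 D107412) (iv4 D49612) D49613 (iv7 F165515) (iv2 F165514)
theorem F351075 : act 6 n157931 = n108721 := d12_4 D108722 F351074 F299238 (iv5 F248827) (iv5 D108721)
theorem E101004 : n111116 = n108962 := (c0_2 F351072 (iv2 F172319) (iv3 D108962) F164017 (iv3 F326936) (iv2 F324499))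
theorem F351076 : act 2 n108962 = n107412 := (sb E101004 F172319)
theorem F351077 : act 5 n108962 = n51243 := (sb E101004 (iv5 D111116))
theorem F351078 : act 7 n108962 = n107423 := (sb E101004 F172320)
theorem F351079 : act 5 n107411 = n109127 := d6_0 F351072 (iv5 D107412) D107411
theorem E101005 : n124444 = n111119 := ((c8_3 (iv7 F324502) F351072 (iv7 F172325) (iv3 D124444))).symm
theorem F351080 : act 3 n111119 = n58036 := (sb E101005 (iv3 D124444))
theorem F351081 : act 3 n108636 = n107423 := d0_4 F351080 (iv2 F118752) F326044 (iv2 F168523) (iv2 F172324)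
theorem E101006 : n124445 = n111118 := (c6_3 D111119 F351080 D124445 (iv3 D111118))
theorem F351082 : act 0 n111118 = n107191 := (sb E101006 (iv1 F345406))
theorem F351083 : act 1 n111118 = n159185 := (sb E101006 (iv0 F250665))
theorem F351084 : act 2 n111118 = n162074 := (sb E101006 (iv2 F256148))
theorem F351085 : act 5 n111118 = n58036 := (sb E101006 (iv5 D124445))
theorem F351086 : act 5 n124382 = n115726 := d16_1 D124382 F180050 F351085 F118753 F298902 F123187 (iv5 F301791) F301792 (iv2 F300543)
theorem F351087 : act 3 n115727 = n124382 := d6_3 F351086 (iv3 D115726) D115727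
theorem F351088 : act 3 n162074 = n140651 := d0_2 D111118 F351084 (iv2 F342479) (iv3 D107422) F165548
theorem F351089 : act 2 n124448 = n107411 := d4_3 (iv7 F172323) F351084 F256149
theorem F351090 : act 1 n160360 = n107411 := d15_1 (iv0 F344462) (iv7 F172323) F351084
theorem F351091 : act 1 n107411 = n160373 := d15_1 F351090 (iv7 F345407) (iv2 F345408)
theorem F351092 : act 1 n160373 = n162074 := d15_1 F351091 F256149 F351089
theorem E101007 : n140651 = n108966 := (c6_2 D162074 F351088 (iv5 D108966) (iv3 F326044))
theorem F351093 : act 2 n108966 = n107422 := (sb E101007 (iv2 F342479))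
theorem F351094 : act 3 n108966 = n162074 := (sb E101007 (iv3 F351088))
theorem F351095 : act 6 n108966 = n65993 := (sb E101007 (iv6 D140651))
theorem F351096 : act 6 n140648 = n162074 := d7_0 (iv3 F351094) F351095 D140648
theorem F351097 : act 3 n112203 = n124448 := d8_3 (iv7 F256149) (iv3 F351094) (iv7 F174475)
theorem E101008 : n111115 = n108963 := (c0_5 F351097 F351089 (iv3 D107411) (iv2 F165542) D111115 (iv2 F174474))
theorem F351098 : act 3 n108963 = n51243 := (sb E101008 (iv3 D111115))
theorem F351099 : act 7 n108963 = n107422 := (sb E101008 F172318)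
theorem F351100 : act 3 n140690 = n139005 := d20_5 F37908 D49184 (iv4 F165543) (iv3 F351098) F223781 F222184 (iv1 F321159) D67363 (iv3 F163987) (iv1 D49605)
theorem F351101 : act 5 n139005 = n140689 := d6_2 D140690 F351100 (iv3 D140689)
theorem F351102 : act 6 n125483 = n140690 := d7_0 F351100 (iv6 D139005) (iv3 F201812)
theorem F351103 : act 5 n157881 = n125483 := d21_8 (iv5 D108966) F100841 D50357 (iv6 F169070) (iv1 F331109) (iv6 F345398) F337383 (iv1 F257769) F351102 F223780
theorem F351104 : act 5 n122387 = n111878 := d12_3 (iv6 F351102) (iv5 F351103) F248798 F175475 D140690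
theorem F351105 : act 5 n108727 = n123013 := d17_7 F120664 (iv5 F300691) (iv1 F44100) D56711 D122387 F351104 F173774 (iv0 D123013) (iv4 D57234)
theorem F351106 : act 5 n180507 = n111875 := d21_8 F351104 (iv1 D111878) F343736 F116152 F56026 D39896 D86202 D180507 (iv6 F343762) F343758
theorem F351107 : act 2 n109063 = n180507 := d2_3 F351106 (iv2 D111875) (iv5 F169067)
theorem F351108 : act 6 n109026 = n180507 := d12_0 F351106 (iv6 F343762) (iv5 D111538) F81219 D109026
theorem F351109 : act 7 n109122 = n180507 := d13_0 F351106 (iv7 F325549) F325548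
theorem F351110 : act 1 n109107 = n180507 := d17_6 F90600 F299811 F297654 F323101 (iv4 F169968) D109107 F351106 F325164 F91650
theorem E101009 : n140605 = n86199 := (c21_8 F351106 (iv1 F173764) F170952 (iv6 F341398) (iv1 F98575) D134756 F216808 D140605 D180499 F280925 D180507)
theorem E101010 : n180498 = n65980 := ((D180498).symm.trans (sb E101009 (iv0 D140605)))
theorem F351111 : act 0 n65980 = n86199 := (sb E101010 (iv1 D180498))
theorem F351112 : act 0 n108447 = n109026 := d21_4 (iv5 D63326) F48069 D50074 D108447 F351108 F351106 (iv1 F173764) F170952 (iv6 F341398) (iv1 F98575)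
theorem F351113 : act 4 n109026 = n88933 := d18_1 F351112 (iv1 D88933) D88934 F327460 F80973 D51323 D111280 F172625 (iv5 F336669)
theorem F351114 : act 7 n140606 = n170840 := d15_2 (iv0 F351111) D140606 F268438
theorem F351115 : act 2 n140607 = n114533 := d15_3 F349735 (iv0 F351111) D140607
theorem F351116 : act 3 n134756 = n140607 := d0_0 F351115 F178594 F83517 F331538 (iv2 F216806)
theorem F351117 : act 5 n140604 = n140607 := d2_0 F351115 F178595 (iv2 F331537)
theorem F351118 : act 1 n140607 = n114529 := d15_0 (iv0 D114529) D114533 (iv2 F351115)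
theorem F351119 : act 5 n109141 = n114529 := d21_6 F345333 (iv1 F180102) (iv5 F224960) (iv6 F345331) (iv1 F169120) D109141 (iv1 F351118) (iv5 F351117) (iv6 D140604) (iv1 F349745)
theorem E101011 : n170840 = n114529 := ((c12_2 D109141 F351119 (iv6 D170840) (iv5 D81902) F325592 D50378)).symm
theorem F351120 : act 2 n114529 = n86199 := (sb E101011 F268438)
theorem F351121 : act 4 n114529 = n86349 := (sb E101011 F268439)
theorem F351122 : act 6 n114529 = n81902 := (sb E101011 (iv6 D170840))
theorem F351123 : act 7 n114529 = n140606 := (sb E101011 (iv7 F351114))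
theorem F351124 : act 2 n109141 = n180499 := d2_1 (iv5 F351119) (iv5 D180499) (iv2 F351120)
theorem F351125 : act 2 n140606 = n100583 := d4_1 F351123 F345221 (iv2 F351120)
theorem F351126 : act 4 n140606 = n180794 := d11_1 F351123 (iv7 D180794) (iv4 F351121)
theorem F351127 : act 6 n140606 = n109220 := d14_1 F351123 F345414 F345204 F132158 (iv6 F351122)
theorem F351128 : act 1 n100583 = n140607 := d15_0 F351118 F351123 F351125
theorem E101012 : n114530 = n100583 := (c15_1 D114530 F351128 (iv7 D140607) F331533)
theorem F351129 : act 0 n100583 = n52864 := (sb E101012 (iv1 D114530))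
theorem F351130 : act 4 n109220 = n100583 := d10_1 F351127 F345220 (iv4 F351126)
theorem F351131 : act 3 n99892 = n109220 := d5_5 F351130 (iv3 D100583) F74130 F73710 D99892
theorem F351132 : act 2 n100585 = n103843 := d0_3 F351131 F345420 (iv3 F345217) F159250 (iv2 F294721)
theorem F351133 : act 5 n109220 = n103621 := d6_2 (iv5 F294722) F351131 (iv3 D103621)
theorem F351134 : act 4 n179715 = n184099 := d20_8 (iv4 D46651) D46649 D99892 F351131 (iv1 D109220) (iv3 F169158) F343152 (iv1 F279922) (iv3 D184099) F134785
theorem F351135 : act 3 n100452 = n179715 := d5_5 F351134 (iv3 D184099) (iv4 D87814) (iv3 F135030) D100452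
theorem E101013 : n179805 = n179715 := (c11_1 D179805 F351134 (iv7 F345422) (iv4 D179802))
theorem F351136 : act 2 n179715 = n85876 := (sb E101013 F280027)
theorem F351137 : act 7 n179715 = n85875 := (sb E101013 (iv7 D179805))
theorem E101014 : n153775 = n109178 := (c20_11 F343152 (iv1 F279922) F351134 (iv3 D184099) F134785 (iv3 F326345) (iv4 F185892) F185893 (iv4 D72751) (iv3 F109226) D153775)
theorem F351138 : act 1 n109178 = n72747 := (sb E101014 (iv0 D153775))
theorem F351139 : act 2 n179807 = n184099 := d1_3 (iv4 F351134) F351136 D179807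
theorem F351140 : act 7 n179801 = n100452 := d8_2 F351137 D179801 F351135
theorem E101015 : n179800 = n179714 := (c15_4 (iv0 D179714) D179715 F351137 D179800)
theorem F351141 : act 2 n179714 = n85875 := (sb E101015 (iv2 D179800))
theorem F351142 : act 7 n179714 = n85876 := (sb E101015 (iv7 F280026))
theorem F351143 : act 3 n93772 = n179714 := d8_3 F351142 F294627 D93772
theorem F351144 : act 4 n100398 = n179801 := d11_3 F351140 (iv4 D100452) (iv7 F154440)
theorem F351145 : act 2 n179801 = n100449 := d1_1 F351144 (iv4 D100449) (iv2 F154442)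
theorem F351146 : act 3 n100449 = n91071 := d0_2 D179801 F351145 (iv2 F144536) F351143 F351141
theorem F351147 : act 7 n91063 = n100449 := d8_0 F351146 (iv7 D91071) (iv3 F140105)
theorem F351148 : act 4 n93771 = n90238 := d20_0 (iv1 D90238) (iv4 F66896) (iv3 F140163) F338893 (iv3 D100456) (iv4 D46878) D46876 D100449 F351146 (iv1 F144535)
theorem F351149 : act 2 n100452 = n91063 := d4_3 F351147 (iv2 F351145) F351140
theorem F351150 : act 4 n100399 = n91063 := d11_3 F351147 (iv4 D100449) F154443
theorem F351151 : act 6 n91062 = n100399 := d10_0 F351150 (iv6 D91063) D91062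
theorem F351152 : act 2 n100453 = n91062 := d3_3 F351151 F154434 D100453
theorem F351153 : act 4 n91058 = n100453 := d1_0 F351152 (iv4 D91062) (iv2 F140102)
theorem F351154 : act 6 n100452 = n91058 := d10_0 F351153 (iv6 D100453) D100452
theorem F351155 : act 6 n93765 = n179715 := d7_2 F351154 (iv3 F144527) (iv3 F351135)
theorem F351156 : act 4 n103843 = n99507 := d1_2 (iv4 F154651) F351132 F153270
theorem F351157 : act 5 n103842 = n100585 := d2_0 F351132 (iv5 D103843) D103842
theorem F351158 : act 6 n103843 = n99385 := d3_2 D100585 F351132 (iv2 F153057)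
theorem F351159 : act 3 n99385 = n103847 := d7_1 F351158 (iv6 D103847) (iv3 F159250)
theorem F351160 : act 4 n184572 = n99506 := d5_4 (iv4 F153056) F351159 F294749 (iv3 F286560) (iv3 D99506)
theorem F351161 : act 7 n103847 = n100586 := d8_2 (iv7 F153058) F351159 (iv3 D100586)
theorem E101016 : n184574 = n152574 := ((c20_7 F74132 (iv1 F73380) (iv4 F74355) (iv3 F329963) F83374 (iv3 F178376) (iv4 F239765) (iv1 D184574) (iv4 F294749) (iv3 F351159) (iv1 F153059))).symm
theorem F351162 : act 0 n152574 = n88018 := (sb E101016 (iv1 D184574))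
theorem F351163 : act 5 n152574 = n185297 := (sb E101016 (iv5 F287560))
theorem F351164 : act 3 n185297 = n152350 := d6_1 F351163 F239549 (iv3 F239764)
theorem F351165 : act 7 n185297 = n152573 := d13_2 D152574 F351163 (iv5 D152573)
theorem F351166 : act 0 n185181 = n185297 := d21_10 (iv5 F351163) F351162 (iv5 F157195) (iv6 D102385) (iv1 D47504) F337962 (iv5 F133507) (iv1 F134103) (iv5 F135174) D185181
theorem F351167 : act 6 n152350 = n185294 := d7_2 D185297 F351164 (iv3 D185294)
theorem F351168 : act 2 n185294 = n152872 := d3_1 F351167 (iv6 D152872) (iv2 F239548)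
theorem F351169 : act 4 n185294 = n152351 := d10_1 F351167 (iv6 D152351) D152350
theorem E101017 : n184573 = n152572 := ((c15_4 (iv0 D184573) (iv0 F351162) (iv7 D152574) D152572)).symm
theorem F351170 : act 1 n152572 = n88018 := (sb E101017 (iv0 D184573))
theorem F351171 : act 4 n100586 = n184575 := d11_1 F351161 (iv7 D184575) (iv4 F294749)
theorem F351172 : act 3 n184575 = n101161 := d5_1 F351171 (iv4 D101161) (iv3 D47117) (iv4 F74131) D100586
theorem E101018 : n184575 = n152570 := ((c20_8 (iv4 D22534) D22532 D46913 (iv3 F329942) (iv1 D60023) D60024 (iv4 F108454) D152570 (iv4 F351171) (iv3 D100586) (iv1 D46920))).symm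
theorem F351173 : act 3 n152570 = n101161 := (sb E101018 F351172)
theorem F351174 : act 4 n152570 = n100586 := (sb E101018 (iv4 F351171))
theorem F351175 : act 7 n152570 = n88018 := (sb E101018 (iv7 D184575))
theorem F351176 : act 7 n184572 = n101161 := d8_2 F351175 (iv3 F286560) (iv3 F351173)
theorem F351177 : act 2 n184571 = n184572 := d1_3 F351160 F153267 D184571
theorem F351178 : act 6 n99506 = n184571 := d10_2 D184572 F351160 (iv4 D184571)
theorem F351179 : act 3 n184571 = n99507 := d7_1 F351178 (iv6 D99507) D99506
theorem F351180 : act 0 n100585 = n128391 := d17_2 (iv1 F349906) F351157 (iv5 D128391) F94883 D60442 D128512 F349893 F349896 (iv4 F241615)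
theorem F351181 : act 0 n114533 = n140606 := d20_10 F351126 (iv1 F345205) F164796 (iv3 F332991) (iv1 F139668) F327161 F94506 (iv1 F54608) (iv4 F83518) (iv3 F178594)
theorem F351182 : act 6 n140607 = n134755 := d21_5 F112779 (iv1 F60818) D81902 (iv6 F351122) (iv1 F351118) (iv5 D134755) F345265 F130011 (iv6 D75236) D75233
theorem E101019 : n106931 = n90698 := (c20_3 F351121 D180792 F345416 (iv3 D90698) (iv1 F139602) F327703 F83370 (iv1 D25655) D25656 D52864 D114529)
theorem F351183 : act 0 n90698 = n134748 := (sb E101019 (iv1 F216782))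
theorem F351184 : act 1 n90698 = n134747 := (sb E101019 F216787)
theorem F351185 : act 2 n90698 = n134749 := (sb E101019 (iv2 F216783))
theorem F351186 : act 4 n90698 = n180792 := (sb E101019 (iv4 F345416))
theorem F351187 : act 5 n90698 = n108497 := (sb E101019 (iv5 F167723))
theorem F351188 : act 7 n90698 = n49400 := (sb E101019 (iv7 D106931))
theorem F351189 : act 3 n108497 = n90699 := d6_1 F351187 (iv5 D90699) D90698
theorem F351190 : act 4 n108590 = n135200 := d20_0 (iv1 D135200) (iv4 F216807) F351116 (iv1 F351128) (iv3 D100583) F74130 (iv1 F293225) (iv4 F139611) (iv3 F351189) (iv1 F167926)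
theorem F351191 : act 3 n180792 = n90695 := d5_1 F351186 (iv4 D90695) (iv3 D42458) D42459 D90698
theorem F351192 : act 0 n180792 = n109220 := d20_7 F139616 F293165 D46917 (iv3 F345119) (iv1 F139600) D90698 F351186 F351130 (iv3 D100583) (iv1 F293366)
theorem F351193 : act 7 n134756 = n140604 := d13_0 F351117 (iv7 D140607) (iv5 F216808)
theorem F351194 : act 4 n140604 = n135198 := d11_1 F351193 F217372 (iv4 F216807)
theorem F351195 : act 1 n157743 = n134756 := d15_1 D157743 F351193 F331537
theorem F351196 : act 1 n134866 = n140604 := d15_1 D134866 (iv7 F351193) F216806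
theorem F351197 : act 5 n134866 = n90916 := d21_2 (iv5 F351117) (iv1 F351196) F331074 (iv1 F79559) (iv6 F341292) F112779 (iv1 F60818) D81902 (iv6 F351122) (iv1 F351118)
theorem E101020 : n134755 = n109196 := ((c21_5 (iv5 D50202) F38444 (iv5 F38551) D50392 D109196 (iv6 F351182) (iv5 F351117) (iv1 F351196) F351197 F331074 (iv1 F79559))).symm
theorem F351198 : act 0 n109196 = n109215 := (sb E101020 F332975)
theorem F351199 : act 3 n109196 = n63326 := (sb E101020 F216804)
theorem F351200 : act 5 n109196 = n63325 := (sb E101020 (iv5 D134755))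
theorem F351201 : act 6 n109196 = n140607 := (sb E101020 (iv6 F351182))
theorem F351202 : act 7 n109196 = n63522 := (sb E101020 F216805)
theorem F351203 : act 2 n140616 = n109196 := d4_3 F351202 F345277 D140616
theorem F351204 : act 1 n140616 = n135180 := d15_0 (iv0 D135180) (iv7 F351202) (iv2 F351203)
theorem F351205 : act 3 n114535 = n140616 := d0_0 F351203 F351199 F98571 (iv3 F98681) (iv2 F331541)
theorem F351206 : act 5 n134754 = n140616 := d2_0 F351203 F351200 D134754
theorem F351207 : act 6 n114533 = n140616 := d3_0 F351203 F351201 F351115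
theorem E101021 : n109197 = n65982 := (c15_2 (iv0 D109196) D109197 D140616 F351203)
theorem E101022 : n140613 = n50392 := ((D140613).symm.trans (sb E101021 (iv1 D109197)))
theorem F351208 : act 1 n50392 = n65982 := (sb E101022 (iv0 D140613))
theorem F351209 : act 7 n109215 = n108688 := d15_2 F351208 (iv0 F345276) F168621
theorem E101023 : n178140 = n140417 := ((c21_5 (iv5 D140615) (iv1 F351208) D109198 F169165 D140417 (iv6 D178140) (iv5 D84796) (iv1 D39186) D39188 D84806 (iv1 F345279))).symm
theorem F351210 : act 6 n140417 = n84796 := (sb E101023 (iv6 D178140))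
theorem E101024 : n140417 = n138486 := ((c7_4 F351210 (iv3 F325334) F336698 D138486)).symm
theorem F351211 : act 1 n138486 = n65908 := (sb E101024 (iv0 D140417))
theorem F351212 : act 5 n138486 = n111543 := (sb E101024 F223571)
theorem F351213 : act 6 n138486 = n84796 := (sb E101024 F351210)
theorem F351214 : act 6 n177965 = n156094 := d10_2 F351213 (iv4 F277518) F245256
theorem F351215 : act 3 n156096 = n177965 := d7_3 F351214 (iv3 D156094) D156096
theorem E101025 : n177964 = n156125 := (c6_4 F245336 F351215 (iv5 D177965) D177964)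
theorem F351216 : act 3 n156125 = n84716 := (sb E101025 (iv3 D177964))
theorem F351217 : act 2 n109199 = n109215 := d4_3 F351209 F168621 D109199
theorem E101026 : n115785 = n50396 := (c11_3 F351209 F168622 D115785 D109215)
theorem E101027 : n109213 = n108690 := (((iv2 F169171)).symm.trans (sb E101026 F337451))
theorem E101028 : n109217 = n65986 := ((D109217).symm.trans (sb E101026 F180162))
theorem E101029 : n109208 = n53388 := ((F169170).symm.trans (sb E101026 (iv7 D115785)))
theorem F351218 : act 2 n108690 = n50396 := (sb E101027 F169171)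
theorem E101030 : n106867 = n50395 := ((F337450).symm.trans (sb E101027 (iv7 D109213)))
theorem F351219 : act 6 n65986 = n50396 := (sb E101028 (iv6 D109217))
theorem F351220 : act 7 n53388 = n50396 := (sb E101029 (iv7 F169170))
theorem F351221 : act 2 n50395 = n53388 := (sb E101030 F164695)
theorem E101031 : n109210 = n50392 := ((D109210).symm.trans (sb E101030 F164696))
theorem E101032 : n109212 = n49377 := ((D109212).symm.trans (sb E101030 (iv6 D106867)))
theorem F351222 : act 7 n50395 = n108690 := (sb E101030 (iv7 F337450))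
theorem F351223 : act 4 n50392 = n50395 := (sb E101031 (iv4 D109210))
theorem F351224 : act 6 n49377 = n50395 := (sb E101032 (iv6 D109212))
theorem F351225 : act 6 n109190 = n109215 := d14_5 F351209 (iv6 D108688) F79523 D50390 D109190
theorem F351226 : act 6 n109209 = n106865 := d7_2 F351224 D109209 F164691
theorem F351227 : act 6 n109211 = n106869 := d12_2 F351224 D109211 (iv5 D106869) (iv6 D49378) D49377
theorem F351228 : act 2 n115784 = n109211 := d3_3 F351227 F164700 (iv6 F180161)
theorem F351229 : act 0 n109211 = n124014 := d21_4 F221908 (iv1 D106868) D106869 (iv6 F351227) (iv6 D124014) (iv5 F191991) F329572 (iv5 F329573) (iv6 F329735) D138773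
theorem F351230 : act 6 n180418 = n109094 := d21_3 D109211 F351229 (iv5 F345425) (iv1 D109094) (iv6 D50364) (iv5 D24555) (iv1 D11616) D11618 D24565 D50395
theorem F351231 : act 7 n109214 = n115773 := d8_2 F351220 D109214 F180147
theorem F351232 : act 7 n109216 = n115784 := d13_2 F351220 D109216 (iv5 D115784)
theorem F351233 : act 6 n140585 = n109214 := d14_5 F351231 (iv6 D115773) F84236 D65974 D140585
theorem F351234 : act 2 n109214 = n184058 := d15_3 (iv0 D184058) (iv0 F331046) (iv7 F351231)
theorem E101033 : n184058 = n123754 := (c16_10 (iv4 D123754) (iv5 D57684) D57683 (iv5 F310575) D74376 (iv5 F350065) F350064 (iv5 F331048) (iv7 F351231) F351234)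
theorem F351235 : act 1 n123754 = n87796 := (sb E101033 (iv0 D184058))
theorem F351236 : act 2 n123754 = n109214 := (sb E101033 (iv2 F351234))
theorem F351237 : act 5 n109065 = n107255 := d21_0 (iv1 F342497) F223730 F351219 (iv1 D50396) (iv6 D24565) (iv5 D11618) D11615 D24552 D50354 D109065
theorem F351238 : act 3 n107267 = n109065 := d6_3 F351237 F165302 (iv5 F165313)
theorem F351239 : act 7 n107254 = n109065 := d13_0 F351237 (iv7 D107255) D107254
theorem F351240 : act 0 n140376 = n107255 := d21_10 (iv5 F351237) (iv1 F331091) (iv5 D153700) F109214 D72744 (iv6 F342483) (iv5 D138456) F100839 D65888 (iv6 F223483)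
theorem E101034 : n135180 = n108688 := ((c21_4 F79738 (iv1 F49247) (iv5 F79524) D108688 (iv1 F351204) (iv6 F351207) F178595 (iv1 F349732) (iv5 D109095) (iv6 D50364) (iv1 F79736))).symm
theorem F351241 : act 0 n108688 = n140616 := (sb E101034 (iv1 F351204))
theorem F351242 : act 1 n108688 = n63522 := (sb E101034 (iv0 D135180))
theorem E101035 : n135181 = n109199 := (c15_2 F351242 D135181 (iv7 D109199) (iv2 F168621))
theorem F351243 : act 0 n109199 = n63522 := (sb E101035 (iv1 D135181))
theorem F351244 : act 3 n184054 = n135150 := d20_3 (iv4 D87796) D87794 D184054 (iv1 D135150) (iv3 F345284) F345285 (iv1 F351242) F168622 (iv3 F180147) F331046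
theorem E101036 : n179743 = n108489 := (c20_5 F168622 (iv1 F337448) (iv4 F343111) F343110 D179743 (iv3 D108489) F79286 (iv1 D29996) D29997 D63522 (iv1 F351242))
theorem F351245 : act 1 n108489 = n85857 := (sb E101036 (iv0 D179743))
theorem F351246 : act 4 n139297 = n111357 := d18_7 (iv1 F168623) (iv4 F337452) F351243 (iv4 F345285) (iv5 F172897) F172896 D139297 F172803 F81286
theorem E101037 : n179778 = n135149 := ((c20_5 (iv4 F337452) F351243 (iv4 F345285) F345284 D135149 (iv3 D179778) (iv4 D85868) (iv1 D39716) D39717 F337465 (iv1 F168623))).symm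
theorem F351247 : act 3 n135149 = n85868 := (sb E101037 (iv3 D179778))
theorem F351248 : act 1 n109199 = n140616 := d15_1 (iv0 F351243) (iv7 D140616) (iv2 F345277)
theorem F351249 : act 6 n111710 = n139297 := d10_0 F351246 F345424 D111710
theorem E101038 : n140504 = n140352 := (c21_5 (iv5 F345332) (iv1 D140501) (iv5 D65945) D65946 D140504 F350389 F350387 F351241 (iv5 F351206) F216803 F180853)
theorem F351250 : act 1 n140352 = n65946 := (sb E101038 (iv0 D140504))
theorem E101039 : n140505 = n140420 := (c15_2 F351250 D140505 (iv7 D140420) (iv2 F223461))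
theorem F351251 : act 0 n140420 = n65946 := (sb E101039 (iv1 D140505))
theorem F351252 : act 7 n140612 = n114535 := d8_0 F351205 (iv7 D140616) (iv3 F223725)
theorem F351253 : act 2 n134810 = n140612 := d4_3 F351252 F331541 (iv7 F216928)
theorem F351254 : act 4 n114514 = n140612 := d11_3 F351252 F178598 (iv7 F178578)
theorem F351255 : act 5 n134846 = n140612 := d13_3 F351252 F331542 (iv7 F217037)
theorem F351256 : act 1 n134861 = n140612 := d15_1 D134861 F351252 F331541
theorem F351257 : act 4 n114372 = n134861 := d18_7 (iv1 F217038) D134854 F343133 (iv4 F314696) F340014 F178382 D114372 F351256 (iv5 F351255)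
theorem F351258 : act 4 n113124 = n113057 := d18_7 (iv1 F205571) F351257 (iv1 D134861) (iv4 F331543) F112704 F83402 D113124 F176144 (iv5 F205569)
theorem F351259 : act 4 n134810 = n157737 := d1_2 F351254 (iv2 F351253) F248607
theorem F351260 : act 3 n157737 = n134804 := d5_1 F351259 (iv4 D134804) F98621 D63348 D134810
theorem F351261 : act 6 n140610 = n134810 := d10_0 F351259 (iv6 D157737) (iv4 F331525)
theorem E101040 : n164230 = n133412 := (c19_20 (iv1 F214524) (iv5 F248608) (iv4 F351259) (iv3 D134810) F98631 (iv5 D30551) (iv4 D14493) F11200 (iv1 F11196) F11198 F8963 (iv3 F9998) (iv1 D5736) F7905 (iv4 F18433) (iv3 F27090) (iv1 F54426) D35915 D78895 D164230)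
theorem F351262 : act 3 n133412 = n78895 := (sb E101040 (iv3 D164230))
theorem F351263 : act 4 n133412 = n112895 := (sb E101040 (iv4 F340023))
theorem F351264 : act 5 n134804 = n151670 := d6_2 (iv5 F248608) F351260 F238522
theorem F351265 : act 6 n134804 = n118762 := d7_2 D157737 F351260 F186811
theorem F351266 : act 7 n134804 = n118775 := d8_2 (iv7 F248609) F351260 F186826
theorem F351267 : act 4 n118775 = n134806 := d11_1 F351266 (iv7 D134806) D134804
theorem F351268 : act 6 n134806 = n118774 := d10_2 D118775 F351267 F186825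
theorem F351269 : act 3 n106686 = n151710 := d19_19 (iv1 D151710) (iv5 F186827) F351267 F216918 (iv1 F98639) F79241 (iv4 D50059) F38288 (iv1 F46326) (iv5 F46328) F39753 F39752 F22687 F18022 D13959 D29339 D61931 (iv5 F342925) F343659
theorem F351270 : act 3 n118774 = n134815 := d7_1 F351268 (iv6 D134815) (iv3 F216918)
theorem F351271 : act 7 n118761 = n134805 := d14_4 D134806 F351268 (iv7 D118774) (iv6 F186810) (iv6 D134805)
theorem F351272 : act 3 n134814 = n118761 := d8_3 F351271 F216916 D134814
theorem F351273 : act 4 n134805 = n118762 := d11_1 F351271 (iv7 D118762) D118761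
theorem F351274 : act 5 n152054 = n146399 := d16_3 (iv4 F186700) F307802 (iv4 F239073) F343207 (iv5 F216917) F351273 F186812 (iv7 D54676) (iv2 F86419)
theorem F351275 : act 0 n152048 = n148796 := d19_4 D146399 (iv5 F351274) F239073 (iv3 F239071) (iv5 D148796) F106116 (iv3 D32376) F26929 (iv5 F50100) (iv4 D31797) (iv3 F41287) (iv1 F41289) (iv5 F50449) D14984 (iv3 F24624) (iv1 F20668) D15070 D31940 D68643
theorem F351276 : act 6 n118772 = n134814 := d7_0 F351272 F186810 D118772
theorem F351277 : act 2 n135198 = n118772 := d3_3 F351276 F216932 D135198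
theorem F351278 : act 7 n134815 = n118772 := d14_0 F351276 (iv7 D134814) (iv6 D63349) D63350 D134815
theorem F351279 : act 0 n118772 = n90232 := d21_4 (iv5 D134433) (iv1 F216086) (iv5 F216933) (iv6 F351276) (iv6 D90232) (iv5 D42173) D42170 (iv5 F294272) F341408 (iv1 F343181)
theorem E101041 : n135200 = n90232 := (c15_1 D135200 (iv0 F351279) (iv7 F351278) F216937)
theorem F351280 : act 0 n90232 = n63527 := (sb E101041 (iv1 D135200))
theorem F351281 : act 4 n90232 = n108590 := (sb E101041 (iv4 F351190))
theorem E101042 : n109007 = n108590 := ((c10_2 D90232 F351281 F169009 (iv4 F327616))).symm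
theorem F351282 : act 2 n108590 = n108496 := (sb E101042 (iv2 F343107))
theorem F351283 : act 5 n108590 = n50328 := (sb E101042 (iv5 D109007))
theorem F351284 : act 6 n108590 = n50331 := (sb E101042 F169009)
theorem F351285 : act 4 n109006 = n116103 := d17_9 (iv1 D116103) D116104 F345412 (iv5 D109221) (iv4 F98564) F98565 D108590 F351283 D109006
theorem E101043 : n170862 = n134747 := (c21_10 F351187 (iv1 F167926) F351283 (iv6 D50328) (iv1 F79678) (iv6 F341329) (iv5 D75207) (iv1 F58390) D81911 D170862 (iv1 F351184))
theorem F351286 : act 2 n134747 = n106929 := (sb E101043 (iv2 F343155))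
theorem F351287 : act 6 n134747 = n81911 := (sb E101043 (iv6 D170862))
theorem F351288 : act 7 n106930 = n134747 := d15_2 (iv0 D106929) D106930 F351286
theorem F351289 : act 7 n134748 = n106929 := d15_2 (iv0 D134747) D134748 (iv2 F351286)
theorem F351290 : act 2 n106930 = n134748 := d4_3 F351289 (iv2 F351286) (iv7 F351288)
theorem F351291 : act 3 n90304 = n109006 := d20_5 F139624 (iv1 F293358) D46910 (iv3 F340057) F139688 F351285 (iv1 D116103) (iv4 F331073) (iv3 D90916) (iv1 F139622)
theorem F351292 : act 3 n107100 = n116103 := d5_5 (iv4 F351285) (iv3 F351291) (iv4 D90304) (iv3 F138905) F335540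
theorem F351293 : act 5 n116103 = n107091 := d6_2 (iv5 F165071) F351292 F165065
theorem F351294 : act 7 n116103 = n107090 := d8_2 D107100 F351292 F165064
theorem F351295 : act 7 n90670 = n109006 := d11_2 F351294 (iv4 F335538) F351285
theorem F351296 : act 2 n107090 = n116102 := d15_3 (iv0 D116102) D116103 F351294
theorem F351297 : act 5 n116102 = n107087 := d2_2 D107090 F351296 F165063
theorem F351298 : act 2 n90670 = n109005 := d15_3 (iv0 D109005) D109006 (iv7 F351295)
theorem F351299 : act 4 n109005 = n116102 := d1_2 (iv4 F335538) F351298 (iv2 F351296)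
theorem F351300 : act 7 n108495 = n108590 := d15_2 F167929 F167930 F351282
theorem F351301 : act 7 n108589 = n108496 := d15_2 F167926 F167928 (iv2 F351282)
theorem F351302 : act 2 n108495 = n108589 := d4_3 F351301 (iv2 F351282) (iv7 F351300)
theorem F351303 : act 5 n109008 = n108495 := d13_3 F351300 F351283 D109008
theorem F351304 : act 1 n118772 = n135199 := d15_0 (iv0 D135199) (iv7 F217372) F351277
theorem F351305 : act 1 n140612 = n134860 := d15_0 (iv0 D134860) (iv7 F216928) F351253
theorem F351306 : act 5 n156310 = n134860 := d21_0 (iv1 F351305) (iv5 F351255) (iv6 F345304) (iv1 F345308) (iv6 F339995) (iv5 D107513) F83906 F331800 (iv6 F111563) D156310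
theorem F351307 : act 5 n112890 = n133352 := d17_7 D156310 F351306 (iv1 F351305) (iv5 F351255) F217036 (iv5 F176106) F176108 (iv0 D133352) (iv4 F111562)
theorem E101044 : n140499 = n140418 := (c21_4 D141847 F345314 (iv5 D140498) D140499 (iv1 D140418) (iv6 F169165) (iv5 D109198) D109196 F351200 F98570 D66505)
theorem F351308 : act 2 n140418 = n65946 := (sb E101044 F223659)
theorem F351309 : act 6 n140418 = n65944 := (sb E101044 (iv6 D140499))
theorem F351310 : act 2 n109095 = n134866 := d2_3 F351197 F331072 D109095
theorem F351311 : act 3 n90323 = n134866 := d6_3 F351197 (iv3 D90916) (iv5 F138947)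
theorem F351312 : act 6 n108664 = n134866 := d12_0 F351197 F331074 (iv5 D50174) D50175 D108664
theorem F351313 : act 7 n90321 = n134866 := d13_0 F351197 F295009 F342493
theorem E101045 : n157743 = n90321 := (c15_2 F349732 D157743 F351313 (iv2 F351310))
theorem F351314 : act 0 n90321 = n75159 := (sb E101045 (iv1 D157743))
theorem F351315 : act 1 n90321 = n134756 := (sb E101045 F351195)
theorem E101046 : n107088 = n103621 := (c21_8 (iv5 F216808) (iv1 F351315) (iv5 F342493) (iv6 F331079) (iv1 F331116) F165301 (iv5 D107090) D107088 (iv5 F351133) (iv6 F351127) (iv1 D140606))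
theorem F351316 : act 1 n103621 = n49467 := (sb E101046 (iv0 D107088))
theorem E101047 : n100703 = n90489 := (c19_9 (iv1 F351316) (iv5 F351133) F351130 (iv3 D100583) (iv1 F293366) (iv5 D90709) F292307 (iv3 F74179) D100703 (iv5 D90489) (iv4 F74372) F74371 F126434 (iv5 F329868) F101861 (iv3 F111170) (iv1 D49482) (iv5 D24148) (iv4 F37851) (iv3 F78218))
theorem F351317 : act 1 n90489 = n46963 := (sb E101047 (iv0 D100703))
theorem F351318 : act 0 n106876 = n107090 := d21_10 (iv5 D107090) (iv1 F351316) (iv5 F351133) (iv6 F351127) (iv1 D140606) (iv6 D65980) F49326 (iv1 F37760) D49381 D106876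
theorem E101048 : n107196 = n106973 := ((c21_5 (iv5 F351133) (iv1 D109220) D109221 F169173 (iv1 F330472) (iv6 D107196) (iv5 F172113) (iv1 D49551) F37899 D49467 (iv1 F351316))).symm
theorem F351319 : act 6 n106973 = n49523 := (sb E101048 (iv6 D107196))
theorem F351320 : act 6 n107194 = n156184 := d10_2 F351319 D107194 F245449
theorem E101049 : n156187 = n53314 := (c7_3 F351320 (iv3 D156184) D156187 F165213)
theorem E101050 : n115576 = n85545 := ((D115576).symm.trans (sb E101049 F325781))
theorem E101051 : n115578 = n74299 := ((D115578).symm.trans (sb E101049 (iv6 D156187)))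
theorem E101052 : n179270 = n59599 := ((D179270).symm.trans (sb E101050 (iv0 F204136)))
theorem F351321 : act 4 n85545 = n53314 := (sb E101050 (iv4 D115576))
theorem F351322 : act 6 n74299 = n53314 := (sb E101051 (iv6 D115578))
theorem F351323 : act 0 n59599 = n85545 := (sb E101052 (iv1 D179270))
theorem F351324 : act 4 n179256 = n107193 := d20_6 F320297 (iv1 F92337) F319056 D59599 F351323 (iv3 F279179) F225606 F225588 F163557 (iv1 F318528)
theorem F351325 : act 6 n179271 = n132595 := d21_9 D132596 F336920 F325473 (iv6 D62146) (iv1 D29419) D29422 F324737 F351323 D179271 (iv1 D132595)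
theorem F351326 : act 7 n115581 = n179250 := d15_2 (iv0 F351323) (iv0 F224449) F279176
theorem E101053 : n179269 = n125997 := ((c15_4 (iv0 D179269) (iv0 F351323) F325969 (iv2 F202677))).symm
theorem F351327 : act 1 n125997 = n85545 := (sb E101053 (iv0 D179269))
theorem F351328 : act 2 n179272 = n115581 := d15_3 F350849 F351327 D179272
theorem F351329 : act 0 n127007 = n179271 := d21_10 (iv5 D179271) (iv1 F351327) (iv5 F350846) (iv6 F324941) F324938 D129353 (iv5 F350903) (iv1 F344115) (iv5 D133176) (iv6 F324375)
theorem F351330 : act 0 n110428 = n124958 := d21_10 (iv5 F243736) F350634 (iv5 D85544) D85545 (iv1 F351327) (iv6 D125997) (iv5 D59010) F45310 (iv5 F80333) D110428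
theorem F351331 : act 1 n113195 = n124958 := d15_0 (iv0 F351330) F347943 F347942
theorem E101054 : n178916 = n119599 := (c15_4 F347855 F351331 F200685 D178916)
theorem F351332 : act 2 n119599 = n85309 := (sb E101054 (iv2 D178916))
theorem F351333 : act 2 n178917 = n179264 := d2_3 F347850 F351332 D178917
theorem F351334 : act 6 n95832 = n178917 := d3_0 F351333 (iv6 F347849) (iv2 F149939)
theorem F351335 : act 4 n178917 = n96241 := d10_1 F351334 (iv6 D96241) (iv4 F147519)
theorem F351336 : act 0 n178917 = n179268 := d21_4 (iv5 F301505) (iv1 F188636) F300852 F351334 (iv6 F347913) (iv5 F262048) (iv1 F346937) (iv5 F330730) (iv6 F330759) (iv1 D95743)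
theorem E101055 : n178914 = n52246 := (c21_8 F79920 F39656 D51012 F309693 D95832 F351334 (iv5 D178917) D178914 (iv5 F347903) (iv6 F347908) (iv1 F80479))
theorem E101056 : n113194 = n85309 := ((D113194).symm.trans (sb E101055 (iv0 D178914)))
theorem F351337 : act 0 n85309 = n52246 := (sb E101056 (iv1 D113194))
theorem E101057 : n179309 = n178915 := (((D178915).symm.trans (sb E101056 F347948))).symm
theorem F351338 : act 1 n178915 = n113193 := (sb E101057 F347944)
theorem F351339 : act 2 n178915 = n113195 := (sb E101057 F347942)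
theorem F351340 : act 3 n178915 = n133328 := (sb E101057 F347945)
theorem F351341 : act 4 n178915 = n115707 := (sb E101057 F347946)
theorem F351342 : act 5 n178915 = n85555 := (sb E101057 (iv5 D179309))
theorem F351343 : act 6 n178915 = n115696 := (sb E101057 F347947)
theorem F351344 : act 7 n178915 = n110428 := (sb E101057 (iv7 F347943))
theorem F351345 : act 7 n113193 = n119599 := d15_2 D178915 F351338 F351332
theorem F351346 : act 2 n124958 = n113193 := d4_3 F351345 F351332 (iv7 F200685)
theorem F351347 : act 3 n113193 = n178906 := d0_2 D124958 F351346 (iv2 D178906) (iv3 D85305) (iv2 F92255)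
theorem F351348 : act 4 n134209 = n178906 := d20_8 F351341 F347950 F166055 (iv3 D49727) D49725 D107634 F166241 D134209 (iv3 F351347) (iv1 F351338)
theorem F351349 : act 2 n178900 = n134209 := d1_3 F351348 (iv2 D178906) (iv4 F278778)
theorem F351350 : act 7 n134210 = n178900 := d15_2 (iv0 D134209) D134210 F351349
theorem F351351 : act 3 n124791 = n134210 := d8_3 F351350 (iv3 D178900) (iv7 F200459)
theorem F351352 : act 4 n124961 = n134210 := d11_3 F351350 F278778 (iv7 F200692)
theorem F351353 : act 1 n115357 = n178652 := d17_8 F351337 (iv5 F347903) (iv1 F192213) F192210 (iv4 F320437) (iv5 F247036) (iv0 D156112) (iv5 F336199) F278461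
theorem E101058 : n179311 = n109565 := (c18_3 (iv1 D85555) D85556 D179311 F169517 F166933 (iv4 F179636) F351353 F278461 D178915 F351342)
theorem F351354 : act 1 n109565 = n85556 := (sb E101058 (iv0 D179311))
theorem F351355 : act 1 n107598 = n107590 := d18_6 (iv1 D156045) F111078 D131916 F211370 (iv5 F167100) F167099 (iv4 F179636) F351353 (iv5 F332268)
theorem F351356 : act 7 n179312 = n111845 := d15_2 F351354 D179312 F173666
theorem F351357 : act 5 n112930 = n179312 := d13_3 F351356 (iv5 F336225) F175968
theorem F351358 : act 3 n179312 = n111848 := d6_1 F351357 F330766 D112930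
theorem F351359 : act 1 n178917 = n179249 := d15_1 (iv0 F351336) F279175 (iv2 F279188)
theorem F351360 : act 6 n132606 = n179249 := d21_3 F348891 (iv1 F212841) D132606 (iv1 F351359) (iv6 F351334) (iv5 F300852) F300850 F197994 (iv6 F149809) F348893
theorem F351361 : act 2 n179267 = n132606 := d3_3 F351360 F279174 D179267
theorem E101059 : n179250 = n126006 := (c12_3 F351360 (iv5 D179249) D179250 F350852 (iv6 D132607) D132606)
theorem F351362 : act 2 n126006 = n85545 := (sb E101059 F279176)
theorem F351363 : act 6 n126006 = n85541 := (sb E101059 (iv6 D179250))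
theorem F351364 : act 7 n126006 = n115581 := (sb E101059 (iv7 F351326))
theorem F351365 : act 3 n126924 = n126006 := d8_3 F351364 (iv3 F179888) D126924
theorem E101060 : n115575 = n115251 := (c11_3 F351364 (iv4 D115581) F179886 (iv4 F350851))
theorem F351366 : act 2 n115251 = n53314 := (sb E101060 (iv2 D115575))
theorem F351367 : act 7 n115251 = n53315 := (sb E101060 (iv7 F179886))
theorem F351368 : act 6 n115581 = n179288 := d14_1 F351364 (iv7 D179288) (iv6 D85550) F130719 (iv6 F351363)
theorem E101061 : n179272 = n126005 := (c15_4 (iv0 D126005) D126006 F351364 (iv2 F351328))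
theorem F351369 : act 2 n126005 = n115581 := (sb E101061 F351328)
theorem F351370 : act 7 n126005 = n85545 := (sb E101061 (iv7 D179272))
theorem F351371 : act 4 n115579 = n126005 := d11_3 F351370 F351321 D115579
theorem F351372 : act 1 n126991 = n126005 := d15_1 F350850 F351370 (iv2 F351362)
theorem F351373 : act 5 n132714 = n126005 := d21_6 D60778 F97418 (iv5 D29467) D29468 D62278 D132714 (iv1 F351372) F324736 (iv6 D62148) (iv1 F47142)
theorem F351374 : act 7 n179271 = n132714 := d13_0 F351373 F351370 D179271
theorem E101062 : n115579 = n115250 := (c20_1 (iv4 F351371) (iv1 F179495) D115584 (iv3 F179892) (iv1 F321555) F200849 F92331 F319058 D53716 F325379 D126005)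
theorem F351375 : act 2 n115250 = n53315 := (sb E101062 F179887)
theorem F351376 : act 4 n115250 = n126005 := (sb E101062 F351371)
theorem F351377 : act 7 n115250 = n53314 := (sb E101062 (iv7 D115579))
theorem F351378 : act 3 n179288 = n126923 := d7_1 F351368 (iv6 D126923) F179888
theorem F351379 : act 4 n179288 = n115583 := d10_1 F351368 (iv6 D115583) D115581
theorem E101063 : n179288 = n121095 := (c21_6 F80328 (iv1 F45311) D59010 D125997 (iv1 F350849) F351368 (iv5 D121095) (iv1 D55875) F323132 (iv6 D50922) D50919)
theorem F351380 : act 3 n121095 = n126923 := (sb E101063 F351378)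
theorem F351381 : act 4 n121095 = n115583 := (sb E101063 F351379)
theorem F351382 : act 6 n121095 = n115581 := (sb E101063 (iv6 F351368))
theorem F351383 : act 7 n121095 = n85550 := (sb E101063 (iv7 D179288))
theorem F351384 : act 7 n179279 = n126923 := d8_2 F351383 (iv3 F279194) (iv3 F351380)
theorem E101064 : n156192 = n115670 := (c11_2 F351383 (iv4 F323268) (iv7 F339874) (iv4 F351381))
theorem F351385 : act 4 n115670 = n85550 := (sb E101064 F323268)
theorem F351386 : act 6 n115670 = n74300 := (sb E101064 (iv6 D156192))
theorem F351387 : act 1 n179273 = n162792 := d15_0 (iv0 F348469) F351383 (iv2 F279191)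
theorem E101065 : n179273 = n121090 := (c21_8 (iv5 F330730) (iv1 F262037) (iv5 D79921) D79922 F330768 (iv6 F119452) D162792 (iv1 F351387) (iv5 D121090) D121091 (iv1 F346937))
theorem F351388 : act 1 n121090 = n162792 := (sb E101065 F351387)
theorem F351389 : act 2 n121090 = n85550 := (sb E101065 F279191)
theorem F351390 : act 6 n121090 = n85546 := (sb E101065 (iv6 D179273))
theorem E101066 : n179246 = n39490 := (c21_11 D85553 (iv1 F339812) F175186 (iv6 D110428) (iv1 D50920) D50922 (iv5 F323132) D55874 D121090 F351390 (iv1 F279170))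
theorem E101067 : n85551 = n85541 := ((D85551).symm.trans (sb E101066 (iv1 D179246)))
theorem E101068 : n85552 = n85546 := ((D85552).symm.trans (sb E101066 F279170))
theorem E101069 : n179245 = n39492 := ((D179245).symm.trans (sb E101067 (iv1 F130721)))
theorem F351391 : act 1 n85541 = n39490 := (sb E101067 (iv0 D85551))
theorem F351392 : act 0 n85546 = n39490 := (sb E101068 (iv1 D85552))
theorem F351393 : act 0 n39492 = n85546 := (sb E101069 (iv1 F279169))
theorem F351394 : act 1 n39492 = n85541 := (sb E101069 (iv0 D179245))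
theorem E101080 : n156183 = n155999 := ((c20_11 F323269 (iv1 F351394) (iv4 F318282) (iv3 D74632) D74630 (iv3 F319507) (iv4 F317223) (iv1 F172506) F172411 F167144 (iv1 F245082))).symm
theorem F351395 : act 2 n155999 = n74299 := (sb E101080 (iv2 D156183))
theorem F351396 : act 4 n155999 = n85541 := (sb E101080 F323269)
theorem F351397 : act 7 n155999 = n74300 := (sb E101080 (iv7 F245448))
theorem F351398 : act 3 n156200 = n155999 := d20_5 F112061 (iv1 F315452) F315455 F175959 (iv1 F245474) F351396 (iv1 F351394) (iv4 F318282) (iv3 D74632) D74630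
theorem E101081 : n156189 = n115710 := (c8_4 (iv7 F347952) F351398 F351397 D156189)
theorem F351399 : act 0 n115710 = n156001 := (sb E101081 F247045)
theorem F351400 : act 1 n115710 = n74312 := (sb E101081 F247046)
theorem F351401 : act 3 n115710 = n74300 := (sb E101081 (iv3 D156189))
theorem E101082 : n156191 = n115667 := (c6_3 D115710 F351401 D156191 F180035)
theorem F351402 : act 5 n115667 = n74300 := (sb E101082 (iv5 D156191))
theorem F351403 : act 6 n115650 = n156291 := d21_5 F245083 (iv1 F245084) (iv5 F351402) (iv6 D115667) (iv1 F180015) (iv5 D156291) (iv1 F111534) D115292 (iv6 F347955) (iv1 F245473)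
theorem F351404 : act 5 n156292 = n139634 := d12_3 F351403 (iv5 D156291) D156292 (iv6 D139634) (iv5 F180017)
theorem E101083 : n156289 = n115580 := ((c21_5 (iv5 D53339) (iv1 F173695) D115613 F336231 (iv1 F224450) F245584 (iv5 D74342) D74340 D156291 (iv6 F351403) (iv1 D115650))).symm
theorem F351405 : act 5 n115580 = n74339 := (sb E101083 (iv5 D156289))
theorem F351406 : act 6 n115580 = n74342 := (sb E101083 F245584)
theorem F351407 : act 0 n139634 = n115430 := d21_7 (iv5 F111036) (iv1 F111037) F53511 D34102 D74340 D156292 F351404 (iv5 D115430) F99221 (iv1 F99219)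
theorem F351408 : act 1 n156292 = n115529 := d17_8 F111544 F111542 (iv1 D51695) F40801 D53248 D115430 (iv0 F351407) (iv5 F351404) F179814
theorem E101084 : n152838 = n139634 := ((c15_2 F339859 (iv0 F351407) (iv7 D152838) (iv2 F318317))).symm
theorem F351409 : act 7 n139634 = n72118 := (sb E101084 (iv7 D152838))
theorem F351410 : act 7 n152837 = n156292 := d13_2 F351409 D152837 F351404
theorem E101085 : n152835 = n141068 := ((c15_1 F339860 (iv0 D152835) (iv7 F351409) F339863)).symm
theorem F351411 : act 1 n141068 = n72118 := (sb E101085 (iv0 D152835))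
theorem E101086 : n152836 = n66158 := (c15_2 F351411 D152836 (iv7 F339852) D141068)
theorem E101087 : n141070 = n72118 := ((D141070).symm.trans (sb E101086 (iv1 D152836)))
theorem F351412 : act 1 n72118 = n66158 := (sb E101087 (iv0 D141070))
theorem F351413 : act 1 n152837 = n156133 := d17_8 F111163 (iv5 D51714) (iv1 F81626) (iv5 F83957) D115238 (iv5 F339857) F351411 D152837 F245352
theorem F351414 : act 4 n115417 = n175346 := d18_5 F101267 F101266 D110842 (iv4 F171691) D115417 (iv0 F274394) F240048 F351412 (iv5 D66158)
theorem F351415 : act 3 n115417 = n115409 := d20_3 (iv4 F240048) F274394 (iv4 F351414) (iv1 D115409) F84088 F40800 D25817 D53246 (iv3 F339850) (iv1 F351412)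
theorem F351416 : act 5 n115409 = n115416 := d6_2 D115417 F351415 (iv3 D115416)
theorem F351417 : act 6 n175345 = n115417 := d10_0 F351414 (iv6 D175346) D175345
theorem F351418 : act 5 n175346 = n142134 := d16_3 (iv4 F171691) D115417 F351414 (iv4 F346906) (iv5 D155954) F110928 (iv5 F85071) (iv7 F165843) F171687
theorem F351419 : act 3 n140820 = n175346 := d6_3 F351418 F225163 F223892
theorem F351420 : act 0 n175346 = n139799 := d21_7 D140715 (iv1 F225028) (iv5 D142001) D142002 F348369 D142134 (iv5 F351418) (iv5 F348062) (iv6 D144459) F180262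
theorem F351421 : act 2 n175346 = n116054 := d0_1 F351419 (iv3 D116054) F326374 F322611 (iv2 F348838)
theorem F351422 : act 7 n175346 = n140914 := d8_2 (iv7 F348841) F351419 (iv3 D140914)
theorem F351423 : act 0 n115417 = n117083 := d20_7 F324739 (iv1 F117632) (iv4 F324992) (iv3 F101748) (iv1 F223891) F351419 (iv4 F351414) (iv4 D117083) F85081 D53954
theorem F351424 : act 0 n141075 = n115417 := d20_7 (iv4 F342429) F342426 (iv4 D68248) D68247 (iv1 F322221) F318326 D141075 F351414 (iv3 F351419) (iv1 D140820)
theorem F351425 : act 1 n115420 = n117083 := d15_0 (iv0 F351423) (iv7 F245189) F245188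
theorem F351426 : act 1 n141075 = n115420 := d15_0 F351425 F318322 (iv2 F318327)
theorem E101088 : n116716 = n115423 := (c17_4 (iv1 F318319) F316908 (iv1 F318332) (iv5 F224077) (iv4 D115423) (iv5 D53244) D53243 D115420 F351425 (iv4 D117083))
theorem F351427 : act 0 n115423 = n151305 := (sb E101088 F345701)
theorem F351428 : act 1 n115423 = n152713 := (sb E101088 (iv0 F345705))
theorem F351429 : act 5 n115423 = n141079 := (sb E101088 F224077)
theorem F351430 : act 6 n115423 = n53781 := (sb E101088 (iv6 D116716))
theorem F351431 : act 4 n115420 = n150913 := d20_2 D117083 (iv1 F351425) (iv3 D150913) (iv1 D71144) F52118 (iv4 F316109) (iv1 F20405) D14642 D30927 F318442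
theorem F351432 : act 0 n115519 = n156302 := d21_10 (iv5 F346902) (iv1 F351425) (iv5 D115420) F110966 (iv1 D74188) F53388 D64707 (iv1 F179806) (iv5 D115518) D115519
theorem F351433 : act 4 n140914 = n156053 := d1_2 F351431 (iv2 F348825) F245188
theorem F351434 : act 1 n150913 = n139799 := d18_6 F179468 (iv4 F168794) (iv1 F168796) F85073 D115420 F351431 (iv4 F339861) F339860 F339857
theorem F351435 : act 1 n152831 = n150913 := d15_0 F351434 (iv7 F320486) (iv2 F240047)
theorem F351436 : act 7 n150913 = n116054 := d15_2 (iv0 F274394) F351435 (iv2 F351421)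
theorem F351437 : act 0 n139931 = n150914 := d20_7 F240048 (iv1 F351411) F224070 (iv3 F169835) (iv1 F208258) (iv3 F222929) (iv4 F223161) (iv4 D150914) D150913 (iv1 F351435)
theorem E101089 : n156053 = n152801 := (c20_7 (iv4 F92302) F320501 (iv4 D30921) (iv3 F49355) D66100 D140914 F351433 (iv1 D152801) F108557 F318323 (iv1 F318338))
theorem F351438 : act 2 n152801 = n115420 := (sb E101089 F245188)
theorem F351439 : act 4 n152801 = n140914 := (sb E101089 (iv4 F351433))
theorem F351440 : act 5 n152801 = n74229 := (sb E101089 (iv5 D156053))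
theorem F351441 : act 6 n152801 = n115457 := (sb E101089 (iv6 F336211))
theorem F351442 : act 7 n152801 = n115417 := (sb E101089 F245189)
theorem F351443 : act 2 n115417 = n152800 := d15_3 (iv0 D152800) D152801 F351442
theorem F351444 : act 7 n115420 = n152800 := d4_2 (iv7 F351442) F351438 (iv2 F351443)
theorem F351445 : act 4 n152800 = n116054 := d11_1 F351444 (iv7 F351436) (iv4 F351431)
theorem F351446 : act 5 n152800 = n115235 := d13_1 F351444 F179458 D115420
theorem F351447 : act 6 n138373 = n152800 := d12_0 F351446 (iv6 F245180) (iv5 F330542) F323216 (iv5 F319533)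
theorem F351448 : act 0 n118258 = n116054 := d18_2 (iv1 F339859) (iv4 F320485) (iv4 F351445) F351446 F179456 F171689 (iv4 F168789) (iv0 F168790) D115430
theorem F351449 : act 6 n178780 = n115236 := d21_5 F313697 (iv1 F278647) (iv5 D85195) D85196 D178780 (iv5 D115236) D115235 (iv5 F351446) (iv6 F351447) (iv1 F246106)
theorem F351450 : act 2 n115414 = n178780 := d3_3 F351449 F179460 (iv6 F179713)
theorem F351451 : act 5 n110430 = n178780 := d12_5 F351449 (iv5 D115236) (iv6 D53166) (iv5 F80338) D110430
theorem E101090 : n178780 = n157096 := (c16_6 F209898 (iv5 F316541) F88203 F323132 (iv4 F170808) F351451 (iv4 D157096) (iv5 F316175) (iv7 F189568) (iv2 F209897))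
theorem F351452 : act 1 n157096 = n85196 := (sb E101090 (iv0 D178780))
theorem F351453 : act 2 n157096 = n115414 := (sb E101090 (iv2 F351450))
theorem F351454 : act 5 n157096 = n110430 := (sb E101090 (iv5 F351451))
theorem F351455 : act 6 n157096 = n115236 := (sb E101090 F351449)
theorem F351456 : act 4 n160397 = n156143 := d19_18 (iv1 F351452) F351454 F170808 F321468 D55879 F88384 (iv4 D27685) (iv3 F44618) D58056 F117715 (iv4 F113103) (iv3 F321351) (iv1 F330275) F313287 (iv4 F305789) (iv3 D124409) D124407 F301181 F319076
theorem F351457 : act 6 n126828 = n178782 := d21_5 (iv5 D60467) F46318 D49517 D107180 F326818 (iv5 D178782) (iv1 F351452) F351454 (iv6 D110430) (iv1 F95028)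
theorem F351458 : act 4 n178782 = n126830 := d10_1 F351457 (iv6 D126830) D126828
theorem F351459 : act 5 n178779 = n126828 := d12_5 F351457 (iv5 D178782) (iv6 D85196) D85195 D178779
theorem F351460 : act 6 n156142 = n160397 := d10_0 F351456 (iv6 D156143) D156142
theorem F351461 : act 5 n156143 = n160325 := d16_3 (iv4 F198957) F301181 F351456 (iv4 D160325) (iv5 D76839) (iv4 F115874) (iv5 F299373) F325827 (iv2 F325831)
theorem F351462 : act 0 n156143 = n115726 := d18_2 D160397 F351456 F180050 F351085 F118753 F326979 (iv4 F326985) (iv0 D76887) D76890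
theorem F351463 : act 4 n137331 = n160395 := d20_8 F351456 F351462 F180050 (iv3 D111118) (iv1 D51244) (iv3 F80832) (iv4 F100503) D137331 F253342 D160397
theorem F351464 : act 3 n156794 = n160397 := d20_5 F39068 F100218 (iv4 F163980) D107396 F318310 F351456 F351462 F180050 (iv3 D111118) (iv1 D51244)
theorem E101091 : n178778 = n174104 := ((c5_4 (iv4 F351456) (iv3 F351464) F319899 (iv3 F272912) F278657 (iv3 F319076))).symm
theorem F351465 : act 4 n174104 = n85196 := (sb E101091 F278657)
theorem F351466 : act 6 n174104 = n85194 := (sb E101091 (iv6 D178778))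
theorem F351467 : act 2 n156725 = n174104 := d3_3 F351466 (iv2 F313375) D156725
theorem F351468 : act 5 n174099 = n156725 := d2_0 F351467 (iv5 D174104) (iv2 F272903)
theorem F351469 : act 7 n177196 = n156725 := d4_0 F351467 F272913 (iv2 F276587)
theorem F351470 : act 5 n126830 = n163771 := d16_3 F351465 D178782 F351458 F258128 (iv5 F330710) F188029 D177196 F351469 F351467
theorem F351471 : act 1 n156725 = n141362 := d15_0 F342337 (iv7 F272913) (iv2 F351467)
theorem F351472 : act 5 n141362 = n167641 := d17_7 (iv1 F311386) (iv5 F330770) (iv1 F304983) F330763 D174099 F351468 F351471 (iv0 D167641) F123673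
theorem F351473 : act 6 n131687 = n167641 := d21_5 (iv5 F332051) F278069 (iv5 F311343) F149208 F313735 (iv5 F351472) (iv1 F351471) (iv5 F351468) (iv6 F344127) (iv1 F332054)
theorem F351474 : act 2 n167641 = n170282 := d3_1 F351473 (iv6 D170282) (iv2 F316293)
theorem F351475 : act 3 n167641 = n108361 := d7_1 F351473 (iv6 F343404) F343402
theorem F351476 : act 4 n167641 = n131688 := d10_1 F351473 (iv6 D131688) D131687
theorem F351477 : act 3 n131691 = n115695 := d5_3 F351476 F211053 (iv4 F211054) (iv4 F343405) (iv3 F351475)
theorem F351478 : act 0 n131688 = n118572 := d20_1 F351476 F186486 F86287 F316183 (iv3 F103232) (iv4 F318421) (iv1 D36683) (iv4 F57558) (iv3 F123672) D167641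
theorem E101092 : n131692 = n130423 := (c20_5 (iv4 F123673) D167641 F351476 F211053 D131692 (iv3 D130423) F130949 (iv1 F47840) (iv4 F96762) (iv3 F212314) F330748)
theorem F351479 : act 0 n130423 = n133047 := (sb E101092 (iv1 F217742))
theorem F351480 : act 1 n130423 = n61792 := (sb E101092 (iv0 D131692))
theorem F351481 : act 4 n130423 = n161165 := d20_0 (iv1 D161165) (iv4 F298788) F249997 F297009 (iv3 F115776) (iv4 F123673) D167641 F351476 F211053 (iv1 F351480)
theorem F351482 : act 0 n167643 = n155902 := d18_0 F244893 (iv1 D152878) F108580 (iv5 F86288) (iv4 F186486) (iv0 F351478) (iv4 F351476) (iv0 D167641) D167643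
theorem F351483 : act 0 n167641 = n131285 := d20_7 (iv4 F131033) (iv1 D71977) (iv4 F94610) (iv3 F205797) F341900 (iv3 F211053) (iv4 F351476) (iv4 F330751) (iv3 F330745) (iv1 F205785)
theorem F351484 : act 1 n116714 = n156950 := d18_6 F351483 (iv4 F330751) (iv1 F330749) (iv4 F345697) (iv5 D116715) D116714 F247023 F351471 F351472
theorem E101093 : n174468 = n115695 := (c20_2 F307672 (iv1 F275044) (iv4 F343405) (iv3 F351475) F351483 F210412 (iv4 F307963) (iv1 F106211) D69832 D148963 (iv1 F307670))
theorem F351485 : act 0 n115695 = n121991 := (sb E101093 (iv1 F275045))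
theorem F351486 : act 1 n115695 = n84933 := (sb E101093 F275044)
theorem F351487 : act 2 n115695 = n83388 := (sb E101093 (iv2 D174468))
theorem E101094 : n161889 = n53351 := ((((iv5 D115695)).symm.trans (sb E101093 F347182))).symm
theorem F351488 : act 7 n115695 = n121989 := (sb E101093 (iv7 F273349))
theorem E101095 : n115693 = n77748 := ((D115693).symm.trans (sb E101094 (iv1 D161889)))
theorem F351489 : act 1 n77748 = n53351 := (sb E101095 (iv0 D115693))
theorem F351490 : act 5 n131285 = n140112 := d21_2 F351472 F351483 (iv6 D140112) (iv1 F323753) (iv6 D139969) (iv5 F182083) (iv1 F205291) F205292 F321208 (iv1 F342337)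
theorem E101096 : n177254 = n140112 := ((c2_1 F351490 (iv2 D177254) F311407 F234283)).symm
theorem F351491 : act 2 n140112 = n84452 := (sb E101096 (iv2 D177254))
theorem F351492 : act 1 n140112 = n155902 := d15_0 (iv0 F351482) F299103 (iv2 F351491)
theorem F351493 : act 5 n155902 = n96181 := d17_7 F119015 D119372 F330769 D166500 F330751 F351490 F351492 F333722 (iv4 D83229)
theorem F351494 : act 2 n177034 = n155902 := d2_3 F351493 F147884 D177034
theorem F351495 : act 7 n177189 = n155902 := d13_0 F351493 F333731 D177189
theorem E101097 : n177196 = n116295 := (c21_3 F351493 F333721 D177196 (iv6 D116295) (iv1 F179983) F348372 (iv5 D152665) F307997 D182069 F283475 F351482)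
theorem F351496 : act 2 n116295 = n84430 := (sb E101097 F276587)
theorem F351497 : act 5 n116295 = n84429 := (sb E101097 (iv5 D177196))
theorem F351498 : act 7 n116295 = n156725 := (sb E101097 F351469)
theorem F351499 : act 7 n156950 = n116573 := d11_2 F351498 (iv4 F247023) F181929
theorem F351500 : act 1 n177199 = n156725 := d15_1 D177199 (iv7 F351498) F351496
theorem F351501 : act 4 n156251 = n177199 := d18_7 F333733 F129502 (iv1 F333752) (iv4 D155227) (iv5 F317232) (iv4 F179943) F245564 F351500 (iv5 F351468)
theorem F351502 : act 0 n141390 = n156727 := d20_7 (iv4 F351501) (iv1 F245564) F179943 F84737 (iv1 F101053) F339084 (iv4 F339087) F246534 (iv3 F246530) (iv1 F351500)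
theorem F351503 : act 5 n177199 = n167642 := d21_0 (iv1 D167642) D167643 (iv6 F283475) F330097 (iv6 F239956) F312529 (iv1 F311106) (iv5 F313376) D156725 (iv1 F351500)
theorem F351504 : act 1 n167642 = n131285 := d17_8 (iv1 F330749) F313451 F330761 F330713 F127690 D84430 D177199 F351503 (iv4 F330751)
theorem F351505 : act 1 n116709 = n177200 := d18_6 (iv1 D167642) F123673 (iv1 F311386) F212243 F318410 D116709 (iv4 D177200) D177199 F351503
theorem F351506 : act 1 n115288 = n152879 := d17_6 (iv1 F351492) (iv5 F351490) (iv1 F351504) (iv5 F351503) (iv4 F351501) F339870 (iv5 D152879) D152878 (iv4 F244893)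
theorem F351507 : act 3 n156251 = n156297 := d19_3 (iv1 F351504) (iv5 F351503) (iv4 F351501) (iv1 D156297) (iv5 D74342) F53512 F26108 (iv1 F11963) D14774 D31344 D67446 (iv1 F320342) F185879 F307178 F305243 (iv1 F313553) (iv5 F314125) F307963 (iv3 F210412)
theorem F351508 : act 1 n152879 = n115688 := d15_1 F351506 (iv7 D115688) (iv2 F179552)
theorem F351509 : act 5 n115688 = n156252 := d17_7 (iv1 F112092) (iv5 F316179) (iv1 D118574) F86288 (iv4 F108580) D152879 F351508 F245565 F179943
theorem F351510 : act 4 n110432 = n152879 := d18_7 (iv1 D156252) F111530 D74690 D157096 F351454 F170808 D110432 F351508 F351509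
theorem F351511 : act 7 n156252 = n115687 := d13_2 D115688 F351509 (iv5 D115687)
theorem F351512 : act 7 n131285 = n148893 := d15_2 D167642 F351504 F233949
theorem F351513 : act 2 n116573 = n178783 := d4_1 F351499 (iv7 D178783) (iv2 F318058)
theorem F351514 : act 1 n178783 = n116714 := d15_0 F351484 F351499 F351513
theorem F351515 : act 1 n178781 = n116573 := d15_1 D178781 (iv7 F351499) F318058
theorem E101098 : n178783 = n177200 := ((c18_6 F309663 (iv4 F123345) F129629 F127690 D84430 D177200 F351514 (iv4 D116714) F112045 (iv5 F314269))).symm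
theorem F351516 : act 1 n177200 = n116714 := (sb E101098 F351514)
theorem F351517 : act 2 n177200 = n116573 := (sb E101098 (iv2 F351513))
theorem F351518 : act 7 n177200 = n85196 := (sb E101098 (iv7 D178783))
theorem F351519 : act 7 n178782 = n178794 := d13_2 F351518 D178782 (iv5 F344874)
theorem F351520 : act 6 n115500 = n177200 := d14_5 F351518 (iv6 D85196) (iv7 F315458) (iv6 F323215) (iv7 F179795)
theorem F351521 : act 1 n156950 = n116709 := d15_0 F351505 F351518 (iv2 F318058)
theorem F351522 : act 1 n116573 = n157096 := d15_0 F351452 (iv7 F351518) F351517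
theorem F351523 : act 3 n177200 = n115501 := d7_1 F351520 (iv6 D115501) D115500
theorem F351524 : act 4 n115501 = n177212 := d5_2 D177200 F351523 (iv3 D177212) (iv4 D84436) (iv3 F129569)
theorem F351525 : act 7 n115501 = n156143 := d8_2 (iv7 F351518) F351523 F319076
theorem F351526 : act 0 n115501 = n156303 := d20_4 F351501 (iv1 D177199) D177200 F351523 (iv3 D156303) (iv4 D74347) (iv1 D34104) (iv4 F53512) (iv3 F111529) D156251
theorem F351527 : act 0 n124438 = n177212 := d18_0 (iv4 F351524) F351526 F245614 F351079 F326988 (iv0 D50808) (iv4 F80178) (iv0 F326984) D124438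
theorem F351528 : act 5 n177212 = n141111 := d17_3 (iv1 F129972) D124438 F351527 (iv4 D141111) (iv5 F325829) F123174 F298108 (iv0 F118759) (iv4 F126255)
theorem F351529 : act 6 n141111 = n121275 := d21_3 D124438 F351527 F351528 F301037 (iv6 D86154) D86153 F132106 (iv5 D81908) D81909 (iv1 F129972)
theorem F351530 : act 1 n124442 = n177212 := d15_0 (iv0 F351527) F302227 (iv2 F302232)
theorem F351531 : act 1 n141111 = n123323 := d17_8 F115352 (iv5 D76822) (iv1 D35112) (iv5 F297543) D58034 D124442 F351530 F351528 (iv4 D123323)
theorem F351532 : act 2 n124408 = n141111 := d15_3 F351531 (iv0 F325834) F325838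
theorem F351533 : act 1 n123484 = n141111 := d15_0 F351531 (iv7 F303752) F303750
theorem F351534 : act 7 n141111 = n124407 := d15_2 F325835 F351533 (iv2 F325836)
theorem F351535 : act 7 n160397 = n177212 := d13_2 F351534 F301181 F351528
theorem F351536 : act 6 n177212 = n107278 := d14_1 F351535 F165336 (iv6 F322896) F245366 F351460
theorem F351537 : act 2 n177212 = n160398 := d2_3 (iv5 F302251) F351532 (iv5 F351528)
theorem F351538 : act 3 n141111 = n177213 := d6_1 F351528 (iv5 D177213) D177212
theorem F351539 : act 0 n159184 = n177286 := d20_4 F197899 (iv1 F301551) D76121 D159184 F276662 (iv4 F325215) F325212 F276607 (iv3 F351538) (iv1 F351533)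
theorem F351540 : act 5 n177283 = n124452 := d21_2 (iv5 D177286) D177283 F199041 (iv1 F132345) (iv6 F330714) (iv5 F273803) (iv1 F276217) (iv5 F318836) F253489 F351539
theorem F351541 : act 2 n124453 = n177283 := d2_3 F351540 (iv2 D124452) D124453
theorem F351542 : act 6 n180413 = n177286 := d21_5 (iv5 F280790) (iv1 D180410) (iv5 D86163) D86164 D180413 (iv5 D177286) D177283 F351540 F199041 (iv1 F132345)
theorem F351543 : act 3 n177289 = n180413 := d7_3 F351542 F276662 D177289
theorem F351544 : act 7 n177284 = n124453 := d15_2 (iv0 D177283) D177284 F351541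
theorem F351545 : act 3 n109129 = n177284 := d8_3 F351544 F199042 (iv7 F324505)
theorem F351546 : act 5 n109114 = n177284 := d13_3 F351544 (iv5 D124453) (iv7 F321448)
theorem F351547 : act 6 n155991 = n107176 := d14_3 F351525 (iv6 D156143) (iv7 F245369) (iv7 F165338) D115501
theorem E101099 : n115499 = n74276 := (c3_3 F351547 F165339 D115499 (iv2 F245368))
theorem E101100 : n156139 = n53280 := ((D156139).symm.trans (sb E101099 (iv6 D115499)))
theorem F351548 : act 6 n53280 = n74276 := (sb E101100 (iv6 D156139))
theorem F351549 : act 0 n115397 = n156085 := d21_4 D107178 (iv1 F180738) (iv5 D115396) D115397 (iv6 D156085) (iv5 F111124) D74245 (iv5 F245374) F351547 (iv1 D107176)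
theorem F351550 : act 1 n115397 = n156089 := d15_1 (iv0 F351549) (iv7 D156089) (iv2 F245250)
theorem E101101 : n178809 = n115484 := (c7_3 F351548 F320584 D178809 F330544)
theorem F351551 : act 6 n115484 = n85203 := (sb E101101 (iv6 D178809))
theorem F351552 : act 6 n156137 = n107346 := d10_2 F351548 D156137 F165400
theorem F351553 : act 6 n111225 = n115552 := d10_2 F351551 (iv4 F320585) (iv4 F330545)
theorem F351554 : act 7 n177609 = n126830 := d11_2 F351519 F344873 (iv4 F351458)
theorem F351555 : act 6 n156952 = n115474 := d14_3 F351519 (iv6 D178794) (iv7 F320573) F326817 F351457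
theorem F351556 : act 6 n115587 = n156195 := d10_2 F351555 F326816 F247024
theorem E101102 : n126835 = n107670 := ((c3_2 F351556 (iv2 F245466) (iv6 D126835) (iv2 F218814))).symm
theorem F351557 : act 6 n107670 = n59518 := (sb E101102 (iv6 D126835))
theorem F351558 : act 3 n126830 = n177622 := d8_1 F351554 (iv7 D177622) (iv3 F277075)
theorem F351559 : act 3 n160325 = n178782 := d5_5 F351458 F351558 (iv4 F345495) F345494 D160325
theorem F351560 : act 6 n136153 = n160325 := d7_0 F351559 (iv6 F351457) F219198
theorem E101103 : n116714 = n115414 := ((c21_7 D85200 (iv1 F320579) (iv5 F336199) (iv6 D115357) (iv1 F84059) D53241 D115414 (iv1 F351516) F344874 (iv6 D178794) (iv1 D85198))).symm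
theorem F351561 : act 0 n115414 = n177200 := (sb E101103 (iv1 F351516))
theorem F351562 : act 1 n115414 = n156950 := (sb E101103 F351484)
theorem F351563 : act 4 n115414 = n53781 := (sb E101103 (iv4 D116714))
theorem F351564 : act 7 n157101 = n115414 := d11_0 F351563 (iv7 F318417) D157101
theorem F351565 : act 5 n115415 = n157101 := d13_3 F351564 (iv5 D115414) D115415
theorem E101104 : n178781 = n157101 := (c15_2 F351452 D178781 F351564 (iv2 F351453))
theorem F351566 : act 0 n157101 = n85196 := (sb E101104 (iv1 D178781))
theorem F351567 : act 1 n157101 = n116573 := (sb E101104 F351515)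
theorem F351568 : act 2 n157101 = n116709 := d15_3 F351505 (iv0 F351561) (iv7 F351564)
theorem F351569 : act 7 n116709 = n157096 := d4_2 (iv7 F351564) F351568 F351453
theorem F351570 : act 0 n124860 = n141881 := d20_1 (iv4 F200539) F350158 (iv3 F328203) (iv1 D116301) (iv3 F181284) (iv4 F181929) (iv1 F351567) (iv4 D157101) (iv3 F316178) (iv1 D124863)
theorem F351571 : act 0 n101345 = n137659 := d17_0 F338941 F351570 F338944 (iv4 D153292) (iv5 D72412) D72411 (iv5 F307564) F156107 D101345
theorem F351572 : act 4 n142042 = n101326 := d18_5 F351570 F350158 (iv1 D66616) (iv4 F102555) D142042 (iv0 D101326) D101328 (iv0 F350156) F338941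
theorem F351573 : act 6 n141881 = n145566 := d21_5 D74355 (iv1 F316985) (iv5 D124859) D124860 F351570 (iv5 D145566) (iv1 F342432) (iv5 D140594) (iv6 F342409) (iv1 D74353)
theorem F351574 : act 2 n145566 = n143926 := d3_1 F351573 (iv6 D143926) (iv2 F350157)
theorem F351575 : act 4 n145566 = n142053 := d10_1 F351573 (iv6 D142053) (iv4 F350158)
theorem F351576 : act 1 n142140 = n145385 := d18_8 (iv1 D68163) F50037 D31759 D68248 D145566 F351575 F350120 (iv4 F225166) (iv5 D145385)
theorem F351577 : act 1 n145571 = n145566 := d18_6 (iv1 D140820) (iv4 F342429) F342426 (iv4 D68248) D68249 D145571 F351575 F350120 F223892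
theorem F351578 : act 1 n145566 = n145588 := d15_0 (iv0 F350127) F350126 (iv2 F351574)
theorem E101105 : n142894 = n126346 := ((c17_2 (iv1 F350132) F224062 (iv1 D142894) F320568 F318451 D140594 F342432 D145566 F351578 (iv4 D145588))).symm
theorem F351579 : act 0 n126346 = n66965 := (sb E101105 (iv1 D142894))
theorem E101106 : n145589 = n116629 := ((c21_9 F224062 F351579 F320568 (iv6 D124749) (iv1 F199611) F199615 F199425 (iv1 F314341) (iv5 F322138) (iv6 D145589) (iv1 F350132))).symm
theorem F351580 : act 6 n116629 = n68254 := (sb E101106 (iv6 D145589))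
theorem F351581 : act 6 n124862 = n141057 := d21_5 F306661 F304645 (iv5 D58376) D58377 D124862 F224062 F351579 F320568 (iv6 D124749) (iv1 F199611)
theorem F351582 : act 1 n126346 = n153721 := d15_1 (iv0 F351579) F241583 F322364
theorem E101107 : n142893 = n142767 := ((c15_4 (iv0 D142893) (iv0 F351579) F203161 (iv2 F322210))).symm
theorem F351583 : act 1 n142767 = n66965 := (sb E101107 (iv0 D142893))
theorem F351584 : act 6 n145569 = n96668 := d21_3 (iv5 F320568) (iv1 F351583) (iv5 F228616) F308544 (iv6 D69302) (iv5 F51159) F54103 (iv5 F54096) F318469 (iv1 F318465)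
theorem F351585 : act 2 n143836 = n145569 := d3_3 F351584 (iv2 F310604) (iv6 F316191)
theorem E101108 : n181200 = n147059 := (c21_10 (iv5 D146720) D146718 F243024 F322225 D145569 F351584 F300029 (iv1 F310653) F310656 D181200 (iv1 F243030))
theorem F351586 : act 6 n147059 = n86530 := (sb E101108 (iv6 D181200))
theorem F351587 : act 6 n145583 = n153550 := d7_2 F351580 (iv3 F228624) (iv3 F322137)
theorem E101109 : n145588 = n141908 := (c10_2 F351580 D145588 (iv6 D141908) (iv4 F322936))
theorem F351588 : act 0 n141908 = n145566 := (sb E101109 (iv1 F351578))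
theorem F351589 : act 1 n141908 = n145586 := (sb E101109 (iv0 F350127))
theorem F351590 : act 4 n141908 = n68254 := (sb E101109 (iv4 D145588))
theorem F351591 : act 0 n150710 = n141907 := d21_7 (iv5 D145566) (iv1 F342432) (iv5 D140594) (iv6 F342409) (iv1 D74353) (iv6 F312833) D150710 (iv5 D141907) D141908 F351588
theorem E101110 : n145580 = n118876 := ((c21_7 (iv5 D72608) (iv1 D33511) D33512 F52833 D33515 D72615 (iv5 F186938) (iv1 D145580) D145583 F351587 (iv1 F241348))).symm
theorem F351592 : act 0 n118876 = n68252 := (sb E101110 (iv1 D145580))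
theorem F351593 : act 3 n124874 = n142042 := d5_5 F351572 (iv3 F339060) F222282 F221989 (iv4 F314713)
theorem F351594 : act 7 n137686 = n142042 := d11_0 F351572 F304671 (iv4 F339063)
theorem F351595 : act 0 n138207 = n142042 := d20_7 (iv4 D67231) (iv1 D31279) (iv4 F48894) F48893 D30503 D64917 D138207 F351572 (iv3 F339060) F321333
theorem E101111 : n138205 = n75062 := (c18_9 (iv1 F112577) F108751 F186861 F108928 (iv5 F304670) (iv4 F351572) (iv0 F351595) (iv4 D138207) D138205 (iv5 D75062))
theorem E101112 : n154594 = n64917 := (((iv1 F242665)).symm.trans (sb E101111 (iv1 D138205)))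
theorem E101113 : n138204 = n75047 := ((D138204).symm.trans (sb E101112 F242664))
theorem F351596 : act 1 n64917 = n75062 := (sb E101112 F242665)
theorem E101114 : n138208 = n73277 := ((D138208).symm.trans (sb E101112 (iv5 D154594)))
theorem F351597 : act 1 n75047 = n64917 := (sb E101113 (iv0 D138204))
theorem E101115 : n154592 = n64919 := ((D154592).symm.trans (sb E101114 F221370))
theorem F351598 : act 5 n73277 = n64917 := (sb E101114 (iv5 D138208))
theorem F351599 : act 3 n64919 = n73277 := (sb E101115 (iv3 D154592))
theorem E101116 : n181441 = n54401 := (c8_4 F326310 F351599 F310127 D181441)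
theorem E101117 : n118092 = n86617 := ((D118092).symm.trans (sb E101116 (iv3 D181441)))
theorem F351600 : act 3 n86617 = n54401 := (sb E101117 (iv3 D118092))
theorem F351601 : act 0 n154538 = n119382 := d20_7 F109439 F190669 (iv4 F325439) F351599 (iv1 D73277) (iv3 F109720) (iv4 F242577) (iv4 F321040) F156712 (iv1 F321060)
theorem E101118 : n124423 = n101226 := ((c20_4 F52968 F109742 F306902 D101226 F335271 F125887 F109439 F190669 (iv4 F325439) F351599 (iv1 D73277))).symm
theorem F351602 : act 0 n101226 = n81865 := (sb E101118 F335271)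
theorem F351603 : act 2 n101226 = n58019 := (sb E101118 (iv2 D124423))
theorem F351604 : act 4 n101226 = n173948 := (sb E101118 F335272)
theorem E101119 : n173818 = n101316 := (c11_3 (iv7 F308447) F351604 F335275 (iv4 D101316))
theorem F351605 : act 2 n101316 = n83116 := (sb E101119 (iv2 D173818))
theorem F351606 : act 3 n101316 = n128140 := (sb E101119 F272405)
theorem F351607 : act 5 n101316 = n173930 := (sb E101119 F335276)
theorem F351608 : act 6 n101316 = n172576 := (sb E101119 F335277)
theorem F351609 : act 7 n101316 = n173948 := (sb E101119 (iv7 F335275))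
theorem F351610 : act 5 n137331 = n124325 := d16_7 F351604 (iv5 D173948) (iv4 D83178) (iv5 F317228) (iv4 F115501) D160395 (iv4 F351463) F198823 (iv2 F351603)
theorem F351611 : act 3 n124326 = n137331 := d6_3 F351610 (iv3 D124325) D124326
theorem F351612 : act 7 n124424 = n137331 := d13_0 F351610 F198823 D124424
theorem F351613 : act 2 n124437 = n173967 := d16_9 (iv4 D173967) (iv5 D83184) D83183 (iv5 F320200) (iv4 F198821) (iv5 F351610) F351463 (iv5 D160395) (iv7 F302226)
theorem F351614 : act 7 n173967 = n160394 := d4_2 (iv7 F302226) F351613 (iv2 D160394)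
theorem F351615 : act 1 n173967 = n160392 := d15_0 (iv0 D160392) (iv7 F302226) F351613
theorem F351616 : act 1 n160393 = n173967 := d15_1 D160393 F351614 (iv2 D160394)
theorem F351617 : act 2 n137331 = n101317 := d0_1 F351611 F156098 (iv2 F310306) F307577 (iv2 F198825)
theorem E101120 : n124325 = n101315 := ((c2_4 (iv5 F351610) F351617 (iv5 D101317) D101315)).symm
theorem F351618 : act 1 n101315 = n81865 := (sb E101120 (iv0 F198824))
theorem F351619 : act 3 n101315 = n57959 := (sb E101120 (iv3 D124325))
theorem F351620 : act 4 n101315 = n83116 := (sb E101120 F198821)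
theorem F351621 : act 5 n101315 = n137331 := (sb E101120 (iv5 F351610))
theorem F351622 : act 6 n101315 = n85914 := (sb E101120 F198822)
theorem F351623 : act 7 n101315 = n58019 := (sb E101120 F198823)
theorem F351624 : act 7 n137332 = n101317 := d15_2 (iv0 D137331) D137332 (iv2 F351617)
theorem F351625 : act 5 n101226 = n137332 := d16_7 F351463 (iv5 D160395) F115501 F317228 D83178 D173948 (iv4 F351604) F351624 (iv2 F351617)
theorem F351626 : act 2 n137332 = n124424 := d2_1 F351625 (iv5 D124424) (iv2 F351603)
theorem F351627 : act 3 n137332 = n101228 := d6_1 F351625 (iv5 D101228) D101226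
theorem E101121 : n101314 = n101185 := (c15_1 D101314 F242108 (iv7 F351623) (iv2 D101315))
theorem F351628 : act 0 n101185 = n47170 := (sb E101121 (iv1 D101314))
theorem E101122 : n179880 = n101318 := (c3_2 F351622 D179880 (iv6 D101318) D101315)
theorem F351629 : act 2 n101318 = n85914 := (sb E101122 (iv2 D179880))
theorem F351630 : act 4 n172576 = n101318 := d1_0 F351629 F304301 D172576
theorem E101123 : n174178 = n173521 := (c20_8 (iv4 F249721) (iv1 F249725) F156563 F156464 (iv1 D101332) (iv3 F156099) (iv4 F351630) (iv1 F272971) F348182 F152500 D98969)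
theorem F351631 : act 0 n173521 = n83257 := (sb E101123 (iv1 D174178))
theorem F351632 : act 1 n173521 = n172576 := (sb E101123 F272971)
theorem F351633 : act 0 n98963 = n125360 := d20_1 F348182 (iv4 D125360) F92743 D58703 (iv3 F318947) F130393 F130236 (iv4 F274059) F274058 (iv1 F351632)
theorem E101124 : n174177 = n173454 := ((c15_4 (iv0 D174177) (iv0 F351631) (iv7 D173521) (iv2 F279314))).symm
theorem F351634 : act 0 n173454 = n172576 := (sb E101124 (iv1 F272970))
theorem F351635 : act 1 n173454 = n83257 := (sb E101124 (iv0 D174177))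
theorem F351636 : act 3 n173454 = n148331 := (sb E101124 F344138)
theorem E101125 : n148331 = n111446 := (c0_1 F351636 (iv2 F176508) F341894 F341886 F341887 (iv2 F279314))
theorem F351637 : act 1 n111446 = n69516 := (sb E101125 (iv0 D148331))
theorem F351638 : act 3 n111446 = n173454 := (sb E101125 (iv3 F351636))
theorem F351639 : act 4 n111446 = n131353 := (sb E101125 F344137)
theorem F351640 : act 6 n111446 = n120126 := d7_2 D173454 (iv3 F351638) F312060
theorem F351641 : act 6 n130890 = n112724 := d21_5 D120128 (iv1 F210721) (iv5 D131455) D131456 F337065 (iv5 D112724) F82222 D111446 F351640 (iv1 D120126)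
theorem F351642 : act 5 n112722 = n130890 := d12_5 F351641 (iv5 D112724) (iv6 D52030) D52029 D112722
theorem F351643 : act 5 n98239 = n110392 := d17_5 (iv1 F317234) F86272 F322307 D142516 (iv4 F340955) (iv0 F170756) D111446 F351637 (iv4 D69516)
theorem E101126 : n148334 = n126367 := ((c21_6 D51937 (iv1 F82718) (iv5 D52335) D52336 (iv1 F173087) D126367 (iv5 D148334) (iv1 F351637) (iv5 D111446) (iv6 D51403) (iv1 F39682))).symm
theorem F351644 : act 5 n126367 = n69516 := (sb E101126 (iv5 D148334))
theorem F351645 : act 5 n131185 = n144358 := d13_3 F227101 F351644 F317239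
theorem F351646 : act 5 n132990 = n112723 := d17_7 (iv1 F80316) (iv5 F49690) (iv1 F93847) (iv5 F93848) (iv4 F203195) F351644 (iv0 F319527) F175453 F170755
theorem F351647 : act 6 n112723 = n132993 := d12_2 D132990 F351646 (iv5 D132993) (iv6 D62403) D62402
theorem F351648 : act 6 n161015 = n172550 := d21_9 F351643 (iv1 F175453) (iv5 F351646) (iv6 D132990) (iv1 F210247) (iv6 F304077) F188743 F189844 (iv5 F254533) F344410
theorem F351649 : act 0 n112547 = n132993 := d21_4 F326796 (iv1 F258062) (iv5 F194350) (iv6 F326785) (iv6 F351647) (iv5 F351646) F319527 (iv5 F351644) (iv6 D126367) (iv1 F173096)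
theorem F351650 : act 5 n132991 = n108978 := d17_3 F351649 (iv5 D132993) D132991 (iv4 F168980) F93696 F93692 F47237 F81983 D112547
theorem F351651 : act 4 n132993 = n105184 := d18_3 D51926 D112547 F351649 F161105 (iv4 F203421) (iv0 F203575) (iv4 D126573) (iv0 D59383) F45627
theorem F351652 : act 0 n158491 = n130813 := d21_10 F330890 F351649 (iv5 D132993) (iv6 D62403) D62398 (iv6 F325488) F315438 (iv1 F113451) D75608 D158491
theorem F351653 : act 2 n112607 = n132993 := d15_3 (iv0 F351649) (iv0 F175051) (iv7 F175204)
theorem F351654 : act 1 n112548 = n132993 := d15_0 (iv0 F351649) F175050 (iv2 F175052)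
theorem F351655 : act 5 n132985 = n112607 := d2_0 F351653 (iv5 D132993) (iv2 F213626)
theorem F351656 : act 0 n126018 = n132985 := d17_2 F179350 D126018 F351655 F175202 F172586 (iv0 F168420) F98451 F168428 (iv4 F165982)
theorem F351657 : act 1 n126021 = n132985 := d17_6 (iv1 F81985) (iv5 F93699) (iv1 F93701) F93426 D59029 D126021 F351655 (iv0 D112607) (iv4 D51959)
theorem F351658 : act 1 n126018 = n132994 := d15_1 (iv0 F351656) (iv7 D132994) (iv2 F213626)
theorem F351659 : act 5 n132994 = n105181 := d17_7 (iv1 D25209) (iv5 F23358) D29461 F93704 D59024 D126018 F351658 (iv0 F168005) (iv4 D51963)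
theorem F351660 : act 0 n126021 = n132994 := d17_2 F172746 D126021 F351659 F161102 F76496 D63697 (iv5 F168425) (iv0 F168426) (iv4 F168982)
theorem F351661 : act 5 n108980 = n158491 := d17_1 F168983 F351652 F330890 (iv4 D112547) F81977 F96617 F96614 F93218 D59024
theorem E101127 : n166789 = n130813 := ((c21_5 F315438 (iv1 F113451) D75608 D158491 F351652 (iv6 D166789) (iv5 D80061) (iv1 F122847) (iv5 F334294) (iv6 D61150) D61145)).symm
theorem F351662 : act 6 n130813 = n80061 := (sb E101127 (iv6 D166789))
theorem F351663 : act 6 n133244 = n166753 := d21_3 D132982 F217651 (iv5 F217650) (iv1 F262495) (iv6 F351662) F330890 F351649 (iv5 D132993) (iv6 D62403) D62398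
theorem F351664 : act 5 n131366 = n166756 := d21_2 F347044 F344032 (iv6 D166756) D166753 (iv6 F351663) F217650 F217652 (iv5 D132753) D132754 F347045
theorem F351665 : act 0 n166756 = n158469 := d17_2 F344032 F351664 (iv5 D158469) (iv4 F307280) F318065 (iv0 F318755) (iv5 D61669) F318851 (iv4 F344033)
theorem F351666 : act 1 n166756 = n158464 := d17_6 F303001 D81761 (iv1 F313098) F114989 (iv4 F210577) F351664 (iv5 D158464) (iv0 D75596) (iv4 F113454)
theorem F351667 : act 7 n158491 = n108979 := d13_2 D108980 F351661 (iv5 D108979)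
theorem E101128 : n126841 = n108979 := ((c14_1 F351667 (iv6 D126841) (iv7 F179902) (iv6 F336277) F315446 D158491)).symm
theorem F351668 : act 3 n108979 = n59524 := (sb E101128 F204085)
theorem F351669 : act 6 n108979 = n59520 := (sb E101128 (iv6 D126841))
theorem F351670 : act 3 n158491 = n126853 := d8_1 (iv7 F351667) (iv7 D126853) (iv3 F351668)
theorem F351671 : act 6 n126853 = n133255 := d7_2 D158491 F351670 F315478
theorem F351672 : act 6 n126899 = n95420 := d3_2 F351671 (iv2 F327910) F344351
theorem F351673 : act 3 n95420 = n129226 := d7_1 F351672 (iv6 D129226) (iv3 F327911)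
theorem F351674 : act 4 n112614 = n129152 := d20_0 (iv1 D129152) F95325 F46478 D28839 D60794 F333868 (iv1 D64779) (iv4 F93953) (iv3 F351668) (iv1 F175219)
theorem F351675 : act 3 n130809 = n112614 := d20_5 F80087 (iv1 F23433) (iv4 F46691) (iv3 F95863) (iv1 F209363) F351674 (iv1 D129152) F95325 F46478 D28839
theorem F351676 : act 7 n112614 = n130813 := d8_2 (iv7 F334619) F351675 (iv3 D130813)
theorem F351677 : act 5 n108977 = n132992 := d17_1 D108977 (iv1 D132992) D132993 F351651 F161105 F99046 (iv5 F161107) (iv0 D50319) (iv4 F79703)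
theorem F351678 : act 0 n112599 = n147450 := d20_10 (iv4 F348602) (iv1 F276073) (iv4 F299313) F299312 F338348 (iv3 F213645) F351651 (iv1 F172578) F172583 D112599
theorem F351679 : act 1 n112599 = n164022 := d15_1 (iv0 F351678) F348597 (iv2 F231241)
theorem F351680 : act 2 n132992 = n126018 := d2_1 F351677 (iv5 D126018) F202596
theorem F351681 : act 3 n132992 = n130046 := d6_1 F351677 (iv5 F334634) (iv3 F325138)
theorem F351682 : act 7 n132992 = n126021 := d13_2 (iv7 F202598) F351677 (iv5 D126021)
theorem F351683 : act 2 n126021 = n132991 := d15_3 (iv0 D132991) D132992 F351682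
theorem F351684 : act 7 n126018 = n132991 := d4_2 (iv7 F351682) F351680 (iv2 F351683)
theorem F351685 : act 3 n132991 = n126746 := d0_2 (iv3 F345540) F351683 (iv2 F219891) F336032 F342177
theorem F351686 : act 6 n126745 = n132991 := d7_0 F351685 (iv6 D126746) D126745
theorem E101129 : n126824 = n125983 := ((c12_4 F351686 F351650 F168981 D125983 (iv6 D126824) (iv5 F203970))).symm
theorem F351687 : act 3 n125983 = n59516 := (sb E101129 F204071)
theorem F351688 : act 4 n125983 = n65864 := (sb E101129 F204072)
theorem F351689 : act 6 n125983 = n59515 := (sb E101129 (iv6 D126824))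
theorem F351690 : act 4 n140334 = n145703 := d18_7 (iv1 D58983) F45301 D28031 D58988 D125983 F351688 D140334 (iv0 F350815) F350818
theorem F351691 : act 6 n161910 = n140334 := d10_0 F351690 F323461 D161910
theorem F351692 : act 6 n130043 = n132992 := d7_0 F351681 (iv6 D130046) D130043
theorem F351693 : act 4 n132992 = n129838 := d20_6 F80121 F23781 (iv4 F46591) (iv3 F95618) (iv1 F331840) (iv3 F351681) (iv1 D129838) F95532 F46566 D28925
theorem F351694 : act 4 n129837 = n132991 := d18_3 (iv1 D61017) (iv4 F95532) D129837 F351650 (iv4 F168980) F93695 F322459 (iv0 F322464) F332142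
theorem E101130 : n138160 = n126746 := ((c20_10 (iv4 D64904) (iv1 F99638) F325106 (iv3 D61026) (iv1 D28926) (iv3 F46566) (iv4 F95532) D129837 F351694 F351685 (iv1 D138160))).symm
theorem F351695 : act 0 n126746 = n64904 := (sb E101130 (iv1 D138160))
theorem F351696 : act 1 n126746 = n64909 := (sb E101130 F221347)
theorem E101131 : n138159 = n130165 := (c15_2 F351696 F221351 F342179 F219891)
theorem F351697 : act 0 n130165 = n64909 := (sb E101131 (iv1 F221351))
theorem F351698 : act 1 n130165 = n64904 := (sb E101131 (iv0 D138159))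
theorem F351699 : act 0 n136692 = n132175 := d18_2 (iv1 F218656) D136692 F211731 F201782 (iv4 F203971) F351696 (iv4 D64909) F99637 (iv5 F218654)
theorem F351700 : act 4 n135353 = n185784 := d20_6 (iv4 D64909) (iv1 D30500) (iv4 F48897) (iv3 F100703) F348618 (iv3 F217603) (iv1 D185784) F342175 D130165 F351697
theorem F351701 : act 7 n185784 = n135346 := d11_2 D135353 F351700 F217594
theorem E101132 : n185783 = n135830 := ((c15_4 (iv0 D185783) D185784 F351701 (iv2 F218476))).symm
theorem F351702 : act 0 n135830 = n130161 := (sb E101132 (iv1 F336096))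
theorem F351703 : act 1 n135830 = n88484 := (sb E101132 (iv0 D185783))
theorem F351704 : act 2 n172550 = n170452 := d3_1 F351648 F341655 F305812
theorem F351705 : act 7 n172550 = n170260 := d14_2 F305810 F351648 (iv6 D170260) F125562 (iv6 F305809)
theorem F351706 : act 5 n107580 = n152079 := d21_0 (iv1 D152079) F321757 (iv6 D51004) (iv1 F40179) D52297 D113294 F341893 F351645 (iv6 F326689) F326685
theorem F351707 : act 2 n110661 = n98239 := d2_3 F351643 F170754 D110661
theorem F351708 : act 3 n110392 = n98241 := d6_1 F351643 (iv5 D98241) D98239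
theorem F351709 : act 7 n110391 = n98239 := d13_0 F351643 (iv7 D110392) D110391
theorem F351710 : act 4 n98241 = n140421 := d5_2 (iv4 F170755) F351708 (iv3 D140421) (iv4 D65910) F101542
theorem E101133 : n125289 = n98241 := ((c20_4 F80439 (iv1 F80317) (iv4 F170755) F351708 (iv1 F201498) F322579 (iv4 F303717) F303715 (iv4 D98262) F327535 F82247)).symm
theorem F351711 : act 0 n98241 = n86060 := (sb E101133 (iv1 F201498))
theorem F351712 : act 1 n98241 = n58653 := (sb E101133 (iv0 D125289))
theorem E101134 : n130439 = n98242 := ((c21_4 (iv5 D125292) (iv1 F351712) (iv5 D98241) D98242 (iv1 F342107) F303419 F342109 (iv1 F334676) (iv5 D83513) D83514 (iv1 F334684))).symm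
theorem F351713 : act 0 n98242 = n158586 := (sb E101134 (iv1 F342107))
theorem F351714 : act 1 n98242 = n61204 := (sb E101134 (iv0 D130439))
theorem F351715 : act 2 n140421 = n180112 := d1_1 F351710 (iv4 D180112) (iv2 F345522)
theorem E101135 : n98238 = n98230 := (c0_4 (iv3 F344917) F351707 (iv3 D98239) (iv2 F151591) (iv3 F307598) F314493)
theorem F351716 : act 2 n98230 = n45914 := (sb E101135 F151591)
theorem F351717 : act 7 n98230 = n45913 := (sb E101135 (iv7 D98238))
theorem F351718 : act 1 n172550 = n112724 := d15_1 (iv0 F344410) F175459 F351707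
theorem F351719 : act 2 n98242 = n158583 := d3_3 F342102 F351716 D98242
theorem F351720 : act 7 n158584 = n98242 := d15_2 (iv0 D158583) D158584 F351719
theorem F351721 : act 7 n130440 = n158583 := d15_2 F351714 D130440 (iv2 F351719)
theorem F351722 : act 2 n158584 = n130440 := d4_3 F351721 (iv2 F351719) (iv7 F351720)
theorem F351723 : act 1 n130440 = n158586 := d15_0 (iv0 F351713) (iv7 F351720) F351722
theorem F351724 : act 6 n111440 = n178538 := d21_5 F329440 (iv1 F351635) (iv5 F348176) (iv6 D111444) D111440 (iv5 D178538) (iv1 D85009) D85011 D178548 F340649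
theorem F351725 : act 5 n111440 = n147362 := d21_0 F321005 (iv5 F347812) F328387 F257952 D157842 F329440 (iv1 F351635) (iv5 F348176) (iv6 D111444) D111440
theorem F351726 : act 2 n152485 = n111440 := d2_3 F351725 F321007 (iv5 F239663)
theorem F351727 : act 3 n147364 = n111440 := d6_3 F351725 (iv3 D147362) D147364
theorem F351728 : act 7 n152268 = n111440 := d13_0 F351725 F321009 D152268
theorem F351729 : act 1 n152483 = n111440 := d15_1 D152483 (iv7 F351728) F239324
theorem F351730 : act 2 n110595 = n152483 := d15_3 F351729 (iv0 D111440) (iv7 F171168)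
theorem F351731 : act 4 n111273 = n152483 := d18_7 F321005 (iv4 F347808) (iv1 D114607) (iv4 F178695) F320842 (iv4 D111461) F172599 F351729 F351725
theorem F351732 : act 3 n152483 = n165802 := d20_5 (iv4 F324569) (iv1 F325671) F350840 F351727 (iv1 F351729) (iv4 F338353) (iv1 F161113) D113302 (iv3 F176511) (iv1 F175029)
theorem F351733 : act 6 n165799 = n152483 := d7_0 F351732 (iv6 D165802) D165799
theorem F351734 : act 7 n111442 = n152483 := d8_0 F351732 (iv7 F338354) F176500
theorem F351735 : act 6 n111273 = n163969 := d10_2 F351733 (iv4 F351731) F301265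
theorem F351736 : act 3 n163969 = n111401 := d7_1 F351735 (iv6 D111401) (iv3 F172595)
theorem F351737 : act 3 n113261 = n165800 := d5_3 (iv4 F301265) F351736 (iv4 F176453) (iv4 D165800) D165799
theorem F351738 : act 6 n165800 = n105187 := d7_2 D113261 F351737 F161109
theorem E101136 : n113383 = n113307 := (c21_1 D113383 (iv1 F203040) F203038 (iv6 F351738) F261374 F330788 D166779 (iv1 F328095) (iv5 D113397) (iv6 D52344) D52340)
theorem F351739 : act 5 n113307 = n52340 := (sb E101136 (iv5 D113383))
theorem F351740 : act 6 n175081 = n128140 := d7_2 F351608 (iv3 F274058) (iv3 F351606)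
theorem E101137 : n101797 = n101313 := ((c20_8 (iv4 D60244) (iv1 D28629) (iv4 F46197) (iv3 F94792) D128140 (iv3 F351606) (iv4 D101316) D101313 (iv4 F340193) F340192 (iv1 F190668))).symm
theorem F351741 : act 0 n101313 = n58019 := (sb E101137 F321049)
theorem F351742 : act 3 n101313 = n47314 := (sb E101137 (iv3 D101797))
theorem F351743 : act 4 n101313 = n134678 := (sb E101137 (iv4 F340193))
theorem F351744 : act 6 n101313 = n72759 := (sb E101137 F321051)
theorem F351745 : act 7 n101313 = n81865 := (sb E101137 F321052)
theorem F351746 : act 0 n88937 = n143591 := d20_10 F226274 (iv1 F330206) (iv4 F351743) F351742 (iv1 D47314) (iv3 D22740) D22741 F156780 (iv4 F64069) (iv3 F136501)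
theorem E101138 : n154538 = n101727 := (c15_1 (iv0 F351601) (iv0 D101727) (iv7 F334392) (iv2 F334399))
theorem F351747 : act 0 n101727 = n119382 := (sb E101138 F351601)
theorem F351748 : act 3 n101727 = n73243 := (sb E101138 F242576)
theorem F351749 : act 4 n101727 = n73269 := (sb E101138 F242577)
theorem F351750 : act 6 n101727 = n73241 := (sb E101138 (iv6 D154538))
theorem F351751 : act 7 n162737 = n101727 := d14_0 F351750 (iv7 F110043) F303517 (iv7 F128202) (iv6 F334397)
theorem F351752 : act 2 n101727 = n162738 := d15_3 F334398 (iv0 F334393) F351751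
theorem F351753 : act 7 n101464 = n162738 := d4_2 (iv7 F351751) F334394 (iv2 F351752)
theorem F351754 : act 1 n101464 = n119382 := d15_0 (iv0 F351747) (iv7 F351751) F334394
theorem E101139 : n101728 = n101464 := (c15_1 D101728 F351754 F188069 F324277)
theorem F351755 : act 0 n101464 = n47293 := (sb E101139 (iv1 D101728))
theorem E101140 : n98876 = n57977 := (c20_5 F321040 (iv1 F351754) F156288 F152437 D98876 (iv3 D57977) F91361 (iv1 F118772) (iv4 F135899) F324284 (iv1 F156711))
theorem E101141 : n153880 = n124359 := (((D124359).symm.trans (sb E101140 (iv1 F306390)))).symm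
theorem E101142 : n124360 = n46275 := ((D124360).symm.trans (sb E101140 (iv0 D98876)))
theorem F351756 : act 0 n124359 = n98877 := (sb E101141 F306389)
theorem F351757 : act 2 n124359 = n98879 := (sb E101141 F306391)
theorem F351758 : act 3 n124359 = n72797 := (sb E101141 F241806)
theorem F351759 : act 6 n124359 = n72795 := (sb E101141 (iv6 D153880))
theorem F351760 : act 7 n124359 = n84662 := (sb E101141 F306392)
theorem F351761 : act 0 n46275 = n57977 := (sb E101142 (iv1 D124360))
theorem E101143 : n123302 = n123080 := ((c20_8 F189964 F188056 F86891 D119382 (iv1 F351754) (iv3 F197266) F197267 D123080 F333742 (iv3 F333741) (iv1 F86981))).symm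
theorem F351762 : act 2 n123080 = n57403 := (sb E101143 (iv2 D123302))
theorem F351763 : act 3 n123080 = n57646 := (sb E101143 F197588)
theorem F351764 : act 4 n123080 = n82978 := (sb E101143 F333742)
theorem F351765 : act 7 n123080 = n73018 := (sb E101143 F197590)
theorem E101144 : n173960 = n123077 := (c20_11 F197267 D123080 F351764 (iv3 F333741) (iv1 F86981) (iv3 F188208) (iv4 F256999) F257002 (iv4 D83183) D83182 D173960)
theorem F351766 : act 1 n123077 = n83182 := (sb E101144 (iv0 D173960))
theorem F351767 : act 7 n128228 = n166901 := d15_2 F351766 (iv0 F334245) F262761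
theorem E101145 : n123081 = n123007 := (c15_2 (iv0 D123080) D123081 F197086 (iv2 F351762))
theorem F351768 : act 0 n123007 = n57278 := (sb E101145 (iv1 D123081))
theorem E101146 : n98877 = n98497 := (c15_2 (iv0 F351761) D98877 (iv7 F311719) (iv2 D124361))
theorem F351769 : act 0 n98497 = n46275 := (sb E101146 (iv1 D98877))
theorem F351770 : act 1 n98497 = n124359 := (sb E101146 (iv0 F351756))
theorem F351771 : act 4 n98497 = n123277 := (sb E101146 (iv4 F338923))
theorem F351772 : act 2 n123278 = n98497 := d1_3 F351771 (iv2 D123277) D123278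
theorem F351773 : act 5 n116055 = n98875 := d18_4 (iv1 F327592) F327594 F318715 D116055 F152439 (iv0 F351769) F351771 F197564 (iv5 F327050)
theorem F351774 : act 5 n177806 = n150910 := d2_2 F351773 (iv2 F277318) (iv2 F327176)
theorem F351775 : act 3 n123082 = n116055 := d6_3 F351773 F152438 D123082
theorem F351776 : act 0 n122376 = n123082 := d20_4 F104325 (iv1 F93915) (iv4 F329226) (iv3 F195772) F351775 (iv4 D116055) (iv1 D53488) (iv4 F84364) F84363 D53464
theorem E101147 : n177808 = n123278 := ((c18_2 (iv1 D123276) D123278 (iv1 D177808) (iv4 F277319) F351774 (iv4 D150910) (iv0 D71143) (iv4 F107652) D150906 (iv5 F334423))).symm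
theorem F351777 : act 0 n123278 = n84662 := (sb E101147 (iv1 D177808))
theorem F351778 : act 1 n123278 = n98879 := (sb E101147 F277320)
theorem E101148 : n177807 = n124361 := (c15_2 F351778 F277327 F311719 (iv2 F351772))
theorem F351779 : act 0 n124361 = n98879 := (sb E101148 (iv1 F277327))
theorem F351780 : act 1 n124361 = n84662 := (sb E101148 (iv0 D177807))
theorem F351781 : act 3 n101813 = n177806 := d20_5 F184763 (iv1 F271113) F74545 (iv3 F74544) D101813 F277319 (iv1 F351780) F198894 (iv3 F197554) (iv1 F343474)
theorem F351782 : act 4 n153875 = n101813 := d5_0 F351781 F277319 F129886 F306384 (iv3 F241789)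
theorem F351783 : act 5 n150088 = n101813 := d6_0 F351781 F351774 F344903
theorem F351784 : act 6 n148184 = n101813 := d7_0 F351781 (iv6 D177806) (iv3 F312009)
theorem F351785 : act 7 n101813 = n153869 := d14_2 (iv7 F312011) F351784 (iv6 D153869) F110001 D73321
theorem F351786 : act 3 n141067 = n156032 := d19_11 D101813 (iv5 F351783) F331766 (iv3 D145383) (iv1 D68163) F331033 (iv4 D66092) D66091 D140875 F348059 F320485 (iv1 D156032) F111045 (iv4 F170800) F350644 (iv1 F156778) (iv5 D101826) F74545 (iv3 F74544)
theorem F351787 : act 6 n156032 = n152338 := d7_2 (iv6 F318318) F351786 (iv3 D152338)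
theorem F351788 : act 6 n98497 = n123277 := d3_2 (iv6 F301970) F351772 (iv2 D123277)
theorem F351789 : act 3 n154570 = n98879 := d0_4 F351758 F110006 (iv3 F109720) (iv2 F242639) (iv2 F351757)
theorem F351790 : act 7 n98874 = n154570 := d8_0 F351789 (iv7 D98879) (iv3 F152437)
theorem F351791 : act 4 n162738 = n154570 := d20_2 (iv4 F324278) (iv1 F334398) F351789 (iv1 F351778) F301969 F299212 (iv1 D41377) (iv4 F63810) F63809 (iv1 F322811)
theorem F351792 : act 6 n154536 = n162738 := d10_0 F351791 (iv6 D154570) (iv4 F242566)
theorem F351793 : act 0 n154570 = n174768 := d20_1 F351791 (iv4 D174768) (iv3 F273679) (iv1 D119441) F86969 (iv4 F86972) (iv1 F190051) (iv4 D84914) D84913 (iv1 F334398)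
theorem E101149 : n172785 = n47299 := (c20_8 F351749 (iv1 F339165) (iv4 D83517) D83516 (iv1 F333725) (iv3 F341910) F341911 D172785 F325423 F324289 D101727)
theorem E101150 : n101754 = n82729 := ((D101754).symm.trans (sb E101149 (iv0 D172785)))
theorem F351794 : act 0 n82729 = n47299 := (sb E101150 (iv1 D101754))
theorem F351795 : act 6 n101756 = n135994 := d21_9 D136760 (iv1 F333080) (iv5 D126653) D126654 F346798 (iv6 F271055) (iv5 D172787) F351794 D101756 (iv1 F218791)
theorem F351796 : act 2 n135995 = n101756 := d3_3 F351795 (iv2 D135994) D135995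
theorem E101151 : n138222 = n98488 := (c0_3 F351600 F326309 (iv3 F221391) F319954 F314090 F310128)
theorem F351797 : act 3 n98488 = n64924 := (sb E101151 F221391)
theorem F351798 : act 5 n98488 = n64922 := (sb E101151 (iv5 D138222))
theorem E101152 : n181442 = n136242 := ((c6_4 (iv5 D181442) F351600 (iv5 F327128) D136242)).symm
theorem F351799 : act 5 n136242 = n86617 := (sb E101152 (iv5 D181442))
theorem F351800 : act 2 n154124 = n136242 := d2_3 F351799 (iv2 F310128) D154124
theorem F351801 : act 0 n153294 = n136242 := d17_2 (iv1 F155552) D153294 F351799 (iv4 D86617) (iv5 F309644) F309643 (iv5 D150420) (iv0 D70874) (iv4 F52727)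
theorem E101153 : n137662 = n136242 := (c17_7 (iv1 F308266) D101343 F310319 (iv5 D72421) D72420 F338929 D137662 F351799 (iv0 F308288) F109281)
theorem F351802 : act 0 n136242 = n64713 := (sb E101153 (iv1 D137662))
theorem F351803 : act 0 n126956 = n138241 := d20_7 F99865 D125474 F201784 D136242 F351802 (iv3 F220823) F220824 F221421 (iv3 D64937) (iv1 F101318)
theorem F351804 : act 0 n101317 = n136461 := d20_4 (iv4 F220831) F350156 (iv4 D101328) (iv3 F156098) F219577 F99865 D125474 F201784 D136242 F351802
theorem E101154 : n138206 = n137661 := (c15_4 (iv0 D137661) (iv0 F351802) F219271 D138206)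
theorem F351805 : act 2 n137661 = n64917 := (sb E101154 (iv2 D138206))
theorem F351806 : act 7 n154124 = n137661 := d4_0 F351805 (iv7 F219271) (iv2 F351800)
theorem F351807 : act 5 n136461 = n171097 := d21_2 D101317 F351804 (iv6 D171097) (iv1 D82004) (iv6 D37568) F30970 (iv1 F35233) D47125 D101185 F351628
theorem F351808 : act 1 n124424 = n136461 := d15_0 (iv0 F351804) (iv7 F351624) F351626
theorem F351809 : act 4 n135388 = n171097 := d17_4 F341198 D143870 F319374 (iv5 F330228) (iv5 F351807) (iv0 F351804) (iv5 D101317) (iv0 F351628) (iv4 F330187)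
theorem E101155 : n184489 = n135433 := (c1_2 F351809 (iv2 F286431) (iv4 D135433) (iv2 F330227))
theorem F351810 : act 2 n135433 = n171097 := (sb E101155 F286431)
theorem F351811 : act 6 n135433 = n87980 := (sb E101155 (iv6 D184489))
theorem F351812 : act 3 n98194 = n135388 := d5_5 F351809 F268819 F242141 (iv3 F242137) (iv4 F300769)
theorem F351813 : act 7 n171097 = n135428 := d11_2 (iv7 F330230) F351809 (iv4 D135428)
theorem F351814 : act 5 n111101 = n173935 := d16_1 F220514 (iv4 D173935) (iv5 D83171) (iv4 F128109) (iv5 F330228) F351809 (iv5 F351807) F219579 (iv2 F220513)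
theorem E101156 : n171097 = n153278 := (c20_1 F351809 (iv1 F253126) F253122 F248867 (iv1 F112805) F312794 F314878 (iv1 F316182) (iv4 F302753) (iv3 F98985) (iv1 F217618))
theorem F351815 : act 2 n153278 = n135433 := (sb E101156 (iv2 F351810))
theorem F351816 : act 3 n153278 = n101078 := (sb E101156 F268819)
theorem F351817 : act 4 n153278 = n135388 := (sb E101156 (iv4 F351809))
theorem F351818 : act 5 n153278 = n136461 := (sb E101156 (iv5 F351807))
theorem F351819 : act 6 n153278 = n82004 := (sb E101156 (iv6 D171097))
theorem F351820 : act 7 n153278 = n135428 := (sb E101156 F351813)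
theorem F351821 : act 2 n135428 = n153279 := d15_3 F253125 F253126 F351820
theorem F351822 : act 4 n153279 = n135387 := d16_0 F340189 F128112 (iv5 F128251) (iv4 F272621) F346370 (iv4 F219578) (iv5 F351818) F351820 F351821
theorem F351823 : act 7 n135433 = n153279 := d4_2 (iv7 F351820) F351815 (iv2 F351821)
theorem F351824 : act 5 n137330 = n153279 := d16_7 F351817 F330228 F128109 D83171 D173935 (iv5 F351814) (iv4 F220514) (iv7 F351823) (iv2 F351815)
theorem F351825 : act 0 n124424 = n137330 := d17_2 F351741 D124424 F351824 F351822 F340189 (iv0 F272358) F330226 (iv0 F340191) (iv4 F351743)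
theorem F351826 : act 1 n101317 = n137330 := d15_0 (iv0 F351825) F351612 F351617
theorem F351827 : act 1 n170755 = n153280 := d17_6 (iv1 F217622) (iv5 F304918) D118491 F341213 (iv4 F125888) D170755 (iv5 D153280) D153279 F351822
theorem F351828 : act 0 n184488 = n123097 := d21_7 (iv5 F191899) (iv1 D120453) F87752 D76810 (iv1 F331998) F351811 D184488 (iv5 D123097) (iv6 D57285) (iv1 F89926)
theorem F351829 : act 1 n184484 = n123097 := d15_0 (iv0 F351828) (iv7 F344171) F344169
theorem F351830 : act 0 n124426 = n115284 := d20_7 (iv4 F162245) (iv1 F162247) (iv4 F99865) (iv3 F219577) (iv1 F351808) F199008 D124426 F179546 F99629 D64049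
theorem F351831 : act 3 n138220 = n154124 := d0_0 F351800 (iv3 D136242) F202577 D64922 D138220
theorem F351832 : act 5 n120233 = n138220 := d6_0 F351831 (iv5 D154124) (iv3 F314090)
theorem F351833 : act 7 n138220 = n157672 := d13_2 (iv7 F191435) F351832 (iv5 D157672)
theorem F351834 : act 2 n157672 = n136239 := d4_1 F351833 F219267 D138220
theorem F351835 : act 3 n157672 = n137661 := d8_1 F351833 (iv7 F351806) (iv3 F351831)
theorem F351836 : act 1 n138219 = n157672 := d15_1 D138219 (iv7 F351833) (iv2 D138220)
theorem F351837 : act 5 n138221 = n157665 := d16_1 D138221 (iv4 D157665) (iv5 D75114) (iv4 D34397) D34398 D75118 D157672 (iv7 F351833) (iv2 D138220)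
theorem E101157 : n179920 = n108159 := (c6_3 F351837 F324089 D179920 (iv3 F221390))
theorem F351838 : act 5 n108159 = n85970 := (sb E101157 (iv5 D179920))
theorem E101158 : n140996 = n105657 := (c2_3 F351838 F318699 D140996 (iv2 F202567))
theorem F351839 : act 3 n105657 = n117098 := (sb E101158 F224016)
theorem F351840 : act 5 n105657 = n66131 := (sb E101158 (iv5 D140996))
theorem E101159 : n145650 = n108164 := ((((iv7 F202569)).symm.trans (sb E101158 (iv7 F228673)))).symm
theorem F351841 : act 3 n108164 = n68275 := (sb E101159 F228672)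
theorem F351842 : act 5 n108164 = n68274 := (sb E101159 (iv5 D145650))
theorem F351843 : act 5 n145649 = n105653 := d13_3 F202556 F351838 (iv7 F320845)
theorem F351844 : act 5 n144728 = n140999 := d16_5 (iv4 F228667) F351843 (iv4 D105653) (iv5 F111409) D144728 (iv4 D140999) (iv5 D66132) (iv7 F50062) D68281
theorem F351845 : act 5 n139598 = n140995 := d17_5 F168326 D115720 F221538 F221535 (iv4 F222744) F228671 F351843 (iv0 F169257) F169255
theorem F351846 : act 5 n107419 = n145582 := d18_4 F168376 F167124 F168328 D107419 (iv4 D145582) (iv0 F351592) F316910 F228671 F351843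
theorem E101160 : n144725 = n118261 := ((c17_7 (iv1 D139600) (iv5 F221535) F221537 (iv5 D107420) D107419 F351846 (iv0 F320846) (iv5 D144725) D144724 (iv4 F227564))).symm
theorem F351847 : act 5 n118261 = n67821 := (sb E101160 (iv5 D144725))
theorem F351848 : act 5 n144712 = n140990 := d2_2 F351847 (iv2 F227545) (iv2 F320847)
theorem E101161 : n144722 = n118260 := (c12_5 D118261 F351847 (iv6 D67821) D67820 D144722 (iv5 D118260))
theorem F351849 : act 6 n118260 = n67820 := (sb E101161 (iv6 D144722))
theorem F351850 : act 5 n144726 = n139803 := d13_3 (iv7 F320848) F351847 D144726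
theorem F351851 : act 6 n144711 = n145110 := d3_2 F351849 (iv2 F227543) F228084
theorem F351852 : act 6 n144721 = n118275 := d10_2 F351849 D144721 F185817
theorem F351853 : act 6 n145122 = n139597 := d12_4 D139598 F351845 (iv6 F343142) (iv5 F228100) (iv5 D139597)
theorem F351854 : act 3 n145654 = n106933 := d5_3 D108164 F351841 D145654 (iv4 F168111) F168110
theorem F351855 : act 3 n145655 = n132576 := d7_3 F212803 F351841 D145655
theorem F351856 : act 7 n140338 = n145654 := d8_0 F351854 F202583 D140338
theorem F351857 : act 4 n117098 = n140338 := d11_3 F351856 (iv4 D145654) (iv7 F183139)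
theorem F351858 : act 5 n140338 = n163172 := d16_3 D53962 D117098 F351857 (iv4 D163172) (iv5 D78435) F325127 F93181 (iv7 F76878) F76880
theorem F351859 : act 2 n163187 = n140338 := d2_3 F351858 F257470 D163187
theorem F351860 : act 3 n163172 = n140339 := d6_1 F351858 (iv5 D140339) D140338
theorem F351861 : act 0 n140335 = n140338 := d17_2 (iv1 D140334) D140335 F351858 (iv4 D163172) (iv5 D78435) F325126 D125972 (iv0 F228795) (iv4 F351690)
theorem F351862 : act 4 n140339 = n115407 := d5_2 D163172 F351860 F179709 (iv4 F170624) F323130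
theorem F351863 : act 6 n115406 = n140339 := d10_0 F351862 (iv6 D115407) D115406
theorem F351864 : act 5 n119175 = n138219 := d17_5 F344055 (iv5 D148961) (iv1 F232735) (iv5 F205736) F205735 F351836 (iv5 D157672) (iv0 F317748) (iv4 F151896)
theorem F351865 : act 5 n136239 = n118087 := d2_2 D157672 F351834 F305767
theorem F351866 : act 1 n157672 = n138218 := d15_0 (iv0 D138218) (iv7 F219267) (iv2 F351834)
theorem F351867 : act 5 n138218 = n153303 := d17_7 (iv1 F108487) F108484 F130988 D34398 D75118 D157672 F351866 F312487 (iv4 D133594)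
theorem F351868 : act 0 n99613 = n157668 := d20_10 (iv4 D157668) (iv1 F130996) (iv4 F319955) F351797 (iv1 F326305) (iv3 F185499) F185500 (iv1 F346602) (iv4 D99614) D99613
theorem F351869 : act 3 n99710 = n157668 := d20_5 F85866 D54387 (iv4 F325457) (iv3 F326327) (iv1 F156709) (iv4 D157668) (iv1 F130996) (iv4 F319955) F351797 (iv1 F326305)
theorem F351870 : act 2 n157668 = n124030 := d0_1 F351869 F198417 F301400 F324284 (iv2 F324283)
theorem F351871 : act 6 n123509 = n157668 := d3_0 F351870 (iv6 D124030) (iv2 F348253)
theorem E101162 : n170697 = n99613 := ((c15_1 (iv0 F351868) (iv0 D170697) (iv7 F304178) (iv2 F351870))).symm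
theorem F351872 : act 1 n99613 = n81833 := (sb E101162 (iv0 D170697))
theorem F351873 : act 4 n150080 = n99613 := d18_5 (iv1 F56667) (iv4 F108474) (iv1 F120196) (iv4 F205749) D150080 F351872 F305741 (iv0 F120205) (iv5 D79018)
theorem F351874 : act 6 n99710 = n175514 := d7_2 F351871 (iv3 F351869) (iv3 F348277)
theorem F351875 : act 0 n177664 = n99730 := d21_7 F83250 (iv1 F139427) F139425 (iv6 F309794) F312000 (iv6 F351874) F339177 F153530 (iv6 D89290) F298837
theorem F351876 : act 5 n138209 = n153671 := d12_3 F240088 F351598 D138209 (iv6 D153671) F240087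
theorem F351877 : act 3 n153671 = n138216 := d6_1 F351876 (iv5 D138216) (iv3 F221371)
theorem F351878 : act 6 n138216 = n153669 := d7_2 D153671 F351877 (iv3 D153669)
theorem E101163 : n153669 = n118202 := (c12_1 F351878 (iv5 F233015) F326308 (iv5 D64919) D64920 D138216)
theorem F351879 : act 3 n118202 = n72667 := (sb E101163 (iv3 D153669))
theorem F351880 : act 6 n118202 = n138216 := (sb E101163 (iv6 F351878))
theorem F351881 : act 0 n157563 = n153670 := d20_1 D157563 (iv4 D153670) (iv3 F351879) (iv1 D118202) F85996 D56736 D122432 F304427 (iv3 F242216) F242217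
theorem F351882 : act 1 n181962 = n153670 := d15_0 (iv0 F351881) F307555 (iv2 F283249)
theorem F351883 : act 3 n101345 = n141868 := d20_3 F351572 (iv1 F156110) D101345 (iv1 F345291) F180858 F84416 (iv1 F98687) F168118 (iv3 F221369) F351595
theorem F351884 : act 3 n116823 = n154690 := d6_3 F344021 F351883 F224910
theorem F351885 : act 6 n142042 = n108547 := d7_2 D124874 F351593 F314709
theorem F351886 : act 6 n108461 = n157596 := d3_2 F351885 F221965 F345684
theorem F351887 : act 6 n139092 = n101326 := d10_2 F351885 (iv4 F222281) (iv4 F351572)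
theorem F351888 : act 5 n108547 = n142039 := d12_1 F351885 (iv6 D142039) (iv5 D66611) D66612 D142042
theorem F351889 : act 6 n108460 = n106893 := d14_3 F351594 F351885 F221963 (iv7 F164756) D137686
theorem F351890 : act 3 n142039 = n124873 := d6_1 F351888 (iv5 D124873) (iv3 F314709)
theorem F351891 : act 6 n124873 = n137685 := d7_2 D142039 F351890 F220855
theorem F351892 : act 2 n157597 = n139092 := d3_3 F351887 (iv2 F305551) D157597
theorem F351893 : act 5 n123768 = n139092 := d12_5 F351887 F304670 F302086 (iv5 F302085) D123768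
theorem F351894 : act 0 n91364 = n123768 := d21_7 (iv5 D47177) (iv1 D22695) D22696 F35280 D22707 D47203 (iv5 F140493) F351893 F351887 (iv1 F156110)
theorem F351895 : act 3 n139093 = n123768 := d6_3 F351893 (iv3 D139092) D139093
theorem F351896 : act 6 n123765 = n139093 := d7_0 F351895 (iv6 D123768) D123765
theorem F351897 : act 5 n99552 = n123765 := d12_5 F351896 (iv5 D139093) D139094 (iv5 F339068) F349697
theorem F351898 : act 2 n123765 = n101136 := d2_1 F351897 (iv5 D101136) (iv2 F342629)
theorem F351899 : act 7 n123765 = n184548 := d13_2 (iv7 F342632) F351897 (iv5 D184548)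
theorem F351900 : act 4 n123765 = n181766 := d16_4 D150376 F310091 (iv4 F342631) F351897 (iv5 D181766) (iv4 D86810) (iv5 F236655) F236657 (iv2 F236651)
theorem F351901 : act 0 n123765 = n136650 := d17_2 (iv1 F342628) F351897 F342018 F198087 (iv5 F311160) (iv0 D65341) D65343 F307183 D86599
theorem F351902 : act 1 n123765 = n136646 := d17_6 (iv1 F314462) F314465 (iv1 F310090) F310091 (iv4 F342631) F351897 (iv5 F316793) F316789 F238353
theorem E101164 : n136634 = n99553 := (c17_5 (iv1 F219677) (iv5 D136597) (iv1 F100023) D64222 D136634 (iv5 D99553) D99552 F351897 F351902 (iv4 D136646))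
theorem F351903 : act 4 n99553 = n64222 := (sb E101164 (iv4 D136634))
theorem F351904 : act 3 n181766 = n136430 := d19_3 (iv1 F342628) F351897 F351900 (iv1 D136430) (iv5 D64140) (iv4 F82446) (iv3 D52156) (iv1 F46632) D61257 F95732 (iv3 F87493) F87495 (iv5 D52122) F50600 (iv3 F83558) (iv1 F83561) (iv5 F94581) F97806 F309081
theorem F351905 : act 0 n186472 = n152069 := d21_4 (iv5 F52938) (iv1 F107986) F301845 D186472 F349697 F351897 F351901 F342018 (iv6 D123664) (iv1 F90802)
theorem F351906 : act 4 n122599 = n186472 := d17_9 F351905 F339068 F321333 F346691 D99619 F346688 (iv0 F339045) F339047 (iv0 F305310)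
theorem F351907 : act 3 n133591 = n186472 := d19_19 F351905 F339068 F222282 F221989 F317019 (iv5 F317426) (iv4 F209851) (iv3 F186467) (iv1 F186469) (iv5 F87501) (iv4 F187797) (iv3 F344898) F332076 (iv5 F332061) (iv4 F206402) F335261 F350954 F310340 F215523
theorem E101165 : n154248 = n99621 := ((c21_4 F339068 F321333 F346691 D99621 (iv1 D154248) (iv6 D73081) (iv5 F52938) (iv1 F107986) F301845 D186472 F351905)).symm
theorem F351908 : act 0 n99621 = n73081 := (sb E101165 (iv1 D154248))
theorem F351909 : act 1 n99621 = n73087 := (sb E101165 F242352)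
theorem F351910 : act 4 n99621 = n148899 := (sb E101165 (iv4 F308766))
theorem F351911 : act 1 n186472 = n152064 := d15_1 (iv0 F351905) (iv7 F339114) F339112
theorem F351912 : act 7 n186472 = n151994 := d15_2 (iv0 F339065) (iv0 F351905) F239010
theorem F351913 : act 2 n157564 = n186472 := d4_3 F351912 F239010 (iv7 F339119)
theorem E101166 : n152620 = n122618 := (c0_4 F252706 F351913 (iv3 F351907) F239829 (iv3 F235086) (iv2 F252705))
theorem F351914 : act 0 n122618 = n71998 := (sb E101166 (iv1 D152620))
theorem F351915 : act 1 n122618 = n133593 := (sb E101166 F239826)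
theorem E101167 : n133591 = n120390 := (((F196440).symm.trans (sb E101166 (iv2 F239829)))).symm
theorem F351916 : act 4 n122618 = n107969 := (sb E101166 F239828)
theorem F351917 : act 7 n122618 = n133590 := (sb E101166 F239827)
theorem F351918 : act 0 n120390 = n62694 := (sb E101167 (iv1 D133591))
theorem F351919 : act 1 n120390 = n152623 := (sb E101167 F239834)
theorem F351920 : act 3 n120390 = n186472 := (sb E101167 F351907)
theorem F351921 : act 4 n120390 = n131490 := (sb E101167 (iv4 F215523))
theorem F351922 : act 7 n120390 = n152619 := (sb E101167 F239824)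
theorem F351923 : act 4 n133103 = n153328 := d20_8 (iv4 F339042) (iv1 F305311) F351906 (iv3 F351920) F351918 (iv3 F213751) F213752 D133103 (iv3 F309877) F339035
theorem F351924 : act 6 n153328 = n107948 := d10_2 (iv6 F347445) F351923 F344948
theorem E101168 : n157623 = n153328 := (c20_11 (iv4 F351923) (iv1 F342110) (iv4 D160322) (iv3 D76837) (iv1 D35118) F27977 F27292 D16661 D34375 D75046 D157623)
theorem F351925 : act 1 n153328 = n75046 := (sb E101168 (iv0 D157623))
theorem F351926 : act 0 n157626 = n138053 := d18_0 F346593 F341715 (iv4 F345495) F345496 D160322 F342110 F351923 F351925 D157626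
theorem F351927 : act 6 n107969 = n96492 := d10_2 D122618 F351916 F148597
theorem F351928 : act 7 n170010 = n157441 := d14_4 F215545 F351927 F148598 D170010 F247996
theorem F351929 : act 5 n129895 = n170010 := d13_3 F351928 F307936 (iv7 F307939)
theorem E101169 : n148137 = n132306 := (c16_5 D129895 F351929 F267453 F314111 (iv4 F231960) (iv5 D132306) (iv4 D62072) (iv5 F209583) F209640 (iv2 F209639))
theorem F351930 : act 4 n132306 = n69402 := (sb E101169 F231960)
theorem F351931 : act 6 n132306 = n69401 := (sb E101169 (iv6 D148137))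
theorem E101170 : n170281 = n157440 := ((c17_3 F309033 F351929 F342635 (iv5 D170281) (iv4 F317697) (iv5 F217650) F214099 (iv5 F215122) F215123 F311197)).symm
theorem F351932 : act 5 n157440 = n81663 := (sb E101170 (iv5 D170281))
theorem E101171 : n148139 = n129835 := (c17_7 (iv1 D131404) F311198 F309033 F351929 F267453 F314111 D148139 F208187 (iv0 F208188) (iv4 F210625))
theorem F351933 : act 0 n129835 = n69402 := (sb E101171 (iv1 D148139))
theorem F351934 : act 1 n170010 = n157439 := d17_6 (iv1 F316281) (iv5 D60864) (iv1 F47084) (iv5 F209645) D129895 F351929 F316292 (iv0 D81662) (iv4 F72454)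
theorem F351935 : act 0 n170282 = n149006 := d21_4 F351929 F342635 F351932 D170282 (iv6 D149006) F106305 (iv1 F94589) (iv5 F96226) F311199 F309033
theorem F351936 : act 3 n184242 = n170282 := d20_3 (iv4 F297893) D87880 D184242 F351935 F309198 F123680 (iv1 F57565) D36697 D80483 F297861
theorem F351937 : act 1 n170282 = n148893 := d15_1 (iv0 F351935) (iv7 F351512) (iv2 F234283)
theorem F351938 : act 6 n170279 = n184242 := d7_0 F351936 (iv6 D170282) D170279
theorem F351939 : act 4 n184244 = n170279 := d10_3 F351938 (iv4 D184242) D184244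
theorem F351940 : act 5 n170279 = n159078 := d21_6 F303687 F300968 (iv5 F134359) D183292 F339030 (iv6 F351938) (iv1 D159078) F313737 (iv6 F304148) (iv1 D98484)
theorem F351941 : act 3 n159078 = n157440 := d6_1 F351940 F351932 D170279
theorem F351942 : act 0 n157441 = n170279 := d17_2 F307934 (iv5 F307936) F351940 (iv4 F319889) F217681 F211858 F211856 F210247 D132989
theorem F351943 : act 1 n127839 = n170279 := d17_6 (iv1 D60867) (iv5 D28871) D28868 D60857 F312003 (iv5 F312113) F351940 (iv0 F250444) (iv4 F312038)
theorem F351944 : act 5 n98486 = n155129 := d21_6 F351940 (iv1 D159078) F313737 (iv6 F304148) (iv1 D98484) D98486 (iv1 F350956) (iv5 F339376) (iv6 F247996) F351942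
theorem F351945 : act 0 n184242 = n127860 := d21_4 F312039 F250444 (iv5 F351940) F351938 (iv6 D127860) F94581 F54050 D29238 D61675 D131403
theorem F351946 : act 0 n98299 = n100089 := d20_4 F314127 F232776 (iv4 F314401) F195650 (iv3 F232751) D184242 F351945 (iv4 F214905) (iv3 F311965) F314254
theorem F351947 : act 1 n98299 = n99309 := d15_1 (iv0 F351946) F275002 D100089
theorem F351948 : act 4 n98299 = n135397 := d20_0 (iv1 D135397) (iv4 F316141) (iv3 F232736) (iv1 F107097) F107092 (iv4 F127789) (iv1 F127792) (iv4 F155511) D99309 (iv1 F351947)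
theorem F351949 : act 2 n135397 = n153254 := d1_1 F351948 F240755 F153845
theorem E101172 : n135397 = n129361 := (c5_1 F351948 (iv3 D129361) F162926 D62704 (iv4 F314401) F195650)
theorem F351950 : act 0 n129361 = n63650 := (sb E101172 (iv1 D135397))
theorem F351951 : act 1 n129361 = n152174 := (sb E101172 F239256)
theorem F351952 : act 2 n129361 = n153254 := (sb E101172 F351949)
theorem F351953 : act 4 n129361 = n98299 := (sb E101172 (iv4 F351948))
theorem F351954 : act 6 n129361 = n98298 := (sb E101172 (iv6 F330179))
theorem F351955 : act 4 n101193 = n152174 := d20_0 (iv1 F351951) F351953 (iv3 F195650) F316006 (iv3 D81985) (iv4 D37548) (iv1 F44107) (iv4 F89680) (iv3 F195775) (iv1 F195778)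
theorem F351956 : act 4 n135399 = n122375 := d1_2 F351955 F239253 F232864
theorem F351957 : act 3 n127869 = n135399 := d5_5 F351956 (iv3 F232860) (iv4 F232763) F232762 F205780
theorem F351958 : act 4 n100087 = n131092 := d20_0 F345833 F351956 (iv3 F232860) (iv1 D70620) F51858 (iv4 F59012) F155451 (iv4 D46729) D46728 D100087
theorem F351959 : act 3 n107961 = n100087 := d20_5 F51859 D32758 D70625 F311671 D107961 F351958 F345833 F351956 (iv3 F232860) (iv1 D70620)
theorem F351960 : act 7 n100087 = n98299 := d8_2 F314402 F351959 (iv3 F195650)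
theorem F351961 : act 0 n107961 = n99984 := d20_4 F318365 (iv1 F345834) (iv4 F351958) (iv3 F351959) (iv3 D99984) F117313 (iv1 D27254) (iv4 F44099) (iv3 F89676) D122374
theorem E101173 : n170886 = n99984 := (c15_1 D170886 (iv0 F351961) (iv7 F314402) F195649)
theorem F351962 : act 0 n99984 = n81921 := (sb E101173 (iv1 D170886))
theorem F351963 : act 0 n170887 = n123225 := d17_2 F351962 D170887 (iv5 D123225) (iv4 F114883) (iv5 F307151) D78344 F257173 (iv0 F313552) (iv4 F153919)
theorem F351964 : act 0 n154836 = n177919 := d21_1 D154836 (iv5 F332468) (iv6 F332466) F351962 (iv6 D81921) F72916 F61995 F61993 D69906 F314827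
theorem F351965 : act 1 n170887 = n115967 := d15_1 (iv0 F351963) F328883 (iv2 F197516)
theorem E101174 : n133110 = n133045 := (c20_4 F95368 (iv1 F47835) (iv4 F130946) D133110 (iv1 D133045) (iv3 F323429) (iv4 D100090) D100087 F351958 (iv3 D131092) F162915)
theorem F351966 : act 3 n133045 = n62451 := (sb E101174 (iv3 D133110))
theorem F351967 : act 7 n133045 = n130423 := (sb E101174 F213771)
theorem F351968 : act 4 n119409 = n133045 := d11_3 F351967 F351481 F254840
theorem F351969 : act 2 n130423 = n133044 := d15_3 (iv0 D133044) D133045 F351967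
theorem F351970 : act 2 n133045 = n127882 := d15_3 (iv0 F341902) (iv0 F351479) (iv7 F351967)
theorem F351971 : act 7 n127882 = n133044 := d4_2 (iv7 F351967) F351970 (iv2 F351969)
theorem F351972 : act 3 n133044 = n127886 := d8_1 F351971 (iv7 D127886) (iv3 F205797)
theorem F351973 : act 4 n133044 = n152599 := d11_1 F351971 (iv7 D152599) (iv4 F205798)
theorem F351974 : act 5 n133044 = n166386 := d13_1 F351971 F341904 (iv5 F341901)
theorem F351975 : act 4 n166386 = n174262 := d18_5 (iv1 D158790) (iv4 F300894) F239793 (iv4 F351973) F351974 (iv0 D174262) F346350 (iv0 F308696) (iv5 F307477)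
theorem E101175 : n160956 = n136272 := (c21_4 (iv5 F351974) (iv1 F217743) F336544 D160956 F219338 F322508 (iv5 D133062) (iv1 F97307) (iv5 F334252) F334248 (iv1 F345799))
theorem F351976 : act 1 n136272 = n147382 := (sb E101175 (iv0 F336549))
theorem F351977 : act 2 n136272 = n147697 := (sb E101175 F336552)
theorem F351978 : act 6 n136272 = n77243 := (sb E101175 (iv6 D160956))
theorem F351979 : act 7 n136272 = n147698 := (sb E101175 (iv7 F336571))
theorem F351980 : act 4 n147698 = n136274 := d11_1 F351979 (iv7 D136274) D136272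
theorem F351981 : act 6 n136274 = n158894 := d10_2 (iv6 F336570) F351980 F250187
theorem E101176 : n136274 = n109244 := ((c20_11 (iv4 F351980) (iv1 D147698) (iv4 F325238) (iv3 D109714) (iv1 D50603) (iv3 D24649) (iv4 D11674) (iv1 F20250) D24570 D50412 D109244)).symm
theorem F351982 : act 2 n109244 = n64068 := (sb E101176 F219339)
theorem F351983 : act 3 n109244 = n158897 := (sb E101176 (iv3 F349849))
theorem F351984 : act 4 n109244 = n147698 := (sb E101176 (iv4 F351980))
theorem F351985 : act 6 n109244 = n158894 := (sb E101176 F351981)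
theorem F351986 : act 7 n109244 = n64067 := (sb E101176 (iv7 D136274))
theorem E101177 : n136271 = n109245 := (c15_4 F169202 F169199 F351986 D136271)
theorem F351987 : act 2 n109245 = n64067 := (sb E101177 (iv2 D136271))
theorem F351988 : act 7 n109245 = n64068 := (sb E101177 (iv7 F219337))
theorem F351989 : act 4 n147697 = n109245 := d11_3 F351988 D136276 F336558
theorem F351990 : act 3 n107584 = n147697 := d20_5 (iv4 D13380) F19555 D24240 D49702 D107584 F351989 (iv1 D109245) (iv4 F93219) (iv3 D59015) (iv1 D28045)
theorem F351991 : act 5 n147697 = n136282 := d6_2 F224406 F351990 (iv3 F224404)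
theorem E101178 : n163341 = n86187 := (c21_11 (iv5 F318576) (iv1 F347148) (iv5 F351991) F336551 F336546 F116006 (iv5 F56474) (iv1 F57199) F254093 D78500 D163341)
theorem E101179 : n180466 = n78500 := ((D180466).symm.trans (sb E101178 (iv0 D163341)))
theorem F351992 : act 0 n78500 = n86187 := (sb E101179 (iv1 D180466))
theorem E101180 : n166812 = n163342 := (((D163342).symm.trans (sb E101179 F280872))).symm
theorem F351993 : act 1 n163342 = n178248 := (sb E101180 (iv0 F333971))
theorem F351994 : act 2 n163342 = n80070 := (sb E101180 (iv2 D166812))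
theorem F351995 : act 3 n163342 = n113145 := (sb E101180 (iv3 F324602))
theorem F351996 : act 6 n163342 = n128000 := (sb E101180 (iv6 F323395))
theorem F351997 : act 7 n163342 = n180467 := (sb E101180 (iv7 F280870))
theorem F351998 : act 7 n178248 = n121160 := d15_2 D163342 F351993 F257941
theorem F351999 : act 2 n163344 = n178248 := d4_3 F351998 F257941 D163344
theorem E101181 : n166811 = n163344 := ((c15_4 F280873 (iv0 F336621) (iv7 F351998) (iv2 F351999))).symm
theorem F352000 : act 0 n163344 = n80070 := (sb E101181 (iv1 D166811))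
theorem F352001 : act 1 n163344 = n180467 := (sb E101181 F280873)
theorem E101182 : n166384 = n163344 := ((c21_5 D69219 D147719 F336608 (iv6 F280869) (iv1 F352001) (iv6 D166384) (iv5 F323552) F343030 (iv5 D79858) F57125 F336338)).symm
theorem F352002 : act 6 n163344 = n79887 := (sb E101182 (iv6 D166384))
theorem F352003 : act 5 n163344 = n178940 := d21_0 (iv1 D178940) F322506 (iv6 D69214) (iv1 D32188) D32190 D69219 D147719 F336608 (iv6 F280869) (iv1 F352001)
theorem F352004 : act 7 n178940 = n163343 := d13_2 D163344 F352003 (iv5 D163343)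
theorem F352005 : act 2 n163343 = n178939 := d15_3 (iv0 D178939) D178940 F352004
theorem F352006 : act 4 n103101 = n163344 := d10_3 F352002 (iv4 F323551) D103101
theorem E101183 : n111971 = n103681 := (c1_3 F352006 F351999 F333973 F159116)
theorem F352007 : act 0 n103681 = n51642 := (sb E101183 (iv1 D111971))
theorem F352008 : act 1 n103681 = n109285 := (sb E101183 F174013)
theorem F352009 : act 4 n103681 = n178248 := (sb E101183 (iv4 F333973))
theorem F352010 : act 7 n163340 = n103101 := d11_0 F352006 (iv7 D163344) (iv4 F257647)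
theorem F352011 : act 5 n184381 = n103101 := d16_5 F347163 (iv5 D109286) (iv4 F82249) D112749 F347899 F352006 F352003 F352004 F352005
theorem E101184 : n109283 = n103101 := (c20_11 F352006 F352000 (iv4 F323177) (iv3 D109329) (iv1 D50450) (iv3 D24589) (iv4 D11630) D11628 D24583 D50432 D109283)
theorem F352012 : act 0 n103101 = n111972 := (sb E101184 (iv1 F174012))
theorem F352013 : act 1 n103101 = n50432 := (sb E101184 (iv0 D109283))
theorem F352014 : act 7 n109284 = n103681 := d15_2 F352013 D109284 F159116
theorem F352015 : act 1 n103185 = n184381 := d17_6 D112746 F344703 (iv1 F230899) (iv5 D147280) F105266 (iv5 F322990) F352011 F352013 (iv4 F82249)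
theorem F352016 : act 6 n103287 = n109286 := d21_5 (iv5 D42477) F31878 (iv5 F36073) D47859 D103287 (iv5 D109286) (iv1 F352013) (iv5 F352011) (iv6 D184381) F291898
theorem F352017 : act 3 n109288 = n103287 := d7_3 F352016 F169305 D109288
theorem F352018 : act 4 n162959 = n103287 := d10_3 F352016 (iv4 F347163) F341872
theorem F352019 : act 1 n184381 = n105642 := d15_1 F352015 F162240 (iv2 F322988)
theorem E101185 : n109247 = n104806 := ((c21_5 F75457 (iv1 F66535) D23617 D48455 D104806 (iv6 D109247) (iv5 F162239) (iv1 F352019) F352011 (iv6 D103101) (iv1 F75459))).symm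
theorem F352020 : act 3 n104806 = n50413 := (sb E101185 F169204)
theorem F352021 : act 4 n104806 = n126003 := (sb E101185 (iv4 F202696))
theorem F352022 : act 6 n104806 = n50412 := (sb E101185 (iv6 D109247))
theorem F352023 : act 7 n104806 = n111781 := (sb E101185 (iv7 F173484))
theorem F352024 : act 3 n124975 = n104805 := d20_5 (iv4 D59320) F166152 (iv4 F81968) (iv3 F175008) (iv1 F345390) F160631 D104806 F352021 F202695 (iv1 F161245)
theorem F352025 : act 4 n104835 = n124975 := d5_0 F352024 F160631 F76211 (iv4 F76236) (iv3 F160693)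
theorem F352026 : act 6 n104803 = n124975 := d7_0 F352024 (iv6 D104805) D104803
theorem F352027 : act 2 n178819 = n104803 := d3_3 F352026 F200731 D178819
theorem F352028 : act 5 n155443 = n104803 := d12_5 F352026 (iv5 D124975) F199885 D73910 D155443
theorem F352029 : act 6 n104606 = n104641 := d14_5 (iv7 F160625) F352026 F200732 (iv6 F335308) F160513
theorem F352030 : act 0 n155443 = n106377 := d21_7 (iv5 F181947) F181948 (iv5 D112533) D112534 (iv1 F345390) (iv6 F352026) (iv5 F352028) F346412 (iv6 D147654) (iv1 F175078)
theorem F352031 : act 4 n114774 = n155443 := d20_0 F352030 (iv4 D106377) (iv3 D49152) (iv1 D23983) (iv3 F37456) F54212 D33618 D72931 F259175 F259171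
theorem F352032 : act 3 n104804 = n155443 := d20_3 (iv4 D89247) (iv1 F136932) F291551 F352030 (iv3 F179116) (iv4 D115022) (iv1 F206233) (iv4 F206340) F206339 (iv1 F311629)
theorem E101186 : n172161 = n89247 := (c20_6 (iv4 D106377) F334809 (iv4 F108375) F108374 D82449 D172161 (iv4 D89247) (iv1 F136932) F291551 F352032 F352030)
theorem F352033 : act 3 n89247 = n82449 := (sb E101186 (iv3 D172161))
theorem F352034 : act 7 n155443 = n114065 := d15_2 (iv0 F340922) (iv0 F352030) F177579
theorem F352035 : act 2 n152192 = n155443 := d4_3 F352034 F177579 D152192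
theorem F352036 : act 5 n114065 = n104641 := d13_1 F352034 (iv7 F160625) (iv5 F352028)
theorem F352037 : act 2 n104641 = n152191 := d2_1 F352036 (iv5 D152191) (iv2 F177579)
theorem F352038 : act 4 n152191 = n104671 := d1_2 (iv4 F160353) F352037 (iv2 D104671)
theorem F352039 : act 7 n152191 = n178819 := d4_2 F160625 F352037 F352027
theorem F352040 : act 4 n178819 = n104833 := d11_1 F352039 F160687 (iv4 F352038)
theorem F352041 : act 5 n178819 = n152192 := d13_1 F352039 (iv7 D152192) D152191
theorem F352042 : act 6 n152192 = n119839 := d12_2 D178819 F352041 (iv5 D119839) F199901 D85217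
theorem F352043 : act 6 n104833 = n178818 := d10_2 D178819 F352040 (iv4 D178818)
theorem F352044 : act 3 n178819 = n145264 := d20_3 (iv4 F128548) (iv1 F329775) (iv4 F352040) (iv1 F346959) F277076 (iv4 F277080) (iv1 F347464) F347466 F335989 (iv1 D84813)
theorem F352045 : act 2 n178818 = n104835 := d3_1 F352043 (iv6 D104835) D104833
theorem F352046 : act 7 n104776 = n104835 := d16_8 (iv4 D178818) (iv5 D85217) (iv4 D39390) F313136 D30616 D65227 D138939 (iv5 F348069) (iv2 F352045)
theorem F352047 : act 5 n104835 = n156877 := d13_1 F352046 F246902 (iv5 F348069)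
theorem F352048 : act 2 n104776 = n176687 := d16_9 F335296 (iv5 D118449) F86199 (iv5 F313578) D34204 D74601 D156877 (iv5 F352047) (iv7 F352046)
theorem F352049 : act 7 n176687 = n178818 := d4_2 (iv7 F352046) F352048 F352045
theorem F352050 : act 6 n104671 = n95371 := d14_3 F352049 (iv6 F352043) F160687 F335304 D176687
theorem F352051 : act 3 n95374 = n104671 := d7_3 F352050 F147002 D95374
theorem E101187 : n124641 = n104831 := ((c18_7 (iv1 D146147) (iv4 F323418) (iv1 F259172) (iv4 F108250) D152191 F352038 F160686 F199382 D124644 (iv5 F348637))).symm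
theorem F352052 : act 3 n104831 = n58236 := (sb E101187 (iv3 D124641))
theorem F352053 : act 4 n104831 = n58237 := (sb E101187 F199382)
theorem F352054 : act 6 n104831 = n121075 := (sb E101187 F199383)
theorem F352055 : act 7 n104831 = n83443 := (sb E101187 F199384)
theorem E101188 : n174616 = n104832 := (c15_4 F160689 F160686 F352055 D174616)
theorem F352056 : act 2 n104832 = n83443 := (sb E101188 (iv2 D174616))
theorem F352057 : act 4 n104832 = n84814 := (sb E101188 F273473)
theorem F352058 : act 2 n104831 = n104670 := d15_3 F160690 F329775 (iv7 F352055)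
theorem F352059 : act 4 n104670 = n124645 := d16_0 (iv5 F335984) F179438 F83945 (iv4 F99349) D135851 F335982 (iv5 D174617) (iv7 F352055) F352058
theorem F352060 : act 6 n163100 = n104670 := d10_0 F352059 F338771 (iv4 F351055)
theorem F352061 : act 7 n104832 = n104670 := d11_0 F352059 F199391 (iv4 F352057)
theorem F352062 : act 0 n178182 = n146148 := d18_0 F323416 F258995 (iv4 F177580) F352036 F160353 D104670 F352059 F199392 D178182
theorem F352063 : act 6 n142531 = n119851 := d21_9 (iv5 D55160) D55158 D119849 F340151 F352062 F229395 (iv5 F320154) F320151 (iv5 F225423) (iv1 D119851)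
theorem F352064 : act 1 n178182 = n121723 := d15_1 (iv0 F352062) (iv7 F320067) D146148
theorem F352065 : act 4 n178182 = n106375 := d20_0 (iv1 D106375) D106377 (iv3 F179116) (iv1 F334722) (iv3 D146729) F182754 (iv1 F85179) (iv4 F317770) (iv3 F194285) (iv1 F352064)
theorem F352066 : act 6 n107744 = n157707 := d14_5 F248511 F352063 F233310 D155471 (iv7 F347678)
theorem F352067 : act 0 n180579 = n146541 := d21_10 (iv5 F231242) (iv1 F231245) (iv5 F182069) F336516 (iv1 F248520) F352063 F233313 (iv1 D148542) D148543 (iv6 F348622)
theorem E101189 : n157707 = n114204 := (c10_1 F352066 (iv4 D114204) D114206 (iv4 F338696))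
theorem F352068 : act 0 n114204 = n75139 := (sb E101189 (iv1 D157707))
theorem F352069 : act 1 n114204 = n142443 := (sb E101189 (iv0 F248514))
theorem F352070 : act 2 n114204 = n142530 := (sb E101189 (iv2 F248513))
theorem F352071 : act 5 n114204 = n116745 := (sb E101189 F248512)
theorem F352072 : act 6 n114204 = n107744 := (sb E101189 (iv6 F352066))
theorem F352073 : act 7 n114204 = n142531 := (sb E101189 F248511)
theorem F352074 : act 5 n107744 = n129266 := d21_6 F83181 (iv1 F113135) F113137 (iv6 F314390) (iv1 F352069) F352072 (iv1 D129266) (iv5 F334123) (iv6 D114698) F83657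
theorem F352075 : act 7 n129266 = n152684 := d13_2 (iv7 F347678) F352074 (iv5 F244468)
theorem F352076 : act 6 n129266 = n130742 := d21_3 D135326 F338697 F352074 (iv1 D130742) (iv6 D61340) (iv5 F95486) F212146 (iv5 D30031) D30032 D63616
theorem F352077 : act 0 n126704 = n130742 := d21_4 F45789 (iv1 F45720) D59451 D126704 (iv6 F352076) (iv5 F352074) (iv1 D107744) F78628 (iv6 D28292) D28289
theorem F352078 : act 7 n126704 = n130740 := d15_2 D130742 (iv0 F352077) F209299
theorem F352079 : act 5 n176331 = n126704 := d13_3 F352078 (iv5 F216546) F340122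
theorem F352080 : act 1 n144343 = n130740 := d15_1 D144343 (iv7 F352078) F203905
theorem F352081 : act 5 n144343 = n148386 := d19_1 (iv1 F352080) (iv4 F233246) (iv3 D148484) (iv1 F184860) F317790 (iv4 F306565) F149121 F110803 (iv5 F309343) (iv4 F311588) (iv3 F103917) F314862 (iv5 F314865) F305760 (iv3 F184676) (iv1 F304386) D123390 (iv4 F337864) (iv3 F209300)
theorem F352082 : act 6 n148386 = n119670 := d21_3 F216546 (iv1 F352080) F352081 (iv1 D119670) (iv6 F188750) (iv5 D119661) F318018 D84079 (iv6 F320108) D134575
theorem F352083 : act 6 n144343 = n152303 := d21_5 (iv5 F98962) (iv1 F314807) F314809 D130740 (iv1 F352080) (iv5 D152303) F108312 (iv5 F304776) (iv6 D30045) (iv1 F207213)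
theorem F352084 : act 2 n152670 = n144343 := d3_3 F352083 F239412 D152670
theorem F352085 : act 7 n130742 = n144343 := d14_0 F352083 F239413 D152684 (iv7 F352075) F352076
theorem F352086 : act 3 n144343 = n92722 := d8_1 F352085 F142943 F348576
theorem E101190 : n152670 = n130741 := (c15_4 (iv0 D130741) D130742 F352085 (iv2 F352084))
theorem F352087 : act 2 n130741 = n144343 := (sb E101190 F352084)
theorem F352088 : act 6 n130741 = n72019 := (sb E101190 (iv6 D152670))
theorem F352089 : act 2 n130742 = n144342 := d15_3 (iv0 D144342) D144343 (iv7 F352085)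
theorem F352090 : act 2 n137393 = n136886 := d1_3 F348577 F352089 F347095
theorem F352091 : act 7 n144342 = n130741 := d4_2 (iv7 F352085) F352089 F352087
theorem F352092 : act 1 n126704 = n130741 := d15_1 (iv0 F352077) (iv7 F352091) (iv2 F352089)
theorem F352093 : act 1 n130740 = n144342 := d15_1 F352080 F352091 F352087
theorem F352094 : act 5 n144342 = n143599 := d17_7 F319988 (iv5 F319503) (iv1 D119162) (iv5 F184011) F334125 F216546 F352093 F330651 (iv4 D69534)
theorem F352095 : act 7 n136887 = n137393 := d15_2 (iv0 D136886) D136887 F352090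
theorem F352096 : act 7 n137394 = n136886 := d15_2 (iv0 D137393) D137394 (iv2 F352090)
theorem F352097 : act 2 n136887 = n137394 := d4_3 F352096 (iv2 F352090) (iv7 F352095)
theorem F352098 : act 3 n90451 = n137394 := d8_3 F352096 (iv3 F348578) (iv7 F143026)
theorem F352099 : act 4 n144343 = n137394 := d11_3 F352096 F348577 F352085
theorem F352100 : act 4 n136887 = n130741 := d1_2 F352099 (iv2 F352097) F352087
theorem F352101 : act 0 n137395 = n134550 := d17_2 (iv1 D137394) D137395 (iv5 D134550) F98473 D63235 (iv0 F212895) F325881 D144343 F352099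
theorem F352102 : act 3 n134169 = n92754 := d20_3 F217069 (iv1 D134168) D134169 (iv1 F143038) F352098 (iv4 F352099) (iv1 D144343) F103653 (iv3 F326703) (iv1 F217067)
theorem F352103 : act 6 n92754 = n133195 := d7_2 (iv6 F216207) F352102 F214020
theorem F352104 : act 6 n152669 = n136887 := d10_0 F352100 F352088 D152669
theorem E101191 : n130789 = n129214 := (c20_5 (iv4 F352100) (iv1 D136887) (iv4 F204095) F347093 (iv1 F214821) (iv3 D129214) F95338 (iv1 D29038) (iv4 F46681) (iv3 F95828) D130741)
theorem F352105 : act 0 n129214 = n61357 := (sb E101191 (iv1 D130789))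
theorem F352106 : act 1 n129214 = n133540 := (sb E101191 F214821)
theorem F352107 : act 1 n130680 = n90502 := d18_6 (iv1 D132810) D132811 F344834 F119238 D86330 (iv4 F318981) F334643 F352106 F336056
theorem F352108 : act 3 n92472 = n148386 := d6_3 (iv5 F352081) F352086 (iv5 F142946)
theorem F352109 : act 3 n174016 = n152303 := d7_3 (iv6 F352083) F352086 (iv6 F339469)
theorem F352110 : act 7 n152679 = n174016 := d8_0 F352109 F239413 (iv3 F239897)
theorem F352111 : act 4 n136834 = n131164 := d16_4 (iv4 F340118) F352079 F203906 D136834 (iv5 D131164) F96059 (iv5 F87988) (iv7 F316406) F340121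
theorem F352112 : act 2 n131164 = n170649 := d1_1 F352111 F334126 F220954
theorem F352113 : act 6 n131164 = n136842 := d10_2 (iv6 F220033) F352111 (iv4 D136842)
theorem F352114 : act 5 n136842 = n131161 := d12_1 F352113 (iv6 D131161) (iv5 D61531) D61532 D131164
theorem F352115 : act 4 n131161 = n135568 := d16_4 (iv4 F48732) D64332 D136842 F352114 F218006 F99104 (iv5 F99126) (iv7 D63752) F48344
theorem F352116 : act 7 n131161 = n135567 := d16_8 (iv4 D135231) (iv5 D63545) F48199 (iv5 F24026) (iv4 F48732) D64332 D136842 F352114 F218004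
theorem F352117 : act 6 n135568 = n131160 := d10_2 D131161 F352115 (iv4 D131160)
theorem F352118 : act 6 n133642 = n135232 := d3_2 F352117 (iv2 F215045) (iv2 F218005)
theorem E101192 : n152398 = n135564 := ((c21_9 (iv5 D33222) F40675 D53097 D115074 F333552 F352118 F217415 (iv1 F99101) D135564 (iv6 D152398) (iv1 D71895))).symm
theorem F352119 : act 6 n135564 = n71895 := (sb E101192 (iv6 D152398))
theorem F352120 : act 6 n106390 = n135228 := d3_2 F352119 (iv2 F176903) (iv2 F217995)
theorem F352121 : act 6 n152386 = n133464 := d21_9 F217415 (iv1 F99101) D135564 F352119 (iv1 D71895) (iv6 F108386) (iv5 D71892) D71890 D152386 F217416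
theorem F352122 : act 3 n133464 = n159467 := d7_1 F352121 (iv6 D159467) (iv3 F333223)
theorem F352123 : act 5 n159467 = n133462 := d6_2 D133464 F352122 F214626
theorem F352124 : act 2 n133462 = n159552 := d2_1 F352123 F251289 (iv2 F251115)
theorem F352125 : act 3 n135228 = n106391 := d7_1 F352120 (iv6 D106391) D106390
theorem E101193 : n114207 = n114195 := ((c11_2 F352073 F330335 (iv7 D114207) D114204)).symm
theorem F352126 : act 2 n114195 = n52716 := (sb E101193 F177993)
theorem F352127 : act 7 n114195 = n52715 := (sb E101193 (iv7 D114207))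
theorem F352128 : act 7 n114205 = n142463 := d13_2 F352127 D114205 F330338
theorem E101194 : n114202 = n114194 := (c15_4 (iv0 D114194) D114195 F352127 D114202)
theorem F352129 : act 2 n114194 = n52715 := (sb E101194 (iv2 D114202))
theorem F352130 : act 7 n114194 = n52716 := (sb E101194 (iv7 F177992))
theorem E101195 : n155468 = n114209 := ((c11_2 F352130 D114209 F339407 F330334)).symm
theorem F352131 : act 0 n114209 = n142443 := (sb E101195 F339403)
theorem F352132 : act 1 n114209 = n75139 := (sb E101195 F339404)
theorem F352133 : act 2 n114209 = n142531 := (sb E101195 F339405)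
theorem F352134 : act 5 n114209 = n116744 := (sb E101195 F339406)
theorem F352135 : act 6 n114209 = n73942 := (sb E101195 (iv6 D155468))
theorem F352136 : act 7 n114209 = n142530 := (sb E101195 F339407)
theorem F352137 : act 7 n114210 = n142473 := d13_2 F352130 D114210 F330339
theorem F352138 : act 4 n116490 = n114210 := d16_6 D114204 F352071 (iv4 F182177) (iv5 F180376) F84701 D116490 (iv5 D114210) (iv7 F352130) F352129
theorem F352139 : act 2 n114210 = n142463 := d1_1 F352138 (iv4 D142463) (iv2 F181799)
theorem F352140 : act 4 n116487 = n114205 := d9_9 D116490 F352138 (iv5 D114210) D114209 F352134 (iv4 F223900) F223901 (iv4 F102515) D116487 (iv5 D114205) D114204 F352071 (iv4 F182177) (iv5 F180376) F84701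
theorem F352141 : act 2 n114205 = n142473 := d1_1 F352140 (iv4 D142473) (iv2 F181792)
theorem F352142 : act 3 n147324 = n114209 := d8_3 F352136 F350778 (iv7 F243359)
theorem E101196 : n114208 = n69322 := (c5_4 (iv4 F243358) F352142 (iv4 D114209) D114208 D147982 (iv3 F243353))
theorem E101197 : n147981 = n52716 := ((D147981).symm.trans (sb E101196 (iv3 D114208)))
theorem F352143 : act 3 n52716 = n69322 := (sb E101197 (iv3 D147981))
theorem F352144 : act 6 n155465 = n147324 := d7_0 F352142 F352135 D155465
theorem F352145 : act 4 n147961 = n147322 := d20_2 (iv4 F105592) D147961 F230994 D147324 F352142 (iv4 D114209) (iv1 D52716) (iv4 F83305) (iv3 F83484) F321002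
theorem F352146 : act 3 n119094 = n147961 := d5_5 F352145 F230994 F105307 (iv3 F105292) (iv4 F315233)
theorem F352147 : act 6 n119063 = n147961 := d10_0 F352145 (iv6 D147322) (iv4 F313051)
theorem F352148 : act 7 n147961 = n119064 := d14_2 D119063 F352147 (iv6 D119064) (iv7 D54791) D54790
theorem F352149 : act 1 n152275 = n147961 := d15_1 F239347 F352148 F187333
theorem F352150 : act 2 n147961 = n152486 := d15_3 (iv0 D152486) (iv0 F187335) (iv7 F352148)
theorem F352151 : act 3 n152486 = n106134 := d0_2 F352146 F352150 F178168 (iv3 F178170) (iv2 F187355)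
theorem F352152 : act 7 n152486 = n106131 := d4_2 (iv7 F352148) F352150 (iv2 F187333)
theorem F352153 : act 1 n117734 = n152486 := d15_1 (iv0 F349960) F352152 (iv2 F187333)
theorem F352154 : act 2 n152275 = n117734 := d15_3 F352153 (iv0 D152486) (iv7 F239345)
theorem E101198 : n173584 = n116908 := ((c1_3 (iv4 F346438) F352154 F184395 (iv2 F273755))).symm
theorem F352155 : act 2 n116908 = n83861 := (sb E101198 (iv2 F273755))
theorem F352156 : act 6 n116908 = n83028 := (sb E101198 (iv6 D173584))
theorem F352157 : act 6 n117734 = n173582 := d3_2 (iv6 F346439) F352154 F273754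
theorem F352158 : act 0 n125457 = n114605 := d20_7 D114489 F315235 (iv4 F315233) F352146 (iv1 F352149) (iv3 D152275) (iv4 F336474) F178695 F83593 F290329
theorem E101199 : n180556 = n167574 := (c20_2 (iv4 F325852) F345549 (iv4 D167574) (iv3 F350791) (iv1 D147325) (iv3 F230994) (iv4 F352145) (iv1 F352149) F346438 (iv3 F346431) F346434)
theorem F352159 : act 0 n167574 = n112567 := (sb E101199 (iv1 F328594))
theorem F352160 : act 1 n167574 = n116687 := (sb E101199 (iv0 F345549))
theorem F352161 : act 3 n167574 = n86230 := (sb E101199 F281004)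
theorem F352162 : act 5 n167574 = n86227 := (sb E101199 F281005)
theorem F352163 : act 7 n167574 = n86226 := (sb E101199 (iv7 D180556))
theorem E101200 : n167577 = n147458 := ((c11_2 F352163 (iv4 F350712) (iv7 D167577) D167574)).symm
theorem F352164 : act 2 n147458 = n80425 := (sb E101200 F263837)
theorem F352165 : act 7 n147458 = n80424 := (sb E101200 (iv7 D167577))
theorem F352166 : act 2 n167574 = n147651 := d15_3 F325854 (iv0 F325855) (iv7 F352163)
theorem E101201 : n167572 = n160730 := ((c1_3 D167574 F352166 F350707 (iv2 D167572))).symm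
theorem F352167 : act 2 n160730 = n80424 := (sb E101201 (iv2 D167572))
theorem F352168 : act 7 n160730 = n80425 := (sb E101201 (iv7 F263836))
theorem F352169 : act 7 n147651 = n180541 := d4_2 (iv7 F352163) F352166 F280990
theorem E101202 : n180541 = n167579 := (c11_1 F352169 (iv4 D167579) (iv7 F352168) (iv4 F350707))
theorem F352170 : act 0 n167579 = n116687 := (sb E101202 F332208)
theorem F352171 : act 1 n167579 = n112567 := (sb E101202 (iv0 F328593))
theorem F352172 : act 2 n167579 = n86226 := (sb E101202 F280990)
theorem F352173 : act 3 n167579 = n178361 := (sb E101202 F280991)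
theorem F352174 : act 5 n167579 = n86223 := (sb E101202 (iv5 D180541))
theorem F352175 : act 6 n167579 = n124661 := (sb E101202 F280992)
theorem F352176 : act 7 n167579 = n147651 := (sb E101202 (iv7 F352169))
theorem F352177 : act 4 n124661 = n167581 := d10_1 F352175 (iv6 D167581) D167579
theorem F352178 : act 2 n167581 = n124664 := d1_1 F352177 (iv4 D124664) (iv2 F199410)
theorem F352179 : act 5 n167581 = n174043 := d17_5 D166843 (iv5 F347453) F347450 D124661 F352177 F272788 (iv5 D172866) (iv0 D82759) (iv4 F296815)
theorem F352180 : act 3 n167581 = n119851 := d19_3 F347450 D124661 F352177 (iv1 D119851) (iv5 D55160) (iv4 D26656) (iv3 D12735) (iv1 F9360) (iv5 F11535) (iv4 F24826) (iv3 F51194) (iv1 F314013) D143733 F308967 F151621 (iv1 F187464) F325402 D165662 (iv3 F347452)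
theorem F352181 : act 2 n155465 = n147461 := d0_3 F352180 (iv2 F233311) D155465 (iv3 F350714) (iv2 F352178)
theorem E101203 : n167578 = n142531 := ((c7_3 D167581 F352180 (iv6 F352063) (iv3 D167578))).symm
theorem F352182 : act 3 n142531 = n80425 := (sb E101203 (iv3 D167578))
theorem F352183 : act 7 n155469 = n167581 := d8_0 F352180 F233310 D155469
theorem F352184 : act 4 n124618 = n101504 := d16_4 (iv4 D124664) (iv5 D58251) (iv4 F91977) D124618 F156315 (iv4 F311780) (iv5 F244467) F352183 F352178
theorem F352185 : act 5 n98556 = n124616 := d17_1 (iv1 F184677) (iv1 D124616) D124618 F352184 F156315 (iv0 F274658) F153256 F136882 (iv4 F156343)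
theorem E101204 : n124616 = n113326 := (c16_2 D98556 F352185 F176527 F332156 (iv4 F298225) F298226 F272839 (iv5 D98552) (iv7 F272831) F272830)
theorem F352186 : act 0 n113326 = n58188 := (sb E101204 (iv1 D124616))
theorem F352187 : act 5 n113326 = n98556 := (sb E101204 (iv5 F352185))
theorem F352188 : act 3 n98556 = n113327 := d6_1 F352187 (iv5 D113327) D113326
theorem F352189 : act 5 n101533 = n125608 := d13_3 (iv7 F202061) F352187 F272846
theorem F352190 : act 3 n125610 = n101533 := d6_3 F352189 F202059 D125610
theorem F352191 : act 0 n128933 = n125610 := d20_4 F168195 (iv1 F99164) F99159 (iv3 F207156) F352190 F272844 (iv1 F136729) (iv4 F326583) F95208 D60595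
theorem F352192 : act 5 n113560 = n128933 := d21_6 D27968 D58820 F92995 D58864 (iv1 F93084) D113560 F352191 (iv5 D125610) (iv6 D58814) (iv1 D27966)
theorem F352193 : act 1 n128933 = n127373 := d15_1 (iv0 F352191) F204683 (iv2 F202062)
theorem F352194 : act 1 n128921 = n125610 := d15_0 (iv0 F352191) (iv7 D128933) (iv2 F207147)
theorem F352195 : act 1 n127373 = n128921 := d15_0 F352194 F202063 (iv2 F204682)
theorem F352196 : act 3 n128945 = n113560 := d6_3 F352192 F207156 (iv5 F207168)
theorem F352197 : act 7 n128932 = n113560 := d13_0 F352192 (iv7 D128933) D128932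
theorem F352198 : act 4 n110943 = n128932 := d11_3 F352197 F176710 (iv7 F171993)
theorem F352199 : act 1 n113412 = n128932 := d15_1 (iv0 F202436) F352197 (iv2 F202434)
theorem E101205 : n128931 = n113331 := (c17_7 (iv1 F45888) (iv5 F40268) D51155 D110943 F352198 (iv5 D128932) D128931 (iv5 D113331) F94236 F94234)
theorem F352200 : act 0 n113331 = n60633 := (sb E101205 (iv1 D128931))
theorem E101206 : n128930 = n113327 := ((c15_4 (iv0 D128930) (iv0 F352200) (iv7 F204683) F204682)).symm
theorem F352201 : act 1 n113327 = n60633 := (sb E101206 (iv0 D128930))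
theorem F352202 : act 6 n113558 = n128945 := d7_0 F352196 (iv6 D113560) D113558
theorem F352203 : act 3 n101504 = n154632 := d19_3 F352186 D124618 F352184 (iv1 D154632) (iv5 D73320) (iv4 D33731) (iv3 D16292) (iv1 D7581) (iv5 F11527) (iv4 F24810) (iv3 F51138) D69208 D147680 (iv4 F344155) (iv3 D106982) (iv1 F82691) (iv5 D52309) D52308 D113326
theorem F352204 : act 2 n125608 = n124615 := d15_3 (iv0 D124615) (iv0 F352186) F202061
theorem F352205 : act 5 n124615 = n98551 := d2_2 F352189 F352204 F272845
theorem F352206 : act 6 n124615 = n125606 := d3_2 D125608 F352204 (iv2 D125606)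
theorem F352207 : act 4 n124615 = n103684 := d19_2 (iv1 F272847) (iv5 F352205) (iv3 D103684) (iv1 F146994) (iv5 F348704) (iv4 D184087) (iv3 F286029) (iv1 D89567) (iv5 D41831) (iv4 F64484) (iv3 D41818) F35822 D19912 D42188 D90259 F310539 (iv5 F342196) F342193 F342194
theorem F352208 : act 2 n103684 = n110622 := d1_1 F352207 (iv4 F202060) F352204
theorem F352209 : act 3 n103679 = n124615 := d5_5 F352207 (iv3 D103684) (iv4 D48022) (iv3 F75442) D103679
theorem F352210 : act 5 n103684 = n160718 := d9_2 (iv5 F352205) F352207 (iv4 F298230) F298231 F154530 F74093 D98556 (iv5 F352187) F176527 F332156 (iv4 F298225) F298226 F272839 (iv5 D98552) D98551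
theorem F352211 : act 6 n103684 = n110620 := d10_2 (iv6 F352206) F352207 (iv4 F202057)
theorem F352212 : act 0 n164138 = n103684 := d21_4 F254373 (iv1 F254353) (iv5 F254076) D164138 F352211 (iv5 F171210) D147320 (iv5 F232043) F330676 (iv1 F254371)
theorem F352213 : act 1 n164138 = n112770 := d15_1 (iv0 F352212) F175572 (iv2 F352208)
theorem F352214 : act 0 n164141 = n109319 := d20_7 F79629 D50254 (iv4 F161138) D112770 (iv1 F352213) F258687 (iv4 F258691) (iv4 F171175) F171174 F80451
theorem E101207 : n166439 = n108870 := ((c20_8 (iv4 F258691) F352214 (iv4 F171175) F171174 F80451 (iv3 F168810) F168811 D108870 (iv4 D166439) (iv3 F194278) F340155)).symm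
theorem F352215 : act 2 n108870 = n79907 := (sb E101207 F261999)
theorem F352216 : act 4 n108870 = n79906 := (sb E101207 (iv4 D166439))
theorem F352217 : act 7 n111458 = n108870 := d11_0 F352216 (iv7 F194260) (iv4 F336515)
theorem F352218 : act 2 n121714 = n111458 := d4_3 F352217 F352215 (iv7 F194265)
theorem F352219 : act 1 n166443 = n111458 := d15_1 D166443 F352217 F352215
theorem F352220 : act 5 n175007 = n111458 := d16_7 (iv4 D79907) F321875 (iv4 D73569) D73570 D155007 (iv5 F243745) D175007 F352217 F352215
theorem F352221 : act 5 n116696 = n166334 := d18_4 (iv1 F337708) (iv4 D119356) F313432 (iv4 F182094) F262002 F352219 F336515 F330285 (iv5 F330657)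
theorem F352222 : act 2 n166334 = n108833 := d2_1 F352221 (iv5 F346272) (iv2 F346270)
theorem F352223 : act 5 n108831 = n129493 := d12_3 (iv6 F182095) F352221 F341863 F207644 (iv5 F332111)
theorem F352224 : act 7 n166334 = n116695 := d13_2 D116696 F352221 (iv5 D116695)
theorem F352225 : act 1 n166334 = n178538 := d17_6 (iv1 F86885) D85006 (iv1 F186985) F313438 (iv4 F182094) F352221 (iv5 D178538) F188019 F188017
theorem F352226 : act 3 n165657 = n178538 := d19_19 (iv1 F352225) (iv5 F352221) F182094 F84793 (iv1 F41118) D31307 D67343 F110530 F307908 (iv5 F305989) F316537 (iv3 D69574) (iv1 F51216) (iv5 F315624) (iv4 F301139) (iv3 F86762) D119144 F325405 D165657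
theorem F352227 : act 5 n178537 = n165657 := d6_0 F352226 (iv5 D178538) D178537
theorem F352228 : act 6 n147364 = n165657 := d7_0 F352226 (iv6 F351724) (iv3 F351727)
theorem F352229 : act 6 n116695 = n121116 := d14_1 F352224 F254243 D163501 F341852 (iv6 F341863)
theorem F352230 : act 4 n108872 = n157082 := d16_2 F168811 D108872 (iv5 D157082) F112088 F53857 (iv4 F84792) D116695 (iv7 F352224) F352222
theorem F352231 : act 2 n129493 = n108832 := d2_1 F352223 (iv5 D108832) D108831
theorem F352232 : act 3 n129493 = n147783 := d6_1 F352223 F341865 F341858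
theorem F352233 : act 0 n126855 = n108831 := d17_2 D59525 D126855 F352223 (iv4 D129493) (iv5 F204103) (iv0 D126865) (iv5 D59532) (iv0 D28265) (iv4 F45771)
theorem F352234 : act 1 n126857 = n108831 := d17_6 (iv1 F209084) (iv5 F216295) F216296 (iv5 D64549) (iv4 F165194) D126857 F352223 F220294 F220292
theorem F352235 : act 1 n108594 = n126857 := d15_0 F352234 (iv7 F341852) F341851
theorem F352236 : act 5 n108605 = n108998 := d17_1 (iv1 F167985) (iv1 D108998) (iv5 D50326) (iv4 F79701) (iv5 F330502) D59526 D126857 F352234 F168808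
theorem F352237 : act 4 n126857 = n140403 := d20_8 F176728 (iv1 F94218) (iv4 F168701) (iv3 D108757) (iv1 F168482) F168480 (iv4 F168808) (iv1 F352234) (iv3 D140403) (iv1 F176730)
theorem F352238 : act 3 n140404 = n172569 := d5_3 F352237 (iv3 D140403) D140404 F270745 (iv3 F332388)
theorem F352239 : act 6 n140403 = n172563 := d10_2 (iv6 F332389) F352237 (iv4 D172563)
theorem F352240 : act 0 n140403 = n164012 := d18_2 (iv1 F352234) F352237 F258475 D164015 F336488 (iv0 D130515) (iv4 F209076) (iv0 F209078) (iv5 F352223)
theorem F352241 : act 3 n172563 = n140406 := d7_1 F352239 (iv6 D140406) D140403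
theorem F352242 : act 4 n140406 = n172568 := d5_2 D172563 F352241 (iv3 D172568) (iv4 D82611) (iv3 F127235)
theorem F352243 : act 0 n156585 = n140406 := d20_4 D111479 F172991 F336687 (iv3 F246251) (iv3 F352241) (iv4 D172563) (iv1 F348174) F172955 F81182 D51417
theorem F352244 : act 5 n140406 = n147895 := d17_3 F316990 D156585 F352243 (iv4 D147895) (iv5 D69291) F105131 (iv5 F200400) F200403 D147899
theorem E101208 : n147895 = n115763 := (c21_9 D65969 (iv1 F180145) F180359 (iv6 F322256) F313631 D74455 D156585 F352243 F352244 (iv6 D115763) (iv1 F84228))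
theorem F352245 : act 4 n115763 = n69291 := (sb E101208 (iv4 D147895))
theorem F352246 : act 5 n115763 = n140406 := (sb E101208 (iv5 F352244))
theorem F352247 : act 2 n140406 = n140564 := d2_1 F352246 (iv5 D140564) F182553
theorem E101209 : n141892 = n140405 := ((c12_4 D115763 F352246 (iv6 D140406) D140405 (iv6 D141892) F180883)).symm
theorem F352248 : act 2 n140405 = n109086 := (sb E101209 (iv2 F345105))
theorem F352249 : act 6 n140405 = n66525 := (sb E101209 (iv6 D141892))
theorem F352250 : act 4 n172538 = n147876 := d16_4 (iv4 F352245) F352246 F352242 F270744 (iv5 D147876) (iv4 D69285) D69286 (iv7 F322080) F322078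
theorem F352251 : act 6 n91344 = n109081 := d21_9 F79760 D65904 D140405 F352249 F180882 F331052 (iv5 F140573) (iv1 F293300) (iv5 F294327) F204656
theorem F352252 : act 0 n140577 = n109195 := d21_4 (iv5 D116092) (iv1 F84426) (iv5 F103129) D140577 (iv6 D109195) F79760 D65904 D140405 F352249 F180882
theorem F352253 : act 2 n109081 = n184116 := d3_1 F352251 (iv6 D184116) (iv2 F140429)
theorem F352254 : act 4 n109081 = n91345 := d10_1 F352251 (iv6 D91345) D91344
theorem F352255 : act 5 n109082 = n103879 := d12_3 F352251 (iv5 D109081) D109082 (iv6 D103879) (iv5 F294327)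
theorem E101210 : n109078 = n108650 := ((c2_3 D109081 F352253 (iv5 F345102) F169078)).symm
theorem F352256 : act 2 n108650 = n50360 := (sb E101210 F169078)
theorem F352257 : act 7 n108650 = n50359 := (sb E101210 (iv7 D109078))
theorem F352258 : act 7 n109076 = n184116 := d13_2 F352257 D109076 (iv5 F345102)
theorem E101211 : n109073 = n108651 := (c15_4 F168572 F168567 F352257 D109073)
theorem F352259 : act 2 n108651 = n50359 := (sb E101211 (iv2 D109073))
theorem F352260 : act 7 n108651 = n50360 := (sb E101211 (iv7 F169077))
theorem F352261 : act 7 n109080 = n113381 := d11_2 F352260 D109080 F176585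
theorem E101212 : n113385 = n59161 := (c8_3 F352261 (iv3 D113381) D113385 F169079)
theorem E101213 : n126190 = n52341 := ((D126190).symm.trans (sb E101212 F176586))
theorem E101214 : n126194 = n52340 := ((D126194).symm.trans (sb E101212 (iv7 D113385)))
theorem F352262 : act 2 n52341 = n59161 := (sb E101213 (iv2 D126190))
theorem E101215 : n113380 = n59162 := ((F176584).symm.trans (sb E101213 (iv7 F202942)))
theorem F352263 : act 7 n52340 = n59161 := (sb E101214 (iv7 D126194))
theorem F352264 : act 2 n59162 = n52340 := (sb E101215 (iv2 D113380))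
theorem F352265 : act 7 n59162 = n52341 := (sb E101215 (iv7 F176584))
theorem F352266 : act 7 n113386 = n126195 := d8_2 F352265 D113386 (iv3 D126195)
theorem F352267 : act 7 n113387 = n126196 := d11_2 F352265 D113387 (iv4 D126196)
theorem F352268 : act 7 n113308 = n126197 := d13_2 F352265 (iv5 F204837) (iv5 D126197)
theorem F352269 : act 2 n126197 = n113307 := d15_3 (iv0 D113307) D113308 F352268
theorem E101216 : n180598 = n126347 := ((c8_2 F352267 (iv3 F203162) (iv7 F281111) (iv3 F324586))).symm
theorem F352270 : act 2 n126347 = n86264 := (sb E101216 (iv2 D180598))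
theorem F352271 : act 7 n126347 = n86265 := (sb E101216 (iv7 F281111))
theorem F352272 : act 7 n180606 = n159059 := d13_2 F352271 D180606 (iv5 F348486)
theorem F352273 : act 7 n149041 = n125993 := d14_4 F352271 (iv6 F348467) (iv7 F106334) D149041 F348487
theorem E101217 : n180603 = n126348 := (c15_4 F321900 (iv0 F321901) F352271 (iv2 F281112))
theorem F352274 : act 2 n126348 = n86265 := (sb E101217 F281112)
theorem F352275 : act 7 n126348 = n86264 := (sb E101217 (iv7 D180603))
theorem F352276 : act 6 n131424 = n126348 := d3_0 F352274 (iv6 F348467) (iv2 F210644)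
theorem F352277 : act 7 n180602 = n131497 := d14_4 (iv7 F210645) F352276 F352275 D180602 (iv6 D131497)
theorem F352278 : act 5 n126348 = n178693 := d21_6 (iv5 F325402) (iv1 D119145) (iv5 F321018) (iv6 F322778) (iv1 F317511) F352276 (iv1 D178693) F328010 F327537 (iv1 F324250)
theorem F352279 : act 2 n178693 = n180606 := d2_1 F352278 (iv5 D180606) (iv2 F352274)
theorem F352280 : act 7 n178693 = n180601 := d13_2 (iv7 F352275) F352278 (iv5 D180601)
theorem E101218 : n131497 = n125994 := (c17_8 (iv1 F321900) F352278 (iv1 D178693) F328010 (iv4 F82199) D112712 (iv0 F346927) F330812 F202673 F321903)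
theorem F352281 : act 2 n125994 = n149041 := (sb E101218 (iv2 F234367))
theorem E101219 : n147373 = n131511 := (((iv4 F231091)).symm.trans (sb E101218 (iv4 F210779)))
theorem F352282 : act 5 n125994 = n163190 := (sb E101218 (iv5 F330812))
theorem F352283 : act 6 n125994 = n61710 := (sb E101218 (iv6 D131497))
theorem F352284 : act 7 n125994 = n180602 := (sb E101218 (iv7 F352277))
theorem F352285 : act 1 n131511 = n69090 := (sb E101219 (iv0 D147373))
theorem F352286 : act 4 n131511 = n125994 := (sb E101219 F231091)
theorem F352287 : act 2 n180602 = n125993 := d4_1 F352284 (iv7 F352273) (iv2 F352281)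
theorem F352288 : act 3 n174051 = n125994 := d7_3 F352283 (iv3 F314375) D174051
theorem F352289 : act 0 n174051 = n137306 := d20_10 F330496 (iv1 F215896) F215894 F165995 (iv1 F170593) (iv3 F231092) (iv4 D147375) (iv1 F352285) F352286 (iv3 F352288)
theorem F352290 : act 0 n126976 = n129578 := d21_4 (iv5 F352282) (iv1 D125994) D125995 F350843 F342313 (iv5 D78431) (iv1 D35740) D35742 D78439 D163190
theorem F352291 : act 4 n129578 = n141815 := d20_2 (iv4 F204235) F352290 (iv3 D141815) (iv1 D66490) (iv3 D31040) (iv4 D14685) (iv1 F19209) D14205 D29915 D63317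
theorem F352292 : act 2 n126955 = n129578 := d15_3 (iv0 F352290) (iv0 F324041) F324044
theorem F352293 : act 6 n125972 = n126955 := d3_0 F352292 F342313 (iv2 F327214)
theorem F352294 : act 7 n129578 = n126975 := d4_2 F324044 F352292 (iv2 F324042)
theorem F352295 : act 6 n126975 = n125082 := d14_1 F352294 (iv7 F200956) D125091 F350819 (iv6 F342313)
theorem E101220 : n129577 = n125086 := ((c3_3 F352295 (iv2 D125082) D125086 F324042)).symm
theorem F352296 : act 0 n125086 = n126976 := (sb E101220 F324041)
theorem F352297 : act 1 n125086 = n60872 := (sb E101220 (iv0 D129577))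
theorem F352298 : act 2 n125086 = n126975 := (sb E101220 F324042)
theorem F352299 : act 3 n125086 = n64532 := (sb E101220 F324043)
theorem F352300 : act 7 n125086 = n126955 := (sb E101220 F324044)
theorem E101221 : n163138 = n125087 := (c14_4 F352300 (iv6 F352293) F327215 D163138 (iv7 D125087) D125086)
theorem F352301 : act 6 n125087 = n78426 := (sb E101221 (iv6 D163138))
theorem E101222 : n125093 = n125087 := ((c21_4 (iv5 D35742) D35739 D78426 (iv6 F352301) (iv1 D125093) F92368 D74134 (iv1 F110851) D120075 F347901 (iv1 D78437))).symm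
theorem F352302 : act 0 n125087 = n58476 := (sb E101222 (iv1 D125093))
theorem F352303 : act 1 n125087 = n58478 := (sb E101222 F200959)
theorem E101223 : n125092 = n125082 := (c15_2 F352303 F200958 (iv7 F200956) (iv2 F200957))
theorem F352304 : act 0 n125082 = n58478 := (sb E101223 (iv1 F200958))
theorem F352305 : act 1 n125082 = n58476 := (sb E101223 (iv0 D125092))
theorem F352306 : act 5 n125082 = n134279 := d19_1 (iv1 F352305) (iv4 D134279) F98391 F329504 D57623 F329409 F93562 (iv1 F93560) (iv5 D28175) (iv4 F22384) (iv3 F18748) F18747 D12020 D25319 D52141 D112963 F320582 F130524 (iv3 F92367)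
theorem F352307 : act 2 n134279 = n125085 := d2_1 F352306 (iv5 D125085) D125082
theorem F352308 : act 6 n134279 = n129731 := d12_2 F352295 F352306 (iv5 D129731) D129732 (iv5 F350890)
theorem E101224 : n134273 = n134181 := (c17_8 (iv1 F200964) (iv5 D125094) (iv1 F352305) F352306 (iv4 D134279) (iv5 D63084) D63082 D134273 (iv0 F348521) (iv4 D159052))
theorem F352309 : act 5 n134181 = n63082 := (sb E101224 (iv5 D134273))
theorem F352310 : act 0 n157079 = n134279 := d21_10 (iv5 F352306) F352304 F92372 F54956 D69750 F347823 F316075 (iv1 D74684) D74685 D157079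
theorem F352311 : act 4 n134260 = n158966 := d18_3 (iv1 D63082) (iv4 F98385) D134260 (iv5 D158966) F113791 D75957 (iv4 F331622) D134181 F352309
theorem F352312 : act 4 n129831 = n123933 := d19_6 F348521 F352309 (iv4 F212755) (iv3 D132540) (iv1 F96948) D129831 F198354 F90929 (iv5 D55368) F42984 F21253 D16734 D34495 (iv4 F297013) D80428 D167586 F301463 (iv4 F339652) (iv3 F348516)
theorem F352313 : act 2 n123933 = n129835 := d1_1 F352312 (iv4 D129835) (iv2 F208184)
theorem F352314 : act 4 n120495 = n132545 := d11_3 F212768 F352312 (iv7 F198355)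
theorem F352315 : act 4 n179736 = n129462 := d20_6 (iv4 F302443) (iv1 D85871) (iv4 D39717) (iv3 F60584) D85855 D179736 F208673 F352312 F198354 F90929
theorem F352316 : act 2 n132547 = n120495 := d1_3 F352314 F212767 D132547
theorem E101225 : n148138 = n120495 := ((c15_4 (iv0 D148138) (iv0 F351933) (iv7 F212773) F352316)).symm
theorem F352317 : act 1 n120495 = n69402 := (sb E101225 (iv0 D148138))
theorem F352318 : act 4 n129731 = n134280 := d10_1 F352308 (iv6 D134280) D134279
theorem F352319 : act 4 n125085 = n134275 := d1_2 D134279 F352307 F216306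
theorem F352320 : act 1 n125085 = n178907 := d15_0 (iv0 F350813) F350812 F352307
theorem F352321 : act 3 n125085 = n167569 := d20_5 (iv4 D55538) (iv1 F60520) (iv4 F130591) (iv3 F278782) (iv1 F352320) F342688 (iv1 D167565) (iv4 F132306) F309318 F113920
theorem F352322 : act 3 n160726 = n154279 := d0_2 F352321 (iv2 F342689) (iv2 F336376) F336377 F352307
theorem E101226 : n136450 = n125083 := (c6_3 D125085 F352321 (iv5 F346574) (iv3 D125083))
theorem F352323 : act 0 n125083 = n64147 := (sb E101226 (iv1 D136450))
theorem F352324 : act 1 n125083 = n107713 := (sb E101226 F219549)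
theorem F352325 : act 2 n125083 = n107711 := (sb E101226 (iv2 F346576))
theorem F352326 : act 5 n125083 = n167569 := (sb E101226 F346574)
theorem F352327 : act 6 n125083 = n64532 := (sb E101226 F346581)
theorem F352328 : act 7 n125083 = n107712 := (sb E101226 (iv7 F346577))
theorem F352329 : act 3 n107712 = n125087 := d8_1 F352328 (iv7 D125087) D125083
theorem F352330 : act 6 n163126 = n107712 := d7_0 F352329 F352301 (iv3 F257444)
theorem E101227 : n136627 = n136543 := ((c20_7 (iv4 D18703) (iv1 F22069) (iv4 F44934) (iv3 F92371) (iv1 F352303) (iv3 F352329) (iv4 F219642) (iv1 D136627) (iv4 F314595) (iv3 D40248) F43243)).symm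
theorem F352331 : act 0 n136543 = n64220 := (sb E101227 (iv1 D136627))
theorem F352332 : act 4 n157626 = n163126 := d10_3 F352330 (iv4 F219642) (iv6 F338913)
theorem F352333 : act 6 n160725 = n172857 := d12_2 F352330 (iv5 F344841) (iv5 F334603) (iv6 D163127) D163126
theorem F352334 : act 7 n126956 = n163126 := d14_0 F352330 (iv7 F352328) F352327 (iv7 F161459) D126956
theorem F352335 : act 3 n125972 = n126956 := d8_3 F352334 F257444 (iv7 F327215)
theorem F352336 : act 5 n125971 = n126956 := d13_3 F352334 (iv5 D163126) (iv7 F327212)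
theorem E101228 : n172171 = n163127 := ((c21_7 (iv5 D17248) D17247 (iv5 F55955) D77117 D160725 F352333 (iv5 F334603) (iv1 D172171) (iv5 D82451) (iv6 D37826) F29304)).symm
theorem F352337 : act 0 n163127 = n82451 := (sb E101228 (iv1 D172171))
theorem E101229 : n184957 = n111157 := (c19_12 F352337 (iv5 D82451) F298186 F311749 D83832 F128861 F155080 F308324 (iv1 F308308) (iv5 D88173) D88172 D184957 F172405 (iv5 D108897) (iv4 D50280) (iv3 F78237) (iv1 F168330) (iv5 F332172) F257449 (iv3 F257445))
theorem F352338 : act 3 n111157 = n88172 := (sb E101229 (iv3 D184957))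
theorem E101230 : n184958 = n111155 := (c6_3 D111157 F352338 D184958 F172403)
theorem F352339 : act 5 n111155 = n88172 := (sb E101230 (iv5 D184958))
theorem F352340 : act 6 n185227 = n111157 := d7_0 F352338 (iv6 F337919) (iv3 F287539)
theorem E101231 : n183867 = n139385 := (c8_4 (iv7 F222594) F352338 (iv7 F337920) (iv3 F285682))
theorem F352341 : act 3 n139385 = n87709 := (sb E101231 F285682)
theorem F352342 : act 6 n139385 = n87707 := (sb E101231 (iv6 D183867))
theorem F352343 : act 3 n93347 = n111158 := d6_3 (iv5 F222593) F352341 (iv5 F143967)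
theorem F352344 : act 7 n111155 = n93347 := d8_0 F352343 (iv7 D111158) (iv3 F172403)
theorem F352345 : act 2 n185203 = n111155 := d4_3 F352344 F143966 D185203
theorem F352346 : act 1 n185201 = n111155 := d15_1 D185201 F352344 F143966
theorem F352347 : act 4 n185203 = n154599 := d16_0 (iv5 D154599) (iv4 D73282) F52972 (iv4 F109211) (iv5 F109640) F337934 (iv5 F143967) (iv7 F352344) (iv2 F352345)
theorem F352348 : act 6 n111153 = n185203 := d10_0 F352347 F336313 (iv4 F340258)
theorem E101232 : n183880 = n154371 := (c12_3 F352348 F287530 (iv6 F285704) F242449 (iv6 D154281) (iv5 F336361))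
theorem E101233 : n88268 = n73132 := ((((iv1 F242453)).symm.trans (sb E101232 (iv1 F285706)))).symm
theorem F352349 : act 2 n154371 = n88270 := (sb E101232 F285703)
theorem F352350 : act 6 n154371 = n88258 := (sb E101232 F285704)
theorem F352351 : act 7 n154371 = n87712 := (sb E101232 (iv7 D183880))
theorem E101235 : n154372 = n41193 := (((iv1 F242450)).symm.trans (sb E101233 (iv1 D88268)))
theorem F352352 : act 0 n41193 = n73127 := (sb E101235 (iv1 D154372))
theorem F352353 : act 1 n41193 = n73132 := (sb E101235 F242450)
theorem F352354 : act 6 n147779 = n126774 := d21_9 D126776 F345616 (iv5 F345612) (iv6 F345615) (iv1 F172525) F352348 F287530 (iv1 F337929) (iv5 F231524) (iv1 D126774)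
theorem F352355 : act 2 n185199 = n147779 := d3_3 F352354 F220266 F329613
theorem E101246 : n154675 = n136706 := ((c10_2 F352354 (iv4 F219851) (iv6 D154675) F231523)).symm
theorem F352356 : act 6 n136706 = n73342 := (sb E101246 (iv6 D154675))
theorem E101247 : n154673 = n136708 := (c7_2 F352356 (iv3 F242828) (iv6 D136708) D136706)
theorem F352357 : act 1 n136708 = n144349 := (sb E101247 (iv0 F347648))
theorem F352358 : act 3 n136708 = n73342 := (sb E101247 F242828)
theorem F352359 : act 5 n136708 = n73341 := (sb E101247 (iv5 D154673))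
theorem F352360 : act 5 n154672 = n137107 := d2_2 F352359 D154672 F220280
theorem F352361 : act 5 n136452 = n154671 := d21_6 (iv5 F176879) (iv1 F219860) F219862 (iv6 F352327) F352323 D136452 (iv1 D154671) (iv5 F352359) (iv6 D136708) (iv1 F100383)
theorem F352362 : act 3 n154671 = n136454 := d6_1 F352361 (iv5 D136454) (iv3 F219551)
theorem E101248 : n176384 = n154672 := (c12_1 D176384 F352360 (iv6 D137107) F139279 F139277 F328615)
theorem F352363 : act 6 n154672 = n84098 := (sb E101248 (iv6 D176384))
theorem F352364 : act 4 n92467 = n154672 := d10_3 F352363 (iv4 F328614) D92467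
theorem F352365 : act 7 n114144 = n154672 := d14_0 F352363 (iv7 F328612) (iv6 F142220) F142221 (iv6 F177755)
theorem F352366 : act 2 n153889 = n114144 := d4_3 F352365 (iv2 D154672) (iv7 F241836)
theorem F352367 : act 1 n154671 = n114144 := d15_1 D154671 F352365 (iv2 D154672)
theorem E101249 : n166235 = n136452 := ((c21_1 (iv5 F352361) (iv1 D166235) F304136 (iv6 D84068) (iv1 F113623) (iv6 F321524) (iv5 F83472) D60260 F94807 (iv6 F177755) (iv1 F352367))).symm
theorem F352368 : act 0 n136452 = n79815 := (sb E101249 (iv1 D166235))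
theorem F352369 : act 4 n114114 = n153889 := d1_0 F352366 (iv4 D114144) (iv2 F177721)
theorem F352370 : act 6 n114115 = n153889 := d3_0 F352366 F177755 (iv2 F177725)
theorem F352371 : act 1 n114144 = n154670 := d15_0 (iv0 D154670) (iv7 F241836) F352366
theorem F352372 : act 4 n114816 = n154670 := d20_0 (iv1 F352371) (iv4 D114144) F83260 F290502 (iv3 D52692) (iv4 F114627) (iv1 F76695) (iv4 F40638) (iv3 F83716) (iv1 F178889)
theorem F352373 : act 0 n114832 = n153889 := d20_7 (iv4 D128455) (iv1 D60413) D60414 D128459 F318179 (iv3 F316379) D114832 (iv4 F352369) F177722 (iv1 F316645)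
theorem F352374 : act 3 n160119 = n114832 := d20_3 (iv4 F344131) (iv1 D170463) (iv4 F344912) F352373 (iv3 D153889) (iv4 D72801) F190167 D119877 (iv3 F334600) F331699
theorem F352375 : act 1 n114832 = n154672 := d15_1 (iv0 F352373) (iv7 F352365) (iv2 F352366)
theorem E101250 : n164298 = n92467 := (c20_11 F352364 (iv1 F352375) (iv4 D114832) F316379 (iv1 F315507) F230945 (iv4 F334118) F337844 (iv4 D78920) D78919 D164298)
theorem F352376 : act 1 n92467 = n78919 := (sb E101250 (iv0 D164298))
theorem E101251 : n114137 = n114113 := (c17_6 F258929 (iv5 F220080) F347644 (iv5 D176092) D176091 (iv5 F347656) F177720 (iv5 F142279) F352376 D164301)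
theorem F352377 : act 2 n114113 = n52686 := (sb E101251 F177752)
theorem F352378 : act 5 n114113 = n176091 := (sb E101251 F347656)
theorem F352379 : act 7 n114113 = n52685 := (sb E101251 (iv7 D114137))
theorem E101252 : n123120 = n114134 := ((c11_2 F352379 D114134 F342789 (iv4 F347685))).symm
theorem F352380 : act 2 n114134 = n155500 := (sb E101252 F342788)
theorem F352381 : act 3 n114134 = n57293 := (sb E101252 (iv3 D123120))
theorem F352382 : act 7 n114134 = n57718 := (sb E101252 F342789)
theorem F352383 : act 7 n123867 = n155500 := d4_2 F352382 D123867 (iv2 F352380)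
theorem F352384 : act 3 n119863 = n123867 := d8_3 F352383 (iv3 D155500) (iv7 F244508)
theorem E101253 : n123867 = n114139 := ((c11_4 F352383 F347680 F347661 D114139)).symm
theorem F352385 : act 2 n114139 = n57718 := (sb E101253 (iv2 D123867))
theorem F352386 : act 3 n114139 = n119863 := (sb E101253 (iv3 F352384))
theorem F352387 : act 7 n114139 = n155500 := (sb E101253 F352383)
theorem F352388 : act 1 n123866 = n155500 := d15_1 D123866 (iv7 F352387) F352385
theorem F352389 : act 4 n93868 = n123866 := d18_5 F337871 D164301 F258929 F178900 (iv5 F144692) F352388 F347680 (iv0 D114112) D114114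
theorem F352390 : act 6 n123866 = n93867 := d10_2 D93868 F352389 F144687
theorem F352391 : act 6 n111180 = n114139 := d7_0 F352386 (iv6 F230351) (iv3 F331638)
theorem F352392 : act 4 n114141 = n111180 := d10_3 F352391 (iv4 D114139) D114141
theorem F352393 : act 2 n111183 = n114141 := d1_3 F352392 F172426 D111183
theorem F352394 : act 3 n147240 = n114141 := d5_5 F352392 F331638 D146956 F230343 F230828
theorem F352395 : act 6 n114113 = n111183 := d3_0 F352393 (iv6 D114141) (iv2 F352377)
theorem F352396 : act 3 n128213 = n114129 := d20_9 F83259 D52685 D114134 F352381 (iv1 F90379) (iv3 F90864) (iv4 F198200) (iv1 F198203) D128213 (iv1 D114129)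
theorem E101254 : n159726 = n123681 := (c20_10 (iv4 F198200) (iv1 F198203) D128213 F352396 (iv1 D114129) F83258 F55270 D34915 D76414 D159726 (iv1 F198122))
theorem F352397 : act 3 n123681 = n76414 := (sb E101254 (iv3 D159726))
theorem F352398 : act 7 n114832 = n154671 := d8_2 (iv7 F344914) F352374 F352362
theorem F352399 : act 4 n154671 = n114825 := d11_1 F352398 (iv7 F178902) D114832
theorem F352400 : act 2 n114832 = n154670 := d15_3 (iv0 D154670) D154671 (iv7 F352398)
theorem E101255 : n114830 = n114816 := ((c1_3 D114832 F352400 (iv4 F352372) F178903)).symm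
theorem F352401 : act 2 n114816 = n52986 := (sb E101255 F178903)
theorem F352402 : act 7 n114816 = n52985 := (sb E101255 (iv7 D114830))
theorem F352403 : act 7 n114827 = n154670 := d11_2 F352402 D114827 (iv4 F352372)
theorem E101256 : n114825 = n114815 := (c15_4 (iv0 D114815) D114816 F352402 D114825)
theorem F352404 : act 2 n114815 = n52985 := (sb E101256 (iv2 D114825))
theorem F352405 : act 4 n114815 = n154671 := (sb E101256 (iv4 F352399))
theorem F352406 : act 7 n114815 = n52986 := (sb E101256 (iv7 F178902))
theorem F352407 : act 3 n140743 = n114815 := d8_3 F352406 F316379 (iv7 F324351)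
theorem F352408 : act 2 n114826 = n170508 := d0_3 F352407 F352404 D114826 (iv3 D170508) (iv2 F324349)
theorem F352409 : act 6 n114815 = n140741 := d7_2 D140743 F352407 (iv3 D140741)
theorem F352410 : act 2 n140741 = n114829 := d3_1 F352409 (iv6 D114829) (iv2 F352404)
theorem F352411 : act 5 n140741 = n114473 := d21_6 F65521 (iv1 F37425) (iv5 F40634) D52980 D114815 F352409 (iv1 D114473) (iv5 D52836) (iv6 D25645) D25642
theorem F352412 : act 3 n114473 = n140742 := d6_1 F352411 (iv5 D140742) D140741
theorem F352413 : act 0 n159885 = n140741 := d17_0 F352411 (iv1 D114473) (iv5 D52836) (iv4 F83485) D114464 F322760 (iv5 F229412) F229414 D159885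
theorem F352414 : act 6 n130800 = n159885 := d21_9 F352411 (iv1 D114473) (iv5 D52836) (iv6 D25645) D25642 F323219 (iv5 F113581) F317504 D130800 F352413
theorem F352415 : act 2 n159885 = n175814 := d3_1 F352414 (iv6 D175814) F319760
theorem F352416 : act 2 n154671 = n114827 := d1_1 F352405 (iv4 D114827) (iv2 F352404)
theorem F352417 : act 1 n114827 = n153889 := d15_0 (iv0 F352373) F352398 F352416
theorem F352418 : act 1 n154672 = n114827 := d15_0 F352417 F241836 D154672
theorem E101257 : n114835 = n114826 := (c20_5 D78957 (iv1 F290519) (iv4 D53001) (iv3 F83714) D114835 (iv3 D114826) D114827 (iv1 F352418) (iv4 F352364) F142278 (iv1 F290499))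
theorem F352419 : act 0 n114826 = n94248 := (sb E101257 (iv1 F178904))
theorem F352420 : act 1 n114826 = n52987 := (sb E101257 (iv0 D114835))
theorem F352421 : act 7 n114836 = n170508 := d15_2 F352420 D114836 (iv2 F352408)
theorem E101258 : n167880 = n114836 := (c8_4 F352421 (iv3 D170508) (iv7 F301943) D167880)
theorem F352422 : act 3 n114836 = n80572 := (sb E101258 (iv3 D167880))
theorem F352423 : act 4 n153904 = n185199 := d1_0 F352355 (iv4 F231523) (iv2 F241878)
theorem F352424 : act 7 n147778 = n185199 := d15_2 F231522 F231521 F352355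
theorem F352425 : act 7 n185194 = n147779 := d16_8 (iv4 F352423) (iv5 D153904) (iv4 D72816) (iv5 D33583) D33582 D72814 F337926 D185194 (iv2 F352355)
theorem F352426 : act 2 n147778 = n185194 := d4_3 F352425 (iv2 F352355) (iv7 F352424)
theorem F352427 : act 4 n153890 = n185194 := d11_3 F352425 (iv4 F231523) (iv7 F241838)
theorem F352428 : act 1 n147782 = n185194 := d15_1 (iv0 F337914) F352425 (iv2 F352355)
theorem F352429 : act 1 n185194 = n147398 := d15_1 F352428 (iv7 F231113) (iv2 F231530)
theorem F352430 : act 0 n153831 = n94814 := d21_4 D185194 (iv1 F352428) F231532 (iv6 F241677) F146160 (iv5 D44296) F63070 (iv5 D41187) D41188 D88255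
theorem F352431 : act 6 n182325 = n134453 := d21_5 F291552 (iv1 F36833) D40449 D87056 D182325 F349424 F352430 (iv5 D94814) (iv6 D44295) D44292
theorem F352432 : act 1 n153831 = n185063 := d15_1 (iv0 F352430) (iv7 D185063) (iv2 F146159)
theorem F352433 : act 1 n185063 = n154410 := d15_1 F352432 (iv7 D154410) (iv2 F241676)
theorem F352434 : act 3 n134455 = n182325 := d7_3 F352431 (iv3 D134453) D134455
theorem E101259 : n182517 = n182325 := ((c8_2 F216414 F352434 (iv7 F284029) (iv3 F350838))).symm
theorem F352435 : act 2 n182325 = n87131 := (sb E101259 (iv2 D182517))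
theorem F352436 : act 7 n182325 = n87132 := (sb E101259 (iv7 F284029))
theorem F352437 : act 4 n182490 = n105350 := d20_6 F217288 F98803 (iv4 F216413) F352434 (iv1 F283860) (iv3 F284012) (iv1 F161559) D113506 F350311 (iv1 F350309)
theorem F352438 : act 2 n141318 = n182518 := d0_3 (iv3 F352434) F216412 D141318 (iv3 D182518) (iv2 F352435)
theorem E101260 : n182324 = n143074 := ((c20_3 D138016 (iv1 F221277) D143074 F283857 D182325 (iv3 F352434) F216413 F216045 F350276 F350304 (iv1 F221084))).symm
theorem F352439 : act 3 n143074 = n87056 := (sb E101260 F283857)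
theorem F352440 : act 6 n143074 = n87055 := (sb E101260 (iv6 D182324))
theorem E101261 : n182323 = n143075 := (c10_2 F352440 D182323 (iv6 D143075) D143074)
theorem F352441 : act 4 n143075 = n87055 := (sb E101261 (iv4 D182323))
theorem F352442 : act 3 n182327 = n137992 := d8_3 (iv7 F225929) F352439 D182327
theorem F352443 : act 3 n143068 = n137173 := d0_2 F352442 (iv2 F225923) (iv2 F346644) F284012 (iv2 F283859)
theorem F352444 : act 7 n105350 = n98628 := d11_2 D182490 F352437 F295374
theorem F352445 : act 0 n137175 = n182490 := d20_10 F352437 (iv1 F161559) D113506 F350311 (iv1 F350309) (iv3 F350277) F221279 (iv1 F203838) F338720 (iv3 F220345)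
theorem F352446 : act 1 n137175 = n89193 := d15_1 (iv0 F352445) (iv7 F346640) (iv2 F346644)
theorem F352447 : act 1 n137153 = n182490 := d15_0 (iv0 F352445) (iv7 D137175) (iv2 F220333)
theorem F352448 : act 1 n89193 = n137153 := d15_0 F352447 (iv7 D182490) (iv2 F295371)
theorem F352449 : act 5 n98628 = n104969 := d13_1 F352444 F324565 (iv5 F350006)
theorem F352450 : act 2 n98628 = n105351 := d15_3 F161564 F161559 F352444
theorem F352451 : act 4 n105351 = n89193 := d1_2 (iv4 F295374) F352450 F295371
theorem F352452 : act 3 n104973 = n98628 := d6_3 F352449 F160848 D104973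
theorem E101262 : n98628 = n52395 := ((c19_1 D52395 F352449 F160849 F92772 F56404 (iv5 F316316) F87414 (iv3 F87410) D120038 F319490 (iv4 D68680) (iv3 D31959) (iv1 D15077) (iv5 D7170) D7169 F11498 (iv1 F18052) (iv5 F36999) F36998 (iv3 F40207))).symm
theorem E101263 : n113508 = n105351 := ((D113508).symm.trans (sb E101262 F352450))
theorem E101264 : n113509 = n104973 := ((D113509).symm.trans (sb E101262 (iv3 F352452)))
theorem E101265 : n113510 = n87124 := ((D113510).symm.trans (sb E101262 F295374))
theorem E101266 : n113511 = n104969 := ((D113511).symm.trans (sb E101262 F352449))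
theorem E101267 : n113512 = n46106 := ((D113512).symm.trans (sb E101262 (iv6 D98628)))
theorem E101268 : n113513 = n105350 := ((D113513).symm.trans (sb E101262 (iv7 F352444)))
theorem F352453 : act 2 n105351 = n52395 := (sb E101263 (iv2 D113508))
theorem F352454 : act 7 n105351 = n52396 := (sb E101263 (iv7 F176691))
theorem F352455 : act 3 n104973 = n52395 := (sb E101264 (iv3 D113509))
theorem F352456 : act 4 n87124 = n52395 := (sb E101265 (iv4 D113510))
theorem F352457 : act 5 n104969 = n52395 := (sb E101266 (iv5 D113511))
theorem F352458 : act 6 n46106 = n52395 := (sb E101267 (iv6 D113512))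
theorem F352459 : act 2 n105350 = n52396 := (sb E101268 F176692)
theorem F352460 : act 7 n105350 = n52395 := (sb E101268 (iv7 D113513))
theorem E101269 : n137173 = n113515 := ((c1_3 F352437 F352459 D113515 (iv2 F346644))).symm
theorem F352461 : act 0 n113515 = n64481 := (sb E101269 (iv1 D137173))
theorem F352462 : act 1 n113515 = n182488 := (sb E101269 F346643)
theorem F352463 : act 2 n113515 = n182490 := (sb E101269 (iv2 F346644))
theorem F352464 : act 3 n113515 = n143068 := (sb E101269 (iv3 F352443))
theorem F352465 : act 5 n113515 = n100247 := (sb E101269 (iv5 F346645))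
theorem F352466 : act 7 n113515 = n89193 := (sb E101269 F346640)
theorem E101270 : n113516 = n113239 := (c2_3 (iv5 F350006) F352459 D113516 (iv2 F176431))
theorem F352467 : act 5 n113239 = n52396 := (sb E101270 (iv5 D113516))
theorem F352468 : act 5 n113187 = n112740 := d17_7 (iv1 F176430) F352467 (iv1 D52396) (iv5 D25432) (iv4 F40122) D52243 D113187 F175519 F170761
theorem F352469 : act 6 n162584 = n113187 := d21_5 (iv5 D38161) F296998 D35612 (iv6 F119269) D162584 F352468 (iv1 D112740) D112742 F328395 (iv1 D82939)
theorem E101271 : n138062 = n113514 := (c5_5 D113515 F352464 (iv4 D143068) (iv3 F225919) F225920 (iv3 D113514))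
theorem F352470 : act 1 n113514 = n64879 := (sb E101271 (iv0 D138062))
theorem F352471 : act 4 n113514 = n143066 := (sb E101271 (iv4 F225920))
theorem F352472 : act 6 n104973 = n98627 := d7_2 F352458 (iv3 F352455) (iv3 D98627)
theorem F352473 : act 5 n128590 = n128838 := d21_0 F345380 F345383 (iv6 D98634) (iv1 F72686) F352458 (iv5 F352457) F324562 F345757 (iv6 D128594) D128590
theorem E101272 : n113501 = n106569 := (c21_4 F161561 (iv1 F82747) D52390 D113501 (iv1 F163836) (iv6 F327928) F327930 (iv1 F327925) F72697 F352458 (iv1 F161563))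
theorem F352474 : act 6 n106569 = n52390 := (sb E101272 (iv6 D113501))
theorem F352475 : act 6 n113496 = n134903 := d7_2 F352474 (iv3 F176686) (iv3 F217106)
theorem E101273 : n128714 = n128590 := (c2_4 F352473 (iv2 F333053) (iv5 D128717) (iv2 F206995))
theorem F352476 : act 2 n128590 = n60533 := (sb E101273 F206995)
theorem F352477 : act 7 n128590 = n60532 := (sb E101273 (iv7 D128714))
theorem F352478 : act 0 n175429 = n128593 := d17_0 (iv5 D128593) D128590 F352473 F333047 F303267 (iv0 D77434) D77436 (iv0 F303274) D175429
theorem F352479 : act 3 n158423 = n131430 := d19_3 D128590 F352473 F333047 F210662 (iv5 D131269) (iv4 D61597) (iv3 D29178) (iv1 D13884) (iv5 D6601) (iv4 F5102) F10061 (iv1 F2479) F2451 (iv4 F2444) (iv3 F4512) (iv1 F10588) D13695 D28723 D60480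
theorem F352480 : act 4 n91211 = n89135 := d16_2 (iv4 F217104) F345384 F319338 F317060 (iv5 F303267) (iv4 F333047) (iv5 F352473) F352477 (iv2 F339369)
theorem F352481 : act 2 n93220 = n91211 := d1_3 F352480 F156879 (iv4 F295481)
theorem F352482 : act 7 n93221 = n91211 := d11_0 F352480 F156881 (iv4 F295482)
theorem F352483 : act 3 n134899 = n91211 := d20_5 (iv4 F100932) (iv1 F100933) (iv4 F81139) (iv3 F328748) (iv1 F332735) F352480 (iv1 F136844) F295431 (iv3 F324643) (iv1 F97501)
theorem F352484 : act 7 n134996 = n134899 := d8_0 F352483 (iv7 F352482) F349691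
theorem E101274 : n134901 = n134762 := (c13_3 F352484 (iv5 D134899) D134901 (iv5 F349690))
theorem F352485 : act 2 n134762 = n63397 := (sb E101274 F217105)
theorem F352486 : act 7 n134762 = n63396 := (sb E101274 (iv7 D134901))
theorem F352487 : act 2 n134899 = n134997 := d15_3 F349717 (iv0 F349692) F352484
theorem F352488 : act 2 n134996 = n134904 := d15_3 (iv0 F349708) (iv0 F332733) (iv7 F352484)
theorem F352489 : act 7 n134904 = n134997 := d4_2 (iv7 F352484) F352488 (iv2 F352487)
theorem F352490 : act 5 n134997 = n134896 := d13_1 F352489 (iv7 F217103) D134904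
theorem F352491 : act 7 n134897 = n128716 := d8_2 F352486 D134897 (iv3 F216824)
theorem E101275 : n134896 = n134763 := (c15_4 F216831 F216825 F352486 D134896)
theorem F352492 : act 2 n134763 = n63396 := (sb E101275 (iv2 D134896))
theorem F352493 : act 5 n134763 = n134997 := (sb E101275 (iv5 F352490))
theorem F352494 : act 7 n134763 = n63397 := (sb E101275 (iv7 F217103))
theorem F352495 : act 7 n134903 = n131829 := d11_2 F352494 D134903 F216826
theorem E101276 : n131833 = n106569 := (c8_3 F352495 (iv3 D131829) D131833 F217106)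
theorem F352496 : act 2 n106569 = n61860 := (sb E101276 F211247)
theorem F352497 : act 7 n106569 = n61859 := (sb E101276 (iv7 D131833))
theorem E101277 : n131828 = n106570 := (c15_4 F163840 F163836 F352497 D131828)
theorem F352498 : act 2 n106570 = n61859 := (sb E101277 (iv2 D131828))
theorem F352499 : act 7 n106570 = n61860 := (sb E101277 (iv7 F211246))
theorem F352500 : act 7 n131835 = n101523 := d11_2 F352499 D131835 F336391
theorem F352501 : act 5 n154193 = n131835 := d13_3 F352500 F308420 D154193
theorem F352502 : act 2 n131830 = n101523 := d1_3 F336391 F352498 D131830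
theorem F352503 : act 3 n159680 = n131830 := d0_0 F352502 F336390 (iv2 F336388) (iv3 F238432) (iv2 F251552)
theorem F352504 : act 5 n154181 = n131830 := d2_0 F352502 F308420 (iv2 F242296)
theorem F352505 : act 6 n89185 = n131830 := d3_0 F352502 (iv6 D101523) (iv2 F156748)
theorem F352506 : act 4 n131832 = n89185 := d10_3 F352505 (iv4 D131830) D131832
theorem F352507 : act 0 n131830 = n136041 := d21_4 F74497 (iv1 F64283) D89185 F352505 (iv6 D136041) (iv5 D63967) D63964 (iv5 F225343) F345436 (iv1 F136887)
theorem F352508 : act 0 n89431 = n131830 := d21_4 F66311 D44873 (iv5 F70511) (iv6 F137103) (iv6 F352505) (iv5 D89185) (iv1 D41658) D41659 F64285 D41671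
theorem F352509 : act 1 n89431 = n131835 := d15_1 (iv0 F352508) F352500 (iv2 F352502)
theorem F352510 : act 6 n89416 = n154193 := d21_5 F63946 (iv1 F31267) D19644 D41754 D89416 F352501 (iv1 F352509) (iv5 D89431) (iv6 D41761) (iv1 F63948)
theorem F352511 : act 3 n123658 = n89416 := d7_3 F352510 F242310 (iv6 F198068)
theorem F352512 : act 7 n123649 = n89416 := d14_0 F352510 (iv7 D154193) (iv6 D73050) (iv7 F90784) D123649
theorem F352513 : act 2 n101522 = n131832 := d1_3 F352506 F156748 D101522
theorem F352514 : act 7 n101506 = n131832 := d11_0 F352506 F156749 D101506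
theorem F352515 : act 6 n113476 = n101506 := d14_5 F352514 (iv6 D131832) (iv7 F352497) F352474 (iv7 F176662)
theorem F352516 : act 2 n101506 = n113488 := d3_1 F352515 (iv6 D113488) (iv2 F176661)
theorem F352517 : act 4 n101507 = n113476 := d10_3 F352515 (iv4 D101506) D101507
theorem F352518 : act 2 n113487 = n101507 := d1_3 F352517 F176661 D113487
theorem F352519 : act 3 n143094 = n101507 := d5_5 F352517 (iv3 F220913) F225944 (iv3 D143093) D143094
theorem F352520 : act 7 n113500 = n101507 := d11_0 F352517 F176662 D113500
theorem F352521 : act 6 n101495 = n143094 := d7_0 F352519 (iv6 D101507) (iv3 F156307)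
theorem F352522 : act 4 n143095 = n101495 := d10_3 F352521 (iv4 D143094) D143095
theorem F352523 : act 6 n89180 = n113487 := d3_0 F352518 (iv6 D101507) (iv2 F156756)
theorem F352524 : act 3 n113487 = n154237 := d7_1 F352523 (iv6 D154237) (iv3 F306918)
theorem F352525 : act 4 n113488 = n89180 := d10_3 F352523 (iv4 D113487) D113488
theorem F352526 : act 5 n113487 = n100958 := d12_1 F352523 (iv6 D100958) (iv5 F136880) (iv6 D89181) D89180
theorem F352527 : act 1 n100958 = n137174 := d17_6 (iv1 D52396) (iv5 D25432) D25429 D52385 D113487 F352526 (iv5 D137174) (iv0 F352461) (iv4 D113515)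
theorem F352528 : act 7 n101522 = n113488 := d11_0 F352525 F156757 D101522
theorem F352529 : act 5 n177616 = n113488 := d16_3 F336432 (iv5 D177625) (iv4 F277080) F352525 (iv5 D89180) F184700 D158384 F249548 (iv2 F249553)
theorem F352530 : act 6 n106570 = n101522 := d3_0 F352513 (iv6 D131832) (iv2 F352498)
theorem E101278 : n131837 = n113489 := ((c14_5 (iv7 F352499) F352530 F352528 (iv6 D113488) D113489 (iv6 D131837))).symm
theorem F352531 : act 6 n113489 = n61860 := (sb E101278 (iv6 D131837))
theorem E101279 : n131834 = n126419 := (c7_2 F352531 D131834 (iv6 D126419) (iv3 F176679))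
theorem F352532 : act 3 n126419 = n61860 := (sb E101279 (iv3 D131834))
theorem F352533 : act 6 n131836 = n97392 := d12_2 F352531 D131836 F294896 F325715 (iv5 F176680)
theorem F352534 : act 3 n97394 = n131836 := d7_3 F352533 (iv3 D97392) D97394
theorem F352535 : act 5 n126419 = n97394 := d6_0 F352534 (iv5 D131836) (iv3 F352532)
theorem F352536 : act 6 n134765 = n93284 := d21_3 (iv5 F352493) (iv1 D134763) D134765 (iv1 D93284) (iv6 D43637) (iv5 D20638) D20635 D43626 D93262 (iv1 F349717)
theorem F352537 : act 3 n93284 = n134767 := d7_1 F352536 (iv6 D134767) (iv3 F216833)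
theorem F352538 : act 7 n183174 = n93284 := d8_0 F352537 (iv7 F343810) F345610
theorem F352539 : act 2 n93284 = n183175 := d15_3 (iv0 F295357) F295358 F352538
theorem F352540 : act 2 n183174 = n93283 := d15_3 (iv0 D93283) D93284 (iv7 F352538)
theorem F352541 : act 7 n93283 = n183175 := d4_2 (iv7 F352538) F352540 (iv2 F352539)
theorem F352542 : act 2 n134898 = n131829 := d1_3 F216826 F352492 D134898
theorem F352543 : act 4 n137147 = n128590 := d16_0 F352473 F333047 F303267 (iv4 F317060) (iv5 F319338) (iv4 F352480) (iv5 F345384) F352491 F333059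
theorem F352544 : act 2 n134897 = n128711 := d16_9 (iv4 D128711) D128712 F319379 F317101 (iv4 F317098) F74505 (iv4 F295482) F333058 (iv7 F352491)
theorem F352545 : act 7 n128711 = n137147 := d4_2 (iv7 F352491) F352544 (iv2 F333059)
theorem F352546 : act 4 n134124 = n143097 := d5_4 F352543 F216169 (iv4 D134125) D134124 F225953
theorem F352547 : act 6 n128590 = n137146 := d10_2 D137147 F352543 (iv4 D137146)
theorem F352548 : act 6 n143096 = n134124 := d10_0 F352546 (iv6 D143097) D143096
theorem F352549 : act 3 n134127 = n143096 := d7_3 F352548 (iv3 D134124) D134127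
theorem F352550 : act 0 n134127 = n134766 := d20_4 (iv4 D67124) (iv1 F103038) D143096 (iv3 F352549) F216835 F98593 (iv1 F97788) D133567 (iv3 F333085) F221166
theorem F352551 : act 2 n134902 = n143097 := d0_3 (iv3 F216824) F352485 D134902 F225953 (iv2 F333059)
theorem F352552 : act 6 n140765 = n134902 := d3_0 F352551 (iv6 D143097) (iv2 F223850)
theorem F352553 : act 2 n93221 = n91212 := d15_3 F143803 F143804 (iv7 F352482)
theorem F352554 : act 4 n91212 = n89136 := d16_0 (iv5 F153173) F303269 (iv5 F303271) (iv4 F333042) (iv5 F339370) (iv4 F217104) F345384 (iv7 F352482) F352553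
theorem F352555 : act 5 n137147 = n91212 := d9_0 F352554 (iv5 F153173) F303269 (iv5 F303271) (iv4 F333042) (iv5 F339370) (iv4 F217104) F345384 F352480 F319338 F317060 (iv5 F303267) (iv4 F333047) (iv5 F352473) (iv4 F352543)
theorem F352556 : act 7 n93220 = n91212 := d11_0 F352554 F156877 (iv4 F295481)
theorem F352557 : act 5 n101538 = n93223 := d18_9 (iv1 F143803) F352554 (iv1 D89136) (iv4 F295269) (iv5 F324641) (iv4 F325744) F325741 D128828 (iv0 F332689)
theorem F352558 : act 6 n91212 = n137150 := d12_2 D137147 F352555 (iv5 D137150) (iv6 D64475) D64474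
theorem E101280 : n137148 = n99728 := (c21_8 (iv5 D47244) (iv1 F64267) (iv5 F136843) F295271 (iv1 F143803) F352558 (iv5 D137150) D137148 (iv5 F295175) F295176 (iv1 D101560))
theorem F352559 : act 1 n99728 = n64475 := (sb E101280 (iv0 D137148))
theorem E101281 : n137149 = n101852 := ((c21_1 F295174 (iv1 D137149) D137150 (iv6 F352558) (iv1 D91212) (iv6 D42701) F31981 F31949 (iv5 F32760) D43643 D93305)).symm
theorem F352560 : act 0 n101852 = n64475 := (sb E101281 (iv1 D137149))
theorem E101282 : n144165 = n139724 := ((c20_4 F182886 (iv1 F85033) D67503 (iv3 F222898) (iv1 D144165) (iv3 F220330) F220331 (iv1 F352559) F327146 (iv3 D144059) (iv1 F182889))).symm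
theorem F352561 : act 0 n139724 = n67539 := (sb E101282 (iv1 D144165))
theorem F352562 : act 0 n140763 = n144379 := d20_4 D139724 F352561 (iv4 F226865) F226864 (iv3 D144379) (iv4 F322415) (iv1 F313771) (iv4 D117900) (iv3 F322273) F322272
theorem E101283 : n135172 = n135092 := (c17_7 (iv1 F202130) (iv5 F332711) F352478 (iv5 D128593) (iv4 F167603) F167604 D135172 (iv5 D135092) F207068 F207064)
theorem F352563 : act 0 n135092 = n63520 := (sb E101283 (iv1 D135172))
theorem F352564 : act 5 n101561 = n135296 := d18_4 F352563 (iv4 F317327) (iv1 D101560) D101561 (iv4 F217531) (iv0 D125653) F93021 D63491 D135092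
theorem F352565 : act 5 n125653 = n175432 := d9_2 F352564 (iv4 F217531) (iv4 D175432) (iv5 D83772) F155153 D47249 D101572 (iv5 F332709) F217212 (iv5 F332711) (iv4 D175429) (iv5 D83767) F155152 D47244 D101561
theorem F352566 : act 1 n175432 = n128593 := d17_8 (iv1 F270656) (iv5 D82566) (iv1 D37900) D37901 D82570 (iv5 F324889) F202125 F352565 (iv4 F345382)
theorem F352567 : act 0 n175432 = n128719 := d21_1 F352565 (iv5 D128719) D128720 (iv1 F345230) (iv6 D96148) (iv5 F136781) (iv1 D89075) (iv5 F72689) F325753 D125653
theorem F352568 : act 6 n106597 = n125653 := d21_5 (iv5 F345227) (iv1 F160845) (iv5 F334358) (iv6 D106601) D106597 F352565 F352567 (iv5 D128719) D128720 (iv1 F345230)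
theorem F352569 : act 4 n172431 = n128719 := d18_7 (iv1 F202125) (iv4 F207064) (iv1 F207068) (iv4 F207143) (iv5 F345750) (iv4 D172432) D172431 (iv0 F352567) (iv5 F352565)
theorem F352570 : act 0 n131942 = n131836 := d21_1 D131942 (iv5 D131836) (iv6 F352531) (iv1 F345758) (iv6 D128594) D128593 (iv1 F352566) (iv5 F352565) (iv6 F352568) (iv1 F164174)
theorem F352571 : act 1 n154193 = n134541 := d17_6 (iv1 F164174) D131942 F352570 (iv5 D131836) D131835 (iv5 F352501) (iv5 D134541) D134539 (iv4 F216519)
theorem F352572 : act 0 n113517 = n131943 := d21_4 (iv5 F345757) (iv1 F176430) F352467 D113517 (iv6 D131943) D131942 F352570 (iv5 D131836) (iv6 F352531) (iv1 F345758)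
theorem F352573 : act 1 n113517 = n131951 := d15_1 (iv0 F352572) (iv7 D131951) (iv2 F211419)
theorem F352574 : act 0 n123395 = n134545 := d20_1 (iv4 F197780) (iv4 D134545) (iv3 F216521) (iv1 F352571) F242310 (iv4 F206276) (iv1 F347358) (iv4 D153990) (iv3 F347348) F328723
theorem E101284 : n134545 = n81703 := (c17_1 F352574 D170404 F335851 F331669 F228933 F329414 (iv0 D63119) D63123 F328722 (iv4 F197780))
theorem E101285 : n170401 = n123395 := ((D170401).symm.trans (sb E101284 (iv0 F352574)))
theorem E101286 : n170403 = n63225 := ((D170403).symm.trans (sb E101284 (iv4 D134545)))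
theorem F352575 : act 0 n123395 = n81703 := (sb E101285 (iv1 D170401))
theorem F352576 : act 4 n63225 = n81703 := (sb E101286 (iv4 D170403))
theorem F352577 : act 4 n147031 = n123536 := d20_0 (iv1 D123536) (iv4 F197964) F197963 F352575 (iv3 D81703) D81704 (iv1 F332551) (iv4 F334461) F334460 (iv1 F314052)
theorem F352578 : act 7 n134599 = n170402 := d15_2 (iv0 F352575) (iv0 F335198) (iv2 D170402)
theorem F352579 : act 2 n97243 = n134599 := d4_3 F352578 (iv2 D170402) (iv7 F336835)
theorem F352580 : act 3 n170402 = n141475 := d8_1 F352578 (iv7 F333231) (iv3 F335031)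
theorem F352581 : act 4 n170402 = n134515 := d11_1 F352578 F216468 D134599
theorem F352582 : act 5 n170402 = n141469 := d13_1 F352578 F334142 (iv5 F349369)
theorem F352583 : act 2 n141469 = n170404 := d2_1 F352582 (iv5 D170404) D170402
theorem F352584 : act 4 n141469 = n142533 := d16_2 (iv4 F352581) F352582 F319104 (iv4 F319730) F98479 (iv4 F98475) (iv5 F216527) (iv7 D134547) (iv2 F216467)
theorem F352585 : act 4 n176328 = n134547 := d9_9 (iv5 F352582) F352581 (iv5 D134515) (iv4 D63213) F317959 F59504 D38740 D84083 D176328 F216527 F98475 (iv5 F98479) F319730 (iv5 F319104) (iv4 F352584)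
theorem E101287 : n176328 = n97243 := ((c16_10 F352585 F216527 F98475 (iv5 F98479) F319730 (iv5 F319104) (iv4 F352584) (iv5 F352582) (iv7 F352578) (iv2 F352579))).symm
theorem F352586 : act 4 n97243 = n134547 := (sb E101287 F352585)
theorem F352587 : act 5 n97243 = n84083 := (sb E101287 (iv5 D176328))
theorem F352588 : act 0 n134547 = n137414 := d20_7 F312724 (iv1 F85239) (iv4 F107459) F107458 (iv1 F71695) D97243 F352586 (iv4 F339498) (iv3 D117400) (iv1 F312723)
theorem F352589 : act 0 n117400 = n134363 := d18_2 F352588 (iv4 F339498) (iv4 D134363) (iv5 D63123) (iv4 F208351) (iv0 F208624) D132765 (iv0 F213223) (iv5 F216527)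
theorem F352590 : act 1 n134515 = n137414 := d15_0 (iv0 F352588) (iv7 D134547) (iv2 F216467)
theorem F352591 : act 1 n117400 = n134375 := d18_8 (iv1 D66826) (iv4 F102669) D142533 (iv4 F352584) (iv5 F352582) F352581 F352590 (iv4 F339498) F331618
theorem F352592 : act 3 n117377 = n137414 := d19_19 (iv1 F352590) (iv5 D134515) (iv4 D63213) (iv3 F319066) F298734 (iv5 D37880) F29329 F28880 F59727 F298507 (iv4 F29955) D26806 (iv1 F232398) (iv5 F114832) (iv4 F324744) (iv3 D117371) (iv1 D54088) D54089 D117377
theorem F352593 : act 3 n139712 = n134375 := d20_9 F339498 (iv1 F352590) (iv4 F352581) F352580 F336868 F234776 F324708 (iv1 F312786) (iv4 F336913) (iv1 F352591)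
theorem F352594 : act 7 n134375 = n117677 := d8_2 D139712 F352593 F315537
theorem F352595 : act 2 n117677 = n134363 := d15_3 (iv0 F352589) F352591 F352594
theorem F352596 : act 6 n134363 = n117407 := d3_2 D117677 F352595 F237566
theorem F352597 : act 4 n117407 = n134364 := d10_1 F352596 (iv6 D134364) D134363
theorem F352598 : act 2 n134364 = n117675 := d1_1 F352597 (iv4 D117675) (iv2 F237566)
theorem F352599 : act 7 n134364 = n117670 := d11_2 (iv7 F237567) F352597 (iv4 D117670)
theorem F352600 : act 0 n134364 = n117532 := d20_1 F352597 F184133 F183167 (iv1 F325096) (iv3 D105853) F114314 (iv1 F41117) (iv4 F41679) (iv3 F85525) (iv1 F183881)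
theorem F352601 : act 6 n117675 = n130214 := d3_2 D134364 F352598 F208737
theorem F352602 : act 3 n174315 = n117675 := d7_3 F352601 F342763 F336900
theorem F352603 : act 5 n137412 = n117377 := d6_0 F352592 (iv5 D137414) D137412
theorem F352604 : act 6 n137414 = n117379 := d7_2 (iv6 F183807) F352592 (iv3 D117379)
theorem F352605 : act 0 n158948 = n117377 := d20_4 (iv4 D158933) (iv1 F113745) D75867 D158948 F352592 (iv4 F339498) F352589 (iv4 D134363) (iv3 F216364) F337007
theorem F352606 : act 2 n134544 = n137414 := d3_3 F352604 (iv2 F197275) (iv6 F338475)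
theorem F352607 : act 6 n88864 = n147018 := d21_5 (iv5 D70716) (iv1 F190485) (iv5 F304521) (iv6 F310781) (iv1 F337257) (iv5 F339497) F327494 D137414 F352604 F306385
theorem F352608 : act 2 n147018 = n137419 := d3_1 F352607 F337256 (iv2 F337253)
theorem F352609 : act 3 n147018 = n88866 := d7_1 F352607 (iv6 D88866) D88864
theorem F352610 : act 6 n134391 = n124523 := d10_2 F352607 (iv4 F339499) F337277
theorem F352611 : act 7 n113810 = n134391 := d14_0 F352610 F315633 (iv6 D59852) (iv7 F83062) D113810
theorem F352612 : act 3 n96144 = n130757 := d6_3 F339497 F352609 (iv5 F147809)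
theorem F352613 : act 7 n136041 = n96144 := d8_0 F352612 F327498 (iv3 F218914)
theorem F352614 : act 0 n134120 = n137703 := d20_7 F95851 D61350 D130757 (iv3 F352612) F156325 F336390 D134120 F220925 F100599 (iv1 F328284)
theorem F352615 : act 1 n131835 = n136041 := d15_1 F352509 F352613 F147808
theorem F352616 : act 1 n137419 = n117383 := d15_0 (iv0 F328458) F328460 F352608
theorem E101288 : n137416 = n134537 := ((c15_1 F339496 (iv0 D137416) D137419 (iv2 F352608))).symm
theorem F352617 : act 1 n134537 = n64586 := (sb E101288 (iv0 D137416))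
theorem E101289 : n137408 = n133256 := (c18_2 D64584 D137408 (iv1 F327909) F204149 (iv5 F329420) F183979 F183818 F330250 F352617 (iv5 D64586))
theorem F352618 : act 4 n133256 = n64584 := (sb E101289 (iv4 D137408))
theorem E101290 : n134546 = n117649 := (c21_4 (iv5 D134537) (iv1 D63223) D63225 D134546 (iv1 D117649) (iv6 D54193) F328583 (iv1 D30397) D30398 (iv6 F100525) (iv1 F352617))
theorem F352619 : act 6 n117649 = n63225 := (sb E101290 (iv6 D134546))
theorem F352620 : act 4 n170405 = n117649 := d10_3 F352619 F352576 D170405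
theorem E101291 : n137407 = n134023 := (c5_2 F352618 D137407 (iv4 F215979) (iv3 D129460) D129461 (iv3 F214210))
theorem F352621 : act 3 n134023 = n64584 := (sb E101291 (iv3 D137407))
theorem F352622 : act 7 n137409 = n134544 := d16_8 (iv4 F339498) F310213 F334100 (iv5 D84072) D84071 (iv5 F344164) F352618 D137409 F352606
theorem F352623 : act 1 n137409 = n134515 := d17_6 F208624 D130211 F315326 (iv5 F344164) F352618 D137409 (iv5 D134515) (iv0 F213222) (iv4 D132765)
theorem F352624 : act 1 n134547 = n137409 := d15_0 F352623 F216468 (iv2 F216526)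
theorem F352625 : act 3 n175368 = n137409 := d8_3 F352622 (iv3 F338486) F334548
theorem F352626 : act 2 n137409 = n134543 := d15_3 (iv0 D134543) D134544 (iv7 F352622)
theorem F352627 : act 7 n134543 = n137414 := d4_2 (iv7 F352622) F352626 (iv2 F352606)
theorem F352628 : act 6 n158976 = n134543 := d14_5 F352627 F352604 F310212 D148185 (iv7 F250305)
theorem F352629 : act 0 n89409 = n158976 := d21_4 (iv5 D89397) (iv1 D41746) D41749 D89409 F352628 F216529 F327490 (iv5 F220625) F337256 (iv1 F337251)
theorem F352630 : act 0 n111169 = n164570 := d21_1 F338231 (iv5 D164570) F120253 F328454 (iv6 F218920) (iv5 D136048) (iv1 F327491) (iv5 F216529) (iv6 F352628) F250306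
theorem F352631 : act 4 n96778 = n89409 := d20_6 (iv4 F85654) F308787 F307004 (iv3 F307003) D45227 D96778 F352629 (iv4 D158976) F184515 (iv1 D54288)
theorem F352632 : act 3 n89415 = n96779 := d5_3 F352631 F137090 (iv4 F137094) (iv4 D96779) D96778
theorem F352633 : act 6 n89408 = n96778 := d10_0 F352631 (iv6 D89409) D89408
theorem F352634 : act 0 n158978 = n89409 := d20_1 D158978 (iv4 F352631) (iv3 D96778) (iv1 F71302) (iv3 F147553) (iv4 F149996) (iv1 F334923) F334928 F232543 (iv1 F130929)
theorem F352635 : act 5 n96778 = n148979 := d18_4 (iv1 F130929) D158978 F352634 (iv4 F352631) F234128 (iv0 D79033) F56685 D35973 (iv5 F85522)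
theorem F352636 : act 2 n148984 = n96778 := d2_3 F352635 (iv2 F234129) D148984
theorem F352637 : act 7 n95890 = n96778 := d13_0 F352635 F234130 (iv5 F308809)
theorem F352638 : act 1 n179979 = n96778 := d17_6 (iv1 F155402) D152592 F339240 F339241 F188776 D179979 F352635 (iv0 D148979) F106278
theorem E101292 : n96779 = n96242 := ((c20_2 F125279 D96242 (iv4 D96779) D96778 (iv1 F352638) F280305 (iv4 F314526) (iv1 F252149) (iv4 F337009) (iv3 D95933) (iv1 F312748))).symm
theorem F352639 : act 3 n96242 = n89415 := (sb E101292 (iv3 F352632))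
theorem F352640 : act 4 n96242 = n45227 := (sb E101292 (iv4 D96779))
theorem F352641 : act 2 n95886 = n96242 := d1_3 F352640 (iv2 F310995) D95886
theorem F352642 : act 7 n95329 = n96242 := d11_0 F352640 (iv7 F310994) (iv4 F310158)
theorem F352643 : act 4 n96555 = n179249 := d20_6 F352640 (iv1 F71302) F70356 (iv3 F34142) (iv1 F70982) D96555 (iv1 F351359) F351335 F148021 D96242
theorem F352644 : act 0 n89103 = n89415 := d20_4 D96556 F335135 F125280 (iv3 F136820) (iv3 F352639) F352640 (iv1 F71302) F70356 (iv3 F34142) (iv1 F70982)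
theorem E101293 : n95886 = n95328 := (c15_4 (iv0 D95328) D95329 F352642 (iv2 F352641))
theorem F352645 : act 2 n95328 = n96242 := (sb E101293 F352641)
theorem F352646 : act 4 n95328 = n44767 := (sb E101293 (iv4 D95886))
theorem F352647 : act 6 n95328 = n130578 := (sb E101293 (iv6 F346792))
theorem F352648 : act 2 n95329 = n96243 := d15_3 F148022 F148027 (iv7 F352642)
theorem F352649 : act 6 n96243 = n127530 := d3_2 (iv6 F308811) F352648 F233724
theorem F352650 : act 7 n96243 = n95328 := d4_2 (iv7 F352642) F352648 F352645
theorem F352651 : act 3 n95328 = n130582 := d8_1 F352650 (iv7 F350603) (iv3 F334522)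
theorem F352652 : act 5 n130575 = n95328 := d6_0 F352651 (iv5 D130582) (iv3 F209151)
theorem F352653 : act 4 n96532 = n147254 := d20_0 (iv1 D147254) D147255 F230848 (iv1 F340443) (iv3 F352651) F352646 (iv1 F71304) F71300 (iv3 F147133) (iv1 F148693)
theorem E101294 : n148913 = n114185 := ((c20_8 F308124 F191095 (iv4 F315580) D95521 (iv1 F342250) F149773 F147475 D114185 (iv4 F340445) (iv3 F352651) (iv1 F148029))).symm
theorem F352654 : act 2 n114185 = n78998 := (sb E101294 F350605)
theorem F352655 : act 3 n114185 = n69802 := (sb E101294 (iv3 D148913))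
theorem F352656 : act 4 n114185 = n130582 := (sb E101294 (iv4 F340445))
theorem F352657 : act 7 n114185 = n78999 := (sb E101294 F350606)
theorem E101295 : n148916 = n148891 := ((c8_2 F352657 (iv3 F259264) (iv7 D148916) (iv3 F352655))).symm
theorem F352658 : act 2 n148891 = n69803 := (sb E101295 F233983)
theorem F352659 : act 7 n148891 = n69802 := (sb E101295 (iv7 D148916))
theorem E101296 : n164494 = n114186 := (c15_4 F177956 F177961 F352657 (iv2 F259235))
theorem F352660 : act 2 n114186 = n78999 := (sb E101296 F259235)
theorem F352661 : act 7 n114186 = n78998 := (sb E101296 (iv7 D164494))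
theorem E101297 : n164491 = n133421 := (c11_2 F352661 D164491 (iv7 F340440) (iv4 F259095))
theorem F352662 : act 0 n133421 = n164454 := (sb E101297 F259232)
theorem F352663 : act 4 n133421 = n78998 := (sb E101297 (iv4 D164491))
theorem F352664 : act 4 n164493 = n112905 := d10_3 (iv6 F214537) F352663 D164493
theorem F352665 : act 3 n112905 = n88861 := d5_1 F352664 (iv4 D88861) (iv3 F136254) D186569 (iv3 F347694)
theorem F352666 : act 4 n107267 = n114381 := d16_2 (iv4 F78314) (iv5 F165313) (iv5 F259233) F352664 (iv5 D112905) F82371 F39958 D49180 F77669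
theorem F352667 : act 4 n114380 = n106429 := d16_0 (iv5 D106429) F77667 (iv5 F39958) (iv4 F82371) D112905 (iv4 F352664) F259233 F178407 F178406
theorem F352668 : act 4 n111048 = n127831 := d18_5 (iv1 F164843) F164841 (iv1 F163567) (iv4 F171949) (iv5 F172234) F205660 F352667 (iv0 F339916) F339918
theorem F352669 : act 3 n114882 = n114380 := d20_5 (iv4 F179005) (iv1 D114913) (iv4 D53022) (iv3 F83732) D114882 F352667 (iv1 F247361) (iv4 F350592) F178310 (iv1 F163406)
theorem F352670 : act 7 n89382 = n112905 := d8_0 F352665 F136259 D89382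
theorem F352671 : act 2 n130590 = n89382 := d4_3 F352670 F175824 D130590
theorem F352672 : act 1 n127127 = n89382 := d15_1 (iv0 F204378) F352670 F175824
theorem F352673 : act 1 n89382 = n127124 := d15_1 F352672 (iv7 F220704) F220703
theorem E101298 : n164382 = n127127 := (c18_8 (iv1 F329591) (iv4 F163691) (iv1 D49960) (iv4 F79016) D108173 F350590 (iv0 D164383) (iv4 F259035) F352672 F137068)
theorem F352674 : act 4 n127127 = n78948 := (sb E101298 F259035)
theorem F352675 : act 6 n127127 = n78947 := (sb E101298 (iv6 D164382))
theorem F352676 : act 3 n125460 = n94122 := d19_7 (iv1 F352672) (iv5 D127127) (iv4 D59675) D59674 F166483 (iv5 F92802) (iv4 F201734) F145064 (iv5 D48233) F66739 F33736 F66711 (iv5 F291347) (iv4 F14425) F14424 D9231 D19639 D41739 D89382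
theorem E101299 : n110877 = n101440 := ((c5_4 (iv4 F201734) F352676 F145066 D101440 (iv4 D110877) (iv3 F92801))).symm
theorem F352677 : act 0 n101440 = n74362 := (sb E101299 F171771)
theorem F352678 : act 1 n101440 = n74363 := (sb E101299 F171770)
theorem F352679 : act 2 n101440 = n63357 := (sb E101299 F171768)
theorem F352680 : act 4 n101440 = n51129 := (sb E101299 (iv4 D110877))
theorem F352681 : act 5 n101440 = n141987 := (sb E101299 (iv5 F225018))
theorem F352682 : act 6 n101440 = n60504 := (sb E101299 F171769)
theorem F352683 : act 7 n101440 = n140453 := (sb E101299 (iv7 F223636))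
theorem F352684 : act 6 n94122 = n125459 := d7_2 D125460 F352676 (iv3 D125459)
theorem E101300 : n184442 = n101248 := ((c20_4 D104230 F159823 (iv4 D101249) D101248 (iv1 D184442) (iv3 F153133) F327143 F166216 (iv4 F201734) F352676 F145064)).symm
theorem F352685 : act 0 n101248 = n87959 := (sb E101300 (iv1 D184442))
theorem F352686 : act 0 n102421 = n101432 := d20_7 D22709 D47207 (iv4 F145066) (iv3 F352676) F201735 (iv3 F327131) D102421 (iv4 D101432) (iv3 D47204) (iv1 D22708)
theorem E101301 : n184441 = n101419 := ((c15_4 (iv0 D184441) (iv0 F352685) F155987 D101419)).symm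
theorem F352687 : act 1 n101419 = n87959 := (sb E101301 (iv0 D184441))
theorem F352688 : act 2 n125459 = n183929 := d3_1 F352684 (iv6 D183929) (iv2 F145062)
theorem E101302 : n128652 = n101442 := (c10_2 F352684 (iv4 F206950) (iv6 D101442) (iv4 F145066))
theorem F352689 : act 0 n101442 = n138527 := (sb E101302 F221712)
theorem F352690 : act 3 n101442 = n60504 := (sb E101302 (iv3 D128652))
theorem F352691 : act 4 n101442 = n125459 := (sb E101302 F206950)
theorem F352692 : act 5 n101442 = n108583 := (sb E101302 F206951)
theorem F352693 : act 7 n101442 = n63362 := (sb E101302 F206952)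
theorem F352694 : act 7 n136836 = n182255 := d14_4 (iv7 F145063) F352684 (iv7 F214691) (iv6 F220035) F283698
theorem F352695 : act 3 n182255 = n135576 := d8_1 F352694 F218029 D136836
theorem F352696 : act 4 n182255 = n140451 := d11_1 F352694 F223632 (iv4 F220034)
theorem F352697 : act 5 n182256 = n136836 := d13_3 F352694 (iv5 D182255) D182256
theorem F352698 : act 3 n136837 = n182256 := d6_3 F352697 (iv3 D136836) D136837
theorem F352699 : act 7 n182241 = n136837 := d8_0 F352698 (iv7 D182256) (iv3 F283680)
theorem F352700 : act 5 n135576 = n182241 := d13_3 F352699 (iv5 D136837) (iv7 F218029)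
theorem F352701 : act 2 n182241 = n136839 := d2_1 F352700 (iv5 D136839) F218031
theorem F352702 : act 0 n137473 = n182241 := d21_7 (iv5 D87750) (iv1 F289720) (iv5 F327684) F328425 (iv1 F328417) D64619 D137473 (iv5 F352700) F245935 F326315
theorem E101303 : n137472 = n136241 := ((c21_10 D137473 F352702 (iv5 F352700) F245935 F326315 F134714 (iv5 D54402) D54400 (iv5 F327127) D136241 (iv1 D137472))).symm
theorem F352703 : act 0 n136241 = n64619 := (sb E101303 (iv1 D137472))
theorem F352704 : act 6 n140451 = n101252 := d10_2 (iv6 F283698) F352696 (iv4 F156000)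
theorem F352705 : act 2 n101445 = n140451 := d3_3 F352704 (iv2 F155999) D101445
theorem F352706 : act 3 n101252 = n140453 := d7_1 F352704 (iv6 D140453) D140451
theorem E101304 : n128016 = n101253 := ((c20_6 F167652 (iv1 F171776) (iv4 F223635) (iv3 F352706) (iv1 D101252) D101253 F206003 F190970 D71061 (iv3 F315251) D74358)).symm
theorem F352707 : act 0 n101253 = n153616 := (sb E101304 F241491)
theorem F352708 : act 1 n101253 = n153613 := (sb E101304 (iv0 F241477))
theorem F352709 : act 2 n101253 = n167809 := (sb E101304 (iv2 F264245))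
theorem F352710 : act 4 n101253 = n60154 := (sb E101304 F206003)
theorem F352711 : act 7 n101253 = n60153 := (sb E101304 (iv7 D128016))
theorem E101305 : n128014 = n101255 := (c8_2 F352711 D128014 (iv7 D101255) D101253)
theorem F352712 : act 3 n101255 = n60153 := (sb E101305 (iv3 D128014))
theorem F352713 : act 6 n101255 = n60161 := (sb E101305 F206002)
theorem F352714 : act 4 n104710 = n128015 := d16_6 (iv4 D167809) (iv5 D80529) D80528 F333990 (iv4 F340309) F340350 (iv5 D128015) (iv7 F352711) F352709
theorem E101306 : n128015 = n104350 := (c5_1 F352714 (iv3 D104350) (iv4 D48290) (iv3 F291203) D48416 D104710)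
theorem F352715 : act 4 n104350 = n104710 := (sb E101306 (iv4 F352714))
theorem F352716 : act 5 n104350 = n60153 := (sb E101306 (iv5 D128015))
theorem E101307 : n128004 = n95374 := ((c16_10 (iv4 D128004) (iv5 D60139) F46157 D28585 D60153 (iv5 F352716) F352715 (iv5 F340350) (iv7 D104646) (iv2 F147007))).symm
theorem F352717 : act 4 n95374 = n60139 := (sb E101307 (iv4 D128004))
theorem E101308 : n128038 = n101456 := (c3_2 F352713 D128038 (iv6 D101456) (iv2 F156004))
theorem F352718 : act 2 n101456 = n60161 := (sb E101308 (iv2 D128038))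
theorem E101309 : n127972 = n101256 := (c10_2 F352713 (iv4 F205948) (iv6 D101256) (iv4 F156005))
theorem F352719 : act 3 n101256 = n60125 := (sb E101309 (iv3 D127972))
theorem F352720 : act 4 n101256 = n60161 := (sb E101309 F205948)
theorem F352721 : act 7 n101256 = n157612 := (sb E101309 (iv7 F346616))
theorem F352722 : act 6 n108599 = n128037 := d21_3 D137688 F220861 F216774 (iv1 D128037) (iv6 F352713) F156006 (iv1 F291906) (iv5 F293014) D104280 F329344
theorem F352723 : act 3 n128037 = n108600 := d7_1 F352722 (iv6 D108600) D108599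
theorem F352724 : act 4 n128037 = n126695 := d10_1 F352722 (iv6 D126695) (iv4 F167961)
theorem F352725 : act 1 n101458 = n157612 := d15_1 D101458 (iv7 F352721) F156009
theorem E101310 : n183786 = n127973 := ((c6_3 (iv5 F156010) F352719 D127973 F285564)).symm
theorem F352726 : act 3 n127973 = n87716 := (sb E101310 F285564)
theorem F352727 : act 6 n127973 = n87685 := (sb E101310 (iv6 D183786))
theorem F352728 : act 6 n97967 = n159406 := d3_2 F352727 (iv2 F150988) F251014
theorem F352729 : act 6 n153836 = n159399 := d14_5 F250994 F352727 (iv7 D87685) (iv6 F308270) (iv7 F241690)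
theorem F352730 : act 3 n159399 = n153841 := d7_1 F352729 (iv6 D153841) (iv3 F241689)
theorem F352731 : act 3 n159406 = n97990 := d7_1 F352728 (iv6 D97990) (iv3 F150989)
theorem F352732 : act 3 n167809 = n101448 := d0_2 D101253 F352709 (iv2 D101448) (iv3 D47209) (iv2 F74417)
theorem E101311 : n152950 = n99812 := ((c5_4 D167809 F352732 F156258 (iv3 F153651) (iv4 F264234) F264231)).symm
theorem F352733 : act 0 n99812 = n72195 := (sb E101311 (iv1 D152950))
theorem F352734 : act 4 n99812 = n167806 := (sb E101311 (iv4 F264234))
theorem F352735 : act 5 n99812 = n103718 := (sb E101311 (iv5 F346941))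
theorem F352736 : act 2 n103718 = n89451 := d2_1 F352735 F137114 D99812
theorem F352737 : act 3 n103718 = n102266 := d6_1 F352735 (iv5 D102266) (iv3 F153651)
theorem F352738 : act 0 n103718 = n152933 := d17_2 (iv1 F346761) F352735 (iv5 D152933) (iv4 D72183) (iv5 D33319) F110794 (iv5 F86819) F187039 F346762
theorem F352739 : act 3 n152933 = n103742 := d20_5 (iv4 F259181) (iv1 F235295) (iv4 F314186) (iv3 F352737) F352738 F350565 (iv1 D76273) (iv4 F114328) F114327 D106135
theorem F352740 : act 2 n103604 = n152933 := d15_3 (iv0 F352738) (iv0 D103718) (iv7 F335078)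
theorem E101312 : n166479 = n152933 := ((c1_2 (iv4 F340701) F352740 (iv4 D166479) (iv2 F346921))).symm
theorem F352741 : act 4 n152933 = n79916 := (sb E101312 (iv4 D166479))
theorem F352742 : act 5 n119241 = n103604 := d2_0 F352740 (iv5 D152933) (iv2 F187678)
theorem F352743 : act 7 n152933 = n103720 := d4_2 (iv7 F335078) F352740 (iv2 D103720)
theorem E101313 : n152933 = n89448 := ((c15_2 (iv0 F346910) D89448 F352743 (iv2 D103720))).symm
theorem F352744 : act 1 n89448 = n103718 := (sb E101313 (iv0 F352738))
theorem F352745 : act 2 n89448 = n103604 := (sb E101313 (iv2 F352740))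
theorem F352746 : act 3 n89448 = n103742 := (sb E101313 F352739)
theorem F352747 : act 4 n89448 = n79916 := (sb E101313 F352741)
theorem F352748 : act 5 n89448 = n72183 := (sb E101313 (iv5 D152933))
theorem F352749 : act 7 n89448 = n103720 := (sb E101313 F352743)
theorem F352750 : act 5 n103816 = n112099 := d21_6 (iv5 F352748) (iv1 D89448) D89450 F335759 F306956 D103816 F174287 D155954 (iv6 F346905) F322907
theorem F352751 : act 0 n91291 = n144200 := d21_1 (iv5 F291423) F323199 F344496 F225347 (iv6 F321234) (iv5 F352748) (iv1 D89448) D89450 F335759 F306956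
theorem F352752 : act 1 n100517 = n103940 := d17_6 F352751 F323199 (iv1 D118414) (iv5 F319715) F75503 D100517 (iv5 D103940) (iv0 F294888) (iv4 F291422)
theorem F352753 : act 1 n91291 = n144199 := d15_1 (iv0 F352751) F323197 (iv2 F323198)
theorem F352754 : act 2 n118964 = n91291 := d15_3 F352753 (iv0 D144199) (iv7 F322246)
theorem F352755 : act 4 n182268 = n118964 := d1_0 F352754 F291422 F283712
theorem F352756 : act 1 n103939 = n182268 := d18_6 (iv1 D71289) (iv4 D32990) D32989 D71287 D151261 F326521 F352755 (iv0 F324607) F324608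
theorem F352757 : act 3 n175023 = n91302 := d19_15 (iv1 F154632) (iv5 F283713) F352755 F322245 (iv1 F226717) F226719 F172067 F164922 (iv1 D64270) (iv5 D30272) (iv4 F48658) (iv3 F100055) D136715 F343449 (iv4 F273929) (iv1 F294316) F294317 (iv4 D48213) (iv3 F75758)
theorem F352758 : act 5 n103939 = n100520 := d17_1 (iv1 F352756) (iv1 D100520) (iv5 D46896) F62959 F321143 F107782 (iv5 F324610) F324609 (iv4 F352755)
theorem F352759 : act 2 n100520 = n103940 := d2_1 F352758 (iv5 D103940) D103939
theorem F352760 : act 1 n89058 = n103939 := d17_6 (iv1 F107768) F107769 F104140 (iv5 F83503) (iv4 F330003) F153051 F352758 F325480 (iv4 D71812)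
theorem F352761 : act 7 n103939 = n98348 := d16_8 (iv4 F149753) (iv5 F327290) (iv4 D55229) (iv5 F42830) (iv4 F83808) (iv5 F108387) (iv4 F325481) (iv5 F352758) F151778
theorem F352762 : act 4 n103940 = n114190 := d1_2 (iv4 F325481) F352759 (iv2 F177973)
theorem F352763 : act 7 n100519 = n103940 := d15_2 F325480 (iv0 F325478) (iv2 F352759)
theorem F352764 : act 0 n99378 = n103940 := d18_2 (iv1 D114375) (iv4 F325487) F352762 F177972 (iv4 D68095) (iv0 D31688) (iv4 F49965) (iv0 F103887) (iv5 F178394)
theorem F352765 : act 0 n91365 = n171104 := d20_4 D104189 F159720 (iv4 D91366) D91365 F335349 (iv4 D114191) D114190 (iv4 F352762) F159386 F293560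
theorem F352766 : act 0 n171105 = n182442 := d21_4 (iv5 F140494) F352765 (iv5 D171104) D171105 (iv6 D182442) F327617 D109029 F327601 (iv6 F329818) F329815
theorem F352767 : act 1 n91365 = n171101 := d15_1 (iv0 F352765) F268822 (iv2 F268832)
theorem E101314 : n184629 = n102381 := ((c20_11 F286598 F352766 F283987 (iv3 F140104) F290949 (iv3 D88325) F62418 (iv1 D22829) (iv4 F35399) (iv3 F74686) D102381)).symm
theorem F352768 : act 2 n102381 = n88046 := (sb E101314 F286597)
theorem F352769 : act 4 n102381 = n171105 := (sb E101314 F286598)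
theorem F352770 : act 6 n102381 = n88035 := (sb E101314 (iv6 D184629))
theorem F352771 : act 1 n171105 = n91379 := d15_1 (iv0 F352766) F292173 (iv2 F283986)
theorem E101315 : n184648 = n102382 := ((c15_2 (iv0 D102381) D102382 (iv7 D184648) (iv2 F352768))).symm
theorem F352772 : act 7 n102382 = n88046 := (sb E101315 (iv7 D184648))
theorem E101316 : n182440 = n102382 := (c14_6 F352772 (iv6 D88046) F154975 (iv6 F328101) F328102 D182440)
theorem F352773 : act 6 n102382 = n87105 := (sb E101316 (iv6 D182440))
theorem E101317 : n182201 = n98069 := (c21_2 (iv5 F133506) D182201 (iv5 D98069) (iv6 D45798) (iv1 F34385) D37484 F327074 (iv1 F172929) F328769 (iv6 F352773) (iv1 D102382))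
theorem F352774 : act 1 n98069 = n86994 := (sb E101317 (iv0 D182201))
theorem F352775 : act 7 n182176 = n98165 := d15_2 F352774 (iv0 F335674) F151422
theorem F352776 : act 4 n183406 = n114515 := d17_4 F352764 (iv5 D103940) (iv1 F294887) D183406 F178579 F176821 (iv5 F178388) (iv0 D114374) (iv4 F325487)
theorem F352777 : act 3 n114649 = n97947 := d20_3 F352776 (iv1 F178582) (iv4 F178747) F157661 (iv3 D88017) (iv4 F293873) (iv1 F294326) (iv4 D91344) (iv3 F140427) F285129
theorem F352778 : act 6 n91302 = n175021 := d7_2 D175023 F352757 (iv3 D175021)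
theorem E101318 : n175023 = n128388 := ((c20_5 (iv4 D60356) (iv1 D28670) D28671 D60360 D128388 F352757 (iv4 D91302) (iv1 F291426) (iv4 F324322) (iv3 D72725) (iv1 F94880))).symm
theorem F352779 : act 2 n128388 = n174561 := (sb E101318 F273928)
theorem F352780 : act 3 n128388 = n91302 := (sb E101318 F352757)
theorem F352781 : act 4 n128388 = n173303 := (sb E101318 F273929)
theorem F352782 : act 6 n128388 = n83586 := (sb E101318 (iv6 D175023))
theorem F352783 : act 4 n175021 = n91303 := d10_1 F352778 (iv6 D91303) D91302
theorem F352784 : act 3 n91303 = n89920 := d5_1 F352783 (iv4 F340386) F304225 (iv4 F128664) D175021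
theorem F352785 : act 5 n89905 = n91303 := d6_0 F352784 (iv5 D89920) (iv3 F138047)
theorem F352786 : act 0 n107715 = n103281 := d19_12 (iv1 F352752) (iv5 D100517) (iv4 F75503) (iv3 F143305) (iv1 F143310) (iv5 F296078) F111278 F111281 (iv1 D53193) (iv5 F79314) F79313 (iv3 F166355) (iv5 D103281) (iv4 F75521) (iv3 D48071) D48069 (iv5 F294497) F294496 (iv3 F159386)
theorem F352787 : act 0 n88972 = n103941 := d21_4 D185476 (iv1 F287769) (iv5 D88971) D88972 (iv6 D103941) D103940 (iv1 F352752) (iv5 D100517) (iv6 F293671) F293670
theorem F352788 : act 1 n107715 = n155832 := d15_1 (iv0 F352786) (iv7 D155832) (iv2 F349918)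
theorem F352789 : act 2 n112144 = n103816 := d2_3 F352750 F174285 D112144
theorem F352790 : act 3 n112099 = n103823 := d6_1 F352750 (iv5 D103823) (iv3 F159237)
theorem F352791 : act 7 n112138 = n103816 := d13_0 F352750 F174286 D112138
theorem F352792 : act 4 n117070 = n103816 := d16_0 F352750 (iv4 D112099) (iv5 F111542) (iv4 F245612) (iv5 F346902) (iv4 D117083) (iv5 D53952) D53953 (iv2 F183094)
theorem F352793 : act 0 n117013 = n103816 := d17_2 (iv1 F174046) (iv5 F346904) F352750 (iv4 D112099) (iv5 F111542) (iv0 F111544) (iv5 F161273) (iv0 F161280) (iv4 F174043)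
theorem F352794 : act 1 n117014 = n103816 := d18_8 F174287 F110928 D106193 (iv4 F173191) D112126 F348112 F348116 F330034 F352750
theorem E101319 : n145611 = n117072 := (c20_9 F352792 (iv1 F352794) (iv4 F330034) F221690 F330023 (iv3 F84382) (iv4 F180563) F320755 (iv4 F322234) (iv3 D117072) (iv1 F183099))
theorem F352795 : act 0 n117072 = n74021 := (sb E101319 F322232)
theorem F352796 : act 1 n117072 = n85413 := (sb E101319 F322233)
theorem F352797 : act 2 n117072 = n68260 := (sb E101319 (iv2 D145611))
theorem F352798 : act 4 n117072 = n150906 := (sb E101319 F322234)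
theorem F352799 : act 6 n117072 = n144876 := (sb E101319 (iv6 F348325))
theorem F352800 : act 7 n117072 = n85376 := (sb E101319 F322235)
theorem F352801 : act 6 n117014 = n108167 := d21_5 (iv5 F323196) (iv1 F352753) F291423 D103816 (iv1 F352794) F246899 (iv1 D156876) (iv5 D74601) (iv6 F317441) D118413
theorem F352802 : act 2 n157226 = n117014 := d3_3 F352801 F245772 D157226
theorem F352803 : act 4 n181746 = n157226 := d1_0 F352802 (iv4 F330034) F348053
theorem F352804 : act 7 n117013 = n157226 := d4_0 F352802 F348051 F348050
theorem F352805 : act 1 n157226 = n112144 := d15_0 F346897 (iv7 F348051) (iv2 F352802)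
theorem F352806 : act 1 n112138 = n157226 := d15_0 F352805 F346901 (iv2 F346892)
theorem F352807 : act 3 n157226 = n137183 := d20_5 F100366 (iv1 F78426) (iv4 F85067) (iv3 F346898) (iv1 F352805) (iv4 D137183) (iv1 D64483) (iv4 F100364) F100363 D64444
theorem E101320 : n181758 = n137182 := ((c5_4 F352803 F352807 (iv4 D137183) D137182 F282927 (iv3 F282922))).symm
theorem F352808 : act 4 n137182 = n86798 := (sb E101320 F282927)
theorem F352809 : act 6 n137182 = n86797 := (sb E101320 (iv6 D181758))
theorem F352810 : act 6 n137183 = n157225 := d7_2 D157226 F352807 (iv3 D157225)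
theorem E101321 : n137185 = n99793 := ((c10_2 F352810 (iv4 F329278) (iv6 D137185) D137183)).symm
theorem F352811 : act 6 n99793 = n64483 := (sb E101321 (iv6 D137185))
theorem E101322 : n137181 = n102185 := (c3_2 F352811 (iv2 F220347) (iv6 D102185) (iv2 F329282))
theorem F352812 : act 2 n102185 = n64483 := (sb E101322 F220347)
theorem F352813 : act 7 n102185 = n64482 := (sb E101322 (iv7 D137181))
theorem E101323 : n181756 = n99793 := (c7_4 F352811 D137182 F352809 D181756)
theorem F352814 : act 3 n99793 = n86797 := (sb E101323 (iv3 D181756))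
theorem F352815 : act 6 n176871 = n99792 := d14_3 F352813 (iv6 F346654) (iv7 F349522) F329281 D102185
theorem F352816 : act 2 n101864 = n176871 := d3_3 F352815 F329280 (iv6 F344548)
theorem F352817 : act 4 n99792 = n176867 := d10_1 F352815 F276237 D176871
theorem F352818 : act 5 n176871 = n102043 := d21_6 F35325 D46345 F72997 D46609 D99792 (iv6 F352815) (iv1 D102043) (iv5 D47393) (iv6 D22766) D22763
theorem F352819 : act 2 n102043 = n89441 := d2_1 F352818 (iv5 F344547) F352816
theorem F352820 : act 7 n102043 = n89440 := d13_2 (iv7 F349522) F352818 (iv5 F156994)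
theorem F352821 : act 1 n99732 = n176871 := d17_6 (iv1 D109556) (iv5 D50543) D50540 (iv5 F320050) (iv4 F319204) (iv5 F153531) F352818 F156985 F329748
theorem F352822 : act 1 n176871 = n101866 := d15_1 F352821 (iv7 D101866) F156413
theorem F352823 : act 4 n109719 = n99732 := d18_5 (iv1 F325183) F119654 F323906 F81558 (iv5 F169709) F352821 (iv4 D176871) (iv0 F325898) (iv5 D109445)
theorem F352824 : act 4 n111835 = n102644 := d18_3 (iv1 D102043) D102044 F329859 (iv5 F344560) (iv4 D109720) D109719 F352823 F352821 F352818
theorem F352825 : act 5 n136520 = n99792 := d21_2 D64179 D136520 (iv6 F352815) (iv1 F352821) (iv6 D99732) (iv5 F73569) (iv1 F155791) (iv5 F74536) F346673 (iv1 D64177)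
theorem F352826 : act 2 n102179 = n136520 := d2_3 F352825 F329280 D102179
theorem F352827 : act 7 n102184 = n136520 := d13_0 F352825 F329281 D102184
theorem F352828 : act 7 n136521 = n102179 := d15_2 (iv0 D136520) D136521 F352826
theorem F352829 : act 2 n136521 = n102184 := d4_3 F352827 (iv2 F352826) (iv7 F352828)
theorem F352830 : act 5 n99793 = n136521 := d2_0 F352829 (iv5 D102184) (iv2 F329282)
theorem F352831 : act 3 n136521 = n181757 := d6_1 F352830 (iv5 D181757) (iv3 F352814)
theorem F352832 : act 5 n131138 = n112902 := d17_7 (iv1 F153622) F352830 (iv1 D136521) (iv5 D64179) (iv4 F78228) (iv5 F96053) D131138 (iv0 F329296) F157064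
theorem E101324 : n186259 = n61522 := (c18_8 (iv1 D112902) F329285 D99792 F352817 (iv5 D176867) F129384 D88719 D186259 D131138 F352832)
theorem E101325 : n131118 = n88719 := (((iv4 F210009)).symm.trans (sb E101324 (iv4 D186259)))
theorem E101326 : n186258 = n61514 := ((D186258).symm.trans (sb E101325 (iv3 D131118)))
theorem F352833 : act 4 n88719 = n61522 := (sb E101325 F210009)
theorem E101327 : n186252 = n133641 := ((F289011).symm.trans (sb E101325 (iv7 F215044)))
theorem F352834 : act 3 n61514 = n88719 := (sb E101326 (iv3 D186258))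
theorem F352835 : act 2 n133641 = n88718 := (sb E101327 (iv2 D186252))
theorem F352836 : act 7 n133641 = n88719 := (sb E101327 (iv7 F289011))
theorem E101328 : n186254 = n133651 := (c1_3 (iv4 F215043) F352835 D186254 (iv2 D133651))
theorem F352837 : act 4 n133651 = n88718 := (sb E101328 (iv4 D186254))
theorem F352838 : act 4 n186257 = n131139 := d11_3 (iv7 F215061) F352837 D186257
theorem F352839 : act 3 n186260 = n123929 := d6_3 F314907 F352834 D186260
theorem F352840 : act 3 n186261 = n131120 := d7_3 (iv6 D131120) F352834 D186261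
theorem F352841 : act 4 n131140 = n186261 := d5_0 F352840 F210010 F96030 (iv4 F96054) (iv3 F210044)
theorem F352842 : act 4 n123944 = n186260 := d5_0 F352839 (iv4 D123929) F90908 D57742 D123944
theorem F352843 : act 7 n181757 = n139103 := d8_2 (iv7 F352828) F352831 (iv3 F329277)
theorem F352844 : act 2 n181757 = n139102 := d15_3 (iv0 D139102) D139103 (iv7 F352843)
theorem F352845 : act 7 n181739 = n139102 := d16_8 F342025 (iv5 D151987) F108149 (iv5 F312446) (iv4 D40233) D40234 D86783 D181739 (iv2 F352844)
theorem F352846 : act 2 n139103 = n181739 := d4_3 F352845 (iv2 F352844) F352843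
theorem F352847 : act 1 n181757 = n139067 := d15_0 F341570 F352845 (iv2 F352844)
theorem F352848 : act 4 n139103 = n123750 := d16_0 (iv5 D123750) F314459 F312137 (iv4 D85660) (iv5 F309913) D156379 F245803 (iv7 F352845) (iv2 F352846)
theorem F352849 : act 7 n123750 = n151987 := d11_2 F352843 F352848 (iv4 F342025)
theorem E101329 : n139157 = n124083 := ((c18_1 D124083 (iv4 D139157) (iv1 F222290) F352848 (iv5 D123750) F314459 (iv0 F314461) (iv4 D124073) (iv0 D57815) D57818)).symm
theorem F352850 : act 4 n124083 = n65311 := (sb E101329 (iv4 D139157))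
theorem F352851 : act 0 n102179 = n135885 := d19_4 (iv1 D123747) D123750 (iv4 F352848) (iv3 F329277) (iv5 D135885) F99370 (iv3 D52096) (iv1 F40002) F40000 (iv4 D25314) (iv3 F39973) D52126 F94244 (iv4 F104014) (iv3 F112259) (iv1 F112264) (iv5 F97988) F314886 (iv3 F316791)
theorem F352852 : act 5 n133650 = n102172 := d17_7 D47438 D102179 F352851 (iv5 D135885) F99370 (iv5 F97860) D133650 (iv0 D102172) F74637
theorem F352853 : act 0 n135886 = n93307 := d21_4 D102179 F352851 (iv5 D135885) D135886 F143886 (iv5 D43646) F292962 (iv5 D22787) D22788 D47438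
theorem F352854 : act 1 n102184 = n135885 := d15_0 (iv0 F352851) (iv7 F352828) F352829
theorem F352855 : act 1 n136518 = n102184 := d15_0 F352854 F218568 (iv2 F219624)
theorem E101330 : n137155 = n102185 := ((c21_4 D135885 (iv1 F352854) (iv5 D102184) D102185 (iv1 D137155) (iv6 D64477) D64476 (iv1 F218737) F225340 (iv6 F324696) (iv1 D135883))).symm
theorem F352856 : act 0 n102185 = n64477 := (sb E101330 (iv1 D137155))
theorem F352857 : act 1 n102185 = n64485 := (sb E101330 F220334)
theorem E101331 : n137176 = n137154 := ((c15_2 F352857 F220337 (iv7 F220346) (iv2 F352812))).symm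
theorem F352858 : act 2 n137154 = n64482 := (sb E101331 (iv2 D137176))
theorem F352859 : act 7 n137154 = n64483 := (sb E101331 (iv7 F220346))
theorem F352860 : act 1 n102179 = n136518 := d15_0 F352855 F352827 (iv2 F352826)
theorem F352861 : act 5 n102173 = n133649 := d17_1 (iv1 F329289) (iv1 F215059) F210043 F165094 D136518 F352855 (iv5 D102184) (iv0 F329265) (iv4 F82446)
theorem F352862 : act 0 n102041 = n136519 := d21_4 F319206 (iv1 F319200) (iv5 D102040) D102041 (iv6 D136519) D136518 (iv1 F352860) (iv5 D102179) (iv6 F344548) (iv1 D101864)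
theorem F352863 : act 5 n136519 = n102288 := d21_0 (iv1 F274883) F274880 (iv6 D99738) (iv1 F73575) D47337 F319206 (iv1 F319200) (iv5 D102040) D102041 F352862
theorem F352864 : act 1 n102041 = n136527 := d15_1 (iv0 F352862) (iv7 D136527) (iv2 F219625)
theorem F352865 : act 2 n102288 = n136526 := d2_1 F352863 (iv5 D136526) (iv2 F219625)
theorem F352866 : act 4 n103054 = n136519 := d17_4 F346620 (iv5 D96210) F75051 D103054 F352863 (iv0 D102288) (iv5 D47469) D47468 D102285
theorem F352867 : act 2 n107112 = n103054 := d1_3 F352866 F219625 (iv4 F165087)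
theorem F352868 : act 6 n107117 = n103054 := d10_0 F352866 (iv6 D136519) (iv4 F165094)
theorem F352869 : act 7 n136519 = n103354 := d11_2 (iv7 F158307) F352866 (iv4 D103354)
theorem F352870 : act 2 n103354 = n136527 := d4_1 F352869 (iv7 D136527) (iv2 F219625)
theorem F352871 : act 1 n136525 = n103354 := d15_1 D136525 (iv7 F352869) F219625
theorem E101332 : n159415 = n136525 := ((c20_2 D103354 (iv1 F352871) F251042 (iv3 D151262) (iv1 F107782) (iv3 F321142) D48053 D103789 F159220 F159221 (iv1 D103353))).symm
theorem F352872 : act 3 n136525 = n76258 := (sb E101332 (iv3 D159415))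
theorem F352873 : act 4 n136525 = n151262 := (sb E101332 F251042)
theorem F352874 : act 6 n136525 = n99760 := (sb E101332 F344585)
theorem F352875 : act 2 n102041 = n136525 := d3_3 F352874 F344579 D102041
theorem F352876 : act 4 n136527 = n103350 := d1_2 D103354 F352870 F158627
theorem F352877 : act 1 n103354 = n136524 := d15_0 (iv0 D136524) D136527 (iv2 F352870)
theorem F352878 : act 7 n136524 = n102041 := d15_2 F352871 F352877 F352875
theorem F352879 : act 3 n103350 = n107114 := d5_1 F352876 F165093 F78226 (iv4 F99921) (iv3 F219628)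
theorem F352880 : act 7 n103350 = n107112 := d11_2 D136527 F352876 F165087
theorem F352881 : act 5 n107112 = n95450 := d13_1 F352880 F147091 D103350
theorem F352882 : act 1 n103353 = n107112 := d15_1 D103353 (iv7 F352880) F158627
theorem F352883 : act 1 n107112 = n103352 := d15_1 F352882 (iv7 F340544) (iv2 F340543)
theorem F352884 : act 6 n103907 = n181885 := d21_3 D45368 D97053 (iv5 F159339) (iv1 F283182) F293404 (iv5 F352881) (iv1 F352882) F159223 (iv6 D97003) F71457
theorem F352885 : act 5 n91096 = n131140 := d12_3 (iv6 F165088) F352881 (iv6 F293404) (iv6 D131140) F96053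
theorem E101333 : n102166 = n95451 := ((c17_8 (iv1 D99814) (iv5 F151050) F346670 (iv5 D136526) (iv4 F165087) F352881 (iv0 D95450) D95451 F340522 (iv4 F346669))).symm
theorem F352886 : act 1 n95451 = n87948 := (sb E101333 F340522)
theorem E101334 : n102407 = n96210 := ((((iv2 F147964)).symm.trans (sb E101333 (iv2 F157333)))).symm
theorem F352887 : act 4 n95451 = n99819 := (sb E101333 F157062)
theorem F352888 : act 6 n95451 = n47434 := (sb E101333 (iv6 D102166))
theorem F352889 : act 4 n96210 = n47517 := (sb E101334 F157334)
theorem F352890 : act 6 n96210 = n47516 := (sb E101334 (iv6 D102407))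
theorem E101335 : n137486 = n107115 := ((c21_5 (iv5 D95451) D95450 (iv5 F352881) F165088 D107115 (iv6 D137486) (iv5 F340520) F340521 (iv5 F331273) F331274 (iv1 F352886))).symm
theorem F352891 : act 6 n107115 = n64625 := (sb E101335 (iv6 D137486))
theorem F352892 : act 5 n107115 = n130623 := d21_0 (iv1 F329292) (iv5 D102174) (iv6 D47437) D47434 (iv6 F352888) (iv5 D95451) D95450 (iv5 F352881) F165088 D107115
theorem F352893 : act 0 n114292 = n186255 := d17_2 F340024 (iv5 F178154) (iv5 D186255) (iv4 F352837) F215060 F175774 F352892 (iv0 D130623) (iv4 F209195)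
theorem F352894 : act 6 n112902 = n137089 := d21_3 (iv5 F215060) (iv1 F215064) F352832 (iv1 D137089) (iv6 D64442) D64441 D137084 F340520 (iv6 F352891) (iv1 F175774)
theorem E101336 : n102406 = n95595 := (c7_2 F352890 D102406 F147269 (iv3 F147965))
theorem F352895 : act 3 n95595 = n47516 := (sb E101336 (iv3 D102406))
theorem F352896 : act 7 n95595 = n102167 := (sb E101336 F157332)
theorem F352897 : act 5 n112863 = n133416 := d21_0 (iv1 D133416) F97669 (iv6 F329361) (iv1 F74717) (iv6 F352890) (iv5 D96210) F75051 D103054 (iv6 F352868) (iv1 F175775)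
theorem F352898 : act 0 n96210 = n184415 := d21_10 F286340 (iv1 F340534) (iv5 F340546) F340547 (iv1 F344543) (iv6 D99758) (iv5 F74606) (iv1 F136486) F136484 (iv6 F352890)
theorem E101337 : n184089 = n183921 := (c17_7 F143301 D96210 F352898 F286340 (iv4 F159353) F293841 D184089 (iv5 D183921) F177362 F154425)
theorem F352899 : act 0 n183921 = n87809 := (sb E101337 (iv1 D184089))
theorem E101338 : n184415 = n102280 := ((c15_4 (iv0 F352898) (iv0 F346620) F346625 F346655)).symm
theorem F352900 : act 1 n102280 = n96210 := (sb E101338 (iv0 F352898))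
theorem F352901 : act 3 n102280 = n87954 := (sb E101338 F286339)
theorem F352902 : act 5 n102280 = n87949 := (sb E101338 F286340)
theorem F352903 : act 7 n102280 = n87948 := (sb E101338 (iv7 D184415))
theorem F352904 : act 1 n144273 = n95451 := d15_0 F352886 (iv7 F352903) (iv2 F346655)
theorem F352905 : act 6 n103875 = n102030 := d21_3 (iv5 F340530) (iv1 F286329) (iv5 F295210) (iv1 D102030) (iv6 D47390) (iv5 F64403) (iv1 F72585) (iv5 F74630) (iv6 F352888) (iv1 F352904)
theorem F352906 : act 3 n102030 = n103877 := d7_1 F352905 (iv6 D103877) D103875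
theorem F352907 : act 0 n109721 = n137091 := d21_4 (iv5 F344546) (iv1 D50603) D50605 D109721 (iv6 F226961) (iv5 F340530) (iv1 F286329) (iv5 F295210) F352905 (iv1 D102030)
theorem E101339 : n112246 = n102172 := ((c21_9 F321245 (iv1 F81561) (iv5 F344540) (iv6 F352905) F159303 (iv6 F352868) (iv5 F210043) (iv1 F215063) F352852 (iv6 D112246) (iv1 F321243))).symm
theorem F352908 : act 3 n102172 = n51776 := (sb E101339 F174591)
theorem E101340 : n133650 = n84285 := (((iv5 F352852)).symm.trans (sb E101339 F326179))
theorem F352909 : act 6 n102172 = n51773 := (sb E101339 (iv6 D112246))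
theorem E101341 : n176796 = n62732 := ((D176796).symm.trans (sb E101340 (iv1 D133650)))
theorem E101342 : n176797 = n131139 := ((D176797).symm.trans (sb E101340 F215063))
theorem F352910 : act 5 n84285 = n102172 := (sb E101340 F352852)
theorem F352911 : act 1 n62732 = n84285 := (sb E101341 (iv0 D176796))
theorem F352912 : act 0 n131139 = n84285 := (sb E101342 (iv1 D176797))
theorem F352913 : act 7 n133649 = n94353 := d15_2 (iv0 F352912) F215059 F293607
theorem F352914 : act 2 n176799 = n133649 := d4_3 F352913 F293607 D176799
theorem F352915 : act 4 n94356 = n133649 := d11_3 F352913 F145481 D94356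
theorem F352916 : act 6 n158072 = n133649 := d14_5 F352913 (iv6 D94353) (iv7 F292779) D75293 D158072
theorem F352917 : act 2 n102914 = n94356 := d1_3 F352915 (iv2 F352914) F276181
theorem F352918 : act 6 n94345 = n102914 := d3_0 F352917 (iv6 F293803) F293800
theorem F352919 : act 1 n94356 = n102911 := d15_0 (iv0 D102911) D102914 F352917
theorem F352920 : act 1 n102914 = n94354 := d15_0 (iv0 D94354) D94356 (iv2 F352917)
theorem F352921 : act 0 n112865 = n102478 := d21_4 (iv5 F352910) (iv1 F352911) F97860 D112865 (iv6 D102478) (iv5 F137062) (iv1 F137064) F64398 D47437 D102172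
theorem F352922 : act 6 n128525 = n102032 := d21_5 (iv5 F95778) D130623 (iv5 F352892) F352891 (iv1 F206722) F344536 (iv1 D51771) D51773 (iv6 F352909) F329288
theorem F352923 : act 6 n137088 = n109716 := d21_5 (iv5 F221261) (iv1 D137085) (iv5 D64441) D64442 D137088 (iv5 D109716) (iv1 F81765) (iv5 F344536) (iv6 F352922) (iv1 F206723)
theorem F352924 : act 2 n109721 = n137088 := d3_3 F352923 F169706 D109721
theorem F352925 : act 5 n174277 = n137088 := d12_5 F352923 (iv5 D109716) (iv6 F325260) (iv5 F128373) D174277
theorem F352926 : act 7 n137089 = n109721 := d15_2 (iv0 D137088) D137089 F352924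
theorem F352927 : act 3 n109733 = n137089 := d8_3 F352926 F169710 D109733
theorem F352928 : act 7 n102172 = n112902 := d14_4 F352926 (iv6 D109721) (iv7 F81769) (iv6 F352909) F352894
theorem F352929 : act 3 n112902 = n112256 := d8_1 F352928 (iv7 D112256) (iv3 F352908)
theorem E101343 : n176799 = n131138 := ((c13_2 F352928 (iv5 F352832) (iv7 D176799) F352910)).symm
theorem F352930 : act 2 n131138 = n133649 := (sb E101343 F352914)
theorem F352931 : act 4 n131138 = n102914 := (sb E101343 F276181)
theorem F352932 : act 7 n131138 = n84285 := (sb E101343 (iv7 D176799))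
theorem F352933 : act 2 n112902 = n102173 := d15_3 F329289 (iv0 F329288) F352928
theorem F352934 : act 2 n102172 = n112901 := d15_3 (iv0 D112901) D112902 (iv7 F352928)
theorem F352935 : act 5 n112901 = n94353 := d2_2 F352910 F352934 F293607
theorem F352936 : act 6 n112901 = n112243 := d3_2 (iv6 F352909) F352934 F174584
theorem F352937 : act 7 n112901 = n102173 := d4_2 (iv7 F352928) F352934 (iv2 F352933)
theorem E101344 : n131137 = n94353 := (c21_8 F169709 (iv1 D51656) D51658 (iv6 F340547) (iv1 F352883) F165088 (iv5 F96053) D131137 (iv5 F352935) F352936 F174586)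
theorem F352938 : act 0 n94353 = n133651 := (sb E101344 (iv1 F215062))
theorem F352939 : act 1 n94353 = n61522 := (sb E101344 (iv0 D131137))
theorem F352940 : act 6 n112863 = n102622 := d21_3 F329300 (iv1 F214532) (iv5 F352897) F333097 (iv6 F328448) F171079 (iv1 F81764) D112243 (iv6 F352936) (iv1 F329297)
theorem F352941 : act 2 n107115 = n112863 := d3_3 F352940 F333099 (iv6 F352891)
theorem E101345 : n136572 = n102624 := ((c10_3 F352940 (iv4 D102622) D102624 F219662)).symm
theorem E101346 : n64754 = n64203 := ((F333102).symm.trans (sb E101345 (iv3 D136572)))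
theorem F352942 : act 4 n102624 = n112863 := (sb E101345 F219662)
theorem E101349 : n136571 = n136098 := ((D136571).symm.trans (sb E101346 (iv2 F219050)))
theorem F352943 : act 3 n64203 = n102624 := (sb E101346 (iv3 F333102))
theorem E101350 : n137770 = n136573 := (((D136573).symm.trans (sb E101346 (iv4 F221019)))).symm
theorem E101352 : n136575 = n30459 := ((D136575).symm.trans (sb E101346 (iv6 D64754)))
theorem F352944 : act 2 n136098 = n64203 := (sb E101349 (iv2 D136571))
theorem F352945 : act 7 n136098 = n64204 := (sb E101349 (iv7 F219661))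
theorem F352946 : act 5 n136573 = n112252 := (sb E101350 F347218)
theorem F352947 : act 6 n136573 = n64752 := (sb E101350 (iv6 D137770))
theorem F352948 : act 6 n30459 = n64203 := (sb E101352 (iv6 D136575))
theorem E101354 : n137790 = n136580 := ((c14_2 F352945 D136580 (iv7 D137790) (iv6 D64759) (iv7 F219034) D136098)).symm
theorem F352949 : act 7 n136580 = n64759 := (sb E101354 (iv7 D137790))
theorem F352950 : act 2 n133416 = n130623 := d2_3 (iv5 F352892) F352941 F352897
theorem F352951 : act 7 n112862 = n107115 := d15_2 F175775 F175772 F352941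
theorem F352952 : act 7 n107116 = n112863 := d15_2 (iv0 D107115) D107116 (iv2 F352941)
theorem F352953 : act 2 n112862 = n107116 := d4_3 F352952 (iv2 F352941) (iv7 F352951)
theorem F352954 : act 4 n94266 = n133416 := d1_0 F352950 F349635 F164387
theorem F352955 : act 6 n94265 = n133416 := d3_0 F352950 (iv6 F349638) F164385
theorem F352956 : act 7 n130624 = n133416 := d15_2 (iv0 D130623) D130624 F352950
theorem F352957 : act 7 n133415 = n130623 := d15_2 F214532 F214527 (iv2 F352950)
theorem F352958 : act 2 n130624 = n133415 := d4_3 F352957 (iv2 F352950) (iv7 F352956)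
theorem F352959 : act 5 n112862 = n133415 := d13_3 F352957 (iv5 F352892) (iv7 F352951)
theorem F352960 : act 5 n130624 = n107116 := d2_2 F352959 (iv2 F352958) (iv2 F352953)
theorem E101355 : n136430 = n101139 := ((c17_2 (iv1 F218566) (iv5 F346672) (iv1 D136430) (iv5 D64140) (iv4 F82446) (iv5 F95778) D130624 F352960 F175776 (iv4 F218562))).symm
theorem F352961 : act 0 n101139 = n64140 := (sb E101355 (iv1 D136430))
theorem F352962 : act 3 n101139 = n181766 := (sb E101355 (iv3 F351904))
theorem F352963 : act 6 n181766 = n101136 := d7_2 D101139 F352962 F155841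
theorem F352964 : act 2 n139093 = n181766 := d3_3 F352963 (iv2 F351898) F351896
theorem F352965 : act 4 n101136 = n139093 := d10_1 F352963 (iv6 F351896) F351900
theorem E101356 : n143557 = n101135 := (c16_2 (iv4 F311608) (iv5 F342550) (iv4 D101135) D101136 F352965 (iv5 D139093) F101026 (iv5 F310089) (iv7 F234079) F236651)
theorem F352966 : act 1 n101135 = n131091 := (sb E101356 (iv0 F342551))
theorem F352967 : act 5 n101135 = n139189 := (sb E101356 F342550)
theorem F352968 : act 6 n101135 = n67227 := (sb E101356 (iv6 D143557))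
theorem F352969 : act 4 n139095 = n184548 := d9_9 D139093 (iv4 F352965) (iv5 D101136) D101135 F352967 F311608 F236650 (iv4 F312147) D139095 (iv5 D184548) D184547 F342623 (iv4 F310088) F310089 (iv4 F101026)
theorem F352970 : act 7 n139095 = n181766 := d16_8 (iv4 F352965) (iv5 D101136) D101135 F352967 F311608 F236650 (iv4 F312147) D139095 (iv2 F352964)
theorem F352971 : act 1 n184548 = n154245 := d18_6 (iv1 F219717) F309915 (iv1 F131401) (iv4 F312147) D139095 F352969 F342614 F219787 F100034
theorem F352972 : act 5 n154254 = n139143 := d19_17 (iv1 F101027) D139095 F352969 F286486 (iv1 F306665) F90871 F44459 F22058 (iv1 F9810) D8769 D18695 D39454 D85431 (iv5 F329664) F94775 (iv3 F109599) D154254 F222328 (iv3 D65310)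
theorem F352973 : act 6 n139143 = n186503 := d12_2 (iv6 F349067) F352972 (iv5 D186503) (iv6 D88829) D88828
theorem F352974 : act 5 n138604 = n123228 := d18_9 (iv1 D123228) F90553 D121367 (iv4 F349066) F352972 F222328 (iv0 F179686) F179684 D138604
theorem F352975 : act 7 n175401 = n138604 := d13_0 F352974 F332646 D175401
theorem F352976 : act 2 n175401 = n138603 := d15_3 (iv0 D138603) D138604 (iv7 F352975)
theorem F352977 : act 5 n138603 = n123227 := d2_2 D175401 F352976 F336371
theorem F352978 : act 5 n159595 = n113072 := d6_2 F352977 F336372 (iv3 F221776)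
theorem F352979 : act 0 n111171 = n114259 := d18_0 F178098 (iv1 F193482) D159595 F352978 (iv4 D113072) F176162 F176160 (iv0 D111167) D111171
theorem F352980 : act 6 n102352 = n111171 := d21_3 (iv5 F347705) (iv1 F157150) D102352 F352979 (iv6 D114259) (iv5 F90322) (iv1 F90326) D57607 F92117 (iv1 F139587)
theorem F352981 : act 1 n111171 = n138276 := d15_1 (iv0 F352979) (iv7 F329103) (iv2 F178097)
theorem F352982 : act 4 n111171 = n93960 := d20_2 F336380 (iv1 F352981) (iv3 F157312) (iv1 D69803) F51472 F28337 D32350 F177812 D76354 F193481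
theorem F352983 : act 3 n117637 = n111171 := d5_5 F352982 (iv3 F157312) (iv4 F314436) (iv3 F236541) F236544
theorem E101357 : n117634 = n102352 := ((c7_3 D117637 F352983 (iv6 F352980) (iv3 D117634))).symm
theorem F352984 : act 3 n102352 = n54189 := (sb E101357 (iv3 D117634))
theorem E101358 : n117636 = n102351 := (c6_3 D102352 F352984 D117636 (iv3 D102351))
theorem F352985 : act 5 n102351 = n54189 := (sb E101358 (iv5 D117636))
theorem F352986 : act 4 n115597 = n102351 := d16_6 D117640 (iv5 F233873) F233872 (iv5 D119533) (iv4 F336273) D115597 F352985 (iv7 F233834) F233833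
theorem F352987 : act 0 n155375 = n102351 := d21_1 D155375 F352985 D117637 (iv1 F250312) F250311 F314528 F306319 (iv5 F307580) (iv6 F318175) F206398
theorem F352988 : act 5 n111172 = n102353 := d12_3 F352980 (iv5 D111171) D111172 (iv6 D102353) D102352
theorem F352989 : act 0 n102352 = n92496 := d21_10 (iv5 F347706) (iv1 F292342) (iv5 F144688) (iv6 F352390) (iv1 D123866) F329885 (iv5 D51280) D51277 D111171 (iv6 F352980)
theorem E101359 : n186503 = n118698 := (c7_1 F352973 (iv3 D118698) F314656 D139143)
theorem F352990 : act 0 n118698 = n99328 := (sb E101359 F289388)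
theorem F352991 : act 1 n118698 = n93328 := (sb E101359 (iv0 F289389))
theorem F352992 : act 2 n118698 = n100234 := (sb E101359 F289387)
theorem F352993 : act 5 n118698 = n88829 := (sb E101359 (iv5 D186503))
theorem F352994 : act 6 n118698 = n139143 := (sb E101359 (iv6 F352973))
theorem F352995 : act 7 n118698 = n100235 := (sb E101359 (iv7 F289390))
theorem F352996 : act 4 n118698 = n139156 := d10_1 (iv6 F352994) (iv6 D139156) (iv4 F222328)
theorem F352997 : act 3 n100235 = n117320 := d8_1 F352995 F183693 D118698
theorem F352998 : act 4 n118870 = n100235 := d5_0 F352997 (iv4 D117320) F85314 D54711 D118870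
theorem F352999 : act 0 n136532 = n118870 := d20_7 (iv4 D71089) (iv1 D32919) D32920 (iv3 F317407) F329528 (iv3 F153964) F329701 F352998 F352997 F183694
theorem F353000 : act 7 n139156 = n118870 := d11_0 F352998 (iv7 F352995) F352996
theorem F353001 : act 3 n159423 = n184364 := d20_5 (iv4 D76258) (iv1 D34834) D34835 D76261 D159423 (iv4 D184364) (iv1 F154221) (iv4 F352998) (iv3 D118870) (iv1 F114301)
theorem F353002 : act 4 n103281 = n159423 := d5_0 F353001 (iv4 D184364) F134925 F293907 (iv3 F158508)
theorem F353003 : act 2 n159423 = n155829 := d1_1 F353002 (iv4 D155829) (iv2 F349918)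
theorem E101360 : n153752 = n48071 := (c18_3 F346524 (iv4 F109224) D153752 F75521 D103281 F353002 (iv0 D159423) F114304 D76266 (iv5 F346526))
theorem E101361 : n103841 = n72741 := ((D103841).symm.trans (sb E101360 (iv0 D153752)))
theorem F353004 : act 0 n72741 = n48071 := (sb E101361 (iv1 D103841))
theorem F353005 : act 7 n153753 = n103842 := d15_2 (iv0 F353004) D153753 (iv2 D103842)
theorem F353006 : act 2 n103844 = n153753 := d4_3 F353005 (iv2 D103842) D103844
theorem F353007 : act 5 n180791 = n153753 := d13_3 F353005 F351157 (iv7 F345216)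
theorem F353008 : act 3 n153753 = n107089 := d6_1 F353007 (iv5 F345410) (iv3 F281424)
theorem F353009 : act 6 n153753 = n124453 := d12_2 D180791 F353007 (iv5 D124453) F91802 D86348
theorem F353010 : act 6 n177283 = n103844 := d3_2 F353009 F351541 F353006
theorem F353011 : act 3 n103848 = n177283 := d7_3 F353010 F159251 D103848
theorem F353012 : act 1 n153753 = n103840 := d15_0 (iv0 D103840) D103844 F353006
theorem F353013 : act 1 n153783 = n180791 := d17_6 (iv1 F346525) F346526 (iv1 D76266) (iv5 F94468) (iv4 F205289) (iv5 F241639) F353007 F353012 F346521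
theorem F353014 : act 1 n103843 = n153783 := d15_0 F353013 F345216 F351132
theorem F353015 : act 5 n174562 = n107715 := d17_1 D174562 F352786 (iv5 D103281) (iv4 F75521) D103843 F353014 F241639 (iv0 F347868) F273426
theorem F353016 : act 3 n107717 = n174562 := d6_3 F353015 F166355 D107717
theorem F353017 : act 6 n162582 = n174562 := d12_0 F353015 (iv6 D107715) F323563 F344839 D162582
theorem F353018 : act 0 n103201 = n162606 := d21_4 F353015 F352786 (iv5 D103281) (iv6 F158447) (iv6 D162606) F300605 (iv1 F128530) (iv5 D83421) D83422 D174562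
theorem F353019 : act 0 n103275 = n174564 := d21_10 (iv5 D174564) D174562 F353015 (iv6 D107715) D107711 F346582 F161455 (iv1 F219856) (iv5 D136711) (iv6 F331265)
theorem F353020 : act 7 n174562 = n155783 := d8_2 (iv7 F325772) F353016 (iv3 D155783)
theorem F353021 : act 7 n155807 = n107715 := d13_2 F353020 (iv5 F347872) (iv5 F353015)
theorem F353022 : act 1 n103359 = n103281 := d15_0 (iv0 F352786) (iv7 F353021) F336639
theorem F353023 : act 7 n159424 = n155829 := d15_2 (iv0 D159423) D159424 (iv2 F353003)
theorem E101362 : n155832 = n148669 := (c11_3 F353023 (iv4 D155829) D155832 F251056)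
theorem F353024 : act 0 n148669 = n107715 := (sb E101362 (iv1 F352788))
theorem E101363 : n74129 = n69675 := ((((iv3 D148669)).symm.trans (sb E101362 F244827))).symm
theorem F353025 : act 7 n148669 = n74125 := (sb E101362 (iv7 D155832))
theorem E101364 : n155821 = n34008 := ((((iv1 F106019)).symm.trans (sb E101363 (iv1 F244817)))).symm
theorem E101366 : n148668 = n34007 := ((D148668).symm.trans (sb E101363 F110847))
theorem E101367 : n155838 = n148670 := (((D148670).symm.trans (sb E101363 (iv4 F244832)))).symm
theorem E101368 : n155843 = n148671 := (((D148671).symm.trans (sb E101363 (iv5 F244836)))).symm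
theorem E101369 : n155848 = n148672 := (((D148672).symm.trans (sb E101363 D155848))).symm
theorem E101370 : n148673 = n34006 := ((D148673).symm.trans (sb E101363 (iv7 D74129)))
theorem E101371 : n74124 = n69676 := ((((iv1 F106023)).symm.trans (sb E101364 (iv1 D155821)))).symm
theorem F353026 : act 2 n34007 = n69675 := (sb E101366 (iv2 D148668))
theorem F353027 : act 2 n148670 = n74131 := (sb E101367 F244831)
theorem F353028 : act 7 n148670 = n74126 := (sb E101367 (iv7 D155838))
theorem F353029 : act 2 n148671 = n74132 := (sb E101368 F244835)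
theorem F353030 : act 7 n148671 = n74127 := (sb E101368 (iv7 D155843))
theorem F353031 : act 2 n148672 = n74133 := (sb E101369 F244838)
theorem F353032 : act 5 n148672 = n78711 := (sb E101369 F350825)
theorem F353033 : act 7 n148672 = n178520 := (sb E101369 F350826)
theorem F353034 : act 7 n34006 = n69675 := (sb E101370 (iv7 D148673))
theorem F353035 : act 2 n69676 = n34006 := (sb E101371 (iv2 D74124))
theorem E101372 : n148674 = n43700 := ((D148674).symm.trans (sb E101371 (iv3 F329974)))
theorem E101373 : n148675 = n100262 := ((D148675).symm.trans (sb E101371 F329964))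
theorem E101374 : n148676 = n103050 := ((D148676).symm.trans (sb E101371 (iv5 F349912)))
theorem E101375 : n155825 = n84953 := ((((iv6 F347858)).symm.trans (sb E101371 D155825))).symm
theorem F353036 : act 7 n69676 = n34007 := (sb E101371 (iv7 F110846))
theorem F353037 : act 3 n43700 = n69676 := (sb E101372 (iv3 D148674))
theorem F353038 : act 4 n100262 = n69676 := (sb E101373 (iv4 D148675))
theorem F353039 : act 5 n103050 = n69676 := (sb E101374 (iv5 D148676))
theorem F353040 : act 6 n103050 = n119565 := (sb E101374 F347857)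
theorem E101376 : n119342 = n74128 := (((iv2 F278202)).symm.trans (sb E101375 F244823))
theorem E101377 : n155844 = n84956 := ((D155844).symm.trans (sb E101376 (iv1 F187939)))
theorem E101378 : n155845 = n54920 := ((D155845).symm.trans (sb E101376 (iv0 D119342)))
theorem F353041 : act 2 n74128 = n84953 := (sb E101376 F278202)
theorem E101379 : n175121 = n155837 := ((((iv4 F244830)).symm.trans (sb E101376 (iv4 F278206)))).symm
theorem E101380 : n157081 = n155846 := (((D155846).symm.trans (sb E101376 (iv5 F332086)))).symm
theorem E101381 : n155847 = n84954 := ((D155847).symm.trans (sb E101376 F278203))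
theorem F353042 : act 1 n84956 = n74128 := (sb E101377 (iv0 D155844))
theorem F353043 : act 0 n54920 = n74128 := (sb E101378 (iv1 D155845))
theorem F353044 : act 1 n155837 = n83645 := (sb E101379 (iv0 D175121))
theorem F353045 : act 2 n155837 = n178513 := (sb E101379 (iv2 F278205))
theorem F353046 : act 7 n155837 = n178518 := (sb E101379 F278207)
theorem F353047 : act 0 n155846 = n74686 := (sb E101380 (iv1 D157081))
theorem F353048 : act 1 n155846 = n135454 := (sb E101380 F247170)
theorem F353049 : act 7 n84954 = n74128 := (sb E101381 (iv7 D155847))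
theorem F353050 : act 7 n155831 = n178517 := d8_2 F353049 (iv3 F244826) (iv3 D178517)
theorem F353051 : act 7 n155846 = n178519 := d13_2 F353049 D155846 (iv5 D178519)
theorem F353052 : act 2 n178514 = n155846 := d4_3 F353051 F278196 (iv7 F278201)
theorem E101382 : n157080 = n119230 := ((c15_4 (iv0 D157080) (iv0 F353047) F353051 F278196)).symm
theorem F353053 : act 0 n119230 = n135454 := (sb E101382 (iv1 F247174))
theorem F353054 : act 1 n119230 = n74686 := (sb E101382 (iv0 D157080))
theorem E101383 : n178501 = n157082 := (c21_11 (iv5 D157082) (iv1 F353054) F187935 (iv6 F350831) F350827 (iv6 D126978) (iv5 F322574) F350884 D132445 F348505 (iv1 F278157))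
theorem F353055 : act 0 n157082 = n84946 := (sb E101383 (iv1 D178501))
theorem F353056 : act 1 n157082 = n84951 := (sb E101383 F278157)
theorem F353057 : act 7 n178500 = n178908 := d15_2 F353056 F278156 (iv2 F348493)
theorem F353058 : act 1 n154971 = n108872 := d18_6 (iv1 D39297) F29917 F130258 D33795 D73522 D154971 F352230 F353056 (iv5 D84951)
theorem F353059 : act 1 n108872 = n115744 := d15_1 F353058 (iv7 F341401) F341268
theorem E101384 : n121714 = n108871 := ((c17_9 D121711 F337695 (iv1 F243692) (iv5 F320192) (iv4 F277777) (iv5 F341262) F353058 (iv5 D108872) D108871 (iv4 D121714))).symm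
theorem F353060 : act 2 n108871 = n111458 := (sb E101384 F352218)
theorem F353061 : act 3 n108871 = n57545 := (sb E101384 F194264)
theorem F353062 : act 4 n108871 = n56245 := (sb E101384 (iv4 D121714))
theorem F353063 : act 7 n108871 = n79907 := (sb E101384 F194265)
theorem F353064 : act 1 n111458 = n166442 := d15_0 (iv0 D166442) (iv7 F353063) F353060
theorem E101385 : n166442 = n163961 := ((c21_4 D57946 D124301 F253460 D163961 (iv1 F353064) (iv6 D111458) D111457 (iv1 F230759) (iv5 D111568) F328000 (iv1 D57944))).symm
theorem F353065 : act 0 n163961 = n111458 := (sb E101385 (iv1 F353064))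
theorem F353066 : act 1 n163961 = n79907 := (sb E101385 (iv0 D166442))
theorem E101386 : n163961 = n108873 := (c20_5 F90704 F121132 D39253 (iv3 F122653) (iv1 F353066) F168870 F79650 (iv1 F39190) (iv4 F81093) (iv3 F172860) F325342)
theorem F353067 : act 0 n108873 = n111458 := (sb E101386 F353065)
theorem F353068 : act 1 n108873 = n79907 := (sb E101386 F353066)
theorem F353069 : act 6 n108873 = n78769 := (sb E101386 (iv6 D163961))
theorem E101387 : n166443 = n108865 := ((c15_4 F352219 (iv0 F353067) (iv7 D108873) (iv2 F168867))).symm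
theorem F353070 : act 0 n108865 = n79907 := (sb E101387 (iv1 D166443))
theorem F353071 : act 1 n108865 = n111458 := (sb E101387 F352219)
theorem F353072 : act 4 n108865 = n166334 := (sb E101387 (iv4 F262002))
theorem F353073 : act 6 n111272 = n108871 := d10_0 F353062 (iv6 F322482) F172594
theorem F353074 : act 3 n123480 = n111272 := d7_3 F353073 F353061 D123480
theorem F353075 : act 7 n124409 = n111463 := d14_4 (iv7 F173367) F353073 F353063 (iv6 F305790) (iv6 D111463)
theorem F353076 : act 3 n111463 = n123323 := d8_1 F353075 (iv7 F303752) D124409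
theorem F353077 : act 4 n111463 = n124477 := d11_1 F353075 F199106 (iv4 F305789)
theorem F353078 : act 2 n173980 = n111463 := d1_3 F353077 F330284 D173980
theorem E101388 : n173934 = n124477 := (c20_2 F272621 (iv1 F272570) (iv4 F353077) F353076 (iv1 F351531) F351538 (iv4 F276607) (iv1 D84544) D84545 D177460 F346371)
theorem F353079 : act 0 n124477 = n83171 := (sb E101388 (iv1 D173934))
theorem F353080 : act 1 n124477 = n83189 := (sb E101388 F272570)
theorem F353081 : act 5 n124477 = n131099 := (sb E101388 (iv5 F330272))
theorem F353082 : act 3 n160358 = n111121 := d20_3 (iv4 D141111) (iv1 F325819) (iv4 F303292) (iv1 F172330) F346369 F272621 (iv1 F353080) (iv4 F353077) F353076 (iv1 F351531)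
theorem F353083 : act 3 n107415 = n124455 := d6_3 (iv5 F303293) F353082 F172329
theorem F353084 : act 3 n116110 = n144314 := d7_3 F227029 F353083 F344459
theorem F353085 : act 5 n144314 = n116109 := d6_2 D116110 F353084 (iv3 D116109)
theorem F353086 : act 0 n116109 = n107203 := d17_2 D144314 F353085 (iv5 D107203) F103596 D51203 (iv0 F164168) F164167 (iv0 D67618) (iv4 F103628)
theorem F353087 : act 1 n116109 = n107205 := d17_6 (iv1 F77661) D49538 (iv1 F165503) (iv5 F165683) (iv4 F227028) F353085 (iv5 D107205) F163643 F163641
theorem E101389 : n160758 = n131099 := ((c17_8 F346375 F304918 (iv1 F217618) F330228 F128109 D83171 (iv0 F353079) F353081 (iv0 D160758) (iv4 F151518))).symm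
theorem F353088 : act 1 n131099 = n77127 := (sb E101389 (iv0 D160758))
theorem E101390 : n134647 = n131099 := ((c21_7 (iv5 D138130) F348618 F339512 D164030 (iv1 F348615) (iv6 F336511) F353081 (iv1 D134647) (iv5 F331722) (iv6 F341232) F341230)).symm
theorem F353089 : act 0 n131099 = n63268 := (sb E101390 (iv1 D134647))
theorem F353090 : act 0 n173935 = n177460 := d18_2 F353079 D173935 (iv4 F346372) F342133 F216588 F308708 F341212 (iv0 F353089) (iv5 F353081)
theorem F353091 : act 1 n134663 = n152207 := d17_8 F353089 (iv5 F331722) F319511 (iv5 D83184) D83183 (iv5 F320200) (iv0 F340239) F340241 (iv4 F330271)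
theorem F353092 : act 0 n120209 = n152207 := d18_0 (iv4 F330271) F353089 (iv4 F341212) F341213 (iv4 F125888) (iv0 F351602) F351604 (iv0 F335266) F335265
theorem F353093 : act 3 n154165 = n129335 := d20_5 (iv4 F330271) F353089 (iv4 F341212) F341211 D154165 (iv4 F335255) (iv1 F234186) F234205 D120209 F353092
theorem F353094 : act 3 n119112 = n152207 := d20_5 F312575 (iv1 F273243) (iv4 F332028) (iv3 F335243) F188487 (iv4 F330271) F353089 (iv4 F341212) F341211 D154165
theorem F353095 : act 5 n152207 = n119109 := d6_2 D119112 F353094 F187382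
theorem F353096 : act 0 n158142 = n98247 := d21_7 F335265 F353092 F353095 (iv6 D119109) (iv1 F86732) D75319 D158142 F151594 F301524 (iv1 F335269)
theorem F353097 : act 4 n134671 = n120209 := d20_0 F353092 (iv4 F330271) (iv3 D131099) F162887 (iv3 F96754) (iv4 F209898) (iv1 D118574) (iv4 F186486) F186485 D134671
theorem F353098 : act 3 n127878 = n134671 := d20_5 F47090 D29751 (iv4 F130943) D133107 F308405 F353097 F353092 (iv4 F330271) (iv3 D131099) F162887
theorem F353099 : act 3 n126908 = n133867 := d7_3 F311949 F353098 F348186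
theorem F353100 : act 5 n133867 = n126895 := d6_2 (iv5 F204154) F353099 F204147
theorem F353101 : act 1 n126895 = n174916 := d17_6 F188409 D32522 D70086 (iv5 F201146) (iv4 F311948) F353100 (iv5 D174916) (iv0 F308983) F94716
theorem F353102 : act 0 n126895 = n147748 := d21_1 F353100 (iv5 F339302) (iv6 F339304) F315330 (iv6 F315323) F333982 F336614 F321786 D127998 F314367
theorem E101391 : n142718 = n116769 := (c17_2 (iv1 F311472) (iv5 F346206) (iv1 F182294) F313302 D119686 F339302 (iv0 F353102) (iv5 F353100) (iv0 F314367) F311475)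
theorem F353103 : act 2 n116769 = n67335 := (sb E101391 F320146)
theorem F353104 : act 3 n116769 = n119720 := (sb E101391 F346205)
theorem F353105 : act 4 n116769 = n166279 := (sb E101391 F346208)
theorem F353106 : act 5 n116769 = n152595 := (sb E101391 F346206)
theorem F353107 : act 6 n116769 = n69518 := (sb E101391 F346207)
theorem F353108 : act 7 n116769 = n66905 := (sb E101391 (iv7 D142718))
theorem F353109 : act 7 n142714 = n166279 := d11_2 F353108 (iv4 F225624) (iv4 F353105)
theorem F353110 : act 3 n166279 = n159601 := d8_1 F353109 F251396 (iv3 F317995)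
theorem F353111 : act 6 n166279 = n148339 := d14_1 F353109 F317898 (iv6 F313105) F318235 D142714
theorem F353112 : act 2 n166279 = n143755 := d15_3 F315703 (iv0 F317993) F353109
theorem F353113 : act 2 n142714 = n166278 := d15_3 (iv0 D166278) D166279 (iv7 F353109)
theorem F353114 : act 6 n166278 = n116401 := d3_2 D142714 F353113 F181525
theorem F353115 : act 7 n166278 = n143755 := d4_2 (iv7 F353109) F353113 (iv2 F353112)
theorem F353116 : act 3 n164385 = n166278 := d8_3 F353115 F315704 D164385
theorem F353117 : act 2 n114236 = n164385 := d0_5 F353116 (iv2 F353113) F317995 F178231 (iv3 F178030)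
theorem F353118 : act 7 n114155 = n114236 := d4_0 F353117 (iv7 D164385) (iv2 F177890)
theorem F353119 : act 1 n114236 = n164383 := d15_0 (iv0 D164383) D164385 (iv2 F353117)
theorem F353120 : act 4 n114236 = n127124 := d16_0 (iv5 D127124) (iv4 D59671) F82339 (iv4 F163694) D107258 (iv4 F339929) F178302 D164385 (iv2 F353117)
theorem F353121 : act 4 n137505 = n164385 := d1_2 F353120 (iv2 F220693) (iv2 F353117)
theorem F353122 : act 6 n127124 = n114234 := d10_2 D114236 F353120 (iv4 D114234)
theorem F353123 : act 4 n137508 = n114155 := d11_3 F353118 F353120 (iv7 F220704)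
theorem F353124 : act 1 n164384 = n114236 := d17_8 (iv1 F352673) F137068 (iv1 F329591) D130587 (iv4 F350593) (iv5 F205601) (iv0 F350595) F350597 F353120
theorem F353125 : act 6 n114154 = n137508 := d10_0 F353123 (iv6 D114155) D114154
theorem F353126 : act 1 n127789 = n159456 := d17_6 (iv1 F350554) (iv5 F350552) (iv1 F206750) D137508 F353123 (iv5 F205553) (iv5 D159456) F177954 F350593
theorem E101392 : n164427 = n159457 := (c21_5 F177769 F177668 (iv5 D78969) D78970 D164427 (iv6 D159457) D159456 (iv1 F353126) F205553 (iv6 D114155) D114152)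
theorem F353127 : act 1 n159457 = n78970 := (sb E101392 (iv0 D164427))
theorem F353128 : act 7 n114234 = n96226 := d14_4 (iv7 F177889) F353125 F220704 F353122 F259053
theorem F353129 : act 3 n96226 = n95311 := d8_1 F353128 F248558 F205527
theorem F353130 : act 6 n95311 = n164412 := d7_2 (iv6 F259053) F353129 (iv3 D164412)
theorem F353131 : act 4 n164412 = n114303 := d10_1 F353130 (iv6 D114303) (iv4 F248557)
theorem F353132 : act 3 n97291 = n95938 := d20_5 F353131 (iv1 F288219) F259112 F150036 D97291 F317842 (iv1 F94375) D59940 D127670 F346185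
theorem F353133 : act 3 n97178 = n95817 := d6_3 (iv5 F150038) F353132 F149923
theorem F353134 : act 3 n97276 = n95923 := d7_3 (iv6 F150039) F353132 F150031
theorem F353135 : act 3 n97203 = n95849 := d8_3 F341048 F353134 F290439
theorem F353136 : act 2 n105727 = n149176 := d0_3 F353135 F317118 (iv3 F162368) F290462 F290442
theorem F353137 : act 7 n149175 = n105727 := d4_0 F353136 (iv7 F261596) F261595
theorem F353138 : act 3 n127635 = n149175 := d8_3 F353137 F162368 (iv7 F205195)
theorem F353139 : act 6 n127618 = n149175 := d14_5 F353137 (iv6 D105727) F76987 D59923 D127618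
theorem F353140 : act 1 n154886 = n105727 := d15_1 (iv0 F261597) (iv7 F353137) (iv2 F261595)
theorem F353141 : act 4 n152204 = n149058 := d20_8 (iv4 F162369) (iv1 F353140) (iv4 D154886) F110157 D73467 F313420 D143712 F346291 F234410 F312693
theorem F353142 : act 0 n152204 = n142415 := d20_7 F313160 D59982 (iv4 F313199) D79768 F155489 (iv3 F234410) (iv4 F353141) F225324 (iv3 F318075) (iv1 D55082)
theorem F353143 : act 0 n114234 = n96221 := d21_4 (iv5 D128536) (iv1 F163695) D127124 F353122 (iv6 D96221) (iv5 D44926) (iv1 F33695) D44519 D95302 F339728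
theorem F353144 : act 4 n132138 = n106523 := d18_7 (iv1 D114232) D114234 F353143 F147991 F120346 (iv4 F96582) D132138 F164531 (iv5 F290561)
theorem F353145 : act 1 n114234 = n96229 := d15_1 (iv0 F353143) (iv7 D96229) (iv2 F147989)
theorem F353146 : act 3 n149178 = n137505 := d5_5 F353121 F353116 (iv4 F346253) F346211 F346254
theorem F353147 : act 5 n137504 = n149178 := d6_0 F353146 (iv5 D137505) D137504
theorem F353148 : act 3 n154886 = n88878 := d20_9 F156965 F74775 D88861 (iv3 F352665) (iv1 F220696) (iv3 F353146) (iv4 F346254) (iv1 D154885) D154886 (iv1 F156967)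
theorem F353149 : act 5 n99808 = n154886 := d6_0 F353148 F136317 D99808
theorem F353150 : act 7 n89574 = n154886 := d8_0 F353148 F136316 D89574
theorem F353151 : act 2 n154886 = n143507 := d15_3 (iv0 F346267) (iv0 F337125) F353150
theorem F353152 : act 0 n103586 = n99808 := d17_2 (iv1 D103585) D103586 F353149 (iv4 D154886) (iv5 D73458) (iv0 F190369) D124699 (iv0 F241356) (iv4 F241359)
theorem F353153 : act 1 n149239 = n99808 := d17_6 (iv1 F312692) (iv5 D69914) (iv1 F51550) (iv5 F51577) (iv4 F106432) (iv5 F234625) F353149 F353140 F162369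
theorem F353154 : act 6 n154886 = n127616 := d21_3 D103586 F353152 F353149 (iv1 D127616) (iv6 D59923) D59922 D127613 (iv5 F224601) (iv6 F346222) (iv1 D103585)
theorem E101393 : n149235 = n139834 := (c21_6 (iv5 F353149) (iv1 F353153) F234625 (iv6 F158909) (iv1 F158911) D149235 F223040 F170058 (iv5 D105726) D105727 (iv1 F353140))
theorem F353155 : act 6 n139834 = n70044 := (sb E101393 (iv6 D149235))
theorem F353156 : act 6 n112273 = n109930 := d12_4 F353155 (iv5 F340926) D102496 F344567 (iv5 F223040)
theorem F353157 : act 5 n105727 = n102494 := d21_6 D139835 F223044 (iv5 D127608) (iv6 F346321) (iv1 D105725) D105727 (iv1 D102494) F340926 (iv6 F353155) (iv1 D139834)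
theorem F353158 : act 3 n102494 = n103731 := d6_1 F353157 F320990 (iv3 F162368)
theorem F353159 : act 1 n102494 = n149231 := d17_6 D32500 D70036 F310498 F79094 (iv4 F162369) F353157 (iv5 D149231) (iv0 D70043) (iv4 D32502)
theorem F353160 : act 7 n149231 = n102495 := d15_2 D102494 F353159 (iv2 D102495)
theorem F353161 : act 2 n99854 = n149231 := d4_3 F353160 (iv2 D102495) (iv7 F153746)
theorem F353162 : act 5 n102495 = n103585 := d13_1 F353160 F199524 D149231
theorem F353163 : act 5 n102453 = n149137 := d16_1 (iv4 F157406) (iv4 D149137) D149138 (iv4 F241370) F241371 F199515 D149231 F353160 (iv2 D102495)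
theorem F353164 : act 3 n149137 = n102454 := d6_1 F353163 (iv5 D102454) D102453
theorem F353165 : act 3 n149231 = n102614 := d0_2 D99854 F353161 (iv2 D102614) (iv3 D47593) (iv2 F73672)
theorem F353166 : act 5 n103584 = n99854 := d2_0 F353161 (iv5 D149231) (iv2 F199522)
theorem F353167 : act 1 n149231 = n102493 := d15_0 (iv0 D102493) (iv7 F153746) F353161
theorem F353168 : act 5 n102493 = n166129 := d17_7 (iv1 F242060) F242058 F242771 F241371 F199515 D149231 F353167 (iv0 F261597) (iv4 D154886)
theorem E101394 : n160608 = n103659 := (c19_12 D102493 F353168 (iv4 D166129) (iv3 D79768) (iv1 F57052) (iv5 D17559) (iv4 D8249) D8248 (iv1 F120814) D35178 D77013 D160608 (iv1 D103659) (iv5 D48009) F36255 F34945 (iv1 F35583) D10792 D22845 D47544)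
theorem F353169 : act 2 n103659 = n104624 := (sb E101394 F331243)
theorem F353170 : act 3 n103659 = n77013 := (sb E101394 (iv3 D160608))
theorem F353171 : act 6 n103659 = n77017 := (sb E101394 F253700)
theorem F353172 : act 7 n103659 = n104625 := (sb E101394 (iv7 F331241))
theorem F353173 : act 2 n104625 = n103658 := d15_3 (iv0 D103658) D103659 F353172
theorem F353174 : act 7 n104624 = n103658 := d4_2 (iv7 F353172) F353169 (iv2 F353173)
theorem F353175 : act 2 n160857 = n103678 := d0_3 F353170 (iv2 F115945) (iv3 F254019) F350457 (iv2 F353169)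
theorem F353176 : act 5 n97161 = n160857 := d2_0 F353175 (iv5 F350456) (iv2 F350451)
theorem F353177 : act 6 n103678 = n160855 := d3_2 D160857 F353175 (iv2 D160855)
theorem E101395 : n176700 = n97161 := (c6_4 F353176 F254019 (iv5 F298061) D176700)
theorem F353178 : act 3 n97161 = n84244 := (sb E101395 (iv3 D176700))
theorem F353179 : act 6 n160856 = n97160 := d12_4 D97161 F353176 (iv6 D160857) D160856 (iv5 D97160)
theorem F353180 : act 5 n166198 = n96004 := d13_3 F350463 F353176 (iv7 F261675)
theorem F353181 : act 1 n160857 = n103680 := d17_6 (iv1 D88525) D88527 (iv1 F233525) (iv5 F233526) (iv4 F149908) F353176 F159115 (iv0 F159057) F159055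
theorem F353182 : act 0 n160857 = n103671 := d21_7 (iv5 F56636) (iv1 D35952) F28369 D21669 D45409 D97161 F353176 (iv5 D103671) (iv6 D48015) (iv1 F36274)
theorem F353183 : act 0 n89859 = n97161 := d21_10 F353176 F353182 (iv5 D103671) (iv6 D48015) (iv1 F36274) D47801 (iv5 F295952) (iv1 F103337) (iv5 F299851) F350461
theorem F353184 : act 0 n89606 = n92433 := d17_0 (iv5 F204785) (iv1 F204788) F114428 (iv4 F75441) D103671 (iv0 F353182) (iv5 F353176) (iv0 F353183) F350464
theorem F353185 : act 1 n95999 = n97161 := d15_0 (iv0 F353183) F137924 (iv2 F147634)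
theorem F353186 : act 0 n89846 = n97160 := d21_1 (iv5 F137911) (iv5 D97160) D97161 (iv1 F353185) (iv6 D95999) (iv5 F306979) (iv1 F226697) (iv5 F350512) (iv6 F350515) (iv1 D104697)
theorem F353187 : act 3 n96004 = n166199 := d6_1 F353180 (iv5 D166199) D166198
theorem F353188 : act 4 n166198 = n181680 := d19_2 D96004 (iv5 F353180) (iv3 D181680) F297513 D124607 (iv4 F348862) (iv3 D185796) (iv1 F135556) F135553 (iv4 D88506) F291115 (iv1 F291098) F69374 F33098 (iv3 F34380) (iv1 F34382) (iv5 F291481) F68949 (iv3 F70377)
theorem E101396 : n166198 = n103677 := ((c20_8 (iv4 D58184) (iv1 D27724) D27725 D58188 D124615 (iv3 F352209) (iv4 D103679) D103677 F353188 (iv3 D181680) F297513)).symm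
theorem F353189 : act 3 n103677 = n79798 := (sb E101396 (iv3 D166198))
theorem F353190 : act 4 n103677 = n181680 := (sb E101396 F353188)
theorem F353191 : act 5 n103677 = n96004 := (sb E101396 F353180)
theorem F353192 : act 7 n103677 = n160857 := (sb E101396 F261675)
theorem F353193 : act 6 n109297 = n103677 := d14_5 F353192 (iv6 D160857) (iv7 F119650) (iv6 F326099) (iv7 F175601)
theorem F353194 : act 6 n181680 = n145453 := d10_2 F353193 F353190 F228488
theorem F353195 : act 5 n109297 = n136301 := d21_6 (iv5 F338517) (iv1 D97210) D97211 F149964 D103677 (iv6 F353193) (iv1 D136301) (iv5 D64079) (iv6 F53385) D74181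
theorem F353196 : act 3 n136301 = n102039 := d6_1 F353195 F344518 F175600
theorem F353197 : act 0 n96239 = n181680 := d20_7 (iv4 D81825) F117723 D82413 (iv3 F324883) (iv1 D44948) (iv3 F70628) D96239 (iv4 F353190) F353189 F298062
theorem F353198 : act 4 n94324 = n96004 := d20_8 (iv4 F328325) (iv1 F159836) (iv4 F147362) F147361 (iv1 F70263) D89926 F138098 D94324 F353187 F300492
theorem F353199 : act 7 n93855 = n94324 := d11_0 F353198 F350463 F149908
theorem F353200 : act 5 n90563 = n94324 := d17_3 (iv1 D42391) D42392 D90563 F353198 (iv5 F353191) (iv0 D103677) (iv5 D48018) D48017 F151058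
theorem E101397 : n102925 = n94321 := (c21_7 (iv5 F353200) (iv1 F233532) F233528 (iv6 F143146) (iv1 F143147) F294515 D102925 (iv1 D94321) (iv5 D44090) D44091 D94324)
theorem F353201 : act 5 n94321 = n47730 := (sb E101397 (iv5 D102925))
theorem F353202 : act 3 n93903 = n94321 := d6_3 F353201 (iv3 F293717) (iv5 F251609)
theorem F353203 : act 3 n97160 = n160858 := d7_1 F353179 (iv6 D160858) (iv3 F254018)
theorem F353204 : act 5 n160858 = n97159 := d6_2 D97160 F353203 (iv3 D97159)
theorem F353205 : act 5 n182924 = n160620 := d2_2 F353204 (iv2 F284517) (iv2 F254020)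
theorem E101398 : n176701 = n97159 := ((c12_2 D160858 F353204 (iv6 D176701) F298061 (iv6 D77194) D77193)).symm
theorem F353206 : act 6 n97159 = n84244 := (sb E101398 (iv6 D176701))
theorem F353207 : act 6 n160609 = n182924 := d3_2 F353206 F298060 F284517
theorem F353208 : act 6 n176123 = n98849 := d10_2 F353206 (iv4 F275378) F152400
theorem F353209 : act 0 n89085 = n97159 := d21_4 (iv5 F305476) (iv1 F306524) (iv5 D89084) D89085 F353206 F298061 (iv1 F298055) F331180 (iv6 D46983) (iv1 F74189)
theorem F353210 : act 1 n89085 = n97119 := d15_1 (iv0 F353209) (iv7 F284518) F284517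
theorem F353211 : act 0 n98382 = n181945 := d20_4 F64431 F335597 (iv4 F72613) (iv3 F151811) F283243 (iv4 F152403) (iv1 F353210) F136800 (iv3 F72422) (iv1 F335735)
theorem F353212 : act 1 n98382 = n181942 := d15_1 (iv0 F353211) (iv7 F288496) F288495
theorem F353213 : act 2 n182926 = n176123 := d3_3 F353208 F284515 D182926
theorem F353214 : act 4 n160609 = n182926 := d1_0 F353213 F275378 F298060
theorem F353215 : act 5 n166196 = n182926 := d2_0 F353213 (iv5 D176123) (iv2 F302332)
theorem F353216 : act 7 n176153 = n182926 := d15_2 F275379 (iv0 F275399) F353213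
theorem F353217 : act 0 n182926 = n166232 := d17_2 F328696 F353215 (iv5 D166232) (iv4 D79814) (iv5 D36358) F298713 D38818 D84189 (iv4 F328699)
theorem F353218 : act 1 n182926 = n166261 := d17_6 F113516 (iv5 D37791) (iv1 F297331) D79797 D166196 F353215 F331230 (iv0 F325112) F325114
theorem F353219 : act 0 n185422 = n182925 := d21_7 (iv5 D166232) (iv1 F325113) F331216 (iv6 F350442) (iv1 D96463) (iv6 F293589) D185422 (iv5 D182925) D182926 F353217
theorem F353220 : act 0 n96524 = n182924 := d21_4 (iv5 F147484) F147486 F106463 D96524 (iv6 F353207) (iv5 D160609) (iv1 F325349) (iv5 F331179) (iv6 D99459) F75432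
theorem F353221 : act 0 n96974 = n96525 := d20_7 (iv4 D182924) (iv1 F152410) F152408 F137978 (iv1 F114624) D95578 (iv4 F149573) F148683 (iv3 F148680) F353220
theorem F353222 : act 0 n172212 = n97115 := d20_7 (iv4 F67736) (iv1 F142164) F142166 D96974 F353221 (iv3 F149499) (iv4 F270416) (iv4 D97115) F138029 (iv1 D89898)
theorem F353223 : act 1 n172212 = n97120 := d15_1 (iv0 F353222) (iv7 F288481) F288479
theorem F353224 : act 0 n96525 = n159813 := d20_4 D97120 (iv1 F353223) F270416 F149499 (iv3 D159813) (iv4 F114625) (iv1 F83217) (iv4 F147479) (iv3 F149818) (iv1 F149821)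
theorem F353225 : act 3 n88867 = n103584 := d6_3 F353166 (iv3 D99854) F136276
theorem F353226 : act 2 n149230 = n89443 := d0_3 F353225 F199522 D149230 (iv3 D89443) F136273
theorem F353227 : act 3 n89426 = n95596 := d20_9 (iv4 D84420) (iv1 D38925) (iv4 F36226) (iv3 F75350) D103584 (iv3 F353225) F136272 (iv1 F74747) (iv4 F137098) F346805
theorem F353228 : act 5 n95596 = n102167 := d6_2 (iv5 F137097) F353227 (iv3 D102167)
theorem F353229 : act 6 n100796 = n89426 := d7_0 F353227 F147271 (iv3 F154893)
theorem F353230 : act 4 n102518 = n100796 := d10_3 F353229 F137098 D102518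
theorem F353231 : act 3 n117268 = n102518 := d5_5 F353230 F154893 F317104 F242957 D117268
theorem F353232 : act 7 n100792 = n102518 := d11_0 F353230 (iv7 D100796) (iv4 F154890)
theorem F353233 : act 6 n102517 = n117268 := d7_0 F353231 (iv6 D102518) D102517
theorem F353234 : act 0 n117230 = n183385 := d21_10 (iv5 D183385) (iv1 F136302) (iv5 F157444) F353233 F243338 (iv6 D148792) D148791 F233617 (iv5 D117229) D117230
theorem F353235 : act 2 n102167 = n184219 := d2_1 F353228 F286130 (iv2 F147270)
theorem F353236 : act 0 n102167 = n184217 := d17_2 F346806 F353228 (iv5 F350623) (iv4 D127685) (iv5 F330075) (iv0 F330068) F159159 F75497 D84415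
theorem F353237 : act 1 n102167 = n184216 := d15_0 (iv0 D184216) D184219 (iv2 F353235)
theorem F353238 : act 5 n102614 = n149230 := d2_0 F353226 F137107 D102614
theorem F353239 : act 6 n127613 = n147670 := d3_2 F353156 F205181 F349827
theorem E101399 : n164091 = n139835 := ((c21_9 (iv5 F276252) (iv1 F276254) (iv5 D84324) D84325 (iv1 F334027) F353156 (iv5 F223040) (iv1 D139834) D139835 (iv6 D164091) (iv1 F141769))).symm
theorem F353240 : act 6 n139835 = n78832 := (sb E101399 (iv6 D164091))
theorem F353241 : act 6 n164090 = n110370 := d10_2 F353240 D164090 F223046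
theorem F353242 : act 6 n103582 = n109607 := d21_3 (iv5 D48443) F289627 D103582 (iv1 F223045) F353240 F254080 (iv1 F250195) (iv5 D84326) (iv6 F129302) (iv1 F343040)
theorem F353243 : act 5 n174209 = n158901 := d21_8 D75819 D158903 (iv5 F254080) (iv6 F353240) F223044 (iv6 F346325) F338788 D174209 (iv6 D158901) (iv1 D75817)
theorem F353244 : act 2 n176883 = n174209 := d2_3 F353243 F254242 D176883
theorem F353245 : act 6 n107584 = n174174 := d21_3 D110372 F224407 F224406 (iv1 D174174) (iv6 F328759) (iv5 F248720) F248713 (iv5 F258618) F353241 (iv1 D110370)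
theorem F353246 : act 3 n174174 = n160952 := d7_1 F353245 (iv6 F336551) (iv3 F351990)
theorem F353247 : act 6 n173411 = n127071 := d21_3 (iv5 D83256) (iv1 F321093) (iv5 F271878) (iv1 F349879) (iv6 D110373) D110372 F224407 F224406 F353245 (iv1 D174174)
theorem E101400 : n147673 = n124487 := (c21_11 F336030 F168126 D127071 (iv6 F353247) (iv1 F340648) (iv6 D112556) (iv5 F81995) (iv1 D32183) D32185 D69207 D147673)
theorem F353248 : act 1 n124487 = n69207 := (sb E101400 (iv0 D147673))
theorem F353249 : act 7 n147674 = n125982 := d15_2 F353248 D147674 F351043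
theorem F353250 : act 1 n176877 = n124487 := d15_0 F353248 D147676 F334020
theorem E101401 : n176881 = n163100 := ((c18_6 F168126 (iv4 D59625) (iv1 F78562) (iv4 F166045) (iv5 F338767) (iv4 F351055) (iv0 D176881) (iv4 F276251) F353250 F336030)).symm
theorem F353251 : act 1 n163100 = n84321 := (sb E101401 (iv0 D176881))
theorem F353252 : act 1 n147672 = n163100 := d15_0 F353251 D176884 (iv2 F349860)
theorem F353253 : act 7 n163100 = n163095 := d15_2 (iv0 F336340) F353252 F257416
theorem E101402 : n162983 = n160901 := (c20_2 D147711 F336332 F254099 F201713 F341250 F338770 (iv4 F351055) (iv1 F353252) F231437 F105500 D69217)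
theorem F353254 : act 0 n160901 = n78376 := (sb E101402 (iv1 D162983))
theorem F353255 : act 1 n160901 = n147711 := (sb E101402 (iv0 F336332))
theorem F353256 : act 7 n162982 = n166706 := d15_2 F353255 F336333 F262402
theorem F353257 : act 6 n95340 = n162982 := d14_5 F353256 (iv6 D166706) F254348 (iv6 F336507) (iv7 F318902)
theorem F353258 : act 2 n162982 = n177582 := d3_1 F353257 F336521 (iv2 F318900)
theorem F353259 : act 7 n177582 = n160901 := d4_2 (iv7 F353256) F353258 (iv2 F262402)
theorem E101403 : n177581 = n166706 := (c15_2 F277034 F277032 (iv7 F353256) F353258)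
theorem F353260 : act 0 n166706 = n162984 := (sb E101403 (iv1 F277032))
theorem F353261 : act 1 n166706 = n84588 := (sb E101403 (iv0 D177581))
theorem E101404 : n163749 = n163145 := ((F262403).symm.trans (sb E101403 (iv4 F277033)))
theorem F353262 : act 2 n163145 = n125426 := (sb E101404 F258106)
theorem F353263 : act 4 n163145 = n166706 := (sb E101404 (iv4 F262403))
theorem F353264 : act 6 n163145 = n78670 := (sb E101404 (iv6 D163749))
theorem E101405 : n163146 = n147175 := (c15_2 (iv0 D163145) D163146 F339262 (iv2 F353262))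
theorem F353265 : act 0 n147175 = n78429 := (sb E101405 (iv1 D163146))
theorem F353266 : act 2 n121075 = n163100 := d4_3 F353253 F257416 (iv7 F193101)
theorem F353267 : act 3 n163095 = n124479 := d8_1 F353253 F199112 (iv3 F257420)
theorem F353268 : act 5 n163095 = n121075 := d13_1 F353253 F193101 D163100
theorem F353269 : act 1 n121075 = n158901 := d15_0 (iv0 F336522) (iv7 F353253) (iv2 F353266)
theorem F353270 : act 7 n158901 = n147672 := d15_2 F336525 F353269 F349860
theorem F353271 : act 1 n147676 = n125982 := d18_8 F171830 (iv4 D107755) (iv1 D49774) (iv4 F78631) (iv5 F316305) D121075 F353269 (iv4 F334021) F351045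
theorem E101406 : n176882 = n78417 := (c15_1 D176882 (iv0 F336340) (iv7 F353270) F254242)
theorem E101407 : n163098 = n84321 := ((D163098).symm.trans (sb E101406 (iv1 D176882)))
theorem F353272 : act 1 n84321 = n78417 := (sb E101407 (iv0 D163098))
theorem F353273 : act 0 n176877 = n147674 := d17_0 (iv5 F346277) (iv1 F166986) D127077 F349870 (iv5 D176883) F353272 D163100 F353251 (iv4 F276251)
theorem F353274 : act 3 n176877 = n177606 := d20_3 D78417 (iv1 F353272) (iv4 F276251) (iv1 D177606) (iv3 D84595) D84596 D177612 F277078 (iv3 D163091) (iv1 D78415)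
theorem F353275 : act 4 n147674 = n109740 := d20_2 (iv4 F276251) F353273 (iv3 D109740) (iv1 D50611) (iv3 F79982) F79983 (iv1 F325598) D38363 (iv3 F119616) (iv1 F353272)
theorem F353276 : act 6 n176883 = n164099 := d21_3 (iv5 D163100) (iv1 F353272) D176883 (iv1 D164099) (iv6 D78836) D78835 (iv1 F254241) (iv5 D84320) D84321 (iv1 F353251)
theorem F353277 : act 5 n164099 = n176880 := d12_1 F353276 (iv6 D176880) (iv5 D84320) D84321 D176883
theorem F353278 : act 3 n125959 = n147674 := d5_5 F353275 (iv3 D109740) D109741 (iv3 F169725) D125959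
theorem F353279 : act 7 n109740 = n180643 := d11_2 (iv7 F353249) F353275 (iv4 F351044)
theorem F353280 : act 1 n109740 = n159325 := d18_6 F100715 (iv4 D64932) (iv1 F163995) (iv4 F166296) F346277 F353275 F250823 (iv0 F336480) F320714
theorem F353281 : act 0 n109751 = n176876 := d20_4 F38650 D24652 D50616 D109751 F276248 (iv4 F276251) F353273 F353275 (iv3 D109740) (iv1 D50611)
theorem F353282 : act 0 n125971 = n159323 := d20_4 F166905 D111291 (iv4 F172662) D125971 F250822 (iv4 F250823) (iv1 F353280) (iv4 F353275) (iv3 F353278) F202627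
theorem F353283 : act 1 n163124 = n159323 := d15_0 (iv0 F353282) F327212 D163124
theorem F353284 : act 1 n180645 = n109740 := d15_0 F353280 (iv7 F351037) (iv2 F338807)
theorem F353285 : act 3 n174192 = n136293 := d20_5 F281176 (iv1 F336481) D163095 F353267 (iv1 F272984) (iv4 F220359) F220360 (iv4 D109741) D109740 (iv1 F353284)
theorem F353286 : act 4 n111626 = n174192 := d5_0 F353285 (iv4 F220359) F220357 F173193 (iv3 F173172)
theorem E101408 : n174191 = n137265 := ((c6_3 D174192 F353285 (iv5 F220406) (iv3 D174191))).symm
theorem F353287 : act 3 n137265 = n83263 := (sb E101408 (iv3 D174191))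
theorem F353288 : act 0 n174139 = n111626 := d20_7 (iv4 D109701) (iv1 D50597) (iv4 F79972) (iv3 F169680) F337340 (iv3 F337354) (iv4 F272938) F353286 F353285 (iv1 F219355)
theorem E101409 : n173252 = n83279 := (c20_5 D109736 F220362 F220359 (iv3 F353285) F272983 (iv3 D83279) (iv4 D38359) F325599 (iv4 F79983) F79982 D50610)
theorem E101410 : n174219 = n174190 := ((D174219).symm.trans (sb E101409 (iv1 F272982)))
theorem E101411 : n174220 = n174192 := ((D174220).symm.trans (sb E101409 (iv0 F272983)))
theorem E101412 : n174221 = n83282 := ((D174221).symm.trans (sb E101409 F271595))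
theorem E101413 : n174222 = n82909 := ((D174222).symm.trans (sb E101409 (iv5 D173252)))
theorem E101414 : n173251 = n83280 := (((iv7 F271594)).symm.trans (sb E101409 F271596))
theorem F353289 : act 1 n174190 = n83279 := (sb E101410 (iv0 D174219))
theorem F353290 : act 0 n174192 = n83279 := (sb E101411 (iv1 D174220))
theorem F353291 : act 2 n83282 = n83279 := (sb E101412 (iv2 D174221))
theorem E101415 : n174648 = n174227 := (((D174227).symm.trans (sb E101412 (iv6 F273499)))).symm
theorem F353292 : act 5 n82909 = n83279 := (sb E101413 (iv5 D174222))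
theorem F353293 : act 3 n83280 = n82909 := (sb E101414 (iv3 D173251))
theorem F353294 : act 7 n83280 = n83279 := (sb E101414 F271594)
theorem F353295 : act 2 n174227 = n83454 := (sb E101415 (iv2 D174648))
theorem F353296 : act 3 n104670 = n174227 := d0_0 F353295 (iv3 D83454) (iv2 F118570) (iv3 F352052) F352058
theorem F353297 : act 7 n123325 = n174148 := d11_2 F353294 (iv4 F197638) F272943
theorem E101416 : n174225 = n157852 := ((c14_5 F353294 (iv6 F128555) (iv7 F298770) F268326 (iv7 F248764) (iv6 D174225))).symm
theorem F353298 : act 5 n157852 = n174650 := (sb E101416 (iv5 F273501))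
theorem F353299 : act 6 n157852 = n83280 := (sb E101416 (iv6 D174225))
theorem E101417 : n174148 = n122392 := (c10_2 F353299 (iv4 F272943) F195833 (iv4 F248763))
theorem F353300 : act 4 n122392 = n83280 := (sb E101417 F272943)
theorem F353301 : act 5 n122392 = n83248 := (sb E101417 (iv5 D174148))
theorem F353302 : act 7 n122392 = n123325 := (sb E101417 (iv7 F353297))
theorem F353303 : act 6 n108742 = n157857 := d12_4 (iv6 F195833) F353301 (iv6 F324771) D108742 (iv5 D157857)
theorem F353304 : act 6 n115732 = n108941 := d14_5 F168947 F353303 F248775 F341291 (iv7 F180060)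
theorem E101418 : n178320 = n115733 := (c12_4 F353304 F168946 F328592 D178320 (iv6 D115733) D115732)
theorem F353305 : act 5 n115733 = n84856 := (sb E101418 (iv5 D178320))
theorem F353306 : act 4 n114890 = n145353 := d16_2 (iv4 F334717) D114890 (iv5 D145353) (iv4 F180062) F353305 (iv4 D84856) D84857 F334699 F334696
theorem E101419 : n178325 = n114436 := ((c16_10 (iv4 D178325) (iv5 D84857) D84856 (iv5 F353305) F180062 D145353 (iv4 F353306) (iv5 D114890) F177818 (iv2 F190361))).symm
theorem F353307 : act 4 n114436 = n84857 := (sb E101419 (iv4 D178325))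
theorem F353308 : act 4 n178358 = n92886 := d17_4 (iv1 F334689) F334690 (iv1 F277735) F345525 (iv5 D92886) D92885 F143263 D114436 F353307
theorem F353309 : act 0 n176363 = n146572 := d20_10 F321088 (iv1 F334694) (iv4 F353307) F190362 (iv1 F343522) (iv3 F163337) F163338 F297681 (iv4 F346740) F346737
theorem F353310 : act 0 n118742 = n151335 := d20_1 (iv4 F186799) (iv4 D151335) (iv3 F340888) (iv1 F229737) D146572 F321088 (iv1 F334694) (iv4 F353307) F190362 (iv1 F343522)
theorem F353311 : act 0 n175630 = n135219 := d21_7 F316623 D61313 F316621 D176363 F353309 F321089 D175630 (iv5 F339586) F274973 (iv1 D83971)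
theorem F353312 : act 4 n135219 = n136930 := d18_1 F353311 (iv1 D136930) (iv4 F177018) F177019 (iv4 F346733) (iv0 F343357) F343359 F314192 D175630
theorem F353313 : act 3 n136930 = n108522 := d5_1 F353312 F167783 (iv3 F93604) (iv4 F98862) (iv3 F217407)
theorem F353314 : act 6 n136930 = n108520 := d10_2 D135219 F353312 F167776
theorem F353315 : act 3 n145356 = n114893 := d5_3 F353306 F228397 D145356 (iv4 D114893) (iv3 F178964)
theorem F353316 : act 3 n174650 = n157853 := d6_1 F353298 (iv5 D157853) D157852
theorem F353317 : act 7 n174650 = n170748 := d13_2 (iv7 F248764) F353298 (iv5 D170748)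
theorem F353318 : act 6 n157853 = n174649 := d7_2 D174650 F353316 F273500
theorem F353319 : act 4 n174649 = n170749 := d10_1 F353318 (iv6 D170749) (iv4 F248766)
theorem F353320 : act 0 n111626 = n174130 := d17_0 (iv5 D174130) (iv1 F128642) (iv5 F273812) F273811 (iv5 D158892) (iv0 F127728) F353292 (iv0 F353290) (iv4 F353286)
theorem F353321 : act 0 n166686 = n111898 := d21_7 D174192 F353290 (iv5 F353292) F298027 F112750 D80000 D166686 (iv5 D111898) (iv6 F325304) (iv1 F128336)
theorem F353322 : act 3 n127697 = n96227 := d20_9 (iv4 F107025) F178919 F338511 (iv3 F338520) F353321 (iv3 F205109) (iv4 F162365) (iv1 F184459) (iv4 F205297) (iv1 D96227)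
theorem F353323 : act 1 n166686 = n111909 := d15_1 (iv0 F353321) F173881 (iv2 F173850)
theorem F353324 : act 0 n123245 = n109887 := d17_0 (iv5 F344558) (iv1 D99834) (iv5 F74861) (iv4 F137110) F322926 F324001 D166686 F353323 (iv4 F321936)
theorem F353325 : act 6 n99458 = n111909 := d21_9 (iv5 D166686) (iv1 F324001) (iv5 F322926) (iv6 D89446) (iv1 D41766) (iv6 F64356) (iv5 F308367) F75416 D99458 (iv1 F353323)
theorem F353326 : act 3 n111909 = n100722 := d7_1 F353325 (iv6 D100722) (iv3 F153201)
theorem F353327 : act 5 n100722 = n111908 := d6_2 D111909 F353326 (iv3 D111908)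
theorem F353328 : act 0 n109049 = n100722 := d20_4 (iv4 F82006) (iv1 F82718) (iv4 F100461) (iv3 F169050) (iv3 F353326) (iv4 F321936) F353324 (iv4 D109887) F80036 D50680
theorem F353329 : act 6 n89378 = n109049 := d21_3 (iv5 F136276) (iv1 F153568) F153565 F353328 (iv6 D100722) (iv5 D46973) D46971 (iv5 F120171) (iv6 F307503) D88867
theorem F353330 : act 3 n137293 = n89378 := d7_3 F353329 F169050 D137293
theorem F353331 : act 4 n109049 = n89379 := d10_1 F353329 (iv6 D89379) D89378
theorem F353332 : act 0 n102513 = n102818 := d21_10 (iv5 D102818) (iv1 F324018) D111898 (iv6 F346320) F225649 (iv6 F353329) (iv5 F153565) F153567 (iv5 F74753) (iv6 F157441)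
theorem F353333 : act 4 n102818 = n102042 := d18_1 F353332 (iv1 F156991) F329748 F169506 (iv4 F81843) (iv0 F323053) (iv4 F324461) F174366 (iv5 F324380)
theorem F353334 : act 5 n176925 = n89575 := d21_8 (iv5 F153565) F153567 (iv5 F74753) (iv6 F157441) F353332 (iv6 F276278) (iv5 D176927) D176925 (iv6 D89575) (iv1 F137061)
theorem F353335 : act 1 n112150 = n102818 := d15_0 (iv0 F353332) F324381 (iv2 F174378)
theorem F353336 : act 3 n143117 = n102042 := d20_5 F103087 (iv1 F221154) (iv4 F222934) (iv3 F341551) (iv1 F341553) (iv4 F353333) (iv1 F353335) (iv4 F174381) (iv3 D67078) D67076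
theorem F353337 : act 3 n155495 = n102512 := d20_9 D102513 F353332 F353333 (iv3 F353336) (iv1 D143117) (iv3 F225939) F347288 F131038 (iv4 F244500) (iv1 D102512)
theorem F353338 : act 6 n102512 = n155493 := d7_2 D155495 F353337 (iv3 D155493)
theorem F353339 : act 0 n134425 = n143090 := d20_10 F347288 F131038 (iv4 F244500) F353337 (iv1 D102512) (iv3 F157408) F343200 (iv1 D63144) (iv4 F98423) (iv3 F216400)
theorem F353340 : act 0 n117442 = n155495 := d20_4 (iv4 D31975) (iv1 F41573) (iv4 F85438) (iv3 F183944) F353337 F324384 F171278 F329750 F329603 F94293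
theorem F353341 : act 1 n117439 = n155495 := d15_0 (iv0 F353340) (iv7 D117442) D117439
theorem F353342 : act 7 n134425 = n123847 := d15_2 (iv0 F347295) (iv0 F353339) F331655
theorem F353343 : act 6 n102242 = n176925 := d12_0 F353334 (iv6 D89575) F64496 D47456 D102242
theorem F353344 : act 5 n102240 = n94362 := d21_8 (iv5 F292639) F56544 (iv5 F59914) D84334 D176925 (iv6 F353343) (iv5 D102242) D102240 (iv6 D94362) (iv1 D44102)
theorem F353345 : act 2 n176867 = n102240 := d2_3 F353344 F292435 D176867
theorem F353346 : act 6 n110206 = n102240 := d12_0 F353344 (iv6 D94362) (iv5 F292434) F325606 D110206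
theorem E101420 : n102240 = n102178 := (c10_1 F353346 (iv4 D102178) (iv6 F344548) (iv4 F344520))
theorem F353347 : act 1 n102178 = n47456 := (sb E101420 (iv0 D102240))
theorem F353348 : act 2 n102178 = n176867 := (sb E101420 (iv2 F353345))
theorem F353349 : act 5 n102178 = n94362 := (sb E101420 F353344)
theorem F353350 : act 6 n102178 = n110206 := (sb E101420 (iv6 F353346))
theorem F353351 : act 3 n94362 = n156875 := d6_1 F353349 F246891 (iv3 F329275)
theorem E101421 : n186257 = n186056 := ((c18_7 (iv1 D102173) F74637 D47438 D102178 F353349 F292436 D186056 F352838 F215059 (iv5 F352861))).symm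
theorem F353352 : act 2 n186056 = n88719 := (sb E101421 F289012)
theorem F353353 : act 4 n186056 = n131139 := (sb E101421 F352838)
theorem F353354 : act 7 n186056 = n88718 := (sb E101421 (iv7 D186257))
theorem E101422 : n186055 = n133641 := ((c15_4 (iv0 D186055) D186056 F353354 (iv2 F352835))).symm
theorem F353355 : act 0 n133641 = n88720 := (sb E101422 (iv1 F288670))
theorem F353356 : act 1 n133641 = n88621 := (sb E101422 (iv0 D186055))
theorem F353357 : act 5 n176868 = n102183 := d18_4 (iv1 F352911) (iv4 F215043) F353355 (iv4 F276238) (iv4 D102183) (iv0 F329265) (iv4 F82446) (iv0 F329288) (iv5 F352910)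
theorem F353358 : act 7 n102183 = n176867 := d13_2 D176868 F353357 (iv5 D176867)
theorem F353359 : act 6 n156875 = n94360 := d7_2 D94362 F353351 (iv3 D94360)
theorem F353360 : act 3 n136366 = n111745 := d20_3 (iv4 D133576) (iv1 F100781) (iv4 F219481) F343266 F343227 F137270 (iv1 F353347) (iv4 D102178) D102177 F329269
theorem F353361 : act 2 n111745 = n132186 := d0_1 F353360 (iv3 D132186) F96619 D64111 D136366
theorem F353362 : act 4 n111745 = n178568 := d5_2 (iv4 F219481) F353360 (iv3 D178568) (iv4 D85033) F312276
theorem F353363 : act 6 n141171 = n136366 := d7_0 F353360 F173438 (iv3 F224193)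
theorem F353364 : act 2 n109759 = n141171 := d3_3 F353363 (iv2 D136366) (iv6 F169755)
theorem F353365 : act 4 n109855 = n141171 := d10_3 F353363 F219481 (iv6 F169836)
theorem F353366 : act 0 n118892 = n141171 := d21_4 D151181 F237883 (iv5 D118891) D118892 F353363 (iv5 F337459) F337456 (iv5 D64222) (iv6 F312266) (iv1 F107749)
theorem F353367 : act 0 n141171 = n116060 := d21_4 D64217 (iv1 F337457) F337459 (iv6 F353363) F320751 F169581 (iv1 D30486) (iv5 D14470) (iv6 F23970) D30252
theorem F353368 : act 7 n141171 = n137237 := d15_2 (iv0 F320750) (iv0 F353367) (iv2 D137237)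
theorem F353369 : act 3 n137237 = n138607 := d8_1 F353368 F221780 (iv3 F224193)
theorem F353370 : act 5 n137237 = n138606 := d13_1 F353368 F221779 D141171
theorem F353371 : act 1 n150578 = n137237 := d15_1 F313706 (iv7 F353368) (iv2 F353364)
theorem F353372 : act 2 n138606 = n137238 := d2_1 F353370 (iv5 D137238) D137237
theorem F353373 : act 6 n137238 = n138605 := d3_2 D138606 F353372 (iv2 D138605)
theorem F353374 : act 7 n137238 = n141168 := d4_2 (iv7 F221779) F353372 F224192
theorem F353375 : act 1 n137238 = n141169 := d15_0 (iv0 D141169) (iv7 F221779) F353372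
theorem F353376 : act 5 n141168 = n109759 := d13_1 F353374 F169756 D137238
theorem F353377 : act 1 n141170 = n137238 := d15_1 D141170 F353374 F224192
theorem F353378 : act 6 n136367 = n111741 := d12_4 D141168 F353376 F169755 D136367 F173436
theorem F353379 : act 0 n145549 = n140811 := d20_7 F205945 F353366 (iv4 F353365) F169835 F180195 (iv3 F320489) D145549 (iv4 D140811) (iv3 F348037) F348036
theorem E101423 : n137235 = n118892 := ((c15_1 (iv0 F353366) (iv0 D137235) (iv7 F169756) F353364)).symm
theorem F353380 : act 1 n118892 = n64501 := (sb E101423 (iv0 D137235))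
theorem F353381 : act 7 n116060 = n150578 := d15_2 F353380 (iv0 F320750) F237096
theorem F353382 : act 0 n150910 = n139931 := d20_7 (iv4 F100434) (iv1 F353380) (iv4 F205945) (iv3 F320769) (iv1 F223897) (iv3 F322611) D150910 F223161 F222929 F208257
theorem F353383 : act 1 n139755 = n140901 := d18_6 D71143 D150910 F353382 F223161 F321953 (iv4 F222930) (iv4 D140901) (iv0 F327725) F107527
theorem F353384 : act 6 n156379 = n140901 := d21_3 D65291 D139102 (iv5 F245803) (iv1 F353383) (iv6 D139755) (iv5 F221275) (iv1 F221277) (iv5 D67049) F324697 (iv1 D65289)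
theorem F353385 : act 2 n140901 = n137182 := d3_1 F353384 F352809 (iv2 F312143)
theorem F353386 : act 3 n101645 = n116060 := d8_3 F353381 (iv3 F337656) F275139
theorem F353387 : act 6 n136822 = n101645 := d7_0 F353386 F320751 D136822
theorem F353388 : act 5 n142812 = n145549 := d21_6 F180716 (iv1 D51166) F39036 D31177 D66939 D142812 F353379 F331031 (iv6 D68161) (iv1 F78401)
theorem F353389 : act 1 n145549 = n138510 := d15_1 (iv0 F353379) F327721 (iv2 F330027)
theorem F353390 : act 1 n128032 = n140811 := d15_0 (iv0 F353379) (iv7 F348835) F320491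
theorem F353391 : act 1 n138510 = n128032 := d15_0 F353390 F330028 (iv2 F327720)
theorem F353392 : act 2 n140907 = n142812 := d2_3 F353388 F228594 (iv5 F348829)
theorem F353393 : act 7 n140890 = n142812 := d13_0 F353388 (iv7 F348835) (iv5 F348833)
theorem E101424 : n142808 = n142772 := (c3_4 F348834 F353392 (iv6 D142812) D142808)
theorem F353394 : act 2 n142772 = n66939 := (sb E101424 (iv2 D142808))
theorem F353395 : act 7 n142772 = n66940 := (sb E101424 (iv7 F225710))
theorem E101425 : n142813 = n142773 := (c15_4 F225668 (iv0 F225667) F353395 (iv2 F225711))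
theorem F353396 : act 2 n142773 = n66940 := (sb E101425 F225711)
theorem F353397 : act 7 n142773 = n66939 := (sb E101425 (iv7 D142813))
theorem F353398 : act 4 n150534 = n142773 := d11_3 F353397 (iv4 F350097) F350098
theorem F353399 : act 6 n142773 = n153715 := d10_2 (iv6 F330087) F353398 F346813
theorem F353400 : act 2 n153715 = n142817 := d3_1 F353399 (iv6 D142817) (iv2 F353396)
theorem F353401 : act 4 n142817 = n103701 := d1_2 (iv4 F346813) F353400 F311194
theorem F353402 : act 7 n156802 = n142817 := d15_2 F346812 D156802 (iv2 F353400)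
theorem E101426 : n177166 = n156802 := (c11_4 F353402 F353401 F311195 D177166)
theorem F353403 : act 4 n156802 = n84421 := (sb E101426 (iv4 D177166))
theorem E101427 : n156802 = n153714 := ((c18_3 (iv1 D72729) (iv4 F109217) D153714 F353403 (iv5 D84421) D84420 (iv0 F346805) (iv4 F317105) (iv0 D103725) (iv5 F313063))).symm
theorem F353404 : act 0 n153714 = n74573 := (sb E101427 (iv1 D156802))
theorem F353405 : act 4 n153714 = n84421 := (sb E101427 F353403)
theorem F353406 : act 7 n153714 = n142817 := (sb E101427 F353402)
theorem F353407 : act 0 n156580 = n141913 := d20_7 (iv4 F109217) D153714 F353405 (iv3 F348033) F319540 (iv3 F111797) (iv4 F246247) F322939 F227732 (iv1 D72729)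
theorem F353408 : act 0 n141912 = n150710 := d21_7 (iv5 F245795) (iv1 F246244) (iv5 D156579) D156580 F353407 (iv6 D141913) D141912 (iv5 D150710) F312833 D74352
theorem F353409 : act 1 n156580 = n150849 := d15_1 (iv0 F353407) (iv7 F237580) (iv2 F322938)
theorem F353410 : act 7 n156580 = n128020 := d15_2 (iv0 F322937) (iv0 F353407) F206009
theorem F353411 : act 0 n153717 = n142817 := d18_2 (iv1 F186235) (iv4 F241581) F353401 (iv5 D103701) (iv4 F340929) (iv0 D95593) (iv4 F125269) (iv0 F342447) (iv5 F335074)
theorem E101428 : n138687 = n103701 := ((c20_3 (iv4 F241581) F353411 F353401 (iv3 D138687) (iv1 F319263) F162673 (iv4 F206010) (iv1 F237582) (iv4 D147899) (iv3 F230734) (iv1 F186235))).symm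
theorem F353412 : act 3 n103701 = n65120 := (sb E101428 (iv3 D138687))
theorem F353413 : act 0 n155673 = n138623 := d20_1 (iv4 F244707) (iv4 F334430) F233154 F318259 F316035 (iv4 F241581) F353411 F353401 F353412 (iv1 F319263)
theorem F353414 : act 0 n142817 = n118430 := d20_7 (iv4 D30588) (iv1 D14507) (iv4 F24150) (iv3 F48993) D65120 (iv3 F353412) (iv4 F353401) F186230 F86175 F316090
theorem F353415 : act 7 n155673 = n138617 := d15_2 D138623 (iv0 F353413) F221787
theorem E101429 : n138689 = n103699 := (c6_3 D103701 F353412 D138689 (iv3 D103699))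
theorem F353416 : act 5 n103699 = n65120 := (sb E101429 (iv5 D138689))
theorem F353417 : act 6 n103699 = n70778 := (sb E101429 F319538)
theorem E101430 : n138691 = n118333 := (c8_3 (iv7 F311195) F353412 D138691 F348033)
theorem F353418 : act 2 n118333 = n65121 := (sb E101430 F221851)
theorem F353419 : act 7 n118333 = n65120 := (sb E101430 (iv7 D138691))
theorem E101431 : n177161 = n138694 := ((c2_3 (iv5 F348034) F353418 D138694 (iv2 D177161))).symm
theorem F353420 : act 2 n138694 = n84419 := (sb E101431 (iv2 D177161))
theorem E101432 : n146495 = n105443 := (c10_2 F353417 (iv4 F232612) (iv6 D105443) (iv4 F192430))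
theorem F353421 : act 1 n105443 = n68676 := (sb E101432 (iv0 D146495))
theorem F353422 : act 4 n105443 = n70778 := (sb E101432 F232612)
theorem F353423 : act 7 n105443 = n181745 := (sb E101432 (iv7 F282919))
theorem F353424 : act 0 n144395 = n103699 := d21_4 F76764 (iv1 F70699) F107853 (iv6 F320866) F353417 (iv5 F215734) F309835 D131317 F309841 F108415
theorem E101433 : n151404 = n151386 := (c20_10 (iv4 F320865) F353424 F192430 D105440 F340923 F311509 F309294 (iv1 F153398) F349045 D151404 (iv1 D151386))
theorem F353425 : act 3 n151386 = n71366 := (sb E101433 (iv3 D151404))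
theorem F353426 : act 0 n106145 = n114145 := d20_4 (iv4 D102269) D102267 F314180 D106145 F177757 (iv4 F320865) F353424 F192430 D105440 F340923
theorem F353427 : act 0 n146612 = n105755 := d20_4 F192430 (iv1 F161822) F319422 (iv3 F229905) F340850 (iv4 F322180) (iv1 D121431) F320551 (iv3 F227160) F353424
theorem F353428 : act 4 n117416 = n146612 := d17_9 F353427 F340851 (iv1 F319249) D65301 D139133 F339612 (iv0 D68646) (iv5 F85419) D117416
theorem F353429 : act 2 n146612 = n146610 := d1_1 F353428 (iv4 D146610) (iv2 F243226)
theorem F353430 : act 6 n146610 = n117416 := d10_0 F353428 (iv6 D146612) D146610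
theorem F353431 : act 7 n146612 = n146622 := d11_2 (iv7 F247806) F353428 (iv4 D146622)
theorem F353432 : act 0 n147762 = n184980 := d19_8 (iv1 F314422) F183905 F353428 F229905 (iv1 F315198) F315199 D148650 F334594 (iv5 D184980) F308729 (iv3 F338053) (iv1 F234391) F106395 F51571 F24958 (iv1 F30467) D17559 D36372 D79852
theorem E101434 : n146095 = n145994 := ((c20_5 D114745 F317652 F313959 D68448 D145994 (iv3 D146095) (iv4 F332528) F319250 (iv4 F353428) (iv3 F317645) (iv1 F178779))).symm
theorem F353433 : act 3 n145994 = n68507 := (sb E101434 (iv3 D146095))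
theorem F353434 : act 7 n145994 = n144874 := (sb E101434 (iv7 F243245))
theorem F353435 : act 3 n146622 = n105424 := d8_1 F353431 F312979 (iv3 F229905)
theorem F353436 : act 6 n146622 = n99569 := d14_1 F353431 F153306 (iv6 F314938) F243237 D146612
theorem F353437 : act 2 n146622 = n99607 := d15_3 (iv0 F340849) (iv0 F353427) F353431
theorem F353438 : act 7 n146610 = n99607 := d4_2 (iv7 F353431) F353429 (iv2 F353437)
theorem E101435 : n178997 = n146622 := ((c21_4 F309806 (iv1 F310232) D99569 (iv6 F353436) (iv1 D178997) (iv6 D85393) (iv5 D39444) F199746 D73421 F305326 (iv1 F149984))).symm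
theorem F353439 : act 0 n146622 = n85393 := (sb E101435 (iv1 D178997))
theorem E101436 : n177160 = n139745 := ((c20_10 (iv4 F235253) (iv1 D105426) (iv4 F161816) (iv3 F353435) F353439 F306230 F316429 (iv1 F302737) F320837 (iv3 F222922) (iv1 D177160))).symm
theorem F353440 : act 0 n139745 = n84419 := (sb E101436 (iv1 D177160))
theorem E101437 : n178996 = n146610 := ((c15_4 (iv0 D178996) (iv0 F353439) (iv7 F353431) F353429)).symm
theorem F353441 : act 1 n146610 = n85393 := (sb E101437 (iv0 D178996))
theorem F353442 : act 5 n146610 = n148015 := d21_2 F308233 (iv1 F353441) (iv6 D148015) (iv1 F233150) (iv6 D85066) (iv5 D39338) D39334 (iv5 F310035) D65280 (iv1 F314672)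
theorem F353443 : act 7 n148015 = n109676 := d13_2 (iv7 F353438) F353442 (iv5 F332525)
theorem F353444 : act 0 n109680 = n148015 := d19_0 (iv5 F353442) (iv4 D146610) (iv3 D68709) (iv1 D31968) D31969 D68715 D146631 F330037 (iv5 D139739) (iv4 F222918) (iv3 D139734) (iv1 F336695) (iv5 D111490) (iv4 D51421) F79381 (iv1 F19668) (iv5 F38639) (iv4 F79958) (iv3 F169664)
theorem F353445 : act 0 n150653 = n138601 := d21_1 F342559 (iv5 D138601) (iv6 F169665) F353444 (iv6 D148015) (iv5 D69329) (iv1 F105591) F317046 D141771 F342561
theorem F353446 : act 1 n109678 = n148015 := d15_0 (iv0 F353444) (iv7 D109680) D109678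
theorem F353447 : act 1 n156480 = n105979 := d18_6 D71014 D150653 F353445 F313670 (iv5 F340102) (iv4 F337210) (iv4 D105979) F191171 F52065
theorem E101438 : n143323 = n139213 := ((c20_4 D150653 F353445 F313670 D139213 F316967 F304980 F86548 (iv1 D27147) (iv4 F41746) (iv3 F52064) D71014)).symm
theorem F353448 : act 0 n139213 = n117878 := (sb E101438 F316967)
theorem F353449 : act 1 n139213 = n76621 := (sb E101438 F316968)
theorem F353450 : act 2 n139213 = n73494 := (sb E101438 F316969)
theorem F353451 : act 5 n139213 = n67136 := (sb E101438 F226099)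
theorem F353452 : act 6 n139213 = n73798 := (sb E101438 F316970)
theorem F353453 : act 7 n139213 = n67135 := (sb E101438 (iv7 D143323))
theorem F353454 : act 0 n150654 = n152666 := d20_10 F239879 (iv1 F239894) F239814 (iv3 F232576) (iv1 F353449) (iv3 D139213) (iv4 F313670) F226264 F342548 D150654
theorem F353455 : act 1 n150654 = n149209 := d15_1 (iv0 F353454) F234591 (iv2 F239878)
theorem F353456 : act 1 n150081 = n152666 := d15_0 (iv0 F353454) F237194 (iv2 F236174)
theorem F353457 : act 5 n152672 = n152721 := d18_9 (iv1 F334113) F334115 (iv1 F234583) (iv4 F234589) F339377 F259326 F353456 F239879 D152672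
theorem F353458 : act 6 n152721 = n116596 := d12_2 (iv6 F303241) F353457 F323584 (iv6 F324182) F303131
theorem F353459 : act 1 n152721 = n119667 := d17_6 (iv1 F87059) D55069 F318073 (iv5 F318076) (iv4 F239889) F353457 (iv5 D119667) F188698 F188696
theorem F353460 : act 3 n101922 = n119667 := d20_3 F334803 (iv1 F161845) (iv4 F346727) (iv1 F353459) (iv3 F339233) F318677 (iv1 F103676) (iv4 F320551) F311743 D173557
theorem F353461 : act 3 n149155 = n159506 := d8_3 F346730 F353460 (iv7 F234535)
theorem F353462 : act 0 n116644 = n149155 := d20_4 (iv4 F335528) (iv1 F186266) D152231 (iv3 F339230) F353461 F251203 F234963 F334802 (iv3 F335505) F339218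
theorem F353463 : act 5 n116670 = n159318 := d21_0 (iv1 F254485) F345362 D116644 F353462 (iv6 F339399) F192369 (iv1 F151716) F151714 F320148 D116670
theorem F353464 : act 0 n143726 = n144347 := d21_4 (iv5 D149155) F106404 F324819 D143726 (iv6 F337703) F353463 (iv1 F254485) F345362 D116644 F353462
theorem F353465 : act 1 n148265 = n144347 := d15_0 (iv0 F353464) F321820 (iv2 F320884)
theorem F353466 : act 6 n160119 = n179652 := d21_3 F334103 (iv1 F219563) (iv5 F344913) (iv1 D179652) (iv6 F322658) F322657 F345366 (iv5 F353463) F337703 (iv1 F353465)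
theorem F353467 : act 2 n179652 = n159037 := d3_1 F353466 F350976 (iv2 F344911)
theorem F353468 : act 4 n179652 = n170465 := d10_1 F353466 (iv6 D170465) (iv4 F344912)
theorem F353469 : act 5 n179652 = n125064 := d12_1 F353466 F351009 (iv5 F324692) (iv6 F323327) (iv5 F344913)
theorem F353470 : act 7 n179652 = n142529 := d14_2 (iv7 F344914) F353466 (iv6 D142529) (iv7 F181815) (iv6 F337168)
theorem F353471 : act 7 n142079 = n170465 := d11_2 F353470 F225421 (iv4 F353468)
theorem F353472 : act 0 n184300 = n126815 := d21_4 F323252 (iv1 F111236) (iv5 F331291) (iv6 F286245) F322251 (iv5 F339415) F339412 F353469 F351009 (iv1 D74108)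
theorem F353473 : act 0 n125190 = n164135 := d21_4 (iv5 F353469) (iv1 D179652) F131572 D125190 F258684 (iv5 D125441) F341250 D163070 F316251 (iv1 F200921)
theorem F353474 : act 4 n105628 = n125190 := d17_9 F353473 (iv5 D164135) (iv1 F351014) F346327 (iv4 F336172) (iv5 D139825) F103712 D144425 F227225
theorem F353475 : act 5 n110027 = n125190 := d21_6 F67485 (iv1 F254089) (iv5 D39933) D39934 (iv1 F345367) (iv6 F323127) F353473 (iv5 D164135) (iv6 D78852) (iv1 F67487)
theorem F353476 : act 7 n125190 = n163223 := d13_2 F174898 F353475 (iv5 F324003)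
theorem F353477 : act 1 n139827 = n110343 := d18_8 D110340 (iv4 F205177) F205178 (iv4 F170161) F353475 (iv4 F353474) F162322 D139827 (iv5 D110343)
theorem F353478 : act 6 n110369 = n178334 := d21_9 (iv5 F334714) F278215 (iv5 F352041) (iv6 D178819) (iv1 F348547) (iv6 D110344) D110343 (iv1 F353477) (iv5 F223032) (iv1 D178334)
theorem F353479 : act 7 n178334 = n163322 := d14_2 F224609 F353478 (iv6 D163322) (iv7 F257938) (iv6 F340645)
theorem E101439 : n178334 = n178245 := ((c8_4 F353479 F257631 (iv7 F340630) D178245)).symm
theorem F353480 : act 0 n178245 = n84860 := (sb E101439 (iv1 D178334))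
theorem F353481 : act 6 n178245 = n110369 := (sb E101439 (iv6 F353478))
theorem F353482 : act 7 n178245 = n163322 := (sb E101439 F353479)
theorem F353483 : act 2 n163322 = n178333 := d15_3 (iv0 D178333) (iv0 F353480) F353482
theorem F353484 : act 6 n178333 = n157968 := d3_2 D163322 F353483 F257971
theorem F353485 : act 0 n178333 = n110599 := d21_4 F248744 (iv1 F327513) F327515 (iv6 F353484) (iv6 D110599) (iv5 F84783) (iv1 D53774) D53775 F334011 (iv1 F254411)
theorem E101440 : n178306 = n147654 := (c15_3 (iv0 F353485) (iv0 D178333) (iv7 F277889) F231423)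
theorem F353486 : act 3 n147654 = n84854 := (sb E101440 (iv3 D178306))
theorem F353487 : act 7 n147654 = n84860 := (sb E101440 F277889)
theorem E101441 : n178335 = n112776 := (c4_2 F353487 D178335 F175575 (iv2 F231423))
theorem F353488 : act 2 n112776 = n84860 := (sb E101441 (iv2 D178335))
theorem F353489 : act 5 n112776 = n152189 := (sb E101441 F340921)
theorem F353490 : act 6 n112776 = n174884 := (sb E101441 F334711)
theorem F353491 : act 3 n152189 = n112777 := d6_1 F353489 (iv5 D112777) D112776
theorem F353492 : act 0 n152189 = n155443 := d18_0 (iv4 F352031) (iv1 D114774) F323418 (iv5 F321410) D79896 (iv0 F340634) F258625 (iv0 F340636) F353489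
theorem F353493 : act 5 n163322 = n152481 := d21_2 (iv5 F353489) F340636 (iv6 D152481) (iv1 D71922) (iv6 D33233) D33232 (iv1 F108249) (iv5 D71780) D71781 D152189
theorem F353494 : act 2 n112777 = n175315 := d0_1 F353491 F274365 F334696 F334716 (iv2 F340919)
theorem F353495 : act 5 n175315 = n108835 := d2_2 D112777 F353494 (iv2 F168813)
theorem F353496 : act 6 n175146 = n112777 := d3_0 F353494 (iv6 D175315) F274132
theorem F353497 : act 7 n175315 = n112570 := d4_2 (iv7 F175576) F353494 F175139
theorem F353498 : act 1 n119367 = n110602 := d15_1 (iv0 F334554) (iv7 F175576) F353494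
theorem F353499 : act 0 n112777 = n175265 := d21_4 D83746 (iv1 F311309) F311310 F353496 (iv6 D175265) (iv5 D83694) (iv1 D38579) D38580 F59405 D38592
theorem F353500 : act 3 n175265 = n119369 := d20_5 F108375 D71882 (iv4 F340920) F353491 F353499 F188017 (iv1 F86885) D85005 (iv3 F323415) F336455
theorem F353501 : act 1 n112570 = n175265 := d15_0 (iv0 F353499) F175576 (iv2 F175139)
theorem F353502 : act 6 n119369 = n175259 := d7_2 D175265 F353500 F274283
theorem F353503 : act 5 n110601 = n147051 := d21_2 F353495 (iv1 F171177) (iv6 D147051) D147049 F343336 (iv5 F186392) (iv1 F254536) F254533 F189843 F334554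
theorem F353504 : act 2 n178336 = n174692 := d1_3 F340639 F353488 D178336
theorem F353505 : act 1 n178245 = n110599 := d15_1 (iv0 F353480) (iv7 F175575) F353488
theorem F353506 : act 1 n166400 = n109319 := d15_1 (iv0 F277911) F340640 (iv2 F353504)
theorem F353507 : act 3 n110369 = n178248 := d7_1 F353481 (iv6 D178248) D178245
theorem F353508 : act 3 n121160 = n112717 := d8_3 F224609 F353507 F351998
theorem F353509 : act 3 n144427 = n178939 := d6_3 F336572 F353508 (iv5 F227229)
theorem F353510 : act 4 n121160 = n109284 := d20_6 (iv4 D11994) D11992 D25257 D52028 D112717 (iv3 F353508) (iv1 D109284) (iv4 F82249) (iv3 D52041) (iv1 D25263)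
theorem F353511 : act 2 n109284 = n163340 := d1_1 F353510 F257647 (iv2 F257941)
theorem F353512 : act 6 n109284 = n121158 := d10_2 D121160 F353510 (iv4 D121158)
theorem E101442 : n163340 = n111970 := (c15_4 (iv0 D111970) (iv0 F352007) (iv7 F352014) F353511)
theorem F353513 : act 2 n111970 = n109284 := (sb E101442 (iv2 F353511))
theorem F353514 : act 4 n111970 = n78500 := (sb E101442 F257647)
theorem F353515 : act 6 n111970 = n78498 := (sb E101442 (iv6 D163340))
theorem F353516 : act 7 n111970 = n103101 := (sb E101442 F352010)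
theorem F353517 : act 7 n184381 = n136280 := d13_2 F353516 (iv5 F352011) (iv5 F222812)
theorem F353518 : act 4 n141354 = n163223 := d20_8 F319480 (iv1 D39424) (iv4 F60357) (iv3 F130601) D178939 (iv3 F353509) (iv4 D144427) (iv1 F224402) (iv3 D163223) F321461
theorem F353519 : act 0 n178336 = n164141 := d20_1 D178336 F258691 (iv3 F258687) F352212 (iv3 D103684) (iv4 D48022) D48020 F324801 D178245 F353480
theorem F353520 : act 6 n163223 = n120231 := d14_1 F353476 F191431 (iv6 F324091) (iv7 F92486) D125190
theorem F353521 : act 2 n125190 = n143034 := d16_9 (iv4 D143034) (iv5 D67034) (iv4 D31214) D31215 D67038 F174377 (iv4 F174897) F324003 (iv7 F353476)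
theorem F353522 : act 3 n143034 = n107630 := d0_2 (iv3 F201264) F353521 F166227 (iv3 F316487) (iv2 F92487)
theorem F353523 : act 6 n143034 = n107628 := d3_2 D125190 F353521 F318488
theorem E101443 : n143035 = n108049 := ((c10_2 F353523 (iv4 F167037) (iv6 D143035) D143034)).symm
theorem F353524 : act 6 n108049 = n67034 := (sb E101443 (iv6 D143035))
theorem F353525 : act 3 n125178 = n105628 := d5_5 F353474 F201264 F92488 (iv3 F92480) (iv4 F201222)
theorem F353526 : act 6 n125176 = n105628 := d10_0 F353474 (iv6 D125190) (iv4 F201219)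
theorem F353527 : act 2 n108049 = n125176 := d3_3 F353526 F162227 (iv6 F353524)
theorem F353528 : act 1 n108049 = n179910 := d15_0 (iv0 D179910) (iv7 F201220) (iv2 F353527)
theorem F353529 : act 2 n132432 = n125178 := d0_5 F353525 F162227 (iv3 F347239) F167042 D132432
theorem F353530 : act 5 n105627 = n125178 := d6_0 F353525 (iv5 D105628) D105627
theorem F353531 : act 5 n132432 = n134001 := d2_2 F353530 (iv2 F353529) F215936
theorem F353532 : act 1 n134001 = n143038 := d17_6 F319611 D141348 F224379 F102342 (iv4 F212500) F353531 (iv5 D143038) D143037 (iv4 F349976)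
theorem F353533 : act 1 n143038 = n134004 := d15_1 F353532 F215938 (iv2 F215936)
theorem E101444 : n134008 = n114639 := (c17_3 (iv1 D62948) D62950 D134008 F349983 D139404 F349985 F322901 D143038 F353533 (iv4 D134004))
theorem F353534 : act 1 n114639 = n62950 := (sb E101444 (iv0 D134008))
theorem F353535 : act 5 n151316 = n147992 := d19_9 (iv1 F353533) (iv5 D143038) F103025 F49540 D31229 (iv5 F320523) (iv4 F105584) (iv3 F324895) F324893 (iv4 D147992) (iv3 F223920) (iv1 F350235) (iv5 D142836) (iv4 D66950) D66949 (iv1 F225633) (iv5 D142733) F102838 (iv3 F215937)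
theorem F353536 : act 1 n134010 = n119212 := d18_8 F317127 (iv4 D67997) F311534 F83612 D52912 D114639 F353534 D134010 F187581
theorem E101445 : n152395 = n148524 := (c21_10 (iv5 D73963) D73960 (iv5 F331644) (iv6 D134011) (iv1 F353534) F178737 D114648 (iv1 F335343) F335344 (iv6 F239583) F233287)
theorem F353537 : act 4 n148524 = n71892 := (sb E101445 (iv4 D152395))
theorem F353538 : act 6 n148524 = n71896 := (sb E101445 F239583)
theorem F353539 : act 1 n119097 = n134010 := d15_0 F353536 (iv7 D119212) (iv2 F187362)
theorem F353540 : act 5 n134010 = n164338 := d21_2 (iv5 F187581) (iv1 F353536) (iv6 D164338) F319015 F316648 F138810 (iv1 F138581) (iv5 F339569) (iv6 D145079) (iv1 F317128)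
theorem F353541 : act 4 n164338 = n141627 := d16_6 (iv4 F336187) (iv5 D133994) F98193 D62950 D134010 F353540 (iv5 D141627) (iv7 F320120) (iv2 F173688)
theorem E101446 : n139408 = n134009 := (c18_2 F349968 (iv4 F349982) (iv1 D134009) D134010 F353540 F353541 F318140 D141688 (iv0 F225913) (iv5 F349969))
theorem F353542 : act 4 n134009 = n67993 := (sb E101446 F349982)
theorem F353543 : act 5 n134009 = n65432 := (sb E101446 (iv5 D139408))
theorem F353544 : act 3 n134010 = n114277 := d20_3 (iv4 F353542) (iv1 D134009) D134010 (iv1 D114277) F83341 D52763 D114328 F178564 D114503 F349968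
theorem F353545 : act 4 n114277 = n111410 := d5_2 D134010 F353544 (iv3 D111410) F81106 (iv3 F98209)
theorem E101447 : n151601 = n69338 := (c19_10 (iv1 D62948) D62950 D134010 F353544 (iv1 D114277) (iv5 D52743) (iv4 F83339) F83338 D71459 D151601 (iv4 D69338) F51169 F315659 (iv5 F49511) (iv4 F102737) (iv3 F322086) (iv1 F224542) (iv5 D67108) D67107 F103066)
theorem E101448 : n148046 = n71459 := ((D148046).symm.trans (sb E101447 (iv5 D151601)))
theorem F353546 : act 5 n71459 = n69338 := (sb E101448 (iv5 D148046))
theorem F353547 : act 7 n151316 = n144995 := d16_8 (iv4 F347767) F353546 (iv4 D69338) (iv5 D32224) (iv4 F51168) D69324 D147992 (iv5 F353535) (iv2 D144995)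
theorem F353548 : act 4 n105870 = n144996 := d16_0 (iv5 D144996) (iv4 F347767) F353546 (iv4 D69338) (iv5 D32224) (iv4 F51168) D69324 (iv7 F314515) F215178
theorem F353549 : act 4 n137933 = n151554 := d17_4 D71459 F353546 (iv1 F324684) (iv5 F221180) (iv5 F238501) (iv0 D151631) (iv5 D71466) (iv0 D33064) (iv4 F52286)
theorem E101449 : n179633 = n71461 := (c17_1 (iv1 F279741) (iv5 D71461) D71459 F353546 (iv4 D69338) (iv5 D32224) D32223 D69334 (iv0 F233149) (iv4 F278395))
theorem E101450 : n178615 = n151609 := (((D151609).symm.trans (sb E101449 F279741))).symm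
theorem E101451 : n151610 = n85776 := ((D151610).symm.trans (sb E101449 (iv4 D179633)))
theorem F353550 : act 4 n151609 = n85066 := (sb E101450 F278395)
theorem F353551 : act 6 n151609 = n85065 := (sb E101450 (iv6 D178615))
theorem F353552 : act 4 n85776 = n71461 := (sb E101451 (iv4 D151610))
theorem F353553 : act 6 n137933 = n151395 := d21_3 F353546 (iv1 F324684) (iv5 F221180) (iv1 D151395) (iv6 D71364) F52197 F52285 (iv5 D33062) D33063 D71459
theorem E101452 : n151605 = n151316 := (c16_1 D151605 F353535 (iv4 D147992) (iv5 D69324) F51168 D32224 D69338 (iv5 F353546) (iv7 F347772) F347771)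
theorem F353554 : act 4 n151316 = n71460 := (sb E101452 (iv4 D151605))
theorem F353555 : act 2 n117110 = n151316 := d1_3 F353554 (iv2 F347771) F184132
theorem E101453 : n151606 = n137466 := (c9_3 (iv5 F353535) F353554 D151606 F220669 (iv5 F317046) (iv4 F314113) D105870 F353548 (iv5 D144996) (iv4 F347767) F353546 (iv4 D69338) (iv5 D32224) (iv4 F51168) D69324 D147992)
theorem F353556 : act 5 n137466 = n71460 := (sb E101453 (iv5 D151606))
theorem F353557 : act 7 n105870 = n147940 := d16_8 D147992 (iv5 F353535) F353554 (iv5 F353556) F220669 (iv5 F317046) (iv4 F314113) D105870 F231753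
theorem F353558 : act 4 n151631 = n147991 := d18_1 D151631 (iv1 D147991) D147992 (iv5 F353535) F353554 F238175 F238173 F107889 D71466
theorem E101454 : n151604 = n123247 := ((c20_5 F85507 (iv1 F41650) D31268 D67189 (iv1 F324898) (iv3 D151604) (iv4 F353554) (iv1 D151316) F321916 (iv3 D67197) (iv1 F85509))).symm
theorem F353559 : act 3 n123247 = n71460 := (sb E101454 (iv3 D151604))
theorem F353560 : act 7 n123247 = n122651 := (sb E101454 (iv7 F350755))
theorem F353561 : act 2 n123247 = n122652 := d15_3 F197538 F197539 (iv7 F353560)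
theorem F353562 : act 3 n122652 = n117489 := d0_2 (iv3 F353559) F353561 (iv2 F184022) D117531 F347771
theorem F353563 : act 7 n122652 = n117533 := d4_2 (iv7 F353560) F353561 (iv2 F350754)
theorem F353564 : act 4 n117692 = n122652 := d11_3 F353563 F184134 (iv7 F184314)
theorem E101455 : n136059 = n102456 := (c13_3 F353563 F329155 (iv7 F218951) F343220)
theorem F353565 : act 3 n102456 = n63980 := (sb E101455 (iv3 D136059))
theorem F353566 : act 7 n102456 = n64607 := (sb E101455 F218951)
theorem E101456 : n137454 = n102457 := (c15_4 F343224 (iv0 F343219) F353566 D137454)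
theorem F353567 : act 2 n102457 = n64607 := (sb E101456 (iv2 D137454))
theorem F353568 : act 2 n136540 = n159421 := d3_3 (iv6 F349499) F353567 (iv6 F219640)
theorem E101457 : n141253 = n141167 := ((c20_7 F48833 (iv1 F48529) D63980 (iv3 F353565) F343219 (iv3 F219195) (iv4 F224191) (iv1 D141253) F328846 F85512 F328044)).symm
theorem F353569 : act 0 n141167 = n66250 := (sb E101457 (iv1 D141253))
theorem F353570 : act 5 n143100 = n141167 := d17_1 F225957 F353569 (iv5 F329190) (iv4 D64851) (iv5 D30484) (iv0 F102784) (iv5 F100664) F220969 D136827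
theorem F353571 : act 1 n141167 = n138027 := d15_1 (iv0 F353569) (iv7 D138027) F329189
theorem F353572 : act 2 n141167 = n138025 := d2_1 F353570 F221287 (iv2 F225955)
theorem F353573 : act 7 n141167 = n138024 := d13_2 D143100 F353570 F221283
theorem F353574 : act 2 n138024 = n141252 := d15_3 (iv0 D141252) (iv0 F353569) F353573
theorem F353575 : act 4 n141252 = n99826 := d16_0 F321296 F103050 F49550 (iv4 F49546) (iv5 F103040) (iv4 F225956) F353570 F353573 F353574
theorem F353576 : act 7 n138025 = n141252 := d4_2 (iv7 F353573) F353572 (iv2 F353574)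
theorem F353577 : act 5 n141252 = n142994 := d13_1 F353576 F225843 (iv5 F221287)
theorem F353578 : act 1 n138027 = n141252 := d15_1 F353571 (iv7 F353576) (iv2 F353572)
theorem F353579 : act 6 n99825 = n141252 := d10_0 F353575 (iv6 D99826) D99825
theorem F353580 : act 6 n138025 = n110813 := d14_3 (iv7 F153697) F353579 (iv7 F353576) (iv7 F224179) (iv6 F333136)
theorem E101458 : n143143 = n102605 := ((c10_2 F353580 (iv4 F333128) (iv6 D143143) F221288)).symm
theorem F353581 : act 6 n102605 = n67079 := (sb E101458 (iv6 D143143))
theorem F353582 : act 6 n138012 = n139449 := d21_3 (iv5 D64866) D64863 D138012 (iv1 D139449) (iv6 D65445) D65444 D139444 F225853 (iv6 F353580) (iv1 D138025)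
theorem F353583 : act 4 n139449 = n143436 := d10_1 F353582 (iv6 D143436) (iv4 F221273)
theorem F353584 : act 3 n117507 = n120458 := d20_5 (iv4 D54142) (iv1 D26200) D26201 D54146 D117507 F191906 (iv1 F350745) F353564 F353562 (iv1 F184023)
theorem F353585 : act 7 n120454 = n117507 := d8_0 F353584 (iv7 D120458) (iv3 F191901)
theorem E101459 : n153277 = n117508 := (c15_4 F184083 F184079 (iv7 F353585) (iv2 F240820))
theorem F353586 : act 2 n117508 = n120454 := (sb E101459 F240820)
theorem F353587 : act 3 n117508 = n72409 := (sb E101459 F240821)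
theorem F353588 : act 4 n117508 = n160648 := (sb E101459 (iv4 F253757))
theorem F353589 : act 6 n117508 = n72407 := (sb E101459 (iv6 D153277))
theorem F353590 : act 0 n180600 = n147375 := d18_2 D86264 D180600 (iv4 D147375) (iv5 D69090) (iv4 F85468) D117508 F353588 F348464 (iv5 D86266)
theorem E101460 : n160653 = n152491 := (c20_5 F182018 (iv1 F184083) F353588 F253756 D160653 (iv3 D152491) (iv4 D71927) (iv1 F108287) (iv4 F321008) (iv3 D147362) (iv1 F182021))
theorem F353591 : act 0 n152491 = n77123 := (sb E101460 (iv1 F253765))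
theorem F353592 : act 1 n152491 = n77049 := (sb E101460 (iv0 D160653))
theorem E101461 : n147433 = n77049 := (c20_5 (iv4 F77120) (iv1 F77126) (iv4 F51118) D69114 D147433 (iv3 F253756) (iv4 F353588) (iv1 D117508) F85468 (iv3 D32144) D32142)
theorem E101462 : n160654 = n69114 := ((D160654).symm.trans (sb E101461 (iv0 D147433)))
theorem F353593 : act 0 n69114 = n77049 := (sb E101462 (iv1 D160654))
theorem E101463 : n147434 = n77123 := ((D147434).symm.trans (sb E101462 F253760))
theorem F353594 : act 0 n77123 = n69114 := (sb E101463 (iv1 D147434))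
theorem F353595 : act 1 n147449 = n160747 := d18_8 F353594 F105413 (iv1 F325856) F295809 F324774 F80458 D108740 (iv4 F231236) F253901
theorem F353596 : act 0 n148800 = n116926 := d20_7 F253893 F353594 F105413 (iv3 D68342) (iv1 F51412) D69740 (iv4 F233637) (iv4 F243297) F350791 (iv1 F253897)
theorem F353597 : act 4 n126203 = n120435 := d20_0 (iv1 F242331) F242327 F236447 F353594 (iv3 D69114) F51118 (iv1 F103936) F103937 D69084 F202963
theorem F353598 : act 2 n120435 = n147593 := d1_1 F353597 (iv4 D147593) (iv2 F231072)
theorem F353599 : act 7 n120435 = n147590 := d11_2 (iv7 F202962) F353597 (iv4 D147590)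
theorem F353600 : act 5 n150246 = n113297 := d18_4 F202963 F353597 (iv1 F242331) F242327 (iv4 D113297) (iv0 D52299) (iv4 F82670) D113289 (iv5 F176498)
theorem F353601 : act 0 n148203 = n120434 := d20_10 F191881 D120435 (iv4 F353597) F202961 F161142 F84782 (iv4 F94439) F180185 F105778 D148203
theorem F353602 : act 1 n126196 = n159302 := d18_8 F353601 F191881 D120435 (iv4 F353597) (iv5 D126203) (iv4 D59164) D59162 D126196 F349825
theorem E101464 : n120460 = n32242 := (c20_6 (iv4 F232031) F353601 F191881 F87747 D55455 D120460 (iv4 F105034) F105035 (iv4 F183418) (iv3 F183420) F223260)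
theorem E101465 : n69395 = n55455 := ((D69395).symm.trans (sb E101464 (iv3 D120460)))
theorem F353603 : act 3 n55455 = n32242 := (sb E101465 (iv3 D69395))
theorem E101469 : n120461 = n117533 := ((D120461).symm.trans (sb E101465 (iv4 F184134)))
theorem E101470 : n146939 = n120462 := (((D120462).symm.trans (sb E101465 (iv5 F230336)))).symm
theorem E101471 : n148118 = n120463 := (((D120463).symm.trans (sb E101465 D148118))).symm
theorem E101472 : n120464 = n117692 := ((D120464).symm.trans (sb E101465 (iv7 F184314)))
theorem F353604 : act 4 n117533 = n55455 := (sb E101469 (iv4 D120461))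
theorem F353605 : act 3 n120462 = n68880 := (sb E101470 (iv3 D146939))
theorem F353606 : act 3 n120463 = n69396 := (sb E101471 F231931)
theorem F353607 : act 2 n117692 = n55456 := (sb E101472 F191912)
theorem F353608 : act 7 n117692 = n55455 := (sb E101472 (iv7 D120464))
theorem F353609 : act 5 n120434 = n113302 := d21_8 (iv5 D173870) F306722 D83221 (iv6 F330707) (iv1 D159299) D159302 F349825 F353601 F341686 (iv1 F341697)
theorem F353610 : act 1 n148203 = n150246 := d15_1 (iv0 F353601) (iv7 D150246) (iv2 F191880)
theorem F353611 : act 1 n147548 = n120434 := d15_0 (iv0 F353601) F350719 (iv2 F350718)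
theorem F353612 : act 1 n159302 = n126191 := d17_8 (iv1 F93351) D113390 (iv1 F338358) (iv5 D113303) D113302 (iv5 F353609) (iv0 F353601) (iv5 F349825) (iv4 D126191)
theorem E101473 : n163603 = n105251 := (c20_3 D126191 (iv1 F353612) (iv4 F257866) (iv3 D105251) (iv1 D48663) (iv3 D23725) (iv4 D11110) D11108 (iv4 F22306) D28103 D59161)
theorem F353613 : act 1 n105251 = n147691 := (sb E101473 (iv0 F349824))
theorem F353614 : act 2 n105251 = n166598 := (sb E101473 (iv2 F262187))
theorem F353615 : act 4 n105251 = n159302 := (sb E101473 F257866)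
theorem F353616 : act 6 n105251 = n78607 := (sb E101473 (iv6 D163603))
theorem F353617 : act 0 n177428 = n109080 := d20_4 (iv4 F48582) D64076 (iv4 F203022) F342873 (iv3 F169079) D126191 (iv1 F353612) (iv4 F353615) (iv3 D105251) (iv1 D48663)
theorem F353618 : act 0 n126195 = n113175 := d20_10 (iv4 D113175) D113172 F176338 (iv3 F161197) (iv1 F161200) D105251 F353615 (iv1 F353602) (iv4 D126196) D126195
theorem F353619 : act 1 n150246 = n147548 := d15_1 F353610 (iv7 F347995) F347994
theorem F353620 : act 0 n176495 = n113297 := d21_10 (iv5 F353600) (iv1 F353610) (iv5 F349825) (iv6 D159302) (iv1 F254267) D121214 F344720 (iv1 D84157) D84158 (iv6 F275809)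
theorem E101474 : n178361 = n152465 := (c20_10 F108432 D105398 F347787 D147548 (iv1 F353619) F236447 (iv4 F253893) (iv1 F253896) D167579 F352173 (iv1 D152465))
theorem F353621 : act 2 n152465 = n84870 := (sb E101474 F277922)
theorem F353622 : act 3 n152465 = n167579 := (sb E101474 (iv3 F352173))
theorem F353623 : act 5 n152465 = n113223 := (sb E101474 (iv5 F319466))
theorem F353624 : act 6 n152465 = n84866 := (sb E101474 (iv6 D178361))
theorem F353625 : act 4 n120436 = n147355 := d20_2 (iv4 F242327) (iv1 F242330) F347811 (iv1 D71922) (iv3 F108431) F108432 D105398 F347787 D147548 (iv1 F353619)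
theorem F353626 : act 2 n147590 = n120436 := d1_3 F353625 (iv2 F231069) D147590
theorem F353627 : act 7 n147593 = n120436 := d11_0 F353625 (iv7 F231071) D147593
theorem F353628 : act 6 n158423 = n177677 := d21_9 (iv5 F353623) (iv1 D152465) D152466 F347780 (iv1 D160493) (iv6 F318843) (iv5 D77436) D77434 (iv5 F303267) (iv1 F319464)
theorem F353629 : act 2 n177677 = n125405 := d3_1 F353628 F336017 F271831
theorem F353630 : act 7 n125404 = n177677 := d15_2 F277063 F277064 F353629
theorem F353631 : act 7 n177678 = n125405 := d15_2 (iv0 D177677) D177678 (iv2 F353629)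
theorem F353632 : act 2 n125404 = n177678 := d4_3 F353631 (iv2 F353629) (iv7 F353630)
theorem E101475 : n175937 = n125404 := (c2_1 D175937 F353632 F342092 F273889)
theorem F353633 : act 5 n125404 = n83957 := (sb E101475 (iv5 D175937))
theorem F353634 : act 0 n175938 = n150321 := d21_4 F130074 D125404 F353633 D175938 F236574 (iv5 F228854) (iv1 F228857) (iv5 F322754) (iv6 F239657) F334755
theorem F353635 : act 1 n175938 = n128484 := d15_1 (iv0 F353634) F206637 D150321
theorem F353636 : act 2 n113302 = n150245 := d2_1 F353609 (iv5 D150245) (iv2 F191880)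
theorem F353637 : act 0 n113302 = n176495 := d21_7 (iv5 F301463) (iv1 F342734) F342736 (iv6 D124713) F92158 D120434 F353609 (iv5 D176495) (iv6 D84155) D84152
theorem F353638 : act 5 n176493 = n113382 := d17_3 F353637 (iv5 D176495) D176493 (iv4 D113382) (iv5 F351739) (iv0 D113307) (iv5 D52302) D52300 D113302
theorem F353639 : act 4 n150245 = n113300 := d1_2 D113302 F353636 F176510
theorem F353640 : act 6 n113300 = n150255 := d10_2 (iv6 F236446) F353639 (iv4 D150255)
theorem F353641 : act 7 n113297 = n150245 := d11_0 F353639 (iv7 D113300) D113297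
theorem E101476 : n113300 = n105185 := (c18_6 D69173 D147590 F350742 F109588 D150245 F353639 (iv0 D105185) (iv4 F161096) F176499 (iv5 D69177))
theorem F353642 : act 2 n105185 = n52300 := (sb E101476 F176510)
theorem F353643 : act 4 n105185 = n150245 := (sb E101476 (iv4 F353639))
theorem F353644 : act 6 n105185 = n150255 := (sb E101476 F353640)
theorem F353645 : act 7 n105185 = n52299 := (sb E101476 (iv7 D113300))
theorem E101477 : n160746 = n140408 := (c5_3 F353643 F236445 D160746 (iv3 D140408) D140409 F223564)
theorem F353646 : act 1 n140408 = n124246 := (sb E101477 (iv0 F350715))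
theorem F353647 : act 2 n140408 = n174140 := (sb E101477 F300891)
theorem F353648 : act 4 n140408 = n77122 := (sb E101477 (iv4 D160746))
theorem F353649 : act 6 n140408 = n77132 := (sb E101477 F253900)
theorem E101478 : n160744 = n147154 := (c19_5 D113392 (iv5 F231075) F353643 F236445 D160744 (iv5 D147154) F105203 (iv3 D32404) (iv1 F50376) (iv5 F54584) (iv4 D34407) F41536 (iv1 D12431) (iv5 D5911) (iv4 F8853) (iv3 D5751) D5749 D12121 (iv4 F40201) (iv3 F82727))
theorem F353650 : act 1 n147154 = n77122 := (sb E101478 (iv0 D160744))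
theorem E101479 : n160773 = n140411 := (c7_2 F353649 D160773 (iv6 D140411) D140408)
theorem F353651 : act 1 n140411 = n174904 := (sb E101479 (iv0 F346353))
theorem F353652 : act 3 n140411 = n77132 := (sb E101479 (iv3 D160773))
theorem F353653 : act 7 n140411 = n174129 := (sb E101479 F300908)
theorem F353654 : act 4 n140392 = n160745 := d20_0 (iv1 D160745) (iv4 F353648) (iv3 D140408) (iv1 D65905) (iv3 D30841) (iv4 D14606) D14604 D30836 D65895 D140392
theorem F353655 : act 2 n160745 = n147449 := d1_1 F353654 F231236 F231239
theorem F353656 : act 1 n160745 = n166469 := d18_8 (iv1 F253766) (iv4 F347980) F346434 (iv4 F325852) F182080 F171193 F223525 F353654 F350703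
theorem F353657 : act 3 n160745 = n164030 := d20_3 (iv4 F101578) D140392 F353654 (iv1 F348615) (iv3 F172977) (iv4 F321480) F91864 (iv4 F92647) (iv3 F321411) (iv1 D112565)
theorem F353658 : act 6 n164027 = n160745 := d7_0 F353657 (iv6 D164030) D164027
theorem F353659 : act 1 n166469 = n147154 := d15_1 F353656 (iv7 F231235) (iv2 F353655)
theorem F353660 : act 2 n160747 = n166469 := d15_3 F353659 F353650 D160747
theorem F353661 : act 0 n147982 = n119021 := d19_8 (iv1 F353659) F350703 F253764 (iv3 F233860) (iv1 F248335) F350722 F243358 F243353 F334851 F334855 F349492 F329746 (iv5 F329749) F329748 (iv3 F169507) (iv1 F105182) F320996 F318907 (iv3 F230740)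
theorem E101480 : n172871 = n147152 := (c21_10 D147154 (iv1 F353659) F350703 (iv6 F253894) (iv1 F253896) D167581 F352179 (iv1 D174043) F128288 D172871 (iv1 D147152))
theorem F353662 : act 5 n147152 = n174040 := (sb E101480 (iv5 F272784))
theorem F353663 : act 6 n147152 = n82760 := (sb E101480 (iv6 D172871))
theorem F353664 : act 4 n172169 = n147152 := d10_3 F353663 F303451 D172169
theorem F353665 : act 3 n148827 = n172169 := d20_5 F50374 (iv1 F24867) (iv4 F51423) (iv3 F106151) (iv1 F233681) F353664 (iv1 D147152) F105203 (iv3 D32404) (iv1 F50376)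
theorem F353666 : act 6 n110624 = n148827 := d7_0 F353665 (iv6 D172169) (iv3 F332152)
theorem E101481 : n148827 = n148821 := (c3_1 F353666 F233678 (iv6 F347911) F175159)
theorem F353667 : act 0 n148821 = n69752 := (sb E101481 (iv1 D148827))
theorem F353668 : act 1 n148821 = n69753 := (sb E101481 F233681)
theorem F353669 : act 3 n148821 = n172169 := (sb E101481 F353665)
theorem F353670 : act 6 n148821 = n110624 := (sb E101481 (iv6 F353666))
theorem F353671 : act 5 n148821 = n110623 := d12_1 (iv6 F353670) (iv6 D110623) (iv5 D51009) D51010 D110624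
theorem F353672 : act 6 n178550 = n112771 := d14_5 F175573 (iv6 F353670) (iv7 D148821) F347823 (iv7 F278249)
theorem F353673 : act 6 n157704 = n180609 := d21_3 (iv5 F229430) (iv1 F229434) D157704 (iv1 D180609) F132222 (iv5 D56254) (iv1 F326506) D110624 (iv6 F353670) F353667
theorem F353674 : act 6 n180601 = n125095 := d21_3 (iv5 D86266) D86264 D180601 (iv1 F200965) F113853 (iv5 F229430) (iv1 F229434) D157704 F353673 (iv1 D180609)
theorem E101482 : n157704 = n145782 := (c21_10 (iv5 F182682) F248415 (iv5 D148819) F347823 (iv1 F130428) D85132 F328010 D110587 F330805 (iv6 F353673) (iv1 D145782))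
theorem F353675 : act 5 n145782 = n75137 := (sb E101482 (iv5 D157704))
theorem F353676 : act 6 n145782 = n180609 := (sb E101482 F353673)
theorem F353677 : act 7 n157572 = n145782 := d13_0 F353675 F248504 F347968
theorem F353678 : act 3 n145782 = n157576 := d8_1 F353677 (iv7 D157576) (iv3 F248333)
theorem F353679 : act 5 n157576 = n157702 := d6_2 (iv5 F353675) F353678 (iv3 D157702)
theorem E101483 : n153282 = n151627 := ((c20_1 F350730 (iv1 F240829) (iv4 F248339) (iv3 F353678) (iv1 D145782) (iv3 D68349) F50108 (iv1 F27318) D34407 D75132 (iv1 F350729))).symm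
theorem F353680 : act 0 n151627 = n75018 := (sb E101483 (iv1 F240829))
theorem F353681 : act 1 n151627 = n72409 := (sb E101483 (iv0 D153282))
theorem F353682 : act 6 n151627 = n154404 := (sb E101483 F242462)
theorem F353683 : act 2 n154404 = n157581 := d3_1 F353682 (iv6 D157581) (iv2 F350760)
theorem F353684 : act 3 n154404 = n151629 := d7_1 F353682 (iv6 D151629) D151627
theorem F353685 : act 5 n151629 = n154402 := d6_2 D154404 F353684 (iv3 D154402)
theorem F353686 : act 4 n154402 = n152006 := d16_2 (iv4 F238497) F353685 (iv5 D152006) F108159 (iv5 F85351) (iv4 F318958) D121330 F193460 F335463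
theorem F353687 : act 2 n154508 = n154402 := d1_3 F353686 F338134 D154508
theorem E101484 : n154401 = n153830 := ((c2_3 D154404 F353683 F248344 F242461)).symm
theorem F353688 : act 2 n153830 = n73135 := (sb E101484 F242461)
theorem F353689 : act 7 n153830 = n73134 := (sb E101484 (iv7 D154401))
theorem F353690 : act 7 n185247 = n154404 := d15_2 F313124 D185247 F353683
theorem E101485 : n154396 = n153829 := (c13_3 F353690 (iv5 D154404) F242460 F310884)
theorem E101486 : n185069 = n73134 := ((F337985).symm.trans (sb E101485 (iv2 D154396)))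
theorem F353691 : act 7 n153829 = n73135 := (sb E101485 (iv7 F242460))
theorem F353692 : act 2 n73134 = n153829 := (sb E101486 (iv2 F337985))
theorem E101487 : n183896 = n154398 := (((D154398).symm.trans (sb E101486 F287454))).symm
theorem E101488 : n154400 = n88212 := ((D154400).symm.trans (sb E101486 (iv6 D185069)))
theorem F353693 : act 0 n154398 = n138067 := (sb E101487 F345939)
theorem F353694 : act 2 n154398 = n88314 := (sb E101487 F285730)
theorem F353695 : act 5 n154398 = n95425 := (sb E101487 (iv5 F294942))
theorem F353696 : act 6 n154398 = n87721 := (sb E101487 (iv6 D183896))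
theorem F353697 : act 6 n88212 = n73134 := (sb E101488 (iv6 D154400))
theorem F353698 : act 6 n154397 = n185068 := d7_2 F353697 D154397 (iv3 D185068)
theorem F353699 : act 0 n154399 = n89238 := d21_7 (iv5 D19257) F17307 D22822 F337962 D88212 F353697 D154399 F136964 (iv6 D87712) (iv1 D40857)
theorem F353700 : act 0 n154391 = n183877 := d21_4 F241679 (iv1 F109252) D73132 D154391 (iv6 D183877) (iv5 F137172) (iv1 F283687) F283685 F353697 (iv1 F241682)
theorem F353701 : act 0 n185249 = n154399 := d21_7 (iv5 F133505) D182195 F283639 F337927 F337917 (iv6 F337919) (iv5 F287546) (iv5 D154399) (iv6 F353697) (iv1 F135152)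
theorem F353702 : act 6 n111154 = n185249 := d21_9 (iv5 D154399) (iv1 F241682) F241679 (iv6 F198121) (iv1 F198123) D123724 (iv5 F336362) (iv1 D111152) D111154 F353701
theorem F353703 : act 2 n185249 = n154281 := d3_1 F353702 (iv6 D154281) (iv2 F335400)
theorem F353704 : act 3 n185249 = n111156 := d7_1 F353702 (iv6 D111156) (iv3 F172402)
theorem E101489 : n183878 = n153822 := ((c21_1 D153822 (iv1 F285705) (iv5 F287546) (iv6 F353702) F336369 (iv6 D57645) (iv5 D27539) (iv1 F21942) D16222 D33570 D72763)).symm
theorem F353705 : act 0 n153822 = n88270 := (sb E101489 (iv1 F285705))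
theorem F353706 : act 1 n153822 = n87712 := (sb E101489 (iv0 D183878))
theorem F353707 : act 5 n111156 = n185227 := d6_2 (iv5 F287546) F353704 F287539
theorem F353708 : act 7 n111156 = n185226 := d8_2 D185249 F353704 F287538
theorem F353709 : act 4 n185226 = n134288 := d11_1 F353708 (iv7 D134288) (iv4 F172404)
theorem F353710 : act 1 n185227 = n123825 := d17_6 D27560 D57715 D123855 F329808 (iv4 F172404) F353707 (iv5 D123825) (iv0 D57708) F44467
theorem F353711 : act 0 n185227 = n123830 := d21_7 (iv5 D29819) (iv1 F47967) F329637 F329428 F100738 D111156 F353707 (iv5 D123830) (iv6 F341484) (iv1 F98322)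
theorem F353712 : act 1 n185216 = n123830 := d15_0 (iv0 F353711) (iv7 D185227) (iv2 F287535)
theorem F353713 : act 1 n123825 = n185216 := d15_0 F353712 F341500 F341498
theorem F353714 : act 1 n154281 = n157581 := d15_0 F313124 D185249 F353703
theorem F353715 : act 4 n154443 = n154371 := d17_4 (iv1 F352433) F287447 (iv1 F285261) (iv5 F310362) F242449 F353714 F248344 F241675 (iv4 F242464)
theorem F353716 : act 7 n183877 = n154443 := d11_0 F353715 F352351 (iv4 F285701)
theorem F353717 : act 5 n183532 = n183877 := d13_3 F353716 F310362 (iv7 F286528)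
theorem F353718 : act 1 n184962 = n183877 := d15_1 D184962 F353716 F310361
theorem F353719 : act 1 n185233 = n154443 := d15_1 D185233 (iv7 F353716) F285700
theorem F353720 : act 6 n185233 = n153827 := d21_5 F306447 (iv1 F306445) (iv5 D154442) D154443 (iv1 F353719) (iv5 D153827) (iv1 D72764) D72765 F109249 D72776
theorem F353721 : act 5 n185233 = n134222 := d21_8 F349804 (iv1 D123672) D123673 F198099 (iv1 F240103) F306922 (iv5 F310362) (iv1 F353719) (iv6 D134222) (iv1 F168768)
theorem E101490 : n153828 = n134130 := ((c12_4 (iv6 F353720) F353721 (iv6 D134222) (iv5 F349806) (iv6 D153828) D153827)).symm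
theorem F353722 : act 6 n134130 = n72764 := (sb E101490 (iv6 D153828))
theorem F353723 : act 0 n134222 = n154409 := d17_2 (iv1 F353719) F353721 (iv5 D154409) (iv4 D73136) (iv5 D33683) D33682 D73132 F242453 (iv4 F353715)
theorem E101491 : n154519 = n72776 := (c21_6 F353721 F353723 (iv5 D154409) F109622 D73191 D154519 F306447 (iv1 F306445) (iv5 D154442) D154443 (iv1 F353719))
theorem E101492 : n153859 = n73191 := ((D153859).symm.trans (sb E101491 (iv6 D154519)))
theorem E101493 : n154517 = n73185 := ((D154517).symm.trans (sb E101492 F241750))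
theorem E101494 : n184673 = n147848 := ((((iv5 F231622)).symm.trans (sb E101492 F308327))).symm
theorem F353724 : act 6 n73191 = n72776 := (sb E101492 (iv6 D153859))
theorem F353725 : act 2 n73185 = n73191 := (sb E101493 (iv2 D154517))
theorem E101495 : n154504 = n73192 := ((D154504).symm.trans (sb E101493 (iv7 F242552)))
theorem F353726 : act 1 n147848 = n88257 := (sb E101494 (iv0 F286664))
theorem F353727 : act 6 n147848 = n88059 := (sb E101494 (iv6 D184673))
theorem F353728 : act 7 n73192 = n73185 := (sb E101495 (iv7 D154504))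
theorem F353729 : act 7 n154496 = n154521 := d8_2 F353728 (iv3 F242541) (iv3 D154521)
theorem F353730 : act 7 n154500 = n147855 := d11_2 F353728 (iv4 F242548) (iv4 F231628)
theorem F353731 : act 7 n154503 = n147816 := d13_2 F353728 D154503 F231629
theorem E101496 : n185158 = n73192 := (c14_6 F353728 (iv6 D73185) (iv7 F233822) D153862 F308379 D185158)
theorem E101497 : n185201 = n147816 := ((((iv5 F231629)).symm.trans (sb E101496 F287528))).symm
theorem E101498 : n154522 = n88240 := ((D154522).symm.trans (sb E101496 (iv6 D185158)))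
theorem F353732 : act 0 n147816 = n88257 := (sb E101497 (iv1 D185201))
theorem F353733 : act 1 n147816 = n111155 := (sb E101497 F352346)
theorem E101499 : n185156 = n183909 := ((D185156).symm.trans (sb E101498 (iv4 F338017)))
theorem F353734 : act 6 n88240 = n73192 := (sb E101498 (iv6 D154522))
theorem E101500 : n185507 = n153862 := ((((iv7 F308379)).symm.trans (sb E101498 (iv7 F338020)))).symm
theorem F353735 : act 4 n183909 = n88240 := (sb E101499 (iv4 D185156))
theorem F353736 : act 4 n153862 = n88366 := (sb E101500 (iv4 D185507))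
theorem E101501 : n153863 = n73185 := (c15_2 F241756 F241755 (iv7 F353728) (iv2 F338011))
theorem E101502 : n154501 = n73195 := ((D154501).symm.trans (sb E101501 (iv1 F241755)))
theorem E101503 : n154502 = n72778 := ((D154502).symm.trans (sb E101501 (iv0 D153863)))
theorem F353737 : act 1 n73195 = n73185 := (sb E101502 (iv0 D154501))
theorem F353738 : act 0 n72778 = n73185 := (sb E101503 (iv1 D154502))
theorem F353739 : act 4 n147414 = n154503 := d16_6 F338008 (iv5 F307392) F192134 F87809 D69106 D147414 (iv5 D154503) (iv7 F353728) (iv2 F338011)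
theorem F353740 : act 2 n154503 = n147848 := d1_1 F353739 (iv4 D147848) (iv2 F231161)
theorem F353741 : act 5 n154500 = n104134 := d16_3 F353739 (iv5 D154503) (iv4 F242548) F307368 (iv5 D69102) D69101 D147408 F231141 (iv2 F231161)
theorem F353742 : act 0 n154503 = n185203 := d17_0 F287530 (iv1 F337929) (iv5 F231524) (iv4 F231523) (iv5 D73342) F109792 D154604 F242694 F353739
theorem F353743 : act 1 n154500 = n124672 := d18_6 (iv1 F338001) (iv4 F337999) F242704 F353739 (iv5 D154503) (iv4 F242548) F242547 F242545 F231492
theorem F353744 : act 1 n154503 = n93347 := d18_6 (iv1 F105398) F51141 (iv1 F51103) D69106 D147414 F353739 F336314 F242690 (iv5 D147389)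
theorem F353745 : act 2 n147825 = n154500 := d16_9 F242548 D154503 (iv4 F353739) (iv5 D147414) (iv4 D69106) (iv5 F87809) (iv4 F192134) F307392 (iv7 F307391)
theorem F353746 : act 6 n153858 = n147825 := d3_0 F353745 (iv6 D154500) (iv2 F241748)
theorem F353747 : act 5 n184287 = n153858 := d12_5 F353746 (iv5 D147825) F305363 D87898 D184287
theorem E101504 : n183908 = n154512 := (c14_5 (iv7 F241749) F353746 F307391 (iv6 D185513) (iv7 F338022) (iv6 D154512))
theorem F353748 : act 0 n154512 = n88365 := (sb E101504 F329979)
theorem F353749 : act 1 n154512 = n87727 := (sb E101504 (iv0 D183908))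
theorem F353750 : act 2 n154512 = n88366 := (sb E101504 F338021)
theorem F353751 : act 7 n154512 = n88367 := (sb E101504 F338022)
theorem E101505 : n185512 = n154516 := (c11_2 F353751 D185512 (iv7 D154516) (iv4 F242551))
theorem F353752 : act 4 n154516 = n88367 := (sb E101505 (iv4 D185512))
theorem F353753 : act 6 n154516 = n153864 := (sb E101505 F338010)
theorem E101506 : n185509 = n153861 := (c3_3 D154512 F353750 D185509 F241752)
theorem F353754 : act 6 n153861 = n88366 := (sb E101506 (iv6 D185509))
theorem E101507 : n184986 = n95442 := (c21_10 (iv5 D87717) (iv1 F61968) D40865 D87727 (iv1 F353749) (iv6 D154512) F231492 (iv1 F338001) (iv5 D184985) D184986 (iv1 F147068))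
theorem F353755 : act 6 n95442 = n88181 := (sb E101507 (iv6 D184986))
theorem E101508 : n184985 = n103372 := (c12_2 F353755 D184985 (iv6 D103372) (iv5 D47902) D47903 (iv5 F294189))
theorem F353756 : act 0 n103372 = n147762 := (sb E101508 F338000)
theorem F353757 : act 1 n103372 = n147747 := (sb E101508 F338001)
theorem F353758 : act 4 n103372 = n154608 := (sb E101508 (iv4 F337999))
theorem F353759 : act 5 n103372 = n88181 := (sb E101508 (iv5 D184985))
theorem F353760 : act 0 n154500 = n149129 := d21_10 (iv5 D149129) F308455 D72814 (iv6 F308465) D95442 F353755 (iv5 F353759) F353756 F231507 D154500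
theorem F353761 : act 6 n153939 = n185378 := d21_3 D88183 D184992 (iv5 F337995) (iv1 D185378) (iv6 D88314) (iv5 F63431) (iv1 F293172) (iv5 F294189) F353755 (iv1 D88181)
theorem F353762 : act 4 n185378 = n153371 := d10_1 F353761 F240938 D153939
theorem E101509 : n185266 = n183491 := ((c21_2 F135224 D183491 (iv5 D185266) (iv6 D88276) (iv1 D41195) (iv6 F62355) D88183 D184992 (iv5 F337995) F353761 (iv1 D185378))).symm
theorem F353763 : act 5 n183491 = n88276 := (sb E101509 (iv5 D185266))
theorem F353764 : act 6 n154608 = n93349 := d10_2 D103372 F353758 F294123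
theorem F353765 : act 6 n93439 = n147814 := d3_2 F353764 F144138 (iv2 F242702)
theorem F353766 : act 3 n155781 = n154608 := d7_3 F353764 F336637 D155781
theorem F353767 : act 5 n103319 = n147194 := d12_3 F353764 F294124 D103319 (iv6 F237033) D154608
theorem F353768 : act 5 n154606 = n155781 := d6_0 F353766 (iv5 D154608) D154606
theorem F353769 : act 0 n155884 = n155781 := d20_4 F131410 (iv1 F94466) (iv4 F110861) D155884 F353766 (iv4 F353758) F353756 (iv4 D147762) F334592 (iv1 F167443)
theorem F353770 : act 6 n107608 = n154606 := d12_0 F353768 (iv6 D155781) (iv5 F324691) (iv6 F323326) D107608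
theorem F353771 : act 2 n154606 = n107716 := d3_1 F353770 (iv6 D107716) (iv2 F166031)
theorem E101510 : n154606 = n114074 := (c10_1 F353770 (iv4 D114074) (iv6 F323566) (iv4 F166032))
theorem F353772 : act 2 n114074 = n107716 := (sb E101510 F353771)
theorem F353773 : act 3 n114074 = n73288 := (sb E101510 (iv3 D154606))
theorem F353774 : act 5 n114074 = n155781 := (sb E101510 F353768)
theorem F353775 : act 6 n114074 = n107608 := (sb E101510 (iv6 F353770))
theorem F353776 : act 0 n114074 = n152183 := d21_4 F78630 (iv1 F78548) D107608 (iv6 F353775) (iv6 D152183) (iv5 F127756) (iv1 D82917) F59001 (iv6 F325429) F97739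
theorem F353777 : act 4 n114821 = n114142 := d20_0 (iv1 F177753) F319017 (iv3 D73341) (iv1 F109788) (iv3 F353773) (iv4 D114074) (iv1 D52649) (iv4 F83195) (iv3 F83712) D114821
theorem E101511 : n146553 = n114142 := ((c20_3 (iv4 F83713) D114821 F353777 F229859 F189375 F317055 (iv4 F290275) (iv1 F311468) D81723 (iv3 F316379) (iv1 D52986))).symm
theorem F353778 : act 3 n114142 = n68694 := (sb E101511 F229859)
theorem E101512 : n146160 = n114821 := ((((iv4 F353777)).symm.trans (sb E101511 F229860))).symm
theorem F353779 : act 6 n114142 = n68692 := (sb E101511 (iv6 D146553))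
theorem F353780 : act 3 n114821 = n68536 := (sb E101512 F229417)
theorem F353781 : act 5 n114821 = n176095 := (sb E101512 (iv5 F334751))
theorem F353782 : act 6 n114821 = n68535 := (sb E101512 (iv6 D146160))
theorem F353783 : act 0 n114821 = n175842 := d21_4 F322754 (iv1 D69786) (iv5 F104730) (iv6 F353782) (iv6 D175842) (iv5 F319800) D90575 (iv5 F142259) (iv6 F321000) (iv1 F322752)
theorem F353784 : act 4 n175842 = n93851 := d20_2 (iv4 F353777) F353783 (iv3 F193439) (iv1 F193443) (iv3 F322982) (iv4 F177921) (iv1 D114176) (iv4 D52703) (iv3 F83260) D114142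
theorem F353785 : act 0 n121323 = n151320 := d20_1 D121323 F238042 (iv3 F114716) (iv1 F316588) (iv3 F353778) (iv4 F353777) F353783 F353784 (iv3 F193439) (iv1 F193443)
theorem F353786 : act 2 n114824 = n175842 := d15_3 (iv0 F353783) (iv0 D114821) D114824
theorem F353787 : act 7 n175842 = n114814 := d4_2 D114824 F353786 F178886
theorem F353788 : act 1 n114822 = n175842 := d15_1 D114822 F353787 F178886
theorem F353789 : act 5 n114822 = n176094 := d21_0 (iv1 F275352) (iv5 F272043) (iv6 D173594) (iv1 F127947) D83866 F319946 (iv1 D90576) F319800 D175842 (iv1 F353788)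
theorem F353790 : act 0 n173356 = n166197 := d21_4 (iv5 F353789) (iv1 D114822) D114823 F337535 (iv6 D166197) (iv5 D79797) (iv1 F298927) D38690 (iv6 F128968) D176094
theorem F353791 : act 1 n173356 = n176128 := d15_1 (iv0 F353790) (iv7 D176128) (iv2 F302334)
theorem F353792 : act 1 n136915 = n166197 := d15_0 (iv0 F353790) F337519 (iv2 F337531)
theorem F353793 : act 1 n176128 = n136915 := d15_0 F353792 F344771 F344772
theorem F353794 : act 0 n98237 = n133141 := d21_10 F315040 (iv1 F353792) F337532 (iv6 F337529) F315056 D123967 (iv5 F322580) (iv1 F336009) (iv5 D98236) D98237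
theorem F353795 : act 5 n176128 = n167616 := d21_2 (iv5 F337532) (iv1 F353793) (iv6 D167616) (iv1 F344791) (iv6 F344795) F342124 F318159 F315960 (iv6 F303408) F303405
theorem F353796 : act 6 n176128 = n175969 := d21_5 (iv5 F322560) (iv1 F323484) (iv5 F324341) D136915 (iv1 F353793) (iv5 D175969) (iv1 F342676) (iv5 F344781) F344782 (iv1 D127156)
theorem F353797 : act 3 n124631 = n176128 := d7_3 F353796 F275307 F199338
theorem F353798 : act 7 n167616 = n162702 := d13_2 D176128 F353795 F303621
theorem F353799 : act 3 n162702 = n121958 := d8_1 F353798 F194736 (iv3 F263870)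
theorem F353800 : act 1 n98237 = n167616 := d15_1 (iv0 F353794) F353798 (iv2 F315039)
theorem F353801 : act 4 n171033 = n162702 := d5_0 F353799 (iv4 D121958) (iv3 F298991) (iv4 F126394) (iv3 F268752)
theorem F353802 : act 4 n133141 = n100828 := d1_2 F353801 (iv2 F315039) (iv2 F268751)
theorem F353803 : act 1 n176083 = n114828 := d17_6 D114821 F353781 (iv1 D176095) (iv5 D84005) (iv4 F128967) D176083 (iv5 D114828) (iv0 D52985) (iv4 F83713)
theorem F353804 : act 0 n175814 = n114829 := d21_4 (iv5 F319735) (iv1 D133519) (iv5 F319761) D175814 (iv6 D114829) D114828 (iv1 F353803) (iv5 D176083) (iv6 D84002) (iv1 F128007)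
theorem F353805 : act 1 n175814 = n142082 := d15_1 (iv0 F353804) F225107 F352410
theorem E101513 : n164300 = n114142 := (c0_6 F353778 (iv2 F183790) F337880 F324749 D78919 D164300)
theorem F353806 : act 2 n114142 = n78919 := (sb E101513 (iv2 D164300))
theorem F353807 : act 2 n164301 = n114821 := d1_3 F353777 F353806 D164301
theorem E101514 : n164303 = n146551 := (c3_3 (iv6 F353779) F353806 D164303 (iv2 D146551))
theorem F353808 : act 3 n146551 = n78922 := (sb E101514 F258932)
theorem F353809 : act 6 n146551 = n78919 := (sb E101514 (iv6 D164303))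
theorem E101515 : n164271 = n114143 := ((c15_2 (iv0 D114142) D114143 F323420 (iv2 F353806))).symm
theorem F353810 : act 3 n114143 = n78911 := (sb E101515 (iv3 D164271))
theorem F353811 : act 4 n114143 = n114822 := (sb E101515 F258914)
theorem F353812 : act 7 n114143 = n78919 := (sb E101515 F323420)
theorem F353813 : act 7 n164301 = n114822 := d11_2 F353812 D164301 (iv4 F353811)
theorem F353814 : act 1 n114837 = n114139 := d18_6 (iv1 F177754) F353811 (iv1 D114822) F83713 D52987 D114837 (iv4 D114139) F142464 F142462
theorem F353815 : act 3 n114822 = n170733 := d20_9 (iv4 F195631) F334635 F342203 F342205 (iv1 F109792) D73341 (iv4 F319017) (iv1 F177754) F353811 (iv1 D170733)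
theorem F353816 : act 1 n114134 = n114837 := d15_0 F353814 F352387 (iv2 F352380)
theorem F353817 : act 6 n164301 = n146159 := d10_2 F353809 D164301 (iv4 F229857)
theorem E101516 : n164318 = n146540 := (c8_3 F252112 F353808 D164318 (iv3 F252110))
theorem F353818 : act 0 n146540 = n133456 := (sb E101516 (iv1 F346152))
theorem F353819 : act 7 n146540 = n78922 := (sb E101516 (iv7 D164318))
theorem E101517 : n152392 = n146539 := ((c15_1 D146539 F348621 (iv7 F353819) (iv2 D146540))).symm
theorem F353820 : act 1 n146539 = n78922 := (sb E101517 F348621)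
theorem F353821 : act 5 n146539 = n152494 := (sb E101517 (iv5 F239675))
theorem F353822 : act 6 n146539 = n71891 := (sb E101517 (iv6 D152392))
theorem F353823 : act 2 n114998 = n146539 := d3_3 F353822 F333226 D114998
theorem F353824 : act 7 n133456 = n146539 := d14_0 F353822 (iv7 F339744) F339743 (iv7 F97700) D133456
theorem E101518 : n164386 = n130675 := (c4_3 F353824 (iv2 F353823) (iv7 F259040) (iv2 F214614))
theorem F353825 : act 3 n130675 = n78951 := (sb E101518 (iv3 D164386))
theorem F353826 : act 7 n130675 = n114998 := (sb E101518 F259040)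
theorem E101519 : n146538 = n130675 := ((c15_4 (iv0 D146538) D146539 (iv7 F353824) F214614)).symm
theorem F353827 : act 1 n130675 = n68689 := (sb E101519 (iv0 D146538))
theorem E101520 : n164317 = n130675 := (c15_1 D164317 F353827 (iv7 F183789) F346138)
theorem F353828 : act 0 n130675 = n78922 := (sb E101520 (iv1 D164317))
theorem E101521 : n159889 = n115024 := (c20_9 F178562 (iv1 F161861) F161863 (iv3 F353825) F353828 (iv3 F353808) F229857 (iv1 F229416) D159889 F179120 (iv1 F178563))
theorem F353829 : act 1 n115024 = n140741 := (sb E101521 (iv0 F252121))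
theorem F353830 : act 4 n115024 = n76542 := (sb E101521 (iv4 D159889))
theorem F353831 : act 7 n175814 = n115024 := d11_0 F353830 F327894 (iv4 F275224)
theorem F353832 : act 1 n146540 = n114998 := d15_1 (iv0 F353818) (iv7 F353826) (iv2 F214614)
theorem F353833 : act 0 n175939 = n111443 := d17_0 (iv5 D111443) D111440 F351725 F321008 (iv5 F239358) F239361 (iv5 F346145) F353832 (iv4 F342076)
theorem E101522 : n114991 = n93849 := ((c20_1 F343350 (iv1 D114991) (iv4 F334786) D175939 F353833 F172953 (iv4 F100452) F100453 F80480 (iv3 F105257) (iv1 F230553))).symm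
theorem F353834 : act 0 n93849 = n53057 := (sb E101522 (iv1 D114991))
theorem F353835 : act 3 n116413 = n93849 := d20_3 F225716 (iv1 F224494) F224491 F353834 F83763 (iv4 F83764) (iv1 F161760) F163450 F326246 D142823
theorem E101523 : n114986 = n90544 := (c21_8 F133593 (iv1 F63626) (iv5 F68970) D93849 F353834 (iv6 D53057) D53056 D114986 F326545 (iv6 F326546) D87035)
theorem F353836 : act 1 n90544 = n53056 := (sb E101523 (iv0 D114986))
theorem F353837 : act 1 n93849 = n175936 := d15_1 (iv0 F353834) (iv7 F334785) F179065
theorem E101524 : n176511 = n53057 := (c15_1 D176511 (iv0 F353834) (iv7 F334777) F330299)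
theorem E101525 : n114990 = n84161 := ((D114990).symm.trans (sb E101524 (iv1 D176511)))
theorem F353838 : act 1 n84161 = n53057 := (sb E101525 (iv0 D114990))
theorem E101526 : n176510 = n175936 := ((c15_4 (iv0 D176510) F353838 D114993 F334780)).symm
theorem F353839 : act 1 n175936 = n84161 := (sb E101526 (iv0 D176510))
theorem E101527 : n175668 = n114987 := (c21_1 D175668 (iv1 D114987) (iv5 D53056) D53057 (iv1 F353838) (iv6 D84161) F321097 F318970 (iv5 D38687) (iv6 F59437) D83867)
theorem F353840 : act 5 n114987 = n83867 := (sb E101527 (iv5 D175668))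
theorem F353841 : act 7 n92808 = n114987 := d13_0 F353840 (iv7 F326542) (iv5 F143160)
theorem F353842 : act 0 n175935 = n146669 := d20_4 (iv4 F129198) (iv1 F353839) (iv4 D175936) D175935 (iv3 D146669) (iv4 D68739) F50758 D32071 D68961 (iv1 F343354)
theorem F353843 : act 4 n137891 = n175935 := d20_6 (iv4 D59851) F50916 (iv4 F85433) D117431 F329160 (iv3 F221117) F353842 (iv4 F328577) (iv3 D137440) (iv1 F328461)
theorem F353844 : act 3 n175936 = n137932 := d5_3 F353843 (iv3 D175935) D175936 (iv4 D137932) (iv3 F221117)
theorem F353845 : act 0 n178691 = n137891 := d20_10 F353843 F353842 (iv4 F328577) (iv3 D137440) (iv1 F328461) (iv3 F329603) (iv4 F329750) F94317 (iv4 F324387) (iv3 F348479)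
theorem F353846 : act 5 n147374 = n175935 := d18_4 (iv1 D126348) F93465 D125993 F231093 (iv4 F353843) (iv0 F353845) F278511 D178693 (iv5 F352278)
theorem F353847 : act 3 n125404 = n147374 := d6_3 F353846 (iv3 D175935) (iv5 F353633)
theorem F353848 : act 4 n125800 = n125404 := d5_0 F353847 (iv4 F231093) F202671 (iv4 D125801) D125800
theorem F353849 : act 2 n137932 = n159732 := d0_1 F353844 F258981 (iv2 F161764) (iv3 F179070) F334780
theorem F353850 : act 7 n137932 = n151554 := d8_2 F334785 F353844 F259144
theorem F353851 : act 6 n147286 = n103056 := d12_4 F353765 F231577 (iv6 D147287) D147286 F336626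
theorem E101528 : n153917 = n147817 := (c21_3 F206314 (iv1 F109331) D153917 (iv6 D147817) D147814 (iv6 F353765) (iv5 F336626) F158314 F292274 (iv6 F343442) (iv1 F241914))
theorem F353852 : act 0 n147817 = n149280 := (sb E101528 (iv1 F241907))
theorem F353853 : act 1 n147817 = n149279 := (sb E101528 F241908)
theorem F353854 : act 2 n147817 = n79810 := (sb E101528 F241905)
theorem F353855 : act 5 n147817 = n72828 := (sb E101528 (iv5 D153917))
theorem F353856 : act 7 n147817 = n128121 := (sb E101528 F241906)
theorem F353857 : act 6 n174421 = n147414 := d14_3 F353856 (iv6 F343434) (iv7 F332014) F231162 D147817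
theorem F353858 : act 6 n154503 = n100941 := d10_2 F353857 F353739 F332012
theorem F353859 : act 3 n100947 = n154503 := d7_3 F353858 F155075 D100947
theorem F353860 : act 5 n154496 = n100947 := d6_0 F353859 (iv5 D154503) (iv3 F242541)
theorem F353861 : act 6 n167767 = n133782 := d21_3 (iv5 F353855) F353852 F264139 (iv1 F311276) (iv6 F151511) F312593 (iv1 F330193) F330196 F109556 (iv1 F109331)
theorem F353862 : act 2 n152154 = n167767 := d3_3 F353861 F215414 D152154
theorem F353863 : act 5 n166216 = n152154 := d2_0 F353862 (iv5 F264139) (iv2 F264136)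
theorem F353864 : act 7 n167766 = n152154 := d4_0 F353862 F264137 F264131
theorem F353865 : act 1 n152154 = n149369 := d15_0 (iv0 F239788) (iv7 F264137) (iv2 F353862)
theorem F353866 : act 1 n167761 = n152154 := d15_0 F353865 F234857 (iv2 F264111)
theorem E101529 : n157132 = n130375 := (c18_5 (iv1 D79846) D79847 D166278 (iv4 F346253) (iv5 F346259) (iv4 F239207) F353865 (iv4 D149369) F206211 (iv5 F188473))
theorem F353867 : act 0 n130375 = n74706 := (sb E101529 (iv1 D157132))
theorem F353868 : act 1 n130375 = n139270 := (sb E101529 F247272)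
theorem F353869 : act 5 n130375 = n116402 := (sb E101529 F346259)
theorem F353870 : act 0 n152159 = n178122 := d20_7 F115927 (iv1 F121321) (iv4 F123765) (iv3 F234856) (iv1 F353865) F239206 (iv4 F239223) (iv4 F302492) F249485 F299526
theorem E101530 : n152161 = n130901 := ((c20_10 (iv4 F239223) F353870 (iv4 F302492) F249485 F299526 F311790 F97354 (iv1 F47476) D61413 D130901 (iv1 D152161))).symm
theorem F353871 : act 0 n130901 = n71759 := (sb E101530 (iv1 D152161))
theorem F353872 : act 1 n130901 = n135409 := (sb E101530 F239224)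
theorem E101531 : n172370 = n152160 := (c15_4 (iv0 D152160) (iv0 F353871) F209484 F339290)
theorem F353873 : act 2 n152160 = n129581 := (sb E101531 (iv2 F339290))
theorem F353874 : act 3 n152160 = n82543 := (sb E101531 F270599)
theorem F353875 : act 6 n152160 = n82540 := (sb E101531 (iv6 D172370))
theorem F353876 : act 0 n165647 = n135368 := d21_7 F95486 D61337 F211937 D71759 D152160 F353875 (iv5 F322455) (iv5 D135368) (iv6 D63630) F212147
theorem E101532 : n172367 = n150241 := ((c21_10 (iv5 F322455) F353876 (iv5 D135368) (iv6 D63630) F212147 (iv6 F310113) F151698 D120670 F192361 D150241 (iv1 D172367))).symm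
theorem F353877 : act 0 n150241 = n82540 := (sb E101532 (iv1 D172367))
theorem E101533 : n153591 = n119231 := (c20_2 (iv4 F109160) D153591 F187666 (iv3 D118233) (iv1 F190193) (iv3 F126424) (iv4 F236443) F353877 D172368 (iv3 F304715) F304714)
theorem F353878 : act 1 n119231 = n72624 := (sb E101533 (iv0 D153591))
theorem F353879 : act 0 n158137 = n127999 := d20_4 D172368 (iv1 F310670) F302450 (iv3 F249086) (iv3 D127999) F188367 (iv1 F190160) (iv4 F107187) (iv3 F236442) F353877
theorem F353880 : act 5 n124475 = n163075 := d21_0 (iv1 D163075) (iv5 D78410) (iv6 F60203) D84830 (iv6 F341201) F341200 F353877 (iv5 F322455) F306734 (iv1 F199104)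
theorem F353881 : act 1 n150241 = n180218 := d15_1 (iv0 F353877) (iv7 F318544) F255707
theorem F353882 : act 2 n167758 = n172366 := d15_3 (iv0 D172366) (iv0 F353877) (iv7 F264102)
theorem E101534 : n172366 = n152142 := (c1_2 F302434 F353882 F306770 F253114)
theorem F353883 : act 1 n152142 = n82540 := (sb E101534 (iv0 D172366))
theorem F353884 : act 2 n152142 = n167758 := (sb E101534 (iv2 F353882))
theorem F353885 : act 7 n152142 = n125355 := d4_2 (iv7 F264102) (iv2 F353884) F330647
theorem F353886 : act 1 n167758 = n161708 := d15_0 (iv0 F339280) (iv7 F353885) F353884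
theorem F353887 : act 2 n180218 = n172152 := d15_3 F339283 F353886 F318544
theorem F353888 : act 1 n180218 = n152142 := d15_0 F353883 (iv7 F314492) (iv2 F353887)
theorem E101535 : n125347 = n125274 := (c13_3 F353885 (iv5 D125355) F201626 F345820)
theorem F353889 : act 2 n125274 = n58699 := (sb E101535 (iv2 D125347))
theorem F353890 : act 7 n125274 = n58700 := (sb E101535 (iv7 F201626))
theorem E101536 : n125352 = n125273 := (c15_4 (iv0 D125273) D125274 F353890 (iv2 F201627))
theorem F353891 : act 2 n125273 = n58700 := (sb E101536 F201627)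
theorem F353892 : act 7 n125273 = n58699 := (sb E101536 (iv7 D125352))
theorem E101537 : n167759 = n125348 := ((c8_2 F353892 D125348 F264104 (iv3 F344668))).symm
theorem F353893 : act 0 n125348 = n153595 := (sb E101537 F264105)
theorem F353894 : act 1 n125348 = n153594 := (sb E101537 F264106)
theorem F353895 : act 2 n125348 = n150666 := (sb E101537 F264103)
theorem F353896 : act 5 n125348 = n80502 := (sb E101537 (iv5 D167759))
theorem F353897 : act 7 n125348 = n150242 := (sb E101537 F264104)
theorem E101538 : n167758 = n125350 := ((c13_2 F353892 D125350 F264102 (iv5 F341200))).symm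
theorem F353898 : act 0 n125350 = n172152 := (sb E101538 (iv1 F339283))
theorem F353899 : act 1 n125350 = n161708 := (sb E101538 F353886)
theorem F353900 : act 2 n125350 = n152142 := (sb E101538 (iv2 F353884))
theorem F353901 : act 3 n125350 = n80502 := (sb E101538 (iv3 D167758))
theorem F353902 : act 4 n125350 = n120299 := (sb E101538 (iv4 F302434))
theorem F353903 : act 6 n125350 = n98189 := (sb E101538 (iv6 F300761))
theorem F353904 : act 7 n125350 = n150241 := (sb E101538 F264102)
theorem F353905 : act 0 n125351 = n152592 := d21_10 (iv5 D152592) F155401 (iv5 F322707) F339267 (iv1 D84566) F306736 (iv5 F318543) (iv1 F353899) (iv5 D125350) D125351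
theorem F353906 : act 1 n125351 = n120603 := d15_1 (iv0 F353905) F192175 (iv2 F239779)
theorem F353907 : act 6 n147177 = n125348 := d12_0 F353896 F300764 (iv5 F151358) F303096 F343962
theorem F353908 : act 3 n125351 = n147177 := d7_3 F353907 (iv3 D125348) D125351
theorem F353909 : act 2 n125353 = n153593 := d0_3 (iv3 F344668) F353891 D125353 F241417 (iv2 F236444)
theorem E101539 : n178228 = n124627 := ((c3_3 (iv6 F341201) F353891 (iv6 F330646) (iv2 D178228))).symm
theorem F353910 : act 2 n124627 = n84830 := (sb E101539 (iv2 D178228))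
theorem F353911 : act 7 n124627 = n84831 := (sb E101539 (iv7 F277782))
theorem E101540 : n178233 = n124626 := (c15_4 (iv0 D124626) D124627 F353911 (iv2 F277783))
theorem F353912 : act 2 n124626 = n84831 := (sb E101540 F277783)
theorem F353913 : act 7 n124626 = n84830 := (sb E101540 (iv7 D178233))
theorem F353914 : act 4 n124626 = n175124 := d16_0 (iv5 D175124) (iv4 D83645) (iv5 D38563) (iv4 F46182) D60194 D128090 (iv5 F330645) F353911 (iv2 F353912)
theorem F353915 : act 2 n175124 = n178235 := d1_1 F353914 (iv4 D178235) (iv2 F353912)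
theorem F353916 : act 7 n175124 = n178230 := d11_2 (iv7 F353913) F353914 (iv4 D178230)
theorem F353917 : act 7 n155005 = n178231 := d16_8 (iv4 D128090) (iv5 D60194) F46182 D38563 D83645 D175124 (iv4 F353914) (iv5 F341257) (iv2 F331706)
theorem F353918 : act 2 n178236 = n155005 := d4_3 F353917 (iv2 F331706) (iv7 F337710)
theorem F353919 : act 3 n182967 = n155005 := d8_3 F353917 F331707 D182967
theorem F353920 : act 5 n96390 = n182967 := d6_0 F353919 F341257 (iv3 F341259)
theorem F353921 : act 5 n89247 = n103686 := d17_7 (iv1 F70791) F70056 (iv1 F33785) D45006 D96390 F353920 F284568 F159128 (iv4 D96393)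
theorem F353922 : act 6 n89244 = n128172 := d21_3 (iv5 F353920) (iv1 F160619) F333969 (iv1 F241901) F241898 F336902 D167586 F301463 (iv6 F339653) (iv1 F284568)
theorem E101541 : n154274 = n128172 := ((c7_1 F353922 F350810 (iv6 F350820) (iv3 F333970))).symm
theorem F353923 : act 3 n128172 = n125090 := (sb E101541 F350810)
theorem F353924 : act 4 n128172 = n73088 := (sb E101541 (iv4 D154274))
theorem F353925 : act 5 n128172 = n125088 := (sb E101541 (iv5 F350809))
theorem F353926 : act 7 n128172 = n153913 := (sb E101541 (iv7 F336378))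
theorem E101542 : n154279 = n128173 := (c15_4 F241900 F241901 F353926 F336376)
theorem F353927 : act 2 n128173 = n153913 := (sb E101542 (iv2 F336376))
theorem F353928 : act 3 n128173 = n160726 := (sb E101542 (iv3 F352322))
theorem F353929 : act 4 n128173 = n73089 := (sb E101542 (iv4 D154279))
theorem F353930 : act 2 n128172 = n153912 := d15_3 (iv0 D153912) D153913 (iv7 F353926)
theorem F353931 : act 7 n153912 = n128173 := d4_2 (iv7 F353926) F353930 F353927
theorem E101543 : n179156 = n154103 := (c18_9 (iv1 D72967) (iv4 F94806) D128172 F353924 F335398 F80941 (iv0 F321287) (iv4 F130705) D179156 (iv5 D154103))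
theorem F353932 : act 0 n154103 = n85501 := (sb E101543 (iv1 D179156))
theorem F353933 : act 6 n179158 = n117462 := d21_3 D154103 F353932 D179158 (iv1 D117462) D117465 F329082 (iv1 F329742) F345951 (iv6 F199458) (iv1 F199460)
theorem E101544 : n179155 = n154098 := (c21_8 (iv5 D95382) F291463 F134107 (iv6 F350039) (iv1 F350045) (iv6 F353933) (iv5 D179158) D179155 (iv5 D154098) (iv6 F309396) F292363)
theorem F353934 : act 1 n154098 = n85501 := (sb E101544 (iv0 D179155))
theorem F353935 : act 3 n103686 = n172163 := d6_1 F353921 (iv5 D172163) (iv3 F352033)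
theorem F353936 : act 5 n147564 = n172820 := d12_3 (iv6 F339653) F353921 F340606 (iv6 F301464) F301463
theorem E101545 : n173217 = n147564 := (c21_2 D82890 D173217 F353936 (iv6 F301464) (iv1 F342734) F342737 (iv5 D73037) D73034 D154158 F332048 (iv1 D82889))
theorem F353937 : act 1 n147564 = n82890 := (sb E101545 (iv0 D173217))
theorem E101546 : n172820 = n158789 := ((c21_2 (iv5 D158791) D158789 (iv5 F353936) (iv6 F340606) (iv1 F159127) F330288 F250798 (iv1 F254267) (iv5 F254383) D163682 F344721)).symm
theorem F353938 : act 5 n158789 = n147564 := (sb E101546 (iv5 F353936))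
theorem F353939 : act 6 n158789 = n167586 := (sb E101546 (iv6 F301464))
theorem F353940 : act 7 n158789 = n82739 := (sb E101546 (iv7 D172820))
theorem F353941 : act 2 n172163 = n112770 := d0_1 F353935 (iv3 D112770) F327258 (iv3 F327259) (iv2 F159125)
theorem F353942 : act 7 n172163 = n103684 := d8_2 D103686 F353935 (iv3 D103684)
theorem F353943 : act 7 n125351 = n158972 := d14_4 F353913 (iv6 F341201) F353892 D125351 F341254
theorem F353944 : act 2 n158972 = n178237 := d15_3 (iv0 F339240) (iv0 F353905) F353943
theorem F353945 : act 2 n125351 = n158973 := d15_3 (iv0 F259406) F259407 (iv7 F353943)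
theorem F353946 : act 6 n158973 = n125274 := d3_2 D125351 F353945 F353889
theorem F353947 : act 7 n158973 = n178237 := d4_2 (iv7 F353943) F353945 (iv2 F353944)
theorem F353948 : act 5 n153590 = n125353 := d2_0 F353909 (iv5 D153593) (iv2 F241415)
theorem E101547 : n174117 = n125353 := (c21_8 (iv5 F178500) (iv1 D114447) (iv5 F83472) D60263 (iv1 F319544) D173804 F304132 D174117 (iv5 F353948) (iv6 D153590) (iv1 F109158))
theorem F353949 : act 1 n125353 = n83235 := (sb E101547 (iv0 D174117))
theorem F353950 : act 7 n174118 = n153593 := d15_2 F353949 D174118 (iv2 F353909)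
theorem F353951 : act 3 n150666 = n174118 := d8_3 F353950 F241417 (iv7 F237209)
theorem F353952 : act 5 n100809 = n174118 := d13_3 F353950 (iv5 D153593) (iv7 F302465)
theorem F353953 : act 0 n135368 = n125287 := d21_10 (iv5 F280552) (iv1 F353881) (iv5 F341200) F341201 (iv1 F199326) (iv6 F339246) F339527 (iv1 D63632) D63633 (iv6 F217609)
theorem F353954 : act 0 n126947 = n120979 := d21_10 F339527 (iv1 D63632) D63633 (iv6 F217609) F353953 F201494 F320720 F98731 D59580 (iv6 F204200)
theorem F353955 : act 1 n126947 = n120738 := d15_1 (iv0 F353954) F192513 D120979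
theorem F353956 : act 0 n177518 = n121082 := d21_1 D177518 (iv5 D121082) F304243 (iv1 F353955) F204200 (iv5 D59580) (iv1 F102081) D126864 (iv6 F339276) (iv1 F199105)
theorem F353957 : act 6 n121082 = n126658 := d21_5 (iv5 D164529) (iv1 F155092) (iv5 F239845) (iv6 F339271) F353956 F203824 (iv1 F203838) (iv5 F338729) (iv6 F350971) (iv1 F259339)
theorem F353958 : act 2 n126675 = n121082 := d3_3 F353957 (iv2 F203823) D126675
theorem F353959 : act 5 n121080 = n126675 := d2_0 F353958 (iv5 D121082) D121080
theorem F353960 : act 7 n163070 = n126675 := d4_0 F353958 F193114 (iv2 F257403)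
theorem F353961 : act 1 n126675 = n163074 := d15_0 (iv0 D163074) (iv7 F193114) (iv2 F353958)
theorem F353962 : act 6 n121080 = n138130 := d21_3 (iv5 F341244) (iv1 F353961) (iv5 F353959) (iv1 F333846) F338716 (iv5 D64539) D64537 (iv5 F323136) F323137 D124474
theorem F353963 : act 4 n171069 = n121080 := d10_3 F353962 (iv4 F333845) (iv6 F268790)
theorem F353964 : act 0 n126675 = n163075 := d21_7 F353081 F353089 (iv5 F331722) (iv6 F341232) F341230 (iv6 F353962) F353959 (iv5 F353880) F341237 (iv1 F353080)
theorem E101548 : n163198 = n160588 := ((c21_1 D160588 (iv1 D163198) F119633 F306736 (iv1 F339508) (iv6 D164025) F339506 (iv1 F348619) D138130 (iv6 F353962) (iv1 F339260))).symm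
theorem F353965 : act 0 n160588 = n78442 := (sb E101548 (iv1 D163198))
theorem F353966 : act 7 n155916 = n163199 := d15_2 (iv0 F353965) F339261 (iv2 D163199)
theorem F353967 : act 2 n155918 = n163062 := d15_3 F339266 (iv0 F353965) (iv7 F351012)
theorem F353968 : act 1 n155918 = n163199 := d15_0 F351013 (iv7 F339264) (iv2 F353967)
theorem F353969 : act 3 n136725 = n155916 := d8_3 F353966 (iv3 F338782) F338786
theorem F353970 : act 6 n163075 = n173290 := d21_5 F331748 F336109 (iv5 F93811) D126675 F353964 F271675 (iv1 F307986) (iv5 F224814) (iv6 D141804) (iv1 F323661)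
theorem F353971 : act 2 n177513 = n163075 := d15_3 (iv0 F353964) F353961 (iv7 F341246)
theorem F353972 : act 7 n163075 = n177518 := d4_2 (iv7 F341246) F353971 F341245
theorem F353973 : act 3 n173311 = n163075 := d7_3 F353970 F271674 D173311
theorem F353974 : act 7 n163069 = n171069 := d11_0 F353963 F193107 D163069
theorem F353975 : act 0 n171069 = n160456 := d20_1 (iv4 F353963) F329866 (iv3 D163034) (iv1 F129746) F129744 (iv4 F257340) (iv1 F277034) (iv4 F336520) F336519 (iv1 F193108)
theorem F353976 : act 1 n171068 = n163069 := d15_1 D171068 F353974 (iv2 D171069)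
theorem F353977 : act 4 n171068 = n177547 := d20_2 D163069 (iv1 F353976) (iv3 D177547) (iv1 F129743) F336331 D147711 (iv1 F353255) F254099 F201713 F341250
theorem F353978 : act 3 n111512 = n171068 := d5_5 F353977 (iv3 D177547) (iv4 F338326) F202955 F176543
theorem F353979 : act 7 n160456 = n171068 := d11_0 F353977 (iv7 F338329) (iv4 F329866)
theorem F353980 : act 6 n171068 = n111298 := d14_1 F353979 F172688 F328000 (iv7 F257947) D160456
theorem F353981 : act 2 n171068 = n163071 := d15_3 (iv0 D163071) (iv0 F329865) F353979
theorem F353982 : act 7 n124295 = n163071 := d4_2 (iv7 F353979) F257961 (iv2 F353981)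
theorem E101549 : n171067 = n124295 := ((c15_4 (iv0 D171067) D171068 (iv7 F353979) F257961)).symm
theorem F353983 : act 0 n124295 = n163069 := (sb E101549 F351052)
theorem F353984 : act 1 n124295 = n81993 := (sb E101549 (iv0 D171067))
theorem F353985 : act 3 n124295 = n111305 := (sb E101549 F351051)
theorem F353986 : act 4 n124295 = n177628 := (sb E101549 F351050)
theorem F353987 : act 5 n160445 = n124295 := d6_0 F353985 F341339 (iv3 F253446)
theorem E101550 : n163071 = n111300 := ((c8_4 (iv7 F353982) F353985 (iv7 D111305) (iv3 F172694))).symm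
theorem F353988 : act 1 n111300 = n78409 := (sb E101550 (iv0 D163071))
theorem F353989 : act 2 n111300 = n171068 := (sb E101550 (iv2 F353981))
theorem F353990 : act 7 n111300 = n124295 := (sb E101550 (iv7 F353982))
theorem F353991 : act 1 n171069 = n111300 := d15_1 (iv0 F353975) F353990 (iv2 F257961)
theorem F353992 : act 6 n124294 = n160444 := d12_4 D160445 F353987 (iv6 D124295) D124294 (iv5 D160444)
theorem F353993 : act 3 n111591 = n124294 := d7_3 F353992 F253444 (iv6 F343784)
theorem F353994 : act 3 n107616 = n163070 := d8_3 F353960 F203842 (iv7 F166046)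
theorem F353995 : act 6 n126669 = n135408 := d21_5 (iv5 D163062) (iv1 F193108) F353959 (iv6 D126675) (iv1 F203830) (iv5 D135408) (iv1 F339289) (iv5 F339292) (iv6 D163201) (iv1 F339266)
theorem F353996 : act 5 n129283 = n126669 := d12_5 F353995 (iv5 D135408) (iv6 D63655) F211050 D129283
theorem F353997 : act 0 n135408 = n161353 := d21_4 (iv5 F324993) (iv1 F216489) F353996 F353995 F255174 (iv5 D77465) D77463 (iv5 F350970) F350971 (iv1 D136702)
theorem F353998 : act 2 n158406 = n127999 := d15_3 (iv0 F353879) F315281 F318581
theorem F353999 : act 5 n127999 = n165613 := d2_2 (iv5 F320006) F353998 (iv2 D165613)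
theorem F354000 : act 2 n153597 = n161596 := d4_3 F318581 F353998 (iv7 F241421)
theorem F354001 : act 2 n133095 = n130400 := d1_3 F306363 F354000 (iv4 F305918)
theorem F354002 : act 5 n167937 = n153597 := d2_0 F354000 F318580 D167937
theorem F354003 : act 1 n163674 = n127999 := d15_1 F341630 (iv7 F241421) F354000
theorem F354004 : act 1 n153597 = n172242 := d15_0 (iv0 F344411) (iv7 F318581) (iv2 F354000)
theorem F354005 : act 7 n172242 = n158137 := d15_2 (iv0 F340791) F354004 (iv2 F306579)
theorem F354006 : act 4 n172152 = n100043 := d20_0 (iv1 D100043) (iv4 F153973) (iv3 F270504) (iv1 F354004) (iv3 D153597) (iv4 D72631) (iv1 F108901) F190214 (iv3 F353901) F353898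
theorem F354007 : act 7 n100043 = n172368 := d11_2 (iv7 F314492) F354006 (iv4 D172368)
theorem F354008 : act 3 n100043 = n182919 := d20_3 (iv4 F353902) F353898 F354006 (iv1 D182919) F134096 F304607 F190095 D33543 D72705 (iv1 F303722)
theorem F354009 : act 4 n98230 = n182919 := d5_4 (iv4 F354006) (iv3 D172152) (iv4 F307599) F307598 (iv3 F354008)
theorem F354010 : act 2 n182919 = n98240 := d1_1 F354009 (iv4 D98240) (iv2 F351716)
theorem F354011 : act 7 n182919 = n98235 := d11_2 (iv7 F351717) F354009 (iv4 D98235)
theorem E101551 : n120414 = n89339 := ((c20_10 F300578 (iv1 F151581) F354009 (iv3 F354008) (iv1 D100043) F73833 (iv4 F58744) D82505 F271105 D89339 (iv1 D120414))).symm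
theorem F354012 : act 0 n89339 = n55436 := (sb E101551 (iv1 D120414))
theorem F354013 : act 0 n153321 = n182919 := d20_7 (iv4 F205813) (iv1 F307597) F307599 D172152 (iv1 F339282) F330648 F241416 (iv4 F354009) (iv3 F307598) (iv1 D158442)
theorem F354014 : act 7 n153321 = n98848 := d15_2 D182919 (iv0 F354013) F152398
theorem F354015 : act 1 n98235 = n98848 := d15_1 (iv0 F304714) (iv7 F354014) F240878
theorem F354016 : act 4 n158322 = n89339 := d20_6 (iv4 D34553) (iv1 D16754) (iv4 F27508) (iv3 F54791) D75482 D158322 F354012 F300578 F72506 F118889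
theorem F354017 : act 0 n98158 = n89339 := d20_1 (iv4 F151416) (iv4 F354016) (iv3 D158322) (iv1 F249443) (iv3 F300705) F127021 F301539 (iv4 F307599) F307598 (iv1 D98230)
theorem E101552 : n158322 = n153592 := (c20_7 (iv4 F205762) F305233 F61458 (iv3 F31405) D41725 D89339 (iv4 F354016) (iv1 D153592) F109160 F108986 D72480)
theorem F354018 : act 3 n153592 = n75482 := (sb E101552 (iv3 D158322))
theorem F354019 : act 4 n153592 = n89339 := (sb E101552 F354016)
theorem F354020 : act 2 n98159 = n89339 := d15_3 (iv0 F354017) F185768 F187657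
theorem F354021 : act 7 n98158 = n120412 := d15_2 (iv0 F354012) (iv0 F354017) F191829
theorem F354022 : act 1 n98160 = n120412 := d15_1 D98160 (iv7 F354021) F151415
theorem F354023 : act 2 n118233 = n98160 := d15_3 F354022 (iv0 F344406) (iv7 F187657)
theorem E101553 : n100903 = n98160 := ((c20_5 F190352 (iv1 F315554) F315556 F196442 (iv1 F354022) (iv3 D100903) (iv4 F272666) (iv1 D83200) F59167 (iv3 F72590) F310595)).symm
theorem F354024 : act 3 n98160 = n47033 := (sb E101553 (iv3 D100903))
theorem F354025 : act 7 n89339 = n98160 := d8_0 F354024 F314199 D89339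
theorem F354026 : act 2 n98235 = n182918 := d15_3 (iv0 D182918) D182919 F354011
theorem F354027 : act 7 n98240 = n182918 := d4_2 (iv7 F354011) F354010 (iv2 F354026)
theorem F354028 : act 3 n182918 = n122344 := d8_1 F354027 F332488 (iv3 F304717)
theorem F354029 : act 4 n182918 = n98229 := d11_1 F354027 F345521 D98240
theorem F354030 : act 1 n98848 = n98240 := d15_1 F354015 F354027 (iv2 F354026)
theorem F354031 : act 1 n153321 = n182918 := d15_1 (iv0 F354013) (iv7 F354027) (iv2 F354010)
theorem F354032 : act 3 n170027 = n122620 := d20_3 (iv4 F107867) (iv1 F301160) D170027 (iv1 F320000) F320002 F151416 D98229 (iv4 F354029) F354028 F301998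
theorem F354033 : act 7 n122620 = n170643 := d8_2 F340968 F354032 (iv3 F340969)
theorem F354034 : act 2 n170643 = n122621 := d15_3 (iv0 F319999) F320000 F354033
theorem F354035 : act 2 n122620 = n170644 := d15_3 (iv0 F268093) F268091 (iv7 F354033)
theorem F354036 : act 7 n170644 = n122621 := d4_2 (iv7 F354033) F354035 (iv2 F354034)
theorem F354037 : act 5 n129875 = n152660 := d18_4 D62442 D133086 F350894 F208749 (iv4 F341656) F354003 F205989 F304854 (iv5 D62444)
theorem F354038 : act 0 n167935 = n165613 := d21_10 (iv5 F353999) (iv1 F354003) (iv5 D163674) F341657 (iv1 D79787) F299594 (iv5 F321983) F338308 (iv5 F338317) (iv6 F341645)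
theorem F354039 : act 6 n113145 = n165613 := d21_5 D79789 F338188 F330051 (iv6 F341861) (iv1 F324600) (iv5 F353999) (iv1 F354003) (iv5 D163674) F341657 (iv1 D79787)
theorem F354040 : act 3 n165613 = n128000 := d7_1 F354039 (iv6 F351996) F351995
theorem F354041 : act 1 n152730 = n132377 := d17_6 F334237 (iv5 F341644) F354038 (iv5 F353999) F205989 D152730 (iv5 F346981) (iv0 F346973) F346965
theorem F354042 : act 1 n113292 = n165613 := d15_0 (iv0 F354038) (iv7 F348169) (iv2 F348165)
theorem F354043 : act 4 n176502 = n113311 := d18_5 (iv1 F354003) F341656 (iv1 F344387) F344389 (iv5 F275818) (iv0 D113311) (iv4 F176506) F354042 (iv5 F353999)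
theorem F354044 : act 2 n172245 = n129875 := d2_3 F354037 F312092 D172245
theorem F354045 : act 7 n132690 = n129875 := d13_0 F354037 F312095 (iv5 F320708)
theorem F354046 : act 7 n130228 = n132935 := d11_2 F354045 (iv4 F208749) F213556
theorem F354047 : act 6 n129696 = n130197 := d14_3 F354046 (iv6 D132935) (iv7 F207878) F208710 D130228
theorem F354048 : act 1 n129875 = n134686 := d15_0 (iv0 F339479) (iv7 F339478) F354044
theorem F354049 : act 6 n153597 = n131679 := d21_3 (iv5 F348167) (iv1 F348170) F354002 (iv1 F217718) F217746 F336544 (iv1 D77243) D77245 (iv6 F119803) D163676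
theorem F354050 : act 2 n131679 = n133055 := d3_1 F354049 F341647 (iv2 F354000)
theorem F354051 : act 3 n131679 = n133864 := d7_1 F354049 F313048 D153597
theorem F354052 : act 7 n133056 = n131679 := d4_0 F354050 F341649 F341651
theorem E101554 : n131680 = n130446 := (c15_2 (iv0 D131679) D131680 (iv7 F341649) (iv2 F354050))
theorem F354053 : act 0 n130446 = n61787 := (sb E101554 (iv1 D131680))
theorem F354054 : act 1 n130446 = n133058 := (sb E101554 F217716)
theorem F354055 : act 5 n155706 = n173417 := d21_8 (iv5 F341916) (iv1 F254161) (iv5 F336544) (iv6 F217746) (iv1 F354054) F320268 (iv5 D155708) D155706 F345794 (iv1 F345801)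
theorem F354056 : act 3 n129686 = n155706 := d6_3 F354055 F271886 (iv5 F332367)
theorem F354057 : act 6 n162814 = n155706 := d12_0 F354055 F345794 F336620 (iv6 D162815) D162814
theorem F354058 : act 7 n173416 = n155706 := d13_0 F354055 (iv7 D173417) D173416
theorem F354059 : act 5 n128281 = n126789 := d21_2 F354055 (iv1 F343391) (iv6 D126789) (iv1 F203702) (iv6 F334194) F294744 F329905 (iv5 F53326) D74069 D155706
theorem F354060 : act 0 n179064 = n174939 := d21_10 (iv5 D174939) (iv1 F317290) (iv5 F354055) (iv6 F354057) F345788 F313849 (iv5 F345969) F345966 (iv5 D179063) D179064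
theorem F354061 : act 6 n147396 = n174939 := d21_5 (iv5 D163002) F333962 D147385 F231102 D147396 (iv5 D174939) (iv1 F317290) (iv5 F354055) (iv6 F354057) F345788
theorem F354062 : act 2 n174939 = n147772 := d3_1 F354061 (iv6 D147772) (iv2 F337987)
theorem F354063 : act 5 n147772 = n153243 := d2_2 D174939 F354062 F348695
theorem F354064 : act 7 n126789 = n147772 := d16_8 (iv4 F341134) F287393 (iv4 F342722) F242415 (iv4 F205819) F309748 (iv4 F206407) F354059 (iv2 F354062)
theorem F354065 : act 1 n179064 = n126789 := d15_1 (iv0 F354060) F354064 (iv2 F354062)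
theorem F354066 : act 3 n153245 = n147772 := d6_3 F354063 F240697 D153245
theorem F354067 : act 6 n153242 = n147771 := d12_4 D147772 F354063 (iv6 D153243) D153242 (iv5 D147771)
theorem F354068 : act 3 n147771 = n153244 := d7_1 F354067 (iv6 D153244) (iv3 F240693)
theorem F354069 : act 6 n130277 = n120683 := d14_5 (iv7 F240694) F354067 F310880 (iv6 F297825) F342199
theorem F354070 : act 6 n175171 = n124550 := d3_2 F354069 (iv2 F274192) F333925
theorem F354071 : act 4 n153364 = n154434 := d5_4 (iv4 F231509) F354068 F240701 (iv3 F240936) F242475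
theorem F354072 : act 5 n153244 = n147769 := d6_2 D147771 F354068 (iv3 D147769)
theorem F354073 : act 7 n153244 = n184836 := d8_2 (iv7 F310880) F354068 (iv3 D184836)
theorem F354074 : act 0 n153244 = n123717 := d20_10 (iv4 D123717) (iv1 F198124) F198120 (iv3 F119270) (iv1 F344835) F344836 F230906 (iv1 F230910) (iv4 F231509) F354068
theorem F354075 : act 4 n184836 = n153368 := d11_1 F354073 (iv7 D153368) (iv4 F240701)
theorem F354076 : act 3 n153368 = n184781 := d5_1 F354075 (iv4 D184781) F135093 D88124 D184836
theorem F354077 : act 7 n184781 = n153364 := d8_2 D153368 F354076 F240936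
theorem F354078 : act 6 n147769 = n153245 := d12_2 D153244 F354072 (iv5 D153245) (iv6 D72368) D72367
theorem F354079 : act 6 n154434 = n153363 := d10_2 D153364 F354071 (iv4 D153363)
theorem F354080 : act 0 n119861 = n153364 := d18_2 (iv1 F87259) D119861 F354071 (iv5 D154434) (iv4 F310720) F310718 F86213 (iv0 F130736) D33941
theorem F354081 : act 0 n153364 = n119858 := d20_1 (iv4 F354071) (iv4 D119858) F188594 (iv1 D119591) F87026 D55030 (iv1 F188564) F331658 (iv3 F244503) (iv1 F331657)
theorem E101555 : n153365 = n128208 := (c20_5 D155498 (iv1 F331657) (iv4 F354071) F240936 D153365 (iv3 F350265) (iv4 D155546) (iv1 D74001) (iv4 F110737) (iv3 D73962) D73960)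
theorem F354082 : act 1 n128208 = n72458 := (sb E101555 (iv0 D153365))
theorem E101556 : n128207 = n107709 := (c20_10 F337678 F317637 (iv4 F242686) (iv3 D154601) (iv1 F231510) F354068 F240701 (iv1 F354082) (iv4 D128208) D128207 (iv1 F203916))
theorem F354083 : act 3 n107709 = n60273 := (sb E101556 (iv3 D128207))
theorem F354084 : act 3 n128206 = n114827 := d0_2 F354083 D128206 (iv2 F352416) F352362 F219557
theorem F354085 : act 4 n155545 = n107709 := d5_0 F354083 D128208 (iv3 F350265) (iv4 D155546) D155545
theorem E101557 : n128209 = n107705 := (c6_3 D107709 F354083 D128209 F166347)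
theorem F354086 : act 5 n107705 = n60273 := (sb E101557 (iv5 D128209))
theorem E101558 : n142526 = n128210 := ((c7_3 (iv6 F334094) F354083 D128210 (iv3 D142526))).symm
theorem F354087 : act 3 n128210 = n66821 := (sb E101558 (iv3 D142526))
theorem F354088 : act 5 n128210 = n146167 := (sb E101558 (iv5 F229438))
theorem F354089 : act 3 n128211 = n144351 := d8_3 (iv7 F227087) F354083 D128211
theorem F354090 : act 0 n155545 = n170463 := d20_7 F342202 (iv1 D162571) F119267 F56294 D60273 (iv3 F354083) (iv4 F354085) F344131 (iv3 F346561) F346562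
theorem F354091 : act 5 n150626 = n155545 := d21_0 F354090 F344130 F344133 (iv1 D86460) (iv6 D40048) (iv5 F35275) D47161 F123665 F312086 (iv1 F301936)
theorem F354092 : act 6 n170051 = n127695 := d21_3 F344130 (iv1 D177203) (iv5 F267499) (iv1 D127695) (iv6 F321627) F162358 F180262 D140715 (iv6 F350258) F354090
theorem F354093 : act 7 n155545 = n149582 := d15_2 D170463 (iv0 F354090) F337162
theorem F354094 : act 2 n140719 = n155545 := d4_3 F354093 F337162 (iv7 F324346)
theorem F354095 : act 1 n155545 = n131362 := d15_0 F344908 (iv7 F324346) F354094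
theorem F354096 : act 6 n140041 = n166273 := d14_3 (iv7 F267500) F354092 (iv7 F223255) (iv7 F278142) F316530
theorem E101559 : n154670 = n128212 := (c0_4 F354089 (iv2 F344911) F352374 F352400 (iv3 D128212) (iv2 F206344))
theorem F354097 : act 0 n128212 = n114144 := (sb E101559 (iv1 F352371))
theorem F354098 : act 1 n128212 = n73341 := (sb E101559 (iv0 D154670))
theorem F354099 : act 2 n128212 = n114832 := (sb E101559 (iv2 F352400))
theorem F354100 : act 4 n128212 = n114816 := (sb E101559 (iv4 F352372))
theorem F354101 : act 7 n128212 = n114827 := (sb E101559 (iv7 F352403))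
theorem E101560 : n153366 = n128213 := ((c20_7 (iv4 D73282) (iv1 F52976) D33737 D73341 (iv1 F354098) (iv3 D128212) D128213 (iv1 D153366) (iv4 F240701) (iv3 F354068) (iv1 F231512))).symm
theorem F354102 : act 0 n128213 = n72458 := (sb E101560 (iv1 D153366))
theorem E101561 : n147284 = n146167 := ((c12_2 D128210 F354088 (iv6 D147284) (iv5 F339808) D107705 F354086)).symm
theorem E101562 : n147468 = n128210 := ((((iv5 F354088)).symm.trans (sb E101561 F231253))).symm
theorem F354103 : act 6 n146167 = n69043 := (sb E101561 (iv6 D147284))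
theorem F354104 : act 0 n128210 = n69124 := (sb E101562 (iv1 D147468))
theorem F354105 : act 0 n146167 = n157575 := d21_7 (iv5 D28636) (iv1 D13654) D13655 D28640 D60273 D128210 F354088 (iv5 D157575) (iv6 D75014) F54540
theorem F354106 : act 0 n148823 = n141481 := d20_7 F227361 F224365 F223809 (iv3 F354087) F354104 F347910 D148823 (iv4 F227370) (iv3 D144514) D144512
theorem F354107 : act 3 n167098 = n128096 := d0_4 F354066 (iv2 F354062) F273832 (iv2 F307720) (iv2 F240702)
theorem F354108 : act 3 n126789 = n128282 := d8_3 (iv7 F240703) F354066 (iv7 F354064)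
theorem F354109 : act 6 n128282 = n126786 := d7_2 D126789 F354108 (iv3 D126786)
theorem F354110 : act 5 n126786 = n129233 := d12_1 F354109 (iv6 D129233) F208777 F308614 D128282
theorem F354111 : act 4 n128096 = n133370 := d5_2 (iv4 F322572) F354107 F340950 F227414 (iv3 F322119)
theorem F354112 : act 7 n128096 = n174954 := d8_2 (iv7 F307721) F354107 F273842
theorem E101563 : n133332 = n128066 := ((c20_11 F214340 D133370 (iv4 F354111) (iv3 F354107) F322570 (iv3 F344764) (iv4 F273399) (iv1 F273400) (iv4 D83417) (iv3 F303388) (iv1 F206078))).symm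
theorem F354113 : act 3 n128066 = n62578 := (sb E101563 F214339)
theorem F354114 : act 4 n128066 = n62595 := (sb E101563 F214340)
theorem F354115 : act 6 n128066 = n62576 := (sb E101563 (iv6 D133332))
theorem E101564 : n133330 = n128257 := (c3_2 F354115 D133330 (iv6 D128257) (iv2 F231558))
theorem F354116 : act 0 n128257 = n130519 := (sb E101564 (iv1 F214336))
theorem F354117 : act 1 n128257 = n130518 := (sb E101564 F214334)
theorem F354118 : act 2 n128257 = n62576 := (sb E101564 (iv2 D133330))
theorem F354119 : act 4 n128257 = n62593 := (sb E101564 F214332)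
theorem F354120 : act 7 n128257 = n130520 := (sb E101564 F214333)
theorem E101565 : n128252 = n103199 := ((c14_5 (iv7 F231559) F354115 F97570 D130521 F346778 (iv6 D128252))).symm
theorem F354121 : act 6 n103199 = n60287 := (sb E101565 (iv6 D128252))
theorem F354122 : act 5 n126931 = n126000 := d21_0 (iv1 F202687) D147280 F230896 (iv1 F335865) (iv6 F354115) (iv5 F233863) (iv1 F233865) (iv5 F206361) F344625 (iv1 F344623)
theorem F354123 : act 2 n126000 = n126941 := d2_1 F354122 (iv5 D126941) (iv2 F204187)
theorem F354124 : act 7 n126001 = n126941 := d15_2 (iv0 D126000) D126001 (iv2 F354123)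
theorem F354125 : act 3 n126952 = n126001 := d8_3 F354124 F204194 D126952
theorem F354126 : act 5 n126942 = n126001 := d13_3 F354124 (iv5 D126941) D126942
theorem F354127 : act 6 n128065 = n172056 := d3_2 F354121 (iv2 F231556) F346770
theorem E101566 : n133373 = n128250 := ((c10_2 F354121 D128250 F214427 F346779)).symm
theorem F354128 : act 3 n128250 = n62599 := (sb E101566 F214426)
theorem F354129 : act 6 n128250 = n130579 := (sb E101566 F214427)
theorem F354130 : act 7 n128250 = n62595 := (sb E101566 (iv7 D133373))
theorem F354131 : act 6 n149939 = n155099 := d12_4 F354121 D128251 (iv6 F334184) F334186 (iv5 F346772)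
theorem F354132 : act 0 n112971 = n128260 := d20_4 F85016 F41229 (iv4 F82432) (iv3 F175924) (iv3 D128260) (iv4 D60289) D60287 D128250 F354128 (iv1 F97615)
theorem F354133 : act 0 n128250 = n144547 := d20_4 F112212 (iv1 F82460) (iv4 F97613) (iv3 F354128) F227408 F103780 (iv1 F320414) (iv4 F112209) F112208 D74769
theorem F354134 : act 4 n144547 = n174954 := d18_3 D60287 D128250 F354133 (iv5 D174954) (iv4 F306740) F162950 (iv4 F110020) (iv0 D28642) D28644
theorem F354135 : act 1 n133365 = n144547 := d15_0 (iv0 F354133) F354130 (iv2 F214419)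
theorem F354136 : act 6 n174954 = n129239 := d10_2 D144547 F354134 F322567
theorem F354137 : act 2 n128282 = n174954 := d3_3 F354136 F322566 (iv6 F354109)
theorem F354138 : act 3 n172060 = n128065 := d7_3 F354127 F270145 D172060
theorem F354139 : act 3 n147804 = n162718 := d6_3 F302454 F354138 (iv5 F231554)
theorem F354140 : act 7 n128254 = n172060 := d8_0 F354138 F231557 D128254
theorem F354141 : act 2 n176594 = n128254 := d4_3 F354140 F270156 D176594
theorem F354142 : act 6 n176633 = n128254 := d14_5 F354140 (iv6 D172060) F126935 D84215 D176633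
theorem F354143 : act 1 n176592 = n128254 := d15_1 D176592 F354140 F270156
theorem F354144 : act 3 n128257 = n176633 := d7_3 F354142 (iv3 D128254) D128257
theorem F354145 : act 2 n176633 = n108500 := d0_1 F354144 (iv3 D108500) F79293 D62576 (iv2 F354118)
theorem F354146 : act 4 n176633 = n102164 := d5_2 (iv4 F354119) F354144 F157059 (iv4 F157064) F329299
theorem F354147 : act 5 n160728 = n176633 := d18_4 D160594 F342671 F342685 (iv4 F323221) F354146 F328534 D136382 F346455 (iv5 D160596)
theorem F354148 : act 0 n176633 = n136347 := d21_7 (iv5 D155458) F184600 D82757 F342664 (iv1 F263825) F263822 F354147 (iv5 F348512) F348513 (iv1 F244453)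
theorem F354149 : act 0 n137104 = n128254 := d21_4 D64534 (iv1 F161475) (iv5 F161476) D137104 (iv6 F354142) (iv5 F354147) (iv1 F263826) (iv5 F352326) F352327 (iv1 D64532)
theorem E101567 : n176591 = n137104 := ((c15_1 (iv0 F354149) (iv0 D176591) D176594 F354141)).symm
theorem F354150 : act 1 n137104 = n84191 := (sb E101567 (iv0 D176591))
theorem F354151 : act 7 n176592 = n136710 := d15_2 F354150 D176592 (iv2 F220273)
theorem F354152 : act 5 n137104 = n128238 := d21_8 F315350 F207245 (iv5 F212575) F323883 (iv1 F300789) D173815 F303577 (iv1 F354150) (iv6 F303630) F206390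
theorem E101568 : n178505 = n136710 := (c2_3 F354152 F304216 D178505 (iv2 F220273))
theorem F354153 : act 3 n136710 = n84951 := (sb E101568 F278160)
theorem F354154 : act 5 n136710 = n84949 := (sb E101568 (iv5 D178505))
theorem F354155 : act 3 n174395 = n137104 := d6_3 F354152 F304217 D174395
theorem F354156 : act 7 n174427 = n137104 := d13_0 F354152 F304219 D174427
theorem F354157 : act 2 n176592 = n174427 := d4_3 F354156 F220273 (iv7 F354151)
theorem F354158 : act 3 n119337 = n176592 := d0_0 F354157 F273307 (iv2 F343429) F343430 (iv2 F187926)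
theorem F354159 : act 5 n119336 = n176592 := d2_0 F354157 (iv5 D174427) F188773
theorem F354160 : act 0 n176590 = n135999 := d18_2 (iv1 D176592) (iv4 F275953) F337534 (iv5 F337526) F337525 F241858 (iv4 F242566) (iv0 F305721) F354159
theorem F354161 : act 1 n176590 = n136919 := d15_1 (iv0 F354160) (iv7 D136919) (iv2 F218798)
theorem F354162 : act 4 n176126 = n136919 := d20_0 (iv1 F354161) F275953 (iv3 F328146) (iv1 D116844) (iv3 F101396) F101397 F313990 (iv4 F131496) (iv3 F279705) (iv1 F344773)
theorem F354163 : act 6 n137102 = n174395 := d7_0 F354155 (iv6 D137104) D137102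
theorem F354164 : act 2 n174443 = n137102 := d3_3 F354163 F273254 D174443
theorem E101569 : n174437 = n153890 := (c14_4 (iv7 F220263) F354163 F273255 D174437 F241838 (iv6 F352356))
theorem F354165 : act 6 n153890 = n83376 := (sb E101569 (iv6 D174437))
theorem F354166 : act 6 n174436 = n185194 := d10_2 F354165 D174436 (iv4 F352427)
theorem F354167 : act 6 n174434 = n128179 := d21_5 F231577 (iv1 F230908) D153890 F354165 D174434 F206314 (iv1 F109331) (iv5 F353855) (iv6 D147817) D147814
theorem F354168 : act 2 n162604 = n174434 := d3_3 F354167 (iv2 F241920) F343426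
theorem F354169 : act 7 n174435 = n162604 := d15_2 (iv0 D174434) D174435 F354168
theorem E101570 : n174517 = n174435 := (c8_4 F354169 (iv3 D162604) F300606 D174517)
theorem F354170 : act 3 n174435 = n83408 := (sb E101570 (iv3 D174517))
theorem F354171 : act 7 n158835 = n167590 := d13_2 F354169 F343427 (iv5 F342727)
theorem E101571 : n136709 = n132445 := (c0_5 F348507 F354164 (iv3 D137102) F139283 D136709 F212519)
theorem F354172 : act 3 n132445 = n64253 := (sb E101571 (iv3 D136709))
theorem F354173 : act 7 n132445 = n137105 := (sb E101571 (iv7 F220274))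
theorem F354174 : act 4 n126773 = n174443 := d1_0 F354164 F220264 F220267
theorem F354175 : act 6 n174442 = n126773 := d10_0 F354174 (iv6 D174443) D174442
theorem F354176 : act 0 n129322 = n139882 := d20_4 (iv4 F93902) D126773 F354174 (iv3 F348507) (iv3 D139882) F320872 F318649 F102736 (iv3 F323539) (iv1 D59501)
theorem F354177 : act 4 n126714 = n129474 := d18_5 F354176 F223101 (iv1 D65927) (iv4 F93854) D126714 (iv0 D129474) F95401 (iv0 F348923) D129322
theorem F354178 : act 0 n127004 = n129909 := d21_1 F223102 (iv5 F350886) (iv6 F352293) (iv1 F342297) (iv6 D178524) F130201 (iv1 F86869) D119340 F348506 F354176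
theorem E101572 : n149761 = n120075 := ((c21_4 (iv5 F342296) F175507 F327228 (iv6 F347901) (iv1 D149761) (iv6 F322627) F223102 F354178 (iv5 F350886) (iv6 F352293) (iv1 F342297))).symm
theorem F354179 : act 0 n120075 = n70349 := (sb E101572 (iv1 D149761))
theorem F354180 : act 1 n120075 = n150602 := (sb E101572 F237141)
theorem E101573 : n149760 = n120070 := (c15_2 F354180 F237139 F350823 (iv2 F350822))
theorem F354181 : act 0 n120070 = n150602 := (sb E101573 (iv1 F237139))
theorem F354182 : act 1 n120070 = n70349 := (sb E101573 (iv0 D149760))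
theorem F354183 : act 0 n129732 = n127004 := d21_7 (iv5 D120070) (iv1 F110852) (iv5 D74134) (iv6 F92368) (iv1 F352305) (iv6 F352295) F350890 (iv5 F223102) F322627 (iv1 F354182)
theorem E101574 : n140461 = n109201 := (c17_6 F324045 F350890 F354183 (iv5 F223102) F223101 D140461 F216766 (iv5 D134738) F101515 (iv4 F324047))
theorem F354184 : act 5 n109201 = n65927 := (sb E101574 (iv5 D140461))
theorem E101575 : n184350 = n120075 := (c20_4 (iv4 D41125) D41123 (iv4 F134920) D184350 F354179 (iv3 D70349) (iv4 D32655) F24998 D26685 D55224 (iv1 F329032))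
theorem F354185 : act 3 n120075 = n87924 := (sb E101575 (iv3 D184350))
theorem F354186 : act 0 n149734 = n139611 := d20_1 (iv4 F235492) F222761 (iv3 D126751) F329607 (iv3 D88070) (iv4 D41125) D41123 (iv4 F134920) (iv3 F354185) F354179
theorem F354187 : act 0 n141805 = n132481 := d21_10 (iv5 D132481) (iv1 F212574) F350846 (iv6 D125997) F93210 F347897 D120075 F354179 (iv5 F107547) (iv6 F321276)
theorem E101576 : n184352 = n163180 := (c7_3 (iv6 F347901) F354185 D184352 (iv3 D163180))
theorem F354188 : act 4 n163180 = n88065 := (sb E101576 F286286)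
theorem F354189 : act 6 n163180 = n87924 := (sb E101576 (iv6 D184352))
theorem F354190 : act 5 n112750 = n163180 := d12_5 F354189 (iv5 F347881) (iv6 F347900) (iv5 D112749) D112750
theorem E101577 : n184686 = n147721 := ((c20_1 D147721 (iv1 D184686) (iv4 F354188) (iv3 D163180) (iv1 D78437) F56417 D35746 F309232 (iv4 F309325) (iv3 F119465) F336611)).symm
theorem F354191 : act 0 n147721 = n88065 := (sb E101577 (iv1 D184686))
theorem F354192 : act 1 n109287 = n162813 := d18_6 F336611 D147721 F354191 (iv4 F354188) (iv5 F354190) F175538 (iv4 D162813) (iv0 D78265) D78268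
theorem F354193 : act 3 n129474 = n137391 := d5_1 F354177 (iv4 D137391) (iv3 D64580) (iv4 F93855) (iv3 F203930)
theorem F354194 : act 7 n129474 = n132400 := d11_2 F204089 F354177 (iv4 F330968)
theorem E101578 : n137105 = n129570 := (c13_1 F354173 (iv5 D129570) (iv7 F348922) D132445)
theorem F354195 : act 0 n129570 = n140458 := (sb E101578 (iv1 F227061))
theorem F354196 : act 1 n129570 = n139882 := (sb E101578 (iv0 F223103))
theorem F354197 : act 3 n129570 = n64453 := (sb E101578 (iv3 D137105))
theorem F354198 : act 7 n129570 = n132445 := (sb E101578 (iv7 F354173))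
theorem F354199 : act 1 n129322 = n140458 := d15_0 (iv0 F354195) F354198 F212519
theorem F354200 : act 6 n145633 = n140458 := d21_3 F344053 F344049 (iv5 F325024) (iv1 F354199) (iv6 F348506) (iv5 D119340) (iv1 D54919) D54920 (iv6 F123364) D167233
theorem E101579 : n140674 = n140460 := ((c10_3 F354200 (iv4 D140458) D140460 F342422)).symm
theorem F354201 : act 1 n140460 = n66001 := (sb E101579 (iv0 D140674))
theorem F354202 : act 2 n140460 = n145605 := (sb E101579 (iv2 F342421))
theorem F354203 : act 4 n140460 = n145633 := (sb E101579 F342422)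
theorem F354204 : act 6 n145605 = n115741 := d3_2 D140460 F354202 F182466
theorem E101580 : n149734 = n140462 := ((c14_4 F342420 F354204 (iv7 F182465) D140462 F235493 (iv6 F342419))).symm
theorem F354205 : act 0 n140462 = n139611 := (sb E101580 F354186)
theorem F354206 : act 3 n140462 = n70334 := (sb E101580 (iv3 D149734))
theorem F354207 : act 4 n140462 = n70349 := (sb E101580 F235492)
theorem F354208 : act 7 n140462 = n128030 := (sb E101580 F235493)
theorem E101581 : n129568 = n90496 := ((c6_3 D129570 F354197 F139279 (iv3 D129568))).symm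
theorem F354209 : act 3 n90496 = n60870 := (sb E101581 (iv3 D129568))
theorem E101582 : n146821 = n129569 := ((c5_3 D90496 F354209 D129569 (iv3 D146821) (iv4 D68832) (iv3 F65421))).symm
theorem F354210 : act 3 n129569 = n68832 := (sb E101582 (iv3 D146821))
theorem F354211 : act 7 n132442 = n129569 := d8_0 F354210 (iv7 F176905) F326342
theorem E101583 : n140465 = n134734 := (c17_3 (iv1 D65927) D65929 D140465 (iv5 D134734) (iv4 F204235) F350845 F348916 D129570 F354196 F223101)
theorem F354212 : act 1 n134734 = n65929 := (sb E101583 (iv0 D140465))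
theorem E101584 : n155861 = n125995 := ((c21_4 (iv5 D129570) (iv1 F348916) (iv5 F350845) (iv6 F350843) (iv1 D155861) (iv6 D74133) D74132 (iv1 F349911) F107547 (iv6 F322627) (iv1 F354196))).symm
theorem F354213 : act 0 n125995 = n74133 := (sb E101584 (iv1 D155861))
theorem F354214 : act 4 n93353 = n113156 := d20_8 (iv4 F84048) F84049 (iv4 F93208) (iv3 F202674) F354213 (iv3 F329973) F143975 D93353 F176310 F82589
theorem F354215 : act 3 n115593 = n93353 := d5_5 F354214 F176310 F82588 (iv3 F84163) D115593
theorem E101585 : n140466 = n134736 := (c15_2 F354212 D140466 (iv7 F223441) F223440)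
theorem F354216 : act 0 n134736 = n65929 := (sb E101585 (iv1 D140466))
theorem F354217 : act 1 n115391 = n136388 := d17_6 F354148 (iv5 F348512) F348510 (iv5 F323563) (iv4 F84081) D115391 (iv5 D136388) (iv0 F328533) (iv4 F354146)
theorem F354218 : act 6 n108500 = n176594 := d3_2 (iv6 F354142) F354145 F354141
theorem F354219 : act 1 n108500 = n176630 := d15_0 (iv0 D176630) D176633 F354145
theorem F354220 : act 1 n176633 = n136346 := d15_0 (iv0 D136346) (iv7 F167727) (iv2 F354145)
theorem F354221 : act 7 n136346 = n176631 := d15_2 (iv0 F354148) F354220 (iv2 F337655)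
theorem F354222 : act 5 n136346 = n175786 := d17_7 D83904 (iv5 F334147) (iv1 F344943) F303420 (iv4 F323221) F354147 F354220 (iv0 D175786) (iv4 D83906)
theorem F354223 : act 2 n136346 = n176630 := d15_3 (iv0 D176630) D176631 (iv7 F354221)
theorem F354224 : act 7 n176630 = n136347 := d4_2 (iv7 F354221) F354223 F337655
theorem F354225 : act 1 n176631 = n108500 := d15_0 F354219 F354224 F337655
theorem E101586 : n154282 = n62985 := (c20_8 (iv4 D61235) (iv1 F46613) D50096 D108500 (iv1 F354225) (iv3 F336350) (iv4 D154284) D154282 F320617 F318485 (iv1 F95695))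
theorem E101587 : n134086 = n73090 := ((D134086).symm.trans (sb E101586 (iv0 D154282)))
theorem F354226 : act 0 n73090 = n62985 := (sb E101587 (iv1 D134086))
theorem F354227 : act 6 n111187 = n154377 := d21_3 D73090 F354226 (iv5 F172432) (iv1 D154377) (iv6 D73128) D73127 D154371 F242449 (iv6 D154281) (iv1 D73089)
theorem F354228 : act 7 n154283 = n134087 := d15_2 (iv0 F354226) D154283 (iv2 D134087)
theorem F354229 : act 2 n154285 = n134085 := d15_3 (iv0 D134085) (iv0 F354226) D154285
theorem F354230 : act 5 n134085 = n123658 := d2_2 (iv5 F242386) F354229 F198067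
theorem F354231 : act 7 n134085 = n123657 := d4_2 D154285 F354229 F198065
theorem F354232 : act 1 n154283 = n134085 := d15_1 D154283 F354231 F198065
theorem F354233 : act 0 n123724 = n111187 := d17_0 F172432 D134085 F354230 F345980 (iv5 D179063) F200698 (iv5 F278847) (iv0 F336345) F345976
theorem F354234 : act 4 n111187 = n159056 := d20_2 F345976 F354233 (iv3 D159056) (iv1 D75957) (iv3 D34711) (iv4 D16807) D16805 D34704 D75939 (iv1 F336346)
theorem F354235 : act 0 n134088 = n93099 := d21_4 F336362 F354233 F172432 D134088 (iv6 D93099) (iv5 D43557) D43554 (iv5 F294636) D93344 F335392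
theorem F354236 : act 1 n134088 = n184692 := d15_1 (iv0 F354235) (iv7 D184692) (iv2 F294654)
theorem F354237 : act 4 n134087 = n124963 := d11_1 F354228 F339308 (iv4 F336347)
theorem F354238 : act 1 n154285 = n134087 := d15_1 F336379 (iv7 F354228) (iv2 F336348)
theorem F354239 : act 1 n134087 = n123657 := d15_1 F354238 (iv7 F354231) (iv2 F354229)
theorem F354240 : act 6 n184691 = n134087 := d10_0 F354237 (iv6 F339306) F345607
theorem E101588 : n175358 = n147390 := (c19_9 (iv1 F345975) (iv5 F339309) (iv4 F354237) F245554 (iv1 F245553) F332243 (iv4 D83745) D83744 D175358 F334047 F306247 F308999 (iv1 F308978) (iv5 D67876) (iv4 F131053) D139855 F335051 D170481 (iv4 F350201) F342706)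
theorem F354241 : act 1 n147390 = n83744 := (sb E101588 (iv0 D175358))
theorem E101589 : n175363 = n159003 := ((c21_3 F323954 (iv1 F200789) (iv5 F350203) (iv6 D175363) (iv1 F354241) (iv6 D147390) D147389 (iv1 F242690) (iv5 D154602) F190181 (iv1 F230426))).symm
theorem F354242 : act 3 n159003 = n83747 := (sb E101589 F274410)
theorem F354243 : act 6 n159003 = n83744 := (sb E101589 (iv6 D175363))
theorem E101590 : n179120 = n68910 := (c21_3 F113820 D85470 D179120 F323538 D146748 F334044 F340248 F233841 F334057 (iv6 F354243) (iv1 D159003))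
theorem E101591 : n147002 = n85470 := ((D147002).symm.trans (sb E101590 (iv5 D179120)))
theorem F354244 : act 5 n85470 = n68910 := (sb E101591 (iv5 D147002))
theorem F354245 : act 5 n142521 = n179118 := d6_2 F354244 F323537 (iv3 D179118)
theorem F354246 : act 4 n103321 = n125052 := d18_7 D147001 (iv4 F233905) (iv1 F233907) F230937 (iv5 F353767) F158561 D103321 F200890 F354244
theorem F354247 : act 3 n179119 = n113115 := d19_3 (iv1 F323950) (iv5 F354244) D179119 (iv1 F176230) (iv5 F83400) (iv4 F108021) (iv3 D71488) D71486 D151696 F238576 (iv3 F314766) (iv1 D98099) (iv5 D45807) F301566 (iv3 D39628) F29997 F27563 D34707 D75947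
theorem F354248 : act 1 n130563 = n103322 := d17_6 (iv1 F200892) F350202 F323951 F113840 F318269 D130563 (iv5 D103322) D103321 F354246
theorem F354249 : act 0 n179247 = n107703 := d20_10 (iv4 F175931) (iv1 F331331) F354246 F200888 (iv1 F336301) (iv3 F245453) (iv4 D156193) (iv1 F245082) F351396 D179247
theorem E101592 : n179233 = n108030 := ((c20_8 (iv4 F354246) (iv1 D103321) (iv4 F158561) F331338 (iv1 D49711) D49712 (iv4 F78896) D108030 (iv4 F279152) (iv3 D179118) (iv1 F200890))).symm
theorem F354250 : act 0 n108030 = n85534 := (sb E101592 (iv1 D179233))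
theorem F354251 : act 4 n108030 = n179118 := (sb E101592 (iv4 F279152))
theorem F354252 : act 1 n179247 = n103319 := d15_1 (iv0 F354249) F331339 D107703
theorem F354253 : act 1 n179276 = n107703 := d15_0 (iv0 F354249) F279171 D179276
theorem F354254 : act 1 n103319 = n179276 := d15_0 F354253 F350214 F350215
theorem F354255 : act 5 n147894 = n179276 := d17_5 F190194 (iv5 F318657) F318656 (iv5 D147897) (iv4 F231673) F354253 (iv5 F350211) (iv0 D147193) F105215
theorem F354256 : act 5 n103321 = n133367 := d17_1 (iv1 F331331) (iv1 D133367) (iv5 D62594) (iv4 F97569) D133331 (iv0 F335860) F354255 F354253 (iv4 F175931)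
theorem F354257 : act 4 n103226 = n179276 := d18_7 (iv1 F230766) F105267 F190196 D117393 (iv5 F336315) F158474 D103226 F354253 (iv5 F350211)
theorem F354258 : act 3 n103226 = n103795 := d20_3 F175931 (iv1 F354253) (iv4 F354257) (iv1 D103795) F319042 (iv4 D71833) (iv1 F131007) D39465 D85459 (iv1 F319048)
theorem F354259 : act 0 n160724 = n147894 := d19_0 F354255 (iv4 F354257) F354258 (iv1 D103795) F293296 (iv4 F257695) F348725 (iv1 F211619) (iv5 D61978) D61977 F211579 F211577 D29897 D63262 D134626 (iv1 F344796) F316724 (iv4 F115836) (iv3 F253883)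
theorem F354260 : act 2 n179277 = n103226 := d1_3 F354257 (iv2 D179276) D179277
theorem F354261 : act 2 n179278 = n147894 := d2_3 F354255 (iv2 D179276) D179278
theorem E101593 : n166521 = n147062 := ((c3_4 F347914 F354261 (iv6 D147894) (iv2 F241156))).symm
theorem F354262 : act 3 n147062 = n79927 := (sb E101593 (iv3 D166521))
theorem F354263 : act 6 n147062 = n179278 := (sb E101593 F347914)
theorem E101594 : n148663 = n148292 := ((c19_16 (iv1 F322077) F322079 D147062 F354262 (iv1 D79927) (iv5 D36405) (iv4 F56935) (iv3 D36235) D36233 F318549 F316274 (iv3 F322640) F337164 (iv5 D69507) D69506 D148292 F309253 (iv5 F313799) (iv4 D146724) (iv3 F230048))).symm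
theorem F354264 : act 0 n148292 = n79935 := (sb E101594 F309253)
theorem F354265 : act 1 n148292 = n180619 := (sb E101594 F309254)
theorem F354266 : act 2 n148292 = n155885 := (sb E101594 (iv2 F244870))
theorem F354267 : act 4 n148292 = n108401 := (sb E101594 F233425)
theorem F354268 : act 5 n148292 = n69673 := (sb E101594 (iv5 D148663))
theorem F354269 : act 6 n148292 = n121466 := (sb E101594 (iv6 F336905))
theorem F354270 : act 7 n148292 = n121499 := (sb E101594 (iv7 F323518))
theorem F354271 : act 6 n131233 = n155885 := d3_2 F354269 F306879 (iv2 F354266)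
theorem F354272 : act 0 n121463 = n131233 := d21_4 F60490 (iv1 F92258) (iv5 F110221) (iv6 F349373) F354271 (iv5 D155885) (iv1 D74140) (iv5 F92375) (iv6 D58479) (iv1 F60492)
theorem E101595 : n166031 = n125669 := ((c19_12 D50055 D108401 (iv4 F354267) (iv3 D148292) D148290 F337674 F203913 F169548 (iv1 D64437) F48771 (iv4 F93051) (iv3 F202154) (iv1 F282291) (iv5 F299391) F148993 F297488 (iv1 F91958) F116999 F310616 F79180)).symm
theorem F354273 : act 0 n125669 = n181233 := (sb E101595 (iv1 F282291))
theorem F354274 : act 1 n125669 = n81500 := (sb E101595 F299701)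
theorem F354275 : act 2 n125669 = n181236 := (sb E101595 (iv2 F282297))
theorem E101596 : n181207 = n108620 := (((F202155).symm.trans (sb E101595 (iv4 F282239)))).symm
theorem F354276 : act 5 n125669 = n79713 := (sb E101595 (iv5 D166031))
theorem F354277 : act 7 n125669 = n181008 := (sb E101595 (iv7 F281850))
theorem F354278 : act 0 n108620 = n166068 := (sb E101596 F282240)
theorem F354279 : act 1 n108620 = n111399 := (sb E101596 (iv0 F350054))
theorem F354280 : act 5 n108620 = n86532 := (sb E101596 (iv5 D181207))
theorem F354281 : act 0 n147877 = n124562 := d20_7 (iv4 F354267) F354264 (iv4 F310761) F310760 (iv1 F340816) F231650 (iv4 F231653) F199216 (iv3 F308859) F182698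
theorem F354282 : act 1 n147877 = n124511 := d15_1 (iv0 F354281) F348856 (iv2 F348855)
theorem F354283 : act 7 n147877 = n124559 := d15_2 F268022 (iv0 F354281) (iv2 F268020)
theorem F354284 : act 2 n124558 = n147877 := d4_3 F354283 (iv2 F268020) F268028
theorem F354285 : act 5 n135287 = n147877 := d16_7 (iv4 D170592) (iv5 D81768) F58297 D37386 D81776 D170606 (iv4 F341741) F354283 (iv2 F268020)
theorem E101597 : n170606 = n130241 := ((c18_3 F337777 (iv4 F95646) D130241 (iv4 F341741) F354285 F231653 F312383 D169805 F267225 F341960)).symm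
theorem F354286 : act 0 n130241 = n163633 := (sb E101597 F341949)
theorem F354287 : act 2 n130241 = n124607 := (sb E101597 F268050)
theorem F354288 : act 4 n130241 = n135287 := (sb E101597 (iv4 F341741))
theorem F354289 : act 5 n130241 = n81776 := (sb E101597 (iv5 D170606))
theorem F354290 : act 6 n130241 = n133000 := (sb E101597 (iv6 F341946))
theorem F354291 : act 7 n130241 = n124602 := (sb E101597 F268051)
theorem F354292 : act 6 n132716 = n135287 := d10_2 F354290 F341947 (iv4 F354288)
theorem F354293 : act 3 n135287 = n132594 := d7_1 F354292 F348905 D132716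
theorem F354294 : act 6 n147876 = n120989 := d12_4 F354292 F354285 (iv6 D147877) D147876 (iv5 F326014)
theorem E101598 : n132599 = n88537 := (c0_3 F354293 F348903 D132599 (iv2 F135590) D185796 F337858)
theorem E101599 : n185892 = n62218 := ((D185892).symm.trans (sb E101598 (iv3 D132599)))
theorem F354295 : act 3 n62218 = n88537 := (sb E101599 (iv3 D185892))
theorem E101600 : n185798 = n132595 := ((((iv7 F348902)).symm.trans (sb E101599 F288380))).symm
theorem F354296 : act 3 n132595 = n88489 := (sb E101600 (iv3 D185798))
theorem F354297 : act 7 n132604 = n135287 := d8_0 F354293 F348904 D132604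
theorem F354298 : act 2 n135288 = n132604 := d4_3 F354297 (iv2 F337858) (iv7 F337857)
theorem F354299 : act 4 n124602 = n132604 := d11_3 F354297 (iv4 F354288) F354291
theorem F354300 : act 5 n124559 = n132604 := d13_3 F354297 F354285 F354283
theorem F354301 : act 1 n128992 = n132604 := d15_1 F348863 F354297 (iv2 F337858)
theorem F354302 : act 1 n132604 = n135290 := d15_1 F354301 (iv7 D135290) (iv2 F207237)
theorem F354303 : act 1 n124602 = n130244 := d18_8 (iv1 F299385) F129668 D84521 (iv4 F297782) F347420 (iv4 F207238) F354301 (iv4 F354299) F341974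
theorem F354304 : act 1 n130199 = n124602 := d15_0 F354303 (iv7 D130244) (iv2 F208717)
theorem F354305 : act 0 n132644 = n147505 := d18_0 F231290 F231278 F310633 F354300 (iv4 F354299) F354303 F208759 (iv0 F341752) D132644
theorem F354306 : act 4 n170543 = n124506 := d20_8 (iv4 F341963) F354305 F231290 (iv3 F242924) F105629 (iv3 F214289) F316370 D170543 F199147 D124510
theorem F354307 : act 1 n124607 = n130199 := d15_0 F354304 (iv7 F354291) F354287
theorem F354308 : act 0 n170483 = n181686 := d18_0 (iv4 D181686) (iv1 F310634) F310635 F348861 F348862 F354307 F208718 F341750 F341958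
theorem F354309 : act 0 n185791 = n130195 := d20_4 (iv4 D88522) (iv1 F63669) D88486 D185791 F208705 (iv4 F208718) (iv1 F354307) (iv4 F348862) (iv3 D185796) (iv1 F135556)
theorem F354310 : act 0 n181684 = n130885 := d20_4 D170483 F354308 (iv4 D181686) (iv3 F282799) F237549 (iv4 F334583) F334581 (iv4 F308860) F308859 F125645
theorem F354311 : act 1 n132644 = n181686 := d15_0 (iv0 F354308) F267930 F341964
theorem F354312 : act 6 n148545 = n181684 := d21_3 (iv5 F85260) D117241 F233319 F354310 (iv6 F209472) F316828 (iv1 F222854) F349396 (iv6 D117289) (iv1 F183639)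
theorem F354313 : act 1 n181684 = n130880 := d15_1 (iv0 F354310) F237561 (iv2 F237562)
theorem E101601 : n130881 = n98054 := ((c21_5 (iv5 D32248) D32246 D69410 (iv6 F315557) F315553 (iv6 D130881) D130880 (iv1 F354313) (iv5 D181684) F299095 (iv1 F309410))).symm
theorem F354314 : act 6 n98054 = n61403 := (sb E101601 (iv6 D130881))
theorem F354315 : act 6 n130878 = n148920 := d7_2 F354314 D130878 F235906
theorem F354316 : act 6 n130879 = n98343 := d10_2 F354314 D130879 (iv4 F344401)
theorem F354317 : act 3 n132606 = n124559 := d6_3 F354300 (iv3 D132604) D132606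
theorem F354318 : act 3 n182293 = n179267 := d0_4 F354317 (iv2 F268020) (iv3 F344375) (iv2 F292115) F351361
theorem F354319 : act 3 n132601 = n182283 := d8_3 (iv7 F283817) F354318 F348900
theorem F354320 : act 0 n145779 = n179267 := d20_4 F318354 F130895 (iv4 F104533) (iv3 F228910) (iv3 F354318) F283814 F135488 F321777 (iv3 F320189) F320187
theorem F354321 : act 6 n182283 = n166516 := d7_2 (iv6 F348894) F354319 (iv3 D166516)
theorem F354322 : act 4 n166516 = n185835 := d10_1 F354321 (iv6 D185835) (iv4 F283777)
theorem F354323 : act 0 n185835 = n178377 := d20_7 F315668 F51347 (iv4 F315541) (iv3 F57149) D79926 D166516 F354322 F277929 F130075 (iv1 F60235)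
theorem F354324 : act 3 n185799 = n179271 := d7_3 F351325 F354296 D185799
theorem F354325 : act 5 n179256 = n185799 := d6_0 F354324 (iv5 D179271) (iv3 F279179)
theorem E101602 : n141727 = n113680 := ((c20_8 F95569 F47363 F324377 D127007 F351329 (iv3 F354324) F288117 F176876 F224772 (iv3 D66469) (iv1 F95571))).symm
theorem F354326 : act 3 n113680 = n66460 := (sb E101602 (iv3 D141727))
theorem F354327 : act 4 n113680 = n66469 := (sb E101602 F224772)
theorem F354328 : act 4 n135724 = n110848 := d19_6 D126719 F322267 (iv4 F354327) F354326 F218231 F218230 F171705 F80630 (iv5 D29774) (iv4 D14147) (iv3 F19920) (iv1 F37486) (iv5 F37788) (iv4 F40130) F40131 (iv1 F37946) F37943 (iv4 F45726) D59459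
theorem F354329 : act 3 n111725 = n135724 := d5_5 F354328 F171705 F80629 D51515 D111725
theorem F354330 : act 4 n134012 = n130948 := d11_3 (iv7 F218317) F354328 (iv7 F215944)
theorem F354331 : act 0 n110906 = n100599 := d20_4 F81110 (iv1 D51380) F80666 D110906 F350406 (iv4 D130950) D130948 (iv4 F354330) (iv3 D134012) (iv1 F98213)
theorem F354332 : act 4 n92899 = n111723 := d20_0 (iv1 D111723) D111725 F354329 (iv1 D135724) (iv3 F218212) F327879 (iv1 F314510) F335954 F143270 D92899
theorem F354333 : act 0 n107374 = n179256 := d17_0 F354325 F288118 (iv5 F336045) (iv4 D107354) (iv5 D49594) F78332 F78330 F78342 D107374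
theorem F354334 : act 1 n107379 = n179256 := d18_8 F288118 F288115 (iv1 F288356) (iv4 F336033) (iv5 D107383) (iv4 D49601) D49600 D107379 F354325
theorem F354335 : act 3 n185893 = n132602 := d7_3 (iv6 D132602) F354295 D185893
theorem F354336 : act 5 n180588 = n185893 := d6_0 F354335 F348898 D180588
theorem F354337 : act 7 n132711 = n185893 := d8_0 F354335 F348899 D132711
theorem E101603 : n130140 = n94455 := ((c20_7 (iv4 D28930) F23375 (iv4 F47253) (iv3 F97097) (iv1 F348896) (iv3 F354335) F288382 (iv1 D130140) F95614 F46589 (iv1 F79886))).symm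
theorem F354338 : act 0 n94455 = n61098 := (sb E101603 (iv1 D130140))
theorem F354339 : act 4 n158125 = n94453 := d18_7 F354338 F95614 D61103 D130161 F336098 F293809 F276117 (iv0 D94453) D94455
theorem F354340 : act 3 n110729 = n130241 := d6_3 F354289 (iv3 F325865) D110729
theorem E101604 : n163637 = n61133 := (c17_2 (iv1 F299101) D163637 D130241 F354289 (iv4 D81776) (iv5 D37386) F116803 (iv5 F116999) F91958 D58173)
theorem E101605 : n130243 = n78622 := ((D130243).symm.trans (sb E101604 (iv5 D163637)))
theorem F354341 : act 5 n78622 = n61133 := (sb E101605 (iv5 D130243))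
theorem F354342 : act 5 n130234 = n163636 := d6_2 F354341 (iv3 F208752) (iv3 D163636)
theorem E101606 : n166083 = n130239 := ((c12_5 F122426 F354341 (iv6 D61133) D61132 D130239 (iv5 D166083))).symm
theorem F354343 : act 0 n130239 = n177347 := (sb E101606 F299601)
theorem F354344 : act 1 n130239 = n180023 := (sb E101606 F299602)
theorem F354345 : act 3 n130239 = n166167 := (sb E101606 (iv3 F345665))
theorem F354346 : act 5 n130239 = n79737 := (sb E101606 (iv5 D166083))
theorem F354347 : act 2 n130244 = n163633 := d16_9 F341950 F338383 F229982 F104934 (iv4 F310586) F118866 D78622 F354341 D130244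
theorem F354348 : act 5 n130242 = n124517 := d17_7 (iv1 F122169) (iv5 F297868) (iv1 F123862) F118866 D78622 F354341 D130242 (iv0 F199176) (iv4 D96180)
theorem F354349 : act 4 n130242 = n135288 := d17_9 (iv1 D135288) D135289 (iv1 F337899) F348873 F348875 (iv5 D124588) (iv0 F299100) F354341 D130242
theorem F354350 : act 2 n124602 = n130242 := d1_3 F354349 F354298 (iv4 F354299)
theorem F354351 : act 7 n124607 = n130242 := d11_0 F354349 F337857 F348862
theorem F354352 : act 0 n163633 = n130242 := d18_0 F354349 (iv1 D135288) F207231 (iv5 F337897) (iv4 D124584) F91958 D58173 (iv0 F299098) D163633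
theorem E101607 : n132967 = n132084 := ((c20_8 (iv4 F341950) F354352 F354349 F337856 F327758 (iv3 F321346) F211610 D132084 (iv4 D132967) (iv3 F338391) (iv1 F337769))).symm
theorem F354353 : act 2 n132084 = n129792 := (sb E101607 (iv2 F338398))
theorem F354354 : act 4 n132084 = n62393 := (sb E101607 (iv4 D132967))
theorem F354355 : act 6 n132084 = n130321 := (sb E101607 F338393)
theorem E101608 : n132085 = n131971 := (c15_2 (iv0 D132084) D132085 F211451 (iv2 F354353))
theorem F354356 : act 0 n131971 = n61974 := (sb E101608 (iv1 D132085))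
theorem E101609 : n185755 = n132072 := ((c20_6 F164157 (iv1 F77825) D61925 D131971 F354356 (iv3 F211556) (iv4 D185755) D185753 F349140 (iv3 D131960) (iv1 F164161))).symm
theorem F354357 : act 1 n132072 = n113310 := (sb E101609 (iv0 F349146))
theorem F354358 : act 4 n132072 = n88471 := (sb E101609 (iv4 D185755))
theorem F354359 : act 7 n132072 = n185856 := (sb E101609 (iv7 F288284))
theorem F354360 : act 3 n185856 = n132087 := d8_1 F354359 (iv7 D132087) (iv3 F211556)
theorem F354361 : act 4 n132087 = n154341 := d5_2 D185856 F354360 F346104 (iv4 D88522) (iv3 F135548)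
theorem F354362 : act 0 n129792 = n132087 := d18_2 F336585 (iv4 F208143) F354361 (iv5 D154341) F346102 F342781 (iv4 F342774) (iv0 F213521) (iv5 D132914)
theorem F354363 : act 7 n163633 = n130199 := d15_2 D130242 (iv0 F354352) F208717
theorem F354364 : act 6 n130308 = n163633 := d14_5 F354363 (iv6 D130199) F95635 D61153 D130308
theorem F354365 : act 5 n135689 = n130308 := d12_5 F354364 (iv5 D163633) (iv6 F330423) F330422 D135689
theorem F354366 : act 7 n130307 = n135689 := d13_0 F354365 (iv7 D130308) D130307
theorem E101610 : n130237 = n113336 := ((c21_4 D52278 D113262 F219256 D113336 (iv1 D130237) D130239 F354346 F297446 D81500 F349673 (iv1 D52276))).symm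
theorem F354367 : act 0 n113336 = n61132 := (sb E101610 (iv1 D130237))
theorem F354368 : act 1 n113336 = n61152 := (sb E101610 F208755)
theorem F354369 : act 3 n113336 = n128774 := (sb E101610 (iv3 F212220))
theorem F354370 : act 5 n113336 = n128272 := (sb E101610 (iv5 F316701))
theorem F354371 : act 6 n128774 = n113333 := d7_2 D113336 F354369 (iv3 D113333)
theorem F354372 : act 6 n130227 = n113267 := d21_3 (iv5 D61132) D61129 D130227 (iv1 D113267) (iv6 D52279) D52278 D113262 F219256 D113336 F354367
theorem F354373 : act 6 n166167 = n130233 := d7_2 D130239 F354345 F208751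
theorem F354374 : act 3 n124602 = n112618 := d8_3 F175228 F354340 F354291
theorem E101611 : n181206 = n108622 := (c6_2 F354280 D181206 (iv5 D108622) (iv3 F168487))
theorem F354375 : act 3 n108622 = n86532 := (sb E101611 (iv3 D181206))
theorem F354376 : act 4 n180014 = n163452 := d18_5 (iv1 F302799) (iv4 D180009) (iv1 D86023) D86024 D180014 (iv0 F299707) F299709 (iv0 F354278) F354280
theorem F354377 : act 7 n138480 = n180014 := d11_0 F354376 F341737 (iv4 F341738)
theorem E101612 : n180014 = n123041 := (c20_3 (iv4 F299709) F299707 (iv4 F354376) (iv3 D123041) (iv1 F325343) F172860 F81093 F39189 (iv4 F79462) (iv3 F168487) F354278)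
theorem E101613 : n163452 = n163450 := ((((iv4 F257735)).symm.trans (sb E101612 F354376))).symm
theorem F354378 : act 5 n123041 = n86024 := (sb E101612 (iv5 D180014))
theorem F354379 : act 7 n123041 = n138480 := (sb E101612 (iv7 F354377))
theorem F354380 : act 0 n163450 = n79741 := (sb E101613 F257737)
theorem F354381 : act 1 n163450 = n180033 := (sb E101613 (iv0 F299707))
theorem F354382 : act 2 n163450 = n125305 := (sb E101613 (iv2 F297621))
theorem F354383 : act 5 n163450 = n78550 := (sb E101613 (iv5 D163452))
theorem F354384 : act 7 n163450 = n169886 := (sb E101613 F341737)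
theorem E101614 : n163451 = n163449 := (c12_5 D163450 F354383 (iv6 D78550) D78549 D163451 (iv5 D163449))
theorem F354385 : act 2 n163449 = n97479 := (sb E101614 (iv2 F294074))
theorem F354386 : act 4 n163449 = n90006 := (sb E101614 F257736)
theorem F354387 : act 6 n163449 = n78549 := (sb E101614 (iv6 D163451))
theorem E101615 : n163446 = n129020 := (c21_5 (iv5 D180025) F297292 (iv5 F354383) (iv6 D163450) D163446 (iv6 D129020) (iv5 D60664) F207219 D128980 F347406 F347408)
theorem F354388 : act 0 n129020 = n185559 := (sb E101615 (iv1 F287863))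
theorem F354389 : act 1 n129020 = n78548 := (sb E101615 (iv0 D163446))
theorem E101616 : n163447 = n129038 := (c15_2 F354389 D163447 (iv7 D129038) (iv2 F207269))
theorem F354390 : act 0 n129038 = n78548 := (sb E101616 (iv1 D163447))
theorem F354391 : act 1 n129038 = n185559 := (sb E101616 F287865)
theorem F354392 : act 4 n129020 = n108773 := d20_0 (iv1 D108773) (iv4 F168635) F168634 F164307 (iv3 F327059) F112714 (iv1 F296046) F56454 D78548 (iv1 F354389)
theorem F354393 : act 2 n108773 = n129034 := d1_1 F354392 F207277 (iv2 F207269)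
theorem F354394 : act 6 n108773 = n108197 := d10_2 D129020 F354392 F167314
theorem F354395 : act 3 n108199 = n108773 := d7_3 F354394 F167312 D108199
theorem E101617 : n108924 = n108768 := ((c21_8 F246736 (iv1 D108195) D108197 (iv6 F354394) (iv1 D108773) (iv6 D50220) D50219 D108768 (iv5 D108924) D108925 F348810)).symm
theorem F354396 : act 4 n108768 = n51517 := (sb E101617 F168939)
theorem F354397 : act 5 n108768 = n50292 := (sb E101617 (iv5 D108924))
theorem F354398 : act 6 n108768 = n150847 := (sb E101617 (iv6 F348816))
theorem F354399 : act 2 n151173 = n108768 := d3_3 F354398 F237415 D151173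
theorem F354400 : act 4 n111733 = n151173 := d1_0 F354399 F354396 D111733
theorem F354401 : act 5 n108639 = n151173 := d2_0 F354399 F354397 (iv2 F204635)
theorem F354402 : act 7 n108769 = n151173 := d15_2 (iv0 D108768) D108769 F354399
theorem E101618 : n108929 = n108769 := (c13_4 F354402 (iv5 F354401) F204636 D108929)
theorem F354403 : act 5 n108769 = n50293 := (sb E101618 (iv5 D108929))
theorem F354404 : act 3 n151173 = n144305 := d6_1 F354401 F227013 (iv3 F348800)
theorem F354405 : act 0 n108766 = n151173 := d21_7 F343563 (iv1 F167308) (iv5 F167310) D129034 (iv1 F341838) (iv6 D108767) D108766 (iv5 F354401) F348801 (iv1 F343560)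
theorem F354406 : act 6 n92916 = n111733 := d10_0 F354400 (iv6 D151173) (iv4 F339950)
theorem F354407 : act 3 n111733 = n92918 := d7_1 F354406 (iv6 D92918) D92916
theorem F354408 : act 2 n92918 = n111354 := d0_1 F354407 (iv3 D111354) (iv2 F81062) D51517 D111733
theorem F354409 : act 5 n140700 = n92918 := d2_0 F354408 F172800 D140700
theorem F354410 : act 6 n111354 = n92611 := d3_2 D92918 F354408 (iv2 F142841)
theorem F354411 : act 7 n111724 = n92918 := d4_0 F354408 F172801 D111724
theorem F354412 : act 1 n92918 = n111722 := d15_0 (iv0 D111722) (iv7 F172801) (iv2 F354408)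
theorem F354413 : act 1 n111723 = n92918 := d15_1 D111723 (iv7 F354411) (iv2 D111724)
theorem F354414 : act 3 n92611 = n111355 := d7_1 F354410 (iv6 D111355) D111354
theorem F354415 : act 4 n100365 = n111354 := d10_3 F354410 F142669 D100365
theorem F354416 : act 7 n92921 = n111726 := d14_4 (iv7 F172801) F354410 F142842 D92921 (iv6 D111726)
theorem E101619 : n171125 = n92921 := (c8_4 F354416 F173434 (iv7 F336746) D171125)
theorem F354417 : act 3 n92921 = n82017 := (sb E101619 (iv3 D171125))
theorem F354418 : act 3 n130948 = n100365 := d5_5 F354415 (iv3 D111354) (iv4 F98211) D134012 F354330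
theorem F354419 : act 7 n111725 = n100365 := d11_0 F354415 F172801 D111725
theorem F354420 : act 6 n100364 = n130948 := d7_0 F354418 (iv6 D100365) D100364
theorem F354421 : act 6 n135723 = n152561 := d3_2 F354420 (iv2 F218316) (iv2 F239754)
theorem F354422 : act 6 n134012 = n184470 := d10_2 F354420 (iv4 F354330) (iv4 F349151)
theorem F354423 : act 6 n130676 = n152495 := d21_3 F218234 (iv1 F99194) D130676 (iv1 D152495) F143454 (iv5 F291329) (iv1 F295344) F349150 F354420 (iv1 F218237)
theorem F354424 : act 5 n152495 = n130675 := d12_1 F354423 (iv6 D130675) (iv5 D61311) D61312 D130676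
theorem F354425 : act 3 n127776 = n152495 := d6_3 F354424 F353825 (iv5 F205414)
theorem E101620 : n152511 = n133479 := ((c21_4 (iv5 D30017) D30015 (iv5 F97727) D133479 (iv1 D152511) (iv6 D71934) D71933 (iv1 F239677) F354424 (iv6 D130675) F95794)).symm
theorem F354426 : act 0 n133479 = n71934 := (sb E101620 (iv1 D152511))
theorem F354427 : act 3 n130676 = n114344 := d7_3 (iv6 F205416) F354425 (iv6 F354423)
theorem F354428 : act 3 n127808 = n135722 := d8_3 F218227 F354427 (iv7 F205617)
theorem F354429 : act 5 n135721 = n127808 := d6_0 F354428 (iv5 D135722) D135721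
theorem F354430 : act 2 n184529 = n134012 := d3_3 F354422 F286366 D184529
theorem F354431 : act 6 n159129 = n110848 := d14_5 (iv7 F215944) F354422 (iv7 D184470) F134955 (iv7 F250545)
theorem F354432 : act 4 n135723 = n184529 := d1_0 F354430 F354330 (iv2 F218316)
theorem F354433 : act 5 n139352 = n184529 := d2_0 F354430 F215943 D139352
theorem F354434 : act 1 n184529 = n141416 := d15_0 (iv0 F224460) (iv7 F215944) (iv2 F354430)
theorem F354435 : act 6 n93338 = n139352 := d12_0 F354433 (iv6 D184529) F134999 (iv6 F68608) D93338
theorem E101621 : n152285 = n141728 := ((c21_9 (iv5 D113613) F104116 F104117 D71952 D152561 (iv6 F354421) F218228 (iv1 F218318) D141728 (iv6 D152285) (iv1 F176789))).symm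
theorem F354436 : act 2 n141728 = n71945 := (sb E101621 F239371)
theorem F354437 : act 6 n141728 = n71844 := (sb E101621 (iv6 D152285))
theorem E101622 : n152279 = n146542 := (c21_11 (iv5 D146542) (iv1 F353827) (iv5 F354424) (iv6 F354423) (iv1 F224773) F354437 (iv5 D71844) (iv1 D33203) D33204 (iv6 F108283) D152279)
theorem F354438 : act 0 n146542 = n71938 := (sb E101622 (iv1 F239359))
theorem F354439 : act 1 n146542 = n71841 := (sb E101622 (iv0 D152279))
theorem F354440 : act 6 n135726 = n152578 := d21_3 (iv5 D130947) (iv1 F99200) (iv5 F218234) (iv1 D152578) (iv6 D71958) F52481 (iv1 F52423) D71844 (iv6 F354437) (iv1 F224774)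
theorem F354441 : act 0 n146543 = n106160 := d21_10 (iv5 F164563) F340666 (iv5 D78893) (iv6 D35914) F28345 D33202 D71841 (iv1 F354439) (iv5 D146542) D146543
theorem F354442 : act 1 n130676 = n152545 := d15_1 F224773 (iv7 D152545) (iv2 F354436)
theorem F354443 : act 1 n152545 = n130947 := d15_1 F354442 (iv7 F214616) F214615
theorem F354444 : act 5 n152545 = n135874 := d17_7 F211458 (iv5 D126819) (iv1 D59512) D59513 (iv4 F95796) D130676 F354442 (iv0 F218543) F216449
theorem F354445 : act 5 n100154 = n92611 := d6_0 F354414 F337422 (iv3 F335718)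
theorem F354446 : act 5 n99295 = n150783 := d19_13 F329534 (iv5 F337438) F215946 (iv3 F354414) (iv1 F142670) (iv5 F142787) (iv4 D92654) (iv3 F142779) F292932 (iv5 D46528) (iv4 F73522) (iv3 F134706) F157773 (iv4 F237984) (iv3 D151260) F107781 (iv5 F329965) (iv4 F158521) (iv3 D99870)
theorem F354447 : act 2 n150783 = n104140 := d2_1 F354446 (iv5 D104140) (iv2 F152887)
theorem E101623 : n184317 = n151373 := ((c13_3 (iv7 F152889) F354446 (iv7 F238090) (iv5 D184317))).symm
theorem F354448 : act 2 n151373 = n87913 := (sb E101623 F286253)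
theorem F354449 : act 5 n151373 = n87912 := (sb E101623 (iv5 D184317))
theorem F354450 : act 1 n184320 = n150783 := d15_1 D184320 (iv7 F238090) F354448
theorem E101624 : n151260 = n103903 := ((c1_4 F237984 F354447 F349155 F159336)).symm
theorem F354451 : act 3 n103903 = n71287 := (sb E101624 (iv3 D151260))
theorem F354452 : act 4 n103903 = n150783 := (sb E101624 F237984)
theorem F354453 : act 1 n150783 = n184319 := d15_0 (iv0 D184319) (iv7 F159629) (iv2 F354447)
theorem F354454 : act 0 n100785 = n103905 := d18_0 (iv4 D103905) D103903 F354452 (iv5 F354446) F152888 (iv0 D96349) F70743 D46992 D100785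
theorem F354455 : act 1 n100781 = n103905 := d15_0 (iv0 F354454) F154979 (iv2 F154969)
theorem F354456 : act 6 n142565 = n103903 := d7_0 F354451 F322322 D142565
theorem F354457 : act 5 n92609 = n89420 := d18_4 (iv1 F142670) F68330 (iv1 F67997) D92609 (iv4 D89420) (iv0 F66129) D46778 (iv0 F154082) F354445
theorem F354458 : act 5 n92606 = n100241 := d9_8 F354457 (iv4 D89420) (iv5 D41757) F291856 F291499 (iv4 F73893) (iv5 F292120) D92606 (iv4 D100241) F292895 (iv4 F73951) (iv5 F73948) F65918 F67998 D92609
theorem E101625 : n111731 = n111642 := (c20_2 F354396 D111731 F173205 (iv3 D109165) (iv1 D50384) F38548 D24564 (iv1 F78117) (iv4 F78119) (iv3 F79572) D108768)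
theorem F354459 : act 1 n111642 = n51517 := (sb E101625 (iv0 D111731))
theorem E101626 : n111504 = n111402 := ((c20_5 D25032 (iv1 F80662) (iv4 F80666) (iv3 F81103) D111402 (iv3 F173036) (iv4 D108770) D108768 F354396 (iv3 D51517) (iv1 D25031))).symm
theorem F354460 : act 3 n111402 = n108770 := (sb E101626 (iv3 F173036))
theorem F354461 : act 4 n111402 = n106925 := (sb E101626 F173035)
theorem F354462 : act 5 n111402 = n51427 := (sb E101626 (iv5 D111504))
theorem E101627 : n157159 = n111407 := (c21_4 F208785 (iv1 D74719) D74721 D157159 (iv1 D111407) (iv6 D51378) D51377 D111402 F354462 D111505 F348789)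
theorem F354463 : act 3 n111407 = n74723 := (sb E101627 F247333)
theorem F354464 : act 6 n111407 = n74721 := (sb E101627 (iv6 D157159))
theorem F354465 : act 4 n108772 = n129038 := d20_0 F354390 F119733 (iv3 D57922) (iv1 F56239) F326652 (iv4 D50234) (iv1 D24496) (iv4 F38451) (iv3 F79573) D108772
theorem F354466 : act 4 n135695 = n129080 := d20_0 (iv1 F207315) F207306 (iv3 F207283) F354390 (iv3 D78548) (iv4 F56454) (iv1 F54626) D75171 (iv3 F330369) D135695
theorem F354467 : act 4 n106545 = n106801 := d18_7 D135695 F354466 (iv1 F207315) F207306 (iv5 F96583) (iv4 F164570) F164573 (iv0 D106801) (iv5 F99177)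
theorem F354468 : act 0 n132120 = n163472 := d20_4 (iv4 F354467) (iv1 F164573) F164570 (iv3 F211647) (iv3 D163472) (iv4 F119747) (iv1 F293596) D87476 (iv3 F330368) D106801
theorem F354469 : act 1 n132104 = n163472 := d15_0 (iv0 F354468) (iv7 D132120) (iv2 F211640)
theorem F354470 : act 7 n129034 = n108772 := d11_0 F354465 (iv7 D129038) (iv4 F207277)
theorem F354471 : act 7 n90006 = n158050 := d11_2 F294068 F354386 (iv4 F294066)
theorem E101628 : n185463 = n158058 := ((c19_1 (iv1 F249005) (iv5 F294693) (iv4 F354386) F257733 F119735 (iv5 D36422) (iv4 D17586) F13030 F5718 F5681 F2783 (iv3 F2238) (iv1 F2242) (iv5 F2878) D1831 D4332 (iv1 F17487) (iv5 F27443) (iv4 F54697) (iv3 F112884))).symm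
theorem F354472 : act 2 n158058 = n97482 := (sb E101628 F287727)
theorem F354473 : act 4 n158058 = n104666 := (sb E101628 F287728)
theorem F354474 : act 5 n158058 = n90006 := (sb E101628 (iv5 F294693))
theorem F354475 : act 6 n158058 = n88348 := (sb E101628 (iv6 D185463))
theorem F354476 : act 0 n158871 = n90006 := d21_7 (iv5 D41238) F63149 D21218 (iv6 F70125) D95477 F340710 D158871 (iv5 F354474) F354475 (iv1 D88348)
theorem F354477 : act 0 n174261 = n96403 := d21_7 F70657 (iv1 F70263) (iv5 F135301) (iv6 F354475) (iv1 D158058) (iv6 F128369) D174261 F148400 (iv6 D48440) (iv1 F70656)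
theorem F354478 : act 0 n90006 = n176733 := d21_7 (iv5 F138039) (iv1 F328308) F328310 F327920 (iv1 F135300) (iv6 F354475) F354474 (iv5 D176733) (iv6 F326713) F147119
theorem E101629 : n176732 = n176708 := (c21_4 D158059 (iv1 F348785) (iv5 D176731) D176732 (iv1 D176708) F325904 F70657 (iv1 F70263) (iv5 F135301) (iv6 F354475) (iv1 D158058))
theorem F354479 : act 6 n176708 = n84257 := (sb E101629 (iv6 D176732))
theorem F354480 : act 4 n147561 = n174261 := d20_6 (iv4 D34790) F44695 D58088 D124477 F353079 (iv3 F308690) F354477 F325886 F122637 (iv1 F57143)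
theorem E101630 : n172817 = n134638 := (c18_1 D172817 F216603 F314735 (iv4 F351481) F311141 (iv4 F325886) (iv0 F354477) (iv4 F354480) (iv0 D147561) F306845)
theorem F354481 : act 1 n134638 = n82739 := (sb E101630 (iv0 D172817))
theorem F354482 : act 0 n174483 = n172241 := d20_10 F298845 (iv1 F354481) F216603 (iv3 F334207) (iv1 D133073) F97311 F96335 D61748 (iv4 F333408) (iv3 F273371)
theorem F354483 : act 0 n137351 = n89290 := d20_1 (iv4 F345499) F301489 F298842 (iv1 F354481) F216602 (iv4 F341212) (iv1 F308708) (iv4 F216588) F342114 (iv1 F342112)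
theorem F354484 : act 1 n163126 = n101735 := d18_6 F354483 F301489 F338863 F248370 D157626 F352332 (iv4 D101735) F345844 D137351
theorem F354485 : act 3 n133593 = n137351 := d20_3 (iv4 D120182) F130753 (iv4 F214909) F354483 F136999 (iv4 F137002) (iv1 F156789) F195697 (iv3 F338813) F210757
theorem F354486 : act 1 n160274 = n89290 := d15_0 (iv0 F354483) (iv7 F346590) (iv2 F345500)
theorem F354487 : act 5 n177620 = n160274 := d17_5 (iv1 D84608) (iv5 D39074) D39071 D84597 D177620 F354486 (iv5 F153530) (iv0 F351875) (iv4 D177664)
theorem E101631 : n123997 = n123583 := (c21_8 F90322 (iv1 F90764) F301487 D89290 (iv1 F354486) (iv6 F299249) F299248 D123997 (iv5 D123583) (iv6 D57603) (iv1 F90324))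
theorem F354488 : act 1 n123583 = n57768 := (sb E101631 (iv0 D123997))
theorem F354489 : act 3 n160275 = n177620 := d6_3 F354487 (iv3 D160274) D160275
theorem F354490 : act 4 n157834 = n177635 := d9_3 F354487 F253127 (iv5 F333772) (iv5 D177635) (iv4 D84601) D84602 F345845 D137351 F345499 F313454 (iv4 F326415) F341730 (iv4 D84596) D84597 D177620
theorem E101632 : n177620 = n101733 := ((c17_3 F322813 D47294 D101733 F354487 F253127 (iv5 F333772) (iv0 D157834) F329144 (iv0 D83496) (iv4 F74202))).symm
theorem F354491 : act 2 n101733 = n136470 := (sb E101632 (iv2 F346587))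
theorem F354492 : act 3 n101733 = n160275 := (sb E101632 (iv3 F354489))
theorem F354493 : act 4 n101733 = n84597 := (sb E101632 (iv4 D177620))
theorem F354494 : act 5 n101733 = n160274 := (sb E101632 F354487)
theorem F354495 : act 6 n101733 = n115389 := (sb E101632 F344859)
theorem F354496 : act 7 n101733 = n136066 := (sb E101632 (iv7 F346592))
theorem F354497 : act 1 n137350 = n101733 := d15_1 D137350 F354496 F218971
theorem E101633 : n138246 = n136066 := (c15_2 F346588 D138246 (iv7 F354496) F354491)
theorem F354498 : act 0 n136066 = n64937 := (sb E101633 (iv1 D138246))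
theorem F354499 : act 2 n99713 = n137350 := d15_3 F354497 (iv0 D101733) (iv7 F156715)
theorem F354500 : act 5 n99711 = n137350 := d17_7 (iv1 F333808) F333801 (iv1 F333799) (iv5 F275372) F339170 (iv5 D100757) F322814 F354497 F354493
theorem E101634 : n137350 = n136253 := (c20_2 (iv4 F354493) (iv1 F354497) F219292 (iv3 D127062) (iv1 D59621) F316306 F316242 D59757 (iv4 F318508) (iv3 F257081) F345841)
theorem F354501 : act 0 n136253 = n64564 := (sb E101634 (iv1 D137350))
theorem F354502 : act 1 n136253 = n101733 := (sb E101634 F354497)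
theorem F354503 : act 2 n136253 = n99713 := (sb E101634 (iv2 F354499))
theorem F354504 : act 5 n136253 = n99711 := (sb E101634 (iv5 F354500))
theorem F354505 : act 0 n127070 = n177609 := d20_4 F45803 D28295 D59625 D127070 F277075 (iv4 F354493) (iv1 F354502) F219292 (iv3 D127062) (iv1 D59621)
theorem F354506 : act 6 n99711 = n162709 := d21_3 (iv5 F354494) (iv1 F354502) F354504 (iv1 F346707) (iv6 D123047) F90322 (iv1 F90764) F301487 D89290 (iv1 F354486)
theorem F354507 : act 0 n102163 = n124002 := d21_7 F354504 (iv1 F322814) D100757 F154851 (iv1 F289605) D47433 D102163 (iv5 F344851) (iv6 F354495) (iv1 F354502)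
theorem E101635 : n136385 = n102162 := (c17_10 (iv1 D102162) D102163 F354507 (iv5 F344851) F344850 (iv5 F336421) F336416 (iv5 F300824) D176156 (iv4 F346471))
theorem F354508 : act 2 n102162 = n64119 := (sb E101635 F219497)
theorem F354509 : act 4 n102162 = n176156 := (sb E101635 F346471)
theorem F354510 : act 7 n102162 = n64118 := (sb E101635 (iv7 D136385))
theorem F354511 : act 5 n136478 = n102162 := d17_3 (iv1 D64156) D64158 D136478 F354509 (iv5 F344809) F282975 (iv5 F279620) F279622 (iv4 F319242)
theorem F354512 : act 4 n136478 = n151508 := d16_2 (iv4 F354509) (iv5 F354511) (iv5 D151508) (iv4 F186377) (iv5 F334740) F346448 F346479 F346475 (iv2 F346461)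
theorem F354513 : act 2 n136388 = n136478 := d2_3 F354511 F354508 D136388
theorem F354514 : act 7 n136383 = n136478 := d13_0 F354511 F354510 D136383
theorem F354515 : act 2 n151508 = n153334 := d1_3 F346453 F354513 F354512
theorem F354516 : act 7 n136479 = n136388 := d15_2 (iv0 D136478) D136479 F354513
theorem F354517 : act 5 n102161 = n136479 := d16_7 F354512 (iv5 D151508) (iv4 F186377) (iv5 F334740) F346448 F346479 F336419 F354516 F354513
theorem F354518 : act 2 n136479 = n136383 := d4_3 F354514 (iv2 F354513) (iv7 F354516)
theorem F354519 : act 6 n136482 = n99775 := d21_5 F354517 (iv1 D136479) (iv5 D64158) D64159 D136482 F327390 F327384 (iv5 D47432) D47433 D102161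
theorem F354520 : act 2 n101979 = n136482 := d3_3 F354519 F328312 D101979
theorem F354521 : act 4 n172053 = n136482 := d10_3 F354519 F327389 D172053
theorem F354522 : act 7 n136483 = n101979 := d15_2 (iv0 D136482) D136483 F354520
theorem F354523 : act 4 n175685 = n136483 := d11_3 F354522 F328319 (iv7 F275066)
theorem F354524 : act 6 n175686 = n136483 := d14_5 F354522 (iv6 D101979) (iv7 F328321) (iv6 F128887) (iv7 F275068)
theorem F354525 : act 0 n128514 = n175685 := d20_10 F354523 (iv1 D136483) (iv4 F219552) F219551 F167352 F319646 F317392 (iv1 F317389) (iv4 F94959) (iv3 F206677)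
theorem F354526 : act 1 n128514 = n172053 := d15_1 (iv0 F354525) F270131 (iv2 F275064)
theorem F354527 : act 3 n153334 = n152044 := d0_2 (iv3 F238372) F354515 F239060 F108168 (iv2 F107947)
theorem F354528 : act 0 n115583 = n156293 := d18_0 F245590 F354505 (iv4 F344873) (iv5 F344874) (iv4 D177200) D177199 (iv4 F351501) (iv0 D156251) (iv5 F339873)
theorem F354529 : act 6 n175722 = n136253 := d21_5 D47432 (iv1 F327383) (iv5 D84036) (iv6 F128887) D175722 F354504 (iv1 F322814) D100757 F154851 (iv1 F289605)
theorem F354530 : act 3 n176843 = n111877 := d19_11 (iv1 F156711) (iv5 F354504) F219292 (iv3 D127062) (iv1 D59621) (iv5 F318569) D78417 F119616 (iv1 F119073) D84305 D176843 (iv1 F173767) F351105 F299239 (iv3 F298901) F326978 F326124 (iv4 F135899) F324284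
theorem E101636 : n137254 = n84305 := (c5_6 D176843 F354530 F173768 (iv3 F220396) (iv4 D137255) D137254)
theorem E101637 : n176837 = n64511 := (((iv3 F276210)).symm.trans (sb E101636 (iv3 D137254)))
theorem F354531 : act 3 n64511 = n84305 := (sb E101637 F276210)
theorem E101638 : n137256 = n84303 := ((D137256).symm.trans (sb E101637 (iv5 D176837)))
theorem E101639 : n176835 = n109752 := ((D176835).symm.trans (sb E101638 F220398))
theorem F354532 : act 5 n84303 = n64511 := (sb E101638 (iv5 D137256))
theorem F354533 : act 1 n109752 = n84303 := (sb E101639 (iv0 D176835))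
theorem F354534 : act 3 n109752 = n104668 := (sb E101639 F337338)
theorem F354535 : act 6 n109752 = n104667 := (sb E101639 (iv6 F337339))
theorem F354536 : act 5 n104668 = n109751 := d6_2 D109752 F354534 (iv3 D109751)
theorem F354537 : act 2 n176838 = n137259 := d15_3 (iv0 F220401) F354533 D176838
theorem F354538 : act 2 n136296 = n160819 := d0_3 (iv3 F276211) F354537 F349713 (iv3 D160819) F298325
theorem F354539 : act 5 n111803 = n176838 := d2_0 F354537 (iv5 D137259) F173561
theorem F354540 : act 7 n137259 = n176830 := d4_2 D176838 F354537 F276207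
theorem F354541 : act 5 n176830 = n111802 := d13_1 F354540 F173558 D137259
theorem E101640 : n176836 = n109756 := (c15_1 D176836 (iv0 F220400) F354540 F276207)
theorem F354542 : act 0 n109756 = n84303 := (sb E101640 (iv1 D176836))
theorem F354543 : act 5 n170853 = n137225 := d16_1 (iv4 F268461) (iv4 D137225) (iv5 F219000) (iv4 F221061) F221062 (iv4 F173557) D137259 F354540 F276207
theorem F354544 : act 3 n137225 = n170855 := d6_1 F354543 (iv5 D170855) (iv3 F268460)
theorem F354545 : act 3 n101678 = n109754 := d19_19 F219002 F219000 D137225 F354544 F268462 (iv5 D124410) (iv4 D58007) F301578 F29898 (iv5 D17064) (iv4 F43128) D32429 F155097 (iv5 F96310) (iv4 F312051) (iv3 F333409) F272860 (iv5 F287017) F287016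
theorem F354546 : act 3 n176844 = n111803 := d6_3 F354539 F276211 (iv5 F276221)
theorem F354547 : act 5 n137257 = n176834 := d12_3 D84303 F354532 D137257 (iv6 D176834) (iv5 D84302)
theorem F354548 : act 3 n176841 = n137257 := d6_3 F354547 F276209 D176841
theorem F354549 : act 0 n176834 = n111785 := d17_2 F220399 F354547 (iv5 D111785) F81318 F39286 F161309 D50870 F161303 (iv4 F169371)
theorem F354550 : act 0 n111959 = n176834 := d21_7 (iv5 F340593) (iv1 F340598) (iv5 D136263) (iv6 D64063) (iv1 F48574) D51636 D111959 (iv5 F354547) (iv6 D137257) (iv1 F173564)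
theorem E101641 : n111824 = n109744 := ((c20_5 (iv4 F197611) F346344 (iv4 F326422) F169711 D109744 F173621 (iv4 F161397) (iv1 F220395) (iv4 D137255) F354531 F346341)).symm
theorem F354551 : act 3 n109744 = n51563 := (sb E101641 F173621)
theorem F354552 : act 6 n109744 = n51562 := (sb E101641 (iv6 D111824))
theorem F354553 : act 6 n111823 = n109544 := d3_2 F354552 D111823 F169728
theorem E101642 : n109894 = n109893 := ((c12_2 F354552 (iv5 F169904) (iv6 D109894) F80039 D51563 (iv5 F169726))).symm
theorem F354554 : act 2 n109893 = n109543 := (sb E101642 F169906)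
theorem F354555 : act 4 n109893 = n112569 := (sb E101642 (iv4 F175138))
theorem F354556 : act 6 n109893 = n50680 := (sb E101642 (iv6 D109894))
theorem E101643 : n183225 = n109535 := (c14_6 (iv7 F169905) F354556 (iv7 F80041) (iv6 F323312) F147946 D183225)
theorem F354557 : act 6 n109535 = n87463 := (sb E101643 (iv6 D183225))
theorem F354558 : act 6 n157641 = n111849 := d21_3 F320036 (iv1 F174293) (iv5 F248412) (iv1 D111849) (iv6 D51573) (iv5 D25051) D25048 (iv5 F80039) (iv6 F354556) (iv1 F320034)
theorem F354559 : act 4 n118570 = n157641 := d10_3 F354558 F346384 D118570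
theorem F354560 : act 2 n148876 = n118570 := d1_3 F354559 (iv2 F248411) (iv4 F233920)
theorem F354561 : act 4 n145576 = n157702 := d20_8 (iv4 F112588) D157641 (iv4 F354559) (iv3 F331682) (iv1 F227362) D144554 F350789 F228622 (iv3 D157702) (iv1 D75137)
theorem F354562 : act 6 n118484 = n148876 := d3_0 F354560 (iv6 D118570) (iv2 F186378)
theorem F354563 : act 6 n96200 = n127708 := d3_2 F354557 (iv2 F147937) F205315
theorem E101644 : n184189 = n109536 := (c12_4 F354557 F134280 D87851 D184189 (iv6 D109536) D109535)
theorem F354564 : act 5 n109536 = n87851 := (sb E101644 (iv5 D184189))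
theorem F354565 : act 5 n96386 = n112026 := d13_3 F174132 F354564 (iv7 F289642)
theorem F354566 : act 7 n127708 = n109543 := d14_2 (iv7 F147939) F354563 (iv6 D109543) (iv7 F80042) (iv6 F321625)
theorem F354567 : act 0 n184193 = n96982 := d21_4 (iv5 D87461) (iv1 F71398) (iv5 F134843) D184193 F347829 (iv5 F204862) (iv1 F173615) (iv5 F205316) (iv6 F354563) F147940
theorem F354568 : act 5 n109543 = n111823 := d13_1 F354566 F173617 (iv5 F205316)
theorem F354569 : act 0 n111845 = n120583 := d21_4 (iv5 D25113) D25110 (iv5 F81399) D111845 F192151 (iv5 F169494) (iv1 F173618) (iv5 F354568) (iv6 D109543) F79911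
theorem F354570 : act 0 n156197 = n108020 := d18_0 (iv4 F173667) F354569 F192150 F87855 (iv4 F318282) D156952 (iv4 F247024) (iv0 D156195) D156197
theorem F354571 : act 3 n181801 = n108020 := d20_5 F87851 (iv1 F51455) (iv4 F61219) (iv3 F133110) D181801 (iv4 F173667) F354569 F192150 (iv3 D55551) D55550
theorem F354572 : act 0 n110374 = n156198 := d21_4 (iv5 D52225) (iv1 F40109) D50896 D110374 (iv6 D156198) D156197 F354570 F166939 (iv6 D107595) (iv1 F82582)
theorem E101645 : n155876 = n115470 := (c20_11 F179771 F354572 F245472 F111509 (iv1 F162015) F318377 (iv4 D74861) F54435 D54209 (iv3 F110855) D155876)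
theorem F354573 : act 0 n115470 = n119636 := (sb E101645 (iv1 F244854))
theorem F354574 : act 1 n115470 = n74137 := (sb E101645 (iv0 D155876))
theorem F354575 : act 7 n155877 = n115333 := d15_2 F354574 D155877 (iv2 F179770)
theorem F354576 : act 0 n136774 = n103222 := d20_4 D74137 (iv1 F354574) F179771 (iv3 F349884) (iv3 D103222) (iv4 D47836) D47834 D103216 F347885 (iv1 D74136)
theorem F354577 : act 5 n103222 = n107697 := d17_3 F111382 D136774 F354576 F166328 F111397 (iv0 F111386) F111389 F111380 (iv4 F93870)
theorem F354578 : act 1 n136772 = n103222 := d15_0 (iv0 F354576) F219980 (iv2 F219975)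
theorem F354579 : act 7 n107696 = n103222 := d13_0 F354577 (iv7 D107697) D107696
theorem F354580 : act 2 n119634 = n155877 := d4_3 F354575 (iv2 F179770) (iv7 F346467)
theorem F354581 : act 1 n109543 = n95333 := d15_0 F318881 (iv7 F169905) F354554
theorem E101646 : n145777 = n97189 := ((c20_10 (iv4 F318882) (iv1 F354581) (iv4 F171176) (iv3 F182088) F323315 (iv3 F316675) (iv4 D117712) (iv1 F242921) (iv4 F105425) (iv3 F347936) (iv1 D145777))).symm
theorem F354582 : act 0 n97189 = n68347 := (sb E101646 (iv1 D145777))
theorem F354583 : act 5 n145779 = n129306 := d21_6 (iv5 F298806) (iv1 F186531) (iv5 F298856) D97189 F354582 D145779 (iv1 D129306) (iv5 F324315) F149809 F149807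
theorem E101647 : n145776 = n110623 := ((c15_4 (iv0 D145776) (iv0 F354582) F347937 (iv2 F171217))).symm
theorem F354584 : act 1 n110623 = n68347 := (sb E101647 (iv0 D145776))
theorem F354585 : act 0 n137292 = n155951 := d20_4 F318882 (iv1 F354584) F171218 (iv3 F220435) F244970 F110925 F81230 F80459 (iv3 F169496) (iv1 F318881)
theorem E101648 : n155951 = n95856 := (c20_11 (iv4 F290482) (iv1 D164618) F120349 F70044 D44530 D95333 F318882 (iv1 F354584) F171218 (iv3 F220435) F354585)
theorem F354586 : act 1 n95856 = n137292 := (sb E101648 (iv0 F354585))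
theorem F354587 : act 3 n95856 = n74174 := (sb E101648 F244970)
theorem F354588 : act 5 n95856 = n74173 := (sb E101648 (iv5 D155951))
theorem F354589 : act 7 n95856 = n113455 := (sb E101648 F244971)
theorem F354590 : act 2 n113455 = n95855 := d15_3 (iv0 D95855) D95856 F354589
theorem F354591 : act 5 n95855 = n113450 := d2_2 D113455 F354590 F176636
theorem E101649 : n113643 = n95857 := (c17_1 D113643 (iv5 D95857) D95855 F354591 (iv4 D113450) D113451 F176847 (iv5 D113654) (iv0 D52474) (iv4 F82844))
theorem F354592 : act 0 n95857 = n137277 := (sb E101649 (iv1 F220420))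
theorem F354593 : act 1 n95857 = n52469 := (sb E101649 (iv0 D113643))
theorem F354594 : act 4 n119204 = n108902 := d19_6 (iv1 F354593) (iv5 D95857) (iv4 F86797) F86796 D54855 D119204 F168907 (iv1 F98204) (iv5 D62945) F47899 (iv3 F40824) (iv1 F40831) (iv5 D24746) (iv4 D11711) D11710 F19057 D12104 D25465 D52469
theorem E101650 : n109255 = n95871 := ((c20_7 (iv4 F38751) F40160 D25465 D52469 (iv1 F354593) F147537 D95871 (iv1 D109255) (iv4 F81322) (iv3 D51544) F39290)).symm
theorem F354595 : act 0 n95871 = n50416 := (sb E101650 (iv1 D109255))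
theorem F354596 : act 1 n95871 = n95485 := (sb E101650 (iv0 F326727))
theorem F354597 : act 6 n114175 = n113646 := d21_5 F56739 (iv1 F34116) (iv5 F40474) (iv6 F83272) D114175 (iv5 D113646) (iv1 F354593) (iv5 D95857) (iv6 D44758) (iv1 F56740)
theorem F354598 : act 2 n113646 = n164445 := d3_1 F354597 (iv6 D164445) (iv2 F177934)
theorem E101651 : n113648 = n97110 := (c7_3 F354597 F176825 D113648 (iv3 F348884))
theorem F354599 : act 2 n97110 = n137273 := (sb E101651 (iv2 F220415))
theorem F354600 : act 6 n97110 = n52470 := (sb E101651 (iv6 D113648))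
theorem F354601 : act 4 n113646 = n114860 := d10_1 F354597 (iv6 D114860) (iv4 F177933)
theorem F354602 : act 6 n108014 = n164280 := d10_2 F354600 (iv4 F166919) (iv4 F348883)
theorem F354603 : act 3 n164283 = n108014 := d7_3 F354602 (iv3 D164280) D164283
theorem F354604 : act 5 n110595 = n164283 := d6_0 F354603 F166918 D110595
theorem F354605 : act 7 n111443 = n164283 := d8_0 F354603 F166925 (iv3 F172953)
theorem F354606 : act 6 n173453 = n111443 := d14_5 F354605 (iv6 D164283) (iv7 F338583) F338582 (iv7 F279313)
theorem F354607 : act 2 n111443 = n173517 := d3_1 F354606 (iv6 D173517) (iv2 F279312)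
theorem F354608 : act 3 n111445 = n173453 := d7_3 F354606 F172953 D111445
theorem F354609 : act 7 n173491 = n111445 := d8_0 F354608 F279313 (iv3 F271950)
theorem F354610 : act 2 n118568 = n173491 := d4_3 F354609 (iv2 F176507) F344960
theorem F354611 : act 1 n118484 = n173491 := d15_1 F344958 F354609 (iv2 F176507)
theorem F354612 : act 1 n173491 = n118571 := d15_1 F354611 (iv7 D118571) (iv2 F186378)
theorem F354613 : act 0 n131236 = n173492 := d21_4 F306206 F197299 (iv5 F188743) F304077 (iv6 D173492) D173491 (iv1 F354611) (iv5 D118484) (iv6 F186355) F210825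
theorem F354614 : act 0 n173496 = n98959 := d20_7 F317491 F315773 (iv4 F188746) F306861 F354613 F271951 (iv4 F271953) F318138 (iv3 F216477) (iv1 F98480)
theorem F354615 : act 2 n132906 = n173492 := d15_3 (iv0 F354613) F210247 (iv7 F213495)
theorem F354616 : act 7 n173492 = n132984 := d4_2 (iv7 F213495) F354615 F213624
theorem E101652 : n174639 = n173506 := (c8_2 F354616 F315977 (iv7 D173506) (iv3 F271951))
theorem F354617 : act 0 n173506 = n88074 := (sb E101652 F303467)
theorem F354618 : act 1 n173506 = n83451 := (sb E101652 (iv0 D174639))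
theorem F354619 : act 2 n173506 = n98961 := (sb E101652 F303468)
theorem F354620 : act 3 n173506 = n132984 := (sb E101652 (iv3 F315977))
theorem F354621 : act 4 n173506 = n98960 := (sb E101652 F303470)
theorem F354622 : act 7 n98960 = n173496 := d11_2 D173506 F354621 F271953
theorem F354623 : act 5 n132840 = n173506 := d18_4 (iv1 F207209) (iv4 F48187) (iv1 F213167) (iv4 F213370) F354621 (iv0 F315929) (iv4 D129291) (iv0 F208796) (iv5 D63597)
theorem F354624 : act 5 n152045 = n98960 := d17_3 (iv1 D71681) D71683 D152045 (iv4 F354621) (iv5 F354623) (iv0 D132840) (iv5 F315463) (iv0 F317688) F108162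
theorem F354625 : act 4 n153942 = n135273 := d20_8 D129291 F315929 (iv4 F354621) F354620 F213625 (iv3 D130144) F312103 D153942 F217486 F208796
theorem F354626 : act 7 n135348 = n153942 := d11_0 F354625 F217487 D135348
theorem F354627 : act 0 n135273 = n123958 := d20_1 F354625 (iv4 D123958) F312596 F310374 (iv3 F274481) F342022 (iv1 F312445) (iv4 F307896) F114559 D153942
theorem E101653 : n153942 = n124779 := ((c20_6 (iv4 D175415) (iv1 D83761) (iv4 F128798) F128797 D98886 (iv3 F200449) F354625 F354627 (iv4 D123958) F312596 F310374)).symm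
theorem F354628 : act 1 n124779 = n72856 := (sb E101653 (iv0 D153942))
theorem F354629 : act 4 n124779 = n135273 := (sb E101653 F354625)
theorem F354630 : act 7 n124779 = n135348 := (sb E101653 (iv7 F354626))
theorem F354631 : act 2 n135348 = n124745 := d4_1 F354630 F199657 D124779
theorem F354632 : act 3 n135348 = n123210 := d8_1 F354630 F197503 (iv3 F200449)
theorem F354633 : act 0 n135363 = n154062 := d20_7 F238353 (iv1 F314462) (iv4 D124073) D124072 F314445 F354632 (iv4 F319768) (iv4 F252671) F252670 F342016
theorem F354634 : act 0 n98891 = n133671 := d20_10 F215092 F217607 F319768 (iv3 F354632) (iv1 F312100) (iv3 F272553) F272554 (iv1 F315794) (iv4 D123107) (iv3 F197294)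
theorem E101654 : n173452 = n157400 := ((c20_10 F272554 (iv1 F315794) (iv4 D123107) (iv3 F197294) F354634 (iv3 D133671) F97872 D107911 F166750 D157400 (iv1 F315797))).symm
theorem F354635 : act 0 n157400 = n173906 := (sb E101654 (iv1 F315797))
theorem F354636 : act 2 n157400 = n83011 := (sb E101654 F279310)
theorem F354637 : act 4 n157400 = n82994 := (sb E101654 (iv4 D173452))
theorem F354638 : act 7 n157400 = n83006 := (sb E101654 F279311)
theorem F354639 : act 1 n98896 = n133671 := d15_0 (iv0 F354634) (iv7 F281963) (iv2 F281969)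
theorem F354640 : act 1 n160095 = n98896 := d15_0 F354639 (iv7 F314895) (iv2 F252669)
theorem F354641 : act 0 n101542 = n107919 := d20_10 (iv4 F215092) (iv1 F354639) (iv4 D98896) F281930 (iv1 D40617) (iv3 F61726) F61727 (iv1 F232422) (iv4 F155125) D101542
theorem F354642 : act 1 n98891 = n160095 := d15_0 F354640 F281958 (iv2 F281960)
theorem F354643 : act 3 n151500 = n89129 := d20_5 (iv4 F319768) F354633 (iv4 F252671) F252670 F342016 F310376 (iv1 F309547) (iv4 F310386) F198465 (iv1 F197502)
theorem F354644 : act 3 n98937 = n173496 := d20_9 F318138 (iv1 F98963) D63629 D135363 F354633 (iv3 F314263) F314264 F341998 F342000 F354614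
theorem F354645 : act 7 n107919 = n99597 := d15_2 (iv0 F354633) (iv0 F217607) (iv2 F242110)
theorem F354646 : act 2 n173496 = n88949 := d0_1 F354644 (iv3 D88949) F272703 D46293 D98937
theorem F354647 : act 6 n107876 = n98937 := d7_0 F354644 (iv6 D173496) (iv3 F313364)
theorem F354648 : act 0 n98285 = n173496 := d20_4 (iv4 D71417) F52245 D61391 (iv3 F317132) (iv3 F354644) (iv4 F342000) F341990 (iv4 F341993) (iv3 F342008) (iv1 F166744)
theorem F354649 : act 5 n173496 = n135418 := d17_1 F354648 (iv1 F239064) (iv5 D152044) F108163 F52397 (iv0 D30027) D30031 (iv0 F212146) (iv4 F317133)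
theorem E101655 : n98958 = n98285 := ((c15_1 (iv0 F354648) (iv0 D98958) (iv7 F272712) (iv2 F354646))).symm
theorem F354650 : act 1 n98285 = n46298 := (sb E101655 (iv0 D98958))
theorem F354651 : act 2 n135418 = n152046 := d2_1 F354649 (iv5 F317517) (iv2 F354646)
theorem F354652 : act 7 n135418 = n152045 := d13_2 F354622 F354649 F354624
theorem F354653 : act 2 n152045 = n135419 := d15_3 F239063 F239064 F354652
theorem F354654 : act 7 n152046 = n135419 := d4_2 (iv7 F354652) F354651 (iv2 F354653)
theorem E101656 : n135419 = n98962 := (c13_1 F354654 (iv5 D98962) (iv7 F272712) F317517)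
theorem F354655 : act 0 n98962 = n63658 := (sb E101656 (iv1 D135419))
theorem F354656 : act 1 n98962 = n152044 := (sb E101656 F239063)
theorem F354657 : act 2 n98962 = n152045 := (sb E101656 (iv2 F354653))
theorem F354658 : act 7 n98962 = n152046 := (sb E101656 (iv7 F354654))
theorem F354659 : act 3 n152046 = n88951 := d8_1 F354658 F272714 (iv3 F152499)
theorem F354660 : act 4 n135088 = n88951 := d19_2 D63490 D135088 (iv3 F354659) (iv1 D152046) (iv5 D71683) F52368 (iv3 D15997) (iv1 F23320) (iv5 D13993) (iv4 D6653) (iv3 F10793) D13985 (iv5 F38847) (iv4 F49173) (iv3 D30715) F38292 F38290 F38295 D29987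
theorem F354661 : act 2 n98950 = n135088 := d1_3 F354660 F272713 D98950
theorem F354662 : act 7 n98967 = n135088 := d11_0 F354660 F272714 D98967
theorem F354663 : act 7 n135092 = n98950 := d16_8 F354660 (iv5 D88951) F155435 D82561 D172432 F345750 F207143 D135092 F354661
theorem F354664 : act 2 n98967 = n135092 := d4_3 F354663 F354661 (iv7 F354662)
theorem F354665 : act 5 n98950 = n135086 := d13_1 F354663 (iv7 F217310) D135092
theorem E101657 : n135086 = n128811 := (c17_6 (iv1 D46303) (iv5 D22141) D22139 D46295 D98950 F354665 F207067 F324641 D91029 F295470)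
theorem F354666 : act 2 n128811 = n63490 := (sb E101657 (iv2 D135086))
theorem F354667 : act 5 n128811 = n98950 := (sb E101657 (iv5 F354665))
theorem F354668 : act 7 n128811 = n63491 := (sb E101657 (iv7 F217310))
theorem F354669 : act 1 n128660 = n98950 := d17_6 F325740 (iv5 F332809) (iv1 D128722) (iv5 D60535) (iv4 F95124) D128660 (iv5 F354667) F207067 (iv4 F325744)
theorem E101658 : n128661 = n98584 := (c21_4 F354667 (iv1 F354669) (iv5 D128660) D128661 (iv1 D98584) (iv6 D46085) (iv5 D22011) (iv1 F31370) (iv5 F64201) F325746 (iv1 F207067))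
theorem F354670 : act 3 n98584 = n60510 := (sb E101658 F206960)
theorem F354671 : act 4 n98584 = n60536 := (sb E101658 F206961)
theorem F354672 : act 6 n98584 = n60508 := (sb E101658 (iv6 D128661))
theorem F354673 : act 5 n180363 = n98582 := d18_4 F160841 (iv4 F160840) (iv1 F280682) (iv4 F280680) F151974 D98584 F354671 D128726 F345226
theorem F354674 : act 5 n100579 = n170869 := d16_7 (iv4 D160581) (iv5 F250816) (iv4 F280680) F354673 F151974 (iv5 F74129) (iv4 F154648) (iv7 F281430) (iv2 F281432)
theorem F354675 : act 0 n98582 = n157844 := d17_2 D180363 F354673 (iv5 D157844) (iv4 D75195) (iv5 F248721) F60828 (iv5 F92767) F92769 D86144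
theorem F354676 : act 1 n98582 = n157826 := d17_6 (iv1 D78648) D78651 F254319 (iv5 F250816) (iv4 F280680) F354673 (iv5 D157826) D157824 (iv4 F254261)
theorem F354677 : act 5 n125447 = n101171 := d2_2 F354674 (iv2 F268478) F155869
theorem F354678 : act 3 n170870 = n100579 := d6_3 F354674 (iv3 D170869) D170870
theorem F354679 : act 1 n157955 = n100579 := d17_6 (iv1 D39901) F30119 D39873 F256335 D75239 D157955 F354674 (iv0 F268480) (iv4 D86220)
theorem F354680 : act 4 n180405 = n100581 := d18_1 (iv1 F280776) (iv1 D100581) (iv4 F154648) F354674 F268477 F330704 (iv4 F330708) (iv0 D86345) D86348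
theorem F354681 : act 5 n100581 = n134348 := d16_1 F354680 (iv4 F334365) F248690 (iv4 F160840) (iv5 F194346) D80034 D166737 F262467 (iv2 F280774)
theorem F354682 : act 3 n100581 = n134355 := d19_3 D86161 D180405 F354680 (iv1 F216354) (iv5 D130832) (iv4 D61373) (iv3 D29051) (iv1 F23435) F23431 (iv4 F38679) (iv3 F324982) (iv1 F56031) (iv5 D35312) F28084 F27378 F13348 D8836 D18868 D39880
theorem F354683 : act 0 n170870 = n180385 := d20_4 F354680 (iv1 D100581) (iv4 F154648) (iv3 F354678) F280714 (iv4 F132113) F132114 F126244 (iv3 F132346) (iv1 F280776)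
theorem F354684 : act 7 n134347 = n100581 := d8_0 F354682 (iv7 D134355) (iv3 F216348)
theorem F354685 : act 4 n157920 = n134347 := d11_3 F354684 (iv4 F354680) F280775
theorem F354686 : act 2 n134347 = n100580 := d15_3 (iv0 D100580) D100581 (iv7 F354684)
theorem F354687 : act 4 n100580 = n166737 := d16_0 (iv5 D166737) (iv4 D80034) F194346 F160840 (iv5 F248690) F334365 (iv5 F354681) (iv7 F354684) F354686
theorem F354688 : act 0 n157975 = n100579 := d18_0 F154648 D100580 F354687 (iv5 D166737) (iv4 D80034) D80032 F256633 F248848 D157975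
theorem F354689 : act 5 n100580 = n134340 := d2_2 D134347 F354686 F216346
theorem F354690 : act 4 n134340 = n157801 := d16_6 (iv4 F160840) (iv5 F194346) D80034 D166737 (iv4 F354687) F354689 F280673 F258239 (iv2 F258238)
theorem F354691 : act 6 n131920 = n128811 := d21_5 (iv5 F74129) D100580 F354689 (iv6 D134340) (iv1 F211383) F354667 (iv1 F354669) (iv5 D128660) (iv6 F354672) (iv1 D98584)
theorem F354692 : act 5 n131920 = n102557 := d21_0 (iv1 D102557) F327938 F327402 (iv1 D46083) D46085 (iv5 F74129) D100580 F354689 (iv6 D134340) (iv1 F211383)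
theorem E101659 : n131940 = n131841 := ((c17_7 (iv1 F211383) F354692 (iv1 D102557) F327938 F96394 D61862 D131841 (iv5 D131940) F164180 F164176)).symm
theorem F354693 : act 5 n131841 = n61908 := (sb E101659 (iv5 D131940))
theorem F354694 : act 6 n89051 = n131788 := d21_9 F245954 (iv1 F333149) (iv5 F354692) F354691 (iv1 D128811) (iv6 F325754) F72645 (iv1 F64184) D89051 (iv1 F245956)
theorem F354695 : act 2 n131788 = n98544 := d3_1 F354694 (iv6 D98544) (iv2 F268259)
theorem F354696 : act 7 n156448 = n131788 := d15_2 (iv0 F157839) F327933 F354695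
theorem F354697 : act 7 n131789 = n98544 := d15_2 (iv0 D131788) D131789 (iv2 F354695)
theorem F354698 : act 2 n156448 = n131789 := d4_3 F354697 (iv2 F354695) (iv7 F354696)
theorem F354699 : act 6 n157801 = n106599 := d21_9 (iv5 F354693) (iv1 D131841) (iv5 D61862) D61863 (iv1 F327925) D98654 F332749 D104965 (iv5 F280673) (iv1 F164180)
theorem E101660 : n128835 = n61908 := (c21_6 F72697 (iv1 D46106) D46108 D98634 F325740 D128835 (iv5 F354693) (iv1 D131841) (iv5 D61862) D61863 (iv1 F327925))
theorem E101661 : n131941 = n60588 := ((D131941).symm.trans (sb E101660 (iv6 D128835)))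
theorem F354700 : act 6 n60588 = n61908 := (sb E101661 (iv6 D131941))
theorem F354701 : act 6 n131937 = n128831 := d3_2 F354700 (iv2 F211416) F207097
theorem F354702 : act 6 n131938 = n128832 := d7_2 F354700 D131938 (iv3 D128832)
theorem F354703 : act 6 n131939 = n128833 := d10_2 F354700 D131939 (iv4 D128833)
theorem F354704 : act 6 n111435 = n108814 := d7_2 F354703 (iv3 F207098) F211417
theorem F354705 : act 5 n131939 = n89430 := d21_6 (iv5 D22038) F66218 (iv5 F64294) D89197 F332684 (iv6 F354703) (iv1 D89430) D89431 F137103 (iv1 F70509)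
theorem F354706 : act 6 n130231 = n132938 := d10_2 F354704 F208750 (iv4 F213557)
theorem F354707 : act 7 n128830 = n131936 := d14_4 D131937 F354701 (iv7 D128831) D128830 (iv6 D131936)
theorem F354708 : act 3 n131981 = n157801 := d7_3 F354699 F164175 D131981
theorem F354709 : act 2 n135089 = n131920 := d3_3 F354691 F354666 D135089
theorem F354710 : act 2 n102557 = n134413 := d2_3 F333142 F354709 F354692
theorem F354711 : act 7 n131919 = n135089 := d15_2 F211383 F211378 F354709
theorem F354712 : act 7 n134414 = n102557 := d15_2 (iv0 D134413) D134414 F354710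
theorem F354713 : act 2 n134414 = n102556 := d15_3 (iv0 D102556) D102557 (iv7 F354712)
theorem F354714 : act 7 n102556 = n134413 := d4_2 (iv7 F354712) F354713 (iv2 F354710)
theorem F354715 : act 5 n131919 = n102556 := d13_3 F354714 F333142 (iv7 F354711)
theorem F354716 : act 1 n134415 = n102556 := d15_1 F333149 F354714 (iv2 F354710)
theorem F354717 : act 6 n90684 = n170870 := d7_0 F354678 (iv6 D100579) (iv3 F345119)
theorem F354718 : act 0 n101171 = n180449 := d17_2 F201728 F354677 (iv5 D180449) (iv4 D86181) (iv5 F201640) F92770 (iv5 F60713) F60823 D86352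
theorem F354719 : act 1 n101171 = n180439 := d17_6 F258032 (iv5 F325693) F325691 F254076 D125447 F354677 (iv5 D180439) D180437 (iv4 F280820)
theorem F354720 : act 1 n134347 = n99384 := d18_6 D180436 F280814 (iv1 F258215) F258217 D157920 F354685 (iv4 F155870) F354719 (iv5 D180439)
theorem E101662 : n134413 = n134333 := ((c21_1 D134333 F333143 (iv5 F157838) (iv6 D102636) (iv1 F74855) D89060 (iv5 F153055) (iv1 F354720) (iv5 D134347) (iv6 D63113) D63109)).symm
theorem F354721 : act 0 n134333 = n98332 := (sb E101662 F333143)
theorem F354722 : act 1 n134333 = n63139 := (sb E101662 (iv0 D134413))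
theorem F354723 : act 2 n134333 = n102557 := (sb E101662 (iv2 F354710))
theorem E101663 : n135089 = n63109 := ((((iv5 D134333)).symm.trans (sb E101662 F333142))).symm
theorem F354724 : act 7 n134333 = n102556 := (sb E101662 (iv7 F354714))
theorem E101664 : n134331 = n131920 := ((D134331).symm.trans (sb E101663 F354709))
theorem E101665 : n134334 = n63490 := ((D134334).symm.trans (sb E101663 (iv6 D135089)))
theorem E101666 : n134335 = n131919 := ((D134335).symm.trans (sb E101663 (iv7 F354711)))
theorem F354725 : act 2 n131920 = n63109 := (sb E101664 (iv2 D134331))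
theorem F354726 : act 3 n131920 = n146919 := (sb E101664 F336999)
theorem F354727 : act 7 n131920 = n63110 := (sb E101664 (iv7 F216340))
theorem F354728 : act 6 n63490 = n63109 := (sb E101665 (iv6 D134334))
theorem F354729 : act 2 n131919 = n63110 := (sb E101666 F216341)
theorem F354730 : act 7 n131919 = n63109 := (sb E101666 (iv7 D134335))
theorem E101667 : n134414 = n134337 := ((c2_3 (iv5 F354715) F354729 D134337 F354713)).symm
theorem F354731 : act 0 n134337 = n63139 := (sb E101667 (iv1 D134414))
theorem F354732 : act 1 n134337 = n98332 := (sb E101667 F333148)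
theorem F354733 : act 2 n134337 = n102556 := (sb E101667 F354713)
theorem F354734 : act 7 n134337 = n102557 := (sb E101667 F354712)
theorem F354735 : act 0 n134344 = n89526 := d21_4 (iv5 D134337) (iv1 D63110) D63112 D134344 (iv6 D89526) F64459 F62995 (iv5 F72581) D98332 (iv1 F354732)
theorem F354736 : act 3 n146920 = n134337 := d19_19 F354731 (iv5 F111642) F111641 (iv3 D49245) (iv1 F77681) (iv5 F96509) F96510 (iv3 F86268) F86270 (iv5 D51058) F55492 F55490 (iv1 D28164) (iv5 F23614) D29741 (iv3 F311209) (iv1 F54930) (iv5 F105061) (iv4 F230306)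
theorem E101668 : n146915 = n102557 := ((c8_3 D146920 F354736 F354734 F230300)).symm
theorem F354737 : act 3 n102557 = n68871 := (sb E101668 F230300)
theorem F354738 : act 6 n102557 = n68869 := (sb E101668 (iv6 D146915))
theorem F354739 : act 6 n146913 = n134333 := d3_2 F354738 D146913 F354723
theorem F354740 : act 6 n146914 = n98950 := d12_2 F354738 D146914 (iv5 F354667) (iv6 F354691) F354692
theorem F354741 : act 3 n98950 = n146916 := d7_1 F354740 (iv6 D146916) (iv3 F230299)
theorem F354742 : act 4 n98951 = n146914 := d10_3 F354740 (iv4 D98950) D98951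
theorem F354743 : act 3 n134333 = n158965 := d7_1 F354739 F250299 F233622
theorem F354744 : act 5 n158965 = n134332 := d6_2 D134333 F354743 (iv3 D134332)
theorem F354745 : act 4 n125096 = n134025 := d20_8 F168755 (iv1 F111684) F80851 D63139 (iv1 F354722) F354743 F250298 (iv1 F200966) F215989 (iv1 F168758)
theorem E101669 : n159050 = n125096 := (c1_4 F354745 F348518 (iv4 D159052) D159050)
theorem F354746 : act 2 n125096 = n75956 := (sb E101669 (iv2 D159050))
theorem F354747 : act 7 n125096 = n75957 := (sb E101669 (iv7 F250393))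
theorem E101670 : n159055 = n125095 := (c15_4 (iv0 D125095) D125096 F354747 (iv2 F250394))
theorem F354748 : act 2 n125095 = n75957 := (sb E101670 F250394)
theorem F354749 : act 4 n125095 = n134178 := (sb E101670 (iv4 F348524))
theorem F354750 : act 7 n125095 = n75956 := (sb E101670 (iv7 D159055))
theorem F354751 : act 2 n159059 = n180601 := d3_3 F353674 F354748 D159059
theorem F354752 : act 2 n134332 = n158966 := d2_1 F354744 (iv5 D158966) D158965
theorem F354753 : act 6 n134332 = n135087 := d7_2 F354728 D134332 (iv3 D135087)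
theorem F354754 : act 6 n132089 = n129004 := d10_2 F354728 (iv4 F211626) F207255
theorem F354755 : act 7 n134338 = n135093 := d14_2 F354727 D134338 (iv6 D135093) (iv7 F354668) (iv6 F354691)
theorem F354756 : act 1 n98967 = n128660 := d15_0 F354669 (iv7 F354663) (iv2 F354664)
theorem F354757 : act 4 n89320 = n128660 := d18_5 (iv1 F301806) (iv4 F155516) (iv1 F273365) F137014 D89320 F354669 (iv4 D98950) D98949 F338820
theorem F354758 : act 5 n128723 = n174478 := d16_7 F137014 D89320 F354757 (iv5 D128660) F95124 D60535 D128723 F273364 (iv2 F270626)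
theorem F354759 : act 5 n98967 = n128810 := d17_1 (iv1 F354756) (iv1 F207062) F324641 F295269 (iv5 D41641) D41640 D89133 F156469 F354757
theorem E101671 : n135090 = n128810 := ((c2_1 F354759 F217312 D135092 (iv2 F354664))).symm
theorem F354760 : act 2 n128810 = n63491 := (sb E101671 F217312)
theorem F354761 : act 7 n128810 = n63490 := (sb E101671 (iv7 D135090))
theorem F354762 : act 6 n90237 = n98967 := d21_5 F293263 (iv1 D19896) D19898 D42176 D90237 F354759 (iv1 F207062) F324641 (iv6 D42637) F293673
theorem F354763 : act 4 n93770 = n90237 := d10_3 F354762 (iv4 D98967) (iv6 F294629)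
theorem F354764 : act 7 n172430 = n128723 := d13_0 F354758 F273364 (iv5 F270652)
theorem F354765 : act 1 n98945 = n128723 := d17_6 F301803 (iv5 F338820) (iv1 D98949) (iv5 D46295) D46294 D98945 F354758 (iv0 F324751) F324754
theorem F354766 : act 0 n98965 = n128723 := d21_1 D98965 F354758 (iv6 F273363) (iv1 F272861) F272859 (iv5 D172866) (iv1 F244453) (iv5 D155458) F184604 F155167
theorem F354767 : act 6 n128723 = n172508 := d21_3 (iv5 F324755) F324751 (iv5 F354758) (iv1 D172508) (iv6 D82588) (iv5 D37911) (iv1 D18165) D18166 (iv6 F58752) D82568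
theorem F354768 : act 4 n172508 = n128724 := d10_1 F354767 (iv6 D128724) D128723
theorem F354769 : act 3 n172506 = n107167 := d20_9 (iv4 D107524) (iv1 D49670) D49671 D107525 F348399 (iv3 F206998) (iv4 F354768) (iv1 D172508) (iv4 F270702) (iv1 F165893)
theorem F354770 : act 7 n107165 = n172506 := d8_0 F354769 (iv7 D107167) D107165
theorem F354771 : act 0 n172506 = n162802 := d20_4 F165144 (iv1 F82170) (iv4 F165160) (iv3 F354769) F257079 (iv4 D120654) F325659 (iv4 F104363) (iv3 D68192) D68190
theorem E101672 : n172510 = n110398 := (c11_3 F354770 F270702 D172510 F170764)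
theorem F354772 : act 7 n110398 = n82588 := (sb E101672 (iv7 D172510))
theorem F354773 : act 2 n167782 = n110398 := d4_3 F354772 F301512 D167782
theorem F354774 : act 1 n167780 = n110398 := d15_1 D167780 F354772 F301512
theorem F354775 : act 1 n167782 = n172507 := d15_0 (iv0 D172507) (iv7 F354772) (iv2 F354773)
theorem F354776 : act 5 n167780 = n127062 := d19_1 (iv1 F354774) (iv4 F219292) (iv3 D136253) F100219 D64556 D137336 F324303 (iv1 D119819) (iv5 D55133) F310326 (iv3 F310316) F121193 D27524 F329116 (iv3 F78246) (iv1 D49494) D49495 (iv4 F80320) (iv3 F170763)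
theorem F354777 : act 3 n124472 = n167780 := d6_3 F354776 (iv3 D127062) (iv5 F345351)
theorem F354778 : act 7 n172507 = n167780 := d13_0 F354776 (iv7 F221422) F349883
theorem F354779 : act 0 n163126 = n127062 := d21_10 (iv5 F354776) (iv1 D167780) D167781 F264149 F301021 D84215 F300890 D160725 F344841 (iv6 F352330)
theorem F354780 : act 0 n174813 = n157626 := d18_0 F352332 F354779 (iv4 F219292) F354504 F321040 (iv0 F351747) F351749 (iv0 F339166) D174813
theorem F354781 : act 1 n137299 = n127062 := d15_0 (iv0 F354779) (iv7 F352334) (iv2 F220448)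
theorem F354782 : act 2 n167780 = n172508 := d16_9 F354768 (iv5 F345741) F258048 (iv5 F328022) F324278 (iv5 F327150) (iv4 F221421) F349883 F354778
theorem F354783 : act 2 n172507 = n167779 := d15_3 (iv0 D167779) D167780 (iv7 F354778)
theorem F354784 : act 7 n167779 = n172508 := d4_2 (iv7 F354778) F354783 (iv2 F354782)
theorem F354785 : act 1 n110398 = n167779 := d15_1 F354774 F354784 (iv2 F354782)
theorem F354786 : act 1 n172508 = n167782 := d15_0 F354775 F354778 F354782
theorem F354787 : act 6 n167780 = n164156 := d7_2 (iv6 F345352) F354777 (iv3 D164156)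
theorem F354788 : act 2 n164156 = n128723 := d3_1 F354787 F354767 (iv2 F354782)
theorem E101673 : n172431 = n164156 := (c1_1 (iv4 F352569) F354788 (iv4 D128723) (iv2 F206996))
theorem F354789 : act 0 n164156 = n82561 := (sb E101673 (iv1 D172431))
theorem F354790 : act 1 n164156 = n82566 := (sb E101673 F270653)
theorem F354791 : act 4 n164156 = n128719 := (sb E101673 F352569)
theorem F354792 : act 0 n128719 = n175429 := d17_0 F332711 (iv1 D125654) D125656 F332677 F249459 F113303 D82561 (iv0 F354789) F354791
theorem F354793 : act 4 n164098 = n131438 := d20_2 (iv4 F120006) D164098 F210677 D131440 F315645 D175432 F352567 (iv4 F354791) (iv3 D164156) (iv1 D78860)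
theorem F354794 : act 6 n173410 = n164098 := d10_0 F354793 F307278 D173410
theorem F354795 : act 3 n162818 = n173410 := d7_3 F354794 F334260 (iv6 F336600)
theorem E101674 : n173387 = n131442 := (c5_4 D162818 F354795 (iv4 D173410) (iv3 F271872) (iv4 F210805) F336596)
theorem F354796 : act 3 n131442 = n82980 := (sb E101674 F271872)
theorem F354797 : act 5 n131442 = n82974 := (sb E101674 (iv5 D173387))
theorem F354798 : act 0 n173833 = n173410 := d20_4 F326668 (iv1 F326665) D83128 D173833 (iv3 F354795) (iv4 D162818) (iv1 D78266) (iv4 F119413) (iv3 D78217) D78215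
theorem F354799 : act 5 n155227 = n121094 := d21_8 (iv5 F250819) F326782 F325961 (iv6 F330829) (iv1 D131441) D131442 F354797 (iv1 F333752) F333778 (iv1 F254260)
theorem F354800 : act 7 n121094 = n174825 := d13_2 (iv7 F273659) F354799 (iv5 D174825)
theorem F354801 : act 6 n98249 = n120990 := d14_3 F354800 F333789 F249620 F256554 (iv6 F333778)
theorem F354802 : act 6 n163804 = n175357 := d21_5 F327437 (iv1 F170829) D110450 F330784 D163804 F274406 F264408 (iv5 F151595) F354801 F256571
theorem E101675 : n166748 = n152924 := ((c3_2 F354802 F274405 (iv6 D166748) (iv2 F258175))).symm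
theorem F354803 : act 6 n152924 = n80039 := (sb E101675 (iv6 D166748))
theorem F354804 : act 7 n175353 = n166745 := d14_4 F258174 F354802 (iv7 D175357) (iv6 F274397) (iv6 D166745)
theorem F354805 : act 3 n166745 = n112554 := d8_1 F354804 (iv7 F175080) (iv3 F348550)
theorem F354806 : act 5 n166745 = n175354 := d13_1 F354804 (iv7 D175354) D175353
theorem F354807 : act 3 n175354 = n116591 := d6_1 F354806 F181947 (iv3 F354805)
theorem F354808 : act 2 n146669 = n175354 := d0_5 F354807 F181946 F102684 (iv2 F104928) D146669
theorem F354809 : act 4 n143124 = n175354 := d5_0 F354807 (iv4 D116591) F175002 D67068 D143124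
theorem F354810 : act 0 n175354 = n147137 := d20_4 (iv4 D53728) D53726 D116591 (iv3 F354807) (iv3 F334774) (iv4 F334784) F334782 F225735 F224519 (iv1 D116594)
theorem F354811 : act 2 n166745 = n147608 := d2_3 F231393 F354808 (iv5 F354806)
theorem F354812 : act 1 n175354 = n147136 := d15_0 (iv0 D147136) (iv7 F229980) F354808
theorem E101676 : n175935 = n175351 := (c15_1 (iv0 F353842) (iv0 D175351) D175354 (iv2 F354808))
theorem F354813 : act 0 n175351 = n146669 := (sb E101676 F353842)
theorem F354814 : act 3 n175351 = n83957 := (sb E101676 (iv3 D175935))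
theorem F354815 : act 4 n175351 = n137891 := (sb E101676 (iv4 F353843))
theorem F354816 : act 5 n175351 = n147374 := (sb E101676 (iv5 F353846))
theorem F354817 : act 0 n163842 = n175353 := d17_0 (iv5 D175353) D175351 F354816 (iv4 F231093) F348489 (iv0 F348492) (iv5 D112712) F325674 D163842
theorem E101677 : n175170 = n147377 := ((c21_5 F354816 (iv1 D147374) (iv5 D69090) D69091 D147377 (iv6 D175170) F128713 (iv1 F59393) D38590 D83738 D175351)).symm
theorem F354818 : act 2 n147377 = n83758 := (sb E101677 F274191)
theorem F354819 : act 6 n147377 = n83663 := (sb E101677 (iv6 D175170))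
theorem E101678 : n175285 = n147378 := ((c15_2 (iv0 D147377) D147378 F274294 (iv2 F354818))).symm
theorem F354820 : act 3 n147378 = n83872 := (sb E101678 F274293)
theorem F354821 : act 6 n147378 = n83699 := (sb E101678 (iv6 D175285))
theorem F354822 : act 7 n147378 = n83758 := (sb E101678 F274294)
theorem F354823 : act 5 n147049 = n163842 := d21_0 F354817 (iv5 D175353) (iv6 D83738) (iv1 F128780) D175315 F353495 (iv1 F171177) F353503 (iv6 D147051) D147049
theorem F354824 : act 2 n163842 = n147369 := d2_1 F354823 (iv5 D147369) (iv2 F343334)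
theorem F354825 : act 3 n163842 = n152268 := d6_1 F354823 (iv5 D152268) (iv3 F343335)
theorem F354826 : act 7 n163842 = n147364 := d13_2 (iv7 F343337) F354823 (iv5 D147364)
theorem F354827 : act 0 n152268 = n111442 := d20_10 F172952 (iv1 F172598) (iv4 F172594) (iv3 D110630) (iv1 F322478) (iv3 F119853) F119854 D78711 D163842 F354825
theorem F354828 : act 0 n110595 = n152268 := d20_4 F39687 (iv1 F39134) (iv4 F80444) D110595 (iv3 F354825) (iv4 D163842) (iv1 F325674) F82199 (iv3 D50992) (iv1 F39686)
theorem F354829 : act 1 n110595 = n152485 := d15_1 (iv0 F354828) (iv7 D152485) (iv2 F239324)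
theorem F354830 : act 1 n152485 = n111442 := d15_1 F354829 F351734 (iv2 F351730)
theorem F354831 : act 5 n111442 = n173517 := d21_8 F340657 (iv1 F332303) (iv5 D164507) (iv6 D79004) F56652 D71838 D152268 F354827 (iv6 D173517) (iv1 F271957)
theorem F354832 : act 4 n137930 = n145938 := d20_0 (iv1 F229169) (iv4 F341543) F341551 (iv1 F225492) (iv3 F259446) F333957 D175351 F354815 F221117 D137930
theorem F354833 : act 2 n145931 = n137930 := d1_3 F354832 (iv2 D145938) (iv4 F229152)
theorem F354834 : act 6 n137930 = n159690 := d3_2 (iv6 F341537) F354833 F251584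
theorem F354835 : act 6 n90140 = n145938 := d10_2 F354834 F251581 (iv4 F354832)
theorem F354836 : act 5 n137930 = n151609 := d21_6 (iv5 F90293) (iv1 F90296) (iv5 F55253) D76402 D159690 (iv6 F354834) (iv1 D151609) (iv5 D71461) (iv6 D33063) D33061
theorem F354837 : act 2 n151609 = n133500 := d2_1 F354836 (iv5 F341536) F354833
theorem F354838 : act 1 n151663 = n137932 := d17_8 D137930 F354836 (iv1 D151609) (iv5 D71461) F52286 D33066 D71474 D151663 (iv4 D137932)
theorem E101679 : n137916 = n134094 := ((c21_7 F354836 (iv1 D151609) (iv5 D71461) (iv6 D33063) D33061 D71457 (iv5 F328714) (iv1 D137916) D137917 F221176 D137930)).symm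
theorem F354839 : act 0 n134094 = n64819 := (sb E101679 (iv1 D137916))
theorem F354840 : act 1 n137932 = n151658 := d15_1 F354838 F251618 (iv2 F251615)
theorem F354841 : act 1 n105472 = n151663 := d15_0 F354838 F353850 F259143
theorem F354842 : act 1 n151658 = n105472 := d15_1 F354840 (iv7 F258983) (iv2 F353849)
theorem F354843 : act 7 n147137 = n175351 := d8_0 F354814 F273888 F334774
theorem F354844 : act 2 n175351 = n147136 := d15_3 (iv0 D147136) D147137 F354843
theorem F354845 : act 7 n175352 = n147136 := d15_2 (iv0 D175351) D175352 (iv2 F354844)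
theorem F354846 : act 2 n147137 = n175352 := d4_3 F354845 (iv2 F354844) (iv7 F354843)
theorem F354847 : act 1 n175352 = n146669 := d15_0 (iv0 F354813) (iv7 F354843) F354846
theorem F354848 : act 5 n175352 = n131511 := d19_1 (iv1 F354847) F352286 (iv3 F352288) F352289 (iv5 D137306) F100481 F48824 D30396 (iv5 F328582) (iv4 D26201) F20695 D15172 (iv5 F50957) (iv4 F41170) (iv3 F41171) (iv1 F41176) (iv5 F50349) D68739 D146669
theorem F354849 : act 6 n163355 = n147608 := d21_5 (iv5 D68098) D68096 (iv5 F210680) F330817 (iv1 F302183) F231393 (iv1 F354847) F354848 (iv6 D131511) (iv1 F104237)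
theorem F354850 : act 6 n147139 = n175157 := d14_3 (iv7 F302186) F354849 F231394 (iv7 F274403) F354803
theorem F354851 : act 2 n175353 = n147139 := d3_3 F354850 F274166 (iv6 F274397)
theorem F354852 : act 3 n175157 = n147141 := d7_1 F354850 (iv6 D147141) (iv3 F230701)
theorem F354853 : act 3 n130312 = n152924 := d8_3 F274403 F354852 (iv7 F340272)
theorem F354854 : act 0 n144839 = n167764 := d20_7 D167769 F303732 (iv4 D122467) (iv3 F186974) F274168 F354852 F230704 (iv4 D167764) F123756 D80507
theorem F354855 : act 0 n111974 = n144839 := d20_7 F327102 (iv1 F350676) (iv4 F122194) (iv3 F326949) F170759 (iv3 F170770) (iv4 F174018) (iv4 F230704) (iv3 F354852) F274167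
theorem F354856 : act 1 n147369 = n166745 := d15_1 (iv0 F343340) (iv7 F354804) F354851
theorem F354857 : act 1 n163842 = n147608 := d15_1 (iv0 F354817) F231394 (iv2 F354851)
theorem F354858 : act 1 n166745 = n147364 := d15_1 F354856 (iv7 F354826) F354824
theorem F354859 : act 0 n147376 = n121197 := d21_4 (iv5 D147369) (iv1 D69088) D69090 D147376 (iv6 D121197) D121196 (iv1 F262475) (iv5 D166744) D166745 (iv1 F354856)
theorem E101680 : n177605 = n147376 := ((c15_1 (iv0 F354859) (iv0 D177605) (iv7 F344876) F258127)).symm
theorem F354860 : act 1 n147376 = n84595 := (sb E101680 (iv0 D177605))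
theorem F354861 : act 1 n147364 = n147139 := d15_1 F354858 (iv7 F231394) (iv2 F354811)
theorem F354862 : act 6 n131514 = n175352 := d12_0 F354848 (iv6 D131511) (iv5 D61717) D61718 D131514
theorem F354863 : act 0 n163847 = n147608 := d17_0 F231393 (iv1 F354847) F354848 F352286 F352282 (iv0 D163190) F119628 D78712 D163847
theorem F354864 : act 1 n163847 = n175353 := d15_1 (iv0 F354863) F354804 F354811
theorem F354865 : act 7 n163847 = n147369 := d15_2 F354857 (iv0 F354863) (iv2 F354824)
theorem F354866 : act 2 n147364 = n163847 := d4_3 F354865 (iv2 F354824) F354826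
theorem F354867 : act 3 n124653 = n163847 := d8_3 F354865 (iv3 F343342) F347455
theorem F354868 : act 5 n147050 = n163847 := d13_3 F354865 (iv5 D147369) (iv7 F343339)
theorem E101681 : n175941 = n124653 := (c20_5 (iv4 F322487) F60052 (iv4 F60638) (iv3 F321685) D175941 F354867 (iv4 D163847) (iv1 D78712) (iv4 F119854) F119853 F322477)
theorem F354869 : act 1 n124653 = n83959 := (sb E101681 (iv0 D175941))
theorem F354870 : act 2 n124650 = n165657 := d3_3 (iv6 F352228) F354866 F330810
theorem F354871 : act 6 n147137 = n175246 := d3_2 F354862 (iv2 F354846) (iv2 F337076)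
theorem E101682 : n175273 = n131483 := (c21_1 D175273 F233693 D131514 F354862 (iv1 D175352) (iv6 D83738) (iv5 D38590) (iv1 D18376) D18377 (iv6 F59405) D83696)
theorem F354872 : act 5 n131483 = n83696 := (sb E101682 (iv5 D175273))
theorem E101683 : n175275 = n175138 := (c13_3 (iv7 F323851) F354872 D175275 (iv5 F344380))
theorem F354873 : act 2 n175138 = n83697 := (sb E101683 F274288)
theorem F354874 : act 7 n175138 = n83696 := (sb E101683 (iv7 D175275))
theorem F354875 : act 5 n175280 = n102529 := d17_1 D175280 (iv1 F157476) F161657 (iv4 F339756) (iv5 D131514) (iv0 F233693) F354872 (iv0 D83696) D83698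
theorem F354876 : act 3 n158546 = n175680 := d19_15 D83696 (iv5 F354872) (iv4 D131483) (iv3 F323850) (iv1 D29275) (iv5 F24519) (iv4 F49423) (iv3 F102292) (iv1 F318754) (iv5 F318854) (iv4 F346977) F346976 D172446 (iv5 F344096) F344095 (iv1 D175680) (iv5 D83870) (iv4 D38625) (iv3 F59404)
theorem F354877 : act 4 n175680 = n136932 := d5_2 F344095 F354876 F220114 F327366 D135442
theorem F354878 : act 0 n105359 = n175680 := d20_4 (iv4 F77433) (iv1 F177811) (iv4 D105360) D105359 (iv3 F354876) (iv4 F344095) F344092 F339457 (iv3 D106120) (iv1 D49051)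
theorem F354879 : act 7 n113771 = n175680 := d11_0 F354877 (iv7 D136932) (iv4 F177018)
theorem F354880 : act 5 n136932 = n175506 := d16_3 F334807 (iv5 F334806) F354877 (iv4 D175506) (iv5 D83802) (iv4 F272774) (iv5 F346729) F346730 (iv2 F274818)
theorem F354881 : act 5 n175519 = n136920 := d9_8 (iv5 F354880) (iv4 F354877) F334806 (iv4 F334807) (iv5 D172412) F272771 D83807 D175519 F251210 (iv5 D159507) (iv4 F251203) F346729 F272774 D83802 D175506
theorem E101684 : n136931 = n101924 := (c2_3 F354881 F220102 D136931 (iv2 F274849))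
theorem F354882 : act 3 n101924 = n64376 := (sb E101684 F220112)
theorem F354883 : act 5 n101924 = n64365 := (sb E101684 (iv5 D136931))
theorem F354884 : act 6 n101924 = n64368 := (sb E101684 F220113)
theorem F354885 : act 6 n136923 = n175519 := d12_0 F354881 (iv6 D136920) (iv5 D64361) D64362 D136923
theorem F354886 : act 4 n175520 = n136923 := d10_3 F354885 (iv4 D175519) D175520
theorem E101685 : n136945 = n101925 := (c1_3 F354886 F220104 D136945 (iv2 F274851))
theorem F354887 : act 4 n101925 = n64368 := (sb E101685 (iv4 D136945))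
theorem F354888 : act 3 n136976 = n175506 := d8_3 F274815 F354882 D136976
theorem F354889 : act 2 n113989 = n175680 := d16_9 F354877 F354880 (iv4 D175506) (iv5 D83802) (iv4 F272774) (iv5 F346729) F251203 D159507 (iv7 F251209)
theorem F354890 : act 1 n105359 = n159507 := d15_1 (iv0 F354878) (iv7 F251209) F354889
theorem E101686 : n175679 = n159507 := ((c15_4 (iv0 D175679) D175680 (iv7 F354879) (iv2 F251205))).symm
theorem F354891 : act 1 n159507 = n83870 := (sb E101686 (iv0 D175679))
theorem F354892 : act 2 n175683 = n105359 := d15_3 F354890 F354891 D175683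
theorem F354893 : act 3 n113969 = n175683 := d0_0 F354892 (iv3 D105359) F193491 D52607 D113969
theorem F354894 : act 4 n105359 = n175535 := d1_2 (iv4 F275060) F354892 F274872
theorem F354895 : act 1 n175683 = n113771 := d15_0 F234987 (iv7 F193493) (iv2 F354892)
theorem F354896 : act 1 n113989 = n175683 := d15_0 F354895 F354879 (iv2 F354889)
theorem F354897 : act 7 n175535 = n113991 := d11_2 (iv7 F193493) F354894 (iv4 D113991)
theorem F354898 : act 3 n138065 = n175535 := d20_5 F347099 (iv1 D126803) F93931 (iv3 F100701) D138065 (iv4 F354894) F354878 F354877 F220114 (iv1 F218747)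
theorem F354899 : act 5 n175534 = n138065 := d6_0 F354898 (iv5 D175535) D175534
theorem E101687 : n175534 = n154390 := ((c17_5 (iv1 F241682) F241679 (iv1 F109252) D73132 D154390 F354899 (iv0 D138065) D138067 (iv0 F353693) (iv4 D154398))).symm
theorem F354900 : act 3 n154390 = n83811 := (sb E101687 (iv3 D175534))
theorem F354901 : act 5 n154390 = n138065 := (sb E101687 F354899)
theorem F354902 : act 6 n154390 = n97987 := (sb E101687 F274871)
theorem F354903 : act 4 n97987 = n154391 := d10_1 F354902 (iv6 D154391) D154390
theorem F354904 : act 0 n97987 = n182278 := d21_4 (iv5 D138067) D138065 (iv5 F354901) F354902 (iv6 D182278) (iv5 D87034) F133402 (iv5 F134643) (iv6 F353696) F353693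
theorem F354905 : act 3 n154391 = n97966 := d5_1 F354903 (iv4 D97966) F72125 D45735 D97987
theorem E101688 : n175491 = n154385 := (c7_3 D154391 F354905 (iv6 F274746) F242456)
theorem F354906 : act 2 n154385 = n154473 := (sb E101688 (iv2 F310352))
theorem F354907 : act 4 n154385 = n83797 := (sb E101688 (iv4 D175491))
theorem F354908 : act 6 n154385 = n97966 := (sb E101688 F274746)
theorem F354909 : act 5 n148029 = n154384 := d16_3 (iv4 F162844) F332507 (iv4 F231840) (iv4 D154384) D154385 F354907 (iv5 D83797) D83798 F310346
theorem F354910 : act 7 n175210 = n147949 := d16_8 (iv4 F231840) F354909 (iv4 D154384) D154385 F354907 (iv5 D83797) (iv4 F128756) D175210 F247827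
theorem E101689 : n154384 = n121310 := (c17_6 D117346 F308170 F332509 F332507 (iv4 F231840) F354909 F193437 (iv5 F178943) (iv0 F335469) F318958)
theorem F354911 : act 4 n121310 = n73130 := (sb E101689 (iv4 D154384))
theorem F354912 : act 5 n121310 = n148029 := (sb E101689 (iv5 F354909))
theorem F354913 : act 3 n148029 = n114580 := d6_1 F354912 F178807 F338553
theorem F354914 : act 2 n114395 = n148029 := d0_5 F354913 F318213 (iv3 F321215) F161738 (iv3 F178421)
theorem F354915 : act 4 n147949 = n114395 := d1_0 F354914 F231840 (iv2 F247827)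
theorem E101690 : n121321 = n121310 := ((c2_3 F321363 F354914 (iv5 F354912) F193450)).symm
theorem F354916 : act 2 n121310 = n55969 := (sb E101690 F193450)
theorem F354917 : act 7 n121310 = n55968 := (sb E101690 (iv7 D121321))
theorem E101691 : n154354 = n121318 := ((c11_2 F354917 D121318 F242435 (iv4 F354911))).symm
theorem F354918 : act 3 n121318 = n73124 := (sb E101691 (iv3 D154354))
theorem F354919 : act 7 n121318 = n73130 := (sb E101691 F242435)
theorem F354920 : act 7 n121319 = n148029 := d13_2 F354917 D121319 (iv5 F354912)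
theorem E101692 : n121316 = n121309 := (c15_4 (iv0 D121309) D121310 F354917 D121316)
theorem F354921 : act 2 n121309 = n55968 := (sb E101692 (iv2 D121316))
theorem F354922 : act 3 n121309 = n55981 := (sb E101692 F322983)
theorem F354923 : act 7 n121309 = n55969 := (sb E101692 (iv7 F193449))
theorem F354924 : act 4 n148035 = n121319 := d11_3 F354920 F231840 D148035
theorem F354925 : act 5 n121323 = n154473 := d16_1 D121323 (iv4 D154473) (iv5 D73171) D73170 (iv5 F337184) F354924 (iv5 D121319) (iv7 F354917) F354916
theorem E101693 : n154383 = n121323 := (c2_4 F354925 (iv2 F354906) (iv5 D154385) D154383)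
theorem F354926 : act 2 n121323 = n73130 := (sb E101693 (iv2 D154383))
theorem F354927 : act 3 n175225 = n147949 := d5_5 F354915 F178421 F136454 (iv3 F178547) (iv4 F335207)
theorem E101694 : n170547 = n148595 := (c20_6 F177838 F193468 F177679 (iv3 F317896) F317893 (iv3 F267975) F233350 (iv1 F278368) F354915 F178421 (iv1 F193466))
theorem F354928 : act 3 n148595 = n81749 := (sb E101694 F267975)
theorem F354929 : act 5 n148595 = n170056 := (sb E101694 F267976)
theorem F354930 : act 7 n148595 = n81747 := (sb E101694 (iv7 D170547))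
theorem E101695 : n154381 = n151514 := (c18_3 (iv1 F193437) F354911 D154381 F238384 F163390 F314748 F232495 (iv4 F335467) F178946 F178943)
theorem F354931 : act 1 n151514 = n73130 := (sb E101695 (iv0 D154381))
theorem F354932 : act 4 n151323 = n154382 := d20_6 (iv4 F178806) F338149 F337851 (iv3 F337880) F317049 F252036 (iv1 D154382) (iv4 F354911) (iv3 F338553) (iv1 D114700)
theorem F354933 : act 3 n154382 = n146909 := d5_1 F354932 (iv4 D146909) (iv3 F232361) (iv4 F338148) F252036
theorem F354934 : act 7 n154382 = n151320 := d11_2 D151323 F354932 F238042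
theorem F354935 : act 7 n123508 = n146909 := d8_2 F354934 F238041 (iv3 F354933)
theorem F354936 : act 6 n119843 = n120393 := d14_3 F354935 F230295 (iv7 F189150) F191796 D123508
theorem F354937 : act 1 n117253 = n123508 := d15_1 (iv0 F184663) F354935 F230294
theorem F354938 : act 1 n123508 = n123828 := d15_1 F354937 F341482 (iv2 F183482)
theorem E101696 : n155511 = n123828 := ((c15_1 F354938 (iv0 D155511) (iv7 F230020) F310209)).symm
theorem F354939 : act 1 n123828 = n73964 := (sb E101696 (iv0 D155511))
theorem E101697 : n122700 = n110827 := ((c20_7 F223212 F336881 (iv4 F244527) F244526 (iv1 F354939) (iv3 D123828) (iv4 F341483) (iv1 D122700) (iv4 F191646) F191645 (iv1 F340976))).symm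
theorem F354940 : act 0 n110827 = n56992 := (sb E101697 (iv1 D122700))
theorem F354941 : act 1 n110827 = n161578 := (sb E101697 F255579)
theorem E101698 : n123824 = n122699 := ((c15_2 F354941 F255580 (iv7 F341489) F341502)).symm
theorem F354942 : act 2 n122699 = n123899 := (sb E101698 (iv2 F341497))
theorem F354943 : act 4 n122699 = n57708 := (sb E101698 (iv4 D123824))
theorem F354944 : act 7 n122699 = n123904 := (sb E101698 (iv7 F341489))
theorem F354945 : act 3 n159690 = n122699 := d8_3 F354944 F346101 F251582
theorem E101699 : n159707 = n145932 := ((c0_4 F354945 F354942 (iv3 F341507) (iv2 F229154) (iv3 D159707) (iv2 F251584))).symm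
theorem F354946 : act 3 n145932 = n76408 := (sb E101699 (iv3 D159707))
theorem E101700 : n159700 = n123721 := (c20_3 F114560 (iv1 F114544) D159700 (iv3 D123721) (iv1 D57673) F44456 (iv4 F44467) D57708 (iv4 F354943) (iv3 F354945) F251583)
theorem F354947 : act 2 n123721 = n76419 := (sb E101700 F251624)
theorem F354948 : act 4 n123721 = n76404 := (sb E101700 (iv4 D159700))
theorem F354949 : act 7 n123721 = n76414 := (sb E101700 F251612)
theorem E101701 : n123715 = n123681 := ((c8_2 F354949 (iv3 F352397) (iv7 F198205) D123721)).symm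
theorem F354950 : act 2 n123681 = n57672 := (sb E101701 (iv2 D123715))
theorem F354951 : act 7 n123681 = n57673 := (sb E101701 (iv7 F198205))
theorem E101702 : n123720 = n123682 := (c15_4 F198116 F198122 F354951 (iv2 F198206))
theorem F354952 : act 2 n123682 = n57673 := (sb E101702 F198206)
theorem F354953 : act 7 n123682 = n57672 := (sb E101702 (iv7 D123720))
theorem F354954 : act 3 n107693 = n123722 := d5_3 F354948 (iv3 F335481) F179382 (iv4 D123722) D123721
theorem F354955 : act 1 n151324 = n123721 := d18_6 (iv1 F114570) D93845 (iv1 F333366) F152155 (iv5 F107819) (iv4 F238044) F354948 F114544 (iv5 F114568)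
theorem F354956 : act 1 n159696 = n151324 := d15_0 F354955 F354949 (iv2 F251613)
theorem E101703 : n151326 = n92509 := ((c20_10 (iv4 F238044) (iv1 F354956) (iv4 D159696) (iv3 F251677) (iv1 F193578) F144679 (iv4 F144687) (iv1 F144689) (iv4 D92510) D92509 (iv1 D151326))).symm
theorem F354957 : act 0 n92509 = n71320 := (sb E101703 (iv1 D151326))
theorem F354958 : act 6 n123722 = n107691 := d7_2 D107693 F354954 F166326
theorem E101704 : n128206 = n123711 := (c20_10 (iv4 F198120) (iv1 F198123) D123722 (iv3 F354954) F335483 (iv3 F83712) F83713 D52985 D114827 (iv3 F354084) (iv1 F198202))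
theorem F354959 : act 2 n123711 = n60273 := (sb E101704 (iv2 D128206))
theorem F354960 : act 3 n123711 = n114827 := (sb E101704 F354084)
theorem F354961 : act 7 n123711 = n60274 := (sb E101704 (iv7 F206343))
theorem F354962 : act 3 n114071 = n162537 := d20_3 F83195 D52648 D114071 (iv1 F256746) F119270 (iv4 F198120) (iv1 F198123) D123722 (iv3 F354954) F335483
theorem E101705 : n162574 = n162537 := ((c5_2 D114071 F354962 F342204 F336063 (iv4 F319805) (iv3 F142456))).symm
theorem F354963 : act 2 n162537 = n78071 := (sb E101705 (iv2 D162574))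
theorem F354964 : act 4 n162537 = n172113 := (sb E101705 F342204)
theorem F354965 : act 7 n162537 = n78072 := (sb E101705 (iv7 F256821))
theorem F354966 : act 7 n107716 = n114071 := d8_0 F354962 F354965 (iv3 F344840)
theorem E101706 : n180743 = n170733 := (c20_3 (iv4 F256816) (iv1 F256819) D180743 (iv3 F353815) (iv1 D114822) F83712 F83195 D52648 D114071 F354962 (iv1 F256746))
theorem F354967 : act 4 n170733 = n86329 := (sb E101706 (iv4 D180743))
theorem E101707 : n180742 = n135281 := (c5_2 F354967 D180742 F337846 (iv3 F353810) F353811 F353815)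
theorem F354968 : act 3 n135281 = n86329 := (sb E101707 (iv3 D180742))
theorem E101708 : n180741 = n162571 := (c0_2 F354968 (iv2 F281336) F342201 (iv2 F337893) F217526 (iv2 F217497))
theorem F354969 : act 2 n162571 = n86329 := (sb E101708 F281336)
theorem F354970 : act 7 n162571 = n86328 := (sb E101708 (iv7 D180741))
theorem E101709 : n180744 = n135274 := (c6_3 D135281 F354968 D180744 F217488)
theorem F354971 : act 5 n135274 = n86329 := (sb E101709 (iv5 D180744))
theorem E101710 : n180736 = n164307 := (c8_3 (iv7 F337847) F354968 F281335 (iv3 D164307))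
theorem F354972 : act 2 n164307 = n86328 := (sb E101710 (iv2 D180736))
theorem F354973 : act 7 n164307 = n86329 := (sb E101710 (iv7 F281335))
theorem E101711 : n153821 = n132977 := (c20_9 F120111 (iv1 F120105) (iv4 F337846) F354968 (iv1 D86329) (iv3 F94832) F94833 D72763 D153821 F338587 (iv1 F258908))
theorem E101712 : n73124 = n72763 := ((F339663).symm.trans (sb E101711 (iv4 D153821)))
theorem E101713 : n154352 = n33684 := ((((iv1 F109251)).symm.trans (sb E101712 D154352))).symm
theorem E101715 : n153819 = n33681 := ((D153819).symm.trans (sb E101712 (iv2 D73124)))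
theorem E101716 : n153820 = n121318 := ((D153820).symm.trans (sb E101712 (iv3 F354918)))
theorem F354974 : act 4 n72763 = n132977 := (sb E101712 (iv4 F339663))
theorem E101717 : n154356 = n153822 := (((D153822).symm.trans (sb E101712 D154356))).symm
theorem E101718 : n154357 = n153823 := (((D153823).symm.trans (sb E101712 D154357))).symm
theorem E101719 : n153824 = n33682 := ((D153824).symm.trans (sb E101712 (iv7 F109620)))
theorem E101720 : n73129 = n72764 := ((((iv1 F109247)).symm.trans (sb E101713 (iv1 F242433)))).symm
theorem F354975 : act 2 n33681 = n72763 := (sb E101715 (iv2 D153819))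
theorem F354976 : act 3 n121318 = n72763 := (sb E101716 (iv3 D153820))
theorem F354977 : act 2 n153822 = n73127 := (sb E101717 F242438)
theorem F354978 : act 7 n153822 = n73132 := (sb E101717 F242439)
theorem F354979 : act 2 n153823 = n73128 := (sb E101718 F242440)
theorem F354980 : act 7 n33682 = n72763 := (sb E101719 (iv7 D153824))
theorem F354981 : act 2 n72764 = n33682 := (sb E101720 F109621)
theorem E101721 : n154364 = n153825 := (((D153825).symm.trans (sb E101720 (iv3 F242443)))).symm
theorem E101722 : n153826 = n132914 := ((D153826).symm.trans (sb E101720 (iv4 F339659)))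
theorem E101723 : n154375 = n153827 := (((D153827).symm.trans (sb E101720 (iv5 F242452)))).symm
theorem E101724 : n154380 = n134130 := ((((iv6 F353722)).symm.trans (sb E101720 D154380))).symm
theorem F354982 : act 7 n72764 = n33681 := (sb E101720 (iv7 D73129))
theorem F354983 : act 7 n153825 = n73125 := (sb E101721 (iv7 D154364))
theorem F354984 : act 4 n132914 = n72764 := (sb E101722 (iv4 D153826))
theorem F354985 : act 2 n153827 = n73132 := (sb E101723 F242451)
theorem F354986 : act 7 n153827 = n73127 := (sb E101723 (iv7 D154375))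
theorem F354987 : act 2 n134130 = n73133 := (sb E101724 F242455)
theorem E101725 : n134218 = n108815 := ((c2_3 (iv5 F349806) F354987 (iv5 F329957) (iv2 D134218))).symm
theorem F354988 : act 2 n108815 = n63054 := (sb E101725 (iv2 D134218))
theorem F354989 : act 7 n108815 = n63055 := (sb E101725 (iv7 F216260))
theorem E101726 : n154395 = n134131 := ((c15_2 (iv0 D134130) D134131 (iv7 D154395) (iv2 F354987))).symm
theorem F354990 : act 7 n134131 = n73133 := (sb E101726 (iv7 D154395))
theorem E101727 : n134226 = n134131 := (c11_4 F354990 (iv4 F339656) (iv7 F338575) F349807)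
theorem F354991 : act 4 n134131 = n173512 := (sb E101727 (iv4 F349807))
theorem F354992 : act 5 n134131 = n63055 := (sb E101727 (iv5 D134226))
theorem E101728 : n128946 = n128610 := ((c17_1 (iv1 F206882) F339681 (iv1 F349821) F206934 F98275 D63005 D134131 F354992 F168770 F168766)).symm
theorem F354993 : act 2 n128610 = n60641 := (sb E101728 (iv2 D128946))
theorem F354994 : act 3 n128610 = n78561 := (sb E101728 F339680)
theorem F354995 : act 5 n128610 = n78555 := (sb E101728 F339681)
theorem F354996 : act 6 n128610 = n106613 := (sb E101728 F339689)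
theorem F354997 : act 7 n128610 = n60642 := (sb E101728 (iv7 F207169))
theorem E101729 : n134993 = n63055 := (c21_6 (iv5 D19147) D19144 D40517 D87218 F328743 D134993 (iv5 F354992) (iv1 D134131) (iv5 D63005) F328364 F61572)
theorem E101730 : n134227 = n63439 := ((D134227).symm.trans (sb E101729 (iv6 D134993)))
theorem F354998 : act 6 n63439 = n63055 := (sb E101730 (iv6 D134227))
theorem F354999 : act 6 n134223 = n134989 := d3_2 F354998 (iv2 F216264) F217216
theorem F355000 : act 6 n134224 = n134990 := d7_2 F354998 D134224 (iv3 D134990)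
theorem F355001 : act 6 n134225 = n134991 := d10_2 F354998 D134225 (iv4 D134991)
theorem F355002 : act 7 n134988 = n134222 := d14_4 D134223 F354999 (iv7 D134989) D134988 (iv6 D134222)
theorem E101731 : n128982 = n128952 := ((c8_2 F354997 D128952 F333460 (iv3 F354994))).symm
theorem F355003 : act 0 n128952 = n135821 := (sb E101731 (iv1 F218469))
theorem F355004 : act 1 n128952 = n60653 := (sb E101731 (iv0 D128982))
theorem F355005 : act 2 n128952 = n135816 := (sb E101731 F333458)
theorem F355006 : act 5 n128952 = n78562 := (sb E101731 F333459)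
theorem F355007 : act 7 n128952 = n78561 := (sb E101731 F333460)
theorem E101732 : n128951 = n128609 := (c15_4 (iv0 D128609) D128610 F354997 (iv2 F207171))
theorem F355008 : act 2 n128609 = n60642 := (sb E101732 F207171)
theorem F355009 : act 7 n128609 = n60641 := (sb E101732 (iv7 D128951))
theorem E101733 : n134371 = n128953 := ((c20_7 (iv4 F208708) F207726 (iv4 D60654) D60653 (iv1 F355004) (iv3 D128952) D128953 (iv1 D134371) (iv4 F208754) F208753 (iv1 F208707))).symm
theorem F355010 : act 0 n128953 = n63126 := (sb E101733 (iv1 D134371))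
theorem F355011 : act 1 n128953 = n153986 := d15_1 (iv0 F355010) F349811 (iv2 D134372)
theorem F355012 : act 6 n180255 = n128956 := d21_5 D163455 (iv1 F257869) (iv5 D163604) D163605 F280579 (iv5 D128956) (iv1 F206882) F354995 (iv6 D78555) D78551
theorem F355013 : act 4 n128956 = n180257 := d10_1 F355012 (iv6 D180257) D180255
theorem F355014 : act 2 n180257 = n128960 := d1_1 F355013 (iv4 D128960) (iv2 F207173)
theorem F355015 : act 5 n180257 = n119654 := d16_1 F355013 F188733 (iv5 F336891) (iv4 D134232) (iv5 D63057) (iv4 F95078) D128612 F206885 (iv2 F207173)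
theorem F355016 : act 7 n176472 = n180257 := d13_0 F355015 (iv7 F188734) D176472
theorem F355017 : act 1 n131467 = n180257 := d17_6 (iv1 F309617) F349790 F349797 F349801 F210716 D131467 F355015 (iv0 F315778) F315780
theorem F355018 : act 5 n131382 = n163817 := d21_8 F257740 (iv1 F254422) F253648 (iv6 F345774) (iv1 D180253) D180257 F355015 F337607 (iv6 D163817) F258182
theorem F355019 : act 7 n163817 = n131380 := d13_2 D131382 F355018 (iv5 D131380)
theorem F355020 : act 6 n131380 = n163830 := d14_1 F355019 F261320 F330778 F258195 D163817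
theorem F355021 : act 0 n109877 = n180263 := d20_1 F170602 F280585 (iv3 F280581) (iv1 F355017) F210732 (iv4 F96318) F314845 (iv4 F315656) (iv3 F315643) (iv1 F348547)
theorem F355022 : act 5 n148812 = n175048 := d18_9 F273971 (iv4 D174033) (iv1 F317094) (iv4 F247160) F247168 (iv4 D134132) D134131 F354991 (iv0 F349813)
theorem F355023 : act 1 n175048 = n118560 := d17_6 (iv1 D124715) (iv5 F339695) F329743 (iv5 F329082) (iv4 F233663) F355022 F311886 D128144 F347337
theorem F355024 : act 2 n131454 = n174033 := d15_3 (iv0 F273971) F355023 (iv7 F210717)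
theorem F355025 : act 7 n134225 = n128827 := d11_2 F354989 D134225 F207095
theorem E101734 : n134223 = n108814 := (c15_4 (iv0 D108814) D108815 F354989 (iv2 F216264))
theorem F355026 : act 2 n108814 = n63055 := (sb E101734 F216264)
theorem E101735 : n134989 = n111435 := ((((iv6 F354704)).symm.trans (sb E101734 F354999))).symm
theorem F355027 : act 7 n108814 = n63054 := (sb E101734 (iv7 D134223))
theorem F355028 : act 2 n111435 = n63439 := (sb E101735 F217216)
theorem F355029 : act 7 n111435 = n63438 := (sb E101735 (iv7 D134989))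
theorem F355030 : act 7 n134985 = n128833 := d8_2 F355029 D134985 (iv3 F207098)
theorem F355031 : act 7 n134986 = n132938 := d11_2 F355029 D134986 (iv4 F213557)
theorem E101736 : n134984 = n111436 := (c15_4 F172946 F172941 F355029 D134984)
theorem F355032 : act 2 n111436 = n63438 := (sb E101736 (iv2 D134984))
theorem F355033 : act 7 n111436 = n63439 := (sb E101736 (iv7 F217211))
theorem F355034 : act 7 n134991 = n131933 := d11_2 F355033 D134991 F211414
theorem E101737 : n131937 = n106597 := (c8_3 F355034 (iv3 D131933) D131937 (iv3 F217217))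
theorem F355035 : act 2 n106597 = n61908 := (sb E101737 F211416)
theorem E101738 : n128831 = n125653 := (((F352568).symm.trans (sb E101737 F354701))).symm
theorem F355036 : act 7 n106597 = n61907 := (sb E101737 (iv7 D131937))
theorem F355037 : act 2 n125653 = n60588 := (sb E101738 F207097)
theorem F355038 : act 7 n125653 = n60587 := (sb E101738 (iv7 D128831))
theorem F355039 : act 2 n131933 = n134986 := d15_3 F217215 F217220 F355034
theorem F355040 : act 2 n134991 = n132938 := d4_1 (iv7 F355034) (iv7 F355031) (iv2 F355039)
theorem F355041 : act 2 n130231 = n134225 := d3_3 F355001 F355040 (iv6 F354706)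
theorem F355042 : act 7 n134220 = n130231 := d15_2 (iv0 F216266) (iv0 F216263) F355041
theorem F355043 : act 2 n134220 = n128827 := d4_3 (iv7 F355025) (iv2 F355041) (iv7 F355042)
theorem F355044 : act 1 n134220 = n130232 := d15_0 F216267 F355025 (iv2 F355043)
theorem F355045 : act 7 n128828 = n135296 := d11_2 F355038 D128828 (iv4 F217531)
theorem F355046 : act 7 n128721 = n175432 := d13_2 F355038 (iv5 F333040) (iv5 F352565)
theorem E101739 : n128826 = n125654 := (c15_4 F202130 F202125 F355038 D128826)
theorem F355047 : act 2 n125654 = n60587 := (sb E101739 (iv2 D128826))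
theorem F355048 : act 7 n125654 = n60588 := (sb E101739 (iv7 F207094))
theorem F355049 : act 7 n128722 = n175429 := d13_2 F355048 (iv5 F332809) F332711
theorem F355050 : act 2 n175429 = n128721 := d15_3 (iv0 D128721) D128722 F355049
theorem F355051 : act 2 n128722 = n175432 := d4_1 (iv7 F355049) (iv7 F355046) (iv2 F355050)
theorem F355052 : act 6 n125370 = n175429 := d3_0 F355050 F333041 F261364
theorem F355053 : act 2 n128828 = n134985 := d1_3 F217212 F355047 D128828
theorem F355054 : act 2 n128833 = n135296 := d4_3 (iv7 F355045) F355053 F355030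
theorem F355055 : act 7 n131934 = n134539 := d11_2 F355036 D131934 (iv4 F216519)
theorem E101740 : n131932 = n106598 := (c15_4 F164179 F164174 F355036 D131932)
theorem F355056 : act 2 n106598 = n61907 := (sb E101740 (iv2 D131932))
theorem F355057 : act 7 n106598 = n61908 := (sb E101740 (iv7 F211413))
theorem F355058 : act 7 n131939 = n134219 := d11_2 F355057 D131939 F216261
theorem F355059 : act 2 n131934 = n134219 := d1_3 F216261 F355056 D131934
theorem F355060 : act 2 n131939 = n134539 := d4_3 (iv7 F355055) F355059 (iv7 F355058)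
theorem F355061 : act 1 n131934 = n134540 := d15_0 F216520 F355058 (iv2 F355059)
theorem F355062 : act 6 n134539 = n135296 := d3_2 (iv6 F354703) F355060 (iv2 F355054)
theorem E101741 : n183879 = n153827 := (c15_2 F353706 D183879 F354986 (iv2 F354977))
theorem F355063 : act 0 n153827 = n87712 := (sb E101741 (iv1 D183879))
theorem F355064 : act 1 n153827 = n88270 := (sb E101741 F285702)
theorem F355065 : act 0 n147848 = n111155 := d21_1 (iv5 F231622) F352339 (iv6 F337919) (iv1 F355064) (iv6 F353720) F353721 F353723 (iv5 D154409) F109622 D73191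
theorem F355066 : act 6 n126775 = n101215 := d21_5 F352339 (iv1 F337916) D185199 (iv6 F329613) (iv1 F204023) F155928 (iv1 F74385) D88059 (iv6 F353727) F355065
theorem F355067 : act 5 n184570 = n126775 := d12_5 F355066 F155928 F74383 (iv5 F135019) D184570
theorem F355068 : act 2 n126776 = n184570 := d2_3 F355067 (iv2 D126775) D126776
theorem F355069 : act 6 n99891 = n126776 := d3_0 F355068 (iv6 D184570) (iv2 F153795)
theorem F355070 : act 2 n154391 = n185233 := d3_3 F353720 F354985 D154391
theorem F355071 : act 0 n119304 = n123851 := d20_4 (iv4 F354984) F213521 F342774 (iv3 F310221) (iv3 D123851) (iv4 D57714) (iv1 F90381) (iv4 F90898) F90897 (iv1 F109247)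
theorem F355072 : act 1 n119315 = n123851 := d15_0 (iv0 F355071) F187799 (iv2 F187832)
theorem E101742 : n123871 = n121313 := (c20_10 F88584 D55968 D121318 F354976 (iv1 F109251) (iv3 F90897) F90898 (iv1 F90380) D57719 D123871 (iv1 D121313))
theorem F355073 : act 3 n121313 = n57719 := (sb E101742 (iv3 D123871))
theorem F355074 : act 6 n111191 = n121313 := d7_0 F355073 F329886 D111191
theorem F355075 : act 5 n151563 = n134064 := d21_0 (iv1 F216072) (iv5 F172436) F355074 (iv1 D121313) (iv6 D55967) (iv5 F44376) (iv1 F90295) F90293 D71457 (iv1 F252356)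
theorem F355076 : act 0 n130080 = n132977 := d20_10 (iv4 F354974) (iv1 F109251) (iv4 F109619) (iv3 F350859) (iv1 D129734) F95480 D60954 (iv1 F312466) F312467 D130080
theorem F355077 : act 0 n121317 = n114701 := d20_7 D60954 (iv1 F312466) F312467 D130080 F355076 F338587 (iv4 F258910) (iv4 F337863) (iv3 D129783) (iv1 D60953)
theorem F355078 : act 0 n151320 = n121318 := d20_7 (iv4 F337863) F216491 (iv4 F337848) D78924 F337872 F114716 (iv4 F238042) (iv4 D121318) D121317 F355077
theorem F355079 : act 2 n128460 = n114701 := d15_3 (iv0 F355077) (iv0 F338594) (iv7 F338607)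
theorem F355080 : act 6 n152186 = n128460 := d3_0 F355079 (iv6 F342991) (iv2 F342996)
theorem E101743 : n164340 = n151322 := (c20_10 (iv4 F238042) F355078 (iv4 D121318) D121317 F355077 F178808 F314435 (iv1 F163052) F321128 D164340 (iv1 D151322))
theorem F355081 : act 3 n151322 = n78929 := (sb E101743 (iv3 D164340))
theorem F355082 : act 7 n135274 = n127051 := d13_2 F354973 (iv5 F354971) F337860
theorem E101744 : n164307 = n162570 := ((c15_2 F256812 F256818 F354973 (iv2 F354969))).symm
theorem F355083 : act 2 n162570 = n86328 := (sb E101744 F354972)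
theorem F355084 : act 3 n162570 = n78920 := (sb E101744 (iv3 D164307))
theorem F355085 : act 5 n162570 = n127051 := (sb E101744 (iv5 F337860))
theorem F355086 : act 7 n162570 = n86329 := (sb E101744 F354973)
theorem F355087 : act 2 n127051 = n180739 := d2_1 F355085 (iv5 D180739) (iv2 F355083)
theorem E101745 : n180737 = n145734 := ((c0_4 F355084 (iv2 F337850) F346129 (iv2 F228839) (iv3 D180737) (iv2 F355083))).symm
theorem F355088 : act 3 n145734 = n86328 := (sb E101745 (iv3 D180737))
theorem E101746 : n180738 = n145741 := (c5_3 (iv4 F228840) F355088 D180738 F228858 F104509 (iv3 F104505))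
theorem F355089 : act 4 n145741 = n86328 := (sb E101746 (iv4 D180738))
theorem E101747 : n180740 = n145733 := (c7_3 D145734 F355088 D180740 (iv3 D145733))
theorem F355090 : act 6 n145733 = n86328 := (sb E101747 (iv6 D180740))
theorem F355091 : act 6 n162571 = n181803 := d14_3 (iv7 F228838) F355090 (iv7 F354970) F282977 (iv6 D147155)
theorem E101748 : n174142 = n147449 := ((c21_7 F57523 F29419 D18890 D39950 D86328 (iv6 F355090) (iv5 F231234) (iv1 D174142) F298819 (iv6 D77049) (iv1 F57521))).symm
theorem F355092 : act 0 n147449 = n83246 := (sb E101748 (iv1 D174142))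
theorem F355093 : act 2 n147154 = n174141 := d15_3 (iv0 D174141) (iv0 F355092) F231235
theorem F355094 : act 4 n174141 = n108739 := d1_2 F230741 F355093 (iv2 F231238)
theorem F355095 : act 5 n174141 = n147153 := d2_2 D147154 F355093 (iv2 D147153)
theorem F355096 : act 7 n174141 = n160745 := d4_2 F231235 F355093 F353655
theorem F355097 : act 1 n160747 = n174141 := d15_1 F353595 F355096 F353655
theorem F355098 : act 2 n181803 = n180745 := d3_1 F355091 (iv6 D180745) (iv2 F354969)
theorem F355099 : act 4 n180745 = n181800 := d1_2 D181803 F355098 F282970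
theorem F355100 : act 6 n181800 = n170733 := d10_2 D180745 F355099 F354967
theorem F355101 : act 2 n170733 = n181804 := d3_1 F355100 (iv6 D181804) (iv2 F282970)
theorem F355102 : act 0 n125098 = n153800 := d20_4 F317158 (iv1 F104997) (iv4 F92374) (iv3 F200969) F241655 F119238 D86328 (iv4 F355089) F228858 (iv1 F317157)
theorem F355103 : act 4 n153801 = n154598 := d20_2 F241656 D153801 (iv3 D154598) (iv1 F231517) (iv3 F347827) F317158 (iv1 F104997) (iv4 F92374) (iv3 F200969) F355102
theorem F355104 : act 3 n119572 = n153801 := d5_5 F355103 (iv3 D154598) (iv4 D73282) (iv3 F190154) D119572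
theorem F355105 : act 6 n127051 = n135353 := d14_1 F355082 (iv7 D135353) (iv6 D63625) (iv7 F98944) D135274
theorem E101749 : n146172 = n114071 := ((c14_1 F354966 (iv6 D146172) (iv7 F330329) (iv6 D135253) F98906 D107716)).symm
theorem F355106 : act 6 n114071 = n68543 := (sb E101749 (iv6 D146172))
theorem F355107 : act 6 n146170 = n162537 := d7_2 F355106 D146170 (iv3 F354962)
theorem F355108 : act 5 n179229 = n114071 := d12_5 F355106 F181775 D142529 F330654 D179229
theorem F355109 : act 2 n162578 = n146170 := d3_3 F355107 F354963 D162578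
theorem E101750 : n167583 = n142528 := ((c21_7 F57517 F29465 D35599 D78047 D162537 (iv6 F355107) F229440 (iv1 D167583) (iv5 D80426) (iv6 D36653) D36651)).symm
theorem F355110 : act 0 n142528 = n80426 := (sb E101750 (iv1 D167583))
theorem F355111 : act 4 n148842 = n144827 := d20_6 F227367 F225026 F102666 D142528 F355110 (iv3 F233858) (iv1 F316214) (iv4 F350789) (iv3 D144554) (iv1 F227365)
theorem E101751 : n167584 = n159880 := (c20_1 D167584 (iv1 F252109) F229857 F229411 (iv1 F228857) (iv3 F227369) F227367 F225026 F102666 D142528 F355110)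
theorem F355112 : act 2 n159880 = n146550 := (sb E101751 (iv2 F347972))
theorem F355113 : act 4 n159880 = n80426 := (sb E101751 (iv4 D167584))
theorem F355114 : act 6 n159880 = n80436 := (sb E101751 F263838)
theorem F355115 : act 7 n159880 = n146549 := (sb E101751 (iv7 F347974))
theorem F355116 : act 2 n146549 = n159881 := d15_3 F252114 F252109 F355115
theorem F355117 : act 7 n146550 = n159881 := d4_2 (iv7 F355115) F355112 (iv2 F355116)
theorem F355118 : act 5 n186263 = n150316 := d21_2 F326299 D186263 F236566 D159880 F355114 (iv5 F316622) (iv1 D61314) (iv5 F316623) D83973 D175978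
theorem F355119 : act 3 n131286 = n186263 := d6_3 F355118 (iv3 D150316) (iv5 F335871)
theorem F355120 : act 4 n158070 = n186263 := d20_8 (iv4 D76400) (iv1 F76751) D105415 (iv3 F341604) F178921 F293788 (iv4 F112891) D158070 (iv3 F355119) F210413
theorem F355121 : act 3 n106726 = n158070 := d5_5 F355120 (iv3 F355119) (iv4 D131286) F96171 D106726
theorem F355122 : act 4 n116431 = n157575 := d1_2 F355111 (iv2 F318117) F248336
theorem E101752 : n148841 = n147460 := ((c17_2 D69122 D147460 (iv1 D148841) D148842 F355111 (iv5 F311293) F311292 (iv5 D69129) (iv0 D32158) (iv4 F51124))).symm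
theorem F355123 : act 0 n147460 = n69764 := (sb E101752 (iv1 D148841))
theorem F355124 : act 1 n147460 = n157576 := (sb E101752 F248341)
theorem F355125 : act 4 n116411 = n146749 := d18_7 (iv1 F350788) (iv4 F350782) (iv1 D153283) F108921 D148842 F355111 (iv0 F318123) F230099 F319427
theorem F355126 : act 6 n146749 = n146998 := d10_2 (iv6 F318124) F355125 (iv4 D146998)
theorem F355127 : act 5 n146749 = n117300 := d17_5 (iv1 F242921) (iv5 F105432) F320109 D116411 F355125 (iv0 F316676) F231401 (iv0 F243369) (iv4 D117712)
theorem F355128 : act 0 n179994 = n146644 := d20_10 F229937 (iv1 F230099) (iv4 F355125) F181575 F318481 F130579 D85326 (iv1 F317751) F317752 D179994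
theorem F355129 : act 5 n146644 = n140917 := d21_2 (iv5 F280370) F355128 (iv6 D140917) (iv1 F223898) F320771 (iv5 F110878) (iv1 F110882) F79155 D60357 D128380
theorem F355130 : act 6 n146644 = n150855 := d21_5 D147760 F231503 (iv5 F308488) (iv6 F310600) F355128 (iv5 D150855) F317006 (iv5 F324398) (iv6 F335050) (iv1 F231482)
theorem E101753 : n148868 = n141548 := (c15_2 (iv0 F355128) (iv0 F280374) F324053 D146644)
theorem F355131 : act 0 n141548 = n179994 := (sb E101753 F280374)
theorem F355132 : act 5 n141548 = n177292 := (sb E101753 (iv5 F330086))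
theorem F355133 : act 6 n141548 = n69780 := (sb E101753 (iv6 D148868))
theorem E101754 : n177292 = n138358 := ((c12_5 F355133 (iv5 F205842) F205843 (iv5 F312967) D138358 (iv5 F355132))).symm
theorem F355134 : act 0 n138358 = n84464 := (sb E101754 (iv1 D177292))
theorem F355135 : act 1 n138358 = n179637 := (sb E101754 F330085)
theorem F355136 : act 5 n138358 = n141548 := (sb E101754 (iv5 F355132))
theorem F355137 : act 6 n124541 = n148839 := d21_3 (iv5 D81725) (iv1 F125638) (iv5 F199206) (iv1 F233856) (iv6 F355133) (iv5 F355136) F355134 (iv5 F313262) F313263 F125645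
theorem F355138 : act 0 n166282 = n170481 := d21_4 (iv5 F205842) (iv1 D79850) D79851 (iv6 F261824) F267928 (iv5 D81725) (iv1 F125638) (iv5 F199206) F355137 (iv1 F233856)
theorem F355139 : act 1 n166282 = n140786 := d15_1 (iv0 F355138) (iv7 F350199) (iv2 F267927)
theorem F355140 : act 6 n147186 = n140796 := d21_5 (iv5 D166282) (iv1 F253058) F253055 (iv6 F315638) F315635 (iv5 D140796) (iv1 D66063) D66064 (iv6 F223872) (iv1 F355139)
theorem F355141 : act 4 n140796 = n147188 := d10_1 F355140 (iv6 D147188) D147186
theorem F355142 : act 3 n147188 = n178182 := d20_3 F334042 (iv1 F345648) F355141 F352062 F323415 (iv4 D85005) (iv1 D39311) D39312 D85010 F334036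
theorem F355143 : act 5 n178180 = n147188 := d6_0 F355142 (iv5 D178182) D178180
theorem F355144 : act 2 n128342 = n138358 := d15_3 F355135 (iv0 F341034) F348842
theorem E101755 : n179635 = n128342 := ((c15_4 (iv0 D179635) (iv0 F348849) F348848 (iv2 F355144))).symm
theorem F355145 : act 1 n128342 = n85779 := (sb E101755 (iv0 D179635))
theorem F355146 : act 1 n145381 = n147506 := d18_6 (iv1 F316214) (iv4 F350789) (iv1 F227417) (iv4 F229937) F355129 (iv4 F348827) (iv4 D147506) (iv0 F311291) F311293
theorem F355147 : act 2 n117300 = n146751 := d2_1 F355127 (iv5 D146751) D146749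
theorem F355148 : act 7 n117300 = n146755 := d13_2 (iv7 F230098) F355127 (iv5 D146755)
theorem F355149 : act 6 n123717 = n117300 := d21_5 F90819 (iv1 F52663) D72367 D153244 F354074 (iv5 F355127) (iv1 F230100) (iv5 F112657) F310230 F94614
theorem F355150 : act 4 n117300 = n123719 := d10_1 F355149 (iv6 D123719) D123717
theorem F355151 : act 3 n102043 = n123719 := d20_5 F183519 F104041 F328457 (iv3 F329747) (iv1 F156985) (iv4 F355150) (iv1 D117300) (iv4 F329321) F329320 D117274
theorem F355152 : act 6 n123716 = n102043 := d7_0 F355151 (iv6 D123719) D123716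
theorem F355153 : act 0 n95648 = n123716 := d21_4 (iv5 D73045) (iv1 F90779) F90810 D95648 F355152 (iv5 F352818) (iv1 F352821) F153531 (iv6 D89301) (iv1 F306309)
theorem E101756 : n179117 = n125051 := (c21_7 D69239 F335061 (iv5 F321714) F230073 (iv1 F230099) F355126 F350208 (iv1 D125051) (iv5 F192172) F337747 (iv1 D69238))
theorem F355154 : act 2 n125051 = n85470 := (sb E101756 (iv2 D179117))
theorem F355155 : act 5 n125051 = n146998 := (sb E101756 (iv5 F350208))
theorem F355156 : act 7 n125051 = n85471 := (sb E101756 (iv7 F279073))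
theorem F355157 : act 6 n170483 = n159004 := d21_5 (iv5 F112657) (iv1 F350729) (iv5 D147504) D147505 (iv1 F341975) F250340 (iv1 F200891) F355155 (iv6 F355126) (iv1 F230100)
theorem F355158 : act 0 n159004 = n178936 := d21_10 (iv5 D178936) (iv1 D85315) (iv5 F113840) F322505 F94349 D68742 (iv5 F333914) F341751 F341958 F355157
theorem F355159 : act 6 n178936 = n146995 := d21_5 (iv5 F333914) F341751 F341958 F355157 F355158 (iv5 F240688) (iv1 F240690) D175171 F354070 F312109
theorem F355160 : act 2 n146986 = n178936 := d3_3 F355159 (iv2 D146995) (iv6 F230380)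
theorem F355161 : act 3 n175374 = n178936 := d7_3 F355159 F230400 F334546
theorem F355162 : act 4 n147035 = n178936 := d10_3 F355159 F230401 (iv6 F230496)
theorem E101757 : n178937 = n103197 := ((c12_4 F355159 (iv5 F240688) (iv6 F343378) F334511 (iv6 D178937) D178936)).symm
theorem F355163 : act 6 n103197 = n85315 := (sb E101757 (iv6 D178937))
theorem F355164 : act 7 n159003 = n178936 := d14_0 F355159 F305625 D147582 F334536 (iv6 F354243)
theorem F355165 : act 5 n147001 = n125005 := d21_0 (iv1 F200790) D178936 F355159 (iv1 F305677) (iv6 F311880) (iv5 F106139) F230103 (iv5 D146751) (iv6 F323538) D147001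
theorem F355166 : act 0 n178936 = n120602 := d21_4 (iv5 D153242) D153241 F240688 (iv6 F355159) F337747 F337740 D121698 F337738 F192396 (iv1 F240695)
theorem E101758 : n125050 = n103224 := (c21_2 F192172 D125050 F336315 (iv6 F190181) (iv1 F231510) (iv6 F354067) (iv5 D153242) D153241 F240688 (iv6 F355159) F355166)
theorem F355167 : act 0 n103224 = n85472 := (sb E101758 (iv1 F200887))
theorem F355168 : act 1 n103224 = n58465 := (sb E101758 (iv0 D125050))
theorem F355169 : act 0 n96131 = n133362 := d17_2 (iv1 F331335) F158316 (iv5 D133362) (iv4 F323801) (iv5 F323954) F230426 (iv5 F336315) F355168 (iv4 F316045)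
theorem E101759 : n103212 = n52208 := (c20_4 F316045 (iv1 F355168) F158474 (iv3 F158459) (iv1 D52208) (iv3 D25357) (iv4 D12043) D12042 (iv4 F39991) D52147 D112974)
theorem E101760 : n113111 = n47837 := ((D113111).symm.trans (sb E101759 F158459))
theorem E101761 : n113114 = n47832 := ((D113114).symm.trans (sb E101759 (iv6 D103212)))
theorem F355170 : act 3 n47837 = n52208 := (sb E101760 (iv3 D113111))
theorem F355171 : act 6 n47832 = n52208 := (sb E101761 (iv6 D113114))
theorem F355172 : act 4 n103225 = n179247 := d20_2 F158474 D103225 (iv3 D179247) (iv1 F351394) F60393 F29967 (iv1 F22062) D27819 D58465 (iv1 F355168)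
theorem F355173 : act 6 n103255 = n162957 := d21_9 (iv5 D166646) (iv1 F338321) D84583 (iv6 F316255) (iv1 F355168) (iv6 D103224) F329899 F329794 (iv5 F293906) (iv1 F341638)
theorem F355174 : act 0 n178938 = n163343 := d21_4 F336315 (iv1 F230426) F323954 D178938 (iv6 F262275) (iv5 D166646) (iv1 F338321) D84583 (iv6 F316255) (iv1 F355168)
theorem F355175 : act 5 n147382 = n178938 := d17_1 F336555 F355174 (iv5 D163343) (iv4 F353514) F222812 (iv0 D136280) (iv5 D64070) D64068 D136276
theorem E101762 : n128289 = n120022 := ((c21_4 (iv5 F294744) F329029 (iv5 F87398) D120022 (iv1 D128289) D128291 F341634 (iv1 F193007) D162957 (iv6 F355173) (iv1 F158499))).symm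
theorem F355176 : act 0 n120022 = n60309 := (sb E101762 (iv1 D128289))
theorem F355177 : act 1 n120022 = n60329 := (sb E101762 F206412)
theorem F355178 : act 0 n126786 = n103268 := d21_4 (iv5 D60309) D60306 D128282 F354109 (iv6 D103268) (iv5 F294744) F329029 (iv5 F87398) D120022 F355176
theorem F355179 : act 7 n179277 = n103225 := d11_0 F355172 F279171 D179277
theorem F355180 : act 6 n113110 = n103207 := d3_2 F355171 (iv2 F176229) F158456
theorem F355181 : act 6 n113112 = n103211 := d10_2 F355171 D113112 (iv4 D103211)
theorem F355182 : act 6 n113113 = n95538 := d12_2 F355171 D113113 F147170 (iv6 D47833) D47832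
theorem F355183 : act 3 n95540 = n113113 := d7_3 F355182 (iv3 D95538) D95540
theorem E101763 : n142464 = n114423 := (c21_6 (iv5 D97087) (iv1 F157622) (iv5 F306977) (iv6 D67549) (iv1 F181802) D142464 F178457 (iv1 F176227) D113113 F355182 F157797)
theorem F355184 : act 6 n114423 = n66798 := (sb E101763 (iv6 D142464))
theorem E101764 : n116490 = n114417 := (c3_2 F355184 (iv2 F181799) F178448 D114423)
theorem F355185 : act 0 n114417 = n53927 := (sb E101764 F181801)
theorem F355186 : act 1 n114417 = n67544 := (sb E101764 F181803)
theorem F355187 : act 2 n114417 = n66798 := (sb E101764 F181799)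
theorem E101765 : n151667 = n114210 := (((iv4 F238519)).symm.trans (sb E101764 F352138))
theorem F355188 : act 5 n114417 = n53687 := (sb E101764 (iv5 D116490))
theorem F355189 : act 7 n114417 = n66801 := (sb E101764 F181800)
theorem F355190 : act 3 n114210 = n71475 := (sb E101765 (iv3 D151667))
theorem F355191 : act 4 n114210 = n114417 := (sb E101765 F238519)
theorem F355192 : act 6 n114210 = n71488 := (sb E101765 F238520)
theorem F355193 : act 6 n142463 = n151703 := d10_2 F355184 D142463 F238579
theorem F355194 : act 6 n142467 = n113104 := d12_4 F355184 (iv5 D66798) D66799 D142467 (iv5 F178457)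
theorem F355195 : act 2 n113122 = n142467 := d3_3 F355194 (iv2 F176224) D113122
theorem F355196 : act 0 n113113 = n131124 := d21_1 D113113 F210012 F344602 F93109 D111983 F346861 F347186 D142467 F355194 (iv1 F176227)
theorem E101766 : n136287 = n103210 := (c21_4 (iv5 D51646) (iv1 F81527) (iv5 F99668) D136287 (iv1 D103210) F355171 D113113 F355196 F210012 F344602 F93109)
theorem F355197 : act 2 n103210 = n125663 := (sb E101766 F219348)
theorem F355198 : act 6 n103210 = n64072 := (sb E101766 (iv6 D136287))
theorem F355199 : act 5 n116491 = n113122 := d2_0 F355195 (iv5 D142467) (iv2 F181804)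
theorem F355200 : act 3 n113126 = n116491 := d6_3 F355199 F176237 D113126
theorem F355201 : act 0 n120135 = n151703 := d21_4 F175861 (iv1 F87476) D55283 D120135 (iv6 F355193) F330338 (iv1 D114195) (iv5 F175867) (iv6 D112925) D112924
theorem F355202 : act 1 n120135 = n113120 := d15_1 (iv0 F355201) F176235 D151703
theorem F355203 : act 6 n120124 = n151702 := d21_3 F94244 (iv1 F87486) (iv5 F189737) (iv1 D151702) (iv6 F355192) (iv5 D114210) (iv1 D52716) (iv5 F82404) (iv6 D52129) D52126
theorem F355204 : act 2 n151702 = n120135 := d3_1 F355203 (iv6 D120135) (iv2 F189736)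
theorem F355205 : act 5 n151665 = n143212 := d19_5 (iv1 F84700) (iv5 F355188) (iv4 F355191) F355190 D151665 (iv4 D143212) (iv3 F314487) F131038 F131175 (iv4 F239938) (iv3 F336246) (iv1 F182531) (iv5 D115400) (iv4 F165766) (iv3 D107446) (iv1 F78396) (iv5 F80767) (iv4 F102644) (iv3 D66788)
theorem F355206 : act 4 n144940 = n151665 := d16_4 (iv4 F220380) (iv5 F329161) F183937 D144940 F355205 (iv4 D143212) F312194 (iv7 F314472) F224047
theorem F355207 : act 0 n166280 = n147984 := d21_4 (iv5 F335871) F210413 (iv5 F312177) F307830 (iv6 D147984) (iv5 F334835) D151665 F355205 F226046 F312192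
theorem F355208 : act 5 n117415 = n166289 := d18_9 (iv1 D166289) (iv4 F261818) F355207 (iv4 F231814) (iv5 D146100) (iv4 F319863) F319864 F317659 F183909
theorem E101767 : n147857 = n147764 := ((c20_2 F310998 D147764 (iv4 D147857) (iv3 F242952) F312719 D79852 (iv4 F261818) F355207 (iv4 F231814) F317777 (iv1 F199192))).symm
theorem F355209 : act 4 n147764 = n69279 := (sb E101767 (iv4 D147857))
theorem F355210 : act 3 n154987 = n147764 := d5_5 F355209 (iv3 F242952) (iv4 F313159) D73530 D154987
theorem F355211 : act 6 n169805 = n147764 := d10_0 F355209 F312384 D169805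
theorem F355212 : act 0 n154987 = n175455 := d20_4 F105539 D69279 (iv4 F355209) (iv3 F355210) F274706 (iv4 F336438) (iv1 D124663) D124664 F350714 F243360
theorem F355213 : act 2 n152204 = n175455 := d15_3 (iv0 F355212) (iv0 F346281) F346280
theorem F355214 : act 2 n166289 = n117879 := d2_1 F355208 F232923 (iv2 F247810)
theorem F355215 : act 3 n166289 = n139133 := d6_1 F355208 F339612 (iv3 F247775)
theorem F355216 : act 6 n166289 = n148035 := d12_2 (iv6 F314938) F355208 F337184 F305997 D87666
theorem F355217 : act 7 n166289 = n117880 := d13_2 (iv7 F243237) F355208 F250242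
theorem E101768 : n146600 = n106055 := ((c21_9 (iv5 F232244) F315987 (iv5 F355208) F314938 (iv1 F153359) (iv6 F342597) (iv5 F337030) (iv1 F162848) D106055 (iv6 D146600) D146597)).symm
theorem F355218 : act 6 n106055 = n68706 := (sb E101768 (iv6 D146600))
theorem F355219 : act 3 n114736 = n106055 := d7_3 F355218 (iv3 F315424) (iv6 F178843)
theorem F355220 : act 7 n146366 = n106055 := d14_0 F355218 (iv7 F247771) (iv6 F317209) (iv7 F162470) D146366
theorem F355221 : act 0 n106055 = n105829 := d21_10 F340865 (iv1 D160037) F114918 (iv6 D68681) (iv1 F50316) (iv6 F50322) (iv5 D31969) D31967 D68706 (iv6 F355218)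
theorem F355222 : act 1 n106036 = n105829 := d15_0 (iv0 F355221) (iv7 F355220) F342596
theorem F355223 : act 5 n133818 = n117653 := d18_4 (iv1 D160037) (iv4 F309925) (iv1 F191363) (iv4 F309512) (iv4 D117653) (iv0 F232272) F340857 F355222 F340865
theorem F355224 : act 3 n151669 = n142473 := d8_3 (iv7 F352137) F355190 D151669
theorem F355225 : act 7 n142474 = n113121 := d14_2 F355189 D142474 (iv6 D113121) (iv7 F83401) (iv6 F178448)
theorem F355226 : act 3 n113125 = n142474 := d8_3 F355225 F176236 D113125
theorem F355227 : act 1 n151622 = n117011 := d18_6 (iv1 D53687) (iv4 D25984) D25981 D53675 D116457 (iv4 F346406) (iv4 D117011) (iv0 F355185) F355188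
theorem E101769 : n116493 = n110756 := (c21_4 F355188 (iv1 D53687) D53688 D116493 (iv1 F175869) F336411 (iv5 D95735) F157624 D44788 F308760 (iv1 F355186))
theorem F355228 : act 3 n110756 = n59664 := (sb E101769 F181807)
theorem F355229 : act 6 n110756 = n53688 := (sb E101769 (iv6 D116493))
theorem F355230 : act 3 n127111 = n176359 := d6_3 F346718 F355228 D127111
theorem E101770 : n150003 = n127109 := ((c19_5 F54250 (iv5 F80527) D110756 F355228 D127109 (iv5 D150003) F107033 F328470 (iv1 D53160) (iv5 D25783) (iv4 D12242) F8924 D11303 (iv5 F36897) F36896 F18190 (iv1 F18031) (iv5 F10919) (iv4 F23554) (iv3 F47687))).symm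
theorem F355231 : act 2 n127109 = n164623 := (sb E101770 (iv2 F259566))
theorem F355232 : act 5 n127109 = n70566 := (sb E101770 (iv5 D150003))
theorem F355233 : act 6 n127109 = n97155 := (sb E101770 F235982)
theorem F355234 : act 7 n127110 = n164623 := d15_2 (iv0 D127109) D127110 (iv2 F355231)
theorem F355235 : act 5 n164624 = n127110 := d13_3 F355234 (iv5 D164623) D164624
theorem F355236 : act 5 n176362 = n113609 := d17_5 F342956 F355235 (iv1 D127110) D127111 F346743 F176940 (iv5 F177942) F177949 (iv4 F261858)
theorem E101771 : n128773 = n113609 := ((c6_1 F355236 (iv3 F207034) F316621 D176362)).symm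
theorem F355237 : act 2 n113609 = n113712 := (sb E101771 F347577)
theorem F355238 : act 3 n113609 = n61313 := (sb E101771 (iv3 F207034))
theorem F355239 : act 4 n113609 = n60563 := (sb E101771 (iv4 D128773))
theorem F355240 : act 7 n113609 = n113711 := (sb E101771 (iv7 F332633))
theorem F355241 : act 5 n113711 = n175822 := d13_3 (iv7 F275657) F355236 F355240
theorem F355242 : act 2 n176362 = n159452 := d2_1 (iv5 F355236) F251089 (iv2 F355237)
theorem F355243 : act 3 n159452 = n144943 := d0_2 D176362 F355242 (iv2 F229138) F335158 (iv2 F129071)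
theorem F355244 : act 6 n144943 = n159450 := d7_2 D159452 F355243 (iv3 D159450)
theorem E101772 : n128874 = n128778 := ((c17_3 (iv1 D60563) D60565 D128778 (iv5 D128874) D128873 F342932 (iv0 D76319) (iv5 F82802) D113609 F355239)).symm
theorem F355245 : act 5 n128778 = n60611 := (sb E101772 (iv5 D128874))
theorem F355246 : act 3 n113105 = n103227 := d8_3 (iv7 D103227) F355170 F176228
theorem F355247 : act 1 n106736 = n96040 := d17_8 F355169 (iv5 D133362) (iv1 D62592) D62594 D133368 F335864 F230920 (iv5 F164517) (iv4 F147782)
theorem F355248 : act 5 n112974 = n130572 := d17_5 (iv1 F200790) D178936 F355166 F192172 (iv4 F316045) (iv0 D130572) (iv5 D61261) D61259 (iv4 F323572)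
theorem F355249 : act 0 n134275 = n123089 := d20_1 F352319 (iv4 F334547) F355161 F355166 (iv3 D120602) (iv4 D55538) (iv1 F60520) (iv4 F130591) (iv3 F278782) (iv1 F352320)
theorem F355250 : act 4 n129468 = n120476 := d19_6 F355249 F338487 (iv4 F211853) (iv3 D132226) (iv1 F96668) D129468 F191915 F301829 (iv5 D39685) (iv4 D18781) F297061 (iv1 F59571) (iv5 D18265) D18264 D38231 D83067 D173694 (iv4 F349799) F349805
theorem F355251 : act 2 n120476 = n129472 := d1_1 F355250 (iv4 D129472) (iv2 F207629)
theorem F355252 : act 4 n149090 = n132233 := d20_6 (iv4 F329260) (iv1 F329571) (iv4 D120543) (iv3 F192028) F305538 (iv3 F234477) (iv1 F211873) F355250 F191915 F301829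
theorem F355253 : act 4 n129471 = n182024 := d1_2 F355252 (iv2 F212267) F283406
theorem F355254 : act 6 n182025 = n129471 := d10_0 F355253 F283408 D182025
theorem F355255 : act 5 n129472 = n120475 := d2_2 D120476 F355251 (iv2 D120475)
theorem F355256 : act 5 n149798 = n132324 := d16_3 D129472 F355255 (iv4 F235638) (iv4 D132324) (iv5 D62080) (iv4 F96670) D132231 F211866 F207629
theorem F355257 : act 0 n107934 = n120475 := d19_0 (iv5 F355255) (iv4 D129472) F95399 (iv1 F48596) (iv5 D30210) (iv4 D14339) F11105 D11311 (iv5 F19989) F19988 F10493 F4439 F7942 (iv4 F10700) (iv3 F23159) (iv1 F54047) (iv5 F52274) D49854 D107934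
theorem F355258 : act 1 n107934 = n120313 := d15_1 (iv0 F355257) F191582 D120475
theorem F355259 : act 6 n155720 = n149798 := d12_0 F355256 F212239 F318410 (iv6 F318411) D155720
theorem F355260 : act 5 n148696 = n145929 := d19_13 D149798 F355256 (iv4 D132324) F313821 (iv1 F155376) (iv5 F316283) D62271 (iv3 F203586) (iv1 F203588) F333202 (iv4 D69705) (iv3 F106040) D148696 (iv4 D145929) F199807 (iv1 D31859) (iv5 F26490) (iv4 F51755) (iv3 F106866)
theorem E101773 : n148696 = n133437 := ((c2_4 F355260 F229141 (iv5 F322394) D133437)).symm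
theorem E101774 : n130640 = n69685 := ((F214561).symm.trans (sb E101773 (iv0 D148696)))
theorem F355261 : act 5 n133437 = n145929 := (sb E101773 F355260)
theorem F355262 : act 0 n69685 = n133437 := (sb E101774 (iv1 F214561))
theorem E101775 : n148697 = n61298 := ((D148697).symm.trans (sb E101774 (iv0 D130640)))
theorem F355263 : act 0 n61298 = n69685 := (sb E101775 (iv1 D148697))
theorem E101776 : n146868 = n129451 := (c17_8 F355263 (iv5 D69685) D69683 (iv5 F325785) (iv4 F99073) (iv5 F99711) D136344 (iv5 F347622) (iv0 D129451) (iv4 F95783))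
theorem F355264 : act 2 n129451 = n132222 := (sb E101776 (iv2 F347373))
theorem F355265 : act 4 n129451 = n68851 := (sb E101776 F230258)
theorem F355266 : act 5 n129451 = n136344 := (sb E101776 F347622)
theorem F355267 : act 6 n129451 = n68850 := (sb E101776 (iv6 D146868))
theorem F355268 : act 7 n129451 = n132221 := (sb E101776 (iv7 F347375))
theorem F355269 : act 0 n148698 = n129517 := d20_1 D148698 (iv4 F209253) (iv3 D130682) (iv1 D61314) (iv3 D29027) (iv4 D13814) D13812 D29021 D61298 F355263
theorem F355270 : act 6 n114539 = n125201 := d21_5 (iv5 D12197) D12193 D25658 D52869 D114539 F322396 F355263 (iv5 D69685) (iv6 D32345) (iv1 F40568)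
theorem F355271 : act 7 n130641 = n133436 := d15_2 (iv0 F355263) D130641 F338612
theorem E101777 : n159790 = n144936 := (c18_2 F338622 (iv4 F251802) (iv1 F233087) (iv4 F229135) F347377 F209253 (iv0 F355269) (iv4 D148698) (iv0 F355263) (iv5 F322396))
theorem F355272 : act 4 n144936 = n76461 := (sb E101777 F251802)
theorem F355273 : act 6 n144936 = n76459 := (sb E101777 (iv6 D159790))
theorem E101778 : n159793 = n145929 := (c18_3 (iv1 F252134) F355272 D159793 (iv4 D145929) F155147 (iv4 F131802) F305159 (iv4 F197753) F306460 F279814)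
theorem F355274 : act 1 n145929 = n76461 := (sb E101778 (iv0 D159793))
theorem F355275 : act 4 n115094 = n145927 := d18_3 D115137 (iv4 F208174) (iv1 F208178) (iv5 D145927) F104610 D68425 D145929 F355274 F328238
theorem F355276 : act 0 n145921 = n114947 := d20_4 (iv4 D145929) (iv1 D68425) (iv4 F104610) (iv3 F229115) F179024 F83752 (iv1 F161886) F136443 (iv3 F114607) (iv1 F355274)
theorem F355277 : act 6 n133437 = n135787 := d21_3 (iv5 F328238) (iv1 F355274) (iv5 F355261) (iv1 D135787) (iv6 D63847) (iv5 D30121) (iv1 F23886) (iv5 F48303) (iv6 F40717) D53128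
theorem F355278 : act 5 n130641 = n148681 := d21_2 (iv5 F355261) (iv1 F214563) F233437 (iv1 F178658) D120113 (iv5 F339763) (iv1 D159792) (iv5 D76460) D76461 (iv1 F355274)
theorem F355279 : act 2 n133435 = n130641 := d2_3 F355278 F233436 (iv5 F335153)
theorem F355280 : act 3 n146444 = n130641 := d6_3 F355278 (iv3 F251437) F251438
theorem F355281 : act 5 n136343 = n129452 := d17_7 (iv1 F214563) F355278 (iv1 F233438) (iv5 F323270) (iv4 F95526) (iv5 F100038) F219427 F211848 (iv4 F214559)
theorem F355282 : act 4 n129454 = n150129 := d17_4 D136343 F355281 (iv1 D129452) D129454 (iv5 F236296) F305159 D123382 F306464 (iv4 F321113)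
theorem F355283 : act 6 n129454 = n129846 := d21_3 F355281 (iv1 D129452) D129454 (iv1 D129846) (iv6 D60988) (iv5 D28914) (iv1 F23953) D30210 D64100 D136343
theorem F355284 : act 3 n129846 = n129456 := d7_1 F355283 (iv6 D129456) (iv3 F207623)
theorem F355285 : act 2 n179862 = n129454 := d1_3 F355282 F236297 D179862
theorem F355286 : act 3 n150129 = n124081 := d5_1 F355282 (iv4 F337461) F219485 F99795 (iv3 F207623)
theorem F355287 : act 5 n132223 = n124148 := d9_8 D129454 F355282 (iv5 F236296) F131802 (iv5 F155147) D145929 (iv5 F355261) F214559 (iv4 D124148) (iv5 D57856) F301732 D58557 D125201 F322396 F95783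
theorem F355288 : act 7 n150129 = n124144 := d11_2 F208197 F355282 F335149
theorem F355289 : act 7 n124148 = n179862 := d16_8 F355282 (iv5 F236296) F131802 (iv5 F155147) D145929 (iv5 F355261) F214559 F355287 F355285
theorem F355290 : act 2 n129843 = n124148 := d4_3 F355289 F355285 (iv7 F208197)
theorem F355291 : act 1 n150131 = n124144 := d15_1 F236301 (iv7 F355288) F236297
theorem F355292 : act 3 n159920 = n115162 := d20_5 F95783 D129451 F355265 (iv3 F114795) D159920 (iv4 F339422) (iv1 F339423) (iv4 F333169) F355280 (iv1 D130641)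
theorem F355293 : act 6 n146394 = n159920 := d7_0 F355292 F339421 D146394
theorem F355294 : act 2 n135787 = n115495 := d3_1 F355277 F179794 D133437
theorem E101779 : n135786 = n130952 := (c15_2 F218369 F218374 F209561 (iv2 F355294))
theorem F355295 : act 0 n130952 = n135596 := (sb E101779 (iv1 F218374))
theorem F355296 : act 1 n130952 = n63847 := (sb E101779 (iv0 D135786))
theorem F355297 : act 2 n129819 = n115094 := d1_3 F355275 F229129 F347618
theorem F355298 : act 0 n145927 = n126611 := d20_1 F355275 F203659 F325151 D129866 (iv3 F208217) (iv4 D106835) D106833 (iv4 F212745) F212744 (iv1 F208178)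
theorem F355299 : act 3 n145927 = n134461 := d20_3 (iv4 F208174) (iv1 F208178) F355275 (iv1 F217439) (iv3 F332585) F332586 (iv1 F203432) F327782 (iv3 F327781) D115137
theorem F355300 : act 5 n134461 = n145921 := d6_2 D145927 F355299 F229115
theorem F355301 : act 7 n145921 = n90146 := d13_2 (iv7 F336949) F355300 (iv5 F143000)
theorem F355302 : act 1 n134597 = n123608 := d17_8 (iv1 F178095) F336953 D134461 F355300 (iv4 F230332) F336974 F171573 D134597 F198027
theorem F355303 : act 5 n134055 = n153955 := d16_1 F336945 F336932 F336942 F217436 (iv5 F336974) F230332 (iv5 F355300) F336949 F142999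
theorem E101780 : n134057 = n120115 := ((c6_2 F355303 (iv3 F336933) (iv5 D134057) D134055)).symm
theorem F355304 : act 5 n120115 = n62970 := (sb E101780 (iv5 D134057))
theorem F355305 : act 1 n114104 = n134597 := d18_8 (iv1 F171573) (iv4 F217436) (iv1 F336944) F336945 F355303 F336932 F336936 (iv4 F177706) (iv5 D134597)
theorem F355306 : act 4 n159623 = n134597 := d20_0 (iv1 F355305) F177706 (iv3 F86706) D119072 F347595 (iv4 F128958) (iv1 F298798) (iv4 F301466) D173672 F335032
theorem F355307 : act 0 n170400 = n134599 := d20_1 F347359 (iv4 D134599) (iv3 F216578) (iv1 F355305) (iv3 F347367) (iv4 F280342) F280339 F337006 F216364 D134361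
theorem F355308 : act 4 n120100 = n164344 := d20_0 (iv1 F259008) (iv4 F334455) (iv3 F334465) F355307 F335031 (iv4 D159624) (iv1 D76367) (iv4 F114479) F114478 D120100
theorem F355309 : act 3 n164344 = n175979 := d20_3 (iv4 F87466) D120100 F355308 (iv1 D175979) (iv3 F321111) (iv4 F166374) F325424 (iv4 F259277) F259276 (iv1 D55264)
theorem E101781 : n147891 = n120100 := ((c20_3 F178663 D164344 (iv4 F355308) F231672 (iv1 F313470) F226430 (iv4 F312726) (iv1 F85390) (iv4 F315576) (iv3 F229605) F317835)).symm
theorem F355310 : act 3 n120100 = n69292 := (sb E101781 F231672)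
theorem F355311 : act 5 n120100 = n143041 := (sb E101781 (iv5 F334982))
theorem F355312 : act 6 n120100 = n69289 := (sb E101781 (iv6 D147891))
theorem F355313 : act 6 n147889 = n164344 := d10_2 F355312 D147889 (iv4 F355308)
theorem F355314 : act 6 n93018 = n144976 := d14_5 (iv7 F278626) F355313 (iv7 F288208) (iv6 F291382) F291383
theorem F355315 : act 3 n144976 = n93023 := d7_1 F355314 F143468 (iv3 F143464)
theorem F355316 : act 6 n146313 = n175222 := d10_2 F355314 (iv4 F334437) (iv4 F339573)
theorem F355317 : act 5 n144976 = n93016 := d12_1 F355314 (iv6 D93016) (iv5 D43520) D43521 D93018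
theorem F355318 : act 5 n175222 = n133308 := d21_6 (iv5 D32087) F24755 D31923 D68612 D146313 F355316 (iv1 F335003) F210778 (iv6 D67934) (iv1 F51017)
theorem F355319 : act 0 n151992 = n133308 := d21_1 (iv5 F335216) (iv5 F355318) (iv6 F355316) (iv1 F314674) F314677 F230808 (iv1 F232346) D73315 (iv6 F233194) F315218
theorem F355320 : act 7 n170569 = n151991 := d15_2 (iv0 F355319) F337068 F248112
theorem F355321 : act 2 n175979 = n164209 := d0_1 F355309 F283775 (iv2 F288177) (iv3 F261861) F288205
theorem F355322 : act 7 n175979 = n102874 := d8_2 F288208 F355309 F291389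
theorem F355323 : act 5 n102875 = n175979 := d13_3 F355322 (iv5 D102874) D102875
theorem F355324 : act 4 n158071 = n186264 := d18_7 (iv1 D175979) F128959 D83974 (iv4 F324718) F293283 (iv4 F112891) D158071 F289018 F355323
theorem F355325 : act 1 n175979 = n114096 := d15_0 (iv0 F326296) F326301 (iv2 F355321)
theorem F355326 : act 7 n114096 = n173657 := d15_2 D175979 F355325 F272144
theorem F355327 : act 3 n173657 = n148459 := d8_1 F355326 F307835 (iv3 F177688)
theorem F355328 : act 1 n102874 = n173657 := d15_1 (iv0 F291388) (iv7 F355326) F177687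
theorem F355329 : act 1 n173657 = n164209 := d15_1 F355328 (iv7 F326301) F326297
theorem F355330 : act 4 n173658 = n94344 := d20_2 F272145 D173658 (iv3 F151793) (iv1 D76397) (iv3 F56640) (iv4 F120179) (iv1 F259106) (iv4 D164457) (iv3 F283775) (iv1 F355329)
theorem E101782 : n175982 = n173658 := (c1_4 F355330 (iv2 F161641) F324718 D175982)
theorem F355331 : act 2 n173658 = n83974 := (sb E101782 (iv2 D175982))
theorem F355332 : act 7 n173658 = n83975 := (sb E101782 (iv7 F275314))
theorem F355333 : act 7 n113132 = n175990 := d16_8 F176263 (iv5 F201871) (iv4 F346355) (iv5 F293637) F145476 D94344 (iv4 F355330) F334746 (iv2 F345562)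
theorem F355334 : act 5 n104367 = n159623 := d19_1 D104367 F355306 F216578 (iv1 F216523) F216524 (iv4 F327899) F327898 (iv1 F211858) (iv5 F217681) F319889 F351941 (iv1 D157440) F309903 (iv4 F309795) (iv3 F310642) F59133 D38719 F327291 (iv3 F75909)
theorem F355335 : act 0 n159623 = n159500 := d20_1 (iv4 F355306) F251177 (iv3 F335176) (iv1 D134314) F98400 (iv4 F53735) F329488 (iv4 F90771) (iv3 F198026) (iv1 F355302)
theorem F355336 : act 6 n175683 = n104367 := d21_5 (iv5 D25502) D25500 D52530 D113771 (iv1 F354895) F355334 F355335 F251178 (iv6 D113777) (iv1 D52536)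
theorem F355337 : act 3 n104367 = n135539 := d7_1 F355336 F349027 F354893
theorem E101783 : n134064 = n134054 := ((c2_2 F355304 D134054 (iv5 F355075) (iv2 F238456))).symm
theorem F355338 : act 0 n134054 = n62974 := (sb E101783 (iv1 F216072))
theorem F355339 : act 1 n134054 = n62972 := (sb E101783 (iv0 D134064))
theorem F355340 : act 5 n134054 = n151563 := (sb E101783 (iv5 F355075))
theorem F355341 : act 5 n134059 = n151568 := d13_3 F238462 F355304 D134059
theorem E101784 : n159682 = n134062 := (c2_2 F355341 (iv2 F251559) (iv5 D134062) (iv2 F216071))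
theorem F355342 : act 0 n134062 = n76596 := (sb E101784 (iv1 F251561))
theorem F355343 : act 1 n134062 = n151593 := (sb E101784 F251562)
theorem F355344 : act 2 n134062 = n151568 := (sb E101784 F251559)
theorem F355345 : act 4 n134062 = n76397 := (sb E101784 (iv4 D159682))
theorem F355346 : act 7 n134062 = n151563 := (sb E101784 F251560)
theorem E101785 : n134065 = n134059 := (c19_1 (iv1 F216073) F355341 (iv4 D151568) (iv3 F238443) (iv1 D35908) (iv5 F37994) (iv4 F78523) (iv3 F322878) D61953 F96550 (iv4 D49238) (iv3 F46330) (iv1 D28721) (iv5 D13693) (iv4 F10991) (iv3 D6737) (iv1 F10989) (iv5 F23654) (iv4 F47926) (iv3 F98266))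
theorem F355347 : act 0 n134059 = n62972 := (sb E101785 (iv1 D134065))
theorem F355348 : act 1 n134059 = n62974 := (sb E101785 F216073)
theorem F355349 : act 0 n154181 = n134541 := d20_4 F355345 (iv1 D76397) (iv4 F114531) (iv3 F242297) F216521 F352576 D170400 (iv4 F347359) (iv3 F347357) (iv1 F355343)
theorem F355350 : act 4 n134541 = n170409 := d20_8 (iv4 F334461) (iv1 F150025) (iv4 D45445) D45444 (iv1 F258977) (iv3 F259226) F259227 F355349 (iv3 D170409) (iv1 F332551)
theorem F355351 : act 0 n134542 = n89191 := d21_4 (iv5 F352504) F355349 (iv5 D134541) D134542 (iv6 D89191) F66311 D44873 (iv5 F70511) (iv6 F137103) F352508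
theorem F355352 : act 1 n134874 = n134797 := d17_6 (iv1 F216069) D134062 F355342 F328715 (iv4 F98688) D134874 (iv5 D134797) F216905 F216903
theorem F355353 : act 5 n151557 = n134791 := d18_4 F355342 F114871 D76597 (iv4 F253047) (iv4 D134791) (iv0 D63342) F48091 D62971 D134062
theorem F355354 : act 3 n90146 = n145928 := d8_1 F355301 (iv7 D145928) (iv3 F229115)
theorem F355355 : act 1 n92511 = n114947 := d15_0 (iv0 F355276) F355301 (iv2 F142437)
theorem F355356 : act 0 n130664 = n90146 := d20_4 F83923 D107674 F166302 (iv3 F209235) F355354 F229131 F155282 D86015 F320619 F97680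
theorem F355357 : act 0 n90446 = n130665 := d21_4 F142989 (iv1 F291073) F291075 D90446 (iv6 D130665) D130664 F355356 (iv5 F143000) (iv6 D92739) D92736
theorem F355358 : act 4 n126612 = n115138 := d18_3 F355298 F203659 D126612 F335155 (iv4 F252137) F252141 F233065 (iv0 D145925) D145927
theorem F355359 : act 2 n115140 = n126612 := d1_3 F355358 (iv2 D115138) D115140
theorem F355360 : act 7 n115145 = n126612 := d11_0 F355358 (iv7 F179297) D115145
theorem F355361 : act 3 n105483 = n126612 := d20_5 (iv4 D13776) F19433 D23785 D48771 D105483 F355358 F203440 (iv4 F95526) (iv3 D60979) (iv1 D28912)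
theorem F355362 : act 2 n115145 = n126613 := d15_3 F203660 F203662 (iv7 F355360)
theorem F355363 : act 4 n126613 = n115143 := d1_2 D115145 F355362 F179298
theorem F355364 : act 7 n126613 = n115140 := d4_2 (iv7 F355360) F355362 F355359
theorem F355365 : act 7 n115093 = n129819 := d15_2 F208178 F208176 F355297
theorem F355366 : act 5 n150117 = n115093 := d16_7 F355275 (iv5 D145927) F104610 F50140 (iv4 F51877) D70641 D150117 F355365 F355297
theorem F355367 : act 7 n129820 = n115094 := d15_2 (iv0 D129819) D129820 (iv2 F355297)
theorem F355368 : act 2 n115093 = n129820 := d4_3 F355367 (iv2 F355297) (iv7 F355365)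
theorem F355369 : act 0 n129454 = n150117 := d17_0 F355366 (iv1 F208176) (iv5 F219426) (iv4 F338621) (iv5 D120630) F232531 D70660 D150129 (iv4 F355282)
theorem F355370 : act 1 n124148 = n150117 := d17_6 D53128 (iv5 F328238) (iv1 F355274) (iv5 F355261) F214559 F355287 F355366 (iv0 D115093) F83827
theorem F355371 : act 0 n150108 = n123962 := d19_4 D115093 (iv5 F355366) (iv4 D150117) (iv3 F236247) (iv5 D123962) F312602 F46588 (iv1 F46580) F46582 (iv4 D13976) D13975 (iv1 F23279) (iv5 D13695) (iv4 F22522) (iv3 F22523) (iv1 D12230) D12231 D25764 D53109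
theorem E101786 : n123963 = n101739 := (c21_4 D150108 F355371 (iv5 D123962) D123963 (iv1 D101739) (iv6 D47295) D47294 D101733 F354494 (iv6 F299249) F195690)
theorem F355372 : act 2 n101739 = n57753 := (sb E101786 F198385)
theorem F355373 : act 3 n101739 = n61532 := (sb E101786 F315063)
theorem F355374 : act 4 n101739 = n61102 := (sb E101786 F315064)
theorem F355375 : act 6 n101739 = n57750 := (sb E101786 (iv6 D123963))
theorem F355376 : act 0 n101740 = n98161 := d21_1 D101740 (iv5 D98161) (iv6 D45854) F51874 D70638 D150108 F355371 (iv5 D123962) (iv6 F355375) (iv1 D101739)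
theorem F355377 : act 3 n101731 = n173214 := d20_3 (iv4 F355374) (iv1 D101739) (iv4 F156620) F278521 F330241 (iv4 F334685) F330232 D180290 (iv3 F344930) (iv1 D130156)
theorem F355378 : act 2 n178452 = n101731 := d0_5 F355377 F271519 (iv3 F243935) F188067 (iv3 F278052)
theorem F355379 : act 7 n121045 = n101731 := d8_0 F355377 (iv7 F275788) (iv3 F347491)
theorem E101787 : n123975 = n101738 := ((c20_8 (iv4 D37936) F29611 (iv4 F59818) (iv3 F129196) (iv1 F278522) (iv3 F355377) F156620 D101738 F304365 F127985 (iv1 F118946))).symm
theorem F355380 : act 3 n101738 = n57761 := (sb E101787 F198391)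
theorem F355381 : act 4 n101738 = n83046 := (sb E101787 F304365)
theorem F355382 : act 5 n101738 = n170652 := (sb E101787 (iv5 F268110))
theorem F355383 : act 6 n101738 = n81840 := (sb E101787 F304366)
theorem F355384 : act 7 n101738 = n57753 := (sb E101787 (iv7 D123975))
theorem F355385 : act 0 n123272 = n98972 := d20_10 (iv4 F272736) (iv1 D101765) F74532 (iv3 F74529) D101738 F355380 F301608 (iv1 D80353) (iv4 F301701) (iv3 F197556)
theorem F355386 : act 7 n178452 = n173804 := d4_2 F355379 (iv2 F355378) F272392
theorem F355387 : act 4 n101741 = n121045 := d11_3 F355379 F156620 D101741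
theorem F355388 : act 6 n121044 = n101741 := d10_0 F355387 (iv6 D121045) D121044
theorem E101788 : n123973 = n101741 := ((c20_7 F59189 F29635 (iv4 F29606) (iv3 F59683) D84156 (iv3 F347491) (iv4 F355387) (iv1 D123973) (iv4 F198388) F198387 F300598)).symm
theorem F355389 : act 0 n101741 = n57753 := (sb E101788 (iv1 D123973))
theorem E101789 : n123972 = n101726 := ((c15_4 (iv0 D123972) (iv0 F355389) (iv7 D101741) (iv2 F156618))).symm
theorem F355390 : act 1 n101726 = n57753 := (sb E101789 (iv0 D123972))
theorem F355391 : act 5 n174120 = n178452 := d13_3 F355386 F304132 D174120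
theorem E101790 : n174120 = n163696 := ((c6_4 F355391 F278052 (iv5 F328400) (iv3 F258049))).symm
theorem F355392 : act 5 n163696 = n178452 := (sb E101790 F355391)
theorem F355393 : act 7 n163696 = n83235 := (sb E101790 (iv7 D174120))
theorem F355394 : act 7 n174116 = n180788 := d11_2 F355393 (iv4 F272922) F281418
theorem F355395 : act 0 n180170 = n180788 := d18_2 (iv1 F324242) (iv4 F280524) F281418 F355392 (iv4 F324281) F355390 (iv4 F198388) F344936 F303617
theorem F355396 : act 7 n179992 = n114798 := d14_4 (iv7 F206224) F355270 F201292 D179992 (iv6 D114798)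
theorem F355397 : act 2 n179992 = n141688 := d15_3 (iv0 F225913) F349971 (iv7 F355396)
theorem F355398 : act 6 n141688 = n145929 := d3_2 D179992 F355397 F229141
theorem F355399 : act 2 n132221 = n129452 := d15_3 F211848 F211846 F355268
theorem F355400 : act 7 n132222 = n129452 := d4_2 (iv7 F355268) F355264 (iv2 F355399)
theorem E101791 : n146870 = n133468 := (c18_9 (iv1 F229133) F227916 (iv1 F104611) D145929 (iv5 F355261) F214559 F211846 F355265 D146870 F335159)
theorem F355401 : act 0 n133468 = n68851 := (sb E101791 (iv1 D146870))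
theorem F355402 : act 0 n159186 = n148984 := d19_4 F355401 (iv5 F114783) F312206 D159186 (iv5 D148984) (iv4 F312361) (iv3 D61715) (iv1 F79184) (iv5 F96327) (iv4 D61729) (iv3 F96320) (iv1 F345780) F320328 F300367 (iv3 D83075) F296992 (iv5 F312898) F97717 D133468
theorem F355403 : act 2 n130682 = n146869 := d15_3 (iv0 D146869) (iv0 F355401) F214645
theorem F355404 : act 3 n146869 = n113608 := d0_2 D130682 F355403 F343527 F332631 F209659
theorem F355405 : act 5 n146869 = n145926 := d2_2 F347377 F355403 F229136
theorem F355406 : act 0 n115147 = n113845 := d21_4 F355261 F233097 (iv5 F338624) D115147 (iv6 D113845) F83083 (iv1 D32347) D32348 (iv6 F106041) F355262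
theorem F355407 : act 2 n130572 = n133367 := d2_1 F355248 (iv5 F354256) F331332
theorem F355408 : act 3 n130572 = n125045 := d6_1 F355248 (iv5 D125045) (iv3 F316044)
theorem F355409 : act 7 n130572 = n133366 := d13_2 F316688 F355248 F339718
theorem F355410 : act 6 n96082 = n130572 := d21_5 (iv5 D44636) F66216 D21354 D44832 D96082 (iv5 F355248) (iv1 F331335) F158316 (iv6 D96131) F70458
theorem F355411 : act 2 n133366 = n130573 := d15_3 F214417 F214418 F355409
theorem F355412 : act 7 n133367 = n130573 := d4_2 (iv7 F355409) F355407 (iv2 F355411)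
theorem F355413 : act 5 n130573 = n112975 := d13_1 F355412 (iv7 F331333) F354256
theorem F355414 : act 1 n159004 = n178931 := d17_6 (iv1 F97605) D133364 (iv1 F214417) F355413 F319051 (iv5 F250340) (iv5 D178931) (iv0 D85314) F318269
theorem F355415 : act 6 n112975 = n126932 := d21_9 D126933 F227413 (iv5 D144546) D144547 (iv1 F354135) (iv6 D133365) D133364 (iv1 F214417) F355413 (iv1 D126932)
theorem F355416 : act 5 n126932 = n97439 := d21_6 (iv5 D44919) (iv1 F66357) D47778 D103057 F331334 F355415 (iv1 D97439) F331259 F331251 F71753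
theorem F355417 : act 2 n97439 = n142405 := d2_1 F355416 (iv5 D142405) F206740
theorem F355418 : act 7 n97439 = n181933 := d13_2 (iv7 F206739) F355416 F339724
theorem E101792 : n127024 = n126927 := (c17_7 (iv1 F206741) F355416 (iv1 D97439) F331259 F100073 (iv5 F94021) D127024 (iv5 D126927) F203810 (iv4 F206734))
theorem F355419 : act 0 n126927 = n59610 := (sb E101792 (iv1 D127024))
theorem E101793 : n126928 = n107702 := ((c21_5 (iv5 F293997) D93439 (iv5 F336626) (iv6 F353851) (iv1 F350217) (iv6 D126928) D126927 F355419 F94021 D64291 (iv1 F331253))).symm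
theorem F355420 : act 6 n107702 = n59571 := (sb E101793 (iv6 D126928))
theorem F355421 : act 2 n181933 = n97438 := d15_3 (iv0 D97438) D97439 F355418
theorem F355422 : act 7 n142405 = n97438 := d4_2 (iv7 F355418) F355417 (iv2 F355421)
theorem F355423 : act 3 n97438 = n116470 := d8_1 F355422 F181753 (iv3 F225318)
theorem F355424 : act 5 n97438 = n116469 := d13_1 F355422 F181750 D142405
theorem F355425 : act 0 n115468 = n115323 := d19_12 D97438 F355424 (iv4 F204410) (iv3 D127151) (iv1 F94098) (iv5 F322005) F23121 (iv3 F23119) D29082 (iv5 F48393) (iv4 F84118) (iv3 F179767) (iv5 D115323) (iv4 F85021) (iv3 D53912) (iv1 F48766) (iv5 F95018) (iv4 F95040) F331277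
theorem F355426 : act 1 n116981 = n128571 := d17_6 (iv1 F206784) (iv5 F330557) F355425 (iv5 D115323) (iv4 F85021) D116981 (iv5 D128571) F182825 F182822
theorem F355427 : act 1 n115460 = n115323 := d15_0 (iv0 F355425) (iv7 D115468) (iv2 F179763)
theorem F355428 : act 1 n178931 = n120602 := d15_1 F355414 F192173 D159004
theorem F355429 : act 7 n178931 = n146986 := d15_2 (iv0 F355158) F355414 F355160
theorem F355430 : act 3 n146988 = n178931 := d20_3 F320636 F184002 (iv4 F230381) (iv1 F355414) F342706 (iv4 D154102) (iv1 D72967) (iv4 F94806) (iv3 F206306) (iv1 F330643)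
theorem F355431 : act 6 n147750 = n178931 := d21_3 (iv5 D127891) F205690 (iv5 F334049) (iv1 F355414) (iv6 F355157) (iv5 F341958) (iv1 F341750) D130206 F337911 (iv1 F340250)
theorem F355432 : act 2 n178931 = n159003 := d3_1 F355431 F354243 (iv2 F334537)
theorem F355433 : act 4 n178931 = n143771 := d10_1 F355431 F313471 (iv4 F231497)
theorem F355434 : act 5 n178932 = n148859 := d12_3 F355431 (iv5 D178931) D178932 (iv6 D148859) (iv5 F334049)
theorem F355435 : act 0 n174954 = n178932 := d17_2 (iv1 F304743) D174954 F355434 F233882 F106183 F94371 F45989 F46178 D60185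
theorem F355436 : act 0 n178932 = n153245 := d21_7 (iv5 F90791) (iv1 F94615) (iv5 D60071) D60072 F205690 D148859 (iv5 F355434) (iv5 D153245) (iv6 D72368) F52662
theorem F355437 : act 0 n147290 = n178930 := d18_2 F335866 D147290 (iv4 D178930) D178931 F355433 F313470 (iv4 F231673) (iv0 F354259) (iv5 F335862)
theorem F355438 : act 0 n114759 = n170478 := d18_2 (iv1 F317988) F317990 F267926 D170481 (iv4 F350201) F355414 F355433 F313470 D147897
theorem E101794 : n178928 = n125004 := ((c2_3 D178931 F355432 F350203 (iv2 D178928))).symm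
theorem F355439 : act 2 n125004 = n85314 := (sb E101794 (iv2 D178928))
theorem F355440 : act 7 n125004 = n85315 := (sb E101794 (iv7 F278806))
theorem E101795 : n178933 = n125003 := (c15_4 (iv0 D125003) D125004 F355440 (iv2 F278807))
theorem F355441 : act 2 n125003 = n85315 := (sb E101795 F278807)
theorem F355442 : act 7 n125003 = n85314 := (sb E101795 (iv7 D178933))
theorem F355443 : act 7 n178929 = n146987 := d8_2 F355442 D178929 (iv3 F339816)
theorem F355444 : act 5 n146988 = n178929 := d13_3 F355443 (iv5 D146987) D146988
theorem F355445 : act 1 n179911 = n108049 := d18_6 (iv1 F330643) F320636 F184002 (iv4 F230381) F355444 F280194 F167037 F318487 (iv5 F339417)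
theorem F355446 : act 3 n159015 = n147001 := d6_3 F355165 F200786 (iv5 F250351)
theorem E101796 : n147195 = n130518 := ((c18_9 D147193 (iv4 F230934) (iv1 F233908) F233905 F355165 F323572 F97607 (iv4 F354119) F354117 (iv5 D147195))).symm
theorem F355447 : act 2 n130518 = n69045 := (sb E101796 F230773)
theorem F355448 : act 3 n130518 = n110428 := (sb E101796 F230774)
theorem F355449 : act 5 n130518 = n69005 := (sb E101796 (iv5 D147195))
theorem F355450 : act 6 n130518 = n110427 := (sb E101796 F230775)
theorem F355451 : act 7 n130518 = n133328 := (sb E101796 F335859)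
theorem F355452 : act 0 n178935 = n147290 := d18_2 (iv1 F200790) D178935 (iv4 D147290) (iv5 D69045) F51069 D32121 D69054 F230434 F355165
theorem E101797 : n147291 = n130519 := (c15_4 (iv0 F354116) F354117 F355451 (iv2 F335858))
theorem F355453 : act 2 n130519 = n133328 := (sb E101797 F335858)
theorem F355454 : act 3 n130519 = n174488 := (sb E101797 (iv3 F343366))
theorem F355455 : act 5 n130519 = n69046 := (sb E101797 F230911)
theorem F355456 : act 6 n130519 = n174485 := (sb E101797 F343368)
theorem F355457 : act 7 n130519 = n69045 := (sb E101797 (iv7 D147291))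
theorem F355458 : act 1 n103322 = n130568 := d17_6 F354116 F355455 (iv1 F230769) (iv5 F353767) F158561 D103322 (iv5 D130568) F97607 (iv4 F354119)
theorem F355459 : act 0 n184426 = n130569 := d21_4 F75143 (iv1 F293240) (iv5 F134945) D184426 (iv6 D130569) D130568 (iv1 F355458) (iv5 D103322) (iv6 D47872) D47869
theorem E101798 : n126941 = n113139 := (c21_1 D126941 (iv1 D113139) (iv5 F170801) (iv6 F355450) (iv1 F354117) (iv6 D128257) D128256 F206382 (iv5 F303650) (iv6 F347146) (iv1 D126940))
theorem F355460 : act 2 n113139 = n126000 := (sb E101798 (iv2 F354123))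
theorem F355461 : act 3 n113139 = n59580 := (sb E101798 F204194)
theorem F355462 : act 5 n113139 = n59575 := (sb E101798 (iv5 D126941))
theorem F355463 : act 7 n113139 = n126001 := (sb E101798 (iv7 F354124))
theorem F355464 : act 2 n126001 = n113138 := d15_3 (iv0 D113138) D113139 F355463
theorem F355465 : act 7 n126000 = n113138 := d4_2 (iv7 F355463) F355460 (iv2 F355464)
theorem F355466 : act 1 n109286 = n136277 := d17_6 (iv1 F202694) F355462 (iv1 F347898) (iv5 D112749) F82249 D109286 (iv5 D136277) F169203 (iv4 F202689)
theorem F355467 : act 4 n136277 = n147280 := d17_9 (iv1 F230898) F344730 (iv1 D112747) D112749 F347899 F352011 F352013 D109286 F355466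
theorem F355468 : act 6 n147290 = n136277 := d10_0 F355467 F230896 D147290
theorem F355469 : act 5 n96034 = n147290 := d21_8 (iv5 D109286) (iv1 F352013) (iv5 F352011) (iv6 D184381) F291898 D90728 F139652 D96034 F355468 (iv1 F355466)
theorem F355470 : act 4 n106736 = n96034 := d16_2 F315733 (iv5 F164517) F355469 (iv4 D147290) (iv5 D69045) F51069 D32122 D69060 (iv2 F315731)
theorem E101799 : n179274 = n147286 := ((c17_8 F350210 F139652 D96034 F355469 (iv4 D147290) (iv5 D69045) D69044 D147286 (iv0 D179274) D179277)).symm
theorem F355471 : act 1 n147286 = n85547 := (sb E101799 (iv0 D179274))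
theorem F355472 : act 0 n133357 = n96131 := d18_0 F147782 (iv1 F355247) F355470 F355469 (iv4 D147290) (iv0 F335866) F209088 F97603 D133357
theorem F355473 : act 1 n133357 = n110333 := d15_1 (iv0 F355472) (iv7 F331342) F158562
theorem F355474 : act 2 n179247 = n107702 := d15_3 F350217 F355471 (iv7 F279171)
theorem F355475 : act 0 n178657 = n115667 := d19_16 (iv1 F355471) (iv5 D147286) F230409 (iv3 D68565) (iv1 D31897) D31898 F307002 (iv3 F307001) (iv1 F334926) (iv5 D150406) F312572 D138392 (iv1 F247163) F247162 (iv4 F316101) D178657 F351402 F321540 D85547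
theorem F355476 : act 0 n107737 = n179278 := d21_10 (iv5 D179278) (iv1 F355471) (iv5 D147286) D147287 (iv1 F230908) (iv6 F305622) F192415 (iv1 F128072) F308683 (iv6 F327107)
theorem F355477 : act 5 n180625 = n179279 := d21_8 (iv5 D147286) (iv1 D69044) D69045 (iv6 F230896) (iv1 F230898) (iv6 F344733) (iv5 D180627) D180625 (iv6 D179279) (iv1 F355471)
theorem F355478 : act 3 n121087 = n180625 := d6_3 F355477 F279194 (iv5 F347916)
theorem F355479 : act 0 n103286 = n180627 := d21_10 (iv5 D180627) D180625 F355477 (iv6 D179279) (iv1 F355471) F353851 F336626 (iv1 F144133) F293998 D103286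
theorem F355480 : act 4 n180625 = n126209 := d5_2 (iv4 F346934) F355478 (iv3 F345739) (iv4 D174830) (iv3 F273700)
theorem F355481 : act 7 n180625 = n121093 := d8_2 F193124 F355478 (iv3 D121093)
theorem F355482 : act 5 n121093 = n126923 := d13_1 F355481 (iv7 F351384) (iv5 F355477)
theorem F355483 : act 4 n131917 = n178657 := d17_9 F355475 F351402 (iv1 D74300) D74303 (iv4 F167210) D112983 (iv0 F210036) F210034 D131917
theorem F355484 : act 2 n178657 = n156028 := d1_1 F355483 (iv4 F245132) F245139
theorem F355485 : act 3 n124994 = n131917 := d5_5 F355483 (iv3 D178657) F316101 F245723 F316788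
theorem F355486 : act 7 n178657 = n156262 := d11_2 F245142 F355483 F245577
theorem F355487 : act 1 n178657 = n156186 := d18_8 (iv1 F245081) F245079 (iv1 F245460) (iv4 F245461) F220226 F111078 D131917 F355483 (iv5 D156186)
theorem E101800 : n156260 = n156186 := ((c15_1 F355487 (iv0 D156260) (iv7 F245131) (iv2 F355484))).symm
theorem F355488 : act 1 n156186 = n74332 := (sb E101800 (iv0 D156260))
theorem E101801 : n115708 = n108074 := ((c17_8 F351330 (iv5 F243736) F350634 (iv5 D85544) F325780 D156186 F355488 (iv5 F167100) (iv0 D115708) (iv4 F170804))).symm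
theorem F355489 : act 1 n108074 = n53355 := (sb E101801 (iv0 D115708))
theorem E101802 : n156261 = n115667 := (c15_1 D156261 (iv0 F355475) F355486 (iv2 D156262))
theorem F355490 : act 0 n115667 = n74332 := (sb E101802 (iv1 D156261))
theorem F355491 : act 3 n112943 = n179099 := d6_3 F279042 F355485 F245143
theorem F355492 : act 3 n178867 = n112992 := d8_3 F245138 F355491 F279043
theorem F355493 : act 5 n156237 = n178657 := d2_0 F355484 F245130 (iv2 F245549)
theorem F355494 : act 3 n107702 = n179253 := d0_2 D179247 F355474 (iv2 D179253) (iv3 D85542) D85541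
theorem F355495 : act 6 n126924 = n179247 := d3_0 F355474 F355420 (iv2 F204181)
theorem F355496 : act 7 n107702 = n179276 := d4_2 (iv7 F279171) F355474 (iv2 D179276)
theorem F355497 : act 6 n179253 = n126925 := d7_2 (iv6 F355420) F355494 (iv3 D126925)
theorem F355498 : act 2 n126925 = n179256 := d3_1 F355497 (iv6 D179256) D179253
theorem F355499 : act 5 n185891 = n126925 := d2_0 F355498 F354325 (iv2 F288379)
theorem F355500 : act 3 n126927 = n185891 := d6_3 F355499 (iv3 D126925) D126927
theorem F355501 : act 6 n135288 = n126927 := d7_0 F355500 (iv6 D185891) (iv3 F337856)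
theorem F355502 : act 7 n96034 = n106732 := d11_2 D106736 F355470 F164513
theorem F355503 : act 3 n97386 = n96034 := d20_5 F96051 F47538 (iv4 F80747) (iv3 F295325) D97386 (iv4 F355470) F350220 F210444 (iv3 D110333) (iv1 F96048)
theorem F355504 : act 5 n112842 = n97386 := d6_0 F355503 F355469 F335867
theorem F355505 : act 7 n185644 = n97386 := d8_0 F355503 F355502 (iv3 F348083)
theorem F355506 : act 2 n97386 = n185643 := d15_3 (iv0 D185643) D185644 F355505
theorem F355507 : act 2 n185644 = n97387 := d15_3 F293087 (iv0 F293086) (iv7 F355505)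
theorem F355508 : act 7 n97387 = n185643 := d4_2 (iv7 F355505) F355507 (iv2 F355506)
theorem E101803 : n156237 = n115709 := (c20_7 F354119 (iv1 F97607) (iv4 F323572) F200786 (iv1 F200697) (iv3 F345606) F245550 (iv1 D115709) (iv4 F170804) (iv3 F355448) (iv1 F354117))
theorem F355509 : act 2 n115709 = n107618 := (sb E101803 F245549)
theorem F355510 : act 3 n115709 = n74324 := (sb E101803 (iv3 D156237))
theorem F355511 : act 4 n115709 = n107641 := (sb E101803 (iv4 F245550))
theorem F355512 : act 5 n115709 = n178657 := (sb E101803 F355493)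
theorem F355513 : act 0 n108015 = n107672 := d17_2 F345603 (iv5 F166933) (iv5 D107672) (iv4 F111013) D156001 (iv0 F351399) (iv5 D115710) D115709 F355511
theorem F355514 : act 0 n107673 = n119540 := d21_4 (iv5 F166933) F355513 (iv5 D107672) D107673 (iv6 D119540) F87000 (iv1 F86839) D119294 F345600 F345603
theorem E101804 : n178935 = n103198 := (c10_2 F355163 D178935 (iv6 D103198) D103197)
theorem F355515 : act 0 n103198 = n147290 := (sb E101804 F355452)
theorem F355516 : act 4 n103198 = n85315 := (sb E101804 (iv4 D178935))
theorem F355517 : act 5 n178934 = n175374 := d6_0 F355161 (iv5 D178936) D178934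
theorem F355518 : act 0 n123089 = n134038 := d20_7 F241897 (iv1 F199460) D154102 (iv3 F342706) F355158 (iv3 F355161) F334547 (iv4 F350811) (iv3 F353923) (iv1 F241901)
theorem F355519 : act 7 n175373 = n178934 := d13_0 F355517 (iv7 D175374) D175373
theorem F355520 : act 3 n125004 = n175373 := d8_3 F355519 (iv3 D178934) (iv7 F355440)
theorem F355521 : act 2 n157574 = n147460 := d15_3 F355124 (iv0 F350780) (iv7 F350779)
theorem F355522 : act 7 n147460 = n157573 := d4_2 (iv7 F350779) F355521 F350777
theorem F355523 : act 5 n137715 = n177290 := d16_3 F350726 F350790 D137715 F276669 (iv5 F313262) (iv4 F243297) F350773 (iv7 F355522) (iv2 F355521)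
theorem F355524 : act 4 n157573 = n137711 := d16_6 D137715 F355523 F276669 (iv5 F313262) (iv4 F243297) F350773 (iv5 D137711) D137713 F220930
theorem F355525 : act 2 n137711 = n153306 := d1_1 F355524 (iv4 F350775) (iv2 F350777)
theorem E101805 : n137711 = n117557 := (c18_6 F314300 (iv4 F233637) F353596 (iv4 F243297) F350773 F355524 (iv0 D117557) (iv4 F112656) (iv0 F350787) (iv5 D147487))
theorem F355526 : act 2 n117557 = n153306 := (sb E101805 F355525)
theorem F355527 : act 4 n117557 = n157573 := (sb E101805 (iv4 F355524))
theorem F355528 : act 5 n117557 = n64730 := (sb E101805 (iv5 D137711))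
theorem F355529 : act 7 n117558 = n153306 := d16_8 F355527 (iv5 F350773) F243297 F313262 (iv4 F276669) (iv5 F355523) (iv4 D137715) (iv5 F350790) (iv2 F355526)
theorem F355530 : act 0 n157575 = n154605 := d18_0 F280373 F355128 F229937 F319427 (iv4 F231388) (iv0 F314957) F355527 (iv0 D157573) D157575
theorem E101806 : n176265 = n152434 := (c21_11 (iv5 F334520) (iv1 D148832) (iv5 F333949) F333950 F355530 (iv6 D154605) D154604 F242693 (iv5 D147408) F334062 D176265)
theorem F355531 : act 1 n152434 = n84066 := (sb E101806 (iv0 D176265))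
theorem F355532 : act 3 n153306 = n117779 := d8_1 F355529 F184468 F204403
theorem F355533 : act 5 n153306 = n137708 := d13_1 F355529 (iv7 F220929) (iv5 F350790)
theorem F355534 : act 2 n117558 = n153307 := d15_3 (iv0 F314962) F314963 (iv7 F355529)
theorem F355535 : act 4 n153307 = n147460 := d1_2 F350726 F355534 (iv2 F355521)
theorem E101807 : n137713 = n104248 := ((c2_3 (iv5 F350790) F355534 (iv5 F350768) F220930)).symm
theorem F355536 : act 2 n104248 = n64731 := (sb E101807 F220930)
theorem F355537 : act 7 n104248 = n64730 := (sb E101807 (iv7 D137713))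
theorem F355538 : act 7 n153307 = n117557 := d4_2 (iv7 F355529) F355534 F355526
theorem E101808 : n137708 = n104249 := (c15_4 F329314 (iv0 F329313) F355537 D137708)
theorem F355539 : act 2 n104249 = n64730 := (sb E101808 (iv2 D137708))
theorem F355540 : act 5 n104249 = n153306 := (sb E101808 (iv5 F355533))
theorem F355541 : act 7 n104249 = n64731 := (sb E101808 (iv7 F220929))
theorem F355542 : act 3 n153307 = n114267 := d20_3 (iv4 F248339) (iv1 F355124) (iv4 F355535) (iv1 D114267) F83338 F52286 D33064 D71465 D151627 F353680
theorem F355543 : act 3 n114271 = n120455 := d20_3 F83339 D52741 D114271 (iv1 F191908) F115368 (iv4 F248339) (iv1 F355124) (iv4 F355535) F355542 (iv1 D114267)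
theorem E101809 : n160296 = n120455 := ((c0_1 F355543 (iv2 D160296) D160297 (iv2 F350747) (iv3 F349476) (iv2 F347717))).symm
theorem F355544 : act 2 n120455 = n76828 := (sb E101809 (iv2 D160296))
theorem F355545 : act 7 n120455 = n76829 := (sb E101809 (iv7 F253205))
theorem E101810 : n123247 = n120466 := ((c20_3 (iv4 F191568) (iv1 F191570) D120466 F353559 (iv1 D71460) (iv3 F83338) F83339 D52741 D114271 F355543 (iv1 F191908))).symm
theorem F355546 : act 0 n120466 = n57368 := (sb E101810 (iv1 D123247))
theorem F355547 : act 1 n120466 = n67189 := (sb E101810 F324898)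
theorem F355548 : act 2 n120466 = n122652 := (sb E101810 F353561)
theorem F355549 : act 3 n120466 = n71460 := (sb E101810 F353559)
theorem F355550 : act 7 n120466 = n122651 := (sb E101810 F353560)
theorem F355551 : act 4 n123250 = n120455 := d20_2 (iv4 F90561) D123250 (iv3 F355543) F349952 (iv3 D54171) D54172 (iv1 F177059) (iv4 F184021) (iv3 F353562) (iv1 D122652)
theorem F355552 : act 2 n122640 = n123250 := d1_3 F355551 F355544 (iv4 F350731)
theorem F355553 : act 7 n122641 = n123250 := d11_0 F355551 F355545 (iv4 F350732)
theorem F355554 : act 2 n122641 = n123251 := d15_3 F197540 F197546 (iv7 F355553)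
theorem F355555 : act 7 n123251 = n122640 := d4_2 (iv7 F355553) F355554 F355552
theorem F355556 : act 5 n122640 = n141921 := d13_1 F355555 F224965 F341409
theorem F355557 : act 4 n160304 = n115471 := d16_2 F350732 D160304 F179772 F164985 (iv5 F102401) D141921 (iv5 F355556) (iv7 F355555) (iv2 F355554)
theorem E101811 : n160304 = n137382 := ((c5_6 F355557 (iv3 D115471) (iv4 F84117) (iv3 F170748) F345511 D137382)).symm
theorem F355558 : act 4 n137382 = n115471 := (sb E101811 F355557)
theorem F355559 : act 5 n137382 = n76829 := (sb E101811 (iv5 D160304))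
theorem F355560 : act 4 n180609 = n117507 := d19_18 (iv1 F191909) (iv5 F355559) F355558 (iv3 D115471) (iv1 D53264) (iv5 D25825) (iv4 D12264) D12263 (iv1 F37891) (iv5 D24151) (iv4 F19719) (iv3 D11954) (iv1 F8625) D11751 D24801 D50992 D110587 F330805 F353584
theorem F355561 : act 0 n109896 = n180609 := d20_10 F355560 (iv1 F184079) (iv4 F182018) (iv3 D116663) (iv1 F84774) (iv3 F81994) F81993 (iv1 D50681) D50682 D109896
theorem F355562 : act 3 n180610 = n117702 := d20_3 (iv4 F355560) (iv1 D180609) D180610 (iv1 F349459) (iv3 D117496) (iv4 D54142) (iv1 D26200) D26201 D54146 D117507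
theorem F355563 : act 2 n166484 = n180609 := d15_3 (iv0 F355561) (iv0 F348468) (iv7 F350705)
theorem E101812 : n120459 = n120306 := ((c11_2 F355550 (iv4 F350756) (iv7 F191911) D120466)).symm
theorem F355564 : act 2 n120306 = n55455 := (sb E101812 (iv2 D120459))
theorem F355565 : act 7 n120306 = n55456 := (sb E101812 (iv7 F191911))
theorem F355566 : act 2 n120463 = n123888 := d3_3 (iv6 F198326) F355564 D120463
theorem E101813 : n123885 = n123130 := (c2_4 (iv5 F197312) F355566 (iv5 D123888) (iv2 F198325))
theorem F355567 : act 2 n123130 = n57723 := (sb E101813 F198325)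
theorem F355568 : act 7 n123130 = n57722 := (sb E101813 (iv7 D123885))
theorem F355569 : act 7 n123883 = n120463 := d13_2 F355568 D123883 F197312
theorem E101814 : n123880 = n123129 := (c15_4 (iv0 D123129) D123130 F355568 D123880)
theorem F355570 : act 2 n123129 = n57722 := (sb E101814 (iv2 D123880))
theorem F355571 : act 7 n123129 = n57723 := (sb E101814 (iv7 F198324))
theorem F355572 : act 3 n117845 = n123883 := d8_3 F355569 F353606 (iv7 F184789)
theorem F355573 : act 5 n123881 = n117845 := d6_0 F355572 (iv5 D123883) D123881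
theorem F355574 : act 2 n148524 = n123881 := d2_3 F355573 F230228 D148524
theorem F355575 : act 7 n148119 = n123881 := d13_0 F355573 F184789 D148119
theorem F355576 : act 4 n114057 = n123881 := d16_6 F184319 F183161 (iv4 F87072) (iv5 F298221) F177555 D114057 F355573 F184789 (iv2 F184318)
theorem F355577 : act 1 n155454 = n123881 := d17_6 D54278 F130934 (iv1 F53132) D33941 D73921 D155454 F355573 (iv0 D117845) (iv4 D54281)
theorem F355578 : act 4 n184777 = n117845 := d16_2 F310869 D184777 (iv5 F355573) (iv4 F355576) (iv5 D114057) (iv4 F177555) F298221 F184594 (iv2 F184597)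
theorem F355579 : act 2 n148523 = n184777 := d1_3 F355578 F230228 D148523
theorem F355580 : act 7 n146842 = n184777 := d11_0 F355578 F184789 (iv4 F230220)
theorem F355581 : act 1 n123881 = n119865 := d15_1 F355577 F189205 (iv2 F244438)
theorem F355582 : act 4 n119865 = n152235 := d17_9 (iv1 D152235) (iv5 D71810) D71808 D152227 (iv4 F339221) (iv5 D148518) F184788 (iv5 F355573) F355581
theorem F355583 : act 7 n152235 = n155509 := d11_2 (iv7 F189205) F355582 (iv4 D155509)
theorem E101815 : n164513 = n155448 := (c16_4 D55164 D119865 F355582 (iv5 F259285) (iv4 D155448) (iv5 D73919) (iv4 D33940) D33941 (iv7 F87249) F87247)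
theorem F355584 : act 5 n155448 = n152235 := (sb E101815 F259285)
theorem F355585 : act 6 n155448 = n79005 := (sb E101815 (iv6 D164513))
theorem F355586 : act 4 n152234 = n155454 := d9_9 F355584 (iv4 F355582) (iv5 D119865) (iv4 D55164) (iv5 D26657) D26656 D55160 D119852 F339229 (iv5 D155454) (iv4 D73921) (iv5 D33941) D33940 D73919 D155448
theorem F355587 : act 2 n155509 = n152234 := d1_3 F355586 F244438 D155509
theorem F355588 : act 7 n155475 = n152234 := d16_8 (iv4 D155509) (iv5 D73963) (iv4 D33950) (iv5 D16410) D16409 D33946 D73944 D155475 (iv2 F355587)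
theorem F355589 : act 2 n152235 = n155475 := d4_3 F355588 (iv2 F355587) (iv7 F355583)
theorem F355590 : act 1 n155509 = n114377 := d15_0 F339357 F355588 (iv2 F355587)
theorem F355591 : act 1 n152237 = n155509 := d15_1 (iv0 F339355) (iv7 F355583) F355589
theorem F355592 : act 4 n146792 = n152237 := d18_5 (iv1 D69606) (iv4 D32316) (iv1 F130864) (iv4 F105010) D146792 F355591 (iv4 D155509) (iv0 F233287) (iv5 D148524)
theorem F355593 : act 4 n148516 = n114377 := d9_9 D146792 F355592 F239298 F309749 (iv5 D73910) (iv4 D33937) F130867 D69599 D148516 F178401 F305734 (iv5 D71792) F52412 (iv5 F50379) (iv4 F105010)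
theorem F355594 : act 7 n152236 = n146792 := d11_0 F355592 (iv7 D152237) D152236
theorem F355595 : act 5 n117842 = n152236 := d13_3 F355594 (iv5 D146792) (iv7 F184562)
theorem F355596 : act 2 n152236 = n148516 := d16_9 F355593 F178401 F305734 (iv5 D71792) F52412 (iv5 F50379) (iv4 F105010) D146792 (iv7 F355594)
theorem F355597 : act 6 n148516 = n99378 := d3_2 (iv6 F239296) F355596 F325486
theorem F355598 : act 3 n99380 = n148516 := d7_3 F355597 F153043 D99380
theorem E101816 : n148515 = n102537 := (c6_4 F157501 F355598 (iv5 D148516) D148515)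
theorem F355599 : act 3 n102537 = n69599 := (sb E101816 (iv3 D148515))
theorem F355600 : act 6 n138975 = n117842 := d12_0 F355595 F239296 (iv5 F323338) (iv6 F157489) F346826
theorem F355601 : act 6 n123881 = n114191 := d10_2 (iv6 F177558) F355576 (iv4 D114191)
theorem E101817 : n171104 = n123884 := (c7_2 F355601 (iv3 F335349) (iv6 D123884) D123881)
theorem F355602 : act 1 n123884 = n91365 := (sb E101817 (iv0 F352765))
theorem F355603 : act 2 n123884 = n99874 := (sb E101817 F268832)
theorem F355604 : act 3 n123884 = n114191 := (sb E101817 F335349)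
theorem F355605 : act 5 n123884 = n82007 := (sb E101817 (iv5 D171104))
theorem F355606 : act 7 n123884 = n99871 := (sb E101817 F268833)
theorem F355607 : act 4 n99874 = n138781 := d16_0 (iv5 D138781) (iv4 D65170) (iv5 F80930) D74527 F329834 (iv4 F135046) D99871 (iv7 F355606) F355603
theorem F355608 : act 6 n99874 = n123129 := d3_2 D123884 F355603 F355570
theorem F355609 : act 3 n123130 = n148119 := d8_3 F355575 (iv3 D123881) (iv7 F355568)
theorem F355610 : act 0 n120465 = n123603 := d20_4 (iv4 F323601) (iv1 F355547) (iv4 D120466) D120465 (iv3 F337284) F337285 (iv1 F337288) F348015 F348017 (iv1 F197548)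
theorem F355611 : act 0 n119020 = n143657 := d20_1 F198023 F226337 (iv3 D140034) F103140 (iv3 F321947) (iv4 F323601) (iv1 F355547) (iv4 D120466) D120465 F355610
theorem F355612 : act 0 n120454 = n117509 := d20_4 (iv4 D120466) (iv1 D55456) (iv4 F87755) (iv3 F191901) F184080 F85507 (iv1 F41650) D31268 D67189 (iv1 F355547)
theorem F355613 : act 1 n120454 = n117404 := d15_1 (iv0 F355612) F183878 D117509
theorem F355614 : act 6 n143657 = n114833 := d21_5 (iv5 D52808) F42384 D54770 D119020 F355611 (iv5 D114833) (iv1 D52986) D52987 F83715 (iv1 F83436)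
theorem F355615 : act 0 n143657 = n103015 := d21_10 (iv5 D103015) (iv1 D47760) (iv5 F74939) (iv6 D47666) (iv1 F291098) D94248 F145331 (iv1 F144675) D114833 (iv6 F355614)
theorem F355616 : act 3 n103014 = n181933 := d19_3 F355615 (iv5 D103015) D103014 (iv1 F294707) F331279 F100356 (iv3 D63944) (iv1 F48648) (iv5 F93999) F94000 D64740 F103082 (iv5 D30475) D30474 D64812 F100657 (iv5 F105774) F103179 D143657
theorem F355617 : act 2 n142363 = n103014 := d0_5 F355616 F355421 F355423 F181752 (iv3 F225285)
theorem F355618 : act 5 n142362 = n103014 := d6_0 F355616 F339724 (iv3 F225282)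
theorem E101818 : n158909 = n144211 := ((c20_11 F250202 (iv1 F151169) D103014 F355616 (iv1 F294707) F331278 (iv4 F95040) (iv1 F95042) (iv4 F49651) D67556 D144211)).symm
theorem F355619 : act 0 n144211 = n103004 := (sb E101818 (iv1 F250205))
theorem E101819 : n103003 = n67556 := ((((iv0 D144211)).symm.trans (sb E101818 F250206))).symm
theorem F355620 : act 2 n144211 = n103006 := (sb E101818 F250201)
theorem F355621 : act 4 n144211 = n98045 := (sb E101818 F250202)
theorem F355622 : act 6 n144211 = n84339 := (sb E101818 F250203)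
theorem F355623 : act 7 n144211 = n75820 := (sb E101818 (iv7 D158909))
theorem E101820 : n144212 = n47758 := ((D144212).symm.trans (sb E101819 (iv0 D103003)))
theorem F355624 : act 0 n47758 = n67556 := (sb E101820 (iv1 D144212))
theorem F355625 : act 0 n113029 = n164104 := d21_7 (iv5 D38875) (iv1 F54666) F54664 D47758 F355624 (iv6 F331477) D113029 (iv5 D164104) (iv6 D78837) (iv1 F59904)
theorem F355626 : act 7 n103004 = n144213 := d15_2 (iv0 F355624) D103004 (iv2 D144213)
theorem F355627 : act 2 n117017 = n103004 := d4_3 F355626 (iv2 D144213) (iv7 F182957)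
theorem F355628 : act 5 n127106 = n103004 := d13_3 F355626 F226903 (iv7 F204356)
theorem F355629 : act 3 n103004 = n144205 := d6_1 F355628 F226899 F226616
theorem F355630 : act 5 n103009 = n116456 := d18_4 (iv1 D103004) F75019 D47759 D103009 F181718 (iv0 F224160) (iv4 F333133) F333132 F355628
theorem F355631 : act 3 n116457 = n103009 := d6_3 F355630 (iv3 D116456) D116457
theorem F355632 : act 7 n142363 = n103009 := d13_0 F355630 F181719 D142363
theorem F355633 : act 4 n103012 = n142363 := d11_3 F355632 (iv4 D103009) D103012
theorem E101821 : n119024 = n103008 := ((c5_4 F346406 F355631 (iv4 D103009) D103008 F334846 (iv3 F238493))).symm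
theorem F355634 : act 1 n103008 = n145022 := (sb E101821 (iv0 F339786))
theorem F355635 : act 2 n103008 = n105413 := (sb E101821 F187253)
theorem F355636 : act 4 n103008 = n71466 := (sb E101821 F334846)
theorem F355637 : act 5 n103008 = n54772 := (sb E101821 (iv5 D119024))
theorem F355638 : act 6 n103008 = n54773 := (sb E101821 F187254)
theorem E101822 : n103011 = n93870 := ((c7_2 F355638 (iv3 F144698) (iv6 D103011) D103008)).symm
theorem F355639 : act 6 n93870 = n47759 := (sb E101822 (iv6 D103011))
theorem E101823 : n103007 = n94268 := (c3_2 F355639 D103007 (iv6 D94268) (iv2 F144697))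
theorem F355640 : act 2 n94268 = n47759 := (sb E101823 (iv2 D103007))
theorem F355641 : act 7 n94268 = n47760 := (sb E101823 (iv7 F158266))
theorem E101824 : n119020 = n103010 := ((c12_2 F355639 D103010 (iv6 D119020) (iv5 D54770) (iv6 F68991) D93870)).symm
theorem F355642 : act 0 n103010 = n143657 := (sb E101824 F355611)
theorem F355643 : act 2 n103010 = n164614 := (sb E101824 (iv2 F259534))
theorem F355644 : act 3 n103010 = n54772 := (sb E101824 F187249)
theorem F355645 : act 4 n103010 = n123603 := (sb E101824 (iv4 F198023))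
theorem F355646 : act 6 n103010 = n54770 := (sb E101824 (iv6 D119020))
theorem F355647 : act 5 n176936 = n113921 := d21_6 F69420 (iv1 F68986) D93870 F355639 (iv1 F151170) (iv6 F276293) (iv1 D113921) (iv5 F163738) (iv6 D106487) F114374
theorem F355648 : act 5 n104415 = n89691 := d2_2 F355647 (iv2 F177279) (iv2 F276291)
theorem F355649 : act 3 n89691 = n185912 := d6_1 F355648 F288408 (iv3 F160075)
theorem E101825 : n176509 = n102779 := ((c12_4 (iv6 F160076) F355648 F137624 (iv5 F158029) (iv6 D176509) (iv5 F326537))).symm
theorem F355650 : act 3 n102779 = n84161 := (sb E101825 F275824)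
theorem F355651 : act 6 n102779 = n84160 := (sb E101825 (iv6 D176509))
theorem E101826 : n98043 = n94268 := ((c21_4 F144703 (iv1 F68997) D44070 D94268 (iv1 F151168) (iv6 F137624) (iv5 F355648) (iv1 F177214) F177212 (iv6 D94270) (iv1 F144705))).symm
theorem F355652 : act 0 n94268 = n47761 := (sb E101826 (iv1 F151168))
theorem F355653 : act 1 n94268 = n45758 := (sb E101826 (iv0 D98043))
theorem E101827 : n103012 = n98044 := ((c15_2 F355653 D98044 (iv7 D103012) (iv2 F355640))).symm
theorem F355654 : act 2 n98044 = n47760 := (sb E101827 F158267)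
theorem F355655 : act 4 n98044 = n142363 := (sb E101827 F355633)
theorem F355656 : act 7 n98044 = n47759 := (sb E101827 (iv7 D103012))
theorem F355657 : act 4 n158908 = n113033 := d20_2 (iv4 F158265) (iv1 F250200) F176086 (iv1 F82500) (iv3 F331451) (iv4 F353144) (iv1 D132138) F96582 (iv3 F145401) F355652
theorem E101828 : n158908 = n117017 := ((c5_6 F355657 F176086 (iv4 F331475) F95012 F85065 D117017)).symm
theorem F355658 : act 0 n117017 = n75820 := (sb E101828 (iv1 D158908))
theorem F355659 : act 1 n117017 = n103006 := (sb E101828 F250200)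
theorem F355660 : act 4 n117017 = n113033 := (sb E101828 F355657)
theorem F355661 : act 4 n186170 = n103004 := d1_2 F355660 (iv2 F343306) (iv2 F355627)
theorem F355662 : act 5 n153331 = n139291 := d16_1 (iv4 F240903) (iv4 D139291) (iv5 D65376) (iv4 F94066) (iv5 F182956) F355660 F176087 (iv7 D105387) (iv2 F161708)
theorem F355663 : act 0 n93879 = n102980 := d20_4 D112954 F175893 (iv4 D105408) (iv3 F144714) F158257 (iv4 F158265) (iv1 F355659) F355660 F176086 (iv1 F82500)
theorem F355664 : act 0 n117106 = n105387 := d19_0 (iv5 F176087) (iv4 F355660) (iv3 D117017) (iv1 D53929) (iv5 D26075) (iv4 D12360) F9093 (iv1 F9041) F9043 F8388 (iv3 F10041) F4615 F2685 D2493 D5897 D12390 (iv5 F50426) D53970 D117106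
theorem E101829 : n186418 = n113033 := (c20_11 (iv4 F355660) F355658 F113718 (iv3 F151165) F333380 F178628 (iv4 F318226) F104643 F104640 (iv3 F229113) F324134)
theorem F355665 : act 0 n113033 = n88791 := (sb E101829 (iv1 D186418))
theorem F355666 : act 1 n113033 = n145920 := (sb E101829 (iv0 F324134))
theorem E101830 : n186417 = n113022 := (c15_2 F355666 F324135 (iv7 F343307) F343306)
theorem F355667 : act 0 n113022 = n145920 := (sb E101830 (iv1 F324135))
theorem F355668 : act 1 n113022 = n88791 := (sb E101830 (iv0 D186417))
theorem E101831 : n133452 = n114257 := (c21_2 (iv5 F333215) (iv1 F214608) (iv5 D114257) (iv6 D52735) (iv1 F76709) D105382 (iv5 F176072) F355667 (iv5 D145920) D145921 F355276)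
theorem F355669 : act 0 n114257 = n62636 := (sb E101831 (iv1 D133452))
theorem F355670 : act 1 n114257 = n130662 := (sb E101831 F214608)
theorem F355671 : act 7 n133451 = n114107 := d15_2 F355670 F214604 (iv2 F178090)
theorem E101832 : n114123 = n53039 := (c21_5 (iv5 D48720) (iv1 F37032) (iv5 F76672) D52682 D114123 D114947 (iv5 F333215) (iv1 F355670) (iv5 D114257) (iv6 D52735) (iv1 F76709))
theorem E101833 : n114944 = n52682 := ((D114944).symm.trans (sb E101832 (iv0 D114123)))
theorem F355672 : act 0 n52682 = n53039 := (sb E101833 (iv1 D114944))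
theorem E101834 : n152389 = n114124 := (((D114124).symm.trans (sb E101833 (iv0 F333227)))).symm
theorem F355673 : act 1 n114124 = n114943 := (sb E101834 F333228)
theorem F355674 : act 2 n114124 = n76281 := (sb E101834 F333229)
theorem F355675 : act 3 n114124 = n71891 := (sb E101834 (iv3 D152389))
theorem F355676 : act 7 n114124 = n114945 := (sb E101834 F333230)
theorem F355677 : act 3 n89424 = n137509 := d20_3 (iv4 F303373) F289945 D89424 F335530 F193576 F335528 F335517 F335516 (iv3 F355675) (iv1 D114124)
theorem F355678 : act 7 n114943 = n105371 := d15_2 D114124 F355673 F161590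
theorem F355679 : act 4 n114124 = n153342 := d20_0 (iv1 D153342) (iv4 F178469) F178468 F206232 (iv3 F335496) (iv4 F348665) (iv1 F238053) F196543 (iv3 F340895) (iv1 F355673)
theorem F355680 : act 2 n153342 = n159471 := d1_1 F355679 (iv4 D159471) (iv2 F355674)
theorem F355681 : act 3 n153342 = n98315 := d5_1 F355679 (iv4 F339756) (iv3 F339752) F335516 (iv3 F355675)
theorem F355682 : act 2 n114126 = n114943 := d4_3 F355678 F161590 D114126
theorem F355683 : act 6 n114119 = n114943 := d14_5 F355678 (iv6 D105371) F76676 D52679 D114119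
theorem F355684 : act 2 n130661 = n133451 := d4_3 F355671 (iv2 F178090) (iv7 F347371)
theorem F355685 : act 5 n114108 = n133451 := d13_3 F355671 (iv5 D114107) D114108
theorem F355686 : act 0 n92511 = n133454 := d21_10 (iv5 D133454) D133451 (iv5 F355685) (iv6 F178105) (iv1 F290592) (iv6 D102730) (iv5 D47648) (iv1 F290569) F67883 D92511
theorem F355687 : act 0 n133455 = n132786 := d21_4 (iv5 F142438) F355686 (iv5 D133454) D133455 (iv6 D132786) (iv5 D62320) D62318 (iv5 F203340) (iv6 F217437) (iv1 F336944)
theorem F355688 : act 4 n186416 = n151666 := d20_6 (iv4 F176125) F331482 F331475 (iv3 F176086) F355665 (iv3 F289202) (iv1 D151666) (iv4 D71475) F52287 D52799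
theorem F355689 : act 6 n151666 = n186415 := d10_2 D186416 F355688 (iv4 D186415)
theorem F355690 : act 1 n151666 = n147988 := d18_8 (iv1 D69323) F51168 D32222 D69328 D148009 F341575 (iv0 F349278) F355688 (iv5 D147988)
theorem F355691 : act 4 n151447 = n147988 := d20_0 (iv1 F355690) (iv4 F355688) F289202 (iv1 F355668) F176071 F331684 (iv1 D144505) D144506 F342984 (iv1 F238189)
theorem F355692 : act 2 n147988 = n151669 := d1_1 F355691 F238521 (iv2 F238185)
theorem F355693 : act 7 n147988 = n151446 := d11_2 D151447 F355691 (iv4 D151446)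
theorem F355694 : act 4 n147990 = n151632 := d17_9 (iv1 D151632) (iv5 D71466) (iv1 F107889) (iv5 F238186) F355691 (iv5 D147988) F316571 D105870 (iv0 F349342)
theorem F355695 : act 5 n186416 = n145938 := d18_4 (iv1 F238189) F355691 (iv1 F355690) (iv4 F355688) (iv4 F354832) (iv0 D137930) D137932 F354840 (iv5 D151658)
theorem F355696 : act 0 n145005 = n151657 := d18_0 (iv4 D151657) (iv1 F238189) F355691 (iv5 D147988) D147987 F334857 F187251 F321491 D145005
theorem F355697 : act 0 n145939 = n159900 := d20_10 (iv4 F341185) F355696 (iv4 D151657) (iv3 F342984) F227358 F225336 F318226 (iv1 F318224) F104636 (iv3 F229170)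
theorem F355698 : act 3 n112934 = n147990 := d20_3 (iv4 D142436) (iv1 F181607) (iv4 F330359) F349342 (iv3 F252153) (iv4 F341185) F355696 (iv4 D151657) (iv3 F342984) F227358
theorem F355699 : act 1 n114394 = n151657 := d15_0 (iv0 F355696) (iv7 F341578) F341580
theorem F355700 : act 5 n151657 = n145949 := d17_7 F210315 F181644 D133572 F314619 (iv4 F316817) D114394 F355699 (iv0 D145949) F324991
theorem F355701 : act 6 n145949 = n146496 := d21_3 D145005 F355696 F355700 (iv1 D146496) (iv6 D68676) D68675 D146492 F229817 (iv6 F314504) F321492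
theorem F355702 : act 5 n146496 = n157358 := d21_6 F336823 F333504 (iv5 F338626) (iv6 D145953) D145949 F355701 (iv1 D157358) F314441 (iv6 F114484) (iv1 F251435)
theorem F355703 : act 5 n105443 = n157357 := d9_8 F355702 F247675 (iv5 D105872) F77197 F54409 F312032 F215734 (iv4 F353422) F247670 (iv5 D105873) (iv4 F77203) (iv5 F54406) F312031 F215738 (iv4 F236507)
theorem E101835 : n146497 = n106481 := ((c17_5 (iv1 D62768) (iv5 D29696) F37542 D49201 D106481 (iv5 D146497) D146496 F355702 (iv0 F316749) F316751)).symm
theorem F355704 : act 5 n106481 = n68676 := (sb E101835 (iv5 D146497))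
theorem F355705 : act 0 n148915 = n145006 := d21_4 (iv5 F355704) (iv1 F193594) F340687 D148915 (iv6 D145006) D145005 F355696 F355700 F355701 (iv1 D146496)
theorem F355706 : act 4 n150304 = n148915 := d18_1 (iv1 F243220) F355705 F349974 F250242 D146610 F353441 (iv4 F324699) (iv0 F243194) D117164
theorem F355707 : act 3 n130589 = n148915 := d20_9 F349974 (iv1 D117880) (iv4 F184847) F316773 (iv1 F315703) F315704 (iv4 F352674) F204378 D130589 F355705
theorem F355708 : act 5 n105427 = n135668 := d21_0 F339448 F339446 (iv6 F339440) (iv1 F251440) F114484 (iv5 F314441) D157357 (iv5 F355703) (iv6 D105443) (iv1 F161822)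
theorem F355709 : act 2 n135668 = n105336 := d2_1 F355708 F161526 (iv2 F161818)
theorem F355710 : act 1 n135668 = n105334 := d15_0 (iv0 D105334) D105336 (iv2 F355709)
theorem F355711 : act 5 n105334 = n146342 := d17_7 D68624 D146349 F229907 (iv5 D146619) (iv4 F319422) F355708 F355710 (iv0 D146342) F104825
theorem F355712 : act 7 n146342 = n139967 := d13_2 (iv7 F336804) F355711 F334968
theorem F355713 : act 1 n144395 = n105446 := d17_8 (iv1 D48757) (iv5 F76635) D105334 F355711 F341044 F223188 F341087 D144395 (iv4 D105446)
theorem E101836 : n138694 = n105446 := (c21_1 D138694 (iv1 F355713) (iv5 D144395) (iv6 F182446) F318147 (iv6 D71080) (iv5 D32915) (iv1 F50894) D48976 D105937 F319262)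
theorem F355714 : act 2 n105446 = n84419 := (sb E101836 F353420)
theorem F355715 : act 5 n105446 = n65121 := (sb E101836 (iv5 D138694))
theorem E101837 : n105444 = n105426 := ((c1_3 D105446 F355714 (iv4 F235253) F161839)).symm
theorem F355716 : act 2 n105426 = n48757 := (sb E101837 F161839)
theorem F355717 : act 7 n105426 = n48756 := (sb E101837 (iv7 D105444))
theorem F355718 : act 7 n105440 = n121351 := d8_2 F355717 D105440 (iv3 F278217)
theorem E101838 : n105439 = n105425 := (c15_4 (iv0 D105425) D105426 F355717 D105439)
theorem F355719 : act 2 n105425 = n48756 := (sb E101838 (iv2 D105439))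
theorem F355720 : act 7 n105425 = n48757 := (sb E101838 (iv7 F161838))
theorem F355721 : act 2 n121351 = n149662 := d15_3 (iv0 F311506) (iv0 F340923) F355718
theorem F355722 : act 2 n105440 = n121350 := d15_3 (iv0 D121350) D121351 (iv7 F355718)
theorem F355723 : act 2 n106135 = n164462 := d1_3 F259113 F355722 F259181
theorem F355724 : act 7 n121350 = n149662 := d4_2 (iv7 F355718) F355722 (iv2 F355721)
theorem F355725 : act 7 n164463 = n106135 := d11_2 F355724 (iv4 F346747) (iv4 F259181)
theorem F355726 : act 2 n106136 = n164463 := d4_3 F355725 F355723 (iv7 F340931)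
theorem F355727 : act 5 n164462 = n128547 := d2_2 (iv5 F340465) F355723 (iv2 F226627)
theorem F355728 : act 3 n151632 = n114396 := d5_3 (iv4 F330359) F355698 F355694 (iv4 F331566) F226870
theorem F355729 : act 0 n114413 = n151649 := d20_10 (iv4 D151649) (iv1 F238502) (iv4 F355694) (iv3 F355698) (iv1 D112934) F82403 (iv4 F82414) D112946 F176125 D114413
theorem F355730 : act 5 n159732 = n151632 := d6_0 F355728 (iv5 F178424) (iv3 F258981)
theorem F355731 : act 2 n145939 = n186416 := d2_3 F355695 (iv2 D145938) D145939
theorem F355732 : act 5 n142671 = n151666 := d9_14 F355695 (iv4 F354832) F354836 F353550 (iv5 F312194) D143212 (iv5 F355205) (iv4 F355206) (iv5 D144940) (iv4 F183937) F329161 F220380 (iv5 F102727) D142671 (iv4 F355688)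
theorem F355733 : act 5 n90140 = n91048 := d12_3 D186416 F355695 (iv6 F354835) (iv6 D91048) (iv5 F136169)
theorem E101839 : n159728 = n143116 := ((c17_1 D143116 (iv5 F341556) (iv1 F341573) (iv5 D143459) (iv4 F321916) D151317 (iv0 F349278) F355695 (iv0 F341544) (iv4 D143118))).symm
theorem F355734 : act 0 n143116 = n186510 := (sb E101839 F341555)
theorem F355735 : act 4 n143116 = n76416 := (sb E101839 F251652)
theorem F355736 : act 5 n143116 = n181740 := (sb E101839 (iv5 F341556))
theorem F355737 : act 6 n143116 = n76414 := (sb E101839 (iv6 D159728))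
theorem F355738 : act 0 n118646 = n90140 := d21_4 (iv5 D26999) D26997 (iv5 F86354) D118646 F354835 (iv5 F355695) F349278 (iv5 D151317) (iv6 D71315) F52175
theorem F355739 : act 1 n91066 = n89025 := d17_6 (iv1 F337230) (iv5 F186609) F355738 F355733 F140087 D91066 (iv5 D89025) D89024 (iv4 F142399)
theorem F355740 : act 3 n119843 = n151515 := d20_5 F255576 F350263 F98424 F331640 (iv1 F189152) F238386 F355738 (iv4 F251581) F354945 (iv1 F255580)
theorem E101840 : n100353 = n91045 := ((c21_11 F238933 (iv1 D151945) F108129 (iv6 D46134) F64154 D89014 (iv5 F186609) F355738 F355733 (iv6 D91048) D91045)).symm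
theorem F355741 : act 2 n91045 = n88679 := (sb E101840 F349268)
theorem F355742 : act 5 n91045 = n151945 := (sb E101840 F238933)
theorem F355743 : act 6 n91045 = n46825 := (sb E101840 (iv6 D100353))
theorem F355744 : act 7 n91045 = n88678 := (sb E101840 F349269)
theorem F355745 : act 7 n98035 = n186042 := d8_2 F355744 (iv3 F151162) F288646
theorem F355746 : act 2 n186042 = n98030 := d15_3 (iv0 F151160) (iv0 F288976) F355745
theorem F355747 : act 7 n186037 = n98030 := d15_2 (iv0 F288977) F288974 (iv2 F355746)
theorem F355748 : act 2 n98035 = n186037 := d4_3 F355747 (iv2 F355746) (iv7 F355745)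
theorem F355749 : act 1 n186179 = n186042 := d15_1 (iv0 F288957) (iv7 F355745) F355748
theorem F355750 : act 6 n90282 = n186042 := d7_2 F355743 F138869 F288646
theorem F355751 : act 6 n98030 = n92579 := d3_2 F355750 F355746 F155675
theorem F355752 : act 2 n151945 = n98701 := d2_1 F355742 F349266 (iv2 F355741)
theorem E101841 : n186131 = n98700 := ((c15_2 F238937 F238938 F349271 F355752)).symm
theorem F355753 : act 2 n98700 = n151944 := (sb E101841 F349272)
theorem F355754 : act 5 n98700 = n88678 := (sb E101841 (iv5 D186131))
theorem F355755 : act 7 n98700 = n151945 := (sb E101841 F349271)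
theorem F355756 : act 6 n112908 = n98700 := d12_0 F355754 (iv6 F349281) (iv5 D69564) D69565 (iv5 F335869)
theorem F355757 : act 6 n186414 = n145939 := d21_3 F355754 (iv1 F140083) (iv5 F289196) F355697 F252154 (iv5 D105866) F77193 D71416 F107924 D98700
theorem F355758 : act 4 n98700 = n112909 := d10_1 F355756 (iv6 D112909) D112908
theorem F355759 : act 4 n157356 = n151944 := d1_2 F355758 (iv2 F247668) (iv2 F355753)
theorem F355760 : act 7 n151515 = n155453 := d8_2 (iv7 F189150) F355740 (iv3 D155453)
theorem F355761 : act 6 n155453 = n154382 := d14_1 F355760 F354934 (iv6 D151320) (iv7 F107959) D151515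
theorem F355762 : act 1 n123721 = n155453 := d15_1 F354955 (iv7 F355760) F238385
theorem F355763 : act 1 n155453 = n159696 := d15_1 F355762 (iv7 F251623) (iv2 F354947)
theorem F355764 : act 0 n123722 = n153244 := d20_7 (iv4 D119858) (iv1 F87258) D73921 D155453 (iv1 F355762) (iv3 D123721) D123722 F240701 (iv3 F240936) F354081
theorem F355765 : act 1 n98861 = n91066 := d15_0 F355739 (iv7 F287636) (iv2 F287638)
theorem F355766 : act 6 n159727 = n181739 := d12_2 F355737 D159727 (iv5 D181739) D181740 (iv5 F355736)
theorem E101842 : n159725 = n151515 := ((c21_4 (iv5 F90806) (iv1 F90809) (iv5 F107960) D151515 (iv1 D159725) (iv6 F355737) F355736 (iv1 F341573) (iv5 D143459) (iv6 F321918) F107806)).symm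
theorem F355767 : act 0 n151515 = n76414 := (sb E101842 (iv1 D159725))
theorem F355768 : act 1 n151515 = n76419 := (sb E101842 F251651)
theorem F355769 : act 7 n159724 = n151324 := d15_2 F355768 F251650 (iv2 F238385)
theorem F355770 : act 0 n159751 = n153532 := d18_2 (iv1 F114564) D159751 F241322 (iv5 F186609) (iv4 F238386) F355768 (iv4 D76419) F114549 F114547
theorem F355771 : act 1 n159747 = n153532 := d15_0 (iv0 F355770) (iv7 F283563) F283585
theorem F355772 : act 2 n155453 = n159724 := d4_3 F355769 (iv2 F238385) F355760
theorem F355773 : act 3 n155506 = n159724 := d8_3 F355769 F238043 (iv7 F319418)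
theorem F355774 : act 4 n151327 = n159724 := d11_3 F355769 F238044 D151327
theorem F355775 : act 0 n90140 = n151327 := d20_10 F355774 (iv1 F251650) (iv4 D76419) D76418 F251646 F68975 D43877 (iv1 F139587) (iv4 D90141) D90140
theorem E101843 : n159680 = n143102 := (c21_7 F355736 (iv1 F341573) (iv5 D143459) (iv6 F321918) F107806 D76395 D159680 (iv1 D143102) D143103 F225960 D143116)
theorem F355776 : act 2 n143102 = n151559 := (sb E101843 F251552)
theorem F355777 : act 3 n143102 = n131830 := (sb E101843 F352503)
theorem F355778 : act 5 n143102 = n76395 := (sb E101843 (iv5 D159680))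
theorem F355779 : act 1 n128656 = n143099 := d18_6 (iv1 F347363) F347365 (iv1 F193589) (iv4 F329095) F216330 F209315 F225954 D143102 F355778
theorem E101844 : n138005 = n30487 := (c21_11 D64866 D138024 F221283 D143099 (iv1 F355779) (iv6 F216233) F327508 (iv1 F169580) F169581 D64862 D138005)
theorem E101845 : n64864 = n64862 := ((D64864).symm.trans (sb E101844 (iv0 D138005)))
theorem F355780 : act 0 n64862 = n30487 := (sb E101845 (iv1 D64864))
theorem E101846 : n138006 = n137869 := ((D138006).symm.trans (sb E101845 F221084))
theorem E101847 : n138014 = n137980 := ((((iv2 F221236)).symm.trans (sb E101845 (iv2 F221274)))).symm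
theorem E101849 : n138016 = n138004 := ((((iv4 F221268)).symm.trans (sb E101845 D138016))).symm
theorem E101850 : n138017 = n138007 := (((D138007).symm.trans (sb E101845 D138017))).symm
theorem E101852 : n138009 = n138008 := (((D138008).symm.trans (sb E101845 F221269))).symm
theorem F355781 : act 0 n137869 = n64862 := (sb E101846 (iv1 D138006))
theorem F355782 : act 7 n137980 = n64863 := (sb E101847 (iv7 D138014))
theorem F355783 : act 0 n138004 = n67049 := (sb E101849 (iv1 F221277))
theorem F355784 : act 1 n138004 = n67047 := (sb E101849 F221276)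
theorem F355785 : act 5 n138004 = n65603 := (sb E101849 F221275)
theorem F355786 : act 1 n138007 = n138292 := (sb E101850 (iv0 F333081))
theorem F355787 : act 4 n138007 = n67171 := (sb E101850 F221278)
theorem F355788 : act 2 n138008 = n64863 := (sb E101852 (iv2 D138009))
theorem E101853 : n137915 = n130749 := (c21_5 (iv5 D14470) D14467 D30475 D64819 D137915 (iv6 F217179) F329460 (iv1 F355786) (iv5 D138007) (iv6 D64862) (iv1 D30486))
theorem F355789 : act 1 n130749 = n64819 := (sb E101853 (iv0 D137915))
theorem F355790 : act 3 n134882 = n137913 := d20_5 (iv4 D28736) D28734 (iv4 F48152) D63390 D134882 F221173 (iv1 F355789) F209315 (iv3 D128656) (iv1 D60507)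
theorem E101854 : n138042 = n134059 := ((c21_3 (iv5 F216330) F329092 (iv5 F355341) (iv6 D138042) (iv1 D64870) (iv6 D30488) (iv5 D14470) D14467 D30475 D64819 (iv1 F355789))).symm
theorem F355791 : act 6 n134059 = n64870 := (sb E101854 (iv6 D138042))
theorem E101855 : n138038 = n134063 := (c3_2 F355791 (iv2 F221295) (iv6 D134063) (iv2 F216071))
theorem F355792 : act 2 n134063 = n64870 := (sb E101855 F221295)
theorem F355793 : act 7 n134063 = n64869 := (sb E101855 (iv7 D138038))
theorem F355794 : act 6 n137911 = n134882 := d7_0 F355790 (iv6 D137913) D137911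
theorem F355795 : act 0 n137913 = n134902 := d21_4 F350425 F350424 (iv5 D137912) D137913 (iv6 F352552) (iv5 D140765) F180709 (iv5 F355785) (iv6 D138004) (iv1 F221262)
theorem E101856 : n138013 = n138000 := (c14_2 F355782 D138013 (iv7 D138000) (iv6 D64857) (iv7 F177222) D137980)
theorem F355796 : act 6 n138000 = n64863 := (sb E101856 (iv6 D138013))
theorem F355797 : act 5 n151446 = n147938 := d13_1 F355693 F231809 D147988
theorem F355798 : act 4 n151611 = n125197 := d16_4 F238521 F108004 (iv4 F107999) (iv5 F238483) F201279 (iv4 F231748) (iv5 F355797) (iv7 F355693) F355692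
theorem F355799 : act 5 n151669 = n147939 := d16_7 F231748 (iv5 F201279) (iv4 F355798) F238483 F107999 (iv5 F108004) (iv4 F238521) F231811 (iv2 F231808)
theorem F355800 : act 0 n151611 = n133500 := d20_7 (iv4 F316116) (iv1 F47166) (iv4 F49359) (iv3 F316488) (iv1 F92491) D125197 (iv4 F355798) F214684 (iv3 D62686) (iv1 F313605)
theorem F355801 : act 3 n147939 = n114194 := d6_1 F355799 (iv5 F330339) (iv3 F355224)
theorem F355802 : act 2 n114203 = n147986 := d0_3 F355801 F352129 D114203 (iv3 D147986) (iv2 F231810)
theorem E101857 : n119060 = n114203 := (c3_1 (iv6 F187328) F355802 (iv6 F347775) F347663)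
theorem F355803 : act 1 n114203 = n54790 := (sb E101857 (iv0 D119060))
theorem F355804 : act 6 n114203 = n114140 := (sb E101857 F187328)
theorem F355805 : act 3 n114140 = n114206 := d7_1 F355804 (iv6 D114206) D114203
theorem F355806 : act 6 n146576 = n151453 := d12_4 (iv6 F238184) F355797 (iv6 F231749) F231751 (iv5 D151453)
theorem F355807 : act 4 n179632 = n151432 := d16_0 (iv5 D151432) F107882 D71392 D151446 F355797 F231748 (iv5 F201279) F201280 D179632
theorem F355808 : act 3 n179632 = n167686 := d19_3 F338499 D151432 (iv4 F355807) (iv1 F348850) (iv5 D146645) F104909 (iv3 D32003) (iv1 F27830) (iv5 F50096) (iv4 D31795) (iv3 F50092) (iv1 F50772) (iv5 D28411) (iv4 D13556) D13555 F41376 (iv5 F85149) (iv4 F85485) D117531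
theorem F355809 : act 2 n151707 = n146576 := d3_3 F355806 F238205 D151707
theorem F355810 : act 4 n152058 = n146576 := d10_3 F355806 F238207 D152058
theorem F355811 : act 5 n147984 = n151707 := d2_0 F355809 (iv5 F231751) (iv2 F231813)
theorem F355812 : act 0 n151707 = n146406 := d17_2 F355207 F355811 (iv5 D146406) F104843 (iv5 F85419) D117416 (iv5 F183905) F314422 (iv4 F261818)
theorem F355813 : act 1 n151707 = n146578 := d17_6 (iv1 F332537) (iv5 F332535) F243193 D146100 F231814 F355811 F229877 (iv0 F338198) F338200
theorem F355814 : act 1 n147988 = n151665 := d15_0 (iv0 D151665) D151669 (iv2 F355692)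
theorem F355815 : act 1 n144940 = n151317 := d18_8 (iv1 F323600) (iv4 F347767) (iv1 F238176) F238173 (iv5 F238186) F355691 F355814 (iv4 F355206) (iv5 D151317)
theorem E101858 : n151608 = n137239 := (c17_3 (iv1 D71460) D71461 D151608 (iv5 F329161) F183937 D144940 F355815 (iv5 D151317) D151316 F353554)
theorem F355816 : act 1 n137239 = n71461 := (sb E101858 (iv0 D151608))
theorem F355817 : act 1 n117106 = n105382 := d15_1 (iv0 F355664) (iv7 F343304) (iv2 F343301)
theorem F355818 : act 1 n144971 = n105387 := d15_0 (iv0 F355664) F183162 D144971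
theorem F355819 : act 1 n105382 = n144971 := d15_0 F355818 (iv7 D105387) (iv2 F161708)
theorem F355820 : act 3 n144971 = n151316 := d20_5 (iv4 F136455) (iv1 F54604) (iv4 F76718) (iv3 F161718) (iv1 F355818) F353554 (iv1 D71460) F52286 F25473 D25624
theorem E101859 : n148122 = n120465 := (c20_1 (iv4 F231933) F355610 (iv4 F355645) F355644 F319334 (iv3 D52790) (iv4 F136455) (iv1 F54604) (iv4 F76718) (iv3 F161718) (iv1 F355818))
theorem F355821 : act 2 n120465 = n69397 := (sb E101859 (iv2 D148122))
theorem F355822 : act 4 n120465 = n144971 := (sb E101859 F231933)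
theorem F355823 : act 0 n158045 = n103009 := d18_2 F355665 (iv4 F248997) (iv4 D103009) D103010 F355645 (iv0 F355610) F355822 F355818 (iv5 F176087)
theorem F355824 : act 0 n103008 = n114413 := d20_4 (iv4 F248997) F355823 (iv4 D103009) D103008 (iv3 D114413) (iv4 F176125) F331482 F331475 (iv3 F176086) F355665
theorem F355825 : act 0 n117367 = n114876 := d21_10 F229785 (iv1 D146443) (iv5 F114477) (iv6 D76364) F55183 D54772 (iv5 F355637) F355824 F324996 (iv6 F319180)
theorem F355826 : act 2 n145952 = n114413 := d15_3 (iv0 F355824) F355634 (iv7 F229194)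
theorem F355827 : act 1 n145952 = n105413 := d15_0 (iv0 F251728) (iv7 F251729) (iv2 F355826)
theorem F355828 : act 6 n151657 = n131308 := d21_3 (iv5 D145952) D145949 (iv5 F355700) (iv1 D131308) (iv6 D61621) (iv5 D29196) F37052 D48740 (iv6 F161801) (iv1 F355827)
theorem F355829 : act 4 n131308 = n151659 := d10_1 F355828 (iv6 D151659) D151657
theorem E101860 : n146443 = n135705 := (c17_4 F218119 F335173 F355825 F229785 (iv4 D135705) (iv5 F349125) F218282 (iv5 D135748) F99225 D135539)
theorem F355830 : act 0 n135705 = n68659 := (sb E101860 (iv1 D146443))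
theorem F355831 : act 1 n135705 = n135611 := (sb E101860 (iv0 F333173))
theorem F355832 : act 5 n135705 = n114876 := (sb E101860 (iv5 F229785))
theorem F355833 : act 2 n135508 = n135700 := d15_3 F333180 (iv0 F355830) (iv7 F349105)
theorem F355834 : act 6 n135700 = n146438 := d3_2 (iv6 F335896) F355833 (iv2 F229782)
theorem F355835 : act 6 n102980 = n185912 := d21_5 F144575 (iv1 F68915) D43887 D93879 F355663 F288408 (iv1 F288291) (iv5 F288293) (iv6 D93881) (iv1 F144577)
theorem E101861 : n176512 = n102980 := ((c21_8 F319751 (iv1 F214719) F319735 (iv6 F324633) (iv1 D48732) D48733 (iv5 F144715) F355663 (iv5 D176512) (iv6 D84161) (iv1 F128914))).symm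
theorem F355836 : act 5 n102980 = n84161 := (sb E101861 (iv5 D176512))
theorem E101862 : n110619 = n84164 := (c17_3 (iv1 D69150) D69152 (iv1 F171209) (iv5 D84164) (iv4 F129198) (iv5 F355836) (iv0 F355663) F144715 D105399 F347783)
theorem E101863 : n176523 = n51008 := ((D176523).symm.trans (sb E101862 (iv1 D110619)))
theorem E101864 : n176524 = n69152 := ((D176524).symm.trans (sb E101862 F171209))
theorem F355837 : act 1 n51008 = n84164 := (sb E101863 (iv0 D176523))
theorem F355838 : act 0 n69152 = n84164 := (sb E101864 (iv1 D176524))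
theorem F355839 : act 5 n113228 = n125605 := d17_7 F355838 (iv5 D84164) F343353 (iv5 F105258) F82571 D52265 D113228 F231344 (iv4 D147555)
theorem E101865 : n167599 = n105396 := (c21_4 F298345 (iv1 F123592) D80432 D167599 F161731 (iv6 F308681) D69152 F355838 (iv5 D84164) (iv6 D38792) (iv1 F59520))
theorem F355840 : act 6 n105396 = n80432 := (sb E101865 (iv6 D167599))
theorem F355841 : act 7 n110618 = n112572 := d15_2 (iv0 F355838) F171206 F330301
theorem F355842 : act 2 n112573 = n110618 := d4_3 F355841 F330301 (iv7 F330315)
theorem F355843 : act 7 n158707 = n114454 := d14_4 (iv7 F161730) F355840 F123627 D158707 (iv6 D114454)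
theorem F355844 : act 7 n153907 = n167592 := d4_2 F355843 (iv2 F241886) F263846
theorem F355845 : act 3 n167592 = n153915 := d8_1 F355844 (iv7 D153915) (iv3 F241887)
theorem F355846 : act 4 n167592 = n164200 := d11_1 F355844 F258796 (iv4 F241888)
theorem F355847 : act 1 n179255 = n167592 := d15_1 (iv0 F350633) (iv7 F355844) F241886
theorem F355848 : act 6 n174847 = n147555 := d21_9 (iv5 F355839) (iv1 D113228) (iv5 D52265) F40153 D25429 D52386 F341730 D177612 F339193 (iv1 F231344)
theorem F355849 : act 5 n113485 = n113240 := d21_2 D52385 D113485 F328795 D172487 (iv6 F343347) (iv5 F355839) (iv1 D113228) (iv5 D52265) F40153 D25429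
theorem F355850 : act 2 n112698 = n113485 := d2_3 F355849 (iv2 D113240) (iv5 F175387)
theorem F355851 : act 3 n107225 = n113485 := d6_3 F355849 (iv3 F204591) (iv5 F328812)
theorem F355852 : act 6 n128728 = n113485 := d12_0 F355849 F328795 (iv5 F127217) (iv6 F330698) (iv5 F332755)
theorem F355853 : act 7 n128594 = n113485 := d13_0 F355849 F176428 F345757
theorem E101866 : n174575 = n113176 := (c17_7 D25429 D52385 D113485 F355849 F328794 (iv5 F128536) D174575 (iv5 D113176) (iv0 D52240) F40122)
theorem F355854 : act 0 n113176 = n83425 := (sb E101866 (iv1 D174575))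
theorem F355855 : act 0 n173378 = n113498 := d17_2 (iv1 F339191) (iv5 F271859) (iv5 D113498) (iv4 D52389) D52390 F176681 F355849 F176429 (iv4 F344706)
theorem E101867 : n113491 = n113366 := ((c21_4 F270684 F303720 F301020 (iv6 F345732) (iv1 D113491) (iv6 D52386) D52385 D113485 F355849 F328795 D172487)).symm
theorem F355856 : act 0 n113366 = n52386 := (sb E101867 (iv1 D113491))
theorem E101868 : n157795 = n113490 := (c15_4 (iv0 D113490) (iv0 F355856) (iv7 F345735) F258047)
theorem F355857 : act 2 n113490 = n163695 := (sb E101868 (iv2 F258047))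
theorem F355858 : act 4 n113490 = n101730 := (sb E101868 (iv4 F334389))
theorem F355859 : act 6 n113490 = n75181 := (sb E101868 (iv6 D157795))
theorem F355860 : act 7 n113490 = n172519 := (sb E101868 F334382)
theorem E101869 : n113486 = n107171 := ((c21_1 D107171 (iv1 D113486) (iv5 D52385) D52386 D113490 F355859 (iv5 F332752) (iv1 F345230) (iv5 F345227) (iv6 F345241) (iv1 D107169))).symm
theorem F355861 : act 0 n107171 = n52385 := (sb E101869 (iv1 D113486))
theorem F355862 : act 1 n107171 = n52390 := (sb E101869 F176677)
theorem F355863 : act 0 n113181 = n110397 := d17_2 (iv1 F176340) D113181 (iv5 D110397) F80318 D107171 F355862 (iv5 D52390) F82747 (iv4 F176338)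
theorem F355864 : act 4 n125372 = n107169 := d17_9 (iv1 D107169) D107171 F355861 (iv5 D52385) D52384 D113482 (iv0 F346497) F346501 (iv0 F339187)
theorem F355865 : act 0 n158336 = n113177 := d21_4 (iv5 D38795) D38793 (iv5 F113316) D158336 (iv6 D113177) D113176 F355854 F128536 (iv6 D82580) (iv1 F59685)
theorem F355866 : act 1 n113176 = n110397 := d15_1 (iv0 F355854) (iv7 F175522) F328393
theorem F355867 : act 1 n101730 = n113177 := d15_0 (iv0 F355865) F334385 (iv2 F334388)
theorem F355868 : act 4 n113485 = n141140 := d5_2 (iv4 F165245) F355851 F224109 F329150 F167611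
theorem F355869 : act 0 n134766 = n154237 := d20_4 (iv4 D30971) F48081 (iv4 F98593) (iv3 F216835) (iv3 F352524) (iv4 D113487) D113485 F355868 F224109 F329148
theorem F355870 : act 4 n147556 = n174847 := d10_3 F355848 (iv4 D147555) D147556
theorem F355871 : act 0 n159215 = n174847 := d20_1 (iv4 F250713) (iv4 F355870) F231347 D147561 F308690 D173935 F353090 (iv4 F346372) (iv3 D174837) F318159
theorem F355872 : act 5 n147556 = n153589 := d18_4 F318159 (iv4 F250713) F355871 (iv4 F355870) (iv4 F301489) (iv0 F354483) F345499 F342112 F342124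
theorem F355873 : act 5 n153207 = n112575 := d2_2 F355872 F241413 (iv2 F231346)
theorem F355874 : act 3 n112577 = n153207 := d6_3 F355873 F175149 D112577
theorem F355875 : act 0 n150250 = n153207 := d21_1 F345740 F355873 (iv6 D112575) D112572 F330302 F301018 F300725 F300671 D82595 (iv1 F334387)
theorem F355876 : act 6 n113183 = n163698 := d21_5 F226692 (iv1 D69038) D69040 (iv6 F105262) D113183 F345740 F355875 F355873 (iv6 D112575) D112572
theorem F355877 : act 0 n122797 = n133102 := d18_2 F355875 F240568 F213752 (iv5 F316544) (iv4 F327210) F345737 F258048 D163698 F345740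
theorem F355878 : act 3 n122797 = n138258 := d20_9 F242141 (iv1 D154076) (iv4 F319001) F319000 (iv1 F240483) D153296 F240857 F355875 F240568 (iv1 F325448)
theorem F355879 : act 1 n152167 = n153207 := d15_0 (iv0 F355875) (iv7 F248371) F338861
theorem F355880 : act 5 n172521 = n152167 := d17_7 F355877 (iv5 F346589) F346585 (iv5 D99713) F334406 F304295 D172521 F355879 F240568
theorem F355881 : act 3 n152173 = n172521 := d6_3 F355880 F239244 D152173
theorem F355882 : act 4 n177446 = n172521 := d18_3 F333774 (iv4 F248709) (iv1 F342134) F355880 (iv4 F345837) (iv0 D153325) (iv4 F240889) (iv0 F334765) F313454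
theorem E101870 : n172521 = n163697 := ((c21_2 F328022 D163697 F355880 (iv6 D152167) (iv1 F313637) (iv6 D99474) F305455 (iv1 F128269) (iv5 F304281) (iv6 F334397) F334393)).symm
theorem F355883 : act 0 n163697 = n82595 := (sb E101870 (iv1 D172521))
theorem F355884 : act 3 n163697 = n152173 := (sb E101870 (iv3 F355881))
theorem F355885 : act 4 n163697 = n177446 := (sb E101870 (iv4 F355882))
theorem F355886 : act 5 n163697 = n152167 := (sb E101870 F355880)
theorem F355887 : act 5 n137654 = n153296 := d16_7 F345837 (iv5 F355886) F355885 (iv5 D177446) (iv4 F325664) F352336 (iv4 F220824) F240858 (iv2 F345836)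
theorem F355888 : act 4 n163698 = n177442 := d16_6 (iv4 F325664) F352336 (iv4 F220824) F355887 F240857 (iv5 F345740) (iv5 D177442) D177444 F276865
theorem F355889 : act 6 n177442 = n106208 := d10_2 F355876 F355888 (iv4 F176346)
theorem F355890 : act 0 n177442 = n157827 := d18_2 (iv1 F334387) F355888 F248709 F329144 D174764 F342330 (iv4 F334396) (iv0 D162737) F304295
theorem F355891 : act 3 n177442 = n170244 := d20_3 F270710 (iv1 F334387) F355888 (iv1 D170244) (iv3 D81648) (iv4 D37317) (iv1 F126093) D76181 (iv3 F327209) F334680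
theorem E101871 : n174082 = n150251 := ((c19_4 D84538 D177442 (iv4 F355888) (iv3 F345738) (iv1 D174082) (iv5 D83221) (iv4 F304759) F190683 (iv1 D28683) F38104 (iv4 F309303) (iv3 F51791) F130976 F309753 (iv4 D38972) (iv3 D18499) (iv1 D8695) D8696 D18505 D38996)).symm
theorem F355892 : act 0 n150251 = n83221 := (sb E101871 (iv1 D174082))
theorem F355893 : act 0 n113356 = n170244 := d20_4 F82739 (iv1 F77449) (iv4 F165833) D113356 (iv3 F355891) (iv4 F355888) (iv1 D163698) (iv4 F258048) (iv3 F345736) F161150
theorem F355894 : act 5 n170244 = n177440 := d6_2 D177442 F355891 (iv3 D177440)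
theorem E101872 : n170244 = n106211 := (c7_2 (iv6 F355889) F355891 (iv6 D106211) D106208)
theorem F355895 : act 0 n106211 = n81648 := (sb E101872 (iv1 D170244))
theorem F355896 : act 1 n106211 = n113356 := (sb E101872 (iv0 F355893))
theorem F355897 : act 3 n106211 = n177442 := (sb E101872 (iv3 F355891))
theorem F355898 : act 5 n106211 = n177440 := (sb E101872 F355894)
theorem F355899 : act 4 n110469 = n106211 := d18_1 (iv1 F170874) F355895 (iv4 F299386) (iv5 F331155) F82739 F168059 (iv4 F168061) (iv0 D52318) D52320
theorem F355900 : act 3 n181145 = n110469 := d20_5 (iv4 F129663) (iv1 F296351) (iv4 F122750) (iv3 F319349) (iv1 F282150) F355899 F355895 (iv4 F299386) (iv3 D84524) (iv1 F129662)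
theorem F355901 : act 6 n106209 = n110469 := d10_0 F355899 (iv6 D106211) D106209
theorem F355902 : act 5 n110466 = n106209 := d12_5 F355901 (iv5 D110469) (iv6 D50939) D50938 D110466
theorem F355903 : act 5 n129048 = n110468 := d21_0 (iv1 D110468) D110469 (iv6 F355901) F343540 (iv6 D128691) (iv5 D60524) F46376 (iv5 F46426) D60672 D129048
theorem F355904 : act 1 n126176 = n129048 := d17_6 (iv1 F92979) D110476 F170887 (iv5 D59145) D59144 D126176 F355903 F176524 F176522
theorem F355905 : act 4 n129057 = n129048 := d18_3 F348399 (iv4 F95270) D129057 F355903 F170872 F100374 (iv4 F176528) (iv0 F202040) (iv5 F348397)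
theorem F355906 : act 0 n177446 = n172537 := d18_2 D163697 F355885 F270723 F333785 D174768 (iv0 F351793) (iv4 F351791) F334398 F328022
theorem F355907 : act 5 n172537 = n162802 := d17_3 (iv1 F276863) D177446 F355906 (iv4 D162802) D162803 F345842 (iv5 D84602) F129771 (iv4 F276861)
theorem F355908 : act 3 n166619 = n172537 := d6_3 F355907 F257079 F302531
theorem F355909 : act 7 n174817 = n172537 := d13_0 F355907 (iv7 F276717) (iv5 F346595)
theorem F355910 : act 6 n125400 = n174817 := d14_5 F355909 (iv6 D172537) (iv7 F329446) (iv6 D157845) (iv7 F256547)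
theorem F355911 : act 2 n172537 = n174830 := d16_9 (iv4 D174830) (iv5 D83518) D83517 (iv5 F346594) F346593 (iv5 F333804) (iv4 F276715) (iv5 F346595) F355909
theorem F355912 : act 2 n174817 = n157827 := d15_3 (iv0 F355890) (iv0 F342132) (iv7 F355909)
theorem F355913 : act 7 n157827 = n174830 := d4_2 (iv7 F355909) F355912 (iv2 F355911)
theorem F355914 : act 6 n172536 = n166619 := d7_0 F355908 (iv6 D172537) D172536
theorem F355915 : act 6 n159216 = n170682 := d12_4 F355914 (iv5 F302531) F192317 D159216 (iv5 F270722)
theorem F355916 : act 3 n170683 = n159216 := d7_3 F355915 (iv3 D170682) D170683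
theorem E101873 : n170682 = n166490 := (c10_1 F355915 (iv4 D166490) D166492 (iv4 F341689))
theorem F355917 : act 3 n166490 = n81820 := (sb E101873 (iv3 D170682))
theorem F355918 : act 5 n166490 = n172536 := (sb E101873 (iv5 F270722))
theorem F355919 : act 6 n166490 = n159216 := (sb E101873 (iv6 F355915))
theorem F355920 : act 0 n166490 = n163515 := d20_10 F257792 (iv1 F334029) (iv4 F122615) (iv3 D79865) (iv1 F297622) F323361 (iv4 D83962) (iv1 F118930) D81820 (iv3 F355917)
theorem E101874 : n166488 = n166399 := ((c20_10 D166490 F355920 F257792 (iv3 F327416) (iv1 D110601) (iv3 F171174) F171175 (iv1 F353506) (iv4 D166400) D166399 (iv1 D166488))).symm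
theorem F355921 : act 0 n166399 = n79919 := (sb E101874 (iv1 D166488))
theorem F355922 : act 3 n163515 = n112839 := d20_5 (iv4 D83962) (iv1 F118930) D81820 (iv3 F355917) F355920 F175701 (iv1 F82626) (iv4 F82647) (iv3 F328006) F151640
theorem F355923 : act 2 n147797 = n163515 := d0_5 F355922 (iv2 F175702) F345716 F281849 (iv3 F350076)
theorem F355924 : act 7 n113203 = n163515 := d8_0 F355922 F175704 (iv3 F176368)
theorem F355925 : act 4 n113249 = n104822 := d19_6 (iv1 D147053) (iv5 F334017) (iv4 F257792) F355922 (iv1 F175703) D113249 (iv3 D104822) (iv1 F135304) (iv5 F147461) F147462 D97078 F149761 F147354 (iv4 F137664) (iv3 D89703) (iv1 F64630) D41909 D89725 F345962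
theorem F355926 : act 3 n125684 = n178284 := d20_5 F82655 (iv1 D27986) (iv4 F45252) (iv3 F93068) D125684 (iv4 D178284) F334030 (iv4 F257792) F355922 (iv1 F175703)
theorem F355927 : act 2 n180024 = n125684 := d0_5 F355926 F277833 F130054 F297619 D180024
theorem F355928 : act 4 n95325 = n125684 := d5_0 F355926 (iv4 D178284) F130049 (iv4 F323554) (iv3 F146962)
theorem F355929 : act 2 n166360 = n95325 := d1_3 F355928 (iv2 F355927) F299405
theorem F355930 : act 7 n125684 = n95324 := d11_2 D95325 F355928 (iv4 D95324)
theorem E101875 : n125662 = n104792 := (c18_8 (iv1 F76199) (iv4 F143096) F143098 (iv4 F70047) (iv5 F146963) F355928 (iv0 D125684) (iv4 F202138) F160602 (iv5 D103111))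
theorem F355931 : act 3 n104792 = n58843 := (sb E101875 F202137)
theorem F355932 : act 4 n104792 = n58854 := (sb E101875 F202138)
theorem F355933 : act 6 n104792 = n58841 := (sb E101875 (iv6 D125662))
theorem E101876 : n141284 = n125660 := ((c3_2 F355933 D125660 F350470 (iv2 F251824))).symm
theorem F355934 : act 5 n125660 = n66271 := (sb E101876 (iv5 D141284))
theorem F355935 : act 6 n125660 = n103119 := (sb E101876 F350470)
theorem F355936 : act 4 n103119 = n125679 := d10_1 F355935 (iv6 D125679) (iv4 F202135)
theorem F355937 : act 6 n136258 = n155949 := d21_9 (iv5 F354588) (iv1 D95856) D95857 F147538 D103119 (iv6 F355935) F355934 F162260 (iv5 F349586) (iv1 D155949)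
theorem F355938 : act 2 n155949 = n113453 := d3_1 F355937 F349593 (iv2 F349590)
theorem F355939 : act 6 n126218 = n125824 := d10_2 F355937 (iv4 F244963) F219306
theorem E101877 : n125826 = n59172 := (c7_3 F355939 (iv3 D125824) D125826 D126218)
theorem E101878 : n126220 = n58922 := ((D126220).symm.trans (sb E101877 (iv6 D125826)))
theorem F355940 : act 6 n58922 = n59172 := (sb E101878 (iv6 D126220))
theorem F355941 : act 6 n126217 = n125823 := d3_2 F355940 D126217 (iv2 D125823)
theorem F355942 : act 6 n111695 = n109132 := d10_2 F355940 (iv4 F173416) F169122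
theorem E101879 : n125905 = n125825 := (c21_8 D113342 F349669 (iv5 F349670) (iv6 F349673) (iv1 F354274) (iv6 D125669) (iv5 F93157) D125905 (iv5 D125825) F355940 (iv1 F93372))
theorem F355943 : act 1 n125825 = n58952 := (sb E101879 (iv0 D125905))
theorem E101880 : n125711 = n125623 := ((c20_11 F202209 (iv1 F355943) F202375 (iv3 D125880) (iv1 D58945) F45276 D28019 F45284 (iv4 F45282) (iv3 F92993) D125623)).symm
theorem F355944 : act 3 n125623 = n125625 := (sb E101880 F202208)
theorem F355945 : act 4 n125623 = n58952 := (sb E101880 F202209)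
theorem F355946 : act 5 n125623 = n58865 := (sb E101880 (iv5 D125711))
theorem F355947 : act 7 n125830 = n126224 := d14_4 F202989 F355941 (iv7 F202332) D125830 (iv6 D126224)
theorem F355948 : act 7 n113454 = n155949 := d15_2 (iv0 D113453) D113454 F355938
theorem F355949 : act 7 n155948 = n113453 := d15_2 (iv0 F244964) F244962 (iv2 F355938)
theorem F355950 : act 2 n113454 = n155948 := d4_3 F355949 (iv2 F355938) (iv7 F355948)
theorem F355951 : act 7 n126218 = n113333 := d11_2 F355948 (iv4 F244963) F176639
theorem E101881 : n113337 = n59172 := (c8_3 F355951 (iv3 D113333) D113337 D126218)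
theorem E101882 : n126217 = n52313 := ((D126217).symm.trans (sb E101881 F176539))
theorem E101883 : n126221 = n52312 := ((D126221).symm.trans (sb E101881 (iv7 D113337)))
theorem F355952 : act 2 n52313 = n59172 := (sb E101882 (iv2 D126217))
theorem E101884 : n125823 = n113341 := (((D113341).symm.trans (sb E101882 F355941))).symm
theorem E101885 : n113332 = n59173 := ((F176536).symm.trans (sb E101882 (iv7 F202989)))
theorem F355953 : act 7 n52312 = n59172 := (sb E101883 (iv7 D126221))
theorem F355954 : act 2 n113341 = n58922 := (sb E101884 (iv2 D125823))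
theorem F355955 : act 7 n113341 = n58923 := (sb E101884 (iv7 F202332))
theorem F355956 : act 2 n59173 = n52312 := (sb E101885 (iv2 D113332))
theorem F355957 : act 7 n59173 = n52313 := (sb E101885 (iv7 F176536))
theorem F355958 : act 7 n113338 = n126222 := d8_2 F355957 D113338 (iv3 D126222)
theorem F355959 : act 7 n113339 = n111603 := d11_2 F355957 D113339 F173158
theorem F355960 : act 7 n113263 = n126223 := d13_2 F355957 (iv5 F220873) (iv5 D126223)
theorem F355961 : act 2 n126223 = n113262 := d15_3 (iv0 D113262) D113263 F355960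
theorem F355962 : act 2 n113263 = n126219 := d15_3 F219116 (iv0 F219113) (iv7 F355960)
theorem F355963 : act 7 n126219 = n113262 := d4_2 (iv7 F355960) F355962 (iv2 F355961)
theorem E101886 : n111607 = n111326 := (c8_3 F355959 (iv3 D111603) D111607 (iv3 F176540))
theorem F355964 : act 2 n111326 = n51475 := (sb E101886 F173159)
theorem F355965 : act 7 n111326 = n51474 := (sb E101886 (iv7 D111607))
theorem F355966 : act 2 n111603 = n113334 := d15_3 (iv0 F176538) (iv0 F203209) F355959
theorem E101887 : n111602 = n111327 := (c15_4 F172773 F172769 F355965 D111602)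
theorem F355967 : act 2 n111327 = n51474 := (sb E101887 (iv2 D111602))
theorem F355968 : act 7 n111327 = n51475 := (sb E101887 (iv7 F173157))
theorem F355969 : act 2 n113336 = n126224 := d3_3 (iv6 D126224) F355956 D113336
theorem F355970 : act 5 n126224 = n129534 := d2_2 (iv5 F354370) F355969 (iv2 F316699)
theorem E101888 : n130236 = n125830 := (c15_2 F354368 F208758 F355947 (iv2 F355969))
theorem F355971 : act 0 n125830 = n61152 := (sb E101888 (iv1 F208758))
theorem F355972 : act 1 n125830 = n61132 := (sb E101888 (iv0 D130236))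
theorem F355973 : act 5 n125830 = n132315 := (sb E101888 (iv5 F212212))
theorem F355974 : act 4 n128362 = n125830 := d16_2 D60349 D128362 F355973 (iv4 D132315) (iv5 F312121) (iv4 D125157) D125158 F201161 F94529
theorem F355975 : act 6 n109035 = n128362 := d10_0 F355974 (iv6 D125830) (iv4 F169043)
theorem F355976 : act 3 n128362 = n109038 := d7_1 F355975 (iv6 D109038) D109035
theorem F355977 : act 5 n128392 = n109035 := d12_5 F355975 (iv5 D128362) F94873 D60361 D128392
theorem F355978 : act 3 n109037 = n128392 := d6_3 F355977 (iv3 D109035) D109037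
theorem F355979 : act 6 n128391 = n109037 := d7_0 F355978 (iv6 D128392) (iv3 F206509)
theorem F355980 : act 5 n109038 = n128361 := d12_3 F355979 (iv5 D109037) D109038 F206484 D128391
theorem F355981 : act 0 n111761 = n109038 := d19_0 F355980 F206483 (iv3 D60429) F46266 (iv5 F87839) (iv4 D55545) (iv3 F87835) F131071 (iv5 F131189) (iv4 F305941) (iv3 F305207) (iv1 F232874) F337595 F170844 (iv3 F170843) F222464 (iv5 D139279) (iv4 F166448) D111761
theorem E101889 : n125906 = n125829 := ((c21_7 (iv5 F299391) F299389 (iv5 F354346) (iv6 D130239) (iv1 F355972) (iv6 D125830) D125829 (iv1 D125906) F93157 D125669 F354273)).symm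
theorem F355982 : act 0 n125829 = n58952 := (sb E101889 (iv1 D125906))
theorem F355983 : act 1 n108619 = n151173 := d17_6 (iv1 F168916) D125829 F355982 F93157 F93048 D108619 (iv5 F354401) F168539 (iv4 F168912)
theorem F355984 : act 6 n108933 = n140773 := d21_3 (iv5 D108619) D108616 F219105 F223866 (iv6 F350043) (iv5 D128378) F94879 D71245 D151173 (iv1 F355983)
theorem F355985 : act 0 n130240 = n126224 := d17_2 F208711 (iv5 F208757) F355970 (iv4 D129534) F312119 F201167 F312118 F316693 (iv4 F316696)
theorem F355986 : act 1 n113564 = n126224 := d17_6 (iv1 F96709) F312960 F310685 (iv5 D61120) D61119 (iv5 F343565) F355970 (iv0 F207674) (iv4 D129224)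
theorem F355987 : act 7 n111695 = n113334 := d11_2 F355953 (iv4 F173416) (iv4 D113334)
theorem F355988 : act 2 n113339 = n111695 := d4_3 F355987 (iv2 F355966) (iv7 F355959)
theorem E101890 : n111696 = n111603 := (c15_2 (iv0 D111695) D111696 (iv7 F355959) F355988)
theorem F355989 : act 0 n111603 = n51506 := (sb E101890 (iv1 D111696))
theorem E101891 : n126241 = n126222 := (c20_5 (iv4 D112339) (iv1 F170118) F170120 D59183 D126241 (iv3 D126222) (iv4 F173158) F355989 D111698 F173417 (iv1 F174755))
theorem F355990 : act 1 n126222 = n59183 := (sb E101891 (iv0 D126241))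
theorem F355991 : act 5 n126222 = n107222 := (sb E101891 F342894)
theorem F355992 : act 3 n107222 = n126223 := d6_1 F355991 (iv5 D126223) D126222
theorem F355993 : act 1 n127090 = n126222 := d17_6 (iv1 D113861) (iv5 F328411) (iv1 D28298) D28299 D59641 D127090 F355991 (iv0 F350307) F203032
theorem F355994 : act 2 n113338 = n126242 := d15_3 F342887 F355993 (iv7 F355958)
theorem F355995 : act 6 n126223 = n129086 := d7_2 (iv6 F165240) F355992 (iv3 D129086)
theorem F355996 : act 0 n108902 = n134002 := d19_12 (iv1 F77661) D49538 D107222 F355992 F219113 F93400 (iv4 F80984) (iv3 D51325) (iv1 F80306) (iv5 F81203) F81204 (iv3 F168907) (iv5 D134002) D134001 (iv3 F347213) F347210 (iv5 F344619) (iv4 F163618) F163617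
theorem F355997 : act 1 n139410 = n134002 := d15_0 (iv0 F355996) F168908 (iv2 F222624)
theorem F355998 : act 1 n125679 = n95324 := d18_6 F283795 F137955 D93939 (iv4 F288024) F288027 F355936 (iv4 D95324) D95323 (iv5 F251852)
theorem F355999 : act 0 n125679 = n180024 := d20_1 F355936 F299405 (iv3 D166360) F298067 (iv3 F324883) (iv4 F325903) (iv1 F326709) (iv4 D47807) (iv3 F75102) D103119
theorem F356000 : act 5 n95310 = n166360 := d18_4 D47803 (iv4 F135534) (iv1 F143150) (iv4 F146952) (iv4 F299405) (iv0 F355999) (iv4 F355936) (iv0 D103119) (iv5 D47805)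
theorem F356001 : act 7 n166360 = n95309 := d13_2 D95310 F356000 (iv5 D95309)
theorem F356002 : act 0 n166360 = n95323 := d17_2 F146956 F356000 (iv5 F251852) F251851 F138557 F94262 F82937 D88465 (iv4 F135438)
theorem F356003 : act 4 n95309 = n166313 := d11_1 F356001 (iv7 F299406) F299405
theorem F356004 : act 2 n166313 = n95324 := d1_1 F356003 (iv4 D95324) (iv2 F146950)
theorem E101892 : n166313 = n125685 := (c20_7 F173606 (iv1 F81382) (iv4 F81581) (iv3 F325353) (iv1 F129247) (iv3 F324886) F356003 (iv1 D125685) (iv4 F355932) F355931 (iv1 F173609))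
theorem F356005 : act 2 n125685 = n95324 := (sb E101892 F356004)
theorem F356006 : act 3 n125685 = n79861 := (sb E101892 (iv3 D166313))
theorem F356007 : act 4 n125685 = n95309 := (sb E101892 (iv4 F356003))
theorem F356008 : act 7 n125685 = n180024 := (sb E101892 (iv7 F299406))
theorem F356009 : act 3 n166320 = n95324 := d0_4 F356006 F122609 D79865 D166320 (iv2 F356005)
theorem F356010 : act 6 n105285 = n125685 := d7_0 F356006 D166315 (iv3 F347424)
theorem E101893 : n113655 = n95324 := ((c3_2 F356010 F356005 (iv6 D113655) (iv2 F173638))).symm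
theorem F356011 : act 6 n95324 = n52474 := (sb E101893 (iv6 D113655))
theorem F356012 : act 6 n95309 = n109547 := d10_2 F356010 F356007 F169501
theorem F356013 : act 6 n113652 = n166320 := d7_2 F356011 D113652 F356009
theorem F356014 : act 2 n166322 = n113652 := d3_3 F356013 (iv2 D166320) D166322
theorem F356015 : act 1 n95324 = n125687 := d15_1 F355998 (iv7 D125687) (iv2 F202164)
theorem F356016 : act 1 n125687 = n180024 := d15_1 F356015 (iv7 F356008) F356005
theorem F356017 : act 4 n125687 = n103120 := d18_7 (iv1 F76200) (iv4 F143148) (iv1 D43417) (iv4 F33423) D44526 D95324 F356015 F160598 (iv5 D104790)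
theorem E101894 : n178281 = n113203 := (c20_9 (iv4 D112838) (iv1 F82313) (iv4 F93074) (iv3 F202167) (iv1 F356015) (iv3 F356009) F261912 (iv1 F130052) D178281 F176368 F175700)
theorem F356018 : act 4 n113203 = n84846 := (sb E101894 (iv4 D178281))
theorem F356019 : act 3 n111817 = n103120 := d20_5 D95361 (iv1 F158391) F158389 F319399 (iv1 F173600) (iv4 F356017) (iv1 F356015) (iv4 D95324) F70045 D44540
theorem F356020 : act 5 n95752 = n111817 := d6_0 F356019 (iv5 F283805) F283803
theorem F356021 : act 7 n125664 = n95752 := d13_0 F356020 F173601 D125664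
theorem F356022 : act 2 n166335 = n113203 := d1_3 F356018 (iv2 F335058) D166335
theorem E101895 : n178280 = n108820 := (c5_2 F356018 D178280 F168777 F79614 (iv4 F82616) (iv3 F176368))
theorem F356023 : act 3 n108820 = n84846 := (sb E101895 (iv3 D178280))
theorem F356024 : act 3 n181236 = n166335 := d0_0 F356022 F176368 (iv2 F93050) (iv3 F202154) F354275
theorem F356025 : act 7 n147797 = n166335 := d4_0 F356022 F355924 (iv2 F355923)
theorem F356026 : act 5 n166335 = n181231 := d13_1 F356025 (iv7 D181231) (iv5 F350077)
theorem F356027 : act 6 n121117 = n147797 := d14_5 F356025 F341864 (iv7 F202008) F329025 (iv7 F254244)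
theorem F356028 : act 5 n147065 = n178092 := d16_5 F257792 F334017 F105123 D68956 D147065 (iv4 F282288) (iv5 F356026) (iv7 F356025) F355923
theorem F356029 : act 2 n178092 = n147907 := d2_1 F356028 (iv5 D147907) (iv2 F230543)
theorem F356030 : act 3 n124225 = n147065 := d6_3 F356028 (iv3 D178092) (iv5 F304970)
theorem F356031 : act 4 n152782 = n124225 := d5_0 F356030 (iv4 D147065) F105126 (iv4 F108550) (iv3 F239988)
theorem F356032 : act 6 n147066 = n124225 := d7_0 F356030 F230544 D147066
theorem F356033 : act 3 n178154 = n141913 := d20_5 (iv4 F306752) F306750 (iv4 D84805) (iv3 F130008) D178154 F322939 (iv1 F200566) D147065 (iv3 F356030) F304969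
theorem F356034 : act 6 n141910 = n178154 := d7_0 F356033 (iv6 D141913) D141910
theorem F356035 : act 5 n124042 = n152782 := d16_1 D124042 F356031 F304970 F326516 (iv5 F326520) (iv4 F299027) D57782 F301764 (iv2 F300876)
theorem F356036 : act 3 n152786 = n124042 := d6_3 F356035 F239988 D152786
theorem F356037 : act 3 n181235 = n121117 := d7_3 F356027 F350076 D181235
theorem F356038 : act 7 n163503 = n181235 := d8_0 F356037 F254244 D163503
theorem F356039 : act 6 n181236 = n125668 := d14_3 F356038 (iv6 D181235) D181236 F202150 (iv6 F341842)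
theorem E101896 : n125907 = n125882 := (c12_2 F356039 (iv5 F202392) (iv6 D125882) F170864 F324604 (iv5 F282298))
theorem F356040 : act 2 n125882 = n58952 := (sb E101896 (iv2 D125907))
theorem F356041 : act 5 n125882 = n125668 := (sb E101896 F202392)
theorem E101897 : n125908 = n125874 := (c3_3 D125882 F356040 D125908 (iv2 F202371))
theorem F356042 : act 3 n125874 = n58953 := (sb E101897 F202393)
theorem F356043 : act 6 n125874 = n58952 := (sb E101897 (iv6 D125908))
theorem F356044 : act 3 n125911 = n110461 := d6_3 (iv5 F202370) F356042 D125911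
theorem E101898 : n125912 = n125877 := (c8_3 (iv7 F202369) F356042 D125912 (iv3 D125877))
theorem F356045 : act 4 n125877 = n125636 := (sb E101898 F202395)
theorem F356046 : act 7 n125877 = n58953 := (sb E101898 (iv7 D125912))
theorem F356047 : act 4 n125633 = n105177 := d20_8 F92883 F82614 (iv4 F45288) (iv3 F93151) (iv1 F202368) F356042 F93158 D125633 F161093 (iv1 F92885)
theorem F356048 : act 7 n125911 = n137286 := d13_2 F356046 D125911 (iv5 F220430)
theorem F356049 : act 4 n111811 = n125911 := d11_3 F356048 (iv4 D137286) F173845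
theorem F356050 : act 2 n125911 = n137283 := d1_1 F356049 (iv4 D137283) (iv2 F173846)
theorem F356051 : act 6 n186302 = n111811 := d10_0 F356049 F202394 F345718
theorem F356052 : act 2 n137285 = n186302 := d3_3 F356051 F173846 D137285
theorem F356053 : act 4 n113205 = n137285 := d1_0 F356052 (iv4 F345718) F202156
theorem F356054 : act 7 n186300 = n137285 := d4_0 F356052 (iv7 D186302) D186300
theorem F356055 : act 1 n137285 = n186298 := d15_0 (iv0 D186298) D186302 (iv2 F356052)
theorem F356056 : act 6 n111810 = n102815 := d14_3 F356054 (iv6 D137285) (iv7 F173848) F158077 (iv6 F289064)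
theorem F356057 : act 1 n186299 = n137285 := d15_1 D186299 (iv7 F356054) (iv2 D186300)
theorem F356058 : act 1 n113205 = n169900 := d18_8 (iv1 F327511) F203078 F176155 (iv4 F176560) (iv5 F202175) F345721 F356057 (iv4 F356053) (iv5 D169900)
theorem F356059 : act 6 n137283 = n113205 := d10_0 F356053 (iv6 D137285) D137283
theorem F356060 : act 5 n113204 = n137283 := d12_5 F356059 (iv5 D113205) (iv6 D52252) D52251 D113204
theorem F356061 : act 0 n125930 = n125678 := d17_2 D125538 F349577 (iv5 D125678) (iv4 F202135) F355934 (iv0 F101857) D111009 F344593 F99649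
theorem F356062 : act 1 n125930 = n125525 := d15_1 (iv0 F356061) F201890 (iv2 F202163)
theorem E101899 : n175740 = n147678 := (c19_15 (iv1 D116976) F85020 (iv4 F93040) (iv3 F355931) (iv1 D104792) (iv5 D48450) (iv4 F63613) (iv3 D41294) F31083 D22872 D47576 D102576 F321693 D132807 (iv4 F344784) (iv3 D147678) (iv1 F231434) (iv5 F344159) (iv4 D126710) F182856)
theorem F356063 : act 4 n147678 = n132807 := (sb E101899 F344784)
theorem F356064 : act 6 n147678 = n83890 := (sb E101899 (iv6 D175740))
theorem F356065 : act 1 n166360 = n95322 := d15_0 (iv0 D95322) D95325 (iv2 F355929)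
theorem F356066 : act 3 n104820 = n113249 := d5_5 F355925 (iv3 D104822) (iv4 D48461) D48460 D104820
theorem F356067 : act 5 n113247 = n104820 := d6_0 F356066 (iv5 D113249) (iv3 F176445)
theorem F356068 : act 5 n163515 = n181229 := d2_2 (iv5 F350077) F355923 (iv2 D181229)
theorem F356069 : act 5 n181700 = n166611 := d21_0 (iv1 D166611) F326387 F325522 D166619 (iv6 F355914) (iv5 F355918) F355920 F356068 F282285 (iv1 F282837)
theorem F356070 : act 3 n125537 = n178288 := d20_5 F268189 (iv1 D82578) D82579 D172489 F345730 (iv4 F277850) F355921 D166490 F355917 D170681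
theorem F356071 : act 5 n178288 = n125534 := d6_2 D125537 F356070 F201912
theorem F356072 : act 7 n159280 = n163697 := d8_0 F355884 F330173 D159280
theorem F356073 : act 2 n159280 = n163698 := d15_3 F334387 (iv0 F355883) (iv7 F356072)
theorem F356074 : act 5 n138257 = n122797 := d6_0 F355878 (iv5 D138258) D138257
theorem E101900 : n160319 = n122797 := (c20_5 (iv4 F123187) (iv1 F123189) F115874 D76837 D160319 F355878 F324309 F155383 (iv4 F114076) F114075 F300539)
theorem F356075 : act 1 n122797 = n76837 := (sb E101900 (iv0 D160319))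
theorem F356076 : act 1 n100757 = n138257 := d17_6 (iv1 F347436) F347440 (iv1 D160493) F316549 (iv4 F74202) D100757 F356074 F356075 D160322
theorem F356077 : act 1 n138257 = n101715 := d15_1 F356076 F324287 (iv2 F154850)
theorem F356078 : act 7 n138257 = n101840 := d15_2 (iv0 F345505) F356076 (iv2 D101840)
theorem F356079 : act 2 n99730 = n138257 := d4_3 F356078 (iv2 D101840) (iv7 F156402)
theorem F356080 : act 1 n177664 = n101840 := d15_1 (iv0 F351875) (iv7 F356078) (iv2 F356079)
theorem F356081 : act 0 n124379 = n160331 := d20_1 D124379 (iv4 D160331) (iv3 F324286) (iv1 F356077) (iv3 D138257) (iv4 D64941) D64940 F325442 F85893 D57983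
theorem F356082 : act 4 n164070 = n125604 := d18_5 F343353 (iv4 F230824) F342090 F342080 (iv5 F323364) (iv0 D125604) F92985 F355837 (iv5 D84164)
theorem F356083 : act 3 n125586 = n176525 := d20_5 (iv4 D13342) D13341 D27963 D58803 D125586 (iv4 D176525) (iv1 F355837) (iv4 F92985) (iv3 D58812) (iv1 D27966)
theorem F356084 : act 6 n176530 = n125586 := d7_0 F356083 F275834 D176530
theorem F356085 : act 7 n125604 = n175943 := d11_2 (iv7 F323365) F356082 (iv4 D175943)
theorem F356086 : act 5 n125604 = n113227 := d17_5 F319463 F342092 (iv1 F272132) (iv5 F323364) F356082 (iv0 D113227) (iv5 D52265) D52263 D113223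
theorem F356087 : act 3 n113227 = n126424 := d6_1 F356086 (iv5 D126424) (iv3 F202056)
theorem F356088 : act 6 n139291 = n153334 := d12_2 D153331 F355662 (iv5 D153334) (iv6 D72446) D72445
theorem F356089 : act 4 n144213 = n113022 := d16_0 F176072 (iv4 F240903) F355662 (iv4 D139291) (iv5 D65376) (iv4 F94066) (iv5 F182956) F182957 D144213
theorem F356090 : act 6 n113021 = n144213 := d10_0 F356089 (iv6 D113022) D113021
theorem F356091 : act 1 n158045 = n103014 := d18_8 (iv1 F225284) (iv4 D139281) (iv1 F101070) (iv4 F176145) (iv5 F226903) F356089 F355668 (iv4 F248997) (iv5 F355618)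
theorem F356092 : act 6 n133415 = n103014 := d21_3 F97860 D112862 F352959 (iv1 F356091) (iv6 D158045) (iv5 D75285) (iv1 F54694) D38869 D84285 (iv1 F352911)
theorem F356093 : act 6 n142363 = n130624 := d3_2 F356092 (iv2 F355617) F352958
theorem F356094 : act 4 n103016 = n133415 := d10_3 F356092 (iv4 D103014) D103016
theorem F356095 : act 7 n106684 = n103016 := d11_0 F356094 F352957 F349635
theorem F356096 : act 3 n103016 = n106687 := d8_1 F356095 (iv7 D106687) (iv3 F164388)
theorem E101901 : n106472 = n103013 := (c7_3 D103016 F356096 F164392 (iv3 D103013))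
theorem F356097 : act 0 n103013 = n106672 := (sb E101901 (iv1 F164352))
theorem F356098 : act 1 n103013 = n106671 := (sb E101901 F164355)
theorem F356099 : act 2 n103013 = n106673 := (sb E101901 (iv2 F164353))
theorem F356100 : act 4 n103013 = n132140 := (sb E101901 (iv4 F211662))
theorem F356101 : act 5 n103013 = n164616 := (sb E101901 (iv5 F259542))
theorem F356102 : act 6 n103013 = n106687 := (sb E101901 (iv6 F164392))
theorem F356103 : act 7 n103013 = n49195 := (sb E101901 (iv7 D106472))
theorem F356104 : act 3 n164616 = n103015 := d6_1 F356101 (iv5 D103015) D103013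
theorem F356105 : act 7 n103015 = n164614 := d8_2 D164616 F356104 F259535
theorem F356106 : act 3 n130624 = n142368 := d7_1 F356093 (iv6 D142368) (iv3 F225285)
theorem F356107 : act 0 n142363 = n158122 := d21_4 F215060 (iv1 F175776) (iv5 F352960) (iv6 F356093) (iv6 D158122) F112909 F63806 F293606 D94353 F352938
theorem E101902 : n139292 = n136388 := ((c10_2 F356088 F346453 (iv6 D139292) D139291)).symm
theorem F356108 : act 3 n136388 = n65378 := (sb E101902 F222493)
theorem F356109 : act 6 n136388 = n65376 := (sb E101902 (iv6 D139292))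
theorem F356110 : act 6 n139287 = n136478 := d3_2 F356109 (iv2 F222485) (iv2 F354513)
theorem E101903 : n139295 = n136389 := (c12_4 F356109 (iv5 D65376) D65377 D139295 (iv6 D136389) D136388)
theorem F356111 : act 3 n136389 = n65381 := (sb E101903 F222494)
theorem F356112 : act 5 n136389 = n65377 := (sb E101903 (iv5 D139295))
theorem E101904 : n139298 = n136386 := (c7_3 D136389 F356111 (iv6 F222495) (iv3 D136386))
theorem F356113 : act 5 n136386 = n65378 := (sb E101904 (iv5 D139298))
theorem F356114 : act 6 n136386 = n65381 := (sb E101904 F222495)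
theorem F356115 : act 3 n111413 = n135152 := d5_3 F346453 F356108 (iv4 F172896) (iv4 F239062) (iv3 F354527)
theorem F356116 : act 3 n139299 = n136479 := d8_3 F354516 F356108 D139299
theorem F356117 : act 6 n135152 = n111412 := d7_2 D111413 F356115 (iv3 D111412)
theorem E101905 : n135153 = n108778 := ((c12_4 F356117 F172895 F81200 (iv5 F168710) (iv6 D135153) D135152)).symm
theorem F356118 : act 4 n108778 = n63515 := (sb E101905 F217356)
theorem F356119 : act 6 n108778 = n63514 := (sb E101905 (iv6 D135153))
theorem F356120 : act 4 n135157 = n140388 := d11_3 F223519 F356118 D135157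
theorem E101906 : n103005 = n67530 := (c17_2 (iv1 D103004) D103005 (iv1 D67530) D67532 D144149 (iv5 F340910) F340909 (iv5 F322607) D186170 F355661)
theorem E101907 : n158865 = n144141 := ((((iv2 F226853)).symm.trans (sb E101906 (iv2 F250117)))).symm
theorem E101908 : n144143 = n47758 := ((D144143).symm.trans (sb E101906 (iv5 D103005)))
theorem E101909 : n158001 = n144144 := (((D144144).symm.trans (sb E101906 (iv6 F248909)))).symm
theorem F356121 : act 5 n144141 = n75820 := (sb E101907 F250118)
theorem F356122 : act 6 n144141 = n75802 := (sb E101907 (iv6 D158865))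
theorem F356123 : act 5 n47758 = n67530 := (sb E101908 (iv5 D144143))
theorem F356124 : act 2 n144144 = n75802 := (sb E101909 F248908)
theorem F356125 : act 5 n144144 = n75263 := (sb E101909 (iv5 D158001))
theorem F356126 : act 7 n173838 = n144144 := d13_0 F356125 (iv7 F298037) D173838
theorem F356127 : act 2 n158812 = n173838 := d4_3 F356126 F356124 (iv7 F250039)
theorem F356128 : act 5 n158864 = n173810 := d16_1 D158864 (iv4 F314804) F314805 F112803 F297055 D83133 D173838 F356126 F356124
theorem F356129 : act 4 n173838 = n158696 := d9_7 F356128 (iv4 F314804) F314805 F112803 F297055 D83133 D173838 (iv5 D158696) (iv4 D75695) (iv5 D34607) F27542 D16787 D34663 D75802 D158864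
theorem F356130 : act 7 n173810 = n157994 := d16_8 (iv4 D75695) (iv5 D34607) F27542 D16787 D34663 D75802 D158864 F356128 F248885
theorem F356131 : act 4 n100829 = n158863 := d18_1 D100829 (iv1 D158863) D158864 F356128 (iv4 F314804) (iv0 F314794) F155508 (iv0 D47007) D47009
theorem E101910 : n111545 = n100829 := (c16_2 (iv4 F318027) (iv5 F329228) F356131 F302250 (iv4 D78212) F297271 F71266 D75691 F315247 F312792)
theorem F356132 : act 3 n100829 = n51448 := (sb E101910 (iv3 D111545))
theorem E101911 : n158863 = n113371 := ((F356131).symm.trans (sb E101910 (iv4 F176566)))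
theorem F356133 : act 5 n100829 = n57259 := (sb E101910 F329228)
theorem F356134 : act 6 n100829 = n74404 := (sb E101910 F173075)
theorem F356135 : act 7 n100829 = n115977 := (sb E101910 (iv7 F180584))
theorem F356136 : act 0 n113371 = n75802 := (sb E101911 (iv1 D158863))
theorem F356137 : act 1 n113371 = n173838 := (sb E101911 F302249)
theorem F356138 : act 4 n113371 = n100829 := (sb E101911 (iv4 F356131))
theorem F356139 : act 5 n113371 = n78212 := (sb E101911 F302250)
theorem E101912 : n162979 = n100831 := (c18_1 (iv1 F257335) (iv4 D100831) D100829 (iv4 F356138) F356139 (iv4 D78212) F88329 (iv4 F326130) F326128 D162751)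
theorem F356140 : act 0 n100831 = n162754 := (sb E101912 (iv1 F257348))
theorem F356141 : act 1 n100831 = n162751 := (sb E101912 F257335)
theorem F356142 : act 2 n100831 = n78377 := (sb E101912 F257334)
theorem F356143 : act 5 n100831 = n78373 := (sb E101912 (iv5 D162979))
theorem F356144 : act 7 n100831 = n173849 := (sb E101912 (iv7 F272483))
theorem F356145 : act 2 n101475 = n158685 := d16_9 (iv4 D158685) (iv5 D75691) (iv4 F71266) (iv5 F297271) D78212 (iv5 F356139) F356138 F356133 (iv7 F303606)
theorem F356146 : act 3 n170887 = n158696 := d20_5 F93910 D59493 (iv4 F104325) D115967 (iv1 F351965) (iv4 F356129) (iv1 F356137) F356138 F356132 F93911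
theorem F356147 : act 6 n158696 = n183920 := d7_2 (iv6 F268486) F356146 F285783
theorem F356148 : act 3 n158685 = n123525 := d0_2 (iv3 F303604) F356145 F197945 F90737 (iv2 F90332)
theorem F356149 : act 6 n158685 = n101459 := d3_2 D101475 F356145 F184745
theorem F356150 : act 7 n158685 = n123047 := d4_2 (iv7 F303606) F356145 F197203
theorem F356151 : act 5 n158685 = n100830 := d21_6 (iv5 F34430) (iv1 F58711) F58709 D47213 D101459 (iv6 F356149) (iv1 D100830) (iv5 D47009) (iv6 D22603) F34429
theorem F356152 : act 2 n100830 = n115977 := d2_1 F356151 F329507 F356145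
theorem F356153 : act 4 n100830 = n158862 := d9_1 F356151 F302427 (iv4 D78207) F298272 (iv4 F112808) D75687 (iv4 F318027) (iv5 F356133) (iv4 F356138) F356139 (iv4 D78212) F297271 F71266 D75691 D158685
theorem F356154 : act 4 n162754 = n124682 := d18_3 (iv1 D100830) D100831 F356140 (iv5 D124682) (iv4 F94819) (iv0 F319545) D78200 (iv0 F306238) F356151
theorem F356155 : act 3 n125821 = n109327 := d19_19 F326127 D162754 F356154 F199451 F306637 F134902 (iv4 F305353) F56328 D35663 F56332 F43237 (iv3 F43232) (iv1 F116997) (iv5 D38987) D38986 F326939 F93103 D58920 D125821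
theorem F356156 : act 6 n109324 = n125821 := d7_0 F356155 (iv6 D109327) D109324
theorem F356157 : act 7 n162711 = n125821 := d8_0 F356155 F326132 D162711
theorem F356158 : act 6 n173325 = n162711 := d14_5 F356157 (iv6 F356156) (iv7 F174084) F326390 (iv7 F271757)
theorem F356159 : act 4 n158856 = n100822 := d17_4 F302426 (iv5 D173838) F298034 D158856 (iv5 D100822) (iv0 D47007) D47009 D100830 F356153
theorem F356160 : act 4 n158853 = n100827 := d9_9 D158856 F356159 (iv5 D100822) (iv4 F155508) (iv5 F315037) F60766 (iv5 F57223) (iv4 F296598) D158853 (iv5 D100827) (iv4 F311968) (iv5 F313343) (iv4 D55839) F297471 F122689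
theorem F356161 : act 2 n162704 = n158856 := d16_9 F356159 (iv5 D100822) (iv4 F155508) (iv5 F315037) F60766 (iv5 F57223) (iv4 F296598) D158853 F298042
theorem F356162 : act 7 n158856 = n160639 := d4_2 F298042 F356161 (iv2 F298041)
theorem F356163 : act 4 n160639 = n171032 := d11_1 F356162 F268750 (iv4 F356159)
theorem F356164 : act 1 n171032 = n162735 := d18_6 (iv1 F326151) F297242 F296270 D77040 D160639 F356163 F272498 (iv0 F326153) (iv5 D112117)
theorem F356165 : act 3 n174829 = n123224 := d20_9 (iv4 F114883) (iv1 F308762) F308763 (iv3 D123540) (iv1 F197948) (iv3 F356148) (iv4 D158685) F333793 (iv4 F273705) (iv1 D123224)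
theorem E101913 : n174826 = n120225 := ((c5_5 (iv4 F273705) F356165 (iv4 F307855) F191417 D120225 F273701)).symm
theorem F356166 : act 3 n120225 = n83519 := (sb E101913 F273701)
theorem F356167 : act 6 n120225 = n83516 := (sb E101913 (iv6 D174826))
theorem F356168 : act 6 n123224 = n138055 := d7_2 D174829 F356165 F339053
theorem F356169 : act 0 n124683 = n174829 := d20_4 (iv4 D33640) (iv1 F44826) (iv4 F92128) (iv3 F199452) F356165 (iv4 F307855) F307853 F109597 F52948 (iv1 F190566)
theorem F356170 : act 5 n184295 = n124683 := d18_9 F356169 F273705 (iv1 F333792) (iv4 F318027) (iv5 F356133) (iv4 F356138) F356137 F356129 (iv0 F334215)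
theorem F356171 : act 7 n124682 = n184295 := d13_0 F356170 (iv7 D124683) D124682
theorem F356172 : act 4 n158830 = n184295 := d16_0 F356170 F317252 (iv5 D75786) (iv4 D34658) D34659 D75788 D158840 F302224 (iv2 F302219)
theorem F356173 : act 0 n158864 = n184295 := d17_2 D173810 (iv5 F356128) F356170 F317252 (iv5 D75786) F113039 (iv5 F300791) (iv0 D83112) D83114
theorem F356174 : act 4 n100832 = n173849 := d20_6 D87902 (iv1 F307394) (iv4 D123662) (iv3 F306450) (iv1 F153181) (iv3 F154929) (iv1 F302218) F356172 (iv3 D184295) (iv1 D87901)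
theorem E101914 : n123236 = n123224 := (c3_4 F356168 (iv2 F341196) (iv6 D123240) (iv2 F197526))
theorem F356175 : act 2 n123224 = n57364 := (sb E101914 F197526)
theorem F356176 : act 7 n123224 = n57363 := (sb E101914 (iv7 D123236))
theorem F356177 : act 7 n123232 = n174829 := d8_2 F356176 D123232 F356165
theorem F356178 : act 2 n174829 = n124681 := d15_3 F318024 (iv0 F318021) F356177
theorem F356179 : act 6 n124681 = n174768 := d3_2 D174829 F356178 F273687
theorem F356180 : act 7 n155190 = n120225 := d8_0 F356166 (iv7 F333795) (iv3 F303616)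
theorem F356181 : act 2 n155190 = n120230 := d16_9 (iv4 D120230) (iv5 D55322) D55321 D120228 F332078 (iv5 D119583) (iv4 F188488) F346712 (iv7 F356180)
theorem F356182 : act 1 n120230 = n120206 := d15_0 (iv0 F335250) (iv7 F356180) F356181
theorem F356183 : act 6 n166208 = n100885 := d12_4 (iv6 F154928) F356143 (iv6 F122519) D166208 (iv5 D100885)
theorem F356184 : act 2 n100885 = n166262 := d3_1 F356183 (iv6 D166262) (iv2 F261689)
theorem F356185 : act 0 n100885 = n97442 := d21_4 F325910 (iv1 F300480) D166208 F356183 F150188 (iv5 F148367) F148373 (iv5 D48438) (iv6 F70761) (iv1 F148091)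
theorem F356186 : act 0 n96117 = n166208 := d21_4 D47894 D103352 F340546 F340535 F356183 (iv5 D100885) (iv1 F329992) F154899 (iv6 F75211) (iv1 D47892)
theorem F356187 : act 1 n101983 = n102152 := d17_8 F356186 (iv5 D166208) F327385 (iv5 D47370) (iv4 D22755) D22756 D47373 D101983 (iv4 F157049)
theorem F356188 : act 0 n93200 = n102152 := d18_0 (iv4 F157049) F356186 F331229 (iv5 D173892) (iv4 D83156) F327826 (iv4 F99564) (iv0 F327924) (iv5 F335329)
theorem E101915 : n93199 = n91099 := ((c21_8 (iv5 D102152) (iv1 F157053) (iv5 D99770) (iv6 F292388) (iv1 D91104) (iv6 D42666) D42665 D91099 (iv5 D93199) D93200 F356188)).symm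
theorem F356189 : act 5 n91099 = n43604 := (sb E101915 (iv5 D93199))
theorem F356190 : act 1 n93200 = n89462 := d15_1 (iv0 F356188) (iv7 F137126) (iv2 F157048)
theorem F356191 : act 4 n99770 = n160603 := d17_9 (iv1 F253692) (iv5 D79797) (iv1 F298927) D38690 F328315 (iv5 F335329) F356190 (iv5 F137125) (iv0 F157052)
theorem F356192 : act 3 n93200 = n98082 := d20_5 (iv4 F68389) F68390 F67812 (iv3 F137124) (iv1 F356190) (iv4 F295452) F336765 F137186 (iv3 D41811) D41810
theorem E101916 : n101976 = n101407 := ((c6_3 (iv5 F335329) F356192 (iv5 F290103) (iv3 D101976))).symm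
theorem F356193 : act 3 n101407 = n47372 := (sb E101916 (iv3 D101976))
theorem F356194 : act 7 n101407 = n84035 := (sb E101916 F328314)
theorem F356195 : act 7 n98082 = n176191 := d8_2 (iv7 F335330) F356192 F275415
theorem F356196 : act 0 n98082 = n103959 := d20_4 (iv4 F353214) F298007 (iv4 F335328) F356192 F159416 F290764 (iv1 F69726) D89872 (iv3 F331228) (iv1 F353218)
theorem F356197 : act 1 n102448 = n101408 := d18_6 F356196 F343856 F335646 F290006 (iv5 D102449) D102448 (iv4 D101408) D101407 F290103
theorem F356198 : act 3 n89369 = n182722 := d20_5 (iv4 F290821) F290819 F64373 (iv3 F64363) D89369 F295452 F356196 F343856 F137229 (iv1 F136323)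
theorem F356199 : act 4 n172088 = n89369 := d5_0 F356198 F295452 (iv3 F356192) F335328 (iv3 F270227)
theorem F356200 : act 5 n185122 = n89369 := d6_0 F356198 F295453 D185122
theorem F356201 : act 6 n93216 = n89369 := d7_0 F356198 (iv6 D182722) (iv3 F295445)
theorem F356202 : act 2 n89369 = n172225 := d3_1 F356201 (iv6 D172225) (iv2 F294209)
theorem E101917 : n185122 = n102300 := ((c21_2 D47474 D102300 F356200 (iv6 F356201) F294208 (iv6 D82486) F58709 (iv1 F64246) (iv5 F64250) D46504 (iv1 F289673))).symm
theorem F356203 : act 3 n102300 = n88231 := (sb E101917 (iv3 D185122))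
theorem F356204 : act 5 n102300 = n89369 := (sb E101917 F356200)
theorem F356205 : act 0 n185123 = n177882 := d20_7 F291161 (iv1 D102311) (iv4 D47478) (iv3 F74650) D102300 F356203 D185123 (iv4 D177882) F292177 D90173
theorem F356206 : act 7 n89370 = n172225 := d15_2 (iv0 D89369) D89370 (iv2 F356202)
theorem E101918 : n137619 = n102447 := ((c20_4 D101408 (iv1 F356197) (iv4 D102448) D102447 F343277 (iv3 F221210) F325120 (iv1 F126923) F328315 (iv3 F356193) (iv1 D101407))).symm
theorem F356207 : act 0 n102447 = n64839 := (sb E101918 F343277)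
theorem F356208 : act 1 n102447 = n64825 := (sb E101918 F343278)
theorem F356209 : act 2 n102447 = n64689 := (sb E101918 (iv2 D137619))
theorem F356210 : act 4 n102447 = n66719 := (sb E101918 F220771)
theorem F356211 : act 7 n102447 = n64837 := (sb E101918 F325063)
theorem E101919 : n137968 = n99848 := (c8_2 F356211 D137968 F290004 D102447)
theorem F356212 : act 3 n99848 = n64837 := (sb E101919 (iv3 D137968))
theorem F356213 : act 3 n137970 = n88931 := d6_3 F290002 F356212 D137970
theorem F356214 : act 2 n183026 = n137970 := d0_5 F356213 (iv2 F295312) F329304 F328970 (iv3 F284659)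
theorem F356215 : act 4 n183026 = n137970 := d5_0 F356213 F335668 F335637 F295458 (iv3 F284659)
theorem F356216 : act 6 n88929 = n137970 := d7_0 F356213 (iv6 D88931) D88929
theorem F356217 : act 5 n99577 = n137617 := d21_0 F325057 D137970 (iv6 F356216) (iv1 F157238) (iv6 D88798) F71579 F85863 F85861 D99955 F289731
theorem F356218 : act 5 n183026 = n116378 := d17_5 F289731 F356217 F325057 D137970 (iv4 F356215) F342514 F331211 F289729 (iv4 F153893)
theorem F356219 : act 7 n137620 = n183026 := d13_0 F356218 F181424 D137620
theorem F356220 : act 3 n152712 = n102448 := d5_3 F356210 F320539 D152712 (iv4 D102448) D102447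
theorem E101920 : n176190 = n101406 := (c15_4 (iv0 D101406) D101407 F356194 D176190)
theorem F356221 : act 2 n101406 = n84035 := (sb E101920 (iv2 D176190))
theorem F356222 : act 3 n97036 = n98120 := d20_9 F325120 (iv1 F126923) F328315 (iv3 F356193) (iv1 D101407) F74480 D47199 (iv1 F156192) (iv4 F291804) (iv1 F325118)
theorem F356223 : act 3 n166196 = n150554 := d20_3 F356191 (iv1 F253692) D166196 (iv1 F305897) (iv3 F320513) (iv4 D64135) (iv1 D30223) (iv4 F48613) F328526 (iv1 F157053)
theorem E101921 : n176152 = n118851 := ((c8_3 (iv7 F302333) F356223 F237068 (iv3 D176152))).symm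
theorem F356224 : act 3 n118851 = n84023 := (sb E101921 (iv3 D176152))
theorem F356225 : act 3 n175154 = n138379 := d19_19 F342516 (iv5 F308659) D150554 (iv3 F356223) (iv1 F328701) (iv5 D100383) F74040 F70750 (iv1 F146954) F347473 F347471 F325915 (iv1 F329443) F329445 (iv4 D122467) (iv3 F186974) F274168 (iv5 D175157) (iv4 F274161)
theorem F356226 : act 5 n142131 = n175154 := d6_0 F356225 F342519 F342525
theorem F356227 : act 0 n105707 = n142131 := d17_2 D114613 (iv5 F317374) F356226 F274161 D175157 (iv0 F274168) (iv5 D118913) F188305 (iv4 F83596)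
theorem F356228 : act 4 n116494 = n142131 := d18_3 (iv1 D53695) (iv4 F84705) D116494 F356226 F274161 F264410 F125770 (iv0 F130234) F322200
theorem F356229 : act 2 n142132 = n116494 := d1_3 F356228 (iv2 D142131) D142132
theorem F356230 : act 3 n99755 = n116494 := d5_5 F356228 (iv3 F342525) (iv4 D143289) (iv3 F334877) D99755
theorem F356231 : act 1 n119241 = n116494 := d18_6 (iv1 F300970) F205931 (iv1 F300972) (iv4 D54877) D54878 D119241 F356228 (iv0 F356227) F317374
theorem F356232 : act 0 n142901 = n105710 := d20_7 (iv4 F356228) (iv1 F356231) (iv4 D119241) F190129 F320563 D66967 D142901 F162329 (iv3 F162328) F356227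
theorem F356233 : act 1 n142901 = n179937 := d15_1 (iv0 F356232) F280247 F319620
theorem F356234 : act 5 n116494 = n137293 := d6_2 (iv5 F153565) F356230 F353330
theorem F356235 : act 7 n116494 = n102011 := d8_2 (iv7 F153566) F356230 (iv3 D102011)
theorem E101922 : n152930 = n102011 := (c15_2 (iv0 F337682) F337683 (iv7 F356235) (iv2 F356229))
theorem F356236 : act 0 n102011 = n103722 := (sb E101922 (iv1 F337683))
theorem F356237 : act 1 n102011 = n72183 := (sb E101922 (iv0 D152930))
theorem F356238 : act 6 n155965 = n116494 := d12_0 F356234 (iv6 D137293) F100460 D74180 D155965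
theorem F356239 : act 1 n137293 = n152951 := d17_6 F264233 F185773 (iv1 F274162) (iv5 F356226) (iv4 F356228) F356234 (iv5 D152951) (iv0 F352733) F352734
theorem F356240 : act 7 n116495 = n142132 := d15_2 (iv0 D116494) D116495 F356229
theorem F356241 : act 2 n116495 = n102011 := d4_3 (iv7 F356235) (iv2 F356229) (iv7 F356240)
theorem F356242 : act 1 n116495 = n119241 := d15_0 F356231 F356235 (iv2 F356241)
theorem F356243 : act 2 n89119 = n91099 := d2_3 F356189 (iv2 F295331) D89119
theorem F356244 : act 3 n98081 = n91099 := d6_3 F356189 (iv3 F295333) D98081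
theorem F356245 : act 7 n89114 = n91099 := d13_0 F356189 (iv7 F295336) D89114
theorem F356246 : act 7 n91100 = n89119 := d15_2 (iv0 D91099) D91100 F356243
theorem F356247 : act 2 n91100 = n89114 := d4_3 F356245 (iv2 F356243) (iv7 F356246)
theorem E101923 : n93204 = n91100 := (c2_1 D93204 F356247 (iv5 D89114) F295335)
theorem F356248 : act 5 n91100 = n43605 := (sb E101923 (iv5 D93204))
theorem F356249 : act 1 n90381 = n89119 := d15_1 (iv0 F343086) (iv7 F356246) F356247
theorem F356250 : act 0 n96111 = n97433 := d17_2 F295192 D96111 F292816 F133281 D90381 F356249 (iv5 D89119) (iv0 F294961) D93206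
theorem F356251 : act 0 n104722 = n97051 := d21_1 D104722 (iv5 D97051) F326737 (iv1 F326733) (iv6 D96112) D96111 F356250 F292816 F291787 F158653
theorem F356252 : act 6 n96130 = n131139 := d21_3 F292816 (iv1 F292815) D96130 F352912 (iv6 D84285) (iv5 D38869) (iv1 F34416) D45841 (iv6 F329424) F356250
theorem F356253 : act 2 n131140 = n96130 := d3_3 F356252 (iv2 D131139) D131140
theorem F356254 : act 3 n131139 = n96131 := d7_1 F356252 (iv6 D96131) (iv3 F147779)
theorem F356255 : act 1 n104722 = n97002 := d15_1 (iv0 F356251) F149605 (iv2 F149718)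
theorem F356256 : act 0 n182928 = n185422 := d17_2 (iv1 F152409) D182928 (iv5 D185422) F135258 D104722 F356255 (iv5 D97002) F137981 (iv4 F152408)
theorem E101924 : n185595 = n97472 := (c21_1 D185595 F294709 (iv5 D181927) (iv6 F134940) (iv1 F295206) (iv6 D97003) D97002 (iv1 F356255) (iv5 D104722) F293832 D88408)
theorem F356257 : act 5 n97472 = n88408 := (sb E101924 (iv5 D185595))
theorem E101925 : n185596 = n103356 := ((c21_5 (iv5 F159223) (iv1 D103353) (iv5 D47894) D47895 D103356 (iv6 D185596) (iv5 F356257) F294709 (iv5 D181927) (iv6 F134940) (iv1 F295206))).symm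
theorem F356258 : act 6 n103356 = n88408 := (sb E101925 (iv6 D185596))
theorem F356259 : act 6 n185594 = n101969 := d10_2 F356258 D185594 (iv4 F158634)
theorem F356260 : act 6 n89988 = n96277 := d14_3 (iv7 F158636) F356258 (iv7 F138410) F148090 D96363
theorem F356261 : act 3 n185453 = n89988 := d7_3 F356260 F148088 D185453
theorem F356262 : act 5 n181928 = n89988 := d21_2 D86895 D181928 F356260 (iv1 F148092) (iv6 D44991) D44990 F70747 F70049 D44635 F295217
theorem F356263 : act 0 n103315 = n100797 := d21_1 (iv5 F158555) (iv5 D100797) F294077 D89988 F356260 F325910 (iv1 F300480) D166208 F356183 F356185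
theorem F356264 : act 0 n185599 = n97469 := d21_1 D185599 (iv5 D97469) (iv6 F294725) (iv1 F295186) D44854 (iv5 F326735) (iv1 F299341) (iv5 F325910) (iv6 F356260) (iv1 F138230)
theorem F356265 : act 5 n96113 = n181885 := d21_2 D44853 D96113 (iv6 F352884) (iv1 F160420) F294699 D185599 F356264 (iv5 D97469) (iv6 F294725) (iv1 F295186)
theorem F356266 : act 1 n185599 = n97041 := d15_1 (iv0 F356264) F295362 (iv2 F295363)
theorem F356267 : act 1 n97041 = n89991 := d15_1 F356266 F138238 (iv2 F287923)
theorem F356268 : act 1 n89991 = n97469 := d15_1 F356267 F150248 (iv2 F149693)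
theorem E101926 : n183502 = n183479 := ((c17_2 (iv1 F136707) D183479 (iv1 D183502) F294500 F70072 D89991 F356268 (iv5 D97469) (iv0 F295218) F295221)).symm
theorem F356269 : act 0 n183479 = n87587 := (sb E101926 (iv1 D183502))
theorem F356270 : act 2 n97473 = n181928 := d2_3 F356262 (iv2 F138409) (iv5 F294696)
theorem F356271 : act 7 n97472 = n181928 := d13_0 F356262 F138410 (iv5 F356257)
theorem F356272 : act 0 n137944 = n183480 := d17_2 D95396 (iv5 F350435) (iv5 D183480) F134462 D97470 F294712 F356262 (iv0 D89988) (iv4 F70072)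
theorem F356273 : act 1 n137944 = n95422 := d15_1 (iv0 F356272) (iv7 F295061) (iv2 F285234)
theorem F356274 : act 0 n137957 = n183526 := d20_7 (iv4 F112706) (iv1 F146898) F146895 D95422 (iv1 F356273) F221208 (iv4 F221225) (iv4 D183526) F134468 F293490
theorem E101927 : n137959 = n134153 := ((c20_10 (iv4 F221225) F356274 (iv4 D183526) F134468 F293490 F327967 F47969 D29808 D63015 D134153 (iv1 D137959))).symm
theorem F356275 : act 0 n134153 = n64835 := (sb E101927 (iv1 D137959))
theorem F356276 : act 5 n134153 = n98398 := (sb E101927 (iv5 F350433))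
theorem F356277 : act 7 n98435 = n134153 := d13_0 F356276 F152042 D98435
theorem F356278 : act 2 n98435 = n137958 := d15_3 (iv0 D137958) (iv0 F356275) (iv7 F356277)
theorem E101928 : n137958 = n137846 := (c0_2 (iv3 F151859) F356278 (iv3 D137846) (iv2 F333862) (iv3 D130837) (iv2 F325979))
theorem F356279 : act 1 n137846 = n64835 := (sb E101928 (iv0 D137958))
theorem F356280 : act 2 n137846 = n98435 := (sb E101928 (iv2 F356278))
theorem F356281 : act 5 n137846 = n98434 := d2_2 D98435 (iv2 F356280) (iv2 D98434)
theorem F356282 : act 0 n177717 = n137870 := d21_4 F356281 (iv1 F157589) D186451 F289269 (iv6 D137870) (iv5 D64796) (iv1 F48882) D30480 D64835 (iv1 F356279)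
theorem F356283 : act 5 n137870 = n170675 := d21_2 D177717 F356282 (iv6 F339040) F339036 (iv6 D71458) (iv5 D33062) D33061 (iv5 F90293) D123017 F332353
theorem F356284 : act 1 n177717 = n138043 := d15_1 (iv0 F356282) F221297 (iv2 F221086)
theorem F356285 : act 3 n124511 = n107743 := d19_15 (iv1 F356284) (iv5 D177717) (iv4 F310234) F210128 (iv1 F96084) (iv5 F189478) F341138 (iv3 F341159) F341161 (iv5 D173299) (iv4 F199152) (iv3 D124508) (iv1 D58107) D58108 D124511 (iv1 F338702) (iv5 D135326) (iv4 F337840) (iv3 F221296)
theorem F356286 : act 3 n119850 = n103145 := d7_3 (iv6 F199161) F356285 F338704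
theorem F356287 : act 7 n103145 = n155465 := d8_2 F233309 F356286 (iv3 D155465)
theorem F356288 : act 4 n155465 = n103146 := d11_1 F356287 (iv7 D103146) D103145
theorem F356289 : act 1 n172798 = n103145 := d15_1 F334517 F356287 F352181
theorem F356290 : act 1 n147415 = n155465 := d15_1 F313328 (iv7 F356287) (iv2 F199194)
theorem F356291 : act 1 n155465 = n147853 := d15_1 F356290 (iv7 D147853) (iv2 F231163)
theorem F356292 : act 5 n147190 = n155465 := d17_7 (iv1 F242936) (iv5 F184335) (iv1 F242954) F51010 (iv4 F51039) D69003 D147190 F356291 F231625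
theorem F356293 : act 3 n155467 = n147190 := d6_3 F356292 (iv3 D155465) D155467
theorem F356294 : act 0 n174486 = n147190 := d17_2 (iv1 F242982) (iv5 F343369) F356292 F356288 F158416 F91933 D124525 F315636 F243033
theorem F356295 : act 3 n147984 = n155466 := d5_3 F356288 (iv3 F317777) F231814 (iv4 D155466) D155465
theorem E101929 : n155466 = n114211 := (c7_2 D147984 F356295 (iv6 D114211) F352143)
theorem F356296 : act 3 n114211 = n147984 := (sb E101929 (iv3 F356295))
theorem F356297 : act 4 n114211 = n73942 := (sb E101929 (iv4 D155466))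
theorem F356298 : act 2 n170675 = n138046 := d2_1 F356283 (iv5 D138046) (iv2 F221086)
theorem F356299 : act 3 n123431 = n137870 := d6_3 F356283 (iv3 D170675) (iv5 F197810)
theorem F356300 : act 7 n137870 = n135020 := d8_2 F326601 F356299 (iv3 D135020)
theorem F356301 : act 2 n135020 = n138043 := d4_1 F356300 F221297 (iv2 F221086)
theorem E101930 : n137987 = n134300 := ((c14_2 F356300 F217242 (iv7 D137987) (iv6 D64852) (iv7 F100637) D137870)).symm
theorem F356302 : act 0 n134300 = n64870 := (sb E101930 (iv1 F221244))
theorem F356303 : act 1 n134300 = n64869 := (sb E101930 F221245)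
theorem F356304 : act 2 n134300 = n64871 := (sb E101930 F221242)
theorem F356305 : act 7 n134300 = n64852 := (sb E101930 (iv7 D137987))
theorem F356306 : act 1 n138045 = n135020 := d15_1 D138045 (iv7 F356300) F221086
theorem F356307 : act 7 n137984 = n135056 := d11_2 F356305 (iv4 F221240) F217290
theorem F356308 : act 2 n135056 = n138031 := d4_1 F356307 (iv7 D138031) (iv2 F221239)
theorem E101931 : n137984 = n98451 := ((c8_4 F356307 (iv3 D135056) F326263 D98451)).symm
theorem F356309 : act 2 n98451 = n64867 := (sb E101931 F221239)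
theorem F356310 : act 4 n98451 = n64852 := (sb E101931 F221240)
theorem F356311 : act 6 n98451 = n64851 := (sb E101931 (iv6 D137984))
theorem F356312 : act 7 n98451 = n135056 := (sb E101931 F356307)
theorem F356313 : act 1 n138029 = n135056 := d15_1 D138029 (iv7 F356312) F356309
theorem F356314 : act 4 n98641 = n137986 := d20_0 (iv1 D137986) (iv4 F356310) (iv3 D98451) (iv1 D46046) F34496 D22020 D46105 (iv4 F72711) (iv3 F152100) F251757
theorem F356315 : act 3 n138031 = n95415 := d0_2 D135056 F356308 (iv2 F295083) (iv3 D98446) (iv2 F326262)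
theorem F356316 : act 1 n135056 = n138028 := d15_0 (iv0 D138028) D138031 (iv2 F356308)
theorem F356317 : act 5 n95414 = n138031 := d6_0 F356315 (iv5 D95415) D95414
theorem E101932 : n186453 = n137985 := (c20_1 D186453 (iv1 F221243) (iv4 F221292) F356315 F338303 F337808 (iv4 F132093) F132095 F92779 (iv3 F133643) (iv1 F294437))
theorem F356318 : act 4 n137985 = n88808 := (sb E101932 (iv4 D186453))
theorem E101933 : n182299 = n138030 := ((c13_4 F283835 F356317 (iv7 D138031) D138030)).symm
theorem F356319 : act 0 n138030 = n99658 := (sb E101933 (iv1 F294433))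
theorem F356320 : act 3 n138030 = n87048 := (sb E101933 (iv3 D182299))
theorem F356321 : act 7 n138030 = n95414 := (sb E101933 F283835)
theorem F356322 : act 6 n99519 = n138030 := d7_0 F356320 (iv6 F295091) (iv3 F157784)
theorem F356323 : act 5 n138026 = n99519 := d12_5 F356322 (iv5 D138030) (iv6 D64867) D64866 D138026
theorem F356324 : act 6 n95414 = n185365 := d14_3 F157786 F356322 F356321 (iv7 F289901) F289864
theorem E101934 : n186451 = n138028 := ((c21_8 (iv5 D37513) D37511 F72916 D46524 D99519 F356322 (iv5 D138030) D138028 (iv5 D186451) (iv6 D88805) F63908)).symm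
theorem F356325 : act 5 n138028 = n88805 := (sb E101934 (iv5 D186451))
theorem F356326 : act 6 n138028 = n177717 := (sb E101934 F289269)
theorem F356327 : act 0 n182317 = n138030 := d17_0 (iv5 D138030) D138028 F356325 F136187 D88808 F294437 (iv5 D87055) D87053 D182317
theorem E101935 : n182607 = n138040 := (c18_5 F157588 (iv4 F295463) F295460 F295381 D182607 (iv4 D138040) (iv0 F356302) (iv4 F217290) F356316 F356325)
theorem F356328 : act 0 n138040 = n89192 := (sb E101935 F295382)
theorem F356329 : act 1 n138040 = n96444 := (sb E101935 F295383)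
theorem F356330 : act 2 n138040 = n98641 := (sb E101935 F295384)
theorem F356331 : act 5 n138040 = n87180 := (sb E101935 (iv5 D182607))
theorem F356332 : act 7 n138040 = n88808 := (sb E101935 F295385)
theorem F356333 : act 0 n134927 = n143282 := d21_4 F356325 F157588 (iv5 F356276) (iv6 F217126) (iv6 D143282) (iv5 F221287) (iv1 D138025) (iv5 D64866) D64867 D138028
theorem F356334 : act 6 n114934 = n182317 := d21_9 (iv5 D138030) D138028 F356325 (iv6 D88805) F63908 D81924 (iv5 F302945) F336779 D114934 F356327
theorem F356335 : act 4 n99650 = n114934 := d10_3 F356334 (iv4 D182317) (iv6 F294435)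
theorem F356336 : act 7 n99640 = n114934 := d14_0 F356334 F350432 F221226 (iv7 F331209) D99640
theorem F356337 : act 5 n105470 = n99640 := d13_3 F356336 (iv5 D114934) (iv7 F161895)
theorem F356338 : act 5 n183923 = n159471 := d6_2 F356337 (iv3 F285786) F251122
theorem E101936 : n154951 = n151400 := (c16_10 (iv4 D151400) D151401 F349033 (iv5 D105471) D105470 F356337 F153387 D99649 F289276 (iv2 F309297))
theorem F356339 : act 0 n151400 = n88833 := (sb E101936 F309295)
theorem F356340 : act 1 n151400 = n88812 := (sb E101936 F309296)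
theorem F356341 : act 2 n151400 = n88830 := (sb E101936 F309297)
theorem F356342 : act 3 n151400 = n73501 := (sb E101936 (iv3 D154951))
theorem F356343 : act 5 n151400 = n102521 := (sb E101936 F309298)
theorem F356344 : act 7 n151400 = n88831 := (sb E101936 F309299)
theorem F356345 : act 0 n151397 = n105470 := d17_2 F349050 (iv5 F349046) F356337 F153387 D99649 F153398 F136208 F136195 (iv4 F151729)
theorem F356346 : act 0 n102544 = n114934 := d18_2 F289918 (iv4 F289916) (iv4 F356335) (iv5 F289275) (iv4 F349057) (iv0 D118648) (iv4 F186611) (iv0 F338684) F356337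
theorem E101937 : n114119 = n106352 := ((c20_5 (iv4 F20216) D25744 (iv4 F177643) D49147 D106352 F177732 (iv4 F238117) F356345 (iv4 D105470) (iv3 D48765) (iv1 D23782))).symm
theorem F356347 : act 2 n106352 = n106178 := (sb E101937 F340904)
theorem F356348 : act 3 n106352 = n71367 := (sb E101937 F177732)
theorem F356349 : act 5 n106352 = n158539 := (sb E101937 (iv5 F337571))
theorem F356350 : act 6 n106352 = n114943 := (sb E101937 F355683)
theorem F356351 : act 7 n106352 = n52679 := (sb E101937 (iv7 D114119))
theorem E101938 : n111190 = n57695 := (c20_7 (iv4 D105470) (iv1 F258992) F309259 F136190 F292330 F329136 (iv4 F172435) (iv1 F191842) (iv4 F304015) F304014 F356345)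
theorem E101939 : n123782 = n111262 := ((D123782).symm.trans (sb E101938 (iv2 F172563)))
theorem E101940 : n123784 = n63008 := ((D123784).symm.trans (sb E101938 F172435))
theorem E101941 : n123786 = n51283 := ((D123786).symm.trans (sb E101938 (iv6 D111190)))
theorem F356352 : act 2 n111262 = n57695 := (sb E101939 (iv2 D123782))
theorem F356353 : act 7 n111262 = n57696 := (sb E101939 (iv7 F198263))
theorem F356354 : act 4 n63008 = n57695 := (sb E101940 (iv4 D123784))
theorem F356355 : act 6 n51283 = n57695 := (sb E101941 (iv6 D123786))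
theorem F356356 : act 6 n123783 = n111189 := d7_2 F356355 D123783 (iv3 D111189)
theorem F356357 : act 6 n123785 = n134167 := d12_2 F356355 D123785 (iv5 D134167) (iv6 D63028) (iv5 F80889)
theorem F356358 : act 6 n123787 = n146921 := d14_3 F80956 F356355 D123787 F341463 (iv6 D111260)
theorem E101942 : n111237 = n89242 := ((c21_9 (iv5 F329118) F48175 (iv5 F80889) F356355 (iv1 F191842) F191839 (iv5 F299000) (iv1 D89240) D89242 (iv6 D111237) F329098)).symm
theorem F356359 : act 2 n89242 = n111164 := (sb E101942 F172536)
theorem F356360 : act 4 n89242 = n134040 := (sb E101942 (iv4 F216029))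
theorem F356361 : act 6 n89242 = n51306 := (sb E101942 (iv6 D111237))
theorem E101943 : n134026 = n120400 := (c21_10 (iv5 F299000) (iv1 D89240) D89242 F356361 F329098 F329774 F98372 F95289 D62957 D134026 (iv1 F191813))
theorem F356362 : act 2 n120400 = n63008 := (sb E101943 F215991)
theorem E101944 : n120417 = n111262 := (((iv4 F340898)).symm.trans (sb E101943 F215992))
theorem F356363 : act 6 n120400 = n62957 := (sb E101943 (iv6 D134026))
theorem F356364 : act 0 n111262 = n57698 := (sb E101944 (iv1 F191840))
theorem F356365 : act 1 n111262 = n55437 := (sb E101944 (iv0 D120417))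
theorem F356366 : act 3 n111262 = n73112 := (sb E101944 F340897)
theorem F356367 : act 4 n111262 = n120400 := (sb E101944 F340898)
theorem F356368 : act 7 n120400 = n123789 := d11_2 (iv7 F356353) F356367 (iv4 D123789)
theorem F356369 : act 2 n123789 = n134143 := d4_1 F356368 (iv7 D134143) (iv2 F356362)
theorem F356370 : act 6 n123789 = n123860 := d14_1 F356368 F342813 (iv6 D63038) (iv7 F98231) (iv6 F356363)
theorem E101945 : n134143 = n89249 := (c15_4 F336773 F191813 F356368 F356369)
theorem F356371 : act 2 n89249 = n123789 := (sb E101945 (iv2 F356369))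
theorem F356372 : act 6 n89249 = n134427 := (sb E101945 F342817)
theorem F356373 : act 7 n89249 = n63008 := (sb E101945 (iv7 D134143))
theorem F356374 : act 1 n134141 = n123789 := d15_1 D134141 (iv7 F356368) F356362
theorem E101946 : n123787 = n120418 := (c11_3 F356373 F356354 D123787 F336777)
theorem F356375 : act 2 n120418 = n57696 := (sb E101946 F198264)
theorem F356376 : act 6 n120418 = n146921 := (sb E101946 F356358)
theorem F356377 : act 7 n120418 = n57695 := (sb E101946 (iv7 D123787))
theorem F356378 : act 1 n123789 = n134140 := d15_0 (iv0 D134140) (iv7 F356373) F356371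
theorem F356379 : act 5 n134140 = n180886 := d18_9 (iv1 F335730) F335702 (iv1 D46028) F34494 (iv5 F301731) (iv4 F44462) D57696 D123789 F356378
theorem F356380 : act 5 n123789 = n177863 := d17_3 F335727 (iv5 F356379) (iv1 F356378) F277439 F151814 F195858 F195856 (iv0 F335670) (iv4 F136913)
theorem E101947 : n184611 = n41190 := (c21_8 (iv5 F356379) (iv1 F356378) F356380 (iv6 D177863) (iv1 F289808) F289636 D88226 (iv1 F289660) D88263 (iv6 F136914) F335727)
theorem E101948 : n88259 = n88029 := ((D88259).symm.trans (sb E101947 (iv1 D184611)))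
theorem E101949 : n88260 = n88226 := ((D88260).symm.trans (sb E101947 F289660))
theorem E101950 : n184610 = n183865 := ((D184610).symm.trans (sb E101948 (iv1 F285678)))
theorem F356381 : act 1 n88029 = n41190 := (sb E101948 (iv0 D88259))
theorem F356382 : act 0 n88226 = n41190 := (sb E101949 (iv1 D88260))
theorem F356383 : act 0 n183865 = n88226 := (sb E101950 F289659)
theorem F356384 : act 1 n183865 = n88029 := (sb E101950 (iv0 D184610))
theorem E101961 : n101430 = n101402 := ((c21_1 D101402 (iv1 D101430) F137169 (iv6 D89490) D89486 F335739 (iv5 F356379) (iv1 F356378) F356380 (iv6 D177863) (iv1 F289808))).symm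
theorem F356385 : act 0 n101402 = n47204 := (sb E101961 (iv1 D101430))
theorem F356386 : act 0 n101432 = n99972 := d18_2 F356385 D101432 (iv4 D99972) (iv5 D46690) F34947 D39116 (iv4 F289771) D47195 D101402
theorem E101962 : n101429 = n99863 := ((c15_4 (iv0 D101429) (iv0 F356385) F289622 (iv2 F153764))).symm
theorem F356387 : act 1 n99863 = n47204 := (sb E101962 (iv0 D101429))
theorem F356388 : act 4 n176191 = n185223 := d17_9 (iv1 D185223) (iv5 D88263) (iv1 F356381) (iv5 D88029) (iv4 F73695) D99863 F356387 F137169 (iv0 F331234)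
theorem F356389 : act 6 n185223 = n103956 := d10_2 (iv6 F345040) F356388 (iv4 F345041)
theorem F356390 : act 7 n185223 = n182722 := d11_2 F356195 F356388 F295452
theorem F356391 : act 2 n185119 = n185223 := d4_3 F356390 F295451 F290110
theorem F356392 : act 5 n102378 = n185223 := d13_3 F356390 F295453 (iv7 F290115)
theorem E101963 : n185222 = n170772 := ((c15_4 (iv0 D185222) D185223 F356390 F295451)).symm
theorem F356393 : act 1 n170772 = n88263 := (sb E101963 (iv0 D185222))
theorem E101964 : n176189 = n101404 := (c17_7 (iv1 F74674) D88228 (iv1 F157186) F356392 (iv4 F356388) (iv5 D176191) D176189 (iv5 D101404) (iv0 F289609) (iv4 F289630))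
theorem F356394 : act 0 n101404 = n84035 := (sb E101964 (iv1 D176189))
theorem E101965 : n119537 = n102452 := (c18_2 F356394 (iv4 F188511) (iv1 D102452) (iv4 D47532) (iv5 D22841) (iv4 F35394) F289618 F73698 (iv0 F289583) D101404)
theorem F356395 : act 3 n102452 = n54990 := (sb E101965 (iv3 D119537))
theorem F356396 : act 4 n102452 = n84035 := (sb E101965 F188511)
theorem E101966 : n176188 = n101236 := ((c15_4 (iv0 D176188) (iv0 F356394) (iv7 F290100) (iv2 F290101))).symm
theorem F356397 : act 1 n101236 = n84035 := (sb E101966 (iv0 D176188))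
theorem F356398 : act 6 n139606 = n185119 := d3_0 F356391 F356389 F345042
theorem F356399 : act 4 n185119 = n139607 := d10_1 F356398 (iv6 D139607) D139606
theorem F356400 : act 0 n185119 = n185215 := d21_10 (iv5 D185215) (iv1 F336648) (iv5 D99867) (iv6 D46641) (iv1 D22356) D22357 D46644 D99876 F345055 F356398
theorem F356401 : act 1 n182722 = n185215 := d15_0 (iv0 F356400) (iv7 F290110) (iv2 F295451)
theorem F356402 : act 0 n122401 = n88931 := d17_0 F290002 (iv1 D99848) (iv5 D46632) F34884 D41176 D88231 (iv5 F295453) F356401 F336768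
theorem F356403 : act 0 n89542 = n122401 := d20_10 (iv4 F336768) (iv1 F356401) F295452 (iv3 F356192) F356188 F328527 D136411 (iv1 F346048) (iv4 F346050) (iv3 F343259)
theorem F356404 : act 3 n89586 = n122401 := d20_5 (iv4 F157049) F356186 F331229 (iv3 F331225) (iv1 F157696) (iv4 F336768) (iv1 F356401) F295452 (iv3 F356192) F356188
theorem F356405 : act 2 n122401 = n88895 := d0_1 F356404 (iv3 D88895) F63993 D41839 D89586
theorem F356406 : act 0 n103959 = n139607 := d20_10 (iv4 F356399) F356400 F336768 (iv3 F356404) F157697 F72946 F66305 (iv1 F72333) (iv4 F290764) (iv3 F159416)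
theorem F356407 : act 5 n139607 = n101406 := d17_1 F356406 (iv1 F290117) (iv5 D177862) (iv4 D84680) D84681 D177865 (iv5 F277451) (iv0 F335646) (iv4 F343856)
theorem F356408 : act 6 n101406 = n139610 := d21_3 F343854 F356406 F356407 F342824 (iv6 D124427) (iv5 D58020) (iv1 F118770) D88641 F135896 (iv1 F343853)
theorem F356409 : act 0 n99874 = n91273 := d21_1 D99874 F292868 D103959 F356406 (iv6 D139607) (iv5 D65522) (iv1 F101950) (iv5 F329767) F329542 (iv1 F329533)
theorem E101967 : n101995 = n99875 := (c21_5 F356407 (iv1 F290117) (iv5 D177862) D177863 F290120 (iv6 D99875) D99874 F356409 F292868 D103959 F356406)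
theorem F356410 : act 1 n99875 = n177863 := (sb E101967 (iv0 F290120))
theorem F356411 : act 3 n99875 = n47376 := (sb E101967 (iv3 D101995))
theorem E101968 : n102392 = n88046 := (((F153788).symm.trans (sb E101967 F157207))).symm
theorem E101969 : n184645 = n47509 := ((D184645).symm.trans (sb E101968 (iv1 D102392)))
theorem E101970 : n184646 = n102376 := ((D184646).symm.trans (sb E101968 F157211))
theorem F356412 : act 1 n47509 = n88046 := (sb E101969 (iv0 D184645))
theorem F356413 : act 0 n102376 = n88046 := (sb E101970 (iv1 D184646))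
theorem F356414 : act 2 n176191 = n139607 := d15_3 (iv0 F356406) (iv0 F356196) F356195
theorem E101971 : n184647 = n182181 := (c17_2 F356413 D184647 (iv1 D182181) (iv5 D86987) F335618 D82039 (iv0 F289891) (iv5 D102546) F74797 (iv4 F157184))
theorem F356415 : act 5 n182181 = n88046 := (sb E101971 (iv5 D184647))
theorem E101972 : n182447 = n99875 := ((c20_1 (iv4 F153788) (iv1 D182447) F133711 (iv3 D42338) D42336 D90468 (iv4 F290584) (iv1 F143474) F142962 (iv3 F157183) F356413)).symm
theorem F356416 : act 0 n99875 = n87108 := (sb E101972 (iv1 D182447))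
theorem E101973 : n182184 = n139606 := (c21_5 (iv5 F356415) (iv1 D182181) (iv5 D86987) D86988 D182184 F356398 (iv5 D185119) (iv1 F157181) (iv5 D102375) D102376 F356413)
theorem F356417 : act 1 n139606 = n86988 := (sb E101973 (iv0 D182184))
theorem F356418 : act 7 n102391 = n102381 := d15_2 (iv0 F356413) F157206 F352768
theorem F356419 : act 2 n102382 = n102391 := d4_3 F356418 F352768 (iv7 F352772)
theorem F356420 : act 4 n185138 = n102391 := d11_3 F356418 F352769 (iv7 F289953)
theorem F356421 : act 6 n90090 = n102391 := d14_5 F356418 F352770 F154985 F294424 (iv7 F294426)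
theorem F356422 : act 0 n182203 = n98165 := d21_1 (iv5 F283645) (iv5 D98165) (iv6 D45855) F34435 (iv6 F294748) D87226 (iv1 F327637) (iv5 F328083) F356421 (iv1 F157206)
theorem F356423 : act 5 n182180 = n102391 := d21_2 D86987 D182180 (iv6 F356421) (iv1 F138486) D182442 (iv5 F340899) (iv1 F191813) (iv5 F299000) F289536 (iv1 D86985)
theorem F356424 : act 6 n134247 = n182180 := d12_0 F356423 (iv6 F356421) F328083 F170842 D134247
theorem F356425 : act 1 n171173 = n182180 := d17_6 D47562 D102541 F289879 (iv5 D82034) D82033 D171173 F356423 (iv0 D102391) F74702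
theorem F356426 : act 2 n89489 = n171173 := d15_3 F356425 (iv0 D182180) (iv7 F137166)
theorem F356427 : act 3 n171173 = n182151 := d0_2 (iv3 F137165) F356426 F283605 F133493 (iv2 F64433)
theorem F356428 : act 7 n171173 = n182178 := d4_2 (iv7 F137166) F356426 F283633
theorem F356429 : act 1 n182181 = n171173 := d15_1 D182181 F356428 F283633
theorem F356430 : act 0 n139607 = n171174 := d21_4 D41107 (iv1 F329679) D65522 D139607 (iv6 D171174) D171173 (iv1 F356429) F356415 (iv6 D88046) (iv1 D41106)
theorem F356431 : act 5 n171174 = n184625 := d17_1 F356430 (iv1 D184625) (iv5 D88033) (iv4 F73698) D99867 F336648 D185215 (iv0 F356400) F356399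
theorem F356432 : act 0 n171168 = n89038 := d20_4 F356399 F356430 F268920 (iv3 F268917) F136713 F133401 F68710 D41788 D89495 F343263
theorem F356433 : act 2 n89490 = n171174 := d15_3 (iv0 F356430) (iv0 F356406) F343855
theorem F356434 : act 3 n171174 = n182152 := d0_2 (iv3 F137167) F356433 F283606 F133494 (iv2 F64435)
theorem E101974 : n184625 = n101431 := (c2_3 F137169 F356433 F356431 (iv2 D101431))
theorem F356435 : act 0 n101431 = n88033 := (sb E101974 (iv1 D184625))
theorem F356436 : act 5 n101431 = n171174 := (sb E101974 (iv5 F356431))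
theorem F356437 : act 0 n89566 = n154802 := d21_1 F293392 F337114 D171168 F356432 (iv6 D89038) D89037 (iv1 F157824) F157822 F74848 (iv1 F293389)
theorem F356438 : act 1 n123808 = n185138 := d17_8 (iv1 F157206) (iv5 F283645) F356422 (iv5 D98165) F72423 (iv5 F298112) D57702 D123808 F356420
theorem E101975 : n177863 = n123808 := (c15_1 F356410 F356438 F289953 F268834)
theorem F356439 : act 0 n123808 = n99875 := (sb E101975 (iv1 F356410))
theorem F356440 : act 2 n123808 = n91379 := (sb E101975 (iv2 F290119))
theorem F356441 : act 3 n123808 = n101376 := (sb E101975 F290118)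
theorem F356442 : act 4 n123808 = n84682 := (sb E101975 F277439)
theorem E101976 : n123789 = n57702 := ((((iv5 D123808)).symm.trans (sb E101975 (iv5 F356380)))).symm
theorem F356443 : act 6 n123808 = n84680 := (sb E101975 (iv6 D177863))
theorem E101977 : n134141 = n27557 := ((((iv1 D57702)).symm.trans (sb E101976 (iv1 F356374)))).symm
theorem E101978 : n134140 = n120403 := (((F191814).symm.trans (sb E101976 F356378))).symm
theorem E101979 : n123805 = n89249 := (((iv2 F198272)).symm.trans (sb E101976 (iv2 F356371)))
theorem E101980 : n123807 = n57696 := ((D123807).symm.trans (sb E101976 (iv4 D123789)))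
theorem E101981 : n123860 = n123809 := (((D123809).symm.trans (sb E101976 F356370))).symm
theorem E101982 : n123800 = n120400 := ((F198271).symm.trans (sb E101976 (iv7 F356368)))
theorem E101983 : n63008 = n57701 := (((D57701).symm.trans (sb E101977 (iv1 D134141)))).symm
theorem F356444 : act 5 n120403 = n180886 := (sb E101978 F356379)
theorem F356445 : act 2 n89249 = n57702 := (sb E101979 F198272)
theorem F356446 : act 4 n57696 = n57702 := (sb E101980 (iv4 D123807))
theorem F356447 : act 0 n123809 = n111196 := (sb E101981 F342812)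
theorem F356448 : act 1 n123809 = n57716 := (sb E101981 (iv0 D123860))
theorem F356449 : act 2 n123809 = n134427 := (sb E101981 F342814)
theorem F356450 : act 7 n123809 = n63038 := (sb E101981 F342813)
theorem F356451 : act 7 n120400 = n57702 := (sb E101982 (iv7 F198271))
theorem F356452 : act 2 n57701 = n120400 := (sb E101983 (iv2 F356362))
theorem E101984 : n123801 = n87110 := ((D123801).symm.trans (sb E101983 (iv3 F329136)))
theorem E101985 : n123802 = n57695 := ((D123802).symm.trans (sb E101983 F356354))
theorem E101986 : n123803 = n87108 := ((D123803).symm.trans (sb E101983 F328770))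
theorem E101987 : n123804 = n29806 := ((D123804).symm.trans (sb E101983 (iv6 D63008)))
theorem F356453 : act 7 n57701 = n89249 := (sb E101983 (iv7 F356373))
theorem F356454 : act 3 n87110 = n57701 := (sb E101984 (iv3 D123801))
theorem F356455 : act 4 n57695 = n57701 := (sb E101985 (iv4 D123802))
theorem F356456 : act 5 n87108 = n57701 := (sb E101986 (iv5 D123803))
theorem F356457 : act 6 n29806 = n57701 := (sb E101987 (iv6 D123804))
theorem F356458 : act 6 n111165 = n89241 := d21_9 (iv5 F298112) D57701 (iv5 F356456) (iv6 D87108) D87104 (iv6 F294424) (iv5 F329834) F167967 D111165 F335729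
theorem E101988 : n98392 = n90782 := (c10_3 F356458 F335702 D98392 F345089)
theorem F356459 : act 6 n90782 = n46028 := (sb E101988 (iv6 D98392))
theorem F356460 : act 4 n121736 = n123783 := d5_4 F356455 (iv3 F356454) D182453 (iv3 F348458) (iv3 D123783)
theorem E101989 : n159468 = n105371 := (c20_8 (iv4 F356455) (iv1 F191842) (iv4 F304015) F304014 F356345 (iv3 F251122) (iv4 D159471) D159468 F161592 F90880 D57701)
theorem F356461 : act 0 n105371 = n114945 := (sb E101989 (iv1 F251116))
theorem F356462 : act 1 n105371 = n76281 := (sb E101989 (iv0 D159468))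
theorem E101990 : n159469 = n114126 := (c15_2 F356462 D159469 (iv7 D114126) (iv2 F161590))
theorem F356463 : act 0 n114126 = n76281 := (sb E101990 (iv1 D159469))
theorem F356464 : act 1 n114126 = n114945 := (sb E101990 F251120)
theorem E101991 : n122674 = n115012 := (c20_8 F40656 (iv1 F37056) F177795 D76281 (iv1 F356462) F161591 (iv4 F90066) D122674 (iv4 D115012) (iv3 D53069) (iv1 F40665))
theorem F356465 : act 0 n115012 = n151332 := (sb E101991 (iv1 F238055))
theorem F356466 : act 1 n115012 = n56984 := (sb E101991 (iv0 D122674))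
theorem E101992 : n123788 = n123699 := ((c20_5 (iv4 D115012) F343520 (iv4 F238389) F238388 (iv1 F198164) (iv3 D123788) F356446 (iv1 D57702) F44464 (iv3 F90065) (iv1 F356466))).symm
theorem F356467 : act 3 n123699 = n57696 := (sb E101992 (iv3 D123788))
theorem F356468 : act 4 n123806 = n131474 := d5_4 (iv4 F343518) F356467 F356446 D123806 (iv3 F343517)
theorem E101993 : n154320 = n123699 := (c8_1 D154320 F356467 (iv7 F356353) F356366)
theorem F356469 : act 2 n123699 = n73113 := (sb E101993 F242413)
theorem F356470 : act 7 n123699 = n73112 := (sb E101993 (iv7 D154320))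
theorem F356471 : act 0 n156480 = n149320 := d20_4 F44462 D57119 (iv4 F328741) (iv3 F246015) (iv3 F234745) (iv4 F206337) (iv1 F240576) (iv4 F343518) F356467 (iv1 D57696)
theorem E101994 : n117258 = n57694 := (c20_5 (iv4 D149320) F185140 D70144 F319683 D117258 F90875 F44462 D57119 (iv4 F328741) (iv3 F246015) F356471)
theorem E101995 : n123779 = n54043 := ((D123779).symm.trans (sb E101994 (iv0 D117258)))
theorem E101996 : n145997 = n123775 := ((((iv2 F198254)).symm.trans (sb E101994 (iv2 F264377)))).symm
theorem E101997 : n145996 = n123777 := ((((iv4 F198259)).symm.trans (sb E101994 F264378))).symm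
theorem F356472 : act 0 n54043 = n57694 := (sb E101995 (iv1 D123779))
theorem F356473 : act 0 n123775 = n117261 := (sb E101996 F229223)
theorem F356474 : act 1 n123775 = n117240 := (sb E101996 (iv0 F229224))
theorem F356475 : act 4 n123775 = n68448 := (sb E101996 (iv4 D145997))
theorem F356476 : act 7 n123775 = n117259 := (sb E101996 F264376)
theorem F356477 : act 2 n123777 = n68448 := (sb E101997 (iv2 D145996))
theorem F356478 : act 6 n149320 = n89563 := d21_5 F221789 (iv1 D74411) D74413 D156480 F356471 (iv5 D89563) (iv1 D41829) D41831 D89569 F337115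
theorem F356479 : act 1 n144874 = n145909 := d15_1 (iv0 F340878) F264325 (iv2 F356477)
theorem F356480 : act 2 n117259 = n123781 := d4_1 F356476 (iv7 D123781) (iv2 F198254)
theorem F356481 : act 1 n123781 = n117261 := d15_0 (iv0 F356473) F356476 F356480
theorem F356482 : act 1 n117240 = n123781 := d15_0 F356481 (iv7 D117261) (iv2 F183450)
theorem E101998 : n122705 = n47565 := (c20_1 D122705 (iv1 F304456) (iv4 F90877) (iv3 F198262) (iv1 F356482) (iv3 F348651) (iv4 F348656) (iv1 D118673) (iv4 F90066) F90065 D56993)
theorem E101999 : n102552 = n56993 := ((D102552).symm.trans (sb E101998 (iv4 D122705)))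
theorem E102000 : n122703 = n74417 := ((D122703).symm.trans (sb E101999 (iv2 F328740)))
theorem F356483 : act 4 n56993 = n47565 := (sb E101999 (iv4 D102552))
theorem E102001 : n122707 = n51295 := ((D122707).symm.trans (sb E101999 F328342))
theorem E102002 : n122708 = n102472 := ((D122708).symm.trans (sb E101999 F157519))
theorem F356484 : act 2 n74417 = n56993 := (sb E102000 (iv2 D122703))
theorem E102003 : n156491 = n56994 := ((D156491).symm.trans (sb E102000 (iv7 F196561)))
theorem F356485 : act 6 n51295 = n56993 := (sb E102001 (iv6 D122707))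
theorem F356486 : act 7 n102472 = n56993 := (sb E102002 (iv7 D122708))
theorem F356487 : act 2 n56994 = n102472 := (sb E102003 F340886)
theorem E102004 : n143256 = n122709 := (((D122709).symm.trans (sb E102003 F337209))).symm
theorem E102005 : n122710 = n102440 := ((D122710).symm.trans (sb E102003 (iv4 F328742)))
theorem E102006 : n134075 = n122712 := (((D122712).symm.trans (sb E102003 (iv6 F341439)))).symm
theorem F356488 : act 7 n56994 = n74417 := (sb E102003 (iv7 D156491))
theorem F356489 : act 0 n122709 = n72648 := (sb E102004 F316943)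
theorem F356490 : act 1 n122709 = n166111 := (sb E102004 F316944)
theorem F356491 : act 4 n122709 = n67116 := (sb E102004 F226077)
theorem F356492 : act 6 n122709 = n67115 := (sb E102004 (iv6 D143256))
theorem F356493 : act 7 n122709 = n156480 := (sb E102004 F337208)
theorem F356494 : act 4 n102440 = n56994 := (sb E102005 (iv4 D122710))
theorem F356495 : act 0 n122712 = n62976 := (sb E102006 (iv1 D134075))
theorem F356496 : act 1 n122712 = n63145 := (sb E102006 F216082)
theorem F356497 : act 2 n122712 = n63144 := (sb E102006 F343193)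
theorem F356498 : act 3 n122712 = n67115 := (sb E102006 F341437)
theorem F356499 : act 4 n122712 = n67130 := (sb E102006 F341438)
theorem F356500 : act 7 n122712 = n63143 := (sb E102006 F343194)
theorem F356501 : act 3 n111196 = n137387 := d20_3 (iv4 F356499) F356495 (iv4 F172441) (iv1 D137387) F100517 D64600 F328828 (iv4 F94296) D117434 F183941
theorem F356502 : act 0 n137388 = n142090 := d20_1 D137388 (iv4 F225985) (iv3 D143131) (iv1 F103051) D67130 (iv4 F356499) F356495 (iv4 F172441) F356501 (iv1 D137387)
theorem F356503 : act 3 n117342 = n137388 := d20_3 (iv4 F55364) F94332 (iv4 F183759) F356502 (iv3 D142090) (iv4 D66632) (iv1 D31084) D31085 F49474 D31963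
theorem F356504 : act 7 n137388 = n146485 := d8_2 (iv7 F183758) F356503 (iv3 D146485)
theorem F356505 : act 6 n137387 = n111185 := d7_2 D111196 F356501 F172428
theorem F356506 : act 0 n101992 = n137387 := d20_4 F322923 (iv1 F329860) (iv4 D102044) (iv3 F156953) (iv3 F356501) F172441 (iv1 F341416) F172345 (iv3 F328712) (iv1 F157857)
theorem F356507 : act 7 n101992 = n137366 := d15_2 D137387 (iv0 F356506) F220564
theorem F356508 : act 3 n137366 = n102045 := d8_1 F356507 (iv7 D102045) (iv3 F156953)
theorem F356509 : act 5 n122713 = n89518 := d17_3 (iv1 D56994) D56995 D122713 (iv4 D89518) (iv5 D41799) F335598 (iv5 F301277) (iv0 F304013) F356494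
theorem E102007 : n185138 = n182446 := ((c18_1 D182446 F356420 (iv1 F157206) F157184 D102440 F356494 F191754 (iv4 F191811) F191815 (iv5 F356456))).symm
theorem F356510 : act 0 n182446 = n123808 := (sb E102007 (iv1 F356438))
theorem F356511 : act 4 n182446 = n102391 := (sb E102007 F356420)
theorem F356512 : act 6 n182446 = n88234 := (sb E102007 (iv6 D185138))
theorem F356513 : act 7 n182446 = n171105 := (sb E102007 F289953)
theorem F356514 : act 1 n143513 = n153631 := d17_6 (iv1 F316939) (iv5 F86854) (iv1 F307073) (iv5 D67217) D67216 D143513 (iv5 D153631) (iv0 F356489) F356491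
theorem F356515 : act 0 n143514 = n140036 := d21_4 D153631 (iv1 F356514) (iv5 D143513) D143514 (iv6 D140036) D140035 (iv1 F226076) (iv5 D143255) (iv6 F356492) F356489
theorem F356516 : act 5 n120256 = n143520 := d18_9 (iv1 D143520) (iv4 F226223) F356515 F223250 (iv5 F320082) F194657 F191306 (iv4 F133097) (iv0 F312451)
theorem E102008 : n143745 = n143520 := (c20_10 (iv4 F226223) F356515 F223250 (iv3 F318959) (iv1 D37358) (iv3 F52031) F314933 (iv1 F184354) F184350 D143745 (iv1 D143520))
theorem F356517 : act 3 n143520 = n67330 := (sb E102008 (iv3 D143745))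
theorem F356518 : act 2 n154902 = n143520 := d0_5 F356517 (iv2 F311057) F319983 (iv2 F319982) F315546
theorem F356519 : act 6 n119726 = n143520 := d7_0 F356517 (iv6 F311575) D119726
theorem F356520 : act 7 n149746 = n143520 := d8_0 F356517 (iv7 F311054) (iv3 F235516)
theorem F356521 : act 2 n149746 = n142352 := d15_3 F342591 D143520 (iv7 F356520)
theorem F356522 : act 7 n142352 = n154902 := d4_2 (iv7 F356520) F356521 F356518
theorem F356523 : act 1 n143520 = n150623 := d15_0 (iv0 F342590) F356522 F356518
theorem F356524 : act 7 n156490 = n122711 := d13_2 F356488 D156490 (iv5 D122711)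
theorem F356525 : act 6 n122704 = n111210 := d7_2 F356485 D122704 F172471
theorem F356526 : act 6 n122706 = n111213 := d12_2 F356485 D122706 (iv5 D111213) (iv6 D51296) D51295
theorem F356527 : act 2 n156490 = n122706 := d3_3 F356526 F172476 (iv6 F246025)
theorem F356528 : act 6 n141268 = n134258 := d21_5 (iv5 D56995) D56993 D122706 F356526 (iv1 F224290) (iv5 D134258) F111702 D63107 (iv6 F329111) (iv1 D122714)
theorem E102009 : n139480 = n122428 := (c21_3 (iv5 D141268) (iv1 F217431) (iv5 F222668) (iv6 D122428) F302114 (iv6 F90075) (iv5 D56995) D56993 D122706 F356526 (iv1 F224290))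
theorem F356529 : act 0 n122428 = n156493 := (sb E102009 (iv1 F246034))
theorem F356530 : act 1 n122428 = n65457 := (sb E102009 (iv0 D139480))
theorem F356531 : act 5 n122428 = n135242 := (sb E102009 F222668)
theorem F356532 : act 7 n122428 = n143880 := (sb E102009 (iv7 F226503))
theorem F356533 : act 0 n122424 = n134258 := d21_4 (iv5 D27349) F297707 D56732 D122424 (iv6 F356528) (iv5 D141268) (iv1 F217431) (iv5 F356531) (iv6 D122428) F302114
theorem F356534 : act 6 n139431 = n179811 := d21_3 (iv5 D156493) (iv1 F111696) D139431 (iv1 D179811) F131729 (iv5 D39721) D39719 (iv5 F123428) D122428 F356529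
theorem F356535 : act 0 n100792 = n122704 := d21_4 F303332 (iv1 F73851) (iv5 F301799) D100792 F356525 (iv5 D111210) (iv1 F342223) F154055 (iv6 F301800) F147100
theorem F356536 : act 4 n122704 = n89443 := d20_2 (iv4 F154890) F356535 (iv3 D89443) (iv1 F64406) (iv3 F74643) D102269 F311506 (iv4 F346747) F346748 (iv1 D100794)
theorem F356537 : act 1 n89503 = n122704 := d15_0 (iv0 F356535) F353232 F157446
theorem F356538 : act 5 n89576 = n111208 := d21_0 (iv1 D111208) D111210 (iv6 F356525) (iv1 F356537) (iv6 D89503) (iv5 D41795) (iv1 F31432) D19690 D41834 D89576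
theorem F356539 : act 1 n117259 = n123778 := d15_0 (iv0 D123778) D123781 (iv2 F356480)
theorem F356540 : act 7 n123778 = n117240 := d15_2 D117259 F356539 F183450
theorem F356541 : act 2 n117261 = n123778 := d4_3 F356540 F183450 D117261
theorem F356542 : act 6 n134422 = n123778 := d14_5 F356540 (iv6 D117240) F85255 D68835 (iv7 F331627)
theorem F356543 : act 5 n138285 = n123521 := d21_8 (iv5 F309443) (iv1 D56942) (iv5 F44461) D57694 D123778 (iv6 F356542) (iv5 F340092) (iv1 F221491) (iv6 D123521) F309435
theorem F356544 : act 5 n114259 = n156455 := d6_2 F356543 F197942 F245963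
theorem F356545 : act 6 n123524 = n138285 := d12_0 F356543 (iv6 D123521) (iv5 D57568) D57569 D123524
theorem E102010 : n134975 = n68886 := (c21_8 D68875 (iv1 F105671) (iv5 D69390) D69391 (iv1 F309436) D123521 (iv5 F356543) (iv1 F221493) (iv5 D68886) (iv6 D32038) D32035)
theorem E102011 : n146958 = n63434 := ((D146958).symm.trans (sb E102010 (iv1 D134975)))
theorem E102012 : n146959 = n138285 := ((D146959).symm.trans (sb E102010 F221493))
theorem F356546 : act 1 n63434 = n68886 := (sb E102011 (iv0 D146958))
theorem F356547 : act 0 n138285 = n68886 := (sb E102012 (iv1 D146959))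
theorem F356548 : act 3 n125175 = n146960 := d20_5 (iv4 D24345) (iv1 F38154) D49905 (iv3 F111594) (iv1 F316476) (iv4 D146960) (iv1 F356546) (iv4 F167048) (iv3 D108053) (iv1 F78945)
theorem F356549 : act 6 n123538 = n134238 := d21_9 (iv5 F336961) (iv1 F216252) F336964 (iv6 D68879) (iv1 D32036) D32038 D68886 (iv1 F356546) (iv5 F329114) F347368
theorem F356550 : act 5 n134960 = n134971 := d12_3 F356549 F216273 (iv6 F217174) F217188 (iv5 F329114)
theorem F356551 : act 7 n146960 = n156269 := d8_2 (iv7 F232982) F356548 F332269
theorem F356552 : act 0 n146960 = n108033 := d19_4 F222367 (iv5 F314335) F201217 F356548 (iv5 D108033) F78896 (iv3 D49712) (iv1 F48619) (iv5 F98907) (iv4 D63570) (iv3 F97230) (iv1 F315832) (iv5 F316621) F316620 (iv3 F94838) D128270 F311925 F108230 D130374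
theorem E102013 : n146961 = n138284 := ((c11_2 F356551 (iv4 F332266) (iv7 D146961) D146960)).symm
theorem F356553 : act 2 n138284 = n134974 := (sb E102013 F340093)
theorem F356554 : act 5 n138284 = n68887 := (sb E102013 F230352)
theorem F356555 : act 7 n138284 = n68886 := (sb E102013 (iv7 D146961))
theorem F356556 : act 2 n146960 = n156268 := d15_3 (iv0 D156268) D156269 (iv7 F356551)
theorem F356557 : act 4 n156268 = n146829 := d1_2 D146960 F356556 F230177
theorem F356558 : act 5 n179911 = n156268 := d16_3 (iv4 F230381) F355444 F280194 F356557 (iv5 D146829) F105020 D68838 D146838 F230201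
theorem E102014 : n146829 = n138283 := (c15_4 (iv0 D138283) D138284 F356555 (iv2 F230177))
theorem F356559 : act 2 n138283 = n68886 := (sb E102014 F230177)
theorem F356560 : act 4 n138283 = n156268 := (sb E102014 (iv4 F356557))
theorem F356561 : act 5 n138283 = n68835 := (sb E102014 (iv5 D146829))
theorem F356562 : act 7 n138283 = n134974 := (sb E102014 F340094)
theorem F356563 : act 0 n111243 = n179913 := d17_0 (iv5 D179913) D179910 F336911 (iv4 F332266) F356554 F331634 F216395 (iv0 D111240) D111243
theorem F356564 : act 5 n108030 = n111243 := d17_1 D108030 F356563 (iv5 D179913) F131914 (iv5 F113849) (iv0 F339408) F330654 F321285 (iv4 F78896)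
theorem F356565 : act 7 n111244 = n123535 := d16_8 F233388 F320309 (iv4 F225418) F354245 (iv4 F354251) F356564 (iv4 D111243) D111244 (iv2 F335195)
theorem F356566 : act 1 n111244 = n123538 := d17_6 F356552 (iv5 D108033) D108030 F356564 (iv4 D111243) D111244 F329114 F356546 D146960
theorem E102015 : n148632 = n111249 := (c16_7 D111243 (iv5 F356564) F354251 (iv5 F354245) F225418 (iv5 F320309) (iv4 F233388) (iv5 D111249) F172549 (iv2 D111241))
theorem F356567 : act 0 n111249 = n123538 := (sb E102015 F340091)
theorem F356568 : act 2 n111249 = n123535 := (sb E102015 F335195)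
theorem F356569 : act 3 n111249 = n146287 := (sb E102015 F340090)
theorem F356570 : act 4 n111249 = n69657 := (sb E102015 F233388)
theorem F356571 : act 6 n111249 = n69655 := (sb E102015 (iv6 D148632))
theorem F356572 : act 6 n148631 = n151381 := d12_2 F356571 D148631 (iv5 D151381) F319245 D111249
theorem E102016 : n148628 = n117693 := (c21_5 F216395 (iv1 F172548) D111249 F356571 D148628 (iv6 D117693) (iv5 F183484) (iv1 F183485) (iv5 D68834) D68835 F331635)
theorem F356573 : act 1 n117693 = n69655 := (sb E102016 (iv0 D148628))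
theorem E102017 : n148629 = n148127 := (c15_2 F356573 D148629 (iv7 D148127) (iv2 F184315))
theorem F356574 : act 0 n148127 = n69655 := (sb E102017 (iv1 D148629))
theorem E102018 : n154964 = n151383 := ((c7_3 F356572 F238098 D151383 (iv3 F340083))).symm
theorem F356575 : act 0 n151383 = n73504 := (sb E102018 (iv1 D154964))
theorem F356576 : act 2 n151383 = n88826 := (sb E102018 F337222)
theorem F356577 : act 3 n151383 = n148631 := (sb E102018 (iv3 F340083))
theorem F356578 : act 4 n151383 = n94229 := (sb E102018 F337223)
theorem F356579 : act 5 n151383 = n148630 := (sb E102018 F340081)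
theorem F356580 : act 7 n151383 = n94232 := (sb E102018 F337224)
theorem F356581 : act 4 n89833 = n148631 := d10_3 F356572 (iv4 F349216) F349226
theorem F356582 : act 0 n148631 = n180879 := d21_4 F349218 (iv1 D151379) D151381 (iv6 F356572) (iv6 D180879) (iv5 D86393) F73520 (iv5 D46522) D46523 D99515
theorem F356583 : act 1 n148631 = n186482 := d15_1 (iv0 F356582) (iv7 F344216) (iv2 F281614)
theorem F356584 : act 7 n148631 = n95750 := d15_2 (iv0 F289544) (iv0 F356582) F147445
theorem F356585 : act 2 n95754 = n148631 := d4_3 F356584 F147445 (iv7 F147448)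
theorem F356586 : act 5 n95750 = n117896 := d13_1 F356584 F184891 D148631
theorem F356587 : act 2 n117896 = n186484 := d2_1 F356586 (iv5 D186484) (iv2 F147445)
theorem F356588 : act 4 n144510 = n95751 := d16_2 (iv4 F103766) D144510 (iv5 D95751) D95750 F356586 (iv4 D117896) (iv5 F322274) (iv7 D117066) (iv2 F183027)
theorem F356589 : act 5 n146808 = n88922 := d18_9 (iv1 D88922) F64059 D44720 D95750 F356586 (iv4 D117896) F237471 (iv4 F105016) D146808
theorem F356590 : act 2 n89723 = n146808 := d2_3 F356589 (iv2 F136480) D89723
theorem F356591 : act 3 n182995 = n146808 := d6_3 F356589 F344209 D182995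
theorem F356592 : act 7 n183385 = n146808 := d13_0 F356589 F136479 D183385
theorem F356593 : act 0 n138975 = n146808 := d17_0 F356589 (iv1 D88922) D88923 F347298 F340936 (iv0 D67733) D67735 (iv0 F322276) D138975
theorem F356594 : act 0 n95755 = n89907 := d17_2 (iv1 F137897) D95755 F138053 (iv4 F76107) F346304 D146808 F356589 F136478 (iv4 F137894)
theorem F356595 : act 3 n150139 = n183385 := d8_3 F356592 (iv3 F356591) (iv7 F345990)
theorem F356596 : act 2 n183385 = n146807 := d15_3 (iv0 D146807) D146808 (iv7 F356592)
theorem F356597 : act 3 n146807 = n89692 := d0_2 F356595 F356596 F137625 (iv3 F137674) F345992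
theorem F356598 : act 5 n146807 = n88921 := d2_2 D183385 F356596 F136476
theorem F356599 : act 7 n146807 = n89723 := d4_2 (iv7 F356592) F356596 F356590
theorem F356600 : act 1 n138975 = n146807 := d15_1 (iv0 F356593) F356599 F356590
theorem F356601 : act 5 n95754 = n144533 := d18_4 (iv1 F136474) (iv4 F137894) (iv1 F137897) D95754 (iv4 D144533) (iv0 F322276) D138975 F356600 F356598
theorem F356602 : act 3 n144533 = n186459 := d6_1 F356601 (iv5 D186459) (iv3 F147449)
theorem F356603 : act 7 n144533 = n186484 := d13_2 (iv7 F147448) F356601 (iv5 D186484)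
theorem E102019 : n148125 = n144533 := (c15_2 F278624 D148125 F356603 (iv2 F356587))
theorem F356604 : act 0 n144533 = n69398 := (sb E102019 (iv1 D148125))
theorem F356605 : act 1 n148127 = n186484 := d15_1 (iv0 F356574) (iv7 F356603) F322279
theorem F356606 : act 4 n144965 = n183385 := d18_3 F356604 F105681 D144965 (iv5 D183385) (iv4 F149590) F289532 (iv4 F136802) F289524 F356601
theorem F356607 : act 1 n155728 = n138965 := d18_6 F322276 D144533 F356604 F105681 (iv5 F185792) (iv4 F244738) (iv4 D138965) (iv0 D65233) D65235
theorem F356608 : act 4 n145511 = n144977 := d20_6 F356606 F285097 F346305 (iv3 F323818) (iv1 D145536) (iv3 F228569) (iv1 D144977) F104081 (iv3 F104079) D144965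
theorem F356609 : act 2 n144977 = n147889 := d1_1 F356608 (iv4 D147889) (iv2 F324924)
theorem F356610 : act 6 n119067 = n144977 := d3_0 F356609 F355313 (iv2 F288205)
theorem F356611 : act 5 n144977 = n152537 := d21_6 (iv5 D32365) F24929 (iv5 F42431) D54794 D119067 F356610 (iv1 D152537) (iv5 F177735) (iv6 D114120) (iv1 F83255)
theorem F356612 : act 6 n186459 = n151576 := d7_2 (iv6 F335196) F356602 (iv3 F335193)
theorem F356613 : act 4 n159914 = n186459 := d10_3 F356612 F335191 D159914
theorem F356614 : act 7 n186490 = n159914 := d11_0 F356613 F289306 D186490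
theorem F356615 : act 4 n89692 = n147786 := d20_6 D88861 (iv1 F137242) (iv4 D89528) F346303 D146807 F356597 (iv1 F343031) (iv4 D91380) (iv3 F74773) F74775
theorem F356616 : act 4 n166304 = n95379 := d18_7 (iv1 D41683) F31394 D19718 D41889 D89692 F356615 F337751 (iv0 F291987) (iv5 D89207)
theorem E102020 : n166304 = n163332 := (c18_9 (iv1 F340627) (iv4 D44542) D44540 D95361 (iv5 F348704) (iv4 D184087) (iv0 F137627) F356615 F337751 (iv5 D163332))
theorem F356617 : act 0 n163332 = n147786 := (sb E102020 (iv1 F337751))
theorem F356618 : act 1 n163332 = n79858 := (sb E102020 (iv0 D166304))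
theorem F356619 : act 4 n163332 = n95379 := (sb E102020 F356616)
theorem F356620 : act 3 n184087 = n154980 := d20_9 (iv4 D84994) F313308 (iv4 F84792) F84791 D69237 D147786 (iv4 F356615) F137627 D184087 (iv1 F243692)
theorem F356621 : act 4 n115226 = n152481 := d20_8 (iv4 F356615) F137627 D184087 F356620 (iv1 F243692) (iv3 F335985) F179438 D115226 F347813 F356617
theorem F356622 : act 6 n114607 = n115226 := d10_0 F356621 (iv6 D152481) (iv4 F347808)
theorem F356623 : act 2 n104896 = n163332 := d1_3 F356619 F147013 D104896
theorem F356624 : act 6 n95379 = n120436 := d10_2 F328756 F356619 F353625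
theorem F356625 : act 7 n178247 = n163332 := d11_0 F356619 (iv7 F292053) F333968
theorem F356626 : act 2 n91380 = n178247 := d4_3 F356625 (iv2 F356623) (iv7 F292466)
theorem E102021 : n147590 = n104897 := (c3_2 F356624 (iv2 F353626) (iv6 D104897) (iv2 F147013))
theorem F356627 : act 0 n104897 = n73059 := (sb E102021 F350742)
theorem F356628 : act 1 n104897 = n120438 := (sb E102021 F350743)
theorem F356629 : act 2 n104897 = n120436 := (sb E102021 F353626)
theorem F356630 : act 4 n104897 = n69173 := (sb E102021 (iv4 D147590))
theorem F356631 : act 7 n104897 = n120435 := (sb E102021 (iv7 F353599))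
theorem F356632 : act 5 n120436 = n183181 := d12_1 F356624 (iv6 D183181) (iv5 D87438) F291549 D95379
theorem F356633 : act 5 n91193 = n104897 := d2_2 F356632 (iv2 F294672) F356629
theorem F356634 : act 5 n183155 = n117336 := d16_3 (iv4 F353625) F356632 F284796 F183741 (iv5 D59165) D59164 D126203 F202962 F231069
theorem F356635 : act 3 n117337 = n183155 := d6_3 F356634 (iv3 D117336) D117337
theorem F356636 : act 7 n146460 = n183155 := d13_0 F356634 F183742 D146460
theorem F356637 : act 6 n183154 = n117337 := d7_0 F356635 (iv6 D183155) D183154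
theorem F356638 : act 2 n146563 = n183154 := d3_3 F356637 F183743 D146563
theorem F356639 : act 4 n146403 = n183154 := d10_3 F356637 F183745 D146403
theorem E102022 : n183154 = n146567 := ((c14_1 D146567 F356637 F183744 F335880 F85360 D68698)).symm
theorem F356640 : act 2 n146567 = n146563 := (sb E102022 (iv2 F356638))
theorem F356641 : act 3 n146567 = n87425 := (sb E102022 (iv3 D183154))
theorem F356642 : act 4 n146567 = n146403 := (sb E102022 (iv4 F356639))
theorem F356643 : act 5 n146567 = n92670 := (sb E102022 (iv5 F295370))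
theorem F356644 : act 6 n146567 = n117337 := (sb E102022 F356637)
theorem E102023 : n146566 = n93281 := ((c13_3 D146567 F356643 (iv7 F143862) (iv5 D146566))).symm
theorem F356645 : act 5 n93281 = n68698 := (sb E102023 (iv5 D146566))
theorem F356646 : act 6 n93281 = n68701 := (sb E102023 F229869)
theorem E102024 : n142107 = n93282 := (c7_2 F356646 (iv3 F225144) (iv6 D93282) D93281)
theorem F356647 : act 3 n93282 = n68701 := (sb E102024 F225144)
theorem F356648 : act 5 n93282 = n66638 := (sb E102024 (iv5 D142107))
theorem E102025 : n146577 = n93289 := (c10_2 F356646 D146577 (iv6 D93289) (iv4 F143861))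
theorem F356649 : act 4 n93289 = n68701 := (sb E102025 (iv4 D146577))
theorem F356650 : act 5 n106327 = n183173 := d2_2 F356648 (iv2 F320179) (iv2 F295354)
theorem E102026 : n142104 = n91174 := (c12_5 D93282 F356648 (iv6 D66638) D66637 D142104 F140224)
theorem F356651 : act 3 n91174 = n68698 := (sb E102026 F225143)
theorem F356652 : act 6 n91174 = n66637 := (sb E102026 (iv6 D142104))
theorem F356653 : act 7 n149367 = n93282 := d13_0 F356648 (iv7 F319420) D149367
theorem F356654 : act 4 n128177 = n184692 := d16_6 (iv4 F143863) F356648 F102568 (iv5 F317999) (iv4 F123759) F206312 F286691 (iv7 D183176) F295353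
theorem F356655 : act 4 n128176 = n93099 := d16_0 F143584 (iv4 F143863) F356648 F102568 (iv5 F317999) (iv4 F123759) F206312 F241913 F241915
theorem F356656 : act 6 n127811 = n92042 := d21_3 F205578 (iv1 F164485) (iv5 F205622) F141535 D93282 F356648 (iv1 F320182) (iv5 F205592) (iv6 D127800) D127797
theorem E102027 : n127813 = n94112 := ((c3_2 F356656 F295274 (iv6 D127813) D127811)).symm
theorem F356657 : act 3 n94112 = n60020 := (sb E102027 F205627)
theorem F356658 : act 6 n94112 = n60019 := (sb E102027 (iv6 D127813))
theorem F356659 : act 3 n92042 = n127816 := d7_1 F356656 F205630 (iv3 F205621)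
theorem F356660 : act 4 n92043 = n127811 := d10_3 F356656 (iv4 D92042) D92043
theorem F356661 : act 7 n185516 = n159844 := d14_4 (iv7 F205623) F356656 F295276 (iv6 F287782) F251979
theorem F356662 : act 0 n91188 = n114318 := d21_10 (iv5 D114318) F316766 D115868 F316771 (iv1 F205624) F356656 F295275 (iv1 F145052) F295292 D91188
theorem F356663 : act 0 n114340 = n183155 := d21_4 F163376 (iv1 F77580) D52767 D114340 (iv6 D183155) (iv5 F134210) D94112 (iv5 F295275) (iv6 F356656) (iv1 F205625)
theorem F356664 : act 5 n108678 = n114342 := d19_17 F356663 F356634 F183741 F93359 (iv1 F82653) (iv5 D52273) F40164 (iv3 F39712) (iv1 F39716) (iv5 D13327) (iv4 F9860) (iv3 D5385) (iv1 F8212) (iv5 F18871) (iv4 F38427) (iv3 F79516) (iv1 F168610) F178313 (iv3 F178312)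
theorem F356665 : act 6 n125496 = n106927 := d21_5 (iv5 F163118) F163119 F94494 (iv6 F339927) (iv1 F201843) F164793 (iv1 F168610) F356664 (iv6 D114342) (iv1 F94183)
theorem E102028 : n142059 = n91188 := (c17_2 (iv1 F180965) D142059 F356662 (iv5 D114318) F316767 (iv5 D66893) (iv0 F181475) D116621 F223693 F223691)
theorem F356666 : act 2 n91188 = n66637 := (sb E102028 F225071)
theorem F356667 : act 5 n91188 = n66619 := (sb E102028 (iv5 D142059))
theorem F356668 : act 0 n114319 = n148593 := d21_4 (iv5 F356667) F356662 (iv5 D114318) D114319 F314924 F125660 (iv1 F317894) F317897 (iv6 F324159) (iv1 F180965)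
theorem F356669 : act 3 n146345 = n113980 := d20_9 D113997 (iv1 F178230) F161725 (iv3 F178202) F356668 (iv3 D148593) (iv4 D69640) (iv1 F247752) (iv4 F229682) F177322
theorem F356670 : act 0 n183114 = n95953 := d21_7 F223917 (iv1 F180965) (iv5 F356667) (iv6 D91188) (iv1 F295288) (iv6 F134160) D183114 (iv5 F350239) (iv6 D140850) D140847
theorem E102029 : n184718 = n140850 := ((c17_4 (iv1 D183112) D183114 F356670 (iv5 F350239) (iv4 D184718) (iv5 D88079) (iv0 D41129) D41131 D88087 (iv4 F284728))).symm
theorem F356671 : act 4 n140850 = n88079 := (sb E102029 (iv4 D184718))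
theorem F356672 : act 7 n183114 = n95527 := d15_2 D95953 (iv0 F356670) F147144
theorem F356673 : act 2 n95956 = n183114 := d4_3 F356672 F147144 D95956
theorem F356674 : act 4 n95528 = n183114 := d11_3 F356672 (iv4 D95527) D95528
theorem F356675 : act 5 n95527 = n183115 := d13_1 F356672 (iv7 D183115) D183114
theorem F356676 : act 2 n183115 = n95955 := d2_1 F356675 (iv5 D95955) (iv2 F147144)
theorem F356677 : act 5 n95956 = n182032 := d9_8 F356675 F284730 F134161 (iv4 F132855) F300084 F70356 (iv5 F70360) (iv4 F147590) (iv4 D182032) (iv5 D86940) F299900 (iv5 D45229) F33982 D44620 D95527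
theorem F356678 : act 7 n182032 = n95955 := d13_2 D95956 F356677 (iv5 D95955)
theorem F356679 : act 4 n95955 = n182033 := d11_1 F356678 (iv7 D182033) D182032
theorem F356680 : act 1 n183112 = n95955 := d15_1 D183112 (iv7 F356678) F283427
theorem F356681 : act 0 n184726 = n95955 := d18_2 D88086 D184726 F356679 F283430 F302719 (iv0 F302871) F232506 (iv0 D41129) D41131
theorem F356682 : act 5 n95952 = n184721 := d17_3 F356681 (iv5 D95955) D95952 (iv4 D184721) (iv5 D88084) F72317 (iv5 F151242) F151245 D184726
theorem E102030 : n184726 = n183111 := (c15_1 (iv0 F356681) (iv0 D183111) D183115 F356676)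
theorem F356683 : act 0 n183111 = n95955 := (sb E102030 F356681)
theorem F356684 : act 4 n183111 = n88086 := (sb E102030 (iv4 D184726))
theorem F356685 : act 6 n184721 = n106303 := d12_2 (iv6 F348080) F356682 F163376 F82475 F164500
theorem F356686 : act 0 n95952 = n183114 := d21_7 (iv5 F134210) D94112 (iv5 F295275) (iv6 F356656) (iv1 F205625) (iv6 F356685) (iv5 F356682) (iv5 D183114) F134160 D87425
theorem F356687 : act 4 n106303 = n184722 := d10_1 F356685 (iv6 D184722) D184721
theorem F356688 : act 7 n184722 = n106302 := d11_2 D106303 F356687 (iv4 D106302)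
theorem F356689 : act 3 n151705 = n147975 := d5_3 F356671 F316753 (iv4 F238582) F231801 (iv3 F223919)
theorem E102031 : n184719 = n140849 := (c10_3 D140850 F356671 D184719 (iv4 D140849))
theorem F356690 : act 6 n140849 = n88079 := (sb E102031 (iv6 D184719))
theorem F356691 : act 3 n151985 = n140849 := d7_3 F356690 F316753 D151985
theorem F356692 : act 4 n147974 = n151985 := d5_0 F356691 (iv4 D140849) F101740 D69320 D147974
theorem F356693 : act 6 n151705 = n147974 := d10_0 F356692 (iv6 D151985) (iv4 F238582)
theorem F356694 : act 5 n147975 = n151942 := d6_2 (iv5 F238581) F356689 (iv3 D151942)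
theorem E102032 : n142103 = n91175 := (c1_3 (iv4 F140235) F356666 D142103 F140225)
theorem F356695 : act 4 n91175 = n66637 := (sb E102032 (iv4 D142103))
theorem E102033 : n141898 = n91192 := (c16_8 F356695 (iv5 D66637) (iv4 D31085) (iv5 D14698) (iv4 F24368) D31052 D66527 D141898 (iv7 D91192) (iv2 F140225))
theorem F356696 : act 5 n91192 = n66527 := (sb E102033 (iv5 D141898))
theorem F356697 : act 3 n159850 = n185516 := d8_3 F356661 F251978 D159850
theorem F356698 : act 4 n159844 = n185503 := d11_1 F356661 F329983 D185516
theorem F356699 : act 5 n159845 = n185516 := d13_3 F356661 (iv5 D159844) D159845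
theorem F356700 : act 6 n185503 = n159846 := d10_2 (iv6 F251979) F356698 (iv4 D159846)
theorem F356701 : act 5 n159846 = n182212 := d12_1 F356700 (iv6 D182212) (iv5 F133510) D88365 D185503
theorem F356702 : act 7 n159846 = n92043 := d14_2 (iv7 F329983) F356700 (iv6 D92043) F294835 (iv6 F135328)
theorem E102034 : n183127 = n127812 := (c4_2 F356702 F295278 F205626 (iv2 F251983))
theorem F356703 : act 2 n127812 = n92043 := (sb E102034 (iv2 F295278))
theorem F356704 : act 3 n127812 = n179749 := (sb E102034 (iv3 F290037))
theorem F356705 : act 5 n127812 = n88341 := (sb E102034 F284741)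
theorem F356706 : act 6 n127812 = n87411 := (sb E102034 (iv6 D183127))
theorem F356707 : act 7 n182947 = n182212 := d13_2 F356702 F295279 (iv5 F356701)
theorem F356708 : act 1 n114353 = n183098 := d15_0 (iv0 F295277) (iv7 F356702) F251983
theorem F356709 : act 2 n182212 = n185447 := d4_1 F356707 (iv7 D185447) (iv2 F284527)
theorem F356710 : act 4 n185447 = n182947 := d11_3 F356707 F283652 D185447
theorem F356711 : act 1 n185446 = n182212 := d15_1 D185446 (iv7 F356707) F284527
theorem F356712 : act 5 n114353 = n185447 := d16_1 D114353 F356710 (iv5 F295279) F356660 F205622 F114680 (iv5 F205622) F205623 F114675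
theorem F356713 : act 1 n182212 = n185445 := d15_0 (iv0 D185445) D185447 (iv2 F356709)
theorem F356714 : act 4 n179749 = n114525 := d5_2 D127812 F356704 (iv3 D114525) F83507 D60019
theorem F356715 : act 6 n185518 = n159850 := d7_0 F356697 F287782 D185518
theorem F356716 : act 4 n90290 = n185515 := d20_0 (iv1 D185515) D185516 (iv3 F356697) (iv1 F251992) F145564 F138941 (iv1 D90320) (iv4 D42218) (iv3 F65147) D90290
theorem F356717 : act 4 n185508 = n90288 := d17_4 (iv1 D185515) (iv5 D88368) D88366 D185508 (iv5 D90288) F67984 (iv5 F142618) F142621 F356716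
theorem F356718 : act 5 n127817 = n185518 := d12_5 F356715 F251990 (iv6 F176016) (iv5 F178325) (iv6 F205632)
theorem F356719 : act 7 n127816 = n185518 := d14_0 F356715 (iv7 D159850) F114683 (iv7 F94983) (iv6 F205630)
theorem F356720 : act 0 n115000 = n185518 := d21_4 F114334 (iv1 F177628) D53059 D115000 F356715 F251990 F176031 D90343 (iv6 F176041) (iv1 F163411)
theorem F356721 : act 3 n92004 = n127817 := d6_3 F356718 (iv3 D185518) (iv5 F295231)
theorem F356722 : act 5 n180780 = n114526 := d19_1 D180780 F178588 (iv3 F356657) (iv1 F145052) F295292 (iv4 D42694) F31976 (iv1 F293944) (iv5 D19608) (iv4 F293251) F293250 (iv1 F62687) F292642 (iv4 F12782) (iv3 F28057) F28059 D34437 (iv4 F60816) D86343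
theorem F356723 : act 0 n127807 = n108721 := d21_4 (iv5 D52865) D52862 (iv5 F94498) D127807 (iv6 F351075) F248827 D180780 F356722 (iv6 D114526) (iv1 F83516)
theorem E102035 : n127807 = n108675 := ((c17_2 F330487 D108675 F356723 (iv5 D108721) (iv4 F81070) D111363 (iv0 F351070) (iv5 D111342) F170397 F330492)).symm
theorem F356724 : act 0 n108675 = n108721 := (sb E102035 F356723)
theorem F356725 : act 2 n108675 = n114342 := (sb E102035 F205608)
theorem F356726 : act 4 n108675 = n60018 := (sb E102035 F205609)
theorem F356727 : act 6 n108675 = n60017 := (sb E102035 (iv6 D127807))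
theorem E102036 : n180780 = n108676 := (c12_4 F356727 F94498 D114526 (iv5 F356722) (iv6 D108676) D108675)
theorem F356728 : act 0 n108676 = n180482 := (sb E102036 (iv1 F281402))
theorem F356729 : act 1 n108676 = n86343 := (sb E102036 (iv0 D180780))
theorem F356730 : act 5 n108676 = n114526 := (sb E102036 F356722)
theorem E102037 : n108678 = n108672 := (c2_3 D108675 F356725 (iv5 F356664) F168608)
theorem F356731 : act 0 n108672 = n50178 := (sb E102037 (iv1 D108678))
theorem F356732 : act 1 n108672 = n50180 := (sb E102037 F168610)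
theorem F356733 : act 5 n108672 = n114342 := (sb E102037 F356664)
theorem F356734 : act 7 n114342 = n108670 := d13_2 D108672 F356733 (iv5 D108670)
theorem F356735 : act 4 n108670 = n114345 := d11_1 F356734 (iv7 D114345) (iv4 F178313)
theorem F356736 : act 6 n108670 = n107264 := d14_1 F356734 (iv7 F339919) (iv6 D127802) F94493 D114342
theorem E102038 : n108677 = n108667 := (c15_2 F356732 F168609 (iv7 F168607) (iv2 F168608))
theorem F356737 : act 0 n108667 = n50180 := (sb E102038 (iv1 F168609))
theorem F356738 : act 1 n108667 = n50178 := (sb E102038 (iv0 D108677))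
theorem F356739 : act 0 n108722 = n107404 := d21_4 D108675 F356724 (iv5 D108721) D108722 F165455 F92870 (iv1 F45134) D49429 D106992 F330487
theorem F356740 : act 3 n184692 = n100385 := d5_1 F356654 (iv4 D100385) (iv3 F154404) F328702 (iv3 F206313)
theorem E102039 : n134088 = n128118 := (c18_3 (iv1 F241922) F356654 (iv1 F354236) (iv4 D128118) (iv5 D60207) F46189 (iv0 F188426) (iv4 F57099) (iv0 F190374) (iv5 F241921))
theorem F356741 : act 0 n128118 = n93099 := (sb E102039 F354235)
theorem F356742 : act 1 n128118 = n184692 := (sb E102039 F354236)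
theorem F356743 : act 3 n128118 = n62986 := (sb E102039 F216111)
theorem F356744 : act 6 n128118 = n62985 := (sb E102039 (iv6 D134088))
theorem F356745 : act 7 n100385 = n184689 := d8_2 D184692 F356740 F286689
theorem F356746 : act 4 n184689 = n99821 := d11_1 F356745 F153679 D100385
theorem F356747 : act 2 n102584 = n184689 := d1_3 F356746 F153678 D102584
theorem F356748 : act 3 n99821 = n176121 := d5_1 F356746 (iv4 F300831) F264157 F343441 (iv3 F286689)
theorem F356749 : act 6 n99821 = n184688 := d10_2 D184689 F356746 (iv4 D184688)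
theorem F356750 : act 2 n184688 = n102585 := d3_1 F356749 (iv6 D102585) (iv2 F153678)
theorem F356751 : act 4 n102585 = n92651 := d1_2 D184688 F356750 F292933
theorem F356752 : act 6 n92651 = n102584 := d10_2 D102585 F356751 (iv4 D102584)
theorem F356753 : act 7 n100968 = n102585 := d11_0 F356751 F292934 D100968
theorem F356754 : act 3 n102584 = n92655 := d7_1 F356752 (iv6 D92655) (iv3 F142779)
theorem F356755 : act 5 n102584 = n92671 := d12_1 F356752 (iv6 D92671) (iv5 D43348) (iv6 F68045) D92651
theorem F356756 : act 2 n92671 = n183168 := d2_1 F356755 (iv5 F286690) (iv2 F356747)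
theorem F356757 : act 3 n146578 = n149367 := d8_3 F356653 F356647 D146578
theorem F356758 : act 4 n93285 = n149367 := d11_3 F356653 F143863 D93285
theorem F356759 : act 6 n116163 = n146460 := d14_3 (iv7 F295237) F356652 (iv7 F180977) F356636 (iv6 D183155)
theorem F356760 : act 3 n183173 = n151341 := d6_1 F356650 (iv5 D151341) (iv3 F348662)
theorem F356761 : act 6 n151341 = n183172 := d7_2 D183173 F356760 (iv3 D183172)
theorem F356762 : act 5 n146563 = n183167 := d16_3 (iv4 F143861) F356645 (iv4 F229868) (iv4 D183167) (iv5 D87431) F66326 D87431 (iv7 F295023) (iv2 D93288)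
theorem F356763 : act 2 n92670 = n183167 := d16_9 (iv4 D183167) (iv5 D87431) F66326 D87431 D183167 (iv5 F356762) F229868 (iv5 F356645) F143862
theorem F356764 : act 7 n146563 = n146403 := d16_8 (iv4 F229868) F356762 (iv4 D183167) (iv5 D87431) F66326 D87431 D183167 (iv5 F356762) F229725
theorem F356765 : act 6 n117323 = n117359 := d14_3 F356764 (iv6 D146403) (iv7 F183706) F183801 D146563
theorem F356766 : act 1 n146565 = n146563 := d15_1 D146565 F356764 F229725
theorem F356767 : act 6 n147976 = n147973 := d21_5 F104900 (iv1 D32219) D32220 D69321 D147976 F231798 (iv1 F183734) (iv5 F183800) (iv6 F356765) F183707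
theorem F356768 : act 1 n146563 = n146564 := d15_0 (iv0 D146564) D146567 F356640
theorem F356769 : act 3 n104897 = n89379 := d6_1 F356633 (iv5 F294661) (iv3 F140239)
theorem F356770 : act 0 n120431 = n98096 := d21_10 (iv5 D98096) (iv1 D45806) D45807 F72312 F294669 D91193 F356633 F356627 D154213 F242325
theorem F356771 : act 6 n144815 = n178960 := d21_9 F336343 (iv1 D85508) (iv5 F113812) (iv6 F317963) (iv1 F356618) (iv6 F328756) F328755 (iv1 F328753) (iv5 F227723) (iv1 F278851)
theorem F356772 : act 6 n146755 = n159014 := d21_5 (iv5 D163332) (iv1 F340627) (iv5 F292807) F322750 (iv1 F350771) F336343 (iv1 D85508) (iv5 F113812) (iv6 F317963) (iv1 F356618)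
theorem F356773 : act 6 n153645 = n127435 := d14_5 (iv7 F227724) F356771 F278848 (iv6 F339311) (iv7 F348691)
theorem F356774 : act 3 n127436 = n153645 := d7_3 F356773 (iv3 D127435) D127436
theorem E102040 : n153647 = n148790 := ((c10_2 F356773 (iv4 F233612) (iv6 D153647) D153645)).symm
theorem F356775 : act 6 n148790 = n72654 := (sb E102040 (iv6 D153647))
theorem F356776 : act 0 n127905 = n153645 := d21_4 F130079 (iv1 F328290) D104804 F342716 F356773 F204835 F202948 (iv5 F105457) (iv6 F350801) F340631
theorem F356777 : act 0 n153645 = n123697 := d21_4 (iv5 F231073) (iv1 F202947) (iv5 F204835) (iv6 F356773) (iv6 D123697) F90845 (iv1 F51790) (iv5 F94768) D128105 F311873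
theorem E102041 : n153644 = n148792 := (c20_10 (iv4 D117263) (iv1 F183462) (iv4 F340879) F340887 F340892 F238388 (iv4 F205819) F356776 (iv4 D153645) D153644 F243335)
theorem F356778 : act 3 n148792 = n72654 := (sb E102041 (iv3 D153644))
theorem F356779 : act 2 n127903 = n153645 := d15_3 (iv0 F356776) (iv0 F348667) F348673
theorem F356780 : act 6 n127903 = n163930 := d21_5 F337753 (iv1 F328691) (iv5 F329087) (iv6 F340283) (iv1 F342726) (iv5 D163930) F328754 (iv5 F328755) F328756 F356617
theorem F356781 : act 2 n163930 = n127435 := d3_1 F356780 (iv6 F356773) (iv2 F356779)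
theorem F356782 : act 0 n104834 = n166413 := d19_12 F181021 (iv5 F184117) F339709 F356595 F285097 (iv5 D102536) (iv4 F76072) (iv3 D48406) (iv1 F36651) (iv5 F70303) (iv4 F76233) (iv3 F160691) (iv5 D166413) (iv4 D79896) (iv3 D36396) (iv1 F43816) (iv5 F88993) F314935 (iv3 F104952)
theorem E102042 : n148052 = n89406 := ((c20_11 F231855 (iv1 F184118) F339709 F356595 F285097 F157498 (iv4 F137063) (iv1 F137064) (iv4 D41753) (iv3 F64388) D89406)).symm
theorem F356783 : act 2 n89406 = n186545 := (sb E102042 (iv2 F346003))
theorem F356784 : act 4 n89406 = n69351 := (sb E102042 F231855)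
theorem F356785 : act 5 n89406 = n185303 := (sb E102042 F337276)
theorem F356786 : act 6 n89406 = n69349 := (sb E102042 (iv6 D148052))
theorem F356787 : act 7 n89406 = n186544 := (sb E102042 F344205)
theorem F356788 : act 3 n154903 = n89406 := d20_5 F346305 F237515 D69655 D148630 F340087 F356784 (iv1 F184118) F339709 F356595 F285097
theorem F356789 : act 6 n116040 = n154903 := d7_0 F356788 F356786 (iv3 F322082)
theorem F356790 : act 2 n154903 = n140055 := d3_1 F356789 (iv6 D140055) (iv2 F181671)
theorem F356791 : act 4 n185303 = n91129 := d18_5 (iv1 F345988) (iv4 D148546) F183296 (iv4 F356784) F356785 (iv0 D91129) (iv4 F70069) (iv0 F293413) D183990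
theorem F356792 : act 0 n186543 = n89172 := d21_4 (iv5 F356785) (iv1 F289466) (iv5 D186542) D186543 (iv6 D89172) D89171 F338455 F329583 (iv6 F135192) D185303
theorem F356793 : act 1 n186543 = n137596 := d15_1 (iv0 F356792) F346014 (iv2 F346012)
theorem F356794 : act 1 n137596 = n93079 := d15_1 F356793 F291496 (iv2 F289467)
theorem E102043 : n102348 = n101033 := ((c17_7 (iv1 F328963) (iv5 D102200) (iv1 F328959) (iv5 D99420) F73436 D47070 D101033 F289470 F356793 (iv4 D137596))).symm
theorem F356795 : act 2 n101033 = n47492 := (sb E102043 (iv2 D102348))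
theorem F356796 : act 4 n101033 = n115264 := (sb E102043 (iv4 F346051))
theorem F356797 : act 5 n101033 = n186543 := (sb E102043 F289470)
theorem F356798 : act 3 n150140 = n98594 := d20_3 (iv4 D137596) (iv1 F328963) (iv4 F346039) (iv1 D98594) F72659 (iv4 F66279) (iv1 F74588) (iv4 F290963) (iv3 F143569) (iv1 F356794)
theorem E102044 : n102113 = n91129 := ((c10_2 F338451 F356791 (iv6 D102113) (iv4 F293736))).symm
theorem F356799 : act 6 n91129 = n47417 := (sb E102044 (iv6 D102113))
theorem E102045 : n93236 = n91126 := (c21_1 D93236 (iv1 D91126) (iv5 D42673) D42674 D91129 F356799 (iv5 F338449) F339519 (iv5 F339502) (iv6 F294780) (iv1 F140050))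
theorem F356800 : act 5 n91126 = n43616 := (sb E102045 (iv5 D93236))
theorem F356801 : act 6 n91126 = n136495 := (sb E102045 (iv6 F339536))
theorem F356802 : act 3 n96781 = n89408 := d20_5 (iv4 F313169) D36325 F313199 (iv3 F243095) (iv1 F345664) (iv4 D89408) D89406 F356784 F105617 F85956
theorem F356803 : act 7 n127535 = n96781 := d8_0 F356802 (iv7 F289473) F337129
theorem F356804 : act 7 n103144 = n124532 := d13_2 F356803 F158415 F313326
theorem F356805 : act 2 n124533 = n103144 := d4_3 F356804 (iv2 F315759) F315763
theorem F356806 : act 1 n186484 = n117693 := d15_0 F356573 (iv7 F184891) F356587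
theorem E102046 : n151364 = n146287 := ((c12_3 D151383 F356579 (iv6 F340089) (iv5 D151364) F107835 D71355)).symm
theorem F356807 : act 5 n146287 = n71347 := (sb E102046 (iv5 D151364))
theorem F356808 : act 4 n138616 = n117808 := d18_5 F314643 (iv4 D74530) (iv1 F53740) (iv4 F100872) D138616 (iv0 F337185) (iv4 F330637) (iv0 F330639) F356807
theorem F356809 : act 0 n155589 = n116055 := d21_4 D150773 (iv1 F349193) F349194 D155589 F327177 D138376 F330629 F356807 F107835 F107622
theorem F356810 : act 2 n117808 = n138620 := d1_1 F356808 (iv4 D138620) (iv2 F221784)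
theorem F356811 : act 6 n117806 = n138616 := d10_0 F356808 (iv6 D117808) D117806
theorem F356812 : act 7 n117808 = n149686 := d11_2 F337120 F356808 (iv4 F337118)
theorem F356813 : act 0 n117808 = n149664 := d18_2 F315852 F356808 (iv4 F330631) (iv5 D138376) (iv4 D64998) F53608 (iv4 F111674) (iv0 F313388) D124941
theorem E102047 : n142626 = n138312 := ((c17_5 (iv1 F246479) (iv5 D138306) (iv1 D64965) D64967 D138312 F334933 (iv0 F323527) (iv5 F235299) (iv0 F356813) (iv4 F356808))).symm
theorem F356814 : act 0 n138312 = n66855 := (sb E102047 (iv1 D142626))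
theorem F356815 : act 2 n138312 = n151764 := (sb E102047 F334932)
theorem F356816 : act 5 n138312 = n76580 := (sb E102047 F334933)
theorem F356817 : act 3 n151764 = n143027 := d0_2 (iv3 F340105) F356815 F225891 F103026 (iv2 F103013)
theorem F356818 : act 4 n151764 = n138308 := d1_2 D138312 F356815 F221506
theorem F356819 : act 6 n151764 = n142350 := d3_2 (iv6 F340106) F356815 F225264
theorem F356820 : act 7 n151764 = n160117 := d4_2 F246014 F356815 (iv2 F340104)
theorem F356821 : act 1 n151764 = n142628 := d15_0 (iv0 F340100) F246014 F356815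
theorem E102048 : n141497 = n125020 := ((c18_7 (iv1 D105769) F323335 (iv1 D71536) D71537 D151764 F356818 (iv0 F313391) (iv4 D141497) F224477 (iv5 F338209))).symm
theorem F356822 : act 4 n125020 = n66380 := (sb E102048 (iv4 D141497))
theorem F356823 : act 0 n106319 = n170585 := d20_1 F315567 F268014 (iv3 F267998) (iv1 F346242) (iv3 F356817) F356818 (iv1 F337094) (iv4 D141492) (iv3 F334917) (iv1 F335052)
theorem F356824 : act 4 n96035 = n106723 := d18_7 F356823 F268014 F318655 (iv4 F181615) F333591 F147652 D96035 (iv0 F350222) F350218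
theorem F356825 : act 2 n106732 = n96035 := d1_3 F356824 F164503 (iv4 F164513)
theorem F356826 : act 6 n106722 = n96035 := d10_0 F356824 (iv6 D106723) D106722
theorem F356827 : act 6 n149583 = n125020 := d10_0 F356822 (iv6 F334921) D149583
theorem F356828 : act 2 n155541 = n149583 := d3_3 F356827 F313393 F337088
theorem F356829 : act 7 n155546 = n149583 := d14_0 F356827 F200835 F337092 (iv7 F225867) (iv6 F350259)
theorem F356830 : act 1 n160078 = n155546 := d15_1 (iv0 F337086) F356829 (iv2 F356828)
theorem E102049 : n147246 = n143027 := ((c6_2 D151764 F356817 (iv5 D147246) F325810)).symm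
theorem F356831 : act 5 n143027 = n69026 := (sb E102049 (iv5 D147246))
theorem E102050 : n160117 = n142625 := (c15_4 (iv0 D142625) (iv0 F356814) (iv7 F246014) F340104)
theorem F356832 : act 2 n142625 = n156479 := (sb E102050 (iv2 F340104))
theorem F356833 : act 4 n142625 = n156475 := (sb E102050 (iv4 F337213))
theorem F356834 : act 5 n142625 = n151765 := (sb E102050 (iv5 F323403))
theorem F356835 : act 6 n142625 = n76683 := (sb E102050 (iv6 D160117))
theorem F356836 : act 7 n142625 = n151764 := (sb E102050 (iv7 F356820))
theorem F356837 : act 2 n138621 = n117806 := d3_3 F356811 F221784 D138621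
theorem F356838 : act 7 n154908 = n117806 := d14_0 F356811 (iv7 F337120) (iv6 D89569) F337109 D154908
theorem F356839 : act 4 n117804 = n138621 := d1_0 F356837 (iv4 D117806) D117804
theorem E102051 : n117804 = n117800 := ((c10_1 (iv6 F334944) F356839 (iv6 D138621) D138620)).symm
theorem F356840 : act 2 n117800 = n54264 := (sb E102051 (iv2 D117804))
theorem F356841 : act 4 n117800 = n138621 := (sb E102051 F356839)
theorem F356842 : act 7 n117800 = n54265 := (sb E102051 (iv7 F184494))
theorem F356843 : act 3 n150623 = n117800 := d8_3 F356842 D117810 F318167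
theorem F356844 : act 7 n117811 = n138621 := d11_2 F356842 D117811 (iv4 F356841)
theorem F356845 : act 2 n154908 = n117811 := d4_3 F356844 F356837 (iv7 F356838)
theorem F356846 : act 3 n138633 = n117811 := d8_3 F356844 F221790 D138633
theorem F356847 : act 6 n154802 = n117811 := d14_5 F356844 (iv6 D138621) (iv7 F111905) (iv6 F328915) (iv7 F243474)
theorem F356848 : act 6 n117376 = n150623 := d7_0 F356843 F334944 F329257
theorem F356849 : act 0 n143396 = n138621 := d20_1 (iv4 F226158) (iv4 F356841) (iv3 F356843) (iv1 F356523) F356517 (iv4 F184350) (iv1 F184353) (iv4 F166598) (iv3 F204533) F350252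
theorem F356850 : act 1 n143396 = n154908 := d15_1 (iv0 F356849) F356838 (iv2 F356837)
theorem F356851 : act 6 n143522 = n159616 := d3_2 F356848 (iv2 F314868) F314752
theorem F356852 : act 0 n149746 = n143522 := d21_4 (iv5 D67014) (iv1 F102979) F320542 D149746 F356851 (iv5 D159616) (iv1 F333253) (iv5 D143153) F324901 (iv1 F223171)
theorem F356853 : act 0 n143522 = n154902 := d21_4 D142650 F315212 D159616 (iv6 F356851) (iv6 D154902) F114895 (iv1 F353449) F353451 (iv6 F316974) F326892
theorem F356854 : act 4 n154902 = n148526 := d18_1 F356853 (iv1 D148526) F105888 (iv5 F317921) (iv4 F303932) (iv0 F190271) F233992 F233990 (iv5 F314869)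
theorem F356855 : act 1 n117810 = n154902 := d15_0 (iv0 F356853) (iv7 D143522) (iv2 F318164)
theorem F356856 : act 1 n149746 = n117810 := d15_0 F356855 (iv7 F356522) (iv2 F356521)
theorem F356857 : act 5 n102363 = n117811 := d19_17 (iv1 F356856) F235517 F314403 F244312 F306231 (iv5 F316290) (iv4 F181423) (iv3 D116378) F166093 F327685 F292731 (iv3 D22807) (iv1 D10774) D10775 D22813 D47497 D102363 (iv4 D117811) D117810
theorem F356858 : act 6 n148526 = n154901 := d10_2 D154902 F356854 (iv4 D154901)
theorem F356859 : act 7 n123536 = n111249 := d11_0 F356570 F315214 F352577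
theorem F356860 : act 2 n111244 = n123536 := d4_3 F356859 F356568 (iv7 F356565)
theorem F356861 : act 5 n111241 = n123536 := d13_3 F356859 (iv5 D111249) F172549
theorem F356862 : act 1 n123521 = n111244 := d15_0 F356566 (iv7 D123538) (iv2 F197941)
theorem F356863 : act 3 n111244 = n154255 := d20_5 (iv4 F96502) F328716 (iv4 F90739) (iv3 F197967) (iv1 F356566) (iv4 F349075) (iv1 D121368) (iv4 F90553) F90552 (iv1 F329212)
theorem F356864 : act 5 n154255 = n111242 := d6_2 D111244 F356863 (iv3 D111242)
theorem F356865 : act 1 n111249 = n123521 := d15_0 F356862 F356565 (iv2 F356568)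
theorem F356866 : act 0 n123524 = n139409 := d21_4 D111244 (iv1 F356862) (iv5 F356543) (iv6 F356545) (iv6 D139409) (iv5 F353543) (iv1 D134009) (iv5 D62950) F47903 D51308
theorem F356867 : act 5 n139409 = n130868 := d21_8 D120665 (iv1 F209466) F209467 F311851 (iv1 F90337) D57569 D123524 F356866 (iv6 D130868) (iv1 F95897)
theorem F356868 : act 6 n123928 = n134009 := d12_4 D139409 F356867 (iv6 D130868) (iv5 F314904) F353543
theorem F356869 : act 4 n145030 = n123928 := d10_3 F356868 F353542 (iv6 F227984)
theorem F356870 : act 2 n114600 = n145030 := d1_3 F356869 F314903 F214900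
theorem F356871 : act 6 n114640 = n114600 := d3_0 F356870 F227984 (iv2 F316468)
theorem F356872 : act 7 n114600 = n114650 := d14_2 D114640 F356871 (iv6 D114650) (iv7 D52917) (iv6 F83613)
theorem F356873 : act 4 n114650 = n123927 := d11_1 F356872 F314901 F214900
theorem E102052 : n133403 = n114601 := (c13_2 F356872 (iv5 F214502) (iv7 D114601) D114600)
theorem E102053 : n133402 = n114602 := (((iv2 F214496)).symm.trans (sb E102052 F214500))
theorem F356874 : act 3 n114601 = n110759 := (sb E102052 F214501)
theorem F356875 : act 5 n114601 = n114650 := (sb E102052 F214502)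
theorem F356876 : act 6 n114601 = n62617 := (sb E102052 (iv6 D133403))
theorem F356877 : act 0 n114602 = n114051 := (sb E102053 F214498)
theorem F356878 : act 1 n114602 = n114598 := (sb E102053 F214499)
theorem F356879 : act 2 n114602 = n114601 := (sb E102053 F214496)
theorem F356880 : act 4 n114602 = n62617 := (sb E102053 (iv4 D133402))
theorem F356881 : act 7 n114602 = n67990 := (sb E102053 F321170)
theorem F356882 : act 7 n110759 = n114599 := d8_2 D114601 F356874 (iv3 D114599)
theorem F356883 : act 6 n114599 = n142436 := d14_1 F356882 (iv7 F227978) F316733 (iv7 F171436) D110759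
theorem F356884 : act 2 n142489 = n114599 := d3_3 F356883 F225335 D142489
theorem F356885 : act 4 n142437 = n114599 := d10_3 F356883 (iv4 D142436) D142437
theorem F356886 : act 3 n104844 = n142437 := d5_5 F356885 (iv3 D114599) (iv4 D52897) (iv3 F83551) (iv4 F340324)
theorem F356887 : act 5 n142437 = n104842 := d6_2 D104844 F356886 (iv3 D104842)
theorem F356888 : act 6 n142434 = n104844 := d7_0 F356886 (iv6 D142437) (iv3 F225330)
theorem F356889 : act 5 n104845 = n142435 := d12_3 F356888 (iv5 D104844) D104845 (iv6 D142435) D142434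
theorem F356890 : act 6 n95526 = n143661 := d14_5 F226346 F356888 F340325 (iv6 D95946) (iv7 F335102)
theorem F356891 : act 6 n112937 = n176875 := d21_5 F306964 (iv1 F165366) D142434 F356888 F340322 (iv5 D176875) (iv1 F346846) (iv5 F346848) F346851 (iv1 F306962)
theorem E102054 : n176880 = n157231 := (c7_3 F356891 F276247 D176880 F247448)
theorem F356892 : act 5 n157231 = n164099 := (sb E102054 (iv5 F353277))
theorem F356893 : act 6 n157231 = n84320 := (sb E102054 (iv6 D176880))
theorem F356894 : act 4 n176875 = n112938 := d10_1 F356891 (iv6 D112938) D112937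
theorem E102055 : n106729 = n104849 := (c21_11 (iv5 D104849) (iv1 D48469) D48470 F76237 (iv1 F70155) D95534 (iv5 F160339) F346842 D176875 (iv6 F356891) (iv1 F175884))
theorem F356895 : act 0 n104849 = n49321 := (sb E102055 (iv1 D106729))
theorem F356896 : act 1 n104849 = n112937 := (sb E102055 F175884)
theorem F356897 : act 2 n95946 = n104849 := d15_3 F356896 (iv0 F340322) F340325
theorem E102056 : n104846 = n104782 := (c2_4 (iv5 F160520) F356897 (iv5 D104849) (iv2 F160699))
theorem F356898 : act 2 n104782 = n48469 := (sb E102056 F160699)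
theorem F356899 : act 7 n104782 = n48468 := (sb E102056 (iv7 D104846))
theorem E102057 : n104841 = n104781 := (c15_4 (iv0 D104781) D104782 F356899 D104841)
theorem F356900 : act 2 n104781 = n48468 := (sb E102057 (iv2 D104841))
theorem F356901 : act 7 n104781 = n48469 := (sb E102057 (iv7 F160698))
theorem F356902 : act 5 n104848 = n106724 := d16_1 D104848 (iv4 D106724) F77977 F77560 D52879 (iv4 F340324) (iv5 D104844) (iv7 F356899) F356898
theorem F356903 : act 0 n96280 = n104848 := d19_0 F356902 (iv4 D106724) (iv3 F107808) (iv1 F187369) F187366 F94199 (iv3 F53945) F53944 F310649 F117108 F116564 (iv1 F116694) F320941 F56557 (iv3 F56554) (iv1 F119989) (iv5 F119992) (iv4 F129300) (iv3 F327396)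
theorem E102058 : n176879 = n157232 := ((c5_4 F356894 F175886 (iv4 F112210) (iv3 F247449) (iv4 D176879) (iv3 F276247))).symm
theorem F356904 : act 4 n157232 = n84320 := (sb E102058 (iv4 D176879))
theorem E102059 : n107307 = n95951 := (c3_2 F356890 F226345 (iv6 D95951) (iv2 F335101))
theorem F356905 : act 0 n95951 = n144004 := (sb E102059 (iv1 F226668))
theorem F356906 : act 1 n95951 = n144007 := (sb E102059 (iv0 F226670))
theorem F356907 : act 2 n95951 = n143661 := (sb E102059 (iv2 F226345))
theorem F356908 : act 3 n95951 = n59657 := (sb E102059 F165369)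
theorem F356909 : act 4 n95951 = n142487 := (sb E102059 (iv4 F225396))
theorem F356910 : act 5 n95951 = n49579 := (sb E102059 (iv5 D107307))
theorem F356911 : act 7 n95951 = n111005 := (sb E102059 (iv7 F172125))
theorem F356912 : act 4 n143662 = n95526 := d10_3 F356890 (iv4 D143661) D143662
theorem E102060 : n107303 = n103734 := (c12_2 F356890 F226347 (iv6 D103734) (iv5 D48035) D48036 F147143)
theorem F356913 : act 0 n103734 = n111004 := (sb E102060 (iv1 F172090))
theorem F356914 : act 1 n103734 = n111003 := (sb E102060 F172089)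
theorem F356915 : act 2 n103734 = n49579 := (sb E102060 F165361)
theorem F356916 : act 3 n103734 = n53683 := (sb E102060 F165362)
theorem F356917 : act 4 n103734 = n49578 := (sb E102060 (iv4 D107303))
theorem F356918 : act 5 n103734 = n143661 := (sb E102060 (iv5 F226347))
theorem F356919 : act 7 n103734 = n66788 := (sb E102060 F165363)
theorem E102061 : n107304 = n103733 := (c10_3 D103734 F356917 D107304 (iv4 D103733))
theorem F356920 : act 2 n103733 = n49580 := (sb E102061 F165364)
theorem F356921 : act 3 n103733 = n66926 := (sb E102061 F165365)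
theorem F356922 : act 5 n103733 = n153728 := (sb E102061 F345163)
theorem F356923 : act 6 n103733 = n49578 := (sb E102061 (iv6 D107304))
theorem F356924 : act 7 n153686 = n103733 := d8_0 F356921 (iv7 F322353) D153686
theorem F356925 : act 2 n107312 = n153686 := d4_3 F356924 F356920 D107312
theorem F356926 : act 4 n103606 = n153686 := d11_3 F356924 (iv4 D103733) (iv7 F335080)
theorem F356927 : act 1 n107310 = n153686 := d15_1 D107310 F356924 F356920
theorem F356928 : act 3 n107310 = n102475 := d20_5 (iv4 D66963) (iv1 F320564) D72708 D153686 (iv1 F356927) (iv4 D102475) (iv1 F342515) F331213 (iv3 F225599) F342508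
theorem F356929 : act 4 n102477 = n107310 := d5_0 F356928 (iv4 D102475) (iv3 D47537) D47538 D102477
theorem F356930 : act 3 n119241 = n103606 := d20_5 (iv4 D46605) (iv1 F73589) D99755 F356230 (iv1 F356231) F356926 (iv1 F356927) (iv4 F356929) (iv3 D102477) F74733
theorem E102062 : n107312 = n103749 := (c1_2 F356926 (iv2 F356925) (iv4 D103749) (iv2 F335079))
theorem F356931 : act 2 n103749 = n153686 := (sb E102062 F356925)
theorem F356932 : act 3 n103749 = n49584 := (sb E102062 F165373)
theorem F356933 : act 6 n103749 = n111026 := (sb E102062 (iv6 F172184))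
theorem F356934 : act 7 n103749 = n49580 := (sb E102062 (iv7 D107312))
theorem F356935 : act 1 n153686 = n107309 := d15_0 (iv0 D107309) (iv7 F356934) F356931
theorem F356936 : act 4 n111026 = n103750 := d10_1 F356933 (iv6 D103750) D103749
theorem F356937 : act 3 n103750 = n111010 := d5_1 F356936 F172135 F80760 (iv4 F80777) (iv3 F172183)
theorem F356938 : act 7 n103750 = n111006 := d11_2 D111026 F356936 F172127
theorem F356939 : act 2 n95949 = n143662 := d1_3 F356912 F335101 D95949
theorem F356940 : act 7 n95944 = n143662 := d11_0 F356912 F335102 D95944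
theorem F356941 : act 3 n95527 = n113057 := d20_9 F82503 D112895 (iv4 F351263) F351262 F321169 (iv3 F226349) F356912 (iv1 D95526) D95527 (iv1 D113057)
theorem F356942 : act 3 n106746 = n95956 := d20_5 (iv4 D119102) (iv1 F86723) D106744 F333549 D106746 F147590 (iv1 F147142) (iv4 F356912) F226349 (iv1 F321168)
theorem F356943 : act 7 n95954 = n106746 := d8_0 F356942 (iv7 D95956) D95954
theorem F356944 : act 2 n95954 = n106747 := d15_3 F164536 F164539 (iv7 F356943)
theorem F356945 : act 6 n106747 = n96043 := d3_2 (iv6 F147589) F356944 (iv2 D96043)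
theorem F356946 : act 6 n113057 = n95543 := d7_2 (iv6 F147145) F356941 (iv3 D95543)
theorem F356947 : act 3 n114602 = n95944 := d8_3 F356940 F226349 (iv7 F356881)
theorem E102063 : n110758 = n95943 := ((c5_4 (iv4 F356880) F356947 (iv4 D95944) D95943 (iv4 D110758) F97849)).symm
theorem F356948 : act 0 n95943 = n112928 := (sb E102063 (iv1 F175873))
theorem F356949 : act 1 n95943 = n112926 := (sb E102063 (iv0 F175868))
theorem F356950 : act 4 n95943 = n51064 := (sb E102063 (iv4 D110758))
theorem E102064 : n106528 = n95954 := (c20_5 (iv4 D114051) F83166 D106520 (iv3 F333531) (iv1 F164540) (iv3 D95954) (iv4 D44783) D44781 D95944 (iv3 F356947) F356877)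
theorem F356951 : act 0 n95954 = n49228 := (sb E102064 (iv1 D106528))
theorem F356952 : act 1 n95954 = n106748 := (sb E102064 F164540)
theorem F356953 : act 7 n106527 = n106747 := d15_2 F356952 F164541 (iv2 F356944)
theorem F356954 : act 5 n135793 = n97307 := d18_4 (iv1 D61932) (iv4 F48419) D63852 D135793 F150044 F356952 F333532 (iv0 F349622) F349623
theorem E102065 : n132069 = n97308 := ((c6_3 F356954 (iv3 D97307) D97308 (iv3 F218388))).symm
theorem F356955 : act 0 n97308 = n61971 := (sb E102065 (iv1 D132069))
theorem F356956 : act 3 n97308 = n135793 := (sb E102065 (iv3 F218388))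
theorem F356957 : act 2 n163476 = n97308 := d0_5 F356956 F218386 (iv3 D132036) (iv2 F218395) (iv3 F349642)
theorem F356958 : act 2 n106746 = n106527 := d4_3 F356953 (iv2 F356944) F356943
theorem F356959 : act 3 n142489 = n95949 := d0_0 F356939 F226349 (iv2 F320378) D114599 (iv2 F356884)
theorem F356960 : act 6 n142487 = n95949 := d3_0 F356939 (iv6 D143662) (iv2 F225395)
theorem E102066 : n127101 = n95948 := ((c5_4 (iv4 F225400) F356959 (iv4 D95949) D95948 F204347 F162251)).symm
theorem F356961 : act 2 n95948 = n59664 := (sb E102066 F204346)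
theorem F356962 : act 4 n95948 = n105658 := (sb E102066 F204347)
theorem F356963 : act 6 n95948 = n59657 := (sb E102066 (iv6 D127101))
theorem F356964 : act 0 n95948 = n164623 := d21_4 F49648 F49603 D59657 (iv6 F356963) F259567 (iv5 D95782) F305033 (iv5 D67562) (iv6 D31387) D31384
theorem F356965 : act 0 n106574 = n125635 := d20_1 (iv4 F163846) F342969 F342975 (iv1 D142486) D142487 (iv4 F356909) F356905 F226666 F331453 (iv1 D106742)
theorem F356966 : act 3 n142440 = n104845 := d6_3 F356889 F225333 D142440
theorem F356967 : act 6 n104842 = n142440 := d7_0 F356966 (iv6 D104845) D104842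
theorem F356968 : act 2 n142492 = n104842 := d3_3 F356967 F225349 (iv6 F225401)
theorem F356969 : act 6 n123927 = n114649 := d10_2 D114650 F356873 F178747
theorem F356970 : act 6 n123518 = n119865 := d21_3 (iv5 D61531) F314894 D123518 (iv1 F355581) F355601 F335348 F268830 F335350 (iv6 F356969) F314898
theorem F356971 : act 5 n180879 = n120395 := d21_8 F191797 (iv1 F90337) D57568 D123521 (iv1 F356865) F356571 D148631 F356582 (iv6 D120395) D120393
theorem F356972 : act 0 n120395 = n158952 := d18_0 F250288 F230373 (iv4 F346817) F157444 F136295 D89834 (iv4 F137892) (iv0 F289544) F356971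
theorem F356973 : act 0 n122849 = n124523 := d20_4 (iv4 F85272) F356472 (iv4 F198259) F198258 (iv3 D124523) (iv4 F315634) (iv1 F147258) F317104 F242957 (iv1 D54045)
theorem F356974 : act 7 n122849 = n146012 := d15_2 (iv0 F315632) (iv0 F356973) (iv2 D146012)
theorem F356975 : act 4 n146012 = n117448 := d11_1 F356974 F321338 (iv4 F196848)
theorem E102067 : n146012 = n127431 := ((c15_2 (iv0 D127430) D127431 (iv7 F356974) (iv2 F337242))).symm
theorem F356976 : act 2 n127431 = n68453 := (sb E102067 (iv2 D146012))
theorem F356977 : act 4 n127431 = n117448 := (sb E102067 F356975)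
theorem F356978 : act 7 n127431 = n122849 := (sb E102067 (iv7 F356974))
theorem F356979 : act 7 n128197 = n153215 := d11_2 F356470 (iv4 F348697) (iv4 F343518)
theorem E102068 : n154315 = n123698 := (c15_4 (iv0 D123698) D123699 F356470 D154315)
theorem F356980 : act 2 n123698 = n73112 := (sb E102068 (iv2 D154315))
theorem F356981 : act 7 n123698 = n73113 := (sb E102068 (iv7 F242412))
theorem E102069 : n172869 = n128198 := ((c11_2 F356981 (iv4 F348698) (iv7 F343394) F343392)).symm
theorem F356982 : act 2 n128198 = n153215 := (sb E102069 F343395)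
theorem F356983 : act 3 n128198 = n82760 := (sb E102069 (iv3 D172869))
theorem F356984 : act 5 n128198 = n174035 := (sb E102069 F272767)
theorem F356985 : act 7 n128198 = n153214 := (sb E102069 (iv7 F343394))
theorem F356986 : act 2 n153214 = n128197 := d4_1 F356985 F356979 (iv2 F356982)
theorem F356987 : act 0 n174035 = n152664 := d18_0 F273325 F273326 (iv4 F263216) (iv5 F348671) (iv4 D153640) (iv0 D72653) (iv4 F94823) D128198 F356984
theorem F356988 : act 4 n110624 = n154321 := d5_4 (iv4 F348698) F356983 F303451 (iv3 F332152) (iv3 D154321)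
theorem F356989 : act 5 n101376 = n123806 := d9_0 F356468 (iv5 D131474) F96302 (iv5 F50560) (iv4 F104036) (iv5 F318687) (iv4 F290624) F140515 (iv4 F348525) (iv5 F348500) F348527 F210652 (iv4 F229177) F316443 (iv4 F156173)
theorem F356990 : act 2 n101383 = n123806 := d16_9 F356468 (iv5 D131474) F96302 (iv5 F50560) (iv4 F104036) (iv5 F318687) (iv4 F290624) F140515 (iv7 F156176)
theorem F356991 : act 2 n131475 = n178493 := d16_9 F348527 F210652 (iv4 F229177) F316443 (iv4 F156173) F356989 F356468 (iv5 D131474) D131475
theorem F356992 : act 1 n123814 = n123806 := d17_8 F337066 (iv5 D77642) D77640 D161651 (iv4 F339570) (iv5 D89233) (iv0 F290312) F343008 F356468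
theorem F356993 : act 7 n178493 = n131425 := d4_2 D131475 F356991 F210648
theorem F356994 : act 1 n178493 = n131472 := d15_0 (iv0 D131472) D131475 F356991
theorem F356995 : act 0 n178492 = n145633 := d21_7 F350903 (iv1 F350904) F306850 (iv6 F337064) (iv1 F356994) (iv6 D178493) D178492 F325024 D161841 (iv1 F344117)
theorem F356996 : act 1 n178492 = n145635 := d15_1 (iv0 F356995) (iv7 D145635) D145633
theorem F356997 : act 1 n145635 = n149029 := d15_1 F356996 F342403 F342402
theorem E102070 : n161637 = n161393 := ((c17_9 F228267 (iv5 D69839) F155097 (iv5 F96310) (iv4 F312051) D178492 F356996 F324095 D161393 F343983)).symm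
theorem F356998 : act 2 n161393 = n77723 := (sb E102070 (iv2 F314288))
theorem F356999 : act 4 n161393 = n145274 := (sb E102070 F343983)
theorem F357000 : act 5 n161393 = n167234 := (sb E102070 (iv5 F343980))
theorem F357001 : act 6 n161393 = n145272 := (sb E102070 (iv6 F343969))
theorem F357002 : act 7 n161393 = n77633 := (sb E102070 (iv7 D161637))
theorem E102071 : n115698 = n66156 := (c19_12 (iv1 F356996) (iv5 D178492) F312051 (iv3 F210758) (iv1 F215549) (iv5 F257302) (iv4 F312017) (iv3 F187757) (iv1 F187760) (iv5 F350928) (iv4 D115699) D115698 (iv1 D66156) D66158 (iv4 F339853) (iv3 D53499) F46774 (iv5 F50057) (iv4 F104415) (iv3 F228654))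
theorem E102072 : n141065 = n53352 := ((D141065).symm.trans (sb E102071 (iv3 D115698)))
theorem F357003 : act 3 n53352 = n66156 := (sb E102072 (iv3 D141065))
theorem F357004 : act 0 n103050 = n119981 := d21_1 (iv5 F353039) F189405 (iv6 F318470) (iv1 F356996) (iv6 F348498) (iv5 D159053) (iv1 F200964) (iv5 D125094) F92368 (iv1 F106023)
theorem F357005 : act 1 n148671 = n119981 := d15_0 (iv0 F357004) F349913 (iv2 F353029)
theorem F357006 : act 1 n150607 = n148671 := d15_0 F357005 F189406 D150607
theorem F357007 : act 6 n179318 = n161879 := d21_5 (iv5 D148671) (iv1 F106019) D74134 D155865 (iv1 F279205) (iv5 D161879) (iv1 D77745) D77748 (iv6 F326220) (iv1 F357005)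
theorem F357008 : act 1 n103050 = n150607 := d15_0 F357006 F353030 F349915
theorem E102073 : n155869 = n150600 := (c21_10 (iv5 F237144) (iv1 F357008) F353039 (iv6 F347858) (iv1 F187941) (iv6 F342294) (iv5 F317713) F170743 D110400 (iv6 F350821) (iv1 F237137))
theorem F357009 : act 2 n150600 = n120075 := (sb E102073 (iv2 F350822))
theorem F357010 : act 5 n150600 = n74135 := (sb E102073 (iv5 D155869))
theorem F357011 : act 6 n150600 = n110400 := (sb E102073 F350821)
theorem F357012 : act 7 n150600 = n120070 := (sb E102073 (iv7 F350823))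
theorem F357013 : act 2 n120070 = n150601 := d15_3 F237140 F237137 F357012
theorem F357014 : act 7 n120075 = n150601 := d4_2 (iv7 F357012) F357009 (iv2 F357013)
theorem F357015 : act 3 n150601 = n93098 := d8_1 F357014 F294653 (iv3 F354185)
theorem E102074 : n155874 = n150601 := ((c13_1 F357014 (iv5 D155874) (iv7 F347888) D120075)).symm
theorem F357016 : act 5 n150601 = n74136 := (sb E102074 (iv5 D155874))
theorem F357017 : act 1 n115797 = n128030 := d18_6 (iv1 D74136) D74137 (iv1 F354574) F179771 F349887 F219977 F206033 D150601 F357016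
theorem F357018 : act 6 n161888 = n113195 := d21_5 (iv5 F357016) (iv1 D150601) (iv5 F189405) F326220 D161888 (iv5 F347939) (iv1 F192208) (iv5 D85553) (iv6 F87428) (iv1 F110854)
theorem F357019 : act 5 n161888 = n100115 := d21_0 (iv1 F194826) (iv5 F302956) F302957 (iv1 F347886) (iv6 D155875) (iv5 F357016) (iv1 D150601) (iv5 F189405) F326220 D161888
theorem F357020 : act 3 n100116 = n161888 := d6_3 F357019 (iv3 D100115) D100116
theorem F357021 : act 7 n110426 = n161888 := d13_0 F357019 F274987 (iv5 F350645)
theorem E102075 : n141369 = n108360 := ((c17_5 (iv1 D77745) D77748 D161888 F357019 (iv4 F339023) (iv5 D141369) F167368 F315121 (iv0 F333662) F333729)).symm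
theorem F357022 : act 5 n108360 = n66314 := (sb E102075 (iv5 D141369))
theorem F357023 : act 4 n115291 = n161888 := d18_3 F350932 (iv4 D115699) (iv1 F179557) F357019 (iv4 F339023) (iv0 D108360) (iv4 F167535) (iv0 F339019) F339018
theorem E102076 : n156274 = n141368 := (c16_2 (iv4 F111532) D156274 (iv4 D141368) (iv5 F357022) F339023 (iv5 F357019) (iv4 F357023) (iv5 F245148) (iv7 D156033) F111044)
theorem F357024 : act 5 n141368 = n74335 := (sb E102076 (iv5 D156274))
theorem F357025 : act 0 n161888 = n115694 := d21_1 (iv5 F357019) (iv5 F350924) F337665 (iv1 D131388) (iv6 D61665) D61664 F322686 (iv5 F322688) F312404 F194825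
theorem F357026 : act 6 n167351 = n100115 := d21_5 D131389 F337666 (iv5 D80313) D80314 D167351 (iv5 F357019) F357025 (iv5 F350924) F337665 (iv1 D131388)
theorem E102077 : n179285 = n163078 := (c21_5 (iv5 F347850) (iv1 F279190) (iv5 D85549) D85550 D179285 F350669 F350670 F194825 (iv5 F357019) F357018 (iv1 F347855))
theorem F357027 : act 1 n163078 = n85550 := (sb E102077 (iv0 D179285))
theorem F357028 : act 3 n100117 = n167351 := d7_3 F357026 (iv3 D100115) D100117
theorem F357029 : act 7 n178439 = n167351 := d14_0 F357026 F274987 (iv6 F326656) F333675 D178439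
theorem F357030 : act 5 n156273 = n153584 := d17_7 (iv1 D74145) (iv5 F79187) D108360 F357022 D141368 F357024 D156273 (iv0 F244894) (iv4 D155903)
theorem F357031 : act 2 n161888 = n115696 := d1_1 F357023 F180040 (iv2 F179554)
theorem E102078 : n119482 = n115704 := (c18_5 F316557 (iv4 F343409) (iv1 D141372) (iv4 F344031) D119482 (iv4 D115704) F179556 F357023 (iv0 D161888) (iv5 D77748))
theorem F357032 : act 0 n115704 = n110345 := (sb E102078 F339020)
theorem F357033 : act 2 n115704 = n126633 := (sb E102078 (iv2 F336281))
theorem F357034 : act 3 n115704 = n126794 := (sb E102078 (iv3 F336282))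
theorem F357035 : act 5 n115704 = n54974 := (sb E102078 (iv5 D119482))
theorem F357036 : act 6 n115704 = n126631 := (sb E102078 F336279)
theorem F357037 : act 4 n126631 = n115706 := d10_1 F357036 (iv6 D115706) D115704
theorem F357038 : act 2 n115706 = n108822 := d1_1 F357037 F168785 D126631
theorem F357039 : act 3 n115706 = n139630 := d5_1 F357037 F222796 (iv3 F204020) F204021 (iv3 F203714)
theorem F357040 : act 7 n115706 = n126686 := d11_2 (iv7 F203715) F357037 F203869
theorem F357041 : act 0 n115706 = n126685 := d20_1 F357037 (iv4 F350868) F350866 (iv1 F218786) F100118 F100052 (iv1 F99481) (iv4 F203946) (iv3 D126727) (iv1 F203716)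
theorem F357042 : act 5 n115592 = n126685 := d17_7 (iv1 F203718) D126733 (iv1 F220099) (iv5 D115589) (iv4 D53317) D53318 D115592 (iv0 F357041) (iv4 F357037)
theorem F357043 : act 0 n126684 = n115706 := d20_10 (iv4 F357037) (iv1 F203718) D126732 (iv3 F203959) (iv1 F179449) (iv3 F164991) F164992 (iv1 F82136) D112673 (iv3 F203868)
theorem F357044 : act 4 n132481 = n126684 := d20_0 F357043 (iv4 F357037) F203714 (iv1 F203698) F323525 F319832 F316022 (iv4 F319227) D141805 F354187
theorem F357045 : act 5 n126684 = n115591 := d17_5 F224449 (iv5 F324737) D62153 D132481 F357044 (iv0 D115591) (iv5 D53318) D53315 D115581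
theorem E102079 : n115591 = n115560 := (c17_2 D126684 F357045 (iv1 D115560) (iv5 F330520) F179497 D126836 F204082 (iv5 D126729) (iv0 D59462) (iv4 F93824))
theorem F357046 : act 1 n115560 = n53318 := (sb E102079 (iv0 D115591))
theorem F357047 : act 5 n115560 = n126684 := (sb E102079 (iv5 F357045))
theorem F357048 : act 6 n115676 = n126684 := d21_5 (iv5 D53202) (iv1 F82577) F82575 D53347 D115676 (iv5 F357047) (iv1 D115560) (iv5 F330520) F330514 (iv1 F84046)
theorem F357049 : act 4 n112766 = n115676 := d10_3 F357048 (iv4 F357044) (iv6 F350848)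
theorem E102080 : n156247 = n115703 := (c7_3 D115706 F357039 (iv6 F339881) (iv3 D115703))
theorem F357050 : act 1 n115703 = n74327 := (sb E102080 (iv0 D156247))
theorem F357051 : act 2 n115703 = n139631 := (sb E102080 (iv2 F339882))
theorem F357052 : act 6 n115703 = n139630 := (sb E102080 F339881)
theorem F357053 : act 3 n108823 = n115702 := d0_4 D115703 F357051 F222797 (iv2 F168788) F180042
theorem F357054 : act 4 n115702 = n126633 := d5_2 (iv4 F168789) F357053 F203721 F93773 (iv3 F79620)
theorem F357055 : act 6 n115702 = n108822 := d7_2 D108823 F357053 (iv3 D108822)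
theorem F357056 : act 7 n126687 = n115701 := d14_4 D115702 F357055 F168787 D126687 (iv6 D115701)
theorem F357057 : act 3 n115701 = n115373 := d8_1 F357056 F179648 (iv3 F203870)
theorem F357058 : act 4 n115701 = n126744 := d11_1 F357056 (iv7 D126744) (iv4 F203871)
theorem F357059 : act 6 n126744 = n115699 := d10_2 D115701 F357058 (iv4 D115699)
theorem F357060 : act 5 n115682 = n115706 := d2_0 F357038 F168786 D115682
theorem F357061 : act 3 n130957 = n115682 := d6_3 F357060 F357039 F330573
theorem F357062 : act 5 n115696 = n121989 := d2_2 (iv5 F357019) F357031 (iv2 F274986)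
theorem F357063 : act 1 n115696 = n161882 := d15_0 (iv0 F350642) F357021 F357031
theorem F357064 : act 1 n117089 = n115696 := d15_0 F357063 (iv7 F350927) F350925
theorem E102081 : n115702 = n115290 := (c18_6 (iv1 F333720) (iv4 F312335) F333723 F185603 (iv5 F331936) (iv4 F357054) F179553 (iv4 F180040) F357063 (iv5 D161882))
theorem F357065 : act 2 n115290 = n53353 := (sb E102081 F180042)
theorem F357066 : act 3 n115290 = n108823 := (sb E102081 (iv3 F357053))
theorem F357067 : act 4 n115290 = n126633 := (sb E102081 F357054)
theorem F357068 : act 6 n115290 = n108822 := (sb E102081 F357055)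
theorem F357069 : act 7 n115290 = n53352 := (sb E102081 (iv7 D115702))
theorem E102082 : n115697 = n115289 := (c15_4 (iv0 D115289) D115290 F357069 D115697)
theorem F357070 : act 2 n115289 = n53352 := (sb E102082 (iv2 D115697))
theorem F357071 : act 7 n115289 = n53353 := (sb E102082 (iv7 F180041))
theorem E102083 : n115680 = n115577 := (c21_8 (iv5 F245083) (iv1 F245474) (iv5 F347949) (iv6 D115707) (iv1 F179553) F357068 F168786 D115680 (iv5 D115577) (iv6 F351322) (iv1 F245081))
theorem F357072 : act 1 n115577 = n53348 := (sb E102083 (iv0 D115680))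
theorem E102084 : n115681 = n115582 := ((c21_1 D115582 (iv1 D115681) (iv5 F168786) (iv6 F357068) (iv1 D115290) (iv6 D53188) (iv5 D25793) D25790 D53176 (iv6 F330514) (iv1 F179501))).symm
theorem F357073 : act 0 n115582 = n53348 := (sb E102084 (iv1 D115681))
theorem F357074 : act 6 n117089 = n139884 := d21_5 (iv5 F192210) (iv1 F192215) (iv5 F351342) F351343 (iv1 F357064) F223105 F351329 (iv5 D179271) (iv6 D85545) D85540
theorem F357075 : act 5 n141367 = n100112 := d6_2 F357022 D141367 F339022
theorem E102085 : n141370 = n140997 := (c21_4 (iv5 F79187) D108360 F357022 D141370 (iv1 F228714) F318641 (iv5 F333647) F333644 F333634 (iv6 F333635) (iv1 D74145))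
theorem F357076 : act 5 n140997 = n140998 := (sb E102085 F224413)
theorem F357077 : act 6 n140997 = n66314 := (sb E102085 (iv6 D141370))
theorem F357078 : act 6 n144474 = n108360 := d21_5 D61669 F318755 (iv5 F318065) F318066 D144474 F357022 (iv1 D66314) D66315 F102224 (iv1 F318851)
theorem F357079 : act 0 n144474 = n131485 := d21_4 (iv5 F315121) (iv1 F167368) (iv5 F357022) (iv6 F357078) (iv6 D131485) D131484 (iv1 F264353) F333654 (iv6 F333664) F333662
theorem F357080 : act 5 n155942 = n144474 := d21_0 F357079 (iv5 F317338) F227295 (iv1 F223020) (iv6 F333642) F316355 (iv1 F104060) F315683 D116201 F311036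
theorem F357081 : act 6 n140998 = n155942 := d21_5 D139849 (iv1 F333645) F333647 (iv6 F318641) F228713 F357080 F357079 (iv5 F317338) F227295 (iv1 F223020)
theorem F357082 : act 4 n167351 = n144474 := d10_3 F357078 F339023 (iv6 F357026)
theorem F357083 : act 1 n142462 = n141367 := d18_8 F339025 F284948 F335235 F307746 (iv5 F322123) D142384 F347184 (iv4 F225383) F357075
theorem F357084 : act 4 n93105 = n150601 := d5_0 F357015 (iv4 D93098) F68447 D43561 D93105
theorem F357085 : act 3 n141066 = n115700 := d6_3 (iv5 D115700) F357003 D141066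
theorem F357086 : act 3 n145274 = n181018 := d20_3 (iv4 F312351) (iv1 F255221) F356999 F332055 F307435 F119494 F189991 (iv4 F77335) (iv3 F162788) (iv1 F310060)
theorem E102086 : n181018 = n177044 := (c7_2 D145274 F357086 (iv6 D177044) F343979)
theorem F357087 : act 0 n177044 = n149000 := (sb E102086 F332055)
theorem F357088 : act 1 n177044 = n86499 := (sb E102086 F332056)
theorem F357089 : act 3 n177044 = n145274 := (sb E102086 (iv3 F357086))
theorem F357090 : act 7 n177044 = n86453 := (sb E102086 (iv7 D181018))
theorem F357091 : act 2 n177044 = n162844 := d15_3 F257117 F311868 (iv7 F357090)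
theorem E102087 : n177040 = n177036 := ((c3_3 D177044 F357091 F335262 (iv2 D177040))).symm
theorem F357092 : act 2 n177036 = n84380 := (sb E102087 (iv2 D177040))
theorem F357093 : act 7 n177036 = n84381 := (sb E102087 (iv7 F276460))
theorem F357094 : act 7 n162844 = n180820 := d4_2 (iv7 F357090) F357091 F281496
theorem F357095 : act 7 n177047 = n172019 := d11_2 F357093 D177047 (iv4 F276452)
theorem F357096 : act 7 n177048 = n140721 := d13_2 F357093 D177048 (iv5 F340798)
theorem E102088 : n177045 = n177037 := (c15_4 F276454 (iv0 F276453) F357093 (iv2 F276461))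
theorem F357097 : act 2 n177037 = n84381 := (sb E102088 F276461)
theorem F357098 : act 6 n177037 = n86362 := (sb E102088 F317264)
theorem F357099 : act 7 n177037 = n84380 := (sb E102088 (iv7 D177045))
theorem F357100 : act 3 n131271 = n177037 := d8_3 F357099 F343979 F210368
theorem F357101 : act 5 n140720 = n177037 := d21_8 (iv5 F74445) (iv1 F74449) (iv5 F116039) D161016 F340794 (iv6 F324356) (iv5 D140722) D140720 F357098 (iv1 F132358)
theorem F357102 : act 6 n140720 = n125169 := d12_2 (iv6 F357098) (iv5 F357101) F312679 F310489 (iv5 F305452)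
theorem F357103 : act 2 n177048 = n140720 := d3_3 F357102 (iv2 F314451) (iv6 F344472)
theorem F357104 : act 3 n125171 = n140720 := d7_3 F357102 (iv3 D125169) D125171
theorem F357105 : act 7 n140720 = n144470 := d8_2 F315135 F357104 (iv3 D144470)
theorem F357106 : act 2 n144470 = n140721 := d4_1 F357105 (iv7 F357096) F357103
theorem E102089 : n177043 = n144470 := ((c13_1 F357105 (iv5 D177043) (iv7 F357099) (iv5 F357101))).symm
theorem F357107 : act 0 n144470 = n140716 := (sb E102089 (iv1 F343987))
theorem F357108 : act 5 n144470 = n84380 := (sb E102089 (iv5 D177043))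
theorem F357109 : act 1 n177042 = n164598 := d18_6 D74783 D157285 F341154 (iv4 F341153) F357108 D177042 F259516 (iv0 F331876) (iv5 D74785)
theorem F357110 : act 1 n144470 = n138561 := d15_1 (iv0 F357107) F324369 (iv2 F223811)
theorem F357111 : act 2 n177042 = n172019 := d1_3 (iv4 F276452) F357092 D177042
theorem F357112 : act 1 n164598 = n177047 := d15_1 F357109 F357095 (iv2 F357111)
theorem E102090 : n175108 = n126809 := (c18_5 (iv1 F314432) (iv4 F149008) (iv1 F311819) F311821 D175108 F204058 D140675 F342418 F356997 (iv5 D149029))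
theorem F357113 : act 5 n126809 = n83630 := (sb E102090 (iv5 D175108))
theorem E102091 : n150127 = n140677 := (c16_1 D150127 (iv5 D140677) (iv4 F204058) F357113 (iv4 F311821) F234292 (iv4 F155724) F331760 (iv7 F331761) F155719)
theorem F357114 : act 4 n140677 = n70656 := (sb E102091 (iv4 D150127))
theorem F357115 : act 1 n131473 = n178493 := d15_1 D131473 F356993 F210648
theorem F357116 : act 3 n131431 = n158522 := d20_3 (iv4 F337040) (iv1 D151991) (iv4 F210665) (iv1 D158522) (iv3 F307487) (iv4 F274636) (iv1 F274645) F272840 F348509 (iv1 F357115)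
theorem F357117 : act 2 n114900 = n122675 := d15_3 F238054 (iv0 F356465) F179095
theorem F357118 : act 4 n122675 = n114899 := d1_2 D114900 F357117 (iv2 D114899)
theorem F357119 : act 7 n151329 = n122675 := d15_2 F340894 F238053 (iv2 F357117)
theorem F357120 : act 2 n115012 = n151329 := d4_3 F357119 (iv2 F357117) (iv7 F179095)
theorem F357121 : act 3 n102006 = n121355 := d20_3 (iv4 F335755) (iv1 D102005) D102006 (iv1 D121355) F88597 F305734 D152217 (iv4 F339742) F339741 (iv1 F356464)
theorem F357122 : act 6 n130664 = n114945 := d21_9 F251152 (iv1 F251149) (iv5 F251386) (iv6 D159597) F193481 (iv6 F178093) F347381 (iv1 D130661) D130664 (iv1 F356464)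
theorem F357123 : act 2 n114947 = n130664 := d3_3 F357122 (iv2 D114945) D114947
theorem F357124 : act 1 n145921 = n133454 := d15_1 (iv0 F355276) F214611 (iv2 F357123)
theorem F357125 : act 4 n121355 = n102046 := d5_2 D102006 F357121 (iv3 D102046) (iv4 D47395) (iv3 F74567)
theorem F357126 : act 7 n121355 = n137509 := d8_2 (iv7 F156960) F357121 (iv3 F355677)
theorem F357127 : act 0 n159448 = n102046 := d20_1 (iv4 F251085) (iv4 F357125) (iv3 F357121) (iv1 F335754) F178468 (iv4 F206340) F346739 (iv4 F275659) (iv3 F346737) (iv1 F177953)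
theorem F357128 : act 2 n137509 = n114873 := d15_3 F339737 D121355 F357126
theorem F357129 : act 7 n123808 = n182442 := d13_2 F356451 D123808 (iv5 F340899)
theorem F357130 : act 4 n123809 = n123791 := d10_3 (iv6 D123791) F356446 D123809
theorem F357131 : act 2 n123791 = n146921 := d1_1 F357130 F342816 (iv2 F356449)
theorem F357132 : act 7 n123791 = n111188 := d11_2 (iv7 F356450) F357130 F172433
theorem F357133 : act 1 n123791 = n123826 := d18_8 (iv1 D120470) D120471 (iv1 F349749) F216930 F98635 (iv4 F172441) (iv0 F356447) F357130 F198293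
theorem F357134 : act 1 n110797 = n123791 := d15_0 F357133 F341492 F171575
theorem F357135 : act 1 n103957 = n139606 := d15_0 F356417 F292870 D103957
theorem F357136 : act 1 n139590 = n103957 := d15_0 F357135 (iv7 F343857) (iv2 F343850)
theorem F357137 : act 4 n139558 = n103957 := d18_5 (iv1 F172503) (iv4 D111223) F80924 (iv4 F111909) (iv5 F222712) F357135 (iv4 D139606) (iv0 F335385) F335388
theorem F357138 : act 3 n139558 = n93058 := d20_3 D139606 (iv1 F357135) (iv4 F357137) F329245 F293199 (iv4 F75162) (iv1 D42479) (iv4 F292855) (iv3 F136966) F335385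
theorem F357139 : act 0 n151381 = n139604 := d20_4 (iv4 F137316) D93907 F349214 (iv3 F238098) F222758 D139606 (iv1 F357135) (iv4 F357137) F357138 F329245
theorem F357140 : act 7 n103957 = n156711 := d11_2 (iv7 F222711) F357137 (iv4 D156711)
theorem E102092 : n102304 = n100786 := (c20_5 F290733 F134003 F68132 (iv3 F74651) D102304 F154880 (iv4 F153788) F356416 F133711 (iv3 D42338) D42336)
theorem F357141 : act 1 n100786 = n47475 := (sb E102092 (iv0 D102304))
theorem E102093 : n102305 = n100871 := (c15_2 F357141 D102305 (iv7 D100871) (iv2 F154980))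
theorem F357142 : act 0 n100871 = n47475 := (sb E102093 (iv1 D102305))
theorem E102094 : n101998 = n90871 := (c7_3 D99875 F356411 D101998 F294862)
theorem F357143 : act 6 n90871 = n47376 := (sb E102094 (iv6 D101998))
theorem E102095 : n101994 = n99487 := (c3_2 F357143 D101994 (iv6 D99487) (iv2 F294861))
theorem F357144 : act 2 n99487 = n47376 := (sb E102095 (iv2 D101994))
theorem F357145 : act 7 n99487 = n47377 := (sb E102095 (iv7 F156956))
theorem E102096 : n101997 = n89365 := ((c21_2 D41732 D89365 (iv5 D101997) (iv6 F357143) F294860 (iv6 D46505) (iv5 F51872) (iv1 F51875) (iv5 F58716) D41628 (iv1 F289521))).symm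
theorem F357146 : act 5 n89365 = n47376 := (sb E102096 (iv5 D101997))
theorem E102097 : n101999 = n101967 := (c15_4 F156934 (iv0 F335341) F357145 (iv2 F156957))
theorem F357147 : act 2 n101967 = n47377 := (sb E102097 F156957)
theorem F357148 : act 7 n101967 = n47376 := (sb E102097 (iv7 D101999))
theorem F357149 : act 5 n134285 = n123129 := d21_8 F292868 D103955 F343848 F343846 (iv1 D134295) (iv6 F329809) F329808 D134285 (iv6 F355608) F356409
theorem F357150 : act 2 n123883 = n134285 := d2_3 F357149 F355570 D123883
theorem F357151 : act 7 n123888 = n134285 := d13_0 F357149 F355571 D123888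
theorem E102098 : n134286 = n120463 := (c15_2 (iv0 D134285) D134286 (iv7 F355569) F357150)
theorem F357152 : act 0 n120463 = n63086 := (sb E102098 (iv1 D134286))
theorem F357153 : act 4 n120463 = n138631 := (sb E102098 F343232)
theorem F357154 : act 3 n138631 = n117534 := d5_1 F357153 (iv4 F204821) (iv3 F230219) F230220 (iv3 F353606)
theorem F357155 : act 2 n139610 = n175724 := d3_1 F356408 F275150 (iv2 F356221)
theorem F357156 : act 5 n175724 = n139350 := d2_2 D139610 F357155 F222564
theorem F357157 : act 3 n139350 = n100876 := d6_1 F357156 F335336 D175724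
theorem E102099 : n144254 = n101885 := ((c5_3 (iv4 F222565) F357157 F335335 F226943 (iv4 F202878) F202877)).symm
theorem F357158 : act 3 n101885 = n67569 := (sb E102099 F226943)
theorem F357159 : act 6 n101885 = n67567 := (sb E102099 (iv6 D144254))
theorem F357160 : act 3 n101883 = n143881 := d8_3 F226508 F357157 F335337
theorem F357161 : act 0 n100876 = n136008 := d19_4 D67396 F168317 (iv4 F222565) F357157 (iv5 D136008) (iv4 F100387) F100386 F85107 (iv5 F324029) F302371 F87837 (iv1 F53214) (iv5 D33870) (iv4 F53215) F313319 D59780 F94132 (iv4 D31334) (iv3 F49580)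
theorem E102100 : n144259 = n101879 := (c5_5 D101883 F357160 (iv4 D143881) (iv3 F175831) (iv4 F226953) F156824)
theorem F357162 : act 0 n101879 = n127340 := (sb E102100 (iv1 F226955))
theorem F357163 : act 1 n101879 = n144002 := (sb E102100 F226956)
theorem F357164 : act 2 n101879 = n130594 := (sb E102100 F226952)
theorem F357165 : act 4 n101879 = n112907 := (sb E102100 F226953)
theorem F357166 : act 6 n101879 = n108172 := (sb E102100 F226954)
theorem F357167 : act 7 n101879 = n67569 := (sb E102100 (iv7 D144259))
theorem E102101 : n144258 = n101880 := (c13_2 F357167 D144258 (iv7 D101880) D101879)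
theorem F357168 : act 0 n101880 = n127339 := (sb E102101 F226950)
theorem F357169 : act 1 n101880 = n144000 := (sb E102101 F226951)
theorem F357170 : act 5 n101880 = n67569 := (sb E102101 (iv5 D144258))
theorem F357171 : act 1 n101878 = n127339 := d15_0 (iv0 F357168) (iv7 D101880) D101878
theorem F357172 : act 5 n130594 = n101878 := d17_5 F168339 D64946 F168368 F165075 (iv4 F209166) F357171 (iv5 D127339) (iv0 F168322) F82520
theorem F357173 : act 0 n101878 = n144000 := d17_2 F226949 F357172 (iv5 D144000) (iv4 D67462) D67463 (iv0 F103345) (iv5 F175730) (iv0 F175733) (iv4 F226944)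
theorem F357174 : act 3 n108172 = n101884 := d7_1 F357166 (iv6 D101884) (iv3 F156824)
theorem F357175 : act 5 n108172 = n102270 := d12_1 F357166 (iv6 D102270) (iv5 D47463) (iv6 F74550) D101879
theorem F357176 : act 5 n112900 = n101877 := d21_0 (iv1 D101877) D101879 F357166 (iv1 D108172) (iv6 D49959) D49958 F79014 F40528 D52213 F175821
theorem F357177 : act 2 n101877 = n127339 := d2_1 F357176 (iv5 D127339) (iv2 F175818)
theorem F357178 : act 7 n101877 = n144000 := d13_2 (iv7 F175819) F357176 (iv5 D144000)
theorem F357179 : act 2 n144000 = n101876 := d15_3 (iv0 D101876) D101877 F357178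
theorem F357180 : act 7 n127339 = n101876 := d4_2 (iv7 F357178) F357177 (iv2 F357179)
theorem F357181 : act 3 n101876 = n143792 := d8_1 F357180 F346863 (iv3 F346860)
theorem F357182 : act 5 n101876 = n105743 := d13_1 F357180 F162377 D127339
theorem F357183 : act 2 n102270 = n103741 := d2_1 F357175 F350573 F167278
theorem F357184 : act 7 n102270 = n95792 := d13_2 (iv7 F167276) F357175 F297682
theorem F357185 : act 0 n102270 = n103742 := d17_2 (iv1 F175718) F357175 F350566 F94070 (iv5 F53886) F80692 F80687 F82338 (iv4 F175716)
theorem F357186 : act 1 n102270 = n103600 := d17_6 (iv1 F99521) (iv5 F77632) F93304 F93303 (iv4 F167277) F357175 F350557 F165333 (iv4 D107277)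
theorem F357187 : act 3 n95792 = n102274 := d8_1 F357184 (iv7 D102274) (iv3 F157098)
theorem F357188 : act 3 n186534 = n118742 := d5_3 F163338 F357187 (iv4 F289454) F186799 (iv3 F163337)
theorem F357189 : act 5 n102274 = n130591 := d6_2 (iv5 F297682) F357187 (iv3 D130591)
theorem F357190 : act 4 n89455 = n177146 := d20_8 (iv4 F317105) (iv1 F159178) (iv4 D48039) D48038 (iv1 F343523) F357187 (iv4 F289454) (iv1 F289456) (iv3 D177146) F346806
theorem F357191 : act 0 n102519 = n102274 := d20_4 F137098 (iv1 D47551) D47552 D102519 (iv3 F357187) (iv4 F163338) (iv1 F350594) (iv4 D137509) F329768 D89426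
theorem F357192 : act 4 n100794 = n89454 := d20_6 (iv4 F346740) (iv1 F177953) (iv4 F251085) F251084 (iv1 F259116) F346748 (iv1 F289457) F289454 (iv3 F357187) F297681
theorem F357193 : act 0 n149230 = n89453 := d20_10 F137118 D89454 (iv4 F357192) (iv3 F346748) (iv1 D164463) (iv3 F199526) (iv4 D124709) D124707 F199515 D149230
theorem F357194 : act 3 n155963 = n89453 := d20_5 F120161 D78987 D164468 (iv3 F259127) F319846 F137118 D89454 (iv4 F357192) (iv3 F346748) (iv1 D164463)
theorem F357195 : act 2 n103153 = n155963 := d0_5 F357194 F137117 (iv3 F157098) F357183 F350571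
theorem F357196 : act 6 n89451 = n155963 := d7_0 F357194 (iv6 D89453) (iv3 F137113)
theorem E102102 : n177146 = n100793 := ((c20_11 (iv4 F357190) (iv1 D89455) (iv4 F137118) (iv3 F357194) (iv1 D155963) F319384 (iv4 F319385) D68968 (iv4 F314846) (iv3 F74213) D100793)).symm
theorem F357197 : act 3 n100793 = n84415 := (sb E102102 (iv3 D177146))
theorem F357198 : act 4 n100793 = n89455 := (sb E102102 (iv4 F357190))
theorem F357199 : act 3 n89455 = n177140 := d5_1 F357198 (iv4 D177140) (iv3 D84414) D84415 (iv3 F357197)
theorem F357200 : act 6 n103153 = n103718 := d3_2 F357196 (iv2 F357195) F352736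
theorem F357201 : act 0 n155953 = n166517 := d21_10 (iv5 F346943) (iv1 D99811) (iv5 F137114) F357196 (iv1 D155963) (iv6 D74179) (iv5 D34031) D34028 D74174 D155953
theorem F357202 : act 7 n103718 = n89449 := d14_2 F335526 F357200 F312636 (iv7 F71595) D95741
theorem F357203 : act 1 n149230 = n102274 := d15_1 (iv0 F357193) (iv7 D102274) (iv2 F137117)
theorem F357204 : act 5 n139581 = n103664 := d12_3 F306780 F357189 (iv6 F222719) (iv6 D103664) (iv5 F147484)
theorem F357205 : act 7 n130591 = n101884 := d13_2 D102274 F357189 F156826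
theorem F357206 : act 7 n118742 = n186516 := d8_2 (iv7 F289455) F357188 F289402
theorem F357207 : act 2 n186516 = n151519 := d4_1 F357206 (iv7 D151519) (iv2 F186798)
theorem F357208 : act 4 n186516 = n114898 := d11_1 F357206 F335501 (iv4 F186799)
theorem F357209 : act 1 n151517 = n186516 := d15_1 D151517 (iv7 F357206) F186798
theorem E102103 : n102273 = n89443 := ((c20_7 (iv4 F348656) (iv1 D118673) (iv4 F90066) F90065 D56993 D122704 F356536 (iv1 D102273) (iv4 F136280) (iv3 F289402) (iv1 F357209))).symm
theorem F357210 : act 0 n89443 = n47465 := (sb E102103 (iv1 D102273))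
theorem F357211 : act 2 n102519 = n102272 := d15_3 (iv0 D102272) (iv0 F357210) (iv7 F157449)
theorem F357212 : act 3 n102272 = n103585 := d0_2 D102519 F357211 (iv2 F199523) (iv3 F340925) (iv2 F74751)
theorem F357213 : act 7 n102272 = n149230 := d4_2 (iv7 F157449) F357211 F353226
theorem F357214 : act 1 n102519 = n89453 := d15_0 (iv0 F357193) (iv7 F357213) (iv2 F357211)
theorem F357215 : act 1 n186516 = n151516 := d15_0 (iv0 D151516) D151519 (iv2 F357207)
theorem F357216 : act 7 n151516 = n151340 := d15_2 F357209 F357215 (iv2 F348650)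
theorem F357217 : act 3 n160113 = n151516 := d20_9 F357208 (iv1 D114898) D114900 F178978 F191341 F177746 (iv4 D105979) D105977 (iv4 F252714) (iv1 F357215)
theorem F357218 : act 2 n151516 = n151335 := d0_1 F357217 (iv3 F340887) (iv2 F356541) F317583 F252711
theorem F357219 : act 4 n151516 = n118672 := d5_2 (iv4 F252714) F357217 F348660 (iv4 D128125) (iv3 F191169)
theorem E102104 : n102244 = n101884 := (c20_5 (iv4 D47516) (iv1 F64502) F64501 D47458 D102244 (iv3 F357174) F167277 (iv1 D52113) (iv4 F82371) F329596 (iv1 F74717))
theorem F357220 : act 1 n101884 = n47458 := (sb E102104 (iv0 D102244))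
theorem F357221 : act 2 n124356 = n99971 := d2_3 (iv5 F195850) F356405 F335699
theorem F357222 : act 7 n89544 = n122401 := d4_0 F356405 F136378 D89544
theorem F357223 : act 1 n102449 = n89544 := d15_1 F335698 F357222 F356405
theorem F357224 : act 1 n89544 = n93130 := d15_1 F357223 (iv7 F343262) F343258
theorem F357225 : act 5 n124355 = n89544 := d21_0 (iv1 F357223) (iv5 D102449) D102450 F343869 (iv6 D124374) (iv5 D57981) (iv1 D27662) D27663 (iv6 F91734) D124355
theorem F357226 : act 2 n89545 = n124355 := d2_3 F357225 (iv2 D89544) D89545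
theorem F357227 : act 7 n99971 = n124355 := d13_0 F357225 F357222 F195850
theorem F357228 : act 7 n89545 = n124356 := d4_2 F357227 (iv2 F357226) F357221
theorem F357229 : act 3 n124356 = n88896 := d8_1 F357228 F136381 (iv3 F137268)
theorem F357230 : act 3 n118725 = n99843 := d20_3 D99667 F341563 D118725 F289742 F357229 F136380 (iv1 D46614) (iv4 D22332) (iv3 F34813) D46574
theorem F357231 : act 4 n99843 = n152326 := d5_2 D118725 F357230 (iv3 D152326) (iv4 D71866) (iv3 F86445)
theorem F357232 : act 6 n99843 = n118733 := d7_2 (iv6 F186747) F357230 (iv3 D118733)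
theorem E102105 : n137012 = n118733 := ((c3_1 F357232 (iv2 D137012) F327689 F157358)).symm
theorem F357233 : act 2 n118733 = n64398 := (sb E102105 (iv2 D137012))
theorem F357234 : act 2 n152326 = n102421 := d1_1 F357231 (iv4 D102421) F157358
theorem F357235 : act 7 n152326 = n99972 := d11_2 (iv7 F289744) F357231 (iv4 D99972)
theorem E102106 : n137637 = n124357 := ((c4_2 F357235 (iv2 F198887) (iv7 F327688) (iv2 F357234))).symm
theorem F357236 : act 3 n124357 = n64702 := (sb E102106 (iv3 D137637))
theorem F357237 : act 7 n124357 = n102421 := (sb E102106 (iv7 F327688))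
theorem F357238 : act 6 n137017 = n124388 := d14_3 F357237 F327687 (iv7 F220151) (iv7 D124388) (iv6 F198888)
theorem F357239 : act 3 n124388 = n137019 := d7_1 F357238 (iv6 D137019) D137017
theorem E102107 : n135989 = n124389 := ((c10_3 F357238 F198920 D124389 (iv4 F220150))).symm
theorem F357240 : act 3 n124389 = n63942 := (sb E102107 (iv3 D135989))
theorem F357241 : act 4 n124389 = n137017 := (sb E102107 (iv4 F220150))
theorem F357242 : act 7 n124389 = n64398 := (sb E102107 F218780)
theorem E102108 : n137639 = n124386 := (c8_3 D124388 F357239 (iv7 F220796) (iv3 D124386))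
theorem F357243 : act 2 n124386 = n143916 := (sb E102108 (iv2 F226554))
theorem F357244 : act 4 n124386 = n64703 := (sb E102108 F220795)
theorem F357245 : act 6 n124386 = n64702 := (sb E102108 (iv6 D137639))
theorem F357246 : act 7 n124386 = n137019 := (sb E102108 F220796)
theorem F357247 : act 0 n185104 = n177892 := d20_1 D185104 (iv4 D177892) (iv3 F335669) F64464 (iv3 F73769) D99936 (iv1 F287506) (iv4 D185166) (iv3 F285676) F356383
theorem E102109 : n102334 = n100744 := (c20_5 D46677 (iv1 F74671) (iv4 D47490) D47489 D102334 F289680 D185104 F357247 (iv4 D177892) (iv3 F335669) F64464)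
theorem F357248 : act 1 n100744 = n47489 := (sb E102109 (iv0 D102334))
theorem E102110 : n185217 = n177748 := (c18_3 F356382 D88262 D185217 (iv4 D177748) (iv5 D84634) F60091 (iv0 F289715) F34884 D41174 D88226)
theorem F357249 : act 1 n177748 = n88262 := (sb E102110 (iv0 D185217))
theorem F357250 : act 3 n134427 = n89251 := d7_1 F356372 (iv6 D89251) D89249
theorem E102111 : n147469 = n89251 := ((c5_2 F342816 F357250 (iv4 D147469) F347910 D148823 (iv3 F233679))).symm
theorem F357251 : act 4 n89251 = n69124 := (sb E102111 (iv4 D147469))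
theorem F357252 : act 4 n147326 = n101396 := d1_2 F357251 (iv2 F230997) F156195
theorem F357253 : act 0 n143107 = n101239 := d19_0 F155968 F357251 F347910 (iv1 D69751) (iv5 F104741) (iv4 F204859) (iv3 D127447) (iv1 D59860) D59862 (iv4 F94320) F318606 F92086 F313888 (iv4 F312522) (iv3 F231805) (iv1 F243219) (iv5 F321573) F334860 D143107
theorem F357254 : act 5 n143107 = n151627 := d17_7 (iv1 F350781) F350776 (iv1 D69123) D69124 (iv4 F357251) (iv5 F155968) (iv0 F357253) F353681 F108921
theorem F357255 : act 2 n102038 = n143107 := d2_3 F357254 F350760 (iv5 F350724)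
theorem F357256 : act 5 n154405 = n154754 := d12_5 (iv6 F335438) F357254 F353682 (iv5 D154404) D154405
theorem F357257 : act 7 n157585 = n143107 := d13_0 F357254 F350761 D157585
theorem F357258 : act 5 n147492 = n137693 := d16_1 D147492 F335444 F357254 (iv4 F350730) (iv5 D147504) (iv4 D69133) D69134 (iv7 F242932) F242931
theorem F357259 : act 0 n89238 = n154404 := d21_4 (iv5 D19627) D19625 D41693 D89238 (iv6 F353682) (iv5 F357254) F357253 F155968 (iv6 D89251) (iv1 D41699)
theorem F357260 : act 7 n154399 = n157581 := d15_2 (iv0 F357259) (iv0 F353699) (iv2 F353683)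
theorem F357261 : act 1 n185249 = n154404 := d15_0 (iv0 F357259) (iv7 F336368) (iv2 F353703)
theorem F357262 : act 2 n185247 = n154399 := d15_3 (iv0 F353701) F357261 (iv7 F353690)
theorem F357263 : act 0 n154529 = n154405 := d21_4 D185199 (iv1 F337915) F231112 D154529 (iv6 D154405) D154404 (iv1 F357261) F287546 F337919 (iv1 F337916)
theorem F357264 : act 5 n101457 = n154529 := d21_0 F357263 F357256 (iv6 F335438) F357253 (iv6 D101239) (iv5 D47145) (iv1 F35256) (iv5 F35286) D47212 D101457
theorem F357265 : act 0 n101457 = n157612 := d21_7 D88178 (iv1 F306421) (iv5 D73184) D73185 (iv1 F353737) D154529 (iv5 F357264) F248364 (iv6 D153841) F308278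
theorem F357266 : act 0 n185088 = n154529 := d21_10 (iv5 F357264) F357265 F248364 (iv6 D153841) F308278 (iv6 F337938) (iv5 F133504) (iv1 F283625) (iv5 F337964) D185088
theorem F357267 : act 1 n185247 = n154281 := d15_0 F353714 (iv7 F357260) (iv2 F357262)
theorem F357268 : act 3 n154760 = n147492 := d6_3 F357258 F335443 D154760
theorem F357269 : act 6 n147492 = n145370 := d21_3 F350036 D137693 (iv5 F357258) (iv1 D145370) (iv6 D68160) F166900 (iv1 D49658) F37961 D49571 D107285
theorem E102112 : n145532 = n145370 := ((c10_1 F357269 (iv4 D145532) (iv6 F324916) D147492)).symm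
theorem F357270 : act 1 n145370 = n177174 := (sb E102112 F346815)
theorem F357271 : act 4 n145370 = n68239 := (sb E102112 (iv4 D145532))
theorem F357272 : act 7 n177174 = n107449 := d15_2 D145370 F357270 (iv2 F180680)
theorem F357273 : act 2 n145372 = n177174 := d4_3 F357272 (iv2 F180680) D145372
theorem F357274 : act 6 n145365 = n177174 := d14_5 F357272 (iv6 D107449) F180671 D68156 D145365
theorem F357275 : act 4 n177176 = n145365 := d10_3 F357274 (iv4 D177174) D177176
theorem F357276 : act 7 n145361 = n177176 := d11_0 F357275 (iv7 D145365) (iv4 F228407)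
theorem F357277 : act 1 n145365 = n108198 := d18_6 F323830 F247985 (iv1 F205885) D131618 F341024 F357275 F167317 F340814 D116873
theorem F357278 : act 1 n177174 = n145369 := d15_0 (iv0 D145369) D145372 F357273
theorem F357279 : act 1 n143107 = n101397 := d15_1 (iv0 F357253) (iv7 D101397) (iv2 F155967)
theorem F357280 : act 6 n101398 = n147326 := d10_0 F357252 F156196 D101398
theorem F357281 : act 5 n101393 = n147517 := d16_3 F357252 (iv5 D101396) (iv4 F156194) F231302 F105432 (iv4 F105425) (iv5 F231254) (iv7 D147470) (iv2 F230997)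
theorem E102113 : n102038 = n101395 := ((c17_7 D157573 (iv5 F350773) (iv1 D147325) D147326 F357252 (iv5 D101396) D101395 F350724 (iv0 D75015) (iv4 F112549))).symm
theorem F357282 : act 2 n101395 = n143107 := (sb E102113 F357255)
theorem F357283 : act 3 n101395 = n47392 := (sb E102113 (iv3 D102038))
theorem F357284 : act 5 n101395 = n75015 := (sb E102113 F350724)
theorem F357285 : act 1 n101396 = n123719 := d18_6 (iv1 F243368) (iv4 D147334) (iv1 D69073) (iv4 F105307) D147326 F357252 (iv4 F355150) (iv0 F316676) F231401
theorem E102114 : n157585 = n101394 := (c17_6 (iv1 D117300) F316681 (iv1 F243370) (iv5 F350765) F350764 D157585 (iv0 D101394) D101396 F357285 (iv4 F355150))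
theorem F357286 : act 3 n101394 = n142997 := (sb E102114 F350759)
theorem F357287 : act 5 n101394 = n75016 := (sb E102114 (iv5 D157585))
theorem F357288 : act 7 n101394 = n143107 := (sb E102114 F357257)
theorem F357289 : act 1 n137715 = n101393 := d18_6 (iv1 F240831) F240828 (iv1 F248335) F350726 F350790 D137715 F156194 D101395 F357284
theorem F357290 : act 0 n147517 = n142698 := d18_0 F225593 F320647 F350032 F350036 F100598 D64731 D137715 F357289 F357281
theorem E102115 : n143142 = n137714 := ((c20_4 (iv4 F156194) (iv1 F357289) (iv4 D137715) D137714 (iv1 D143142) (iv3 F324391) F324392 F344519 (iv4 D102039) (iv3 F357283) (iv1 D101395))).symm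
theorem F357291 : act 0 n137714 = n67079 := (sb E102115 (iv1 D143142))
theorem F357292 : act 1 n137714 = n67131 := (sb E102115 F226003)
theorem F357293 : act 5 n137714 = n67169 := (sb E102115 F226004)
theorem F357294 : act 7 n147516 = n101393 := d13_0 F357281 (iv7 D147517) D147516
theorem F357295 : act 4 n101397 = n147516 := d11_3 F357294 F156194 D101397
theorem F357296 : act 6 n147516 = n107332 := d10_2 F345467 F357295 (iv4 F220508)
theorem F357297 : act 3 n107334 = n147516 := d7_3 F357296 (iv3 D107332) D107334
theorem F357298 : act 6 n137655 = n101243 := d14_3 (iv7 F357294) F357296 F345465 F155978 D101393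
theorem F357299 : act 3 n101397 = n137329 := d5_3 (iv4 F165391) F357297 (iv4 F357295) F220512 F165387
theorem F357300 : act 5 n147515 = n107334 := d6_0 F357297 (iv5 D147516) D147515
theorem F357301 : act 7 n137329 = n101380 := d8_2 D101397 F357299 F156174
theorem F357302 : act 0 n123817 = n123783 := d21_4 (iv5 D72407) (iv1 F87623) (iv5 F112920) D123817 F356356 F172434 D134163 F332246 (iv6 F332271) F108915
theorem E102116 : n106353 = n105373 := ((c15_4 F163505 F163503 F356351 (iv2 F161601))).symm
theorem F357303 : act 0 n105373 = n49147 := (sb E102116 (iv1 D106353))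
theorem F357304 : act 1 n105373 = n106179 := (sb E102116 F163505)
theorem F357305 : act 0 n106541 = n114100 := d21_7 (iv5 D25599) F37024 (iv5 F76668) D105373 F357303 D106357 (iv5 F163789) (iv5 D114100) (iv6 D52669) (iv1 F55473)
theorem F357306 : act 0 n92720 = n106356 := d17_0 (iv5 D106356) D106352 F356349 (iv4 D158539) D158540 F249722 (iv5 F308593) (iv0 D167465) (iv4 F340912)
theorem E102117 : n151403 = n106321 := ((c11_2 F356344 (iv4 F309301) (iv7 D151403) D151400)).symm
theorem F357307 : act 2 n106321 = n71366 := (sb E102117 F238120)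
theorem F357308 : act 7 n106321 = n71365 := (sb E102117 (iv7 D151403))
theorem E102118 : n151399 = n106305 := (c8_2 F357308 D151399 F191138 D106321)
theorem F357309 : act 3 n106305 = n71365 := (sb E102118 (iv3 D151399))
theorem E102119 : n151398 = n118648 := (c15_4 (iv0 D118648) (iv0 F339713) F357308 D151398)
theorem F357310 : act 2 n118648 = n71365 := (sb E102119 (iv2 D151398))
theorem F357311 : act 7 n118648 = n71366 := (sb E102119 (iv7 F238119))
theorem F357312 : act 5 n114938 = n106321 := d16_7 F349057 F289275 F356335 (iv5 D114934) (iv4 D53033) D53034 D114938 F357308 (iv2 F357310)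
theorem F357313 : act 7 n114938 = n151401 := d13_2 (iv7 F357308) (iv5 F357312) (iv5 D151401)
theorem F357314 : act 2 n151406 = n114938 := d2_3 F357312 F357307 D151406
theorem F357315 : act 3 n106323 = n114938 := d6_3 F357312 (iv3 D106321) D106323
theorem F357316 : act 4 n114936 = n114937 := d18_1 D114936 (iv1 D114937) D114938 F357312 F309301 (iv0 F309260) (iv4 D114920) (iv0 D53030) D53034
theorem F357317 : act 4 n114961 = n106323 := d5_0 F357315 (iv4 D114938) F83748 D53045 D114961
theorem F357318 : act 5 n154015 = n114961 := d16_1 D154015 F357317 (iv5 D106323) D106322 (iv5 F241537) F241536 F109366 (iv7 F240984) (iv2 F240985)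
theorem F357319 : act 3 n114962 = n154015 := d6_3 F357318 (iv3 D114961) D114962
theorem E102120 : n151407 = n145936 := (c3_3 F350248 F357307 D151407 (iv2 F229162))
theorem F357320 : act 6 n145936 = n71366 := (sb E102120 (iv6 D151407))
theorem F357321 : act 3 n102521 = n154953 := d6_1 F356343 (iv5 D154953) (iv3 F356342)
theorem F357322 : act 6 n102523 = n148103 := d21_3 F356343 (iv1 D102521) D102523 (iv1 D148103) F311648 (iv5 F112542) (iv1 D75007) (iv5 F86477) (iv6 F307262) (iv1 F356340)
theorem F357323 : act 3 n148103 = n91221 := d7_1 F357322 F294960 (iv3 F157458)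
theorem F357324 : act 5 n148103 = n91218 := d12_1 F357322 (iv6 D91218) F66919 (iv6 F294297) D102523
theorem F357325 : act 6 n148104 = n107935 := d21_9 (iv5 D151494) F311990 D99601 (iv6 F294818) (iv1 D91216) D91218 (iv5 F357324) (iv1 D148103) D148104 (iv1 F238337)
theorem F357326 : act 3 n107935 = n148106 := d7_1 F357325 (iv6 D148106) (iv3 F231913)
theorem F357327 : act 5 n148106 = n107934 := d6_2 D107935 F357326 (iv3 D107934)
theorem F357328 : act 4 n129538 = n148106 := d16_0 F357327 (iv4 F205673) F312113 (iv4 F312003) (iv5 D60857) D60856 D129518 (iv7 F212121) F212120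
theorem F357329 : act 0 n123933 = n148106 := d17_0 F357327 F355257 (iv5 F355255) (iv4 D129472) (iv5 D60841) D60839 D129466 F209670 F352312
theorem F357330 : act 1 n132547 = n148106 := d17_6 F131156 (iv5 F308204) F209592 (iv5 F208225) (iv4 F215106) F215107 F357327 F355258 F191581
theorem F357331 : act 1 n123933 = n148141 := d15_1 (iv0 F357329) (iv7 D148141) (iv2 F231915)
theorem F357332 : act 1 n148141 = n132547 := d15_1 F357331 F212773 (iv2 F352313)
theorem F357333 : act 4 n129518 = n148141 := d18_5 (iv1 D60839) F46496 D28868 D60856 D129518 F357332 (iv4 D132547) F208672 (iv5 D129466)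
theorem F357334 : act 6 n113620 = n129538 := d10_0 F357328 (iv6 D148106) (iv4 F176805)
theorem F357335 : act 5 n129539 = n113621 := d12_3 F357334 (iv5 D129538) D129539 (iv6 D113621) D113620
theorem F357336 : act 6 n154953 = n102898 := d7_2 F294403 F357321 F158202
theorem F357337 : act 0 n159471 = n153336 := d20_4 (iv4 F309294) (iv1 F258989) D105470 (iv3 F251122) (iv3 F304490) F304491 (iv1 F243659) (iv4 D154952) (iv3 F356342) F356339
theorem F357338 : act 5 n153336 = n89022 := d21_8 (iv5 F127855) F127856 F61730 D40882 D87742 D183923 F356338 F357337 (iv6 D89022) (iv1 F64172)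
theorem F357339 : act 5 n89703 = n153344 := d21_6 F331217 (iv1 D176121) D176123 F353208 F152401 (iv6 F137665) F348701 (iv5 F356338) (iv6 D183923) F153676
theorem E102121 : n138033 = n137985 := ((c11_2 F356332 (iv4 F356318) (iv7 F221294) D138040)).symm
theorem F357340 : act 2 n137985 = n64869 := (sb E102121 (iv2 D138033))
theorem F357341 : act 7 n137985 = n64870 := (sb E102121 (iv7 F221294))
theorem E102122 : n137986 = n134063 := ((c15_4 F221241 F221243 F357341 (iv2 F355792))).symm
theorem F357342 : act 0 n134063 = n64852 := (sb E102122 (iv1 D137986))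
theorem F357343 : act 1 n134063 = n64871 := (sb E102122 F221241)
theorem F357344 : act 4 n134063 = n98641 := (sb E102122 (iv4 F356314))
theorem F357345 : act 6 n98641 = n134061 := d10_2 D134063 F357344 (iv4 D134061)
theorem E102123 : n182612 = n138035 := (c11_3 (iv7 F355793) F357344 (iv7 F295395) (iv4 D138035))
theorem F357346 : act 0 n138035 = n96444 := (sb E102123 F295391)
theorem F357347 : act 1 n138035 = n89192 := (sb E102123 F295392)
theorem F357348 : act 2 n138035 = n88808 := (sb E102123 F295393)
theorem F357349 : act 5 n138035 = n87181 := (sb E102123 (iv5 D182612))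
theorem F357350 : act 6 n138035 = n99595 := (sb E102123 F295394)
theorem F357351 : act 7 n138035 = n98641 := (sb E102123 F295395)
theorem F357352 : act 4 n99595 = n138037 := d10_1 F357350 (iv6 D138037) D138035
theorem F357353 : act 5 n98640 = n138029 := d18_9 (iv1 D138029) F100696 D64869 D138035 F357349 (iv4 F295390) F157616 F151856 (iv0 F152040)
theorem F357354 : act 3 n183973 = n138026 := d6_3 F356323 F157784 D183973
theorem F357355 : act 5 n100015 = n139441 := d21_8 D65444 D139444 F225853 (iv6 F353580) (iv1 D138025) D138026 F356323 (iv1 F157796) (iv6 D139441) (iv1 D65442)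
theorem F357356 : act 3 n139441 = n100140 := d6_1 F357355 (iv5 D100140) (iv3 F153963)
theorem F357357 : act 6 n100140 = n139438 := d7_2 D139441 F357356 (iv3 D139438)
theorem F357358 : act 2 n138026 = n141256 := d0_1 F357354 F224283 (iv2 F329518) (iv3 F153945) (iv2 F285852)
theorem F357359 : act 6 n138022 = n183973 := d7_0 F357354 (iv6 D138026) (iv3 F221280)
theorem F357360 : act 2 n141146 = n138022 := d3_3 F357359 F285852 F329688
theorem F357361 : act 7 n138022 = n141263 := d4_2 (iv7 F224119) F357360 (iv2 D141263)
theorem F357362 : act 1 n138022 = n141261 := d15_0 (iv0 D141261) (iv7 F224119) F357360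
theorem F357363 : act 3 n141263 = n138027 := d8_1 F357361 (iv7 D138027) (iv3 F221280)
theorem F357364 : act 5 n141263 = n126673 := d13_1 F357361 F203840 D138022
theorem F357365 : act 1 n141262 = n138022 := d15_1 D141262 F357361 (iv2 D141263)
theorem F357366 : act 5 n141256 = n99975 := d2_2 (iv5 F356323) F357358 (iv2 F157795)
theorem F357367 : act 5 n99658 = n137919 := d21_8 F327508 (iv1 F169580) F169581 D64862 F355780 D64867 D138030 F356319 (iv6 D137919) (iv1 F327506)
theorem F357368 : act 3 n137919 = n98572 := d6_1 F357367 (iv5 F251755) F251754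
theorem F357369 : act 6 n98572 = n137888 := d7_2 D137919 F357368 F221115
theorem F357370 : act 1 n135020 = n138044 := d15_0 (iv0 D138044) (iv7 F221297) (iv2 F356301)
theorem F357371 : act 2 n139914 = n167678 := d1_3 (iv4 F268169) F356298 F339043
theorem F357372 : act 7 n167678 = n140007 := d4_2 F226529 F357371 F332424
theorem F357373 : act 1 n167678 = n116007 := d15_0 F332421 F226529 F357371
theorem F357374 : act 1 n140009 = n167678 := d15_0 F357373 (iv7 F342389) (iv2 F342390)
theorem F357375 : act 7 n185593 = n185453 := d8_0 F356261 F138410 D185593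
theorem E102124 : n185629 = n90031 := (c20_10 (iv4 F138778) F293670 (iv4 F287716) F356261 (iv1 F138230) (iv3 F138306) F138307 (iv1 F137499) F350510 (iv3 F350519) (iv1 F138328))
theorem F357376 : act 2 n90031 = n88428 := (sb E102124 F287946)
theorem F357377 : act 3 n90031 = n104859 := (sb E102124 F350519)
theorem F357378 : act 7 n90031 = n88427 := (sb E102124 (iv7 D185629))
theorem E102125 : n185625 = n90032 := (c15_4 F138332 F138328 F357378 D185625)
theorem F357379 : act 2 n90032 = n88427 := (sb E102125 (iv2 D185625))
theorem F357380 : act 7 n90032 = n88428 := (sb E102125 (iv7 F287945))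
theorem F357381 : act 7 n185631 = n90386 := d11_2 F357380 D185631 F139102
theorem F357382 : act 2 n185626 = n90386 := d1_3 F139102 F357379 D185626
theorem E102126 : n185628 = n103085 := (c3_3 (iv6 F291952) F357379 D185628 F160554)
theorem F357383 : act 6 n103085 = n88427 := (sb E102126 (iv6 D185628))
theorem F357384 : act 6 n185626 = n183764 := d10_2 F357383 D185626 F285545
theorem E102127 : n144227 = n97322 := ((c21_2 D45455 D97322 F350473 (iv6 F357383) (iv1 D103085) (iv6 D47792) (iv5 F70341) (iv1 F71583) (iv5 D45385) D45386 (iv1 F157275))).symm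
theorem F357385 : act 3 n97322 = n67560 := (sb E102127 (iv3 D144227))
theorem F357386 : act 5 n97322 = n88427 := (sb E102127 F350473)
theorem F357387 : act 1 n185459 = n185593 := d15_1 D185459 F357375 F287715
theorem E102128 : n100782 = n99779 := ((c21_5 (iv5 F300577) (iv1 F335732) (iv5 F156941) (iv6 F356259) (iv1 F295183) (iv6 D100782) D100781 (iv1 F335722) (iv5 D93067) (iv6 F293194) F335724)).symm
theorem F357388 : act 2 n99779 = n47015 := (sb E102128 F154971)
theorem F357389 : act 5 n99779 = n172227 := (sb E102128 F270493)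
theorem F357390 : act 6 n99779 = n46991 := (sb E102128 (iv6 D100782))
theorem F357391 : act 0 n135356 = n172227 := d21_7 (iv5 F74258) F329811 (iv5 F329814) (iv6 D89115) (iv1 F294962) D93208 (iv5 F339513) (iv5 F357389) F357390 (iv1 F74210)
theorem F357392 : act 7 n135356 = n172217 := d15_2 D172227 (iv0 F357391) F270424
theorem E102129 : n100856 = n99778 := ((c15_2 F295183 (iv0 F295181) (iv7 D100856) (iv2 F357388))).symm
theorem F357393 : act 7 n99778 = n47015 := (sb E102129 (iv7 D100856))
theorem F357394 : act 6 n101677 = n99713 := d21_5 D102152 (iv1 F356187) (iv5 D101983) (iv6 F328327) D101677 (iv5 D99713) (iv1 F321036) D83502 (iv6 F153212) F289575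
theorem F357395 : act 5 n101677 = n139294 := d21_0 (iv1 D139294) (iv5 F356112) (iv6 D136389) (iv1 D64119) F328529 D102152 (iv1 F356187) (iv5 D101983) (iv6 F328327) D101677
theorem F357396 : act 6 n139294 = n162735 := d12_2 (iv6 F357394) F357395 (iv5 D162735) F334407 D99713
theorem F357397 : act 4 n139294 = n101860 := d16_4 D101849 (iv5 F270613) (iv4 F273769) F357395 (iv5 D101860) (iv4 D47335) D47336 F156386 (iv2 F156391)
theorem F357398 : act 4 n136389 = n175699 := d17_4 D101677 F357395 (iv1 D139294) (iv5 F356112) (iv5 F304816) F263158 (iv5 F304833) (iv0 D47280) D47282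
theorem F357399 : act 6 n100787 = n101680 := d21_5 (iv5 D171032) F155447 D100776 F154867 D100787 (iv5 D101680) D101677 F357395 F357396 (iv1 F356164)
theorem E102130 : n136389 = n136007 := ((c18_7 (iv1 D38629) F29564 D22319 D46580 F324656 F100387 D136007 F357398 F275106 (iv5 D83882))).symm
theorem F357400 : act 3 n136007 = n65381 := (sb E102130 F356111)
theorem F357401 : act 4 n136007 = n175699 := (sb E102130 F357398)
theorem F357402 : act 5 n136007 = n65377 := (sb E102130 F356112)
theorem F357403 : act 6 n136007 = n64119 := (sb E102130 (iv6 D136389))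
theorem F357404 : act 0 n136476 = n136388 := d21_1 D136476 (iv5 D136388) (iv6 F357403) (iv1 D136007) (iv6 D63951) D63950 D136003 F218803 (iv6 F344845) (iv1 F179692)
theorem F357405 : act 1 n136476 = n136383 := d15_1 (iv0 F357404) F354514 (iv2 F354513)
theorem F357406 : act 0 n136477 = n101979 := d21_4 D136383 (iv1 F357405) (iv5 D136476) D136477 (iv6 D101979) (iv5 F335329) F356188 (iv5 D102152) (iv6 F328529) D64118
theorem F357407 : act 6 n101860 = n173856 := d10_2 (iv6 F357396) F357397 (iv4 F272498)
theorem F357408 : act 3 n143996 = n101860 := d20_5 (iv4 D105743) (iv1 F168095) (iv4 F82366) (iv3 F331498) D143996 (iv4 F357397) (iv1 D139294) (iv4 F204361) F204360 F168207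
theorem F357409 : act 5 n101859 = n143996 := d6_0 F357408 (iv5 D101860) D101859
theorem F357410 : act 0 n144034 = n101859 := d17_0 F357409 (iv1 F226652) (iv5 D112999) F82445 F40004 F49613 D67463 (iv0 F103345) (iv4 F226737)
theorem F357411 : act 4 n113128 = n101859 := d17_4 (iv1 F82555) F48761 (iv1 F82556) D113128 F357409 (iv0 D143996) (iv5 D67459) D67458 (iv4 F168205)
theorem F357412 : act 2 n101859 = n144294 := d1_1 F357411 F226991 (iv2 F176247)
theorem F357413 : act 7 n101859 = n138262 := d11_2 (iv7 F176249) F357411 (iv4 D138262)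
theorem F357414 : act 0 n101859 = n130588 := d18_2 F202881 F357411 F209159 (iv5 D67602) (iv4 F103475) (iv0 F226995) (iv4 D138262) (iv0 F175832) (iv5 F202879)
theorem F357415 : act 3 n138262 = n99726 := d8_1 F357413 (iv7 F156411) D101859
theorem F357416 : act 6 n99726 = n144059 := d7_2 (iv6 F221460) F357415 (iv3 D144059)
theorem F357417 : act 2 n144059 = n101848 := d3_1 F357416 (iv6 D101848) (iv2 F156404)
theorem F357418 : act 2 n175722 = n101677 := d3_3 F357394 (iv2 F354503) (iv6 F354529)
theorem F357419 : act 3 n99719 = n101677 := d7_3 F357394 F153512 D99719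
theorem F357420 : act 3 n175722 = n136255 := d0_2 F357419 (iv2 F357418) F219296 (iv3 F327700) (iv2 F156722)
theorem F357421 : act 7 n101678 = n175722 := d8_0 F357420 F219298 (iv3 F354545)
theorem F357422 : act 2 n101678 = n175723 := d15_3 F275149 F275148 (iv7 F357421)
theorem F357423 : act 7 n175723 = n101677 := d4_2 (iv7 F357421) F357422 (iv2 F357418)
theorem E102131 : n162989 = n100789 := (c2_3 D100885 F356184 F261760 F154883)
theorem F357424 : act 5 n100789 = n166262 := (sb E102131 (iv5 F261760))
theorem F357425 : act 6 n100789 = n78377 := (sb E102131 (iv6 D162989))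
theorem E102132 : n184220 = n162985 := ((c7_2 F357425 (iv3 F257341) (iv6 D184220) (iv3 F329988))).symm
theorem F357426 : act 6 n162985 = n87864 := (sb E102132 (iv6 D184220))
theorem E102133 : n166262 = n91385 := (c6_1 F357424 (iv3 D91385) (iv5 F293229) (iv3 F329988))
theorem F357427 : act 2 n91385 = n100885 := (sb E102133 (iv2 F356184))
theorem F357428 : act 5 n91385 = n100789 := (sb E102133 (iv5 F357424))
theorem F357429 : act 6 n91385 = n79827 := (sb E102133 (iv6 D166262))
theorem F357430 : act 6 n166261 = n103328 := d10_2 F357429 D166261 F158577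
theorem F357431 : act 7 n184384 = n100885 := d15_2 F295352 D184384 (iv2 F357427)
theorem F357432 : act 5 n100801 = n184384 := d16_7 (iv4 F158577) F292850 (iv4 F329993) F154899 F74218 (iv5 F74258) (iv4 F329989) F357431 (iv2 F357427)
theorem F357433 : act 4 n184384 = n98904 := d9_1 F357432 (iv5 F328507) (iv4 F329986) (iv5 D96350) F70743 D46993 D100789 (iv5 F357428) (iv4 F158577) F292850 (iv4 F329993) F154899 F74218 (iv5 F74258) (iv4 F329989)
theorem F357434 : act 2 n139532 = n104147 := d16_9 (iv4 F329993) F154899 F74218 (iv5 F74258) (iv4 F329989) F357432 F357433 (iv5 F328507) (iv7 F323762)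
theorem F357435 : act 6 n93209 = n184384 := d21_5 D21213 D44594 F70121 D44673 (iv1 F295187) (iv5 F357432) (iv1 D100801) (iv5 D46999) (iv6 D22600) F17241
theorem F357436 : act 2 n184384 = n91289 := d3_1 F357435 (iv6 F294034) (iv2 F295188)
theorem F357437 : act 3 n184384 = n96065 := d7_1 F357435 (iv6 D96065) (iv3 F295189)
theorem F357438 : act 7 n166208 = n96112 := d14_4 (iv7 F295191) F357435 F357431 (iv6 F356183) (iv6 D96112)
theorem F357439 : act 1 n139532 = n183920 := d15_0 (iv0 F285784) (iv7 F159649) (iv2 F357434)
theorem E102134 : n162748 = n113372 := (c6_2 F356139 D162748 (iv5 D113372) D113371)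
theorem F357440 : act 3 n113372 = n78212 := (sb E102134 (iv3 D162748))
theorem F357441 : act 2 n158669 = n173810 := d4_3 F356130 F248885 (iv7 F249824)
theorem F357442 : act 6 n132770 = n173810 := d14_5 F356130 F306787 F113354 D98216 F321378
theorem F357443 : act 1 n104126 = n157994 := d15_1 (iv0 F335242) (iv7 F356130) (iv2 F357441)
theorem E102135 : n153254 = n152172 := ((c20_2 (iv4 F351956) (iv1 F239251) F240755 (iv3 F306786) (iv1 F357443) (iv3 D104126) (iv4 F232862) (iv1 F305738) F305739 (iv3 F155905) (iv1 F195770))).symm
theorem F357444 : act 2 n152172 = n129361 := (sb E102135 (iv2 F351952))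
theorem F357445 : act 3 n152172 = n82443 := (sb E102135 F240754)
theorem F357446 : act 4 n152172 = n99916 := (sb E102135 F240755)
theorem F357447 : act 6 n152172 = n72380 := (sb E102135 (iv6 D153254))
theorem F357448 : act 5 n148244 = n152172 := d12_5 F357447 F108874 F321868 D69494 D148244
theorem E102136 : n177536 = n148244 := (c2_4 F357448 F357444 F315533 D177536)
theorem F357449 : act 2 n148244 = n84573 := (sb E102136 (iv2 D177536))
theorem E102137 : n165871 = n148209 := (c21_4 (iv5 F322422) D127056 F338712 D165871 (iv1 F232048) D148244 F357448 (iv1 D152172) D152173 F346123 (iv1 D120971))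
theorem F357450 : act 6 n148209 = n79657 := (sb E102137 (iv6 D165871))
theorem F357451 : act 6 n165869 = n109315 := d10_2 F357450 D165869 (iv4 F232047)
theorem E102138 : n100088 = n99916 := ((c20_1 F357446 (iv1 D100088) D100090 F323429 D133044 F351972 F205800 (iv1 F108468) F205780 F351957 (iv1 F239251))).symm
theorem F357452 : act 0 n99916 = n46728 := (sb E102138 (iv1 D100088))
theorem F357453 : act 7 n135396 = n152172 := d15_2 F351951 F239257 F357444
theorem F357454 : act 2 n135396 = n131092 := d4_3 F209940 (iv2 F357444) (iv7 F357453)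
theorem F357455 : act 3 n134646 = n135396 := d0_0 F357454 (iv3 D131092) (iv2 F162922) D129358 (iv2 F330267)
theorem F357456 : act 6 n158669 = n130104 := d3_2 F357442 (iv2 F357441) (iv2 F213236)
theorem F357457 : act 5 n144142 = n103002 := d6_2 F356123 D144142 F158264
theorem F357458 : act 5 n144137 = n103006 := d13_3 (iv7 D103006) F356123 F226851
theorem F357459 : act 5 n115926 = n133983 := d17_1 (iv1 F180497) (iv1 D133983) (iv5 D62939) (iv4 F82504) (iv5 F103445) (iv0 F355624) F356123 F182918 F182914
theorem F357460 : act 5 n158122 = n144038 := d17_3 F215904 D142363 F356107 F226757 F357459 F222487 (iv5 D139287) F101072 D133974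
theorem F357461 : act 6 n144038 = n173849 := d12_2 D158122 F357460 (iv5 D173849) F297243 (iv5 F112909)
theorem E102139 : n144211 = n144139 := ((c18_10 F355619 (iv4 F355661) (iv1 D186170) (iv4 F249060) F357460 F226757 F180497 (iv4 F182914) F182916 D144139)).symm
theorem F357462 : act 0 n144139 = n103004 := (sb E102139 F355619)
theorem F357463 : act 1 n144139 = n67556 := (sb E102139 (iv0 D144211))
theorem F357464 : act 2 n144139 = n103006 := (sb E102139 F355620)
theorem F357465 : act 4 n144139 = n98045 := (sb E102139 F355621)
theorem F357466 : act 6 n144139 = n84339 := (sb E102139 F355622)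
theorem F357467 : act 7 n144139 = n75820 := (sb E102139 F355623)
theorem F357468 : act 5 n158045 = n139357 := d18_9 F222580 F183001 D139495 F222679 D144139 F357465 F151170 D103009 (iv0 F355823)
theorem F357469 : act 3 n98045 = n143660 := d19_3 D67529 D144139 F357465 (iv1 D143660) (iv5 D67285) (iv4 D31293) (iv3 D14758) (iv1 D7032) (iv5 D3175) (iv4 D1409) (iv3 F2531) D3107 D6903 D14438 (iv3 F40131) (iv1 F40135) (iv5 F40911) F40913 D31376
theorem F357470 : act 2 n139357 = n144038 := d2_1 F357468 (iv5 F357460) F249059
theorem F357471 : act 6 n139357 = n98213 := d12_2 D158045 F357468 (iv5 D98213) F72493 D75285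
theorem E102140 : n139358 = n139289 := (c17_6 (iv1 F225283) F355618 (iv1 F356091) F357468 (iv4 D139357) D139358 (iv0 D139289) (iv5 D65376) D65374 (iv4 F206753))
theorem F357472 : act 4 n139289 = n146934 := (sb E102140 F230330)
theorem F357473 : act 5 n139289 = n65410 := (sb E102140 (iv5 D139358))
theorem E102141 : n144137 = n116998 := ((c18_9 (iv1 F355659) F355660 F355665 (iv4 F248997) F357468 (iv4 D139357) (iv0 D65410) (iv4 F85043) D116998 F357458)).symm
theorem F357474 : act 2 n116998 = n67529 := (sb E102141 (iv2 D144137))
theorem F357475 : act 5 n116998 = n103006 := (sb E102141 F357458)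
theorem F357476 : act 7 n116998 = n67530 := (sb E102141 (iv7 F226851))
theorem E102142 : n144141 = n116997 := (c15_4 (iv0 D116997) D116998 F357476 (iv2 F226853))
theorem F357477 : act 2 n116997 = n67530 := (sb E102142 F226853)
theorem F357478 : act 5 n116997 = n75820 := (sb E102142 F356121)
theorem F357479 : act 6 n116997 = n75802 := (sb E102142 F356122)
theorem F357480 : act 7 n116997 = n67529 := (sb E102142 (iv7 D144141))
theorem E102143 : n158907 = n144213 := (c17_3 D116997 F357478 D158907 F226903 F176145 D133981 F222490 F357473 (iv0 D65410) (iv4 F85043))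
theorem F357481 : act 0 n144213 = n103006 := (sb E102143 (iv1 F250204))
theorem F357482 : act 1 n144213 = n75820 := (sb E102143 (iv0 D158907))
theorem F357483 : act 0 n112925 = n142483 := d20_10 (iv4 D142483) (iv1 D66804) D66805 D142487 (iv1 F333381) F151165 (iv4 F113718) (iv1 F357482) F356089 F176071
theorem F357484 : act 6 n142483 = n115180 := d21_5 F175859 (iv1 F82399) D52125 D112925 F357483 (iv5 D115180) D115178 (iv5 F328276) (iv6 D133291) F175860
theorem F357485 : act 4 n115180 = n142484 := d10_1 F357484 (iv6 D142484) D142483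
theorem E102144 : n144163 = n135263 := (c1_2 F357485 (iv2 F226868) (iv4 D135263) (iv2 F179353))
theorem F357486 : act 2 n135263 = n142484 := (sb E102144 F226868)
theorem F357487 : act 6 n135263 = n67538 := (sb E102144 (iv6 D144163))
theorem E102145 : n139363 = n139290 := ((c17_7 (iv1 F182917) F357475 (iv1 F355659) F182956 F94066 D65376 D139290 (iv5 D139363) F180498 F180494)).symm
theorem F357488 : act 5 n139290 = n65411 := (sb E102145 (iv5 D139363))
theorem F357489 : act 0 n139359 = n100830 := d21_10 (iv5 F356151) F306238 D162735 (iv6 F357396) (iv1 D139294) (iv6 D65377) D65376 D139289 F357473 D139359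
theorem F357490 : act 4 n98213 = n139359 := d17_9 F357489 (iv5 F356151) F306238 D162735 F272498 (iv5 F326131) F326128 D162751 (iv0 F300484)
theorem F357491 : act 5 n100777 = n139359 := d17_1 (iv1 F154872) F357489 (iv5 F356151) (iv4 D158685) (iv5 D75691) F112805 (iv5 F314805) (iv0 F314794) F155508
theorem F357492 : act 1 n139359 = n100829 := d15_1 (iv0 F357489) F356135 (iv2 F356152)
theorem F357493 : act 7 n139359 = n100776 := d15_2 D100830 (iv0 F357489) F154865
theorem F357494 : act 2 n100832 = n139359 := d4_3 F357493 F154865 D100832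
theorem F357495 : act 3 n149020 = n139359 := d8_3 F357493 F154866 D149020
theorem F357496 : act 6 n100790 = n139360 := d14_3 F357493 F154867 D100790 (iv7 D139360) D139359
theorem E102146 : n139364 = n47024 := (c3_3 F357496 F222581 D139364 (iv2 F154884))
theorem E102147 : n100887 = n65411 := ((D100887).symm.trans (sb E102146 (iv6 D139364)))
theorem E102148 : n139361 = n47058 := ((D139361).symm.trans (sb E102147 F155011))
theorem F357497 : act 6 n65411 = n47024 := (sb E102147 (iv6 D100887))
theorem F357498 : act 3 n47058 = n65411 := (sb E102148 (iv3 D139361))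
theorem F357499 : act 3 n139290 = n90879 := d6_3 F294249 F357498 (iv5 F357488)
theorem F357500 : act 3 n139355 = n100964 := d8_3 F155580 F357498 F222577
theorem F357501 : act 4 n100992 = n106862 := d20_0 (iv1 F164684) (iv4 F172958) F172957 (iv1 F84360) D65465 (iv4 F183001) F222582 (iv4 D139362) (iv3 F357498) D100992
theorem F357502 : act 2 n140361 = n100992 := d1_3 F357501 F224840 D140361
theorem F357503 : act 7 n140356 = n100992 := d11_0 F357501 F224841 D140356
theorem F357504 : act 7 n100993 = n140361 := d15_2 (iv0 D100992) D100993 F357502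
theorem F357505 : act 5 n141823 = n100993 := d16_7 F357501 F224839 (iv4 F224837) (iv5 D110882) F80649 D66492 D141823 F357504 F357502
theorem F357506 : act 2 n100993 = n140356 := d4_3 F357503 (iv2 F357502) (iv7 F357504)
theorem F357507 : act 4 n106863 = n100993 := d1_0 F357506 (iv4 D140356) (iv2 F224843)
theorem F357508 : act 1 n141133 = n139316 := d18_8 (iv1 F172960) F172958 (iv1 F164689) F357507 (iv5 F357505) (iv4 D141823) D141822 F224849 (iv5 D139316)
theorem F357509 : act 3 n100993 = n126773 := d20_3 F172958 (iv1 F164689) F357507 (iv1 F329615) F329617 F330570 F330569 (iv4 F222795) (iv3 D139314) (iv1 F172960)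
theorem F357510 : act 1 n139316 = n110882 := d15_1 F357508 F171787 (iv2 F224104)
theorem F357511 : act 0 n141134 = n98623 := d21_4 D139316 (iv1 F357508) (iv5 D141133) D141134 F152020 (iv5 D46438) (iv1 F34709) (iv5 F34965) (iv6 F329480) D65391
theorem F357512 : act 1 n141134 = n100163 := d15_1 (iv0 F357511) (iv7 D100163) (iv2 F152019)
theorem F357513 : act 1 n100163 = n141141 := d15_1 F357512 (iv7 D141141) (iv2 F224106)
theorem F357514 : act 6 n100832 = n139355 := d7_0 F357500 (iv6 D100964) (iv3 F154929)
theorem E102149 : n139355 = n115926 := (c10_1 F357514 (iv4 F226757) F357461 (iv4 F356174))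
theorem F357515 : act 2 n115926 = n65410 := (sb E102149 (iv2 D139355))
theorem F357516 : act 3 n115926 = n100964 := (sb E102149 F357500)
theorem F357517 : act 6 n115926 = n100832 := (sb E102149 (iv6 F357514))
theorem F357518 : act 7 n115926 = n65411 := (sb E102149 (iv7 F222577))
theorem F357519 : act 7 n139362 = n144038 := d11_2 F357518 D139362 F226757
theorem F357520 : act 7 n139290 = n133983 := d13_2 F357518 (iv5 F357488) (iv5 F357459)
theorem E102150 : n139360 = n115925 := (c15_4 (iv0 D115925) D115926 F357518 (iv2 F222581))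
theorem F357521 : act 2 n115925 = n65411 := (sb E102150 F222581)
theorem F357522 : act 6 n115925 = n100790 := (sb E102150 (iv6 F357496))
theorem F357523 : act 7 n115925 = n65410 := (sb E102150 (iv7 D139360))
theorem F357524 : act 7 n139357 = n144500 := d11_2 F357523 D139357 (iv4 F227342)
theorem F357525 : act 2 n144500 = n139362 := d4_1 F357524 F357519 (iv2 F357470)
theorem F357526 : act 2 n133983 = n139289 := d15_3 (iv0 D139289) D139290 F357520
theorem F357527 : act 2 n139290 = n133982 := d15_3 (iv0 D133982) D133983 (iv7 F357520)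
theorem F357528 : act 4 n133982 = n148131 := d16_0 F231944 F183480 (iv5 F322607) (iv4 F249060) F357460 F226757 F357459 (iv7 F357520) F357527
theorem F357529 : act 7 n139289 = n133982 := d11_0 F357528 F231945 (iv4 F357472)
theorem F357530 : act 5 n115925 = n133982 := d16_1 (iv4 F227342) F357528 F231944 F183480 (iv5 F322607) (iv4 F249060) F357460 (iv7 F357519) (iv2 F357525)
theorem E102151 : n93205 = n93065 := (c21_1 (iv5 F295343) (iv1 D93065) D93067 F347691 (iv1 D51278) (iv6 F47891) D62939 D133982 (iv5 F357530) F357522 (iv1 F154887))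
theorem F357531 : act 2 n93065 = n89115 := (sb E102151 F295342)
theorem F357532 : act 5 n93065 = n47022 := (sb E102151 F295343)
theorem F357533 : act 6 n93065 = n43605 := (sb E102151 (iv6 D93205))
theorem F357534 : act 5 n93212 = n99482 := d21_2 D43608 D93212 (iv6 D99482) (iv1 F294869) F294872 (iv5 F154885) (iv1 F154887) (iv5 F357532) F357533 (iv1 D43605)
theorem F357535 : act 3 n98084 = n93212 := d6_3 F357534 F289940 F289937
theorem E102152 : n99482 = n90378 := (c17_8 (iv1 F292815) D96130 F147780 (iv5 D95643) F70243 D89100 F295263 F357534 (iv0 D90378) (iv4 F133281))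
theorem F357536 : act 3 n90378 = n88235 := (sb E102152 F289940)
theorem F357537 : act 5 n90378 = n93212 := (sb E102152 (iv5 F357534))
theorem F357538 : act 6 n90378 = n46508 := (sb E102152 (iv6 D99482))
theorem F357539 : act 0 n172215 = n89475 := d21_7 F357537 (iv1 F295263) (iv5 D89100) (iv6 D41630) (iv1 F58712) D82485 D172215 (iv5 F291782) (iv6 D90382) D90378
theorem F357540 : act 0 n104006 = n99481 := d21_7 D91094 F335332 (iv5 D89119) (iv6 F335326) F327384 (iv6 F152092) (iv5 F159454) (iv5 D99481) (iv6 F357538) (iv1 F139088)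
theorem F357541 : act 5 n90304 = n100532 := d19_17 F357540 (iv5 D99481) D99480 F153250 D100843 F295948 F329867 F329765 F111408 (iv5 F329612) F294395 (iv3 D42551) F293340 D22530 D46910 (iv3 F340057) F139688 F154599 D104006
theorem E102153 : n91088 = n90378 := (c8_1 D91088 F357536 (iv7 F295073) (iv3 D91084))
theorem F357542 : act 2 n90378 = n42662 := (sb E102153 F140138)
theorem F357543 : act 7 n90378 = n42661 := (sb E102153 (iv7 D91088))
theorem F357544 : act 7 n91086 = n93212 := d13_2 F357543 D91086 (iv5 F357537)
theorem E102154 : n101967 = n91087 := ((c14_2 F357543 D91087 F357148 (iv6 F357143) F294863 (iv6 F357538))).symm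
theorem F357545 : act 0 n91087 = n47369 := (sb E102154 (iv1 D101967))
theorem F357546 : act 1 n91087 = n47379 := (sb E102154 F156934)
theorem F357547 : act 2 n91087 = n47377 := (sb E102154 F357147)
theorem F357548 : act 7 n91087 = n47376 := (sb E102154 F357148)
theorem E102155 : n91083 = n90379 := (c15_4 F139092 F139088 F357543 D91083)
theorem F357549 : act 2 n90379 = n42661 := (sb E102155 (iv2 D91083))
theorem F357550 : act 7 n90379 = n42662 := (sb E102155 (iv7 F140136))
theorem F357551 : act 7 n91091 = n93213 := d13_2 F357550 D91091 F347752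
theorem E102156 : n91092 = n90872 := (c14_2 F357550 D91092 F294867 D99487 F357145 (iv6 F347751))
theorem F357552 : act 6 n90872 = n42662 := (sb E102156 (iv6 D91092))
theorem F357553 : act 6 n91090 = n103588 := d10_2 F357552 D91090 (iv4 F294866)
theorem E102157 : n91091 = n89122 := (c21_7 F34430 F51874 F51872 D46505 (iv1 F294864) F357552 D91091 (iv1 D89122) (iv5 D41637) (iv6 D19604) D19599)
theorem F357554 : act 5 n89122 = n42662 := (sb E102157 (iv5 D91091))
theorem F357555 : act 7 n89122 = n93213 := (sb E102157 F357551)
theorem F357556 : act 2 n93213 = n89121 := d15_3 (iv0 D89121) D89122 F357555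
theorem F357557 : act 2 n89122 = n93212 := d15_3 (iv0 D93212) D93213 (iv7 F357555)
theorem E102158 : n91086 = n89121 := (c4_3 (iv7 F357555) F357557 (iv7 F357544) (iv2 F357556))
theorem F357558 : act 5 n89121 = n42661 := (sb E102158 (iv5 D91086))
theorem F357559 : act 7 n89121 = n93212 := (sb E102158 F357544)
theorem F357560 : act 0 n172224 = n96159 := d21_1 D172224 F147836 F147829 (iv1 F357546) (iv6 D91087) (iv5 F357558) F295265 (iv5 D93207) D93208 F294217
theorem F357561 : act 0 n131140 = n89105 := d17_2 (iv1 F283182) F352885 (iv5 D89105) F64245 D41637 D89122 F357554 F139093 (iv4 F283179)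
theorem F357562 : act 0 n91102 = n99490 := d21_4 F357554 (iv1 D42662) D42665 D91102 F333443 (iv5 F167777) F167778 D135355 F347396 (iv1 F295266)
theorem F357563 : act 6 n100801 = n139362 := d14_5 F357519 F357461 (iv7 F356144) F154928 (iv7 F329990)
theorem F357564 : act 1 n139357 = n144501 := d15_0 F227344 F357519 (iv2 F357470)
theorem F357565 : act 0 n100964 = n140356 := d20_10 (iv4 D140356) (iv1 F164688) F164686 F101088 (iv1 F84359) D115950 F180554 F226758 F226757 F357516
theorem F357566 : act 1 n100964 = n140361 := d15_1 (iv0 F357565) (iv7 F357504) F357506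
theorem F357567 : act 1 n93104 = n140356 := d15_0 (iv0 F357565) F155580 (iv2 F294233)
theorem F357568 : act 1 n140361 = n93104 := d15_0 F357567 F357503 (iv2 F357502)
theorem F357569 : act 3 n139934 = n93104 := d20_9 (iv4 D140361) (iv1 D65882) (iv4 F81165) (iv3 D51407) F39218 D30688 (iv4 F50023) D68118 F223164 (iv1 F357568)
theorem F357570 : act 5 n101118 = n139934 := d6_0 F357569 F294234 (iv3 F155778)
theorem F357571 : act 6 n93103 = n139934 := d7_0 F357569 (iv6 D93104) D93103
theorem F357572 : act 4 n145294 = n93103 := d10_3 F357571 (iv4 F223164) D145294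
theorem F357573 : act 7 n99435 = n145294 := d11_0 F357572 F294232 D99435
theorem F357574 : act 0 n107094 = n145294 := d18_2 F329512 (iv4 F165068) F357572 F294231 F73442 F134733 (iv4 F134735) (iv0 F73820) D47080
theorem F357575 : act 0 n93103 = n140093 := d20_1 F357572 F323743 (iv3 D127983) F94689 (iv3 F320598) F78406 (iv1 F39041) (iv4 F111248) D107094 F357574
theorem F357576 : act 1 n93103 = n137226 := d15_1 (iv0 F357575) (iv7 F344244) F349311
theorem F357577 : act 1 n99424 = n140093 := d15_0 (iv0 F357575) F294232 (iv2 F153149)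
theorem F357578 : act 1 n137226 = n99424 := d15_0 F357577 (iv7 F349210) (iv2 F344243)
theorem E102159 : n93232 = n93074 := (c17_8 F343905 F285838 (iv1 D183970) (iv5 D87759) (iv4 F73439) D99424 F357577 (iv5 F349207) (iv0 D93074) D93077)
theorem F357579 : act 2 n93074 = n89411 := (sb E102159 (iv2 F349308))
theorem F357580 : act 3 n93074 = n140094 := (sb E102159 (iv3 F349206))
theorem F357581 : act 4 n93074 = n89167 := (sb E102159 F295299)
theorem F357582 : act 5 n93074 = n140093 := (sb E102159 F349207)
theorem F357583 : act 6 n93074 = n43615 := (sb E102159 (iv6 D93232))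
theorem F357584 : act 7 n93074 = n89410 := (sb E102159 F344240)
theorem F357585 : act 7 n93075 = n89411 := d15_2 (iv0 D93074) D93075 (iv2 F357579)
theorem F357586 : act 2 n89410 = n93075 := d4_3 F357585 (iv2 F357579) F357584
theorem F357587 : act 5 n137226 = n93075 := d13_3 F357585 F349310 F344244
theorem F357588 : act 6 n136079 = n93075 := d14_5 F357585 F349309 F344255 F339533 (iv7 F218997)
theorem F357589 : act 0 n93078 = n99428 := d21_1 D93078 (iv5 D99428) (iv6 F338425) F295364 (iv6 D47408) (iv5 F328241) D63991 D136079 F357588 (iv1 D93075)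
theorem F357590 : act 0 n89401 = n93075 := d21_4 (iv5 F344202) (iv1 F289471) (iv5 D89400) D89401 (iv6 F357588) (iv5 D136079) (iv1 F99571) F328572 D46596 D99752
theorem E102160 : n136079 = n102208 := (c21_10 (iv5 D47446) (iv1 F328957) (iv5 D47062) (iv6 D22634) (iv1 F34765) D46487 D99424 (iv1 F357578) F357587 (iv6 F357588) (iv1 D102208))
theorem F357591 : act 1 n102208 = n64128 := (sb E102160 F218998)
theorem F357592 : act 2 n102208 = n64671 := (sb E102160 F218996)
theorem F357593 : act 5 n102208 = n63991 := (sb E102160 (iv5 D136079))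
theorem F357594 : act 6 n102208 = n93075 := (sb E102160 F357588)
theorem F357595 : act 7 n102208 = n64676 := (sb E102160 F218997)
theorem E102161 : n136082 = n102207 := (c15_4 (iv0 D102207) D102208 F357595 (iv2 F219007))
theorem F357596 : act 0 n102207 = n64128 := (sb E102161 F219009)
theorem F357597 : act 2 n102207 = n64676 := (sb E102161 F219007)
theorem F357598 : act 4 n102207 = n186548 := (sb E102161 F346013)
theorem F357599 : act 5 n102207 = n63992 := (sb E102161 (iv5 D136082))
theorem F357600 : act 6 n102207 = n91000 := (sb E102161 (iv6 F344258))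
theorem F357601 : act 7 n102207 = n64671 := (sb E102161 F219008)
theorem F357602 : act 4 n102323 = n115518 := d16_2 (iv4 F339532) F338454 (iv5 D115518) F171720 F171718 (iv4 D64670) D64671 (iv7 F357601) F357597
theorem E102162 : n142327 = n102324 := (c18_5 D64704 (iv4 F167014) (iv1 F167033) (iv4 F245226) F245225 (iv4 D102324) D102323 F357602 F179806 (iv5 D64707))
theorem F357603 : act 0 n102324 = n66739 := (sb E102162 (iv1 D142327))
theorem F357604 : act 5 n102324 = n156069 := (sb E102162 (iv5 F245225))
theorem E102163 : n185027 = n102323 := (c20_6 (iv4 F135154) (iv1 D88213) (iv4 D41167) (iv3 F62358) D88199 D185027 F357602 (iv1 F328982) (iv4 D102085) F74619 (iv1 F134647))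
theorem F357605 : act 3 n102323 = n88199 := (sb E102163 (iv3 D185027))
theorem F357606 : act 3 n182692 = n89172 := d6_3 F338454 F357605 (iv5 F339542)
theorem F357607 : act 5 n115249 = n185343 := d17_1 (iv1 F179493) F287599 F357604 F245226 F166218 F166475 (iv5 F171718) (iv0 D110863) (iv4 F83997)
theorem F357608 : act 2 n185343 = n115528 := d2_1 F357607 (iv5 D115528) (iv2 F179491)
theorem F357609 : act 7 n185343 = n115531 := d13_2 (iv7 F179492) F357607 (iv5 D115531)
theorem F357610 : act 1 n185343 = n142326 := d17_6 (iv1 D34056) F26082 D30176 (iv5 F83977) D115249 F357607 F225256 (iv0 F167012) (iv4 D74240)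
theorem F357611 : act 4 n102322 = n115522 := d18_3 F287599 (iv4 D102324) D102322 (iv5 D115522) (iv4 F163599) F179930 F179927 F179494 F357607
theorem F357612 : act 5 n137596 = n102322 := d9_0 F357611 (iv5 D115522) (iv4 F163599) F94078 F161378 D64676 (iv4 F339532) F338454 F357602 (iv5 D115518) F171720 F171718 (iv4 D64670) D64671 D137596
theorem F357613 : act 4 n137652 = n102068 := d18_5 (iv1 F167013) (iv4 D74238) (iv1 F53437) (iv4 F100586) (iv5 F220808) F157012 D185343 F357610 F225256
theorem F357614 : act 4 n115528 = n102084 := d16_0 (iv5 F329309) (iv4 D137632) (iv5 D64698) (iv4 D30437) (iv5 F83877) D53296 D115531 (iv7 F357609) F357608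
theorem F357615 : act 4 n186549 = n102208 := d18_7 F328162 D102062 F328173 (iv4 F245931) F335579 (iv4 F136230) D186549 F357591 (iv5 D64128)
theorem F357616 : act 2 n137596 = n186549 := d1_3 F357615 F357592 D137596
theorem F357617 : act 7 n89172 = n186549 := d11_0 F357615 F357595 (iv4 F339532)
theorem F357618 : act 3 n185174 = n186549 := d20_5 F63049 (iv1 F69722) F64428 (iv3 F135172) D185174 F357615 (iv1 D102208) (iv4 F137676) F137675 (iv1 F64636)
theorem F357619 : act 1 n89401 = n93074 := d15_1 (iv0 F357590) F357584 F357586
theorem F357620 : act 7 n89401 = n93076 := d15_2 D93075 (iv0 F357590) (iv2 D93076)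
theorem F357621 : act 1 n89411 = n93076 := d15_1 D89411 (iv7 F357620) F137083
theorem F357622 : act 1 n93076 = n89410 := d15_1 F357621 (iv7 F357584) F357579
theorem E102164 : n93231 = n91125 := ((c21_2 D42673 D91125 (iv5 D93231) (iv6 F357583) (iv1 F357619) (iv6 D89401) D89400 (iv1 F289472) F346006 (iv6 D91122) (iv1 D42671))).symm
theorem F357623 : act 5 n91125 = n43615 := (sb E102164 (iv5 D93231))
theorem F357624 : act 6 n138270 = n101815 := d21_9 (iv5 D149015) (iv1 D69885) D69886 (iv6 F153151) (iv1 F357578) (iv6 D137226) (iv5 F219000) (iv1 F219299) D138270 (iv1 F350965)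
theorem F357625 : act 3 n101832 = n138270 := d7_3 F357624 F156774 (iv6 F156792)
theorem F357626 : act 6 n90875 = n139290 := d7_0 F357499 (iv6 D90879) (iv3 F139876)
theorem E102165 : n111179 = n111173 := ((c21_4 (iv5 F329814) (iv1 F294158) F294160 (iv6 F347692) (iv1 D111179) (iv6 F98185) D133981 (iv1 F222491) F357488 F357497 F329811)).symm
theorem F357627 : act 0 n111173 = n51279 := (sb E102165 (iv1 D111179))
theorem F357628 : act 1 n111173 = n51281 := (sb E102165 F172424)
theorem F357629 : act 3 n111173 = n110952 := (sb E102165 F172425)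
theorem F357630 : act 5 n139293 = n101678 := d21_0 (iv1 D101678) D101680 (iv6 F357399) (iv1 F154886) (iv6 F357497) (iv5 F357488) (iv1 D139290) (iv5 D65376) D65377 D139293
theorem F357631 : act 4 n101847 = n139293 := d9_15 F357630 (iv4 F287016) F287017 (iv4 D101862) (iv5 D47336) D47335 D101860 (iv4 F357397) (iv5 F357395) F273769 F270613 (iv4 D101849) (iv5 D47331) D47330 D101847
theorem F357632 : act 1 n127107 = n101874 := d18_8 (iv1 D47339) (iv4 D22746) D22744 D47330 D101847 F357631 (iv0 D139293) (iv4 F204361) (iv5 D101874)
theorem F357633 : act 7 n110952 = n111169 := d8_2 D111173 F357629 (iv3 D111169)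
theorem E102166 : n110955 = n110945 := (c11_2 F357633 F172421 (iv7 F171999) D110952)
theorem F357634 : act 0 n110945 = n51162 := (sb E102166 (iv1 F172002))
theorem F357635 : act 1 n110945 = n51160 := (sb E102166 (iv0 D110955))
theorem F357636 : act 4 n110945 = n111169 := (sb E102166 (iv4 F172421))
theorem F357637 : act 2 n111169 = n110947 := d1_1 F357636 (iv4 D110947) D110945
theorem E102167 : n110956 = n110950 := (c15_2 F357635 D110956 (iv7 D110950) D110945)
theorem F357638 : act 0 n110950 = n51160 := (sb E102167 (iv1 D110956))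
theorem F357639 : act 1 n110950 = n51162 := (sb E102167 F172003)
theorem F357640 : act 3 n110950 = n108477 := (sb E102167 F172004)
theorem F357641 : act 7 n108477 = n110946 := d8_2 D110950 F357640 (iv3 D110946)
theorem E102168 : n108480 = n108470 := (c11_2 F357641 F172000 (iv7 F167706) D108477)
theorem F357642 : act 0 n108470 = n50089 := (sb E102168 (iv1 F167708))
theorem F357643 : act 1 n108470 = n50087 := (sb E102168 (iv0 D108480))
theorem F357644 : act 4 n108470 = n110946 := (sb E102168 (iv4 F172000))
theorem F357645 : act 2 n110946 = n108472 := d1_1 F357644 (iv4 D108472) D108470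
theorem E102169 : n108481 = n108475 := (c15_2 F357643 D108481 (iv7 D108475) D108470)
theorem F357646 : act 0 n108475 = n50087 := (sb E102169 (iv1 D108481))
theorem F357647 : act 1 n108475 = n50089 := (sb E102169 F167709)
theorem F357648 : act 3 n108475 = n112884 := (sb E102169 F175804)
theorem F357649 : act 7 n112884 = n108471 := d8_2 D108475 F357648 (iv3 D108471)
theorem E102170 : n103868 = n52102 := (c11_3 F357649 F175806 F340468 D112884)
theorem E102171 : n112888 = n112882 := ((((iv2 F175803)).symm.trans (sb E102170 (iv2 F340467)))).symm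
theorem E102172 : n112883 = n48090 := ((D112883).symm.trans (sb E102170 F159285))
theorem E102173 : n181901 = n112885 := (((D112885).symm.trans (sb E102170 F294974))).symm
theorem E102174 : n112886 = n48085 := ((D112886).symm.trans (sb E102170 (iv6 D103868)))
theorem E102175 : n112887 = n112877 := (((F175801).symm.trans (sb E102170 (iv7 F340468)))).symm
theorem F357650 : act 0 n112882 = n52103 := (sb E102171 (iv1 D112888))
theorem F357651 : act 1 n112882 = n52105 := (sb E102171 F175807)
theorem F357652 : act 3 n112882 = n111175 := (sb E102171 F175808)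
theorem F357653 : act 6 n112882 = n103863 := (sb E102171 (iv6 F340466))
theorem F357654 : act 3 n48090 = n52102 := (sb E102172 (iv3 D112883))
theorem F357655 : act 3 n112885 = n86881 := (sb E102173 F283198)
theorem F357656 : act 6 n112885 = n86878 := (sb E102173 (iv6 D181901))
theorem F357657 : act 6 n48085 = n52102 := (sb E102174 (iv6 D112886))
theorem F357658 : act 0 n112877 = n52105 := (sb E102175 (iv1 F175805))
theorem F357659 : act 1 n112877 = n52103 := (sb E102175 (iv0 D112887))
theorem F357660 : act 3 n112877 = n103883 := (sb E102175 (iv3 F340469))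
theorem F357661 : act 4 n112877 = n108471 := (sb E102175 (iv4 F175806))
theorem F357662 : act 2 n108471 = n112879 := d1_1 F357661 (iv4 D112879) D112877
theorem F357663 : act 6 n112884 = n103867 := d10_2 F357657 D112884 (iv4 D103867)
theorem F357664 : act 0 n106752 = n163473 := d20_1 (iv4 F348084) F257754 (iv3 F357655) (iv1 F343135) F209136 F95728 F46641 D49651 (iv3 F295477) F293088
theorem E102176 : n163618 = n132066 := (c21_11 (iv5 D132066) (iv1 F211583) (iv5 F77996) D106752 F357664 (iv6 D163473) F119746 (iv1 D35808) D35810 D78613 D163618)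
theorem F357665 : act 1 n132066 = n78613 := (sb E102176 (iv0 D163618))
theorem F357666 : act 4 n103880 = n107006 := d20_0 (iv1 F171968) (iv4 F295628) F295627 (iv1 F112014) (iv3 F339998) F339999 F246303 (iv4 D112884) (iv3 F357654) D103880
theorem F357667 : act 7 n111175 = n112878 := d8_2 D112882 F357652 (iv3 D112878)
theorem E102177 : n111178 = n111168 := (c11_2 F357667 F175802 (iv7 F172420) D111175)
theorem F357668 : act 0 n111168 = n51281 := (sb E102177 (iv1 F172423))
theorem F357669 : act 1 n111168 = n51279 := (sb E102177 (iv0 D111178))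
theorem F357670 : act 4 n111168 = n112878 := (sb E102177 (iv4 F175802))
theorem F357671 : act 2 n112878 = n111170 := d1_1 F357670 (iv4 D111170) D111168
theorem F357672 : act 6 n139356 = n149020 := d7_0 F357495 (iv6 D139359) D139356
theorem F357673 : act 0 n96403 = n174266 := d19_16 F298673 D98213 F357490 (iv3 F357495) (iv1 F236186) (iv5 F350960) F350959 F149006 F297912 (iv5 D40071) F30247 (iv3 F30236) (iv1 F297793) F57611 (iv4 F122635) (iv3 F325885) F273061 (iv4 F272493) F272492
theorem F357674 : act 4 n149020 = n145422 := d20_6 (iv4 F328062) (iv1 F40939) D51448 (iv3 F356132) (iv1 F357492) (iv3 F357495) (iv1 D145422) (iv4 F228445) (iv3 D145419) F328061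
theorem E102178 : n145422 = n145296 := (c10_2 F357672 F357674 (iv6 D145296) (iv4 F222578))
theorem F357675 : act 0 n145296 = n68177 := (sb E102178 (iv1 D145422))
theorem F357676 : act 4 n145296 = n149020 := (sb E102178 (iv4 F357674))
theorem F357677 : act 7 n145296 = n149019 := d11_2 D149020 (iv4 F357676) (iv4 D149019)
theorem F357678 : act 4 n174266 = n147562 := d18_3 F341907 (iv4 F325886) F357673 F308694 F127679 (iv0 F318081) (iv4 D160962) D160961 F341912
theorem F357679 : act 0 n174136 = n131551 := d20_7 (iv4 F325886) F357673 F357678 F308693 (iv1 F127709) D83244 D174136 F210802 (iv3 F210791) F341907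
theorem F357680 : act 0 n137262 = n160810 := d20_4 F357678 (iv1 D147562) (iv4 F205071) (iv3 F220402) (iv3 D160810) (iv4 D77164) (iv1 F121408) (iv4 F122635) (iv3 F325885) F357673
theorem E102179 : n160301 = n120456 := (c15_4 F191902 F191908 F355545 (iv2 F253207))
theorem F357681 : act 2 n120456 = n76829 := (sb E102179 F253207)
theorem F357682 : act 3 n120456 = n117698 := (sb E102179 (iv3 F350750))
theorem F357683 : act 4 n120456 = n123251 := (sb E102179 F350752)
theorem F357684 : act 7 n120456 = n76828 := (sb E102179 (iv7 D160301))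
theorem F357685 : act 7 n157575 = n157702 := d11_2 (iv7 F335072) F355122 (iv4 F354561)
theorem F357686 : act 3 n157575 = n146164 := d20_3 F322861 D116431 F355122 (iv1 D146164) (iv3 D68540) F50197 (iv1 D15092) D15093 D32003 D68803
theorem E102180 : n157696 = n146164 := ((c0_1 F357686 (iv2 D157696) D157697 F347969 (iv3 F233858) (iv2 F248336))).symm
theorem F357687 : act 2 n146164 = n75136 := (sb E102180 (iv2 D157696))
theorem F357688 : act 5 n146164 = n157572 := (sb E102180 F347968)
theorem F357689 : act 7 n146164 = n75137 := (sb E102180 (iv7 F248504))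
theorem F357690 : act 0 n157572 = n116918 := d21_1 F357688 F182687 D145779 F354320 (iv6 D179267) (iv5 D85544) D85540 (iv5 F192210) F192211 (iv1 F229433)
theorem F357691 : act 0 n157642 = n111844 := d17_0 F173664 D112100 (iv5 F318883) F318882 (iv5 F182687) (iv0 F357690) (iv5 F357688) F229433 (iv4 F248413)
theorem F357692 : act 3 n181740 = n157588 := d19_15 F357690 F182687 (iv4 F318882) (iv3 D95333) (iv1 F317867) D59900 F94383 (iv3 F105468) (iv1 F318603) F319787 F321782 (iv3 F204408) F340691 (iv5 D181743) (iv4 F282906) (iv1 D157588) (iv5 D75017) (iv4 F112549) (iv3 F248333)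
theorem F357693 : act 6 n157588 = n181738 := d7_2 D181740 F357692 (iv3 D181738)
theorem E102181 : n128211 = n123712 := (c15_4 F198196 F198202 F354961 (iv2 F206344))
theorem F357694 : act 2 n123712 = n60274 := (sb E102181 F206344)
theorem F357695 : act 3 n123712 = n144351 := (sb E102181 F354089)
theorem F357696 : act 7 n123712 = n60273 := (sb E102181 (iv7 D128211))
theorem F357697 : act 5 n133507 = n145932 := d6_0 F354946 D159709 (iv3 F341534)
theorem F357698 : act 3 n144804 = n155504 := d20_3 F188637 F104923 (iv4 F227699) F319412 (iv3 F238043) F238044 (iv1 F335783) F317464 (iv3 F354946) F229156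
theorem F357699 : act 3 n122847 = n155488 := d20_9 (iv4 D73957) (iv1 D33949) D33950 D73962 D155504 (iv3 F357698) F227699 F314862 (iv4 F196845) (iv1 F244493)
theorem F357700 : act 2 n155488 = n153364 := d0_1 F357699 F240936 (iv2 F199439) (iv3 F338172) F338171
theorem F357701 : act 6 n155488 = n122846 := d7_2 D122847 F357699 (iv3 D122846)
theorem E102182 : n184781 = n155489 := ((c15_2 (iv0 D155488) D155489 F354077 (iv2 F357700))).symm
theorem F357702 : act 3 n155489 = n153368 := (sb E102182 (iv3 F354076))
theorem F357703 : act 4 n155489 = n88110 := (sb E102182 (iv4 D184781))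
theorem F357704 : act 7 n155489 = n153364 := (sb E102182 F354077)
theorem E102183 : n134351 = n110911 := (c21_10 (iv5 F171649) F354940 D122701 F196560 (iv1 F192002) F350349 (iv5 D134301) F168279 D63117 (iv6 F216350) (iv1 D110911))
theorem F357705 : act 5 n110911 = n63114 := (sb E102183 (iv5 D134351))
theorem F357706 : act 6 n110911 = n63117 := (sb E102183 F216350)
theorem E102184 : n141241 = n63097 := (c21_1 D141241 F168279 D63117 (iv6 F357706) (iv1 D110911) (iv6 D51141) (iv5 D24887) F19178 D14653 D30956 D66245)
theorem E102185 : n134301 = n66245 := ((D134301).symm.trans (sb E102184 (iv5 D141241)))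
theorem E102186 : n141145 = n128663 := (((iv1 F224117)).symm.trans (sb E102185 F216320))
theorem E102187 : n141238 = n120633 := ((D141238).symm.trans (sb E102185 (iv2 F350355)))
theorem F357707 : act 5 n66245 = n63097 := (sb E102185 (iv5 D134301))
theorem E102188 : n141242 = n120532 := ((D141242).symm.trans (sb E102185 (iv6 F350349)))
theorem E102189 : n141243 = n141143 := ((D141243).symm.trans (sb E102185 F350346))
theorem E102190 : n134298 = n66246 := (((iv1 F216318)).symm.trans (sb E102186 (iv1 F224116)))
theorem F357708 : act 1 n128663 = n66245 := (sb E102186 F224117)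
theorem F357709 : act 2 n128663 = n66248 := (sb E102186 F224114)
theorem F357710 : act 7 n128663 = n66202 := (sb E102186 (iv7 D141145))
theorem F357711 : act 2 n120633 = n66245 := (sb E102187 (iv2 D141238))
theorem F357712 : act 6 n120532 = n66245 := (sb E102188 (iv6 D141242))
theorem F357713 : act 7 n141143 = n66245 := (sb E102189 (iv7 D141243))
theorem F357714 : act 1 n66246 = n128663 := (sb E102190 F216318)
theorem F357715 : act 2 n66246 = n141143 := (sb E102190 F350343)
theorem E102191 : n141244 = n63915 := ((D141244).symm.trans (sb E102190 F326050))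
theorem E102192 : n141246 = n63093 := ((D141246).symm.trans (sb E102190 (iv5 D134298)))
theorem E102193 : n141247 = n63911 := ((D141247).symm.trans (sb E102190 F326051))
theorem F357716 : act 7 n66246 = n120633 := (sb E102190 (iv7 F350357))
theorem F357717 : act 3 n63915 = n66246 := (sb E102191 (iv3 D141244))
theorem F357718 : act 5 n63093 = n66246 := (sb E102192 (iv5 D141246))
theorem F357719 : act 6 n63911 = n66246 := (sb E102193 (iv6 D141247))
theorem F357720 : act 6 n141245 = n135925 := d10_2 F357719 D141245 (iv4 D135925)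
theorem E102194 : n135918 = n111743 := ((c21_11 (iv5 D135918) (iv1 D63909) D63911 F357719 (iv1 D66246) (iv6 D30956) (iv5 D14653) D14651 (iv5 F39266) D51520 D111743)).symm
theorem F357721 : act 0 n111743 = n136357 := (sb E102194 (iv1 F332973))
theorem F357722 : act 5 n111743 = n63909 := (sb E102194 (iv5 D135918))
theorem F357723 : act 0 n159421 = n135919 := d21_4 (iv5 D122653) D122651 F301782 F349499 (iv6 D135919) (iv5 F357722) F357721 (iv5 D136357) D136358 F341514
theorem F357724 : act 4 n111578 = n123150 := d18_3 (iv1 D66246) (iv4 F81236) D111578 F328921 F171568 F171567 (iv4 F216062) F216065 F357718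
theorem F357725 : act 2 n123992 = n111578 := d1_3 F357724 F197353 (iv4 F198403)
theorem F357726 : act 6 n123149 = n111578 := d10_0 F357724 (iv6 D123150) D123149
theorem F357727 : act 7 n111579 = n123992 := d15_2 (iv0 D111578) D111579 F357725
theorem F357728 : act 4 n123996 = n111579 := d11_3 F357727 F198403 D123996
theorem E102195 : n141245 = n111667 := ((c18_7 F164099 (iv4 D61373) F164312 (iv4 F98715) (iv5 F343838) F171713 D111667 (iv4 D141245) F357714 (iv5 D128663))).symm
theorem F357729 : act 4 n111667 = n66246 := (sb E102195 (iv4 D141245))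
theorem F357730 : act 6 n111667 = n135925 := (sb E102195 F357720)
theorem F357731 : act 7 n141239 = n136643 := d8_2 F357713 D141239 F350344
theorem F357732 : act 2 n136656 = n141239 := d4_3 F357731 F219790 F219804
theorem F357733 : act 5 n134300 = n141239 := d13_3 F357731 F219791 (iv7 F356305)
theorem F357734 : act 6 n136642 = n141239 := d14_5 F357731 (iv6 D136643) (iv7 F219675) F341526 (iv7 F341530)
theorem F357735 : act 1 n136659 = n141239 := d15_1 D136659 F357731 F219790
theorem F357736 : act 4 n141239 = n136643 := d10_1 F357734 (iv6 D136643) D136642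
theorem F357737 : act 1 n141239 = n136658 := d15_0 (iv0 D136658) F219804 F357732
theorem E102196 : n141240 = n124011 := (c10_2 F357712 D141240 (iv6 D124011) (iv4 F192003))
theorem F357738 : act 4 n124011 = n66245 := (sb E102196 (iv4 D141240))
theorem E102197 : n124011 = n111666 := ((c18_3 (iv1 F343837) F171713 D111666 F357738 F357707 (iv4 D63097) F79592 (iv4 F168744) F168750 D134290)).symm
theorem F357739 : act 4 n111666 = n66245 := (sb E102197 F357738)
theorem F357740 : act 6 n111666 = n57772 := (sb E102197 (iv6 D124011))
theorem F357741 : act 3 n124671 = n146906 := d20_9 F105055 D68866 D146909 (iv3 F354933) (iv1 D154382) (iv3 D73130) F339661 (iv1 F342770) F205814 (iv1 D146906)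
theorem F357742 : act 2 n146906 = n119577 := d0_1 F357741 (iv3 D119577) (iv2 F187798) F310221 (iv2 F199436)
theorem F357743 : act 4 n146906 = n144905 := d5_2 F205814 F357741 (iv3 F341982) (iv4 F342197) (iv3 F342771)
theorem F357744 : act 6 n146906 = n124669 := d7_2 D124671 F357741 F199429
theorem F357745 : act 4 n146048 = n119577 := d1_2 F357743 (iv2 F341981) (iv2 F357742)
theorem F357746 : act 7 n119577 = n146905 := d11_2 F230224 F357745 F230291
theorem F357747 : act 0 n119577 = n117246 := d20_1 F357745 F183467 (iv3 F105184) (iv1 F313018) (iv3 F315219) F233197 F317455 F315228 (iv3 F227872) (iv1 F340876)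
theorem F357748 : act 0 n146908 = n119577 := d20_1 (iv4 F230292) (iv4 F357745) (iv3 D146048) (iv1 D68478) F50170 (iv4 F49218) F53298 F53297 (iv3 F53291) (iv1 F131041)
theorem F357749 : act 3 n146905 = n119315 := d8_1 F357746 F187833 D119577
theorem F357750 : act 1 n146350 = n175210 := d15_1 (iv0 F333263) F354910 F247827
theorem F357751 : act 1 n175210 = n133316 := d15_1 F357750 F214290 (iv2 F327715)
theorem F357752 : act 2 n113991 = n175681 := d4_1 F354897 (iv7 F275058) (iv2 F274872)
theorem F357753 : act 5 n113991 = n175536 := d13_1 F354897 (iv7 D175536) D175535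
theorem F357754 : act 5 n175678 = n113969 := d6_0 F354893 F275061 (iv3 F275056)
theorem F357755 : act 2 n102530 = n175280 := d2_3 F354875 (iv2 D102529) D102530
theorem E102198 : n175281 = n89524 := (c15_2 (iv0 D175280) D175281 (iv7 F157478) F357755)
theorem F357756 : act 0 n89524 = n83698 := (sb E102198 (iv1 D175281))
theorem F357757 : act 4 n175674 = n102523 := d20_8 D88852 (iv1 F137235) (iv4 D89525) D89524 F357756 D175282 F274290 D175674 F157458 F74760
theorem F357758 : act 3 n175272 = n186545 := d20_3 (iv4 D83698) D83696 D175272 (iv1 D186545) F136227 D88852 (iv1 F137235) (iv4 D89525) D89524 F357756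
theorem E102199 : n175271 = n147488 := ((c5_5 D175272 F357758 (iv4 F346001) F242939 (iv4 F231270) (iv3 D175271))).symm
theorem F357759 : act 3 n147488 = n83696 := (sb E102199 (iv3 D175271))
theorem E102200 : n175274 = n147486 := (c7_3 D147488 F357759 D175274 (iv3 D147486))
theorem F357760 : act 6 n147486 = n83696 := (sb E102200 (iv6 D175274))
theorem F357761 : act 0 n147847 = n172415 := d20_10 (iv4 F273884) (iv1 D83868) (iv4 D38625) (iv3 F59404) D83696 (iv3 F357759) F231270 F231171 (iv4 F105539) (iv3 F231621)
theorem F357762 : act 5 n98152 = n147847 := d17_1 (iv1 F151383) F357761 (iv5 F270640) (iv4 F271106) F137026 F128837 (iv5 D47344) F59432 (iv4 F272774)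
theorem F357763 : act 7 n147847 = n98151 := d15_2 D172415 (iv0 F357761) F151376
theorem F357764 : act 2 n172417 = n147847 := d4_3 F357763 F151376 D172417
theorem F357765 : act 6 n147845 = n172417 := d3_0 F357764 (iv6 D147847) D147845
theorem F357766 : act 1 n147847 = n172414 := d15_0 (iv0 D172414) D172417 F357764
theorem F357767 : act 4 n164373 = n147845 := d10_3 F357765 (iv4 F274967) (iv6 F347629)
theorem F357768 : act 6 n147846 = n172403 := d12_4 (iv6 F151380) F357762 (iv6 D147847) D147846 F270636
theorem E102201 : n166237 = n147846 := (c14_1 D166237 F357768 (iv7 D172403) F127188 (iv7 F301373) D79815)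
theorem F357769 : act 7 n147846 = n79815 := (sb E102201 (iv7 D166237))
theorem F357770 : act 1 n113971 = n175674 := d17_8 (iv1 F289292) (iv5 D88823) (iv1 F136197) (iv5 F309264) (iv4 D114920) (iv5 F336815) (iv0 D113967) D113971 F357757
theorem F357771 : act 3 n186490 = n146348 := d20_3 F357757 (iv1 F289292) D186490 (iv1 F334433) F339593 (iv4 D83864) (iv1 D38624) D38625 D83869 D175674
theorem F357772 : act 3 n175675 = n115159 := d20_9 (iv4 F166379) F336476 F239688 F318934 (iv1 F339600) (iv3 F357771) (iv4 D186490) D186489 (iv4 F336807) (iv1 D115159)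
theorem E102202 : n175270 = n175137 := (c15_4 (iv0 D175137) D175138 F354874 D175270)
theorem F357773 : act 2 n175137 = n83696 := (sb E102202 (iv2 D175270))
theorem F357774 : act 7 n175137 = n83697 := (sb E102202 (iv7 F274287))
theorem F357775 : act 6 n112554 = n166743 := d7_2 D166745 F354805 (iv3 D166743)
theorem F357776 : act 0 n166743 = n112608 := d21_4 (iv5 F222862) (iv1 F222865) F181947 F357775 F175206 F327247 (iv1 F280695) (iv5 F254070) (iv6 F334011) (iv1 F166913)
theorem F357777 : act 3 n172016 = n147643 := d0_2 F354796 (iv2 F270071) (iv2 F334255) F210791 (iv2 F210690)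
theorem E102203 : n163691 = n163123 := (c21_10 D163126 F354779 (iv5 F354776) F354787 F354789 (iv6 F345752) F194347 F258214 (iv5 D163690) D163691 (iv1 D163123))
theorem F357778 : act 2 n163123 = n159323 := (sb E102203 F258037)
theorem F357779 : act 3 n163123 = n180622 := (sb E102203 (iv3 F281154))
theorem F357780 : act 6 n163123 = n78648 := (sb E102203 (iv6 D163691))
theorem E102204 : n163601 = n163018 := ((c20_2 (iv4 F119595) D163018 (iv4 F281155) (iv3 F357779) (iv1 D163123) (iv3 D78424) D78425 (iv1 F327217) (iv4 F161144) (iv3 F328213) (iv1 D78397))).symm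
theorem F357781 : act 2 n163018 = n166601 := (sb E102204 (iv2 F262197))
theorem F357782 : act 4 n163018 = n180622 := (sb E102204 (iv4 F281155))
theorem F357783 : act 6 n163018 = n78606 := (sb E102204 (iv6 D163601))
theorem F357784 : act 7 n177558 = n163018 := d15_2 F338778 F277004 F357781
theorem F357785 : act 7 n163019 = n166601 := d15_2 (iv0 D163018) D163019 (iv2 F357781)
theorem F357786 : act 2 n177558 = n163019 := d4_3 F357785 (iv2 F357781) (iv7 F357784)
theorem F357787 : act 6 n110396 = n167782 := d3_0 F354773 (iv6 D110398) D110396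
theorem E102205 : n121761 = n98945 := ((c20_5 (iv4 F347509) F347506 D129055 F207292 (iv1 F354765) F194327 (iv4 F327238) F176360 F319911 (iv3 F337588) (iv1 F257796))).symm
theorem F357788 : act 3 n98945 = n56264 := (sb E102205 F194327)
theorem F357789 : act 6 n98945 = n56261 := (sb E102205 (iv6 D121761))
theorem F357790 : act 7 n112597 = n164977 := d14_4 (iv7 F272699) F357789 (iv7 F325694) (iv6 F175189) F334338
theorem F357791 : act 1 n135173 = n98967 := d15_0 F354756 F206959 D135173
theorem F357792 : act 1 n98950 = n135173 := d15_0 F357791 F354662 (iv2 F354661)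
theorem F357793 : act 6 n88949 = n173447 := d3_2 D173496 F354646 F279300
theorem F357794 : act 7 n173515 = n98963 := d14_4 (iv7 F272712) F357793 F279301 D173515 (iv6 D98963)
theorem F357795 : act 3 n98972 = n173515 := d8_3 F357794 F152500 D98972
theorem E102206 : n173518 = n82616 := (c20_8 F301608 (iv1 D80353) (iv4 F301701) (iv3 F197556) F355385 F357795 F271968 D173518 (iv4 F304301) (iv3 D85914) (iv1 F301607))
theorem E102207 : n172575 = n83013 := ((D172575).symm.trans (sb E102206 (iv0 D173518)))
theorem F357796 : act 0 n83013 = n82616 := (sb E102207 (iv1 D172575))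
theorem E102208 : n173519 = n173402 := ((D173519).symm.trans (sb E102207 (iv0 F333744)))
theorem F357797 : act 0 n173402 = n83013 := (sb E102208 (iv1 D173519))
theorem F357798 : act 7 n172574 = n173454 := d15_2 (iv0 F357797) F333745 F279314
theorem F357799 : act 2 n173521 = n172574 := d4_3 F357798 F279314 D173521
theorem F357800 : act 6 n173506 = n172574 := d14_5 F357798 (iv6 D173454) F279307 D83008 D173506
theorem F357801 : act 0 n98247 = n172552 := d21_1 (iv5 F151594) (iv5 D172552) (iv6 F312612) (iv1 D87976) D87978 (iv5 F338579) (iv1 F271960) (iv5 D83012) D83013 F357796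
theorem F357802 : act 5 n101147 = n151500 := d6_0 F354643 F136837 D101147
theorem F357803 : act 2 n151987 = n101147 := d2_3 F357802 F238352 D151987
theorem F357804 : act 4 n139102 = n101147 := d9_15 F357802 F238353 (iv5 F112319) F309909 D85666 (iv4 F329272) F329273 F352848 (iv5 D123750) F314459 F312137 (iv4 D85660) (iv5 F309913) D156379 F245803
theorem F357805 : act 3 n99889 = n151987 := d0_0 F357803 (iv3 D101147) (iv2 F156421) F306667 F304656
theorem F357806 : act 2 n135273 = n124767 := d1_1 F354629 F200428 D124779
theorem F357807 : act 0 n123579 = n135273 := d20_1 (iv4 F197997) (iv4 F354629) F200449 F304450 (iv3 D85895) F299016 (iv1 F90911) (iv4 D27572) D27571 F311808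
theorem F357808 : act 0 n124779 = n130149 := d20_7 (iv4 D175332) (iv1 F319365) F188203 (iv3 F206300) F314806 (iv3 F217486) (iv4 F354629) (iv4 D130149) D130148 F315283
theorem F357809 : act 1 n124745 = n130149 := d15_0 (iv0 F357808) F354630 F354631
theorem E102209 : n153943 = n124745 := (c15_1 D153943 F357809 (iv7 F312102) F199447)
theorem F357810 : act 0 n124745 = n72856 := (sb E102209 (iv1 D153943))
theorem E102210 : n173726 = n135318 := ((c20_2 F319773 D135318 (iv4 F272290) (iv3 F337625) (iv1 F357809) (iv3 D124745) (iv4 D58317) (iv1 D27774) (iv4 F44444) (iv3 F90367) D123095)).symm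
theorem F357811 : act 3 n135318 = n83080 := (sb E102210 (iv3 D173726))
theorem F357812 : act 4 n135318 = n173494 := (sb E102210 (iv4 F272290))
theorem F357813 : act 5 n135318 = n164213 := (sb E102210 F344168)
theorem F357814 : act 7 n135318 = n83164 := (sb E102210 F315790)
theorem F357815 : act 2 n131232 = n135318 := d4_3 F357814 (iv2 F192711) F305919
theorem F357816 : act 1 n131232 = n123107 := d15_0 F315794 (iv7 F357814) (iv2 F357815)
theorem F357817 : act 5 n152436 = n131232 := d2_0 F357815 F357813 (iv2 F283769)
theorem E102211 : n135319 = n120813 := (c15_2 (iv0 D135318) D135319 F305919 F357815)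
theorem F357818 : act 0 n120813 = n63614 := (sb E102211 (iv1 D135319))
theorem F357819 : act 3 n131233 = n152436 := d6_3 F357817 (iv3 D131232) D131233
theorem F357820 : act 0 n131232 = n123112 := d18_0 (iv4 D123112) (iv1 D57290) F44351 D38205 (iv4 F327299) (iv0 D71910) (iv4 F108418) D152436 F357817
theorem E102212 : n135278 = n123107 := (c21_10 (iv5 F357817) (iv1 D152436) D152437 (iv6 F330229) (iv1 D135388) (iv6 D63645) (iv5 D30040) F207210 D63597 D135278 (iv1 F357816))
theorem F357821 : act 2 n123107 = n63614 := (sb E102212 F217495)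
theorem F357822 : act 6 n123107 = n63597 := (sb E102212 (iv6 D135278))
theorem E102213 : n123109 = n122335 := ((c10_2 F357822 (iv4 F319770) (iv6 D123109) D123107)).symm
theorem F357823 : act 6 n122335 = n57289 := (sb E102213 (iv6 D123109))
theorem E102214 : n184491 = n123108 := ((c21_7 F62312 (iv1 F64299) F64297 D56652 D122335 F357823 D123108 (iv1 D184491) (iv5 D87981) (iv6 D41076) D41073)).symm
theorem F357824 : act 0 n123108 = n87981 := (sb E102214 (iv1 D184491))
theorem F357825 : act 1 n123108 = n159129 := (sb E102214 F286432)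
theorem F357826 : act 0 n179685 = n135394 := d21_1 D179685 (iv5 D135394) (iv6 F316142) (iv1 F195779) F195776 D159129 (iv1 F357825) (iv5 D123108) (iv6 F357823) (iv1 F195634)
theorem F357827 : act 1 n179685 = n135404 := d15_1 (iv0 F357826) (iv7 F239248) F239247
theorem F357828 : act 1 n122337 = n135394 := d15_0 (iv0 F357826) F279898 (iv2 F195636)
theorem F357829 : act 1 n135404 = n122337 := d15_0 F357828 (iv7 F239221) F239220
theorem E102215 : n135321 = n123112 := ((c15_2 F315794 (iv0 F315795) (iv7 D135321) (iv2 F357821))).symm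
theorem F357830 : act 7 n123112 = n63614 := (sb E102215 (iv7 D135321))
theorem F357831 : act 4 n124774 = n119403 := d20_8 F46585 D29154 D61572 D131232 F357820 F197306 (iv4 F305631) F230726 F304926 (iv1 D61075)
theorem E102216 : n149196 = n123111 := (c20_8 F357831 F315333 (iv4 F314469) (iv3 F206458) F274098 F106421 (iv4 F106422) D149196 F243515 (iv3 F305630) F230726)
theorem F357832 : act 0 n123111 = n125200 := (sb E102216 (iv1 F234565))
theorem F357833 : act 1 n123111 = n70026 := (sb E102216 (iv0 D149196))
theorem F357834 : act 2 n123111 = n179980 := (sb E102216 (iv2 F280315))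
theorem F357835 : act 5 n123111 = n150115 := (sb E102216 (iv5 F236274))
theorem F357836 : act 7 n123111 = n179981 := (sb E102216 (iv7 F280320))
theorem F357837 : act 7 n150029 = n154817 := d11_2 F357836 (iv4 F280321) (iv4 F243515)
theorem F357838 : act 5 n154817 = n144934 := d13_1 F357837 F233066 (iv5 F236031)
theorem F357839 : act 0 n133733 = n154817 := d17_0 F357838 (iv1 F252141) F252138 F114776 (iv5 F236300) F355291 (iv5 D124144) (iv0 F305155) F311082
theorem F357840 : act 6 n114753 = n144934 := d21_5 (iv5 D45117) D45115 F71076 D52958 D114753 (iv5 F357838) (iv1 D154817) (iv5 F307284) (iv6 D148678) F106036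
theorem F357841 : act 3 n146719 = n114753 := d7_3 F357840 F233064 (iv6 F243028)
theorem F357842 : act 5 n153569 = n114753 := d21_8 F252138 F232452 (iv5 F310421) F310422 F232252 (iv6 F232260) (iv5 F334983) (iv1 F334987) F357840 (iv1 F252141)
theorem E102217 : n153569 = n147901 := ((c6_4 F357842 (iv3 F357841) F243027 D147901)).symm
theorem F357843 : act 0 n147901 = n72614 := (sb E102217 (iv1 D153569))
theorem F357844 : act 1 n147901 = n139078 := (sb E102217 F334987)
theorem F357845 : act 5 n147901 = n114753 := (sb E102217 F357842)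
theorem F357846 : act 0 n114792 = n145010 := d17_2 D52970 D114792 (iv5 D145010) (iv4 F104573) (iv5 F109141) (iv0 F357843) F357845 (iv0 D114753) F83690
theorem F357847 : act 6 n147901 = n143064 := d21_3 (iv5 D114755) D114753 (iv5 F357845) (iv1 D143064) (iv6 D67045) (iv5 F103028) (iv1 F182591) (iv5 D68232) D68233 (iv1 F334441)
theorem F357848 : act 3 n143064 = n147903 := d7_1 F357847 (iv6 D147903) D147901
theorem E102218 : n143064 = n142900 := ((c0_6 F357848 (iv2 F322141) F322346 (iv2 F322365) D66967 D142900)).symm
theorem F357849 : act 0 n142900 = n67045 := (sb E102218 (iv1 D143064))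
theorem F357850 : act 3 n142900 = n147903 := (sb E102218 F357848)
theorem F357851 : act 6 n142900 = n147901 := (sb E102218 (iv6 F357847))
theorem F357852 : act 2 n147901 = n142903 := d3_1 F357851 (iv6 D142903) D142900
theorem F357853 : act 7 n153550 = n142900 := d8_0 F357850 (iv7 F322139) F322137
theorem F357854 : act 1 n142900 = n153523 := d15_1 (iv0 F357849) F241289 F322288
theorem F357855 : act 0 n145115 = n156662 := d20_1 (iv4 F228090) (iv4 D156662) (iv3 D74493) (iv1 D34161) (iv3 F53648) (iv4 F111765) (iv1 F316989) (iv4 D147902) D147901 F357843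
theorem F357856 : act 3 n150115 = n123113 := d6_1 F357835 (iv5 D123113) D123111
theorem F357857 : act 7 n123113 = n171099 := d8_2 F280317 F357856 (iv3 F280328)
theorem F357858 : act 2 n123113 = n171098 := d15_3 (iv0 D171098) D171099 (iv7 F357857)
theorem F357859 : act 5 n171098 = n123096 := d2_2 D123113 F357858 F281970
theorem F357860 : act 7 n123108 = n171098 := d13_0 F357859 F281971 D123108
theorem F357861 : act 2 n171099 = n123108 := d4_3 F357860 (iv2 F357858) F357857
theorem E102219 : n184490 = n123113 := ((c15_4 (iv0 D184490) (iv0 F357824) F357860 (iv2 F357858))).symm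
theorem F357862 : act 0 n123113 = n159129 := (sb E102219 (iv1 F286438))
theorem F357863 : act 1 n123113 = n87981 := (sb E102219 (iv0 D184490))
theorem E102220 : n179879 = n123114 := ((c21_10 D179881 F286393 (iv5 D184476) (iv6 D87975) (iv1 D41074) D41076 D87981 (iv1 F357863) (iv5 D123113) D123114 (iv1 D179879))).symm
theorem F357864 : act 0 n123114 = n85914 := (sb E102220 (iv1 D179879))
theorem F357865 : act 0 n123104 = n184509 := d21_4 (iv5 D123113) (iv1 D57290) D57291 (iv6 F197302) (iv6 D184509) (iv5 D87991) (iv1 D41078) D41079 (iv6 F134989) (iv1 F357863)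
theorem F357866 : act 4 n125358 = n123114 := d20_0 F357864 F304301 (iv3 D82616) (iv1 F118932) F310678 F47306 D29663 (iv4 F314135) (iv3 F92743) D125358
theorem F357867 : act 3 n167794 = n125358 := d20_5 F298297 (iv1 D36732) D36733 D80519 D167794 F357866 F357864 F304301 (iv3 D82616) (iv1 F118932)
theorem F357868 : act 0 n125358 = n135367 := d17_0 F341219 (iv1 F201460) D125355 F330649 D184476 (iv0 F286393) (iv5 D179881) (iv0 F357864) (iv4 F357866)
theorem F357869 : act 7 n125358 = n135322 := d15_2 D135367 (iv0 F357868) F217557
theorem F357870 : act 2 n135369 = n125358 := d4_3 F357869 F217557 D135369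
theorem F357871 : act 6 n123112 = n125358 := d14_5 F357869 (iv6 D135322) (iv7 D63615) D63614 (iv7 F357830)
theorem F357872 : act 0 n124767 = n129709 := d20_1 (iv4 F200428) F315811 F303633 (iv1 F357833) (iv3 D123111) D123112 F315795 (iv4 F272554) F272553 F317262
theorem F357873 : act 5 n128990 = n124767 := d17_1 (iv1 F207233) F357872 F207896 F97462 (iv5 F97465) D130917 (iv5 F209525) F97167 (iv4 F98965)
theorem F357874 : act 1 n124767 = n128182 := d17_8 F315059 D123136 F302088 (iv5 D150108) F315097 F207525 (iv0 F207206) F357873 F206324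
theorem F357875 : act 6 n174376 = n124767 := d21_5 (iv5 F109565) (iv1 F127497) F127494 D83352 D174376 (iv5 F357873) F207206 (iv5 F207525) F314333 (iv1 F107104)
theorem E102221 : n173806 = n135340 := (c21_6 F342670 (iv1 D83106) D83107 F128114 D83112 D173806 (iv5 D135340) (iv1 F207233) F357873 (iv6 F357875) (iv1 F273221))
theorem F357876 : act 6 n135340 = n83112 := (sb E102221 (iv6 D173806))
theorem F357877 : act 0 n172060 = n136710 := d21_7 (iv5 D63624) D63621 D135340 F357876 (iv1 F128127) D162718 F302454 F354154 (iv6 F315812) F217593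
theorem F357878 : act 0 n173804 = n135349 := d21_4 (iv5 D78192) (iv1 F117743) D83110 D173804 (iv6 D135349) (iv5 D63624) D63621 D135340 F357876 (iv1 F128127)
theorem F357879 : act 1 n101731 = n135349 := d15_0 (iv0 F357878) (iv7 F355386) F355378
theorem E102222 : n179878 = n135365 := (c20_8 F156620 D101738 F355381 F127985 (iv1 F118946) D82616 (iv4 F304301) D179878 F217608 (iv3 F217601) (iv1 F357879))
theorem F357880 : act 1 n135365 = n85914 := (sb E102222 (iv0 D179878))
theorem F357881 : act 1 n172060 = n174427 := d15_1 (iv0 F357877) F354156 F220273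
theorem F357882 : act 1 n176594 = n136710 := d15_0 (iv0 F357877) (iv7 F354140) (iv2 F354141)
theorem F357883 : act 1 n174427 = n176594 := d15_0 F357882 (iv7 F354151) F354157
theorem F357884 : act 6 n154537 = n101735 := d21_3 (iv5 D174427) (iv1 F309615) D154537 (iv1 F354484) F352330 (iv5 F344841) F323226 (iv5 F324293) F354218 (iv1 F357883)
theorem F357885 : act 3 n101735 = n154541 := d7_1 F357884 (iv6 D154541) (iv3 F242574)
theorem F357886 : act 4 n101736 = n154537 := d10_3 F357884 (iv4 D101735) D101736
theorem F357887 : act 0 n137299 = n101735 := d21_4 D64255 F143111 (iv5 F100470) D137299 (iv6 F357884) (iv5 D154537) F309614 (iv5 F354154) (iv6 D136710) (iv1 D64253)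
theorem F357888 : act 2 n138241 = n101735 := d15_3 (iv0 F357887) F354781 (iv7 F221422)
theorem E102223 : n128232 = n127059 := (c0_4 D138241 F357888 F357885 F242583 (iv3 D127059) (iv2 F100716))
theorem F357889 : act 2 n127059 = n154541 := (sb E102223 (iv2 F242583))
theorem F357890 : act 6 n127059 = n60281 := (sb E102223 (iv6 D128232))
theorem F357891 : act 5 n101735 = n167779 := d2_2 (iv5 F349883) F357888 (iv2 F354783)
theorem F357892 : act 0 n107165 = n177333 := d18_2 (iv1 F354785) F170764 F276715 F333804 (iv4 F346593) (iv0 F351926) F352332 F354484 F357891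
theorem F357893 : act 5 n177451 = n107165 := d17_1 (iv1 F342131) F357892 (iv5 F346595) (iv4 D174817) (iv5 D83513) (iv0 D38499) D38501 D83521 D174843
theorem F357894 : act 3 n181133 = n107162 := d20_5 F276715 (iv1 F333805) (iv4 F268191) F355916 F299711 (iv4 D107162) (iv1 D49510) D49511 D107165 F357892
theorem F357895 : act 2 n145444 = n177560 := d0_3 F357894 F165146 D145444 F277007 (iv2 F282128)
theorem F357896 : act 6 n162954 = n181133 := d7_0 F357894 F202033 F348408
theorem E102224 : n157789 = n145442 := ((c8_4 F297450 F357894 F165147 D145442)).symm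
theorem F357897 : act 0 n145442 = n162905 := (sb E102224 F297449)
theorem F357898 : act 1 n145442 = n160491 := (sb E102224 (iv0 F253521))
theorem F357899 : act 2 n145442 = n78392 := (sb E102224 (iv2 F297534))
theorem F357900 : act 4 n145442 = n83599 := (sb E102224 F341675)
theorem F357901 : act 5 n145442 = n75180 := (sb E102224 (iv5 D157789))
theorem F357902 : act 7 n145442 = n181133 := (sb E102224 F297450)
theorem F357903 : act 0 n126048 = n162916 := d21_7 D160491 (iv1 F357898) F357901 (iv6 D75180) (iv1 F70732) F324551 (iv5 F202754) (iv5 D162916) (iv6 D78315) F299826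
theorem F357904 : act 1 n126023 = n162916 := d15_0 (iv0 F357903) (iv7 D126048) (iv2 F202718)
theorem F357905 : act 3 n107166 = n177451 := d6_3 F357893 (iv3 D107165) D107166
theorem F357906 : act 6 n113218 = n177438 := d21_5 (iv5 F350006) (iv1 F161559) (iv5 D52394) (iv6 F82637) (iv1 F176408) F342128 (iv1 F342131) F357893 F165159 D107168
theorem F357907 : act 3 n154540 = n101778 := d5_3 F357886 F242574 D154540 F156643 (iv3 F156622)
theorem F357908 : act 6 n101776 = n154540 := d7_0 F357907 (iv6 D101778) D101776
theorem F357909 : act 4 n154541 = n101776 := d10_3 F357908 (iv4 D154540) D154541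
theorem F357910 : act 0 n163047 = n101776 := d20_7 (iv4 F352332) F351926 F346593 F333802 (iv1 F119591) (iv3 F119597) D163047 (iv4 F357909) (iv3 F357885) (iv1 F354484)
theorem F357911 : act 4 n136917 = n172060 := d18_7 (iv1 F309615) F109706 D73265 F303663 (iv5 F337532) F220100 D136917 F357881 (iv5 D174427)
theorem F357912 : act 2 n176590 = n136917 := d1_3 F357911 F270156 (iv4 F275953)
theorem E102225 : n136917 = n99800 := ((c10_1 D99800 F357911 (iv6 D172060) F328305)).symm
theorem F357913 : act 0 n99800 = n64360 := (sb E102225 (iv1 D136917))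
theorem F357914 : act 2 n99800 = n176590 := (sb E102225 (iv2 F357912))
theorem F357915 : act 4 n99800 = n172060 := (sb E102225 F357911)
theorem F357916 : act 3 n176590 = n102201 := d0_2 (iv3 F153637) F357914 F157076 F74639 (iv2 F73616)
theorem F357917 : act 7 n135879 = n176590 := d8_0 F357916 F328968 (iv3 F218553)
theorem F357918 : act 4 n176594 = n135879 := d11_3 F357917 F275953 D176594
theorem F357919 : act 3 n108501 = n176594 := d5_5 F357918 F218553 F99368 (iv3 F79300) (iv4 F167729)
theorem E102226 : n136916 = n135879 := (c20_2 F220100 D136916 (iv4 F357918) (iv3 F357919) F167731 (iv3 F221754) (iv4 D138585) (iv1 F316231) (iv4 F320868) F344765 (iv1 F353792))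
theorem F357920 : act 1 n135879 = n64360 := (sb E102226 (iv0 D136916))
theorem F357921 : act 7 n128182 = n123958 := d15_2 (iv0 F357872) F357874 (iv2 F315810)
theorem F357922 : act 5 n123958 = n130931 := d13_1 F357921 F209543 F319566
theorem F357923 : act 6 n130931 = n105307 := d12_2 (iv6 F303630) F357922 (iv5 F161476) D137104 F354152
theorem F357924 : act 4 n135006 = n123959 := d16_2 D133195 (iv5 F217230) (iv5 D123959) D123958 F357922 (iv4 D130931) (iv5 F209528) F324652 F323241
theorem F357925 : act 0 n130437 = n123959 := d17_2 F315096 D130437 (iv5 D123959) D123958 F357922 (iv0 F214128) F211051 F217575 (iv4 F315097)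
theorem F357926 : act 1 n99477 = n132793 := d17_6 F357807 (iv5 D135273) (iv1 F207871) (iv5 F313638) F153244 D99477 (iv5 D132793) (iv0 F314250) (iv4 F197997)
theorem E102227 : n119181 = n100503 := ((c20_10 (iv4 F187375) (iv1 F215104) (iv4 D133675) (iv3 F213281) (iv1 F357926) F153245 (iv4 F332982) (iv1 F332983) (iv4 D100504) D100503 (iv1 F187530))).symm
theorem F357927 : act 0 n100503 = n74932 := (sb E102227 (iv1 F187530))
theorem F357928 : act 1 n100503 = n54844 := (sb E102227 (iv0 D119181))
theorem F357929 : act 2 n100503 = n157401 := (sb E102227 (iv2 F247883))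
theorem F357930 : act 5 n100503 = n107877 := (sb E102227 F187529)
theorem F357931 : act 7 n100503 = n131401 := (sb E102227 (iv7 F210620))
theorem F357932 : act 3 n131401 = n98955 := d8_1 F357931 F272725 D100503
theorem F357933 : act 5 n139613 = n101150 := d19_1 D139613 F195698 (iv3 F357932) (iv1 F307757) (iv5 D104167) F305754 F38063 F18690 F12034 F5518 (iv3 F3572) (iv1 F3575) (iv5 F3541) F4907 (iv3 F4857) D6954 D14554 D30711 D65526
theorem F357934 : act 0 n104187 = n109214 := d20_7 F332980 (iv1 F333008) F195698 (iv3 F357932) (iv1 F307757) F159692 D104187 F332979 F156459 (iv1 F153266)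
theorem F357935 : act 0 n100496 = n139616 := d17_0 (iv5 D139616) D139613 F357933 F195698 (iv5 D98955) F310425 (iv5 F310431) F154543 D100496
theorem F357936 : act 6 n140442 = n139613 := d21_5 F228366 (iv1 D140439) (iv5 D65920) D65921 D140442 F357933 (iv1 D101150) (iv5 F332989) F79281 (iv1 F181251)
theorem F357937 : act 4 n139616 = n154173 := d18_3 (iv1 F154547) D100496 F357935 (iv5 D154173) (iv4 F333011) (iv0 F337623) (iv4 F310426) (iv0 D124065) (iv5 F312631)
theorem F357938 : act 5 n101149 = n139614 := d17_1 D101149 (iv1 D139614) D139616 F357937 (iv5 D154173) (iv0 F311761) (iv5 D101144) (iv0 D47112) D47114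
theorem F357939 : act 1 n108473 = n139616 := d17_8 (iv1 F332206) (iv5 D99495) (iv1 F73496) (iv5 F74352) (iv4 F155850) F337621 (iv0 D108469) D108473 F357937
theorem F357940 : act 5 n138445 = n100504 := d19_17 F357927 (iv5 D74932) (iv4 D34338) (iv3 D16627) (iv1 D7730) (iv5 D3509) (iv4 D1548) (iv3 F1997) D2206 F4438 (iv4 F4945) (iv3 F11218) (iv1 F24180) F24201 D30547 D65032 D138445 (iv4 D100504) D100503
theorem F357941 : act 2 n139614 = n138445 := d2_3 F357940 F272732 F357938
theorem F357942 : act 7 n139613 = n138445 := d13_0 F357940 F272726 (iv5 F357933)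
theorem F357943 : act 2 n139613 = n138446 := d15_3 F222771 F222769 (iv7 F357942)
theorem F357944 : act 5 n138446 = n100509 := d2_2 (iv5 F357933) F357943 (iv2 F272731)
theorem F357945 : act 7 n138446 = n139614 := d4_2 (iv7 F357942) F357943 F357941
theorem F357946 : act 4 n101124 = n138448 := d17_4 (iv1 F153258) (iv5 F153259) F156367 (iv5 F155785) (iv5 D138448) D138446 F357944 F205701 F155850
theorem F357947 : act 3 n123959 = n101124 := d5_5 F357946 F221645 F100831 D135006 F357924
theorem F357948 : act 7 n154173 = n101124 := d11_0 F357946 (iv7 F222773) F357937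
theorem E102228 : n157938 = n138762 := ((c20_4 (iv4 F95199) (iv1 F97501) (iv4 F100932) D138762 (iv1 D157938) (iv3 F345255) (iv4 D101126) D101124 F357946 F221645 F100832)).symm
theorem F357949 : act 0 n138762 = n75236 := (sb E102228 (iv1 D157938))
theorem F357950 : act 2 n138453 = n157937 := d15_3 (iv0 D157937) (iv0 F357949) F221900
theorem F357951 : act 5 n157937 = n138452 := d2_2 D138453 F357950 (iv2 D138452)
theorem F357952 : act 6 n157937 = n116103 := d21_3 (iv5 F350387) (iv1 F245624) (iv5 F357951) (iv1 D116103) (iv6 D53510) (iv5 D25921) D25918 (iv5 F84239) F345286 (iv1 F351242)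
theorem F357953 : act 2 n101125 = n154173 := d4_3 F357948 F274808 (iv7 F274809)
theorem F357954 : act 6 n154173 = n100648 := d3_2 (iv6 F274859) F357953 (iv2 F289425)
theorem F357955 : act 1 n154173 = n99500 := d15_0 (iv0 F156914) (iv7 F274809) F357953
theorem E102229 : n108473 = n100480 := ((c18_6 (iv1 D46513) (iv4 F58973) F205697 (iv4 D46882) D46883 D100480 F357939 F357937 F357955 (iv5 D99500))).symm
theorem F357956 : act 1 n100480 = n139616 := (sb E102229 F357939)
theorem F357957 : act 5 n100480 = n50085 := (sb E102229 (iv5 D108473))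
theorem F357958 : act 7 n97111 = n137273 := d15_2 (iv0 D97110) D97111 (iv2 F354599)
theorem F357959 : act 2 n164446 = n97111 := d4_3 F357958 (iv2 F354599) F348885
theorem F357960 : act 5 n164445 = n113645 := d2_2 D113646 F354598 (iv2 D113645)
theorem F357961 : act 5 n137276 = n95854 := d21_8 F51820 (iv1 D21667) (iv5 F28369) (iv6 F56625) D78976 D164445 F357960 (iv1 F220421) (iv6 D95854) (iv1 F70347)
theorem F357962 : act 5 n95858 = n137275 := d21_6 F177929 (iv1 F259092) F259093 (iv6 F347757) (iv1 D127594) F318866 (iv1 F220417) (iv5 F357960) (iv6 D164445) (iv1 F177937)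
theorem F357963 : act 3 n137275 = n95872 := d6_1 F357962 F147544 (iv3 F147539)
theorem F357964 : act 7 n137275 = n95857 := d13_2 D95858 F357962 (iv5 D95857)
theorem F357965 : act 0 n113455 = n95858 := d17_0 F357962 (iv1 F220417) (iv5 F357960) F259086 F193561 F250856 (iv5 F316761) F316759 F347795
theorem E102230 : n145062 = n139414 := (c19_6 D137275 (iv5 F357962) F178171 (iv3 F178170) F317127 D145062 (iv4 D139414) F101151 (iv1 F80645) (iv5 D51125) (iv4 D24883) D24882 (iv1 F40758) (iv5 D24239) F18641 (iv3 F18638) F19388 D23730 (iv4 F48808) D64519)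
theorem F357966 : act 5 n139414 = n67997 := (sb E102230 (iv5 D145062))
theorem F357967 : act 2 n119207 = n139414 := d2_3 F357966 F318691 D119207
theorem F357968 : act 3 n114274 = n139414 := d6_3 F357966 (iv3 F320841) D114274
theorem F357969 : act 7 n119204 = n139414 := d13_0 F357966 F318692 D119204
theorem F357970 : act 4 n139410 = n119207 := d1_0 F357967 (iv4 D139414) (iv2 F222624)
theorem F357971 : act 7 n145078 = n119207 := d16_8 (iv4 D139414) (iv5 D65434) (iv4 F101143) D139397 F347169 (iv5 D68003) D68002 D145078 F357967
theorem F357972 : act 2 n145078 = n119204 := d4_3 F357969 (iv2 F357967) (iv7 F357971)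
theorem F357973 : act 7 n95854 = n137292 := d15_2 (iv0 F357965) (iv0 F347818) (iv2 F317126)
theorem E102231 : n137296 = n97186 := (c8_3 F357973 F220435 D137296 F149935)
theorem F357974 : act 7 n97186 = n64527 := (sb E102231 (iv7 D137296))
theorem F357975 : act 4 n137292 = n106134 := d11_1 F357973 (iv7 D106134) (iv4 F147536)
theorem F357976 : act 0 n95855 = n137292 := d20_1 (iv4 F259549) F357975 (iv3 F352151) (iv1 F352153) (iv3 D117734) (iv4 F85582) F84944 D59906 (iv3 F314414) D164617
theorem E102232 : n137295 = n97190 := ((c20_4 F147991 F193554 F347755 (iv3 F347761) (iv1 D137295) (iv3 F220435) F357975 (iv1 F178289) D127780 F205527 F353143)).symm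
theorem F357977 : act 0 n97190 = n64527 := (sb E102232 (iv1 D137295))
theorem F357978 : act 5 n137292 = n113644 := d17_1 F357976 (iv1 D113644) D113646 F354601 F250850 F250848 (iv5 F235981) (iv0 F259548) (iv4 F259549)
theorem F357979 : act 2 n113644 = n137275 := d2_1 F357978 (iv5 F357962) F317126
theorem F357980 : act 3 n113644 = n137267 := d6_1 F357978 F220408 (iv3 F220435)
theorem F357981 : act 6 n113644 = n137263 := d12_2 D137292 F357978 (iv5 D137263) F100440 D64525
theorem F357982 : act 7 n113644 = n137276 := d13_2 F357973 F357978 F357961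
theorem E102233 : n127402 = n113657 := ((c17_2 (iv1 F161407) D113657 (iv1 D127402) F94258 (iv4 F110921) (iv5 F354588) F354586 F357978 F220422 F220418)).symm
theorem F357983 : act 0 n113657 = n59838 := (sb E102233 (iv1 D127402))
theorem F357984 : act 1 n113657 = n113451 := (sb E102233 F204751)
theorem F357985 : act 2 n137276 = n95857 := d4_1 F357982 (iv7 F357964) (iv2 F357979)
theorem F357986 : act 6 n103111 = n137276 := d3_0 F357985 F147538 (iv2 F158396)
theorem E102234 : n137294 = n97191 := ((c15_1 D97191 (iv0 D137294) (iv7 F357974) F149934)).symm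
theorem F357987 : act 1 n97191 = n64527 := (sb E102234 (iv0 D137294))
theorem F357988 : act 4 n95872 = n111961 := d20_6 (iv4 F39830) (iv1 F48793) (iv4 F48808) D64519 D137275 F357963 (iv1 D111961) F81513 (iv3 D50527) (iv1 F39311)
theorem F357989 : act 5 n113458 = n105285 := d17_7 (iv1 F220421) F357961 F347818 (iv5 D113455) (iv4 D52373) D52374 D113458 F161406 (iv4 F176824)
theorem F357990 : act 2 n113654 = n113458 := d2_3 F357989 F173638 D113654
theorem F357991 : act 7 n113657 = n113458 := d13_0 F357989 (iv7 F173637) D113657
theorem F357992 : act 5 n125680 = n113446 := d21_8 (iv5 F204748) (iv1 F204752) F357989 F356010 (iv1 D125685) (iv6 D58854) D58853 D125680 (iv6 D113446) (iv1 F161162)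
theorem F357993 : act 2 n113657 = n113457 := d15_3 (iv0 D113457) D113458 (iv7 F357991)
theorem F357994 : act 5 n113457 = n105284 := d2_2 D113657 F357993 (iv2 F173639)
theorem F357995 : act 7 n113457 = n113654 := d4_2 (iv7 F357991) F357993 F357990
theorem F357996 : act 7 n109254 = n97206 := d15_2 F354596 F326728 F149953
theorem F357997 : act 2 n111961 = n109254 := d4_3 F357996 F149953 (iv7 F340705)
theorem F357998 : act 4 n97207 = n109254 := d11_3 F357996 (iv4 D97206) D97207
theorem F357999 : act 3 n97223 = n95869 := d20_9 F357998 (iv1 F326728) (iv4 F340724) F340723 (iv1 F81393) F320052 F321797 F105330 (iv4 F318870) (iv1 F149959)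
theorem F358000 : act 4 n95870 = n89867 := d20_2 (iv4 F357998) (iv1 F149958) (iv3 F159117) F352007 (iv3 D51642) (iv4 D25088) (iv1 F19639) D24572 D50416 D109254
theorem F358001 : act 2 n97205 = n95870 := d1_3 F358000 (iv2 F159072) (iv4 F340379)
theorem F358002 : act 6 n89866 = n95870 := d10_0 F358000 (iv6 D89867) D89866
theorem F358003 : act 0 n89867 = n95479 := d18_2 (iv1 F149958) F358000 (iv4 D95479) (iv5 D44601) (iv4 F58275) (iv0 F315261) (iv4 F314854) F71674 (iv5 F149956)
theorem F358004 : act 6 n95763 = n89891 := d12_4 F358002 (iv5 F147542) (iv6 D95764) D95763 F137999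
theorem F358005 : act 4 n89892 = n95763 := d10_3 F358004 (iv4 D89891) D89892
theorem F358006 : act 5 n174569 = n89921 := d16_7 F358005 (iv5 D95763) (iv4 F317108) (iv5 D71045) (iv4 F107582) (iv5 F303650) D174569 (iv7 D89921) (iv2 F138003)
theorem F358007 : act 4 n89921 = n95768 := d16_4 (iv4 F107582) (iv5 F303650) D174569 F358006 (iv5 D95768) (iv4 F319120) (iv5 F316754) F205221 F188341
theorem F358008 : act 7 n95869 = n97205 := d15_2 F149958 F149959 F358001
theorem F358009 : act 7 n97204 = n95870 := d15_2 F149951 F149957 (iv2 F358001)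
theorem F358010 : act 2 n95869 = n97204 := d4_3 F358009 (iv2 F358001) (iv7 F358008)
theorem F358011 : act 5 n116181 = n97204 := d13_3 F358009 (iv5 F147542) (iv7 F340734)
theorem F358012 : act 2 n103751 = n116181 := d2_3 F358011 (iv2 F358010) (iv5 F159189)
theorem F358013 : act 1 n103754 = n116181 := d18_8 (iv1 F149957) F357988 (iv1 D111961) F81513 (iv5 F340714) (iv4 F340717) (iv0 F243415) F335109 F358011
theorem F358014 : act 6 n117210 = n116181 := d21_5 (iv5 F317117) F81306 (iv5 F81305) D69032 F190206 F358011 (iv1 F149957) F147544 (iv6 F316566) F316565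
theorem F358015 : act 0 n117210 = n97303 := d21_10 (iv5 D97303) (iv1 D45449) (iv5 D21683) (iv6 D10349) D10346 D21676 D45423 D97204 (iv5 F358011) (iv6 F358014)
theorem F358016 : act 3 n139816 = n116181 := d20_9 (iv4 F335109) F243415 F340717 F340713 (iv1 F81404) D111846 (iv4 F173670) F173671 D139816 (iv1 F358013)
theorem F358017 : act 6 n141598 = n139816 := d7_0 F358016 (iv6 F358014) (iv3 F224674)
theorem F358018 : act 2 n139836 = n141598 := d3_3 F358017 F223012 D139836
theorem F358019 : act 3 n103172 = n103737 := d0_4 (iv3 F223047) F358018 F224674 F340413 F317727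
theorem F358020 : act 3 n95918 = n97271 := d6_3 F340414 F358019 F290443
theorem F358021 : act 1 n116181 = n103607 := d15_0 F335112 (iv7 F350023) F358012
theorem E102235 : n129306 = n129220 := (c6_1 F354583 (iv3 D129220) F322908 (iv3 F228910))
theorem F358022 : act 0 n129220 = n60774 := (sb E102235 (iv1 D129306))
theorem F358023 : act 1 n129220 = n132457 := (sb E102235 F212558)
theorem F358024 : act 5 n129220 = n145779 := (sb E102235 (iv5 F354583))
theorem F358025 : act 2 n130744 = n129305 := d15_3 (iv0 D129305) (iv0 F358022) (iv7 F209303)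
theorem F358026 : act 6 n129305 = n167342 := d3_2 (iv6 F309524) F358025 F263476
theorem F358027 : act 7 n132455 = n129305 := d15_2 F348914 D132455 (iv2 F358025)
theorem F358028 : act 2 n129220 = n132455 := d4_3 F358027 (iv2 F358025) F209303
theorem F358029 : act 2 n113493 = n177635 := d16_9 (iv4 F354490) F333772 (iv4 F253127) (iv5 F354494) F354493 (iv5 D84597) D84596 (iv5 F341730) D113493
theorem F358030 : act 6 n177635 = n113505 := d3_2 (iv6 F327211) F358029 F327286
theorem F358031 : act 7 n177635 = n113477 := d4_2 D113493 F358029 F176663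
theorem F358032 : act 1 n177635 = n113490 := d15_0 (iv0 D113490) D113493 F358029
theorem F358033 : act 1 n113366 = n177635 := d15_0 F358032 F355860 F345733
theorem F358034 : act 6 n174846 = n113326 := d21_3 (iv5 D177635) (iv1 F277079) (iv5 F342135) F352186 F91978 D86140 (iv1 F332751) F332752 (iv6 F355859) (iv1 F358032)
theorem F358035 : act 3 n113328 = n174846 := d7_3 F358034 (iv3 D113326) D113328
theorem F358036 : act 4 n174846 = n178466 := d5_2 (iv4 F176528) F358035 (iv3 D178466) (iv4 F317706) F168830
theorem F358037 : act 3 n177613 = n113440 := d6_3 (iv5 F176627) F358035 F342135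
theorem F358038 : act 0 n174846 = n159215 := d20_4 F174040 (iv1 F100379) (iv4 F176528) F358035 (iv3 D159215) (iv4 D76161) F325931 (iv4 F170871) F170870 D110467
theorem F358039 : act 6 n157824 = n177613 := d21_5 (iv5 F303735) F303732 (iv5 F329445) (iv6 D157845) (iv1 F248708) (iv5 F342135) F358038 F339176 (iv6 D170683) D170681
theorem F358040 : act 6 n113440 = n180813 := d7_2 F358039 F358037 (iv3 F281465)
theorem F358041 : act 4 n177613 = n163123 := d10_1 F358039 F357780 F254261
theorem F358042 : act 6 n178466 = n112770 := d10_2 (iv6 F358034) F358036 (iv4 F176527)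
theorem F358043 : act 7 n112575 = n178466 := d14_0 F358042 F175572 (iv6 D110622) (iv7 F82023) D112575
theorem E102236 : n177447 = n166584 := ((c21_5 (iv5 F339193) (iv1 F277083) D177635 F358030 F327284 (iv6 D177447) D177446 F355906 F355907 F257080 F355871)).symm
theorem F358044 : act 3 n166584 = n105226 := (sb E102236 F341725)
theorem F358045 : act 6 n166584 = n84539 := (sb E102236 (iv6 D177447))
theorem F358046 : act 7 n113410 = n166584 := d8_0 F358044 F165517 D113410
theorem F358047 : act 4 n126231 = n160415 := d20_0 (iv1 F253399) (iv4 F262172) (iv3 F327287) F327284 F358044 (iv4 D105226) (iv1 D48655) (iv4 F45417) (iv3 F93380) D126231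
theorem F358048 : act 0 n126231 = n163648 := d20_1 (iv4 F358047) F257990 (iv3 D160454) (iv1 D76911) (iv3 D35142) (iv4 D17060) D17059 D35138 D76899 D160415
theorem F358049 : act 2 n126234 = n163648 := d15_3 (iv0 F358048) (iv0 D126231) D126234
theorem F358050 : act 2 n113410 = n166583 := d15_3 (iv0 D166583) D166584 (iv7 F358046)
theorem F358051 : act 3 n133592 = n136470 := d0_4 F354492 F253130 (iv3 F311976) F239831 (iv2 F354491)
theorem F358052 : act 6 n136467 = n133592 := d7_0 F358051 (iv6 D136470) D136467
theorem F358053 : act 7 n137345 = n133592 := d8_0 F358051 F344847 (iv3 F220540)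
theorem F358054 : act 0 n143550 = n133592 := d20_4 F48894 D31278 D67226 D143550 F358051 (iv4 F346586) F346575 (iv4 F346593) (iv3 D138053) (iv1 D64874)
theorem F358055 : act 5 n99613 = n143550 := d17_1 (iv1 F351872) F358054 (iv5 D133592) F97809 F47625 (iv0 F130987) D34398 (iv0 F130992) (iv4 F305741)
theorem F358056 : act 5 n133593 = n137345 := d13_3 F358053 (iv5 D133592) D133593
theorem F358057 : act 5 n137803 = n152612 := d16_3 (iv4 F214909) F358056 (iv4 F221044) (iv4 D152612) (iv5 D71984) F52491 D33258 D71999 F108483
theorem F358058 : act 5 n133589 = n136467 := d12_5 F358052 (iv5 D133592) (iv6 D62694) D62693 D133589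
theorem F358059 : act 3 n136392 = n133589 := d6_3 F358058 (iv3 D136467) (iv5 F346572)
theorem E102237 : n133101 = n123999 := (c7_4 (iv6 F346573) F358059 (iv6 D133589) (iv3 F213749))
theorem F358060 : act 3 n123999 = n62693 := (sb E102237 F213749)
theorem F358061 : act 5 n123999 = n62448 := (sb E102237 (iv5 D133101))
theorem F358062 : act 7 n123999 = n130437 := (sb E102237 F213750)
theorem F358063 : act 2 n130437 = n123148 := d4_1 F358062 F197350 D123999
theorem E102238 : n123998 = n123959 := (c15_1 D123998 (iv0 F357925) (iv7 F358062) (iv2 D123999))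
theorem F358064 : act 0 n123959 = n57768 := (sb E102238 (iv1 D123998))
theorem F358065 : act 5 n124000 = n130936 := d16_1 D124000 (iv4 D130936) (iv5 D61432) F46722 (iv5 F46606) D61203 D130437 (iv7 F358062) (iv2 D123999)
theorem F358066 : act 6 n130936 = n153967 := d12_2 (iv6 F344854) F358065 (iv5 D153967) (iv6 F331863) D175734
theorem F358067 : act 0 n93215 = n135006 := d18_0 F357924 F358064 D124000 F358065 (iv4 D130936) (iv0 F95932) F93601 D108517 F347391
theorem F358068 : act 4 n153967 = n130937 := d10_1 F358066 (iv6 D130937) D130936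
theorem F358069 : act 1 n130937 = n135563 := d18_6 D47218 (iv4 F184748) F331856 (iv4 F331860) D153967 F358068 (iv4 F328115) (iv0 D101481) (iv5 D47220)
theorem F358070 : act 1 n130437 = n123583 := d15_0 F354488 (iv7 F197350) (iv2 F358063)
theorem F358071 : act 4 n131695 = n174483 := d20_0 F354482 F298845 (iv3 F298842) F338863 (iv3 D157618) (iv4 D75041) (iv1 F130975) (iv4 F205800) (iv3 F351972) (iv1 F217743)
theorem F358072 : act 6 n147192 = n174483 := d21_3 (iv5 F310746) (iv1 F230561) (iv5 F230764) F354482 (iv6 D172241) F127149 (iv1 D45843) D45845 D98145 F343958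
theorem F358073 : act 4 n133058 = n147192 := d10_3 F358072 (iv4 F358071) (iv6 F217746)
theorem F358074 : act 7 n174483 = n131691 := d14_2 D147192 F358072 (iv6 D131691) (iv7 F217662) (iv6 F333677)
theorem E102239 : n133042 = n100096 := (c4_2 F358074 F217737 F274995 D174483)
theorem F358075 : act 2 n100096 = n131691 := (sb E102239 (iv2 F217737))
theorem F358076 : act 4 n100096 = n62429 := (sb E102239 F213705)
theorem F358077 : act 6 n100096 = n62427 := (sb E102239 (iv6 D133042))
theorem F358078 : act 1 n100096 = n172241 := d15_0 (iv0 F354482) F358074 (iv2 F358075)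
theorem F358079 : act 1 n174482 = n131691 := d15_1 D174482 (iv7 F358074) (iv2 D174483)
theorem F358080 : act 0 n133041 = n147177 := d21_7 F116529 (iv1 F72396) (iv5 F127149) D172241 (iv1 F358078) F358077 D133041 (iv5 F343962) (iv6 F303096) (iv1 F151357)
theorem F358081 : act 1 n131691 = n173861 := d15_0 F305465 (iv7 F274995) F358075
theorem F358082 : act 0 n119393 = n126810 := d20_10 F331967 F305403 F236364 F303186 (iv1 F358081) F351477 (iv4 F343405) (iv1 D108361) (iv4 F167535) (iv3 F309186)
theorem F358083 : act 4 n174486 = n131682 := d1_2 F358073 F343370 (iv2 F217714)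
theorem E102240 : n131681 = n103168 := ((c16_7 F358073 F230764 F105213 F315413 (iv4 D47817) D47818 D103168 (iv5 D131681) D131682 (iv2 F217714))).symm
theorem F358084 : act 2 n103168 = n133057 := (sb E102240 (iv2 F217713))
theorem F358085 : act 5 n103168 = n61787 := (sb E102240 (iv5 D131681))
theorem F358086 : act 5 n103184 = n133058 := d16_1 D103184 F358073 F230764 F105213 F315413 (iv4 D47817) D47818 (iv7 F319860) F319859
theorem F358087 : act 7 n103184 = n133057 := d16_8 (iv4 D103168) (iv5 D47818) D47817 (iv5 F315413) (iv4 F105213) (iv5 F230764) (iv4 F358073) (iv5 F358086) (iv2 F358084)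
theorem F358088 : act 1 n158871 = n97483 := d15_1 (iv0 F354476) (iv7 D97483) (iv2 F294692)
theorem E102241 : n158058 = n158052 := ((c13_1 D158052 F354474 F354471 (iv5 D158050))).symm
theorem F358089 : act 0 n158052 = n75288 := (sb E102241 (iv1 D158058))
theorem F358090 : act 1 n158052 = n75290 := (sb E102241 F249005)
theorem E102242 : n97482 = n75287 := (((F249003).symm.trans (sb E102241 F354472))).symm
theorem F358091 : act 4 n158052 = n104666 := (sb E102241 F354473)
theorem F358092 : act 5 n158052 = n90006 := (sb E102241 F354474)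
theorem F358093 : act 6 n158052 = n88348 := (sb E102241 F354475)
theorem E102243 : n158054 = n104683 := ((D158054).symm.trans (sb E102242 (iv4 F340366)))
theorem E102244 : n158055 = n45523 := ((D158055).symm.trans (sb E102242 (iv5 D97482)))
theorem E102245 : n158056 = n45525 := ((D158056).symm.trans (sb E102242 F150264))
theorem F358094 : act 1 n104683 = n160976 := (sb E102243 (iv0 F254193))
theorem F358095 : act 3 n104683 = n160864 := (sb E102243 (iv3 F254031))
theorem F358096 : act 4 n104683 = n75287 := (sb E102243 (iv4 D158054))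
theorem F358097 : act 5 n45523 = n75287 := (sb E102244 (iv5 D158055))
theorem F358098 : act 6 n45525 = n75287 := (sb E102245 (iv6 D158056))
theorem F358099 : act 6 n158053 = n97477 := d7_2 F358098 D158053 F150261
theorem F358100 : act 6 n158047 = n173852 := d14_3 (iv7 F135295) F358098 F249002 F337350 (iv6 D185461)
theorem E102246 : n174262 = n95370 := (c21_8 (iv5 F71449) (iv1 F71452) D45525 F358098 (iv1 D75287) (iv6 F59228) D83293 D174262 F147000 (iv6 D48373) (iv1 F70131))
theorem F358101 : act 1 n95370 = n83293 := (sb E102246 (iv0 D174262))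
theorem F358102 : act 4 n95370 = n166386 := (sb E102246 (iv4 F351975))
theorem E102247 : n97480 = n84259 := (c21_8 (iv5 F137900) (iv1 F147309) (iv5 F148079) F328306 (iv1 F71802) F358098 (iv5 F358097) D97480 (iv5 D84259) (iv6 F127834) (iv1 F326709))
theorem E102248 : n176735 = n45523 := ((D176735).symm.trans (sb E102247 (iv0 D97480)))
theorem F358103 : act 0 n45523 = n84259 := (sb E102248 (iv1 D176735))
theorem F358104 : act 6 n158868 = n163264 := d21_3 D75289 D158060 F348783 (iv1 F326719) (iv6 D95488) (iv5 F71449) (iv1 F71452) D45525 F358098 (iv1 D75287)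
theorem F358105 : act 5 n111791 = n97481 := d21_6 (iv5 D44946) (iv1 D21451) D21452 (iv6 F70640) F340721 D111791 (iv1 D97481) F358097 (iv6 F358098) F71803
theorem F358106 : act 2 n97481 = n158871 := d2_1 F358105 (iv5 D158871) (iv2 F327732)
theorem F358107 : act 3 n97481 = n111793 := d6_1 F358105 (iv5 D111793) (iv3 F173514)
theorem F358108 : act 7 n97481 = n176733 := d13_2 (iv7 F327733) F358105 (iv5 D176733)
theorem F358109 : act 1 n97483 = n176733 := d15_1 F358088 (iv7 F358108) F358106
theorem F358110 : act 2 n158050 = n97483 := d15_3 F358109 (iv0 F354478) F354471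
theorem F358111 : act 5 n97483 = n158047 := d2_2 D158050 F358110 (iv2 D158047)
theorem F358112 : act 6 n97441 = n158050 := d3_0 F358110 F294715 (iv2 F294708)
theorem E102249 : n176734 = n158050 := ((c15_4 (iv0 D176734) (iv0 F358103) D97483 (iv2 F358110))).symm
theorem F358113 : act 1 n158050 = n84259 := (sb E102249 (iv0 D176734))
theorem F358114 : act 1 n97481 = n158050 := d15_0 F358113 (iv7 F250134) (iv2 F358106)
theorem F358115 : act 0 n97359 = n94322 := d20_4 (iv4 F64945) (iv1 F291943) D45469 D97359 F293807 (iv4 D176736) (iv1 F358113) (iv4 F294066) (iv3 D97436) F293070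
theorem F358116 : act 5 n104765 = n127546 := d21_6 D158050 (iv1 F358114) (iv5 F358105) (iv6 D111791) (iv1 F340720) (iv6 F160486) F337360 (iv5 D83293) F59228 D75286
theorem F358117 : act 0 n173855 = n158051 := d21_4 F147114 (iv1 F70638) D96264 (iv6 F337335) (iv6 D158051) D158050 (iv1 F358114) (iv5 F358105) (iv6 D111791) (iv1 F340720)
theorem F358118 : act 5 n158051 = n137073 := d19_1 F358117 F220248 F218792 (iv1 F183125) F321762 (iv4 D155191) (iv3 F305659) F305658 (iv5 D84889) (iv4 F307767) F87573 (iv1 F87312) (iv5 D55182) F42733 F299818 (iv1 F59126) (iv5 F59144) (iv4 F128174) (iv3 F272492)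
theorem F358119 : act 2 n173852 = n158051 := d15_3 (iv0 F358117) (iv0 F337337) (iv7 F337350)
theorem F358120 : act 1 n173853 = n158051 := d15_0 (iv0 F358117) (iv7 D173855) D173853
theorem F358121 : act 7 n158051 = n173851 := d15_2 F337345 F358120 F337348
theorem F358122 : act 4 n109751 = n163682 := d16_2 F287723 F354536 (iv5 F344717) F188055 (iv5 F321763) (iv4 F220248) (iv5 F358118) F358121 F337348
theorem F358123 : act 6 n127622 = n109751 := d10_0 F358122 (iv6 D163682) (iv4 F334003)
theorem F358124 : act 5 n104798 = n176876 := d17_7 F344721 (iv5 D158791) D158789 F353938 F340605 F159130 D104798 (iv0 F353281) F358122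
theorem F358125 : act 3 n176883 = n104798 := d6_3 F358124 F276248 D176883
theorem F358126 : act 7 n104630 = n104798 := d13_0 F358124 (iv7 F349863) F340607
theorem F358127 : act 5 n89854 = n127622 := d21_8 (iv5 F358124) (iv1 D104798) (iv5 F159130) (iv6 D103687) (iv1 F75458) F340625 (iv5 F340624) D89854 F358123 F353281
theorem F358128 : act 6 n89913 = n89854 := d12_0 F358127 F358123 (iv5 F354536) (iv6 D104668) (iv5 F138067)
theorem F358129 : act 7 n163753 = n89854 := d13_0 F358127 F334004 D163753
theorem F358130 : act 1 n163339 = n89854 := d17_6 (iv1 F57239) (iv5 F56474) (iv1 F57199) F254093 D78498 D163339 F358127 F334001 (iv4 D80017)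
theorem F358131 : act 2 n89857 = n163339 := d15_3 F358130 (iv0 D89854) D89857
theorem F358132 : act 5 n121158 = n89857 := d2_0 F358131 (iv5 D163339) (iv2 F257939)
theorem F358133 : act 7 n163339 = n89827 := d4_2 D89857 F358131 F137868
theorem F358134 : act 1 n89855 = n163339 := d15_1 D89855 F358133 F137868
theorem F358135 : act 2 n163753 = n89855 := d15_3 F358134 F358130 (iv7 F358129)
theorem F358136 : act 5 n127621 = n89855 := d17_5 F325696 (iv5 D180621) F254289 (iv5 F254418) (iv4 F333999) F358134 (iv5 D163339) F257638 (iv4 F325699)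
theorem F358137 : act 0 n89853 = n89909 := d18_2 (iv1 D89855) (iv4 F137920) (iv4 F348736) (iv5 D160902) F115965 F57239 D80017 (iv0 F333996) F358136
theorem F358138 : act 1 n89853 = n166711 := d15_1 (iv0 F358137) (iv7 F348734) (iv2 F138058)
theorem F358139 : act 4 n89854 = n104705 := d10_1 F358128 (iv6 D104705) (iv4 F138068)
theorem F358140 : act 3 n174210 = n104630 := d8_3 F358126 (iv3 F358125) F338790
theorem F358141 : act 2 n104798 = n104631 := d15_3 F160613 F160614 F358126
theorem F358142 : act 2 n104630 = n104797 := d15_3 (iv0 D104797) D104798 (iv7 F358126)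
theorem F358143 : act 7 n104797 = n104631 := d4_2 (iv7 F358126) F358142 (iv2 F358141)
theorem F358144 : act 3 n109753 = n127622 := d7_3 F358123 (iv3 D109751) D109753
theorem E102250 : n160641 = n109920 := (c0_4 F358144 F334002 F262324 F262328 (iv3 D109920) (iv2 F169744))
theorem F358145 : act 0 n109920 = n166680 := (sb E102250 (iv1 F262333))
theorem F358146 : act 1 n109920 = n77043 := (sb E102250 (iv0 D160641))
theorem F358147 : act 2 n109920 = n166679 := (sb E102250 (iv2 F262328))
theorem F358148 : act 7 n109920 = n166678 := (sb E102250 F262329)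
theorem E102251 : n163585 = n113461 := ((c20_8 (iv4 F115964) (iv1 F254382) (iv4 F334003) (iv3 F358144) (iv1 F169747) (iv3 F176641) F176642 D113461 (iv4 F262303) F262302 (iv1 F122827))).symm
theorem F358149 : act 0 n113461 = n166554 := (sb E102251 (iv1 F262069))
theorem E102252 : n166553 = n52375 := ((((iv0 D113461)).symm.trans (sb E102251 F262064))).symm
theorem F358150 : act 2 n113461 = n78598 := (sb E102251 (iv2 D163585))
theorem F358151 : act 3 n113461 = n78608 := (sb E102251 F257845)
theorem F358152 : act 4 n113461 = n166670 := (sb E102251 (iv4 F262303))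
theorem F358153 : act 6 n113461 = n128942 := (sb E102251 F341772)
theorem F358154 : act 7 n113461 = n166555 := (sb E102251 (iv7 F262067))
theorem E102253 : n113462 = n79937 := ((D113462).symm.trans (sb E102252 (iv0 D166553)))
theorem F358155 : act 0 n79937 = n52375 := (sb E102253 (iv1 D113462))
theorem F358156 : act 0 n109903 = n160899 := d20_4 F93337 D59151 (iv4 F169876) D109903 (iv3 D160899) (iv4 F115964) (iv1 F254382) (iv4 F334003) (iv3 F358144) (iv1 F169747)
theorem F358157 : act 7 n166554 = n113452 := d15_2 (iv0 F358155) D166554 F176638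
theorem F358158 : act 2 n113464 = n166554 := d4_3 F358157 F176638 D113464
theorem F358159 : act 6 n126344 = n166554 := d14_5 F358157 (iv6 D113452) (iv7 F161161) (iv6 F331157) (iv7 F203157)
theorem E102254 : n163584 = n113452 := (c15_2 F327625 D163584 (iv7 F358157) (iv2 F358158))
theorem F358160 : act 0 n113452 = n78598 := (sb E102254 (iv1 D163584))
theorem F358161 : act 1 n113452 = n166555 := (sb E102254 F262070)
theorem E102255 : n129181 = n113662 := (c21_8 D113654 (iv1 F176847) (iv5 D113451) D113452 F358160 (iv6 F341771) (iv5 D129183) D129181 (iv5 D113662) (iv6 D52477) D52474)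
theorem F358162 : act 0 n113662 = n131804 := (sb E102255 (iv1 F211193))
theorem F358163 : act 1 n113662 = n60730 := (sb E102255 (iv0 D129181))
theorem F358164 : act 2 n113662 = n131802 := (sb E102255 (iv2 F211190))
theorem F358165 : act 4 n113662 = n106655 := (sb E102255 F211191)
theorem F358166 : act 7 n113662 = n131803 := (sb E102255 F211192)
theorem F358167 : act 3 n131803 = n113667 := d8_1 F358166 (iv7 D113667) (iv3 F176853)
theorem F358168 : act 5 n131803 = n113663 := d13_1 F358166 (iv7 D113663) D113662
theorem F358169 : act 1 n113663 = n132639 := d17_6 D63050 (iv5 F176556) F176558 F165081 (iv4 F211180) F358168 (iv5 D132639) (iv0 F168314) F95084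
theorem F358170 : act 6 n125822 = n132639 := d21_9 (iv5 F358168) (iv1 D131803) (iv5 F207166) (iv6 F358153) F358149 (iv6 F358159) (iv5 D126344) F100265 (iv5 F202330) (iv1 F358169)
theorem F358171 : act 3 n132639 = n124518 := d7_1 F358170 (iv6 F299821) (iv3 F330150)
theorem F358172 : act 4 n132639 = n173325 := d10_1 F358170 F356158 (iv4 F330151)
theorem F358173 : act 6 n128867 = n125523 := d14_3 D125822 F358170 F212917 F201880 (iv6 F349539)
theorem F358174 : act 0 n113659 = n132639 := d21_4 (iv5 F204917) (iv1 F204713) F176701 D113659 (iv6 F358170) F202330 (iv1 F168922) (iv5 F332903) (iv6 D105230) D105227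
theorem F358175 : act 5 n131802 = n113659 := d17_1 D131802 F358174 (iv5 D132639) (iv4 D62237) D62238 F168133 F162265 (iv0 D61848) (iv4 F96408)
theorem F358176 : act 5 n125685 = n128939 := d21_6 F207166 D131802 F358175 (iv6 D113659) (iv1 F161406) F356010 (iv1 D128939) D128940 F207164 D128942
theorem F358177 : act 3 n128939 = n166314 := d6_1 F358176 (iv5 D166314) (iv3 F356006)
theorem F358178 : act 4 n128939 = n128967 := d16_2 (iv4 F356007) F358176 (iv5 F341621) F176551 F83016 (iv4 F70047) (iv5 F146963) (iv7 D95325) (iv2 F146950)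
theorem F358179 : act 2 n125674 = n128867 := d3_3 F358173 F201882 D125674
theorem E102256 : n128867 = n124609 := ((c10_4 F358173 (iv4 F201879) F326390 (iv4 F199306))).symm
theorem F358180 : act 2 n124609 = n125674 := (sb E102256 (iv2 F358179))
theorem F358181 : act 5 n124609 = n60605 := (sb E102256 (iv5 D128867))
theorem F358182 : act 6 n124609 = n125523 := (sb E102256 F358173)
theorem F358183 : act 7 n124609 = n132639 := (sb E102256 (iv7 F212917))
theorem F358184 : act 7 n128864 = n125674 := d4_2 F358183 F212916 (iv2 F358180)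
theorem F358185 : act 1 n125674 = n113663 := d15_0 F358169 (iv7 F358183) F358180
theorem F358186 : act 1 n113659 = n125674 := d15_0 F358185 (iv7 D113663) (iv2 F176852)
theorem F358187 : act 5 n128607 = n125674 := d17_5 (iv1 F96409) (iv5 F165793) F165794 F103320 D128607 F358185 (iv5 F358168) F211179 F207047
theorem F358188 : act 6 n105228 = n125539 := d21_9 D125541 F349574 (iv5 D125673) D125674 (iv1 F358186) (iv6 D113659) (iv5 F176701) (iv1 F204718) F204921 (iv1 D125539)
theorem E102257 : n177421 = n125542 := (c21_5 (iv5 F358175) (iv1 F211186) F207167 F341768 D177421 (iv6 D125542) D125541 F349574 (iv5 D125673) D125674 (iv1 F358186))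
theorem F358189 : act 1 n125542 = n84531 := (sb E102257 (iv0 D177421))
theorem E102258 : n125765 = n52370 := (c3_3 F358188 F201926 D125765 (iv2 F174311))
theorem E102259 : n113446 = n58893 := ((D113446).symm.trans (sb E102258 (iv6 D125765)))
theorem E102260 : n125764 = n125680 := ((D125764).symm.trans (sb E102259 (iv5 F357992)))
theorem F358190 : act 6 n58893 = n52370 := (sb E102259 (iv6 D113446))
theorem F358191 : act 4 n125680 = n131901 := (sb E102260 F349581)
theorem F358192 : act 5 n125680 = n58893 := (sb E102260 (iv5 D125764))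
theorem F358193 : act 7 n125680 = n125930 := (sb E102260 (iv7 F349579))
theorem F358194 : act 6 n112239 = n109879 := d10_2 F358188 (iv4 F201923) F169881
theorem F358195 : act 7 n125768 = n113449 := d14_4 F174310 F358188 F201924 D125768 (iv6 D113449)
theorem F358196 : act 6 n113444 = n125763 := d3_2 F358194 (iv2 F176629) F202279
theorem F358197 : act 6 n159446 = n127420 := d12_4 F358196 F344588 F206796 F350552 F204811
theorem F358198 : act 6 n113443 = n125762 := d7_2 F358190 D113443 (iv3 D125762)
theorem F358199 : act 6 n113154 = n126202 := d10_2 F358198 F202278 (iv4 F202958)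
theorem F358200 : act 2 n110010 = n113154 := d3_3 F358199 (iv2 F202959) (iv6 F323947)
theorem F358201 : act 3 n147382 = n113154 := d7_3 F358199 (iv3 F202960) D147382
theorem F358202 : act 3 n125523 = n124611 := d7_1 F358182 (iv6 D124611) D124609
theorem F358203 : act 2 n180475 = n125671 := d0_3 F358202 (iv2 F323183) F323184 (iv3 D125671) (iv2 F201882)
theorem F358204 : act 4 n125674 = n174669 := d1_2 (iv4 F199306) F358180 (iv2 D174669)
theorem F358205 : act 6 n174669 = n125672 := d10_2 D125674 F358204 (iv4 D125672)
theorem F358206 : act 3 n132385 = n113666 := d5_3 F358165 (iv3 F217832) F217833 (iv4 D113666) (iv3 F176853)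
theorem E102261 : n128864 = n113660 := (c17_6 D60731 (iv5 F172159) F172161 (iv5 D60602) D60601 D128864 (iv0 D113660) D113662 F358163 F95333)
theorem F358207 : act 2 n113660 = n132639 := (sb E102261 (iv2 F212916))
theorem F358208 : act 5 n113660 = n60601 := (sb E102261 (iv5 D128864))
theorem F358209 : act 7 n113660 = n125674 := (sb E102261 F358184)
theorem E102262 : n124609 = n113661 := ((c15_2 (iv0 D113660) D113661 F358183 (iv2 F358207))).symm
theorem F358210 : act 2 n113661 = n125674 := (sb E102262 F358180)
theorem F358211 : act 3 n113661 = n58186 := (sb E102262 (iv3 D124609))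
theorem F358212 : act 4 n113661 = n83464 := (sb E102262 F199306)
theorem F358213 : act 5 n113661 = n60605 := (sb E102262 F358181)
theorem F358214 : act 6 n113661 = n125523 := (sb E102262 F358182)
theorem F358215 : act 7 n113661 = n132639 := (sb E102262 F358183)
theorem F358216 : act 5 n131801 = n113461 := d12_5 F358153 F207166 (iv6 D61847) D61846 D131801
theorem F358217 : act 7 n185725 = n131801 := d13_0 F358216 F358154 (iv5 F288005)
theorem F358218 : act 6 n106753 = n113463 := d21_5 (iv5 D49266) (iv1 F37600) (iv5 F37690) D49330 D106753 (iv5 D113463) D113461 (iv5 F358216) (iv6 D131801) F96405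
theorem F358219 : act 3 n113467 = n106753 := d7_3 F358218 F176646 (iv6 F176648)
theorem F358220 : act 4 n113463 = n110780 := d10_1 F358218 (iv6 D110780) (iv4 F177802)
theorem F358221 : act 5 n113460 = n106753 := d12_5 F358218 (iv5 D113463) (iv6 D52375) D52374 D113460
theorem F358222 : act 6 n129077 = n185724 := d21_9 F135433 F358155 D113463 (iv6 F358218) (iv1 F164556) (iv6 F164278) (iv5 F206944) (iv1 F206946) D129077 (iv1 D185724)
theorem F358223 : act 5 n185726 = n160998 := d21_6 (iv5 F206944) (iv1 F206946) D129077 F358222 (iv1 D185724) D185726 (iv1 F262096) (iv5 F341786) (iv6 D132145) (iv1 F164281)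
theorem F358224 : act 0 n131801 = n185724 := d21_4 F47009 (iv1 F46947) D61846 D131801 (iv6 F358222) (iv5 D129077) (iv1 D60678) (iv5 F47015) (iv6 D29358) D29356
theorem F358225 : act 2 n160999 = n185726 := d2_3 F358223 (iv2 D160998) D160999
theorem F358226 : act 5 n181141 = n166556 := d12_3 D185726 F358223 (iv6 F282143) (iv6 D166556) (iv5 F135433)
theorem F358227 : act 0 n102931 = n185726 := d17_0 F358223 (iv1 F262096) (iv5 F341786) (iv4 F341787) (iv5 D94317) (iv0 F294531) (iv5 F293779) (iv0 D102929) D102931
theorem F358228 : act 2 n166556 = n181142 := d2_1 F358226 (iv5 D181142) D181141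
theorem F358229 : act 3 n166558 = n181141 := d6_3 F358226 F262071 D166558
theorem F358230 : act 7 n177424 = n181141 := d13_0 F358226 F297570 D177424
theorem F358231 : act 2 n126245 = n177424 := d4_3 F358230 (iv2 D181141) (iv7 F326406)
theorem F358232 : act 6 n166564 = n127090 := d14_3 F358230 F282143 (iv7 F262094) (iv7 F342876) F342875
theorem F358233 : act 1 n181140 = n177424 := d15_1 D181140 F358230 (iv2 D181141)
theorem F358234 : act 4 n177424 = n136296 := d1_2 (iv4 F326405) F358231 F354538
theorem F358235 : act 5 n177423 = n126245 := d2_0 F358231 (iv5 D177424) D177423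
theorem F358236 : act 1 n177424 = n181139 := d15_0 (iv0 D181139) (iv7 F326406) F358231
theorem F358237 : act 3 n126251 = n177423 := d6_3 F358235 F203024 D126251
theorem F358238 : act 7 n181142 = n177423 := d13_0 F358235 F326406 D181142
theorem F358239 : act 1 n177422 = n181142 := d15_1 D177422 F358238 (iv2 D177423)
theorem F358240 : act 4 n181142 = n174240 := d1_2 F299762 F358228 (iv2 D174240)
theorem F358241 : act 6 n181142 = n166555 := d3_2 D166556 F358228 (iv2 D166555)
theorem F358242 : act 1 n181142 = n125542 := d15_0 F358189 (iv7 F297570) F358228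
theorem F358243 : act 6 n160677 = n174240 := d10_2 F358241 F262066 (iv4 F358240)
theorem F358244 : act 6 n185725 = n160999 := d12_2 F358241 (iv5 F288005) (iv5 D160999) (iv6 F132697) D181142
theorem F358245 : act 3 n174240 = n160833 := d7_1 F358243 F253993 (iv3 F253816)
theorem F358246 : act 5 n174250 = n174240 := d6_0 F358245 F337359 D174250
theorem F358247 : act 0 n180637 = n174250 := d19_0 F358246 (iv4 F358240) F282144 D181144 F282147 (iv4 D123188) (iv3 F121532) F116840 (iv5 D55603) F297843 F305283 (iv1 D34270) (iv5 F42801) (iv4 F309163) D78444 F338766 (iv5 D86297) (iv4 F132252) (iv3 F281169)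
theorem F358248 : act 5 n112968 = n185644 := d19_17 D106753 (iv5 F358221) F327330 F207331 F95283 (iv5 D59351) F45594 (iv3 F36886) (iv1 F23730) F11034 (iv4 F11028) F11027 (iv1 F8746) D12022 D25321 D52144 D112968 (iv4 F348084) F164549
theorem F358249 : act 6 n113538 = n132158 := d21_3 F357994 (iv1 F161402) (iv5 F176701) (iv1 D132158) (iv6 F164552) (iv5 D106755) D106753 (iv5 F358221) (iv6 D113460) D113457
theorem F358250 : act 2 n132158 = n113540 := d3_1 F358249 (iv6 D113540) D113538
theorem F358251 : act 7 n132157 = n113540 := d15_2 F211679 F211678 (iv2 F358250)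
theorem F358252 : act 3 n113544 = n132157 := d8_3 F358251 F176703 D113544
theorem F358253 : act 7 n112842 = n112968 := d13_0 F358248 F355505 (iv5 F355504)
theorem F358254 : act 0 n131799 = n106632 := d17_0 (iv5 D106632) D106628 F164248 (iv4 F340426) F340427 F175918 F358248 (iv0 F293088) F295478
theorem F358255 : act 1 n163415 = n106632 := d15_0 (iv0 F358254) (iv7 F295475) F293085
theorem F358256 : act 5 n145459 = n128640 := d21_6 D106632 (iv1 F358255) F349603 (iv6 D126258) (iv1 F170953) D145459 (iv1 D128640) (iv5 D60498) F46351 D49271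
theorem F358257 : act 2 n128640 = n129061 := d2_1 F358256 F349607 (iv2 F343531)
theorem F358258 : act 3 n128640 = n145452 := d6_1 F358256 F228487 (iv3 F228499)
theorem F358259 : act 6 n128640 = n145449 := d12_2 D145459 F358256 (iv5 D145449) F104364 D68198
theorem F358260 : act 0 n128674 = n145459 := d21_7 (iv5 D166625) (iv1 F296353) (iv5 F331139) (iv6 D52364) D52360 D113419 F348757 F358256 F358259 F326475
theorem F358261 : act 7 n129062 = n128640 := d15_2 (iv0 D129061) D129062 F358257
theorem F358262 : act 7 n128639 = n129061 := d15_2 F207303 F207301 (iv2 F358257)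
theorem F358263 : act 2 n129062 = n128639 := d4_3 F358262 (iv2 F358257) (iv7 F358261)
theorem F358264 : act 3 n125943 = n128639 := d8_3 F358262 (iv3 F349609) F203104
theorem F358265 : act 6 n128639 = n145436 := d7_2 (iv6 F202437) F358264 (iv3 D145436)
theorem F358266 : act 5 n128673 = n129062 := d13_3 F358261 (iv5 F358256) (iv7 F343530)
theorem F358267 : act 2 n112968 = n112843 := d15_3 F175923 F175921 F358253
theorem F358268 : act 2 n112842 = n112969 := d15_3 F175922 F175918 (iv7 F358253)
theorem F358269 : act 5 n112969 = n185643 := d2_2 (iv5 F355504) F358268 (iv2 F355506)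
theorem F358270 : act 7 n112969 = n112843 := d4_2 (iv7 F358253) F358268 (iv2 F358267)
theorem F358271 : act 5 n112843 = n97387 := d13_1 F358270 F355508 (iv5 F358269)
theorem F358272 : act 6 n103821 = n112843 := d21_5 (iv5 D42732) D42729 (iv5 F291424) D48065 D103821 F358271 (iv1 D97387) (iv5 F295476) (iv6 F295524) F291427
theorem F358273 : act 0 n163415 = n106637 := d17_0 (iv5 D106637) (iv1 D49272) D49274 D106644 (iv5 F164264) D112969 F358269 (iv0 D185643) (iv4 F257695)
theorem E102263 : n185740 = n106644 := ((c21_3 (iv5 F358269) (iv1 D112969) F164264 (iv6 D185740) (iv1 D88462) (iv6 D41293) (iv5 D19421) D19418 D41281 D88432 D185643)).symm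
theorem F358274 : act 6 n106644 = n88462 := (sb E102263 (iv6 D185740))
theorem E102264 : n185737 = n112972 := (c7_2 F358274 D185737 (iv6 D112972) (iv3 F164262))
theorem F358275 : act 3 n112972 = n88462 := (sb E102264 (iv3 D185737))
theorem E102265 : n185738 = n106645 := (c10_2 F358274 D185738 (iv6 D106645) D106644)
theorem F358276 : act 4 n106645 = n88462 := (sb E102265 (iv4 D185738))
theorem E102266 : n185731 = n97290 := (c14_3 (iv7 F164263) F358274 F288015 (iv6 D97290) (iv7 F288185) F340422)
theorem F358277 : act 2 n97290 = n88461 := (sb E102266 (iv2 D185731))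
theorem F358278 : act 7 n97290 = n88462 := (sb E102266 (iv7 F288015))
theorem E102267 : n185735 = n96557 := (c3_3 D97290 F358277 D185735 F288193)
theorem F358279 : act 6 n96557 = n88461 := (sb E102267 (iv6 D185735))
theorem E102268 : n132141 = n106651 := ((c20_11 F341790 (iv1 F171496) F171493 F341804 F294046 (iv3 F257693) F327190 (iv1 F284411) (iv4 F358276) F164265 D106651)).symm
theorem F358280 : act 2 n106651 = n61992 := (sb E102268 (iv2 D132141))
theorem F358281 : act 3 n106651 = n163462 := (sb E102268 (iv3 F341801))
theorem F358282 : act 4 n106651 = n94323 := (sb E102268 F341790)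
theorem F358283 : act 5 n106651 = n163599 := (sb E102268 F341803)
theorem F358284 : act 6 n106651 = n94322 := (sb E102268 (iv6 F341811))
theorem F358285 : act 7 n106651 = n61993 := (sb E102268 (iv7 F211663))
theorem E102269 : n132146 = n106652 := (c15_4 F164275 F164279 F358285 (iv2 F211664))
theorem F358286 : act 2 n106652 = n61993 := (sb E102269 F211664)
theorem F358287 : act 3 n106652 = n131826 := (sb E102269 (iv3 F343678))
theorem F358288 : act 4 n106652 = n107577 := (sb E102269 F341791)
theorem F358289 : act 6 n106652 = n131824 := (sb E102269 F343680)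
theorem F358290 : act 7 n106652 = n61992 := (sb E102269 (iv7 D132146))
theorem F358291 : act 5 n106846 = n131822 := d21_0 (iv1 D131822) D131824 (iv6 F358289) (iv1 D106652) (iv6 D49278) (iv5 D24045) D24042 D49266 D106617 F325492
theorem F358292 : act 2 n107562 = n106846 := d2_3 F358291 (iv2 F217725) (iv5 F343683)
theorem F358293 : act 5 n129445 = n136341 := d17_1 (iv1 F211837) (iv1 D136341) (iv5 D64099) F48594 D49367 D106846 F358291 F214460 F214456
theorem F358294 : act 7 n106845 = n107562 := d15_2 (iv0 F325492) F325493 F358292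
theorem F358295 : act 7 n107563 = n106846 := d15_2 (iv0 D107562) D107563 (iv2 F358292)
theorem F358296 : act 2 n106845 = n107563 := d4_3 F358295 (iv2 F358292) (iv7 F358294)
theorem F358297 : act 5 n133390 = n107563 := d13_3 F358295 F358291 F217726
theorem F358298 : act 5 n106845 = n131821 := d2_2 F358297 (iv2 F358296) F217724
theorem F358299 : act 0 n129039 = n96427 := d19_8 F157273 D76498 (iv4 F211243) (iv3 F358287) (iv1 D106652) (iv5 F95108) (iv4 F95275) (iv3 F207284) F148454 (iv4 F295376) (iv3 D96147) D96145 F147810 (iv4 D47600) (iv3 F74846) D102609 F157818 F294940 F294242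
theorem F358300 : act 4 n180328 = n128649 := d20_0 (iv1 D128649) (iv4 F95275) (iv3 F207284) F358299 (iv3 D96427) (iv4 D45024) F33809 D39867 D86128 D180328
theorem F358301 : act 5 n182766 = n166326 := d21_2 F148454 D182766 (iv6 D166326) (iv1 F347409) (iv6 F347406) (iv5 D128980) (iv1 F207218) (iv5 F95264) D129039 F358299
theorem F358302 : act 6 n126384 = n182766 := d12_0 F358301 (iv6 D166326) (iv5 D79866) D79867 (iv5 F323913)
theorem F358303 : act 4 n106817 = n113274 := d18_5 (iv1 F164275) F358288 (iv1 D107577) F78526 (iv5 F164626) F327652 F358300 F206942 (iv5 F96583)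
theorem F358304 : act 6 n113274 = n106816 := d10_2 D106817 F358303 (iv4 D106816)
theorem E102270 : n129069 = n128648 := (c18_8 D106651 F358282 (iv1 F171496) F171493 (iv5 F218192) F330373 D180329 (iv4 F341819) (iv0 D128648) F95108)
theorem F358305 : act 2 n128648 = n60677 := (sb E102270 (iv2 D129069))
theorem F358306 : act 3 n128648 = n78551 := (sb E102270 F341818)
theorem F358307 : act 4 n128648 = n180329 := (sb E102270 F341819)
theorem F358308 : act 7 n128648 = n60678 := (sb E102270 (iv7 F207308))
theorem F358309 : act 7 n129076 = n180329 := d11_2 F358308 D129076 (iv4 F358307)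
theorem E102271 : n129074 = n128649 := (c15_4 F206942 F206945 F358308 (iv2 F207309))
theorem F358310 : act 2 n128649 = n60678 := (sb E102271 F207309)
theorem F358311 : act 7 n128649 = n60677 := (sb E102271 (iv7 D129074))
theorem F358312 : act 7 n129071 = n180328 := d11_2 F358311 D129071 F358300
theorem F358313 : act 2 n180328 = n129076 := d15_3 F341794 (iv0 F343670) F358312
theorem F358314 : act 2 n129071 = n180329 := d4_1 (iv7 F358312) (iv7 F358309) (iv2 F358313)
theorem F358315 : act 1 n131799 = n106637 := d15_0 (iv0 F358273) (iv7 F348726) (iv2 F348727)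
theorem F358316 : act 0 n128634 = n128675 := d17_2 (iv1 F206917) D128634 (iv5 D128675) (iv4 F96402) D131799 F358315 (iv5 D106637) F164250 (iv4 F206915)
theorem F358317 : act 5 n128628 = n106752 := d18_4 (iv1 D49272) (iv4 F46350) D60495 D128628 F348084 (iv0 F293088) F295478 F358315 (iv5 D106637)
theorem F358318 : act 3 n106755 = n128628 := d6_3 F358317 F164549 D106755
theorem F358319 : act 6 n132123 = n128628 := d12_0 F358317 (iv6 D106752) F77996 D61987 D132123
theorem F358320 : act 4 n128630 = n132123 := d10_3 F358319 (iv4 D128628) D128630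
theorem F358321 : act 5 n163611 = n128630 := d16_1 F280376 F358320 (iv5 D132123) F96577 D62444 (iv4 F305917) D75484 D158330 (iv2 F347501)
theorem F358322 : act 7 n163611 = n180255 := d16_8 F341628 (iv5 D75484) F305917 (iv5 D62444) (iv4 F96577) D132123 (iv4 F358320) (iv5 F358321) F341629
theorem F358323 : act 1 n128634 = n125712 := d15_1 (iv0 F358316) (iv7 F343550) (iv2 F343535)
theorem F358324 : act 2 n125940 = n128634 := d15_3 F358323 (iv0 F343554) (iv7 F202431)
theorem E102272 : n128642 = n125628 := (c21_4 (iv5 D128634) (iv1 D60496) D60498 D128642 (iv1 D125628) (iv6 D58819) D58818 D125623 F355946 D125712 (iv1 F358323))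
theorem F358325 : act 3 n125628 = n60502 := (sb E102272 F206929)
theorem F358326 : act 5 n125628 = n106645 := (sb E102272 F206930)
theorem F358327 : act 6 n125628 = n60498 := (sb E102272 (iv6 D128642))
theorem F358328 : act 5 n128631 = n125940 := d2_0 F358324 (iv5 D128634) (iv2 F206919)
theorem F358329 : act 3 n125941 = n128631 := d6_3 F358328 (iv3 D125940) D125941
theorem E102273 : n128629 = n113555 := ((c13_3 D128631 F358328 F202431 (iv5 D128629))).symm
theorem F358330 : act 5 n113555 = n60495 := (sb E102273 (iv5 D128629))
theorem E102274 : n128637 = n128631 := (c19_1 (iv1 F206923) F358328 F202430 (iv3 D109226) (iv1 D50400) D50401 (iv4 F330476) F111470 (iv1 F100349) F100350 (iv4 F78566) (iv3 F78950) (iv1 F78952) (iv5 D28733) (iv4 D13703) (iv3 D6523) (iv1 F10598) (iv5 F22864) (iv4 F46354) (iv3 F95095))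
theorem F358331 : act 0 n128631 = n60497 := (sb E102274 (iv1 D128637))
theorem F358332 : act 1 n128631 = n60499 := (sb E102274 F206923)
theorem E102275 : n135498 = n125941 := ((((iv3 F358329)).symm.trans (sb E102274 F217903))).symm
theorem F358333 : act 4 n125941 = n63710 := (sb E102275 (iv4 D135498))
theorem E102276 : n135496 = n129639 := (c1_2 F358333 (iv2 F217902) F349612 (iv2 F202432))
theorem F358334 : act 2 n129639 = n63710 := (sb E102276 F217902)
theorem F358335 : act 7 n129639 = n63709 := (sb E102276 (iv7 D135496))
theorem F358336 : act 4 n135491 = n113556 := d11_3 (iv7 F202433) F358333 F217899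
theorem E102277 : n135493 = n125947 := ((c1_2 F358336 (iv2 F202444) (iv4 D135493) D135491)).symm
theorem F358337 : act 4 n125947 = n63709 := (sb E102277 (iv4 D135493))
theorem E102278 : n135491 = n129640 := ((c18_3 F164615 F164613 (iv1 F207822) F358336 (iv5 D113556) F161391 (iv0 D28117) (iv4 F45432) D59204 (iv5 F343556))).symm
theorem F358338 : act 2 n129640 = n63709 := (sb E102278 (iv2 D135491))
theorem E102279 : n128627 = n113556 := (((iv4 F207823)).symm.trans (sb E102278 F358336))
theorem F358339 : act 7 n129640 = n63710 := (sb E102278 (iv7 F217899))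
theorem F358340 : act 3 n113556 = n60495 := (sb E102279 (iv3 D128627))
theorem F358341 : act 4 n113556 = n129640 := (sb E102279 F207823)
theorem F358342 : act 4 n132390 = n113562 := d9_3 D113556 F358341 (iv5 F212430) (iv5 F203116) (iv4 D126317) (iv5 D59214) (iv4 F161334) D113559 (iv4 F349612) (iv5 F343603) (iv4 F349611) (iv5 F203105) (iv4 D126314) (iv5 D59209) (iv4 F161391)
theorem F358343 : act 3 n113563 = n134929 := d20_3 F358342 (iv1 D113562) D113563 (iv1 D134929) (iv3 D63414) (iv4 D29959) D29958 F48157 D62118 D132390
theorem F358344 : act 7 n129123 = n132390 := d13_2 F358339 (iv5 F217904) F212430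
theorem F358345 : act 2 n132390 = n129124 := d15_3 (iv0 F343590) F343591 F358344
theorem F358346 : act 2 n129123 = n132391 := d15_3 (iv0 F343596) F343597 (iv7 F358344)
theorem F358347 : act 7 n132391 = n129124 := d4_2 (iv7 F358344) F358346 (iv2 F358345)
theorem E102280 : n135494 = n129124 := ((c13_1 F358347 (iv5 D135494) (iv7 F358335) (iv5 F343603))).symm
theorem F358348 : act 5 n129124 = n63709 := (sb E102280 (iv5 D135494))
theorem E102281 : n128636 = n128626 := (c15_2 F358332 F206922 (iv7 F206918) (iv2 F206919))
theorem F358349 : act 0 n128626 = n60499 := (sb E102281 (iv1 F206922))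
theorem F358350 : act 1 n128626 = n60497 := (sb E102281 (iv0 D128636))
theorem F358351 : act 4 n128626 = n106784 := (sb E102281 F206921)
theorem F358352 : act 2 n106784 = n128628 := d1_1 F358351 (iv4 D128628) D128626
theorem F358353 : act 7 n106784 = n128633 := d11_2 F206918 F358351 (iv4 D128633)
theorem E102282 : n106794 = n106788 := (c8_2 F358353 F206920 (iv7 D106788) D106784)
theorem F358354 : act 0 n106788 = n49344 := (sb E102282 (iv1 D106794))
theorem F358355 : act 1 n106788 = n49346 := (sb E102282 F164591)
theorem F358356 : act 3 n106788 = n128633 := (sb E102282 (iv3 F206920))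
theorem F358357 : act 1 n131938 = n128633 := d15_1 (iv0 F211631) (iv7 F358353) F358352
theorem E102283 : n106793 = n106783 := (c15_2 F358355 F164590 (iv7 F164588) (iv2 F164589))
theorem F358358 : act 0 n106783 = n49346 := (sb E102283 (iv1 F164590))
theorem F358359 : act 1 n106783 = n49344 := (sb E102283 (iv0 D106793))
theorem F358360 : act 3 n106783 = n106536 := (sb E102283 (iv3 F340424))
theorem F358361 : act 5 n106783 = n106533 := (sb E102283 F340423)
theorem E102284 : n106786 = n97272 := ((c2_2 F358361 (iv2 F340420) (iv5 D106786) D106783)).symm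
theorem F358362 : act 5 n97272 = n49342 := (sb E102284 (iv5 D106786))
theorem E102285 : n106791 = n97289 := ((c13_3 F164588 F358361 (iv7 F340418) (iv5 D106791))).symm
theorem F358363 : act 5 n97289 = n49343 := (sb E102285 (iv5 D106791))
theorem F358364 : act 5 n106789 = n106537 := d6_2 F358363 D106789 F340416
theorem F358365 : act 5 n106790 = n142827 := d16_3 D97289 F358363 D106790 F225722 F334481 (iv4 D45440) D45441 (iv7 F288194) F288193
theorem F358366 : act 5 n114951 = n135247 := d6_2 F358365 (iv3 F348980) F217442
theorem F358367 : act 2 n135247 = n126459 := d2_1 F358366 F332580 (iv2 F179030)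
theorem F358368 : act 6 n135247 = n148780 := d12_2 F179029 F358366 (iv5 F233582) (iv6 D112952) (iv5 F163447)
theorem F358369 : act 7 n135247 = n126458 := d13_2 (iv7 F179027) F358366 F332578
theorem F358370 : act 7 n106536 = n106789 := d13_0 F358364 (iv7 D106537) D106536
theorem E102286 : n106797 = n97302 := (c17_9 (iv1 D45449) (iv5 D21683) D21681 D45441 D97272 F358362 (iv0 D49342) D49345 D106797 (iv4 D97302))
theorem F358371 : act 0 n97302 = n49345 := (sb E102286 (iv1 D106797))
theorem F358372 : act 1 n97302 = n110772 := (sb E102286 F171466)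
theorem F358373 : act 3 n97302 = n164416 := (sb E102286 (iv3 F341603))
theorem F358374 : act 4 n164410 = n97301 := d5_4 D97302 F358373 (iv4 D164416) (iv3 F259049) (iv3 D97301)
theorem F358375 : act 0 n97301 = n164487 := d17_0 (iv5 D164487) (iv1 F259106) F340438 F167275 F82491 D78983 D164460 (iv0 F290527) F358374
theorem F358376 : act 2 n110770 = n97302 := d15_3 F358372 (iv0 F340397) F340405
theorem E102287 : n132129 = n97307 := ((c20_4 (iv4 D97302) (iv1 D45449) D45450 D97307 (iv1 D132129) (iv3 F341614) (iv4 F341616) (iv1 D106693) (iv4 F164222) F325495 (iv1 F358372))).symm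
theorem F358377 : act 0 n97307 = n61989 := (sb E102287 (iv1 D132129))
theorem F358378 : act 5 n185724 = n163423 := d21_0 (iv1 D163423) F294907 (iv6 F150045) F358377 (iv6 D61989) F47009 (iv1 F46947) D61846 D131801 F358224
theorem F358379 : act 7 n110771 = n97302 := d15_2 (iv0 D110770) D110771 (iv2 F358376)
theorem F358380 : act 2 n97297 = n110771 := d4_3 F358379 (iv2 F358376) (iv7 F340405)
theorem F358381 : act 4 n96559 = n110771 := d11_3 F358379 (iv4 D97302) (iv7 F340408)
theorem F358382 : act 3 n166678 = n109870 := d8_1 F358148 F169878 D109920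
theorem F358383 : act 2 n157792 = n125786 := d1_3 F202299 F358147 (iv4 F262325)
theorem E102288 : n160442 = n111583 := (c20_8 F169862 (iv1 F80032) D50694 D109920 F358145 F262331 F254032 (iv1 F253442) F173121 (iv3 D109903) (iv1 F169875))
theorem F358384 : act 0 n111583 = n76907 := (sb E102288 (iv1 D160442))
theorem F358385 : act 1 n111583 = n124283 := (sb E102288 F253442)
theorem F358386 : act 3 n137074 = n158051 := d6_3 F358118 F220247 D137074
theorem F358387 : act 6 n158048 = n137074 := d7_0 F358386 (iv6 D158051) D158048
theorem F358388 : act 2 n137094 = n158048 := d3_3 F358387 F220249 (iv6 F220257)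
theorem F358389 : act 7 n180634 = n137094 := d15_2 (iv0 F254195) D180634 F358388
theorem F358390 : act 5 n137095 = n180634 := d13_3 F358389 (iv5 D137094) D137095
theorem F358391 : act 3 n173265 = n104765 := d6_3 F358116 (iv3 F323914) (iv5 F271626)
theorem F358392 : act 7 n127546 = n96403 := d13_2 D104765 F358116 F148400
theorem E102289 : n137252 = n104595 := (c19_20 (iv1 F160489) F358116 F205013 F320728 F302667 F314099 F301439 (iv3 F108179) F108477 (iv5 D71994) D71993 (iv3 F324079) F324077 (iv5 F306764) (iv4 F321760) F169738 F99577 F99575 D64510 D137252)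
theorem F358393 : act 3 n104595 = n64510 := (sb E102289 (iv3 D137252))
theorem E102290 : n104760 = n83295 := (c8_4 (iv7 F271625) F358391 (iv7 D104765) (iv3 F160479))
theorem E102291 : n174268 = n48440 := ((D174268).symm.trans (sb E102290 F160479))
theorem E102292 : n174269 = n48438 := ((D174269).symm.trans (sb E102290 (iv6 D104760)))
theorem F358394 : act 3 n48440 = n83295 := (sb E102291 (iv3 D174268))
theorem F358395 : act 6 n48438 = n83295 := (sb E102292 (iv6 D174269))
theorem E102293 : n174187 = n104596 := ((c20_5 F300942 D174906 F273804 F358391 (iv1 F160488) (iv3 D174187) (iv4 D83261) (iv1 D38336) D38337 D83264 (iv1 F346340))).symm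
theorem F358396 : act 3 n104596 = n83261 := (sb E102293 (iv3 D174187))
theorem F358397 : act 4 n104596 = n162753 := (sb E102293 F272978)
theorem F358398 : act 0 n162753 = n104796 := d18_2 (iv1 F160488) F358397 F160608 (iv5 F159130) (iv4 F340605) F353937 (iv4 F346350) (iv0 F337360) (iv5 F358116)
theorem F358399 : act 6 n173264 = n104757 := d3_2 F358395 F271621 F160467
theorem F358400 : act 6 n174115 = n104759 := d10_2 F358395 (iv4 F272920) (iv4 D104759)
theorem F358401 : act 3 n111806 = n104764 := d20_3 F81350 D51553 D111806 (iv1 D104764) F358394 (iv4 F272920) F272921 (iv4 F276220) F354546 (iv1 D111803)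
theorem F358402 : act 3 n104763 = n124464 := d20_5 (iv4 F273811) (iv1 F273813) F272920 (iv3 F358394) D104763 (iv4 D124464) F117713 D82908 D173249 F346335
theorem F358403 : act 2 n104595 = n104763 := d0_5 F358402 F199059 (iv3 F327056) F173576 (iv3 F358393)
theorem F358404 : act 4 n158829 = n104763 := d5_0 F358402 (iv4 D124464) (iv3 F297357) D75779 D158829
theorem F358405 : act 6 n158829 = n104763 := d7_0 F358402 F199060 D158829
theorem F358406 : act 7 n104596 = n104763 := d8_0 F358402 F199061 (iv3 F358396)
theorem F358407 : act 0 n104629 = n158829 := d20_7 (iv4 D88652) F299334 (iv4 F299377) (iv3 F353287) (iv1 F340595) F160329 (iv4 F160332) F358404 F358402 F199062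
theorem F358408 : act 7 n158829 = n162753 := d11_2 F358406 (iv4 F358404) (iv4 F358397)
theorem F358409 : act 2 n104596 = n104764 := d15_3 F160484 F160487 (iv7 F358406)
theorem F358410 : act 7 n104764 = n104595 := d4_2 (iv7 F358406) F358409 F358403
theorem F358411 : act 2 n163264 = n176708 := d3_1 F358104 F354479 (iv2 F348779)
theorem F358412 : act 7 n176707 = n163264 := d15_2 (iv0 F328209) F328210 F358411
theorem F358413 : act 7 n163265 = n176708 := d15_2 (iv0 D163264) D163265 (iv2 F358411)
theorem F358414 : act 2 n176707 = n163265 := d4_3 F358413 (iv2 F358411) (iv7 F358412)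
theorem F358415 : act 5 n160831 = n104596 := d17_1 D160831 (iv1 D104596) (iv5 F147000) F358102 (iv5 F351974) (iv0 D133044) (iv5 F336539) (iv0 D77242) (iv4 F115935)
theorem F358416 : act 3 n160837 = n160831 := d6_3 F358415 F358396 (iv5 F300948)
theorem F358417 : act 5 n184426 = n185461 := d17_7 (iv1 F343696) F343699 D160831 F358415 F358397 (iv5 F348124) (iv0 F355459) F337345 F272489
theorem F358418 : act 6 n165765 = n160831 := d21_5 (iv5 F70787) F76086 D44859 (iv6 F327915) D165765 F358415 (iv1 D104596) (iv5 F147000) (iv6 D95370) (iv1 F70786)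
theorem F358419 : act 4 n158791 = n160831 := d20_8 (iv4 F343707) (iv1 D111624) (iv4 F173169) F173168 (iv1 F169743) D109751 F358122 F344721 (iv3 F358416) (iv1 D160837)
theorem F358420 : act 5 n97475 = n158053 := d12_5 F358099 (iv5 D97477) (iv6 D45521) D45520 D97475
theorem F358421 : act 6 n160864 = n104680 := d7_2 D104683 F358095 (iv3 D104680)
theorem F358422 : act 7 n158049 = n104666 := d15_2 F358094 (iv0 F254194) (iv2 F340365)
theorem F358423 : act 6 n95862 = n160976 := d21_3 (iv5 D44761) D44759 D95862 (iv1 F358094) (iv6 D104683) (iv5 F340364) (iv1 F138002) F137999 F358002 (iv1 D95870)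
theorem F358424 : act 4 n176888 = n95862 := d10_3 F358423 F254192 D176888
theorem F358425 : act 6 n166718 = n104817 := d14_3 (iv7 F321392) F358423 (iv7 F262428) F290450 F321390
theorem F358426 : act 3 n104817 = n147708 := d7_1 F358425 F334024 D166718
theorem F358427 : act 3 n103258 = n101618 := d19_7 (iv1 F333977) F231458 (iv4 F231454) (iv3 F358426) (iv1 D104817) F76221 (iv4 F158502) F316745 (iv5 D164523) (iv4 F205749) (iv3 F205748) (iv1 D127862) (iv5 F98084) F209846 (iv3 D107873) (iv1 D49820) F38075 (iv4 F53322) (iv3 F110784)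
theorem F358428 : act 6 n101618 = n103256 := d7_2 D103258 F358427 (iv3 D103256)
theorem F358429 : act 6 n175103 = n126752 := d21_5 (iv5 D164523) (iv1 D79012) D79013 (iv6 F128692) D175103 (iv5 D126752) F329607 (iv5 F294115) (iv6 F358428) F316745
theorem F358430 : act 7 n147671 = n176888 := d11_0 F358424 F321392 (iv4 F231436)
theorem F358431 : act 4 n112221 = n104850 := d20_0 (iv1 F335115) (iv4 F358424) F276259 (iv1 F334027) (iv3 D112273) (iv4 D51790) (iv1 F39561) (iv4 F79980) (iv3 F169678) (iv1 F174515)
theorem F358432 : act 6 n104848 = n112221 := d10_0 F358431 (iv6 D104850) D104848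
theorem F358433 : act 3 n104850 = n155948 := d20_3 F337325 (iv1 F174515) F358431 (iv1 F244962) (iv3 F244977) F244978 (iv1 F168592) D109041 (iv3 F169851) (iv1 F337322)
theorem F358434 : act 6 n155948 = n104847 := d7_2 D104850 F358433 (iv3 D104847)
theorem F358435 : act 7 n103753 = n104850 := d8_0 F358433 F355949 (iv3 F321386)
theorem F358436 : act 7 n112221 = n109691 := d11_2 F358435 (iv4 F358431) (iv4 F321387)
theorem F358437 : act 2 n104850 = n147701 := d15_3 (iv0 D147701) (iv0 F321385) F358435
theorem F358438 : act 2 n109690 = n112221 := d1_3 F358431 F358437 F231450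
theorem F358439 : act 6 n147701 = n104782 := d3_2 D104850 F358437 F356898
theorem F358440 : act 7 n112220 = n109690 := d15_2 F174515 F174510 F358438
theorem F358441 : act 2 n112220 = n109691 := d4_3 (iv7 F358436) (iv2 F358438) (iv7 F358440)
theorem F358442 : act 0 n104666 = n166718 := d20_1 F358091 F262427 (iv3 D158899) (iv1 D75817) (iv3 D34669) (iv4 D16790) (iv1 F27445) (iv4 F54697) (iv3 F112884) (iv1 F358090)

end Cfsg.Agent.Helper17.ONTC
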