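import Cfsg.Agent.Helper17.ONTC.Facts43

set_option autoImplicit false
set_option linter.all false

noncomputable section

namespace Cfsg.Agent.Helper17.ONTC

theorem E102294 : n158057 = n158047 := (c15_2 F358090 F249004 (iv7 F249002) (iv2 F249003))
theorem F358443 : act 0 n158047 = n75290 := (sb E102294 (iv1 F249004))
theorem F358444 : act 1 n158047 = n75288 := (sb E102294 (iv0 D158057))
theorem F358445 : act 5 n97479 = n129037 := d2_2 D163449 F354385 F341823
theorem F358446 : act 6 n129037 = n125305 := d12_2 D97479 F358445 (iv5 D125305) F296415 F294073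
theorem F358447 : act 3 n125305 = n167774 := d7_1 F358446 F334343 (iv3 F341824)
theorem F358448 : act 2 n138480 = n180034 := d16_9 (iv4 D180034) (iv5 D86032) (iv4 D39802) (iv5 D18824) D18823 D39798 D86024 (iv5 F354378) F354379
theorem F358449 : act 0 n178878 = n138939 := d20_7 F95719 F46647 (iv4 F82360) (iv3 F331340) (iv1 F354248) F318271 D178878 (iv4 D138939) F100979 (iv1 F95721)
theorem F358450 : act 3 n154377 = n111188 := d7_1 F354227 (iv6 D111188) D111187
theorem F358451 : act 4 n162718 = n147824 := d5_2 D147804 F354139 (iv3 D147824) (iv4 D69261) (iv3 F105521)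
theorem E102295 : n133365 = n128255 := (c10_3 D128257 F354119 D133365 (iv4 D128255))
theorem F358452 : act 1 n128255 = n144547 := (sb E102295 F354135)
theorem F358453 : act 2 n128255 = n62595 := (sb E102295 F214419)
theorem F358454 : act 6 n128255 = n62593 := (sb E102295 (iv6 D133365))
theorem F358455 : act 4 n133372 = n147800 := d16_2 F354114 D133372 (iv5 D147800) (iv4 D69249) D69250 D147804 F231554 F231557 (iv2 F231558)
theorem F358456 : act 3 n119166 = n122357 := d19_15 (iv1 F214089) (iv5 D62580) (iv4 F97576) (iv3 F354113) (iv1 D128066) (iv5 D60181) F46175 (iv3 F37305) D48982 (iv5 F321843) F317131 F314863 (iv1 F314861) F103905 (iv4 F187516) F195931 (iv5 F301991) F329109 D133240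
theorem F358457 : act 2 n158578 = n130438 := d0_3 F358456 (iv2 F301448) (iv3 F304271) F208949 (iv2 F187515)
theorem F358458 : act 5 n135012 = n119166 := d6_0 F358456 F328117 D135012
theorem F358459 : act 7 n170664 = n119166 := d8_0 F358456 F299246 D170664
theorem F358460 : act 2 n130876 = n170664 := d4_3 F358459 F187515 D130876
theorem F358461 : act 4 n119169 = n170664 := d11_3 F358459 F187516 D119169
theorem F358462 : act 1 n130874 = n170664 := d15_1 D130874 F358459 F187515
theorem F358463 : act 3 n130884 = n154016 := d20_9 F308501 (iv1 D72157) (iv4 F108590) F108589 D81804 D170664 (iv4 F358461) (iv1 F187523) D130884 (iv1 F308500)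
theorem F358464 : act 5 n154014 = n130884 := d6_0 F358463 (iv5 D154016) D154014
theorem F358465 : act 0 n98538 = n154014 := d17_2 (iv1 D98535) D98538 F358464 (iv4 D130884) D130885 (iv0 F354310) (iv5 D181684) F306191 F305760
theorem F358466 : act 1 n170664 = n130873 := d15_0 (iv0 D130873) D130876 F358460
theorem F358467 : act 2 n130875 = n135012 := d2_3 F358458 F187515 D130875
theorem F358468 : act 5 n123988 = n134292 := d12_5 (iv6 F217234) F358458 (iv6 D119166) (iv5 F311800) D123988
theorem F358469 : act 5 n173413 = n155707 := d21_0 (iv1 D155707) D155708 (iv6 F320268) F354053 (iv6 D61787) F211043 (iv1 F96738) (iv5 F212097) (iv6 F310059) F343388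
theorem F358470 : act 2 n155707 = n173416 := d2_1 F358469 (iv5 D173416) (iv2 F271882)
theorem F358471 : act 0 n104146 = n174460 := d18_2 (iv1 D155707) (iv4 F329674) F273334 F128505 (iv4 F128419) (iv0 F303173) F303175 (iv0 F348694) F358469
theorem F358472 : act 7 n133864 = n130366 := d8_2 F354052 F354051 (iv3 F341652)
theorem F358473 : act 4 n130366 = n139270 := d11_1 F358472 F313931 (iv4 F313047)
theorem F358474 : act 5 n128128 = n183129 := d16_3 F311475 (iv5 F311477) (iv4 F206219) F284742 (iv5 F134919) (iv4 F336305) F336306 (iv7 F358472) F313046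
theorem F358475 : act 5 n183150 = n142081 := d12_5 (iv6 F349006) F358474 (iv6 D183129) (iv5 F134178) D183150
theorem F358476 : act 4 n142009 = n104190 := d16_0 F159723 (iv4 F284752) F358475 F225105 (iv5 D116621) (iv4 F181474) D142011 F225045 (iv2 F225038)
theorem F358477 : act 0 n140835 = n183150 := d17_2 (iv1 F180374) D140835 F358475 F225105 (iv5 D116621) F181476 F321183 F319135 D69491
theorem F358478 : act 1 n140827 = n183150 := d17_6 (iv1 D31084) (iv5 D14698) D14695 F103123 D66074 D140827 F358475 F225103 (iv4 D66632)
theorem F358479 : act 4 n183151 = n114318 := d18_3 F358477 F284752 D183151 (iv5 D114318) F316767 F320093 (iv4 F103182) (iv0 F321309) D140835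
theorem E102296 : n184076 = n140733 := (c1_3 F358476 F159722 (iv4 F286020) (iv2 F225038))
theorem F358480 : act 4 n140733 = n87804 := (sb E102296 F286020)
theorem F358481 : act 6 n140733 = n87803 := (sb E102296 (iv6 D184076))
theorem F358482 : act 6 n104189 = n142009 := d10_0 F358476 (iv6 D104190) D104189
theorem F358483 : act 0 n104190 = n140549 := d18_2 (iv1 F225041) F358476 (iv4 D140549) (iv5 D65963) D65962 (iv0 F180750) (iv4 F180217) (iv0 D115824) D115827
theorem F358484 : act 1 n104190 = n140560 := d18_6 F84422 (iv4 F84421) (iv1 F181462) F181463 D142009 F358476 (iv4 D140560) F180973 (iv5 D66523)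
theorem F358485 : act 1 n140560 = n184079 := d15_1 F358484 (iv7 D184079) (iv2 F159722)
theorem F358486 : act 1 n184079 = n140549 := d15_1 F358485 (iv7 F224935) F224934
theorem F358487 : act 4 n184079 = n142011 := d18_7 (iv1 F180222) F322668 F322067 F84885 D65967 D140560 F358485 F225047 (iv5 D115844)
theorem F358488 : act 5 n142010 = n111023 := d12_3 F358482 (iv5 D142009) D142010 F345149 F294257
theorem E102297 : n184095 = n127824 := (c21_4 F345145 (iv1 F325007) F294999 D184095 (iv1 D127824) F340010 (iv5 D66598) D66595 D142009 (iv6 F358482) F159720)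
theorem F358489 : act 2 n127824 = n184581 := (sb E102297 (iv2 F286566))
theorem F358490 : act 4 n127824 = n87812 := (sb E102297 F286048)
theorem F358491 : act 6 n127824 = n87810 := (sb E102297 (iv6 D184095))
theorem F358492 : act 4 n111023 = n111963 := d16_2 (iv4 F322388) F358488 (iv5 D111963) F81513 (iv5 F340714) (iv4 F340717) (iv5 D154739) F190311 F230863
theorem F358493 : act 6 n111963 = n103346 := d10_2 (iv6 F345149) F358492 (iv4 F294256)
theorem F358494 : act 2 n103877 = n111963 := d3_3 F358493 (iv2 F293423) D103877
theorem F358495 : act 3 n103346 = n111965 := d7_1 F358493 (iv6 D111965) (iv3 F173990)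
theorem F358496 : act 5 n111965 = n103345 := d6_2 D103346 F358495 (iv3 D103345)
theorem F358497 : act 7 n111965 = n103872 := d8_2 (iv7 F293232) F358495 (iv3 D103872)
theorem F358498 : act 0 n155727 = n111965 := d20_4 (iv4 F185790) (iv1 D118250) F110828 D155727 (iv3 F358495) (iv4 F294256) (iv1 D103790) (iv4 D48053) F321142 (iv1 F107783)
theorem E102298 : n184201 = n155727 := (c17_2 (iv1 F154096) D184201 F358498 F358496 F158606 (iv5 F294731) (iv0 D100172) (iv5 D46752) D46749 D100164)
theorem F358499 : act 5 n155727 = n87858 := (sb E102298 (iv5 D184201))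
theorem F358500 : act 1 n155727 = n112025 := d15_1 (iv0 F358498) (iv7 D112025) (iv2 F173994)
theorem F358501 : act 5 n103852 = n150026 := d13_3 (iv7 F244737) F358499 (iv7 F159263)
theorem F358502 : act 2 n150026 = n184199 := d2_1 F358501 (iv5 D184199) (iv2 F159265)
theorem F358503 : act 0 n150026 = n103872 := d21_1 F358501 F159290 (iv6 D95682) F289533 (iv6 D87458) D87457 (iv1 F134838) (iv5 D87852) D87853 (iv1 F159262)
theorem E102299 : n150026 = n112022 := (c15_1 (iv0 F358503) (iv0 D112022) D112025 F340549)
theorem F358504 : act 0 n112022 = n103872 := (sb E102299 F358503)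
theorem F358505 : act 2 n112022 = n184199 := (sb E102299 F358502)
theorem F358506 : act 3 n112022 = n70584 := (sb E102299 (iv3 D150026))
theorem F358507 : act 4 n112022 = n70593 := (sb E102299 F236018)
theorem F358508 : act 5 n112022 = n103852 := (sb E102299 (iv5 F358501))
theorem F358509 : act 6 n112022 = n179093 := (sb E102299 (iv6 F279033))
theorem F358510 : act 7 n112022 = n155727 := (sb E102299 (iv7 F244737))
theorem F358511 : act 1 n184199 = n111965 := d15_0 (iv0 F358498) (iv7 F358510) F358505
theorem F358512 : act 4 n150044 = n184199 := d1_2 F358507 D150044 (iv2 F358505)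
theorem F358513 : act 7 n112023 = n184199 := d15_2 (iv0 D112022) D112023 (iv2 F358505)
theorem F358514 : act 2 n155727 = n112023 := d4_3 F358513 (iv2 F358505) F358510
theorem F358515 : act 5 n100861 = n112023 := d13_3 F358513 (iv5 D184199) F154964
theorem F358516 : act 0 n112021 = n103211 := d18_2 (iv1 D112023) (iv4 F174128) (iv4 D103211) (iv5 D47832) (iv4 F73296) F73864 (iv4 F134841) (iv0 F154962) F358515
theorem F358517 : act 6 n112028 = n155735 := d21_5 F358515 (iv1 D112023) D112024 F174129 D112028 F244747 (iv1 F187541) (iv5 F329945) (iv6 F75550) F154963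
theorem F358518 : act 7 n183235 = n112028 := d14_0 F358517 F244746 (iv6 F330007) F270441 D183235
theorem F358519 : act 0 n112028 = n96999 := d21_10 (iv5 F149599) F328682 F329882 (iv6 D87850) (iv1 F70585) D96204 F329977 D119189 (iv5 F244747) (iv6 F358517)
theorem F358520 : act 1 n112023 = n103872 := d15_0 (iv0 F358504) F358510 F358514
theorem F358521 : act 6 n103345 = n111966 := d12_2 D111965 F358496 (iv5 D111966) (iv6 D51639) D51638
theorem F358522 : act 3 n111966 = n89925 := d7_1 F358521 F293169 D103345
theorem F358523 : act 7 n111966 = n96999 := d14_2 F292163 F358521 (iv6 D96999) F71444 D95682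
theorem F358524 : act 1 n112029 = n96999 := d15_1 D112029 (iv7 F358523) F173996
theorem F358525 : act 2 n183235 = n112029 := d15_3 F358524 (iv0 F358519) (iv7 F358518)
theorem F358526 : act 6 n112029 = n97408 := d3_2 D183235 F358525 F270437
theorem F358527 : act 6 n184074 = n140330 := d7_2 F358481 D184074 F223833
theorem F358528 : act 0 n184581 = n127825 := d21_4 F294724 (iv1 F134850) (iv5 F294996) D184581 (iv6 F340011) (iv5 D116139) (iv1 F180923) (iv5 F223832) F358481 (iv1 F140498)
theorem F358529 : act 6 n140725 = n184056 := d21_3 (iv5 D66038) D66035 D140725 F286005 F153794 F325477 (iv1 F325474) F293322 (iv6 F358481) (iv1 D140733)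
theorem F358530 : act 4 n184057 = n140725 := d10_3 F358529 (iv4 D184056) D184057
theorem F358531 : act 4 n115770 = n136557 := d18_5 D66595 (iv4 F181463) F181461 (iv4 D116089) (iv5 F180363) (iv0 F338911) F358530 F223820 (iv5 D66598)
theorem F358532 : act 2 n136557 = n140576 := d1_1 F358531 (iv4 D140576) F180362
theorem F358533 : act 7 n136557 = n140573 := d11_2 (iv7 F180364) F358531 (iv4 D140573)
theorem F358534 : act 5 n136557 = n183151 := d16_1 F358531 F358479 (iv5 D114318) F316767 (iv5 D66893) F84421 (iv5 F180359) (iv7 F180361) F180362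
theorem F358535 : act 5 n136564 = n134741 := d19_5 D53505 (iv5 F180363) F358531 F219649 D136564 (iv4 D134741) F98551 D63321 F98553 (iv4 D50143) F38388 D28229 F45698 F39205 F19304 D11872 F19560 D12300 D25920
theorem F358536 : act 3 n179868 = n136564 := d6_3 F358535 F216770 F337492
theorem F358537 : act 7 n179863 = n136564 := d13_0 F358535 F216771 F337490
theorem F358538 : act 3 n183151 = n136566 := d6_1 F358534 (iv5 D136566) (iv3 F219649)
theorem F358539 : act 6 n183151 = n136560 := d12_2 D136557 F358534 (iv5 D136560) (iv6 D64197) D64196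
theorem E102300 : n136558 = n104243 := (c21_8 (iv5 D43022) (iv1 F67366) (iv5 F294356) D87424 D183151 F358539 (iv5 D136560) D136558 F159841 (iv6 D96108) F295227)
theorem F358540 : act 1 n104243 = n64197 := (sb E102300 (iv0 D136558))
theorem F358541 : act 7 n136559 = n183137 := d15_2 F358540 D136559 F284744
theorem F358542 : act 5 n183138 = n136559 := d13_3 F358541 (iv5 D183137) D183138
theorem F358543 : act 0 n136566 = n140467 := d20_10 (iv4 D140467) (iv1 F354212) F331087 (iv3 D91229) (iv1 D42705) (iv3 F66910) (iv4 F140235) F356662 (iv4 F358479) F358538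
theorem F358544 : act 3 n140573 = n136567 := d8_1 F358533 (iv7 D136567) (iv3 F219649)
theorem F358545 : act 0 n136567 = n179863 := d19_4 D31049 (iv5 F180140) D140573 F358544 (iv5 F337490) F169152 (iv3 D50393) (iv1 F78117) F78118 (iv4 D24512) (iv3 F38486) (iv1 F48739) (iv5 F78573) F78572 F39211 (iv1 F19564) (iv5 F11194) D7012 D14689
theorem F358546 : act 1 n135898 = n179863 := d15_0 (iv0 F358545) (iv7 D136567) (iv2 F218603)
theorem F358547 : act 6 n140576 = n136552 := d3_2 D136557 F358532 F219646
theorem F358548 : act 4 n136552 = n140577 := d10_1 F358547 (iv6 D140577) D140576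
theorem F358549 : act 2 n140577 = n136556 := d1_1 F358548 (iv4 D136556) (iv2 F219646)
theorem F358550 : act 1 n184581 = n114367 := d15_1 (iv0 F358528) (iv7 F178377) D127825
theorem E102301 : n184077 = n141894 := (c18_3 (iv1 F223831) F358480 D184077 (iv4 D141894) F180318 (iv4 F84229) F321954 (iv4 F322260) F101716 D66058)
theorem F358551 : act 1 n141894 = n87804 := (sb E102301 (iv0 D184077))
theorem E102302 : n184078 = n141891 := (c18_7 D31049 (iv4 F84763) (iv1 F321146) (iv4 F322867) (iv5 F223832) F358480 D184078 (iv4 D141891) (iv0 D66525) (iv5 D31052))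
theorem F358552 : act 0 n141891 = n87804 := (sb E102302 (iv1 D184078))
theorem F358553 : act 1 n174916 = n126888 := d17_6 (iv1 F353868) F353869 F346256 F308898 (iv4 F307124) D174916 F329421 D130366 F358473
theorem E102303 : n184348 = n153921 := ((c18_2 (iv1 D153920) D153921 (iv1 D184348) (iv4 F336305) F336306 F358473 F313928 F239787 F264114 F264113)).symm
theorem F358554 : act 0 n153921 = n87923 := (sb E102303 (iv1 D184348))
theorem F358555 : act 7 n135407 = n152160 := d15_2 F339289 D135407 F353873
theorem F358556 : act 2 n135407 = n130901 := d4_3 F209484 (iv2 F353873) (iv7 F358555)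
theorem F358557 : act 3 n126970 = n135407 := d0_0 F358556 (iv3 D130901) F105944 D129584 F320673
theorem E102304 : n172378 = n126970 := (c8_1 D172378 F358557 F358555 F353874)
theorem F358558 : act 7 n126970 = n82543 := (sb E102304 (iv7 D172378))
theorem F358559 : act 7 n139269 = n130375 := d13_0 F353869 F320144 (iv5 F315706)
theorem F358560 : act 3 n152163 = n167766 := d8_3 F353864 F239206 D152163
theorem F358561 : act 3 n152162 = n166216 := d6_3 F353863 F239206 D152162
theorem F358562 : act 6 n147762 = n104133 := d21_5 F292852 (iv1 F75160) D47902 D103372 F353756 (iv5 D104133) (iv1 D48188) D48189 F75729 D48195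
theorem F358563 : act 2 n184287 = n147762 := d3_3 F358562 F307388 D184287
theorem F358564 : act 4 n147394 = n184287 := d1_0 F358563 (iv4 D147762) (iv2 F233785)
theorem F358565 : act 7 n147747 = n184287 := d15_2 (iv0 F353756) F353757 F358563
theorem F358566 : act 6 n184286 = n147394 := d10_0 F358564 (iv6 D184287) D184286
theorem F358567 : act 2 n141060 = n184286 := d3_3 F358566 F233785 (iv6 F334595)
theorem F358568 : act 3 n177911 = n154500 := d20_5 F302311 (iv1 D177925) (iv4 D84702) (iv3 F129922) D177911 F242548 (iv1 F353737) F109657 (iv3 F90942) (iv1 F191926)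
theorem F358569 : act 6 n154499 = n177911 := d7_0 F358568 (iv6 D154500) D154499
theorem F358570 : act 6 n154521 = n185155 := d7_2 F353734 D154521 (iv3 D185155)
theorem E102305 : n148666 = n147812 := ((c20_4 (iv4 F334599) (iv1 F353733) (iv4 D147816) (iv3 F231575) (iv1 D148666) (iv3 D69674) (iv4 D32338) D32336 D69666 (iv3 F334592) (iv1 F231490))).symm
theorem F358571 : act 0 n147812 = n69674 := (sb E102305 (iv1 D148666))
theorem E102306 : n147810 = n109897 := ((c21_10 D147812 F358571 (iv5 F130725) (iv6 D85557) D85554 (iv6 F347908) F80478 (iv1 F45294) (iv5 F80046) D109897 (iv1 D147810))).symm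
theorem F358572 : act 0 n109897 = n69255 := (sb E102306 (iv1 D147810))
theorem F358573 : act 3 n149181 = n109899 := d20_9 (iv4 F169910) F358572 (iv4 F231539) (iv3 D147799) F105519 (iv3 F205184) F205185 (iv1 F317384) (iv4 F234550) (iv1 D109899)
theorem F358574 : act 4 n109899 = n147683 := d5_2 (iv4 F234550) F358573 (iv3 D147683) D147684 F319644
theorem F358575 : act 6 n109899 = n149179 := d7_2 D149181 F358573 (iv3 D149179)
theorem F358576 : act 6 n153857 = n154518 := d7_2 F353724 D153857 (iv3 D154518)
theorem E102307 : n154406 = n88209 := (c21_2 (iv5 D154409) D154406 F135148 (iv6 D87599) F293490 (iv6 F328364) D63005 D134130 F349806 D134222 F353723)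
theorem E102308 : n185062 = n73136 := ((D185062).symm.trans (sb E102307 (iv0 D154406)))
theorem F358577 : act 0 n73136 = n88209 := (sb E102308 (iv1 D185062))
theorem F358578 : act 1 n134222 = n135211 := d15_1 (iv0 F353723) F217389 (iv2 F349425)
theorem F358579 : act 5 n185061 = n135211 := d21_0 (iv1 F358578) (iv5 F353721) F353720 F355063 (iv6 D87712) (iv5 F64343) (iv1 F64445) (iv5 F62360) D88209 D185061
theorem F358580 : act 3 n135212 = n185061 := d6_3 F358579 (iv3 D135211) D135212
theorem F358581 : act 7 n153831 = n185061 := d13_0 F358579 F217389 F349424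
theorem F358582 : act 5 n154350 = n129086 := d16_5 (iv4 D73136) (iv5 D33683) (iv4 F52950) D73122 D154350 (iv4 F217388) (iv5 F358579) (iv7 F358581) F241676
theorem F358583 : act 3 n129087 = n154350 := d6_3 F358582 (iv3 D129086) D129087
theorem F358584 : act 6 n129534 = n154350 := d12_0 F358582 (iv6 F355995) (iv5 D126223) D126224 F355970
theorem F358585 : act 4 n185061 = n153832 := d16_6 (iv4 F52950) D73122 D154350 F358582 (iv4 F217388) (iv5 F358579) F241679 (iv7 D72766) F52864
theorem F358586 : act 2 n154410 = n185061 := d1_3 F358585 F241678 (iv4 F242464)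
theorem F358587 : act 1 n154410 = n94814 := d15_0 (iv0 F352430) F358581 (iv2 F358586)
theorem F358588 : act 1 n154407 = n185061 := d15_1 D154407 (iv7 F358581) F241676
theorem F358589 : act 2 n185063 = n154407 := d15_3 F358588 (iv0 D185061) D185063
theorem F358590 : act 5 n94815 = n154407 := d17_7 (iv1 F241681) D154404 (iv1 F357261) F287546 (iv4 F337933) F285258 F285257 F358588 F358585
theorem F358591 : act 7 n154407 = n94814 := d13_2 D94815 F358590 (iv5 D94814)
theorem F358592 : act 6 n154530 = n154407 := d21_5 (iv5 D72769) (iv1 F52869) (iv5 F52954) D73196 D154530 (iv5 F358590) (iv1 F285257) (iv5 F285258) (iv6 D88174) (iv1 F308279)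
theorem E102309 : n185067 = n154530 := (c14_1 D185067 F358592 F358591 F146160 F69718 D88211)
theorem F358593 : act 7 n154530 = n88211 := (sb E102309 (iv7 D185067))
theorem F358594 : act 3 n185060 = n102308 := d20_3 D73136 F358577 (iv4 F287446) F157125 D102703 (iv4 F348235) F348227 (iv4 F353686) (iv3 D154402) (iv1 D73135)
theorem F358595 : act 3 n102671 = n123908 := d20_3 (iv4 D47637) (iv1 F74878) D102671 (iv1 D123908) F90905 D73136 F358577 (iv4 F287446) F358594 F157125
theorem E102310 : n182521 = n154409 := (c21_6 (iv5 D40473) (iv1 D19128) D19130 D40482 D87131 D182521 (iv5 D154409) F358577 F135148 (iv6 D87599) F293490)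
theorem F358596 : act 6 n154409 = n87131 := (sb E102310 (iv6 D182521))
theorem E102311 : n182520 = n154528 := (c12_2 F358596 D182520 (iv6 D154528) (iv5 D73194) (iv6 F109622) D154409)
theorem F358597 : act 5 n154528 = n87131 := (sb E102311 (iv5 D182520))
theorem F358598 : act 4 n102307 = n185058 := d5_4 (iv4 F287446) F358594 (iv4 D102308) D102307 F287444
theorem F358599 : act 6 n102308 = n185059 := d7_2 D185060 F358594 (iv3 D185059)
theorem F358600 : act 4 n185059 = n102309 := d10_1 F358599 (iv6 D102309) D102308
theorem F358601 : act 3 n102309 = n185057 := d5_1 F358600 (iv4 D185057) (iv3 D88207) D88208 D185059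
theorem F358602 : act 2 n185057 = n185058 := d0_1 F358601 F287444 (iv2 F146159) (iv3 F147851) (iv2 F157127)
theorem F358603 : act 6 n185057 = n102307 := d7_2 D102309 F358601 (iv3 D102307)
theorem F358604 : act 5 n184962 = n134988 := d21_2 F353717 (iv1 F353718) (iv6 D134988) (iv1 F328744) (iv6 D87218) (iv5 D40517) (iv1 F294742) D40808 D87599 D183532
theorem F358605 : act 7 n185233 = n184962 := d13_0 F358604 F355002 (iv5 F353721)
theorem E102312 : n183533 = n154230 := (c21_9 (iv5 D101266) F304948 F328265 (iv6 D63442) D63438 D134988 (iv5 F358604) (iv1 D184962) F285258 (iv6 D154230) (iv1 F306910))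
theorem F358606 : act 0 n154230 = n87599 := (sb E102312 (iv1 D183533))
theorem F358607 : act 1 n154230 = n94815 := (sb E102312 F285257)
theorem F358608 : act 2 n154230 = n94813 := (sb E102312 (iv2 F286527))
theorem F358609 : act 5 n154230 = n88174 := (sb E102312 (iv5 F285258))
theorem F358610 : act 7 n154230 = n94812 := (sb E102312 (iv7 F286529))
theorem F358611 : act 2 n184962 = n185232 := d15_3 (iv0 D185232) D185233 F358605
theorem F358612 : act 7 n154391 = n185232 := d4_2 (iv7 F358605) (iv2 F355070) (iv2 F358611)
theorem E102313 : n184961 = n154391 := ((c15_4 (iv0 D184961) D184962 (iv7 F358605) (iv2 F355070))).symm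
theorem F358613 : act 1 n154391 = n88174 := (sb E102313 (iv0 D184961))
theorem F358614 : act 4 n180359 = n183491 := d18_3 F358606 (iv4 F295052) D180359 F353763 (iv4 F283733) (iv0 F354904) F354903 F358613 (iv5 F358609)
theorem F358615 : act 3 n102339 = n123825 := d20_3 F151037 (iv1 F137249) (iv4 F157148) (iv1 F353710) F287539 (iv4 F337933) (iv1 F358613) (iv4 F354903) (iv3 D97987) D97986
theorem F358616 : act 3 n123905 = n99285 := d8_3 (iv7 F157151) F358615 (iv7 F341490)
theorem F358617 : act 5 n99285 = n92510 := d6_2 D123905 F358616 F346099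
theorem F358618 : act 1 n154443 = n185232 := d15_1 F353719 (iv7 F358612) F355070
theorem E102314 : n185379 = n154403 := ((c11_2 F353691 D154403 (iv7 D185379) (iv4 F337986))).symm
theorem F358619 : act 5 n154403 = n183493 := (sb E102314 F287616)
theorem F358620 : act 7 n154403 = n88314 := (sb E102314 (iv7 D185379))
theorem F358621 : act 7 n154405 = n185071 := d14_2 F353691 D154405 (iv6 D185071) F337976 (iv6 F310885)
theorem F358622 : act 5 n185071 = n159410 := d13_1 F358621 F251034 (iv5 F357256)
theorem F358623 : act 3 n159411 = n185071 := d6_3 F358622 (iv3 D159410) D159411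
theorem F358624 : act 0 n185296 = n159410 := d21_1 D185296 (iv5 F358622) (iv6 D185071) (iv1 D88213) (iv6 F337962) (iv5 D22822) F17306 (iv5 F30992) D41199 D88284
theorem F358625 : act 5 n184097 = n185290 := d17_7 D88284 D185296 F358624 (iv5 F358622) F287455 F285735 D184097 (iv0 D185290) F135190
theorem F358626 : act 6 n185070 = n159411 := d7_0 F358623 (iv6 D185071) D185070
theorem F358627 : act 0 n185070 = n183759 := d21_4 (iv5 D118863) (iv1 F114292) D159411 (iv6 F358626) (iv6 D183759) (iv5 D87675) (iv1 F72132) (iv5 F150990) F352728 F251015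
theorem F358628 : act 2 n112771 = n121736 := d3_1 F353672 F348459 F278250
theorem E102315 : n154330 = n146140 := (c21_4 F191878 (iv1 F123578) F123579 D154330 F332157 (iv6 F353672) (iv5 F311314) (iv1 D120148) D120150 (iv6 F342216) F206069)
theorem F358629 : act 6 n146140 = n73116 := (sb E102315 (iv6 D154330))
theorem F358630 : act 6 n121483 = n166145 := d14_5 (iv7 F318787) F358629 F198188 F298810 (iv7 F303164)
theorem F358631 : act 1 n146140 = n112579 := d15_1 (iv0 F332157) F348460 (iv2 F358628)
theorem F358632 : act 7 n172169 = n148817 := d8_2 D148821 F353669 (iv3 D148817)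
theorem F358633 : act 0 n174040 = n147172 := d18_0 F230755 (iv1 D134818) F98646 D108019 (iv4 F166937) (iv0 D69785) (iv4 F105203) D147152 F353662
theorem F358634 : act 3 n126191 = n174040 := d20_3 (iv4 D59164) D59161 D126191 F358633 (iv3 D147172) (iv4 F320028) F320026 F204808 F202960 (iv1 D126202)
theorem F358635 : act 6 n147172 = n125446 := d21_5 (iv5 D38301) D38299 D83206 D174040 F358633 (iv5 F254062) (iv1 D121758) (iv5 F194346) D80036 (iv1 F330837)
theorem F358636 : act 2 n125449 = n147172 := d3_3 F358635 (iv2 D125446) D125449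
theorem F358637 : act 6 n170869 = n134818 := d10_2 F358635 (iv4 F268477) (iv4 F230755)
theorem F358638 : act 2 n134818 = n108913 := d3_1 F358637 F349856 F268478
theorem F358639 : act 3 n134818 = n170871 := d7_1 F358637 (iv6 D170871) D170869
theorem F358640 : act 5 n107026 = n174859 := d21_2 (iv5 F332994) (iv1 F164964) (iv6 F334613) (iv1 F216949) (iv6 F358637) (iv5 F354674) (iv1 F354679) (iv5 D157955) D157956 F330873
theorem F358641 : act 1 n174859 = n144325 := d17_8 (iv1 D174038) (iv5 D83206) (iv1 F127689) (iv5 F330840) (iv4 F333006) (iv5 D107027) D107026 F358640 (iv4 F342032)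
theorem F358642 : act 1 n144325 = n111497 := d15_1 F358641 F173029 F345262
theorem F358643 : act 3 n175636 = n109179 := d20_3 (iv4 D174859) F128871 D175636 (iv1 F170407) F330457 F92839 (iv1 F103626) (iv4 F103642) D144325 (iv1 F358641)
theorem F358644 : act 5 n107028 = n157152 := d17_5 (iv1 F308627) (iv5 D83762) D83760 (iv5 F330870) (iv4 F342030) (iv0 D157152) (iv5 F227056) F358642 F332198
theorem F358645 : act 3 n174038 = n158973 := d20_3 (iv4 F332198) (iv1 F358642) (iv4 F342032) (iv1 D158973) (iv3 F116130) (iv4 F323210) (iv1 F88564) (iv4 F322029) F310716 (iv1 F262973)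
theorem E102316 : n145400 = n145346 := (c21_5 F345261 (iv1 F358642) F227056 F112137 D145400 (iv6 D145346) F228319 (iv1 F78341) (iv5 D49598) (iv6 F78167) D107025)
theorem F358646 : act 1 n145346 = n68169 := (sb E102316 (iv0 D145400))
theorem F358647 : act 4 n158973 = n144311 := d5_2 (iv4 F342032) F358645 F227025 (iv4 F103642) D144325
theorem F358648 : act 0 n144311 = n110948 := d20_7 F315656 (iv1 F315648) F96317 (iv3 F314375) (iv1 F272783) F358645 F358647 F210773 F210772 (iv1 F104237)
theorem F358649 : act 5 n158980 = n138296 := d16_7 F111669 D144311 (iv4 F358647) F305098 (iv4 F135085) (iv5 F307023) F250669 (iv7 F245988) (iv2 D156465)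
theorem F358650 : act 3 n158974 = n180163 := d20_9 (iv4 D110290) (iv1 F80213) (iv4 F330462) F164908 (iv1 F103626) (iv3 F227025) (iv4 F358647) (iv1 D158973) D158974 F333473
theorem E102317 : n158974 = n111567 := ((c7_1 D111567 F358650 F280518 (iv3 F323985))).symm
theorem F358651 : act 3 n111567 = n180163 := (sb E102317 F358650)
theorem F358652 : act 4 n111567 = n75898 := (sb E102317 (iv4 D158974))
theorem F358653 : act 0 n111567 = n109240 := d20_4 (iv4 F344525) (iv1 F254955) D180163 (iv3 F358651) (iv3 D109240) (iv4 D50409) (iv1 D24569) (iv4 F38554) (iv3 F79757) D109179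
theorem F358654 : act 4 n109240 = n178890 := d18_3 (iv1 D158973) (iv4 F358652) F358653 (iv5 D178890) (iv4 D85290) (iv0 D39409) (iv4 F60334) F305096 (iv5 F305098)
theorem F358655 : act 3 n178890 = n109237 := d20_3 (iv4 F358652) F358653 F358654 F169186 (iv3 F332197) (iv4 F332198) (iv1 F358642) (iv4 F342032) F358645 (iv1 D158973)
theorem F358656 : act 7 n173462 = n178890 := d8_0 F358655 F170605 (iv3 F345385)
theorem F358657 : act 3 n164559 = n131433 := d20_5 F93479 (iv1 F161339) D109237 (iv3 F358655) (iv1 F278760) F210669 F210646 (iv4 F313005) F332177 F170610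
theorem E102318 : n178897 = n156464 := ((c17_3 (iv1 F250314) F358649 (iv1 F245990) (iv5 D178897) (iv4 D85300) (iv5 D39411) D39410 (iv5 F199946) F130929 (iv4 F184254))).symm
theorem F358658 : act 2 n156464 = n138294 := (sb E102318 F348680)
theorem F358659 : act 5 n156464 = n85300 := (sb E102318 (iv5 D178897))
theorem F358660 : act 7 n156464 = n138295 := (sb E102318 (iv7 F348679))
theorem F358661 : act 5 n156463 = n146659 := d17_7 F259428 F348720 F342056 (iv5 F307023) F250669 F358649 F245985 (iv0 F338232) F338235
theorem F358662 : act 2 n138295 = n156463 := d2_3 F358661 F229955 (iv5 F348678)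
theorem F358663 : act 7 n138294 = n156463 := d13_0 F358661 (iv7 F259409) (iv5 F345983)
theorem F358664 : act 6 n139472 = n156463 := d21_5 (iv5 F222663) (iv1 D139469) (iv5 D65454) D65455 D139472 F358661 (iv1 F278770) F338240 F171647 D110897
theorem F358665 : act 3 n154105 = n156464 := d6_3 F358659 D178896 (iv5 F342625)
theorem F358666 : act 1 n173222 = n107028 := d17_6 D138445 F357940 F205702 F337621 F167703 F337620 F358644 (iv0 D157152) F112136
theorem F358667 : act 0 n152247 = n131438 := d19_4 D157152 (iv5 F358644) F342030 (iv3 F330879) (iv5 D131438) F96278 (iv3 D34230) (iv1 D16563) (iv5 D7691) (iv4 D3486) (iv3 F5451) D7666 F22547 (iv4 F24022) (iv3 F48682) (iv1 F48686) F37779 (iv4 F53879) D74717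
theorem F358668 : act 6 n126335 = n160971 := d21_9 F254070 (iv1 F258467) F201643 (iv6 F330880) F358667 F307278 (iv5 D82980) D82978 (iv5 F333743) (iv1 D160971)
theorem E102319 : n173409 = n173338 := ((c21_10 (iv5 D82980) D82978 (iv5 F333743) F358668 (iv1 D160971) (iv6 F334011) (iv5 D53775) D53773 (iv5 F175075) (iv6 F340651) (iv1 D173409))).symm
theorem F358669 : act 0 n173338 = n82980 := (sb E102319 (iv1 D173409))
theorem E102320 : n174884 = n173408 := (c15_4 (iv0 D173408) (iv0 F358669) F271786 D174884)
theorem F358670 : act 2 n173408 = n83538 := (sb E102320 (iv2 D174884))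
theorem F358671 : act 3 n173408 = n83620 := (sb E102320 F273783)
theorem F358672 : act 6 n173408 = n112776 := (sb E102320 (iv6 F353490))
theorem F358673 : act 7 n173408 = n112556 := (sb E102320 F340652)
theorem E102321 : n174883 = n172016 := (c15_1 D174883 (iv0 F340646) (iv7 F358673) F358670)
theorem F358674 : act 0 n172016 = n83538 := (sb E102321 (iv1 D174883))
theorem F358675 : act 7 n107028 = n174060 := d15_2 F337618 F358666 F342038
theorem E102322 : n108916 = n107023 := (c17_5 (iv1 F330876) (iv5 F320327) D80167 (iv5 F332203) F171154 (iv5 D107023) F164960 F337620 F358666 F342030)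
theorem F358676 : act 2 n107023 = n174859 := (sb E102322 F345262)
theorem F358677 : act 3 n107023 = n50290 := (sb E102322 F168933)
theorem F358678 : act 4 n107023 = n110584 := (sb E102322 (iv4 F171154))
theorem F358679 : act 6 n107023 = n50289 := (sb E102322 (iv6 D108916))
theorem F358680 : act 7 n107023 = n111497 := (sb E102322 (iv7 F173029))
theorem E102323 : n107025 = n107015 := (c13_2 F358680 (iv5 F345261) (iv7 F164961) D107023)
theorem F358681 : act 0 n107015 = n49443 := (sb E102323 (iv1 F164963))
theorem F358682 : act 1 n107015 = n49441 := (sb E102323 (iv0 D107025))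
theorem F358683 : act 4 n107015 = n178157 := (sb E102323 (iv4 F345259))
theorem F358684 : act 5 n107015 = n111497 := (sb E102323 F345261)
theorem F358685 : act 6 n107015 = n178156 := (sb E102323 F345260)
theorem F358686 : act 2 n178156 = n107019 := d3_1 F358685 (iv6 D107019) D107015
theorem F358687 : act 4 n107019 = n178153 := d1_2 D178156 F358686 F277708
theorem F358688 : act 6 n178153 = n107017 := d10_2 D107019 F358687 (iv4 D107017)
theorem F358689 : act 2 n107017 = n178157 := d3_1 F358688 (iv6 D178157) (iv2 F277708)
theorem F358690 : act 1 n124842 = n107022 := d15_1 (iv0 F316129) (iv7 F349768) (iv2 F358689)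
theorem E102324 : n108917 = n107021 := (c20_5 (iv4 D125163) D125161 F309720 (iv3 F245365) F332216 (iv3 D107021) D107022 (iv1 F358690) F316130 (iv3 D138994) (iv1 F313644))
theorem F358691 : act 1 n107021 = n156142 := (sb E102324 (iv0 F332216))
theorem F358692 : act 2 n107021 = n140391 := (sb E102324 (iv2 F223524))
theorem F358693 : act 5 n107021 = n50290 := (sb E102324 (iv5 D108917))
theorem F358694 : act 7 n107021 = n111498 := (sb E102324 (iv7 F173030))
theorem F358695 : act 3 n111498 = n107015 := d8_1 F358694 (iv7 F164961) D107021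
theorem F358696 : act 0 n139017 = n111498 := d20_4 (iv4 D60349) D60347 (iv4 F313032) D139017 F358695 F358683 (iv1 F345263) (iv4 F246676) (iv3 D156774) (iv1 F314326)
theorem F358697 : act 5 n109236 = n139017 := d17_1 (iv1 F222463) F358696 (iv5 D111498) F81197 F49112 (iv0 F166162) D126312 (iv0 F203096) F176738
theorem F358698 : act 6 n111016 = n140681 := d12_4 (iv6 F169185) F358697 F322896 (iv5 F172163) (iv5 D140681)
theorem F358699 : act 1 n139017 = n140391 := d17_6 (iv1 D24569) F18960 D24568 D50405 D109236 F358697 (iv5 D140391) F166161 (iv4 D50409)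
theorem F358700 : act 4 n156016 = n140391 := d20_6 (iv4 D34213) D34210 (iv4 F111513) (iv3 F245111) (iv1 F245114) D156016 (iv1 F358699) F245054 F245055 (iv1 D74631)
theorem F358701 : act 3 n140681 = n111018 := d7_1 F358698 (iv6 D111018) D111016
theorem F358702 : act 5 n111018 = n140680 := d6_2 D140681 F358701 (iv3 D140680)
theorem F358703 : act 6 n140680 = n139018 := d12_2 D111018 F358702 (iv5 D139018) F321207 (iv5 F166921)
theorem F358704 : act 1 n156137 = n107021 := d17_6 (iv1 F39272) F38431 (iv1 F39273) D51536 D111779 (iv5 F332215) F358693 (iv0 F166171) (iv4 D51530)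
theorem F358705 : act 2 n111497 = n107018 := d2_1 F358684 (iv5 D107018) D107015
theorem F358706 : act 0 n174060 = n107027 := d17_0 (iv5 D107027) (iv1 F358682) F358684 F332198 (iv5 D83532) F123113 F322027 (iv0 F322022) (iv4 F342039)
theorem F358707 : act 6 n107018 = n111496 := d3_2 D111497 F358705 (iv2 D111496)
theorem F358708 : act 7 n107018 = n174859 := d4_2 F358680 F358705 (iv2 F358676)
theorem E102325 : n107026 = n107020 := (c13_2 F358708 (iv5 F358640) (iv7 D107020) D107018)
theorem F358709 : act 0 n107020 = n49441 := (sb E102325 (iv1 D107026))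
theorem F358710 : act 1 n107020 = n49443 := (sb E102325 F164964)
theorem F358711 : act 5 n107020 = n174859 := (sb E102325 F358640)
theorem F358712 : act 3 n110285 = n161589 := d20_5 (iv4 D51535) (iv1 D25037) (iv4 F39270) (iv3 F80210) D110285 (iv4 D161589) (iv1 F332201) (iv4 F358678) F358677 (iv1 F166185)
theorem E102326 : n125314 = n110285 := (c5_1 (iv4 F201558) F358712 (iv4 D161589) F116510 (iv4 F322031) (iv3 F92699))
theorem F358713 : act 4 n110285 = n58683 := (sb E102326 F201558)
theorem F358714 : act 6 n110285 = n58682 := (sb E102326 (iv6 D125314))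
theorem F358715 : act 6 n161589 = n125312 := d7_2 (iv6 F358714) F358712 (iv3 D125312)
theorem F358716 : act 2 n125312 = n98245 := d3_1 F358715 (iv6 F274489) F274488
theorem F358717 : act 7 n98245 = n180170 := d4_2 (iv7 F201556) F358716 (iv2 D180170)
theorem F358718 : act 1 n98245 = n180168 := d15_0 (iv0 D180168) (iv7 F201556) F358716
theorem F358719 : act 1 n125312 = n180788 := d15_0 (iv0 F355395) (iv7 F358717) (iv2 F358716)
theorem F358720 : act 1 n163696 = n153593 := d18_8 (iv1 F353878) F187666 (iv1 F185768) F151416 (iv5 F321013) (iv4 F201555) F358719 F281418 (iv5 D153593)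
theorem F358721 : act 0 n162668 = n153596 := d20_7 (iv4 F281418) (iv1 F358719) F201555 (iv3 D58684) (iv1 F56310) (iv3 F119326) (iv4 F256908) (iv4 D153596) (iv3 F241417) (iv1 F358720)
theorem F358722 : act 1 n162666 = n153596 := d15_0 (iv0 F358721) (iv7 D162668) D162666
theorem E102327 : n153596 = n96384 := ((c21_4 (iv5 D21488) D21486 D45003 D96384 (iv1 F358722) F256905 D166710 (iv1 F344657) (iv5 F148381) (iv6 D96397) (iv1 D45009))).symm
theorem F358723 : act 0 n96384 = n162666 := (sb E102327 (iv1 F358722))
theorem F358724 : act 1 n96384 = n162668 := (sb E102327 (iv0 F358721))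
theorem F358725 : act 4 n96384 = n72627 := (sb E102327 (iv4 D153596))
theorem F358726 : act 1 n180169 = n98245 := d15_1 D180169 F358717 (iv2 D180170)
theorem E102328 : n180169 = n174116 := (c20_8 (iv4 F304979) (iv1 F342279) (iv4 F344889) (iv3 D98249) (iv1 D45928) (iv3 F72505) D98245 (iv1 F358726) F272922 (iv3 F330724) (iv1 F201601))
theorem F358727 : act 0 n174116 = n86084 := (sb E102328 (iv1 D180169))
theorem F358728 : act 1 n174116 = n98245 := (sb E102328 F358726)
theorem E102329 : n163783 = n107682 := (c20_7 D98245 (iv1 F358728) F272922 (iv3 F330724) (iv1 F201601) F332123 D163783 F166322 D144362 (iv3 F328001) F324244)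
theorem F358729 : act 4 n107682 = n78682 := (sb E102329 (iv4 D163783))
theorem F358730 : act 4 n162664 = n150666 := d20_8 (iv4 F272922) F358727 F132045 (iv3 D39851) (iv1 F43126) D35631 (iv4 F119314) D162664 F353951 (iv1 D174118)
theorem E102330 : n180484 = n180168 := (c15_4 (iv0 D180168) (iv0 F358727) F355394 F281417)
theorem F358731 : act 2 n180168 = n180788 := (sb E102330 (iv2 F281417))
theorem F358732 : act 5 n180168 = n140358 := (sb E102330 F350368)
theorem F358733 : act 6 n180168 = n86193 := (sb E102330 (iv6 D180484))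
theorem F358734 : act 0 n100263 = n180171 := d21_10 (iv5 D180171) D180168 F358732 (iv6 D140358) (iv1 F164688) F331774 F143292 (iv1 F143218) F292037 D100263
theorem F358735 : act 3 n178513 = n100263 := d20_3 (iv4 D84955) D84953 D178513 F358734 F280525 (iv4 F344460) (iv1 F164817) F344427 (iv3 F262003) F330681
theorem E102331 : n174397 = n93443 := ((c5_5 D178513 F358735 F154251 F73900 (iv4 F144144) F278199)).symm
theorem F358736 : act 0 n93443 = n83386 := (sb E102331 (iv1 F273269))
theorem F358737 : act 1 n93443 = n83364 := (sb E102331 (iv0 D174397))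
theorem E102332 : n103285 = n83383 := (((iv2 F294128)).symm.trans (sb E102331 F273331))
theorem F358738 : act 3 n93443 = n84953 := (sb E102331 F278199)
theorem F358739 : act 7 n93443 = n83384 := (sb E102331 F273332)
theorem F358740 : act 2 n83383 = n93443 := (sb E102332 F294128)
theorem E102333 : n174448 = n87933 := ((D174448).symm.trans (sb E102332 F294129))
theorem E102334 : n174450 = n47857 := ((D174450).symm.trans (sb E102332 (iv6 D103285)))
theorem F358741 : act 4 n87933 = n83383 := (sb E102333 (iv4 D174448))
theorem F358742 : act 6 n47857 = n83383 := (sb E102334 (iv6 D174450))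
theorem F358743 : act 6 n100262 = n178513 := d7_0 F358735 (iv6 D100263) D100262
theorem F358744 : act 6 n174447 = n103281 := d7_2 F358742 D174447 F158508
theorem F358745 : act 6 n174449 = n103202 := d12_2 F358742 D174449 (iv5 D103202) F75111 D47857
theorem F358746 : act 0 n158835 = n174449 := d21_1 F343427 (iv5 D174449) (iv6 F358742) (iv1 F294122) (iv6 F353764) (iv5 D154608) (iv1 D73288) D73290 D154614 F343428
theorem F358747 : act 2 n155831 = n174447 := d3_3 F358744 F349918 D155831
theorem F358748 : act 4 n174398 = n184370 := d11_3 (iv7 D184370) F358741 (iv7 F273329)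
theorem F358749 : act 4 n155706 = n184368 := d18_5 D38410 D83375 (iv1 F319574) F315044 (iv5 F354055) (iv0 D184368) F358741 (iv0 D83383) (iv5 D38412)
theorem F358750 : act 3 n184368 = n139302 := d5_1 F358749 F222497 F171835 D129686 F354056
theorem F358751 : act 6 n184368 = n139300 := d10_2 F354057 F358749 (iv4 F345791)
theorem E102335 : n174453 = n93447 := ((c20_2 F358749 (iv1 F286297) (iv4 D174453) (iv3 F273327) (iv1 D119343) F318955 (iv4 D74080) (iv1 D33993) (iv4 F53327) (iv3 F110817) D155706)).symm
theorem F358752 : act 4 n93447 = n83384 := (sb E102335 (iv4 D174453))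
theorem F358753 : act 4 n174455 = n93356 := d10_3 (iv6 F144146) F358752 D174455
theorem F358754 : act 4 n155707 = n184369 := d18_5 (iv1 F128484) D83380 (iv1 F343390) (iv4 F271883) F358469 F286294 F358752 F273270 F273268
theorem F358755 : act 7 n93352 = n174455 := d11_0 F358753 (iv7 D93356) (iv4 F143975)
theorem F358756 : act 3 n174455 = n155863 := d19_3 (iv1 F283860) (iv5 F295240) (iv4 F358753) F350827 F320642 F132220 F60739 (iv1 F88510) F316329 (iv4 D85784) F315631 F84476 F49438 F24361 (iv3 F24343) (iv1 F49377) (iv5 F98428) (iv4 F216413) F352434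
theorem F358757 : act 5 n163846 = n174455 := d6_0 F358756 F350830 D163846
theorem F358758 : act 7 n154141 = n184368 := d8_0 F358750 F342826 (iv3 F242215)
theorem F358759 : act 4 n173416 = n154141 := d11_3 F358758 (iv4 F358749) (iv7 F354058)
theorem F358760 : act 2 n154141 = n184369 := d15_3 F286294 F286297 (iv7 F358758)
theorem F358761 : act 6 n184369 = n123659 := d3_2 D154141 F358760 F198072
theorem E102336 : n154141 = n93445 := (c18_6 (iv1 F128480) (iv4 F313110) F315042 (iv4 F127909) D173416 F358759 F286298 (iv4 F358748) F273264 F128505)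
theorem F358762 : act 2 n93445 = n184369 := (sb E102336 F358760)
theorem F358763 : act 3 n93445 = n84554 := (sb E102336 F242215)
theorem F358764 : act 4 n93445 = n173416 := (sb E102336 (iv4 F358759))
theorem F358765 : act 6 n93445 = n73000 := (sb E102336 (iv6 D154141))
theorem F358766 : act 7 n93445 = n184368 := (sb E102336 F358758)
theorem F358767 : act 0 n155709 = n173416 := d20_10 (iv4 F358764) (iv1 D93445) (iv4 F144144) F358738 (iv1 F187941) (iv3 F314138) (iv4 D120029) (iv1 F87405) (iv4 F110819) (iv3 F244724)
theorem F358768 : act 1 n155705 = n173416 := d15_0 (iv0 F358767) (iv7 D155709) (iv2 F244721)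
theorem F358769 : act 4 n174400 = n184328 := d18_5 (iv1 F317255) F305078 (iv1 F273101) F273098 (iv5 F273268) (iv0 D184328) (iv4 F329895) F358768 (iv5 D173416)
theorem F358770 : act 2 n184328 = n174460 := d1_1 F358769 F273334 (iv2 F273267)
theorem F358771 : act 7 n184328 = n174399 := d11_2 D174400 F358769 (iv4 D174399)
theorem F358772 : act 1 n174457 = n184328 := d15_1 D174457 F358771 F273266
theorem F358773 : act 1 n104146 = n174399 := d15_1 (iv0 F358471) (iv7 F358771) F358770
theorem F358774 : act 1 n174399 = n184330 := d15_1 F358773 (iv7 D184330) (iv2 F159648)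
theorem F358775 : act 6 n124689 = n174399 := d21_3 (iv5 D58270) D58268 D124689 (iv1 F358773) (iv6 D104146) (iv5 D48194) (iv1 D23321) D23322 (iv6 F75729) (iv1 F306638)
theorem F358776 : act 5 n153674 = n174399 := d21_6 (iv5 D86915) F63561 D40597 (iv6 F134098) (iv1 F308338) D153674 (iv1 F358773) (iv5 F287692) (iv6 D185429) F135275
theorem F358777 : act 2 n174459 = n153674 := d2_3 F358776 F273266 D174459
theorem E102337 : n185288 = n153674 := ((c21_7 (iv5 F337995) F241956 (iv5 F353747) (iv6 D184287) (iv1 F343505) F358775 (iv5 F358776) (iv1 D185288) (iv5 F287393) (iv6 D184995) D184992)).symm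
theorem F358778 : act 0 n153674 = n88282 := (sb E102337 (iv1 D185288))
theorem F358779 : act 4 n153648 = n153674 := d18_1 D153648 F358778 (iv4 F342722) F242415 (iv4 F205819) (iv0 F348667) (iv4 D153640) (iv0 D72653) D72655
theorem F358780 : act 6 n153673 = n153648 := d10_0 F358779 (iv6 D153674) D153673
theorem F358781 : act 6 n153423 = n174459 := d3_0 F358777 (iv6 D153674) (iv2 F240992)
theorem F358782 : act 0 n174459 = n182221 := d21_4 F308823 (iv1 F308464) F240991 F358781 (iv6 D182221) F133522 D87713 (iv5 F338035) (iv6 D153668) (iv1 F241542)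
theorem E102338 : n174456 = n87916 := (c21_8 (iv5 D40423) (iv1 F63121) D86916 F306630 (iv1 F240990) F358781 (iv5 D174459) D174456 (iv5 F283688) (iv6 D182247) (iv1 F133546))
theorem E102339 : n184329 = n83385 := ((D184329).symm.trans (sb E102338 (iv0 D174456)))
theorem F358783 : act 0 n83385 = n87916 := (sb E102339 (iv1 D184329))
theorem F358784 : act 7 n174457 = n104146 := d15_2 (iv0 F358783) D174457 F159648
theorem F358785 : act 2 n184330 = n174457 := d4_3 F358784 F159648 D184330
theorem F358786 : act 3 n155684 = n174457 := d8_3 F358784 F329673 D155684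
theorem F358787 : act 4 n155709 = n174457 := d11_3 F358784 F329674 D155709
theorem F358788 : act 6 n184315 = n174457 := d14_5 F358784 (iv6 D104146) F75743 D87909 D184315
theorem F358789 : act 1 n184330 = n174460 := d15_0 (iv0 F358471) (iv7 F358784) (iv2 F358785)
theorem F358790 : act 6 n155709 = n180476 := d10_2 F358788 (iv4 F358787) F348158
theorem F358791 : act 1 n174459 = n154327 := d15_1 (iv0 F358782) F342724 (iv2 F283661)
theorem F358792 : act 2 n184368 = n93444 := d15_3 (iv0 D93444) D93445 F358766
theorem F358793 : act 7 n184369 = n93444 := d4_2 (iv7 F358766) F358762 (iv2 F358792)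
theorem F358794 : act 0 n137102 = n184361 := d21_4 F128505 (iv1 F128480) D174395 (iv6 F354163) (iv6 D184361) F331256 (iv1 F331253) (iv5 F293997) D93443 F358736
theorem F358795 : act 7 n96384 = n162664 := d11_0 F358730 F237209 (iv4 F358725)
theorem F358796 : act 2 n109180 = n110285 := d3_3 F358714 (iv2 F195564) F344464
theorem F358797 : act 7 n110286 = n109180 := d15_2 (iv0 D110285) D110286 F358796
theorem F358798 : act 7 n109179 = n110285 := d15_2 F170406 F170407 (iv2 F358796)
theorem F358799 : act 2 n110286 = n109179 := d4_3 F358798 (iv2 F358796) (iv7 F358797)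
theorem F358800 : act 7 n161589 = n175636 := d8_2 F358798 F358712 F358643
theorem F358801 : act 6 n122581 = n109179 := d14_5 F358798 F358714 F92698 F299737 (iv7 F196313)
theorem F358802 : act 6 n175636 = n166155 := d7_2 F358801 (iv3 F358643) (iv3 F301767)
theorem F358803 : act 5 n109179 = n106960 := d21_6 D76894 (iv1 F119177) (iv5 D77965) D77966 (iv1 F196314) F358801 (iv1 D106960) D106962 F337379 (iv1 F87613)
theorem F358804 : act 0 n180403 = n106960 := d21_1 D180403 (iv5 F358803) (iv6 F358801) F301766 (iv6 D124446) (iv5 F351085) F351082 (iv5 F345403) F253165 (iv1 F299552)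
theorem F358805 : act 7 n180403 = n106961 := d15_2 D106960 (iv0 F358804) (iv2 D106961)
theorem E102340 : n162237 = n106961 := ((c13_1 F358805 (iv5 D162237) (iv7 F299553) D180403)).symm
theorem F358806 : act 5 n106961 = n77942 := (sb E102340 (iv5 D162237))
theorem F358807 : act 5 n108118 = n156039 := d17_1 D108118 (iv1 D156039) (iv5 F167234) (iv4 F167235) F358806 (iv0 F299555) F351103 (iv0 D125483) F92835
theorem E102341 : n121152 = n110304 := ((c20_6 (iv4 F358713) (iv1 F330460) F330462 (iv3 F80199) (iv1 F80216) D110304 F297276 (iv1 F344522) F174645 (iv3 F174641) F323978)).symm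
theorem F358808 : act 1 n110304 = n112331 := (sb E102341 (iv0 F323059))
theorem F358809 : act 2 n110304 = n79823 := (sb E102341 F193212)
theorem F358810 : act 4 n110304 = n84235 := (sb E102341 F297276)
theorem F358811 : act 5 n110304 = n55901 := (sb E102341 (iv5 D121152))
theorem F358812 : act 6 n110304 = n56197 := (sb E102341 F193213)
theorem F358813 : act 7 n110304 = n78134 := (sb E102341 F193214)
theorem E102342 : n121527 = n110307 := (c7_2 F358812 (iv3 F193904) (iv6 D110307) D110304)
theorem F358814 : act 0 n110307 = n56124 := (sb E102342 (iv1 D121527))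
theorem F358815 : act 1 n110307 = n56622 := (sb E102342 F298970)
theorem F358816 : act 2 n110307 = n77538 := (sb E102342 F298971)
theorem F358817 : act 3 n110307 = n56197 := (sb E102342 F193904)
theorem F358818 : act 4 n110307 = n81892 := (sb E102342 (iv4 F301416))
theorem F358819 : act 5 n110307 = n80206 := (sb E102342 (iv5 F193903))
theorem F358820 : act 7 n110307 = n77539 := (sb E102342 F298972)
theorem F358821 : act 1 n138771 = n134487 := d17_6 (iv1 F358815) F358819 (iv1 F324104) (iv5 D111890) (iv4 F172861) (iv5 F344453) F344463 (iv0 F195567) F132040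
theorem F358822 : act 0 n115791 = n93019 := d21_7 D65992 (iv1 F223735) (iv5 F223736) (iv6 F216434) (iv1 F358821) (iv6 D138771) (iv5 F180166) F292039 (iv6 F329676) (iv1 F101559)
theorem F358823 : act 1 n90783 = n100002 := d17_8 F358822 F292039 (iv1 F329684) (iv5 F337429) F345077 (iv5 F343864) (iv0 D90780) D90783 (iv4 F345090)
theorem E102343 : n170813 = n110305 := (c10_3 D110307 F358818 D170813 (iv4 D110305))
theorem F358824 : act 6 n110305 = n81892 := (sb E102343 (iv6 D170813))
theorem F358825 : act 7 n108914 = n134818 := d15_2 (iv0 D108913) D108914 F358638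
theorem F358826 : act 7 n134817 = n108913 := d15_2 F216949 F216943 (iv2 F358638)
theorem F358827 : act 2 n108914 = n134817 := d4_3 F358826 (iv2 F358638) (iv7 F358825)
theorem F358828 : act 4 n174040 = n109079 := d5_2 D126191 F358634 (iv3 D109079) D109080 (iv3 F169079)
theorem F358829 : act 6 n174034 = n126191 := d7_0 F358634 (iv6 D174040) (iv3 F272765)
theorem E102344 : n126276 = n126192 := (c19_1 D126276 (iv5 D126192) D126191 F358634 F358633 F230754 F105413 (iv3 D68342) (iv1 F51412) (iv5 F51415) (iv4 D32374) (iv3 F26898) (iv1 F41453) (iv5 D14851) (iv4 F24510) (iv3 D14846) (iv1 F18134) (iv5 F36990) (iv4 F45422) D59196)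
theorem F358830 : act 0 n126192 = n113305 := (sb E102344 (iv1 F203036))
theorem F358831 : act 1 n126192 = n59196 := (sb E102344 (iv0 D126276))
theorem E102345 : n109109 = n109079 := (c20_2 (iv4 F319460) D109109 (iv4 F358828) (iv3 F358634) (iv1 F353612) F250779 (iv4 F330670) (iv1 F174566) F169701 (iv3 F166934) F319456)
theorem F358832 : act 1 n109079 = n50371 := (sb E102345 (iv0 D109109))
theorem F358833 : act 1 n180488 = n109079 := d15_0 F358832 (iv7 F321449) (iv2 F280914)
theorem E102346 : n126253 = n109080 := ((c20_7 (iv4 F170261) F321451 (iv4 F321446) D50371 (iv1 F358832) (iv3 D109079) D109080 (iv1 D126253) (iv4 F170312) F170311 (iv1 F170259))).symm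
theorem F358834 : act 0 n109080 = n59188 := (sb E102346 (iv1 D126253))
theorem F358835 : act 7 n177428 = n126254 := d15_2 (iv0 F358834) (iv0 F353617) (iv2 D126254)
theorem F358836 : act 2 n113381 = n109075 := d15_3 (iv0 F176632) (iv0 F358834) F352261
theorem F358837 : act 2 n110138 = n177428 := d4_3 F358835 (iv2 D126254) (iv7 F170293)
theorem F358838 : act 3 n126254 = n127090 := d8_1 F358835 (iv7 F342876) F342873
theorem F358839 : act 5 n126254 = n127089 := d13_1 F358835 (iv7 F207045) (iv5 F341763)
theorem F358840 : act 6 n126254 = n163412 := d14_1 F358835 (iv7 F262133) F326385 F297573 D177428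
theorem F358841 : act 1 n113381 = n126254 := d15_1 (iv0 F244987) (iv7 F358835) (iv2 F358837)
theorem F358842 : act 5 n163412 = n185730 := d12_1 F358840 (iv6 F340299) (iv5 D131812) (iv6 F204338) (iv5 F358839)
theorem F358843 : act 4 n177428 = n110156 := d1_2 (iv4 F170292) F358837 (iv2 D110156)
theorem F358844 : act 6 n162840 = n110138 := d3_0 F358837 (iv6 D177428) (iv2 F325525)
theorem F358845 : act 1 n177428 = n109075 := d15_0 (iv0 F176632) (iv7 F170293) F358837
theorem F358846 : act 4 n110158 = n162840 := d10_3 F358844 F170292 D110158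
theorem F358847 : act 2 n167690 = n110158 := d1_3 F358846 F325525 (iv4 F300154)
theorem F358848 : act 7 n160386 = n110158 := d11_0 F358846 F325527 (iv4 F325520)
theorem F358849 : act 5 n167648 = n110158 := d16_1 D167648 F358846 F325526 F122750 F57193 (iv4 F57567) (iv5 F123695) (iv7 D80474) (iv2 F123678)
theorem F358850 : act 3 n110167 = n167648 := d6_3 F358849 F170310 D110167
theorem F358851 : act 6 n110157 = n142818 := d12_4 F330095 F358849 (iv6 D110158) D110157 F330096
theorem F358852 : act 1 n110158 = n143828 := d17_6 (iv1 F129581) F299112 (iv1 D80456) D80457 D167648 F358849 (iv5 D143828) (iv0 F322217) (iv4 D84446)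
theorem F358853 : act 4 n143828 = n177396 := d18_7 (iv1 F129662) (iv4 F129663) (iv1 F296351) (iv4 F122750) (iv5 F325526) (iv4 F358846) F358852 F276782 (iv5 D84525)
theorem F358854 : act 3 n142818 = n110163 := d7_1 F358851 (iv6 D110163) (iv3 F170309)
theorem F358855 : act 7 n177260 = n110167 := d8_0 F358850 F299122 D177260
theorem F358856 : act 0 n110167 = n124432 := d19_4 (iv1 D80456) D80457 D167648 (iv3 F358850) (iv5 D124432) (iv4 D58022) (iv3 F325631) (iv1 F326443) (iv5 D34659) D34658 D75785 F155517 (iv5 F310295) (iv4 F300749) F51956 (iv1 F51969) (iv5 F56332) F307211 (iv3 F307210)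
theorem F358857 : act 2 n177260 = n170855 := d15_3 F268463 (iv0 F358856) (iv7 F358855)
theorem E102347 : n177260 = n160387 := ((c2_1 D160387 F358857 (iv5 D170855) (iv2 F298897))).symm
theorem F358858 : act 2 n160387 = n170855 := (sb E102347 F358857)
theorem F358859 : act 3 n160387 = n84453 := (sb E102347 (iv3 D177260))
theorem F358860 : act 7 n160387 = n110167 := (sb E102347 F358855)
theorem F358861 : act 6 n128365 = n160387 := d7_0 F358859 (iv6 F313839) D128365
theorem F358862 : act 6 n122319 = n160386 := d14_5 F358848 (iv6 D110158) D110159 F325621 (iv7 F195591)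
theorem F358863 : act 6 n110156 = n167690 := d3_0 F358847 (iv6 D110158) D110156
theorem F358864 : act 3 n180488 = n109134 := d20_5 (iv4 F358843) F353617 (iv4 D109080) D109079 (iv1 F358833) F176412 (iv1 F202744) (iv4 F202740) (iv3 F176612) (iv1 F176614)
theorem F358865 : act 6 n109134 = n170837 := d7_2 D180488 F358864 F268435
theorem F358866 : act 4 n126193 = n174034 := d10_3 F358829 (iv4 D126191) D126193
theorem F358867 : act 5 n134120 = n126193 := d16_5 (iv4 F186472) F311886 F94793 F336393 D134120 F358866 (iv5 D174034) (iv7 F272820) F316729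
theorem F358868 : act 1 n174034 = n128960 := d18_6 (iv1 D134079) F98275 D63002 D134120 F358867 F358866 (iv4 D128960) D128959 (iv5 F336396)
theorem F358869 : act 1 n130233 = n126193 := d18_6 F315825 F213589 D132961 F342053 F342757 F342761 F358866 F358868 F318045
theorem F358870 : act 2 n131467 = n174034 := d16_9 (iv4 F358866) (iv5 F358867) (iv4 D134120) (iv5 F336393) (iv4 F94793) (iv5 F311886) F186472 D149040 F234366
theorem F358871 : act 1 n126193 = n113568 := d15_1 F358869 (iv7 F203074) (iv2 F349816)
theorem F358872 : act 1 n134120 = n96488 := d17_8 D96489 F339695 D124714 F342762 F208735 D130233 F358869 (iv5 F358867) F148591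
theorem E102348 : n157810 = n130234 := ((c21_4 F358867 (iv1 F358869) (iv5 D130233) D130234 (iv1 D157810) (iv6 D75187) (iv5 D34429) D34427 (iv5 F70908) D96488 (iv1 F358872))).symm
theorem F358873 : act 0 n130234 = n75187 := (sb E102348 (iv1 D157810))
theorem F358874 : act 6 n126192 = n154235 := d12_4 (iv6 F336392) F358867 (iv6 D126193) D126192 (iv5 D154235)
theorem F358875 : act 6 n109079 = n174039 := d10_2 D174040 F358828 (iv4 D174039)
theorem F358876 : act 3 n174039 = n109082 := d7_1 F358875 (iv6 D109082) D109079
theorem F358877 : act 0 n109082 = n111764 := d20_4 (iv4 F342032) (iv1 D174038) D174039 F358876 (iv3 D111764) (iv4 F93410) F166162 (iv4 F81197) (iv3 F173028) (iv1 F358642)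
theorem F358878 : act 6 n127480 = n103134 := d21_5 F334851 (iv1 D127148) D127149 F321281 (iv1 F230866) (iv5 F332535) F243193 D146100 (iv6 F231815) F353661
theorem F358879 : act 6 n166466 = n160747 := d3_0 F353660 (iv6 D166469) D166466
theorem E102349 : n174134 = n166466 := (c14_1 D174134 F358879 (iv7 D160747) F115843 (iv7 F298320) D83243)
theorem F358880 : act 7 n166466 = n83243 := (sb E102349 (iv7 D174134))
theorem F358881 : act 0 n180674 = n166466 := d21_4 (iv5 D78651) (iv1 F254318) D86304 D180674 F358879 F253901 F353594 (iv5 F230754) F358635 F254061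
theorem F358882 : act 1 n180674 = n166470 := d15_1 (iv0 F358881) (iv7 D166470) D166466
theorem E102350 : n173234 = n166470 := (c21_4 (iv5 D75762) D75760 (iv5 F127711) D173234 (iv1 F358882) (iv6 D180674) (iv5 D86304) D86300 (iv5 F330700) (iv6 D83226) (iv1 F113618))
theorem F358883 : act 2 n166470 = n83243 := (sb E102350 F271557)
theorem E102351 : n174897 = n84799 := (((F350678).symm.trans (sb E102350 (iv4 F273794)))).symm
theorem F358884 : act 5 n166470 = n84094 := (sb E102350 F271558)
theorem F358885 : act 6 n166470 = n82901 := (sb E102350 (iv6 D173234))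
theorem E102352 : n178148 = n174131 := (((iv2 F277706)).symm.trans (sb E102351 F273793))
theorem E102353 : n178151 = n83542 := ((D178151).symm.trans (sb E102351 (iv6 D174897)))
theorem F358886 : act 2 n174131 = n84799 := (sb E102352 F277706)
theorem F358887 : act 7 n174131 = n84798 := (sb E102352 (iv7 D178148))
theorem F358888 : act 6 n83542 = n84799 := (sb E102353 (iv6 D178151))
theorem F358889 : act 5 n180674 = n147553 := d21_8 D69152 F355838 (iv5 D84164) (iv6 D38792) (iv1 F59520) D84094 (iv5 F358884) (iv1 F358882) (iv6 D147553) (iv1 D69150)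
theorem F358890 : act 3 n147553 = n154981 := d6_1 F358889 F337705 (iv3 F281210)
theorem F358891 : act 6 n178149 = n174895 := d7_2 F358888 D178149 (iv3 D174895)
theorem E102354 : n178145 = n166466 := (c11_2 F358887 D178145 F358880 (iv4 F272933))
theorem F358892 : act 4 n166466 = n84798 := (sb E102354 (iv4 D178145))
theorem F358893 : act 7 n178147 = n140408 := d14_2 F358887 D178147 F353649 (iv7 F300912) D174131
theorem F358894 : act 3 n140402 = n178147 := d8_3 F358893 (iv3 D140408) F223562
theorem F358895 : act 4 n160747 = n178147 := d11_3 F358893 F353648 D160747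
theorem E102355 : n140402 = n113574 := (c20_4 (iv4 F355094) (iv1 F355097) F358895 (iv3 F358894) (iv1 D113574) (iv3 D52421) (iv4 D25441) (iv1 F38829) (iv4 F38828) D50210 D108739)
theorem F358896 : act 2 n113574 = n65904 := (sb E102355 (iv2 D140402))
theorem F358897 : act 3 n113574 = n178147 := (sb E102355 F358894)
theorem F358898 : act 7 n113574 = n65905 := (sb E102355 (iv7 F223562))
theorem F358899 : act 3 n160747 = n113297 := d5_1 (iv4 F358895) (iv4 D113297) D113296 F176727 F358897
theorem F358900 : act 7 n140409 = n113296 := d11_2 F358898 D140409 F176727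
theorem F358901 : act 7 n140410 = n109086 := d13_2 F358898 D140410 (iv5 F203751)
theorem E102356 : n140407 = n113573 := (c15_4 (iv0 D113573) D113574 F358898 (iv2 F223563))
theorem F358902 : act 2 n113573 = n65905 := (sb E102356 F223563)
theorem F358903 : act 7 n113573 = n65904 := (sb E102356 (iv7 D140407))
theorem F358904 : act 1 n140405 = n108653 := d15_0 (iv0 F223565) F358901 (iv2 F352248)
theorem F358905 : act 2 n140410 = n109085 := d15_3 (iv0 D109085) D109086 (iv7 F358901)
theorem F358906 : act 5 n109085 = n113573 := d2_2 D140410 F358905 F358902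
theorem F358907 : act 7 n109085 = n140405 := d4_2 (iv7 F358901) F358905 F352248
theorem F358908 : act 1 n109083 = n140405 := d15_0 F358904 F168575 (iv2 F169080)
theorem F358909 : act 1 n140410 = n109083 := d15_0 F358908 (iv7 F358907) (iv2 F358905)
theorem E102357 : n178144 = n140564 := (c7_4 F345108 F358897 (iv6 D178147) D178144)
theorem F358910 : act 3 n140564 = n84798 := (sb E102357 (iv3 D178144))
theorem E102358 : n178146 = n140559 := (c6_3 D140564 F358910 D178146 F223699)
theorem F358911 : act 5 n140559 = n84798 := (sb E102358 (iv5 D178146))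
theorem F358912 : act 2 n140404 = n113296 := d1_3 F176727 F358896 D140404
theorem E102359 : n178143 = n166467 := (c1_2 F358892 D178143 (iv4 D166467) D166466)
theorem F358913 : act 2 n166467 = n84798 := (sb E102359 (iv2 D178143))
theorem F358914 : act 7 n166467 = n84799 := (sb E102359 (iv7 F277705))
theorem E102360 : n178152 = n174131 := ((c15_4 F277707 (iv0 F262023) F358914 (iv2 F358886))).symm
theorem F358915 : act 0 n174131 = n84800 := (sb E102360 (iv1 D178152))
theorem F358916 : act 1 n174131 = n84802 := (sb E102360 F277707)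
theorem F358917 : act 5 n123014 = n111626 := d21_0 F353320 (iv5 D174130) D174131 F358915 F130007 D157926 (iv1 F280788) F280790 (iv6 F330714) (iv1 F318099)
theorem F358918 : act 4 n111614 = n174190 := d16_0 (iv5 D174190) F300620 (iv5 D77056) (iv4 F298134) D75670 (iv4 F318101) F358917 (iv7 D111626) (iv2 F173163)
theorem F358919 : act 5 n111614 = n174180 := d9_8 (iv5 F358917) F318101 (iv5 D75670) F298134 D77056 (iv4 F300620) D174190 (iv4 F358918) (iv4 D174180) F300624 (iv4 D77058) D77059 (iv4 F299377) D174192 (iv4 F353286)
theorem F358920 : act 0 n174130 = n111614 := d17_0 F358919 F272974 (iv5 F273803) F273804 F271626 (iv0 F199062) (iv5 F273033) F273031 (iv4 F272932)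
theorem F358921 : act 1 n174139 = n111614 := d17_6 (iv1 F250007) F250005 F297009 (iv5 F297017) D83245 D174139 F358919 F272975 (iv4 D173231)
theorem F358922 : act 6 n174190 = n111612 := d10_2 D111614 F358918 (iv4 D111612)
theorem E102361 : n176366 = n166468 := (c13_3 D166470 F358884 D176366 (iv5 D166468))
theorem F358923 : act 7 n166468 = n84094 := (sb E102361 (iv7 D176366))
theorem E102362 : n174128 = n166489 := (c0_3 (iv3 F262027) F358883 (iv3 F272931) (iv2 D166489) (iv3 D79919) (iv2 F122662))
theorem F358924 : act 3 n166489 = n83243 := (sb E102362 F272931)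
theorem F358925 : act 6 n166489 = n83240 := (sb E102362 (iv6 D174128))
theorem E102363 : n174133 = n166464 := (c15_1 D174133 (iv0 D166464) D166470 F358883)
theorem F358926 : act 0 n166464 = n83243 := (sb E102363 (iv1 D174133))
theorem E102364 : n174132 = n166465 := ((c15_1 D166465 (iv0 D174132) (iv7 F358880) (iv2 D166466))).symm
theorem F358927 : act 1 n166465 = n83243 := (sb E102364 (iv0 D174132))
theorem E102365 : n166734 = n166465 := ((c21_5 (iv5 D158221) F297006 (iv5 F298319) D83243 (iv1 F358927) (iv6 D166734) (iv5 F254313) (iv1 F254371) F254373 (iv6 F330703) (iv1 F249253))).symm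
theorem F358928 : act 2 n166465 = n180674 := (sb E102365 (iv2 F281209))
theorem F358929 : act 6 n166465 = n80032 := (sb E102365 (iv6 D166734))
theorem F358930 : act 3 n95364 = n166465 := d7_3 F358929 (iv3 F194360) F344665
theorem F358931 : act 4 n166465 = n178318 := d20_6 F168777 (iv1 F81589) F327260 (iv3 F327259) (iv1 F158390) F358930 (iv1 D178318) (iv4 D84856) F327745 F168778
theorem F358932 : act 6 n178318 = n157953 := d10_2 (iv6 F358929) F358931 (iv4 F256633)
theorem F358933 : act 7 n166464 = n180674 := d15_2 F358927 (iv0 F358926) (iv2 F358928)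
theorem E102366 : n166464 = n166435 := ((c8_4 F358933 F281210 (iv7 F330290) D166435)).symm
theorem F358934 : act 0 n166435 = n83243 := (sb E102366 F358926)
theorem F358935 : act 1 n166435 = n79914 := (sb E102366 (iv0 D166464))
theorem F358936 : act 7 n166435 = n180674 := (sb E102366 F358933)
theorem F358937 : act 0 n166468 = n114434 := d18_0 F178470 F190359 F334717 (iv5 D84862) D84861 F277905 F277900 F358935 D166468
theorem F358938 : act 4 n159454 = n166468 := d20_6 F206216 (iv1 F199578) (iv4 F234843) (iv3 F234847) (iv1 F177954) D159454 F358937 F178470 F94781 D128127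
theorem F358939 : act 1 n167611 = n114434 := d15_0 (iv0 F358937) F358923 (iv2 F301480)
theorem F358940 : act 7 n176363 = n159454 := d11_0 F358938 F358923 (iv4 F275659)
theorem F358941 : act 6 n159454 = n159881 := d14_1 F358940 (iv7 F355117) F347973 (iv7 F129072) D176363
theorem F358942 : act 3 n159881 = n159457 := d7_1 F358941 (iv6 D159457) D159454
theorem F358943 : act 7 n113298 = n113392 := d13_2 F353645 D113298 (iv5 F231075)
theorem E102367 : n113295 = n105186 := (c15_4 F161112 F161108 F353645 D113295)
theorem F358944 : act 2 n105186 = n52299 := (sb E102367 (iv2 D113295))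
theorem F358945 : act 7 n105186 = n52300 := (sb E102367 (iv7 F176509))
theorem F358946 : act 7 n113303 = n113393 := d13_2 F358945 D113303 F176589
theorem F358947 : act 2 n113393 = n113298 := d15_3 F231077 (iv0 F338357) F358946
theorem F358948 : act 2 n113303 = n113392 := d4_1 (iv7 F358946) (iv7 F358943) (iv2 F358947)
theorem E102368 : n160491 = n113304 := (c3_2 F353644 F341694 (iv6 D113304) (iv2 F353642))
theorem F358949 : act 0 n113304 = n145442 := (sb E102368 (iv1 F357898))
theorem F358950 : act 1 n113304 = n121068 := (sb E102368 F299605)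
theorem F358951 : act 2 n113304 = n150255 := (sb E102368 (iv2 F341694))
theorem F358952 : act 4 n113304 = n127870 := (sb E102368 F341678)
theorem F358953 : act 5 n113304 = n76944 := (sb E102368 (iv5 D160491))
theorem F358954 : act 7 n113304 = n159216 := (sb E102368 F253520)
theorem F358955 : act 6 n135822 = n113392 := d12_4 F353644 F341695 F299559 (iv5 F333454) (iv5 F231075)
theorem F358956 : act 6 n159237 = n113396 := d21_3 (iv5 D78392) (iv1 F297381) D159237 (iv1 D113396) (iv6 D52344) D52343 D113392 (iv5 F231075) F353644 F341692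
theorem F358957 : act 5 n126277 = n125803 := d21_2 D113305 (iv1 F203041) (iv6 D125803) (iv1 D58913) D58916 F330149 F301855 (iv5 F341695) (iv6 F353644) (iv1 F161108)
theorem F358958 : act 6 n166632 = n123196 := d3_2 F358956 F328091 (iv2 F299545)
theorem F358959 : act 5 n113396 = n163471 := d12_1 F358956 (iv6 D163471) F119742 (iv6 F297383) D159237
theorem F358960 : act 5 n97391 = n166632 := d2_2 F358959 (iv2 F294905) (iv2 F328091)
theorem F358961 : act 4 n185610 = n163458 := d18_7 F122741 (iv4 F122740) (iv1 F254423) (iv4 F328092) F358959 F257752 D185610 (iv0 F257868) (iv5 D163604)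
theorem F358962 : act 5 n104705 = n90019 := d16_3 (iv4 F334003) (iv5 F358127) F358139 (iv4 F294906) F358960 (iv4 F262244) (iv5 F254418) F254419 F254420
theorem F358963 : act 0 n163514 = n97391 := d17_2 (iv1 F254258) D163514 F358960 (iv4 F262244) (iv5 F254418) (iv0 F344722) F344727 (iv0 D80054) D80057
theorem F358964 : act 1 n163504 = n97391 := d17_6 (iv1 D36428) (iv5 F28609) D36445 F250801 D78571 D163504 F358960 F262242 (iv4 D79981)
theorem F358965 : act 4 n97375 = n163504 := d18_7 (iv1 D166632) (iv4 D79976) (iv1 F57195) (iv4 F119779) D163604 F348731 F348735 F358964 F358960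
theorem F358966 : act 5 n113200 = n125807 := d21_0 (iv1 D125807) (iv5 D58915) D58916 (iv1 F330152) (iv6 F358958) (iv5 F358960) (iv1 F358964) (iv5 D163504) (iv6 F329025) (iv1 F202011)
theorem E102369 : n166779 = n132098 := (c21_3 (iv5 D163504) F122857 D166779 (iv6 D132098) (iv1 F340292) (iv6 D90057) F65003 (iv1 F57184) F294902 D97391 (iv1 F358964))
theorem F358967 : act 0 n132098 = n113397 := (sb E102369 (iv1 F328095))
theorem F358968 : act 1 n132098 = n163649 := (sb E102369 F262511)
theorem F358969 : act 5 n132098 = n80057 := (sb E102369 (iv5 D166779))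
theorem E102370 : n165951 = n132101 := (c12_3 D132098 F358969 (iv6 F330788) (iv5 D132101) (iv6 D61979) D61978)
theorem F358970 : act 0 n132101 = n133022 := (sb E102370 (iv1 F338344))
theorem F358971 : act 1 n132101 = n165800 := (sb E102370 (iv0 F261374))
theorem F358972 : act 3 n132101 = n125366 := (sb E102370 F261373)
theorem F358973 : act 4 n132101 = n79685 := (sb E102370 (iv4 D165951))
theorem F358974 : act 6 n132101 = n80057 := (sb E102370 F330788)
theorem F358975 : act 7 n132101 = n180365 := (sb E102370 (iv7 F280688))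
theorem F358976 : act 5 n180365 = n132102 := d13_1 F358975 (iv7 D132102) D132101
theorem F358977 : act 3 n132102 = n180366 := d6_1 F358976 (iv5 D180366) D180365
theorem F358978 : act 0 n132102 = n129956 := d18_0 F208335 F338308 (iv4 F213577) F338319 F132090 D120940 F334350 (iv0 F334352) F358976
theorem F358979 : act 1 n132088 = n129956 := d15_0 (iv0 F358978) (iv7 D132102) (iv2 F211625)
theorem F358980 : act 7 n180366 = n132094 := d8_2 D132102 F358977 F211633
theorem F358981 : act 5 n132094 = n125366 := d13_1 F358980 F261363 D180366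
theorem F358982 : act 2 n180376 = n132094 := d2_3 F358981 F261367 D180376
theorem F358983 : act 6 n132091 = n180376 := d3_0 F358982 (iv6 D132094) D132091
theorem F358984 : act 6 n166778 = n125366 := d7_2 F358974 D166778 (iv3 F358972)
theorem F358985 : act 2 n180377 = n166778 := d3_3 F358984 F261367 D180377
theorem F358986 : act 5 n120941 = n132373 := d17_1 (iv1 F192861) (iv1 F212382) (iv5 F345638) F341936 F341942 F340133 D132101 F358971 (iv4 D165800)
theorem E102371 : n113384 = n113207 := ((c21_5 (iv5 D132101) (iv1 F340133) (iv5 F341942) (iv6 D113211) D113207 (iv6 D113384) (iv5 F351739) (iv1 F203040) F203038 (iv6 F351738) (iv1 F358971))).symm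
theorem F358987 : act 6 n113207 = n52340 := (sb E102371 (iv6 D113384))
theorem F358988 : act 2 n126198 = n113207 := d3_3 F358987 (iv2 F352264) D126198
theorem F358989 : act 7 n113208 = n126198 := d15_2 (iv0 D113207) D113208 F358988
theorem E102372 : n180345 = n133001 := ((c16_6 (iv4 F207016) (iv5 F338346) (iv4 D133022) (iv5 D62411) (iv4 F97293) D133001 F280654 F358986 F212379 (iv2 D129404))).symm
theorem F358990 : act 0 n133001 = n165784 := (sb E102372 (iv1 F280658))
theorem F358991 : act 1 n133001 = n165783 := (sb E102372 F280656)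
theorem F358992 : act 2 n133001 = n86134 := (sb E102372 (iv2 D180345))
theorem F358993 : act 3 n133001 = n182330 := (sb E102372 (iv3 F283864))
theorem F358994 : act 4 n133001 = n120941 := (sb E102372 F280654)
theorem F358995 : act 7 n133001 = n165785 := (sb E102372 F280655)
theorem F358996 : act 0 n124965 = n163508 := d21_1 F323946 (iv5 D163508) (iv6 D78573) (iv1 F88406) (iv6 F298427) F358986 (iv1 F212382) (iv5 F345638) (iv6 F341933) F170143
theorem F358997 : act 5 n165785 = n133002 := d13_1 F358995 (iv7 D133002) D133001
theorem E102373 : n180336 = n105287 := ((c20_4 F164339 (iv1 D48679) (iv4 F76588) (iv3 F161408) (iv1 F283867) (iv3 F358993) F358994 F338348 D133022 F338345 (iv1 F161121))).symm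
theorem F358998 : act 0 n105287 = n182330 := (sb E102373 (iv1 F283867))
theorem F358999 : act 1 n105287 = n86131 := (sb E102373 (iv0 D180336))
theorem F359000 : act 5 n182330 = n132996 := d6_2 D133001 F358993 F213651
theorem E102374 : n157805 = n106842 := ((c2_2 F359000 F213650 F248692 D182330)).symm
theorem F359001 : act 3 n106842 = n75185 := (sb E102374 (iv3 D157805))
theorem F359002 : act 5 n106842 = n87059 := (sb E102374 F248692)
theorem F359003 : act 7 n106842 = n87592 := (sb E102374 F295112)
theorem F359004 : act 7 n183519 = n132996 := d4_2 F359003 D183519 F213650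
theorem F359005 : act 1 n132996 = n183517 := d15_0 (iv0 D183517) (iv7 F359003) (iv2 F213650)
theorem F359006 : act 3 n106604 = n183517 := d20_3 F164242 (iv1 F78051) (iv4 F165656) (iv1 F359005) F213651 F97293 F338366 (iv4 F211498) (iv3 D132001) F164344
theorem F359007 : act 5 n183517 = n95286 := d6_2 (iv5 F332766) F359006 F341939
theorem F359008 : act 7 n183517 = n125777 := d8_2 F332771 F359006 F202289
theorem F359009 : act 3 n133002 = n183519 := d8_3 F359004 F213651 D133002
theorem F359010 : act 5 n180338 = n183519 := d13_3 F359004 (iv5 F359000) F283866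
theorem F359011 : act 1 n183518 = n132996 := d15_1 D183518 (iv7 F359004) (iv2 D183519)
theorem F359012 : act 2 n125777 = n183518 := d15_3 F359011 F359005 F359008
theorem F359013 : act 5 n183518 = n125770 := d21_2 F359000 (iv1 F359011) (iv6 D125770) (iv1 F201928) (iv6 F358188) (iv5 F204921) (iv1 D127387) F94247 D105287 F358998
theorem F359014 : act 0 n125777 = n183519 := d20_4 F77857 D49361 F332792 (iv3 F202289) (iv3 F359009) F213652 F338309 (iv4 F208335) (iv3 D129956) F168041
theorem F359015 : act 1 n125777 = n106842 := d15_1 (iv0 F359014) F359003 D183519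
theorem F359016 : act 6 n105286 = n182329 := d21_9 (iv5 F359002) (iv1 F359015) (iv5 D125777) (iv6 D58897) D58893 F358190 D113445 F230611 F204715 (iv1 D182329)
theorem F359017 : act 2 n182329 = n105287 := d3_1 F359016 (iv6 D105287) D105286
theorem F359018 : act 3 n182329 = n113589 := d7_1 F359016 (iv6 D113589) (iv3 F161403)
theorem F359019 : act 0 n91871 = n113463 := d21_7 D113445 F230611 F204715 F359016 (iv1 D182329) (iv6 F296040) (iv5 F141242) (iv5 D113463) (iv6 D52375) D52370
theorem F359020 : act 1 n106759 = n96045 := d17_8 F359019 (iv5 D113463) D113461 (iv5 F358216) F211178 F163715 D107480 (iv5 F165812) (iv4 F294889)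
theorem F359021 : act 3 n112663 = n96954 := d20_9 F116025 F63606 D42944 D91871 F359019 F176646 (iv4 F332812) (iv1 F164400) (iv4 F328935) F294043
theorem F359022 : act 6 n106841 = n91871 := d21_9 (iv5 D113463) D113461 (iv5 F358216) (iv6 D131801) F96405 D106617 F325496 (iv1 F164641) D106841 F359019
theorem F359023 : act 1 n97397 = n113463 := d15_0 (iv0 F359019) F294890 D97397
theorem F359024 : act 3 n91872 = n106841 := d7_3 F359022 (iv3 D91871) D91872
theorem F359025 : act 5 n106839 = n91872 := d6_0 F359024 (iv5 D106841) D106839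
theorem F359026 : act 5 n91693 = n132942 := d2_2 F359025 F141244 F213563
theorem F359027 : act 7 n132940 = n91693 := d13_0 F359026 (iv7 D132942) D132940
theorem F359028 : act 5 n132082 = n134986 := d21_6 (iv5 F294898) (iv1 F57181) (iv5 F65003) D90057 F340291 D132082 F217214 (iv5 F359026) (iv6 D91693) (iv1 F294081)
theorem F359029 : act 6 n134986 = n132086 := d12_2 D132082 F359028 (iv5 D132086) (iv6 D61974) D61973
theorem F359030 : act 4 n132086 = n134988 := d10_1 F359029 (iv6 D134988) D134986
theorem F359031 : act 5 n180359 = n131971 := d21_0 F354356 D132086 (iv6 F359029) F217214 F337800 (iv5 D86135) (iv1 D39870) D39872 D86141 D180359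
theorem F359032 : act 3 n131972 = n180359 := d6_3 F359031 (iv3 D131971) D131972
theorem F359033 : act 6 n163477 = n132940 := d14_5 F359027 (iv6 D91693) F67182 D78558 D163477
theorem F359034 : act 3 n132043 = n163477 := d7_3 F359033 F213561 (iv6 F347517)
theorem F359035 : act 5 n163477 = n132041 := d6_2 D132043 F359034 (iv3 D132041)
theorem E102375 : n132133 = n132043 := ((c20_4 (iv4 D97297) (iv1 F148727) F332555 (iv3 F359034) (iv1 D132133) (iv3 D61990) F47014 (iv1 F38893) F38890 (iv3 F78014) (iv1 F340398))).symm
theorem F359036 : act 0 n132043 = n61990 := (sb E102375 (iv1 D132133))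
theorem F359037 : act 0 n134212 = n108567 := d19_8 F359036 F96581 (iv4 F98585) (iv3 D63330) (iv1 F96652) (iv5 F98773) F98774 (iv3 F216249) (iv5 D108567) D108566 F319276 (iv1 F130718) D85549 (iv4 F347915) (iv3 D45439) (iv1 F70990) (iv5 F148724) F332555 (iv3 F359034)
theorem E102376 : n132132 = n132038 := ((c15_4 (iv0 D132132) (iv0 F359036) F347528 F349641)).symm
theorem F359038 : act 1 n132038 = n61990 := (sb E102376 (iv0 D132132))
theorem F359039 : act 7 n132041 = n163476 := d13_2 D163477 F359035 (iv5 D163476)
theorem F359040 : act 1 n96043 = n106759 := d15_0 F359020 (iv7 D96045) D96043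
theorem F359041 : act 7 n180337 = n182329 := d15_2 F358999 D180337 F359017
theorem F359042 : act 7 n182328 = n105287 := d15_2 F283868 F283863 (iv2 F359017)
theorem F359043 : act 2 n180337 = n182328 := d4_3 F359042 (iv2 F359017) (iv7 F359041)
theorem F359044 : act 3 n105291 = n182328 := d8_3 F359042 F161408 D105291
theorem F359045 : act 6 n113663 = n182328 := d14_5 F359042 (iv6 D105287) F76586 D52477 D113663
theorem F359046 : act 5 n182328 = n128737 := d6_2 (iv5 F332800) F359044 (iv3 D128737)
theorem E102377 : n133017 = n132100 := (c17_10 (iv1 D132100) D132101 F358970 F338346 F207016 (iv5 F322746) F338347 (iv5 D62411) D62410 D133017)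
theorem F359047 : act 4 n132100 = n62410 := (sb E102377 (iv4 D133017))
theorem F359048 : act 6 n132100 = n124613 := (sb E102377 (iv6 F341969))
theorem F359049 : act 2 n129956 = n132100 := d3_3 F359048 F341755 F212914
theorem F359050 : act 6 n113303 = n164178 := d3_2 F358955 (iv2 F358948) F333455
theorem F359051 : act 4 n113392 = n135823 := d10_1 F358955 (iv6 D135823) D135822
theorem F359052 : act 6 n95876 = n148800 := d21_3 (iv5 D177062) F153347 F153345 F353596 F313263 F91938 (iv1 F91907) D124509 F350145 (iv1 F350147)
theorem F359053 : act 0 n147172 = n180599 := d20_4 (iv4 F169882) (iv1 F320027) F320028 D147172 (iv3 D180599) D180600 F353590 (iv4 D147375) F105340 D69092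
theorem F359054 : act 4 n180599 = n109110 := d18_1 F359053 (iv1 D109110) F319460 (iv5 F352162) (iv4 D167574) (iv0 D80424) (iv4 F115778) (iv0 F353593) (iv5 F230754)
theorem F359055 : act 0 n180488 = n109110 := d20_1 (iv4 F280915) (iv4 F359054) (iv3 D180599) F323158 (iv3 D58973) (iv4 D28025) (iv1 F22243) D24799 D50989 (iv1 F321441)
theorem F359056 : act 7 n180488 = n109111 := d15_2 D109110 (iv0 F359055) (iv2 D109111)
theorem F359057 : act 1 n180492 = n109111 := d15_1 D180492 (iv7 F359056) F280914
theorem F359058 : act 1 n147991 = n105870 := d18_8 (iv1 F316571) D147987 (iv1 F243219) (iv4 F314503) F334859 (iv4 D151649) F238506 F353558 (iv5 D105870)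
theorem F359059 : act 5 n147991 = n175930 := d21_2 D105870 (iv1 F359058) (iv6 D175930) (iv1 F323485) F183803 (iv5 F229877) (iv1 F355813) (iv5 F355811) (iv6 D147984) F316572
theorem F359060 : act 3 n175933 = n147991 := d6_3 F359059 F275292 D175933
theorem F359061 : act 4 n175930 = n127149 := d16_6 F221158 (iv5 F221180) F353549 (iv5 F238501) F353558 F359059 (iv5 D127149) D127150 (iv2 F221157)
theorem F359062 : act 0 n145931 = n137933 := d20_1 (iv4 F229152) F353549 F259144 F334782 (iv3 D142842) (iv4 F204486) (iv1 F221134) (iv4 F228532) F229160 (iv1 D145937)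
theorem E102378 : n173287 = n74111 := (c21_5 F323812 F155524 D72007 (iv6 F127779) D173287 (iv6 D74111) F323252 (iv1 F111236) (iv5 F331291) (iv6 F286245) F353472)
theorem E102379 : n155794 = n82928 := ((D155794).symm.trans (sb E102378 (iv0 D173287)))
theorem F359063 : act 0 n82928 = n74111 := (sb E102379 (iv1 D155794))
theorem F359064 : act 4 n155795 = n126906 := d17_4 (iv1 D82927) D82928 F359063 D155795 F204153 (iv0 D107646) F345597 D119512 F304141
theorem F359065 : act 7 n126906 = n172354 := d11_2 (iv7 F340185) F359064 F270586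
theorem F359066 : act 5 n126915 = n155792 := d16_1 (iv4 F204164) F244798 D155795 F359064 F204153 F166255 (iv5 F111319) F111320 (iv2 F111304)
theorem E102380 : n180686 = n131913 := (c16_2 (iv4 F132264) D180686 (iv4 F330561) (iv5 D116572) F84752 (iv5 F181676) (iv4 F182039) F353463 (iv7 D159318) F254280)
theorem F359067 : act 0 n131913 = n109728 := (sb E102380 F351025)
theorem F359068 : act 5 n131913 = n86308 := (sb E102380 (iv5 D180686))
theorem E102381 : n177535 = n177533 := ((c21_4 F320714 F100715 F338798 D177533 (iv1 D177535) (iv6 F321853) F171347 D116670 F353463 F254490 (iv1 F336481))).symm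
theorem F359069 : act 0 n177533 = n84573 := (sb E102381 (iv1 D177535))
theorem E102382 : n159278 = n138143 := (c21_4 (iv5 F315533) F351950 (iv5 F330171) D159278 (iv1 D138143) F322470 F320714 F100715 F338798 D177533 F359069)
theorem F359070 : act 2 n138143 = n120971 := (sb E102382 F346122)
theorem F359071 : act 5 n138143 = n129278 := (sb E102382 (iv5 F330176))
theorem F359072 : act 6 n138143 = n76201 := (sb E102382 (iv6 D159278))
theorem E102383 : n129375 = n129278 := (c21_2 F322701 D129375 (iv5 F359071) F359072 (iv1 F250701) F250699 (iv5 F330238) (iv1 D134609) D134610 F216582 F338707)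
theorem F359073 : act 0 n129278 = n130835 := (sb E102383 (iv1 F209394))
theorem F359074 : act 1 n129278 = n60796 := (sb E102383 (iv0 D129375))
theorem F359075 : act 7 n129376 = n130739 := d15_2 F359074 D129376 F214186
theorem F359076 : act 0 n129378 = n136693 := d17_0 (iv5 D136693) (iv1 D64240) F48638 (iv4 F48897) D64900 D138143 F359071 F359074 D129378
theorem F359077 : act 7 n129283 = n126661 := d14_4 F359075 (iv6 D130739) (iv7 F214118) D129283 F338717
theorem F359078 : act 2 n129376 = n130833 := d15_3 (iv0 D130833) (iv0 F346124) (iv7 F359075)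
theorem F359079 : act 7 n130833 = n129278 := d4_2 (iv7 F359075) F359078 (iv2 F214186)
theorem F359080 : act 7 n138143 = n120970 := d13_2 F359079 (iv5 F359071) F345360
theorem F359081 : act 6 n129591 = n130833 := d14_5 F359079 (iv6 D129278) (iv7 F214121) D130734 (iv7 F216490)
theorem F359082 : act 2 n126661 = n129591 := d3_3 F359081 (iv2 F359078) (iv6 F338717)
theorem F359083 : act 5 n126668 = n129591 := d21_2 (iv5 D126670) D126668 F359081 (iv1 F209390) (iv6 F346126) F239880 (iv1 F308621) (iv5 D135444) F336107 (iv1 F203836)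
theorem E102384 : n126668 = n126659 := ((c2_4 F359083 (iv2 F359082) (iv5 D126661) D126659)).symm
theorem F359084 : act 0 n126659 = n59432 := (sb E102384 (iv1 F203829))
theorem F359085 : act 1 n126659 = n59430 := (sb E102384 (iv0 D126668))
theorem F359086 : act 5 n126659 = n129591 := (sb E102384 F359083)
theorem E102385 : n130734 = n126666 := (c13_3 F203827 F359086 F216490 (iv5 D126666))
theorem F359087 : act 2 n126666 = n129283 := (sb E102385 (iv2 F214183))
theorem F359088 : act 6 n126666 = n61337 := (sb E102385 (iv6 D130734))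
theorem F359089 : act 7 n126666 = n129591 := (sb E102385 (iv7 F216490))
theorem F359090 : act 0 n136704 = n162607 := d21_4 F359086 (iv1 F207767) F324993 D136704 F350985 D179952 F350989 F192320 (iv6 F319240) (iv1 F359085)
theorem E102386 : n152162 = n126667 := (c12_4 F359088 F211937 D71759 D152162 (iv6 D126667) D126666)
theorem F359091 : act 2 n126667 = n135408 := (sb E102386 F239225)
theorem F359092 : act 3 n126667 = n166216 := (sb E102386 F358561)
theorem F359093 : act 5 n126667 = n71759 := (sb E102386 (iv5 D152162))
theorem E102387 : n126666 = n66481 := ((c21_5 F317959 (iv1 F318040) F95482 (iv6 F49445) D66481 F359088 F211937 (iv1 F52396) (iv5 D30040) F23792 F211575)).symm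
theorem E102388 : n141790 = n129283 := ((D141790).symm.trans (sb E102387 F359087))
theorem E102389 : n141793 = n59429 := ((D141793).symm.trans (sb E102387 (iv5 D126666)))
theorem E102390 : n141794 = n61337 := ((D141794).symm.trans (sb E102387 F359088))
theorem E102391 : n141795 = n129591 := ((D141795).symm.trans (sb E102387 F359089))
theorem F359094 : act 2 n129283 = n66481 := (sb E102388 (iv2 D141790))
theorem E102392 : n126661 = n66482 := ((F359077).symm.trans (sb E102388 (iv7 F224809)))
theorem F359095 : act 5 n59429 = n66481 := (sb E102389 (iv5 D141793))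
theorem F359096 : act 6 n61337 = n66481 := (sb E102390 (iv6 D141794))
theorem F359097 : act 7 n129591 = n66481 := (sb E102391 (iv7 D141795))
theorem F359098 : act 2 n66482 = n129591 := (sb E102392 F359082)
theorem E102393 : n141798 = n59428 := ((D141798).symm.trans (sb E102392 (iv5 D126661)))
theorem E102394 : n141799 = n129376 := ((D141799).symm.trans (sb E102392 F338717))
theorem F359099 : act 7 n66482 = n129283 := (sb E102392 (iv7 F359077))
theorem F359100 : act 5 n59428 = n66482 := (sb E102393 (iv5 D141798))
theorem F359101 : act 6 n129376 = n66482 := (sb E102394 (iv6 D141799))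
theorem F359102 : act 5 n138142 = n129376 := d21_2 D64900 D138142 F359101 (iv1 D66482) F49445 (iv5 F95482) (iv1 F319729) F98479 D63237 F340131
theorem F359103 : act 2 n120970 = n138142 := d2_3 F359102 F359078 (iv5 F345360)
theorem F359104 : act 7 n120971 = n138142 := d13_0 F359102 F359075 (iv5 F346121)
theorem F359105 : act 5 n141796 = n107379 := d6_2 F359100 D141796 (iv3 F165426)
theorem E102395 : n126669 = n126663 := (c13_4 (iv7 D126663) F359100 F359099 F353996)
theorem F359106 : act 0 n126663 = n59430 := (sb E102395 (iv1 D126669))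
theorem F359107 : act 1 n126663 = n59432 := (sb E102395 F203830)
theorem F359108 : act 3 n126663 = n106439 := (sb E102395 (iv3 F203831))
theorem F359109 : act 5 n126663 = n129283 := (sb E102395 (iv5 F353996))
theorem F359110 : act 6 n126663 = n135408 := (sb E102395 F353995)
theorem F359111 : act 0 n126662 = n120064 := d21_4 D126702 F325876 (iv5 F359100) D126662 (iv6 D120064) F323699 F111240 D64294 (iv6 F331749) (iv1 D126700)
theorem F359112 : act 1 n126662 = n137313 := d15_1 (iv0 F359111) F220472 F346329
theorem F359113 : act 7 n106439 = n107379 := d8_2 D126663 F359108 (iv3 F165426)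
theorem E102396 : n107372 = n49182 := (c11_3 F359113 (iv4 D107379) F165423 D106439)
theorem E102397 : n106437 = n49599 := (((iv2 F163700)).symm.trans (sb E102396 (iv2 D107372)))
theorem E102398 : n106432 = n49600 := ((F163699).symm.trans (sb E102396 (iv7 F165423)))
theorem F359114 : act 2 n49599 = n49182 := (sb E102397 F163700)
theorem E102399 : n145347 = n107071 := ((((iv5 F220042)).symm.trans (sb E102397 (iv5 F228394)))).symm
theorem E102400 : n107377 = n49181 := ((D107377).symm.trans (sb E102397 (iv7 D106437)))
theorem E102401 : n145344 = n107072 := ((((iv5 F223614)).symm.trans (sb E102398 (iv5 F228387)))).symm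
theorem F359115 : act 7 n49600 = n49182 := (sb E102398 (iv7 F163699))
theorem F359116 : act 2 n107071 = n68146 := (sb E102399 F228393)
theorem F359117 : act 7 n107071 = n68145 := (sb E102399 (iv7 D145347))
theorem F359118 : act 2 n49181 = n49600 := (sb E102400 F165425)
theorem F359119 : act 7 n49181 = n49599 := (sb E102400 (iv7 D107377))
theorem F359120 : act 2 n107072 = n68145 := (sb E102401 (iv2 D145344))
theorem F359121 : act 7 n107072 = n68146 := (sb E102401 (iv7 F228388))
theorem F359122 : act 7 n107373 = n106433 := d8_2 F359119 D107373 (iv3 D106433)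
theorem F359123 : act 7 n107374 = n106434 := d11_2 F359119 D107374 (iv4 D106434)
theorem F359124 : act 2 n106434 = n107379 := d15_3 F354334 (iv0 F354333) F359123
theorem F359125 : act 2 n107374 = n106439 := d4_1 (iv7 F359123) F359113 (iv2 F359124)
theorem E102402 : n110897 = n110888 := (c11_2 F359122 (iv4 F171806) (iv7 F171803) (iv4 F165424))
theorem F359126 : act 0 n110888 = n51138 := (sb E102402 (iv1 F171808))
theorem F359127 : act 1 n110888 = n51136 := (sb E102402 (iv0 D110897))
theorem F359128 : act 4 n110888 = n106433 := (sb E102402 F171806)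
theorem F359129 : act 5 n110888 = n139469 := (sb E102402 (iv5 F222663))
theorem F359130 : act 7 n145345 = n136850 := d13_2 F359122 (iv5 F228390) F220040
theorem F359131 : act 2 n106433 = n110890 := d15_3 (iv0 F171804) (iv0 F220521) F359122
theorem F359132 : act 2 n107373 = n142801 := d15_3 (iv0 D142801) (iv0 F171807) (iv7 F359122)
theorem E102403 : n110898 = n110893 := (c1_3 (iv4 F165424) F359132 F225702 F171805)
theorem F359133 : act 0 n110893 = n51136 := (sb E102403 (iv1 D110898))
theorem F359134 : act 1 n110893 = n51138 := (sb E102403 F171809)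
theorem F359135 : act 4 n110893 = n142801 := (sb E102403 (iv4 F225702))
theorem F359136 : act 5 n110893 = n139468 := (sb E102403 (iv5 F224266))
theorem F359137 : act 7 n142801 = n110890 := d4_2 (iv7 F359122) F359132 (iv2 F359131)
theorem F359138 : act 2 n139468 = n110895 := d2_1 F359136 (iv5 D110895) (iv2 F171805)
theorem F359139 : act 7 n139468 = n110891 := d13_2 D110893 F359136 (iv5 D110891)
theorem F359140 : act 2 n110891 = n139469 := d15_3 F224267 F224264 F359139
theorem F359141 : act 7 n110895 = n139469 := d4_2 (iv7 F359139) F359138 (iv2 F359140)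
theorem F359142 : act 2 n136845 = n145345 := d2_3 F228390 F359131 (iv5 F220038)
theorem E102404 : n136843 = n135953 := ((c1_3 D136845 F359142 F228392 (iv2 D136843))).symm
theorem F359143 : act 2 n135953 = n64333 := (sb E102404 (iv2 D136843))
theorem F359144 : act 7 n135953 = n64334 := (sb E102404 (iv7 F220037))
theorem E102405 : n136848 = n135952 := (c15_4 (iv0 D135952) D135953 F359144 (iv2 F220039))
theorem F359145 : act 2 n135952 = n64334 := (sb E102405 F220039)
theorem F359146 : act 7 n135952 = n64333 := (sb E102405 (iv7 D136848))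
theorem E102406 : n139469 = n136689 := ((c21_6 (iv5 D30250) (iv1 D14355) D14357 D30260 D64239 D136689 (iv5 F359129) F359126 (iv5 F171813) F338255 (iv1 F100016))).symm
theorem F359147 : act 0 n136689 = n65454 := (sb E102406 (iv1 D139469))
theorem F359148 : act 1 n136689 = n141231 := (sb E102406 F224267)
theorem F359149 : act 2 n136689 = n110891 := (sb E102406 (iv2 F359140))
theorem F359150 : act 5 n136689 = n110888 := (sb E102406 (iv5 F359129))
theorem F359151 : act 7 n136689 = n110895 := (sb E102406 (iv7 F359141))
theorem E102407 : n136685 = n135933 := ((c3_3 D136689 F359149 (iv6 F338280) (iv2 D136685))).symm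
theorem F359152 : act 2 n135933 = n64239 := (sb E102407 (iv2 D136685))
theorem F359153 : act 7 n135933 = n64240 := (sb E102407 (iv7 F219819))
theorem E102408 : n136690 = n135934 := (c15_4 F218652 F218655 F359153 (iv2 F219820))
theorem F359154 : act 2 n135934 = n64240 := (sb E102408 F219820)
theorem F359155 : act 7 n135934 = n64239 := (sb E102408 (iv7 D136690))
theorem F359156 : act 2 n107381 = n106436 := d3_3 (iv6 D106436) F359118 D107381
theorem F359157 : act 7 n106438 = n107378 := d8_2 F359115 D106438 (iv3 D107378)
theorem F359158 : act 2 n106441 = n107376 := d3_3 (iv6 D107376) F359114 D106441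
theorem F359159 : act 1 n158744 = n141796 := d17_6 F225606 (iv5 F228520) (iv1 D145473) D145474 (iv4 F343455) (iv5 F249924) F359105 F354334 F351324
theorem F359160 : act 5 n174519 = n167592 := d21_6 (iv5 F359105) (iv1 F359159) F249924 (iv6 D83418) (iv1 F128519) D174519 (iv1 F355847) (iv5 D179255) D179256 (iv1 F354334)
theorem F359161 : act 2 n162609 = n174519 := d2_3 F359160 F263846 (iv5 F256839)
theorem F359162 : act 4 n157148 = n174519 := d18_3 (iv1 F345570) F209073 D157148 F359160 F355846 (iv0 D164200) D164201 F324705 (iv5 F275320)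
theorem F359163 : act 0 n147278 = n174519 := d21_7 (iv5 D83066) (iv1 F59096) D38240 F330303 (iv1 D69038) D69041 D147278 F359160 (iv6 D167592) (iv1 F301081)
theorem F359164 : act 6 n145336 = n157148 := d10_0 F359162 (iv6 D174519) (iv4 F330944)
theorem F359165 : act 6 n141791 = n128270 := d7_2 F359096 D141791 F311923
theorem F359166 : act 6 n141792 = n130732 := d10_2 F359096 D141792 (iv4 D130732)
theorem F359167 : act 5 n141791 = n126664 := d6_2 F359095 D141791 (iv3 D126664)
theorem F359168 : act 6 n126664 = n166216 := d12_2 (iv6 F359165) F359167 F353863 (iv6 D152154) (iv5 F311925)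
theorem F359169 : act 5 n120094 = n130901 := d21_6 D59431 (iv1 F338723) (iv5 F338737) F338738 F322912 D120094 F353871 (iv5 F359093) (iv6 D126667) (iv1 D59429)
theorem F359170 : act 7 n163201 = n120094 := d13_0 F359169 F209484 (iv5 F339292)
theorem E102409 : n180683 = n131133 := (c12_5 (iv6 F211362) F359068 (iv6 D86308) D86307 D180683 F210034)
theorem F359171 : act 6 n131133 = n86307 := (sb E102409 (iv6 D180683))
theorem F359172 : act 0 n142079 = n149210 := d21_4 F205310 (iv1 D115819) (iv5 F180308) D142079 (iv6 D149210) D149209 (iv1 F353455) (iv5 F261566) (iv6 F322666) (iv1 F223904)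
theorem F359173 : act 4 n144493 = n139942 := d18_5 F353440 (iv4 F235253) (iv1 D105426) (iv4 F161816) (iv5 F333246) (iv0 D139942) F101422 (iv0 F335043) D139745
theorem E102410 : n175629 = n146574 := (c20_6 (iv4 F120172) F259133 (iv4 D164468) (iv3 F336467) F314191 D175629 (iv4 F319649) F353440 (iv4 F235253) F278217 (iv1 D121351))
theorem F359174 : act 3 n146574 = n83851 := (sb E102410 (iv3 D175629))
theorem E102411 : n177159 = n139958 := ((c15_4 (iv0 D177159) (iv0 F353440) (iv7 F227161) (iv2 F335037))).symm
theorem F359175 : act 1 n139958 = n84419 := (sb E102411 (iv0 D177159))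
theorem E102412 : n114061 = n49062 := (c20_5 F235253 (iv1 F359175) F335038 F162586 D114061 (iv3 D49062) F177819 (iv1 F40664) F40661 (iv3 F76783) (iv1 F161817))
theorem E102413 : n106155 = n71884 := ((D106155).symm.trans (sb E102412 (iv1 F177574)))
theorem E102414 : n106156 = n52643 := ((D106156).symm.trans (sb E102412 (iv0 D114061)))
theorem E102415 : n114062 = n106376 := (((iv1 F177571)).symm.trans (sb E102413 (iv1 F163491)))
theorem F359176 : act 1 n71884 = n49062 := (sb E102413 (iv0 D106155))
theorem F359177 : act 0 n52643 = n49062 := (sb E102414 (iv1 D106156))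
theorem F359178 : act 0 n106376 = n52643 := (sb E102415 (iv1 D114062))
theorem F359179 : act 1 n106376 = n71884 := (sb E102415 F177571)
theorem E102416 : n140119 = n139959 := ((c21_4 F348034 (iv1 F359175) (iv5 D139958) D139959 (iv1 D140119) (iv6 D65760) (iv5 F322096) F50892 D26358 D54500 D118333)).symm
theorem F359180 : act 0 n139959 = n65760 := (sb E102416 (iv1 D140119))
theorem F359181 : act 0 n140115 = n155609 := d18_2 F359180 (iv4 F223303) (iv4 D155609) (iv5 F311957) F306939 (iv0 F305005) (iv4 F323436) F323434 (iv5 F332420)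
theorem F359182 : act 6 n106159 = n134495 := d21_9 D134496 F345016 F214879 (iv6 D127379) F94243 D113617 F176797 F359177 D106159 (iv1 D134495)
theorem F359183 : act 3 n134495 = n106171 := d7_1 F359182 (iv6 D106171) (iv3 F163162)
theorem F359184 : act 0 n126472 = n113617 := d21_10 F176797 F359177 D106159 F359182 (iv1 D134495) (iv6 D63188) (iv5 D29874) (iv1 F45585) D59338 D126472
theorem F359185 : act 4 n113617 = n135652 := d18_1 F359184 (iv1 F218516) F218512 (iv5 F179441) (iv4 F348626) (iv0 F348624) F239688 (iv0 F354426) F214663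
theorem F359186 : act 1 n126472 = n146850 := d15_1 (iv0 F359184) (iv7 D146850) (iv2 F176796)
theorem F359187 : act 1 n146850 = n106115 := d15_1 F359186 (iv7 F177875) F332590
theorem F359188 : act 5 n106115 = n152510 := d17_7 F348624 F262056 (iv1 F199393) (iv5 F348637) F348636 (iv5 F230241) F359187 (iv0 D152510) (iv4 F239688)
theorem F359189 : act 4 n146850 = n135653 := d20_0 (iv1 D135653) F99141 (iv3 F48363) F328249 F40349 (iv4 F40359) D52602 F177855 D106115 (iv1 F359187)
theorem F359190 : act 7 n135653 = n135849 := d11_2 D146850 F359189 F336465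
theorem F359191 : act 2 n135849 = n135652 := d15_3 (iv0 D135652) D135653 F359190
theorem F359192 : act 2 n135653 = n135850 := d15_3 F218508 F218514 (iv7 F359190)
theorem F359193 : act 7 n135850 = n135652 := d4_2 (iv7 F359190) F359192 (iv2 F359191)
theorem F359194 : act 6 n135652 = n113616 := d3_2 (iv6 F336466) F359191 F176794
theorem F359195 : act 3 n152510 = n106117 := d6_1 F359188 (iv5 D106117) D106115
theorem F359196 : act 7 n152510 = n126462 := d13_2 F177875 F359188 (iv5 F332592)
theorem E102417 : n146417 = n139965 := ((c20_2 (iv4 D139967) D139965 F229744 (iv3 F318934) D152510 F359195 (iv4 F178999) (iv1 F179002) F178445 (iv3 F356669) (iv1 F334967))).symm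
theorem F359197 : act 0 n139965 = n138697 := (sb E102417 F335045)
theorem F359198 : act 2 n139965 = n116907 := (sb E102417 F229742)
theorem F359199 : act 3 n139965 = n127434 := (sb E102417 F229743)
theorem F359200 : act 4 n139965 = n69315 := (sb E102417 F229744)
theorem F359201 : act 5 n139965 = n105937 := (sb E102417 F229745)
theorem F359202 : act 6 n139965 = n68649 := (sb E102417 (iv6 D146417))
theorem F359203 : act 7 n139965 = n138671 := (sb E102417 F335046)
theorem F359204 : act 2 n139968 = n138697 := d15_3 (iv0 F359197) (iv0 D139965) D139968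
theorem F359205 : act 7 n138697 = n116022 := d4_2 D139968 F359204 F180767
theorem E102418 : n151387 = n146574 := (c8_1 D151387 F359174 (iv7 F311746) F177757)
theorem F359206 : act 7 n146574 = n71357 := (sb E102418 (iv7 D151387))
theorem F359207 : act 6 n139942 = n155613 := d10_2 (iv6 F333247) F359173 (iv4 D155613)
theorem F359208 : act 1 n106145 = n152355 := d15_1 (iv0 F353426) (iv7 D152355) (iv2 F177756)
theorem F359209 : act 0 n142816 = n157162 := d21_7 (iv5 F343563) (iv1 F348790) F348793 (iv6 F316139) F353411 (iv6 D142817) D142816 (iv5 D157162) (iv6 D74722) D74718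
theorem F359210 : act 3 n141174 = n141068 := d5_3 F353365 F224193 D141174 F224070 (iv3 F169835)
theorem F359211 : act 2 n115429 = n141174 := d0_5 F359210 (iv2 D141068) (iv3 D66157) (iv2 F84095) D115429
theorem F359212 : act 6 n178568 = n141174 := d7_0 F359210 F316901 D178568
theorem F359213 : act 2 n135739 = n178568 := d3_3 F359212 (iv2 F359211) F218268
theorem F359214 : act 5 n178568 = n156168 := d2_2 F245443 F359213 (iv2 F245442)
theorem F359215 : act 1 n178568 = n135735 := d15_0 (iv0 D135735) D135739 F359213
theorem F359216 : act 1 n135739 = n178660 := d15_0 (iv0 D178660) (iv7 F278306) (iv2 F359213)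
theorem F359217 : act 7 n156168 = n178663 := d13_2 (iv7 F278306) F359214 (iv5 D178663)
theorem F359218 : act 2 n178663 = n135738 := d16_9 (iv4 F332966) (iv5 D109206) F79762 (iv5 F39268) (iv4 F81285) D111745 F353362 F359214 F359217
theorem F359219 : act 1 n178663 = n156011 := d15_0 (iv0 F246212) F245444 (iv2 F359218)
theorem F359220 : act 5 n156024 = n178660 := d17_5 (iv1 D156570) F111748 (iv1 F351242) (iv5 F350387) F245623 (iv0 D178660) D178663 F359219 F246211
theorem F359221 : act 1 n111745 = n136354 := d15_0 (iv0 D136354) (iv7 F211758) (iv2 F353361)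
theorem F359222 : act 5 n159159 = n136354 := d21_0 (iv1 F359221) (iv5 D111745) (iv6 D51520) (iv1 F80662) F329448 (iv5 D76081) (iv1 D34763) D34765 D76090 D159159
theorem F359223 : act 6 n139476 = n159159 := d21_5 F80664 F39218 D30689 D65456 D139476 F359222 (iv1 F359221) (iv5 D111745) (iv6 D51520) (iv1 F80662)
theorem F359224 : act 1 n109216 = n124014 := d17_8 D159159 F359222 (iv1 F359221) (iv5 D111745) F81285 F39268 D50396 D109216 F306415
theorem F359225 : act 0 n159159 = n135922 := d21_1 (iv5 F359222) (iv5 D135922) F99402 F224169 (iv6 F343205) F343204 (iv1 F343206) F328432 (iv6 D136358) D136354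
theorem E102419 : n180402 = n140375 := ((c21_5 F345425 (iv1 F359224) (iv5 D109216) (iv6 F351219) (iv1 F223481) (iv6 D180402) (iv5 D86159) (iv1 D39879) D39881 D86166 D180418)).symm
theorem F359226 : act 2 n140375 = n157904 := (sb E102419 F280769)
theorem F359227 : act 4 n140375 = n108781 := (sb E102419 (iv4 F343786))
theorem F359228 : act 6 n140375 = n86159 := (sb E102419 (iv6 D180402))
theorem F359229 : act 7 n140374 = n157904 := d15_2 F223481 F223485 (iv2 F359226)
theorem F359230 : act 2 n102042 = n89440 := d1_1 F353333 F344530 F258607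
theorem F359231 : act 3 n147119 = n102818 := d20_5 (iv4 D68977) (iv1 D32088) D32089 D68979 D147119 F353333 (iv1 F156991) F329748 (iv3 F169507) (iv1 F105182)
theorem E102420 : n147119 = n137287 := ((c6_1 D137287 F359231 (iv5 D102818) (iv3 F325199))).symm
theorem F359232 : act 0 n137287 = n109515 := (sb E102420 (iv1 F230674))
theorem F359233 : act 1 n137287 = n68979 := (sb E102420 (iv0 D147119))
theorem F359234 : act 3 n137287 = n102818 := (sb E102420 F359231)
theorem F359235 : act 5 n145518 = n106522 := d17_1 F229104 (iv1 F164532) (iv5 F290561) F321241 (iv5 D64525) D64523 D137287 F359233 (iv4 F229102)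
theorem F359236 : act 3 n106522 = n145519 := d6_1 F359235 (iv5 D145519) D145518
theorem F359237 : act 7 n89441 = n102042 := d4_0 F359230 (iv7 F352820) F352819
theorem F359238 : act 6 n111908 = n100725 := d12_2 D100722 F353327 (iv5 D100725) (iv6 D46974) D46973
theorem F359239 : act 3 n100725 = n111910 := d7_1 F359238 (iv6 D111910) D111908
theorem F359240 : act 7 n100725 = n174197 := d14_2 (iv7 F173878) F359238 (iv6 D174197) (iv7 F271590) F346339
theorem F359241 : act 4 n177786 = n100725 := d11_3 F359240 F300491 (iv7 F277275)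
theorem F359242 : act 5 n174197 = n100726 := d13_1 F359240 (iv7 D100726) D100725
theorem F359243 : act 4 n96392 = n178115 := d18_1 (iv1 F160472) (iv1 D178115) (iv4 F300491) F359242 F154827 (iv0 F289672) (iv4 F70771) F76171 D95454
theorem F359244 : act 4 n96227 = n114233 := d5_2 (iv4 F205297) F353322 (iv3 F318238) (iv4 D116401) (iv3 F181518)
theorem F359245 : act 6 n96227 = n137505 := d7_2 F346255 F353322 (iv3 F353146)
theorem F359246 : act 2 n114234 = n96227 := d3_3 F359245 F220693 F353122
theorem F359247 : act 2 n95312 = n127780 := d0_5 F205527 F359246 (iv3 F353322) (iv2 F225885) (iv3 F318875)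
theorem E102421 : n160796 = n136292 := (c8_4 F220407 F353287 F299379 D160796)
theorem F359248 : act 3 n136292 = n77153 := (sb E102421 (iv3 D160796))
theorem F359249 : act 6 n136292 = n162745 := (sb E102421 (iv6 F256972))
theorem F359250 : act 5 n162745 = n136291 := d12_1 F359249 (iv6 D136291) (iv5 D64074) D64075 D136292
theorem F359251 : act 0 n136291 = n103254 := d21_7 (iv5 D103653) (iv1 F76051) D104623 F340585 (iv1 F220410) F359249 F359250 (iv5 F160648) (iv6 D104813) (iv1 F160316)
theorem F359252 : act 3 n136291 = n158862 := d6_1 F359250 F302427 D162745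
theorem F359253 : act 6 n158862 = n111617 := d7_2 D136291 F359252 F173167
theorem F359254 : act 3 n155148 = n175111 := d19_11 D17094 D35223 D77153 (iv3 F359248) F219352 (iv5 D111804) F81350 (iv3 F48784) D64463 D137122 F347059 (iv1 D175111) (iv5 D83631) F311228 (iv3 D50051) (iv1 D24409) F18821 F11677 (iv3 F12779)
theorem F359255 : act 5 n175111 = n155147 := d6_2 D155148 F359254 (iv3 D155147)
theorem F359256 : act 5 n158471 = n133751 := d21_8 (iv5 F359255) (iv1 D175111) (iv5 D83631) (iv6 D38560) F29542 D34580 D75598 D158471 (iv6 F234301) (iv1 F340785)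
theorem F359257 : act 6 n119467 = n155147 := d21_5 (iv5 D16765) D16762 (iv5 F42575) D54971 D119467 (iv5 F359255) (iv1 D175111) (iv5 D83631) (iv6 D38560) F29542
theorem F359258 : act 2 n155147 = n175198 := d3_1 F359257 (iv6 D175198) F188254
theorem F359259 : act 4 n175198 = n157631 := d1_2 F255812 F359258 F312348
theorem F359260 : act 7 n161580 = n175198 := d15_2 F340785 F350939 (iv2 F359258)
theorem F359261 : act 6 n157631 = n169814 := d10_2 D175198 F359259 F267240
theorem F359262 : act 0 n101611 = n175198 := d20_10 F359259 F312347 F132663 (iv3 D77476) (iv1 D35376) (iv3 F56074) (iv4 F301348) (iv1 F344068) (iv4 D101612) D101611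
theorem E102422 : n158471 = n133090 := ((c6_4 F359256 (iv3 F346988) (iv5 D133092) D133090)).symm
theorem F359263 : act 1 n133090 = n75598 := (sb E102422 (iv0 D158471))
theorem F359264 : act 5 n133090 = n133751 := (sb E102422 F359256)
theorem F359265 : act 7 n130396 = n133090 := d13_0 F359264 (iv7 F344034) (iv5 F347044)
theorem F359266 : act 0 n133091 = n113953 := d20_7 (iv4 F272667) (iv1 D158547) (iv4 D75626) (iv3 F113455) (iv1 F359263) (iv3 D133090) D133091 F339477 F339476 (iv1 F270520)
theorem F359267 : act 7 n133091 = n130397 := d15_2 (iv0 F347108) (iv0 F359266) F347122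
theorem F359268 : act 2 n130392 = n133091 := d4_3 F359267 F347122 (iv7 F346996)
theorem F359269 : act 1 n133091 = n130228 := d15_0 (iv0 F350894) (iv7 F346996) F359268
theorem F359270 : act 2 n132935 = n113953 := d15_3 (iv0 F359266) F359269 F354046
theorem F359271 : act 6 n113953 = n131976 := d3_2 D132935 F359270 (iv2 F211461)
theorem F359272 : act 2 n109740 = n180642 := d15_3 (iv0 D180642) D180643 (iv7 F353279)
theorem F359273 : act 2 n177606 = n160987 := d0_1 F353274 F254493 F334018 (iv3 F231440) F334020
theorem F359274 : act 6 n177606 = n157819 := d7_2 D176877 F353274 (iv3 F248704)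
theorem F359275 : act 0 n121197 = n177606 := d21_4 (iv5 F334294) (iv1 F334295) (iv5 D121196) D121197 F359274 (iv5 F326781) F326779 F194350 F330779 (iv1 F122847)
theorem F359276 : act 7 n147376 = n160987 := d15_2 (iv0 F359275) (iv0 F354859) (iv2 F359273)
theorem F359277 : act 7 n121197 = n177607 := d15_2 D177606 (iv0 F359275) (iv2 D177607)
theorem E102423 : n177607 = n174108 := (c11_1 F359277 (iv4 D174108) F330716 (iv4 F193280))
theorem F359278 : act 2 n174108 = n84595 := (sb E102423 (iv2 D177607))
theorem F359279 : act 7 n174108 = n121197 := (sb E102423 (iv7 F359277))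
theorem F359280 : act 7 n160948 = n174174 := d8_0 F353246 (iv7 D160952) D160948
theorem F359281 : act 4 n174174 = n158859 := d20_6 F55008 (iv1 F28590) (iv4 F55991) (iv3 F116008) (iv1 F336547) (iv3 F353246) (iv1 D158859) F113667 (iv3 D34806) D34804
theorem F359282 : act 6 n110340 = n164841 := d14_3 F359280 (iv6 F353245) F170592 (iv7 F261159) (iv6 F336531)
theorem F359283 : act 2 n160948 = n174173 := d15_3 (iv0 D174173) D174174 (iv7 F359280)
theorem F359284 : act 6 n111616 = n109048 := d7_2 F353239 F349828 F244985
theorem F359285 : act 6 n112157 = n109784 := d3_2 F359284 (iv2 F244984) F219325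
theorem F359286 : act 6 n108986 = n111559 := d10_2 F359284 (iv4 F169049) F173166
theorem E102424 : n111562 = n50323 := (c7_3 F359286 (iv3 D111559) D111562 D108986)
theorem E102425 : n108989 = n51455 := ((D108989).symm.trans (sb E102424 (iv6 D111562)))
theorem F359287 : act 6 n51455 = n50323 := (sb E102425 (iv6 D108989))
theorem F359288 : act 6 n108627 = n111297 := d3_2 F359287 (iv2 F170033) F173103
theorem F359289 : act 7 n111567 = n108994 := d14_4 (iv7 F170035) F359288 F173104 D111567 (iv6 D108994)
theorem F359290 : act 4 n108994 = n120603 := d11_1 F359289 F192175 (iv4 F358652)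
theorem F359291 : act 1 n111776 = n108994 := d18_6 F303118 (iv4 F302833) F199934 (iv4 F305941) D173462 (iv4 F339367) F359290 F339243 F339241
theorem F359292 : act 4 n127616 = n154887 := d10_1 F353154 (iv6 D154887) D154886
theorem F359293 : act 1 n102237 = n149239 := d15_0 F353153 F153649 D102237
theorem F359294 : act 1 n103586 = n102237 := d15_0 F359293 (iv7 D149239) (iv2 F158903)
theorem F359295 : act 3 n114242 = n114155 := d8_3 F353118 F178030 D114242
theorem F359296 : act 3 n127789 = n159465 := d6_3 F251109 F359295 (iv5 F205553)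
theorem E102426 : n170618 = n116774 := (c21_3 F334473 (iv1 F267528) D170618 (iv6 D116774) D116769 F353107 (iv5 F317899) (iv1 F309775) (iv5 F299987) (iv6 F313084) (iv1 F210338))
theorem F359297 : act 5 n116774 = n81786 := (sb E102426 (iv5 D170618))
theorem E102427 : n148308 = n116774 := (c2_4 F359297 (iv2 F324853) (iv5 D148310) D148308)
theorem F359298 : act 2 n116774 = n69510 := (sb E102427 (iv2 D148308))
theorem F359299 : act 0 n154036 = n116774 := d17_2 F112584 (iv5 F242061) F359297 (iv4 F317809) (iv5 D148493) (iv0 F318762) F317799 F205868 (iv4 F185212)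
theorem F359300 : act 0 n116774 = n149728 := d21_7 (iv5 D154696) (iv1 F231696) F231693 F112407 (iv1 F108896) (iv6 F305343) (iv5 F359297) (iv5 F311841) (iv6 F129426) F309634
theorem E102428 : n148450 = n127774 := ((c18_2 F359300 F290488 (iv1 D148450) F105841 D69579 (iv4 F324854) F324852 (iv4 F299181) D81786 (iv5 F359297))).symm
theorem F359301 : act 0 n127774 = n69563 := (sb E102428 (iv1 D148450))
theorem F359302 : act 2 n111455 = n180431 := d0_3 F353074 F173366 D111455 (iv3 D180431) (iv2 F297662)
theorem F359303 : act 0 n140705 = n113252 := d20_10 (iv4 D113252) (iv1 F161128) (iv4 F172628) F172627 (iv1 F172598) (iv3 F353074) F197892 F296424 (iv4 F325619) D140705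
theorem F359304 : act 5 n154765 = n108871 := d6_0 F353061 D123479 (iv3 F344438)
theorem F359305 : act 2 n175007 = n154765 := d2_3 F359304 F353060 (iv5 F352220)
theorem F359306 : act 6 n111571 = n154764 := d12_4 D154765 F359304 (iv6 F353073) F232083 (iv5 D154764)
theorem F359307 : act 7 n166444 = n154765 := d13_0 F359304 F353063 D166444
theorem F359308 : act 4 n119432 = n154765 := d16_0 F359304 F353062 (iv5 F319972) F181820 (iv5 F317987) (iv4 F186977) F188394 (iv7 F188484) F188485
theorem F359309 : act 5 n157091 = n119432 := d16_1 D157091 F359308 F359304 F353062 (iv5 F319972) F181820 (iv5 F317987) (iv7 F110226) F315963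
theorem F359310 : act 0 n119344 = n154765 := d17_0 F359304 (iv1 D108871) D108872 F352230 (iv5 D157082) (iv0 F353047) (iv5 D155846) (iv0 F353043) D119344
theorem F359311 : act 7 n157091 = n175119 := d16_8 F186977 F317987 (iv4 F181820) F319972 (iv4 F353062) (iv5 F359304) (iv4 F359308) (iv5 F359309) F274100
theorem F359312 : act 2 n155007 = n157091 := d4_3 F359311 F274100 (iv7 F243740)
theorem F359313 : act 3 n116822 = n154715 := d20_9 (iv4 D81461) (iv1 F310603) D154720 F350964 F359310 F344438 (iv4 F344439) F167855 (iv4 F182408) F314541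
theorem F359314 : act 5 n154715 = n170808 := d6_2 (iv5 F341367) F359313 (iv3 D170808)
theorem F359315 : act 6 n154715 = n116820 := d7_2 D116822 F359313 (iv3 D116820)
theorem F359316 : act 3 n166060 = n134487 := d8_3 F216435 F359313 F350085
theorem F359317 : act 6 n157460 = n166063 := d3_2 F359315 F344008 F350084
theorem F359318 : act 5 n116820 = n157616 := d21_6 (iv5 F339902) F339898 (iv5 D73371) D73372 D154715 F359315 (iv1 F248369) F242670 (iv6 D147910) F105552
theorem F359319 : act 3 n157616 = n116821 := d6_1 F359318 (iv5 D116821) D116820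
theorem E102429 : n141880 = n116820 := (c17_3 (iv1 F338946) (iv5 D141882) D141880 F359318 F248368 F112555 F108926 (iv5 F304670) (iv0 D101326) D101328)
theorem F359320 : act 1 n116820 = n66522 := (sb E102429 (iv0 D141880))
theorem F359321 : act 0 n116388 = n124863 := d17_0 (iv5 F200545) F185294 (iv5 F105555) (iv4 F231684) (iv5 F242670) F248369 (iv5 F359318) F359320 (iv4 F181491)
theorem F359322 : act 0 n170808 = n140553 := d21_7 D115768 (iv1 F180141) F103129 D66522 (iv1 F359320) (iv6 F359315) F359314 (iv5 D140553) (iv6 D65964) (iv1 F84233)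
theorem E102430 : n166324 = n166088 := (c17_9 F359322 (iv5 D140553) (iv1 F326241) (iv5 F302555) (iv4 D180034) (iv5 D86032) F297622 D79866 D166324 (iv4 F301995))
theorem F359323 : act 0 n166088 = n79866 := (sb E102430 (iv1 D166324))
theorem F359324 : act 1 n166088 = n180025 := (sb E102430 F299696)
theorem F359325 : act 2 n166088 = n86065 := (sb E102430 F299697)
theorem F359326 : act 5 n166088 = n81495 := (sb E102430 F299698)
theorem F359327 : act 7 n166088 = n128997 := (sb E102430 (iv7 F347415))
theorem F359328 : act 4 n140553 = n180023 := d18_3 (iv1 F359324) (iv4 F301995) F359322 (iv5 D180023) (iv4 D86028) F297384 (iv4 F119737) (iv0 F297292) D180025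
theorem E102431 : n169889 = n128997 := ((c8_1 F359327 (iv3 D169889) F297520 D166088)).symm
theorem F359329 : act 3 n128997 = n81495 := (sb E102431 (iv3 D169889))
theorem F359330 : act 5 n128986 = n163625 := d12_5 (iv6 F261501) F359326 (iv6 F325653) F330409 D128986
theorem F359331 : act 2 n180131 = n170808 := d1_3 F301995 F359325 D180131
theorem F359332 : act 2 n180132 = n163625 := d3_3 (iv6 F261501) F359325 D180132
theorem F359333 : act 5 n135820 = n180132 := d2_0 F359332 (iv5 F359330) (iv2 F218463)
theorem F359334 : act 3 n180170 = n180131 := d0_0 F359331 (iv3 D170808) F125908 D86084 D180170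
theorem F359335 : act 6 n154763 = n119432 := d10_0 F359308 (iv6 D154765) D154763
theorem F359336 : act 0 n154765 = n178523 := d18_2 D119432 F359308 F278209 F130201 F60284 F42550 D54924 (iv0 F188397) D54958
theorem F359337 : act 2 n128501 = n154763 := d3_3 F359335 (iv2 F188485) (iv6 F339205)
theorem E102432 : n154762 = n147928 := (c1_4 (iv4 F231732) F359337 (iv4 D154763) D154762)
theorem F359338 : act 2 n147928 = n73390 := (sb E102432 (iv2 D154762))
theorem F359339 : act 7 n147928 = n73391 := (sb E102432 (iv7 F243420))
theorem E102433 : n154766 = n147927 := (c15_4 (iv0 D147927) D147928 F359339 (iv2 F243421))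
theorem F359340 : act 2 n147927 = n73391 := (sb E102433 F243421)
theorem F359341 : act 7 n147927 = n73390 := (sb E102433 (iv7 D154766))
theorem E102434 : n147927 = n138780 := ((c8_4 F359341 (iv3 F322268) F167850 D138780)).symm
theorem F359342 : act 0 n138780 = n73392 := (sb E102434 (iv1 F231731))
theorem F359343 : act 1 n138780 = n69305 := (sb E102434 (iv0 D147927))
theorem F359344 : act 2 n138780 = n73391 := (sb E102434 F359340)
theorem F359345 : act 7 n138780 = n73390 := (sb E102434 F359341)
theorem F359346 : act 6 n175007 = n147928 := d3_0 F359338 D154765 (iv2 F359305)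
theorem F359347 : act 0 n108885 = n156094 := d20_7 (iv4 F341372) (iv1 F79369) (iv4 F84220) (iv3 F180091) (iv1 F353059) F168869 D108885 F245256 (iv3 D138486) F341370
theorem F359348 : act 3 n135459 = n178500 := d8_3 F353057 F278784 (iv7 F322449)
theorem F359349 : act 5 n135454 = n178500 := d13_3 F353057 F348491 F247131
theorem F359350 : act 6 n178500 = n150562 := d12_2 D135454 F359349 F320686 (iv6 F307027) (iv5 D135453)
theorem F359351 : act 2 n119565 = n155842 := d3_1 F353040 (iv6 D155842) F349915
theorem F359352 : act 3 n119565 = n103042 := d7_1 F353040 F158278 D103050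
theorem F359353 : act 7 n119564 = n155842 := d15_2 F188549 F188548 (iv2 F359351)
theorem F359354 : act 0 n100158 = n153177 := d20_4 (iv4 D100154) (iv1 D46746) D46747 D100158 F240476 F110085 (iv1 F106023) (iv4 F353038) (iv3 D100262) (iv1 F154083)
theorem F359355 : act 1 n100158 = n147066 := d15_1 (iv0 F359354) F230546 D153177
theorem F359356 : act 1 n113167 = n148672 := d15_1 F350828 F353033 (iv2 F350829)
theorem F359357 : act 1 n148672 = n126978 := d15_1 F359356 F350837 F350835
theorem E102435 : n163844 = n162789 := ((c21_5 (iv5 F330710) (iv1 F188032) (iv5 F315912) (iv6 F119452) D162789 (iv6 D163844) (iv5 F353032) (iv1 F359356) (iv5 D113167) D113168 F344878)).symm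
theorem F359358 : act 6 n162789 = n78711 := (sb E102435 (iv6 D163844))
theorem F359359 : act 3 n100234 = n151380 := d0_2 D118698 F352992 (iv2 D151380) (iv3 D71354) (iv2 F86413)
theorem F359360 : act 0 n99454 = n139593 := d19_8 F352990 (iv5 D99328) F73317 (iv3 D46443) F66080 D22287 D46498 D99454 F349169 (iv4 D114287) D114286 (iv1 F178137) (iv5 D54810) F42440 (iv3 F43613) (iv1 D26431) D26432 D54651 D118698
theorem F359361 : act 4 n153518 = n99454 := d18_1 D153518 F359360 F222735 (iv5 F349170) F179197 (iv0 D115081) (iv4 F139496) (iv0 D90602) (iv5 F109100)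
theorem F359362 : act 3 n99435 = n153518 := d5_5 F359361 (iv3 D99454) (iv4 D46498) (iv3 F73440) D99435
theorem F359363 : act 0 n107463 = n99435 := d20_4 F37929 D24205 D49640 D107463 F359362 F359361 F359360 F222735 (iv3 D107104) F111260
theorem F359364 : act 0 n101135 = n139114 := d21_10 (iv5 D139114) (iv1 F309912) (iv5 F312137) (iv6 F316800) (iv1 D117815) F85603 (iv5 D31280) D31278 D67227 (iv6 F352968)
theorem F359365 : act 4 n139114 = n122342 := d18_1 F359364 F323355 F309085 (iv5 F307959) F112410 F54499 D65333 D139189 (iv5 F352967)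
theorem F359366 : act 0 n139115 = n105954 := d21_4 (iv5 F352967) F359364 (iv5 D139114) D139115 F303926 F83678 (iv1 F83677) (iv5 F51994) (iv6 F310065) (iv1 F222383)
theorem F359367 : act 6 n139114 = n100889 := d21_5 (iv5 D31280) D31278 D67227 (iv6 F352968) F359364 F155018 (iv1 F153308) (iv5 D99569) F332500 (iv1 D67235)
theorem F359368 : act 0 n139114 = n184547 := d21_10 F342623 (iv1 F222381) F209822 (iv6 F306175) (iv1 F332511) (iv6 D83681) (iv5 F83632) F115100 (iv5 F155018) (iv6 F359367)
theorem F359369 : act 0 n105950 = n139115 := d21_4 F78740 D74026 (iv5 F311957) F306940 (iv6 D139115) D139114 F359368 F342623 F308072 (iv1 F307342)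
theorem F359370 : act 3 n98537 = n175178 := d20_9 (iv4 D83688) (iv1 F128706) (iv4 F178845) F309820 F359369 F222302 F305760 (iv1 D98535) D98537 F333693
theorem F359371 : act 2 n106033 = n139115 := d15_3 (iv0 F359369) (iv0 F232303) F232305
theorem F359372 : act 7 n139115 = n105962 := d4_2 F232305 F359371 F162757
theorem F359373 : act 6 n123504 = n98537 := d7_0 F359370 (iv6 D175178) F197924
theorem F359374 : act 0 n170271 = n98537 := d20_4 (iv4 F306819) (iv1 D131251) F315629 (iv3 F267784) F359370 (iv4 F319555) (iv1 F151932) (iv4 F309814) F309813 F343988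
theorem E102436 : n145934 = n81661 := (c18_9 F359374 (iv4 D98537) F232589 (iv4 F134443) (iv5 F306193) (iv4 F188637) (iv0 F229156) F229155 D145934 D170271)
theorem E102437 : n170269 = n68428 := ((D170269).symm.trans (sb E102436 (iv1 D145934)))
theorem F359375 : act 1 n68428 = n81661 := (sb E102437 (iv0 D170269))
theorem F359376 : act 7 n170270 = n127427 := d15_2 F359375 D170270 F204826
theorem F359377 : act 2 n144844 = n145933 := d15_3 (iv0 D145933) F359375 (iv7 F317477)
theorem F359378 : act 1 n170271 = n183398 := d17_8 (iv1 F233024) (iv5 F337827) F338464 F154527 F311798 F205733 F359375 D170271 (iv4 D183398)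
theorem F359379 : act 0 n159737 = n95648 := d20_4 F251591 (iv1 F114549) D76419 D159737 (iv3 F338491) F338492 (iv1 F359375) (iv4 F229155) F354946 (iv1 F251593)
theorem F359380 : act 7 n145933 = n170265 := d4_2 (iv7 F317477) F359377 F267775
theorem F359381 : act 4 n144801 = n145933 := d11_3 F359380 F267777 F346086
theorem F359382 : act 1 n170270 = n145933 := d15_1 D170270 F359380 F267775
theorem F359383 : act 2 n145935 = n170270 := d15_3 F359382 (iv0 D145933) D145935
theorem F359384 : act 5 n122342 = n124083 := d16_1 F359365 F352850 (iv5 D65311) (iv4 D30642) D30643 D65313 F209939 F342601 (iv2 F342599)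
theorem F359385 : act 5 n139104 = n170893 := d16_7 (iv4 F359365) (iv5 D139114) (iv4 D65296) (iv5 D30638) D30637 D65291 D139104 (iv7 D170893) (iv2 F195648)
theorem F359386 : act 4 n170893 = n131091 := d9_1 F359385 (iv5 F209939) (iv4 D65313) (iv5 D30643) D30642 D65311 (iv4 F352850) (iv5 F359384) (iv4 F359365) (iv5 D139114) (iv4 D65296) (iv5 D30638) D30637 D65291 D139104
theorem F359387 : act 7 n170892 = n139104 := d13_0 F359385 (iv7 D170893) D170892
theorem F359388 : act 2 n170892 = n124083 := d16_9 F352850 (iv5 D65311) (iv4 D30642) D30643 D65313 F209939 (iv4 F359386) (iv5 F359385) (iv7 F359387)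
theorem E102438 : n139104 = n124084 := ((c15_2 (iv0 D124083) D124084 (iv7 F359387) F359388)).symm
theorem F359389 : act 4 n124084 = n65291 := (sb E102438 (iv4 D139104))
theorem F359390 : act 5 n124084 = n170893 := (sb E102438 F359385)
theorem F359391 : act 7 n124084 = n170892 := (sb E102438 (iv7 F359387))
theorem E102439 : n170893 = n159133 := (c17_8 (iv1 D86598) (iv5 D40146) D40144 F311163 F90955 D57818 D124084 F359390 (iv0 F313527) F309085)
theorem F359392 : act 4 n159133 = n131091 := (sb E102439 F359386)
theorem F359393 : act 5 n159133 = n124084 := (sb E102439 (iv5 F359390))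
theorem F359394 : act 7 n159133 = n81923 := (sb E102439 (iv7 D170893))
theorem F359395 : act 6 n107961 = n159133 := d21_5 F313755 (iv1 D107957) (iv5 D49861) D49862 D107961 F359393 (iv1 D124084) (iv5 D57818) D57819 D124087
theorem F359396 : act 1 n131091 = n184547 := d18_8 (iv1 F222381) (iv4 D65338) (iv1 D30649) D30650 D65343 (iv4 F313766) D159133 F359392 F342623
theorem F359397 : act 7 n181760 = n139093 := d16_8 (iv4 F351900) (iv5 F351897) F342631 (iv5 F310091) (iv4 D150376) F191370 D86805 D181760 F352964
theorem F359398 : act 2 n181760 = n139095 := d4_3 F352970 (iv2 F352964) (iv7 F359397)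
theorem E102440 : n176761 = n133418 := (c21_5 (iv5 F292606) (iv1 F59875) D38864 D84272 D176761 (iv6 D133418) F97669 D112901 F352935 (iv6 D94353) (iv1 F72756))
theorem F359399 : act 1 n133418 = n84272 := (sb E102440 (iv0 D176761))
theorem F359400 : act 3 n89935 = n136737 := d0_2 F352901 (iv2 F294118) F219901 D144273 F346655
theorem F359401 : act 0 n115788 = n103264 := d20_7 D23024 D47854 (iv4 F138131) F359400 (iv1 F219904) (iv3 F331286) F331287 (iv4 D103264) (iv3 D47851) (iv1 D23023)
theorem F359402 : act 4 n144250 = n184316 := d20_0 F286278 F329991 F74216 (iv1 F138130) F359400 F219902 (iv1 F100081) F111179 D67567 D144250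
theorem F359403 : act 3 n103596 = n144250 := d20_5 F138131 F293110 F291976 (iv3 F158273) (iv1 F158942) F359402 F286278 F329991 F74216 (iv1 F138130)
theorem F359404 : act 2 n102165 = n184197 := d0_3 F352895 F74714 D102165 F286124 (iv2 F147268)
theorem F359405 : act 6 n184192 = n102165 := d3_0 F359404 F286125 (iv2 F286119)
theorem F359406 : act 4 n102410 = n103349 := d11_3 F158626 F352889 D102410
theorem F359407 : act 0 n102405 = n118890 := d20_4 D102285 F346620 F352889 (iv3 F157331) (iv3 D118890) F107525 (iv1 F106664) D149486 (iv3 F346613) (iv1 F153542)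
theorem E102441 : n153741 = n107466 := (c20_2 F186944 D153741 (iv4 F218760) (iv3 D135982) (iv1 D63934) (iv3 F346617) D102285 F346620 F352889 (iv3 F157331) F359407)
theorem F359408 : act 1 n107466 = n72737 := (sb E102441 (iv0 D153741))
theorem F359409 : act 0 n102478 = n103355 := d21_4 F64379 D89380 F137062 D102478 (iv6 D103355) (iv5 D47894) (iv1 F75213) D95451 F352888 (iv1 F74632)
theorem E102442 : n184412 = n103349 := (c15_2 F352886 D184412 F158626 F147964)
theorem F359410 : act 0 n103349 = n87948 := (sb E102442 (iv1 D184412))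
theorem F359411 : act 5 n89452 = n103646 := d18_4 F359410 (iv4 F346669) (iv1 D99814) (iv4 F137116) F159045 F177380 F75165 D47892 D103349
theorem F359412 : act 1 n103349 = n144273 := d15_1 (iv0 F359410) (iv7 F346625) F346621
theorem F359413 : act 7 n102289 = n136526 := d15_2 (iv0 D102288) D102289 (iv2 F352865)
theorem F359414 : act 3 n136536 = n102289 := d8_3 F359413 F219627 D136536
theorem F359415 : act 5 n136527 = n102289 := d13_3 F359413 (iv5 D136526) D136527
theorem F359416 : act 6 n102014 = n136527 := d21_5 (iv5 F64421) (iv1 F64795) (iv5 F35325) D47384 D102014 F359415 (iv1 D102289) (iv5 D47469) (iv6 D22799) (iv1 F34840)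
theorem F359417 : act 3 n135891 = n102014 := d7_3 F359416 F219628 (iv6 F218585)
theorem F359418 : act 7 n135886 = n102014 := d14_0 F359416 (iv7 D136527) (iv6 D64180) (iv7 F99371) D135886
theorem E102443 : n136622 = n136505 := ((c20_10 (iv4 F219739) F312161 F334898 F156961 D102014 (iv3 F359417) F218584 (iv1 F99384) D64173 D136505 (iv1 D136622))).symm
theorem F359419 : act 0 n136505 = n64218 := (sb E102443 (iv1 D136622))
theorem F359420 : act 1 n136505 = n159429 := d15_1 (iv0 F359419) (iv7 F314613) F219693
theorem F359421 : act 2 n151311 = n136621 := d15_3 (iv0 D136621) (iv0 F359419) (iv7 F320469)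
theorem E102444 : n137971 = n136621 := ((c1_2 D151311 F359421 F325062 F320552)).symm
theorem F359422 : act 4 n136621 = n65299 := (sb E102444 F325062)
theorem F359423 : act 6 n136621 = n64837 := (sb E102444 (iv6 D137971))
theorem F359424 : act 0 n147065 = n156642 := d20_7 F219739 D136621 F359422 F320549 (iv1 D72096) (iv3 F105126) D147065 (iv4 D156642) (iv3 F330043) F330040
theorem F359425 : act 0 n136621 = n159429 := d20_7 (iv4 F318625) (iv1 F106016) F60395 F318263 (iv1 F318287) (iv3 F320549) (iv4 F359422) F251061 F114307 (iv1 F316359)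
theorem F359426 : act 2 n136624 = n159429 := d15_3 (iv0 F359425) (iv0 D136621) D136624
theorem F359427 : act 4 n159394 = n136624 := d1_0 F359426 F251061 (iv2 F250977)
theorem F359428 : act 6 n151179 = n136624 := d3_0 F359426 (iv6 D159429) F237877
theorem F359429 : act 4 n146573 = n136623 := d16_6 F251061 F114308 (iv4 F162524) F316394 F104982 D146573 (iv5 D136623) D136624 F359426
theorem F359430 : act 1 n136624 = n151311 := d15_0 (iv0 F314611) F314613 (iv2 F359426)
theorem F359431 : act 1 n135886 = n102016 := d15_1 (iv0 F352853) (iv7 D102016) F294976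
theorem F359432 : act 4 n93306 = n186293 := d18_1 (iv1 F143884) (iv1 D186293) F294987 (iv5 F74735) (iv4 F157423) (iv0 F352921) (iv4 F218570) F359431 (iv5 F295030)
theorem E102445 : n186293 = n135175 := (c10_2 (iv6 F295176) F359432 (iv6 D135175) (iv4 F317327))
theorem F359433 : act 0 n135175 = n88739 := (sb E102445 (iv1 D186293))
theorem F359434 : act 4 n135175 = n93306 := (sb E102445 (iv4 F359432))
theorem F359435 : act 4 n99001 = n93290 := d11_3 F295026 (iv4 F359434) (iv7 F350408)
theorem F359436 : act 1 n135175 = n99003 := d15_1 (iv0 F359433) (iv7 D99003) F294283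
theorem F359437 : act 2 n99001 = n186292 := d15_3 (iv0 D186292) (iv0 F359433) (iv7 F350408)
theorem F359438 : act 4 n186292 = n93305 := d1_2 (iv4 F359435) F359437 (iv2 F295025)
theorem F359439 : act 7 n99002 = n186292 := d15_2 (iv0 D99001) D99002 (iv2 F359437)
theorem F359440 : act 2 n135175 = n99002 := d4_3 F359439 (iv2 F359437) F350408
theorem F359441 : act 4 n93291 = n99002 := d11_3 F359439 F359438 (iv7 F295029)
theorem F359442 : act 1 n99003 = n186292 := d15_1 F359436 (iv7 F359439) (iv2 F359440)
theorem F359443 : act 2 n186294 = n99003 := d15_3 F359442 (iv0 D186292) D186294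
theorem F359444 : act 1 n186294 = n99001 := d15_0 (iv0 D99001) D99003 (iv2 F359443)
theorem F359445 : act 1 n99002 = n186294 := d15_0 F359444 F350408 F359440
theorem F359446 : act 6 n99002 = n135173 := d3_2 D135175 F359440 (iv2 D135173)
theorem F359447 : act 1 n139106 = n181757 := d15_0 F352847 F222248 (iv2 F222291)
theorem F359448 : act 1 n99553 = n151987 := d18_6 F312298 (iv4 D86810) (iv1 D40242) (iv4 F310004) D64222 (iv4 F351903) (iv4 F342025) F352847 (iv5 D139067)
theorem F359449 : act 2 n102644 = n102511 := d1_1 F352824 F324387 (iv2 F173648)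
theorem F359450 : act 7 n102644 = n102512 := d11_2 (iv7 F173649) F352824 F324384
theorem F359451 : act 3 n117437 = n102644 := d20_5 (iv4 D31524) (iv1 F28389) D26189 D54120 D117437 (iv4 F352824) F173650 (iv4 F329748) F329747 (iv1 F328452)
theorem F359452 : act 7 n155495 = n117437 := d8_0 F359451 F359450 (iv3 F353337)
theorem F359453 : act 4 n117437 = n116552 := d11_1 F359452 F316208 (iv4 F244500)
theorem F359454 : act 6 n117437 = n146832 := d14_1 F359452 F230184 (iv6 F189199) F189200 D155495
theorem F359455 : act 2 n116613 = n117437 := d3_3 F359454 F230183 (iv6 F319163)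
theorem F359456 : act 7 n117438 = n116613 := d15_2 (iv0 D117437) D117438 F359455
theorem F359457 : act 2 n117438 = n155495 := d4_3 F359452 (iv2 F359455) (iv7 F359456)
theorem F359458 : act 1 n116613 = n117439 := d15_0 F353341 F359452 (iv2 F359455)
theorem F359459 : act 4 n116614 = n117438 := d1_0 F359457 F244500 (iv2 F319167)
theorem F359460 : act 6 n119858 = n117438 := d3_0 F359457 (iv6 D155495) (iv2 F189188)
theorem F359461 : act 3 n142664 = n127145 := d20_3 F359453 F220207 D142664 F204433 F101346 (iv4 D31524) (iv1 F28389) D26189 D54120 D117437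
theorem F359462 : act 3 n117615 = n143083 := d6_3 F347286 F359461 F204406
theorem F359463 : act 6 n127145 = n158954 := d7_2 (iv6 F316210) F359461 (iv3 D158954)
theorem F359464 : act 0 n142664 = n123847 := d20_4 (iv4 F204436) (iv1 D127144) D127145 (iv3 F359461) F198306 (iv4 F329968) (iv1 F356496) F356499 (iv3 D67130) (iv1 F103047)
theorem F359465 : act 6 n136026 = n117615 := d7_0 F359462 (iv6 D143083) (iv3 F218881)
theorem F359466 : act 7 n143083 = n143482 := d8_2 F221147 F359462 (iv3 D143482)
theorem F359467 : act 2 n143482 = n143091 := d4_1 F359466 (iv7 D143091) (iv2 F225935)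
theorem F359468 : act 1 n143089 = n143482 := d15_1 D143089 (iv7 F359466) F225935
theorem F359469 : act 1 n143482 = n137377 := d15_0 F349479 D143091 (iv2 F359467)
theorem F359470 : act 5 n158954 = n135551 := d12_3 F359465 (iv5 F204406) F359463 (iv6 F347285) (iv5 F220986)
theorem F359471 : act 7 n143483 = n137343 := d14_4 F218880 F359465 (iv7 F221147) D143483 (iv6 D137343)
theorem F359472 : act 2 n143280 = n143483 := d4_3 F359471 F220535 D143280
theorem F359473 : act 1 n143278 = n143483 := d15_1 D143278 F359471 F220535
theorem F359474 : act 6 n117614 = n143280 := d3_0 F359472 (iv6 D143483) (iv2 F221148)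
theorem F359475 : act 1 n143483 = n143277 := d15_0 (iv0 D143277) D143280 F359472
theorem F359476 : act 6 n99731 = n109719 := d10_0 F352823 (iv6 D99732) D99731
theorem F359477 : act 5 n117501 = n101866 := d16_7 (iv4 F352823) F169709 (iv4 F81558) F322493 (iv4 F322492) F105469 (iv4 F184065) (iv7 D101866) F156413
theorem F359478 : act 3 n101866 = n117502 := d6_1 F359477 (iv5 D117502) D117501
theorem F359479 : act 4 n101866 = n109718 := d9_1 F359477 F171076 F325557 (iv5 F297231) (iv4 F324439) (iv5 F320050) (iv4 F319204) (iv5 F153531) (iv4 F352823) F169709 (iv4 F81558) F322493 (iv4 F322492) F105469 (iv4 F184065)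
theorem F359480 : act 4 n111981 = n107208 := d20_0 (iv1 D107208) D107209 F331829 (iv1 F211353) (iv3 F349528) (iv4 F359479) (iv1 F352822) (iv4 D176871) (iv3 F326185) F342872
theorem F359481 : act 3 n144876 = n117075 := d7_1 F352799 (iv6 D117075) D117072
theorem F359482 : act 5 n117078 = n109293 := d18_4 F352793 (iv4 F352792) (iv1 F183098) D117078 (iv4 D109293) (iv0 D50435) (iv4 F79810) D109290 (iv5 F346904)
theorem F359483 : act 2 n157261 = n117078 := d2_3 F359482 (iv2 F173812) (iv5 F348107)
theorem F359484 : act 3 n103820 = n140905 := d5_3 F352792 F159237 (iv4 F159242) F331039 (iv3 F183095)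
theorem F359485 : act 2 n107504 = n103820 := d0_5 F359484 F331038 F104317 (iv2 F78442) (iv3 F165850)
theorem F359486 : act 5 n140904 = n103820 := d6_0 F359484 (iv5 D140905) D140904
theorem F359487 : act 7 n107500 = n103820 := d8_0 F359484 F331041 (iv3 F165847)
theorem F359488 : act 4 n103824 = n107500 := d11_3 F359487 F159242 D103824
theorem F359489 : act 1 n107502 = n103820 := d15_1 D107502 (iv7 F359487) F165846
theorem F359490 : act 2 n107485 = n103824 := d1_3 F359488 F165846 (iv4 F165822)
theorem F359491 : act 3 n112138 = n103824 := d5_5 F359488 F165847 F104315 (iv3 F85080) (iv4 F346893)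
theorem F359492 : act 6 n107484 = n103824 := d10_0 F359488 (iv6 D107500) (iv4 F165817)
theorem F359493 : act 5 n103824 = n112137 := d6_2 D112138 F359491 (iv3 D112137)
theorem F359494 : act 7 n112137 = n103823 := d13_2 D103824 F359493 (iv5 D103823)
theorem F359495 : act 7 n103619 = n107485 := d4_0 F359490 (iv7 D103824) (iv2 F158982)
theorem F359496 : act 1 n107485 = n103821 := d15_0 (iv0 D103821) D103824 (iv2 F359490)
theorem F359497 : act 6 n107305 = n110998 := d21_9 F348758 (iv1 F293087) (iv5 F358271) (iv6 F358272) (iv1 F359496) (iv6 D107485) (iv5 F103448) (iv1 F306962) F306964 (iv1 F295625)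
theorem F359498 : act 3 n107488 = n103619 := d8_3 F359495 F165821 D107488
theorem F359499 : act 4 n107504 = n103619 := d11_3 F359495 F165822 D107504
theorem F359500 : act 1 n103822 = n107485 := d15_1 D103822 (iv7 F359495) F158982
theorem F359501 : act 1 n103820 = n107501 := d15_0 (iv0 D107501) D107504 F359485
theorem E102446 : n152802 = n112140 := (c16_4 F346899 (iv5 F318324) (iv4 F108557) D152802 (iv4 D112140) (iv5 D51714) D51713 D112138 F352791 (iv2 F352789))
theorem F359502 : act 5 n112140 = n72102 := (sb E102446 (iv5 D152802))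
theorem E102447 : n185033 = n152799 := ((c12_5 F216429 F359502 (iv6 D72102) D72101 D152799 F339547)).symm
theorem F359503 : act 4 n152799 = n88200 := (sb E102447 (iv4 D185033))
theorem F359504 : act 5 n152799 = n134481 := (sb E102447 F339547)
theorem F359505 : act 0 n156124 = n112140 := d17_2 D115421 F245335 F359502 F108557 F318324 F183097 F318342 (iv0 F351427) (iv4 D115423)
theorem F359506 : act 0 n115716 = n156133 := d18_0 F245352 F111163 D112140 F359502 F108557 F316904 F339853 D141071 (iv5 F224073)
theorem F359507 : act 0 n139665 = n156123 := d21_7 F359502 D152800 F351446 (iv6 F245180) (iv1 F245181) F209566 D139665 (iv5 D156123) D156124 F359505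
theorem F359508 : act 5 n152790 = n115413 := d21_6 F245335 F359505 F359502 (iv6 D72102) D72098 D152790 (iv1 D115413) D115414 F179713 D115421
theorem F359509 : act 6 n152784 = n115421 := d21_5 (iv5 F188678) (iv1 F188679) (iv5 D72093) D72094 D152784 F245335 F359505 F359502 (iv6 D72102) D72098
theorem F359510 : act 0 n155240 = n152790 := d17_0 F359508 (iv1 D115413) D115414 F351563 D116715 (iv0 F345700) F186385 F313893 D155240
theorem F359511 : act 4 n152790 = n140112 := d18_3 F313894 D155240 F359510 (iv5 F351490) (iv4 F330751) (iv0 F330767) F212243 (iv0 F208106) F186435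
theorem F359512 : act 2 n177255 = n152790 := d1_3 F359511 F351491 D177255
theorem F359513 : act 6 n128363 = n177255 := d3_0 F359512 (iv6 D152790) (iv2 F206485)
theorem F359514 : act 4 n102670 = n139665 := d17_9 F359507 (iv5 D156123) (iv1 D74263) D74264 D156126 F340587 (iv0 D87718) D87720 (iv0 F157918)
theorem F359515 : act 2 n139665 = n185478 := d1_1 F359514 (iv4 D185478) (iv2 F157913)
theorem F359516 : act 7 n139665 = n185481 := d11_2 (iv7 F157912) F359514 (iv4 D185481)
theorem F359517 : act 4 n183765 = n156121 := d20_6 D47619 (iv1 F157126) (iv4 D102308) D102307 (iv1 F160580) (iv3 F285548) F245331 (iv4 F359514) (iv3 D102670) (iv1 D47618)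
theorem F359518 : act 4 n139661 = n183893 := d18_7 D87718 (iv4 F158377) (iv1 F158379) (iv4 F134593) D183765 F359517 (iv0 F245332) (iv0 D183893) (iv5 D87720)
theorem F359519 : act 2 n185481 = n139661 := d1_3 F359518 (iv2 F285725) D185481
theorem F359520 : act 7 n185478 = n139661 := d11_0 F359518 F285727 D185478
theorem F359521 : act 5 n115310 = n185478 := d13_3 F359520 (iv5 D139661) (iv7 F179588)
theorem F359522 : act 5 n185484 = n115305 := d18_9 (iv1 F179578) F101272 (iv1 F84034) D115310 F359521 (iv4 D185478) (iv0 D88357) D88359 D185484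
theorem F359523 : act 2 n139650 = n185484 := d2_3 F359522 F182851 D139650
theorem F359524 : act 7 n139653 = n185484 := d13_0 F359522 (iv7 F182852) D139653
theorem F359525 : act 2 n139653 = n185483 := d15_3 (iv0 D185483) D185484 (iv7 F359524)
theorem F359526 : act 5 n185483 = n115306 := d2_2 D139653 F359525 (iv2 F182854)
theorem F359527 : act 7 n185483 = n139650 := d4_2 (iv7 F359524) F359525 F359523
theorem F359528 : act 5 n115309 = n185481 := d2_0 F359519 (iv5 D139661) (iv2 F179583)
theorem F359529 : act 0 n115334 = n152799 := d17_2 (iv1 F111128) D115334 F359504 (iv4 D134481) (iv5 D63169) (iv0 D29864) (iv5 F40790) F53471 (iv4 F111126)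
theorem E102448 : n185039 = n155989 := (c18_5 F359529 F359503 (iv1 D88200) D88201 D185039 (iv4 D155989) (iv0 D74193) (iv4 F110981) (iv0 F110982) D115334)
theorem F359530 : act 5 n155989 = n88201 := (sb E102448 (iv5 D185039))
theorem E102449 : n185016 = n156103 := (c2_2 F359530 (iv2 F287401) (iv5 D156103) (iv2 F245047))
theorem F359531 : act 2 n156103 = n88201 := (sb E102449 F287401)
theorem F359532 : act 4 n156103 = n88195 := (sb E102449 (iv4 D185016))
theorem E102450 : n183854 = n156105 := (c13_3 (iv7 F245049) F359530 (iv7 F285664) (iv5 D156105))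
theorem F359533 : act 4 n156105 = n87703 := (sb E102450 (iv4 D183854))
theorem F359534 : act 7 n156105 = n88201 := (sb E102450 F285664)
theorem F359535 : act 5 n92711 = n115115 := d16_1 (iv4 F142911) F179261 (iv5 F110983) D155989 F359530 (iv4 D88201) (iv5 D41163) (iv7 F61953) D87702
theorem F359536 : act 4 n115319 = n183850 := d16_0 (iv5 D183850) (iv4 F142911) F359535 F179261 (iv5 F110983) D155989 F359530 (iv7 F359534) F245279
theorem F359537 : act 5 n185036 = n156295 := d21_2 F359530 D185036 (iv6 D156295) (iv1 D74341) (iv6 D34102) (iv5 F53511) (iv1 F111040) F111042 (iv6 F179611) (iv1 F245051)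
theorem F359538 : act 5 n115492 = n185166 := d17_3 D185036 F359537 F245597 (iv4 D185166) D185167 F344332 F339542 (iv0 D88199) D88201
theorem F359539 : act 1 n115319 = n185036 := d17_6 F100334 (iv5 D63173) (iv1 D29865) (iv5 F40790) (iv4 F84047) D115319 F359537 (iv0 F245596) F220165
theorem F359540 : act 2 n185172 = n115492 := d2_3 F359538 F287505 D185172
theorem F359541 : act 5 n137032 = n183874 := d9_8 F359538 (iv4 D185166) D185167 F287508 F145646 F326626 (iv5 F100333) (iv4 F220165) (iv4 D183874) F136954 (iv4 F142391) (iv5 F142932) F326623 F102025 (iv4 F179790)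
theorem F359542 : act 5 n99936 = n108075 := d17_7 (iv1 D34067) (iv5 F46719) (iv1 F102023) F102025 (iv4 F179790) F359538 F287506 (iv0 F167103) (iv4 D74254)
theorem F359543 : act 5 n115317 = n185170 := d2_2 F359542 F179612 F287513
theorem F359544 : act 6 n156266 = n99936 := d12_0 F359542 (iv6 D108075) (iv5 F78963) D74333 D156266
theorem F359545 : act 5 n115318 = n185169 := d13_3 (iv7 F287511) F359542 (iv7 F179613)
theorem F359546 : act 4 n98465 = n156266 := d10_3 F359544 (iv4 D99936) (iv6 F151873)
theorem F359547 : act 4 n185172 = n107186 := d17_4 D115317 F359543 (iv1 D185170) D185172 F165208 (iv0 D62494) (iv5 F53393) (iv0 F53394) (iv4 F84047)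
theorem E102451 : n185000 = n156100 := (c18_4 (iv1 D185170) (iv4 D88248) (iv1 F285653) D185000 F245267 F111126 F110988 D155989 F245051 F359543)
theorem F359548 : act 4 n156100 = n88188 := (sb E102451 (iv4 D185000))
theorem F359549 : act 6 n185172 = n107185 := d21_3 F359543 (iv1 D185170) D185172 F165203 (iv6 D53177) D53176 (iv1 F84046) (iv5 D53202) D53203 D115317
theorem F359550 : act 7 n137032 = n185172 := d14_0 F359549 F165202 (iv6 F111495) F111496 D137032
theorem E102452 : n184464 = n155988 := ((c9_9 (iv5 F245267) F359548 (iv5 D88188) D88187 (iv5 F335803) F97425 (iv5 F53393) (iv4 F110981) D155988 (iv4 D184464) (iv5 D87965) (iv4 F134951) (iv5 F177076) F327040 F95921 (iv4 F111126))).symm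
theorem F359551 : act 4 n155988 = n87965 := (sb E102452 (iv4 D184464))
theorem F359552 : act 0 n115319 = n185037 := d20_1 (iv4 F359536) (iv4 F287740) (iv3 D185477) (iv1 F285723) F285719 (iv4 F329584) (iv1 F179806) (iv4 F357602) F357605 (iv1 F285659)
theorem F359553 : act 3 n115115 = n102564 := d6_1 F359535 (iv5 D102564) (iv3 F142910)
theorem F359554 : act 5 n115181 = n186390 := d12_3 (iv6 F292621) F359535 (iv6 F179356) (iv6 D186390) (iv5 F295032)
theorem F359555 : act 2 n186390 = n135264 := d2_1 F359554 F217469 (iv2 F179354)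
theorem F359556 : act 7 n186390 = n115180 := d13_2 D115181 F359554 (iv5 D115180)
theorem F359557 : act 0 n186390 = n135262 := d17_2 F179358 F359554 F217467 (iv4 F99087) (iv5 F169363) F169872 (iv5 F203301) F203303 (iv4 F173733)
theorem F359558 : act 1 n186390 = n135261 := d17_6 (iv1 F48332) (iv5 F48333) (iv1 F79785) (iv5 F83910) (iv4 F179355) F359554 F217463 F99081 F97480
theorem F359559 : act 6 n112934 = n94445 := d14_3 F359556 (iv6 F357484) (iv7 F330360) F293456 D186390
theorem F359560 : act 4 n94445 = n144173 := d10_1 F359559 (iv6 D144173) (iv4 F330359)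
theorem E102453 : n186393 = n142481 := ((c1_2 F359560 F226876 (iv4 D186393) (iv2 F293455))).symm
theorem F359561 : act 4 n142481 = n88785 := (sb E102453 (iv4 D186393))
theorem F359562 : act 7 n144173 = n186388 := d11_2 (iv7 F293456) F359560 (iv4 D186388)
theorem F359563 : act 6 n135264 = n94446 := d3_2 D186390 F359555 (iv2 F294387)
theorem F359564 : act 5 n94448 = n135521 := d21_6 F328276 F179347 (iv5 F217469) F359563 (iv1 D94446) D94448 (iv1 D135521) D135522 F217924 (iv1 F328275)
theorem F359565 : act 3 n135521 = n94455 := d6_1 F359564 (iv5 D94455) (iv3 F145628)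
theorem F359566 : act 6 n135521 = n94450 := d12_2 D94448 F359564 (iv5 D94450) (iv6 D44142) D44141
theorem F359567 : act 0 n135556 = n159869 := d20_7 (iv4 F291719) F291717 (iv4 D94057) F325802 (iv1 F179266) F359553 F349129 F335959 (iv3 D104407) (iv1 F75933)
theorem F359568 : act 4 n144853 = n134318 := d20_6 (iv4 D63549) (iv1 F48350) (iv4 F99104) (iv3 F217979) F359567 F252050 (iv1 D134318) (iv4 F99301) F99300 (iv1 F100304)
theorem F359569 : act 1 n135548 = n159869 := d15_0 (iv0 F359567) (iv7 D135556) (iv2 F217974)
theorem F359570 : act 4 n135548 = n92706 := d20_8 (iv4 F135589) (iv1 D88537) (iv4 D41329) (iv3 F36589) D48311 D104407 (iv4 F335959) (iv1 F359569) F142891 (iv1 F69488)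
theorem E102454 : n135751 = n135509 := (c21_8 (iv5 D78899) F56597 D76531 D159869 (iv1 F359569) (iv6 D135548) D135547 (iv1 F218287) (iv5 D135509) (iv6 F335893) (iv1 F120083))
theorem F359571 : act 0 n135509 = n63828 := (sb E102454 (iv1 D135751))
theorem F359572 : act 1 n135509 = n135547 := (sb E102454 F218287)
theorem E102455 : n135504 = n135502 := ((c15_2 F359572 (iv0 F218362) F349095 (iv2 F335890))).symm
theorem F359573 : act 2 n135502 = n135550 := (sb E102455 F349127)
theorem F359574 : act 5 n135502 = n63715 := (sb E102455 (iv5 D135504))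
theorem F359575 : act 7 n135502 = n105752 := (sb E102455 F349095)
theorem E102456 : n159627 = n135508 := (c17_4 F218271 (iv5 F335167) F335169 F335030 (iv4 D135508) D135509 F359572 (iv5 D135547) F99222 D135742)
theorem F359576 : act 0 n135508 = n146444 := (sb E102456 (iv1 F251457))
theorem F359577 : act 1 n135508 = n76368 := (sb E102456 (iv0 D159627))
theorem F359578 : act 5 n135508 = n127477 := (sb E102456 (iv5 F335030))
theorem F359579 : act 7 n127477 = n114876 := d13_2 (iv7 F349105) F359578 (iv5 F355832)
theorem F359580 : act 6 n114877 = n105760 := d14_3 F359579 (iv6 D114876) D114877 F162417 D127477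
theorem E102457 : n114877 = n114869 := ((c10_4 F359580 (iv4 D105760) (iv6 F162415) F318007)).symm
theorem F359581 : act 2 n114869 = n53007 := (sb E102457 F178959)
theorem F359582 : act 6 n114869 = n105760 := (sb E102457 F359580)
theorem F359583 : act 7 n114869 = n53006 := (sb E102457 (iv7 D114877))
theorem F359584 : act 7 n135503 = n135700 := d15_2 F359577 F333171 (iv2 F355833)
theorem F359585 : act 0 n135507 = n113717 := d20_4 F333172 (iv1 F359577) (iv4 D135508) D135507 (iv3 D113717) D113718 F343630 F176594 (iv3 F104879) F339425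
theorem F359586 : act 2 n135705 = n135503 := d4_3 F359584 (iv2 F355833) F349105
theorem F359587 : act 6 n135754 = n146323 := d21_5 D135509 F359571 (iv5 D63828) D63829 D135754 (iv5 F229664) D147972 F231791 F327875 (iv1 F99183)
theorem F359588 : act 4 n146418 = n135754 := d10_3 F359587 F229660 D146418
theorem F359589 : act 0 n90531 = n104407 := d18_0 (iv4 F335959) (iv1 F359569) F359570 (iv5 D92706) F68108 (iv0 F68110) F65447 D42368 D90531
theorem F359590 : act 3 n134318 = n104408 := d5_1 F359568 (iv4 D104408) D104407 (iv4 F335959) F252050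
theorem F359591 : act 6 n134318 = n105328 := d10_2 D144853 F359568 F161519
theorem F359592 : act 3 n134041 = n94057 := d20_9 (iv4 D48312) D48311 D104408 (iv3 F359590) (iv1 D134318) F98401 (iv4 F80558) D110791 (iv4 F216031) F144901
theorem E102458 : n185035 = n152568 := (c10_3 D152799 F359503 D185035 F239761)
theorem F359593 : act 6 n152568 = n88200 := (sb E102458 (iv6 D185035))
theorem F359594 : act 0 n185001 = n152872 := d21_4 (iv5 D41163) D41159 D88188 D185001 (iv6 D152872) (iv5 F188645) F188647 D152568 F359593 (iv1 D88200)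
theorem F359595 : act 4 n103823 = n125974 := d5_2 D112099 F352790 (iv3 D125974) (iv4 F172665) (iv3 F172666)
theorem F359596 : act 0 n103823 = n127625 := d20_10 F205192 F333961 D84588 F300482 F298051 F326158 F81649 (iv1 F81620) D112099 F352790
theorem F359597 : act 1 n103823 = n147708 := d15_1 (iv0 F359596) (iv7 D147708) (iv2 F205191)
theorem F359598 : act 5 n162818 = n103821 := d17_5 (iv1 F333963) D163002 (iv1 F336595) (iv5 D162819) D162818 (iv0 D103821) D103823 F359597 F231454
theorem F359599 : act 6 n125974 = n104801 := d10_2 (iv6 F159243) F359595 (iv4 D104801)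
theorem E102459 : n147705 = n112137 := (c11_4 F359494 F359595 F327220 (iv4 F336341))
theorem F359600 : act 1 n112137 = n69216 := (sb E102459 (iv0 D147705))
theorem F359601 : act 4 n112137 = n78429 := (sb E102459 F336341)
theorem F359602 : act 1 n160990 = n112137 := d15_0 F359600 D147708 F334023
theorem F359603 : act 1 n104638 = n160990 := d15_0 F359602 F359494 (iv2 F160345)
theorem F359604 : act 0 n160987 = n174108 := d20_10 (iv4 D174108) F344883 (iv4 F323598) (iv3 F324566) (iv1 F325660) D78429 (iv4 F359601) (iv1 F359602) F254495 (iv3 F254493)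
theorem F359605 : act 1 n160987 = n163771 := d15_1 (iv0 F359604) F344876 (iv2 F359278)
theorem F359606 : act 0 n130288 = n132880 := d21_1 (iv5 F334305) F334329 D163771 (iv1 F359605) (iv6 D160987) F327437 (iv1 F170829) D110450 F330784 D163804
theorem E102460 : n138181 = n130288 := (c20_4 (iv4 F325106) (iv1 F99637) D64909 D138181 F359606 (iv3 D132880) (iv4 F324721) (iv1 D88542) (iv4 F135599) (iv3 F328235) (iv1 F340129))
theorem F359607 : act 3 n130288 = n64909 := (sb E102460 (iv3 D138181))
theorem F359608 : act 6 n132880 = n126737 := d21_5 F315449 (iv1 F315291) (iv5 D130287) D130288 F359606 F233516 (iv1 F179893) F347030 (iv6 D158483) (iv1 F315448)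
theorem F359609 : act 1 n130288 = n163725 := d15_1 (iv0 F359606) F258084 (iv2 F334328)
theorem F359610 : act 1 n130299 = n132880 := d15_0 (iv0 F359606) (iv7 F334303) (iv2 F334304)
theorem F359611 : act 1 n163725 = n130299 := d15_0 F359610 F334330 (iv2 F258083)
theorem F359612 : act 6 n163807 = n112609 := d21_3 (iv5 F334310) F302182 D163807 F175207 F351669 (iv5 D59520) D59517 (iv5 F233516) (iv6 F359608) (iv1 F359610)
theorem F359613 : act 2 n112609 = n130813 := d3_1 F359612 F351662 F258250
theorem F359614 : act 3 n138182 = n163804 := d6_3 (iv5 F334305) F359607 D138182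
theorem E102461 : n138149 = n136231 := (c8_3 F334303 F359607 (iv7 F221340) F334325)
theorem F359615 : act 2 n136231 = n64904 := (sb E102461 F221339)
theorem E102462 : n64902 = n64046 := ((((iv4 D136231)).symm.trans (sb E102461 (iv4 D138149)))).symm
theorem F359616 : act 7 n136231 = n64909 := (sb E102461 F221340)
theorem E102463 : n134378 = n30501 := ((((iv1 F99636)).symm.trans (sb E102462 (iv1 F333880)))).symm
theorem E102465 : n136229 = n30499 := ((D136229).symm.trans (sb E102462 (iv2 D64902)))
theorem E102466 : n138148 = n136230 := (((D136230).symm.trans (sb E102462 D138148))).symm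
theorem E102467 : n138150 = n136232 := (((D136232).symm.trans (sb E102462 D138150))).symm
theorem E102468 : n136233 = n134369 := ((D136233).symm.trans (sb E102462 (iv6 F333889)))
theorem E102469 : n136234 = n30500 := ((D136234).symm.trans (sb E102462 (iv7 F100705)))
theorem E102470 : n64047 = n63128 := (((iv1 F99634)).symm.trans (sb E102463 (iv1 D134378)))
theorem F359617 : act 2 n30499 = n64046 := (sb E102465 (iv2 D136229))
theorem F359618 : act 7 n136230 = n64908 := (sb E102466 F221338)
theorem F359619 : act 2 n136232 = n64905 := (sb E102467 F221341)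
theorem F359620 : act 7 n136232 = n64910 := (sb E102467 F221342)
theorem F359621 : act 6 n134369 = n64046 := (sb E102468 (iv6 D136233))
theorem F359622 : act 7 n30500 = n64046 := (sb E102469 (iv7 D136234))
theorem F359623 : act 0 n63128 = n30193 := (sb E102470 (iv1 D64047))
theorem F359624 : act 1 n63128 = n30501 := (sb E102470 F99634)
theorem F359625 : act 2 n163350 = n138182 := d0_5 F359614 F258175 F334290 (iv2 F334285) D163350
theorem F359626 : act 7 n166743 = n138182 := d8_0 F359614 (iv7 F258174) D166743
theorem F359627 : act 5 n136231 = n166743 := d13_3 F359626 (iv5 D138182) (iv7 F359616)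
theorem F359628 : act 1 n163350 = n112608 := d15_0 (iv0 F357776) F359626 (iv2 F359625)
theorem F359629 : act 2 n166743 = n138162 := d2_1 F359627 (iv5 D138162) (iv2 F359615)
theorem F359630 : act 6 n138162 = n110597 := d3_2 F357775 F359629 F175079
theorem F359631 : act 7 n138162 = n163350 := d4_2 (iv7 F359626) F359629 F359625
theorem F359632 : act 5 n163350 = n130225 := d13_1 F359631 F333883 D138162
theorem F359633 : act 5 n142611 = n130224 := d12_3 F359630 F171171 D142611 F333891 D138162
theorem F359634 : act 0 n138162 = n157973 := d21_4 D108013 F166917 (iv5 F171171) (iv6 F359630) (iv6 D157973) (iv5 F256339) (iv1 F258423) F258422 (iv6 F340642) (iv1 D108011)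
theorem F359635 : act 1 n138182 = n157973 := d15_0 (iv0 F359634) F359631 F359625
theorem F359636 : act 7 n130223 = n142611 := d13_0 F359633 (iv7 D130224) D130223
theorem F359637 : act 4 n134368 = n153665 := d16_2 F208734 D134368 (iv5 D153665) F190352 (iv5 F309603) (iv4 F225471) F359633 (iv7 D130224) (iv2 F208733)
theorem F359638 : act 4 n138527 = n181738 := d20_8 (iv4 D138341) (iv1 D64983) (iv4 F99793) (iv3 D64111) (iv1 F92799) D125459 (iv4 F352691) F352689 (iv3 D181738) F312252
theorem F359639 : act 5 n183929 = n136665 := d2_2 (iv5 F201732) F352688 (iv2 D136665)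
theorem E102475 : n136665 = n103942 := (c12_2 D183929 F359639 (iv6 D103942) (iv5 D48122) D48123 (iv5 F293044))
theorem F359640 : act 2 n103942 = n64233 := (sb E102475 (iv2 D136665))
theorem F359641 : act 5 n103942 = n183929 := (sb E102475 (iv5 F359639))
theorem F359642 : act 0 n103942 = n184048 := d21_7 F351799 F286203 D87387 F134156 D87745 D183929 (iv5 F359641) (iv5 F338903) (iv6 F338904) F351801
theorem F359643 : act 6 n135904 = n184097 := d21_3 (iv5 F338903) (iv1 D135902) D135904 (iv1 D184097) (iv6 D87812) F293843 (iv1 F75594) D48122 D103942 F359642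
theorem F359644 : act 3 n184097 = n135906 := d7_1 F359643 (iv6 D135906) (iv3 F218618)
theorem F359645 : act 6 n185290 = n154589 := d12_2 F359643 F358625 (iv5 F338918) (iv6 D135905) D135904
theorem F359646 : act 0 n183890 = n154589 := d21_4 (iv5 D40863) D40861 D87717 D183890 (iv6 F359645) (iv5 F358625) (iv1 D184097) (iv5 F285735) (iv6 D183898) (iv1 D87722)
theorem F359647 : act 7 n183890 = n153884 := d15_2 D154589 (iv0 F359646) F241817
theorem E102476 : n154591 = n88293 := (c4_3 F359647 F241817 D154591 (iv2 F285715))
theorem E102477 : n185318 = n73274 := ((D185318).symm.trans (sb E102476 (iv7 D154591)))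
theorem F359648 : act 7 n73274 = n88293 := (sb E102477 (iv7 D185318))
theorem F359649 : act 1 n185317 = n153884 := d15_1 D185317 (iv7 F359647) F285715
theorem F359650 : act 7 n185313 = n154574 := d8_2 F359648 (iv3 F287576) F242640
theorem F359651 : act 7 n185315 = n154587 := d11_2 F359648 (iv4 F287579) F242658
theorem F359652 : act 7 n104231 = n154590 := d13_2 F359648 (iv5 F159825) (iv5 D154590)
theorem F359653 : act 1 n183890 = n154588 := d15_0 (iv0 D154588) F359648 (iv2 F285715)
theorem F359654 : act 1 n153884 = n185316 := d15_0 (iv0 D185316) (iv7 F359648) (iv2 F241817)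
theorem F359655 : act 6 n153897 = n95437 := d14_3 F359650 (iv6 D154574) (iv7 F241861) F147056 D185313
theorem F359656 : act 3 n141987 = n101441 := d6_1 F352681 (iv5 D101441) D101440
theorem F359657 : act 0 n141988 = n160463 := d18_2 (iv1 D141987) D141988 F253468 F341378 F167659 F79267 D74362 (iv0 F352677) F352681
theorem F359658 : act 3 n127672 = n130590 := d0_0 F352671 (iv3 D89382) (iv2 F136232) D186551 F337128
theorem F359659 : act 6 n130590 = n127670 := d7_2 D127672 F359658 (iv3 D127670)
theorem E102478 : n148912 = n148890 := (c15_4 (iv0 D148890) D148891 F352659 D148912)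
theorem F359660 : act 2 n148890 = n69802 := (sb E102478 (iv2 D148912))
theorem F359661 : act 7 n148890 = n69803 := (sb E102478 (iv7 F233982))
theorem E102479 : n147254 = n120102 := (c18_4 (iv1 F310973) F310975 (iv1 F148693) F352653 (iv5 D120102) F87466 D55264 D120111 (iv0 F333606) (iv5 D149202))
theorem F359662 : act 0 n120102 = n69028 := (sb E102479 (iv1 D147254))
theorem F359663 : act 4 n120102 = n96532 := (sb E102479 (iv4 F352653))
theorem F359664 : act 1 n147241 = n164346 := d17_6 F230420 D120102 F359662 (iv5 D69028) (iv4 F105239) D147241 (iv5 D164346) D164345 F258973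
theorem F359665 : act 6 n175223 = n97286 := d21_9 D120102 F359662 (iv5 D69028) (iv6 D32111) (iv1 F50616) D67934 (iv5 F210778) F335001 F335002 F230420
theorem F359666 : act 3 n97288 = n175223 := d7_3 F359665 (iv3 D97286) D97288
theorem F359667 : act 2 n175223 = n170576 := d0_1 F359666 F267999 F310847 (iv3 F248100) F334468
theorem F359668 : act 6 n137409 = n175366 := d7_2 D175368 F352625 (iv3 D175366)
theorem F359669 : act 2 n175366 = n158976 := d3_1 F359668 F352628 (iv2 F352626)
theorem F359670 : act 7 n175366 = n158978 := d14_2 (iv7 F352622) F359668 F250311 F334551 (iv6 F338475)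
theorem F359671 : act 5 n117383 = n132765 := d17_7 F211577 D29897 (iv1 F86350) (iv5 F209328) (iv4 F327310) (iv5 F220625) F352616 (iv0 F213223) F98475
theorem F359672 : act 6 n129991 = n132765 := d21_5 (iv5 F338481) (iv1 F136860) (iv5 F136878) F339504 F208414 (iv5 F359671) (iv1 F352616) F220625 (iv6 F218991) (iv1 F218993)
theorem F359673 : act 1 n141469 = n176325 := d17_6 F328458 F359671 F213222 D134515 (iv4 F352581) F352582 F346387 (iv0 F339492) (iv4 F328459)
theorem F359674 : act 6 n154629 = n137412 := d12_0 F352603 F183807 F85373 (iv6 F304372) D154629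
theorem F359675 : act 4 n130992 = n137412 := d16_0 F352603 (iv4 D117377) (iv5 D54089) (iv4 F85361) F335877 F104876 D68669 D146480 (iv2 F317737)
theorem F359676 : act 5 n158948 = n135514 := d17_7 (iv1 D63764) D63766 D135609 F218087 F359675 F352603 (iv0 F352605) (iv0 F218070) (iv4 D135604)
theorem F359677 : act 0 n135752 = n137412 := d19_0 F352603 (iv4 D117377) F85362 F313440 D116793 (iv4 F311600) (iv3 F183808) (iv1 F314751) (iv5 D159616) F114479 F55195 D34895 D76374 (iv4 F327301) (iv3 D129649) (iv1 D60901) D60903 D129655 (iv3 F218288)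
theorem F359678 : act 7 n143499 = n158948 := d13_0 F359676 (iv7 F218206) F336885
theorem F359679 : act 4 n134313 = n160203 := d18_1 D134313 (iv1 F310966) (iv4 F250286) F359676 (iv4 D135514) (iv0 F217918) (iv4 D134303) (iv0 D63098) D63101
theorem F359680 : act 4 n134311 = n117375 := d18_5 F218060 (iv4 D135600) (iv1 F99295) F99293 D134311 (iv0 D117375) D117377 (iv0 F352605) F359676
theorem F359681 : act 6 n143388 = n134311 := d10_0 F359680 F310045 D143388
theorem F359682 : act 5 n117375 = n159617 := d16_1 F359680 F251446 (iv5 F333176) (iv4 D135611) (iv5 D63766) (iv4 F98256) D134048 F216054 (iv2 F216325)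
theorem F359683 : act 0 n134072 = n141472 := d17_0 (iv5 F336850) (iv1 F216046) D134311 F359680 F359682 (iv0 F314046) (iv5 F318644) F327183 (iv4 F333155)
theorem F359684 : act 4 n117376 = n134048 := d9_9 (iv5 F359682) (iv4 F359680) (iv5 D134311) (iv4 F99293) F323481 (iv4 F333181) (iv5 F114477) (iv4 F251434) (iv5 F334938) (iv5 D134048) F98256 D63766 D135611 F333176 (iv4 F251446)
theorem F359685 : act 3 n141472 = n176475 := d20_5 F98321 F80602 (iv4 F98270) D134072 F359683 (iv4 D176475) (iv1 F315800) (iv4 D134132) F98318 D63007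
theorem F359686 : act 1 n134406 = n141472 := d15_0 (iv0 F359683) F216079 D134406
theorem F359687 : act 6 n89566 = n116032 := d21_9 D160063 (iv1 F337200) (iv5 D141471) D141472 (iv1 F359686) F333152 (iv5 F309580) (iv1 F293389) F293392 (iv1 F320214)
theorem F359688 : act 5 n116032 = n98920 := d12_1 F359687 (iv6 D98920) F293386 D92561 F293392
theorem F359689 : act 2 n98920 = n140044 := d2_1 F359688 (iv5 D140044) (iv2 F181687)
theorem F359690 : act 7 n98920 = n140035 := d13_2 (iv7 F181688) F359688 (iv5 D140035)
theorem F359691 : act 6 n160063 = n125125 := d21_9 (iv5 D98897) (iv1 D46280) D46281 F72942 D46288 D98920 (iv5 F359688) (iv1 F320214) D160063 (iv1 F281966)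
theorem F359692 : act 6 n140044 = n91021 := d3_2 D98920 F359689 F294856
theorem F359693 : act 3 n182037 = n140044 := d7_3 F359692 F294857 D182037
theorem F359694 : act 6 n135065 = n139949 := d21_9 (iv5 D143426) (iv1 F181270) D140044 F359692 (iv1 D91021) D91023 (iv5 F332671) (iv1 F216887) D135065 (iv1 F226188)
theorem F359695 : act 5 n140043 = n182037 := d6_0 F359693 (iv5 D140044) D140043
theorem E102480 : n183147 = n153976 := (c2_3 F359695 F283445 D183147 F347997)
theorem F359696 : act 5 n153976 = n87421 := (sb E102480 (iv5 D183147))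
theorem F359697 : act 6 n89710 = n140043 := d12_0 F359695 (iv6 D182037) F133447 F291570 (iv5 F291569)
theorem F359698 : act 6 n153976 = n95382 := d3_2 F359697 (iv2 F347997) (iv2 F291568)
theorem F359699 : act 5 n183148 = n147597 := d13_3 (iv7 F347998) F359696 D183148
theorem F359700 : act 5 n183145 = n146895 := d17_3 F316670 F359696 D183145 F230276 F227723 F328753 (iv5 F328755) F231068 D147595
theorem F359701 : act 3 n146787 = n183145 := d6_3 F359700 (iv3 D146895) (iv5 F230149)
theorem F359702 : act 6 n176475 = n141470 := d7_2 D141472 F359685 (iv3 D141470)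
theorem F359703 : act 2 n141470 = n176492 := d3_1 F359702 (iv6 D176492) (iv2 F275777)
theorem F359704 : act 4 n141470 = n176476 := d10_1 F359702 (iv6 D176476) D176475
theorem F359705 : act 3 n176476 = n141468 := d5_1 F359704 (iv4 D141468) (iv3 D66371) D66372 D141470
theorem F359706 : act 6 n124941 = n134313 := d10_0 F359679 F252905 (iv4 F328076)
theorem F359707 : act 7 n124711 = n134313 := d11_0 F359679 (iv7 D160203) (iv4 F199531)
theorem F359708 : act 3 n134313 = n124717 := d8_1 F359707 (iv7 D124717) (iv3 F199530)
theorem F359709 : act 7 n128710 = n134125 := d8_2 F352477 D128710 (iv3 F216169)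
theorem F359710 : act 4 n182512 = n104973 := d10_3 F352472 F295373 D182512
theorem F359711 : act 5 n126046 = n182512 := d16_1 D126046 F359710 (iv5 D104973) F76350 F321455 D28066 D59077 (iv7 F202720) F202718
theorem F359712 : act 0 n125886 = n182512 := d18_2 (iv1 F163294) (iv4 F202379) F359710 (iv5 D104973) F76350 D48516 D104978 F324556 F170985
theorem F359713 : act 0 n182512 = n106250 := d20_7 F40182 (iv1 F37001) F36998 (iv3 F40207) D52395 (iv3 F352455) (iv4 F359710) F163283 (iv3 D49105) (iv1 F40184)
theorem F359714 : act 3 n182515 = n126046 := d6_3 F359711 F284027 D182515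
theorem F359715 : act 7 n113517 = n98626 := d14_2 F352454 D113517 (iv6 D98626) (iv7 F136779) (iv6 F345754)
theorem E102481 : n182522 = n182326 := (c15_4 F283858 F283860 F352436 (iv2 F284030))
theorem F359716 : act 2 n182326 = n87132 := (sb E102481 F284030)
theorem F359717 : act 7 n182326 = n87131 := (sb E102481 (iv7 D182522))
theorem F359718 : act 5 n134530 = n185248 := d17_3 (iv1 F206351) (iv5 F342209) D134530 (iv4 D185248) (iv5 D88269) F352353 (iv5 D73132) F109252 (iv4 F206349)
theorem F359719 : act 5 n91373 = n123684 := d21_8 D73132 (iv1 F352353) D88269 (iv6 F136917) F136919 (iv6 F140512) (iv5 D91375) D91373 F198121 (iv1 F109252)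
theorem F359720 : act 2 n123728 = n91373 := d2_3 F359719 F198119 (iv5 F198209)
theorem F359721 : act 7 n123683 = n91373 := d13_0 F359719 (iv7 D123684) D123683
theorem F359722 : act 0 n154224 = n91375 := d21_10 (iv5 D91375) D91373 F359719 F198121 (iv1 F109252) D73133 (iv5 F329957) (iv1 D108815) F329776 D154224
theorem F359723 : act 1 n123726 = n91373 := d15_1 D123726 (iv7 F359721) F198117
theorem F359724 : act 2 n91376 = n123726 := d15_3 F359723 (iv0 D91373) D91376
theorem F359725 : act 4 n123726 = n141885 := d1_2 (iv4 F331070) F359724 F224923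
theorem F359726 : act 6 n123726 = n141884 := d3_2 (iv6 F331071) F359724 F224920
theorem F359727 : act 7 n123726 = n91353 := d4_2 D91376 F359724 F140457
theorem F359728 : act 3 n163137 = n157628 := d5_3 F352332 F257444 D163137 (iv4 D157628) (iv3 F248385)
theorem F359729 : act 5 n163135 = n110379 := d19_5 F347432 D157626 F352332 F257444 D163135 (iv4 D110379) F166131 (iv1 F82001) F80461 (iv4 F93933) (iv3 F329678) (iv1 F308467) F331984 (iv4 F330195) (iv3 D134676) F308711 F307460 (iv4 F270558) F270557
theorem E102482 : n163136 = n163080 := ((c20_4 (iv4 F311429) (iv1 F92357) (iv4 F311559) D163080 (iv1 D163136) (iv3 F257444) (iv4 F352332) F351926 F346593 F333802 (iv1 F119591))).symm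
theorem F359730 : act 0 n163080 = n78426 := (sb E102482 (iv1 D163136))
theorem F359731 : act 1 n163080 = n78431 := (sb E102482 F257453)
theorem F359732 : act 7 n163135 = n178524 := d15_2 F359731 F257456 F342295
theorem F359733 : act 2 n145703 = n163135 := d4_3 F359732 F342295 (iv7 F321759)
theorem F359734 : act 6 n161909 = n163135 := d14_5 F359732 (iv6 D178524) (iv7 D84956) (iv6 F130194) (iv7 F305464)
theorem F359735 : act 5 n145346 = n100131 := d19_9 F359730 (iv5 D78426) D78425 (iv3 F327224) (iv1 D50288) F39783 F50038 D68169 (iv1 F358646) (iv4 D100131) D100130 F346704 (iv5 D87882) F297893 (iv3 D70528) (iv1 F307313) (iv5 F92358) (iv4 F311559) D163080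
theorem E102483 : n129908 = n120739 := (c12_4 F352293 F350886 (iv6 D129909) D129908 F322462 D125972)
theorem F359736 : act 5 n120739 = n61016 := (sb E102483 (iv5 D129908))
theorem E102484 : n129905 = n112603 := (c2_2 F359736 D129905 (iv5 F175192) (iv2 F322460))
theorem F359737 : act 2 n112603 = n61016 := (sb E102484 (iv2 D129905))
theorem F359738 : act 7 n112603 = n61017 := (sb E102484 (iv7 F208279))
theorem E102485 : n129910 = n112602 := (c13_3 (iv7 F322463) F359736 D129910 F175191)
theorem F359739 : act 2 n112602 = n61017 := (sb E102485 F208280)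
theorem F359740 : act 7 n112602 = n61016 := (sb E102485 (iv7 D129910))
theorem E102486 : n132487 = n29391 := (c21_6 (iv5 F359736) (iv1 F323878) D125998 F324941 (iv1 F212573) D132487 (iv5 F209645) (iv1 D61013) (iv5 D28922) D28923 D61016)
theorem E102487 : n62154 = n62079 := (((D62079).symm.trans (sb E102486 (iv6 D132487)))).symm
theorem E102488 : n132320 = n29422 := ((D132320).symm.trans (sb E102487 (iv1 D62154)))
theorem E102489 : n132463 = n132321 := (((D132321).symm.trans (sb E102487 F212573))).symm
theorem E102495 : n129529 = n62153 := (((D62153).symm.trans (sb E102488 (iv1 F212232)))).symm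
theorem F359741 : act 1 n29422 = n62079 := (sb E102488 (iv0 D132320))
theorem F359742 : act 2 n132321 = n62156 := (sb E102489 F212569)
theorem F359743 : act 3 n132321 = n129321 := (sb E102489 (iv3 F348918))
theorem F359744 : act 5 n132321 = n125997 := (sb E102489 F350846)
theorem F359745 : act 6 n132321 = n125998 := (sb E102489 (iv6 F324941))
theorem F359746 : act 7 n132321 = n62148 := (sb E102489 (iv7 D132463))
theorem F359747 : act 0 n62153 = n132321 := (sb E102495 (iv1 F212228))
theorem F359748 : act 2 n62153 = n132323 := (sb E102495 (iv2 F212230))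
theorem E102496 : n132482 = n132311 := ((D132482).symm.trans (sb E102495 (iv6 F212127)))
theorem F359749 : act 7 n62153 = n60858 := (sb E102495 (iv7 D129529))
theorem F359750 : act 6 n132311 = n62153 := (sb E102496 (iv6 D132482))
theorem F359751 : act 7 n129513 = n132479 := d8_2 F359749 (iv3 F207661) (iv3 D132479)
theorem F359752 : act 7 n129519 = n132480 := d11_2 F359749 (iv4 F207665) (iv4 D132480)
theorem F359753 : act 7 n129528 = n132481 := d13_2 F359749 D129528 (iv5 D132481)
theorem F359754 : act 2 n132481 = n136753 := d4_1 F359753 F350865 F212229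
theorem F359755 : act 7 n112766 = n174511 := d14_2 F359753 (iv6 F350848) (iv6 D174511) (iv7 F271703) (iv6 F350869)
theorem F359756 : act 3 n174527 = n112766 := d8_3 F359755 F273388 D174527
theorem F359757 : act 1 n141805 = n132322 := d15_1 (iv0 F354187) (iv7 F350865) (iv2 F359754)
theorem F359758 : act 6 n127093 = n127004 := d21_3 D132322 (iv1 F359757) F224815 F354178 (iv6 D129909) (iv5 F359736) (iv1 F323878) D125998 (iv6 F359745) (iv1 D132321)
theorem F359759 : act 7 n127004 = n127094 := d14_2 F324376 F359758 F204340 (iv7 F97381) (iv6 F324375)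
theorem F359760 : act 0 n127093 = n132714 := d21_4 D129322 F354176 F223102 (iv6 F359758) (iv6 D132714) (iv5 F326013) (iv1 F132211) (iv5 F345866) (iv6 F348919) (iv1 D129321)
theorem F359761 : act 1 n141796 = n132479 := d15_1 F359159 (iv7 F359751) F317509
theorem E102497 : n115592 = n115559 := ((c17_3 (iv1 F179499) F330520 D115559 F357042 (iv4 F350868) (iv5 D132322) D132321 F359744 F351327 F351321)).symm
theorem F359762 : act 0 n115559 = n53318 := (sb E102497 (iv1 D115592))
theorem F359763 : act 5 n115559 = n126685 := (sb E102497 F357042)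
theorem E102498 : n115585 = n115562 := ((c15_3 (iv0 F359762) (iv0 D115559) D115562 F179894)).symm
theorem F359764 : act 2 n115562 = n53318 := (sb E102498 F179894)
theorem F359765 : act 5 n115562 = n53316 := (sb E102498 (iv5 D115585))
theorem F359766 : act 6 n141815 = n163154 := d10_2 (iv6 F342313) F352291 (iv4 D163154)
theorem F359767 : act 3 n163154 = n141818 := d7_1 F359766 (iv6 D141818) D141815
theorem F359768 : act 2 n113382 = n126196 := d1_3 (iv4 D126196) F352264 D113382
theorem F359769 : act 7 n126191 = n113382 := d15_2 F353602 F353612 F359768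
theorem F359770 : act 2 n126191 = n113387 := d4_3 F352267 (iv2 F359768) (iv7 F359769)
theorem F359771 : act 6 n113387 = n131467 := d3_2 F358829 F359770 F358870
theorem F359772 : act 4 n131467 = n113389 := d10_1 F359771 (iv6 D113389) D113387
theorem F359773 : act 5 n113387 = n176494 := d21_6 F275818 (iv1 D158315) F324622 D180257 (iv1 F355017) (iv6 F359771) (iv1 D176494) D176495 F275809 D176502
theorem F359774 : act 3 n176494 = n180606 := d6_1 F359773 (iv5 D180606) (iv3 F324586)
theorem F359775 : act 6 n176494 = n153215 := d12_2 (iv6 F359771) F359773 (iv5 F343515) (iv6 D131468) D131467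
theorem F359776 : act 6 n131474 = n180606 := d7_2 F359775 F343517 (iv3 F359774)
theorem F359777 : act 2 n113389 = n126193 := d1_1 F359772 F358866 (iv2 F358870)
theorem F359778 : act 3 n113389 = n128712 := d5_1 F359772 F319379 F317100 F96318 (iv3 F210732)
theorem F359779 : act 5 n113389 = n128710 := d16_5 (iv4 F206276) F349801 F210716 D131467 F359772 (iv4 F329133) (iv5 D123673) D123674 F198100
theorem F359780 : act 0 n113389 = n126303 := d18_2 (iv1 F355017) F359772 (iv4 F349817) (iv5 D176441) (iv4 F311076) (iv0 F213518) F213515 (iv0 F337607) (iv5 F355015)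
theorem F359781 : act 3 n176441 = n110347 := d20_3 F359772 F359780 (iv4 F349817) (iv1 D110347) (iv3 F170601) F170602 F355021 F280585 (iv3 F280581) (iv1 F355017)
theorem F359782 : act 3 n129224 = n95427 := d19_19 (iv1 F347356) (iv5 F359779) (iv4 F359772) F210732 D131469 F312921 (iv4 F117108) (iv3 D39510) (iv1 F308559) (iv5 D14089) F10910 (iv3 D6600) (iv1 F4743) (iv5 F10963) F10962 (iv3 F23039) D28972 F208883 D129224
theorem F359783 : act 2 n125935 = n126310 := d0_3 F359782 (iv2 F148590) F347328 F343574 F212063
theorem F359784 : act 6 n95426 = n129224 := d7_0 F359782 (iv6 D95427) D95426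
theorem F359785 : act 6 n132278 = n113582 := d14_3 F148287 F359784 F212057 F203741 F338381
theorem F359786 : act 6 n113428 = n129229 := d3_2 F359785 (iv2 F203747) F212058
theorem F359787 : act 3 n137703 = n132278 := d7_3 F359785 (iv3 F176742) D137703
theorem E102499 : n130305 = n113531 := (c21_5 (iv5 F355973) F355971 (iv5 D61152) D61153 D130305 (iv6 D113531) F82757 D52426 D113582 (iv6 F359785) (iv1 F212213))
theorem F359788 : act 1 n113531 = n61153 := (sb E102499 (iv0 D130305))
theorem F359789 : act 7 n95427 = n137703 := d8_0 F359787 (iv7 F212057) F359782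
theorem F359790 : act 0 n137703 = n134125 := d20_10 (iv4 D134125) (iv1 D63003) (iv4 F98275) (iv3 D62978) F47938 D62054 F96697 D62058 D132278 (iv3 F359787)
theorem F359791 : act 1 n96488 = n134125 := d15_0 (iv0 F359790) (iv7 F359789) (iv2 F148590)
theorem F359792 : act 2 n128710 = n134120 := d15_3 F358872 F359791 (iv7 F359709)
theorem F359793 : act 6 n123679 = n128710 := d3_0 F359792 F336392 (iv2 F198110)
theorem F359794 : act 3 n128713 = n123679 := d7_3 F359793 (iv3 D128710) D128713
theorem F359795 : act 7 n126309 = n125935 := d15_2 F343573 (iv0 F343575) F359783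
theorem F359796 : act 7 n125936 = n126310 := d15_2 (iv0 D125935) D125936 (iv2 F359783)
theorem F359797 : act 2 n126309 = n125936 := d4_3 F359796 (iv2 F359783) (iv7 F359795)
theorem F359798 : act 3 n129229 = n125936 := d8_3 F359796 F343574 F212064
theorem F359799 : act 5 n163026 = n95427 := d21_6 D52343 D113392 (iv5 F231075) F353644 F341692 D163026 (iv1 F347356) (iv5 F359779) (iv6 D113389) (iv1 D52341)
theorem E102500 : n163526 = n163026 := (c18_4 F349822 F119741 D78580 D163526 F359799 F147042 D95429 (iv4 F347326) F216093 (iv5 F207291))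
theorem F359800 : act 4 n163026 = n78580 := (sb E102500 (iv4 D163526))
theorem F359801 : act 7 n126192 = n113307 := d13_2 F352263 D126192 F351739
theorem F359802 : act 2 n113308 = n126192 := d4_3 F359801 (iv2 F352269) (iv7 F352268)
theorem E102501 : n126277 = n126197 := ((c15_4 F203041 (iv0 F358830) F359801 (iv2 F352269))).symm
theorem F359803 : act 0 n126197 = n59196 := (sb E102501 (iv1 D126277))
theorem F359804 : act 1 n126197 = n113305 := (sb E102501 F203041)
theorem E102502 : n125803 = n59162 := ((((iv5 D126197)).symm.trans (sb E102501 F358957))).symm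
theorem E102503 : n126198 = n58913 := ((D126198).symm.trans (sb E102502 (iv6 D125803)))
theorem E102504 : n125799 = n113207 := (((iv2 F202315)).symm.trans (sb E102503 F358988))
theorem F359805 : act 6 n58913 = n59162 := (sb E102503 (iv6 D126198))
theorem E102505 : n125795 = n113208 := ((F202314).symm.trans (sb E102503 (iv7 F358989)))
theorem F359806 : act 2 n113207 = n58913 := (sb E102504 F202315)
theorem F359807 : act 7 n113207 = n58912 := (sb E102504 (iv7 D125799))
theorem F359808 : act 2 n113208 = n58912 := (sb E102505 (iv2 D125795))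
theorem F359809 : act 7 n113208 = n58913 := (sb E102505 (iv7 F202314))
theorem F359810 : act 7 n125798 = n126193 := d14_2 F359807 D125798 (iv6 D126193) (iv7 F352263) (iv6 F358987)
theorem F359811 : act 6 n126195 = n125800 := d7_2 F359805 D126195 (iv3 D125800)
theorem F359812 : act 4 n184063 = n109076 := d11_3 F352258 F286058 (iv7 F286009)
theorem F359813 : act 6 n184062 = n109076 := d14_5 F352258 (iv6 D184116) (iv7 D87820) (iv6 F134770) D184062
theorem F359814 : act 0 n144401 = n115763 := d18_2 (iv1 F350160) D144401 F352245 (iv5 D69291) D69290 (iv0 F237573) F317007 (iv0 F330019) F223875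
theorem F359815 : act 1 n144401 = n140565 := d15_1 (iv0 F359814) (iv7 D140565) F182553
theorem E102506 : n147881 = n140565 := (c20_1 D147881 (iv1 F359815) (iv4 D144401) (iv3 D67661) (iv1 D31422) (iv3 F49697) (iv4 F103652) (iv1 F322545) F311379 (iv3 F243045) (iv1 D147880))
theorem F359816 : act 4 n140565 = n69286 := (sb E102506 (iv4 D147881))
theorem F359817 : act 6 n180012 = n140565 := d10_0 F359816 (iv6 F324156) F324154
theorem F359818 : act 6 n172568 = n140404 := d10_2 D140406 F352242 (iv4 D140404)
theorem F359819 : act 2 n108998 = n108857 := d2_1 F352236 (iv5 D108857) (iv2 F175548)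
theorem F359820 : act 3 n108998 = n178105 := d6_1 F352236 (iv5 D178105) (iv3 F325296)
theorem F359821 : act 7 n108998 = n108862 := d13_2 (iv7 F175549) F352236 (iv5 D108862)
theorem F359822 : act 7 n110161 = n178105 := d8_2 F359821 (iv3 F170974) (iv3 F359820)
theorem F359823 : act 2 n108862 = n108997 := d15_3 (iv0 D108997) D108998 F359821
theorem F359824 : act 7 n108857 = n108997 := d4_2 (iv7 F359821) F359819 (iv2 F359823)
theorem F359825 : act 5 n108997 = n108604 := d13_1 F359824 F175552 D108857
theorem F359826 : act 4 n108604 = n126864 := d17_4 (iv1 D50324) D50326 D108997 F359825 (iv5 D126864) F102081 D59580 (iv0 F325254) (iv4 D108992)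
theorem F359827 : act 2 n178105 = n110160 := d15_3 (iv0 D110160) D110161 F359822
theorem F359828 : act 1 n126855 = n108594 := d15_0 F352235 (iv7 F344747) (iv2 F344745)
theorem F359829 : act 5 n129491 = n108594 := d17_5 (iv1 F93786) D59536 (iv1 F203402) F203399 D129491 F352235 (iv5 D126857) F203783 F203781
theorem F359830 : act 3 n107588 = n129491 := d6_3 F359829 (iv3 D108594) (iv5 F165985)
theorem F359831 : act 6 n108594 = n163500 := d12_2 (iv6 F207642) F359829 F257781 D176877 F349871
theorem F359832 : act 7 n108832 = n129491 := d13_0 F359829 F167936 D108832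
theorem F359833 : act 2 n113330 = n103679 := d0_5 F352209 (iv2 F352204) F202059 F92988 D113330
theorem F359834 : act 3 n153543 = n89347 := d6_3 (iv5 F156315) F352203 (iv5 F242747)
theorem E102507 : n167580 = n114469 := (c6_3 (iv5 F225423) F352182 D167580 F321310)
theorem F359835 : act 5 n114469 = n80425 := (sb E102507 (iv5 D167580))
theorem F359836 : act 3 n160730 = n114204 := d8_3 F352073 F352182 (iv7 F352168)
theorem F359837 : act 4 n109113 = n114470 := d16_2 (iv4 F319460) D109113 (iv5 D114470) D114469 F359835 D167579 F352174 F321443 F319457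
theorem F359838 : act 6 n172414 = n114469 := d21_5 (iv5 D18442) F59687 D38285 (iv6 F127189) D172414 F359835 (iv1 D80425) D80426 F123619 (iv1 F298822)
theorem E102508 : n167575 = n114466 := ((c16_1 D114466 (iv5 D167575) D167574 F352162 (iv4 F319460) D109113 F359837 (iv5 D114470) F138834 F138832)).symm
theorem F359839 : act 5 n114466 = n80424 := (sb E102508 (iv5 D167575))
theorem F359840 : act 3 n157573 = n114466 := d6_3 F359839 (iv3 F350791) F350773
theorem F359841 : act 6 n182294 = n157573 := d7_0 F359840 F178523 D182294
theorem F359842 : act 0 n167581 = n98521 := d21_1 (iv5 F352179) (iv5 D98521) D98522 (iv1 F184680) (iv6 D99717) D99716 (iv1 F337649) (iv5 F337650) F272859 (iv1 F272788)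
theorem F359843 : act 1 n167581 = n98541 := d15_1 (iv0 F359842) F268292 (iv2 F268293)
theorem F359844 : act 4 n108914 = n160737 := d18_3 F321440 (iv4 F216945) (iv1 F216950) (iv5 D160737) (iv4 F347977) F345550 (iv4 F325852) (iv0 F352170) F352174
theorem F359845 : act 7 n160737 = n147172 := d11_2 (iv7 F358825) F359844 F230755
theorem F359846 : act 3 n160737 = n125965 := d20_3 (iv4 F216945) (iv1 F216950) F359844 (iv1 F202642) (iv3 F202631) F202632 (iv1 F176405) D113223 (iv3 F321442) F321440
theorem E102509 : n135256 = n112933 := (c17_6 F352131 (iv5 D142443) (iv1 F181813) (iv5 F330328) F217458 D135256 (iv0 D112933) F82404 D52716 D114209)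
theorem F359847 : act 2 n112933 = n142483 := (sb E102509 F330321)
theorem F359848 : act 4 n112933 = n67538 := (sb E102509 F330322)
theorem F359849 : act 5 n112933 = n63571 := (sb E102509 (iv5 D135256))
theorem F359850 : act 6 n112933 = n63574 := (sb E102509 F217459)
theorem F359851 : act 7 n112933 = n142480 := (sb E102509 F330323)
theorem F359852 : act 2 n114206 = n164342 := d3_3 F258971 F352129 D114206
theorem F359853 : act 0 n141916 = n95823 := d21_7 (iv5 D44803) F68951 (iv5 F75446) D103681 F352007 D111974 (iv5 F344637) F147505 (iv6 D95374) F70379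
theorem F359854 : act 1 n141916 = n104710 := d15_1 (iv0 F359853) (iv7 F340374) F149873
theorem E102510 : n164842 = n136278 := (c3_2 F351985 (iv2 F259884) (iv6 D136278) (iv2 F351982))
theorem F359855 : act 0 n136278 = n104635 := (sb E102510 (iv1 F346843))
theorem F359856 : act 1 n136278 = n176851 := (sb E102510 (iv0 F346845))
theorem F359857 : act 2 n136278 = n158894 := (sb E102510 F259884)
theorem F359858 : act 3 n136278 = n176886 := (sb E102510 (iv3 F276257))
theorem F359859 : act 4 n136278 = n79206 := (sb E102510 (iv4 D164842))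
theorem F359860 : act 7 n136278 = n165769 := (sb E102510 (iv7 F261161))
theorem F359861 : act 6 n176886 = n136275 := d7_2 D136278 F359858 (iv3 D136275)
theorem F359862 : act 2 n136275 = n176888 := d3_1 F359861 (iv6 D176888) D176886
theorem F359863 : act 4 n97197 = n136275 := d1_0 F359862 F358424 F290432
theorem F359864 : act 3 n127611 = n97197 := d5_5 F359863 (iv3 D136275) D136276 F219340 (iv4 F205177)
theorem F359865 : act 0 n147701 = n97197 := d20_1 (iv4 F231450) F359863 (iv3 D136275) (iv1 D64068) (iv3 D30199) (iv4 D14332) (iv1 F19011) D24645 D50593 D109690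
theorem F359866 : act 1 n103258 = n161987 := d17_6 (iv1 D133045) (iv5 F336539) D160946 F341916 (iv4 F334220) (iv5 F331981) F303671 F254843 F351968
theorem E102511 : n184244 = n135411 := ((c20_6 (iv4 D71422) (iv1 F52262) (iv4 F52371) F52370 D63656 D135411 F351939 (iv1 F351943) F205673 (iv3 D107934) (iv1 F107940))).symm
theorem F359867 : act 4 n135411 = n170279 := (sb E102511 F351939)
theorem F359868 : act 6 n135411 = n87880 := (sb E102511 (iv6 D184244))
theorem F359869 : act 7 n170279 = n157440 := d11_2 F239050 F359867 (iv4 F247993)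
theorem E102512 : n170273 = n159078 := ((c8_2 F359869 (iv3 F351941) (iv7 F267787) D170279)).symm
theorem F359870 : act 2 n159078 = n81662 := (sb E102512 (iv2 D170273))
theorem F359871 : act 7 n159078 = n81663 := (sb E102512 (iv7 F267787))
theorem F359872 : act 2 n170279 = n157439 := d15_3 (iv0 D157439) D157440 (iv7 F359869)
theorem F359873 : act 2 n131606 = n150014 := d0_3 D170279 F359872 F333670 F343402 F316293
theorem F359874 : act 2 n150013 = n170274 := d2_3 (iv5 F333669) F359873 (iv5 F343401)
theorem E102513 : n131602 = n108361 := ((c3_3 D131606 F359873 F343404 F210850)).symm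
theorem F359875 : act 2 n108361 = n61749 := (sb E102513 F210850)
theorem F359876 : act 7 n108361 = n61748 := (sb E102513 (iv7 D131602))
theorem F359877 : act 7 n150013 = n131606 := d15_2 (iv0 F311431) F311432 F359873
theorem F359878 : act 7 n170274 = n150014 := d4_0 (iv2 F359873) (iv7 F359877) F359874
theorem F359879 : act 7 n131601 = n144475 := d14_4 F359878 F343404 F359876 D131601 (iv6 F333691)
theorem F359880 : act 7 n155941 = n145128 := d13_2 F359879 (iv5 F333692) (iv5 F228113)
theorem F359881 : act 2 n131601 = n144474 := d15_3 (iv0 D144474) D144475 (iv7 F359879)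
theorem F359882 : act 2 n155942 = n145128 := d2_3 (iv5 F228113) F359881 (iv5 F357080)
theorem E102514 : n131597 = n108360 := ((c3_3 D131601 F359881 F357078 (iv2 D131597))).symm
theorem F359883 : act 2 n108360 = n61748 := (sb E102514 (iv2 D131597))
theorem F359884 : act 7 n108360 = n61749 := (sb E102514 (iv7 F210849))
theorem F359885 : act 7 n131603 = n100112 := d8_2 F359884 D131603 F339022
theorem E102515 : n141361 = n108285 := ((c13_2 F359884 (iv5 F333698) (iv7 F224411) (iv5 F357022))).symm
theorem F359886 : act 2 n108285 = n66313 := (sb E102515 (iv2 D141361))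
theorem F359887 : act 7 n108285 = n66314 := (sb E102515 (iv7 F224411))
theorem F359888 : act 7 n140997 = n145667 := d14_2 F359887 (iv6 F357077) F318640 (iv7 F359880) (iv6 F333699)
theorem E102516 : n141366 = n108284 := (c15_4 (iv0 D108284) D108285 F359887 (iv2 F224412))
theorem F359889 : act 2 n108284 = n66314 := (sb E102516 F224412)
theorem F359890 : act 7 n108284 = n66313 := (sb E102516 (iv7 D141366))
theorem F359891 : act 2 n140997 = n145668 := d3_3 (iv6 F333706) F359889 (iv6 F357077)
theorem F359892 : act 2 n145667 = n140998 := d2_3 (iv5 F357076) F359891 F318637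
theorem F359893 : act 7 n145668 = n140998 := d4_2 (iv7 F359888) F359891 (iv2 F359892)
theorem F359894 : act 7 n155942 = n141365 := d14_2 F359893 F357081 (iv6 D141365) (iv7 F359890) F333706
theorem F359895 : act 2 n141365 = n155941 := d4_1 F359894 F359880 (iv2 F359882)
theorem E102517 : n145127 = n141365 := (c15_2 F244949 F244950 (iv7 F359894) F359882)
theorem F359896 : act 0 n141365 = n155943 := (sb E102517 (iv1 F244950))
theorem F359897 : act 1 n141365 = n68028 := (sb E102517 (iv0 D145127))
theorem F359898 : act 2 n131603 = n184242 := d15_3 (iv0 F339030) (iv0 F339025) (iv7 F359885)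
theorem F359899 : act 6 n157439 = n131603 := d3_0 F359898 (iv6 F351938) F359872
theorem F359900 : act 7 n131598 = n167641 := d8_2 F359876 D131598 F351475
theorem F359901 : act 1 n148893 = n131598 := d15_1 F351937 F359900 F351474
theorem F359902 : act 2 n131598 = n167642 := d15_3 F351504 (iv0 F351483) (iv7 F359900)
theorem F359903 : act 7 n167642 = n170282 := d4_2 (iv7 F359900) F359902 (iv2 F351474)
theorem F359904 : act 1 n131598 = n149006 := d15_0 (iv0 F351935) (iv7 F359903) (iv2 F359902)
theorem F359905 : act 0 n149793 = n152038 := d20_1 (iv4 F235627) F247993 (iv3 F351941) (iv1 D159078) (iv3 D75984) F61589 F296558 (iv4 F296909) D81591 F131156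
theorem E102518 : n154263 = n99621 := (c1_4 F351910 F234044 (iv4 F309675) (iv2 F242380))
theorem F359906 : act 2 n99621 = n73085 := (sb E102518 F242380)
theorem F359907 : act 7 n99621 = n73084 := (sb E102518 (iv7 D154263))
theorem E102519 : n154258 = n123540 := (c15_4 F252390 (iv0 F351908) F359907 D154258)
theorem F359908 : act 2 n123540 = n73084 := (sb E102519 (iv2 D154258))
theorem F359909 : act 7 n123540 = n73085 := (sb E102519 (iv7 F242379))
theorem E102520 : n154264 = n123544 := (c8_2 F359909 D154264 (iv7 D123544) D123540)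
theorem F359910 : act 3 n123544 = n73085 := (sb E102520 (iv3 D154264))
theorem E102521 : n123544 = n123523 := ((c20_5 (iv4 F121187) (iv1 F325822) (iv4 F326642) (iv3 F90737) (iv1 F197943) F359910 F309675 F308940 F90512 F44380 D27465)).symm
theorem F359911 : act 2 n123523 = n57578 := (sb E102521 F197969)
theorem F359912 : act 3 n123523 = n73085 := (sb E102521 F359910)
theorem F359913 : act 7 n123523 = n57577 := (sb E102521 (iv7 D123544))
theorem E102522 : n123539 = n123522 := (c15_4 (iv0 D123522) D123523 F359913 D123539)
theorem F359914 : act 2 n123522 = n57577 := (sb E102522 (iv2 D123539))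
theorem F359915 : act 7 n123522 = n57578 := (sb E102522 (iv7 F197968))
theorem F359916 : act 7 n123546 = n176958 := d11_2 F359915 D123546 F276307
theorem F359917 : act 7 n142462 = n181764 := d13_2 F359916 (iv5 F347187) (iv5 F346680)
theorem F359918 : act 2 n176958 = n123541 := d15_3 (iv0 F333734) (iv0 F346683) F359916
theorem E102523 : n176957 = n99614 := ((c0_5 D176958 F359918 F344013 F180930 (iv3 F344029) (iv2 D176957))).symm
theorem F359919 : act 2 n99614 = n84344 := (sb E102523 (iv2 D176957))
theorem F359920 : act 7 n99614 = n84345 := (sb E102523 (iv7 F276306))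
theorem E102524 : n99617 = n99572 := ((c11_2 F359920 (iv4 F339103) (iv7 D99617) D99614)).symm
theorem F359921 : act 2 n99572 = n46561 := (sb E102524 F153365)
theorem F359922 : act 7 n99572 = n46560 := (sb E102524 (iv7 D99617))
theorem E102525 : n99612 = n99571 := (c15_4 (iv0 D99571) D99572 F359922 D99612)
theorem F359923 : act 2 n99571 = n46560 := (sb E102525 (iv2 D99612))
theorem F359924 : act 7 n99571 = n46561 := (sb E102525 (iv7 F153364))
theorem E102526 : n142468 = n138933 := ((c11_2 F359917 (iv4 F346677) (iv7 D142468) (iv4 F225383))).symm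
theorem F359925 : act 7 n138933 = n66799 := (sb E102526 (iv7 D142468))
theorem F359926 : act 7 n137531 = n101770 := d8_2 F359925 (iv3 F220728) F346676
theorem F359927 : act 1 n156874 = n142384 := d15_0 F347184 (iv7 F359925) (iv2 F246889)
theorem F359928 : act 6 n156869 = n116486 := d14_3 F359926 (iv6 F346675) (iv7 F246877) F181790 D137531
theorem E102527 : n136635 = n99567 := (c10_3 (iv6 F153300) F351903 D136635 (iv4 D99567))
theorem F359929 : act 5 n99567 = n159428 := (sb E102527 F314609)
theorem F359930 : act 6 n99567 = n64222 := (sb E102527 (iv6 D136635))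
theorem F359931 : act 3 n135882 = n157597 := d0_0 F351892 (iv3 D139092) (iv2 F312264) (iv3 F314603) (iv2 F221980)
theorem F359932 : act 4 n108461 = n157597 := d1_0 F351892 F222281 F221965
theorem F359933 : act 7 n157597 = n136509 := d11_2 (iv7 F221966) F359932 F219621
theorem F359934 : act 3 n118286 = n177189 := d8_3 F351495 (iv3 D155902) (iv7 F264356)
theorem E102528 : n178424 = n113169 := (c21_5 (iv5 D77748) F316557 D161685 F255694 D178424 (iv6 D113169) (iv5 D52238) (iv1 F45313) F45317 D53351 (iv1 F351489))
theorem F359935 : act 1 n113169 = n84898 := (sb E102528 (iv0 D178424))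
theorem F359936 : act 5 n115692 = n131691 := d6_0 F351477 (iv5 D115695) (iv3 F180039)
theorem F359937 : act 0 n135995 = n115692 := d17_2 F321094 (iv5 F321763) F359936 F211054 D131694 F334241 D160959 (iv0 F334244) F270066
theorem E102529 : n177252 = n177189 := (c21_11 (iv5 D177189) F272905 F351468 (iv6 D156725) (iv1 F315452) (iv6 D152530) (iv5 D71939) F52473 D60350 F313838 D177252)
theorem F359938 : act 1 n177189 = n84452 := (sb E102529 (iv0 D177252))
theorem F359939 : act 0 n160397 = n178090 := d19_4 (iv1 F59926) D84350 (iv4 F319899) F351464 (iv5 D178090) F129970 F118443 F326188 (iv5 F325356) (iv4 F298287) D78191 (iv1 F314797) (iv5 D78196) F56317 (iv3 D17283) (iv1 F41758) (iv5 F26499) (iv4 F51768) F51767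
theorem F359940 : act 3 n167679 = n111110 := d20_9 (iv4 F100503) D137331 F351463 F253342 D160397 (iv3 F351464) F319899 F299769 D167679 (iv1 D111110)
theorem F359941 : act 1 n160398 = n178090 := d15_0 (iv0 F359939) F351535 F351537
theorem F359942 : act 4 n115236 = n157098 := d10_1 F351455 (iv6 D157098) D157096
theorem F359943 : act 2 n157098 = n115423 := d1_1 F359942 (iv4 D115423) (iv2 F179460)
theorem F359944 : act 2 n141079 = n125992 := d2_3 F348130 F359943 F351429
theorem F359945 : act 3 n152800 = n178768 := d7_1 F351447 (iv6 D178768) (iv3 F319532)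
theorem F359946 : act 4 n178768 = n123082 := d5_2 (iv4 F351445) F359945 F351775 (iv4 D116055) D116054
theorem F359947 : act 4 n140879 = n115421 := d18_5 (iv1 F320428) (iv4 F346893) F346891 (iv4 D140878) D140879 (iv0 D115421) D115423 F351428 F316056
theorem F359948 : act 6 n115409 = n155984 := d7_2 F351417 F351415 F332225
theorem F359949 : act 2 n156080 = n115409 := d3_3 F359948 F245378 D156080
theorem F359950 : act 6 n115498 = n115416 := d12_4 F359948 F245379 (iv6 F351548) D115498 (iv5 F351416)
theorem E102530 : n115498 = n115404 := ((c21_8 (iv5 D74279) D74276 (iv5 F245379) (iv6 F359948) (iv1 D115409) (iv6 D53240) D53239 D115404 (iv5 D115498) F351548 (iv1 F111476))).symm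
theorem F359951 : act 5 n115404 = n53280 := (sb E102530 (iv5 D115498))
theorem F359952 : act 6 n115404 = n115416 := (sb E102530 F359950)
theorem F359953 : act 3 n115418 = n115404 := d7_3 F359952 (iv3 D115416) D115418
theorem F359954 : act 4 n140635 = n115404 := d10_3 F359952 F179714 D140635
theorem F359955 : act 7 n156215 = n156199 := d15_2 F351400 D156215 (iv2 F347953)
theorem E102531 : n156188 = n155998 := ((c17_9 F351392 D85553 (iv1 F339812) F175186 F170804 D115710 F351400 (iv5 F167148) F245077 F323267)).symm
theorem F359956 : act 2 n155998 = n74300 := (sb E102531 F245450)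
theorem F359957 : act 4 n155998 = n85546 := (sb E102531 F323267)
theorem F359958 : act 7 n155998 = n74299 := (sb E102531 (iv7 D156188))
theorem F359959 : act 0 n115566 = n156194 := d21_4 F84009 (iv1 F78182) (iv5 F84156) D115566 (iv6 D156194) F167148 (iv1 F351400) (iv5 D115710) (iv6 D53355) (iv1 F84007)
theorem F359960 : act 4 n156194 = n155701 := d20_2 (iv4 F347895) F359959 (iv3 D155701) (iv1 D74067) (iv3 D33990) (iv4 D16440) (iv1 F20723) (iv4 F25923) (iv3 F53332) D74135
theorem F359961 : act 1 n115566 = n156205 := d15_1 (iv0 F359959) (iv7 D156205) (iv2 F245457)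
theorem F359962 : act 1 n155873 = n156194 := d15_0 (iv0 F359959) F350653 (iv2 F350658)
theorem F359963 : act 5 n103243 = n155701 := d18_4 D34006 D74126 D155833 (iv4 F328605) (iv4 F359960) (iv0 F359959) F347895 (iv0 D74135) (iv5 D34009)
theorem F359964 : act 0 n128501 = n103243 := d21_1 F347034 F359963 F336298 F245455 F351557 (iv5 F347037) (iv1 D126738) (iv5 D59465) D59466 D126741
theorem F359965 : act 1 n156205 = n155873 := d15_1 F359961 F350659 (iv2 F179880)
theorem F359966 : act 2 n155701 = n156198 := d1_1 F359960 F245472 (iv2 F245457)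
theorem F359967 : act 4 n93342 = n156222 := d5_4 F359960 (iv3 D155701) (iv4 F329902) D93342 F245531
theorem F359968 : act 2 n111163 = n93342 := d1_3 F359967 F245530 F245103
theorem F359969 : act 6 n111161 = n93342 := d10_0 F359967 (iv6 D156222) (iv4 F172411)
theorem F359970 : act 1 n111163 = n101197 := d15_0 (iv0 F348535) F144120 (iv2 F359968)
theorem F359971 : act 2 n156200 = n156215 := d4_3 F359955 (iv2 F347953) (iv7 F347952)
theorem F359972 : act 6 n115251 = n155999 := d14_5 F351397 (iv6 F351386) (iv7 F339874) (iv6 D115583) (iv7 F351367)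
theorem E102532 : n179300 = n154610 := (c21_4 F279189 F351392 D85553 D179300 (iv1 D154610) F308644 (iv5 F301505) (iv1 F188636) F300852 F351334 F351336)
theorem F359973 : act 2 n154610 = n85557 := (sb E102532 F279199)
theorem F359974 : act 5 n154610 = n148667 := (sb E102532 F279200)
theorem F359975 : act 6 n154610 = n85553 := (sb E102532 (iv6 D179300))
theorem E102533 : n155859 = n110432 := (c21_10 (iv5 F323132) D55874 D121090 F351390 F351392 (iv6 F87428) (iv5 F106020) (iv1 F106024) D74132 D155859 (iv1 D110432))
theorem F359976 : act 6 n110432 = n74132 := (sb E102533 (iv6 D155859))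
theorem F359977 : act 6 n155858 = n152879 := d10_2 F359976 D155858 (iv4 F351510)
theorem F359978 : act 5 n152876 = n155858 := d12_5 F359977 (iv5 D152879) (iv6 D72132) (iv5 F108579) D152876
theorem E102534 : n178503 = n154612 := ((c21_9 (iv5 F359349) (iv1 F353048) (iv5 D155846) (iv6 D74128) (iv1 F106022) (iv6 F233428) (iv5 F359974) (iv1 D154610) D154612 (iv6 D178503) D178500)).symm
theorem F359979 : act 6 n154612 = n84946 := (sb E102534 (iv6 D178503))
theorem F359980 : act 0 n132607 = n127093 := d21_7 (iv5 D74127) (iv1 F106022) F106020 F87428 (iv1 F351391) (iv6 F351363) F350852 (iv5 F224815) F321276 (iv1 F349914)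
theorem F359981 : act 0 n119313 = n155842 := d21_4 D179249 (iv1 F351359) (iv5 D178917) (iv6 F320679) (iv6 D155842) (iv5 D74127) (iv1 F106022) F106020 F87428 (iv1 F351391)
theorem F359982 : act 1 n119302 = n155842 := d15_0 (iv0 F359981) F187829 (iv2 F187794)
theorem E102535 : n165664 = n162790 := (c21_10 D162792 (iv1 F351388) (iv5 D121090) D121091 (iv1 F346937) F261631 F321836 (iv1 F187464) F325402 D165664 (iv1 D162790))
theorem F359983 : act 6 n162790 = n79564 := (sb E102535 (iv6 D165664))
theorem E102536 : n115687 = n115669 := (c21_7 D74303 D156199 F347954 (iv6 D113192) F82607 D53349 D115687 (iv1 D115669) D115670 F351386 (iv1 D74300))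
theorem F359984 : act 2 n115669 = n156251 := (sb E102536 F339871)
theorem F359985 : act 5 n115669 = n53349 := (sb E102536 (iv5 D115687))
theorem F359986 : act 7 n115669 = n156252 := (sb E102536 (iv7 F351511))
theorem F359987 : act 2 n156252 = n115668 := d15_3 (iv0 D115668) D115669 F359986
theorem F359988 : act 7 n156251 = n115668 := d4_2 (iv7 F359986) F359984 (iv2 F359987)
theorem F359989 : act 5 n115685 = n152770 := d17_3 (iv1 F245488) F359985 D115685 F239979 (iv5 F186435) (iv0 F345699) (iv5 D116715) F112045 (iv4 F245486)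
theorem F359990 : act 7 n152879 = n115685 := d13_0 F359989 F239980 D152879
theorem F359991 : act 5 n121089 = n155232 := d16_1 D121089 (iv4 D155232) (iv5 F312563) (iv4 F111530) (iv5 F339873) (iv4 F351381) (iv5 D121095) F193124 (iv2 D121087)
theorem F359992 : act 2 n174825 = n121089 := d2_3 F359991 (iv2 F273655) D174825
theorem E102537 : n126924 = n126650 := ((c20_5 F45768 (iv1 F37469) (iv4 F45663) D59425 D126650 F351365 F350851 (iv1 D115251) F83986 (iv3 D28262) D28261)).symm
theorem F359993 : act 2 n126650 = n59571 := (sb E102537 F204181)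
theorem F359994 : act 3 n126650 = n126006 := (sb E102537 F351365)
theorem F359995 : act 6 n126650 = n179247 := (sb E102537 F355495)
theorem F359996 : act 7 n126650 = n59570 := (sb E102537 (iv7 D126924))
theorem E102538 : n126920 = n126651 := (c15_4 F203809 F203805 F359996 D126920)
theorem F359997 : act 2 n126651 = n59570 := (sb E102538 (iv2 D126920))
theorem F359998 : act 7 n126651 = n59571 := (sb E102538 (iv7 F204180))
theorem F359999 : act 2 n179271 = n132607 := d2_3 (iv5 F350852) F351362 D179271
theorem F360000 : act 6 n107193 = n179254 := d10_2 D179256 F351324 (iv4 D179254)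
theorem F360001 : act 3 n179254 = n106973 := d7_1 F360000 F351319 D107193
theorem E102539 : n151236 = n109094 := (c20_10 (iv4 F164718) F351318 (iv4 F335538) (iv3 D90670) (iv1 F139550) F329842 (iv4 D60026) (iv1 F52164) D71279 D151236 (iv1 D109094))
theorem F360002 : act 3 n109094 = n71279 := (sb E102539 (iv3 D151236))
theorem F360003 : act 3 n151237 = n180418 := d7_3 F351230 F360002 D151237
theorem F360004 : act 0 n104011 = n109094 := d20_4 F154596 (iv1 D48148) D48149 D104011 F360002 (iv4 D71279) (iv1 D32986) D32987 F327160 D100531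
theorem E102540 : n100704 = n90806 := (c15_2 F351317 D100704 (iv7 F142833) F142831)
theorem F360005 : act 0 n90806 = n46963 := (sb E102540 (iv1 D100704))
theorem F360006 : act 6 n109063 = n112325 := d21_5 F331536 D114529 (iv5 F351119) (iv6 D109141) (iv1 F169608) (iv5 D112325) (iv1 F163208) D108664 F351312 (iv1 D134866)
theorem F360007 : act 1 n140604 = n134865 := d15_1 F351196 F342492 F351310
theorem F360008 : act 5 n125311 = n108530 := d12_3 F172653 F351105 (iv6 F301637) (iv6 F167808) (iv5 F336682)
theorem F360009 : act 2 n140689 = n177288 := d2_1 F351101 F276667 (iv2 F321156)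
theorem F360010 : act 7 n140689 = n142749 := d13_2 (iv7 F322259) F351101 (iv5 D142749)
theorem F360011 : act 4 n140689 = n176998 := d16_2 (iv4 F222184) F351101 (iv5 D176998) (iv4 D84359) (iv5 D38898) D38897 F322073 (iv7 F322075) (iv2 F319068)
theorem F360012 : act 1 n140689 = n177020 := d17_6 D151157 F308516 F297767 F321157 (iv4 F222184) F351101 F276427 (iv0 F312885) F237835
theorem F360013 : act 0 n140689 = n176988 := d18_0 F276354 (iv1 F276425) F347428 (iv5 D142806) F102892 (iv0 F322808) D167679 (iv0 F347183) F351101
theorem F360014 : act 1 n139005 = n167672 := d17_8 (iv1 F299770) (iv5 D84350) (iv1 D38892) D38893 D84354 D176988 (iv0 F360013) (iv5 F351101) (iv4 D167672)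
theorem F360015 : act 1 n167672 = n116390 := d15_1 F360014 F322072 (iv2 F321156)
theorem F360016 : act 3 n175036 = n167672 := d20_9 F222184 (iv1 F321159) D67363 (iv3 F163987) (iv1 D49605) (iv3 F78346) (iv4 F165433) F336027 (iv4 F273950) (iv1 F360014)
theorem F360017 : act 6 n167672 = n175031 := d7_2 D175036 F360016 F273937
theorem F360018 : act 4 n175031 = n155944 := d10_1 F360017 F309203 D167672
theorem F360019 : act 0 n151164 = n175031 := d18_2 F314520 (iv4 F237855) F360018 (iv5 F311175) F311174 D153232 (iv4 F240646) F247988 (iv5 F314523)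
theorem F360020 : act 3 n176998 = n125596 := d5_1 F360011 (iv4 D125596) (iv3 F175465) (iv4 F175463) D140689
theorem F360021 : act 0 n176998 = n166628 := d19_4 F168063 F94074 D125596 (iv3 F360020) (iv5 D166628) (iv4 D79972) (iv3 F326109) (iv1 F326917) (iv5 D45851) F34427 (iv3 F58459) D82018 D171128 (iv4 F348336) F169841 (iv1 F313712) F313713 (iv4 D59001) (iv3 F93198)
theorem F360022 : act 0 n125895 = n128694 := d21_7 D176998 F360021 (iv5 D166628) F325279 F81914 D58949 D125895 F333461 (iv6 F326467) F326463
theorem F360023 : act 2 n125860 = n166628 := d15_3 (iv0 F360021) (iv0 F296358) (iv7 F326460)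
theorem F360024 : act 7 n166628 = n177345 := d4_2 (iv7 F326460) F360023 (iv2 F296360)
theorem F360025 : act 4 n133191 = n125895 := d17_9 F360022 F333461 F296434 (iv5 F330394) F95203 F48431 (iv0 F207228) F209509 F214013
theorem F360026 : act 2 n125895 = n128584 := d1_1 F360025 F206818 D133191
theorem F360027 : act 1 n125895 = n128693 := d15_0 (iv0 D128693) (iv7 F206819) (iv2 F360026)
theorem F360028 : act 5 n178163 = n140648 := d12_5 F351096 (iv5 D162074) (iv6 F299748) F299747 D178163
theorem F360029 : act 3 n140650 = n178163 := d6_3 F360028 (iv3 D140648) D140650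
theorem E102541 : n178162 = n108448 := (c7_4 (iv6 F223745) F360029 (iv6 D178163) D178162)
theorem F360030 : act 3 n108448 = n84804 := (sb E102541 (iv3 D178162))
theorem F360031 : act 7 n178163 = n141954 := d8_2 F223746 F360029 F224997
theorem E102542 : n162294 = n156591 := ((c14_4 F360031 (iv6 D141954) (iv7 F224866) (iv6 F246258) F301772 D178163)).symm
theorem F360032 : act 0 n156591 = n84807 := (sb E102542 F301769)
theorem F360033 : act 1 n156591 = n84659 := (sb E102542 F301770)
theorem F360034 : act 2 n156591 = n84803 := (sb E102542 F301771)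
theorem F360035 : act 5 n156591 = n77966 := (sb E102542 (iv5 D162294))
theorem F360036 : act 7 n156591 = n84804 := (sb E102542 F301772)
theorem F360037 : act 5 n162293 = n141835 := d12_5 (iv6 F246258) F360035 (iv6 D77966) D77965 D162293
theorem F360038 : act 5 n111306 = n159227 := d21_8 D84659 (iv1 F360033) F360035 (iv6 D77966) F56251 (iv6 F90284) (iv5 F343734) (iv1 F172715) F255333 (iv1 D84657)
theorem E102543 : n123010 = n111530 := (c18_4 (iv1 F250723) (iv4 D81987) F301251 D123010 (iv5 D111530) F168471 (iv0 D58860) (iv4 F81044) (iv0 F172714) F360038)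
theorem F360039 : act 0 n111530 = n84560 := (sb E102543 F197099)
theorem F360040 : act 1 n111530 = n84559 := (sb E102543 F197100)
theorem F360041 : act 2 n111530 = n57422 := (sb E102543 F197097)
theorem F360042 : act 4 n111530 = n57230 := (sb E102543 (iv4 D123010))
theorem F360043 : act 6 n111530 = n109619 := (sb E102543 (iv6 F325540))
theorem F360044 : act 7 n111530 = n57408 := (sb E102543 F197098)
theorem F360045 : act 0 n108586 = n110153 := d21_1 F343160 (iv5 D110153) (iv6 F325248) (iv1 D51879) F341324 (iv5 D51437) D51435 D111530 F360043 (iv1 F170457)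
theorem F360046 : act 6 n110153 = n123950 := d21_5 (iv5 D65527) (iv1 F78957) (iv5 F79406) D108586 F360045 F198380 F302067 (iv5 F327322) (iv6 D108465) (iv1 F101247)
theorem F360047 : act 0 n110163 = n139618 := d21_4 (iv5 D110153) (iv1 D50798) D50800 D110163 (iv6 D139618) (iv5 D65527) (iv1 F78957) (iv5 F79406) D108586 F360045
theorem F360048 : act 4 n123948 = n110153 := d10_3 F360046 (iv4 D123950) (iv6 F198377)
theorem F360049 : act 6 n123139 = n112454 := d12_2 F360046 F198380 (iv5 D112454) F325248 D110153
theorem F360050 : act 2 n112454 = n123945 := d3_1 F360049 (iv6 D123945) (iv2 F197334)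
theorem F360051 : act 4 n112454 = n123140 := d10_1 F360049 (iv6 D123140) D123139
theorem F360052 : act 6 n138778 = n111525 := d21_9 (iv5 D51901) (iv1 F81921) D112454 (iv6 F360049) F302067 (iv6 F153012) F345062 (iv1 F167851) D138778 F341343
theorem F360053 : act 0 n123992 = n112499 := d21_4 (iv5 F327322) F327318 F191931 D123992 (iv6 D112499) (iv5 D51901) (iv1 F81921) D112454 (iv6 F360049) F302067
theorem E102544 : n112499 = n111581 := (c18_3 F343836 (iv4 F198403) F360053 F173116 (iv5 F329463) F167593 (iv0 F168450) F173148 F173145 (iv5 F343838))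
theorem F360054 : act 1 n111581 = n123992 := (sb E102544 (iv0 F360053))
theorem F360055 : act 6 n111581 = n51901 := (sb E102544 (iv6 D112499))
theorem F360056 : act 5 n123945 = n109782 := d2_2 D112454 F360050 F170021
theorem F360057 : act 7 n180574 = n112454 := d16_8 F198375 D123948 F360048 (iv5 D110153) F323987 (iv5 F299536) D86244 D180574 F360050
theorem F360058 : act 7 n112452 = n123945 := d13_0 F360056 F170020 D112452
theorem F360059 : act 0 n110174 = n123945 := d17_2 (iv1 F325711) D110174 F360056 (iv4 D109782) (iv5 F323096) F323095 (iv5 F323101) (iv0 F297654) D86171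
theorem F360060 : act 1 n110225 = n123945 := d17_6 (iv1 F38702) (iv5 F38690) (iv1 F38692) D24725 D50822 D110225 F360056 F169777 (iv4 D50842)
theorem E102545 : n123947 = n111713 := ((c18_2 (iv1 F170401) D111713 (iv1 D123947) (iv4 F198375) F360056 (iv4 D109782) F323088 (iv4 F323975) F80196 D110246)).symm
theorem F360061 : act 0 n111713 = n57743 := (sb E102545 (iv1 D123947))
theorem F360062 : act 0 n110123 = n178105 := d21_1 D110123 (iv5 D178105) (iv6 D84779) D84775 F326517 D110174 F360059 F360056 (iv6 F323099) (iv1 D110122)
theorem E102546 : n123946 = n111710 := (c18_3 F360059 F198375 D123946 (iv4 D111710) F325634 F60687 D39884 D86173 (iv0 F325710) D110174)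
theorem F360063 : act 1 n111710 = n57743 := (sb E102546 (iv0 D123946))
theorem F360064 : act 1 n110174 = n180574 := d15_1 (iv0 F360059) F360057 F360050
theorem F360065 : act 4 n179867 = n110174 := d18_7 (iv1 F323983) (iv4 D50842) (iv1 F38702) (iv4 F39263) D51510 (iv4 F337486) D179867 F360064 (iv5 D180574)
theorem F360066 : act 5 n110218 = n179867 := d16_1 D110218 F360065 (iv5 D110174) (iv4 D50805) (iv5 D24720) D24719 D50800 D110164 F170314
theorem E102547 : n116264 = n109169 := (c17_6 F360059 F360056 F170369 D110266 F341349 D116264 (iv0 D109169) (iv5 F337487) D179867 F360065)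
theorem F360067 : act 5 n109169 = n53586 := (sb E102547 (iv5 D116264))
theorem F360068 : act 6 n109169 = n53589 := (sb E102547 F181220)
theorem F360069 : act 7 n109169 = n63519 := (sb E102547 F343165)
theorem F360070 : act 0 n110283 = n179867 := d18_2 (iv1 D110282) D110283 F360065 (iv5 D110174) (iv4 D50805) F169597 (iv4 F49346) D66019 (iv5 F170521)
theorem F360071 : act 2 n180574 = n112452 := d4_3 F360058 (iv2 F360050) (iv7 F360057)
theorem F360072 : act 4 n123949 = n112452 := d11_3 F360058 F198375 D123949
theorem F360073 : act 1 n180574 = n110225 := d15_0 F360060 (iv7 F360058) (iv2 F360071)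
theorem F360074 : act 6 n110290 = n122314 := d21_5 D110225 (iv1 F360073) (iv5 D180574) (iv6 F280518) F333473 F299733 (iv1 F344445) F344443 F301025 F325625
theorem F360075 : act 2 n110305 = n110290 := d3_3 F360074 (iv2 F195575) (iv6 F358824)
theorem F360076 : act 7 n110300 = n110290 := d14_0 F360074 (iv7 F195576) F301418 (iv7 F196319) (iv6 F327886)
theorem E102548 : n134916 = n123948 := (c18_3 (iv1 F341391) F167800 D134916 F360048 (iv5 D110153) F323987 (iv0 D39897) (iv4 F60709) (iv0 F324491) (iv5 F79756))
theorem F360077 : act 1 n123948 = n63401 := (sb E102548 (iv0 D134916))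
theorem F360078 : act 7 n134917 = n120500 := d15_2 F360077 D134917 (iv2 F198376)
theorem F360079 : act 7 n141953 = n162293 := d13_0 F360037 F224866 D141953
theorem F360080 : act 2 n178160 = n141963 := d0_3 D156591 F360034 D178160 F225008 F171752
theorem F360081 : act 2 n178161 = n141835 := d3_3 (iv6 F246258) F360034 D178161
theorem F360082 : act 3 n141961 = n178161 := d0_0 F360081 (iv3 D141835) F166460 D66547 D141961
theorem F360083 : act 7 n141952 = n178161 := d4_0 F360081 F224866 D141952
theorem F360084 : act 1 n178161 = n141950 := d15_0 (iv0 D141950) (iv7 F224866) (iv2 F360081)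
theorem F360085 : act 1 n141951 = n178161 := d15_1 D141951 (iv7 F360083) (iv2 D141952)
theorem F360086 : act 6 n178160 = n141961 := d7_0 F360082 (iv6 D178161) D178160
theorem E102549 : n177927 = n156122 := (c5_3 F216792 F360030 (iv4 F277494) (iv3 D156122) F175905 (iv3 F216794))
theorem F360087 : act 4 n156122 = n84804 := (sb E102549 F277494)
theorem F360088 : act 5 n156122 = n84702 := (sb E102549 (iv5 D177927))
theorem F360089 : act 3 n124208 = n108967 := d6_3 (iv5 F339609) F360030 (iv5 F299747)
theorem F360090 : act 0 n124224 = n111472 := d20_4 D84805 (iv1 F304976) (iv4 D124227) (iv3 F198709) F172982 (iv4 F336729) (iv1 F216790) F216792 F360030 (iv1 D84804)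
theorem F360091 : act 4 n178548 = n124222 := d17_9 (iv1 D124222) D124224 F360090 (iv5 D111472) (iv4 F172955) F348176 F351635 (iv5 F329440) (iv0 F340649)
theorem F360092 : act 6 n124222 = n178547 := d10_2 D178548 F360091 (iv4 D178547)
theorem F360093 : act 3 n124221 = n111778 := d20_5 (iv4 D57914) (iv1 D27636) D27637 D57918 D124221 F173472 F111586 (iv4 F168963) (iv3 F360089) (iv1 F198702)
theorem F360094 : act 5 n140480 = n124221 := d6_0 F360093 F336739 D140480
theorem F360095 : act 6 n111776 = n124221 := d7_0 F360093 (iv6 D111778) D111776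
theorem E102550 : n177926 = n156123 := (c6_2 F360088 D177926 (iv5 D156123) D156122)
theorem F360096 : act 3 n156123 = n84702 := (sb E102550 (iv3 D177926))
theorem F360097 : act 0 n156128 = n177992 := d20_4 F53488 D34076 D74267 D156128 F277533 (iv4 F302602) F302599 (iv4 F360087) (iv3 D156122) (iv1 D74263)
theorem E102551 : n157904 = n65984 := (c21_1 F345401 (iv1 D65984) D65985 F101673 D65993 (iv6 F351095) (iv5 D108966) F100841 D50357 (iv6 F169070) (iv1 F331109))
theorem E102552 : n140622 = n140375 := (((iv2 F223728)).symm.trans (sb E102551 (iv2 F359226)))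
theorem E102553 : n157893 = n140624 := (((D140624).symm.trans (sb E102551 F248812))).symm
theorem E102554 : n153698 = n140625 := (((D140625).symm.trans (sb E102551 (iv5 F345401)))).symm
theorem E102555 : n140626 = n75224 := ((D140626).symm.trans (sb E102551 (iv6 D157904)))
theorem E102556 : n140617 = n140374 := ((F223727).symm.trans (sb E102551 (iv7 F359229)))
theorem F360098 : act 2 n140375 = n65984 := (sb E102552 F223728)
theorem F360099 : act 7 n140375 = n65983 := (sb E102552 (iv7 D140622))
theorem F360100 : act 2 n140624 = n108781 := (sb E102553 (iv2 F343785))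
theorem F360101 : act 6 n140624 = n75218 := (sb E102553 (iv6 D157893))
theorem F360102 : act 0 n140625 = n72721 := (sb E102554 (iv1 D153698))
theorem F360103 : act 1 n140625 = n109067 := (sb E102554 F331109)
theorem F360104 : act 3 n140625 = n106402 := (sb E102554 F345399)
theorem F360105 : act 4 n140625 = n156041 := (sb E102554 F345400)
theorem F360106 : act 6 n140625 = n106401 := (sb E102554 (iv6 F345398))
theorem F360107 : act 6 n75224 = n65984 := (sb E102555 (iv6 D140626))
theorem F360108 : act 2 n140374 = n65983 := (sb E102556 (iv2 D140617))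
theorem F360109 : act 7 n140374 = n65984 := (sb E102556 (iv7 F223727))
theorem F360110 : act 6 n140623 = n157902 := d7_2 F360107 D140623 F248810
theorem F360111 : act 5 n106402 = n140623 := d12_5 F360110 (iv5 D157902) F337384 F92853 D106402
theorem F360112 : act 0 n114349 = n157902 := d21_4 F163745 F107774 (iv5 F83363) D114349 (iv6 F360110) (iv5 F360111) (iv1 F164840) (iv5 F339918) (iv6 D127802) (iv1 F163748)
theorem F360113 : act 2 n140623 = n106951 := d2_1 F360111 (iv5 D106951) (iv2 F163564)
theorem F360114 : act 0 n140623 = n107258 := d17_2 F163566 F360111 (iv5 D107258) F163694 (iv5 F82339) (iv0 D28316) (iv5 F26238) D34242 D74731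
theorem F360115 : act 1 n140623 = n107262 := d17_6 (iv1 F77673) D49566 (iv1 F99521) (iv5 F77632) (iv4 F163565) F360111 (iv5 D107262) F163689 F163686
theorem F360116 : act 5 n163943 = n140624 := d12_5 F360101 (iv5 D75218) (iv6 F296589) D78761 D163943
theorem F360117 : act 0 n140624 = n108609 := d21_4 F126263 (iv1 F112760) D75218 (iv6 F360101) (iv6 D108609) (iv5 D50147) (iv1 F49298) (iv5 F79680) (iv6 F341329) (iv1 F126262)
theorem F360118 : act 1 n140624 = n108783 := d15_1 (iv0 F360117) (iv7 D108783) (iv2 F167990)
theorem F360119 : act 7 n140619 = n108781 := d11_2 F360099 D140619 (iv4 F359227)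
theorem F360120 : act 7 n140621 = n157914 := d14_2 F360099 D140621 (iv6 D157914) (iv7 F132122) (iv6 F359228)
theorem F360121 : act 5 n163977 = n140619 := d13_3 F360119 F343787 D163977
theorem F360122 : act 1 n108783 = n140619 := d15_1 F360118 F360119 (iv2 F360100)
theorem F360123 : act 2 n140619 = n108780 := d15_3 (iv0 D108780) D108781 (iv7 F360119)
theorem F360124 : act 4 n108780 = n140374 := d1_2 D140619 F360123 F360108
theorem F360125 : act 7 n108780 = n140624 := d4_2 (iv7 F360119) F360123 F360100
theorem F360126 : act 1 n140619 = n108609 := d15_0 (iv0 F360117) (iv7 F360125) (iv2 F360123)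
theorem F360127 : act 2 n123332 = n111537 := d1_3 F173059 F351076 (iv4 F351073)
theorem F360128 : act 2 n160261 = n111595 := d3_3 F173137 F351076 F351071
theorem F360129 : act 1 n111595 = n160583 := d15_0 (iv0 F253665) (iv7 F253100) F360128
theorem F360130 : act 3 n145319 = n111365 := d7_1 F351069 (iv6 D111365) (iv3 F172815)
theorem F360131 : act 5 n111365 = n145318 := d6_2 D145319 F360130 (iv3 D145318)
theorem F360132 : act 2 n145318 = n140697 := d2_1 F360131 F223788 (iv2 F172818)
theorem F360133 : act 6 n145318 = n109069 := d12_2 D111365 F360131 F169072 (iv6 D51361) D51360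
theorem F360134 : act 3 n109069 = n107425 := d7_1 F360133 (iv6 F165716) D145318
theorem F360135 : act 0 n107144 = n145318 := d21_4 F78311 (iv1 F82136) (iv5 F180739) D107144 F360133 F169072 D111366 F331098 (iv6 D142745) (iv1 F102877)
theorem F360136 : act 2 n178339 = n111478 := d0_3 F351064 F277903 D178339 (iv3 D111478) F172642
theorem F360137 : act 6 n111478 = n163073 := d3_2 (iv6 F334710) F360136 F351057
theorem F360138 : act 5 n140472 = n111478 := d12_5 F360137 (iv5 D163073) (iv6 F130025) D178224 (iv6 F341403)
theorem F360139 : act 7 n163073 = n140399 := d14_2 (iv7 F172986) F360137 (iv6 D140399) F101590 D108752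
theorem F360140 : act 1 n177496 = n140399 := d15_1 (iv0 F351058) (iv7 F360139) F351057
theorem E102557 : n177629 = n177547 := (c15_2 (iv0 D177628) D177629 (iv7 F338329) F351048)
theorem F360141 : act 0 n177547 = n84600 := (sb E102557 (iv1 D177629))
theorem F360142 : act 6 n109907 = n180643 := d7_0 F351041 F169866 D109907
theorem F360143 : act 0 n147551 = n173692 := d21_4 D69040 F202630 F351027 D147551 (iv6 D173692) (iv5 D83066) (iv1 F59096) D38240 F330303 (iv1 D69038)
theorem E102558 : n147843 = n147551 := ((c15_1 (iv0 F360143) (iv0 D147843) F334066 (iv2 F272215))).symm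
theorem F360144 : act 1 n147551 = n69275 := (sb E102558 (iv0 D147843))
theorem F360145 : act 4 n109540 = n92198 := d10_1 F351022 (iv6 D92198) D92196
theorem F360146 : act 3 n92198 = n112739 := d20_3 F175442 (iv1 F173632) F360145 (iv1 F175515) (iv3 F175529) F175530 (iv1 F352008) F352009 (iv3 F353507) (iv1 F175444)
theorem F360147 : act 6 n112739 = n92195 := d7_2 D92198 F360146 (iv3 D92195)
theorem F360148 : act 4 n163863 = n109539 := d11_3 (iv7 F228564) F351016 (iv7 F340166)
theorem F360149 : act 6 n109539 = n166400 := d10_2 (iv6 F340165) F360148 (iv4 D166400)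
theorem F360150 : act 1 n110781 = n176048 := d17_6 (iv1 D83975) D83976 (iv1 F331956) F331957 F334804 (iv5 F171486) (iv5 D176048) (iv0 F326574) F350990
theorem F360151 : act 0 n162607 = n173280 := d21_10 (iv5 D173280) (iv1 F243918) (iv5 F331735) (iv6 F339275) F339277 F316251 (iv5 F320637) F350987 (iv5 D179952) (iv6 F350985)
theorem F360152 : act 0 n124633 = n162608 := d20_1 D124633 (iv4 D162608) D162607 F360151 (iv3 F306086) F341141 (iv1 F316492) (iv4 F320867) (iv3 F344764) (iv1 D124632)
theorem E102559 : n179950 = n162609 := (c7_2 F350985 D179950 (iv6 D162609) D162607)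
theorem F360153 : act 3 n162609 = n85989 := (sb E102559 (iv3 D179950))
theorem E102560 : n155137 = n107747 := ((c21_3 F119634 D84570 (iv5 F338793) (iv6 D155137) (iv1 F243875) (iv6 F337688) F337174 (iv1 F350978) F350981 F338805 F338801)).symm
theorem F360154 : act 6 n107747 = n73635 := (sb E102560 (iv6 D155137))
theorem F360155 : act 4 n159037 = n141496 := d19_2 D85531 (iv5 F350975) (iv3 D141496) (iv1 D66380) F319542 (iv4 F321732) F49903 D31580 F199808 F308806 F308917 (iv1 F309647) F307644 (iv4 F312364) F107308 (iv1 F51981) F46261 (iv4 F46263) D39486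
theorem F360156 : act 2 n141496 = n170465 := d1_1 F360155 (iv4 F353468) F353467
theorem F360157 : act 6 n141496 = n149582 := d10_2 (iv6 F350976) F360155 (iv4 F337161)
theorem F360158 : act 1 n141496 = n149210 := d18_8 F234630 (iv4 F233610) (iv1 F243397) (iv4 D146832) (iv5 F318629) (iv4 F339410) F279791 F360155 (iv5 F234593)
theorem F360159 : act 3 n164529 = n117093 := d20_5 (iv4 D124695) F306637 (iv4 F307395) (iv3 F350969) (iv1 F259339) (iv4 D117093) (iv1 F85105) (iv4 F93933) (iv3 F329678) (iv1 F308467)
theorem F360160 : act 4 n145642 = n164529 := d5_0 F360159 (iv4 D117093) F85102 D68271 D145642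
theorem F360161 : act 2 n99715 = n155065 := d15_3 (iv0 F350945) (iv0 D101753) (iv7 F156716)
theorem F360162 : act 6 n162721 = n99715 := d3_0 F360161 F332038 F331992
theorem E102561 : n161877 = n155112 := (c15_1 (iv0 F344082) (iv0 D155112) (iv7 F243854) (iv2 F360161))
theorem F360163 : act 0 n155112 = n99715 := (sb E102561 F344082)
theorem F360164 : act 2 n155112 = n101753 := (sb E102561 F350941)
theorem F360165 : act 3 n155112 = n77745 := (sb E102561 (iv3 D161877))
theorem F360166 : act 7 n155112 = n82729 := (sb E102561 F344083)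
theorem F360167 : act 7 n101757 = n176499 := d14_4 (iv7 F256955) F360162 F156716 D101757 F347493
theorem E102562 : n115605 = n115586 := ((c4_2 F350937 (iv2 F179895) (iv7 D115605) (iv2 F179524))).symm
theorem F360168 : act 7 n115586 = n53321 := (sb E102562 (iv7 D115605))
theorem E102563 : n115603 = n115595 := (c15_1 D115603 (iv0 D115595) (iv7 F350937) F179524)
theorem F360169 : act 0 n115595 = n53321 := (sb E102563 (iv1 D115603))
theorem F360170 : act 0 n119526 = n126893 := d20_4 (iv4 F336275) F360169 F350934 D119526 (iv3 F333396) F321973 (iv1 F185040) F321151 (iv3 F326827) F326826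
theorem F360171 : act 5 n130368 = n119526 := d17_1 (iv1 F215593) F360170 F333397 F190719 (iv5 F311050) D67335 (iv5 F315706) F313932 (iv4 F313047)
theorem F360172 : act 1 n119526 = n126892 := d15_1 (iv0 F360170) (iv7 F339305) F339303
theorem F360173 : act 7 n119526 = n126888 := d15_2 D126893 (iv0 F360170) F204144
theorem F360174 : act 2 n126895 = n119526 := d4_3 F360173 F204144 D126895
theorem F360175 : act 3 n126888 = n119297 := d8_1 F360173 F233767 D119526
theorem F360176 : act 3 n119528 = n130368 := d6_3 F360171 (iv3 D119526) D119528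
theorem F360177 : act 6 n119526 = n113156 := d12_2 (iv6 F310812) F360171 (iv5 D113156) F330144 (iv5 F330139)
theorem F360178 : act 4 n119297 = n115586 := d11_3 F360168 F350934 (iv7 F233767)
theorem E102564 : n115602 = n115596 := ((c15_1 D115596 (iv0 D115602) (iv7 F360168) F179895)).symm
theorem F360179 : act 1 n115596 = n53321 := (sb E102564 (iv0 D115602))
theorem F360180 : act 4 n102350 = n115604 := d16_6 F336273 D119533 (iv4 F233872) F233873 (iv4 D117640) (iv5 F346065) (iv5 D115604) (iv7 F360168) F179895
theorem E102565 : n107639 = n107595 := (c21_5 F187782 (iv1 F86845) D54986 (iv6 F345599) D107639 (iv6 D107595) (iv5 D49705) (iv1 F40119) D52232 (iv6 F350933) (iv1 F187785))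
theorem F360181 : act 1 n107595 = n49727 := (sb E102565 (iv0 D107639))
theorem F360182 : act 7 n107640 = n107590 := d15_2 F360181 D107640 (iv2 F165997)
theorem F360183 : act 0 n158539 = n130135 := d20_4 F349026 F335888 (iv4 F229702) F337565 F208654 (iv4 F203666) F350917 (iv4 D135855) (iv3 F336459) F349028
theorem F360184 : act 6 n159655 = n129517 := d7_2 D129519 F350871 (iv3 D129517)
theorem F360185 : act 0 n116122 = n134735 := d20_7 (iv4 F84043) F84045 (iv4 F165969) F330508 F180909 (iv3 F344430) (iv4 F344431) (iv4 F350842) F202674 F93210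
theorem F360186 : act 3 n182524 = n141285 := d5_3 D66281 F350838 D182524 (iv4 D141285) F101858
theorem F360187 : act 3 n182525 = n138279 := d6_3 F329662 F350838 D182525
theorem F360188 : act 3 n182526 = n116118 := d7_3 F180905 F350838 D182526
theorem F360189 : act 0 n143066 = n182526 := d20_4 D137976 (iv1 F225926) (iv4 D143068) (iv3 F225919) F360188 (iv4 D116118) F168738 F323860 F99627 D64849
theorem F360190 : act 4 n182526 = n113263 := d20_6 F177215 (iv1 F252001) F251999 F345488 (iv1 F345486) (iv3 F360188) (iv1 D113263) D113264 F176454 D113917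
theorem F360191 : act 0 n182526 = n137159 := d20_10 F221306 (iv1 D138063) (iv4 D64879) (iv3 D30492) (iv1 F45798) D59614 F325100 F98795 D116118 (iv3 F360188)
theorem F360192 : act 5 n137125 = n182526 := d18_9 F360191 F221306 (iv1 D138063) (iv4 D64879) (iv5 F93833) (iv4 F167961) (iv0 F220316) (iv4 D137127) D137125
theorem F360193 : act 6 n113263 = n182524 := d10_2 D182526 F360190 (iv4 D182524)
theorem F360194 : act 0 n182524 = n183508 := d21_4 (iv5 D126225) (iv1 F93377) (iv5 F220873) F360193 (iv6 D183508) (iv5 F294528) F70024 D45162 D96680 F345923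
theorem F360195 : act 4 n163508 = n182525 := d19_2 F329023 D163508 F360187 (iv1 F329231) F345489 F216839 F167761 (iv1 F95308) (iv5 F85109) (iv4 F183132) (iv3 F318724) F313802 F119636 F56507 F321502 F320727 (iv5 F319494) F319493 D86189
theorem E102566 : n110857 = n93354 := (c20_1 F203776 (iv1 D93354) (iv4 F143975) F329973 (iv1 F350834) (iv3 D155768) (iv4 D74100) (iv1 F87420) F316315 (iv3 F280899) F348159)
theorem F360196 : act 3 n93354 = n51118 := (sb E102566 F171712)
theorem F360197 : act 4 n93354 = n126640 := (sb E102566 (iv4 F203776))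
theorem F360198 : act 6 n93354 = n51116 := (sb E102566 (iv6 D110857))
theorem F360199 : act 7 n93354 = n141286 := (sb E102566 (iv7 F224305))
theorem F360200 : act 2 n141286 = n93353 := d15_3 (iv0 D93353) D93354 F360199
theorem F360201 : act 2 n115593 = n134951 := d0_3 D141286 F360200 (iv3 F354215) F217162 F329779
theorem F360202 : act 4 n134951 = n115562 := d1_2 D115593 F360201 F359764
theorem F360203 : act 5 n134944 = n115593 := d2_0 F360201 (iv5 D134951) (iv2 F217160)
theorem F360204 : act 0 n146483 = n134944 := d19_0 F360203 (iv4 D115593) F84163 (iv1 F49189) (iv5 D30720) (iv4 D14559) (iv3 D6957) (iv1 F4899) (iv5 D1405) (iv4 F4900) D1300 (iv1 F4912) D2082 D5084 D11122 F27006 D31952 D68672 D146483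
theorem F360205 : act 1 n146483 = n134952 := d15_1 (iv0 F360204) (iv7 D134952) (iv2 F217160)
theorem F360206 : act 7 n115554 = n134951 := d11_0 F360202 (iv7 D115562) (iv4 F179862)
theorem F360207 : act 5 n126840 = n134931 := d16_1 D126840 F217131 D134951 F360202 F359765 D115584 F347030 F347027 F204081
theorem F360208 : act 5 n134952 = n115554 := d13_3 F360206 (iv5 D134951) D134952
theorem F360209 : act 1 n134275 = n134173 := d15_0 F350814 F216026 (iv2 F216306)
theorem F360210 : act 1 n178955 = n113291 := d15_0 (iv0 F204836) (iv7 F227724) (iv2 F350803)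
theorem F360211 : act 6 n113155 = n162913 := d21_5 D113291 (iv1 F360210) (iv5 F350802) (iv6 F323947) (iv1 F176309) (iv5 F311611) F205791 D127885 F341898 (iv1 D113289)
theorem F360212 : act 7 n165726 = n113155 := d14_0 F360211 F330141 (iv6 F341929) F341930 D165726
theorem F360213 : act 4 n113209 = n165726 := d11_3 F360212 F176308 (iv7 F176379)
theorem F360214 : act 1 n113154 = n165726 := d15_1 D113154 F360212 (iv2 D113155)
theorem F360215 : act 1 n165726 = n112396 := d15_1 F360214 F174857 F358200
theorem F360216 : act 3 n165726 = n108973 := d20_5 (iv4 D50745) (iv1 F39611) D51850 D112396 (iv1 F360215) F168975 (iv1 F168508) (iv4 F174889) (iv3 D112410) (iv1 F81891)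
theorem F360217 : act 6 n161611 = n112396 := d21_3 D163532 F342745 (iv5 F303678) (iv1 F360215) (iv6 D165726) (iv5 F338375) (iv1 F212376) F323648 (iv6 F302532) (iv1 F257797)
theorem F360218 : act 6 n126035 = n128959 := d10_2 F360217 (iv4 F202737) (iv4 F347322)
theorem F360219 : act 3 n128959 = n126037 := d7_1 F360218 (iv6 D126037) D126035
theorem F360220 : act 6 n108973 = n165723 := d7_2 D165726 F360216 (iv3 D165723)
theorem F360221 : act 2 n165723 = n108975 := d3_1 F360220 (iv6 D108975) D108973
theorem F360222 : act 6 n165724 = n113209 := d10_0 F360213 (iv6 D165726) D165724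
theorem F360223 : act 3 n125832 = n165724 := d7_3 F360222 F176378 D125832
theorem F360224 : act 5 n113376 = n178250 := d6_2 (iv5 F324803) F350800 (iv3 D178250)
theorem F360225 : act 6 n178250 = n113377 := d12_2 D113376 F360224 (iv5 D113377) (iv6 D52336) D52335
theorem F360226 : act 4 n178250 = n175357 := d16_4 (iv4 F356228) F356234 F220436 F360224 F274406 F264407 (iv5 F319309) F321325 D142131
theorem F360227 : act 7 n166381 = n178250 := d11_0 F360226 (iv7 D175357) (iv4 F327672)
theorem F360228 : act 0 n165662 = n178250 := d18_2 (iv1 F324250) D165662 F360226 F274406 F264407 F278516 (iv4 D178696) (iv0 D85133) D85135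
theorem F360229 : act 1 n165657 = n178250 := d18_6 F188306 (iv4 F83596) D114613 F190304 F325405 D165657 F360226 F274408 (iv5 D119239)
theorem F360230 : act 7 n147208 = n96265 := d15_2 (iv0 F346795) F350793 F337327
theorem F360231 : act 0 n102025 = n128534 := d18_0 F206745 F346798 (iv4 F339825) F158434 F315538 (iv0 F308815) F346790 F350793 (iv5 F346002)
theorem F360232 : act 4 n96265 = n146708 := d11_1 F360230 F243005 D147208
theorem F360233 : act 1 n127672 = n96265 := d17_8 F243002 F231636 (iv1 F242936) (iv5 F184335) (iv4 F314952) (iv5 F346767) (iv0 F346766) F346786 F360232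
theorem F360234 : act 0 n89414 = n96265 := d20_1 F345662 F360232 F230043 (iv1 D69614) F51343 (iv4 F313169) D36325 F313199 (iv3 F243095) (iv1 F345664)
theorem E102567 : n146106 = n127669 := ((c20_4 (iv4 F360232) (iv1 F360233) F205276 (iv3 F205275) F317775 F158410 D103145 (iv1 F356289) (iv4 F334509) (iv3 F312758) F312755)).symm
theorem F360235 : act 0 n127669 = n103131 := (sb E102567 F317775)
theorem F360236 : act 1 n127669 = n68510 := (sb E102567 (iv0 D146106))
theorem F360237 : act 6 n146753 = n154598 := d7_2 F350772 D146753 (iv3 D154598)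
theorem E102568 : n135191 = n123253 := (c2_3 (iv5 F341411) F350740 D135191 F197543)
theorem F360238 : act 5 n123253 = n63524 := (sb E102568 (iv5 D135191))
theorem E102569 : n143426 = n135189 := ((c6_2 F360238 D135189 (iv5 D143426) (iv3 F321947))).symm
theorem F360239 : act 0 n135189 = n139990 := (sb E102569 F226187)
theorem F360240 : act 1 n135189 = n139949 := (sb E102569 F226188)
theorem F360241 : act 5 n135189 = n67187 := (sb E102569 (iv5 D143426))
theorem F360242 : act 1 n135190 = n108592 := d18_6 D55455 (iv4 F353604) F184135 F323601 F360238 D135190 F167932 F341496 (iv5 D55457)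
theorem F360243 : act 7 n160063 = n135189 := d13_0 F360241 F320244 D160063
theorem F360244 : act 0 n135195 = n108592 := d21_4 F191931 D123989 F304463 (iv6 F350738) (iv6 D108592) F79420 (iv1 F38364) D50083 D108465 F327318
theorem F360245 : act 1 n156487 = n102458 := d18_6 (iv1 F216935) D135195 F360244 F167932 (iv5 F171540) (iv4 F246024) F343200 F216085 (iv5 F216933)
theorem F360246 : act 1 n134073 = n156487 := d15_0 F360245 F343201 (iv2 F216080)
theorem F360247 : act 0 n117244 = n134436 := d20_4 (iv4 D32017) (iv1 F41443) D54038 D117244 (iv3 D134436) (iv4 F343200) (iv1 F360245) F246024 F341450 (iv1 F85264)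
theorem F360248 : act 1 n146913 = n134436 := d15_0 (iv0 F360247) F183463 D146913
theorem E102570 : n179772 = n135192 := ((c14_2 F350735 D135192 (iv7 D179772) (iv6 D85866) F117531 (iv6 F303354))).symm
theorem F360249 : act 7 n135192 = n85866 := (sb E102570 (iv7 D179772))
theorem F360250 : act 6 n123121 = n134076 := d21_5 (iv5 D27410) (iv1 F44218) (iv5 F87655) D120335 (iv1 F350264) (iv5 F216933) (iv1 F216935) F350733 (iv6 D56967) (iv1 F44302)
theorem F360251 : act 4 n160305 = n89517 := d10_3 F335633 F350732 D160305
theorem E102571 : n177253 = n177034 := (c17_7 (iv1 F188031) (iv5 F316538) (iv1 F350680) F350682 (iv4 F234285) (iv5 F311407) D177253 (iv5 D177034) (iv0 F333733) (iv4 D174099))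
theorem F360252 : act 0 n177034 = n84452 := (sb E102571 (iv1 D177253))
theorem F360253 : act 0 n177255 = n152880 := d18_2 F360252 D177255 (iv4 D152880) (iv5 F311858) (iv4 F188037) F188040 F127690 F333732 D177034
theorem E102572 : n147809 = n125970 := (c21_5 (iv5 D133683) D133682 (iv5 F342240) (iv6 D147813) D147809 F323166 F122667 F350677 (iv5 F262036) F346919 (iv1 F315253))
theorem F360254 : act 1 n125970 = n69255 := (sb E102572 (iv0 D147809))
theorem F360255 : act 4 n160926 = n162791 := d5_0 F350672 (iv4 D112737) (iv3 F166181) D110616 F317712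
theorem F360256 : act 6 n128060 = n112767 := d21_3 (iv5 D84936) F300868 D128060 (iv1 D112767) (iv6 D52049) (iv5 D25265) D25262 D52039 D112744 F350647
theorem F360257 : act 2 n112767 = n174511 := d3_1 F360256 (iv6 D174511) (iv2 F300869)
theorem F360258 : act 3 n112767 = n123713 := d7_1 F360256 F198198 (iv3 F206071)
theorem F360259 : act 5 n112767 = n123710 := d12_1 F360256 (iv6 D123710) F90858 D60179 D128060
theorem F360260 : act 5 n153800 = n174511 := d2_2 F360259 (iv2 F241654) (iv2 F360257)
theorem F360261 : act 3 n112846 = n96553 := d7_1 F350612 (iv6 D96553) D96550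
theorem F360262 : act 3 n133425 = n131355 := d5_3 (iv4 F340670) F350609 D133425 (iv4 D131355) (iv3 F167451)
theorem F360263 : act 3 n133426 = n181745 := d6_3 F340673 F350609 D133426
theorem F360264 : act 3 n133428 = n157357 := d8_3 F340672 F350609 D133428
theorem F360265 : act 0 n133425 = n97284 := d20_7 D106761 F177833 F78523 (iv3 F78514) D107558 F350609 D133425 F340417 F163779 (iv1 F78000)
theorem F360266 : act 3 n173500 = n121348 := d20_3 F340665 (iv1 D173499) D173500 F233496 F360263 (iv4 D181745) F133092 (iv4 F107232) (iv3 F229856) F354441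
theorem F360267 : act 6 n121347 = n173500 := d7_0 F360266 (iv6 D121348) D121347
theorem F360268 : act 5 n173500 = n145017 := d12_1 F360267 (iv6 D145017) (iv5 D67985) D67986 (iv5 F338602)
theorem E102573 : n118542 = n111850 := (c20_3 (iv4 D110747) (iv1 F86273) D118542 F327742 (iv1 F359399) F214534 F97672 D62624 D133425 F360262 F210561)
theorem F360269 : act 0 n111850 = n120134 := (sb E102573 (iv1 F189765))
theorem F360270 : act 1 n111850 = n120122 := (sb E102573 (iv0 F189734))
theorem F360271 : act 2 n111850 = n133648 := (sb E102573 (iv2 F215056))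
theorem F360272 : act 4 n111850 = n54589 := (sb E102573 (iv4 D118542))
theorem F360273 : act 7 n111850 = n151671 := (sb E102573 (iv7 F238525))
theorem F360274 : act 3 n151671 = n176764 := d8_1 F360273 (iv7 D176764) (iv3 F327742)
theorem F360275 : act 5 n151671 = n111851 := d13_1 F360273 (iv7 D111851) D111850
theorem F360276 : act 4 n133683 = n111851 := d16_6 (iv4 D133648) (iv5 D62731) F47688 D29678 D62748 D133683 (iv5 F360275) (iv7 F360273) F360271
theorem F360277 : act 5 n110648 = n133648 := d9_10 D133683 F360276 (iv5 F360275) (iv4 D151671) (iv5 D71477) F52292 D54563 F310773 (iv5 F327538) (iv4 F171256) (iv4 D133648) (iv5 D62731) F47688 D29678 D62748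
theorem F360278 : act 6 n133648 = n111793 := d12_2 D110648 F360277 (iv5 D111793) (iv6 D51545) (iv5 F80482)
theorem E102574 : n151677 = n94308 := ((c5_3 D151671 F360274 (iv4 F293806) (iv3 D151677) (iv4 D71479) (iv3 F108006))).symm
theorem F360279 : act 3 n94308 = n71479 := (sb E102574 (iv3 D151677))
theorem E102575 : n151448 = n94293 := (c8_3 D94308 F360279 (iv7 F238191) F145425)
theorem F360280 : act 0 n94293 = n107915 := (sb E102575 F238192)
theorem F360281 : act 1 n94293 = n107897 := (sb E102575 F238193)
theorem F360282 : act 2 n94293 = n71481 := (sb E102575 F238190)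
theorem F360283 : act 4 n94293 = n71394 := (sb E102575 (iv4 D151448))
theorem F360284 : act 7 n94293 = n71479 := (sb E102575 F238191)
theorem E102576 : n151684 = n94288 := (c3_3 D94293 F360282 D151684 F145422)
theorem F360285 : act 4 n94288 = n71482 := (sb E102576 F238559)
theorem F360286 : act 6 n94288 = n71481 := (sb E102576 (iv6 D151684))
theorem F360287 : act 0 n92963 = n110989 := d21_4 (iv5 D25611) D25609 D52754 (iv6 F205465) (iv6 F172243) F350597 (iv1 D164384) (iv5 F178302) (iv6 D114327) (iv1 D52762)
theorem F360288 : act 2 n127804 = n114337 := d15_3 F205604 (iv0 F350595) (iv7 F339915)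
theorem F360289 : act 4 n111051 = n127804 := d1_0 F360288 F350588 (iv2 F172244)
theorem F360290 : act 3 n96070 = n97427 := d20_5 (iv4 D20205) F291421 (iv4 F33549) (iv3 F70409) D96070 F350540 F205514 F291245 (iv3 D91390) (iv1 D42771)
theorem F360291 : act 6 n92436 = n96070 := d7_0 F360290 F350542 (iv3 F142182)
theorem F360292 : act 2 n96070 = n96976 := d3_1 F360291 (iv6 D96976) (iv2 F178247)
theorem F360293 : act 4 n96070 = n92438 := d10_1 F360291 (iv6 D92438) D92436
theorem F360294 : act 5 n103865 = n96070 := d21_2 D48085 D103865 (iv6 F360291) (iv1 F142185) (iv6 D45332) D45331 F71425 F56631 D44925 (iv1 F176029)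
theorem F360295 : act 3 n103305 = n103865 := d6_3 F360294 F360290 F350541
theorem F360296 : act 0 n92438 = n90851 := d20_1 F360293 F292051 (iv3 D93521) (iv1 D43734) (iv3 F292242) (iv4 D20205) F291421 (iv4 F33549) (iv3 F70409) D96070
theorem F360297 : act 7 n96071 = n96976 := d15_2 (iv0 D96070) D96071 (iv2 F360292)
theorem F360298 : act 1 n159306 = n137094 := d18_8 D137092 F350535 F306981 D96002 F294880 D176847 (iv0 F343684) F343686 (iv5 D137094)
theorem F360299 : act 4 n137094 = n160996 := d18_7 F343689 (iv4 D94349) (iv1 F177448) (iv4 F211427) (iv5 F342869) F343686 F360298 (iv0 D160996) D160999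
theorem F360300 : act 2 n160996 = n166563 := d1_1 F360299 (iv4 F262091) (iv2 F358388)
theorem F360301 : act 6 n160996 = n137100 := d10_2 (iv6 F220257) F360299 (iv4 D137100)
theorem F360302 : act 7 n160996 = n166562 := d11_2 F358389 F360299 F281167
theorem F360303 : act 5 n158887 = n96003 := d18_9 (iv1 F350527) D186319 (iv1 F350534) F331311 D137094 F360299 (iv0 D160996) F116024 D158887
theorem E102577 : n176845 = n158887 := (c2_4 F360303 (iv2 F306984) F294880 D176845)
theorem F360304 : act 2 n158887 = n84307 := (sb E102577 (iv2 D176845))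
theorem F360305 : act 3 n158887 = n96011 := (sb E102577 F346841)
theorem F360306 : act 7 n158887 = n84308 := (sb E102577 (iv7 F276224))
theorem F360307 : act 6 n96006 = n158887 := d12_0 F360303 (iv6 D96003) (iv5 D44799) D44800 D96006
theorem F360308 : act 2 n176849 = n96006 := d3_3 F360307 F360304 D176849
theorem F360309 : act 3 n139666 = n176849 := d0_0 F360308 F147636 (iv2 F76062) D104633 F346834
theorem F360310 : act 5 n95999 = n176849 := d2_0 F360308 (iv5 D96006) (iv2 F147634)
theorem F360311 : act 0 n176849 = n103675 := d17_2 (iv1 F353185) F360310 (iv5 D103675) F151058 D90561 F288364 F288358 F288032 (iv4 F149908)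
theorem E102578 : n176849 = n176677 := ((c21_2 (iv5 F331196) D176677 (iv5 F360310) (iv6 D95999) F157281 (iv6 D45407) (iv5 F51820) F51821 F34132 D23172 D48016)).symm
theorem F360312 : act 0 n176677 = n103675 := (sb E102578 F360311)
theorem F360313 : act 2 n176677 = n96006 := (sb E102578 F360308)
theorem F360314 : act 3 n176677 = n139666 := (sb E102578 (iv3 F360309))
theorem F360315 : act 5 n176677 = n95999 := (sb E102578 (iv5 F360310))
theorem F360316 : act 6 n176677 = n84307 := (sb E102578 (iv6 D176849))
theorem E102579 : n176678 = n104636 := (c15_2 (iv0 D176677) D176678 F160341 (iv2 F360313))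
theorem F360317 : act 0 n104636 = n84236 := (sb E102579 (iv1 D176678))
theorem F360318 : act 7 n103675 = n176679 := d15_2 (iv0 F360317) (iv0 F350465) (iv2 D176679)
theorem F360319 : act 3 n176679 = n103653 := d8_1 F360318 (iv7 F160308) F160307
theorem F360320 : act 5 n176679 = n103652 := d13_1 F360318 F159056 D103675
theorem F360321 : act 1 n96006 = n176679 := d15_1 (iv0 F350447) (iv7 F360318) (iv2 F331170)
theorem E102580 : n158886 = n112270 := ((c15_4 (iv0 D158886) D158887 F360306 (iv2 F346865))).symm
theorem F360322 : act 0 n112270 = n84309 := (sb E102580 (iv1 F250172))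
theorem F360323 : act 1 n112270 = n75813 := (sb E102580 (iv0 D158886))
theorem F360324 : act 0 n166599 = n113413 := d20_10 F176601 F360322 (iv4 F262093) F262092 (iv1 F262135) (iv3 F328087) F328088 (iv1 D86279) F122740 D166599
theorem F360325 : act 2 n166562 = n160997 := d15_3 F262097 F262095 F360302
theorem F360326 : act 7 n166563 = n160997 := d4_2 (iv7 F360302) F360300 (iv2 F360325)
theorem E102581 : n186309 = n96030 := ((c17_5 (iv1 F226697) (iv5 F350512) (iv1 D104859) F76243 D96030 (iv5 D186309) (iv0 D88754) D88757 F350527 F306989)).symm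
theorem F360327 : act 5 n96030 = n88754 := (sb E102581 (iv5 D186309))
theorem F360328 : act 0 n95969 = n144188 := d20_4 F331392 F251936 F331389 F288030 F226893 (iv4 F306989) (iv1 F350527) D186319 F289092 (iv1 F331400)
theorem F360329 : act 5 n144188 = n95531 := d17_3 D103213 F251253 F360328 F147154 D98587 F295121 (iv5 D87178) D87176 F293513
theorem F360330 : act 2 n95532 = n144188 := d15_3 (iv0 F360328) (iv0 D95969) (iv7 F147160)
theorem F360331 : act 1 n95532 = n144185 := d15_0 (iv0 D144185) D144188 (iv2 F360330)
theorem F360332 : act 5 n144185 = n103657 := d17_7 (iv1 F133784) (iv5 F328975) (iv1 F329334) (iv5 D46089) (iv4 F70151) D95532 F360331 (iv0 F293514) (iv4 D96472)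
theorem F360333 : act 2 n95969 = n144185 := d2_3 F360332 (iv2 F251251) F251253
theorem F360334 : act 0 n96018 = n144173 := d21_4 F360332 F251762 F76240 D96018 (iv6 D144173) (iv5 D67542) (iv1 D31380) D31382 D67549 D144185
theorem F360335 : act 7 n144186 = n95969 := d15_2 (iv0 D144185) D144186 F360333
theorem F360336 : act 7 n95970 = n144185 := d15_2 (iv0 D95969) D95970 (iv2 F360333)
theorem F360337 : act 2 n144186 = n95970 := d4_3 F360336 (iv2 F360333) (iv7 F360335)
theorem F360338 : act 5 n103214 = n95970 := d13_3 F360336 F360332 (iv7 F251255)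
theorem F360339 : act 1 n144186 = n95532 := d15_0 F360331 (iv7 F360336) (iv2 F360337)
theorem F360340 : act 3 n144186 = n186066 := d20_5 D96075 F147685 (iv4 D95533) (iv3 F147159) (iv1 F360339) (iv4 F331411) (iv1 F331382) (iv4 D96068) F70408 D44829
theorem F360341 : act 5 n144186 = n104855 := d21_2 D95532 (iv1 F360339) (iv6 F251759) (iv1 F160393) (iv6 F291954) F291953 (iv1 F335374) F335376 F294109 (iv1 D95530)
theorem F360342 : act 0 n144188 = n95970 := d21_1 (iv5 F360329) (iv5 F360338) (iv6 F251256) (iv1 D104707) F291956 (iv5 F291955) (iv1 F335370) (iv5 D97313) F157620 (iv1 F147156)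
theorem F360343 : act 3 n111870 = n96030 := d6_3 F360327 F327946 D111870
theorem F360344 : act 4 n96032 = n111870 := d5_0 F360343 (iv4 D96030) (iv3 D44808) D44809 D96032
theorem F360345 : act 6 n94320 = n106672 := d21_3 (iv5 D47732) D47729 (iv5 F350498) (iv1 D106672) (iv6 D49287) (iv5 D24055) D24054 (iv5 F77702) (iv6 F114664) F293782
theorem E102582 : n181895 = n97424 := (c17_10 (iv1 D97424) (iv5 D45495) D45492 D97415 F294948 (iv5 D84310) D84308 F346852 D144223 F350476)
theorem F360346 : act 2 n97424 = n186319 := (sb E102582 F289095)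
theorem F360347 : act 4 n97424 = n144223 := (sb E102582 (iv4 F350476))
theorem F360348 : act 5 n97424 = n86876 := (sb E102582 (iv5 D181895))
theorem F360349 : act 6 n94326 = n104040 := d21_3 D90561 F288363 (iv5 F145468) F345038 F350468 F251942 (iv1 F161507) F161500 F143146 (iv1 F135567)
theorem F360350 : act 0 n185884 = n135640 := d21_4 (iv5 F350454) (iv1 D94325) (iv5 F135579) D185884 (iv6 D135640) (iv5 F333527) (iv1 F161493) (iv5 F177017) (iv6 F233529) (iv1 F233531)
theorem F360351 : act 3 n176674 = n103657 := d0_2 D186059 F350444 (iv2 F251251) F293464 (iv2 F293647)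
theorem F360352 : act 4 n176674 = n95396 := d1_2 (iv4 F288674) F350444 F350438
theorem F360353 : act 5 n137961 = n182317 := d13_3 F350432 (iv5 D137960) D137961
theorem F360354 : act 0 n98435 = n137961 := d17_2 (iv1 D98433) D98435 F360353 (iv4 D182317) D182318 F335417 (iv5 D89080) (iv0 F295057) (iv4 F295381)
theorem E102583 : n141138 = n46748 := (c21_5 F350422 (iv1 D141136) (iv5 D66200) D66201 D141138 (iv6 D46748) (iv5 D22411) (iv1 F292031) D43527 (iv6 F329201) (iv1 F172961))
theorem E102584 : n100162 = n66201 := ((D100162).symm.trans (sb E102583 (iv0 D141138)))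
theorem F360355 : act 0 n66201 = n46748 := (sb E102584 (iv1 D100162))
theorem F360356 : act 7 n141139 = n98623 := d15_2 (iv0 F360355) D141139 F152019
theorem F360357 : act 2 n141141 = n100161 := d15_3 (iv0 D100161) (iv0 F360355) D141141
theorem F360358 : act 3 n100161 = n141195 := d0_2 (iv3 F224110) F360357 F224212 F101829 (iv2 F101807)
theorem F360359 : act 7 n100161 = n141134 := d4_2 D141141 F360357 F224106
theorem F360360 : act 1 n141141 = n98623 := d15_0 (iv0 F357511) (iv7 F360359) (iv2 F360357)
theorem F360361 : act 2 n141139 = n100163 := d15_3 F357513 F360360 (iv7 F360356)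
theorem F360362 : act 1 n141139 = n100161 := d15_0 (iv0 D100161) D100163 (iv2 F360361)
theorem F360363 : act 5 n144864 = n100161 := d6_0 F360358 F320816 D144864
theorem F360364 : act 1 n89073 = n113506 := d17_8 (iv1 F161564) (iv5 F345753) (iv1 D107169) D107171 (iv4 F227809) F360363 (iv0 D100161) (iv5 F136773) (iv4 D113506)
theorem F360365 : act 1 n113506 = n98624 := d15_1 F360364 (iv7 D98624) (iv2 F136772)
theorem F360366 : act 1 n98624 = n105330 := d15_1 F360365 (iv7 F161521) (iv2 F176689)
theorem F360367 : act 5 n98624 = n141139 := d18_9 (iv1 D141139) (iv4 F164716) F350423 F154230 (iv5 F136891) (iv4 F352451) F161564 D113506 F360365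
theorem F360368 : act 6 n100184 = n141139 := d14_5 F360356 F152020 F73301 D46755 D100184
theorem E102585 : n137244 = n136789 := ((c3_3 (iv6 F332955) F350338 D136789 F338264)).symm
theorem F360369 : act 0 n136789 = n138607 := (sb E102585 F338263)
theorem F360370 : act 1 n136789 = n64504 := (sb E102585 (iv0 D137244))
theorem F360371 : act 2 n136789 = n141172 := (sb E102585 F338264)
theorem F360372 : act 5 n136789 = n67398 := (sb E102585 F338265)
theorem F360373 : act 7 n136789 = n141173 := (sb E102585 F338266)
theorem F360374 : act 7 n137245 = n141172 := d15_2 F360370 D137245 (iv2 F360371)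
theorem F360375 : act 2 n141173 = n137245 := d4_3 F360374 (iv2 F360371) F360373
theorem F360376 : act 5 n139390 = n137245 := d13_3 F360374 F224194 (iv7 F222600)
theorem F360377 : act 1 n137245 = n138607 := d17_6 (iv1 F168225) F39081 D51288 (iv5 F101142) (iv4 F222599) F360376 (iv5 D138607) F111880 (iv4 D31325)
theorem E102586 : n139432 = n115934 := (c11_3 F350337 (iv4 D139439) F222634 (iv4 F220009))
theorem F360378 : act 2 n115934 = n65441 := (sb E102586 (iv2 D139432))
theorem F360379 : act 7 n115934 = n65442 := (sb E102586 (iv7 F222634))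
theorem E102587 : n139437 = n115933 := (c15_4 (iv0 D115933) D115934 F360379 (iv2 F222636))
theorem F360380 : act 2 n115933 = n65442 := (sb E102587 F222636)
theorem F360381 : act 7 n115933 = n65441 := (sb E102587 (iv7 D139437))
theorem F360382 : act 2 n139434 = n136786 := d1_3 F220009 F360378 D139434
theorem F360383 : act 7 n136200 = n129092 := d11_2 F350315 D136200 (iv4 F326054)
theorem F360384 : act 3 n105665 = n136200 := d8_3 F360383 F207324 (iv7 F162262)
theorem F360385 : act 6 n127079 = n136200 := d14_5 F360383 (iv6 D129092) F103556 (iv6 F171715) (iv7 F204319)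
theorem F360386 : act 1 n126264 = n107217 := d15_1 (iv0 F350307) F211670 F211668
theorem F360387 : act 2 n128906 = n126264 := d15_3 F360386 F211456 F211454
theorem F360388 : act 6 n126264 = n125646 := d3_2 D128906 F360387 F202098
theorem F360389 : act 3 n125646 = n126266 := d7_1 F360388 (iv6 D126266) D126264
theorem F360390 : act 4 n126266 = n125838 := d5_2 D125646 F360389 F202337 (iv4 F327657) (iv3 F168040)
theorem F360391 : act 7 n126266 = n128907 := d8_2 (iv7 F202099) F360389 (iv3 D128907)
theorem F360392 : act 0 n128635 = n126266 := d20_4 F204725 (iv1 F94255) D113691 (iv3 F342946) (iv3 F360389) (iv4 D125646) F93009 (iv4 F95227) (iv3 F332859) (iv1 F332806)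
theorem F360393 : act 7 n132004 = n125838 := d11_2 F360391 (iv4 F211504) (iv4 F360390)
theorem F360394 : act 5 n125839 = n132004 := d13_3 F360393 (iv5 D125838) D125839
theorem F360395 : act 6 n125838 = n126265 := d10_2 D126266 F360390 (iv4 D126265)
theorem F360396 : act 3 n126265 = n125842 := d7_1 F360395 F202339 (iv3 F202337)
theorem F360397 : act 5 n126265 = n125835 := d12_1 F360395 (iv6 D125835) (iv5 D58925) D58926 D125838
theorem F360398 : act 4 n125835 = n112443 := d16_2 D126265 F360397 (iv5 D112443) (iv4 D51874) D51875 F170925 (iv5 F170924) (iv7 F170976) (iv2 F170988)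
theorem F360399 : act 2 n125855 = n125835 := d1_3 F360398 F174932 D125855
theorem F360400 : act 6 n112443 = n125614 := d10_2 D125835 F360398 F202066
theorem F360401 : act 7 n125867 = n125835 := d11_0 F360398 F174933 D125867
theorem F360402 : act 3 n125843 = n125867 := d8_3 F360401 F202336 D125843
theorem F360403 : act 2 n125614 = n125856 := d3_1 F360400 (iv6 D125856) (iv2 F174932)
theorem E102588 : n166628 = n125615 := ((c12_3 F360400 (iv5 D125614) D125615 (iv5 D166628) F325279 D112443)).symm
theorem F360404 : act 0 n125615 = n145449 := (sb E102588 F331167)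
theorem F360405 : act 1 n125615 = n176998 := (sb E102588 (iv0 F360021))
theorem F360406 : act 2 n125615 = n125860 := (sb E102588 (iv2 F360023))
theorem F360407 : act 5 n125615 = n79972 := (sb E102588 (iv5 D166628))
theorem F360408 : act 7 n125615 = n177345 := (sb E102588 F360024)
theorem F360409 : act 0 n125879 = n125626 := d21_4 (iv5 D109402) F325168 (iv5 F325719) D125879 (iv6 D125626) (iv5 D58818) D58815 D125614 (iv6 F360400) F174934
theorem F360410 : act 6 n125860 = n125531 := d3_2 D125615 F360406 F203764
theorem F360411 : act 5 n125531 = n125856 := d12_1 F360410 (iv6 D125856) (iv5 D58936) D58937 D125860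
theorem F360412 : act 6 n178289 = n177396 := d21_9 (iv5 D84517) F326456 D125860 F360410 (iv1 D125531) D125534 (iv5 F356071) (iv1 D178288) D178289 (iv1 D177396)
theorem F360413 : act 0 n113588 = n125534 := d21_10 (iv5 F356071) (iv1 D178288) D178289 F360412 (iv1 D177396) (iv6 F331156) D113425 (iv1 F203748) (iv5 D113587) D113588
theorem F360414 : act 7 n125856 = n125619 := d13_2 (iv7 F203765) F360411 (iv5 D125619)
theorem F360415 : act 4 n125856 = n125831 := d16_6 F79664 D50295 D108935 (iv5 F172885) F201904 F360411 (iv5 D125831) (iv7 F168913) (iv2 D108906)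
theorem F360416 : act 6 n125831 = n125855 := d10_2 D125856 F360415 (iv4 D125855)
theorem F360417 : act 0 n111654 = n125614 := d21_1 D111654 (iv5 D125614) D125615 F360404 (iv6 F358259) (iv5 F358256) F347586 (iv5 F207157) F343547 (iv1 D111653)
theorem F360418 : act 4 n125720 = n108907 := d20_8 (iv4 F92968) F92969 (iv4 F92918) (iv3 F173219) F360417 (iv3 F202217) (iv4 D125722) D125720 F168917 (iv1 F82076)
theorem F360419 : act 1 n111654 = n125619 := d15_1 (iv0 F360417) (iv7 F360414) (iv2 F360403)
theorem F360420 : act 1 n125718 = n125614 := d15_0 (iv0 F360417) F173220 (iv2 F202215)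
theorem F360421 : act 7 n125614 = n125720 := d11_0 F360418 F168918 (iv4 F202066)
theorem F360422 : act 2 n125619 = n125720 := d16_9 F360418 (iv5 D108907) F79664 D50295 D108935 (iv5 F172885) F201904 F360411 F360414
theorem F360423 : act 5 n125530 = n125720 := d19_1 D125530 F360418 F168917 (iv1 F82076) (iv5 D51967) (iv4 D25216) (iv3 D11966) (iv1 D5639) (iv5 D2344) (iv4 D1117) F10004 (iv1 F1443) F1421 (iv4 F2330) (iv3 F4258) (iv1 F9850) D13330 D27944 D58771
theorem E102589 : n125856 = n125721 := ((c15_2 (iv0 D125720) D125721 F360414 F360422)).symm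
theorem F360424 : act 2 n125721 = n125614 := (sb E102589 (iv2 F360403))
theorem F360425 : act 4 n125721 = n125831 := (sb E102589 F360415)
theorem F360426 : act 5 n125721 = n125531 := (sb E102589 (iv5 F360411))
theorem F360427 : act 6 n125721 = n58936 := (sb E102589 (iv6 D125856))
theorem F360428 : act 7 n125721 = n125619 := (sb E102589 F360414)
theorem F360429 : act 1 n125619 = n125718 := d15_0 F360420 F360421 (iv2 F360422)
theorem E102590 : n127365 = n125620 := ((c21_4 D125718 (iv1 F360429) (iv5 D125619) D125620 (iv1 D127365) (iv6 D59824) D59823 D127360 (iv5 F204616) F343545 (iv1 F173216))).symm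
theorem F360430 : act 0 n125620 = n59824 := (sb E102590 (iv1 D127365))
theorem F360431 : act 5 n125723 = n108694 := d21_6 (iv5 D28015) D28012 D58936 (iv6 F360427) (iv1 D125721) D125723 (iv1 F202151) (iv5 F356041) (iv6 D125882) (iv1 D58945)
theorem F360432 : act 6 n125623 = n125890 := d21_3 (iv5 D58868) D58865 (iv5 F355946) (iv1 D125890) (iv6 D58947) (iv5 D28015) D28012 D58936 (iv6 F360427) (iv1 D125721)
theorem F360433 : act 4 n125890 = n125874 := d10_1 F360432 F356043 (iv4 F355945)
theorem F360434 : act 2 n125881 = n125890 := d1_3 F360433 (iv2 F202371) D125881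
theorem F360435 : act 7 n125878 = n125890 := d11_0 F360433 F202369 D125878
theorem F360436 : act 5 n126257 = n125890 := d16_1 D126257 F360433 F202370 F325554 F324436 F170120 D59185 (iv7 F349570) F349568
theorem E102591 : n126273 = n126265 := ((c17_6 (iv1 D125874) (iv5 D58943) F81915 D112443 (iv4 F360398) (iv5 F360397) (iv0 D126273) F93395 D125890 F360433)).symm
theorem F360437 : act 1 n126265 = n59195 := (sb E102591 (iv0 D126273))
theorem E102592 : n126038 = n125887 := (c18_5 (iv1 F170419) F324004 (iv1 F323934) F169775 D126038 F202380 D125890 F360433 F202368 F93152)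
theorem F360438 : act 5 n125887 = n59055 := (sb E102592 (iv5 D126038))
theorem F360439 : act 6 n126380 = n125886 := d12_4 D125887 F360438 (iv6 F326413) D126380 (iv5 D125886)
theorem F360440 : act 5 n112339 = n126272 := d16_1 D112339 F203033 F93395 (iv4 F202380) F360438 (iv4 F169775) F323935 (iv7 F323074) (iv2 F105373)
theorem F360441 : act 0 n180038 = n125887 := d17_2 F299412 D180038 F360438 (iv4 F169775) F323935 (iv0 F323069) (iv5 F324436) (iv0 D78316) (iv4 F119524)
theorem F360442 : act 1 n185561 = n125887 := d17_6 (iv1 D13386) D13388 D28072 (iv5 F324417) (iv4 F135383) D185561 F360438 F93243 (iv4 D28066)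
theorem F360443 : act 4 n180038 = n125884 := d17_9 (iv1 D125884) D125886 F359712 (iv5 F359711) (iv4 D126046) (iv5 D59057) D59055 (iv5 F360438) (iv0 F360441)
theorem F360444 : act 7 n180038 = n126424 := d15_2 F360442 (iv0 F360441) F325538
theorem F360445 : act 4 n125889 = n125873 := d18_3 F360441 F202380 D125889 F326398 F133011 D86724 (iv4 F299410) F280421 D180038
theorem F360446 : act 2 n125878 = n125889 := d1_3 F360445 (iv2 F202366) D125878
theorem F360447 : act 5 n126247 = n125889 := d9_0 F360445 F326398 F133011 F61202 (iv4 F324474) D59189 D126257 F360436 F360433 F202370 F325554 F324436 F170120 D59185 D126247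
theorem F360448 : act 7 n125881 = n125889 := d11_0 F360445 (iv7 F202367) D125881
theorem F360449 : act 1 n125878 = n125876 := d15_0 (iv0 F349597) F360448 (iv2 F360446)
theorem E102593 : n126274 = n126268 := (c17_9 (iv1 D59193) (iv5 D28112) D28109 D59185 D126247 F360447 (iv0 D125889) (iv5 F93395) D126274 (iv4 D126268))
theorem F360450 : act 0 n126268 = n59195 := (sb E102593 (iv1 D126274))
theorem F360451 : act 2 n126272 = n126380 := d2_1 F360440 (iv5 D126380) (iv2 F174753)
theorem F360452 : act 7 n126272 = n126378 := d13_2 (iv7 F174754) F360440 (iv5 D126378)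
theorem F360453 : act 0 n126272 = n104973 := d17_2 (iv1 F174755) F360440 (iv5 D104973) F76350 F321455 F45328 F45326 F45338 D59097
theorem F360454 : act 1 n126272 = n126055 := d17_6 F323043 (iv5 D51875) (iv1 F169981) F81885 D112339 F360440 (iv5 D126055) (iv0 F324450) F201650
theorem F360455 : act 4 n126378 = n126275 := d11_1 F360452 (iv7 D126275) (iv4 F203033)
theorem F360456 : act 4 n126380 = n126263 := d1_2 (iv4 F203033) F360451 F203030
theorem F360457 : act 0 n96342 = n166326 := d21_7 (iv5 D59309) (iv1 F93517) D126380 F360439 F359712 (iv6 D182512) (iv5 F148281) (iv5 F358301) (iv6 F358302) (iv1 F203218)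
theorem F360458 : act 1 n157754 = n166326 := d15_0 (iv0 F360457) F148282 D157754
theorem E102594 : n125833 = n125723 := (c21_5 (iv5 F93395) (iv1 F360437) F360397 (iv6 D125835) D125833 (iv6 D125723) (iv5 D58868) D58865 (iv5 F355946) F360432 (iv1 D125890))
theorem F360459 : act 1 n125723 = n58925 := (sb E102594 (iv0 D125833))
theorem E102595 : n125840 = n106477 := (c20_8 (iv4 F93097) (iv1 D58871) (iv4 F45274) (iv3 F93139) (iv1 F360459) F202219 (iv4 F93141) D125840 (iv4 F349576) F201933 (iv1 F92987))
theorem F360460 : act 1 n106477 = n58927 := (sb E102595 (iv0 D125840))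
theorem F360461 : act 7 n125841 = n106678 := d15_2 F360460 D125841 F164365
theorem E102596 : n132137 = n125903 := (c21_8 F45283 (iv1 F45178) D28010 D58927 (iv1 F360460) (iv6 F211661) (iv5 D132139) D132137 (iv5 D125903) (iv6 D58951) (iv1 F45285))
theorem F360462 : act 1 n125903 = n61991 := (sb E102596 (iv0 D132137))
theorem F360463 : act 6 n131907 = n125918 := d21_3 (iv5 D106477) F96479 D131907 (iv1 D125918) (iv6 D58955) F45283 (iv1 F45178) D28010 D58927 (iv1 F360460)
theorem F360464 : act 2 n125773 = n125841 := d4_3 F360461 F164365 (iv7 F349562)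
theorem F360465 : act 5 n106679 = n125841 := d13_3 F360461 (iv5 D106678) D106679
theorem F360466 : act 4 n125841 = n125769 := d9_1 F360465 (iv5 D125769) (iv4 F202253) F344595 F95710 F46622 (iv4 F77693) D106477 (iv4 F349576) (iv5 D125541) (iv4 F99649) (iv5 F344601) F182962 F97597 (iv4 F164367)
theorem F360467 : act 4 n125842 = n106609 := d17_4 (iv1 F164370) F360465 (iv1 D125841) D125842 F164202 F96491 F85069 F77810 D61893
theorem E102597 : n131904 = n125732 := ((c18_3 (iv1 D125841) F93141 D125732 (iv4 D131904) (iv5 D61891) F46978 D29326 D61895 F164369 F360465)).symm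
theorem F360468 : act 4 n125732 = n61891 := (sb E102597 (iv4 D131904))
theorem F360469 : act 2 n132003 = n125842 := d1_3 F360467 F164200 (iv4 F211501)
theorem F360470 : act 4 n125659 = n125734 := d16_2 (iv4 F209109) F349543 (iv5 D125734) (iv4 F93141) D125842 F360467 F164202 (iv7 F163860) (iv2 F163858)
theorem F360471 : act 1 n132156 = n125842 := d18_6 (iv1 F80764) (iv4 F172135) (iv1 F172136) (iv4 F162252) (iv5 F164601) (iv4 F211676) F360467 (iv0 F164203) (iv5 D105665)
theorem E102598 : n113552 = n106278 := (c20_1 D113552 (iv1 D106278) F77535 (iv3 F93394) (iv1 F360437) F360396 F360467 F164201 (iv4 F211706) (iv3 F342883) (iv1 F161221))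
theorem F360472 : act 4 n106278 = n52405 := (sb E102598 (iv4 D113552))
theorem F360473 : act 5 n125682 = n132156 := d17_5 F349584 F349538 (iv1 D58851) D58853 D125682 F360471 (iv5 D125842) D125841 F360466
theorem F360474 : act 1 n128692 = n125682 := d17_6 F164201 F96592 (iv1 D48848) (iv5 F46378) (iv4 F95144) D128692 F360473 F360471 F360467
theorem F360475 : act 6 n125742 = n125659 := d10_0 F360470 F202230 D125742
theorem F360476 : act 3 n108694 = n125734 := d20_5 F45221 (iv1 D24474) D24475 D50186 D108694 (iv4 F360470) (iv1 D125659) F93036 (iv3 D27982) (iv1 F45220)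
theorem F360477 : act 6 n125726 = n108694 := d7_0 F360476 F202230 (iv3 F202220)
theorem E102599 : n125725 = n113349 := ((c21_1 D113349 (iv1 D125725) D125726 F360477 (iv1 F202151) (iv6 F356039) F282298 (iv1 F298917) D177347 F345928 (iv1 D113348))).symm
theorem F360478 : act 0 n113349 = n58869 := (sb E102599 (iv1 D125725))
theorem F360479 : act 5 n113212 = n132003 := d2_0 F360469 (iv5 D125842) (iv2 F176386)
theorem F360480 : act 0 n125773 = n113212 := d17_2 F163855 F349561 F360479 F211501 (iv5 F168048) F168046 F96495 F77804 D106577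
theorem F360481 : act 1 n106678 = n113212 := d17_6 F164583 F164582 (iv1 D62588) F47512 (iv4 F77901) D106678 F360479 (iv0 F224304) (iv4 D141285)
theorem F360482 : act 1 n125773 = n125843 := d15_1 (iv0 F360480) (iv7 D125843) (iv2 F176386)
theorem F360483 : act 1 n125843 = n106678 := d15_1 F360482 (iv7 F360461) (iv2 F360464)
theorem F360484 : act 1 n125891 = n125878 := d15_1 F349598 F360435 (iv2 F360434)
theorem F360485 : act 2 n134444 = n105332 := d3_1 F350303 (iv6 D105332) (iv2 F161510)
theorem F360486 : act 4 n138097 = n115438 := d20_8 (iv4 F217288) (iv1 F350274) (iv4 F350302) (iv3 D113825) D113823 F336164 F336169 F233572 F179747 F101814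
theorem F360487 : act 6 n137319 = n138097 := d10_0 F360486 F179748 D137319
theorem F360488 : act 7 n141305 = n138097 := d11_0 F360486 F179749 D141305
theorem F360489 : act 2 n105543 = n105580 := d16_9 F162186 D115438 (iv4 F360486) (iv5 D138097) (iv4 D64888) (iv5 F93921) (iv4 F161959) (iv5 F336181) F336182
theorem F360490 : act 4 n106411 = n105543 := d1_0 F360489 F162186 F163610
theorem F360491 : act 5 n105580 = n105542 := d2_2 D105543 F360489 (iv2 D105542)
theorem F360492 : act 6 n126765 = n105543 := d3_0 F360489 F167197 F203996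
theorem F360493 : act 3 n105546 = n126765 := d7_3 F360492 F162072 D105546
theorem F360494 : act 3 n110994 = n125663 := d5_5 F202139 F360493 F203995 (iv3 F164922) (iv4 F172067)
theorem E102600 : n150043 = n105546 := ((c20_4 F219993 (iv1 F100136) (iv4 F203995) (iv3 F360493) (iv1 D150043) (iv3 D70593) (iv4 D32746) F50557 (iv4 F104151) (iv3 F319661) (iv1 F219996))).symm
theorem F360495 : act 0 n105546 = n70593 := (sb E102600 (iv1 D150043))
theorem F360496 : act 0 n100170 = n125663 := d18_0 F202139 F360495 (iv4 F358507) F358508 (iv4 F159264) (iv0 F157771) F153283 F157757 D100170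
theorem F360497 : act 1 n103207 = n125663 := d15_0 (iv0 F360496) F154118 (iv2 F158456)
theorem F360498 : act 7 n125663 = n103209 := d8_2 F295856 F360494 (iv3 F349230)
theorem F360499 : act 7 n105542 = n141303 := d13_2 F162187 F360491 (iv5 D141303)
theorem F360500 : act 2 n141303 = n105499 := d16_9 F161959 F93921 D64888 D138097 F360486 (iv5 D115438) (iv4 F162186) F360491 F360499
theorem F360501 : act 3 n105561 = n141303 := d0_0 F360500 (iv3 D105499) F76803 D48806 D105561
theorem F360502 : act 4 n126783 = n141303 := d1_0 F360500 F161959 D126783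
theorem F360503 : act 1 n136896 = n105542 := d15_1 (iv0 F220069) F360499 F360500
theorem F360504 : act 1 n141303 = n105540 := d15_0 (iv0 D105540) (iv7 F161960) (iv2 F360500)
theorem F360505 : act 5 n132429 = n136896 := d17_5 D48816 D105585 F203580 F203577 D132429 F360503 (iv5 F360491) (iv0 D105580) F76896
theorem F360506 : act 0 n137791 = n132429 := d17_0 F360505 F220069 (iv5 F336181) (iv4 F163645) D115439 (iv0 F217254) F217253 F217151 (iv4 F347231)
theorem F360507 : act 1 n137791 = n132426 := d15_1 (iv0 F360506) (iv7 F347235) F347233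
theorem F360508 : act 7 n137791 = n108055 := d15_2 F342912 (iv0 F360506) (iv2 F342913)
theorem F360509 : act 5 n141305 = n136216 := d16_5 F360502 (iv5 D141303) (iv4 D66286) D66287 D141305 (iv4 D136216) (iv5 F162008) F162009 D126783
theorem E102601 : n136213 = n136093 := ((c17_2 D64002 D136093 (iv1 F219234) (iv5 F204037) F360502 (iv5 D141303) (iv0 F162189) F344611 (iv0 D105573) F76894)).symm
theorem F360510 : act 0 n136093 = n64887 := (sb E102601 (iv1 F219234))
theorem F360511 : act 1 n136093 = n64042 := (sb E102601 (iv0 D136213))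
theorem E102602 : n136214 = n136097 := (c15_2 F360511 D136214 F219049 (iv2 F219037))
theorem F360512 : act 0 n136097 = n64042 := (sb E102602 (iv1 D136214))
theorem F360513 : act 1 n136097 = n64887 := (sb E102602 F219238)
theorem F360514 : act 0 n136216 = n132215 := d17_0 (iv5 D132215) F161914 D135480 F329380 (iv5 D64761) F99580 D136093 F360511 D136216
theorem F360515 : act 1 n136216 = n132424 := d15_1 (iv0 F360514) F212492 (iv2 F211831)
theorem F360516 : act 1 n138093 = n132215 := d15_0 (iv0 F360514) F219240 (iv2 F221316)
theorem F360517 : act 4 n129450 = n136093 := d18_5 (iv1 F211826) F211828 (iv1 F98744) F98329 D129450 F360511 D136216 F360515 (iv5 D132424)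
theorem F360518 : act 5 n141302 = n105561 := d6_0 F360501 (iv5 D141303) D141302
theorem F360519 : act 1 n105541 = n141303 := d15_1 D105541 (iv7 F360499) (iv2 D105542)
theorem F360520 : act 0 n126783 = n137820 := d17_0 (iv5 D137820) (iv1 D64768) (iv5 D30463) D30462 D64765 D137805 (iv5 F347236) F360519 (iv4 F360502)
theorem F360521 : act 0 n105543 = n105583 := d17_0 F344611 (iv1 F162171) D137791 F347231 F217149 F98745 F95936 F163615 F360490
theorem F360522 : act 0 n107128 = n105613 := d20_4 F162075 (iv1 F81569) F79775 (iv3 F165110) F162220 (iv4 F77648) D106411 F360490 F162072 D105545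
theorem F360523 : act 1 n141264 = n138019 := d15_0 (iv0 D138019) (iv7 F203840) F350281
theorem E102603 : n138021 = n136225 := ((c21_5 (iv5 F48875) (iv1 F79638) F79636 D64045 D136225 (iv6 F350279) (iv5 D95411) F328552 (iv5 D64780) (iv6 D30466) (iv1 F48872))).symm
theorem F360524 : act 2 n136225 = n64865 := (sb E102603 (iv2 D138021))
theorem F360525 : act 3 n136225 = n135055 := (sb E102603 F350277)
theorem F360526 : act 4 n136225 = n64896 := (sb E102603 F221279)
theorem F360527 : act 5 n136225 = n141146 := (sb E102603 (iv5 F350278))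
theorem F360528 : act 6 n136225 = n95411 := (sb E102603 (iv6 F350279))
theorem F360529 : act 7 n136225 = n141264 := (sb E102603 (iv7 F350280))
theorem E102604 : n136226 = n126673 := ((c15_4 F219258 F219262 F360529 (iv2 F350281))).symm
theorem F360530 : act 0 n126673 = n64045 := (sb E102604 (iv1 D136226))
theorem F360531 : act 1 n126673 = n64893 := (sb E102604 F219258)
theorem F360532 : act 0 n137192 = n126750 := d20_10 F203973 (iv1 F360531) (iv4 D126673) F93808 (iv1 F48657) (iv3 F100053) (iv4 F143109) F161518 (iv4 F220541) (iv3 F345851)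
theorem F360533 : act 0 n126627 = n137192 := d20_1 (iv4 F203709) (iv4 D137192) (iv3 F350285) (iv1 F229693) F229690 (iv4 D137976) (iv1 F100689) (iv4 F100697) (iv3 F203839) F360530
theorem F360534 : act 6 n141148 = n131925 := d10_2 D134044 F350276 F211393
theorem F360535 : act 1 n122697 = n123121 := d15_0 F350264 (iv7 F341420) (iv2 F341421)
theorem F360536 : act 3 n153802 = n160093 := d20_5 (iv4 D123121) (iv1 F90379) (iv4 F90890) (iv3 F198290) (iv1 F241657) (iv4 D160093) (iv1 D76667) (iv4 F114995) (iv3 F191645) (iv1 F350264)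
theorem F360537 : act 0 n179158 = n153642 := d20_4 F224471 D141440 F350256 (iv3 F279110) F348681 (iv4 D75937) F199950 (iv4 F229953) F338222 (iv1 F338221)
theorem F360538 : act 6 n127309 = n117619 := d21_3 D154811 F306699 (iv5 F340084) (iv1 D117619) (iv6 D54183) D54182 D117614 (iv5 F222933) F350250 (iv1 D154810)
theorem F360539 : act 4 n117619 = n127311 := d10_1 F360538 (iv6 D127311) D127309
theorem F360540 : act 3 n140785 = n137900 := d8_3 (iv7 F334139) F350224 (iv7 F339617)
theorem F360541 : act 6 n131305 = n106316 := d7_2 D106319 F350219 (iv3 D106316)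
theorem E102605 : n151385 = n106316 := (c21_5 (iv5 D34821) F27633 D33017 D71357 D151385 (iv6 F360541) (iv5 D131305) D131302 F334828 (iv6 D71907) (iv1 F55046))
theorem F360542 : act 1 n106316 = n71357 := (sb E102605 (iv0 D151385))
theorem F360543 : act 4 n138622 = n117913 := d18_3 (iv1 D65121) (iv4 F100875) D138622 F227744 F313057 F360542 (iv4 F320865) F355713 F355715
theorem F360544 : act 6 n167923 = n138622 := d10_0 F360543 F333250 F348329
theorem F360545 : act 7 n148650 = n138622 := d11_0 F360543 (iv7 F200099) D148650
theorem F360546 : act 1 n155673 = n138622 := d18_6 F326377 D117905 F339598 (iv4 F359200) F359201 (iv4 F244707) F360543 F233152 (iv5 F232250)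
theorem E102606 : n179123 = n108506 := (c20_4 D179277 F350210 F350209 D179123 (iv1 D108506) (iv3 D50101) (iv4 D24434) D24432 F38599 D49756 F323266)
theorem F360547 : act 3 n108506 = n85471 := (sb E102606 (iv3 D179123))
theorem F360548 : act 5 n108506 = n147292 := (sb E102606 (iv5 F350206))
theorem E102607 : n179119 = n103227 := (c15_2 (iv0 F350210) (iv0 F279192) (iv7 D103227) (iv2 F139651))
theorem F360549 : act 0 n103227 = n179277 := (sb E102607 F279192)
theorem E102608 : n113115 = n113105 := ((((iv3 F355246)).symm.trans (sb E102607 F354247))).symm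
theorem F360550 : act 4 n103227 = n85470 := (sb E102607 (iv4 D179119))
theorem F360551 : act 0 n113105 = n52211 := (sb E102608 (iv1 F176230))
theorem F360552 : act 1 n113105 = n52209 := (sb E102608 (iv0 D113115))
theorem E102609 : n113116 = n113110 := (c15_2 F360552 D113116 (iv7 D113110) D113105)
theorem F360553 : act 0 n113110 = n52209 := (sb E102609 (iv1 D113116))
theorem F360554 : act 1 n113110 = n52211 := (sb E102609 F176231)
theorem F360555 : act 3 n113110 = n134854 := (sb E102609 (iv3 F217041))
theorem F360556 : act 7 n134854 = n113106 := d8_2 D113110 F360555 (iv3 D113106)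
theorem E102610 : n134857 = n134847 := (c11_2 F360556 (iv4 F217042) (iv7 F217039) D134854)
theorem F360557 : act 0 n134847 = n63379 := (sb E102610 (iv1 F217043))
theorem F360558 : act 1 n134847 = n63377 := (sb E102610 (iv0 D134857))
theorem F360559 : act 4 n134847 = n113106 := (sb E102610 F217042)
theorem F360560 : act 2 n113106 = n134849 := d15_3 (iv0 F222128) (iv0 F343133) F360556
theorem E102611 : n134858 = n134852 := (c15_2 F360558 D134858 (iv7 D134852) D134847)
theorem F360561 : act 0 n134852 = n63377 := (sb E102611 (iv1 D134858))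
theorem F360562 : act 1 n134852 = n63379 := (sb E102611 F217044)
theorem F360563 : act 7 n148501 = n166282 := d14_2 (iv7 F228882) F350193 F261824 F122593 F113915
theorem F360564 : act 1 n96544 = n89825 := d15_0 F350176 F275888 (iv2 F335312)
theorem F360565 : act 1 n89830 = n96544 := d15_0 F360564 (iv7 F343026) (iv2 F343020)
theorem F360566 : act 1 n150855 = n144402 := d15_0 F350166 F330047 (iv2 F330039)
theorem F360567 : act 6 n144402 = n117158 := d21_5 F233886 (iv1 F131568) F229094 (iv6 F322980) (iv1 F350166) F183275 (iv1 F243337) (iv5 F313326) F313327 D148860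
theorem F360568 : act 2 n140796 = n144402 := d3_3 F360567 (iv2 F243149) F355140
theorem F360569 : act 3 n128047 = n139959 := d7_1 F350163 (iv6 D139959) (iv3 F350162)
theorem F360570 : act 2 n139959 = n116842 := d0_1 F360569 (iv3 D116842) F84877 D67446 (iv2 F320344)
theorem F360571 : act 5 n101353 = n157460 := d16_7 F103290 (iv5 F317426) (iv4 F209851) F108936 (iv4 F108925) (iv5 F306617) D101353 (iv7 F350159) F350157
theorem F360572 : act 2 n157616 = n101353 := d2_3 F360571 (iv2 F344008) F359318
theorem F360573 : act 7 n153292 = n101353 := d13_0 F360571 (iv7 F350159) F338944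
theorem F360574 : act 0 n157613 = n101353 := d17_0 F360571 (iv1 F344009) (iv5 F338938) (iv4 D157636) (iv5 D75062) F112575 (iv5 F240870) F310132 (iv4 F310133)
theorem F360575 : act 1 n154692 = n101353 := d17_6 (iv1 F209849) (iv5 F166664) (iv1 F209850) F108816 (iv4 F110059) D154692 F360571 F344007 F338949
theorem F360576 : act 0 n147919 = n166063 := d21_4 D71164 (iv1 F231708) (iv5 D147918) D147919 (iv6 F359317) (iv5 F360571) (iv1 F360575) (iv5 D154692) (iv6 D73359) F54116
theorem F360577 : act 1 n147919 = n166060 := d15_1 (iv0 F360576) (iv7 F350085) (iv2 F350084)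
theorem F360578 : act 1 n96670 = n166063 := d15_0 (iv0 F360576) F308558 (iv2 F148981)
theorem F360579 : act 1 n166060 = n96670 := d15_0 F360578 F350083 (iv2 F350082)
theorem F360580 : act 0 n147916 = n143546 := d20_4 D166060 (iv1 F360577) F231710 (iv3 F231703) F226252 (iv4 F226255) F342553 (iv4 D166054) F122419 D79727
theorem F360581 : act 5 n143546 = n170091 := d21_8 F310259 (iv1 F310254) F210580 (iv6 D61677) F310648 (iv6 F125277) (iv5 F308556) F360580 (iv6 D170091) F312409
theorem F360582 : act 1 n169816 = n143546 := d15_0 (iv0 F360580) F308557 (iv2 F267250)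
theorem F360583 : act 0 n128045 = n163186 := d18_2 (iv1 D128047) (iv4 F206052) F257475 (iv5 F129626) (iv4 F310911) F310909 F324798 D142055 F350150
theorem F360584 : act 3 n157611 = n128045 := d20_3 (iv4 D101353) F306615 D157611 F360583 (iv3 D163186) (iv4 D78438) D78436 D163176 F342322 F360574
theorem F360585 : act 6 n128040 = n157611 := d7_0 F360584 (iv6 D128045) (iv3 F206039)
theorem F360586 : act 7 n157611 = n101232 := d14_2 D128040 F360585 F155946 D101255 F352713
theorem F360587 : act 5 n140592 = n162045 := d6_0 F350128 (iv5 D140594) D140592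
theorem F360588 : act 6 n153512 = n162045 := d7_0 F350128 F342435 D153512
theorem F360589 : act 7 n140925 = n162045 := d8_0 F350128 F342436 D140925
theorem F360590 : act 4 n147880 = n140777 := d18_5 F350111 F229918 F334037 (iv4 F192422) F306848 (iv0 D140777) F101729 D66063 D140796
theorem F360591 : act 6 n140777 = n154698 := d10_2 F231664 F360590 (iv4 D154698)
theorem F360592 : act 1 n101297 = n138515 := d15_0 F350099 F310917 (iv2 F310903)
theorem F360593 : act 4 n138515 = n101332 := d20_0 (iv1 D101332) (iv4 F308438) (iv3 F130177) (iv1 F130235) (iv3 F200213) F308998 (iv1 F97829) (iv4 F311137) (iv3 F185580) (iv1 F350099)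
theorem F360594 : act 7 n181402 = n138515 := d11_0 F360593 F156463 (iv4 F282518)
theorem F360595 : act 4 n184055 = n142816 := d16_6 (iv4 F350097) F339622 F360593 (iv5 F308304) (iv4 F338046) (iv5 F286004) (iv5 D142816) (iv7 F353395) F353394
theorem F360596 : act 3 n149074 = n138515 := d20_5 (iv4 F130467) (iv1 F278303) (iv4 F274030) F274029 F280170 F360593 (iv1 D101332) (iv4 F308438) (iv3 F130177) (iv1 F130235)
theorem F360597 : act 6 n142816 = n184054 := d10_2 D184055 F360595 (iv4 D184054)
theorem E102612 : n153693 = n140582 := ((c17_3 F348357 F342502 D140582 (iv5 D153693) D153692 F306652 F360592 (iv5 F339622) (iv0 D127210) (iv4 F204484))).symm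
theorem F360598 : act 5 n140582 = n72719 := (sb E102612 (iv5 D153693))
theorem E102613 : n153694 = n145478 := (c21_4 F342502 D140582 F360598 D153694 (iv1 D145478) (iv6 D68216) D68215 (iv1 F204482) (iv5 D127205) D127206 F348357)
theorem F360599 : act 6 n145478 = n72719 := (sb E102613 (iv6 D153694))
theorem F360600 : act 0 n108643 = n90670 := d20_7 F339935 (iv1 D92964) D92965 F339940 (iv1 F350047) F220866 F216743 F335538 F165064 D107097
theorem F360601 : act 3 n117439 = n147626 := d0_0 F350037 F329320 F85278 D54120 D117439
theorem F360602 : act 1 n147626 = n117461 := d15_0 (iv0 D117461) (iv7 F329322) (iv2 F350037)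
theorem F360603 : act 6 n182962 = n117439 := d7_0 F360601 F350039 D182962
theorem F360604 : act 2 n117441 = n182962 := d3_3 F360603 (iv2 D117439) D117441
theorem F360605 : act 5 n102534 = n117441 := d2_0 F360604 F284556 F157493
theorem F360606 : act 7 n158959 = n117441 := d15_2 (iv0 F284557) (iv0 F347303) F360604
theorem F360607 : act 7 n96420 = n182962 := d4_0 (iv2 F360604) (iv7 F360606) F347305
theorem F360608 : act 6 n117442 = n146918 := d14_3 F360606 (iv6 D117441) D117442 (iv7 F230315) D158959
theorem F360609 : act 2 n158962 = n117442 := d3_3 F360608 (iv2 F230303) D158962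
theorem F360610 : act 3 n146918 = n117451 := d7_1 F360608 (iv6 D117451) (iv3 F183944)
theorem F360611 : act 6 n144895 = n146036 := d10_2 F360608 F230302 F229274
theorem F360612 : act 5 n117702 = n136106 := d21_0 (iv1 D136106) (iv5 F329158) F360608 (iv1 D146918) (iv6 D68871) D68870 (iv1 F230287) F230289 F349455 F349456
theorem F360613 : act 5 n146036 = n156515 := d17_5 F349456 F360612 (iv1 D136106) (iv5 F329158) (iv4 F229274) (iv0 F349451) (iv5 D145056) (iv0 F243209) (iv4 F349452)
theorem F360614 : act 2 n117465 = n158960 := d0_3 F360610 F183952 (iv3 F183978) (iv3 D158960) F230303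
theorem F360615 : act 5 n158960 = n96491 := d2_2 (iv5 F329082) F360614 F329740
theorem F360616 : act 6 n158960 = n117463 := d3_2 D117465 F360614 (iv2 D117463)
theorem F360617 : act 7 n158960 = n96425 := d4_2 (iv7 F339703) F360614 F148446
theorem F360618 : act 1 n176475 = n158960 := d15_1 F348455 F360617 F148446
theorem F360619 : act 1 n158960 = n173698 := d15_1 F360618 F272237 (iv2 F275777)
theorem F360620 : act 1 n173698 = n95394 := d15_1 F360619 (iv7 F339703) F360614
theorem F360621 : act 3 n117463 = n158962 := d7_1 F360616 (iv6 D158962) D158960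
theorem F360622 : act 5 n158962 = n136100 := d6_2 (iv5 F329159) F360621 F219057
theorem F360623 : act 7 n158962 = n117439 := d8_2 (iv7 F350044) F360621 F360601
theorem F360624 : act 0 n117437 = n158962 := d20_4 D102044 F329859 F352824 (iv3 F359451) (iv3 F360621) (iv4 F316680) F316676 F355150 (iv3 F355151) (iv1 D102043)
theorem F360625 : act 1 n117438 = n158962 := d15_0 (iv0 F360624) (iv7 F359452) (iv2 F359457)
theorem F360626 : act 6 n96420 = n146917 := d14_3 F360623 (iv6 F360603) (iv7 F360607) F230313 D158962
theorem F360627 : act 6 n136099 = n158961 := d12_4 D158962 F360622 (iv6 D136100) D136099 (iv5 D158961)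
theorem F360628 : act 2 n158961 = n136104 := d3_1 F360627 (iv6 D136104) (iv2 F219051)
theorem F360629 : act 3 n158961 = n96491 := d7_1 F360627 F329741 (iv3 F219052)
theorem F360630 : act 7 n158961 = n96482 := d14_2 (iv7 F219053) F360627 (iv6 D96482) (iv7 F133788) (iv6 F329580)
theorem F360631 : act 4 n130290 = n158961 := d11_3 F360630 F347315 (iv7 F208826)
theorem F360632 : act 0 n117441 = n88923 := d17_2 F293549 F360605 (iv5 D88923) F64059 D44722 D95758 (iv5 F160319) F161650 (iv4 F293552)
theorem F360633 : act 1 n117441 = n183388 := d17_8 F345702 (iv5 D151282) F318259 (iv5 F317026) (iv4 F346305) (iv5 D102536) D102534 F360605 F347299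
theorem F360634 : act 1 n183388 = n96420 := d15_1 F360633 F360607 (iv2 F360604)
theorem F360635 : act 1 n96420 = n88923 := d15_1 F360634 (iv7 F157445) (iv2 F285098)
theorem F360636 : act 7 n107286 = n128379 := d15_2 (iv0 D107285) D107286 (iv2 F350033)
theorem F360637 : act 2 n115339 = n115462 := d15_3 F336252 (iv0 F350024) F349434
theorem F360638 : act 4 n115462 = n141534 := d1_2 (iv4 F330607) F360637 (iv2 D141534)
theorem F360639 : act 5 n115462 = n115232 := d2_2 D115339 F360637 F203962
theorem F360640 : act 7 n115462 = n115344 := d4_2 F349434 F360637 (iv2 F349433)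
theorem F360641 : act 1 n115242 = n115344 := d15_1 F330606 (iv7 F360640) (iv2 F360637)
theorem F360642 : act 1 n115344 = n115459 := d15_1 F360641 F336247 (iv2 F336245)
theorem F360643 : act 0 n115345 = n155987 := d21_4 D115459 (iv1 F360642) (iv5 D115344) D115345 (iv6 D155987) (iv5 F110977) (iv1 F110962) (iv5 F110967) (iv6 F336207) (iv1 F179470)
theorem F360644 : act 1 n115345 = n156093 := d15_1 (iv0 F360643) (iv7 D156093) (iv2 F245044)
theorem F360645 : act 7 n95769 = n103172 := d14_4 F350023 (iv6 D97172) (iv7 F319392) D95769 (iv6 F159190)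
theorem F360646 : act 0 n146509 = n143059 := d20_4 F104674 (iv1 F55450) D68680 D146509 (iv3 F340735) F159188 D103751 F350022 F180956 (iv1 F320312)
theorem F360647 : act 2 n146509 = n143061 := d2_1 F350013 F225915 (iv2 F225894)
theorem F360648 : act 6 n146509 = n153870 := d12_2 F340779 F350013 F241769 F233223 D153523
theorem E102614 : n146518 = n145042 := (c17_6 F315235 (iv5 F340738) (iv1 F225897) F350013 F229829 D146518 (iv0 D145042) (iv5 D67993) F316461 D114489)
theorem F360649 : act 3 n145042 = n68683 := (sb E102614 F229838)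
theorem F360650 : act 5 n145042 = n68682 := (sb E102614 (iv5 D146518))
theorem E102615 : n146516 = n141688 := (c18_7 (iv1 F320119) D66431 D141636 F350010 F350013 F229829 D146516 (iv4 D141688) (iv0 F224379) (iv5 D141348))
theorem F360651 : act 0 n141688 = n68682 := (sb E102615 (iv1 D146516))
theorem F360652 : act 3 n141688 = n140740 := (sb E102615 (iv3 F229837))
theorem F360653 : act 3 n133439 = n179992 := d0_4 F360652 (iv2 F225102) F349002 (iv2 F214566) F355397
theorem F360654 : act 0 n117349 = n179992 := d20_4 (iv4 D31940) (iv1 F41513) D54082 D117349 (iv3 F360653) F214567 F339247 (iv4 F183788) (iv3 D117355) (iv1 F85358)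
theorem E102616 : n146517 = n114712 := (c15_4 F338611 (iv0 F360654) F183775 D146517)
theorem F360655 : act 2 n114712 = n68682 := (sb E102616 (iv2 D146517))
theorem F360656 : act 2 n145042 = n157732 := d2_3 (iv5 F325991) F360655 (iv5 F360650)
theorem F360657 : act 2 n117349 = n143060 := d4_3 F349965 F360655 (iv7 F183775)
theorem E102617 : n146515 = n114798 := ((c15_1 F349971 (iv0 D146515) (iv7 F183775) F360657)).symm
theorem F360658 : act 1 n114798 = n68682 := (sb E102617 (iv0 D146515))
theorem E102618 : n145042 = n114638 := (c17_2 F360651 (iv5 F360650) (iv1 D114638) (iv5 D52912) (iv4 F83612) D114625 (iv0 F317973) D141627 F318140 D141688)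
theorem F360659 : act 1 n114638 = n67993 := (sb E102618 (iv0 D145042))
theorem F360660 : act 2 n114638 = n157732 := (sb E102618 F360656)
theorem F360661 : act 3 n114638 = n68683 := (sb E102618 F360649)
theorem F360662 : act 5 n114638 = n68682 := (sb E102618 F360650)
theorem F360663 : act 3 n153870 = n146511 := d7_1 F360648 (iv6 D146511) D146509
theorem F360664 : act 0 n153568 = n139078 := d21_7 D69273 D147837 (iv5 F241769) (iv6 F360648) F360646 F340736 (iv5 F340737) F334983 F232260 (iv1 D69270)
theorem F360665 : act 7 n153568 = n142903 := d15_2 F357844 (iv0 F360664) (iv2 F357852)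
theorem E102619 : n153718 = n153568 := (c8_4 F360665 F225780 (iv7 F322383) D153718)
theorem F360666 : act 3 n153568 = n72728 := (sb E102619 (iv3 D153718))
theorem F360667 : act 0 n170341 = n103689 := d20_10 F317131 (iv1 D146513) (iv4 F229834) (iv3 F360663) (iv1 F241770) F316643 F149014 (iv1 F71654) (iv4 F319120) D170341
theorem F360668 : act 4 n106019 = n170341 := d17_9 F360667 F321843 (iv1 F77293) (iv5 F77135) (iv4 F162522) F318803 F162696 F306066 (iv0 F307922)
theorem F360669 : act 5 n133834 = n170341 := d21_0 F360667 F321843 (iv6 F257174) (iv1 D78344) (iv6 D35707) F306994 D76608 (iv5 F307769) F235732 (iv1 F334076)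
theorem F360670 : act 6 n105769 = n170341 := d21_3 (iv5 F334916) (iv1 F224478) (iv5 F338209) F360667 (iv6 D103689) F75460 (iv1 F70913) (iv5 F307267) D68372 (iv1 F334912)
theorem F360671 : act 1 n170341 = n105955 := d15_1 (iv0 F360667) F162974 F323531
theorem F360672 : act 7 n170341 = n106039 := d15_2 (iv0 F321842) (iv0 F360667) F191328
theorem F360673 : act 2 n106040 = n170341 := d4_3 F360672 F191328 (iv7 F191336)
theorem F360674 : act 1 n146509 = n143058 := d15_0 (iv0 D143058) D143061 (iv2 F360647)
theorem F360675 : act 6 n144825 = n143058 := d21_9 (iv5 F350013) (iv1 F225896) (iv5 F340746) (iv6 D54854) (iv1 F51368) D69682 (iv5 F301922) F306459 F236031 (iv1 F360674)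
theorem F360676 : act 3 n143058 = n144827 := d7_1 F360675 (iv6 D144827) D144825
theorem F360677 : act 2 n143039 = n141636 := d1_3 F350010 F225894 (iv4 F225901)
theorem F360678 : act 6 n179940 = n141636 := d10_0 F350010 (iv6 F340779) (iv4 F280254)
theorem F360679 : act 6 n143039 = n142252 := d3_2 F360678 (iv2 F360677) F323264
theorem F360680 : act 0 n147513 = n116428 := d20_7 (iv4 F162229) (iv1 F349959) F206656 F94953 D60436 F206500 (iv4 F231300) (iv4 D116428) D116427 F340760
theorem F360681 : act 2 n147517 = n116428 := d15_3 (iv0 F360680) (iv0 D147513) D147517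
theorem F360682 : act 7 n116428 = n147338 := d4_2 D147517 F360681 F231013
theorem F360683 : act 1 n147514 = n116428 := d15_1 D147514 F360682 F231013
theorem F360684 : act 4 n147514 = n137897 := d20_2 D116428 (iv1 F360683) F221136 F324685 (iv3 F344492) (iv4 D142496) (iv1 F225353) F225351 (iv3 F320115) F320113
theorem F360685 : act 2 n142698 = n147514 := d1_3 F360684 F221135 (iv4 F225593)
theorem F360686 : act 3 n111108 = n147514 := d5_5 F360684 F221136 F100658 (iv3 F100652) (iv4 F172313)
theorem F360687 : act 6 n111106 = n147514 := d10_0 F360684 (iv6 D137897) (iv4 F172305)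
theorem E102620 : n137421 = n137329 := ((c19_8 F353845 (iv5 D137891) (iv4 F172313) F360686 (iv1 D147514) D147516 (iv4 F357295) F357299 (iv1 D137421) (iv5 F329018) F85468 (iv3 D32144) D32142 D69082 (iv4 F321797) (iv3 F320052) (iv1 D51567) D51569 (iv4 F324387) (iv3 F348479))).symm
theorem F360688 : act 0 n137329 = n64589 := (sb E102620 (iv1 D137421))
theorem E102621 : n107342 = n107219 := ((c20_4 F163641 (iv1 F77661) D49537 D107219 (iv1 D107342) (iv3 F165387) (iv4 F220512) F360688 (iv4 F165218) (iv3 D107202) (iv1 F163644))).symm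
theorem F360689 : act 0 n107219 = n49590 := (sb E102621 (iv1 D107342))
theorem F360690 : act 2 n101380 = n137420 := d15_3 (iv0 D137420) (iv0 F360688) F357301
theorem F360691 : act 6 n137420 = n101375 := d3_2 D101380 F360690 F156171
theorem F360692 : act 2 n111027 = n107341 := d15_3 (iv0 D107341) (iv0 F360689) (iv7 F172185)
theorem F360693 : act 7 n147513 = n142698 := d15_2 F360683 (iv0 F360680) F360685
theorem E102622 : n136905 = n136819 := (c7_1 F349955 (iv3 D136819) F327987 (iv3 F184184))
theorem F360694 : act 0 n136819 = n64355 := (sb E102622 (iv1 D136905))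
theorem F360695 : act 6 n136819 = n117585 := (sb E102622 (iv6 F349955))
theorem E102623 : n127954 = n119205 := (c15_2 F349954 D127954 (iv7 F347731) F347730)
theorem F360696 : act 0 n119205 = n60115 := (sb E102623 (iv1 D127954))
theorem F360697 : act 1 n119205 = n140802 := (sb E102623 (iv0 F318937))
theorem F360698 : act 2 n110383 = n180462 := d16_9 (iv4 D180462) (iv5 F344937) (iv4 F349936) F349949 (iv4 D114273) D114274 (iv4 F349941) (iv5 D111380) (iv7 F170747)
theorem F360699 : act 3 n180462 = n111385 := d0_2 D110383 F360698 (iv2 D111385) (iv3 D51371) (iv2 F80303)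
theorem F360700 : act 7 n180462 = n111379 := d4_2 (iv7 F170747) F360698 (iv2 D111379)
theorem F360701 : act 1 n180462 = n111377 := d15_0 (iv0 D111377) (iv7 F170747) F360698
theorem F360702 : act 1 n111378 = n180462 := d15_1 D111378 F360700 (iv2 D111379)
theorem F360703 : act 1 n101992 = n137386 := d15_0 (iv0 D137386) D137389 (iv2 F349943)
theorem F360704 : act 5 n136384 = n137386 := d21_6 (iv5 F335329) F356188 (iv5 D102152) (iv6 F328529) D64118 D136384 (iv1 F360703) (iv5 D101992) (iv6 D47375) D47372
theorem F360705 : act 6 n137386 = n155500 := d21_3 D117585 F349957 F360704 (iv1 F352388) F352390 F144688 F292341 F347707 (iv6 F178119) F349952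
theorem F360706 : act 3 n155503 = n137386 := d7_3 F360705 (iv3 D155500) D155503
theorem F360707 : act 5 n112703 = n176170 := d2_0 F349934 F346482 F175404
theorem F360708 : act 6 n127157 = n176170 := d3_0 F349934 (iv6 D127158) D127157
theorem F360709 : act 1 n176170 = n110387 := d15_0 (iv0 F345509) (iv7 F349925) (iv2 F349934)
theorem F360710 : act 1 n137378 = n176170 := d15_0 F360709 (iv7 F175485) (iv2 F349929)
theorem F360711 : act 3 n176170 = n113498 := d7_1 F360708 (iv6 F342149) (iv3 F204414)
theorem E102624 : n177673 = n112705 := (c21_11 (iv5 D112705) D112703 F360707 (iv6 F360708) (iv1 F218829) F345846 (iv5 D84602) (iv1 D39072) D39074 D84610 D177673)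
theorem F360712 : act 1 n112705 = n84610 := (sb E102624 (iv0 D177673))
theorem F360713 : act 7 n113498 = n176163 := d8_2 D176170 F360711 F275403
theorem F360714 : act 5 n176163 = n113475 := d13_1 F360713 F176659 D113498
theorem F360715 : act 6 n113475 = n160514 := d12_2 D176163 F360714 (iv5 F342109) (iv6 F303419) F249766
theorem E102625 : n176163 = n175019 := (c21_7 (iv5 D38672) D38670 (iv5 F113427) F333788 (iv1 F334673) (iv6 F360715) (iv5 F360714) (iv1 D175019) F128659 (iv6 D82612) F118928)
theorem F360716 : act 2 n175019 = n113482 := (sb E102625 (iv2 F344755))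
theorem F360717 : act 3 n175019 = n84029 := (sb E102625 F275403)
theorem F360718 : act 5 n175019 = n113475 := (sb E102625 F360714)
theorem F360719 : act 6 n175019 = n84027 := (sb E102625 (iv6 D176163))
theorem F360720 : act 7 n175019 = n113498 := (sb E102625 (iv7 F360713))
theorem F360721 : act 2 n113498 = n175018 := d15_3 (iv0 D175018) D175019 F360720
theorem F360722 : act 7 n113482 = n175018 := d4_2 (iv7 F360720) F360716 (iv2 F360721)
theorem F360723 : act 3 n175018 = n120046 := d8_1 F360722 (iv7 F189611) (iv3 F344751)
theorem F360724 : act 5 n175018 = n113484 := d13_1 F360722 (iv7 D113484) D113482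
theorem F360725 : act 6 n175018 = n106396 := d14_1 F360722 (iv7 F163558) D127215 F347449 (iv6 F344752)
theorem F360726 : act 4 n113239 = n172571 := d17_9 (iv1 D172571) (iv5 F128659) D175018 F360724 F176675 (iv5 F176680) (iv0 F228497) F175387 D113239
theorem F360727 : act 2 n172571 = n124666 := d1_1 F360726 F344706 F176431
theorem F360728 : act 7 n172571 = n125372 := d11_2 F176432 F360726 F355864
theorem F360729 : act 3 n172571 = n112727 := d20_3 F170761 (iv1 F176430) F360726 F324547 (iv3 F324599) F175442 (iv1 F173632) F360145 F360146 (iv1 F175515)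
theorem F360730 : act 6 n124648 = n172571 := d7_0 F360729 F324549 (iv3 F199403)
theorem E102626 : n125374 = n82612 := (c15_1 D125374 D172571 F360728 F201644)
theorem E102627 : n172570 = n58708 := ((D172570).symm.trans (sb E102626 (iv1 D125374)))
theorem F360731 : act 1 n58708 = n82612 := (sb E102627 (iv0 D172570))
theorem F360732 : act 2 n172572 = n125373 := d15_3 (iv0 D125373) F360731 D172572
theorem F360733 : act 5 n124494 = n162805 := d21_0 F322729 (iv5 F303417) (iv6 D162629) (iv1 F301013) D83585 F128659 (iv1 F360731) (iv5 F199126) (iv6 D124497) D124494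
theorem F360734 : act 6 n162805 = n98241 := d21_3 D58101 D124494 F360733 F351711 (iv6 F324070) (iv5 D130130) D130128 (iv5 F336025) (iv6 D124490) (iv1 D58099)
theorem F360735 : act 2 n159201 = n162805 := d3_3 F360734 F345522 (iv6 F342101)
theorem F360736 : act 3 n112736 = n162805 := d7_3 F360734 (iv3 F351708) (iv6 F175501)
theorem F360737 : act 7 n112731 = n162805 := d14_0 F360734 F345523 (iv6 F345516) (iv7 F82228) D112731
theorem F360738 : act 2 n112731 = n162806 := d15_3 F322728 (iv0 F322729) (iv7 F360737)
theorem F360739 : act 7 n162806 = n159201 := d4_2 (iv7 F360737) F360738 F360735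
theorem F360740 : act 6 n125373 = n162799 := d3_2 (iv6 F339186) F360732 (iv2 F339182)
theorem F360741 : act 7 n125373 = n122468 := d4_2 D172572 F360732 F195934
theorem F360742 : act 1 n172571 = n125373 := d15_1 D172571 F360741 F195934
theorem E102628 : n159439 = n137380 := (c10_2 F349931 D159439 (iv6 D137380) D137378)
theorem F360743 : act 4 n137380 = n76266 := (sb E102628 (iv4 D159439))
theorem F360744 : act 4 n160764 = n133969 := d18_5 F349921 (iv4 F344624) (iv1 F220566) (iv4 F220459) F328244 (iv0 D133969) F98178 D107592 (iv5 F346482)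
theorem F360745 : act 6 n133969 = n160763 := d10_2 D160764 F360744 (iv4 D160763)
theorem F360746 : act 3 n160764 = n137318 := d20_3 (iv4 F98178) D133969 (iv4 F360744) (iv1 F325255) (iv3 F169003) F321462 F299642 (iv4 F122253) (iv3 F324592) (iv1 D107592)
theorem F360747 : act 7 n137306 = n160764 := d8_0 F360746 (iv7 D137318) (iv3 F220457)
theorem F360748 : act 7 n133969 = n111494 := d11_2 F360747 F360744 (iv4 F330496)
theorem F360749 : act 2 n111494 = n133970 := d15_3 F215897 F215892 F360748
theorem F360750 : act 2 n133969 = n111495 := d15_3 F215898 F215896 (iv7 F360748)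
theorem F360751 : act 7 n111495 = n133970 := d4_2 (iv7 F360748) F360750 (iv2 F360749)
theorem F360752 : act 2 n119981 = n155839 := d15_3 (iv0 D155839) F349914 (iv7 F189406)
theorem F360753 : act 3 n155839 = n150602 := d0_2 D119981 F360752 (iv2 D150602) (iv3 D70986) (iv2 F87354)
theorem F360754 : act 4 n155839 = n152794 := d1_2 (iv4 F189404) F360752 (iv2 D152794)
theorem F360755 : act 5 n155839 = n150602 := d2_2 (iv5 F189405) F360752 (iv2 D150602)
theorem F360756 : act 6 n155839 = n161882 := d3_2 (iv6 F326220) F360752 F255867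
theorem F360757 : act 7 n155839 = n150607 := d4_2 (iv7 F189406) F360752 (iv2 D150607)
theorem F360758 : act 3 n152826 = n155858 := d20_5 (iv4 D105905) (iv1 F108574) (iv4 D72116) D72115 D152826 (iv4 D155858) (iv1 F349911) D150608 F237145 (iv1 F162636)
theorem F360759 : act 4 n103031 = n152826 := d5_0 F360758 (iv4 D155858) (iv3 F329972) F291976 (iv3 F158273)
theorem F360760 : act 7 n152826 = n103030 := d11_2 D103031 F360759 (iv4 D103030)
theorem E102629 : n163003 = n127076 := (c6_3 D127077 F349869 F345782 (iv3 D127076))
theorem F360761 : act 0 n127076 = n147712 := (sb E102629 (iv1 F336326))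
theorem F360762 : act 1 n127076 = n78384 := (sb E102629 (iv0 D163003))
theorem F360763 : act 2 n127076 = n162819 := (sb E102629 F345783)
theorem F360764 : act 5 n127076 = n121062 := (sb E102629 (iv5 F345782))
theorem F360765 : act 7 n127076 = n162814 := (sb E102629 F345784)
theorem F360766 : act 0 n131914 = n125763 := d20_10 (iv4 D125763) (iv1 F201931) (iv4 F219309) F219308 (iv1 F219322) (iv3 F349833) F349834 (iv1 D86312) (iv4 F132264) (iv3 F332880)
theorem F360767 : act 3 n96709 = n113355 := d7_1 F349823 F328359 D128644
theorem F360768 : act 3 n134372 = n158968 := d8_1 F349811 F337004 (iv3 F349810)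
theorem F360769 : act 5 n126594 = n153984 := d6_2 D153986 F349810 (iv3 D153984)
theorem F360770 : act 0 n134796 = n134224 := d20_4 F336981 F212464 (iv4 F216250) (iv3 F216911) (iv3 D134224) D134225 (iv1 F216267) (iv4 F349808) F349810 F336987
theorem F360771 : act 2 n153984 = n134359 := d2_1 F360769 (iv5 D134359) F208380
theorem F360772 : act 1 n153984 = n148167 := d17_8 (iv1 F131623) (iv5 D75824) (iv1 F54928) (iv5 F54935) (iv4 F113793) (iv5 F250302) (iv0 F336987) F360769 F231978
theorem F360773 : act 7 n134275 = n154216 := d8_2 (iv7 F349800) F349805 (iv3 D154216)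
theorem F360774 : act 2 n154216 = n134038 := d4_1 F360773 F216026 (iv2 F216306)
theorem F360775 : act 5 n154216 = n134037 := d13_1 F360773 F216022 D134275
theorem F360776 : act 1 n134278 = n154216 := d15_1 D134278 (iv7 F360773) F216306
theorem F360777 : act 1 n154216 = n134277 := d15_0 (iv0 D134277) (iv7 F216026) (iv2 F360774)
theorem F360778 : act 2 n153987 = n174315 := d1_1 F349796 (iv4 D174315) (iv2 F273096)
theorem F360779 : act 2 n175167 = n159595 := d1_1 F349787 (iv4 D159595) F193483
theorem E102630 : n156020 = n156010 := (c15_2 F349771 F245120 (iv7 F245116) (iv2 F245118))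
theorem F360780 : act 0 n156010 = n74210 := (sb E102630 (iv1 F245120))
theorem F360781 : act 1 n156010 = n74208 := (sb E102630 (iv0 D156020))
theorem F360782 : act 6 n140498 = n156588 := d21_3 F349747 (iv1 F180099) D140498 (iv1 D156588) (iv6 D74456) (iv5 D34149) D34147 (iv5 F53630) D63523 D135184
theorem F360783 : act 2 n156588 = n109022 := d3_1 F360782 F341327 (iv2 F223658)
theorem F360784 : act 7 n156588 = n109026 := d14_2 F224961 F360782 F351108 (iv7 F351109) F345331
theorem F360785 : act 0 n98085 = n156588 := d21_4 D85873 F336744 F336742 (iv6 F151228) (iv6 F360782) (iv5 D140498) (iv1 F180103) (iv5 F349736) F349738 (iv1 D85871)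
theorem F360786 : act 5 n156588 = n108648 := d17_3 (iv1 F171656) (iv5 F336676) F360785 (iv4 D108648) (iv5 F81120) (iv0 D51393) (iv5 D24981) D24980 D51391
theorem F360787 : act 4 n156588 = n93139 := d18_1 F360785 (iv1 D93139) D93140 (iv5 F343102) F172617 F80983 D51388 (iv0 F171655) (iv5 F336676)
theorem E102631 : n179797 = n153779 := ((c21_4 F360786 F168558 (iv5 F169088) (iv6 F331123) (iv1 D179797) (iv6 D85874) D85873 F336744 F336742 (iv6 F151228) F360785)).symm
theorem F360788 : act 0 n153779 = n85874 := (sb E102631 (iv1 D179797))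
theorem E102632 : n179796 = n153774 := ((c15_4 (iv0 D179796) (iv0 F360788) (iv7 D153779) (iv2 F241628))).symm
theorem F360789 : act 1 n153774 = n85874 := (sb E102632 (iv0 D179796))
theorem F360790 : act 0 n108777 = n170854 := d20_10 (iv4 F343156) (iv1 F216789) F216784 F337468 (iv1 F360789) F241629 (iv4 D90297) F65153 D52843 (iv3 F331534)
theorem F360791 : act 3 n106929 = n101173 := d20_3 (iv4 F331535) F360790 (iv4 F343156) (iv1 D101173) (iv3 D47121) (iv4 D22671) D22669 (iv4 F74130) D100583 F351129
theorem E102633 : n141919 = n141852 := (c21_11 (iv5 D141852) (iv1 D66506) (iv5 F101671) D140604 (iv1 F351196) (iv6 F351312) (iv5 D108664) (iv1 F168560) (iv5 F360786) (iv6 F360782) (iv1 F224963))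
theorem F360792 : act 0 n141852 = n66533 := (sb E102633 (iv1 D141919))
theorem F360793 : act 1 n141852 = n140498 := (sb E102633 F224963)
theorem E102634 : n141951 = n101412 := (c21_5 (iv5 D124215) F191504 F297435 D178161 (iv1 F360085) F345475 D141852 F360792 F102401 D115751 F345324)
theorem F360794 : act 0 n101412 = n66542 := (sb E102634 (iv1 D141951))
theorem F360795 : act 1 n101412 = n178161 := (sb E102634 F360085)
theorem F360796 : act 2 n140501 = n141847 := d15_3 F345315 (iv0 F360792) F349725
theorem E102635 : n106902 = n104246 := (c20_9 (iv4 D101385) (iv1 F74471) D47199 D101412 F360794 (iv3 D66542) D66543 (iv1 F206710) F206708 (iv3 D104246) (iv1 F156181))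
theorem F360797 : act 0 n104246 = n66504 := (sb E102635 (iv1 F166197))
theorem F360798 : act 1 n104246 = n66501 := (sb E102635 F166199)
theorem F360799 : act 2 n104246 = n66565 := (sb E102635 (iv2 F166085))
theorem F360800 : act 4 n104246 = n128522 := (sb E102635 (iv4 F206708))
theorem F360801 : act 6 n104246 = n134725 := (sb E102635 (iv6 F216746))
theorem F360802 : act 7 n104246 = n49391 := (sb E102635 (iv7 D106902))
theorem F360803 : act 5 n101385 = n89841 := d19_5 (iv1 F215973) F215970 (iv4 F360800) (iv3 D104246) (iv1 F156181) (iv4 D89841) F64759 D41971 F64760 (iv4 F62466) F62467 (iv1 D41201) (iv5 D19378) F17177 D22323 D46592 D99740 F328170 F201740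
theorem E102636 : n142157 = n101385 := ((c20_5 D66543 (iv1 F206710) (iv4 F360800) (iv3 D104246) (iv1 F156181) (iv3 D142157) (iv4 D66650) (iv1 D31088) (iv4 F49460) F49459 D31057)).symm
theorem F360804 : act 3 n101385 = n66650 := (sb E102636 (iv3 D142157))
theorem F360805 : act 3 n142158 = n89841 := d6_3 (iv5 F360803) F360804 D142158
theorem F360806 : act 4 n89851 = n142158 := d5_0 F360805 (iv4 D89841) F64759 D41973 D89851
theorem F360807 : act 5 n97018 = n94120 := d2_2 F360803 (iv2 F149644) (iv2 F156179)
theorem F360808 : act 5 n101387 = n95699 := d9_8 F360803 (iv4 D89841) (iv5 D41970) F31548 D19786 D41991 (iv5 F291815) D101387 (iv4 D95699) (iv5 D44697) (iv4 D21289) (iv5 F291397) (iv4 F69193) (iv5 F74470) D101385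
theorem F360809 : act 0 n101444 = n97018 := d17_0 F360807 (iv1 F293848) F149684 F147383 F70268 F34033 D45343 F292164 (iv4 F156257)
theorem F360810 : act 5 n101390 = n97004 := d18_4 (iv1 F293848) (iv4 D97038) D97036 F291804 (iv4 D97004) F75220 (iv4 F292812) F292811 F360807
theorem F360811 : act 5 n95683 = n104244 := d2_2 F360810 F149609 F159842
theorem F360812 : act 5 n101389 = n97000 := d9_8 F360810 (iv4 D97004) (iv5 D45346) F63473 F290859 (iv4 F66305) D87418 (iv4 F156190) (iv4 D97000) (iv5 D45343) F63428 F290862 D89872 (iv5 F291805) F291804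
theorem F360813 : act 5 n95676 = n104242 := d13_3 F159838 F360810 F149610
theorem F360814 : act 0 n101435 = n95676 := d17_0 F360813 F159839 F292272 F147512 F70340 (iv0 F63254) D45353 F290679 (iv4 F156254)
theorem F360815 : act 1 n101435 = n95683 := d15_1 (iv0 F360814) (iv7 F149601) F149600
theorem F360816 : act 1 n101444 = n89904 := d15_1 (iv0 F360809) F138046 (iv2 F149644)
theorem F360817 : act 3 n141825 = n104244 := d20_5 (iv4 D66504) (iv1 D31044) (iv4 F49451) (iv3 F102378) D141825 (iv4 D104244) (iv1 D48239) D48240 D104246 F360797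
theorem F360818 : act 2 n141846 = n115268 := d1_3 F180852 F349722 D141846
theorem F360819 : act 1 n141846 = n115544 := d15_0 (iv0 F345485) F349724 (iv2 F360818)
theorem E102637 : n128962 = n113265 := (c21_5 F336396 (iv1 D128959) (iv5 D60644) D60645 D128962 (iv6 D113265) (iv5 D52278) D52275 D113253 (iv6 F349677) (iv1 F216093))
theorem F360820 : act 1 n113265 = n60645 := (sb E102637 (iv0 D128962))
theorem F360821 : act 5 n113265 = n131859 := d19_1 (iv1 F360820) (iv4 F328353) F176466 F327656 (iv5 D81512) F326265 (iv3 F168022) F324221 F323634 (iv4 F46480) F324945 D126012 F327266 (iv4 F327265) F165663 (iv1 D50190) (iv5 F48372) F48371 (iv3 F95249)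
theorem F360822 : act 6 n113256 = n169900 := d7_2 F349673 D113256 F267326
theorem F360823 : act 5 n107224 = n113256 := d12_5 F360822 (iv5 D169900) F125351 D81512 (iv6 F328082)
theorem F360824 : act 7 n113256 = n128765 := d13_2 (iv7 F165241) F360823 (iv5 D128765)
theorem F360825 : act 3 n128765 = n105201 := d8_1 F360824 F349675 D113256
theorem F360826 : act 0 n101274 = n183452 := d21_4 F125362 F70723 D75174 (iv6 F295126) F345943 F203057 (iv1 F161130) F349670 (iv6 D81515) D81513
theorem E102638 : n182428 = n137128 := (c15_1 D182428 F349665 (iv7 F345921) F138495)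
theorem F360827 : act 0 n137128 = n87101 := (sb E102638 (iv1 D182428))
theorem E102639 : n137129 = n101437 := ((c21_5 (iv5 D97021) F291429 F64437 D47206 D101437 (iv6 D137129) D137128 F360827 (iv5 F293822) (iv6 D101244) F292814)).symm
theorem F360828 : act 3 n101437 = n64470 := (sb E102639 F220320)
theorem F360829 : act 6 n101437 = n64467 := (sb E102639 (iv6 D137129))
theorem F360830 : act 6 n106615 = n110772 := d3_2 D110773 F349647 (iv2 D110772)
theorem F360831 : act 1 n110773 = n132047 := d15_0 (iv0 D132047) (iv7 F164218) (iv2 F349647)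
theorem F360832 : act 5 n132047 = n106658 := d17_7 D63396 D134899 F332733 (iv5 D134994) (iv4 F164212) (iv5 F349648) F360831 (iv0 D106658) F77880
theorem E102640 : n181904 = n132049 := (c1_2 F349645 F294770 (iv4 D132049) (iv2 F211531))
theorem F360833 : act 2 n132049 = n97413 := (sb E102640 (iv2 F294770))
theorem F360834 : act 6 n132049 = n86880 := (sb E102640 (iv6 D181904))
theorem F360835 : act 6 n93210 = n106486 := d7_2 F360834 (iv3 F143786) (iv3 F211533)
theorem F360836 : act 4 n106487 = n93210 := d10_3 F360835 (iv4 D106486) D106487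
theorem F360837 : act 0 n158069 = n106486 := d21_4 (iv5 D34481) D34478 (iv5 F112889) D158069 (iv6 F360835) (iv5 D93210) (iv1 F295186) D44853 F329089 (iv1 D75310)
theorem F360838 : act 7 n158069 = n113017 := d15_2 F238988 (iv0 F360837) (iv2 F238986)
theorem F360839 : act 6 n126255 = n131811 := d7_0 F349602 (iv6 D126258) (iv3 F203028)
theorem F360840 : act 2 n162916 = n125809 := d2_3 F349542 F325533 D162916
theorem F360841 : act 6 n125804 = n162916 := d3_0 F360840 (iv6 D125809) (iv2 F202316)
theorem F360842 : act 7 n126044 = n162916 := d15_2 F349541 F202749 F360840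
theorem F360843 : act 3 n137178 = n107507 := d7_1 F349521 F165853 F342890
theorem F360844 : act 4 n107503 = n137177 := d5_4 D137178 F360843 (iv4 D107507) (iv3 F165848) (iv3 D137177)
theorem E102641 : n116634 = n102455 := (c19_18 D47546 D102504 F349496 F81640 (iv1 F79910) (iv5 D50535) (iv4 F40261) (iv3 F45187) (iv1 D27955) (iv5 D13336) (iv4 F19152) (iv3 F19969) F19971 D24746 (iv4 F78269) D107173 F165166 D116634 F157407 F74728)
theorem F360845 : act 1 n102455 = n115331 := (sb E102641 (iv0 F222810))
theorem F360846 : act 3 n102455 = n53743 := (sb E102641 F182005)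
theorem F360847 : act 5 n102455 = n53742 := (sb E102641 (iv5 D116634))
theorem E102642 : n116637 = n102453 := (c7_3 D102455 F360846 D116637 (iv3 D102453))
theorem F360848 : act 6 n102453 = n53743 := (sb E102642 (iv6 D116637))
theorem F360849 : act 6 n116640 = n149137 := d12_4 F360848 (iv5 D53743) D53744 D116640 (iv5 F353163)
theorem F360850 : act 4 n149139 = n116640 := d10_3 F360849 (iv4 D149137) D149139
theorem E102643 : n151646 = n102036 := ((c6_3 F334856 F349492 D102036 (iv3 D151646))).symm
theorem F360851 : act 3 n102036 = n71470 := (sb E102643 (iv3 D151646))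
theorem F360852 : act 3 n101780 = n143115 := d7_3 (iv6 D143115) F349492 (iv6 F156982)
theorem F360853 : act 6 n110429 = n152880 := d10_2 F200717 F349443 (iv4 D152880)
theorem F360854 : act 3 n152880 = n110430 := d7_1 F360853 (iv6 D110430) D110429
theorem F360855 : act 1 n115349 = n178672 := d15_1 D115349 (iv7 F349431) F179629
theorem E102644 : n115457 = n115349 := (c17_8 (iv1 F313726) (iv5 F181648) F181650 (iv5 D53733) (iv4 F327060) (iv5 D53261) D53259 D115457 F360855 (iv4 D178672))
theorem F360856 : act 5 n115349 = n53259 := (sb E102644 (iv5 D115457))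
theorem F360857 : act 6 n115349 = n152801 := (sb E102644 (iv6 F351441))
theorem F360858 : act 5 n115432 = n143033 := d17_1 (iv1 F179733) (iv1 F349446) F174125 F84014 D53213 D115349 F360856 F179476 F179472
theorem F360859 : act 3 n143038 = n115432 := d6_3 F360858 F225899 D143038
theorem F360860 : act 6 n108050 = n115432 := d12_0 F360858 (iv6 D143033) (iv5 F347240) (iv6 D108051) D108050
theorem F360861 : act 2 n115432 = n132438 := d3_1 F360860 (iv6 D132438) (iv2 F167038)
theorem F360862 : act 4 n115432 = n137052 := d10_1 F360860 (iv6 D137052) (iv4 F167039)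
theorem E102645 : n137768 = n105645 := (c21_7 F78988 (iv1 F78937) D108050 F360860 (iv1 D115432) D115434 (iv5 F347216) (iv1 D105645) (iv5 F79001) (iv6 D49952) D49949)
theorem F360863 : act 3 n105645 = n64752 := (sb E102645 (iv3 D137768))
theorem F360864 : act 5 n105645 = n115434 := (sb E102645 F347216)
theorem F360865 : act 4 n141073 = n116079 := d16_6 (iv4 F347288) (iv5 D143090) (iv4 F225900) (iv5 F360858) F360862 (iv5 F224074) (iv5 F181648) F181649 (iv2 F314486)
theorem F360866 : act 7 n141073 = n130959 := d16_8 F130439 D85104 (iv4 F347288) (iv5 D143090) (iv4 F225900) (iv5 F360858) F360862 (iv5 F224074) F313717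
theorem F360867 : act 3 n137052 = n115258 := d20_3 F179472 (iv1 F179733) F360862 (iv1 F179513) (iv3 F179496) F179497 (iv1 F179898) (iv4 F179899) (iv3 D115450) (iv1 F179474)
theorem F360868 : act 7 n178670 = n156177 := d16_8 (iv4 F360862) F360858 F225900 D143090 F347288 (iv5 D85104) (iv4 F130439) D178670 F245445
theorem F360869 : act 7 n132438 = n115431 := d11_2 F360868 F245446 (iv4 F336242)
theorem F360870 : act 5 n156177 = n178671 := d13_1 F360868 (iv7 D178671) D178670
theorem F360871 : act 1 n137052 = n115637 := d15_0 F336243 F360868 F245445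
theorem F360872 : act 2 n178671 = n141073 := d2_1 F360870 F224074 (iv2 F245445)
theorem E102646 : n156177 = n115635 := ((c19_1 D115635 F360870 F278478 (iv3 F314471) (iv1 F224049) F314623 (iv4 F319484) (iv3 D67981) F314384 (iv5 F314386) (iv4 D67989) (iv3 F103180) D143659 F226339 (iv4 F224491) F224490 F223195 (iv5 D115641) (iv4 D53334) D53333)).symm
theorem F360873 : act 2 n115635 = n137052 := (sb E102646 F245445)
theorem E102647 : n132438 = n105617 := (((F179996).symm.trans (sb E102646 F245446))).symm
theorem F360874 : act 5 n115635 = n178671 := (sb E102646 F360870)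
theorem F360875 : act 6 n115635 = n74294 := (sb E102646 (iv6 D156177))
theorem F360876 : act 7 n115635 = n178670 := (sb E102646 (iv7 F360868))
theorem F360877 : act 2 n105617 = n115432 := (sb E102647 (iv2 F360861))
theorem F360878 : act 6 n105617 = n62136 := (sb E102647 (iv6 D132438))
theorem F360879 : act 7 n105617 = n115431 := (sb E102647 F360869)
theorem F360880 : act 2 n115431 = n105618 := d15_3 F179734 F179732 F360879
theorem F360881 : act 7 n115432 = n105618 := d4_2 (iv7 F360879) F360877 (iv2 F360880)
theorem F360882 : act 7 n115539 = n137052 := d11_2 F360881 (iv4 F179841) (iv4 F360862)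
theorem F360883 : act 2 n178670 = n115539 := d4_3 F360882 (iv2 F360873) F360876
theorem F360884 : act 5 n130959 = n115539 := d13_3 F360882 (iv5 F224074) F360866
theorem E102648 : n141719 = n115633 := (c17_1 D141719 F336234 D115635 F360874 F278478 (iv5 F278483) (iv0 F319165) F181970 (iv0 F320928) (iv4 F102354))
theorem F360885 : act 1 n115633 = n66458 := (sb E102648 (iv0 D141719))
theorem F360886 : act 1 n141073 = n178668 := d15_0 (iv0 D178668) D178671 F360872
theorem F360887 : act 3 n115428 = n141073 := d6_3 F224074 F360867 F330519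
theorem F360888 : act 1 n178669 = n141073 := d15_1 D178669 F360866 F313717
theorem E102649 : n147879 = n139697 := (c0_4 F349395 (iv2 F105972) (iv3 F230048) F243031 (iv3 D139697) (iv2 F349393))
theorem F360889 : act 0 n139697 = n69291 := (sb E102649 F231660)
theorem F360890 : act 1 n139697 = n69286 := (sb E102649 (iv0 D147879))
theorem F360891 : act 2 n139697 = n146720 := (sb E102649 (iv2 F243031))
theorem F360892 : act 5 n139697 = n146709 := (sb E102649 (iv5 F243007))
theorem F360893 : act 6 n139697 = n147425 := (sb E102649 (iv6 F231659))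
theorem F360894 : act 4 n140778 = n139697 := d18_7 (iv1 F105132) (iv4 F230533) (iv1 F230536) F338182 (iv5 D66064) (iv4 F101729) D140778 F360890 (iv5 D69286)
theorem F360895 : act 1 n147907 = n140779 := d17_6 F360889 (iv5 D69291) (iv1 D32209) D32210 D69295 D147907 (iv5 D140779) D140778 F360894
theorem F360896 : act 1 n140779 = n181154 := d15_1 F360895 F282172 F356029
theorem F360897 : act 0 n130885 = n117552 := d21_10 F308180 (iv1 F312432) F314865 (iv6 D76725) D76720 (iv6 F349385) (iv5 F349390) (iv1 F222859) (iv5 F316828) F209472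
theorem F360898 : act 0 n167717 = n130886 := d21_4 F314371 (iv1 F320421) F318265 D167717 (iv6 D130886) D130885 F360897 F308180 F314875 (iv1 F317089)
theorem F360899 : act 5 n157411 = n167717 := d21_0 F360898 F313918 F111741 (iv1 F222854) F349397 (iv5 F130443) (iv1 F184313) F341179 F341177 (iv1 F247895)
theorem F360900 : act 2 n167717 = n152177 := d2_1 F360899 F239262 F247897
theorem F360901 : act 7 n121464 = n178909 := d4_2 F349374 (iv2 F306876) (iv2 F349370)
theorem F360902 : act 4 n121464 = n117826 := d16_0 (iv5 D117826) F85611 F130809 (iv4 F87937) D120649 F307139 (iv5 F349372) F349374 (iv2 F306876)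
theorem F360903 : act 6 n145744 = n121464 := d10_0 F360902 F310940 (iv4 F228865)
theorem F360904 : act 5 n129269 = n145744 := d12_5 F360903 F306877 (iv6 D63293) D63292 (iv6 F207478)
theorem F360905 : act 3 n145744 = n157570 := d6_1 F360904 F248322 (iv3 F307892)
theorem E102650 : n142542 = n142446 := (c16_10 (iv4 F330295) (iv5 D175144) F315329 (iv5 D61126) D61125 D130214 F349368 (iv5 F317767) (iv7 F340111) (iv2 F225429))
theorem F360906 : act 2 n142446 = n66826 := (sb E102650 F225429)
theorem F360907 : act 7 n142446 = n66825 := (sb E102650 (iv7 D142542))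
theorem F360908 : act 5 n102638 = n127667 := d18_9 F232274 F104832 F232233 D32297 D69564 D148456 F349360 F333332 F291705
theorem E102651 : n148556 = n140049 := ((c16_9 (iv4 F337105) (iv5 D102639) D102638 F360908 (iv4 D127667) D127668 (iv4 F309728) F318797 D140049 (iv2 F332455))).symm
theorem F360909 : act 0 n140049 = n69658 := (sb E102651 F332453)
theorem F360910 : act 1 n140049 = n118655 := (sb E102651 F332454)
theorem F360911 : act 2 n140049 = n127306 := (sb E102651 (iv2 F332455))
theorem F360912 : act 4 n140049 = n89567 := (sb E102651 (iv4 F337121))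
theorem F360913 : act 5 n140049 = n149769 := (sb E102651 (iv5 F332456))
theorem F360914 : act 6 n140049 = n69618 := (sb E102651 (iv6 D148556))
theorem F360915 : act 6 n148554 = n89567 := d10_2 F360914 D148554 (iv4 F360912)
theorem F360916 : act 6 n160202 = n117851 := d21_3 F336856 (iv1 F336883) (iv5 F334858) (iv1 F184800) (iv6 F360914) F360913 (iv1 F310509) F310510 F336865 (iv1 F224535)
theorem F360917 : act 3 n184085 = n148554 := d7_3 F360915 F286029 (iv6 F286025)
theorem F360918 : act 5 n100446 = n148554 := d12_5 F360915 F286030 (iv6 D46875) D46874 D100446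
theorem F360919 : act 4 n150690 = n100446 := d16_2 D71051 D150690 F360918 (iv4 D148554) (iv5 F320085) F309464 F312930 (iv7 F312931) (iv2 D71050)
theorem F360920 : act 6 n100445 = n150690 := d10_0 F360919 (iv6 D100446) D100445
theorem F360921 : act 4 n105764 = n183423 := d19_14 (iv1 F264310) (iv5 F360913) F360912 F286029 F137634 (iv5 D89694) (iv4 D41891) F61804 (iv1 D20416) F290803 (iv4 F66505) D43385 (iv1 F290213) (iv5 F162427) F285142 (iv1 F308299) (iv5 F109366) (iv4 F241536) F241535
theorem F360922 : act 6 n183423 = n105763 := d10_2 D105764 F360921 (iv4 D105763)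
theorem F360923 : act 3 n105763 = n183433 := d7_1 F360922 (iv6 D183433) (iv3 F285142)
theorem F360924 : act 7 n178965 = n139144 := d16_8 (iv4 D146287) (iv5 F228973) F332448 (iv5 D85364) (iv4 D39436) D39437 D85366 D178965 (iv2 F349355)
theorem F360925 : act 3 n151577 = n178965 := d8_3 F360924 (iv3 F342703) F349068
theorem F360926 : act 1 n138376 = n178965 := d15_1 (iv0 F330629) F360924 (iv2 F349355)
theorem F360927 : act 1 n178965 = n138362 := d15_1 F360926 (iv7 F330636) F330634
theorem E102652 : n159916 = n97249 := ((c5_5 (iv4 F342710) F360925 F348297 F149993 D97249 (iv3 D159916))).symm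
theorem F360928 : act 3 n97249 = n76554 := (sb E102652 (iv3 D159916))
theorem F360929 : act 5 n178964 = n151577 := d6_0 F360925 (iv5 D178965) D178964
theorem F360930 : act 0 n164620 = n89575 := d20_7 F334941 (iv1 F311480) (iv4 F348297) (iv3 F360925) (iv1 D151577) (iv3 F307589) F307590 F137323 (iv3 F137314) F337115
theorem F360931 : act 2 n111242 = n178964 := d2_3 F360929 F349069 F356864
theorem F360932 : act 7 n139143 = n178964 := d13_0 F360929 (iv7 F349068) F352972
theorem F360933 : act 4 n178964 = n136463 := d19_2 (iv1 F242377) (iv5 F360929) F219581 F312298 D181766 (iv4 F351900) (iv3 D123765) (iv1 D57687) (iv5 D27552) F21951 F9802 D6296 D13266 D27799 D58413 (iv1 F320219) D107658 F329468 (iv3 F242373)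
theorem E102653 : n175401 = n156685 := ((c18_9 (iv1 F336791) F197524 (iv1 F193606) (iv4 F342710) (iv5 F360929) F360933 (iv0 D136463) (iv4 F111871) D156685 (iv5 D175401))).symm
theorem F360934 : act 2 n156685 = n138603 := (sb E102653 F352976)
theorem F360935 : act 3 n156685 = n83756 := (sb E102653 F274440)
theorem F360936 : act 5 n156685 = n83755 := (sb E102653 (iv5 D175401))
theorem F360937 : act 7 n156685 = n138604 := (sb E102653 F352975)
theorem F360938 : act 2 n138604 = n156684 := d15_3 (iv0 D156684) D156685 F360937
theorem F360939 : act 7 n138603 = n156684 := d4_2 (iv7 F360937) F360934 (iv2 F360938)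
theorem F360940 : act 5 n156684 = n159640 := d13_1 F360939 (iv7 F336374) (iv5 F352977)
theorem E102654 : n159713 = n156484 := ((c21_3 (iv5 F360936) (iv1 D156685) (iv5 F246017) (iv6 D159713) (iv1 D76409) (iv6 D34914) D34913 (iv1 F55268) (iv5 F55420) D76552 F336792)).symm
theorem F360941 : act 6 n156484 = n76409 := (sb E102654 (iv6 D159713))
theorem F360942 : act 6 n159712 = n110816 := d12_2 F360941 D159712 (iv5 D110816) (iv6 F111872) (iv5 F246017)
theorem F360943 : act 3 n110817 = n159712 := d7_3 F360942 F171623 D110817
theorem E102655 : n170056 = n159919 := ((c7_3 (iv6 F150003) F360928 D159919 (iv3 D170056))).symm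
theorem F360944 : act 3 n159919 = n81560 := (sb E102655 (iv3 D170056))
theorem F360945 : act 5 n159919 = n148595 := (sb E102655 (iv5 F354929))
theorem F360946 : act 7 n159919 = n170546 := (sb E102655 F267974)
theorem E102656 : n114019 = n97249 := ((c20_4 (iv4 F242374) (iv1 F242377) F342710 (iv3 F360928) (iv1 D114019) F83132 F40376 D34885 (iv4 F177812) D69694 (iv1 F332641))).symm
theorem F360947 : act 0 n97249 = n52624 := (sb E102656 (iv1 D114019))
theorem F360948 : act 0 n114020 = n146461 := d17_2 F360947 D114020 F335879 F180979 (iv5 F317832) F204938 D59883 (iv0 F311001) D97249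
theorem F360949 : act 0 n140847 = n106299 := d21_1 (iv5 F223917) (iv5 D106299) (iv6 D49129) F54167 D52624 D114020 F360948 F335879 (iv6 D116164) D116161
theorem F360950 : act 1 n127786 = n106299 := d15_0 (iv0 F360949) (iv7 F225136) (iv2 F325369)
theorem F360951 : act 7 n106299 = n140803 := d15_2 (iv0 F325368) F360950 F223877
theorem F360952 : act 6 n148594 = n159918 := d12_4 D159919 F360945 (iv6 D148595) D148594 (iv5 D159918)
theorem F360953 : act 0 n146363 = n148594 := d21_4 F114797 (iv1 F77065) D68629 D146363 F360952 (iv5 D159918) (iv1 D76554) D76555 F114796 D76557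
theorem E102657 : n184512 = n175277 := (c6_3 F349292 F286446 D184512 F340088)
theorem F360954 : act 5 n175277 = n87992 := (sb E102657 (iv5 D184512))
theorem F360955 : act 3 n101382 = n148456 := d8_3 F349291 F286446 (iv7 F344236)
theorem F360956 : act 6 n186130 = n148456 := d10_2 F349281 D186130 (iv4 D148456)
theorem F360957 : act 3 n151350 = n92871 := d6_1 F349244 (iv5 D92871) (iv3 F142649)
theorem F360958 : act 6 n151350 = n115028 := d21_3 (iv5 D92831) (iv1 F142651) F349244 F238460 F335937 (iv5 D146431) (iv1 F229753) (iv5 F335952) (iv6 D92894) (iv1 F329844)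
theorem F360959 : act 4 n115028 = n151534 := d10_1 F360958 (iv6 D151534) (iv4 F238064)
theorem F360960 : act 4 n150763 = n151530 := d1_2 F360959 F238406 (iv2 F238394)
theorem F360961 : act 3 n159356 = n115029 := d5_3 F360959 F238407 (iv4 F250880) (iv4 D115029) D115028
theorem F360962 : act 6 n115029 = n159355 := d7_2 D159356 F360961 (iv3 D159355)
theorem F360963 : act 2 n159355 = n92876 := d3_1 F360962 (iv6 F178994) (iv2 F179129)
theorem F360964 : act 4 n159355 = n92871 := d10_1 F360962 (iv6 F177444) D115029
theorem F360965 : act 5 n136333 = n115029 := d12_5 F360962 F250877 F343650 (iv5 D136332) D136333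
theorem F360966 : act 4 n159825 = n115053 := d11_3 (iv7 F250878) F360964 (iv7 F251906)
theorem F360967 : act 0 n152560 = n100544 := d19_16 (iv1 F177350) D92871 (iv4 F360964) (iv3 D159355) F114207 D76293 F114337 (iv3 F163292) (iv1 F205583) (iv5 F205585) F164493 (iv3 F176767) F176770 F87982 (iv4 F330000) (iv3 F349162) (iv5 D100544) D100543 (iv3 F177337)
theorem F360968 : act 2 n93907 = n94238 := d2_3 F335905 F349242 (iv5 F349238)
theorem E102658 : n151352 = n93908 := ((c15_2 (iv0 D93907) D93908 F335907 (iv2 F360968))).symm
theorem F360969 : act 5 n93908 = n71329 := (sb E102658 (iv5 D151352))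
theorem F360970 : act 7 n93908 = n94238 := (sb E102658 F335907)
theorem E102659 : n114383 = n90756 := (c18_4 F329796 (iv4 F329801) (iv1 F107968) D114383 F139680 F137288 D89571 (iv4 F137316) D93908 F360969)
theorem F360971 : act 0 n90756 = n151536 := (sb E102659 (iv1 F238413))
theorem F360972 : act 1 n90756 = n151535 := (sb E102659 F238410)
theorem F360973 : act 2 n90756 = n146428 := (sb E102659 (iv2 F229762))
theorem F360974 : act 4 n90756 = n52786 := (sb E102659 (iv4 D114383))
theorem F360975 : act 6 n90756 = n68696 := (sb E102659 F335933)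
theorem F360976 : act 7 n90756 = n71084 := (sb E102659 F178410)
theorem F360977 : act 0 n102856 = n186134 := d21_4 (iv5 D73803) D73800 D155324 (iv6 F349315) F349270 (iv5 F335916) (iv1 F360972) F139680 (iv6 D89556) F317604
theorem E102660 : n186134 = n102571 := ((c15_1 D102571 (iv0 F360977) (iv7 F294482) F157528)).symm
theorem F360978 : act 1 n102571 = n102856 := (sb E102660 (iv0 F360977))
theorem F360979 : act 3 n102571 = n88679 := (sb E102660 (iv3 D186134))
theorem F360980 : act 6 n102571 = n90733 := (sb E102660 F349270)
theorem F360981 : act 7 n97327 = n95756 := d15_2 (iv0 D97326) D97327 F349227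
theorem F360982 : act 0 n150768 = n151348 := d21_4 (iv5 F349213) (iv1 D100683) (iv5 F329548) D150768 (iv6 D151348) (iv5 F115175) F115172 (iv5 F114925) D152557 F328909
theorem F360983 : act 5 n137594 = n150755 := d12_3 F349211 (iv5 D137593) D137594 (iv6 D150755) D150754
theorem F360984 : act 3 n150755 = n136020 := d6_1 F360983 (iv5 F218861) (iv3 F220754)
theorem F360985 : act 4 n171052 = n137594 := d16_2 (iv4 F313615) D171052 F360983 F237315 F107615 (iv4 F309459) (iv5 F78859) (iv7 D49866) (iv2 F78846)
theorem F360986 : act 6 n116266 = n171052 := d10_0 F360985 (iv6 D137594) (iv4 F181222)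
theorem F360987 : act 7 n137221 = n150755 := d8_0 F360984 (iv7 F219004) D137221
theorem E102661 : n148942 = n137221 := (c11_4 F360987 F237315 F309053 D148942)
theorem F360988 : act 4 n137221 = n69823 := (sb E102661 (iv4 D148942))
theorem F360989 : act 6 n150624 = n137221 := d14_5 F360987 (iv6 D150755) F323751 (iv6 F323749) F315870
theorem F360990 : act 3 n137223 = n150624 := d7_3 F360989 (iv3 D137221) D137223
theorem E102662 : n167689 = n137222 := (c5_4 F360988 F106256 D80473 D167689 (iv4 D137222) D137221)
theorem F360991 : act 3 n137222 = n80473 := (sb E102662 (iv3 D167689))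
theorem F360992 : act 0 n155609 = n137221 := d18_2 D74026 D155609 F360988 (iv5 D69823) F51486 D32427 D69832 (iv0 F307341) F78740
theorem F360993 : act 1 n155613 = n137221 := d18_6 (iv1 D84439) (iv4 F302572) F305828 (iv4 F132833) (iv5 F312014) D155613 F360988 F320331 F318154
theorem E102663 : n155608 = n153585 := ((c20_5 D38940 F312884 F109238 (iv3 F109147) D153585 (iv3 D155608) D155609 F360992 F360988 F106256 (iv1 F297846))).symm
theorem F360994 : act 3 n153585 = n74026 := (sb E102663 (iv3 D155608))
theorem E102664 : n177302 = n153585 := (c6_1 D177302 F360994 (iv5 F311957) (iv3 F276626))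
theorem F360995 : act 5 n153585 = n84469 := (sb E102664 (iv5 D177302))
theorem E102665 : n177303 = n114737 := (c21_4 F209794 D153585 F360995 D177303 (iv1 F178847) (iv6 F319115) F312411 D81578 F317114 (iv6 F338966) F338962)
theorem F360996 : act 6 n114737 = n84469 := (sb E102665 (iv6 D177303))
theorem E102666 : n183971 = n115075 := ((c15_3 (iv0 F155771) (iv0 F349165) F206684 F285842)).symm
theorem F360997 : act 2 n115075 = n87772 := (sb E102666 F285842)
theorem F360998 : act 4 n115075 = n87759 := (sb E102666 (iv4 D183971))
theorem F360999 : act 2 n183999 = n159373 := d0_3 D115075 F360997 D183999 (iv3 D159373) F114235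
theorem F361000 : act 2 n184000 = n115065 := d2_3 (iv5 F179184) F360997 D184000
theorem F361001 : act 2 n184001 = n128516 := d4_3 F206684 F360997 D184001
theorem F361002 : act 1 n128516 = n101105 := d15_0 F344248 D184001 F361001
theorem F361003 : act 4 n159373 = n184112 := d1_2 (iv4 F285885) F360999 (iv2 D184112)
theorem F361004 : act 2 n152558 = n100564 := d3_1 F349163 (iv6 D100564) D100561
theorem F361005 : act 4 n152558 = n114644 := d10_1 F349163 (iv6 D114644) (iv4 F330000)
theorem F361006 : act 5 n152558 = n185480 := d12_1 F349163 (iv6 D185480) D185479 (iv6 F287744) F283713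
theorem F361007 : act 3 n185480 = n152559 := d6_1 F361006 (iv5 D152559) D152558
theorem F361008 : act 6 n152559 = n185477 := d7_2 D185480 F361007 (iv3 D185477)
theorem E102667 : n185037 = n152834 := (c10_2 F361008 F287740 (iv6 D152834) (iv4 F239747))
theorem F361009 : act 0 n152834 = n88201 := (sb E102667 (iv1 D185037))
theorem F361010 : act 1 n152834 = n115319 := (sb E102667 (iv0 F359552))
theorem F361011 : act 4 n152834 = n185477 := (sb E102667 (iv4 F287740))
theorem F361012 : act 6 n185169 = n152874 := d21_3 (iv5 F359530) F245050 F359545 (iv1 D152874) (iv6 D72130) (iv5 D33300) D33297 D72117 D152834 F361009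
theorem F361013 : act 4 n145257 = n100564 := d1_2 F361005 (iv2 F228238) (iv2 F361004)
theorem F361014 : act 0 n100705 = n152558 := d18_2 F360005 D100705 F361005 F178745 F143074 F157736 F65997 D42528 D90806
theorem F361015 : act 3 n99382 = n152288 := d0_4 D152558 F361004 F154640 (iv2 F153050) F239377
theorem F361016 : act 3 n114483 = n101168 := d5_5 F155864 F361015 (iv4 D152288) (iv3 F138563) F178541
theorem F361017 : act 7 n152550 = n99382 := d8_0 F361015 F239378 D152550
theorem F361018 : act 2 n100571 = n152550 := d4_3 F361017 F153050 D100571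
theorem F361019 : act 6 n100582 = n152550 := d14_5 F361017 (iv6 D99382) F73392 D46918 D100582
theorem F361020 : act 1 n100569 = n152550 := d15_1 D100569 F361017 F153050
theorem F361021 : act 3 n152552 = n100582 := d7_3 F361019 (iv3 D152550) D152552
theorem F361022 : act 7 n100576 = n152552 := d8_0 F361021 (iv7 D100582) (iv3 F154645)
theorem F361023 : act 4 n152555 = n100576 := d11_3 F361022 F239740 D152555
theorem F361024 : act 1 n152550 = n100568 := d15_0 (iv0 D100568) D100571 F361018
theorem F361025 : act 6 n185174 = n103945 := d21_5 D101200 (iv1 F349149) (iv5 F293946) F293947 D185174 F349152 (iv1 F286371) F286368 (iv6 F143948) (iv1 F143951)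
theorem F361026 : act 7 n103945 = n182053 := d14_2 (iv7 F344331) F361025 (iv6 D182053) (iv7 F344267) D182692
theorem E102668 : n184519 = n101109 := ((c13_2 F361026 F283461 (iv7 D184519) (iv5 F349152))).symm
theorem F361027 : act 2 n101109 = n87994 := (sb E102668 F286451)
theorem F361028 : act 7 n101109 = n87993 := (sb E102668 (iv7 D184519))
theorem E102669 : n184515 = n101103 := (c8_2 F361028 D184515 (iv7 F155769) D101109)
theorem F361029 : act 3 n101103 = n87993 := (sb E102669 (iv3 D184515))
theorem E102670 : n184514 = n184468 := (c15_4 (iv0 D184468) F155773 F361028 D184514)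
theorem F361030 : act 2 n184468 = n87993 := (sb E102670 (iv2 D184514))
theorem F361031 : act 7 n184468 = n87994 := (sb E102670 (iv7 F286450))
theorem F361032 : act 2 n182697 = n182053 := d2_3 F283461 F361027 (iv5 F294957)
theorem E102671 : n182697 = n103946 := (c17_2 (iv1 F286370) (iv5 F294957) (iv1 D103946) (iv5 F293198) (iv4 F340052) (iv5 D93011) F142700 (iv5 F239757) F239759 F349151)
theorem F361033 : act 2 n103946 = n182053 := (sb E102671 F361032)
theorem F361034 : act 5 n103946 = n87994 := (sb E102671 F294957)
theorem F361035 : act 6 n103946 = n87214 := (sb E102671 (iv6 D182697))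
theorem E102672 : n184516 = n159824 := ((c20_6 (iv4 F143271) (iv1 F143272) (iv4 D43468) D43467 (iv1 F157675) (iv3 F251902) (iv4 D184516) (iv1 F286371) (iv4 F349151) (iv3 D100364) (iv1 F142697))).symm
theorem F361036 : act 4 n159824 = n87993 := (sb E102672 (iv4 D184516))
theorem E102673 : n184518 = n152290 := (c10_3 (iv6 F251903) F361036 D184518 F239387)
theorem F361037 : act 6 n152290 = n87993 := (sb E102673 (iv6 D184518))
theorem E102674 : n184468 = n152569 := (c3_2 F361037 (iv2 F361030) (iv6 D152569) F239388)
theorem F361038 : act 0 n152569 = n87996 := (sb E102674 (iv1 F286369))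
theorem F361039 : act 1 n152569 = n87969 := (sb E102674 (iv0 D184468))
theorem F361040 : act 2 n152569 = n87993 := (sb E102674 F361030)
theorem F361041 : act 7 n152569 = n87994 := (sb E102674 F361031)
theorem E102675 : n185018 = n101201 := (c21_5 F344330 (iv1 F285662) (iv5 D88195) D88196 D185018 (iv6 D101201) D101200 (iv1 F349149) (iv5 F293946) F293947 D185174)
theorem F361042 : act 0 n101201 = n88206 := (sb E102675 (iv1 F287417))
theorem F361043 : act 1 n101201 = n88196 := (sb E102675 (iv0 D185018))
theorem E102676 : n185050 = n182409 := ((c15_2 F361043 (iv0 F344322) (iv7 D185050) (iv2 F344231))).symm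
theorem F361044 : act 2 n182409 = n88204 := (sb E102676 F287438)
theorem F361045 : act 7 n182409 = n88203 := (sb E102676 (iv7 D185050))
theorem E102677 : n182410 = n101198 := ((c14_4 F361045 (iv6 F344230) F155690 D101198 (iv7 D182410) D182409)).symm
theorem F361046 : act 2 n101198 = n87096 := (sb E102677 F283953)
theorem F361047 : act 7 n101198 = n87095 := (sb E102677 (iv7 D182410))
theorem F361048 : act 7 n135040 = n182700 := d13_2 F361047 (iv5 F328106) (iv5 F348533)
theorem E102678 : n182406 = n105041 := (c15_4 F160957 (iv0 F348531) F361047 D182406)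
theorem F361049 : act 2 n105041 = n87095 := (sb E102678 (iv2 D182406))
theorem F361050 : act 7 n105041 = n87096 := (sb E102678 (iv7 F283952))
theorem F361051 : act 7 n98029 = n186036 := d11_2 F361050 (iv4 F151159) F288642
theorem F361052 : act 7 n182412 = n182701 := d13_2 F361050 D182412 (iv5 F339538)
theorem E102679 : n182413 = n93336 := (c14_2 F361050 D182413 (iv7 F155687) D101201 F344232 (iv6 F335763))
theorem F361053 : act 6 n93336 = n87096 := (sb E102679 (iv6 D182413))
theorem F361054 : act 6 n182411 = n150780 := d7_2 F361053 D182411 (iv3 F349190)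
theorem F361055 : act 6 n98029 = n92578 := d10_2 F361053 (iv4 F151159) F143943
theorem E102680 : n182412 = n135039 := (c21_7 (iv5 F62312) (iv1 F62311) F44096 D47127 F143945 F361053 D182412 F328104 (iv5 D86951) (iv6 D40370) D40368)
theorem F361056 : act 5 n135039 = n87096 := (sb E102680 (iv5 D182412))
theorem F361057 : act 7 n135039 = n182701 := (sb E102680 F361052)
theorem F361058 : act 2 n182701 = n135040 := d15_3 F328105 (iv0 F328104) F361057
theorem F361059 : act 2 n135039 = n182700 := d4_1 (iv7 F361057) (iv7 F361048) (iv2 F361058)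
theorem F361060 : act 5 n136858 = n135036 := d21_6 F361056 (iv1 D87096) D87099 (iv6 F345451) (iv1 D136856) D136858 (iv1 D135036) (iv5 D63465) D63466 D135039
theorem F361061 : act 3 n135036 = n136865 := d6_1 F361060 (iv5 D136865) (iv3 F220046)
theorem F361062 : act 6 n135036 = n136861 := d12_2 D136858 F361060 (iv5 D136861) (iv6 D64337) D64336
theorem F361063 : act 0 n102898 = n182411 := d21_4 (iv5 D73504) D73501 D154953 F357336 F361054 (iv5 D150780) F107623 D71355 D151383 F356575
theorem F361064 : act 2 n182407 = n186036 := d1_3 F288642 F361049 D182407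
theorem F361065 : act 1 n135554 = n102568 := d15_0 F349131 F349133 (iv2 F349102)
theorem F361066 : act 1 n102567 = n115110 := d15_1 D102567 (iv7 F349115) F157527
theorem F361067 : act 5 n102567 = n98699 := d21_2 (iv5 F349113) (iv1 F361066) (iv6 D98699) (iv1 D46138) (iv6 D22071) D22070 D46135 F72750 D46821 (iv1 F290204)
theorem F361068 : act 2 n106234 = n135507 := d0_5 (iv3 D135507) F349096 (iv3 F349092) (iv2 F335890) F335891
theorem F361069 : act 6 n114018 = n127323 := d7_2 F349088 (iv3 F349082) F204552
theorem F361070 : act 4 n150008 = n123606 := d20_6 (iv4 F349066) (iv1 F242376) F238469 (iv3 F120361) (iv1 F120364) D150008 (iv1 D123606) F90767 (iv3 F88616) D121367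
theorem F361071 : act 6 n170545 = n176020 := d3_0 F349014 F349012 D170545
theorem F361072 : act 3 n176329 = n119970 := d7_3 F348987 F348985 D176329
theorem F361073 : act 2 n134576 = n176329 := d0_5 F361072 F343013 (iv3 F346089) (iv2 F333350) F334128
theorem F361074 : act 7 n155403 = n176329 := d8_0 F361072 F343014 D155403
theorem F361075 : act 3 n130879 = n138202 := d19_15 F337693 (iv5 F321849) (iv4 F275636) F361072 (iv1 F189381) (iv5 F317610) (iv4 F205864) F205863 (iv1 F97824) (iv5 F106814) (iv4 F313309) (iv3 F184156) F227689 (iv5 D130880) D130879 (iv1 D138202) (iv5 D64915) (iv4 F93818) (iv3 F203841)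
theorem F361076 : act 0 n116592 = n170581 := d20_10 (iv4 F340118) (iv1 D176331) (iv4 F275636) F361072 (iv1 F189381) (iv3 F317591) (iv4 F115003) (iv1 F316511) F225977 (iv3 F181950)
theorem F361077 : act 5 n148389 = n116592 := d21_0 F361076 F302807 (iv6 D86699) F305764 F303705 F300994 F300679 F72256 F320005 D148389
theorem F361078 : act 6 n138202 = n118171 := d7_2 (iv6 F354316) F361075 (iv3 F344403)
theorem F361079 : act 0 n120631 = n138202 := d20_4 (iv4 D120643) (iv1 D55576) (iv4 F87881) (iv3 F192257) (iv3 F361075) (iv4 D130879) (iv1 F187524) F358461 (iv3 D170664) (iv1 F304268)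
theorem F361080 : act 4 n138202 = n147837 := d18_3 (iv1 F187659) (iv4 F192258) F361079 (iv5 F241769) F338595 (iv0 D114657) F313534 D106079 (iv5 F187663)
theorem F361081 : act 2 n118200 = n138202 := d1_3 F361080 (iv2 F233222) F190219
theorem F361082 : act 2 n139976 = n155403 := d4_3 F361074 (iv2 F361073) F334129
theorem F361083 : act 6 n139971 = n155403 := d14_5 F361074 (iv6 D176329) (iv7 F335855) F335854 F224515
theorem F361084 : act 1 n149262 = n155403 := d15_1 F334646 F361074 (iv2 F361073)
theorem F361085 : act 0 n149257 = n155403 := d21_4 F106435 F105050 (iv5 F106449) D149257 (iv6 F361083) (iv5 D139971) F104309 (iv5 F162354) (iv6 F319635) D70048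
theorem F361086 : act 7 n116164 = n146275 := d8_0 F348981 (iv7 D117364) (iv3 F180978)
theorem F361087 : act 2 n147260 = n127491 := d15_3 (iv0 D127491) (iv0 F348969) F348972
theorem F361088 : act 7 n97064 = n127491 := d4_2 (iv7 F348972) F348970 (iv2 F361087)
theorem F361089 : act 4 n127491 = n147135 := d11_1 F361088 F230697 (iv4 F320367)
theorem F361090 : act 6 n127491 = n110647 := d14_1 F361088 (iv7 F340715) (iv6 D95601) (iv7 F348956) D97064
theorem F361091 : act 3 n110648 = n127491 := d7_3 F361090 (iv3 D110647) D110648
theorem F361092 : act 1 n110762 = n127493 := d18_8 D127491 F361089 (iv1 F230696) (iv4 F317651) F148720 (iv4 F335830) (iv0 D110770) (iv4 F171451) (iv5 D127493)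
theorem F361093 : act 4 n127493 = n97305 := d18_7 F356955 (iv4 F211592) F211589 F83932 (iv5 F80532) (iv4 F171451) F361092 (iv0 D97305) D97308
theorem E102681 : n132106 = n97305 := (c20_6 F46975 (iv1 F37698) F37695 (iv3 F47006) D61983 D132106 (iv4 F361093) (iv1 F361092) F171451 (iv3 D51068) (iv1 F46977))
theorem F361094 : act 3 n97305 = n61983 := (sb E102681 (iv3 D132106))
theorem F361095 : act 0 n127652 = n95605 := d21_7 D127493 (iv1 F361092) F330365 (iv6 F148026) (iv1 F148028) F308811 D127652 (iv5 D95605) D95606 F348969
theorem F361096 : act 2 n97305 = n163474 := d1_1 F361093 F332552 (iv2 F332546)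
theorem F361097 : act 0 n96248 = n127493 := d18_0 F361093 (iv1 F332556) (iv4 F332555) F148724 F70986 F71701 (iv4 F350619) (iv0 D96246) D96248
theorem F361098 : act 7 n163475 = n97305 := d15_2 (iv0 D163474) D163475 F361096
theorem F361099 : act 7 n97306 = n163474 := d15_2 (iv0 D97305) D97306 (iv2 F361096)
theorem F361100 : act 2 n163475 = n97306 := d4_3 F361099 (iv2 F361096) (iv7 F361098)
theorem F361101 : act 1 n163475 = n97309 := d15_0 F332553 (iv7 F361099) (iv2 F361100)
theorem F361102 : act 4 n183256 = n163475 := d18_5 (iv1 F340412) (iv4 F339493) (iv1 F188393) (iv4 F204926) F332543 F361101 F150046 F148725 F340407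
theorem F361103 : act 3 n106749 = n163475 := d20_5 F77775 (iv1 D24074) D24075 D49329 D106749 (iv4 F361102) (iv1 D183256) (iv4 F330364) F78014 (iv1 F77777)
theorem F361104 : act 1 n97306 = n163477 := d15_0 F332556 (iv7 F361098) F361100
theorem E102682 : n95650 = n95603 := ((c20_4 F314847 (iv1 F348962) (iv4 D95604) D95603 (iv1 D95650) F70251 (iv4 F58266) (iv1 F315254) F322039 F320368 (iv1 F71653))).symm
theorem F361105 : act 0 n95603 = n44678 := (sb E102682 (iv1 D95650))
theorem F361106 : act 2 n97056 = n95649 := d15_3 (iv0 D95649) (iv0 F361105) (iv7 F348960)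
theorem F361107 : act 6 n109553 = n97056 := d3_0 F361106 F348933 (iv2 F169503)
theorem F361108 : act 3 n97059 = n109553 := d7_3 F361107 (iv3 D97056) D97059
theorem F361109 : act 4 n97056 = n155493 := d10_1 F361107 (iv6 F353338) F324384
theorem F361110 : act 0 n95644 = n97056 := d21_4 F70751 (iv1 F34053) D44674 D95644 (iv6 F361107) (iv5 D109553) (iv1 F81393) F320053 (iv6 D44994) D44992
theorem E102683 : n184779 = n128452 := (c20_2 F357703 D184779 F206586 (iv3 F352386) (iv1 F353814) (iv3 F308360) F308361 F361110 F361109 (iv3 D155493) (iv1 F244494))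
theorem F361111 : act 1 n128452 = n88110 := (sb E102683 (iv0 D184779))
theorem E102684 : n184780 = n123845 := (c15_2 F361111 D184780 (iv7 F331656) F244511)
theorem F361112 : act 0 n123845 = n88110 := (sb E102684 (iv1 D184780))
theorem F361113 : act 2 n95601 = n97059 := d0_5 F361108 F169503 F79913 (iv2 F79901) (iv3 F340713)
theorem F361114 : act 4 n154544 = n97059 := d5_0 F361108 (iv4 F324384) (iv3 F353337) F244500 (iv3 F242593)
theorem F361115 : act 0 n97059 = n177165 := d20_10 F276574 (iv1 F341030) D116181 (iv3 F358016) F223013 (iv3 F174379) (iv4 F174381) (iv1 F324382) F324384 (iv3 F361108)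
theorem F361116 : act 2 n97063 = n95605 := d2_3 (iv5 D95605) F348957 D97063
theorem F361117 : act 7 n95600 = n97063 := d13_2 F348956 D95600 (iv5 D97063)
theorem F361118 : act 2 n97058 = n95600 := d4_3 F361117 F361116 (iv7 F348968)
theorem F361119 : act 1 n127652 = n95600 := d15_1 (iv0 F361095) F361117 F361116
theorem F361120 : act 6 n97076 = n97058 := d3_0 F361118 (iv6 F340716) (iv2 F149754)
theorem F361121 : act 4 n97058 = n97077 := d10_1 F361120 (iv6 D97077) D97076
theorem F361122 : act 6 n96267 = n95484 := d12_4 F361120 (iv5 D97058) D97059 F149722 (iv5 F149755)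
theorem F361123 : act 6 n166708 = n97066 := d21_9 (iv5 D45371) D45369 D97058 (iv6 F361120) F149757 F348738 (iv5 D160902) F122823 D166708 (iv1 D97066)
theorem F361124 : act 2 n97066 = n95608 := d3_1 F361123 (iv6 F348741) (iv2 F262406)
theorem F361125 : act 7 n95607 = n97066 := d15_2 F149731 F149732 F361124
theorem F361126 : act 7 n97065 = n95608 := d15_2 F149724 F149730 (iv2 F361124)
theorem F361127 : act 2 n95607 = n97065 := d4_3 F361126 (iv2 F361124) (iv7 F361125)
theorem F361128 : act 5 n127650 = n97065 := d13_3 F361126 (iv5 F148328) F320032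
theorem E102685 : n158025 = n104651 := (c21_5 (iv5 D44941) D44939 (iv5 F337312) D109864 F327096 (iv6 D104651) (iv5 F138063) (iv1 F149758) F149755 (iv6 F361122) (iv1 D96267))
theorem F361129 : act 0 n104651 = n75277 := (sb E102685 (iv1 D158025))
theorem F361130 : act 1 n104651 = n109864 := (sb E102685 (iv0 F327096))
theorem F361131 : act 7 n158024 = n104823 := d15_2 F361130 F327097 F160672
theorem E102686 : n158877 = n104649 := ((c20_4 F174520 (iv1 F361130) F160362 (iv3 F160361) (iv1 F250154) (iv3 F250173) (iv4 F254499) (iv1 F262096) (iv4 F262091) (iv3 D158048) (iv1 F326840))).symm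
theorem F361132 : act 0 n104649 = n84301 := (sb E102686 (iv1 F250154))
theorem F361133 : act 1 n104649 = n75810 := (sb E102686 (iv0 D158877))
theorem E102687 : n158899 = n104652 := ((c20_2 F160362 D104652 (iv4 F262427) (iv3 D166718) (iv1 F334001) (iv3 F358144) F169745 F83898 (iv4 F80027) (iv3 F169854) (iv1 F361130))).symm
theorem F361134 : act 3 n104652 = n75817 := (sb E102687 (iv3 D158899))
theorem F361135 : act 4 n104652 = n166718 := (sb E102687 (iv4 F262427))
theorem F361136 : act 7 n104652 = n84323 := (sb E102687 F254237)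
theorem E102688 : n176886 = n104653 := (c15_4 F160679 F160680 F361136 D176886)
theorem F361137 : act 2 n104653 = n84323 := (sb E102688 (iv2 D176886))
theorem F361138 : act 3 n104653 = n136278 := (sb E102688 (iv3 F359858))
theorem F361139 : act 6 n104653 = n136275 := (sb E102688 F359861)
theorem F361140 : act 4 n104826 = n158024 := d20_0 (iv1 F327097) (iv4 F174520) F174519 D112226 F326794 (iv4 F326800) F326797 F122831 (iv3 F361134) (iv1 F160680)
theorem F361141 : act 6 n174254 = n158024 := d14_5 F361131 (iv6 D104823) F76225 F343703 D174254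
theorem F361142 : act 2 n158024 = n174258 := d3_1 F361141 (iv6 D174258) (iv2 F273054)
theorem F361143 : act 4 n104664 = n174254 := d10_3 F361141 (iv4 F361140) F160677
theorem E102689 : n174256 = n104818 := (c1_3 F361143 F273054 D174256 F160654)
theorem F361144 : act 4 n104818 = n83291 := (sb E102689 (iv4 D174256))
theorem F361145 : act 4 n174258 = n104654 := d10_3 (iv6 F160656) F361144 D174258
theorem F361146 : act 7 n104651 = n174258 := d11_0 F361145 (iv7 D104654) (iv4 F160362)
theorem F361147 : act 4 n95623 = n95600 := d1_2 F361121 F149759 (iv2 F361118)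
theorem F361148 : act 1 n97061 = n109568 := d15_0 (iv0 D109568) D109571 F348953
theorem F361149 : act 4 n129847 = n129321 := d10_3 F348919 (iv4 D129854) (iv6 F208199)
theorem F361150 : act 2 n129477 = n129847 := d1_3 F361149 F348917 (iv4 F207635)
theorem F361151 : act 7 n129469 = n129847 := d11_0 F361149 F348920 (iv4 F207631)
theorem F361152 : act 4 n134736 = n136492 := d16_0 (iv5 D136492) F99880 D129847 F361149 (iv5 F350845) F204235 D134734 (iv7 F223438) F223437
theorem F361153 : act 0 n129847 = n129144 := d20_1 (iv4 F361149) (iv4 F214714) F214713 F336049 (iv3 F97762) F324787 F82858 D90496 F354209 (iv1 F348916)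
theorem F361154 : act 5 n133516 = n136747 := d18_4 (iv1 F348916) (iv4 F361149) F361153 (iv4 F214714) F219936 F180086 D140458 (iv0 F354195) (iv5 D129570)
theorem F361155 : act 1 n129847 = n129474 := d15_1 (iv0 F361153) F354194 (iv2 F214762)
theorem E102690 : n129475 = n129144 := (c15_1 D129475 (iv0 F361153) (iv7 F361151) F207630)
theorem F361156 : act 0 n129144 = n60842 := (sb E102690 (iv1 D129475))
theorem F361157 : act 6 n136500 = n134736 := d10_0 F361152 F219605 D136500
theorem F361158 : act 7 n129476 = n129814 := d16_8 (iv4 F99880) D136492 (iv4 F361152) (iv5 D134736) F324049 (iv5 D60872) (iv4 F95401) D129476 F208158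
theorem F361159 : act 2 n129848 = n129476 := d4_3 F361158 F208158 D129848
theorem F361160 : act 3 n129814 = n129487 := d8_1 F361158 (iv7 D129487) (iv3 F207633)
theorem F361161 : act 5 n129814 = n129477 := d13_1 F361158 (iv7 D129477) D129476
theorem F361162 : act 1 n129846 = n129476 := d15_1 D129846 F361158 F208158
theorem F361163 : act 6 n129487 = n129812 := d7_2 D129814 F361160 F208155
theorem E102691 : n132257 = n129813 := ((c12_3 F361163 (iv5 D129812) D129813 F211897 F96689 (iv5 F207637))).symm
theorem F361164 : act 5 n129813 = n62046 := (sb E102691 F211897)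
theorem F361165 : act 7 n129813 = n62045 := (sb E102691 (iv7 D132257))
theorem F361166 : act 7 n132256 = n126567 := d11_2 F361165 D132256 (iv4 F208157)
theorem F361167 : act 7 n132247 = n132526 := d14_2 F361165 (iv6 F211889) (iv6 D132526) F96927 D129813
theorem F361168 : act 4 n132184 = n129153 := d16_0 (iv5 D129153) F95325 F320259 (iv4 F322459) (iv5 F47062) (iv4 F96688) (iv5 F361164) F361165 (iv2 F211751)
theorem F361169 : act 2 n129153 = n132256 := d1_1 F361168 (iv4 D132256) (iv2 F211751)
theorem F361170 : act 3 n132256 = n126572 := d0_2 (iv3 F207394) F361169 F203567 (iv3 F345884) F203355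
theorem F361171 : act 5 n132256 = n129146 := d2_2 D129153 F361169 F207386
theorem F361172 : act 3 n132531 = n132247 := d8_3 F361167 F212708 D132531
theorem F361173 : act 5 n132526 = n132248 := d13_1 F361167 (iv7 D132248) D132247
theorem F361174 : act 3 n132248 = n132530 := d6_1 F361173 (iv5 D132530) (iv3 F212708)
theorem F361175 : act 7 n132530 = n132236 := d8_2 D132248 F361174 F211876
theorem F361176 : act 2 n132236 = n132564 := d4_1 F361175 (iv7 D132564) (iv2 F212721)
theorem F361177 : act 1 n132562 = n132236 := d15_1 D132562 (iv7 F361175) F212721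
theorem F361178 : act 6 n132564 = n132231 := d3_2 D132236 F361176 F211865
theorem F361179 : act 1 n132236 = n129130 := d15_0 F207370 D132564 (iv2 F361176)
theorem F361180 : act 5 n129469 = n129848 := d2_0 F361159 (iv5 D129476) (iv2 F207630)
theorem F361181 : act 1 n129476 = n129845 := d15_0 (iv0 D129845) D129848 F361159
theorem F361182 : act 0 n109571 = n183218 := d20_1 (iv4 F348890) F284870 F260459 D172113 F336063 (iv4 F319805) (iv1 F67782) F328614 (iv3 F348911) F348908
theorem F361183 : act 1 n95598 = n183218 := d15_0 (iv0 F361182) (iv7 D109571) (iv2 F348886)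
theorem F361184 : act 6 n132344 = n129345 := d7_2 F348906 D132344 (iv3 D129345)
theorem F361185 : act 6 n132345 = n129346 := d10_2 F348906 D132345 (iv4 D129346)
theorem E102692 : n129914 = n129705 := (c21_4 (iv5 D125998) F174616 F332142 D129914 (iv1 F207893) (iv6 F97098) F323625 F330781 (iv5 F330785) (iv6 F348906) (iv1 F324939))
theorem F361186 : act 6 n129705 = n61017 := (sb E102692 (iv6 D129914))
theorem F361187 : act 6 n147325 = n124562 := d3_0 F348855 (iv6 D147466) (iv2 F243350)
theorem F361188 : act 3 n124562 = n167576 := d7_1 F361187 (iv6 D167576) (iv3 F350791)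
theorem F361189 : act 7 n167576 = n124560 := d8_2 D124562 F361188 (iv3 D124560)
theorem F361190 : act 3 n156644 = n116051 := d6_1 F348845 (iv5 D116051) D116049
theorem F361191 : act 7 n116051 = n150911 := d8_2 (iv7 F350119) F361190 (iv3 F319308)
theorem F361192 : act 2 n150915 = n116051 := d4_3 F361191 (iv2 F327178) (iv7 F342375)
theorem F361193 : act 1 n145673 = n116056 := d15_1 (iv0 F342379) (iv7 F342375) F361192
theorem F361194 : act 0 n179036 = n116050 := d20_1 D179036 (iv4 D116050) D116049 F348843 F101748 F324992 F323715 F60373 (iv3 F60370) D85413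
theorem F361195 : act 4 n128342 = n157155 := d11_1 F348842 F348820 F348827
theorem F361196 : act 1 n147492 = n145381 := d18_6 F243344 F105461 (iv1 F242682) (iv4 D69128) D69129 D147492 F348827 F341035 (iv5 F313262)
theorem F361197 : act 1 n107011 = n111336 := d15_0 (iv0 F172785) F348803 (iv2 F164951)
theorem F361198 : act 3 n107011 = n113417 := d0_2 F348800 (iv2 F164951) F204664 (iv3 D108922) (iv2 F204635)
theorem F361199 : act 3 n110938 = n125710 := d5_3 F202203 F348800 (iv4 F171975) (iv4 D125710) D125709
theorem F361200 : act 4 n144327 = n111345 := d20_0 (iv1 D111345) F81050 F79514 F169973 D109105 F169974 F202204 F202203 F348800 D144327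
theorem F361201 : act 4 n111344 = n144328 := d20_0 (iv1 D144328) (iv4 F171975) F361199 F202207 (iv3 D110256) (iv4 D50842) (iv1 F38702) (iv4 F39263) (iv3 F81049) D111344
theorem F361202 : act 0 n110938 = n108674 := d20_10 (iv4 D108674) (iv1 D50177) (iv4 F39168) (iv3 D24966) D24964 D51344 F81039 D58865 D125710 (iv3 F361199)
theorem F361203 : act 3 n144328 = n134817 := d20_9 F323078 (iv1 D86225) (iv4 F132156) F132155 (iv1 F324492) (iv3 F79514) (iv4 F81050) D111344 F361201 (iv1 F216943)
theorem F361204 : act 7 n111341 = n144328 := d8_0 F361203 F358826 F172787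
theorem E102693 : n111344 = n111334 := (c11_2 F361204 (iv4 F361201) (iv7 F172784) D111341)
theorem F361205 : act 0 n111334 = n51354 := (sb E102693 (iv1 F172788))
theorem F361206 : act 1 n111334 = n51352 := (sb E102693 (iv0 D111344))
theorem F361207 : act 4 n111334 = n144328 := (sb E102693 F361201)
theorem F361208 : act 2 n111341 = n144327 := d15_3 (iv0 D144327) D144328 (iv7 F361204)
theorem E102694 : n111345 = n111339 := (c1_3 D111341 F361208 F361200 F172786)
theorem F361209 : act 0 n111339 = n51352 := (sb E102694 (iv1 D111345))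
theorem F361210 : act 1 n111339 = n51354 := (sb E102694 F172789)
theorem F361211 : act 4 n111339 = n144327 := (sb E102694 (iv4 F361200))
theorem F361212 : act 7 n144327 = n111336 := d11_2 D111339 F361211 (iv4 D111336)
theorem F361213 : act 2 n111336 = n144328 := d4_1 F361212 (iv7 F361204) F361208
theorem F361214 : act 1 n111341 = n107011 := d15_0 F361197 (iv7 F361212) (iv2 F361208)
theorem F361215 : act 1 n108927 = n111341 := d15_1 (iv0 F172785) F361204 (iv2 F361213)
theorem F361216 : act 6 n113417 = n107009 := d7_2 D107011 F361198 F164949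
theorem F361217 : act 5 n184593 = n113417 := d12_5 F361216 (iv5 D107009) (iv6 F295631) F292255 D184593
theorem F361218 : act 6 n112456 = n110155 := d14_5 (iv7 F204627) F361216 (iv7 F171972) F343552 F204642
theorem F361219 : act 3 n107478 = n185668 := d5_5 (iv4 F348731) F348749 F211178 F163714 (iv4 F165811)
theorem F361220 : act 7 n185660 = n107478 := d8_0 F361219 (iv7 D185668) (iv3 F287968)
theorem F361221 : act 4 n107481 = n185660 := d11_3 F361220 F165811 D107481
theorem F361222 : act 5 n96013 = n89237 := d17_1 F148347 (iv1 F286027) F348704 (iv4 D95361) F293160 (iv0 F292365) D89871 F137959 D96383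
theorem F361223 : act 6 n128200 = n182967 := d3_0 F348702 (iv6 F240580) F240579
theorem E102695 : n148382 = n134568 := ((c7_3 (iv6 F338700) F348625 (iv6 F334093) (iv3 F338701))).symm
theorem F361224 : act 2 n134568 = n69534 := (sb E102695 F232151)
theorem F361225 : act 3 n134568 = n135326 := (sb E102695 (iv3 F338701))
theorem F361226 : act 4 n134568 = n69533 := (sb E102695 (iv4 D148382))
theorem F361227 : act 3 n124978 = n152628 := d7_3 F348623 F256390 (iv6 F322696)
theorem E102696 : n130321 = n129015 := (c20_1 D130321 (iv1 D129015) (iv4 F207266) F207265 (iv1 F348619) F100703 F48897 D30499 D64904 (iv3 F333895) (iv1 F333898))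
theorem F361228 : act 2 n129015 = n132745 := (sb E102696 F338399)
theorem F361229 : act 4 n129015 = n61157 := (sb E102696 (iv4 D130321))
theorem F361230 : act 6 n129015 = n132084 := (sb E102696 (iv6 F354355))
theorem E102697 : n135047 = n100855 := (c20_4 F98617 (iv1 F327627) F327630 D135047 F270427 F270425 F337842 F348617 (iv4 F324214) (iv3 D98446) (iv1 F326258))
theorem F361231 : act 3 n100855 = n63468 := (sb E102697 (iv3 D135047))
theorem F361232 : act 4 n100855 = n134498 := (sb E102697 F217273)
theorem F361233 : act 6 n141291 = n100855 := d7_0 F361231 F329971 (iv3 F224308)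
theorem E102698 : n129014 = n128904 := (c20_8 F47310 (iv1 F23789) (iv4 F80108) D62288 (iv1 F348616) (iv3 F207265) F207266 D129014 F207138 (iv3 D61036) F79885)
theorem F361234 : act 1 n128904 = n60661 := (sb E102698 (iv0 D129014))
theorem E102699 : n129009 = n89196 := ((c20_3 (iv4 F72711) F72709 (iv4 F136899) F207262 (iv1 F361234) (iv3 D128904) (iv4 D60623) F93020 F327634 (iv3 D46107) D46105)).symm
theorem F361235 : act 3 n89196 = n60661 := (sb E102699 F207262)
theorem F361236 : act 6 n89196 = n60658 := (sb E102699 (iv6 D129009))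
theorem F361237 : act 6 n113526 = n101536 := d12_2 F361236 (iv5 F345747) (iv5 D101536) (iv6 F127126) (iv5 F136900)
theorem F361238 : act 3 n101536 = n129013 := d7_1 F361237 (iv6 D129013) (iv3 F345746)
theorem F361239 : act 4 n101536 = n175446 := d10_1 F361237 (iv6 D175446) (iv4 F327541)
theorem F361240 : act 2 n163622 = n101536 := d1_3 F361239 F323504 F302831
theorem F361241 : act 5 n89189 = n163622 := d2_0 F361240 (iv5 D101536) (iv2 F136883)
theorem F361242 : act 5 n129013 = n101535 := d6_2 D101536 F361238 (iv3 D101535)
theorem E102700 : n172229 = n129016 := (c12_3 D129013 F361242 (iv6 F270496) (iv5 D129016) (iv6 D60661) D60660)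
theorem F361243 : act 3 n129016 = n82490 := (sb E102700 (iv3 D172229))
theorem F361244 : act 6 n129016 = n101535 := (sb E102700 F270496)
theorem F361245 : act 7 n101535 = n135820 := d13_2 F347416 F361242 F359333
theorem F361246 : act 3 n135820 = n101537 := d8_1 F361245 (iv7 D101537) D101535
theorem F361247 : act 4 n135827 = n101535 := d11_3 F361245 F218464 D135827
theorem F361248 : act 3 n101483 = n135827 := d5_5 F361247 (iv3 D101535) (iv4 D47234) (iv3 F74492) D101483
theorem F361249 : act 0 n135569 = n135827 := d20_7 F272844 (iv1 F136729) (iv4 F326583) F95208 D60595 D128854 (iv4 F218009) F361247 (iv3 D101535) D101533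
theorem F361250 : act 7 n135814 = n101483 := d8_0 F361248 (iv7 D135827) (iv3 F218445)
theorem F361251 : act 6 n101537 = n135818 := d7_2 D135820 F361246 (iv3 D135818)
theorem E102701 : n129017 = n89194 := (c8_3 D89196 F361235 D129017 (iv3 D89194))
theorem F361252 : act 7 n89194 = n60661 := (sb E102701 (iv7 D129017))
theorem F361253 : act 6 n163623 = n89194 := d14_5 F361252 (iv6 D60661) F95255 D128981 (iv7 F342195)
theorem F361254 : act 6 n173245 = n180182 := d14_5 F348552 (iv6 D180804) F256539 F328759 (iv7 F271584)
theorem F361255 : act 6 n164521 = n110343 := d12_4 D110344 F348548 F309291 D164521 (iv5 D110343)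
theorem F361256 : act 3 n110345 = n164521 := d7_3 F361255 F170598 D110345
theorem F361257 : act 0 n104809 = n111781 := d20_7 (iv4 D59113) F166169 (iv4 F80276) (iv3 F170601) F348546 (iv3 F340274) F340307 F173483 F105212 F161316
theorem F361258 : act 0 n133062 = n147694 := d18_0 F340307 F361257 F173483 F333676 (iv4 D62432) F47330 (iv4 F96319) F97307 D133062
theorem E102702 : n182861 = n97290 := ((c21_4 F148724 (iv1 F70989) D45446 D97290 (iv1 F284410) (iv6 F138388) F340303 F361257 (iv5 F340402) (iv6 D97299) (iv1 F148727))).symm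
theorem F361259 : act 0 n97290 = n88463 := (sb E102702 (iv1 F284410))
theorem F361260 : act 1 n97290 = n87293 := (sb E102702 (iv0 D182861))
theorem E102703 : n185736 = n182862 := ((c15_2 F361260 D182862 (iv7 D185736) (iv2 F358277))).symm
theorem F361261 : act 2 n182862 = n88462 := (sb E102703 F288016)
theorem F361262 : act 7 n182862 = n88461 := (sb E102703 (iv7 D185736))
theorem F361263 : act 0 n163343 = n177700 := d21_1 D163343 (iv5 F322507) F322508 F361258 F336602 (iv5 F333990) (iv1 F188366) D128000 (iv6 F351996) (iv1 D163342)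
theorem E102704 : n174863 = n167092 := (c8_3 (iv7 F259327) F348540 D174863 F263181)
theorem F361264 : act 0 n167092 = n158536 := (sb E102704 (iv1 F273759))
theorem F361265 : act 1 n167092 = n158175 := (sb E102704 F273760)
theorem F361266 : act 2 n167092 = n158533 := (sb E102704 F273756)
theorem F361267 : act 4 n167092 = n101131 := (sb E102704 F273757)
theorem F361268 : act 5 n167092 = n158388 := (sb E102704 F273758)
theorem F361269 : act 7 n167092 = n83528 := (sb E102704 (iv7 D174863))
theorem F361270 : act 3 n158536 = n111892 := d20_5 (iv4 F239879) (iv1 F353456) (iv4 F259326) (iv3 F263181) F361264 (iv4 D111892) (iv1 F324101) (iv4 F123161) (iv3 F303240) (iv1 D152672)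
theorem F361271 : act 6 n112533 = n119703 := d3_0 F348539 (iv6 F348536) (iv2 F225467)
theorem F361272 : act 3 n119703 = n112535 := d7_1 F361271 (iv6 D112535) (iv3 F174998)
theorem F361273 : act 6 n149064 = n115641 := d10_2 F361271 (iv4 F234427) F180006
theorem F361274 : act 3 n110585 = n158389 := d0_2 F361272 F175011 F262965 D175462 (iv2 F348539)
theorem F361275 : act 3 n111847 = n149065 := d5_3 F234427 F361272 F175012 (iv4 D149065) D149064
theorem F361276 : act 6 n149065 = n111846 := d7_2 D111847 F361275 (iv3 D111846)
theorem F361277 : act 7 n149213 = n111847 := d8_0 F361275 F234430 D149213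
theorem F361278 : act 0 n184198 = n111847 := d20_4 D103601 F342449 F314955 (iv3 F286126) F361275 (iv4 D149065) (iv1 D69921) (iv4 F75351) F75350 D47985
theorem F361279 : act 0 n111847 = n98333 := d20_4 F106432 (iv1 F106348) D149065 (iv3 F361275) (iv3 D98333) (iv4 D46007) D46006 (iv4 F136272) F353225 (iv1 F158910)
theorem E102705 : n175203 = n112535 := ((c20_1 (iv4 F175012) (iv1 D175203) (iv4 F335525) F147436 (iv1 F350555) (iv3 D103600) D103601 F342449 F314955 (iv3 F286126) F361278)).symm
theorem F361280 : act 0 n112535 = n83677 := (sb E102705 (iv1 D175203))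
theorem F361281 : act 5 n112535 = n175073 := (sb E102705 (iv5 F274245))
theorem F361282 : act 7 n175460 = n110585 := d8_0 F361274 (iv7 F262966) D175460
theorem F361283 : act 0 n145267 = n110585 := d20_4 F339226 (iv1 F186267) F335528 (iv3 F311009) F361274 F336443 F336447 F115806 (iv3 F177554) (iv1 F348644)
theorem F361284 : act 0 n110585 = n119469 := d19_4 D58248 D124652 (iv4 F336443) (iv3 F361274) (iv5 D119469) (iv4 F178733) F307724 (iv1 F96161) F318737 (iv4 F320867) (iv3 F344764) (iv1 D124632) (iv5 D58233) (iv4 D27741) (iv3 D13240) (iv1 D6289) D6290 D13246 D27748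
theorem E102706 : n184196 = n109564 := ((c20_7 F192207 (iv1 F318728) (iv4 F320550) (iv3 F304584) (iv1 F249557) (iv3 F361274) F171155 (iv1 D184196) (iv4 F304284) F187455 (iv1 F316416))).symm
theorem F361285 : act 0 n109564 = n87856 := (sb E102706 (iv1 D184196))
theorem F361286 : act 0 n134270 = n159052 := d21_7 F338483 (iv1 F294195) F328109 (iv6 D63466) D63462 (iv6 F347104) D134270 (iv5 F348519) (iv6 F339541) F338479
theorem E102707 : n134270 = n134180 := (c15_1 (iv0 F361286) (iv0 D134180) (iv7 F215990) F348518)
theorem F361287 : act 0 n134180 = n159052 := (sb E102707 F361286)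
theorem F361288 : act 5 n134180 = n63081 := (sb E102707 (iv5 D134270))
theorem F361289 : act 6 n178906 = n157082 := d3_0 F348493 (iv6 D178908) D178906
theorem F361290 : act 6 n108872 = n134209 := d10_2 F361289 (iv4 F352230) F351348
theorem F361291 : act 5 n157079 = n178906 := d12_5 F361289 (iv5 D157082) (iv6 D74686) D74685 D157079
theorem F361292 : act 2 n178907 = n157079 := d2_3 F361291 (iv2 D178906) D178907
theorem F361293 : act 3 n134209 = n108876 := d7_1 F361290 F168871 (iv3 F168869)
theorem F361294 : act 5 n134209 = n108869 := d12_1 F361290 (iv6 D108869) (iv5 D50269) D50270 D108872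
theorem F361295 : act 0 n108869 = n101151 := d21_7 D140330 (iv1 F350891) (iv5 D115743) D115744 (iv1 F353059) F361290 F361294 F332988 (iv6 F98550) (iv1 F101519)
theorem F361296 : act 0 n134821 = n106924 := d20_1 (iv4 F216954) F164790 (iv3 F168868) F361295 (iv3 D101151) (iv4 D47114) D47112 (iv4 F274947) F332978 F345276
theorem F361297 : act 1 n108869 = n108581 := d15_1 (iv0 F361295) (iv7 D108581) (iv2 F332987)
theorem F361298 : act 4 n108876 = n156050 := d20_6 (iv4 D24420) F23691 D29825 D63048 D134209 F361293 (iv1 D156050) F111080 (iv3 D65034) (iv1 F48967)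
theorem F361299 : act 6 n156050 = n108885 := d10_2 (iv6 F168871) F361298 (iv4 D108885)
theorem F361300 : act 4 n178690 = n111839 := d10_1 F348480 (iv6 D111839) (iv4 F324387)
theorem F361301 : act 5 n178690 = n111138 := d21_6 F64462 (iv1 D22848) D22849 (iv6 F74746) D102511 F348480 (iv1 F329724) (iv5 D89578) (iv6 D41834) (iv1 F64461)
theorem F361302 : act 3 n111138 = n175404 := d6_1 F361301 F274448 D178690
theorem F361303 : act 7 n111214 = n111138 := d8_0 F361302 (iv7 F349786) F245438
theorem F361304 : act 2 n111138 = n111215 := d15_3 F172482 F172477 F361303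
theorem F361305 : act 2 n111214 = n111139 := d15_3 (iv0 F329723) F329724 (iv7 F361303)
theorem E102708 : n141128 = n110879 := (c3_4 (iv6 F350407) F361305 F350416 (iv2 F224102))
theorem F361306 : act 2 n110879 = n66198 := (sb E102708 F224102)
theorem F361307 : act 7 n110879 = n66197 := (sb E102708 (iv7 D141128))
theorem F361308 : act 7 n111139 = n111215 := d4_2 (iv7 F361303) F361305 (iv2 F361304)
theorem F361309 : act 7 n141124 = n115545 := d8_2 F361307 D141124 (iv3 F179843)
theorem F361310 : act 7 n141126 = n100599 := d13_2 F361307 D141126 (iv5 F350405)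
theorem E102709 : n141123 = n110880 := (c15_4 F171784 F171779 F361307 D141123)
theorem F361311 : act 2 n110880 = n66197 := (sb E102709 (iv2 D141123))
theorem F361312 : act 7 n110880 = n66198 := (sb E102709 (iv7 F224100))
theorem F361313 : act 7 n139326 = n100598 := d13_2 F361312 (iv5 F350414) F350412
theorem F361314 : act 2 n100598 = n139325 := d15_3 (iv0 D139325) D139326 F361313
theorem F361315 : act 2 n139326 = n100599 := d15_3 (iv0 F354331) F350411 (iv7 F361313)
theorem E102710 : n141126 = n139325 := (c4_3 (iv7 F361313) F361315 (iv7 F361310) (iv2 F361314))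
theorem F361316 : act 5 n139325 = n66197 := (sb E102710 (iv5 D141126))
theorem F361317 : act 7 n139325 = n100599 := (sb E102710 F361310)
theorem F361318 : act 2 n141124 = n115540 := d15_3 (iv0 F224189) (iv0 F224188) (iv7 F361309)
theorem F361319 : act 0 n180606 = n178565 := d21_7 (iv5 D119232) (iv1 D54867) D54868 (iv6 F187599) F313003 F348467 D180606 F348476 F323146 (iv1 F322771)
theorem F361320 : act 1 n180606 = n109566 := d15_1 (iv0 F361319) F328398 (iv2 F278294)
theorem F361321 : act 1 n180601 = n178565 := d15_0 (iv0 F361319) F352272 F354751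
theorem F361322 : act 1 n109566 = n180601 := d15_0 F361321 (iv7 F348473) (iv2 F348474)
theorem E102711 : n180602 = n113166 := (c21_10 D113167 (iv1 F350828) F350830 (iv6 F330807) F322772 (iv6 F323146) (iv5 F348476) (iv1 F361321) (iv5 D180601) D180602 (iv1 D113166))
theorem F361323 : act 2 n113166 = n125993 := (sb E102711 F352287)
theorem F361324 : act 6 n113166 = n86264 := (sb E102711 (iv6 D180602))
theorem F361325 : act 7 n113166 = n125994 := (sb E102711 (iv7 F352284))
theorem E102712 : n149041 = n113165 := (c15_4 (iv0 D113165) D113166 F361325 F352281)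
theorem F361326 : act 2 n113165 = n125994 := (sb E102712 (iv2 F352281))
theorem F361327 : act 6 n113165 = n69905 := (sb E102712 (iv6 D149041))
theorem F361328 : act 7 n113165 = n125993 := (sb E102712 F352273)
theorem F361329 : act 2 n180611 = n109896 := d15_3 (iv0 F348468) F348464 D180611
theorem F361330 : act 0 n147375 = n131522 := d20_10 F348466 (iv1 D86265) (iv4 F132220) F323161 F81875 D110027 F170161 F170058 F170588 (iv3 F231092)
theorem F361331 : act 1 n166145 = n121736 := d15_1 (iv0 F332147) (iv7 F348460) F175159
theorem E102713 : n173795 = n153208 := (c20_5 F249851 (iv1 F134986) (iv4 F332320) F330213 D173795 (iv3 F348442) F348443 F317093 D174033 F286404 F286406)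
theorem F361332 : act 1 n153208 = n83107 := (sb E102713 (iv0 D173795))
theorem F361333 : act 7 n173796 = n153588 := d15_2 F361332 D173796 F241411
theorem F361334 : act 0 n107948 = n173797 := d20_10 (iv4 D173797) (iv1 F361332) F240569 (iv3 F303371) F319335 (iv3 D71665) (iv4 D33136) (iv1 F52267) (iv4 F78850) D107948
theorem F361335 : act 3 n149674 = n135463 := d20_5 (iv4 F344948) F361334 (iv4 D173797) (iv3 F330213) F341209 F217804 (iv1 F214925) F214927 (iv3 F344945) (iv1 F344944)
theorem E102714 : n173797 = n153333 := ((c15_1 D153333 (iv0 F361334) F166811 (iv2 F310706))).symm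
theorem F361336 : act 1 n153333 = n107948 := (sb E102714 (iv0 F361334))
theorem F361337 : act 4 n153333 = n83107 := (sb E102714 (iv4 D173797))
theorem F361338 : act 6 n153333 = n83114 := (sb E102714 F272379)
theorem F361339 : act 7 n151505 = n153333 := d11_0 F361337 D173798 (iv4 F342643)
theorem F361340 : act 3 n120148 = n173796 := d20_9 (iv4 F361337) (iv1 D153333) (iv4 F178517) F178516 F308845 D134664 F216689 F215586 F189777 (iv1 D173796)
theorem F361341 : act 2 n153333 = n151506 := d15_3 F238371 F238368 F361339
theorem F361342 : act 2 n151505 = n153332 := d15_3 (iv0 D153332) D153333 (iv7 F361339)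
theorem F361343 : act 7 n153332 = n151506 := d4_2 (iv7 F361339) F361342 (iv2 F361341)
theorem E102715 : n153332 = n120562 := ((c8_4 F361343 (iv3 F344786) F307362 D120562)).symm
theorem F361344 : act 1 n120562 = n72446 := (sb E102715 (iv0 D153332))
theorem F361345 : act 2 n120562 = n151505 := (sb E102715 (iv2 F361342))
theorem F361346 : act 7 n120562 = n151506 := (sb E102715 F361343)
theorem F361347 : act 1 n107948 = n120562 := d15_1 F361336 F361346 (iv2 F361341)
theorem F361348 : act 4 n151506 = n167566 := d1_2 (iv4 F361337) F361341 F263819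
theorem F361349 : act 6 n151506 = n104126 := d3_2 (iv6 F361338) F361341 F310297
theorem E102716 : n167566 = n148847 := (c5_1 F361348 (iv3 D148847) (iv4 F130791) (iv3 F130790) (iv4 F307361) F344786)
theorem F361350 : act 2 n148847 = n83107 := (sb E102716 F263819)
theorem F361351 : act 4 n148847 = n151506 := (sb E102716 (iv4 F361348))
theorem F361352 : act 5 n148847 = n80422 := (sb E102716 (iv5 D167566))
theorem F361353 : act 6 n148847 = n83091 := (sb E102716 F263820)
theorem F361354 : act 0 n148847 = n153588 := d20_1 (iv4 F361351) F241412 F303368 D150235 F315123 (iv4 D71757) (iv1 F52396) D63644 D135384 (iv1 F238371)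
theorem F361355 : act 5 n153588 = n178633 := d17_3 (iv1 D167565) (iv5 F361352) F361354 (iv4 F278426) (iv5 F354222) (iv0 D136346) F325430 D167569 F342688
theorem F361356 : act 1 n178633 = n181803 := d17_6 (iv1 F155164) D83902 D175769 (iv5 F303369) (iv4 F241412) F361355 F344827 (iv0 D174376) F128476
theorem F361357 : act 5 n143604 = n149674 := d6_0 F361335 (iv5 F312526) (iv3 F226294)
theorem F361358 : act 6 n128175 = n174379 := d14_5 F348434 (iv6 D124713) F92157 D60255 D128175
theorem F361359 : act 1 n163670 = n161611 := d15_1 (iv0 F348428) F303679 F348427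
theorem E102717 : n175077 = n163530 := (c14_1 D175077 F348425 (iv7 F175491) F319925 (iv7 D83623) (iv6 F128687))
theorem F361360 : act 1 n163530 = n112615 := (sb E102717 (iv0 F337612))
theorem F361361 : act 5 n163530 = n83609 := (sb E102717 F274052)
theorem F361362 : act 7 n163530 = n83608 := (sb E102717 (iv7 D175077))
theorem F361363 : act 4 n119449 = n111774 := d16_0 (iv5 D111774) (iv4 F170603) (iv5 F333436) (iv4 D131420) D131421 F311433 (iv5 F361361) F361362 (iv2 F188221)
theorem F361364 : act 3 n111779 = n152589 := d5_3 F361363 F173462 D111779 (iv4 D152589) (iv3 F188222)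
theorem E102718 : n175269 = n131420 := ((c16_8 (iv4 D131340) F311166 F107042 D119449 F361363 (iv5 D111774) (iv4 F170603) (iv5 F333436) (iv7 D175269) (iv2 F333438))).symm
theorem F361365 : act 7 n131420 = n83695 := (sb E102718 (iv7 D175269))
theorem F361366 : act 3 n164562 = n129031 := d0_2 F361364 (iv2 F259398) (iv2 F222196) F337396 (iv2 F173473)
theorem E102719 : n176997 = n128731 := ((c17_3 (iv1 F161170) F332761 D128731 F348388 (iv4 D125596) (iv5 F94074) (iv0 F168063) (iv5 D59000) (iv0 F168060) (iv4 F76542))).symm
theorem F361367 : act 3 n128731 = n84359 := (sb E102719 (iv3 D176997))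
theorem F361368 : act 5 n128731 = n125596 := (sb E102719 F348388)
theorem F361369 : act 6 n128731 = n170641 := (sb E102719 F276379)
theorem F361370 : act 7 n128731 = n84508 := (sb E102719 F276380)
theorem F361371 : act 6 n113245 = n180022 := d14_3 F361370 (iv6 F325289) (iv7 F176439) F280404 (iv6 F361369)
theorem F361372 : act 2 n180022 = n113247 := d3_1 F361371 (iv6 D113247) D113245
theorem F361373 : act 6 n113439 = n125552 := d21_3 F361368 F202045 (iv5 F176626) F342901 F343572 (iv5 D60530) (iv1 D28746) D28748 D60538 D128731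
theorem E102720 : n177409 = n125556 := ((c3_3 F361373 (iv2 D125552) D125556 F343940)).symm
theorem F361374 : act 0 n125556 = n84524 := (sb E102720 (iv1 D177409))
theorem F361375 : act 1 n125556 = n105232 := (sb E102720 F332910)
theorem F361376 : act 2 n125556 = n113439 := (sb E102720 F343940)
theorem F361377 : act 5 n125556 = n125521 := (sb E102720 (iv5 F343939))
theorem F361378 : act 7 n125556 = n113440 := (sb E102720 F343941)
theorem F361379 : act 5 n125552 = n125602 := d12_1 F361373 (iv6 D125602) (iv5 D58810) D58811 (iv5 F176626)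
theorem F361380 : act 5 n107528 = n106106 := d21_0 (iv1 F163224) (iv5 D106219) (iv6 F92934) (iv1 F342902) (iv6 F361373) F176626 F202041 (iv5 F348397) F165894 D107528
theorem F361381 : act 5 n125913 = n125586 := d17_7 D107528 F361380 (iv1 F163224) (iv5 D106219) (iv4 F92933) D125564 F202396 (iv0 D125586) F92966
theorem F361382 : act 0 n176530 = n170641 := d21_4 (iv5 F93159) D125913 F361381 (iv6 F356084) (iv6 F361369) F361368 F202045 (iv5 F176626) F361373 F342901
theorem E102721 : n125731 = n125555 := (c2_2 F361379 (iv2 F202228) (iv5 D125555) D125552)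
theorem F361383 : act 2 n125555 = n125602 := (sb E102721 F202228)
theorem F361384 : act 4 n125555 = n125609 := (sb E102721 F202229)
theorem F361385 : act 6 n125555 = n58871 := (sb E102721 (iv6 D125731))
theorem F361386 : act 7 n125602 = n125560 := d13_2 F201969 F361379 (iv5 D125560)
theorem F361387 : act 1 n125555 = n125589 := d15_0 F348403 (iv7 F361386) (iv2 F361383)
theorem F361388 : act 0 n125632 = n125568 := d21_4 (iv5 D27991) D27989 (iv5 F92995) D125632 (iv6 D125568) (iv5 D58788) D58785 D125555 F361385 (iv1 D58871)
theorem F361389 : act 6 n96677 = n125557 := d14_3 F361378 F358040 F281467 (iv7 D125557) D125556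
theorem F361390 : act 2 n113440 = n177408 := d15_3 (iv0 D177408) (iv0 F361374) F361378
theorem F361391 : act 7 n113439 = n177408 := d4_2 (iv7 F361378) F361376 (iv2 F361390)
theorem F361392 : act 5 n177408 = n125603 := d13_1 F361391 (iv7 D125603) (iv5 F176626)
theorem F361393 : act 1 n125744 = n113439 := d15_1 F332912 F361391 (iv2 F361390)
theorem F361394 : act 1 n105232 = n177408 := d15_1 F361375 (iv7 F361391) (iv2 F361376)
theorem F361395 : act 6 n177408 = n96676 := d3_2 (iv6 F358040) F361390 (iv2 F281469)
theorem E102722 : n180812 = n125561 := (c14_3 F361391 F361395 F281470 (iv6 D125561) F201969 (iv6 F361373))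
theorem F361396 : act 0 n125561 = n96678 := (sb E102722 (iv1 F281464))
theorem F361397 : act 1 n125561 = n86360 := (sb E102722 (iv0 D180812))
theorem F361398 : act 2 n125561 = n96677 := (sb E102722 (iv2 F281468))
theorem F361399 : act 7 n125561 = n96676 := (sb E102722 (iv7 F281470))
theorem F361400 : act 5 n113244 = n106221 := d21_0 (iv1 D106221) (iv5 D49083) (iv6 F45174) D58785 D125556 F361377 F201877 F348385 (iv6 F325289) (iv1 F176441)
theorem F361401 : act 2 n143270 = n117913 := d3_3 F333250 F348323 D143270
theorem E102723 : n143270 = n138964 := ((c0_1 D138964 F361401 (iv3 D117913) F200097 D69669 F318390)).symm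
theorem F361402 : act 2 n138964 = n117913 := (sb E102723 F361401)
theorem F361403 : act 5 n138964 = n105435 := (sb E102723 (iv5 F333265))
theorem F361404 : act 6 n138964 = n67118 := (sb E102723 (iv6 D143270))
theorem F361405 : act 0 n124894 = n138964 := d21_4 (iv5 D27795) D27791 D58387 D124894 F361404 F348314 F311662 (iv5 F187241) F232627 (iv1 D58402)
theorem F361406 : act 0 n138964 = n117318 := d21_4 F342592 (iv1 D133738) (iv5 F348314) (iv6 F361404) F183686 (iv5 D54071) (iv1 F41479) D26684 D55223 D120000
theorem F361407 : act 7 n138964 = n146356 := d15_2 (iv0 F233411) (iv0 F361406) (iv2 F233153)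
theorem F361408 : act 0 n156662 = n108134 := d20_1 D156662 (iv4 F222264) (iv3 F334984) F361405 (iv3 D138964) D138965 (iv1 F356607) F244738 F185791 F317357
theorem F361409 : act 7 n145115 = n139081 := d15_2 (iv0 F361408) (iv0 F357855) F222270
theorem E102724 : n167921 = n143249 := (c18_6 F311662 (iv4 F309784) F312451 F133097 (iv5 F191355) D167921 (iv0 D143249) F103072 D67118 F348314)
theorem F361410 : act 2 n143249 = n116330 := (sb E102724 (iv2 F319691))
theorem F361411 : act 4 n143249 = n80603 := (sb E102724 (iv4 D167921))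
theorem F361412 : act 7 n143249 = n116335 := (sb E102724 (iv7 F319703))
theorem E102725 : n167918 = n143250 := ((c15_2 (iv0 D143249) D143250 (iv7 F319692) (iv2 F361410))).symm
theorem F361413 : act 2 n143250 = n116335 := (sb E102725 (iv2 F319702))
theorem F361414 : act 4 n143250 = n80602 := (sb E102725 (iv4 D167918))
theorem F361415 : act 7 n143250 = n116330 := (sb E102725 (iv7 F319692))
theorem F361416 : act 6 n138688 = n143250 := d10_0 F361414 F319539 D138688
theorem F361417 : act 6 n143251 = n139519 := d10_2 D141418 F348309 (iv4 F223160)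
theorem F361418 : act 5 n139519 = n143248 := d12_1 F361417 (iv6 D143248) (iv5 D67111) D67112 D143251
theorem F361419 : act 4 n143248 = n140035 := d16_2 F223160 F361418 (iv5 D140035) (iv4 D65735) (iv5 F105775) D30982 D66332 (iv7 F181263) F181262
theorem F361420 : act 6 n140035 = n143247 := d10_2 D143248 F361419 (iv4 D143247)
theorem F361421 : act 0 n141484 = n143248 := d18_2 F223264 D141484 F361419 (iv5 D140035) (iv4 D65735) (iv0 D30778) D30780 D65744 D140054
theorem F361422 : act 3 n175147 = n138661 := d8_3 (iv7 F246532) F348303 (iv7 F274134)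
theorem E102726 : n178639 = n146835 := ((c20_9 (iv4 D175311) (iv1 F128783) D83737 (iv3 F348303) (iv1 F348299) F224553 F105070 (iv1 F105021) D146835 (iv3 D178639) F274446)).symm
theorem F361423 : act 3 n146835 = n85086 := (sb E102726 (iv3 D178639))
theorem E102727 : n155490 = n129735 := ((c7_3 (iv6 F230192) F361423 (iv6 F315809) (iv3 D155490))).symm
theorem F361424 : act 3 n129735 = n73952 := (sb E102727 (iv3 D155490))
theorem E102728 : n178564 = n146963 := (c8_3 (iv7 F230193) F361423 (iv7 F278293) (iv3 D146963))
theorem F361425 : act 2 n146963 = n85131 := (sb E102728 F278292)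
theorem F361426 : act 4 n146963 = n85031 := (sb E102728 (iv4 D178564))
theorem F361427 : act 5 n146963 = n156166 := (sb E102728 F349781)
theorem F361428 : act 7 n146963 = n85086 := (sb E102728 F278293)
theorem F361429 : act 3 n156166 = n146964 := d6_1 F361427 (iv5 D146964) D146963
theorem E102729 : n175318 = n164571 := ((c0_4 F361422 (iv2 F246519) (iv3 F338222) (iv2 F259423) (iv3 D175318) (iv2 F274133))).symm
theorem F361430 : act 3 n164571 = n83721 := (sb E102729 (iv3 D175318))
theorem F361431 : act 3 n146962 = n146659 := d20_5 F318037 (iv1 F275800) (iv4 F361426) (iv3 D146963) D146962 (iv4 D146659) (iv1 F120259) (iv4 F259424) F361430 (iv1 F318035)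
theorem F361432 : act 0 n147295 = n167882 := d20_7 (iv4 F224471) F338220 F348300 (iv3 D142538) (iv1 F318660) (iv3 F190207) D147295 F264516 (iv3 F332442) (iv1 D141441)
theorem F361433 : act 6 n142596 = n164565 := d7_0 F348298 (iv6 D148789) (iv3 F325089)
theorem F361434 : act 2 n178886 = n142596 := d3_3 F361433 F259408 (iv6 F278750)
theorem F361435 : act 1 n178886 = n134384 := d15_0 F342810 (iv7 F325090) (iv2 F361434)
theorem F361436 : act 6 n138628 = n123399 := d21_9 F216368 F208364 D63130 D134384 (iv1 F361435) F278750 (iv5 F358659) (iv1 D156464) (iv5 F221798) (iv1 F333876)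
theorem F361437 : act 5 n117659 = n110823 := d21_0 (iv1 F338243) (iv5 F329163) (iv6 D117433) (iv1 F85434) D54132 (iv5 F329416) (iv1 F328284) (iv5 F328725) (iv6 F361436) F345977
theorem F361438 : act 2 n110823 = n156688 := d2_1 F361437 F338248 F192178
theorem F361439 : act 7 n110823 = n156687 := d13_2 F239781 F361437 F338251
theorem E102730 : n158982 = n110824 := (c15_4 (iv0 F338242) F338243 F361439 (iv2 F338250))
theorem F361440 : act 2 n110824 = n156687 := (sb E102730 F338250)
theorem F361441 : act 5 n110824 = n75901 := (sb E102730 (iv5 D158982))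
theorem F361442 : act 7 n110824 = n156688 := (sb E102730 F338249)
theorem E102731 : n154098 = n103338 := (c6_3 F361441 F330642 D154098 (iv3 F343903))
theorem F361443 : act 1 n103338 = n85501 := (sb E102731 F353934)
theorem F361444 : act 5 n103338 = n72966 := (sb E102731 (iv5 D154098))
theorem F361445 : act 1 n144311 = n110953 := d17_6 F338242 F361441 (iv1 F345978) F221798 F111669 D144311 (iv5 D110953) F171998 (iv4 F338246)
theorem F361446 : act 6 n150125 = n138296 := d21_5 (iv5 D183984) (iv1 F134742) D101036 F155641 D150125 (iv5 F358649) (iv1 D158980) (iv5 F361441) (iv6 F343902) (iv1 F343918)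
theorem F361447 : act 2 n115970 = n150125 := d3_3 F361446 (iv2 D138296) (iv6 F180577)
theorem F361448 : act 3 n123225 = n150125 := d7_3 F361446 (iv3 F245974) F329208
theorem F361449 : act 5 n122991 = n150125 := d12_5 F361446 (iv5 F358649) F312498 F114789 D122991
theorem F361450 : act 0 n150125 = n139465 := d21_4 (iv5 F361437) (iv1 F250314) F358649 (iv6 F361446) (iv6 D139465) (iv5 F180528) (iv1 D110901) (iv5 D51137) (iv6 F80601) D110823
theorem F361451 : act 0 n138227 = n122991 := d21_10 F361449 F361450 (iv5 F331760) F155725 F232518 D76086 (iv5 F321120) (iv1 F99423) D64924 D138227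
theorem F361452 : act 2 n150128 = n139465 := d15_3 (iv0 F361450) (iv0 D150125) D150128
theorem F361453 : act 6 n139463 = n150128 := d3_0 F361452 (iv6 D139465) (iv2 F222656)
theorem F361454 : act 4 n153873 = n138227 := d18_1 D153873 F361451 (iv4 F305209) (iv5 D131503) (iv4 F312054) (iv0 F313537) F185491 (iv0 F232784) F112436
theorem F361455 : act 3 n154119 = n138227 := d20_3 F317092 (iv1 F317089) F244089 F361451 F197046 (iv4 F114883) (iv1 F308762) F308763 (iv3 D123540) (iv1 F197948)
theorem F361456 : act 1 n138227 = n106077 := d15_1 (iv0 F361451) (iv7 F302771) (iv2 F197045)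
theorem F361457 : act 7 n138227 = n122993 := d15_2 (iv0 F255590) (iv0 F361451) (iv2 F197050)
theorem F361458 : act 2 n118095 = n138227 := d4_3 F361457 (iv2 F197050) (iv7 F305132)
theorem E102732 : n179753 = n122993 := ((c14_1 F361457 (iv6 D179753) F278980 (iv6 D118090) F326307 D138227)).symm
theorem F361459 : act 6 n122993 = n85859 := (sb E102732 (iv6 D179753))
theorem E102733 : n154111 = n124151 := ((c3_2 F361459 (iv2 F306503) (iv6 D154111) F197050)).symm
theorem F361460 : act 3 n124151 = n72974 := (sb E102733 F242179)
theorem F361461 : act 6 n124151 = n72971 := (sb E102733 (iv6 D154111))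
theorem F361462 : act 6 n179752 = n142394 := d7_2 F361459 D179752 F346697
theorem F361463 : act 2 n131169 = n179752 := d3_3 F361462 (iv2 F346696) (iv6 F330119)
theorem F361464 : act 4 n119162 = n179752 := d10_3 F361462 (iv4 D142394) (iv6 F319504)
theorem F361465 : act 3 n124815 = n133738 := d5_3 F361464 (iv3 D179752) F278979 (iv4 F247703) (iv3 F247702)
theorem F361466 : act 7 n179752 = n131167 := d11_2 (iv7 F187496) F361464 (iv4 D131167)
theorem F361467 : act 3 n131167 = n118090 := d8_1 F361466 (iv7 F278980) D179752
theorem F361468 : act 6 n98488 = n154119 := d14_3 F361466 (iv6 F305769) (iv7 F319956) (iv7 F346698) (iv6 F361462)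
theorem F361469 : act 3 n151961 = n131163 := d20_9 F96059 D61533 D131167 F361467 (iv1 F237241) (iv3 F313759) F215399 D133776 (iv4 F238966) (iv1 D131163)
theorem F361470 : act 0 n170667 = n131163 := d20_4 (iv4 F91576) (iv1 F123456) (iv4 F300099) D170667 (iv3 F361469) F238966 F332434 (iv4 F197407) F197406 F302110
theorem F361471 : act 2 n133738 = n155351 := d0_1 F361465 F244312 F232902 D85418 F241308
theorem E102734 : n153559 = n120000 := ((c6_3 (iv5 F241307) F361465 (iv5 F342592) (iv3 D153559))).symm
theorem F361472 : act 3 n120000 = n72610 := (sb E102734 (iv3 D153559))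
theorem F361473 : act 7 n120000 = n85402 := (sb E102734 F241372)
theorem F361474 : act 7 n133738 = n119799 := d8_2 F241309 F361465 (iv3 F190952)
theorem F361475 : act 0 n154110 = n148968 := d21_7 F311688 (iv1 F201028) (iv5 D85853) D85854 (iv1 F306502) F361461 D154110 (iv5 D148968) (iv6 F303356) F312654
theorem F361476 : act 5 n124146 = n118190 := d21_8 D149022 F340784 (iv5 D154110) (iv6 F361461) (iv1 D124151) (iv6 D57857) D57856 D124146 F185734 (iv1 F232806)
theorem F361477 : act 2 n150131 = n124146 := d2_3 F361476 F185732 (iv5 F236300)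
theorem F361478 : act 3 n119185 = n124146 := d6_3 F361476 F311792 (iv5 F187535)
theorem F361479 : act 7 n118189 = n124146 := d13_0 F361476 (iv7 D118190) D118189
theorem F361480 : act 1 n150129 = n124146 := d17_6 (iv1 F155245) (iv5 F104053) (iv1 F104611) F155147 (iv4 F131802) F236296 F361476 F232582 F87878
theorem F361481 : act 1 n124144 = n118189 := d15_1 F355291 F361479 (iv2 F361477)
theorem F361482 : act 0 n123751 = n151962 := d20_10 (iv4 F332436) (iv1 D133777) (iv4 F215399) F313759 (iv1 F306502) F361460 (iv4 F242182) F242183 F198240 (iv3 F198236)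
theorem F361483 : act 7 n123751 = n151495 := d15_2 D151962 (iv0 F361482) F238338
theorem F361484 : act 2 n151964 = n123751 := d4_3 F361483 F238338 D151964
theorem F361485 : act 3 n151495 = n98097 := d8_1 F361483 F306354 (iv3 F198236)
theorem F361486 : act 4 n117815 = n123751 := d11_3 F361483 F238339 (iv7 F316801)
theorem F361487 : act 1 n123751 = n151961 := d18_6 F333348 (iv4 F224504) F346109 F252658 (iv5 F316799) F361486 F238966 (iv0 D133776) F98044
theorem E102735 : n179708 = n151965 := (c20_11 (iv4 D151965) (iv1 F316796) F361486 F198236 F198241 (iv3 D81809) (iv4 D37422) F301282 (iv4 F60568) (iv3 F131689) D179708)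
theorem F361488 : act 1 n151965 = n85835 := (sb E102735 (iv0 D179708))
theorem E102736 : n179709 = n117816 := (c15_2 F361488 D179709 F316805 (iv2 F238968))
theorem F361489 : act 0 n117816 = n85835 := (sb E102736 (iv1 D179709))
theorem F361490 : act 0 n179710 = n122681 := d17_2 F361489 D179710 (iv5 D122681) D122680 F332481 F337191 (iv5 D71647) F316795 D117816
theorem F361491 : act 0 n122682 = n138046 := d21_4 D179710 F361490 (iv5 D122681) D122682 F221299 (iv5 D64875) D64873 (iv5 F339049) (iv6 F184496) F361489
theorem F361492 : act 5 n138044 = n123019 := d21_2 (iv5 D138046) D138044 F307626 (iv1 F313745) D85835 D179710 F361490 (iv5 D122681) D122682 F361491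
theorem E102737 : n137875 = n134092 := ((c21_5 F361492 (iv1 D123019) D123020 (iv6 F328333) D134092 (iv6 D137875) (iv5 D64802) (iv1 F102780) (iv5 F48892) D64872 D138044)).symm
theorem F361493 : act 2 n134092 = n64819 := (sb E102737 F221099)
theorem F361494 : act 6 n134092 = n64802 := (sb E102737 (iv6 D137875))
theorem E102738 : n137918 = n134093 := ((c15_2 (iv0 D134092) D134093 (iv7 D137918) (iv2 F361493))).symm
theorem F361495 : act 7 n134093 = n64819 := (sb E102738 (iv7 D137918))
theorem F361496 : act 3 n99706 = n151964 := d0_0 F361484 F198236 (iv2 F306696) (iv3 F156464) (iv2 F156670)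
theorem F361497 : act 3 n125360 = n133627 := d20_5 (iv4 F153502) (iv1 F272751) F152501 (iv3 F152500) F351633 (iv4 D133627) (iv1 F232796) (iv4 F238967) (iv3 F361496) (iv1 D99706)
theorem F361498 : act 6 n133627 = n123223 := d7_2 F250766 F361497 F342344
theorem F361499 : act 0 n133627 = n123174 := d20_4 F217608 F330178 D125360 F361497 F197406 F90499 F299872 D39744 D85914 (iv1 F357880)
theorem E102739 : n151965 = n123235 := ((c3_3 F361498 F342346 D123235 F238968)).symm
theorem F361500 : act 1 n123235 = n85835 := (sb E102739 F361488)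
theorem F361501 : act 2 n123235 = n133627 := (sb E102739 F238968)
theorem F361502 : act 4 n123235 = n71645 := (sb E102739 (iv4 D151965))
theorem F361503 : act 5 n133627 = n122689 := d21_6 F44240 (iv1 F55422) F55420 D57361 D123223 (iv6 F361498) (iv1 D122689) (iv5 D56987) (iv6 D27343) D27339
theorem F361504 : act 1 n122602 = n166116 := d17_6 F215400 F361503 (iv1 D122689) (iv5 D56987) (iv4 F89983) D122602 F261564 (iv0 D133776) (iv4 F215399)
theorem F361505 : act 1 n166116 = n150387 := d15_1 F361504 (iv7 F350253) F314085
theorem F361506 : act 0 n123234 = n107963 := d21_7 D33142 D71684 F316247 D85835 (iv1 F361500) (iv6 D123235) D123234 (iv5 D107963) (iv6 D49862) F38098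
theorem F361507 : act 7 n139986 = n179014 := d15_2 (iv0 D139985) D139986 F348291
theorem F361508 : act 4 n179016 = n139986 := d11_3 F361507 F278933 D179016
theorem F361509 : act 1 n139986 = n156541 := d18_6 (iv1 F309645) F153349 D99593 F348285 (iv5 F278934) F361508 (iv4 D156541) (iv0 D74438) (iv5 F311028)
theorem E102740 : n179016 = n139768 := (c20_3 D156541 (iv1 F361509) (iv4 F361508) (iv3 D139768) (iv1 D65613) F49201 F24230 F11931 (iv4 F26155) (iv3 F53611) D74438)
theorem F361510 : act 4 n139768 = n139986 := (sb E102740 F361508)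
theorem F361511 : act 5 n139768 = n131182 := (sb E102740 F278934)
theorem F361512 : act 7 n139768 = n85407 := (sb E102740 (iv7 D179016))
theorem F361513 : act 7 n156541 = n115998 := d15_2 D139986 F361509 (iv2 F180687)
theorem F361514 : act 2 n139988 = n156541 := d4_3 F361513 (iv2 F180687) D139988
theorem F361515 : act 6 n139945 = n156541 := d14_5 F361513 (iv6 D115998) (iv7 F180658) D65700 D139945
theorem F361516 : act 1 n139988 = n179014 := d15_0 (iv0 F330624) (iv7 F361513) (iv2 F361514)
theorem F361517 : act 1 n156541 = n139985 := d15_0 (iv0 D139985) D139988 F361514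
theorem F361518 : act 7 n176947 = n107912 := d4_2 F348269 (iv2 F276299) (iv2 F215319)
theorem F361519 : act 1 n123507 = n177046 := d15_0 (iv0 F348282) (iv7 F361518) F276299
theorem F361520 : act 3 n154627 = n123067 := d20_3 (iv4 F304373) F348237 F348239 (iv1 D123067) F90345 (iv4 F55784) F297072 (iv4 F297068) D57491 (iv1 F301612)
theorem F361521 : act 7 n154238 = n175485 := d8_2 F348224 (iv3 F242351) (iv3 D175485)
theorem F361522 : act 1 n160099 = n153811 := d15_0 F348240 (iv7 F361521) (iv2 F252680)
theorem F361523 : act 2 n154462 = n175487 := d2_3 (iv5 D175487) F348223 D154462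
theorem F361524 : act 7 n175482 = n154462 := d15_2 F348230 (iv0 F348247) F361523
theorem F361525 : act 2 n175482 = n154241 := d4_3 F348249 (iv2 F361523) (iv7 F361524)
theorem F361526 : act 1 n175482 = n152006 := d15_0 (iv0 F348227) (iv7 F348249) (iv2 F361525)
theorem F361527 : act 3 n96301 = n157416 := d20_3 (iv4 F163005) (iv1 F232322) F301140 (iv1 F247920) F304894 F348220 F310342 (iv4 F162844) (iv3 D106035) D106033
theorem F361528 : act 3 n175482 = n123511 := d6_3 (iv5 D123511) F348219 D175482
theorem F361529 : act 3 n143463 = n99623 := d7_3 F348213 F226199 D143463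
theorem F361530 : act 5 n160108 = n143463 := d6_0 F361529 (iv5 F348212) (iv3 F252706)
theorem F361531 : act 2 n134673 = n174837 := d1_3 F346372 F348199 F330220
theorem F361532 : act 1 n134673 = n119442 := d15_0 (iv0 F348192) F348194 (iv2 F361531)
theorem E102741 : n138654 = n137207 := (c19_11 (iv1 F361532) (iv5 D134673) F98495 F48038 D29903 D63287 (iv4 F313488) (iv3 F315952) (iv1 D84439) F319896 (iv4 F221818) F220354 D137211 F220370 F219297 (iv3 F219288) F220305 (iv5 D137122) (iv4 F317718) (iv3 F188206))
theorem F361533 : act 0 n137207 = n143567 := (sb E102741 F326020)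
theorem F361534 : act 2 n137207 = n156727 := (sb E102741 (iv2 F246533))
theorem F361535 : act 4 n137207 = n65108 := (sb E102741 F221818)
theorem F361536 : act 6 n137207 = n65106 := (sb E102741 (iv6 D138654))
theorem F361537 : act 7 n137207 = n66333 := (sb E102741 F321890)
theorem F361538 : act 7 n116297 = n156727 := d4_2 F361537 (iv2 F181287) (iv2 F361534)
theorem E102742 : n141388 = n136018 := (c8_2 F361537 (iv3 F224435) F218859 (iv3 F220354))
theorem F361539 : act 3 n136018 = n66333 := (sb E102742 F224435)
theorem F361540 : act 4 n136018 = n142803 := (sb E102742 (iv4 F225708))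
theorem F361541 : act 6 n136018 = n66331 := (sb E102742 (iv6 D141388))
theorem E102743 : n141392 = n123243 := (c13_2 F361537 D141392 F328880 D137207)
theorem F361542 : act 5 n123243 = n66333 := (sb E102743 (iv5 D141392))
theorem F361543 : act 1 n116297 = n143567 := d15_0 (iv0 F361533) F361537 (iv2 F181287)
theorem E102744 : n141389 = n136378 := (c12_5 (iv6 F328879) F361542 (iv6 D66333) D66332 D141389 (iv5 D136378))
theorem F361544 : act 6 n136378 = n66332 := (sb E102744 (iv6 D141389))
theorem E102745 : n141387 = n136379 := (c7_2 F361544 (iv3 F224434) (iv6 D136379) (iv3 F219494))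
theorem F361545 : act 3 n136379 = n66332 := (sb E102745 F224434)
theorem F361546 : act 5 n136379 = n66331 := (sb E102745 (iv5 D141387))
theorem E102746 : n141386 = n137220 := (c2_2 F361546 D141386 F220375 F219599)
theorem F361547 : act 0 n137220 = n111068 := (sb E102746 (iv1 F224433))
theorem F361548 : act 1 n137220 = n111056 := (sb E102746 F224432)
theorem F361549 : act 2 n137220 = n66331 := (sb E102746 (iv2 D141386))
theorem F361550 : act 3 n137220 = n110865 := (sb E102746 F224430)
theorem F361551 : act 4 n137220 = n142802 := (sb E102746 (iv4 F225703))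
theorem F361552 : act 7 n137220 = n111064 := (sb E102746 F224431)
theorem F361553 : act 6 n142802 = n137219 := d10_2 D137220 F361551 (iv4 D137219)
theorem F361554 : act 2 n137219 = n142803 := d3_1 F361553 (iv6 D142803) D142802
theorem F361555 : act 3 n160398 = n137219 := d0_0 F361554 F225707 (iv2 F322897) D177212 F351537
theorem F361556 : act 6 n110865 = n137218 := d7_2 D137220 F361550 F220374
theorem F361557 : act 6 n116283 = n156718 := d14_3 (iv7 F218859) F361541 (iv7 F181239) (iv7 F338229) (iv6 D137214)
theorem F361558 : act 6 n156795 = n107281 := d10_2 F361557 (iv4 F246725) (iv4 F181238)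
theorem F361559 : act 7 n142803 = n137213 := d11_2 (iv7 F218859) F361540 (iv4 D137213)
theorem E102747 : n177244 = n137213 := ((c8_1 F361559 (iv3 D177244) F323569 (iv3 F225707))).symm
theorem F361560 : act 3 n137213 = n84446 := (sb E102747 (iv3 D177244))
theorem F361561 : act 6 n137213 = n139020 := d14_1 F361559 (iv7 F246726) F361558 F165345 D142803
theorem F361562 : act 4 n111112 = n137212 := d20_0 (iv1 D137212) D137213 F361560 F322217 (iv3 F163987) F163988 (iv1 D24925) (iv4 F39070) (iv3 F80833) D111112
theorem F361563 : act 1 n137242 = n111112 := d18_6 (iv1 D30363) F24064 D14413 D30366 D64502 D137242 F361562 F220373 (iv5 D64495)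
theorem F361564 : act 2 n110962 = n137242 := d15_3 F361563 (iv0 D111112) (iv7 F172009)
theorem F361565 : act 6 n137242 = n110944 := d3_2 D110962 F361564 (iv2 F171996)
theorem F361566 : act 7 n137242 = n111052 := d4_2 (iv7 F172009) F361564 F172248
theorem F361567 : act 4 n109747 = n111114 := d16_6 (iv4 D137242) (iv5 D64502) (iv4 D30366) F48512 (iv4 F79992) (iv5 F169731) (iv5 D111114) (iv7 F172009) F361564
theorem F361568 : act 6 n125514 = n109747 := d10_0 F361567 F172317 D125514
theorem F361569 : act 7 n111114 = n109746 := d11_2 D109747 F361567 (iv4 D109746)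
theorem F361570 : act 0 n111114 = n137230 := d18_2 F169732 F361567 (iv4 F340596) F340593 F173554 F81364 D64507 (iv0 F166132) D109544
theorem F361571 : act 1 n111114 = n137266 := d18_6 F169695 (iv4 D109700) (iv1 F79976) (iv4 F79992) (iv5 F169731) F361567 (iv4 D137266) (iv0 F219317) (iv5 D136263)
theorem F361572 : act 4 n137211 = n111113 := d17_9 (iv1 D111113) D111114 F361570 (iv5 D137230) (iv4 D64498) (iv5 D30364) D30363 D64495 F220371
theorem F361573 : act 1 n111113 = n137242 := d18_6 (iv1 D137626) F100571 F99648 (iv4 F219297) (iv5 F220370) F361572 (iv4 D137242) D137241 (iv5 F220780)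
theorem F361574 : act 3 n109746 = n110966 := d8_1 F361569 F172012 (iv3 F172316)
theorem F361575 : act 5 n109746 = n110962 := d13_1 F361569 F172009 D111114
theorem F361576 : act 3 n173267 = n125514 := d7_3 F361568 F326921 D173267
theorem F361577 : act 1 n141391 = n156727 := d15_1 D141391 (iv7 F361538) F181287
theorem E102748 : n179169 = n141391 := (c18_6 F307426 (iv4 F307963) (iv1 F106211) D69832 (iv5 F308073) D179169 F361577 F246534 (iv0 F320215) (iv5 F320989))
theorem F361578 : act 4 n141391 = n85504 := (sb E102748 (iv4 D179169))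
theorem F361579 : act 0 n179168 = n142735 := d20_4 (iv4 F246534) (iv1 F361577) F361578 D179168 F338948 (iv4 F338949) (iv1 F344007) (iv4 D157460) F321893 F320215
theorem F361580 : act 5 n148963 = n179168 := d17_1 F308521 F361579 F322336 (iv4 F255195) F350924 (iv0 F357025) F357019 (iv0 F194825) F310625
theorem F361581 : act 1 n179168 = n139003 := d15_1 (iv0 F361579) F322258 (iv2 F225639)
theorem F361582 : act 7 n179168 = n142741 := d15_2 (iv0 F338960) (iv0 F361579) F339012
theorem F361583 : act 2 n139218 = n179168 := d4_3 F361582 F339012 (iv7 F338986)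
theorem F361584 : act 2 n143567 = n141391 := d1_3 F361578 F339080 D143567
theorem F361585 : act 7 n141390 = n143567 := d15_2 F361577 (iv0 F351502) F361584
theorem F361586 : act 5 n155609 = n137205 := d17_1 F359181 (iv1 D137205) D137207 F361535 (iv5 F319896) D84439 (iv5 F318154) F323758 (iv4 F223303)
theorem F361587 : act 0 n118699 = n140114 := d21_7 F361586 (iv1 D137205) D137207 F361536 F101037 (iv6 F314656) D118699 (iv5 D140114) D140115 F359181
theorem F361588 : act 2 n150754 = n140114 := d15_3 (iv0 F361587) (iv0 F323745) F323748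
theorem F361589 : act 7 n140114 = n105941 := d4_2 F323748 F361588 (iv2 F323747)
theorem F361590 : act 1 n146361 = n140114 := d15_1 F323746 F361589 (iv2 F323747)
theorem F361591 : act 5 n156727 = n137206 := d2_2 D137207 F361534 (iv2 D137206)
theorem F361592 : act 6 n137206 = n143462 := d12_2 D156727 F361591 F226203 F348302 (iv5 D156726)
theorem F361593 : act 6 n173984 = n152484 := d10_2 (iv6 F239658) F348195 (iv4 D152484)
theorem F361594 : act 4 n173520 = n111465 := d10_1 F348177 (iv6 D111465) (iv4 F172952)
theorem F361595 : act 7 n111465 = n178096 := d11_2 F340663 F361594 (iv4 F348180)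
theorem F361596 : act 0 n111465 = n165648 := d20_7 (iv4 D17500) D17498 D36225 D79546 D165611 (iv3 F348173) F361594 (iv4 D165648) (iv3 D79560) (iv1 D36234)
theorem F361597 : act 1 n173520 = n166473 := d18_8 (iv1 F344416) F153973 D100042 F344419 F318543 D165648 (iv0 F361596) (iv4 F361594) F328130
theorem F361598 : act 2 n178096 = n111473 := d4_1 F361595 (iv7 D111473) (iv2 F172979)
theorem F361599 : act 6 n178096 = n157872 := d14_1 F361595 (iv7 F301266) (iv6 F351735) F172596 D111465
theorem F361600 : act 1 n111473 = n165648 := d15_0 (iv0 F361596) F361595 F361598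
theorem E102749 : n111471 = n84777 := (c15_1 D111471 D178096 (iv7 F361595) F172979)
theorem E102750 : n178095 = n51415 := ((D178095).symm.trans (sb E102749 (iv1 D111471)))
theorem F361601 : act 1 n51415 = n84777 := (sb E102750 (iv0 D178095))
theorem F361602 : act 2 n165648 = n111470 := d15_3 (iv0 D111470) F361601 (iv7 F260928)
theorem F361603 : act 3 n111470 = n178116 := d0_2 (iv3 F302253) F361602 (iv2 D178116) (iv3 D84787) F301318
theorem F361604 : act 4 n111470 = n165647 := d1_2 D165648 F361602 (iv2 D165647)
theorem F361605 : act 6 n111470 = n177500 := d3_2 (iv6 F302254) F361602 (iv2 D177500)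
theorem F361606 : act 7 n111470 = n178097 := d4_2 (iv7 F260928) F361602 (iv2 D178097)
theorem F361607 : act 1 n111465 = n178097 := d15_1 (iv0 F361596) (iv7 F361606) (iv2 F361602)
theorem F361608 : act 1 n178097 = n111473 := d15_1 F361607 (iv7 D111473) (iv2 F172979)
theorem F361609 : act 1 n178096 = n111470 := d15_1 D178096 F361606 (iv2 D178097)
theorem F361610 : act 6 n133022 = n113314 := d10_0 F348163 F213663 D133022
theorem F361611 : act 3 n120017 = n157429 := d0_2 D132647 F348143 (iv2 F314522) (iv3 D129801) (iv2 F97033)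
theorem F361612 : act 7 n120017 = n142386 := d4_2 (iv7 F212935) F348143 F323793
theorem F361613 : act 4 n144550 = n177048 := d18_3 (iv1 D67750) (iv4 F103780) D144550 (iv5 D177048) D177047 (iv0 F331890) F189768 D120139 F348141
theorem E102751 : n178868 = n144550 := (c10_1 D178868 F361613 F344472 (iv4 F316054))
theorem F361614 : act 6 n144550 = n85279 := (sb E102751 (iv6 D178868))
theorem F361615 : act 3 n103759 = n144175 := d7_3 F348140 (iv3 D103756) D103759
theorem F361616 : act 2 n144103 = n103759 := d0_5 F361615 (iv2 F340806) F247451 F112216 D144103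
theorem F361617 : act 0 n128260 = n103759 := d20_4 (iv4 D128255) (iv1 D60288) D60289 D128260 F361615 F340807 (iv1 D67750) (iv4 F103780) (iv3 F227408) (iv1 F358452)
theorem F361618 : act 6 n103608 = n144103 := d3_0 F361616 (iv6 D103759) (iv2 F288199)
theorem F361619 : act 3 n112847 = n103608 := d7_3 F361618 (iv3 D144103) (iv6 F175717)
theorem F361620 : act 0 n139790 = n157286 := d21_7 F318380 (iv1 F346819) (iv5 D138971) (iv6 F318397) F348136 (iv6 F212934) (iv5 F222977) (iv5 D157286) (iv6 F323786) (iv1 F183084)
theorem F361621 : act 2 n133323 = n157286 := d15_3 (iv0 F361620) F348138 (iv7 F340943)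
theorem F361622 : act 6 n157286 = n133321 := d3_2 D133323 F361621 (iv2 D133321)
theorem F361623 : act 7 n157286 = n117053 := d4_2 (iv7 F340943) F361621 (iv2 F183059)
theorem F361624 : act 6 n141054 = n119624 := d14_1 F348135 F212311 F318411 (iv7 F318415) D157098
theorem F361625 : act 0 n115809 = n152177 := d21_1 D115809 F239262 (iv6 F361624) F348109 (iv6 D152713) (iv5 F199881) F199879 (iv5 F189221) (iv6 F341170) (iv1 D115808)
theorem F361626 : act 5 n145950 = n151662 := d17_5 (iv1 F334857) (iv5 F231806) D179631 F348032 F348029 F341583 (iv5 D114394) (iv0 F319334) (iv4 F187251)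
theorem E102752 : n159766 = n145950 := (c17_1 D159766 F361626 F334849 (iv5 D145005) F319484 (iv5 F314623) F224049 (iv5 F225556) F225558 F323671)
theorem F361627 : act 1 n145950 = n76438 := (sb E102752 (iv0 D159766))
theorem F361628 : act 6 n145950 = n105426 := d21_3 D114394 (iv1 F341583) (iv5 F361626) (iv1 D105426) (iv6 D48748) (iv5 D23776) F21061 D26488 D54772 F319334
theorem F361629 : act 2 n105448 = n145950 := d3_3 F361628 F355716 D105448
theorem F361630 : act 7 n143213 = n145950 := d14_0 F361628 F355717 D105443 F353423 (iv6 F340688)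
theorem F361631 : act 7 n105448 = n145949 := d4_2 F361630 (iv2 F361629) (iv2 F340690)
theorem F361632 : act 1 n105448 = n117186 := d15_0 F339795 F361630 (iv2 F361629)
theorem E102753 : n143214 = n105448 := (c15_1 D143214 F361632 F183348 F324990)
theorem F361633 : act 0 n105448 = n67099 := (sb E102753 (iv1 D143214))
theorem F361634 : act 3 n160738 = n147319 := d7_3 (iv6 D147319) F347976 D160738
theorem F361635 : act 7 n147806 = n160738 := d8_0 F361634 (iv7 F230986) D147806
theorem F361636 : act 2 n166477 = n166150 := d3_3 F347917 F147438 F330759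
theorem F361637 : act 3 n154539 = n155875 := d8_3 F347902 F344627 (iv7 F242579)
theorem F361638 : act 6 n103216 = n154539 := d7_0 F361637 (iv6 D155875) (iv3 F347885)
theorem E102754 : n147446 = n145778 := (c15_1 D147446 F248416 F347824 F171217)
theorem F361639 : act 0 n145778 = n69118 := (sb E102754 (iv1 D147446))
theorem F361640 : act 6 n178633 = n148817 := d7_2 F347823 D178633 (iv3 D148817)
theorem F361641 : act 6 n178634 = n148818 := d10_2 F347823 D178634 (iv4 D148818)
theorem F361642 : act 0 n161656 = n145784 := d21_4 (iv5 D39364) F155155 D84903 (iv6 F319558) (iv6 D145784) (iv5 F182682) F248415 (iv5 D148819) F347823 (iv1 F130428)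
theorem F361643 : act 0 n148817 = n146170 := d21_10 F229440 F355110 (iv5 D80426) (iv6 D36653) D36651 D80422 (iv5 F361352) F361354 F361355 F361640
theorem F361644 : act 3 n125574 = n152484 := d20_5 (iv4 F45188) (iv1 D27955) D27956 D58792 D125574 (iv4 D152484) F347817 F81148 (iv3 D24992) (iv1 F39193)
theorem F361645 : act 6 n176988 = n125574 := d7_0 F361644 (iv6 F361593) (iv3 F348196)
theorem F361646 : act 2 n125574 = n177289 := d3_1 F361645 (iv6 D177289) (iv2 F276353)
theorem F361647 : act 4 n125574 = n177465 := d10_1 F361645 (iv6 D177465) (iv4 F276354)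
theorem F361648 : act 7 n125575 = n177289 := d15_2 (iv0 D125574) D125575 (iv2 F361646)
theorem F361649 : act 4 n114442 = n145753 := d20_6 (iv4 F108280) (iv1 F347791) F347793 (iv3 D118751) (iv1 F186710) F186706 F346436 (iv4 F346438) (iv3 D152275) (iv1 D71840)
theorem E102755 : n114474 = n108776 := ((c16_6 F361649 F228889 F228846 (iv5 D110583) F80430 (iv5 F168709) (iv4 D114474) (iv5 D52836) D52837 (iv2 F178478))).symm
theorem F361650 : act 4 n108776 = n52836 := (sb E102755 (iv4 D114474))
theorem F361651 : act 6 n108776 = n52843 := (sb E102755 F178528)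
theorem F361652 : act 4 n118757 = n146824 := d19_6 D145738 (iv5 F228889) (iv4 F361649) (iv3 F186706) (iv1 F186709) D118757 F230171 (iv1 F183488) F183490 (iv4 F85546) (iv3 D53969) (iv1 F41291) (iv5 D14879) F11333 (iv3 F26593) (iv1 F26609) D14962 D31795 D68328
theorem E102756 : n148103 = n118756 := ((c20_1 D118756 (iv1 D148103) (iv4 F314115) F314114 F85576 D69316 F105592 D145753 (iv4 F361649) (iv3 F186706) (iv1 F186709))).symm
theorem F361653 : act 0 n118756 = n69389 := (sb E102756 (iv1 D148103))
theorem F361654 : act 3 n118756 = n91221 := (sb E102756 F357323)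
theorem F361655 : act 5 n118756 = n91218 := (sb E102756 F357324)
theorem F361656 : act 6 n118756 = n102523 := (sb E102756 (iv6 F357322))
theorem E102757 : n175674 = n118758 := (c10_2 F361656 (iv4 F357757) (iv6 D118758) D118756)
theorem F361657 : act 0 n118758 = n113971 := (sb E102757 (iv1 F357770))
theorem F361658 : act 1 n118758 = n83869 := (sb E102757 (iv0 D175674))
theorem F361659 : act 4 n118758 = n102523 := (sb E102757 F357757)
theorem E102758 : n114485 = n107024 := (c12_2 F361651 D114485 (iv6 D107024) D107023 F358679 (iv5 F168709))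
theorem F361660 : act 4 n107024 = n154710 := (sb E102758 (iv4 F242891))
theorem F361661 : act 5 n107024 = n52843 := (sb E102758 (iv5 D114485))
theorem F361662 : act 6 n154710 = n107022 := d10_2 D107024 F361660 (iv4 D107022)
theorem F361663 : act 4 n114475 = n134820 := d11_3 F216952 F361650 D114475
theorem F361664 : act 4 n109160 = n114473 := d20_6 F78115 (iv1 F78116) (iv4 D24564) (iv3 F38548) D50383 D109160 (iv1 D114473) (iv4 F361650) (iv3 D108776) (iv1 F79575)
theorem F361665 : act 3 n147989 = n176091 := d7_3 F347775 (iv3 D147986) D147989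
theorem F361666 : act 3 n151602 = n144992 := d7_3 (iv6 D144992) F347770 D151602
theorem F361667 : act 4 n144997 = n151602 := d5_0 F361666 F227957 F104086 (iv4 F104088) (iv3 F227962)
theorem F361668 : act 6 n114855 = n97209 := d3_2 F347757 F193551 (iv2 F347756)
theorem F361669 : act 3 n146776 = n117545 := d6_3 (iv5 D117545) F347736 D146776
theorem F361670 : act 6 n117263 = n149587 := d21_5 D117236 (iv1 F233618) (iv5 D148791) D148792 F243335 F235196 F300229 F297900 F347735 F162490
theorem F361671 : act 6 n114266 = n92520 := d21_5 (iv5 D33445) D33442 F52730 D52740 D114266 (iv5 F347712) F157130 F290981 (iv6 F108976) (iv1 D72449)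
theorem E102759 : n143395 = n114266 := (c10_4 F361671 (iv4 D92520) D92521 F316825)
theorem F361672 : act 3 n114266 = n67168 := (sb E102759 (iv3 D143395))
theorem F361673 : act 4 n114266 = n92521 := (sb E102759 (iv4 F316825))
theorem F361674 : act 3 n143396 = n92520 := d7_3 (iv6 F361671) F361672 D143396
theorem E102760 : n102345 = n102337 := (c11_3 F137041 F347703 D102345 (iv4 D102337))
theorem F361675 : act 7 n102337 = n47491 := (sb E102760 (iv7 D102345))
theorem F361676 : act 4 n102343 = n95437 := d20_8 F147066 (iv1 F134627) F62386 (iv3 F35347) F64383 (iv3 F137040) F347703 D102343 F147055 D95442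
theorem F361677 : act 7 n185312 = n102343 := d11_0 F361676 F147056 D185312
theorem F361678 : act 1 n97985 = n185312 := d15_0 F287575 F361675 (iv2 F151036)
theorem F361679 : act 0 n111176 = n138276 := d20_7 F261874 (iv1 D159679) F114531 (iv3 F56640) D78998 D164490 (iv4 F347687) (iv4 F336380) F177699 (iv1 F193582)
theorem F361680 : act 1 n130530 = n113073 := d17_6 (iv1 F172419) D111176 F361679 (iv5 D138276) F100735 D130530 (iv5 D113073) F176162 F176160
theorem F361681 : act 6 n114128 = n143131 := d7_2 D143133 F347668 (iv3 D143131)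
theorem F361682 : act 6 n142090 = n170508 := d10_2 F361681 F225985 (iv4 F347667)
theorem F361683 : act 1 n176272 = n147845 := d15_1 D176272 (iv7 F347649) F272215
theorem F361684 : act 6 n176272 = n147321 := d21_5 (iv5 D101905) F272643 (iv5 F270642) (iv6 F357765) (iv1 F361683) F232038 (iv1 F202635) F202633 D147073 F343357
theorem F361685 : act 2 n147551 = n176272 := d3_3 F361684 F230992 D147551
theorem F361686 : act 3 n148207 = n176272 := d7_3 F361684 (iv3 F230989) D148207
theorem F361687 : act 7 n176272 = n147844 := d8_2 (iv7 F350982) F361686 (iv3 F332126)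
theorem F361688 : act 2 n147844 = n176271 := d15_3 (iv0 D176271) D176272 F361687
theorem F361689 : act 7 n147551 = n176271 := d4_2 (iv7 F361687) (iv2 F361685) (iv2 F361688)
theorem F361690 : act 1 n147845 = n176271 := d15_1 F361683 (iv7 F361689) F361685
theorem F361691 : act 6 n146848 = n132863 := d21_5 (iv5 D15110) D15108 D32022 D68844 D146848 F347613 (iv1 D159896) F114783 (iv6 D68851) (iv1 D32025)
theorem F361692 : act 3 n132865 = n146848 := d7_3 F361691 (iv3 D132863) D132865
theorem F361693 : act 7 n126472 = n146848 := d14_0 F361691 (iv7 F326069) (iv6 D126611) F93739 D126472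
theorem F361694 : act 2 n146848 = n106115 := d4_1 F361693 (iv7 F177875) F332590
theorem F361695 : act 1 n106115 = n113617 := d15_0 (iv0 F359184) F361693 F361694
theorem F361696 : act 5 n134494 = n94045 := d21_0 F339783 (iv5 F347380) (iv6 F347379) F347601 (iv6 D126531) F93638 (iv1 D29873) D29874 D63188 D134494
theorem F361697 : act 3 n134493 = n159527 := d7_1 F347593 (iv6 D159527) D159524
theorem E102761 : n150002 = n95929 := (c15_3 D95928 F347580 (iv7 F335036) (iv2 D95929))
theorem F361698 : act 0 n95929 = n70566 := (sb E102761 (iv1 D150002))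
theorem F361699 : act 1 n95929 = n164624 := (sb E102761 F259572)
theorem F361700 : act 4 n95929 = n76320 := (sb E102761 F335035)
theorem F361701 : act 7 n95929 = n164621 := (sb E102761 F335036)
theorem F361702 : act 6 n105462 = n128908 := d10_0 F347540 (iv6 D105463) D105462
theorem F361703 : act 6 n110781 = n89690 := d7_0 F347539 (iv6 D110783) D110781
theorem F361704 : act 7 n132943 = n182878 := d13_0 F347530 F212542 (iv5 F213573)
theorem F361705 : act 3 n106534 = n132943 := d8_3 F361704 (iv3 F347533) F177806
theorem E102762 : n132997 = n90059 := (c20_1 D132997 (iv1 D90059) (iv4 F138387) F340293 F95331 F322878 F78523 D49696 (iv4 F177618) F361705 (iv1 F213572))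
theorem F361706 : act 4 n90059 = n62405 := (sb E102762 (iv4 D132997))
theorem F361707 : act 0 n131824 = n132995 := d20_4 F47000 (iv1 F77700) (iv4 F96428) (iv3 F211239) F213648 (iv4 F361706) (iv1 D90059) (iv4 F138387) F340293 F95331
theorem E102763 : n154392 = n134030 := ((c17_6 (iv1 F206883) D128954 F347506 F95269 (iv4 F98234) D134030 (iv0 D154392) (iv5 F329957) F168769 (iv4 F206879))).symm
theorem F361708 : act 1 n134030 = n73133 := (sb E102763 (iv0 D154392))
theorem F361709 : act 0 n166390 = n132962 := d20_10 F339656 (iv1 F361708) F339664 D176485 (iv1 F275800) (iv3 F311075) F314984 (iv1 F106150) F317587 (iv3 F261971)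
theorem F361710 : act 6 n147733 = n91380 := d21_5 (iv5 D132962) D132961 (iv5 F347338) F347339 D147733 F323552 (iv1 D79887) D79889 D166390 F361709
theorem F361711 : act 4 n91375 = n147733 := d10_3 F361710 (iv4 D91380) (iv6 F140512)
theorem F361712 : act 6 n172389 = n112128 := d7_2 D112130 F347484 (iv3 D112128)
theorem F361713 : act 4 n172540 = n104657 := d20_2 F347479 D172540 (iv3 F160642) (iv1 F160645) F331203 (iv4 D79820) F298252 D45838 D98129 F347482
theorem F361714 : act 2 n104658 = n172540 := d1_3 F361713 (iv2 D104657) D104658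
theorem F361715 : act 5 n170641 = n172540 := d19_1 F361382 F361713 (iv3 F160642) (iv1 F160645) (iv5 D104621) (iv4 F76048) (iv3 D46565) (iv1 F73547) (iv5 F153333) F339158 F94681 F190682 F86020 (iv4 F123782) (iv3 D80519) (iv1 F299438) D38795 D84167 D176530
theorem F361716 : act 3 n172540 = n170642 := d6_1 F361715 (iv5 D170642) D170641
theorem F361717 : act 5 n172545 = n128837 := d2_2 D128844 F347465 F207100
theorem F361718 : act 7 n98561 = n128844 := d16_8 F270729 F298396 F296814 (iv5 D38604) F29557 D22006 D46076 D98561 F347465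
theorem F361719 : act 3 n128862 = n98561 := d8_3 F361718 F207102 D128862
theorem F361720 : act 4 n172173 = n98561 := d11_3 F361718 F347466 D172173
theorem F361721 : act 6 n172463 = n98561 := d14_5 F361718 F347467 (iv7 F301517) (iv6 F127192) D172463
theorem F361722 : act 4 n128837 = n89056 := d9_11 (iv5 F270332) F361720 (iv5 D98561) (iv4 D46076) (iv5 D22006) (iv4 F29557) D38604 (iv4 F296814) (iv5 F298396) (iv4 F270729) F361717 F136728 (iv4 F113383) (iv5 F249561) F298187
theorem F361723 : act 7 n89055 = n128837 := d11_0 F361722 (iv7 D89056) D89055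
theorem F361724 : act 0 n98558 = n128837 := d18_2 D47232 (iv4 F249715) F361722 F136728 (iv4 F113383) F113387 (iv4 F184683) (iv0 D22715) D22717
theorem F361725 : act 1 n98559 = n128837 := d18_6 (iv1 F154548) (iv4 F273721) (iv1 D174862) (iv4 F155369) F74496 (iv4 F184694) F361722 F136731 D98552
theorem F361726 : act 1 n128843 = n89055 := d15_1 D128843 F361723 F207100
theorem F361727 : act 4 n89187 = n128843 := d18_5 (iv1 F274647) F274636 (iv1 F361265) F361267 (iv5 F155795) F361726 (iv4 D89055) D89054 (iv5 F153017)
theorem F361728 : act 2 n128843 = n98558 := d1_1 F361727 F249715 (iv2 F155797)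
theorem F361729 : act 5 n128843 = n124651 := d9_2 (iv5 F155795) F361727 (iv4 D124651) D124652 (iv4 F336443) (iv5 F262964) F262963 F153256 (iv4 F345246) (iv5 F347462) (iv4 D124656) D124657 F342139 (iv5 F361268) F361267
theorem F361730 : act 7 n128843 = n98559 := d11_2 F155796 F361727 F184694
theorem F361731 : act 7 n128842 = n98558 := d16_8 (iv4 F361727) F155795 (iv4 F361267) F361268 (iv4 F342139) (iv5 D124657) D124656 F347462 (iv2 F361728)
theorem F361732 : act 2 n98559 = n128842 := d4_3 F361731 (iv2 F361728) F361730
theorem F361733 : act 3 n98558 = n157811 := d8_1 F361731 (iv7 D157811) (iv3 F345245)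
theorem F361734 : act 4 n157811 = n134235 := d20_6 (iv4 D62237) (iv1 F168072) (iv4 F95219) F327832 D98558 F361733 (iv1 D134235) (iv4 F206887) F206886 F168314
theorem F361735 : act 7 n134235 = n96446 := d11_2 D157811 F361734 F148512
theorem F361736 : act 2 n105057 = n134235 := d4_3 F361735 F148511 D105057
theorem F361737 : act 6 n182327 = n134235 := d14_5 F361735 (iv6 D96446) F70867 D87056 D182327
theorem E102764 : n105055 = n63058 := (c15_1 D105055 D134235 F361735 F148511)
theorem E102765 : n134234 = n48551 := ((D134234).symm.trans (sb E102764 (iv1 D105055)))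
theorem F361738 : act 1 n48551 = n63058 := (sb E102765 (iv0 D134234))
theorem F361739 : act 1 n134237 = n96446 := d15_1 F336404 (iv7 F361735) (iv2 F361736)
theorem F361740 : act 2 n134237 = n105054 := d15_3 (iv0 D105054) F361738 D134237
theorem F361741 : act 7 n105054 = n134229 := d4_2 D134237 F361740 F216269
theorem F361742 : act 1 n134235 = n105054 := d15_1 D134235 F361741 F216269
theorem F361743 : act 3 n167904 = n177463 := d20_3 F122175 F296846 D167904 (iv1 D177463) (iv3 F347461) (iv4 D124656) (iv1 D58249) (iv4 F91977) (iv3 D58188) D58186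
theorem F361744 : act 7 n177463 = n181689 := d8_2 (iv7 F264553) F361743 (iv3 D181689)
theorem F361745 : act 2 n181689 = n177462 := d15_3 (iv0 D177462) D177463 F361744
theorem F361746 : act 2 n142806 = n177213 := d1_1 F347428 (iv4 F276607) (iv2 F276598)
theorem F361747 : act 7 n142806 = n177245 := d11_2 (iv7 F276596) F347428 F276639
theorem F361748 : act 2 n129002 = n163623 := d16_9 (iv4 F342193) F342196 F312107 (iv5 F132912) (iv4 F123879) F297651 (iv4 F297782) F347420 D129002
theorem F361749 : act 0 n135811 = n135569 := d20_7 F206863 (iv1 F95076) D60605 (iv3 F341952) F347419 (iv3 F207201) (iv4 F218430) F218009 (iv3 D128854) (iv1 F206866)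
theorem F361750 : act 0 n124623 = n132268 := d21_4 (iv5 D124613) (iv1 D58187) D58189 D124623 (iv6 D132268) (iv5 F207160) F208790 (iv5 D60655) D60656 (iv1 F347418)
theorem F361751 : act 3 n144342 = n154349 := d20_5 F96719 F47402 (iv4 F95842) (iv3 F324797) D144342 F348867 F361750 F211943 F96712 D62062
theorem F361752 : act 1 n135356 = n172226 := d15_0 (iv0 D172226) (iv7 F294223) (iv2 F347389)
theorem F361753 : act 7 n172226 = n100855 := d15_2 (iv0 F357391) F361752 (iv2 F270494)
theorem F361754 : act 5 n172226 = n99778 := d17_7 (iv1 D88409) D88411 (iv1 F344361) (iv5 D181923) (iv4 F295446) (iv5 F339513) F361752 (iv0 D99778) F294695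
theorem F361755 : act 3 n111431 = n172226 := d20_3 D98406 F326758 (iv4 F172931) (iv1 F361752) F217605 F98973 (iv1 F339530) (iv4 F323624) (iv3 F324964) (iv1 F325944)
theorem F361756 : act 4 n172226 = n94054 := d5_2 (iv4 F172931) F361755 F326628 (iv4 F203490) (iv3 F203488)
theorem F361757 : act 6 n172226 = n94057 := d7_2 F216032 F361755 (iv3 F359592)
theorem F361758 : act 6 n136067 = n96139 := d21_5 D104411 F292345 F291470 F100514 (iv1 F218977) F147796 D99778 (iv5 F361754) F361757 F144901
theorem F361759 : act 2 n96139 = n136069 := d3_1 F361758 (iv6 D136069) (iv2 F218972)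
theorem F361760 : act 0 n134892 = n135355 := d21_7 (iv5 F357389) (iv1 D99779) (iv5 F147796) (iv6 F361758) F218976 F326344 D134892 (iv5 D135355) D135356 F357391
theorem F361761 : act 5 n136069 = n99773 := d2_2 (iv5 F147796) F361759 F153596
theorem F361762 : act 0 n172220 = n136069 := d17_2 D82487 D172220 F361761 F295184 (iv5 F356262) (iv0 D181928) (iv5 D86895) (iv0 F295217) F70187
theorem F361763 : act 0 n98658 = n172221 := d21_4 D46987 (iv1 F289605) D47432 (iv6 F152092) (iv6 D172221) D172220 F361762 F361761 (iv6 D99773) F289580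
theorem F361764 : act 0 n172225 = n89372 := d21_4 (iv5 F361761) F345497 (iv5 D172224) D172225 (iv6 F292893) F292892 F289517 (iv5 D47014) D47015 (iv1 F289944)
theorem F361765 : act 1 n172220 = n96159 := d15_1 (iv0 F361762) F147837 F361759
theorem F361766 : act 0 n134343 = n164486 := d20_7 F347365 (iv1 F193589) (iv4 F329095) (iv3 D134321) (iv1 F98404) (iv3 F98406) D134343 F259227 F242297 (iv1 F347363)
theorem F361767 : act 5 n131789 = n134342 := d18_9 (iv1 D134342) D134343 F361766 F259227 F352504 (iv4 D131830) (iv0 D61859) (iv4 F96394) D131789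
theorem F361768 : act 3 n158933 = n134342 := d20_9 D134343 F361766 F259227 F242297 (iv1 F347363) (iv3 D158938) (iv4 D75851) D75849 D158933 (iv1 D134342)
theorem F361769 : act 1 n106600 = n131836 := d17_6 (iv1 F245958) F361767 (iv1 D134342) (iv5 D63112) (iv4 F77830) D106600 (iv5 D131836) F163841 (iv4 F245953)
theorem F361770 : act 6 n89576 = n134342 := d21_5 (iv5 D41795) (iv1 F31432) D19690 D41834 D89576 (iv5 F361767) (iv1 D131789) (iv5 F327938) (iv6 D47567) (iv1 F64456)
theorem F361771 : act 0 n89576 = n111141 := d21_10 (iv5 D111141) D111138 (iv5 F361301) (iv6 F348480) F324386 (iv6 F333145) (iv5 F245954) (iv1 F245958) F361767 (iv6 F361770)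
theorem F361772 : act 2 n89579 = n111141 := d15_3 (iv0 F361771) (iv0 D89576) D89579
theorem F361773 : act 3 n138616 = n89579 := d0_0 F361772 F172369 F80867 (iv3 F100873) (iv2 F221784)
theorem F361774 : act 5 n111140 = n89579 := d2_0 F361772 (iv5 D111141) D111140
theorem F361775 : act 6 n147735 = n153990 := d3_0 F347354 F347339 D147735
theorem F361776 : act 3 n148657 = n147735 := d7_3 F361775 (iv3 F347352) F336915
theorem F361777 : act 4 n153992 = n147735 := d10_3 F361775 (iv4 D153990) D153992
theorem F361778 : act 2 n147736 = n153992 := d1_3 F361777 (iv2 D147735) D147736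
theorem F361779 : act 6 n124715 = n147736 := d3_0 F361778 (iv6 D153992) (iv2 F347346)
theorem F361780 : act 5 n147735 = n148656 := d6_2 D148657 F361776 (iv3 D148656)
theorem F361781 : act 2 n148656 = n147737 := d2_1 F361780 (iv5 D147737) D147735
theorem F361782 : act 3 n153992 = n134376 := d7_3 (iv6 D134376) F347348 D153992
theorem E102766 : n95905 = n95732 := ((c20_7 (iv4 D166287) F231478 F231476 (iv3 F347336) (iv1 D128144) (iv3 F336406) F336407 (iv1 D95905) D95907 (iv3 F342255) (iv1 F261843))).symm
theorem F361783 : act 0 n95732 = n44772 := (sb E102766 (iv1 D95905))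
theorem E102767 : n110750 = n95908 := ((c17_4 (iv1 F175869) (iv5 F336410) F361783 D95908 (iv4 D110750) (iv5 D51060) F80517 (iv5 F108017) (iv0 F108020) D110756)).symm
theorem F361784 : act 0 n95908 = n131355 := (sb E102767 (iv1 F210562))
theorem F361785 : act 4 n95908 = n51060 := (sb E102767 (iv4 D110750))
theorem F361786 : act 6 n95908 = n114422 := d21_3 (iv5 F336410) F361783 D95908 (iv1 D114422) (iv6 F178448) F355188 (iv1 D53687) D53688 (iv6 F355229) (iv1 F175869)
theorem F361787 : act 3 n114422 = n95920 := d7_1 F361786 (iv6 D95920) (iv3 F147566)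
theorem F361788 : act 4 n114422 = n110751 := d10_1 F361786 (iv6 D110751) (iv4 F361785)
theorem F361789 : act 3 n131115 = n95919 := d5_3 F361785 F96025 D131115 (iv4 D95919) (iv3 F147566)
theorem F361790 : act 0 n158951 = n134105 := d18_0 F216152 (iv1 F207515) (iv4 F347313) F347314 F230302 F229101 (iv4 F230333) F230335 D158951
theorem F361791 : act 5 n134105 = n148151 := d17_3 F336965 D158951 F361790 (iv4 F280342) (iv5 D179986) F273263 F261826 (iv0 F233902) (iv4 F336968)
theorem F361792 : act 4 n129651 = n158951 := d18_1 (iv1 F207829) F361790 F216152 (iv5 D129316) (iv4 D60777) F47142 (iv4 F96837) F96839 D129139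
theorem F361793 : act 1 n158951 = n129113 := d15_1 (iv0 F361790) F207343 D134105
theorem F361794 : act 2 n129655 = n158951 := d15_3 F361793 (iv0 F212982) F212981
theorem F361795 : act 6 n129115 = n136103 := d10_2 D136104 F347313 (iv4 D136103)
theorem F361796 : act 5 n139724 = n95759 := d16_3 F347299 (iv5 D139725) D139724 (iv4 D95759) (iv5 D44722) (iv4 F64059) D88923 (iv7 F157445) (iv2 F285098)
theorem F361797 : act 3 n95759 = n144069 := d6_1 F361796 (iv5 D144069) (iv3 F222898)
theorem F361798 : act 4 n144069 = n95778 := d5_2 D95759 F361797 (iv3 D95778) (iv4 D44728) (iv3 F70301)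
theorem F361799 : act 3 n143104 = n158951 := d6_1 F347291 (iv5 D158951) D158950
theorem F361800 : act 4 n143104 = n134872 := d20_6 (iv4 D34128) (iv1 F46442) D60699 D129113 (iv1 F361793) (iv3 F361799) (iv1 D134872) F98688 (iv3 D62990) (iv1 F53564)
theorem F361801 : act 7 n134872 = n143099 := d11_2 D143104 F361800 F225954
theorem F361802 : act 0 n134874 = n134792 := d17_2 (iv1 D134872) D134874 (iv5 D134792) D134791 (iv5 F355353) (iv0 D151557) D151559 (iv0 F335422) F361800
theorem F361803 : act 2 n143099 = n134871 := d15_3 (iv0 D134871) D134872 F361801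
theorem F361804 : act 4 n134871 = n142995 := d1_2 (iv4 F225954) F361803 F225855
theorem F361805 : act 6 n134871 = n142994 := d3_2 D143099 F361803 F225842
theorem F361806 : act 3 n143212 = n143118 := d5_3 F347288 F314487 D143212 (iv4 D143118) (iv3 F225939)
theorem F361807 : act 6 n132422 = n132660 := d10_2 F347284 (iv4 F347241) (iv4 F216150)
theorem F361808 : act 3 n105631 = n145644 := d8_3 F228660 F347239 (iv7 F162232)
theorem F361809 : act 6 n145642 = n105631 := d7_0 F361808 (iv6 D145644) D145642
theorem F361810 : act 1 n137815 = n105520 := d17_8 D105540 F347237 F347232 F344618 F162172 D136099 F219055 D137815 F162007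
theorem F361811 : act 1 n126783 = n137815 := d15_0 F361810 F162009 D126783
theorem F361812 : act 3 n137815 = n137079 := d20_5 D30307 (iv1 F48741) D48787 D105520 (iv1 F361810) (iv4 D137079) (iv1 D64439) F48772 (iv3 D14410) (iv1 F24028)
theorem F361813 : act 5 n137079 = n102629 := d6_2 D137815 F361812 F347281
theorem E102768 : n128523 = n102627 := ((c17_10 (iv1 F206712) D137490 (iv1 F220924) (iv5 D137080) D137079 F361813 (iv0 D102629) (iv5 D47597) D47596 D102627)).symm
theorem F361814 : act 0 n102627 = n64627 := (sb E102768 (iv1 F206712))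
theorem F361815 : act 1 n102627 = n60453 := (sb E102768 (iv0 D128523))
theorem F361816 : act 2 n102627 = n64626 := (sb E102768 F206718)
theorem F361817 : act 3 n102627 = n107300 := (sb E102768 F206711)
theorem F361818 : act 7 n102627 = n64625 := (sb E102768 (iv7 F206713))
theorem E102769 : n137779 = n102626 := (c5_5 D102627 F361817 (iv4 D107300) D107299 F221025 (iv3 D102626))
theorem F361819 : act 0 n102626 = n64809 := (sb E102769 (iv1 F221024))
theorem F361820 : act 1 n102626 = n64806 := (sb E102769 F221023)
theorem F361821 : act 2 n102626 = n64756 := (sb E102769 (iv2 D137779))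
theorem F361822 : act 4 n102626 = n107299 := (sb E102769 (iv4 F221025))
theorem F361823 : act 7 n102626 = n64805 := (sb E102769 F221022)
theorem F361824 : act 2 n137489 = n101775 := d3_3 (iv6 F275129) F361816 D137489
theorem F361825 : act 7 n101774 = n137489 := d15_2 F156642 F156646 F361824
theorem F361826 : act 6 n107116 = n101774 := d14_5 F361825 (iv6 D137489) (iv7 F333100) (iv6 F352940) (iv7 F352952)
theorem F361827 : act 5 n101774 = n142364 := d12_1 F361826 (iv6 D142364) D142363 F356093 F352960
theorem F361828 : act 3 n142371 = n101774 := d6_3 F361827 F225286 D142371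
theorem F361829 : act 5 n132214 = n136103 := d9_4 D137791 F347231 F217149 (iv4 F211828) (iv4 D136103) (iv5 D64005) (iv4 F76894) D105576 F342914 F97591 (iv4 F99033) D135480 F329380 (iv5 D64761) D64760
theorem F361830 : act 0 n138093 = n132424 := d17_0 (iv5 D132424) (iv1 F211826) F361829 (iv4 D136103) (iv5 D64005) D64003 D136097 F360513 D138093
theorem F361831 : act 7 n132215 = n138095 := d15_2 (iv0 F361830) F360516 (iv2 F328421)
theorem F361832 : act 0 n144714 = n145119 := d21_7 F344619 F219214 F347220 (iv6 D145644) (iv1 F183134) (iv6 F183138) D144714 (iv5 D145119) F321596 F163623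
theorem F361833 : act 1 n109278 = n145119 := d15_0 (iv0 F361832) F227549 F179563
theorem F361834 : act 5 n130542 = n113119 := d21_0 (iv1 D113119) (iv5 D52210) (iv6 F82538) (iv1 F347194) (iv6 D111958) (iv5 D51635) (iv1 F48576) D64065 (iv6 F344603) (iv1 F214391)
theorem F361835 : act 6 n130544 = n142491 := d21_3 (iv5 F361834) (iv1 D130542) D130544 (iv1 D142491) (iv6 D66806) (iv5 D31140) D31138 D66798 (iv6 F355184) (iv1 F178461)
theorem F361836 : act 3 n142491 = n130546 := d7_1 F361835 (iv6 D130546) (iv3 F209130)
theorem F361837 : act 4 n113098 = n105646 := d11_1 F347192 (iv7 D105646) (iv4 F162241)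
theorem E102770 : n105637 = n105513 := (c20_4 F219376 (iv1 F347191) F162241 (iv3 F162235) (iv1 F224389) (iv3 D141350) (iv4 D66308) (iv1 F49404) D48868 D105708 (iv1 F219378))
theorem F361838 : act 3 n105513 = n48840 := (sb E102770 F162235)
theorem F361839 : act 5 n105513 = n108144 := (sb E102770 (iv5 F167227))
theorem F361840 : act 6 n105513 = n48836 := (sb E102770 (iv6 D105637))
theorem F361841 : act 5 n133345 = n114421 := d21_0 (iv1 F178456) (iv5 D113117) (iv6 F176210) (iv1 F347191) (iv6 D105643) F76911 (iv1 F45268) D58887 (iv6 F344602) D133345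
theorem F361842 : act 0 n144109 = n136291 := d21_4 (iv5 F103443) (iv1 F340511) (iv5 D144108) D144109 (iv6 D136291) (iv5 D64074) (iv1 F48580) (iv5 F76911) D105643 F347190
theorem E102771 : n136262 = n117023 := ((c15_3 (iv0 F361842) (iv0 F340486) (iv7 F209132) (iv2 F219349))).symm
theorem F361843 : act 2 n117023 = n136291 := (sb E102771 (iv2 F219349))
theorem F361844 : act 6 n117023 = n64062 := (sb E102771 (iv6 D136262))
theorem F361845 : act 5 n155733 = n95362 := d6_2 F347158 (iv3 F244741) (iv3 F344649)
theorem F361846 : act 5 n155737 = n95360 := d12_5 F344650 F347158 (iv6 D74087) D74086 D155737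
theorem F361847 : act 7 n95615 = n155737 := d13_0 F361846 (iv7 F148376) F148375
theorem F361848 : act 0 n109536 = n95360 := d21_7 F244743 (iv1 D119190) (iv5 F329977) (iv6 D96204) (iv1 F70586) D87851 (iv5 F354564) (iv5 F361846) (iv6 D155737) D155734
theorem F361849 : act 5 n103941 = n99951 := d17_5 F289638 (iv5 F354564) F361848 (iv5 F361846) F326524 (iv0 D99951) (iv5 D46684) D46683 F148358
theorem F361850 : act 2 n103317 = n155733 := d2_3 F361845 (iv2 F148374) (iv5 F158560)
theorem F361851 : act 4 n155755 = n103317 := d1_0 F361850 F244742 (iv2 F244764)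
theorem F361852 : act 5 n142585 = n163277 := d6_2 F347156 D142585 (iv3 F344708)
theorem F361853 : act 7 n155733 = n142585 := d13_0 F361852 (iv7 F344647) (iv5 F361845)
theorem F361854 : act 4 n142585 = n155759 := d11_1 F361853 (iv7 D155759) (iv4 F244742)
theorem E102772 : n142500 = n136300 := ((c20_5 F81516 (iv1 F99688) (iv4 D64081) (iv3 F99678) D136300 (iv3 D142500) D142501 F344474 (iv4 F347151) (iv3 D109342) (iv1 F81519))).symm
theorem F361855 : act 3 n136300 = n66808 := (sb E102772 (iv3 D142500))
theorem F361856 : act 5 n142361 = n109704 := d2_2 (iv5 F169357) F347150 (iv2 D109704)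
theorem F361857 : act 5 n112232 = n178829 := d21_8 (iv5 F279038) (iv1 D179100) (iv5 D85460) F319063 (iv1 F102627) D142361 F361856 (iv1 F174563) (iv6 D178829) (iv1 F200775)
theorem E102773 : n142564 = n142361 := ((c17_8 (iv1 D31147) D31148 D66839 (iv5 F320608) (iv4 F278693) (iv5 F361857) F174563 (iv5 F361856) F225444 (iv4 D66836))).symm
theorem F361858 : act 0 n142361 = n66831 := (sb E102773 (iv1 D142564))
theorem F361859 : act 1 n142361 = n66836 := (sb E102773 F225444)
theorem E102774 : n142563 = n112016 := (c15_2 F361859 F225448 F174118 F347150)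
theorem F361860 : act 0 n112016 = n66836 := (sb E102774 (iv1 F225448))
theorem F361861 : act 1 n112016 = n66831 := (sb E102774 (iv0 D142563))
theorem F361862 : act 5 n178883 = n112231 := d17_5 (iv1 F102655) F319193 (iv1 F318480) (iv5 F320505) (iv4 F278747) (iv0 D112231) (iv5 F174117) F361861 (iv4 D66831)
theorem F361863 : act 7 n112231 = n109702 := d13_2 D178883 F361862 F347153
theorem F361864 : act 2 n109702 = n112232 := d15_3 F174563 F174557 F361863
theorem F361865 : act 2 n112231 = n109703 := d15_3 F174564 F174562 (iv7 F361863)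
theorem F361866 : act 7 n109703 = n112232 := d4_2 (iv7 F361863) F361865 (iv2 F361864)
theorem F361867 : act 2 n112016 = n155738 := d15_3 (iv0 D155738) (iv0 F347149) (iv7 F174118)
theorem F361868 : act 3 n155738 = n115643 := d0_2 D112016 F361867 F180009 (iv3 D109344) F81570
theorem F361869 : act 5 n155738 = n112233 := d2_2 (iv5 F174117) F361867 (iv2 D112233)
theorem F361870 : act 7 n155738 = n142361 := d4_2 (iv7 F174118) F361867 (iv2 F347150)
theorem F361871 : act 1 n142455 = n155738 := d15_1 (iv0 F347154) F361870 (iv2 F347150)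
theorem F361872 : act 3 n136760 = n158744 := d7_1 F347131 (iv6 D158744) (iv3 F300833)
theorem F361873 : act 2 n133093 = n130394 := d3_3 (iv6 D130394) F346985 D133093
theorem E102775 : n121098 = n120987 := (c15_2 F346933 D121098 F333776 D121087)
theorem F361874 : act 0 n120987 = n55876 := (sb E102775 (iv1 D121098))
theorem F361875 : act 1 n120987 = n55878 := (sb E102775 F193127)
theorem F361876 : act 2 n163192 = n112712 := d15_3 (iv0 F346927) (iv0 D163190) D163192
theorem F361877 : act 6 n156301 = n139669 := d12_4 (iv6 F318443) F346902 (iv6 D156302) D156301 (iv5 D139669)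
theorem F361878 : act 2 n176852 = n113413 := d1_3 F176601 F346865 D176852
theorem F361879 : act 2 n166584 = n113503 := d0_5 F327273 F361878 (iv3 D113413) F165518 (iv3 F358044)
theorem F361880 : act 6 n113503 = n177444 := d3_2 (iv6 F358045) F361879 F276865
theorem F361881 : act 7 n113503 = n166583 := d4_2 F358046 F361879 (iv2 F358050)
theorem E102776 : n113502 = n113410 := (c15_2 F327272 (iv0 F327271) F358046 F361879)
theorem F361882 : act 0 n113410 = n78602 := (sb E102776 F327271)
theorem F361883 : act 1 n113410 = n52391 := (sb E102776 (iv0 D113502))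
theorem F361884 : act 0 n176852 = n105254 := d20_7 F250781 F254410 (iv4 D84319) D84318 (iv1 F346846) (iv3 D176851) D176852 F343686 (iv3 D159306) D159304
theorem F361885 : act 3 n166143 = n104634 := d5_3 F346835 (iv3 F174618) (iv4 F332145) (iv4 D104634) D104633
theorem F361886 : act 0 n103094 = n104800 := d18_0 F346832 F111157 (iv4 F340579) (iv5 D96273) F70646 (iv0 F73263) F73262 D47794 D103094
theorem F361887 : act 1 n103094 = n139666 := d15_1 (iv0 F361886) F222840 (iv2 F346831)
theorem F361888 : act 5 n127680 = n184216 := d17_5 (iv1 D38925) D38926 D84423 F341008 D127680 (iv0 D184216) (iv5 D87862) F346804 (iv4 D84420)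
theorem E102777 : n145369 = n139716 := (c18_3 F330068 (iv4 F104313) D145369 (iv4 D139716) (iv5 F318384) F125484 F346804 (iv4 D84420) F75496 (iv5 F159159))
theorem F361889 : act 0 n139716 = n177174 := (sb E102777 (iv1 F357278))
theorem F361890 : act 1 n139716 = n68160 := (sb E102777 (iv0 D145369))
theorem F361891 : act 1 n127680 = n96376 := d18_6 F326749 D139716 F361889 (iv4 D177174) F341008 D127680 F320042 F324918 (iv5 D68240)
theorem F361892 : act 2 n102169 = n130577 := d15_3 F346799 F337132 (iv7 F339716)
theorem F361893 : act 7 n130577 = n95293 := d4_2 (iv7 F339716) F361892 (iv2 F147254)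
theorem F361894 : act 4 n100795 = n184343 := d5_2 F346787 (iv3 F154891) F286279 (iv4 F336305) (iv3 F336308)
theorem F361895 : act 0 n184343 = n102247 := d20_7 (iv4 D10770) D10768 D22786 D47436 (iv1 F339715) (iv3 F154891) F361894 (iv4 D102247) (iv3 D47458) (iv1 D22795)
theorem F361896 : act 0 n153695 = n103766 := d20_7 (iv4 F346779) F346766 F346764 F244683 (iv1 F110806) D150560 (iv4 F241569) F159194 (iv3 D103201) D103199
theorem F361897 : act 6 n177683 = n102169 := d10_0 F346764 F313874 D177683
theorem E102778 : n162961 = n103295 := ((c14_6 (iv7 F277123) F361897 F339716 F147255 (iv7 F75139) D103295)).symm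
theorem F361898 : act 4 n103295 = n78352 := (sb E102778 (iv4 D162961))
theorem F361899 : act 7 n103295 = n177683 := (sb E102778 (iv7 F277123))
theorem F361900 : act 3 n119279 = n103295 := d5_5 F361898 F119570 F311374 (iv3 F86832) (iv4 F187740)
theorem F361901 : act 3 n103757 = n152937 := d5_3 F346762 (iv3 D103756) D103757 (iv4 D152937) (iv3 F187035)
theorem F361902 : act 7 n153688 = n103757 := d8_0 F361901 F240169 D153688
theorem F361903 : act 0 n152937 = n167665 := d20_10 (iv4 D167665) (iv1 F306650) (iv4 F205962) D153695 F361896 (iv3 D103766) (iv4 D48044) D48042 D103757 F361901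
theorem E102779 : n167665 = n157161 := ((c15_1 D157161 (iv0 F361903) F240169 F314358)).symm
theorem F361904 : act 1 n157161 = n152937 := (sb E102779 (iv0 F361903))
theorem F361905 : act 2 n157161 = n152939 := (sb E102779 (iv2 F330093))
theorem F361906 : act 4 n157161 = n80463 := (sb E102779 (iv4 D167665))
theorem F361907 : act 6 n157161 = n80473 := (sb E102779 F263953)
theorem F361908 : act 7 n157161 = n127980 := (sb E102779 (iv7 F330108))
theorem F361909 : act 2 n127980 = n157160 := d15_3 (iv0 D157160) D157161 F361908
theorem F361910 : act 7 n152939 = n157160 := d4_2 (iv7 F361908) F361905 (iv2 F361909)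
theorem F361911 : act 4 n157160 = n127691 := d11_1 F361910 F307170 (iv4 F330094)
theorem F361912 : act 6 n157160 = n107455 := d14_1 F361910 F322058 F313839 (iv7 F299122) (iv6 F330095)
theorem F361913 : act 1 n152937 = n157160 := d15_1 F361904 (iv7 F361910) (iv2 F361905)
theorem F361914 : act 0 n153691 = n157176 := d20_4 F361911 (iv1 F241562) (iv4 D153692) D153691 (iv3 D157176) (iv4 D74731) (iv1 D34242) (iv4 F53883) (iv3 F112141) D157160
theorem F361915 : act 1 n142811 = n157162 := d17_6 (iv1 F306650) (iv5 F185581) (iv1 F350099) (iv5 F339622) F350097 D142811 (iv5 D157162) D157161 F361906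
theorem F361916 : act 5 n178234 = n176364 := d6_0 F346725 (iv5 D178236) D178234
theorem F361917 : act 2 n128280 = n128132 := d15_3 F346711 F278071 D128280
theorem F361918 : act 6 n120775 = n128280 := d3_0 F361917 (iv6 D128132) (iv2 F192601)
theorem F361919 : act 0 n99616 = n151495 := d21_4 F339099 (iv1 F346693) (iv5 F346694) D99616 (iv6 D151495) D151494 F238336 (iv5 D107942) D107943 F339001
theorem F361920 : act 4 n131262 = n99616 := d18_1 F215410 F361919 F238339 F107929 (iv4 F114995) (iv0 F346087) (iv4 F346088) (iv0 F336877) (iv5 F318758)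
theorem F361921 : act 1 n99616 = n151964 := d15_1 (iv0 F361919) (iv7 D151964) (iv2 F238338)
theorem F361922 : act 2 n99616 = n151962 := d1_1 F361920 (iv4 F332436) F234108
theorem F361923 : act 7 n99616 = n151961 := d11_2 (iv7 F234102) F361920 F238966
theorem F361924 : act 6 n151961 = n123540 := d14_1 F361923 F359909 (iv6 F339124) F359922 D99616
theorem F361925 : act 2 n154262 = n151961 := d3_3 F361924 F359908 D154262
theorem E102780 : n131163 = n123543 := ((c7_3 F361924 (iv3 D123540) D123543 (iv3 F361469))).symm
theorem F361926 : act 0 n123543 = n61532 := (sb E102780 (iv1 D131163))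
theorem F361927 : act 1 n123543 = n170667 := (sb E102780 (iv0 F361470))
theorem F361928 : act 3 n123543 = n151961 := (sb E102780 (iv3 F361469))
theorem F361929 : act 4 n148967 = n154262 := d1_0 F361925 F238966 (iv2 F234099)
theorem F361930 : act 7 n151962 = n154262 := d4_0 F361925 (iv7 F361923) F361922
theorem F361931 : act 1 n154262 = n151495 := d15_0 (iv0 F361919) F361923 (iv2 F361925)
theorem F361932 : act 1 n151964 = n154262 := d15_0 F361931 (iv7 F361483) (iv2 F361484)
theorem F361933 : act 0 n154261 = n100920 := d21_7 D107935 (iv1 F238337) (iv5 D151494) D151495 (iv1 F361931) (iv6 D154262) D154261 (iv5 D100920) (iv6 F318674) F107943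
theorem F361934 : act 6 n99571 = n151962 := d14_5 F361930 (iv6 D154262) (iv7 F359907) (iv6 D99621) (iv7 F359924)
theorem F361935 : act 2 n101769 = n139094 := d15_3 F321334 F346693 (iv7 F339115)
theorem F361936 : act 5 n99618 = n143570 := d6_2 F346691 D99618 (iv3 D143570)
theorem F361937 : act 4 n123545 = n99618 := d5_4 D99619 F346687 (iv4 D123546) D123545 (iv3 D99618)
theorem F361938 : act 0 n154067 = n99618 := d20_1 (iv4 F242117) (iv4 F361937) (iv3 D123545) (iv1 D57578) F44418 (iv4 F42966) D55341 F121517 D123001 F197066
theorem F361939 : act 0 n123545 = n177806 := d20_7 F310333 (iv1 F74459) (iv4 F74395) (iv3 F153317) (iv1 F153320) D99618 (iv4 F361937) F277319 F129886 (iv1 F308291)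
theorem F361940 : act 1 n154063 = n99618 := d15_0 (iv0 F361938) (iv7 D154067) (iv2 F242111)
theorem F361941 : act 0 n157668 = n123548 := d18_2 D75116 D157668 F346682 (iv5 D150078) F155530 (iv0 D79011) F56663 (iv0 F130987) D34398
theorem E102781 : n170698 = n123548 := ((c20_7 F125699 F297686 F121053 D78290 (iv1 F308765) (iv3 F236165) (iv4 F346682) (iv1 D170698) F305741 (iv3 F305736) (iv1 F299061))).symm
theorem F361942 : act 0 n123548 = n81833 := (sb E102781 (iv1 D170698))
theorem F361943 : act 7 n156605 = n116129 := d11_2 F346679 F246890 (iv4 F181805)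
theorem F361944 : act 2 n181764 = n156605 := d4_3 F361943 (iv2 F225381) F359917
theorem F361945 : act 1 n141367 = n156605 := d15_1 F357083 F361943 (iv2 F225381)
theorem E102782 : n136523 = n101156 := (c21_4 F346672 (iv1 D64177) D64179 D136523 (iv1 D101156) (iv6 D47116) F292150 (iv1 F291489) (iv5 F75643) (iv6 F75646) F155843)
theorem F361946 : act 3 n101156 = n64181 := (sb E102782 F219626)
theorem F361947 : act 6 n101156 = n64179 := (sb E102782 (iv6 D136523))
theorem F361948 : act 0 n137189 = n93110 := d21_7 (iv5 D10761) (iv1 F17178) (iv5 F34843) D46616 D99813 F346659 (iv5 F220349) F292961 (iv6 D47386) (iv1 D22764)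
theorem F361949 : act 1 n137189 = n100972 := d15_1 (iv0 F361948) (iv7 D100972) (iv2 F292959)
theorem F361950 : act 1 n137156 = n93110 := d15_0 (iv0 F361948) (iv7 D137189) (iv2 F220335)
theorem F361951 : act 1 n100972 = n137156 := d15_0 F361950 (iv7 F346647) (iv2 F346638)
theorem F361952 : act 4 n179164 = n116301 := d20_2 (iv4 F130706) D179164 F328203 (iv1 D66616) (iv3 F102554) (iv4 F103033) (iv1 F346605) (iv4 D139224) F339084 (iv1 D85505)
theorem F361953 : act 2 n116833 = n179164 := d1_3 F361952 F326016 (iv4 F182429)
theorem F361954 : act 7 n141396 = n179164 := d11_0 F361952 F326018 D141396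
theorem F361955 : act 5 n116301 = n133698 := d18_4 (iv1 D85505) (iv4 F130706) D179164 F361952 F248029 (iv0 F309383) F309385 F307342 (iv5 F308071)
theorem F361956 : act 1 n116251 = n179164 := d18_6 F310188 F308187 (iv1 F209936) (iv4 F335224) (iv5 D142355) (iv4 F181205) F361952 (iv0 F320216) (iv5 F319896)
theorem F361957 : act 1 n156695 = n141396 := d15_1 F342365 F361954 (iv2 F361953)
theorem E102783 : n141396 = n141179 := (c15_1 F361957 (iv0 D141179) (iv7 F325056) F319244)
theorem F361958 : act 0 n141179 = n156695 := (sb E102783 (iv1 F361957))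
theorem F361959 : act 2 n141179 = n67393 := (sb E102783 F321894)
theorem F361960 : act 4 n141179 = n66340 := (sb E102783 (iv4 D141396))
theorem F361961 : act 6 n141179 = n155681 := (sb E102783 F348151)
theorem F361962 : act 7 n141179 = n179164 := (sb E102783 F361954)
theorem F361963 : act 6 n177057 = n142040 := d10_0 F346604 (iv6 F308548) (iv4 F276470)
theorem F361964 : act 1 n156609 = n142040 := d18_6 (iv1 F309641) (iv4 F310911) F310908 (iv4 F344024) (iv5 D156612) (iv4 F246307) F346604 F209849 F200552
theorem F361965 : act 3 n138056 = n101669 := d7_3 F346596 (iv3 D138053) D138056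
theorem F361966 : act 6 n154367 = n105180 := d21_5 F298721 F296984 D79371 D165197 F346569 (iv5 D105180) F76493 D51931 D112557 F323300
theorem F361967 : act 2 n164280 = n154367 := d3_3 F361966 F166923 F354602
theorem F361968 : act 3 n105180 = n154369 := d7_1 F361966 (iv6 D154369) D154367
theorem F361969 : act 4 n137273 = n154367 := d10_3 F361966 F161098 D137273
theorem F361970 : act 3 n154361 = n137273 := d5_5 F361969 (iv3 D154367) (iv4 D73126) D73125 D154361
theorem F361971 : act 0 n97098 = n137273 := d20_1 (iv4 F149812) F361969 (iv3 D154367) (iv1 F339658) (iv3 D132822) F312464 (iv1 F312460) (iv4 D62232) (iv3 F96979) (iv1 F348930)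
theorem F361972 : act 0 n137273 = n97113 := d20_1 (iv4 F361969) F348928 F348925 F310253 (iv3 F342201) (iv4 F342202) (iv1 F346568) F298185 (iv3 F260459) F346569
theorem F361973 : act 1 n164446 = n97113 := d15_0 (iv0 F361972) (iv7 F357958) (iv2 F357959)
theorem F361974 : act 1 n97098 = n164446 := d15_0 F361973 (iv7 D97113) (iv2 F149810)
theorem F361975 : act 2 n164443 = n154361 := d0_5 F361970 (iv2 F354599) (iv3 F348884) F177934 D164443
theorem F361976 : act 6 n137271 = n154361 := d7_0 F361970 (iv6 D137273) (iv3 F220413)
theorem F361977 : act 4 n154363 = n137271 := d10_3 F361976 (iv4 D154361) D154363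
theorem F361978 : act 0 n149274 = n154361 := d21_4 F120352 F70954 (iv5 F106463) D149274 (iv6 F361976) (iv5 D137271) F173879 (iv5 F353327) (iv6 D100722) F120355
theorem F361979 : act 4 n154360 = n164443 := d1_0 F361975 (iv4 D154361) D154360
theorem F361980 : act 0 n93865 = n154360 := d20_7 F177928 (iv1 F290499) D78957 (iv3 F177601) F177603 (iv3 F149702) F149703 F361979 (iv3 D164443) (iv1 F177937)
theorem F361981 : act 1 n93865 = n153825 := d15_1 (iv0 F361980) F354983 D154360
theorem F361982 : act 5 n154369 = n105179 := d6_2 D105180 F361968 (iv3 D105179)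
theorem F361983 : act 7 n154369 = n113291 := d8_2 (iv7 F161099) F361968 F176504
theorem F361984 : act 0 n154369 = n163930 := d20_4 (iv4 F80480) (iv1 F100444) (iv4 F161098) F361968 F258364 F316436 (iv1 F130608) (iv4 F323587) F80475 D51019
theorem F361985 : act 0 n144815 = n154369 := d20_4 F51034 D32400 (iv4 F103920) D144815 (iv3 F361968) F161098 F100443 F53379 (iv3 D32096) D32094
theorem E102784 : n154368 = n132649 := ((c21_8 (iv5 D163930) F328754 (iv5 F328755) F328756 F356617 (iv6 F338394) (iv5 D132968) F338388 (iv5 D154368) D154369 F361984)).symm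
theorem F361986 : act 5 n132649 = n73126 := (sb E102784 (iv5 D154368))
theorem F361987 : act 6 n132651 = n120606 := d21_3 (iv5 F361986) (iv1 D132649) D132651 F336309 (iv6 D60204) (iv5 D28616) D28613 (iv5 F94634) D127899 F342769
theorem F361988 : act 4 n113291 = n154379 := d11_1 F361983 (iv7 D154379) (iv4 F242445)
theorem F361989 : act 1 n106399 = n158541 := d17_6 (iv1 F165023) (iv5 F336114) (iv1 F336118) F37907 (iv4 F77623) D106399 (iv5 F330917) (iv0 F346543) F346547
theorem F361990 : act 7 n158541 = n141757 := d15_2 (iv0 F346536) F361989 (iv2 D141757)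
theorem F361991 : act 5 n150319 = n178918 := d21_2 F130684 D150319 F345586 (iv1 F331845) (iv6 F331850) F330917 (iv1 F361989) (iv5 D106399) (iv6 F82558) F318513
theorem F361992 : act 2 n175579 = n150319 := d2_3 F361991 (iv2 F345585) F331957
theorem F361993 : act 6 n173557 = n150319 := d12_0 F361991 F345586 F311770 (iv6 F308603) F308602
theorem F361994 : act 7 n175938 = n150319 := d13_0 F361991 F345584 (iv5 F275318)
theorem F361995 : act 0 n175000 = n179116 := d21_4 F331847 (iv1 F309560) (iv5 F308413) D175000 (iv6 D179116) F130684 D150319 F361991 F345586 (iv1 F331845)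
theorem F361996 : act 3 n107678 = n175000 := d20_3 (iv4 F167734) (iv1 F167736) (iv4 F175457) F361995 F279070 F130686 F317390 (iv4 F317392) (iv3 F319646) F167738
theorem F361997 : act 5 n141757 = n136739 := d13_1 F361990 (iv7 F219915) F330917
theorem F361998 : act 1 n107383 = n141757 := d15_1 (iv0 F336046) (iv7 F361990) F336044
theorem F361999 : act 1 n141757 = n185792 := d15_1 F361998 (iv7 F336076) F336075
theorem F362000 : act 5 n126713 = n131006 := d6_2 D131008 F346546 (iv3 D131006)
theorem F362001 : act 2 n131006 = n126714 := d2_1 F362000 (iv5 D126714) D126713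
theorem F362002 : act 7 n131006 = n133516 := d13_2 F219937 F362000 F361154
theorem F362003 : act 3 n103840 = n153743 := d0_2 D153512 F346522 (iv2 D153743) (iv3 D72737) (iv2 F109092)
theorem F362004 : act 0 n107092 = n153743 := d20_4 F39039 D24900 (iv4 F111251) D107092 (iv3 F362003) F346521 (iv1 F346525) F203975 (iv3 D110984) (iv1 D51170)
theorem F362005 : act 1 n107092 = n153515 := d15_1 (iv0 F362004) F241269 D153743
theorem F362006 : act 2 n126759 = n103256 := d4_3 F346518 F203710 D126759
theorem F362007 : act 1 n103256 = n126756 := d15_0 (iv0 D126756) D126759 F362006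
theorem F362008 : act 1 n105553 = n128506 := d15_0 (iv0 F346516) (iv7 D107697) (iv2 F162116)
theorem F362009 : act 6 n177663 = n126757 := d7_0 F346515 F339201 D177663
theorem F362010 : act 1 n107594 = n177675 := d15_1 (iv0 F346483) (iv7 D177675) (iv2 F277102)
theorem F362011 : act 0 n107595 = n179061 := d20_4 F328304 D102161 (iv4 F336419) F346481 (iv3 D179061) (iv4 F336347) (iv1 D154283) D154284 F336350 (iv1 D176631)
theorem F362012 : act 2 n107598 = n179061 := d15_3 (iv0 F362011) F360181 (iv7 F166004)
theorem F362013 : act 7 n179061 = n107641 := d4_2 (iv7 F166004) F362012 (iv2 D107641)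
theorem F362014 : act 1 n107640 = n179061 := d15_1 D107640 F362013 (iv2 D107641)
theorem F362015 : act 3 n152605 = n175698 := d8_3 (iv7 F275105) F346472 F259323
theorem F362016 : act 3 n101643 = n112707 := d0_2 F362015 (iv2 F275104) F175418 F361256 F259316
theorem F362017 : act 5 n112707 = n131573 := d6_2 (iv5 F304825) F362016 F333420
theorem F362018 : act 0 n115359 = n161890 := d20_7 F92589 F318515 (iv4 F322099) F314154 D101643 F362016 (iv4 F179638) (iv4 D161890) F117125 F324085
theorem F362019 : act 0 n126633 = n112707 := d18_0 (iv4 F179638) F362018 (iv4 D161890) (iv5 D77748) D77747 (iv0 F314160) F188276 (iv0 F314158) (iv5 F331936)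
theorem F362020 : act 1 n147969 = n115082 := d17_6 F346437 D114464 F322759 F104507 (iv4 F114766) (iv5 F231785) F179199 F239347 F346438
theorem F362021 : act 0 n142520 = n147657 := d20_7 (iv4 F163450) (iv1 F177891) F177892 (iv3 F258981) (iv1 D159732) (iv3 F342987) (iv4 F229067) (iv4 F346411) F163444 D106385
theorem E102785 : n135255 = n106379 := ((c18_2 F362021 (iv4 F346411) (iv1 D135255) (iv4 F217458) F330328 (iv4 F181814) D140718 (iv4 F324240) F324238 D142520)).symm
theorem F362022 : act 0 n106379 = n63571 := (sb E102785 (iv1 D135255))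
theorem F362023 : act 1 n107676 = n147657 := d15_0 (iv0 F362021) (iv7 F227419) (iv2 F331688)
theorem F362024 : act 0 n152512 = n106378 := d21_1 D152512 (iv5 D106378) D106379 F362022 (iv6 D63571) (iv5 D30017) D30015 (iv5 F97727) D133479 F354426
theorem F362025 : act 2 n142407 = n151622 := d1_3 F346406 F181720 D142407
theorem F362026 : act 7 n142367 = n151622 := d11_0 F346406 F181721 D142367
theorem F362027 : act 3 n107040 = n174158 := d7_1 F346367 (iv6 D174158) (iv3 F272946)
theorem F362028 : act 7 n174158 = n107031 := d8_2 D107040 F362027 F164966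
theorem F362029 : act 4 n107031 = n174065 := d11_1 F362028 F272871 (iv4 F272953)
theorem F362030 : act 3 n177517 = n107037 := d5_3 F362029 F339269 D177517 F164976 (iv3 F164966)
theorem F362031 : act 0 n111381 = n107031 := d20_1 F175487 F362029 F339269 (iv1 D84566) (iv3 D39025) (iv4 D18527) F27593 D34783 D76151 (iv1 F349924)
theorem F362032 : act 1 n174153 = n174150 := d15_0 (iv0 D174150) D174154 F346363
theorem F362033 : act 4 n174150 = n107402 := d18_7 D49607 F163980 (iv1 F100217) (iv4 F80711) D110966 F346364 F362032 (iv0 D107402) (iv5 D49609)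
theorem F362034 : act 3 n174901 = n174907 := d20_5 F128328 (iv1 D38518) D38519 D83544 D174901 F273809 (iv1 F271623) (iv4 F271572) (iv3 F346351) (iv1 F271577)
theorem F362035 : act 0 n174092 = n123338 := d20_4 (iv4 D160763) (iv1 F300897) D83225 D174092 F197650 (iv4 F343756) (iv1 F173189) (iv4 F172698) F346347 (iv1 F300899)
theorem F362036 : act 4 n151279 = n89843 := d16_4 F183426 F85247 (iv4 F107785) D151279 F137909 F76072 D102536 F346307 (iv2 F183425)
theorem F362037 : act 7 n138943 = n151279 := d11_0 F362036 (iv7 F138054) (iv4 F346829)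
theorem F362038 : act 2 n154987 = n143712 := d2_3 F346292 (iv2 F239451) (iv5 F346283)
theorem F362039 : act 7 n154601 = n144556 := d15_2 F346276 (iv0 F342210) (iv2 F331695)
theorem F362040 : act 7 n120682 = n126717 := d4_2 F346275 F268251 (iv2 F219921)
theorem F362041 : act 1 n154601 = n126717 := d15_1 (iv0 F342210) (iv7 F362040) (iv2 F268251)
theorem F362042 : act 3 n108836 = n154977 := d6_3 F346272 F168810 D108836
theorem F362043 : act 1 n154977 = n116693 := d15_0 (iv0 D116693) D116696 F346270
theorem F362044 : act 5 n116693 = n178545 := d17_7 F346266 (iv5 F341269) (iv1 F353059) (iv5 D108872) (iv4 F168811) (iv5 F346272) F362043 (iv0 D178545) D178547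
theorem F362045 : act 4 n178498 = n116693 := d20_0 (iv1 F362043) (iv4 D154977) F313435 (iv1 F103106) (iv3 F312228) D73485 F337102 F337099 (iv3 F223259) F318792
theorem F362046 : act 0 n166117 = n149152 := d20_4 D67221 (iv1 F321931) F321933 D166117 (iv3 F278136) F362045 (iv1 F362043) (iv4 D154977) F313435 (iv1 F103106)
theorem F362047 : act 1 n166117 = n149058 := d15_1 (iv0 F362046) F234411 (iv2 F234529)
theorem F362048 : act 4 n149156 = n143723 := d20_0 F324816 F339392 F313416 (iv1 F346257) F346211 F346254 (iv1 D149178) (iv4 D70011) (iv3 F106406) D149156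
theorem E102786 : n164333 = n146543 := (c14_5 (iv7 F183789) F346139 F324750 D78927 D164333 (iv6 D146543))
theorem F362049 : act 7 n146543 = n78927 := (sb E102786 (iv7 D164333))
theorem F362050 : act 1 n164274 = n106160 := d15_0 (iv0 F354441) F362049 (iv2 F323423)
theorem E102787 : n175321 = n164261 := (c20_5 (iv4 D146679) (iv1 F229993) F341971 F337910 D175321 F258903 F120104 D78910 (iv4 F337851) F346129 (iv1 F241226))
theorem F362051 : act 1 n164261 = n83722 := (sb E102787 (iv0 D175321))
theorem F362052 : act 7 n175322 = n93850 := d15_2 F362051 D175322 (iv2 F258902)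
theorem F362053 : act 5 n90577 = n175322 := d13_3 F362052 (iv5 F319156) F319157
theorem E102788 : n149260 = n139976 := (c20_11 (iv4 F346119) (iv1 F346118) F340118 (iv3 D170581) (iv1 D81764) (iv3 F125678) (iv4 F344114) (iv1 D149265) F106462 (iv3 F106456) D149260)
theorem F362054 : act 1 n139976 = n70060 := (sb E102788 (iv0 D149260))
theorem E102789 : n176329 = n149261 := ((c15_2 F362054 D149261 (iv7 F361074) (iv2 F361082))).symm
theorem F362055 : act 2 n149261 = n134576 := (sb E102789 (iv2 F361073))
theorem F362056 : act 3 n149261 = n119970 := (sb E102789 F361072)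
theorem F362057 : act 4 n149261 = n84084 := (sb E102789 F275636)
theorem F362058 : act 6 n149261 = n84083 := (sb E102789 (iv6 D176329))
theorem F362059 : act 7 n149261 = n155403 := (sb E102789 (iv7 F361074))
theorem F362060 : act 4 n149264 = n142834 := d20_8 F192398 (iv1 F335781) (iv4 F335779) (iv3 F362056) (iv1 D149261) F106456 (iv4 F106462) D149264 F225732 (iv1 F322354)
theorem F362061 : act 0 n149259 = n142611 := d20_1 (iv4 F234649) F225471 F102686 (iv1 F311567) (iv3 F192397) F192398 (iv1 F335781) (iv4 F335779) (iv3 F362056) (iv1 D149261)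
theorem F362062 : act 3 n159835 = n149264 := d5_5 F362060 F225732 (iv4 F331574) F331573 (iv4 F251958)
theorem F362063 : act 6 n142833 = n149264 := d10_0 F362060 (iv6 D142834) D142833
theorem F362064 : act 0 n97174 = n95491 := d20_10 F147124 (iv1 F334999) (iv4 F362060) (iv3 F362062) (iv1 F251960) F147241 F316756 (iv1 F94857) F319355 D97174
theorem F362065 : act 1 n97174 = n149278 := d15_1 (iv0 F362064) (iv7 D149278) (iv2 F147123)
theorem F362066 : act 4 n149278 = n170571 := d18_7 (iv1 D158458) F113454 D75596 (iv4 F344382) F317621 (iv4 F319353) F362065 (iv0 F337084) (iv5 F334996)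
theorem F362067 : act 0 n97128 = n149278 := d20_7 D160093 F252668 F115016 F85790 (iv1 F314036) (iv3 F102292) (iv4 F317682) F362066 F337081 (iv1 F238978)
theorem F362068 : act 3 n149265 = n96967 := d20_3 F362066 (iv1 D170571) (iv4 F344114) (iv1 D96967) F71430 (iv4 F59965) (iv1 F314767) F317684 D97128 F362067
theorem F362069 : act 7 n164424 = n149265 := d8_0 F362068 F178259 D164424
theorem E102790 : n149270 = n95761 := (c20_3 F106462 D70064 D149270 (iv3 D95761) (iv1 F71655) (iv3 F120150) F120151 (iv1 F83270) (iv4 F149559) (iv3 F362068) (iv1 D149265))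
theorem F362070 : act 1 n95761 = n70068 := (sb E102790 F337194)
theorem F362071 : act 4 n95761 = n70064 := (sb E102790 (iv4 D149270))
theorem F362072 : act 2 n97128 = n95761 := d1_3 F362071 (iv2 F320895) (iv4 F317682)
theorem F362073 : act 6 n141563 = n95761 := d10_0 F362071 F318756 D141563
theorem F362074 : act 7 n97174 = n95761 := d11_0 F362071 (iv7 F321621) (iv4 F319353)
theorem E102791 : n149263 = n109569 := ((c20_5 (iv4 F149014) F314790 F320363 D97061 (iv1 F348959) F234651 F106462 D70064 (iv4 F362071) (iv3 D95761) (iv1 F71655))).symm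
theorem F362075 : act 2 n109569 = n183218 := (sb E102791 (iv2 F284869))
theorem F362076 : act 3 n109569 = n70063 := (sb E102791 F234651)
theorem F362077 : act 6 n109569 = n70062 := (sb E102791 (iv6 D149263))
theorem E102792 : n149273 = n95813 := ((c20_6 (iv4 F169520) (iv1 F348892) (iv4 F348928) F149850 (iv1 F71613) D95813 (iv4 D149273) (iv1 D70065) (iv4 F106462) (iv3 F362076) (iv1 D109569))).symm
theorem F362078 : act 0 n95813 = n70068 := (sb E102792 F344089)
theorem F362079 : act 4 n95813 = n70065 := (sb E102792 (iv4 D149273))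
theorem F362080 : act 2 n97174 = n95813 := d1_3 F362079 F322659 (iv4 F319353)
theorem F362081 : act 7 n97128 = n95813 := d11_0 F362079 F322661 (iv4 F317682)
theorem F362082 : act 4 n167345 = n164424 := d20_2 (iv4 F230854) F334995 (iv3 D164424) F149566 F149562 F317069 F205239 F324997 D95813 F362078
theorem F362083 : act 2 n164424 = n149264 := d1_1 F362082 F362060 F334994
theorem F362084 : act 0 n164424 = n149267 := d18_2 F334995 F362082 F234652 (iv5 F318854) (iv4 F346977) (iv0 D161849) F303286 (iv0 F314273) (iv5 F230855)
theorem F362085 : act 1 n164424 = n131396 := d18_6 F278617 F306999 (iv1 F312088) D80312 D167345 F362082 (iv4 D131396) F317618 (iv5 F317621)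
theorem F362086 : act 7 n109568 = n183218 := d15_2 F348959 F361148 (iv2 F362075)
theorem F362087 : act 1 n97128 = n95491 := d15_0 (iv0 F362064) F362074 (iv2 F362072)
theorem E102793 : n173695 = n154347 := ((c3_3 (iv6 F336895) F346107 D154347 F272222)).symm
theorem F362088 : act 0 n154347 = n84153 := (sb E102793 (iv1 F272226))
theorem F362089 : act 1 n154347 = n84152 := (sb E102793 F272228)
theorem F362090 : act 2 n154347 = n83070 := (sb E102793 F272222)
theorem F362091 : act 3 n154347 = n84079 := (sb E102793 F272223)
theorem F362092 : act 5 n154347 = n83069 := (sb E102793 (iv5 D173695))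
theorem F362093 : act 7 n154347 = n84150 := (sb E102793 F272224)
theorem F362094 : act 1 n134531 = n154341 := d15_1 D134531 F346105 F211609
theorem F362095 : act 4 n132949 = n134531 := d18_7 (iv1 F206352) F206349 (iv1 F109252) F339661 (iv5 D62395) (iv4 F97277) D132949 F362094 (iv5 D154341)
theorem F362096 : act 1 n129086 = n132044 := d17_6 (iv1 D134531) F342209 (iv1 D73121) D73122 D154350 F358582 F347515 D132949 F362095
theorem E102794 : n132949 = n127363 := ((c21_10 (iv5 F347515) (iv1 F362096) (iv5 F358582) (iv6 F358584) (iv1 F212061) (iv6 F359786) (iv5 F203754) (iv1 D59821) D59823 D127363 (iv1 D132949))).symm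
theorem F362097 : act 0 n127363 = n62386 := (sb E102794 (iv1 D132949))
theorem F362098 : act 4 n127363 = n134531 := (sb E102794 F362095)
theorem F362099 : act 6 n134531 = n127362 := d10_2 D127363 F362098 (iv4 D127362)
theorem E102795 : n127368 = n106586 := (c20_5 F354361 (iv1 F362094) (iv4 F362098) F204668 D127368 F164148 F77820 (iv1 F100247) D60959 D129792 F354362)
theorem F362100 : act 0 n106586 = n113544 := (sb E102795 (iv1 F204678))
theorem F362101 : act 1 n106586 = n59825 := (sb E102795 (iv0 D127368))
theorem F362102 : act 0 n132790 = n105301 := d20_4 (iv4 D63744) (iv1 F48348) (iv4 F98864) (iv3 F213271) F161460 (iv4 F94224) (iv1 F362101) F164149 F99131 (iv1 F100274)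
theorem F362103 : act 1 n132776 = n105301 := d15_0 (iv0 F362102) (iv7 D132790) (iv2 F213247)
theorem F362104 : act 2 n113908 = n127369 := d15_3 F204672 (iv0 F362100) F345937
theorem F362105 : act 4 n127369 = n113906 := d1_2 D113908 F362104 F177203
theorem F362106 : act 7 n113903 = n127369 := d11_0 F362105 (iv7 D113906) D113903
theorem F362107 : act 2 n106586 = n113903 := d4_3 F362106 (iv2 F362104) (iv7 F345937)
theorem F362108 : act 3 n113903 = n131943 := d0_2 (iv3 F164148) F362107 F211419 F96508 (iv2 F77819)
theorem F362109 : act 6 n113903 = n106584 := d3_2 D106586 F362107 (iv2 D106584)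
theorem E102796 : n175320 = n123103 := (c20_1 (iv4 F274368) (iv1 D123103) (iv4 F109618) F109617 D73120 (iv3 F346103) (iv4 D88506) F68973 F319799 (iv3 F341976) (iv1 D175322))
theorem F362110 : act 4 n123103 = n83722 := (sb E102796 F274368)
theorem F362111 : act 6 n123103 = n83721 := (sb E102796 (iv6 D175320))
theorem F362112 : act 1 n117646 = n149172 := d15_1 F346081 (iv7 F346074) (iv2 F346079)
theorem F362113 : act 3 n127534 = n186552 := d5_5 F289483 F346063 D117640 F184235 D127534
theorem F362114 : act 3 n117515 = n186555 := d8_3 (iv7 D186555) F346063 (iv7 F233832)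
theorem F362115 : act 4 n186555 = n127651 := d5_2 F184102 F362114 (iv3 D127651) (iv4 D59935) D59934
theorem F362116 : act 7 n127651 = n186552 := d11_2 D186555 F362115 F289483
theorem F362117 : act 0 n186552 = n109888 := d20_4 F94413 (iv1 F94371) D127534 F362113 F169900 (iv4 F169910) F358572 (iv4 F231539) (iv3 D147799) F105519
theorem E102797 : n183866 = n177894 := ((c20_8 (iv4 F62386) (iv1 F134628) (iv4 F137688) F346055 (iv1 D149108) F106388 D84690 D177894 (iv4 D183866) (iv3 D87707) (iv1 F61961))).symm
theorem F362118 : act 4 n177894 = n87707 := (sb E102797 (iv4 D183866))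
theorem F362119 : act 7 n177894 = n88262 := (sb E102797 F285681)
theorem F362120 : act 6 n102084 = n138080 := d21_3 F346036 (iv1 F346046) F329309 (iv1 D138080) (iv6 F203890) (iv5 D126696) F111425 D64399 F328568 (iv1 F346035)
theorem F362121 : act 2 n138080 = n185345 := d3_1 F362120 (iv6 D185345) (iv2 F290012)
theorem F362122 : act 3 n89539 = n177747 := d20_3 D22813 D47495 F137261 (iv1 F277191) (iv3 F289793) (iv4 F346027) (iv1 D115607) (iv4 F346028) (iv3 D47492) (iv1 D22812)
theorem F362123 : act 2 n177888 = n99938 := d0_3 F362122 F277422 D177888 (iv3 D99938) (iv2 F137257)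
theorem F362124 : act 7 n100388 = n177888 := d15_2 (iv0 F153869) D100388 F362123
theorem F362125 : act 3 n171183 = n100388 := d8_3 F362124 (iv3 D177888) F277424
theorem F362126 : act 5 n100388 = n171168 := d6_2 D171183 F362125 F268917
theorem F362127 : act 6 n102363 = n100388 := d12_0 F362126 (iv6 D171168) (iv5 F337114) F356847 (iv5 F356857)
theorem F362128 : act 6 n137015 = n115607 := d10_0 F346027 (iv6 F328568) D137015
theorem F362129 : act 6 n115375 = n140267 := d12_4 F362128 F179934 F111105 D115375 F223387
theorem F362130 : act 2 n140267 = n140268 := d3_1 F362129 (iv6 D140268) (iv2 F179651)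
theorem F362131 : act 4 n140268 = n115375 := d10_3 F362129 (iv4 D140267) D140268
theorem E102798 : n185362 = n182238 := (c15_4 (iv0 D182238) D182239 F346009 F289914)
theorem F362132 : act 2 n182238 = n185435 := (sb E102798 (iv2 F289914))
theorem F362133 : act 5 n182238 = n88309 := (sb E102798 (iv5 D185362))
theorem F362134 : act 7 n182238 = n185431 := (sb E102798 F289913)
theorem F362135 : act 4 n154105 = n153914 := d18_3 (iv1 D85432) (iv4 F326221) D154105 (iv5 D153914) F109330 D124685 F342699 F345972 (iv5 D179063)
theorem F362136 : act 6 n153921 = n154105 := d10_0 F362135 F241895 D153921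
theorem F362137 : act 0 n182250 = n153660 := d21_1 (iv5 F283695) (iv5 F242047) (iv6 D154020) (iv1 D72883) (iv6 F109363) (iv5 D72870) D72868 D153986 F345946 (iv1 D183500)
theorem F362138 : act 7 n184751 = n183452 := d15_2 F345929 D184751 F345941
theorem F362139 : act 2 n184751 = n183457 := d4_3 F345933 (iv2 F345941) (iv7 F362138)
theorem F362140 : act 5 n113348 = n177346 := d12_1 F345928 (iv6 D177346) (iv5 D84485) D84486 D177347
theorem F362141 : act 0 n148747 = n132411 := d20_4 (iv4 D32360) D32358 D69713 D148747 F212481 D132421 F345907 (iv4 F233555) (iv3 D148760) (iv1 D69719)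
theorem F362142 : act 6 n129675 = n126476 := d12_4 D126477 F345890 F97072 (iv5 F207850) (iv5 D126476)
theorem F362143 : act 4 n129157 = n129708 := d1_2 (iv4 F207838) F345883 F207892
theorem F362144 : act 7 n129157 = n129652 := d4_2 D129660 F345883 F207831
theorem F362145 : act 1 n129157 = n129657 := d15_0 (iv0 D129657) D129660 F345883
theorem F362146 : act 5 n129652 = n129158 := d13_1 F362144 (iv7 D129158) D129157
theorem F362147 : act 1 n129658 = n129157 := d15_1 D129658 F362144 F207831
theorem F362148 : act 4 n129658 = n185791 := d20_8 (iv4 F319814) (iv1 F69488) (iv4 F135589) (iv3 F354295) (iv1 F212842) F212838 (iv4 F362143) (iv1 F362147) (iv3 D185791) F319808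
theorem F362149 : act 3 n185789 = n129658 := d5_5 F362148 (iv3 D185791) (iv4 D88486) D88485 D185789
theorem F362150 : act 1 n129659 = n129155 := d15_0 (iv0 D129155) D129158 F345879
theorem E102799 : n165942 = n129173 := (c18_8 (iv1 F208172) (iv4 D129818) F95520 (iv4 F95539) (iv5 F208206) F345870 (iv0 F324199) D165942 (iv0 F216291) (iv5 D134266))
theorem F362151 : act 4 n129173 = n79682 := (sb E102799 (iv4 D165942))
theorem F362152 : act 2 n132350 = n129173 := d1_3 F362151 F324205 D132350
theorem F362153 : act 7 n132345 = n129173 := d11_0 F362151 F324206 D132345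
theorem F362154 : act 7 n129170 = n132350 := d16_8 F362151 (iv5 D79682) D79681 (iv5 F325961) (iv4 D110364) (iv5 F80288) D60723 D129170 F362152
theorem F362155 : act 2 n132345 = n129170 := d4_3 F362154 F362152 (iv7 F362153)
theorem F362156 : act 5 n132350 = n110451 := d13_1 F362154 F170833 D129170
theorem F362157 : act 5 n132345 = n110459 := d9_8 F362156 (iv4 D110451) (iv5 D50930) D50929 D110450 F330783 (iv5 F330785) D132345 (iv4 D110459) (iv5 D50934) D50933 (iv5 F327255) F132101 F324207 D132350
theorem F362158 : act 5 n137346 = n137192 := d6_0 F345851 (iv5 D137347) D137346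
theorem E102800 : n136942 = n101715 := ((c21_3 (iv5 D47294) D47290 D101715 (iv6 D136942) (iv1 D64367) (iv6 D30314) D30313 D64363 F114701 D64564 (iv1 F345844))).symm
theorem F362159 : act 6 n101715 = n64367 := (sb E102800 (iv6 D136942))
theorem E102801 : n136938 = n136922 := (c3_2 F362159 (iv2 F220116) F346520 (iv2 F339194))
theorem F362160 : act 2 n136922 = n64367 := (sb E102801 F220116)
theorem F362161 : act 7 n136922 = n64366 := (sb E102801 (iv7 D136938))
theorem E102802 : n160332 = n136939 := ((c7_2 F362159 D136939 (iv6 D160332) (iv3 F324286))).symm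
theorem F362162 : act 6 n136939 = n76842 := (sb E102802 (iv6 D160332))
theorem E102803 : n150581 = n136940 := ((c10_2 F362159 D136940 (iv6 F342328) F342326)).symm
theorem F362163 : act 0 n136940 = n149521 := (sb E102803 (iv1 F237101))
theorem F362164 : act 1 n136940 = n70978 := (sb E102803 (iv0 D150581))
theorem F362165 : act 2 n136940 = n128508 := (sb E102803 (iv2 F339200))
theorem F362166 : act 5 n136940 = n127766 := (sb E102803 (iv5 F346490))
theorem F362167 : act 6 n136940 = n177654 := (sb E102803 (iv6 F342328))
theorem F362168 : act 7 n136940 = n128503 := (sb E102803 (iv7 F339211))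
theorem E102804 : n136933 = n101949 := (c14_3 (iv7 F324287) F362159 F220115 (iv6 D101949) (iv7 F289577) F153212)
theorem F362169 : act 2 n101949 = n64366 := (sb E102804 (iv2 D136933))
theorem F362170 : act 7 n101949 = n64367 := (sb E102804 (iv7 F220115))
theorem E102805 : n150582 = n136935 := ((c1_3 (iv4 F347042) F362169 D136935 (iv2 F339209))).symm
theorem F362171 : act 0 n136935 = n70978 := (sb E102805 (iv1 D150582))
theorem F362172 : act 1 n136935 = n149521 := (sb E102805 F237104)
theorem F362173 : act 2 n136935 = n128503 := (sb E102805 (iv2 F339209))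
theorem F362174 : act 5 n136935 = n127767 := (sb E102805 (iv5 F346494))
theorem F362175 : act 6 n136935 = n160603 := (sb E102805 (iv6 F337557))
theorem F362176 : act 7 n136935 = n128508 := (sb E102805 (iv7 F339202))
theorem E102806 : n136937 = n99770 := (c3_3 D101949 F362169 D136937 F156229)
theorem F362177 : act 6 n99770 = n64366 := (sb E102806 (iv6 D136937))
theorem F362178 : act 0 n160058 = n136934 := d20_4 F86528 F55643 D76649 D160058 (iv3 D136934) D136935 F362171 (iv4 F237091) (iv3 D150576) F107522
theorem F362179 : act 3 n150253 = n164154 := d6_3 F345819 F262762 F304708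
theorem F362180 : act 0 n152612 = n161367 := d20_7 (iv4 F323606) (iv1 F316113) (iv4 F323535) D161177 (iv1 F345793) F239791 D152612 (iv4 D161367) F116285 D77480
theorem F362181 : act 5 n163004 = n162811 := d13_1 F345787 (iv7 F257093) D162819
theorem E102807 : n162811 = n121063 := ((c21_11 (iv5 F362181) (iv1 D163004) (iv5 D78384) (iv6 F57125) (iv1 F328692) D104643 F333907 (iv1 F190320) D153598 F323498 (iv1 F193077))).symm
theorem F362182 : act 2 n121063 = n78265 := (sb E102807 (iv2 D162811))
theorem F362183 : act 5 n121063 = n163004 := (sb E102807 (iv5 F362181))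
theorem F362184 : act 6 n121063 = n147644 := (sb E102807 F336601)
theorem F362185 : act 7 n121063 = n78266 := (sb E102807 (iv7 F257093))
theorem F362186 : act 0 n167709 = n129059 := d19_16 F345762 (iv5 F339176) F250713 (iv3 D76162) (iv1 F56408) F314100 F130756 (iv3 F110513) (iv1 D24320) F18714 F11566 (iv3 F13145) D17684 D36693 D80480 D167709 (iv5 D129059) F95270 (iv3 F206998)
theorem F362187 : act 6 n132958 = n180623 := d7_2 F345752 (iv3 F315981) (iv3 F281159)
theorem F362188 : act 0 n132958 = n152626 := d21_4 F344727 (iv1 F258192) (iv5 F281158) (iv6 F362187) (iv6 F308692) F308691 F271474 F344717 (iv6 D163682) (iv1 F344723)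
theorem F362189 : act 3 n128912 = n172432 := d6_3 F345750 (iv3 D128910) D128912
theorem F362190 : act 6 n180350 = n128912 := d7_0 F362189 F345751 D180350
theorem E102808 : n129043 = n128912 := (c20_5 (iv4 F95155) (iv1 F95156) F46427 D60671 D129043 F362189 (iv4 D172432) D172430 F345382 F206835 F95061)
theorem F362191 : act 1 n128912 = n60671 := (sb E102808 (iv0 D129043))
theorem F362192 : act 3 n174299 = n161515 := d20_3 (iv4 D83375) (iv1 F128485) (iv4 F273098) (iv1 F303090) F345656 (iv4 F334567) (iv1 F343399) F319557 F317254 F343389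
theorem E102809 : n124491 = n124481 := ((c3_4 (iv6 F336003) F345551 (iv6 D124485) D124481)).symm
theorem F362193 : act 0 n124481 = n58102 := (sb E102809 (iv1 F199119))
theorem F362194 : act 1 n124481 = n58100 := (sb E102809 (iv0 D124491))
theorem F362195 : act 6 n124481 = n178177 := (sb E102809 (iv6 F336003))
theorem F362196 : act 2 n108950 = n124488 := d1_1 F345547 (iv4 D124488) (iv2 F199118)
theorem F362197 : act 7 n108950 = n124483 := d11_2 D124486 F345547 (iv4 D124483)
theorem F362198 : act 3 n124483 = n108633 := d8_1 F362197 F202521 D108950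
theorem F362199 : act 2 n135563 = n159853 := d3_1 F345493 (iv6 D159853) (iv2 F251996)
theorem F362200 : act 7 n101482 = n136926 := d15_2 (iv0 D101481) D101482 F345492
theorem F362201 : act 2 n115276 = n101408 := d3_3 F345480 F179538 D115276
theorem F362202 : act 4 n101404 = n115276 := d1_0 F362201 (iv4 D101408) (iv2 F156244)
theorem E102810 : n115277 = n115267 := (c15_2 F345477 F179540 (iv7 F179536) (iv2 F179538))
theorem F362203 : act 0 n115267 = n53185 := (sb E102810 (iv1 F179540))
theorem F362204 : act 1 n115267 = n53183 := (sb E102810 (iv0 D115277))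
theorem F362205 : act 4 n115267 = n63041 := (sb E102810 F330985)
theorem F362206 : act 2 n137325 = n101242 := d3_3 F345452 F336132 D137325
theorem F362207 : act 3 n101404 = n137325 := d0_0 F362206 F155975 F74407 (iv3 F74480) (iv2 F156244)
theorem E102811 : n137599 = n137325 := (c2_1 F335762 F362206 (iv5 D101242) (iv2 F290173))
theorem F362208 : act 1 n137325 = n64674 := (sb E102811 (iv0 D137599))
theorem F362209 : act 5 n137325 = n101187 := (sb E102811 (iv5 F335762))
theorem F362210 : act 7 n101375 = n137325 := d4_0 F362206 F155976 (iv2 F156171)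
theorem F362211 : act 1 n101378 = n137325 := d15_1 D101378 (iv7 F362210) F156171
theorem F362212 : act 2 n136078 = n101378 := d15_3 F362211 F362208 (iv7 F218995)
theorem F362213 : act 3 n101378 = n137592 := d0_2 D136078 F362212 (iv2 D137592) (iv3 D64669) (iv2 F166467)
theorem F362214 : act 7 n101378 = n137601 := d4_2 (iv7 F218995) F362212 (iv2 D137601)
theorem F362215 : act 4 n102597 = n137592 := d20_2 D47587 D102597 (iv3 F362213) (iv1 D101378) F74468 D47190 D101389 F156190 (iv3 F153685) (iv1 D47586)
theorem F362216 : act 2 n116266 = n102597 := d1_3 F362215 (iv2 D137592) (iv4 F181222)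
theorem F362217 : act 7 n102598 = n116266 := d15_2 (iv0 D102597) D102598 F362216
theorem F362218 : act 3 n110874 = n102598 := d8_3 F362217 (iv3 D116266) (iv7 F171739)
theorem F362219 : act 4 n136081 = n102598 := d11_3 F362217 F181222 (iv7 F219006)
theorem E102812 : n143278 = n136081 := ((c20_7 F361411 (iv1 D80603) D80604 (iv3 F321533) F171740 F362218 (iv4 F362219) (iv1 D143278) (iv4 F226070) F226069 D143249)).symm
theorem F362220 : act 0 n136081 = n67123 := (sb E102812 (iv1 D143278))
theorem F362221 : act 1 n136081 = n143483 := (sb E102812 F359473)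
theorem F362222 : act 5 n143483 = n90526 := d18_9 (iv1 F153407) F153404 (iv1 D47570) F35573 D22883 D47587 D102598 (iv4 F362219) F362221
theorem F362223 : act 5 n99576 = n143280 := d2_2 F362222 (iv2 F153424) F359472
theorem F362224 : act 5 n99654 = n137343 := d13_3 (iv7 F359471) F362222 (iv7 F153406)
theorem E102813 : n143277 = n137592 := ((c15_4 (iv0 D143277) (iv0 F362220) F219006 D137592)).symm
theorem F362225 : act 0 n137592 = n143483 := (sb E102813 (iv1 F359475))
theorem F362226 : act 1 n137592 = n67123 := (sb E102813 (iv0 D143277))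
theorem F362227 : act 6 n102598 = n138634 := d7_2 F172380 F362218 (iv3 D138634)
theorem F362228 : act 4 n102612 = n116276 := d20_8 F181227 (iv1 F93974) D110874 F362218 (iv1 D102598) D102599 F157700 D102612 (iv3 D116276) D116275
theorem F362229 : act 3 n107271 = n102612 := d5_5 F362228 (iv3 D116276) (iv4 D53593) (iv3 F104351) D107271
theorem F362230 : act 7 n102612 = n127116 := d8_2 (iv7 F165318) F362229 (iv3 D127116)
theorem F362231 : act 6 n182415 = n134187 := d12_4 D137325 F362209 F292333 D182415 F336142
theorem F362232 : act 0 n101261 = n136950 := d21_4 (iv5 D182056) (iv1 D86950) D86951 (iv6 F156022) (iv6 D136950) F100312 D64552 (iv5 F336142) (iv6 F362231) (iv1 F344327)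
theorem E102814 : n111752 = n111357 := (c2_4 F345423 (iv2 F345268) (iv5 D111755) (iv2 F173441))
theorem F362233 : act 2 n111357 = n51522 := (sb E102814 F173441)
theorem F362234 : act 7 n111357 = n51521 := (sb E102814 (iv7 D111752))
theorem F362235 : act 7 n111749 = n139297 := d11_2 F362234 D111749 F351246
theorem E102815 : n111747 = n111356 := (c15_4 (iv0 D111356) D111357 F362234 D111747)
theorem F362236 : act 2 n111356 = n51521 := (sb E102815 (iv2 D111747))
theorem F362237 : act 7 n111356 = n51522 := (sb E102815 (iv7 F173440))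
theorem F362238 : act 2 n139297 = n111754 := d16_9 (iv4 D111754) D111755 F345269 (iv5 F130011) (iv4 F345266) (iv5 D156018) D156017 F332959 F362235
theorem F362239 : act 2 n111749 = n139296 := d15_3 (iv0 D139296) D139297 (iv7 F362235)
theorem F362240 : act 4 n139296 = n111356 := d1_2 D111749 F362239 F362236
theorem F362241 : act 7 n139296 = n111754 := d4_2 (iv7 F362235) F362239 (iv2 F362238)
theorem F362242 : act 1 n111749 = n115923 := d15_0 F345275 (iv7 F362241) (iv2 F362239)
theorem F362243 : act 0 n156017 = n136472 := d21_1 (iv5 F332959) F344818 (iv6 F331014) (iv1 F343837) (iv6 D110858) (iv5 D51117) (iv1 F40906) D53449 D115923 (iv1 F362242)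
theorem F362244 : act 1 n139299 = n111749 := d15_1 (iv0 F345274) F362235 F362238
theorem E102816 : n111756 = n110282 := (c3_3 (iv6 F345424) F362233 D111756 (iv2 F172850))
theorem F362245 : act 6 n110282 = n51522 := (sb E102816 (iv6 D111756))
theorem F362246 : act 5 n184221 = n179802 := d6_0 F345421 F294996 D184221
theorem F362247 : act 3 n128881 = n172463 := d6_3 F345383 F325743 D128881
theorem F362248 : act 6 n128862 = n128881 := d7_0 F362247 F361721 (iv3 F361719)
theorem F362249 : act 7 n172461 = n128881 := d8_0 F362247 (iv7 D172463) D172461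
theorem F362250 : act 0 n128881 = n128774 := d19_4 (iv1 F155168) (iv5 F127193) (iv4 F270671) (iv3 F362247) (iv5 D128774) (iv4 F355239) F355238 (iv1 F97721) (iv5 F319758) (iv4 D38681) D38680 F312328 (iv5 D83321) F303984 D62812 F184650 F96253 (iv4 F96265) (iv3 F313515)
theorem F362251 : act 2 n128600 = n172461 := d4_3 F362249 F207124 (iv7 F206848)
theorem F362252 : act 5 n128599 = n172461 := d13_3 F362249 (iv5 D128881) (iv7 F206843)
theorem F362253 : act 1 n128884 = n172461 := d15_1 D128884 F362249 F207124
theorem F362254 : act 1 n128600 = n128774 := d15_0 (iv0 F362250) (iv7 F362249) (iv2 F362251)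
theorem F362255 : act 5 n128884 = n128586 := d19_1 (iv1 F362253) (iv4 F332632) F332631 (iv1 F97716) (iv5 F318968) (iv4 D83052) D83051 (iv1 F312786) (iv5 D130072) F185277 D61636 D131337 (iv5 F210520) F315980 (iv3 D82564) (iv1 D37900) D37901 D82570 D172461
theorem F362256 : act 6 n128586 = n131890 := d21_3 F362252 (iv1 F362253) F362255 (iv1 D131890) (iv6 D61887) D61886 (iv1 F342924) F342925 (iv6 F342926) (iv1 F206844)
theorem F362257 : act 2 n131890 = n128770 := d3_1 F362256 (iv6 D128770) (iv2 F214638)
theorem F362258 : act 2 n128769 = n128884 := d2_3 F362255 F214638 D128769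
theorem F362259 : act 7 n128774 = n128884 := d13_0 F362255 F214639 D128774
theorem F362260 : act 1 n128769 = n128600 := d15_0 F362254 F362259 (iv2 F362258)
theorem F362261 : act 2 n128774 = n128883 := d15_3 (iv0 D128883) D128884 (iv7 F362259)
theorem F362262 : act 5 n128883 = n128585 := d2_2 D128774 F362261 F214641
theorem F362263 : act 7 n128883 = n128769 := d4_2 (iv7 F362259) F362261 F362258
theorem F362264 : act 1 n128881 = n128769 := d15_1 (iv0 F362250) (iv7 F362263) (iv2 F362261)
theorem F362265 : act 1 n172461 = n128883 := d15_1 F362253 F362263 F362258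
theorem F362266 : act 4 n128883 = n104847 := d19_2 D128585 (iv5 F362262) (iv3 D104847) (iv1 D48469) D48470 D104853 F340329 (iv1 F77722) (iv5 D24021) F18354 (iv3 F10180) (iv1 D5215) (iv5 D2140) (iv4 F3500) (iv3 F4509) D6518 D13693 D28722 D60478
theorem F362267 : act 6 n172542 = n128600 := d3_0 F362251 F270670 D172542
theorem F362268 : act 3 n128602 = n172542 := d7_3 F362267 F206847 D128602
theorem F362269 : act 2 n128886 = n128862 := d3_3 F362248 F207124 D128886
theorem F362270 : act 5 n128606 = n128886 := d2_0 F362269 F207115 (iv2 F206862)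
theorem F362271 : act 7 n128605 = n128886 := d4_0 F362269 (iv7 D128862) (iv2 F206861)
theorem F362272 : act 1 n128886 = n128859 := d15_0 (iv0 D128859) D128862 (iv2 F362269)
theorem F362273 : act 3 n128894 = n128605 := d8_3 F362271 F207126 D128894
theorem F362274 : act 1 n128860 = n128886 := d15_1 D128860 (iv7 F362271) F206861
theorem F362275 : act 0 n180123 = n128940 := d19_16 (iv1 F362274) (iv5 F207114) F207041 (iv3 F214366) (iv1 F214370) (iv5 F220486) (iv4 F332380) (iv3 D173376) (iv1 F127883) F59368 (iv4 F31250) F118114 F118102 D40111 (iv4 F297531) D180123 (iv5 D128940) F95247 (iv3 F207126)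
theorem E102817 : n113940 = n112692 := ((c21_2 F328812 (iv1 F204596) (iv5 D113940) D113941 F342916 (iv6 F206864) F362270 (iv1 F362274) (iv5 F207114) (iv6 D128792) (iv1 F165243))).symm
theorem F362276 : act 5 n112692 = n52599 := (sb E102817 (iv5 D113940))
theorem F362277 : act 2 n127351 = n112692 := d2_3 F362276 (iv2 F329452) (iv5 F336184)
theorem F362278 : act 7 n127352 = n112692 := d13_0 F362276 (iv7 F342855) (iv5 F342864)
theorem F362279 : act 2 n127352 = n112691 := d15_3 (iv0 D112691) D112692 (iv7 F362278)
theorem F362280 : act 7 n112691 = n127351 := d4_2 (iv7 F362278) F362279 F362277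
theorem F362281 : act 5 n128938 = n125684 := d17_3 F362275 (iv5 D128940) D128938 (iv4 F355928) F146963 (iv0 F142871) F347473 (iv0 F347475) (iv4 F299705)
theorem F362282 : act 4 n128940 = n104788 := d20_8 (iv4 D139666) (iv1 F161253) (iv4 F174983) F325080 (iv1 F300480) D166207 (iv4 F299705) F362275 F160586 F340582
theorem F362283 : act 0 n113249 = n166079 := d20_4 F362282 F160588 D104820 F356066 (iv3 D166079) (iv4 D79735) (iv1 F118098) (iv4 F297531) D180123 F362275
theorem F362284 : act 6 n104788 = n128944 := d10_2 (iv6 F207164) F362282 (iv4 D128944)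
theorem F362285 : act 4 n113927 = n128893 := d16_2 F143143 (iv5 F177287) (iv5 D128893) (iv4 F95247) D128940 F362282 (iv5 D104788) F160557 F160553
theorem F362286 : act 3 n128893 = n128606 := d5_1 F362285 F206863 (iv3 F203285) F203286 (iv3 F349138)
theorem F362287 : act 5 n128892 = n113438 := d17_7 (iv1 F161502) F83016 (iv1 F143142) (iv5 F177287) F362285 (iv5 D128893) D128892 F204765 F204760
theorem F362288 : act 4 n128857 = n96287 := d19_6 (iv1 F143142) (iv5 F177287) F362285 F362286 (iv1 F206865) D128857 (iv3 D96287) (iv1 F138082) (iv5 D89916) (iv4 D42012) (iv3 F64840) F290677 (iv5 D48279) F70686 F70685 (iv1 F290899) (iv5 F290934) F33049 (iv3 F68268)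
theorem F362289 : act 3 n96239 = n128857 := d5_5 F362288 (iv3 D96287) (iv4 D44949) (iv3 F70628) D96239
theorem F362290 : act 5 n128856 = n96239 := d6_0 F362289 (iv5 D128857) D128856
theorem F362291 : act 7 n113437 = n128892 := d13_0 F362287 (iv7 D113438) D113437
theorem F362292 : act 4 n126212 = n128938 := d18_5 (iv1 F204754) F204755 (iv1 D105318) (iv4 F93363) D126212 (iv0 D128938) F95247 D128892 F362287
theorem E102818 : n131882 = n113438 := (c21_6 F332807 (iv1 D61866) D61867 (iv6 F332814) (iv1 F163811) D131882 (iv5 F362287) (iv1 D128892) D128893 F207129 (iv1 F332806))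
theorem F362293 : act 6 n113438 = n61884 := (sb E102818 (iv6 D131882))
theorem F362294 : act 6 n128938 = n126215 := d10_2 (iv6 F202974) F362292 (iv4 D126215)
theorem F362295 : act 5 n126215 = n167709 := d21_6 (iv5 D13730) D13727 D28786 D60636 D128938 F362294 F362186 (iv5 D129059) (iv6 D60674) (iv1 D28797)
theorem F362296 : act 3 n113432 = n126215 := d6_3 F362295 (iv3 D167709) (iv5 F331150)
theorem F362297 : act 3 n128892 = n96650 := d8_1 F362291 (iv7 F297472) (iv3 F331142)
theorem F362298 : act 6 n128892 = n96652 := d14_1 F362291 (iv7 F254497) (iv6 F299387) F331143 (iv6 F176624)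
theorem E102819 : n128891 = n127407 := ((c15_4 (iv0 D128891) D128892 (iv7 F362291) (iv2 F204768))).symm
theorem F362299 : act 1 n127407 = n60616 := (sb E102819 (iv0 D128891))
theorem F362300 : act 4 n96673 = n128892 := d10_3 F362298 F148940 (iv6 F148990)
theorem F362301 : act 7 n128850 = n96673 := d11_0 F362300 (iv7 F362291) (iv4 F341624)
theorem F362302 : act 0 n128853 = n96673 := d18_0 F362300 (iv1 D128892) (iv4 F95247) D128940 F362282 F160591 (iv4 F361713) (iv0 D172540) (iv5 F325918)
theorem F362303 : act 0 n113353 = n128969 := d18_0 F207180 F362302 F362300 F362287 F176625 F94265 (iv4 F178281) (iv0 D113351) D113353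
theorem F362304 : act 0 n128929 = n125693 := d20_4 F362300 (iv1 D128892) (iv4 F95247) (iv3 F207154) F329145 (iv4 D82593) (iv1 F113317) (iv4 F127228) (iv3 F325917) F362302
theorem F362305 : act 1 n128602 = n96673 := d15_0 (iv0 F362302) (iv7 D128853) (iv2 F206851)
theorem F362306 : act 5 n128601 = n128894 := d6_0 F362273 (iv5 D128605) (iv3 F206849)
theorem F362307 : act 1 n128894 = n113437 := d17_6 (iv1 D52539) F40335 D43416 D92801 F333515 F362306 (iv5 D113437) D113436 F176623
theorem F362308 : act 3 n172444 = n125639 := d20_9 (iv4 D125943) F161424 (iv4 F176474) F343613 F164622 (iv3 F206835) (iv4 F345382) (iv1 F270656) D172444 (iv1 F202438)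
theorem F362309 : act 3 n164564 = n155085 := d0_0 F345372 F255153 (iv2 F300358) (iv3 F303136) (iv2 F259404)
theorem F362310 : act 5 n180641 = n164157 := d12_5 F345357 (iv5 D180644) (iv6 D86288) D86287 D180641
theorem F362311 : act 4 n178867 = n180641 := d16_0 F362310 (iv4 D164157) (iv5 F323617) (iv4 F312660) (iv5 F314452) F131911 D178870 F279040 (iv2 F279039)
theorem F362312 : act 6 n180640 = n178867 := d10_0 F362311 (iv6 D180641) D180640
theorem F362313 : act 5 n180642 = n180643 := d17_1 D180642 (iv1 D180643) D180644 (iv4 F345350) F345351 F166047 (iv5 F338767) (iv0 D86295) (iv4 F132252)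
theorem F362314 : act 1 n163092 = n180642 := d18_8 (iv1 D180643) F132252 D86295 (iv4 F351055) (iv5 D163100) (iv4 D78417) D78415 D163092 F362313
theorem F362315 : act 0 n120055 = n127061 := d21_4 D64260 F322912 F87446 D120055 (iv6 D127061) (iv5 F345347) (iv1 F199094) (iv5 F323017) (iv6 D136725) (iv1 D64259)
theorem E102820 : n177485 = n141159 := ((c20_7 F314551 F362315 F217890 F217887 F214446 F214442 (iv4 F224148) (iv1 D177485) (iv4 F332919) F211402 F203387)).symm
theorem F362316 : act 0 n141159 = n84554 := (sb E102820 (iv1 D177485))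
theorem F362317 : act 7 n120055 = n126868 := d15_2 F344999 (iv0 F362315) (iv2 F220475)
theorem F362318 : act 0 n177486 = n139429 := d17_2 F362316 D177486 F222631 F101153 (iv5 F98252) (iv0 F98255) D63069 (iv0 F101817) (iv4 F224148)
theorem E102821 : n177484 = n141317 := ((c15_4 (iv0 D177484) (iv0 F362316) (iv7 F246508) F246506)).symm
theorem F362319 : act 1 n141317 = n84554 := (sb E102821 (iv0 D177484))
theorem F362320 : act 0 n143875 = n155684 := d20_4 F224335 F168237 (iv4 F103256) (iv3 F226492) F358786 (iv4 F358787) F358767 (iv4 F358764) F358763 (iv1 F362319)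
theorem F362321 : act 1 n143875 = n151374 := d15_1 (iv0 F362320) (iv7 F348145) (iv2 F348146)
theorem F362322 : act 0 n143874 = n155605 := d21_7 (iv5 F328873) D93027 F328509 D151374 (iv1 F362321) (iv6 D143875) D143874 (iv5 D155605) (iv6 D74025) F322623
theorem F362323 : act 1 n177486 = n115932 := d15_1 (iv0 F362318) (iv7 F246048) F246047
theorem F362324 : act 6 n112876 = n116967 := d10_2 F345304 F217036 (iv4 F345302)
theorem F362325 : act 3 n134739 = n135195 := d20_5 F79521 (iv1 F79518) (iv4 F48061) (iv3 F98551) D134739 (iv4 D135195) (iv1 D63525) (iv4 F98834) F345287 (iv1 F84241)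
theorem F362326 : act 6 n135149 = n134739 := d7_0 F362325 F350738 (iv3 F351247)
theorem F362327 : act 3 n123761 = n111755 := d5_5 F345269 (iv3 F345255) (iv4 D101126) F304669 D123761
theorem F362328 : act 5 n111753 = n123761 := d6_0 F362327 (iv5 D111755) D111753
theorem F362329 : act 6 n157935 = n123761 := d7_0 F362327 F345270 D157935
theorem F362330 : act 4 n123763 = n157935 := d10_3 F362329 (iv4 D123761) D123763
theorem F362331 : act 3 n101127 = n123763 := d5_5 F362330 (iv3 D157935) (iv4 D75235) (iv3 F112778) (iv4 F345253)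
theorem F362332 : act 4 n124873 = n111753 := d16_0 F362328 (iv4 D123761) F302082 F310573 (iv5 F222374) (iv4 F312319) D124868 F314699 (iv2 F314710)
theorem F362333 : act 0 n108583 = n142039 := d20_4 F98573 (iv1 F98624) F98627 D108583 F351890 F362332 F350385 (iv4 D138476) F100847 (iv1 F98575)
theorem F362334 : act 4 n180439 = n101164 := d18_5 F122841 F60684 D39885 D86176 D180439 F345224 (iv4 D180790) (iv0 F262468) (iv5 D166737)
theorem F362335 : act 3 n180439 = n109018 := d20_9 (iv4 F327616) D90229 (iv4 F326775) F326774 F132123 (iv3 F132346) D180790 (iv1 F345224) (iv4 F362334) (iv1 D109018)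
theorem E102822 : n186051 = n90241 := (c19_17 F136908 F289707 F343087 (iv3 F362335) (iv1 F354719) (iv5 F354677) (iv4 D125447) (iv3 D58730) (iv1 D27921) (iv5 F27600) (iv4 F54921) (iv3 D34669) D34667 F292434 F291529 (iv3 F135823) D186051 (iv5 D90241) (iv4 F136907) F136906)
theorem F362336 : act 0 n90241 = n102862 := (sb E102822 (iv1 F288663))
theorem F362337 : act 1 n90241 = n88620 := (sb E102822 (iv0 D186051))
theorem F362338 : act 1 n180790 = n101163 := d15_0 (iv0 D101163) D101165 (iv2 F345222)
theorem F362339 : act 4 n101163 = n180449 := d18_7 (iv1 F254414) (iv4 D86357) (iv1 D39972) (iv4 F60820) D86348 D180790 F362338 (iv0 F354718) (iv5 F354677)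
theorem E102823 : n114524 = n90694 := (c15_2 F345198 D114524 (iv7 F228243) (iv2 F228241))
theorem F362340 : act 0 n90694 = n52861 := (sb E102823 (iv1 D114524))
theorem F362341 : act 1 n90694 = n145259 := (sb E102823 F228248)
theorem E102824 : n184586 = n110985 := ((c18_2 F345197 (iv4 F339954) (iv1 D184586) (iv4 F345133) F305029 (iv4 D67572) D67571 D144264 (iv0 F345038) (iv5 F345187))).symm
theorem F362342 : act 0 n110985 = n88022 := (sb E102824 (iv1 D184586))
theorem F362343 : act 5 n106928 = n125494 := d6_2 D125496 F345194 F201837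
theorem F362344 : act 2 n125494 = n109221 := d2_1 F362343 (iv5 D109221) (iv2 F164795)
theorem F362345 : act 4 n109221 = n156144 := d1_2 (iv4 F201838) F362344 F245384
theorem F362346 : act 3 n110942 = n103808 := d7_1 F345175 (iv6 D103808) D103806
theorem F362347 : act 2 n103808 = n153712 := d0_1 F362346 F241580 (iv2 F186229) F317569 (iv2 F171987)
theorem F362348 : act 7 n103808 = n110937 := d8_2 D110942 F362346 F171973
theorem E102825 : n112854 = n103811 := (c11_2 F362348 (iv4 F175742) (iv7 D103811) (iv4 F159235))
theorem F362349 : act 3 n103811 = n52092 := (sb E102825 F175741)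
theorem F362350 : act 4 n103811 = n110937 := (sb E102825 F175742)
theorem F362351 : act 6 n103811 = n52091 := (sb E102825 (iv6 D112854))
theorem F362352 : act 4 n153712 = n103616 := d1_2 (iv4 F159235) F362347 F158976
theorem F362353 : act 3 n103616 = n119252 := d5_1 F362352 F187697 F86824 (iv4 F109217) (iv3 F241580)
theorem F362354 : act 3 n184110 = n107464 := d20_5 (iv4 D87814) (iv1 D40917) D40918 D87818 D184110 F339926 D127818 (iv4 F339946) F345168 (iv1 F135028)
theorem F362355 : act 5 n107463 = n184110 := d6_0 F362354 (iv5 D107464) D107463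
theorem F362356 : act 6 n114527 = n184110 := d7_0 F362354 F339927 D114527
theorem F362357 : act 7 n106869 = n93019 := d16_8 F345164 F140494 F292869 (iv5 F335659) F80922 F39115 (iv4 F78083) D106869 F339905
theorem F362358 : act 3 n92625 = n106869 := d8_3 F362357 (iv3 D93019) (iv7 F142719)
theorem F362359 : act 1 n115792 = n93019 := d15_1 D115792 (iv7 F362357) F164700
theorem F362360 : act 1 n152560 = n99914 := d15_0 F157639 (iv7 F153049) F345129
theorem F362361 : act 1 n101095 = n91270 := d17_8 F159978 (iv5 F145583) F145586 F239750 F345121 (iv5 D87969) (iv0 F153159) D101095 (iv4 F340052)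
theorem F362362 : act 0 n101097 = n134160 := d20_7 D87803 (iv1 F140498) (iv4 D91271) D91270 (iv1 F362361) F155765 D101097 F216191 F343908 (iv1 D87802)
theorem F362363 : act 0 n100586 = n90708 := d20_4 F139611 F293224 (iv4 F74131) D100586 (iv3 D90708) F292307 F291450 D90412 F345118 (iv1 F294245)
theorem F362364 : act 0 n92924 = n114289 := d20_1 (iv4 F143287) F178147 (iv3 D52778) D52776 F329963 F74355 (iv1 D46471) D46472 D99386 F345115
theorem F362365 : act 3 n100591 = n90712 := d0_0 F345111 (iv3 D99386) F73387 D46921 D100591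
theorem F362366 : act 7 n107327 = n145328 := d11_2 F345101 (iv4 F180529) F228374
theorem F362367 : act 6 n93321 = n115939 := d14_5 F345101 D139465 (iv7 F331761) F155721 (iv7 F143905)
theorem E102826 : n139463 = n115938 := (c15_4 (iv0 D115938) D115939 F345101 (iv2 F222656))
theorem F362368 : act 2 n115938 = n65452 := (sb E102826 F222656)
theorem F362369 : act 6 n115938 = n150128 := (sb E102826 F361453)
theorem F362370 : act 7 n115938 = n65451 := (sb E102826 (iv7 D139463))
theorem F362371 : act 7 n139461 = n145366 := d11_2 F362370 D139461 F228408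
theorem F362372 : act 2 n145366 = n107327 := d15_3 (iv0 F228411) F228410 F362371
theorem F362373 : act 2 n139461 = n145328 := d4_1 (iv7 F362371) (iv7 F362366) (iv2 F362372)
theorem E102827 : n141261 = n110892 := ((c21_4 (iv5 F101835) (iv1 F222661) (iv5 D110891) D110892 (iv1 F357362) F357359 (iv5 D183973) F134738 D93321 F362367 (iv1 D115939))).symm
theorem F362374 : act 0 n110892 = n138022 := (sb E102827 (iv1 F357362))
theorem F362375 : act 1 n110892 = n66255 := (sb E102827 (iv0 D141261))
theorem F362376 : act 2 n184259 = n139460 := d0_3 F345099 F143911 (iv3 F286187) (iv3 D139460) (iv2 F345098)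
theorem F362377 : act 0 n115945 = n93323 := d20_4 F101420 F180707 (iv4 D115946) D115945 (iv3 F345099) (iv4 F228374) F228375 F104312 (iv3 D65698) D65696
theorem F362378 : act 1 n115945 = n184303 := d15_1 (iv0 F362377) F286247 (iv2 F143911)
theorem F362379 : act 1 n139485 = n93323 := d15_0 (iv0 F362377) F183035 D139485
theorem F362380 : act 1 n184303 = n139485 := d15_0 F362379 (iv7 F331754) (iv2 F331755)
theorem F362381 : act 6 n139460 = n100165 := d3_2 D184259 F362376 F154098
theorem F362382 : act 3 n100165 = n139462 := d7_1 F362381 (iv6 D139462) D139460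
theorem F362383 : act 5 n119211 = n139460 := d12_5 F362381 (iv5 D100165) (iv6 F140423) F335360 (iv6 F187580)
theorem F362384 : act 1 n104239 = n95388 := d15_0 (iv0 F345093) (iv7 F293412) F293408
theorem F362385 : act 7 n95388 = n104235 := d15_2 D104239 F362384 F159828
theorem F362386 : act 5 n115797 = n154772 := d6_0 F345052 (iv5 D115798) D115797
theorem F362387 : act 2 n93084 = n100692 := d0_5 F345048 (iv2 F335387) F136966 F294631 D93084
theorem F362388 : act 5 n111163 = n100692 := d6_0 F345048 (iv5 D111165) (iv3 F172413)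
theorem F362389 : act 1 n100693 = n90328 := d17_6 D47130 D101197 (iv1 F359970) F362388 (iv4 D100692) D100693 (iv5 D90328) (iv0 F68092) F68091
theorem F362390 : act 5 n100376 = n100148 := d18_9 (iv1 D100148) D100149 F335720 F245103 F362388 (iv4 D100692) (iv0 D46960) (iv4 F74034) D100376
theorem F362391 : act 2 n90810 = n100693 := d15_3 F362389 (iv0 F283823) F143387
theorem F362392 : act 1 n90807 = n100693 := d15_0 F362389 F138965 (iv2 F139790)
theorem E102828 : n100694 = n90134 := (c21_4 D90328 (iv1 F362389) (iv5 D100693) D100694 (iv1 F138582) (iv6 D42178) (iv5 F40425) F67745 F67742 D43355 F68092)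
theorem F362393 : act 6 n90134 = n46960 := (sb E102828 (iv6 D100694))
theorem F362394 : act 6 n100691 = n92500 := d7_2 F362393 D100691 F142398
theorem F362395 : act 6 n100693 = n145078 := d12_2 F362393 D100693 (iv5 D145078) D145079 F339569
theorem F362396 : act 6 n100695 = n94047 := d14_3 (iv7 F138580) F362393 D100695 F145647 (iv6 D90244)
theorem E102829 : n100701 = n100695 := (c21_5 D90438 F159976 F157531 F290842 (iv1 F154810) F362396 F145646 F326625 F325801 (iv6 F142908) (iv1 F135533))
theorem F362397 : act 0 n100695 = n46962 := (sb E102829 (iv1 D100701))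
theorem F362398 : act 1 n100695 = n46964 := (sb E102829 F154810)
theorem F362399 : act 5 n90809 = n100695 := d21_8 (iv5 D134473) (iv1 D63163) (iv5 F323567) D88198 F135139 (iv6 D42531) D42530 D90809 F362396 F339551
theorem F362400 : act 0 n100702 = n92682 := d21_1 D100702 (iv5 D92682) (iv6 D43355) F32540 D20500 D43378 D92729 (iv5 F145646) (iv6 F362396) F362397
theorem F362401 : act 7 n100693 = n90809 := d13_0 F362399 (iv7 D100695) D100693
theorem F362402 : act 2 n92502 = n100691 := d3_3 F362394 (iv2 D92500) D92502
theorem F362403 : act 5 n99487 = n186568 := d21_0 (iv1 D186568) (iv5 D88859) F293194 D93064 F345036 (iv5 D84036) F327392 (iv5 D47368) D47369 (iv1 F335342)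
theorem F362404 : act 2 n186568 = n89365 := d2_1 F362403 F357146 (iv2 F357144)
theorem F362405 : act 7 n186568 = n89366 := d13_2 (iv7 F357145) F362403 F347749
theorem F362406 : act 3 n148127 = n186568 := d8_3 F362405 F347747 D148127
theorem F362407 : act 2 n89366 = n186567 := d15_3 (iv0 D186567) D186568 F362405
theorem F362408 : act 7 n89365 = n186567 := d4_2 (iv7 F362405) F362404 (iv2 F362407)
theorem F362409 : act 5 n186567 = n91087 := d13_1 F362408 F357548 (iv5 F357146)
theorem F362410 : act 0 n89362 = n172225 := d21_4 (iv5 F362409) (iv1 F289509) (iv5 D89361) D89362 (iv6 D172225) D172224 F357560 F147836 F147829 (iv1 F357546)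
theorem F362411 : act 6 n186567 = n120465 := d21_3 (iv5 F74570) (iv1 F357546) (iv5 F362409) F355610 (iv6 D123603) F90761 F300573 (iv5 F300576) (iv6 F303374) F289945
theorem F362412 : act 3 n120468 = n186567 := d7_3 F362411 (iv3 D120465) D120468
theorem F362413 : act 6 n186568 = n148522 := d7_2 (iv6 F231937) F362406 (iv3 D148522)
theorem F362414 : act 3 n186327 = n94009 := d0_2 (iv3 F144622) F345029 F144840 F69072 (iv2 F68940)
theorem F362415 : act 7 n186327 = n94041 := d4_2 (iv7 F144623) F345029 F144888
theorem E102830 : n182696 = n182420 := ((c17_7 (iv1 F293183) D186327 F345027 F136166 (iv4 D87098) D87099 D182420 (iv5 D182696) F294198 F125891)).symm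
theorem F362416 : act 1 n182420 = n109031 := (sb E102830 F344365)
theorem F362417 : act 2 n182420 = n137582 := (sb E102830 F344325)
theorem F362418 : act 5 n182420 = n87214 := (sb E102830 (iv5 D182696))
theorem F362419 : act 7 n182420 = n182056 := (sb E102830 F344312)
theorem F362420 : act 5 n114745 = n130705 := d12_3 F345023 F227942 (iv6 F316452) (iv6 D130705) D130704
theorem E102831 : n164331 = n152366 := ((c21_1 (iv5 F239639) (iv1 D164331) (iv5 F319882) (iv6 D144998) (iv1 F227940) (iv6 F345023) (iv5 D130704) (iv1 D61321) D61322 (iv6 F209264) F327117)).symm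
theorem F362421 : act 0 n152366 = n78927 := (sb E102831 (iv1 D164331))
theorem F362422 : act 3 n130705 = n164472 := d6_1 F362420 (iv5 D164472) (iv3 F178851)
theorem F362423 : act 7 n106140 = n114745 := d13_0 F362420 (iv7 F214063) (iv5 F338685)
theorem F362424 : act 1 n130705 = n135677 := d17_6 F338673 F178852 (iv1 F317665) F317653 D114745 F362420 F339559 F339562 (iv4 F338678)
theorem E102832 : n159573 = n130703 := (c7_3 D130705 F362422 (iv6 F259198) (iv3 D130703))
theorem F362425 : act 1 n130703 = n76343 := (sb E102832 (iv0 D159573))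
theorem F362426 : act 6 n130703 = n164472 := (sb E102832 F259198)
theorem F362427 : act 7 n164472 = n106142 := d8_2 F214063 F362422 (iv3 F338687)
theorem F362428 : act 3 n105150 = n152447 := d7_3 F345009 F161066 D105150
theorem F362429 : act 2 n94038 = n105150 := d0_5 F362428 (iv2 F251408) F251409 (iv2 F193523) F177536
theorem F362430 : act 5 n114261 = n105150 := d6_0 F362428 (iv5 D152447) (iv3 F239630)
theorem F362431 : act 7 n186370 = n112923 := d13_2 F344965 F345004 (iv5 F210617)
theorem F362432 : act 6 n135810 = n119099 := d10_2 D119100 F344967 (iv4 D119099)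
theorem F362433 : act 6 n131398 = n135624 := d3_2 F362432 (iv2 F210612) (iv2 F218425)
theorem F362434 : act 6 n120485 = n101842 := d7_2 F155073 F344940 F156800
theorem F362435 : act 7 n120485 = n122798 := d8_2 F156393 F344940 (iv3 F303371)
theorem F362436 : act 0 n104775 = n180182 := d17_2 F304306 (iv5 F335307) F344927 (iv4 D180290) (iv5 D86116) F131956 (iv5 F324613) (iv0 F301542) D82536
theorem F362437 : act 0 n131438 = n152250 := d21_10 (iv5 D152250) (iv1 D71818) D71819 (iv6 F335308) F362436 (iv6 F361254) (iv5 D173245) F333738 D82980 (iv6 F307278)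
theorem F362438 : act 1 n108273 = n156394 := d17_8 (iv1 D131436) D131438 F362437 (iv5 D152250) F199893 D86792 F280165 F312679 F245839
theorem F362439 : act 0 n138898 = n179100 := d17_2 F316686 D138898 F279038 (iv4 F201202) F312679 F362438 (iv5 F245868) (iv0 F245509) F316716
theorem F362440 : act 1 n138898 = n179099 := d15_1 (iv0 F362439) F279043 F279039
theorem F362441 : act 2 n112721 = n172371 := d2_1 F344922 (iv5 D172371) (iv2 F309960)
theorem F362442 : act 3 n172371 = n98236 := d0_2 (iv3 F175449) F362441 F345517 (iv3 F345514) (iv2 F82219)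
theorem F362443 : act 6 n172371 = n112719 := d3_2 D112721 F362441 (iv2 D112719)
theorem F362444 : act 7 n172371 = n180111 := d4_2 F175451 F362441 F344921
theorem F362445 : act 0 n124650 = n166381 := d20_1 F322773 F327672 (iv3 F274388) (iv1 F344918) (iv3 D110660) (iv4 D51027) (iv1 F80312) D110393 F326949 F323010
theorem F362446 : act 6 n150088 = n156505 := d7_2 (iv6 F313382) F344903 (iv3 D156505)
theorem F362447 : act 7 n116050 = n150910 := d8_0 F344903 F241766 (iv3 F342380)
theorem F362448 : act 1 n155589 = n116050 := d15_1 (iv0 F356809) F362447 (iv2 F327176)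
theorem F362449 : act 2 n116050 = n150914 := d15_3 (iv0 F351437) (iv0 F353382) (iv7 F362447)
theorem F362450 : act 7 n150914 = n116055 := d4_2 (iv7 F362447) F362449 F327176
theorem F362451 : act 1 n179036 = n116055 := d15_1 (iv0 F361194) (iv7 F362450) (iv2 F362449)
theorem F362452 : act 6 n146647 = n116050 := d21_3 (iv5 D159926) (iv1 F161509) (iv5 F229944) (iv1 F362448) (iv6 D155589) (iv5 F349194) F349192 (iv5 D150780) (iv6 F320807) (iv1 F350016)
theorem F362453 : act 7 n138363 = n146647 := d14_0 F362452 F362447 F313382 F212184 D138363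
theorem F362454 : act 6 n157156 = n145383 := d10_2 F362446 (iv4 F247329) (iv4 F331766)
theorem F362455 : act 5 n156505 = n148185 := d12_1 F362446 (iv6 D148185) D148184 F351784 (iv5 F351783)
theorem F362456 : act 3 n148185 = n149685 := d6_1 F362455 F330635 D156505
theorem F362457 : act 5 n158976 = n138361 := d13_3 (iv7 F246072) F362455 (iv7 F250305)
theorem F362458 : act 7 n173289 = n107239 := d11_0 F344890 (iv7 D173290) D173289
theorem F362459 : act 7 n177610 = n121217 := d14_2 F344876 D177610 (iv6 D121217) (iv7 F254390) D163771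
theorem E102833 : n177626 = n166159 := ((c8_2 F362459 (iv3 F334678) (iv7 D177626) (iv3 F277076))).symm
theorem F362460 : act 2 n166159 = n178174 := (sb E102833 F333813)
theorem F362461 : act 7 n166159 = n84598 := (sb E102833 (iv7 D177626))
theorem F362462 : act 3 n177630 = n121197 := d0_4 F344875 F129773 D84600 D177630 (iv2 F258127)
theorem F362463 : act 6 n121195 = n177630 := d7_0 F362462 (iv6 D121197) D121195
theorem F362464 : act 0 n177630 = n163034 := d20_4 F304261 F330761 (iv4 F193280) (iv3 F362462) (iv3 D163034) D163035 (iv1 F338328) (iv4 F355480) (iv3 F355478) F346932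
theorem F362465 : act 2 n177633 = n121195 := d3_3 F362463 (iv2 D177630) D177633
theorem F362466 : act 1 n133469 = n92718 := d18_6 F330900 F344838 (iv1 D78072) (iv4 F119267) (iv5 F315273) (iv4 F214647) (iv4 F334642) F214816 F330901
theorem F362467 : act 0 n136484 = n136906 := d21_7 (iv5 F177023) (iv1 F177027) F177028 F344823 (iv1 D64156) D64159 D136484 (iv5 D136906) (iv6 D64355) (iv1 F99480)
theorem F362468 : act 1 n108629 = n108862 := d17_6 (iv1 F341854) F344746 (iv1 F179212) (iv5 F330504) F165965 D108629 (iv5 D108862) F167986 F341849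
theorem F362469 : act 1 n108857 = n108629 := d15_0 F362468 (iv7 F359821) F359819
theorem F362470 : act 0 n108630 = n160394 := d21_4 D108862 (iv1 F362468) (iv5 D108629) D108630 F253341 D160457 (iv1 F253458) F250820 (iv6 F341850) (iv1 F167986)
theorem F362471 : act 1 n108630 = n124437 := d15_1 (iv0 F362470) F302226 D160394
theorem F362472 : act 5 n175120 = n166475 := d6_0 F344744 (iv5 F344738) (iv3 F344430)
theorem F362473 : act 3 n108834 = n126710 := d7_3 F344736 F168809 D108834
theorem F362474 : act 7 n144355 = n108834 := d8_0 F362473 F203927 D144355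
theorem F362475 : act 4 n115679 = n144355 := d11_3 F362474 F168812 D115679
theorem F362476 : act 3 n115305 = n115679 := d5_5 F362475 (iv3 D144355) (iv4 D67636) D67635 F179580
theorem F362477 : act 5 n108868 = n129685 := d16_5 F344735 (iv5 D108832) F79627 D50269 D108868 F207866 (iv5 F166229) (iv7 F171860) (iv2 F171861)
theorem F362478 : act 0 n134161 = n108868 := d17_2 F98337 D134161 F362477 F207866 (iv5 F166229) (iv0 D107631) F78588 (iv0 F46489) D59538
theorem E102834 : n108988 = n108866 := ((c18_3 F362478 (iv4 D108868) D108866 F330530 F207637 F95402 F95308 (iv4 F207354) F207356 D134161)).symm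
theorem F362479 : act 4 n108866 = n129487 := (sb E102834 F330530)
theorem F362480 : act 5 n108866 = n50323 := (sb E102834 (iv5 D108988))
theorem F362481 : act 7 n108866 = n129486 := (sb E102834 (iv7 F330529))
theorem F362482 : act 6 n91688 = n178287 := d10_2 F344729 F140954 (iv4 F339608)
theorem F362483 : act 2 n178287 = n163459 := d3_1 F362482 (iv6 D163459) F254425
theorem F362484 : act 3 n178287 = n129078 := d7_1 F362482 (iv6 D129078) (iv3 F341816)
theorem F362485 : act 7 n178288 = n163459 := d15_2 (iv0 D178287) D178288 (iv2 F362483)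
theorem F362486 : act 4 n150851 = n125534 := d16_6 (iv4 F339608) (iv5 D147439) F105414 F104530 (iv4 F107639) D150851 (iv5 F356071) F362485 (iv2 F362483)
theorem F362487 : act 3 n110845 = n150851 := d5_5 F362486 F201912 F92905 (iv3 F80627) (iv4 F171701)
theorem F362488 : act 6 n110844 = n150851 := d10_0 F362486 (iv6 D125534) (iv4 F171697)
theorem F362489 : act 7 n150851 = n156585 := d8_2 (iv7 F336689) F362487 F246251
theorem F362490 : act 5 n166287 = n120559 := d21_2 (iv5 F334524) (iv1 F261843) F206380 F206382 (iv6 D71039) D71038 (iv1 F344688) F344689 F305633 (iv1 F151353)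
theorem F362491 : act 4 n174679 = n147452 := d18_7 (iv1 F190179) F107187 D72401 F190139 (iv5 F321786) F302658 D174679 F344688 (iv5 D71038)
theorem F362492 : act 6 n96378 = n174679 := d10_0 F362491 (iv6 D147452) (iv4 F320060)
theorem F362493 : act 0 n95627 = n163281 := d21_4 (iv5 D48420) D48418 F76126 D95627 (iv6 D163281) (iv5 D78474) D78471 (iv5 F344661) (iv6 D97070) (iv1 F76137)
theorem F362494 : act 5 n137784 = n152633 := d12_3 F165295 F344619 D137784 (iv6 F271673) F331740
theorem F362495 : act 7 n137789 = n119175 := d16_8 F210756 F96308 (iv4 F52495) D72007 D152633 (iv5 F362494) F221031 D137789 (iv2 F210755)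
theorem F362496 : act 2 n153303 = n137789 := d4_3 F362495 (iv2 F210755) (iv7 F312489)
theorem E102835 : n138219 = n136580 := (c13_2 F362495 F351864 F352949 D137789)
theorem F362497 : act 0 n136580 = n64922 := (sb E102835 (iv1 D138219))
theorem F362498 : act 1 n136580 = n157672 := (sb E102835 F351836)
theorem F362499 : act 5 n136580 = n119175 := (sb E102835 (iv5 F351864))
theorem F362500 : act 1 n122828 = n137789 := d15_1 (iv0 F308200) F362495 (iv2 F210755)
theorem F362501 : act 1 n137789 = n120182 := d15_1 F362500 F311980 (iv2 F196808)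
theorem E102836 : n137787 = n136239 := ((c17_6 F130753 F97811 (iv1 F56668) D71994 (iv4 F305768) (iv5 F351865) (iv0 D137787) D137789 F362501 (iv4 D120182))).symm
theorem F362502 : act 1 n136239 = n64759 := (sb E102836 (iv0 D137787))
theorem E102837 : n138220 = n137788 := ((c15_2 F362502 D137788 F351833 F351834)).symm
theorem F362503 : act 2 n137788 = n64922 := (sb E102837 (iv2 D138220))
theorem F362504 : act 3 n137788 = n154124 := (sb E102837 F351831)
theorem F362505 : act 5 n137788 = n120233 := (sb E102837 (iv5 F351832))
theorem F362506 : act 7 n137788 = n157672 := (sb E102837 F351833)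
theorem F362507 : act 6 n119174 = n136579 := d12_4 D136580 F362499 (iv6 D119175) D119174 (iv5 D136579)
theorem E102838 : n138218 = n136094 := ((c15_4 (iv0 D138218) (iv0 F362497) F352949 (iv2 F219039))).symm
theorem F362508 : act 0 n136094 = n157672 := (sb E102838 (iv1 F351866))
theorem F362509 : act 1 n136094 = n64922 := (sb E102838 (iv0 D138218))
theorem F362510 : act 5 n136094 = n153303 := (sb E102838 F351867)
theorem F362511 : act 6 n125757 = n131124 := d12_4 F344602 (iv5 D58887) D58888 D125757 F210012
theorem F362512 : act 3 n131125 = n125757 := d7_3 F362511 (iv3 D131124) D131125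
theorem F362513 : act 5 n125755 = n131125 := d6_0 F362512 (iv5 D125757) (iv3 F202255)
theorem F362514 : act 0 n125755 = n104821 := d21_7 F294676 (iv1 F135860) (iv5 F292594) F294549 (iv1 F96035) D131125 (iv5 F362513) F160670 (iv6 D97356) (iv1 F331395)
theorem E102839 : n166696 = n104823 := ((c20_7 (iv4 F174543) (iv1 D58890) (iv4 F93111) (iv3 F202255) F362514 F160669 (iv4 F160673) (iv1 F262373) F248969 (iv3 F326837) (iv1 F174531))).symm
theorem F362515 : act 0 n104823 = n158026 := (sb E102839 (iv1 F262373))
theorem F362516 : act 1 n104823 = n80007 := (sb E102839 (iv0 D166696))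
theorem E102840 : n176885 = n48462 := (((F160673).symm.trans (sb E102839 (iv4 F276256)))).symm
theorem E102841 : n104825 = n84323 := ((D104825).symm.trans (sb E102840 (iv0 D176885)))
theorem F362517 : act 0 n84323 = n48462 := (sb E102841 (iv1 D104825))
theorem E102842 : n176820 = n104654 := (((iv0 F276203)).symm.trans (sb E102841 F160674))
theorem F362518 : act 0 n104654 = n84323 := (sb E102842 F276203)
theorem F362519 : act 3 n104654 = n84299 := (sb E102842 (iv3 D176820))
theorem E102843 : n174258 = n166697 := (((iv4 F361145)).symm.trans (sb E102842 F276202))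
theorem F362520 : act 2 n166697 = n158024 := (sb E102843 (iv2 F361142))
theorem F362521 : act 3 n166697 = n174237 := (sb E102843 F337355)
theorem F362522 : act 4 n166697 = n104654 := (sb E102843 F361145)
theorem F362523 : act 6 n166697 = n83291 := (sb E102843 (iv6 D174258))
theorem F362524 : act 7 n166697 = n104651 := (sb E102843 (iv7 F361146))
theorem F362525 : act 5 n104764 = n174232 := d21_0 (iv1 D174232) (iv5 F337353) (iv6 F362523) (iv1 D166697) (iv6 F337333) (iv5 D95470) (iv1 F70645) (iv5 F148063) (iv6 F160252) (iv1 F160484)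
theorem F362526 : act 2 n174232 = n160831 := d2_1 F362525 F358415 F358409
theorem F362527 : act 1 n174232 = n160833 := d17_8 (iv1 F334241) (iv5 D131694) (iv1 F351480) F311141 (iv4 F325886) F148400 D104764 F362525 F253992
theorem F362528 : act 7 n160833 = n174233 := d15_2 D174232 F362527 (iv2 D174233)
theorem F362529 : act 4 n174233 = n160946 := d11_1 F362528 F254160 (iv4 F253992)
theorem F362530 : act 5 n174233 = n174254 := d13_1 F362528 (iv7 D174254) (iv5 F337359)
theorem F362531 : act 1 n160832 = n174233 := d15_1 D160832 (iv7 F362528) (iv2 D160833)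
theorem F362532 : act 5 n104595 = n160832 := d17_7 (iv1 F254161) (iv5 F336544) (iv1 F217741) F336537 (iv4 F205013) (iv5 F358116) F160489 F362531 F362529
theorem F362533 : act 3 n160832 = n137253 := d6_1 F362532 (iv5 D137253) (iv3 F358393)
theorem F362534 : act 7 n160832 = n174232 := d13_2 F358410 F362532 (iv5 F362525)
theorem F362535 : act 2 n160832 = n174231 := d15_3 (iv0 D174231) D174232 (iv7 F362534)
theorem F362536 : act 5 n174231 = n104763 := d2_2 F362532 F362535 (iv2 F358403)
theorem F362537 : act 7 n174231 = n160831 := d4_2 (iv7 F362534) F362535 (iv2 F362526)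
theorem F362538 : act 1 n174233 = n160831 := d15_1 F362531 (iv7 F362537) (iv2 F362535)
theorem F362539 : act 3 n174236 = n174231 := d8_3 F362537 (iv3 F358416) F300949
theorem F362540 : act 1 n160833 = n174231 := d15_1 F362527 F362537 (iv2 F362526)
theorem F362541 : act 0 n166704 = n174237 := d20_4 (iv4 D78673) D78670 F122821 D166704 (iv3 F362521) F362522 F362518 (iv4 F254192) (iv3 D160976) F119834
theorem F362542 : act 3 n165769 = n104824 := d20_9 (iv4 F362522) (iv1 D166697) F122811 F112884 (iv1 F56993) D79613 F122305 D79617 D165769 (iv1 F160678)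
theorem F362543 : act 2 n104824 = n104652 := d0_1 F362542 F361134 (iv2 F254222) D84318 (iv2 F261160)
theorem F362544 : act 7 n104824 = n104653 := d8_2 F359860 F362542 F361138
theorem F362545 : act 3 n176823 = n104818 := d7_3 F160656 F362519 D176823
theorem E102844 : n176824 = n104649 := (c8_3 D104654 F362519 D176824 F160361)
theorem F362546 : act 2 n104649 = n84300 := (sb E102844 F276204)
theorem F362547 : act 7 n104649 = n84299 := (sb E102844 (iv7 D176824))
theorem F362548 : act 7 n176822 = n186421 := d13_2 F362547 D176822 (iv5 F341814)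
theorem F362549 : act 7 n176823 = n104813 := d14_2 F362547 D176823 (iv6 D104813) F76217 D104649
theorem E102845 : n176819 = n158878 := (c15_4 F250158 (iv0 F361132) F362547 D176819)
theorem F362550 : act 2 n158878 = n84299 := (sb E102845 (iv2 D176819))
theorem F362551 : act 7 n158878 = n84300 := (sb E102845 (iv7 F276201))
theorem F362552 : act 2 n176822 = n186422 := d15_3 F289216 F289211 (iv7 F362548)
theorem F362553 : act 5 n186422 = n158878 := d2_2 D176822 F362552 F362550
theorem F362554 : act 7 n176827 = n186422 := d13_0 F362553 F362551 D176827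
theorem F362555 : act 6 n144108 = n186422 := d21_5 (iv5 D138923) (iv1 F112014) (iv5 F340019) (iv6 D144206) (iv1 F340511) F362553 (iv1 D158878) (iv5 F292432) (iv6 F353359) (iv1 F246892)
theorem F362556 : act 2 n186421 = n176827 := d4_3 F362554 (iv2 F362552) F362548
theorem F362557 : act 2 n176825 = n104821 := d0_3 (iv3 F160361) F362546 D176825 F160669 F76226
theorem E102846 : n176828 = n104647 := (c3_3 D104649 F362546 D176828 (iv2 D104647))
theorem F362558 : act 6 n104647 = n84300 := (sb E102846 (iv6 D176828))
theorem F362559 : act 6 n176825 = n104819 := d7_2 F362558 D176825 F160660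
theorem F362560 : act 0 n162703 = n176823 := d20_4 (iv4 D35721) F121274 D78167 D162703 F362545 F361144 (iv1 D83291) (iv4 F128170) (iv3 D83140) F118572
theorem F362561 : act 6 n185643 = n176887 := d21_5 (iv5 D19421) D19418 D41281 D88432 D185643 (iv5 D176887) F362517 F76227 (iv6 D45470) F291942
theorem F362562 : act 3 n176890 = n185643 := d7_3 F362561 F276258 D176890
theorem F362563 : act 0 n104821 = n172096 := d20_10 F270248 (iv1 D157786) (iv4 F135891) (iv3 D88640) F63806 (iv3 F112884) (iv4 F122811) (iv1 F362516) F160673 (iv3 F160669)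
theorem E102847 : n125767 = n125681 := (c17_2 (iv1 F201932) D125767 (iv1 D125681) (iv5 D58853) (iv4 F93036) (iv5 F336180) (iv0 D105659) D105661 F344597 F219309)
theorem F362564 : act 2 n125681 = n125930 := (sb E102847 (iv2 F349578))
theorem F362565 : act 4 n125681 = n131898 := (sb E102847 F349580)
theorem F362566 : act 5 n125681 = n58894 := (sb E102847 (iv5 D125767))
theorem F362567 : act 6 n125681 = n125926 := (sb E102847 F349595)
theorem E102848 : n137890 = n102502 := ((c20_4 (iv4 F153574) (iv1 F344550) (iv4 D102503) D102502 (iv1 D137890) F100652 (iv4 F100658) F324685 (iv4 F321995) F344584 (iv1 D99760))).symm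
theorem F362568 : act 0 n102502 = n64808 := (sb E102848 (iv1 D137890))
theorem F362569 : act 0 n111108 = n107202 := d20_1 (iv4 F172313) F165218 (iv3 D64589) (iv1 F99545) (iv3 F329362) (iv4 F153574) (iv1 F344550) (iv4 D102503) D102502 F362568
theorem F362570 : act 0 n99807 = n176867 := d21_4 D102012 F156966 F136364 D99807 F276237 (iv5 D84315) F323999 F344568 (iv6 D47545) (iv1 F74593)
theorem F362571 : act 1 n99807 = n157225 := d15_1 (iv0 F362570) (iv7 F329276) F353348
theorem F362572 : act 1 n157225 = n102243 := d15_1 F362571 (iv7 D102243) (iv2 F153648)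
theorem F362573 : act 1 n102243 = n176867 := d15_1 F362572 (iv7 F353358) F329279
theorem E102849 : n116581 = n115477 := ((c20_10 (iv4 F344566) F344565 (iv4 D139639) F101269 F49188 (iv3 F330509) F83991 D59511 (iv4 F165193) D115477 (iv1 F181940))).symm
theorem F362574 : act 0 n115477 = n53743 := (sb E102849 (iv1 F181940))
theorem F362575 : act 1 n115477 = n53723 := (sb E102849 (iv0 D116581))
theorem F362576 : act 5 n115477 = n65715 := (sb E102849 F181941)
theorem F362577 : act 0 n139974 = n178651 := d21_4 D53723 (iv1 F362575) F362576 D139974 (iv6 D178651) D178650 (iv1 F317693) F245375 (iv6 F323215) (iv1 D53721)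
theorem F362578 : act 6 n112281 = n102619 := d14_1 F344563 (iv7 D102619) (iv6 D47594) (iv7 F73658) D99832
theorem F362579 : act 6 n137515 = n102500 := d3_2 F362578 (iv2 F345456) F344569
theorem F362580 : act 6 n89532 = n109887 := d21_5 (iv5 D41523) F35659 D19670 D41804 D89532 (iv5 F344558) (iv1 D99834) (iv5 F74861) (iv6 D47606) (iv1 F64062)
theorem F362581 : act 4 n109888 = n89532 := d10_3 F362580 (iv4 D109887) D109888
theorem F362582 : act 0 n112242 = n110321 := d21_4 (iv5 F344552) F344549 F344536 D112242 F326191 D162660 F301424 (iv5 D83465) F326391 (iv1 F81557)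
theorem E102850 : n136429 = n102186 := (c21_2 D64140 D136429 F329869 (iv6 F326615) (iv1 F99531) (iv6 F329631) (iv5 F156989) (iv1 F156992) (iv5 F344547) F344548 (iv1 F329266))
theorem F362583 : act 1 n102186 = n64140 := (sb E102850 (iv0 D136429))
theorem E102851 : n135963 = n99803 := (c21_4 D136036 (iv1 F218907) (iv5 F220891) D135963 (iv1 F153644) F329360 D64140 (iv1 F362583) F329869 (iv6 F326615) (iv1 F99531))
theorem F362584 : act 2 n99803 = n64470 := (sb E102851 F218728)
theorem F362585 : act 6 n99803 = n63927 := (sb E102851 (iv6 D135963))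
theorem E102852 : n137142 = n99804 := ((c15_2 (iv0 D99803) D99804 (iv7 D137142) (iv2 F362584))).symm
theorem F362586 : act 7 n99804 = n64470 := (sb E102852 (iv7 D137142))
theorem F362587 : act 5 n102028 = n109714 := d6_2 F344546 (iv3 F156978) (iv3 D109714)
theorem F362588 : act 0 n155733 = n102028 := d21_7 (iv5 D95340) (iv1 D44531) D44532 F70052 D44540 D95362 (iv5 F361845) F362587 F325239 (iv1 F318899)
theorem F362589 : act 0 n112524 = n109713 := d21_4 (iv5 F324888) (iv1 F148091) F325910 (iv6 F326935) (iv6 D109713) (iv5 F171079) (iv1 F344538) F344540 F325561 F298082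
theorem F362590 : act 1 n164123 = n109713 := d15_0 (iv0 F362589) F174981 F326190
theorem E102853 : n176659 = n112109 := (c1_1 F344528 F174314 (iv4 F174734) F323061)
theorem F362591 : act 0 n112109 = n84228 := (sb E102853 (iv1 D176659))
theorem F362592 : act 4 n112109 = n162655 := (sb E102853 (iv4 F344528))
theorem F362593 : act 0 n110152 = n110295 := d20_7 (iv4 F362592) F362591 F129300 (iv3 F298680) F326182 F325266 (iv4 F325620) (iv4 D110295) (iv3 F328278) D162655
theorem F362594 : act 0 n110321 = n112109 := d20_7 F327885 (iv1 D125894) F93154 F45343 F80379 D50873 (iv4 F170553) F362592 (iv3 F257704) (iv1 F297305)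
theorem F362595 : act 0 n110300 = n112453 := d20_7 (iv4 F170553) F362594 F362592 (iv3 F257704) (iv1 F297305) F327884 D110300 F174941 F174641 F326426
theorem F362596 : act 7 n112242 = n109882 := d15_2 (iv0 F362594) (iv0 F362582) (iv2 F174314)
theorem F362597 : act 7 n112109 = n109713 := d4_2 F362596 (iv2 F174314) (iv2 F174582)
theorem F362598 : act 1 n112524 = n109882 := d15_1 (iv0 F362589) (iv7 F362596) F174582
theorem F362599 : act 1 n109882 = n164123 := d15_1 F362598 F258674 (iv2 F326934)
theorem F362600 : act 1 n110152 = n110290 := d18_6 D50856 D110300 F362595 F174941 F323981 (iv4 F325620) (iv4 D110290) (iv0 D50854) (iv5 F38708)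
theorem F362601 : act 1 n110305 = n112453 := d15_0 (iv0 F362595) F360076 (iv2 F360075)
theorem F362602 : act 2 n110300 = n110295 := d15_3 (iv0 F362593) F362600 (iv7 F360076)
theorem F362603 : act 0 n110151 = n108586 := d21_7 D84834 D178239 (iv5 F299733) (iv6 F360074) (iv1 F362600) (iv6 D110152) D110151 (iv5 F343160) F326104 (iv1 D84833)
theorem E102854 : n128662 = n109170 := (c18_2 F362603 (iv4 F206963) (iv1 D109170) (iv4 D50385) (iv5 D24560) F18957 D11697 D24724 F80181 D110151)
theorem F362604 : act 2 n109170 = n63519 := (sb E102854 F206962)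
theorem F362605 : act 4 n109170 = n108586 := (sb E102854 F206963)
theorem F362606 : act 6 n109170 = n60509 := (sb E102854 (iv6 D128662))
theorem F362607 : act 0 n124410 = n110167 := d21_7 D110151 F362603 (iv5 F343160) F326104 (iv1 D84833) (iv6 F303751) D124410 (iv5 D110167) (iv6 D50801) D50797
theorem F362608 : act 5 n110162 = n179866 := d17_5 F360045 (iv5 D110153) (iv1 D50798) D50800 D110162 (iv0 D179866) F337487 D109170 F362605
theorem F362609 : act 4 n179866 = n110225 := d9_1 F362608 (iv5 D110225) (iv4 D50822) (iv5 D24725) D24724 D50820 D110218 F360066 F360065 (iv5 D110174) (iv4 D50805) (iv5 D24720) D24719 D50800 D110162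
theorem F362610 : act 1 n110283 = n179866 := d18_6 F170369 (iv4 D50847) (iv1 D24731) D24732 D50852 D110283 F362609 F360060 F360056
theorem F362611 : act 2 n179868 = n110283 := d15_3 F362610 (iv0 D179866) D179868
theorem F362612 : act 4 n110246 = n179868 := d1_0 F362611 (iv4 D110283) (iv2 F170399)
theorem F362613 : act 1 n179868 = n111715 := d15_0 (iv0 D111715) (iv7 F170522) (iv2 F362611)
theorem F362614 : act 6 n110295 = n122582 := d3_2 (iv6 F327886) F362602 (iv2 F196320)
theorem F362615 : act 7 n110295 = n110305 := d4_2 (iv7 F360076) F362602 F360075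
theorem F362616 : act 1 n180163 = n110295 := d15_1 (iv0 F333473) F362615 F360075
theorem F362617 : act 5 n176699 = n151262 := d12_5 (iv6 F344499) F344514 F325206 F298010 D176699
theorem F362618 : act 3 n142502 = n109296 := d0_2 (iv3 F254010) F344506 (iv2 F175602) F326098 F119653
theorem F362619 : act 4 n142502 = n140397 := d1_2 F326452 F344506 (iv2 F223545)
theorem F362620 : act 6 n142502 = n160844 := d3_2 D160846 F344506 (iv2 D160844)
theorem F362621 : act 6 n163248 = n109296 := d7_2 F362620 (iv3 F257538) (iv3 F362618)
theorem F362622 : act 6 n163956 = n140397 := d10_2 F362620 (iv4 F258413) (iv4 F362619)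
theorem F362623 : act 5 n109296 = n136300 := d6_2 D142502 F362618 F361855
theorem F362624 : act 6 n140396 = n178238 := d10_2 (iv6 F344500) F344504 (iv4 F331240)
theorem F362625 : act 0 n156359 = n145075 := d21_10 (iv5 D145075) (iv1 F251051) (iv5 F344493) F344494 (iv1 F114299) (iv6 F314598) F314597 F198222 F314589 D156359
theorem F362626 : act 2 n154761 = n170375 := d15_3 (iv0 F344475) F252893 D154761
theorem E102855 : n154761 = n116176 := ((c1_1 D116176 F362626 (iv4 D170375) (iv2 F321662))).symm
theorem F362627 : act 2 n116176 = n170375 := (sb E102855 F362626)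
theorem F362628 : act 7 n116176 = n73389 := (sb E102855 (iv7 D154761))
theorem F362629 : act 7 n116171 = n170375 := d4_2 F362628 (iv2 F319285) (iv2 F362627)
theorem F362630 : act 1 n154759 = n170375 := d15_1 D154759 (iv7 F362629) F319285
theorem E102856 : n154759 = n142010 := (c20_2 D170375 (iv1 F362630) F322388 F320599 (iv1 F320929) (iv3 D31025) (iv4 D14676) (iv1 F20428) (iv4 F40997) (iv3 F84454) F319118)
theorem F362631 : act 0 n142010 = n73389 := (sb E102856 (iv1 D154759))
theorem F362632 : act 1 n142010 = n170375 := (sb E102856 F362630)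
theorem E102857 : n180175 = n106936 := (c10_3 D106938 F344460 D180175 (iv4 D106936))
theorem F362633 : act 6 n106936 = n86085 := (sb E102857 (iv6 D180175))
theorem F362634 : act 6 n123490 = n106878 := d3_2 D116111 F344456 (iv2 F172151)
theorem F362635 : act 6 n141990 = n178239 := d21_9 F344443 F197172 F341281 F101623 F78956 (iv6 F49336) D66002 (iv1 F223763) F246298 (iv1 F344445)
theorem F362636 : act 5 n111287 = n115738 := d21_8 (iv5 F344441) F191533 D123479 F344436 (iv1 F167863) (iv6 F167879) F336715 D111287 F180071 (iv1 F180094)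
theorem F362637 : act 3 n147189 = n174021 := d7_1 F344388 (iv6 D174021) D174019
theorem F362638 : act 0 n163802 = n135352 := d20_4 F122846 (iv1 F327249) F330783 (iv3 F258168) F217602 D135382 (iv1 F344360) F262464 (iv3 D80040) D80038
theorem F362639 : act 5 n158795 = n163802 := d21_0 F362638 (iv5 D135352) (iv6 D63625) D63621 (iv6 F325149) F316137 (iv1 F54883) D34644 D75759 D158795
theorem F362640 : act 1 n165938 = n135352 := d15_0 (iv0 F362638) F330782 D165938
theorem E102858 : n158795 = n132344 := ((c6_4 F362639 F258168 (iv5 F330785) D132344)).symm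
theorem F362641 : act 1 n132344 = n75759 := (sb E102858 (iv0 D158795))
theorem F362642 : act 5 n132344 = n163802 := (sb E102858 F362639)
theorem F362643 : act 5 n112597 = n129345 := d12_5 (iv6 F361184) F362642 (iv6 D163802) (iv5 F325693) (iv6 F175189)
theorem F362644 : act 7 n165939 = n132344 := d13_0 F362642 F330782 D165939
theorem F362645 : act 0 n112597 = n134594 := d21_7 F316137 (iv1 F54883) D34644 D75759 (iv1 F362641) F361184 (iv5 F362643) (iv5 D134594) (iv6 D63243) D63238
theorem E102859 : n91145 = n91119 := ((c20_4 F294102 (iv1 F344359) (iv4 D91120) D91119 (iv1 F158172) (iv3 F158171) F295076 (iv1 F294607) (iv4 D93757) (iv3 F294603) F294602)).symm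
theorem F362646 : act 0 n91119 = n102857 := (sb E102859 (iv1 F158172))
theorem F362647 : act 1 n91119 = n42680 := (sb E102859 (iv0 D91145))
theorem E102860 : n184467 = n91146 := (c15_4 F158170 (iv0 F362646) F338439 (iv2 F286362))
theorem F362648 : act 2 n91146 = n87987 := (sb E102860 F286362)
theorem F362649 : act 6 n91146 = n87967 := (sb E102860 (iv6 D184467))
theorem F362650 : act 6 n90281 = n186041 := d10_2 F362649 (iv4 F138868) F288644
theorem F362651 : act 6 n185021 = n102857 := d21_3 F337275 (iv1 F287439) (iv5 F287416) (iv1 F158170) F362649 D184466 F340059 F293198 F292114 (iv1 F337274)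
theorem F362652 : act 2 n186041 = n184495 := d3_1 F362650 (iv6 D184495) (iv2 F155681)
theorem F362653 : act 7 n126851 = n133276 := d15_2 (iv0 D126850) D126851 (iv2 F344356)
theorem F362654 : act 2 n137583 = n126851 := d4_3 F362653 (iv2 F344356) F344357
theorem F362655 : act 3 n133266 = n126851 := d8_3 F362653 (iv3 D133276) (iv7 F334652)
theorem F362656 : act 4 n89166 = n126851 := d11_3 F362653 F344346 (iv7 F344341)
theorem F362657 : act 5 n180374 = n126851 := d13_3 F362653 (iv5 F347058) (iv7 F334666)
theorem F362658 : act 2 n163806 = n180374 := d2_3 F362657 (iv2 F362654) F348609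
theorem F362659 : act 0 n165799 = n180374 := d17_0 F362657 (iv1 D126851) (iv5 F330503) F168978 (iv5 F327615) (iv0 F333858) (iv5 D163970) D163969 F301265
theorem F362660 : act 1 n166749 = n180374 := d18_8 (iv1 D126851) F93953 D64778 (iv4 F336495) F336496 F256391 (iv0 F301258) F301260 F362657
theorem F362661 : act 1 n126851 = n95420 := d18_6 (iv1 D86918) F294760 D43615 (iv4 F295298) D89166 F362656 (iv4 D95420) (iv0 F328976) F333861
theorem F362662 : act 6 n152585 = n108972 := d21_3 F259400 (iv1 F120225) D152585 (iv1 D108972) D108975 F330503 D126850 F344354 (iv6 F330854) F342043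
theorem E102861 : n101103 = n101043 := (c15_4 (iv0 D101043) D101044 F344250 D101103)
theorem F362663 : act 2 n101043 = n47098 := (sb E102861 (iv2 D101103))
theorem F362664 : act 3 n101043 = n87993 := (sb E102861 F361029)
theorem F362665 : act 7 n101043 = n47099 := (sb E102861 (iv7 F155769))
theorem E102862 : n136407 = n101086 := ((c15_2 F344238 F155759 (iv7 D136407) (iv2 F344183))).symm
theorem F362666 : act 2 n101086 = n104007 := (sb E102862 F344190)
theorem F362667 : act 4 n101086 = n129481 := (sb E102862 F219512)
theorem F362668 : act 7 n101086 = n64125 := (sb E102862 (iv7 D136407))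
theorem F362669 : act 5 n104009 = n90331 := d18_9 (iv1 F293425) F154652 F292371 D90311 F344198 F154596 F293221 D90368 F293980
theorem F362670 : act 5 n104010 = n90345 := d9_8 F362669 (iv4 D90331) (iv5 D42228) (iv4 D19933) F290909 (iv4 F64523) D89615 (iv4 F159467) (iv4 D90345) (iv5 D42237) (iv4 D19937) (iv5 F290769) (iv4 F64475) D89548 (iv4 F159461)
theorem F362671 : act 1 n90331 = n100584 := d17_6 D22532 D46914 (iv1 F74126) D89548 (iv4 F159461) F362669 (iv5 D100584) (iv0 D46919) (iv4 D22534)
theorem F362672 : act 1 n100584 = n90345 := d15_1 F362671 F139020 (iv2 F138974)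
theorem F362673 : act 7 n100584 = n90631 := d15_2 F293425 F362671 (iv2 F293426)
theorem F362674 : act 5 n90631 = n96155 := d13_1 F362673 F147826 D100584
theorem F362675 : act 3 n180499 = n90631 := d6_3 F362674 F345207 D180499
theorem F362676 : act 6 n180493 = n90631 := d12_0 F362674 F345208 (iv5 D86196) D86197 D180493
theorem F362677 : act 4 n90632 = n180493 := d10_3 F362676 (iv4 D90631) D90632
theorem F362678 : act 7 n180493 = n109113 := d11_2 F178526 F362677 F359837
theorem F362679 : act 0 n180499 = n127343 := d20_4 (iv4 D42434) D42432 D90631 (iv3 F362675) (iv3 D127343) (iv4 D59808) (iv1 F46045) D60026 (iv3 F329842) (iv1 D90636)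
theorem F362680 : act 5 n127343 = n141945 := d21_2 D180499 F362679 (iv6 D141945) (iv1 D66538) (iv6 D31056) (iv5 D14690) D14687 (iv5 F49326) D65980 F351111
theorem F362681 : act 5 n141946 = n157914 := d21_2 D66539 D141946 (iv6 D157914) F112775 D86199 D180499 F362679 F362680 (iv6 D141945) (iv1 D66538)
theorem F362682 : act 0 n141945 = n109096 := d21_1 F362680 (iv5 F342490) F342491 (iv1 F351138) (iv6 D109178) F79756 F324491 D86202 (iv6 F280925) F362679
theorem F362683 : act 1 n141945 = n90916 := d15_1 (iv0 F362682) F295009 F331131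
theorem F362684 : act 3 n141945 = n106097 := d20_5 (iv4 F139552) (iv1 D42582) D42583 D90916 (iv1 F362683) (iv4 D106097) F77416 D52784 (iv3 F327163) (iv1 F293912)
theorem F362685 : act 6 n106097 = n141942 := d7_2 D141945 F362684 (iv3 D141942)
theorem F362686 : act 7 n109094 = n141945 := d8_0 F362684 F163117 (iv3 F360002)
theorem F362687 : act 2 n141945 = n109093 := d15_3 (iv0 D109093) D109094 F362686
theorem F362688 : act 6 n109093 = n141941 := d3_2 D141945 F362687 F224993
theorem F362689 : act 2 n141942 = n113913 := d3_1 F362685 F177206 (iv2 F163116)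
theorem F362690 : act 4 n141942 = n105343 := d10_1 F362685 F161543 D106097
theorem F362691 : act 6 n120274 = n141946 := d12_0 F362681 (iv6 D157914) (iv5 D75227) F296317 (iv5 F191507)
theorem F362692 : act 4 n141946 = n162235 := d10_1 F362691 (iv6 D162235) (iv4 F191508)
theorem E102863 : n183977 = n129478 := ((c18_3 F344195 F99818 D129478 (iv4 D183977) (iv5 D87763) D87762 F143901 F74322 D47074 D101041)).symm
theorem F362693 : act 4 n129478 = n87763 := (sb E102863 (iv4 D183977))
theorem F362694 : act 1 n103335 = n183973 := d17_6 D47073 D101038 F344193 F159457 (iv4 F293855) D103335 (iv5 D183973) F143901 F74322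
theorem E102864 : n138106 = n138022 := (c21_3 (iv5 D64892) D64890 D138106 F357359 (iv1 F362694) F343902 F361441 (iv1 F345978) F221798 (iv6 F329405) (iv1 D138114))
theorem E102865 : n64890 = n64865 := ((((iv5 D138022)).symm.trans (sb E102864 (iv5 D138106)))).symm
theorem E102866 : n138019 = n136228 := ((D138019).symm.trans (sb E102865 (iv1 F219264)))
theorem E102867 : n138020 = n30496 := ((D138020).symm.trans (sb E102865 (iv0 D64890)))
theorem E102873 : n141264 = n64891 := ((((iv1 F219263)).symm.trans (sb E102866 (iv1 F360523)))).symm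
theorem F362695 : act 1 n136228 = n64865 := (sb E102866 (iv0 D138019))
theorem F362696 : act 0 n30496 = n64865 := (sb E102867 (iv1 D138020))
theorem F362697 : act 2 n64891 = n126673 := (sb E102873 (iv2 F350281))
theorem E102874 : n138109 = n66256 := ((D138109).symm.trans (sb E102873 F224288))
theorem E102875 : n138110 = n126670 := ((D138110).symm.trans (sb E102873 (iv4 F350282)))
theorem E102876 : n138111 = n66255 := ((D138111).symm.trans (sb E102873 (iv5 D141264)))
theorem E102877 : n138112 = n132626 := ((D138112).symm.trans (sb E102873 (iv6 F350283)))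
theorem F362698 : act 7 n64891 = n136225 := (sb E102873 (iv7 F360529))
theorem F362699 : act 3 n66256 = n64891 := (sb E102874 (iv3 D138109))
theorem F362700 : act 4 n126670 = n64891 := (sb E102875 (iv4 D138110))
theorem F362701 : act 5 n66255 = n64891 := (sb E102876 (iv5 D138111))
theorem F362702 : act 6 n132626 = n64891 := (sb E102877 (iv6 D138112))
theorem F362703 : act 3 n132808 = n126748 := d20_9 F93869 F362696 F100695 (iv3 D30497) (iv1 F45792) D59612 (iv4 F139388) (iv1 F251183) F342165 (iv1 D126748)
theorem F362704 : act 0 n134721 = n126740 := d20_4 (iv4 F45794) D30315 (iv4 F98531) (iv3 F216737) F203967 F93869 F362696 F100695 (iv3 D30497) (iv1 F45792)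
theorem F362705 : act 4 n126748 = n136011 := d5_2 F342165 F362703 F350299 (iv4 D159673) (iv3 F251180)
theorem F362706 : act 6 n126748 = n132805 := d7_2 D132808 F362703 (iv3 D132805)
theorem F362707 : act 7 n126748 = n137192 := d8_2 (iv7 F342168) F362703 F345851
theorem F362708 : act 2 n137192 = n126747 := d15_3 (iv0 D126747) D126748 F362707
theorem F362709 : act 4 n126747 = n136010 := d1_2 D137192 F362708 F350295
theorem F362710 : act 7 n137197 = n126747 := d11_0 F362709 F350297 D137197
theorem F362711 : act 2 n126748 = n137197 := d4_3 F362710 (iv2 F362708) (iv7 F362707)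
theorem F362712 : act 1 n126627 = n137197 := d15_1 (iv0 F360533) F362710 (iv2 F362708)
theorem F362713 : act 1 n137197 = n126750 := d15_1 F362712 (iv7 D126750) (iv2 F203708)
theorem F362714 : act 5 n150114 = n115387 := d12_3 F344178 (iv5 D150113) D150114 (iv6 D115387) (iv5 F161944)
theorem F362715 : act 0 n130225 = n136731 := d21_4 F344164 F129059 (iv5 F312962) D130225 (iv6 D136731) (iv5 D64272) F48664 D59420 D126645 F327902
theorem F362716 : act 1 n136231 = n136731 := d15_0 (iv0 F362715) F333883 (iv2 F359615)
theorem E102878 : n185887 = n135346 := ((c20_7 (iv4 D136231) (iv1 F99636) F333835 F339526 (iv1 D63632) (iv3 F98972) (iv4 F217594) (iv1 F288375) F331842 (iv3 F336032) (iv1 F362716))).symm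
theorem F362717 : act 0 n135346 = n185785 := (sb E102878 (iv1 F288375))
theorem F362718 : act 1 n135346 = n88535 := (sb E102878 (iv0 D185887))
theorem F362719 : act 7 n185888 = n135830 := d15_2 F362718 D185888 F218476
theorem F362720 : act 2 n185784 = n185888 := d4_3 F362719 F218476 (iv7 F351701)
theorem F362721 : act 3 n135838 = n185888 := d8_3 F362719 F218477 D135838
theorem F362722 : act 1 n107680 = n147680 := d15_1 F344149 (iv7 F344157) (iv2 F344150)
theorem F362723 : act 0 n98969 = n179819 := d20_1 F249721 (iv4 F344107) F337638 (iv1 F344116) (iv3 F344120) F337663 (iv1 D151938) (iv4 F228253) F315646 (iv1 F249722)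
theorem F362724 : act 0 n135860 = n126615 := d20_1 D135860 F203666 (iv3 F208654) (iv1 F344111) F213920 (iv4 D63681) (iv1 F101991) (iv4 F83862) (iv3 F99142) (iv1 F99350)
theorem F362725 : act 0 n148722 = n135859 := d20_4 (iv4 D133160) (iv1 F310732) D75626 (iv3 F327791) (iv3 D135859) D135860 F362724 F203666 (iv3 F208654) (iv1 F344111)
theorem F362726 : act 5 n135859 = n149663 := d19_1 F362725 (iv4 F314186) (iv3 F352737) (iv1 F352744) F352748 (iv4 D72183) F52553 F316840 F316161 F44918 (iv3 F302122) F302120 F299282 D36502 F305468 (iv1 D34586) D34587 D75626 (iv3 F327791)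
theorem F362727 : act 6 n135859 = n146182 := d21_5 F114494 (iv1 F55219) D69701 D148722 F362725 F229455 (iv1 F178415) (iv5 F233498) (iv6 D148726) (iv1 F114497)
theorem F362728 : act 3 n146182 = n135862 := d7_1 F362727 (iv6 D135862) D135859
theorem F362729 : act 7 n113736 = n135859 := d14_0 F362727 (iv7 D146182) (iv6 D68548) (iv7 F82917) D113736
theorem F362730 : act 5 n135862 = n151233 := d6_2 (iv5 F229455) F362728 F237963
theorem F362731 : act 7 n135862 = n117226 := d8_2 D146182 F362728 F183414
theorem F362732 : act 2 n135664 = n135862 := d4_3 F362731 F183413 (iv7 F335973)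
theorem F362733 : act 1 n146799 = n135862 := d15_1 D146799 F362731 F183413
theorem F362734 : act 1 n135862 = n146798 := d15_0 (iv0 D146798) (iv7 F335973) F362732
theorem F362735 : act 6 n172263 = n90507 := d21_3 (iv5 D82507) D82505 D172263 (iv1 D90507) (iv6 F139277) (iv5 F139279) (iv1 D64453) (iv5 F94023) D127032 F344100
theorem F362736 : act 2 n174016 = n172263 := d3_3 F362735 F142945 (iv6 F339469)
theorem F362737 : act 4 n90574 = n172263 := d10_3 F362735 F139304 D90574
theorem F362738 : act 0 n138118 = n185891 := d21_4 (iv5 D172448) D172446 (iv5 F344096) F344105 (iv6 D185891) (iv5 F291386) F291384 F139305 (iv6 F362735) F270663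
theorem F362739 : act 0 n158546 = n130117 := d18_2 (iv1 F344093) F344095 F208633 (iv5 F322822) F112947 F74287 (iv4 F270521) (iv0 D83199) D83201
theorem F362740 : act 3 n179934 = n100907 := d6_3 (iv5 F156677) F344091 D179934
theorem F362741 : act 3 n89349 = n153545 := d8_3 (iv7 F280234) F362740 (iv7 F156667)
theorem F362742 : act 0 n164523 = n101613 := d17_2 (iv1 F120196) D164523 (iv5 D101613) D101612 F344071 (iv0 D75116) (iv5 D34398) (iv0 F130988) (iv4 F108474)
theorem F362743 : act 1 n164521 = n101613 := d15_0 (iv0 F362742) F259323 (iv2 F259316)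
theorem F362744 : act 2 n161636 = n167233 := d2_3 F344053 F151266 D161636
theorem F362745 : act 3 n98116 = n167233 := d6_3 F344053 F151267 D98116
theorem F362746 : act 6 n98112 = n167233 := d12_0 F344053 (iv6 D98109) (iv5 D45819) D45820 D98112
theorem F362747 : act 7 n161832 = n167233 := d13_0 F344053 (iv7 F314290) D161832
theorem F362748 : act 0 n129565 = n98112 := d21_4 (iv5 D129322) F348923 D60872 (iv6 F207756) F362746 F344053 F344049 (iv5 F325024) F354200 (iv1 F354199)
theorem F362749 : act 3 n101746 = n161832 := d8_3 F362747 (iv3 F362745) F156786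
theorem F362750 : act 2 n169961 = n147209 := d15_3 (iv0 F248102) (iv0 F248103) F344001
theorem F362751 : act 0 n177042 = n120138 := d20_7 (iv4 F304353) D38523 (iv4 F305718) (iv3 F307724) F307722 (iv3 F343979) D177042 F189768 F87496 F52383
theorem F362752 : act 7 n131376 = n119012 := d15_2 D119131 F343970 F187162
theorem F362753 : act 2 n119133 = n131376 := d4_3 F362752 F187162 D119133
theorem F362754 : act 2 n172024 = n172797 := d1_1 F343960 (iv4 D172797) (iv2 F340222)
theorem F362755 : act 6 n172024 = n98144 := d10_2 D98145 F343960 (iv4 D98144)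
theorem F362756 : act 7 n172024 = n172792 := d11_2 (iv7 F340223) F343960 (iv4 D172792)
theorem F362757 : act 6 n128110 = n119404 := d21_5 (iv5 D69195) F304914 (iv5 F151368) (iv6 F362755) F343957 F188140 (iv1 F127659) (iv5 F127315) (iv6 F306033) (iv1 D147648)
theorem F362758 : act 2 n167007 = n128110 := d3_3 F362757 F188138 D167007
theorem F362759 : act 5 n140664 = n174500 := d19_17 F343947 F332521 (iv4 D73700) F53207 (iv1 F53205) F303559 (iv4 D36051) F91242 (iv1 D17637) D17638 F325088 D25127 (iv1 F163907) F49270 D30879 D65998 D140664 F273380 D174999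
theorem E102879 : n145406 = n140664 := (c6_4 F362759 F343943 (iv5 D145408) D145406)
theorem F362760 : act 3 n140664 = n68171 := (sb E102879 (iv3 D145406))
theorem F362761 : act 0 n145407 = n126179 := d20_7 F24300 D14622 D30879 D65998 D140664 F362760 D145407 F202910 (iv3 D65991) (iv1 D30875)
theorem E102880 : n175003 = n140597 := (c20_10 (iv4 F342437) F342465 (iv4 F226472) F226471 (iv1 F228438) (iv3 F343943) F273380 (iv1 D83579) D83580 D175003 (iv1 D140597))
theorem F362762 : act 3 n140597 = n83580 := (sb E102880 (iv3 D175003))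
theorem F362763 : act 4 n140597 = n143955 := (sb E102880 (iv4 F324260))
theorem F362764 : act 6 n140597 = n83588 := (sb E102880 F273908)
theorem F362765 : act 0 n145479 = n175030 := d21_1 D145479 (iv5 D175030) (iv6 F362764) (iv1 D140597) (iv6 F342503) F342502 D140582 F360598 (iv6 F360599) (iv1 D145478)
theorem F362766 : act 5 n125791 = n128669 := d12_3 D129047 F343934 F202897 (iv6 D128669) (iv5 F95267)
theorem F362767 : act 2 n128669 = n180815 := d2_1 F362766 (iv5 D180815) (iv2 F327442)
theorem F362768 : act 6 n180815 = n128668 := d3_2 D128669 F362767 (iv2 D128668)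
theorem F362769 : act 6 n129045 = n170246 := d12_2 F362768 (iv5 F207286) (iv5 D170246) (iv6 F132351) D180815
theorem F362770 : act 3 n170251 = n129045 := d7_3 F362769 F267763 D170251
theorem F362771 : act 3 n136675 = n159485 := d5_5 F343929 F219387 F99697 D64235 D136675
theorem F362772 : act 3 n130597 = n151701 := d6_3 F238578 F362771 F251162
theorem F362773 : act 7 n152397 = n136675 := d8_0 F362771 (iv7 D159485) (iv3 F239585)
theorem F362774 : act 7 n151701 = n120135 := d13_2 F362773 (iv5 F238578) (iv5 F239586)
theorem F362775 : act 6 n136675 = n135562 := d14_1 F362773 F217992 (iv6 F352120) F163523 D152397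
theorem F362776 : act 4 n135562 = n136676 := d10_1 F362775 (iv6 D136676) D136675
theorem F362777 : act 6 n133225 = n151701 := d12_4 F362775 (iv5 D135562) (iv6 F173182) (iv5 F214065) F238578
theorem F362778 : act 3 n133394 = n133225 := d7_3 F362777 (iv3 F362772) (iv6 F214463)
theorem F362779 : act 6 n100520 = n135929 := d10_0 F343926 (iv6 D152397) (iv4 F325481)
theorem F362780 : act 3 n98348 = n103926 := d7_3 F343916 (iv3 F149748) D98348
theorem F362781 : act 4 n89401 = n103926 := d10_3 F343916 (iv4 D89399) D89401
theorem F362782 : act 1 n159362 = n101088 := d18_6 (iv1 F343883) (iv4 F357581) (iv1 F357619) F362781 (iv5 F343915) F343919 (iv4 D101088) (iv0 F344237) F293909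
theorem F362783 : act 6 n91368 = n136666 := d10_2 F343909 (iv4 F140502) (iv4 D136666)
theorem F362784 : act 6 n90783 = n139477 := d21_3 (iv5 F343886) (iv1 D90781) D90783 (iv1 D139477) (iv6 D65456) (iv5 D30689) (iv1 D14546) D14548 D30696 D65478
theorem F362785 : act 3 n139477 = n90786 := d7_1 F362784 (iv6 D90786) (iv3 F139718)
theorem F362786 : act 0 n100025 = n122405 := d21_1 D100025 (iv5 D122405) (iv6 F335610) D90780 F343865 F277451 (iv1 D177865) (iv5 D84681) D84682 (iv1 F277450)
theorem E102881 : n111703 = n111669 := (c12_1 D111703 F343845 (iv6 D160420) (iv5 D76900) F325242 D51508)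
theorem F362787 : act 6 n111669 = n51508 := (sb E102881 (iv6 D111703))
theorem F362788 : act 7 n111315 = n124279 := d16_8 F343783 (iv5 F343845) F343841 (iv5 D63404) F48156 (iv5 F39163) (iv4 F81027) D111315 (iv2 F343782)
theorem F362789 : act 5 n124279 = n111316 := d13_1 F362788 (iv7 D111316) D111315
theorem F362790 : act 1 n108786 = n124279 := d15_1 (iv0 F168713) (iv7 F362788) F172733
theorem E102882 : n111668 = n111590 := ((c16_1 D111590 (iv5 D111668) (iv4 F171713) F343838 F98715 (iv5 F81032) (iv4 F172735) (iv5 F362789) (iv7 F362788) F172733)).symm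
theorem F362791 : act 1 n111590 = n141972 := (sb E102882 (iv0 F343774))
theorem F362792 : act 5 n111590 = n51495 := (sb E102882 (iv5 D111668))
theorem F362793 : act 6 n111590 = n51498 := (sb E102882 F173240)
theorem F362794 : act 7 n111590 = n160420 := (sb E102882 (iv7 F343767))
theorem F362795 : act 4 n141972 = n108798 := d18_7 (iv1 F172782) (iv4 D51471) (iv1 D25013) (iv4 F39246) D51463 D111590 F362791 (iv0 F343777) (iv5 F343773)
theorem F362796 : act 6 n108798 = n141971 := d10_2 D141972 F362795 (iv4 D141971)
theorem F362797 : act 0 n108790 = n124279 := d17_2 (iv1 F168446) D108790 F362789 F172735 F81032 (iv0 F164312) (iv5 F164314) F79456 (iv4 F168443)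
theorem F362798 : act 0 n124260 = n141972 := d18_2 F362797 F198773 F362795 (iv5 D108798) (iv4 D50230) (iv0 D24495) (iv4 F38451) D50225 D108790
theorem F362799 : act 6 n108809 = n134015 := d21_3 F328921 (iv1 D108807) D108809 (iv1 D134015) (iv6 D62952) (iv5 D29779) D29777 D62945 D133997 (iv1 F343843)
theorem F362800 : act 2 n134015 = n123855 := d3_1 F362799 F329809 (iv2 F168742)
theorem F362801 : act 5 n134015 = n108818 := d12_1 F362799 (iv6 D108818) (iv5 D50243) (iv6 F79587) D108809
theorem F362802 : act 7 n123856 = n134015 := d15_2 (iv0 D123855) D123856 F362800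
theorem F362803 : act 7 n134014 = n123855 := d15_2 (iv0 F342792) F342793 (iv2 F362800)
theorem F362804 : act 2 n123856 = n134014 := d4_3 F362803 (iv2 F362800) (iv7 F362802)
theorem F362805 : act 5 n134288 = n134014 := d13_3 F362803 F329808 D134288
theorem E102883 : n185225 = n123905 := ((c17_2 (iv1 F90903) D123905 (iv1 D185225) D185226 F353709 F362805 (iv0 D134014) F98216 (iv0 F342786) (iv4 F90890))).symm
theorem F362806 : act 0 n123905 = n88264 := (sb E102883 (iv1 D185225))
theorem E102884 : n185224 = n123900 := ((c15_4 (iv0 D185224) (iv0 F362806) F341490 (iv2 F341498))).symm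
theorem F362807 : act 1 n123900 = n88264 := (sb E102884 (iv0 D185224))
theorem E102885 : n120491 = n116277 := (c21_6 (iv5 D50065) (iv1 F48084) D63334 (iv6 F328927) F301587 D120491 (iv5 D116277) D116275 (iv5 F343813) (iv6 D134767) F98590)
theorem F362808 : act 6 n116277 = n55467 := (sb E102885 (iv6 D120491))
theorem F362809 : act 1 n124247 = n141957 := d15_0 (iv0 F343808) F343807 F253369
theorem E102886 : n185146 = n108664 := (c17_5 (iv1 F336675) (iv5 F289937) (iv1 D88235) D88236 D185146 (iv5 D108664) F163208 D112325 F343779 F111766)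
theorem F362810 : act 4 n108664 = n88236 := (sb E102886 (iv4 D185146))
theorem F362811 : act 4 n185133 = n134866 := d10_3 (iv6 F351312) F362810 (iv6 F287497)
theorem F362812 : act 4 n185144 = n109017 := d18_3 F169457 F362810 D185144 (iv5 F172612) (iv4 F172610) F171666 (iv4 F171668) (iv0 D109497) D109499
theorem E102887 : n183126 = n183017 := (c20_4 D43998 D94112 F145050 D183126 (iv1 D183017) (iv3 F136488) (iv4 F326836) F169457 F362810 F135166 F66260)
theorem F362813 : act 3 n183017 = n87411 := (sb E102887 (iv3 D183126))
theorem F362814 : act 5 n183017 = n88340 := (sb E102887 F284739)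
theorem F362815 : act 6 n183017 = n179749 := (sb E102887 F290036)
theorem F362816 : act 7 n183017 = n91999 := (sb E102887 (iv7 F295225))
theorem F362817 : act 5 n94104 = n185144 := d9_0 F362812 (iv5 F172612) (iv4 F172610) (iv5 F171512) F171510 F327601 (iv4 F136829) F289707 F343087 F169012 F168455 F168454 (iv4 F169031) F343089 (iv4 F145025)
theorem F362818 : act 2 n98081 = n185144 := d16_9 F362812 (iv5 F172612) (iv4 F172610) (iv5 F171512) F171510 F327601 (iv4 F136829) F289707 F289711
theorem F362819 : act 7 n185144 = n98078 := d4_2 F289711 F362818 (iv2 F289709)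
theorem E102888 : n185163 = n90293 := ((c5_4 F362811 (iv3 F351311) F138946 (iv3 F138872) (iv4 D185163) (iv3 F287496))).symm
theorem F362820 : act 4 n90293 = n88242 := (sb E102888 (iv4 D185163))
theorem F362821 : act 6 n90293 = n88244 := (sb E102888 F287503)
theorem F362822 : act 1 n108588 = n185133 := d18_6 (iv1 F351128) (iv4 F351130) (iv1 D109220) (iv4 F98564) F98565 (iv4 F167925) F362811 F351196 F351117
theorem F362823 : act 3 n127957 = n185162 := d20_3 (iv4 D160044) F114953 D127957 (iv1 D185162) (iv3 F287496) F362811 (iv1 D134866) (iv4 F216938) (iv3 F351270) (iv1 F252543)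
theorem F362824 : act 6 n91153 = n92589 := d3_2 F362821 (iv2 F294569) F142616
theorem E102889 : n185165 = n90324 := (c7_2 F362821 D185165 (iv6 D90324) (iv3 F138872))
theorem F362825 : act 3 n90324 = n88244 := (sb E102889 (iv3 D185165))
theorem F362826 : act 6 n184730 = n92580 := d21_5 (iv5 F283442) (iv1 F295201) (iv5 F295203) F136912 D184730 (iv5 D92580) (iv1 F67983) (iv5 F138873) F362821 (iv1 F147749)
theorem F362827 : act 3 n91153 = n92616 := d0_2 F362825 (iv2 F294569) F142681 F68331 (iv2 F138951)
theorem F362828 : act 4 n92589 = n91154 := d10_1 F362824 (iv6 D91154) D91153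
theorem F362829 : act 7 n91154 = n92588 := d11_2 D92589 F362828 (iv4 D92588)
theorem E102890 : n185164 = n90292 := (c16_4 F362828 F294573 F337973 (iv5 F287504) (iv4 D90292) (iv5 D42204) F31751 D42204 D90293 (iv2 F142616))
theorem F362830 : act 5 n90292 = n88243 := (sb E102890 F287504)
theorem F362831 : act 7 n90292 = n88242 := (sb E102890 (iv7 D185164))
theorem F362832 : act 1 n92588 = n185161 := d15_0 (iv0 D185161) (iv7 F362831) (iv2 F142615)
theorem E102891 : n185153 = n92588 := ((c16_5 (iv4 D92588) (iv5 D43315) F32503 D43315 D92588 (iv5 D185153) F135170 D88242 (iv7 F362831) (iv2 F142615))).symm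
theorem F362833 : act 5 n92588 = n88239 := (sb E102891 (iv5 D185153))
theorem F362834 : act 4 n185514 = n90291 := d18_1 D185514 (iv1 D90291) D90292 F362830 (iv4 F337973) (iv0 F308377) F353736 (iv0 D88366) D88368
theorem F362835 : act 1 n185162 = n92588 := d15_1 D185162 (iv7 F362829) F294572
theorem F362836 : act 4 n159416 = n154510 := d19_18 (iv1 F312616) D88242 (iv4 F362820) F138872 (iv1 F65180) D42460 (iv4 F65571) F34157 (iv1 F63360) F63198 D47875 D103325 (iv1 F292926) F292928 (iv4 F352998) (iv3 D118870) (iv1 F114301) D159416 F242550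
theorem F362837 : act 6 n154508 = n159416 := d10_0 F362836 (iv6 D154510) D154508
theorem F362838 : act 5 n154510 = n159334 := d16_3 D76258 D159416 F362836 F250830 F186919 (iv4 D70200) (iv5 F55715) (iv7 F114262) (iv2 F114265)
theorem F362839 : act 3 n159334 = n154515 := d6_1 F362838 (iv5 D154515) (iv3 F242550)
theorem F362840 : act 6 n159334 = n151502 := d12_2 D154510 F362838 (iv5 D151502) (iv6 F229846) F338136
theorem F362841 : act 2 n152003 = n159334 := d3_3 F362840 F238356 D152003
theorem E102892 : n184725 = n151502 := ((c7_1 F362840 (iv3 D184725) (iv6 F312621) (iv3 F362839))).symm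
theorem F362842 : act 3 n151502 = n88086 := (sb E102892 (iv3 D184725))
theorem F362843 : act 7 n159335 = n152003 := d15_2 (iv0 D159334) D159335 F362841
theorem F362844 : act 6 n123338 = n111662 := d7_2 F343757 (iv3 F197650) F173225
theorem F362845 : act 7 n111322 = n123338 := d14_0 F362844 (iv7 D111662) (iv6 D51493) (iv7 F81040) D111322
theorem F362846 : act 4 n123338 = n125727 := d11_1 F362845 (iv7 D125727) (iv4 F172761)
theorem F362847 : act 5 n123339 = n111322 := d13_3 F362845 (iv5 D123338) D123339
theorem F362848 : act 6 n111680 = n174180 := d3_2 F343723 D111680 (iv2 F343721)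
theorem F362849 : act 6 n174250 = n104660 := d7_2 F343703 D174250 (iv3 D104660)
theorem F362850 : act 0 n158852 = n104813 := d20_4 (iv4 D45904) F296602 (iv4 F296598) D158852 F160647 (iv4 F160651) F343695 (iv4 F272493) F272492 F298673
theorem F362851 : act 6 n159306 = n105252 := d10_2 D105254 F343686 (iv4 D105252)
theorem F362852 : act 2 n129039 = n169907 := d15_3 (iv0 D169907) D169908 F343675
theorem F362853 : act 6 n169907 = n128974 := d3_2 D129039 F362852 F207184
theorem F362854 : act 4 n111407 = n169907 := d10_3 F362853 F207185 (iv6 F354464)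
theorem F362855 : act 3 n148768 = n126512 := d6_1 F343669 (iv5 D126512) (iv3 F203418)
theorem F362856 : act 2 n180331 = n106624 := d16_9 (iv4 F203419) F343669 F233570 F106098 F80544 (iv5 F99177) (iv4 F330371) D157777 (iv7 F280631)
theorem F362857 : act 6 n106622 = n180331 := d3_0 F362856 (iv6 D106624) D106622
theorem F362858 : act 6 n157777 = n128825 := d14_3 (iv7 F164231) F362857 F280631 F207093 F325491
theorem F362859 : act 6 n126512 = n148766 := d7_2 D148768 F362855 F233565
theorem F362860 : act 1 n135696 = n125644 := d15_1 D135696 F343668 F164625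
theorem F362861 : act 4 n135696 = n129081 := d20_0 (iv1 D129081) F95275 (iv3 F358325) (iv1 D125628) F92994 F45223 D27970 D58828 D125644 (iv1 F362860)
theorem F362862 : act 4 n106546 = n106802 := d18_7 (iv1 F362860) F362861 (iv1 D129081) F95275 F95108 F77874 D106546 F164652 F343665
theorem F362863 : act 3 n129081 = n180343 := d20_9 F261188 (iv1 F192862) F334350 F161114 (iv1 F164132) D113598 (iv4 F202092) (iv1 F362860) F362861 (iv1 F280651)
theorem F362864 : act 1 n125644 = n135695 := d15_0 (iv0 D135695) D135697 (iv2 F343666)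
theorem F362865 : act 3 n97395 = n113472 := d20_5 (iv4 D45476) (iv1 D21695) D21696 D45480 D97395 (iv4 F332830) (iv1 D106489) (iv4 F96560) (iv3 F343662) (iv1 F150113)
theorem F362866 : act 5 n113464 = n97395 := d6_0 F362865 F176652 (iv3 F176647)
theorem F362867 : act 7 n113463 = n97395 := d8_0 F362865 (iv7 D113472) (iv3 F176646)
theorem F362868 : act 4 n97395 = n133659 := d11_1 F362867 F215069 (iv4 F358220)
theorem F362869 : act 6 n97395 = n126189 := d14_1 F362867 F202940 (iv6 F347536) (iv7 F177803) F358218
theorem F362870 : act 0 n145452 = n163425 := d21_4 (iv5 D145445) (iv1 D68191) D68193 D145452 (iv6 D163425) F294907 D97395 (iv5 F362866) (iv6 F332900) (iv1 F228480)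
theorem F362871 : act 4 n105242 = n106488 := d18_1 (iv1 F332829) (iv1 F164402) (iv4 F343619) F343620 (iv4 F168639) (iv0 F164077) (iv4 F93000) F201896 (iv5 F332827)
theorem F362872 : act 2 n106488 = n106688 := d1_1 F362871 F332812 (iv2 F161188)
theorem F362873 : act 7 n106488 = n106689 := d11_2 F332810 F362871 F332842
theorem F362874 : act 6 n106815 = n132034 := d12_2 D113276 F343611 F211526 (iv6 F164243) F327962
theorem F362875 : act 3 n132034 = n106818 := d7_1 F362874 (iv6 D106818) (iv3 F164617)
theorem F362876 : act 4 n132034 = n129641 := d10_1 F362874 (iv6 D129641) (iv4 F164618)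
theorem F362877 : act 6 n114962 = n129793 := d21_5 F343556 (iv1 D59204) D59205 (iv6 F163304) (iv1 F179054) (iv5 D129793) F164007 (iv5 F211526) (iv6 F362874) (iv1 F164619)
theorem F362878 : act 5 n106818 = n132025 := d6_2 (iv5 F211526) F362875 F211517
theorem F362879 : act 2 n132025 = n128825 := d2_1 F362878 (iv5 D128825) (iv2 F164627)
theorem E102893 : n184752 = n106619 := (c0_5 (iv3 F211517) F362879 (iv3 F339641) F156036 D184752 F164224)
theorem F362880 : act 3 n106619 = n88102 := (sb E102893 (iv3 D184752))
theorem F362881 : act 1 n128825 = n132022 := d15_0 (iv0 D132022) D132025 F362879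
theorem F362882 : act 5 n132022 = n132163 := d17_7 F164658 (iv5 D106854) (iv1 F78059) F48376 (iv4 F95205) D128825 F362881 F211689 F211257
theorem E102894 : n105341 = n63757 := (c20_8 F165533 (iv1 F78045) (iv4 F164225) F362880 (iv1 F345929) F203062 F93403 D105341 (iv4 F164149) F164148 D106588)
theorem E102895 : n135589 = n52589 := ((D135589).symm.trans (sb E102894 (iv1 F161546)))
theorem E102896 : n135590 = n48701 := ((D135590).symm.trans (sb E102894 (iv0 D105341)))
theorem F362883 : act 1 n52589 = n63757 := (sb E102895 (iv0 D135589))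
theorem F362884 : act 0 n48701 = n63757 := (sb E102896 (iv1 D135590))
theorem F362885 : act 0 n132941 = n183460 := d20_10 F285211 (iv1 D88101) D88102 (iv3 F362880) (iv1 F164227) D131971 F211450 (iv1 F338384) (iv4 F97277) (iv3 F213562)
theorem E102897 : n131948 = n98626 := (c20_5 (iv4 D61925) (iv1 D29336) (iv4 F46996) (iv3 F96508) D131948 F336402 F285211 (iv1 D88101) D88102 (iv3 F362880) (iv1 F164227))
theorem F362886 : act 1 n98626 = n61911 := (sb E102897 (iv0 D131948))
theorem F362887 : act 5 n106570 = n131945 := d21_0 (iv1 D131945) (iv5 D61910) D61911 (iv1 F362886) (iv6 D98626) (iv5 F72712) F327926 (iv5 F327930) F327928 (iv1 F163840)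
theorem F362888 : act 2 n131945 = n131831 := d2_1 F362887 (iv5 D131831) (iv2 F352498)
theorem F362889 : act 7 n131945 = n131836 := d13_2 (iv7 F352499) F362887 (iv5 D131836)
theorem F362890 : act 2 n131836 = n131944 := d15_3 (iv0 D131944) D131945 F362889
theorem F362891 : act 7 n131831 = n131944 := d4_2 (iv7 F362889) F362888 (iv2 F362890)
theorem F362892 : act 1 n131831 = n106600 := d15_0 F361769 (iv7 F362889) F362888
theorem F362893 : act 1 n131942 = n131831 := d15_0 F362892 F164182 (iv2 F211418)
theorem F362894 : act 5 n131944 = n106569 := d13_1 F362891 F352497 D131831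
theorem F362895 : act 6 n113504 = n131944 := d12_0 F362894 F352474 (iv5 D52390) D52391 D113504
theorem F362896 : act 6 n105350 = n131949 := d21_3 (iv5 D107171) D107168 (iv5 F350006) (iv1 D131949) (iv6 D61911) D61910 D131944 F362894 F352474 (iv1 F355862)
theorem F362897 : act 2 n131949 = n113517 := d3_1 F362896 (iv6 D113517) (iv2 F352459)
theorem F362898 : act 7 n132941 = n157808 := d15_2 D183460 (iv0 F362885) F295105
theorem F362899 : act 2 n183463 = n132941 := d4_3 F362898 F295105 D183463
theorem E102898 : n154010 = n132941 := (c11_4 F362898 F295106 (iv7 F308297) D154010)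
theorem F362900 : act 4 n132941 = n72880 := (sb E102898 (iv4 D154010))
theorem F362901 : act 0 n183459 = n132941 := d18_2 D88100 (iv4 F285210) F362900 (iv5 D72880) D72879 F191175 F109583 F302512 D41135
theorem F362902 : act 4 n113316 = n105303 := d20_0 (iv1 D105303) (iv4 F94224) (iv3 F204668) F362097 (iv3 F213562) F362900 (iv1 F310390) D183457 (iv3 F345934) (iv1 F203070)
theorem F362903 : act 6 n132939 = n183463 := d3_0 F362899 (iv6 D132941) D132939
theorem F362904 : act 4 n182395 = n132939 := d10_3 F362903 F285213 F295125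
theorem E102899 : n113906 = n105342 := ((c15_2 (iv0 F362884) D105342 (iv7 D113906) (iv2 F326358))).symm
theorem F362905 : act 2 n105342 = n52587 := (sb E102899 F177203)
theorem F362906 : act 4 n105342 = n127369 := (sb E102899 (iv4 F362105))
theorem F362907 : act 7 n105342 = n52586 := (sb E102899 (iv7 D113906))
theorem F362908 : act 4 n106844 = n106694 := d10_1 F343609 F164408 (iv4 F328935)
theorem F362909 : act 3 n159557 = n132390 := d20_3 (iv4 F333200) (iv1 F177521) (iv4 F251297) (iv1 F343597) F343599 (iv4 F95916) F95917 (iv4 F93630) (iv3 F333190) (iv1 F333191)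
theorem E102900 : n159555 = n129123 := ((c8_3 D159557 F362909 (iv7 F358344) (iv3 D159555))).symm
theorem F362910 : act 3 n129123 = n76334 := (sb E102900 (iv3 D159555))
theorem F362911 : act 6 n129123 = n76340 := (sb E102900 F251296)
theorem F362912 : act 3 n134937 = n148725 := d20_3 F98734 D63419 D134937 (iv1 F251299) F362909 F358342 (iv1 D113562) D113563 F358343 (iv1 D134929)
theorem F362913 : act 4 n144867 = n134936 := d5_4 D134937 F362912 (iv4 D148725) (iv3 F347571) (iv3 D134936)
theorem F362914 : act 6 n159568 = n132391 := d3_2 F362911 D159568 (iv2 F358346)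
theorem E102901 : n159556 = n135497 := (c6_3 (iv5 F217904) F362910 D159556 (iv3 D135497))
theorem F362915 : act 5 n135497 = n76334 := (sb E102901 (iv5 D159556))
theorem F362916 : act 6 n128700 = n106108 := d12_4 F343595 (iv5 D60527) D60528 D128700 (iv5 F163213)
theorem F362917 : act 2 n106109 = n128700 := d3_3 F362916 (iv2 D106108) D106109
theorem F362918 : act 5 n106970 = n106109 := d2_0 F362917 (iv5 D128700) (iv2 F164884)
theorem F362919 : act 7 n131965 = n106109 := d15_2 F206989 D131965 F362917
theorem F362920 : act 3 n106113 = n131965 := d8_3 F362919 F163134 D106113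
theorem F362921 : act 3 n106112 = n106970 := d6_3 F362918 F163134 D106112
theorem F362922 : act 0 n106109 = n131967 := d17_2 F211981 F362918 F211441 F96521 (iv5 F50025) (iv0 F78375) (iv5 F47068) D62057 D132275
theorem F362923 : act 1 n106109 = n106590 := d17_6 (iv1 D49337) (iv5 F39772) F39773 D49419 D106970 F362918 (iv5 D106590) D106589 F165530
theorem F362924 : act 4 n129127 = n106112 := d5_0 F362921 (iv4 D106970) (iv3 F99020) F99021 (iv3 F207369)
theorem F362925 : act 6 n131901 = n125915 := d12_4 F343589 F95209 F96473 D131901 F202398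
theorem E102902 : n128708 = n125916 := ((c3_3 F362925 (iv2 D125915) D125916 (iv2 F211336))).symm
theorem F362926 : act 2 n125916 = n131901 := (sb E102902 (iv2 F211336))
theorem F362927 : act 5 n125916 = n60531 := (sb E102902 (iv5 D128708))
theorem F362928 : act 7 n125916 = n131898 := (sb E102902 (iv7 F211327))
theorem F362929 : act 3 n131898 = n125920 := d8_1 F362928 (iv7 D125920) (iv3 F202403)
theorem F362930 : act 5 n125920 = n131897 := d6_2 D131898 F362929 (iv3 D131897)
theorem F362931 : act 5 n129482 = n159497 := d16_3 (iv4 F202405) F362930 F211325 F251174 F114347 (iv4 F77471) (iv5 F92939) D125572 F201984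
theorem F362932 : act 3 n159497 = n129483 := d6_1 F362931 (iv5 D129483) D129482
theorem F362933 : act 6 n129483 = n159495 := d7_2 D159497 F362932 F251169
theorem F362934 : act 0 n125706 = n128620 := d20_4 (iv4 D52412) (iv1 F76491) (iv4 F93082) (iv3 F202195) F206902 F95087 (iv1 F95149) (iv4 F95217) F343571 (iv1 F161321)
theorem F362935 : act 0 n169899 = n113566 := d21_4 (iv5 F328122) (iv1 F206972) F328080 (iv6 F267325) (iv6 D113566) (iv5 F343570) F218486 (iv5 F330396) (iv6 D110576) F164129
theorem F362936 : act 7 n169899 = n113358 := d15_2 (iv0 F202907) (iv0 F362935) (iv2 F202904)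
theorem F362937 : act 1 n169898 = n113358 := d15_1 D169898 (iv7 F362936) (iv2 D169899)
theorem F362938 : act 4 n113102 = n169898 := d18_5 (iv1 D52094) (iv4 F82344) D112855 F175743 D113102 F362937 F176552 (iv0 F103360) F93413
theorem F362939 : act 7 n169898 = n113566 := d11_2 (iv7 F176217) F362938 F176712
theorem F362940 : act 5 n169898 = n166079 := d17_5 (iv1 F82626) F40161 D52204 D113102 F362938 (iv0 F362283) (iv5 D113249) F175703 F175701
theorem F362941 : act 3 n169898 = n166080 := d19_3 D52204 D113102 F362938 F299599 (iv5 D180023) (iv4 D86028) F297385 (iv1 F91922) F44731 (iv4 F44725) (iv3 F85744) F307040 (iv5 F110533) (iv4 F200973) F309862 (iv1 F326212) (iv5 D107709) (iv4 F79311) F79310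
theorem F362942 : act 0 n166079 = n112840 := d17_2 (iv1 F362937) F362940 (iv5 D112840) (iv4 D52081) (iv5 F79065) (iv0 F82346) D112860 (iv0 F175767) (iv4 F176552)
theorem E102903 : n128927 = n105262 := ((c20_4 F161237 (iv1 D48670) (iv4 F76558) (iv3 F161215) (iv1 D128927) F95236 F46420 (iv1 F95214) F95217 F343557 (iv1 F93406))).symm
theorem F362943 : act 0 n105262 = n60632 := (sb E102903 (iv1 D128927))
theorem F362944 : act 2 n125706 = n128926 := d15_3 (iv0 D128926) (iv0 F362943) (iv7 F202197)
theorem F362945 : act 3 n128926 = n172452 := d0_2 (iv3 F202195) F362944 (iv2 F327547) F176419 (iv2 F93081)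
theorem F362946 : act 6 n128926 = n125705 := d3_2 D125706 F362944 (iv2 D125705)
theorem F362947 : act 6 n113217 = n172452 := d7_2 F362946 F202189 (iv3 F362945)
theorem F362948 : act 3 n126308 = n130304 := d7_3 (iv6 D130304) F343555 D126308
theorem F362949 : act 0 n125554 = n128937 := d20_1 D125554 F207163 F343542 (iv1 D111653) F81271 (iv4 D27949) (iv1 D13333) D13334 D27951 D58785
theorem F362950 : act 0 n128691 = n106214 := d20_10 (iv4 D106214) (iv1 D49081) (iv4 F45173) (iv3 D27951) F38504 D50284 F79664 D50292 D108923 F343538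
theorem F362951 : act 0 n105246 = n128677 := d20_1 F342903 (iv4 F206986) (iv3 F343538) F169124 (iv3 F169964) F93246 F169960 (iv4 F45275) (iv3 F92932) (iv1 F342902)
theorem F362952 : act 0 n128937 = n125559 := d20_10 (iv4 D125559) (iv1 D58786) F45173 (iv3 D23944) (iv1 F19998) D25408 F40189 D51427 D111503 F343537
theorem E102904 : n174410 = n128155 := (c3_2 F343508 D174410 F311885 (iv2 F316729))
theorem F362953 : act 2 n128155 = n83369 := (sb E102904 (iv2 D174410))
theorem F362954 : act 7 n128155 = n83370 := (sb E102904 (iv7 F273293))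
theorem F362955 : act 7 n174419 = n131468 := d14_2 F362954 D174419 (iv6 D131468) (iv7 F106332) (iv6 F311885)
theorem F362956 : act 3 n131475 = n174419 := d8_3 F362955 F210733 D131475
theorem F362957 : act 5 n128197 = n174419 := d13_3 F362955 F343515 (iv7 F356979)
theorem F362958 : act 1 n174419 = n152664 := d17_8 F273326 (iv5 F343427) (iv1 F343433) (iv5 D174395) (iv4 F313110) F348693 F240583 F362957 F273325
theorem E102905 : n174981 = n145393 := ((c15_4 F343469 (iv0 F343468) F165138 D145393)).symm
theorem F362959 : act 1 n145393 = n107339 := (sb E102905 F343469)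
theorem F362960 : act 4 n145393 = n83571 := (sb E102905 (iv4 D174981))
theorem F362961 : act 3 n107086 = n173300 := d7_3 F343460 (iv3 D107083) D107086
theorem F362962 : act 7 n174522 = n107086 := d8_0 F362961 F271705 D174522
theorem F362963 : act 0 n107086 = n145302 := d20_4 (iv4 D162605) F300603 D173300 (iv3 F362961) (iv3 D145302) F104279 (iv1 F82124) (iv4 F104299) (iv3 F228383) F330952
theorem F362964 : act 6 n136759 = n128262 := d10_2 F343459 D136759 F206383
theorem F362965 : act 3 n174552 = n135993 := d8_3 F226662 F343458 D174552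
theorem F362966 : act 6 n162587 = n174552 := d7_0 F362965 F347140 (iv3 F256824)
theorem E102906 : n174547 = n145476 := (c7_2 F343454 D174547 (iv6 D145476) (iv3 F228523))
theorem F362967 : act 3 n145476 = n83417 := (sb E102906 (iv3 D174547))
theorem F362968 : act 7 n162612 = n145476 := d8_0 F362967 F303402 D162612
theorem F362969 : act 7 n136716 = n174564 := d15_2 (iv0 D136715) D136716 (iv2 F343447)
theorem F362970 : act 3 n150600 = n136716 := d8_3 F362969 F347864 (iv7 F357012)
theorem F362971 : act 5 n155867 = n136716 := d13_3 F362969 (iv5 D174564) (iv7 F347891)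
theorem F362972 : act 4 n184690 = n128119 := d18_3 D153919 F343441 D184690 F206196 F94776 (iv0 F188406) D32521 F190726 D72829
theorem F362973 : act 3 n134090 = n184690 := d5_5 F362972 F339301 (iv4 D157219) (iv3 F112181) (iv4 F216112)
theorem F362974 : act 7 n128118 = n184690 := d11_0 F362972 (iv7 D128119) D128118
theorem F362975 : act 3 n119999 = n104149 := d20_5 (iv4 D64980) (iv1 D30525) (iv4 F48917) (iv3 F100766) (iv1 F315863) (iv4 F329044) (iv1 F339300) (iv4 F362972) (iv3 F362973) (iv1 F216114)
theorem F362976 : act 6 n184690 = n139424 := d7_2 (iv6 F216113) F362973 (iv3 D139424)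
theorem F362977 : act 2 n184665 = n149281 := d1_1 F343435 (iv4 D149281) (iv2 F206198)
theorem F362978 : act 4 n184729 = n166281 := d16_2 F343435 (iv5 F287202) (iv5 D166281) (iv4 D79847) (iv5 D36370) (iv4 F57099) D79810 F122539 (iv2 F206198)
theorem F362979 : act 6 n166281 = n183112 := d10_2 D184729 F362978 F284728
theorem F362980 : act 6 n149281 = n101210 := d3_2 D184665 F362977 (iv2 F156890)
theorem F362981 : act 1 n126877 = n166218 := d15_1 (iv0 F345611) F261708 (iv2 F362977)
theorem F362982 : act 6 n130973 = n173359 := d21_3 F217681 (iv1 D130971) D130973 F343387 (iv6 D177024) F306566 (iv1 F305059) (iv5 F249068) (iv6 F335253) (iv1 F217680)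
theorem F362983 : act 3 n174492 = n131672 := d8_3 F343371 F273374 D174492
theorem E102907 : n172451 = n131671 := (c7_2 F343356 D172451 F333681 (iv3 F202631))
theorem F362984 : act 3 n131671 = n82568 := (sb E102907 (iv3 D172451))
theorem F362985 : act 6 n158332 = n113172 := d14_3 (iv7 F202634) F343356 (iv7 F275015) F176339 F105262
theorem F362986 : act 3 n158332 = n133041 := d8_3 F217732 F362984 (iv7 F275015)
theorem F362987 : act 6 n133041 = n126002 := d7_2 (iv6 F362985) F362986 F202688
theorem F362988 : act 0 n176492 = n146895 := d20_7 (iv4 D68739) F50758 D32071 D68961 (iv1 F343354) (iv3 F129194) (iv4 F275807) F230276 (iv3 D144815) (iv1 F104931)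
theorem F362989 : act 0 n113189 = n162609 := d21_7 (iv5 D38730) (iv1 F29588) D18442 D38792 F343353 D147275 F230889 F256839 (iv6 D158707) (iv1 F300727)
theorem E102908 : n174574 = n113181 := (c21_11 (iv5 D113181) (iv1 D52241) D52243 D113189 F362989 (iv6 D162609) (iv5 F119273) (iv1 F298882) F59279 D83425 D174574)
theorem F362990 : act 1 n113181 = n83425 := (sb E102908 (iv0 D174574))
theorem F362991 : act 2 n174576 = n110397 := d15_3 (iv0 F355863) F362990 D174576
theorem F362992 : act 6 n185902 = n110618 := d12_4 F343351 F328234 D88540 D185902 F343348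
theorem F362993 : act 7 n134594 = n185902 := d14_0 F362992 F355841 F330302 F301019 (iv6 F321673)
theorem F362994 : act 0 n164977 = n185902 := d21_4 F249459 (iv1 F113302) D82566 (iv6 F334338) F362992 F343348 (iv1 D147072) (iv5 F202633) F343356 (iv1 F249462)
theorem F362995 : act 3 n180035 = n125605 := d7_3 F343347 F323362 D180035
theorem F362996 : act 0 n125607 = n126085 := d21_1 D125607 (iv5 D126085) (iv6 F321454) D125376 (iv6 F334381) (iv5 F151639) F151640 (iv5 F270684) (iv6 F343347) (iv1 D125605)
theorem F362997 : act 2 n126392 = n180035 := d0_5 F362995 F343346 F323363 (iv2 F324606) D126392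
theorem F362998 : act 6 n169886 = n126392 := d3_0 F362997 (iv6 D180035) (iv2 F341735)
theorem F362999 : act 7 n126392 = n185560 := d14_2 F354384 F362998 (iv6 D185560) F135381 D163450
theorem E102909 : n137897 = n128381 := (c20_4 (iv4 F102074) (iv1 F343284) (iv4 F100658) (iv3 F221136) (iv1 D128381) F319216 D66385 D141517 F224799 (iv3 D141766) (iv1 D66472))
theorem F363000 : act 2 n128381 = n127131 := (sb E102909 F221135)
theorem F363001 : act 3 n128381 = n64814 := (sb E102909 F221136)
theorem F363002 : act 4 n128381 = n147514 := (sb E102909 (iv4 F360684))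
theorem F363003 : act 6 n128381 = n64812 := (sb E102909 (iv6 D137897))
theorem F363004 : act 3 n102081 = n118903 := d6_3 F343276 (iv3 D102080) D102081
theorem F363005 : act 7 n183949 = n118903 := d13_0 F343276 F289778 D183949
theorem F363006 : act 6 n115904 = n102081 := d7_0 F363004 (iv6 D118903) (iv3 F322398)
theorem E102910 : n149054 = n137026 := (c14_5 (iv7 F180443) F363006 F289782 F134722 D149054 (iv6 D137026))
theorem F363007 : act 0 n137026 = n69987 := (sb E102910 (iv1 F234392))
theorem F363008 : act 1 n137026 = n69986 := (sb E102910 F234393)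
theorem F363009 : act 2 n137026 = n69989 := (sb E102910 F234389)
theorem F363010 : act 5 n137026 = n69910 := (sb E102910 F234390)
theorem F363011 : act 7 n137026 = n69909 := (sb E102910 (iv7 D149054))
theorem E102911 : n136821 = n118732 := (c21_4 D14470 D30485 (iv5 F103147) D136821 (iv1 D118732) (iv6 F186747) (iv5 F343272) F331206 (iv5 D64838) (iv6 D30481) (iv1 D14468))
theorem F363012 : act 6 n118732 = n64324 := (sb E102911 (iv6 D136821))
theorem E102912 : n185120 = n178081 := (c21_4 (iv5 F137187) F343263 (iv5 D185119) D185120 (iv1 D178081) (iv6 D84766) (iv5 D39167) F299440 D57787 (iv6 F302072) F336647)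
theorem F363013 : act 6 n178081 = n88230 := (sb E102912 (iv6 D185120))
theorem E102913 : n139376 = n123157 := ((c21_1 (iv5 F304631) (iv1 D139376) D139377 F222589 D139385 F352342 (iv5 F137187) F343263 (iv5 D185119) (iv6 F363013) (iv1 D178081))).symm
theorem F363014 : act 0 n123157 = n65415 := (sb E102913 (iv1 D139376))
theorem F363015 : act 3 n136089 = n139568 := d7_3 F343256 F329307 D136089
theorem F363016 : act 5 n138631 = n177930 := d21_6 (iv5 D26760) (iv1 F28693) (iv5 F44381) D57368 (iv1 F324899) F343230 (iv1 D177930) (iv5 F300527) (iv6 D120335) (iv1 D55382)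
theorem F363017 : act 0 n89519 = n138631 := d21_4 F301277 (iv1 F335598) D41799 D89519 (iv6 F343230) F329155 (iv1 F343225) F343222 (iv6 F316953) F304013
theorem F363018 : act 7 n89519 = n111143 := d15_2 D138631 (iv0 F363017) F172372
theorem F363019 : act 2 n138633 = n89519 := d4_3 F363018 F172372 D138633
theorem F363020 : act 3 n111143 = n89535 := d8_1 F363018 (iv7 D89535) (iv3 F137227)
theorem F363021 : act 4 n134352 = n89519 := d11_3 F363018 F172373 D134352
theorem F363022 : act 6 n89518 = n134352 := d10_0 F363021 (iv6 D89519) D89518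
theorem F363023 : act 7 n131924 = n89518 := d14_0 F363022 (iv7 D134352) (iv6 D63114) (iv7 F96501) D131924
theorem F363024 : act 2 n89518 = n134326 := d4_1 F363023 (iv7 D134326) (iv2 F211389)
theorem F363025 : act 1 n134324 = n89518 := d15_1 D134324 (iv7 F363023) F211389
theorem F363026 : act 1 n89518 = n134323 := d15_0 (iv0 D134323) D134326 (iv2 F363024)
theorem F363027 : act 4 n120468 = n134323 := d20_6 D89525 F137234 (iv4 D88861) (iv3 F136254) D186567 (iv3 F362412) (iv1 F363026) (iv4 D89518) F64457 D41801
theorem F363028 : act 6 n134323 = n120466 := d10_2 D120468 F363027 (iv4 D120466)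
theorem F363029 : act 0 n111164 = n120468 := d18_0 F363027 (iv1 F363026) (iv4 D89518) (iv5 D41799) (iv4 F64431) F335735 F72423 (iv0 F335729) F335731
theorem F363030 : act 3 n151607 = n134323 := d7_3 F363028 F355549 D151607
theorem F363031 : act 6 n89535 = n111141 := d7_2 D111143 F363020 F172369
theorem F363032 : act 3 n88879 = n154908 := d0_4 (iv3 F356846) F363019 F137227 (iv2 F136322) F356845
theorem F363033 : act 1 n89519 = n138630 := d15_0 (iv0 D138630) D138633 F363019
theorem F363034 : act 6 n110799 = n136150 := d12_4 D136151 F343214 (iv6 F333156) F216078 (iv5 D136150)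
theorem F363035 : act 2 n120544 = n116267 := d3_3 F343173 F191630 D120544
theorem F363036 : act 7 n116270 = n120544 := d15_2 F181223 (iv0 F181224) F363035
theorem F363037 : act 7 n112504 = n108586 := d16_8 F167721 (iv5 F343161) (iv4 D112498) (iv5 D51901) (iv4 D25183) D25184 D51903 D112504 F167921
theorem F363038 : act 6 n100861 = n185469 := d10_0 F343085 (iv6 D100863) D100861
theorem F363039 : act 2 n185469 = n184202 := d3_1 F363038 (iv6 D184202) (iv2 F154961)
theorem F363040 : act 7 n185470 = n184202 := d15_2 (iv0 D185469) D185470 (iv2 F363039)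
theorem E102914 : n100869 = n100735 := ((c20_1 (iv4 F289670) (iv1 D100869) (iv4 F155004) (iv3 F158941) F343082 (iv3 D48380) (iv4 D23520) (iv1 F17909) D23561 D48421 (iv1 F158654))).symm
theorem F363041 : act 0 n100735 = n47020 := (sb E102914 (iv1 D100869))
theorem F363042 : act 0 n103784 = n103026 := d21_1 (iv5 F292221) (iv5 D103026) D103027 F343080 F75811 D87292 (iv1 F343050) (iv5 D96538) D96539 F343057
theorem F363043 : act 1 n103784 = n103023 := d15_1 (iv0 F363042) (iv7 F158939) F158937
theorem F363044 : act 0 n184379 = n103023 := d21_7 D89996 F335321 F335316 F335314 D176694 F343023 D184379 (iv5 D103023) (iv6 F343073) (iv1 D89994)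
theorem F363045 : act 1 n184379 = n103026 := d15_1 (iv0 F363044) (iv7 F158927) F158926
theorem F363046 : act 7 n184379 = n103215 := d15_2 F363043 (iv0 F363044) (iv2 F159211)
theorem F363047 : act 6 n182848 = n103589 := d10_2 F343047 D182848 (iv4 D103589)
theorem F363048 : act 1 n103582 = n103122 := d15_0 (iv0 F343033) (iv7 F289650) (iv2 F158894)
theorem E102915 : n167877 = n119972 := ((c17_3 D133949 F343017 (iv1 F189384) F264511 (iv4 F314370) F96018 D120688 F334473 F267527 F305909)).symm
theorem F363049 : act 5 n119972 = n86647 := (sb E102915 F264511)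
theorem F363050 : act 6 n119972 = n80571 := (sb E102915 (iv6 D167877))
theorem E102916 : n148602 = n148487 := (c21_5 (iv5 D36767) F297153 (iv5 F58283) F314926 D148602 (iv6 D148487) (iv5 F317797) F314587 (iv5 F363049) F363050 (iv1 D80571))
theorem F363051 : act 0 n148487 = n127322 := (sb E102916 (iv1 F233353))
theorem F363052 : act 1 n148487 = n69645 := (sb E102916 (iv0 D148602))
theorem F363053 : act 2 n127321 = n148487 := d15_3 F363052 (iv0 F339623) F318766
theorem E102917 : n148487 = n140832 := (c4_2 F318766 F363053 (iv7 D140832) F180370)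
theorem F363054 : act 0 n140832 = n127322 := (sb E102917 F363051)
theorem F363055 : act 1 n140832 = n69645 := (sb E102917 F363052)
theorem F363056 : act 2 n140832 = n127321 := (sb E102917 (iv2 F363053))
theorem F363057 : act 6 n140832 = n69576 := (sb E102917 (iv6 D148487))
theorem F363058 : act 5 n144506 = n115133 := d13_3 F342990 F229066 (iv7 F227357)
theorem F363059 : act 6 n115135 = n144506 := d12_0 F363058 (iv6 D115133) (iv5 D53126) D53127 D115135
theorem F363060 : act 1 n115133 = n142776 := d17_6 (iv1 F225289) F225290 (iv1 D67723) D67725 D144506 F363058 (iv5 F225676) (iv0 F225320) (iv4 D142407)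
theorem F363061 : act 6 n142486 = n115198 := d3_2 F363059 F227356 F179401
theorem F363062 : act 3 n151659 = n115135 := d7_3 F363059 F342984 D151659
theorem F363063 : act 4 n144507 = n115135 := d10_3 F363059 (iv4 D144506) D144507
theorem F363064 : act 5 n132128 = n113996 := d21_8 D106265 (iv1 F179054) (iv5 D114962) D114963 F342962 (iv6 F341620) F341619 D132128 (iv6 D113996) (iv1 F177630)
theorem F363065 : act 3 n131849 = n164208 := d20_5 (iv4 D24026) D24024 (iv4 F46975) (iv3 F96470) (iv1 F342924) (iv4 D164208) (iv1 F341597) (iv4 D132126) (iv3 D61988) (iv1 F47011)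
theorem F363066 : act 4 n151569 = n151710 := d5_4 (iv4 F343659) F363065 (iv4 D164208) (iv3 F238441) (iv3 F351269)
theorem F363067 : act 5 n164208 = n126524 := d6_2 (iv5 F342925) F363065 (iv3 F203444)
theorem F363068 : act 5 n164205 = n132933 := d9_8 F363067 (iv4 D126524) (iv5 D59359) (iv4 F93586) F332573 (iv4 F177616) D78882 D164205 F213555 F203589 F332607 (iv5 D76330) F177611 D78887 D164208
theorem F363069 : act 3 n132934 = n164205 := d6_3 F363068 (iv3 D132933) D132934
theorem F363070 : act 1 n132933 = n106536 := d17_6 (iv1 D49697) F37994 D35907 D78882 D164205 F363068 (iv5 D106536) D106535 F177621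
theorem F363071 : act 1 n111034 = n111981 := d15_0 (iv0 F342872) (iv7 F342891) (iv2 F172201)
theorem F363072 : act 3 n133570 = n105814 := d6_3 (iv5 F229804) F342847 (iv5 F224287)
theorem F363073 : act 2 n170660 = n134249 := d2_1 F342835 (iv5 D134249) (iv2 F207861)
theorem F363074 : act 7 n170660 = n134247 := d13_2 (iv7 F207862) F342835 (iv5 D134247)
theorem F363075 : act 1 n122463 = n134247 := d15_1 (iv0 F345490) (iv7 F363074) F363073
theorem F363076 : act 1 n134247 = n170663 := d15_1 F363075 (iv7 D170663) (iv2 F304299)
theorem F363077 : act 0 n98165 = n102394 := d21_10 (iv5 D102394) D102391 (iv5 F356423) (iv6 F356424) (iv1 F363075) (iv6 D122463) (iv5 D56772) F118897 D45858 (iv6 F151424)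
theorem F363078 : act 5 n170663 = n130727 := d17_7 F211964 F211960 F211965 (iv5 D131928) (iv4 F168468) D134247 F363076 (iv0 F216209) (iv4 D134169)
theorem F363079 : act 0 n134148 = n134456 := d21_4 D63470 (iv1 F328110) (iv5 F328517) D134148 F216415 (iv5 F363078) (iv1 F363076) (iv5 D134247) (iv6 F170842) (iv1 D63469)
theorem F363080 : act 1 n134148 = n134460 := d15_1 (iv0 F363079) (iv7 F217406) F217404
theorem F363081 : act 0 n135218 = n134922 := d18_2 F169028 D135218 F217114 (iv5 F211168) (iv4 F216181) F363080 (iv4 D134460) (iv0 F168725) (iv5 F169026)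
theorem F363082 : act 1 n123638 = n134922 := d15_0 (iv0 F363081) F217406 (iv2 F329429)
theorem F363083 : act 0 n134249 = n170663 := d17_2 (iv1 F216039) D134249 F363078 (iv4 D130727) (iv5 F101816) F168236 (iv5 F168238) F98254 (iv4 F216037)
theorem F363084 : act 7 n170661 = n134249 := d15_2 (iv0 D170660) D170661 (iv2 F363073)
theorem F363085 : act 2 n134247 = n170661 := d4_3 F363084 (iv2 F363073) F363074
theorem F363086 : act 5 n134041 = n170661 := d13_3 F363084 (iv5 D134249) (iv7 F216033)
theorem F363087 : act 7 n110921 = n123306 := d11_2 (iv7 F197088) F342822 (iv4 D123306)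
theorem F363088 : act 5 n123306 = n111628 := d13_1 F363087 F173187 (iv5 F171935)
theorem F363089 : act 1 n110873 = n123306 := d15_1 F332921 (iv7 F363087) (iv2 F332922)
theorem E102918 : n142596 = n134397 := ((c20_5 F342816 (iv1 D134427) F98423 (iv3 F98416) D134397 F325089 F106108 (iv1 F104009) F104010 D68874 D146921)).symm
theorem F363090 : act 2 n134397 = n178886 := (sb E102918 (iv2 F361434))
theorem F363091 : act 3 n134397 = n69731 := (sb E102918 F325089)
theorem F363092 : act 4 n134397 = n66839 := (sb E102918 (iv4 D142596))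
theorem F363093 : act 6 n134397 = n164565 := (sb E102918 F361433)
theorem F363094 : act 7 n134397 = n146893 := (sb E102918 F325090)
theorem F363095 : act 7 n134398 = n178886 := d15_2 (iv0 D134397) D134398 (iv2 F363090)
theorem F363096 : act 2 n146893 = n134398 := d4_3 F363095 (iv2 F363090) F363094
theorem E102919 : n142601 = n134398 := (c11_4 F363095 (iv4 D178886) F320607 D142601)
theorem F363097 : act 4 n134398 = n66840 := (sb E102919 (iv4 D142601))
theorem F363098 : act 1 n134399 = n178886 := d15_1 (iv0 F342809) (iv7 F363095) (iv2 F363096)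
theorem E102920 : n135155 = n117545 := ((c17_6 (iv1 D66840) (iv5 D31148) D31146 (iv5 F320554) (iv4 F85488) D117545 (iv0 D135155) F98828 D134398 F363097)).symm
theorem F363099 : act 1 n117545 = n63515 := (sb E102920 (iv0 D135155))
theorem F363100 : act 2 n123862 = n160307 := d2_3 (iv5 F253208) F342797 D123862
theorem F363101 : act 2 n139299 = n123858 := d3_1 F342795 (iv6 D123858) (iv2 F342794)
theorem F363102 : act 7 n123858 = n115923 := d4_2 D139299 F363101 F180489
theorem F363103 : act 1 n123858 = n139296 := d15_0 (iv0 D139296) D139299 F363101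
theorem F363104 : act 1 n139297 = n123858 := d15_0 F363103 F362241 (iv2 F362238)
theorem F363105 : act 4 n134015 = n111759 := d18_1 F342792 (iv1 D111759) (iv4 F171626) (iv5 F341503) (iv4 D123904) F90903 F90890 F90379 D123122
theorem E102921 : n139375 = n123895 := (c21_5 F98210 (iv1 D30671) D30673 D65415 D139375 (iv6 D123895) F90895 F342786 (iv5 F98216) (iv6 D62952) D62951)
theorem F363106 : act 1 n123895 = n65415 := (sb E102921 (iv0 D139375))
theorem F363107 : act 6 n164563 = n162948 := d7_2 D162951 F342742 (iv3 D162948)
theorem E102922 : n159918 = n135059 := (c18_5 (iv1 F332641) (iv4 F242374) (iv1 F242377) F342710 D159918 (iv4 D135059) (iv0 D63479) (iv4 F83914) D115185 F327770)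
theorem F363108 : act 5 n135059 = n76554 := (sb E102922 (iv5 D159918))
theorem F363109 : act 6 n135059 = n148594 := (sb E102922 (iv6 F360952))
theorem F363110 : act 4 n148594 = n135061 := d10_1 F363109 (iv6 D135061) D135059
theorem F363111 : act 1 n135061 = n134444 := d18_6 F334966 F183682 F247753 D69640 D148594 F363110 (iv4 F327837) (iv0 F333242) (iv5 F334968)
theorem F363112 : act 3 n173794 = n178621 := d7_3 (iv6 D178621) F342668 D173794
theorem F363113 : act 7 n172847 = n173794 := d14_4 F342667 (iv6 F342654) F268292 D172847 (iv6 D173794)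
theorem F363114 : act 3 n184483 = n120172 := d20_9 (iv4 F309718) (iv1 F311945) (iv4 F313596) (iv3 F342646) F342645 (iv3 F332322) (iv4 D171092) (iv1 F134994) (iv4 F286414) F311308
theorem E102923 : n100487 = n99911 := (c20_2 (iv4 D100490) D100487 (iv4 F235328) F361335 (iv1 F217808) F216720 (iv4 D74671) (iv1 F87510) D120172 (iv3 F363114) (iv1 F286415))
theorem F363115 : act 1 n99911 = n46886 := (sb E102923 (iv0 D100487))
theorem F363116 : act 7 n100488 = n98301 := d15_2 F363115 D100488 (iv2 F153841)
theorem F363117 : act 1 n152071 = n178409 := d18_8 F232550 (iv4 D40233) (iv1 F60453) D85668 F312996 F125418 D99552 F342631 (iv5 D178409)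
theorem F363118 : act 3 n120162 = n178409 := d20_9 (iv4 F342631) (iv1 D99552) (iv4 F125418) (iv3 F267452) F342635 (iv3 F351941) (iv4 F319889) (iv1 F217679) (iv4 F212298) (iv1 F363117)
theorem F363119 : act 2 n178409 = n131091 := d0_1 F363118 F209938 (iv2 F162907) (iv3 F207746) F207745
theorem F363120 : act 6 n178409 = n120160 := d7_2 D120162 F363118 (iv3 D120160)
theorem F363121 : act 7 n178409 = n139114 := d8_2 F207749 F363118 F222301
theorem F363122 : act 6 n159714 = n183982 := d21_5 (iv5 D123173) F314442 (iv5 F309898) F309899 D159714 (iv5 D183982) F177413 D99549 (iv6 F268488) F342606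
theorem F363123 : act 3 n183987 = n159714 := d7_3 F363122 F285865 D183987
theorem F363124 : act 0 n175073 = n144476 := d20_7 F314533 (iv1 F310513) F313672 (iv3 F221774) F226264 F342547 (iv4 F274050) (iv4 D144476) F103731 D67706
theorem F363125 : act 4 n116056 = n143291 := d10_1 F342520 (iv6 D143291) D143289
theorem F363126 : act 4 n185984 = n100413 := d19_14 (iv1 F342517) F342519 (iv4 D143289) (iv3 F334877) (iv1 D46597) (iv5 D22324) (iv4 F17177) (iv3 D9095) (iv1 F14138) (iv5 F30593) (iv4 F61382) (iv3 F133331) (iv1 F135740) D185984 (iv3 F304608) (iv1 F240990) (iv5 F240991) (iv4 F242182) F308963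
theorem F363127 : act 4 n98856 = n181946 := d1_2 F363126 F154468 (iv2 F288497)
theorem E102924 : n181943 = n153636 := ((c11_4 (iv7 F288498) F363126 F302020 D153636)).symm
theorem F363128 : act 1 n153636 = n185417 := (sb E102924 F289318)
theorem F363129 : act 2 n153636 = n185981 := (sb E102924 (iv2 F288483))
theorem F363130 : act 5 n153636 = n86900 := (sb E102924 (iv5 D181943))
theorem F363131 : act 7 n153636 = n185984 := (sb E102924 (iv7 F288498))
theorem F363132 : act 4 n185981 = n153628 := d1_2 D153636 F363129 F241517
theorem F363133 : act 7 n153628 = n98856 := d11_2 (iv7 F288484) F363132 F363127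
theorem F363134 : act 1 n122426 = n98856 := d15_1 (iv0 F304685) (iv7 F363133) F241517
theorem F363135 : act 6 n181946 = n98860 := d10_2 (iv6 F152412) F363127 (iv4 D98860)
theorem F363136 : act 0 n143092 = n101981 := d20_4 F181423 F320711 (iv4 F103044) (iv3 F225941) (iv3 D101981) (iv4 F328323) D82400 (iv4 F325120) F221210 (iv1 F342514)
theorem E102925 : n153696 = n140583 := ((c17_7 F190113 (iv5 F92134) F190674 D58366 D124833 F342502 D140583 (iv5 D153696) (iv0 F240092) (iv4 D152888))).symm
theorem F363137 : act 5 n140583 = n72720 := (sb E102925 (iv5 D153696))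
theorem F363138 : act 7 n107253 = n140376 := d15_2 (iv0 F342500) D107253 F223482
theorem F363139 : act 2 n107255 = n140627 := d15_3 (iv0 D140627) (iv0 F342500) D107255
theorem F363140 : act 7 n140627 = n107251 := d4_2 D107255 F363139 F165299
theorem F363141 : act 1 n107253 = n140627 := d15_1 D107253 F363140 F165299
theorem F363142 : act 2 n140630 = n107253 := d15_3 F363141 (iv0 D140627) D140630
theorem F363143 : act 5 n107253 = n140377 := d2_2 (iv5 F223730) F363142 F223484
theorem F363144 : act 6 n140711 = n115794 := d12_2 D140661 F342482 F180168 F84250 (iv5 F101683)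
theorem F363145 : act 6 n145380 = n142041 := d21_3 (iv5 F331033) D68162 D145380 (iv1 D142041) (iv6 D66612) D66611 (iv1 F223825) (iv5 D140727) (iv6 F323822) (iv1 F342440)
theorem F363146 : act 6 n140592 = n156317 := d7_2 F342409 D140592 (iv3 D156317)
theorem F363147 : act 7 n140590 = n156316 := d14_2 F342408 D140590 (iv6 D156316) F312825 D124829
theorem F363148 : act 5 n131620 = n156540 := d6_2 D156542 F342387 (iv3 D156540)
theorem F363149 : act 2 n156540 = n177176 := d2_1 F363148 (iv5 F341024) F341023
theorem F363150 : act 6 n156540 = n103708 := d12_2 D131620 F363148 F341052 F210855 (iv5 D131619)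
theorem F363151 : act 7 n156540 = n115992 := d13_2 (iv7 F340989) F363148 F333343
theorem F363152 : act 2 n177717 = n138045 := d2_3 F342385 F331868 D177717
theorem F363153 : act 3 n153962 = n138045 := d6_3 F342385 F241982 D153962
theorem F363154 : act 7 n138044 = n177717 := d15_2 F356306 F357370 F363152
theorem E102926 : n177718 = n123019 := (c13_3 F363154 (iv5 D177717) D177718 (iv5 F361492))
theorem F363155 : act 7 n123019 = n84626 := (sb E102926 (iv7 D177718))
theorem E102927 : n141544 = n141398 := ((c21_10 F342384 (iv1 F313268) F312216 (iv6 F313394) (iv1 F191248) (iv6 F307173) (iv5 D69823) D69821 F320989 D141398 (iv1 D141544))).symm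
theorem F363156 : act 0 n141398 = n66392 := (sb E102927 (iv1 D141544))
theorem F363157 : act 0 n149019 = n107516 := d20_1 D149019 (iv4 F180576) (iv3 D115970) (iv1 D53465) (iv3 F84363) F84364 D53487 D116050 F342380 (iv1 D149018)
theorem F363158 : act 0 n140907 = n143829 := d20_7 F100922 F49007 D50655 D109845 F342378 F327727 D140907 F226472 F103233 F101311
theorem F363159 : act 5 n106015 = n143921 := d21_2 D66342 (iv1 F323431) F320336 (iv1 F183900) F320851 D150915 (iv1 F342369) F223997 F174507 F321519
theorem F363160 : act 2 n143544 = n141358 := d1_3 F342366 F339012 D143544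
theorem F363161 : act 1 n184670 = n154266 := d17_6 (iv1 F307854) (iv5 D120220) (iv1 F232774) F114867 (iv4 F314127) D184670 (iv5 D154266) (iv0 F342352) F342355
theorem F363162 : act 6 n179663 = n175389 := d14_5 F342232 (iv6 D148160) (iv7 F231930) (iv6 F250268) (iv7 F279825)
theorem F363163 : act 3 n175392 = n179663 := d7_3 F363162 (iv3 D175389) D175392
theorem F363164 : act 4 n178907 = n175392 := d5_0 F363163 (iv4 D179663) F131597 (iv4 F130591) (iv3 F278782)
theorem E102928 : n183223 = n120154 := ((c10_2 F342217 D120154 (iv6 D183223) F147521)).symm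
theorem F363165 : act 2 n120154 = n87465 := (sb E102928 F284871)
theorem F363166 : act 3 n120154 = n95456 := (sb E102928 F284872)
theorem F363167 : act 6 n120154 = n87461 := (sb E102928 (iv6 D183223))
theorem F363168 : act 6 n183224 = n151688 := d12_4 F363167 (iv5 D87461) D87462 D183224 F238564
theorem F363169 : act 4 n151689 = n183224 := d10_3 F363168 (iv4 D151688) D151689
theorem E102929 : n183238 = n110769 := (c1_3 F363169 F284873 D183238 (iv2 F238567))
theorem F363170 : act 4 n110769 = n87468 := (sb E102929 (iv4 D183238))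
theorem F363171 : act 0 n151689 = n96017 := d20_7 (iv4 F70382) (iv1 F70384) (iv4 F70460) (iv3 F147779) F147780 (iv3 F284874) (iv4 F363169) (iv4 D96017) (iv3 D44805) (iv1 F70169)
theorem F363172 : act 0 n130712 = n148704 := d19_0 F233474 F363170 F134284 F293595 (iv5 D41275) (iv4 D19416) D19415 (iv1 F31077) (iv5 D17883) F13249 (iv3 F16803) (iv1 F15244) D16728 F325069 (iv3 F39316) (iv1 F81329) (iv5 F81330) D61326 D130712
theorem F363173 : act 4 n183236 = n94448 := d20_8 (iv4 F354339) (iv1 F276117) (iv4 F293809) F171504 (iv1 D110786) (iv3 F171459) F363170 D183236 F145628 D94453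
theorem F363174 : act 6 n94447 = n183236 := d10_0 F363173 (iv6 D94448) D94447
theorem F363175 : act 4 n95456 = n89577 := d5_2 D120154 F363166 F342221 (iv4 F311318) F189783
theorem E102930 : n183230 = n110763 := ((c16_8 (iv4 D120154) (iv5 D55289) (iv4 D26719) (iv5 D12772) (iv4 F19127) D24839 D51065 D110763 (iv7 D183230) (iv2 F363165))).symm
theorem F363176 : act 3 n110763 = n87474 := (sb E102930 F284878)
theorem F363177 : act 7 n110763 = n87465 := (sb E102930 (iv7 D183230))
theorem F363178 : act 3 n154604 = n162577 := d6_3 (iv5 D162577) F342205 D154604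
theorem F363179 : act 3 n154605 = n162578 := d7_3 (iv6 D162578) F342205 D154605
theorem F363180 : act 0 n162578 = n172169 := d20_10 F353664 (iv1 D147152) F105203 (iv3 D32404) (iv1 F50376) (iv3 F105001) (iv4 F324052) F355131 (iv4 F280373) F363179
theorem F363181 : act 0 n135616 = n185780 := d20_4 (iv4 F168378) (iv1 F203503) F203500 (iv3 F218090) F288110 F342175 (iv1 D61104) (iv4 F95614) F95613 D63189
theorem F363182 : act 1 n135608 = n185780 := d15_0 (iv0 F363181) (iv7 D135616) (iv2 F218084)
theorem E102931 : n132804 = n132780 := ((c3_3 D132808 F342166 (iv6 F330897) F213294)).symm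
theorem F363183 : act 2 n132780 = n62327 := (sb E102931 F213294)
theorem F363184 : act 7 n132780 = n62326 := (sb E102931 (iv7 D132804))
theorem F363185 : act 7 n132801 = n159575 := d11_2 F363184 D132801 F330898
theorem F363186 : act 3 n159580 = n132801 := d8_3 F363185 F251337 D159580
theorem F363187 : act 6 n185862 = n132801 := d14_5 F363185 (iv6 D159575) F114451 F143113 (iv7 F288300)
theorem F363188 : act 6 n124655 = n174837 := d7_2 F342140 D124655 (iv3 D174837)
theorem E102932 : n178535 = n124655 := (c12_6 F363188 F342133 (iv6 D134628) D134627 F331680 D178535)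
theorem F363189 : act 5 n124655 = n85008 := (sb E102932 (iv5 D178535))
theorem F363190 : act 0 n177655 = n183053 := d21_7 F127860 (iv1 F64173) (iv5 F74064) (iv6 F300659) (iv1 F108951) D153322 (iv5 F342120) (iv5 D183053) (iv6 D87384) (iv1 F127862)
theorem E102933 : n177018 = n162898 := ((c20_4 (iv4 D86501) (iv1 F118839) D78309 D162898 (iv1 F276424) (iv3 F276870) (iv4 F342117) (iv1 D160493) (iv4 F253518) (iv3 D160490) (iv1 F299820))).symm
theorem F363191 : act 0 n162898 = n84547 := (sb E102933 (iv1 F276424))
theorem F363192 : act 1 n162898 = n84370 := (sb E102933 (iv0 D177018))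
theorem F363193 : act 2 n162898 = n84543 := (sb E102933 (iv2 F276595))
theorem F363194 : act 5 n162898 = n120872 := (sb E102933 F276423)
theorem F363195 : act 7 n162898 = n84544 := (sb E102933 (iv7 F276597))
theorem F363196 : act 6 n164001 = n157923 := d10_2 F342070 (iv4 F280696) (iv4 F258185)
theorem F363197 : act 0 n174871 = n131550 := d20_4 D83215 D174060 F342039 D174871 (iv3 D131550) (iv4 D61729) D61727 F330825 (iv3 F122844) (iv1 F330837)
theorem F363198 : act 5 n118448 = n174871 := d17_1 F199883 F363197 F210800 (iv4 D65354) F49107 (iv0 F311904) (iv5 D27806) D27803 D58425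
theorem F363199 : act 2 n174871 = n152250 := d2_1 F363198 (iv5 D152250) F200279
theorem F363200 : act 7 n174871 = n152247 := d13_2 F200280 F363198 (iv5 D152247)
theorem F363201 : act 3 n152250 = n175074 := d0_2 D174871 F363199 (iv2 F337596) F337611 (iv2 F330881)
theorem F363202 : act 6 n177818 = n101542 := d7_2 D101544 F342033 (iv3 D101542)
theorem F363203 : act 0 n123513 = n177818 := d20_4 F166673 (iv1 F166711) F312999 (iv3 F197933) (iv3 F342033) (iv4 F199605) (iv1 F310046) (iv4 F311082) F311081 (iv1 F166671)
theorem F363204 : act 0 n124808 = n99597 := d20_10 (iv4 F197934) F363203 (iv4 D177818) F234472 (iv1 F133433) F232424 (iv4 F133068) (iv1 D58354) D58356 D124808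
theorem F363205 : act 1 n123513 = n177823 := d15_1 (iv0 F363203) F281963 F281960
theorem F363206 : act 1 n161574 = n99368 := d15_1 F342028 F272807 (iv2 F272816)
theorem F363207 : act 3 n146670 = n175324 := d8_1 F341972 (iv7 D175324) (iv3 F337910)
theorem F363208 : act 6 n175324 = n146669 := d7_2 D146670 F363207 (iv3 D146669)
theorem F363209 : act 0 n93850 = n175324 := d20_4 F327760 F63632 D43869 D93850 (iv3 F363207) F229982 F104935 (iv4 F109947) (iv3 F337900) F328226
theorem F363210 : act 3 n169805 = n148379 := d20_5 F104533 F54943 (iv4 F318631) (iv3 F341959) (iv1 F267225) (iv4 D148379) (iv1 D69532) D69534 F321785 (iv1 F321251)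
theorem F363211 : act 6 n148379 = n154987 := d7_2 (iv6 F355211) F363210 F355210
theorem F363212 : act 6 n125813 = n165729 := d12_4 (iv6 F212914) F341955 (iv6 F299821) (iv5 F330158) F338377
theorem E102934 : n125770 = n95287 := (c15_4 F248681 F248679 F341940 (iv2 F202287))
theorem F363213 : act 2 n95287 = n58897 := (sb E102934 F202287)
theorem F363214 : act 5 n95287 = n183518 := (sb E102934 (iv5 F359013))
theorem F363215 : act 6 n95287 = n58895 := (sb E102934 (iv6 D125770))
theorem F363216 : act 2 n95286 = n157786 := d15_3 F248680 F328127 (iv7 F341940)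
theorem F363217 : act 7 n157786 = n95287 := d4_2 (iv7 F341940) F363216 F363213
theorem F363218 : act 0 n95289 = n128737 := d21_1 D95289 (iv5 F359046) (iv6 F359045) (iv1 F358185) (iv6 D125674) D125673 (iv1 F349585) (iv5 D125769) (iv6 F363215) (iv1 D95287)
theorem F363219 : act 1 n158068 = n130553 := d17_6 (iv1 F248681) F363214 (iv1 D183518) (iv5 F295378) F132082 (iv5 F249014) (iv5 F332879) F288745 F288742
theorem F363220 : act 7 n107583 = n165728 := d8_2 (iv7 F341932) F341935 (iv3 D165728)
theorem F363221 : act 2 n165728 = n108980 := d4_1 F363220 (iv7 D108980) (iv2 F165981)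
theorem F363222 : act 4 n165728 = n108970 := d11_1 F363220 (iv7 D108970) (iv4 F165982)
theorem F363223 : act 6 n165728 = n113161 := d14_1 F363220 (iv7 D113161) (iv6 D52233) (iv7 F78532) D107583
theorem F363224 : act 1 n108978 = n165728 := d15_1 D108978 (iv7 F363220) F165981
theorem F363225 : act 1 n165728 = n108977 := d15_1 F363224 F202598 (iv2 F202595)
theorem E102935 : n163667 = n158142 := ((c7_3 D163670 F341921 (iv6 F249095) (iv3 D163667))).symm
theorem F363226 : act 3 n158142 = n78634 := (sb E102935 (iv3 D163667))
theorem F363227 : act 7 n178548 = n158142 := d8_0 F363226 (iv7 F341668) F341665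
theorem F363228 : act 2 n178548 = n172552 := d15_3 (iv0 F357801) (iv0 F353096) (iv7 F363227)
theorem F363229 : act 6 n172552 = n119368 := d3_2 D178548 F363228 F188015
theorem F363230 : act 3 n124667 = n128151 := d7_3 (iv6 F341917) F341919 F330127
theorem F363231 : act 3 n101849 = n174482 := d20_9 (iv4 F341903) F341902 F205798 F108472 D71982 D152604 F239801 (iv1 F307569) D101849 (iv1 D174482)
theorem F363232 : act 6 n174482 = n131464 := d7_2 (iv6 F273363) F363231 (iv3 F348449)
theorem F363233 : act 7 n174482 = n172241 := d8_2 (iv7 F156811) F363231 F298844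
theorem F363234 : act 4 n158789 = n174482 := d20_2 F300894 D158789 (iv3 F363231) (iv1 F272861) F333409 F312051 (iv1 F184652) (iv4 F309856) (iv3 F188156) (iv1 F254843)
theorem F363235 : act 0 n131380 = n129055 := d21_1 D131380 (iv5 F210731) (iv6 F363232) (iv1 D174482) D174486 F343369 F242981 (iv5 F339750) F189168 F315823
theorem F363236 : act 0 n174485 = n135995 := d21_1 D174485 F321763 D155116 F347127 (iv6 D131381) D131380 F363235 (iv5 F210731) (iv6 F363232) (iv1 D174482)
theorem F363237 : act 0 n162045 = n174487 := d20_1 D162045 (iv4 D174487) (iv3 F273373) F363236 F218792 F99471 (iv1 F82156) (iv4 F93932) D126806 F331959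
theorem F363238 : act 0 n148275 = n113294 := d20_1 D148275 F341895 F96224 D61667 (iv3 F155492) (iv4 F309022) (iv1 F189107) F308998 (iv3 F186447) (iv1 F317237)
theorem E102936 : n163666 = n163662 := (c2_2 F341884 D163666 F334242 F306579)
theorem F363239 : act 2 n163662 = n78634 := (sb E102936 (iv2 D163666))
theorem F363240 : act 7 n163662 = n78635 := (sb E102936 (iv7 F258003))
theorem F363241 : act 0 n150253 = n166492 := d18_0 (iv4 F341689) F299711 (iv4 F341877) F341878 (iv4 D81688) (iv0 F299942) (iv4 F312366) (iv0 F304741) F304708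
theorem F363242 : act 7 n163508 = n147783 := d13_0 F341865 F341860 D163508
theorem F363243 : act 4 n125582 = n163846 := d20_2 F341859 (iv1 F202010) (iv3 D163846) (iv1 D78712) F56503 F28296 F28247 (iv4 F56403) (iv3 F119571) D162963
theorem F363244 : act 3 n160458 = n108612 := d6_1 F341847 (iv5 D108612) (iv3 F167989)
theorem F363245 : act 1 n131801 = n185723 := d15_0 (iv0 D185723) (iv7 F138385) F341773
theorem F363246 : act 7 n162554 = n186297 := d11_2 (iv7 F207413) F341770 (iv4 F341767)
theorem E102937 : n134367 = n132626 := (c20_8 F23348 D14005 D29452 D62239 F341752 (iv3 F208745) F333890 (iv1 F333892) (iv4 D132626) (iv3 D62228) (iv1 D29448))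
theorem F363247 : act 0 n132626 = n63124 := (sb E102937 (iv1 D134367))
theorem F363248 : act 1 n132626 = n64906 := (sb E102937 F333892)
theorem F363249 : act 2 n129769 = n134366 := d15_3 (iv0 D134366) (iv0 F363247) F212883
theorem E102938 : n134567 = n134366 := ((c1_2 D129769 F363249 (iv4 D134567) (iv2 F341743))).symm
theorem F363250 : act 0 n134366 = n64906 := (sb E102938 F340126)
theorem F363251 : act 4 n134366 = n63233 := (sb E102938 (iv4 D134567))
theorem F363252 : act 6 n134366 = n95415 := (sb E102938 F340127)
theorem F363253 : act 0 n132067 = n129792 := d20_7 F47289 (iv1 F23775) (iv4 F49748) D62228 F341747 (iv3 F98469) F211606 F208143 (iv3 D60961) F53621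
theorem E102939 : n177459 = n163495 := (c7_3 (iv6 F192991) F341705 D177459 (iv3 D163495))
theorem F363254 : act 6 n163495 = n84544 := (sb E102939 (iv6 D177459))
theorem F363255 : act 7 n173870 = n150254 := d16_8 (iv4 F341701) F267766 F125554 F58263 (iv4 F58259) F310103 F304703 D173870 F236451
theorem F363256 : act 4 n113312 = n176503 := d5_2 D124651 F341642 F275814 F322773 (iv3 D124650)
theorem F363257 : act 6 n125582 = n113312 := d10_0 F363256 (iv6 F330809) (iv4 F363243)
theorem F363258 : act 5 n163672 = n170452 := d6_0 F341632 (iv5 D163674) D163672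
theorem F363259 : act 0 n126342 = n163672 := d17_0 F363258 F344916 (iv5 D110661) (iv4 D51027) F80302 (iv0 F166075) D108229 (iv0 F167359) (iv4 F203154)
theorem F363260 : act 1 n126367 = n163672 := d17_6 (iv1 F232119) (iv5 D69512) (iv1 D32275) D32276 D69516 (iv5 F351644) F363258 (iv0 F337180) F337176
theorem F363261 : act 0 n166171 = n126019 := d21_4 D110391 F337180 (iv5 F363258) (iv6 F341659) (iv6 D126019) D126018 F351656 F351655 (iv6 F175205) (iv1 D110390)
theorem F363262 : act 4 n163672 = n163766 := d17_9 (iv1 D163766) (iv5 F327659) (iv1 D64247) F48645 (iv4 F81150) D111446 F351637 (iv5 F351644) F363260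
theorem F363263 : act 1 n163766 = n113164 := d18_8 (iv1 F100101) (iv4 F219923) (iv1 F219925) (iv4 D126710) (iv5 F93848) (iv4 F203195) F363260 F363262 F176324
theorem F363264 : act 2 n136456 = n163766 := d15_3 F363263 (iv0 F219839) (iv7 F219565)
theorem F363265 : act 5 n106982 = n163766 := d17_5 F332104 (iv5 D69210) D69208 D147680 (iv4 F344155) F363263 F176324 (iv0 D64246) (iv4 F93858)
theorem F363266 : act 3 n163766 = n106984 := d6_1 F363265 (iv5 D106984) D106982
theorem F363267 : act 7 n163766 = n113198 := d13_2 F164896 F363265 F176364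
theorem E102940 : n128966 = n126212 := ((c15_4 (iv0 D128966) D128967 F341622 (iv2 F202973))).symm
theorem F363268 : act 1 n126212 = n60646 := (sb E102940 (iv0 D128966))
theorem F363269 : act 6 n106453 = n127375 := d12_2 F332815 F341595 (iv5 F204685) (iv6 D113412) D113411
theorem F363270 : act 6 n113665 = n106675 := d3_2 F363269 F204689 (iv2 F341611)
theorem F363271 : act 5 n113541 = n132010 := d21_8 (iv5 F341594) (iv1 F177834) F322877 (iv6 F363270) (iv1 D113665) (iv6 F176704) (iv5 D113543) D113541 (iv6 D132010) (iv1 F164232)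
theorem F363272 : act 3 n135027 = n148713 := d6_3 F341593 F211510 F336995
theorem F363273 : act 0 n148713 = n135492 := d20_10 (iv4 F332598) F332597 F98900 F93633 (iv1 F45632) D59389 F93713 D63462 D135027 F363272
theorem F363274 : act 5 n153533 = n181950 := d19_9 D99074 F157305 D99667 F341566 (iv1 D72611) (iv5 D33512) (iv4 F52831) (iv3 F109131) D153533 (iv4 D181950) F133330 (iv1 F74707) (iv5 D47510) (iv4 D22826) F17308 D10795 F17317 (iv4 F34636) (iv3 F72993)
theorem F363275 : act 6 n133579 = n99585 := d3_2 D99669 F341559 F288493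
theorem F363276 : act 4 n135922 = n124010 := d5_4 (iv4 F192003) F341531 (iv4 D136642) (iv3 F218639) (iv3 D124010)
theorem F363277 : act 2 n124010 = n135925 := d1_1 F363276 (iv4 D135925) (iv2 F218638)
theorem F363278 : act 0 n124010 = n109211 := d17_0 (iv5 D109211) (iv1 F168627) (iv5 F172805) (iv4 F332964) (iv5 D136357) D136355 F343267 F341521 F363276
theorem F363279 : act 5 n141940 = n124010 := d21_6 F49327 (iv1 D14688) D14690 D31056 D66537 D141940 F363278 (iv5 D109211) (iv6 F351224) F78080
theorem F363280 : act 1 n124010 = n109216 := d15_1 (iv0 F363278) F351232 F351228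
theorem F363281 : act 7 n124014 = n135925 := d15_2 F363280 F359224 (iv2 F363277)
theorem F363282 : act 3 n120543 = n141940 := d6_3 F363279 (iv3 D124010) (iv5 F192030)
theorem F363283 : act 6 n141937 = n120543 := d7_0 F363282 (iv6 D141940) D141937
theorem F363284 : act 4 n120544 = n141937 := d10_3 F363283 (iv4 D120543) D120544
theorem F363285 : act 6 n123830 = n134217 := d12_2 F341484 D123830 (iv5 D134217) (iv6 D63053) (iv5 F98320)
theorem F363286 : act 0 n185125 = n135212 := d21_10 (iv5 D135212) F101882 D134217 (iv6 F363285) (iv1 F353712) (iv6 D185216) D185215 (iv1 F356401) F295453 D185125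
theorem F363287 : act 5 n134148 = n185125 := d17_1 (iv1 F363080) F363286 (iv5 D135212) (iv4 D63533) D63534 (iv0 F164113) F97534 F164124 D134460
theorem F363288 : act 1 n185125 = n135217 := d15_1 (iv0 F363286) F217403 (iv2 F217390)
theorem F363289 : act 0 n108818 = n123883 := d21_10 (iv5 D123883) (iv1 F197319) F197316 (iv6 F90891) (iv1 F90903) (iv6 F341479) (iv5 D108812) (iv1 D50241) D50243 D108818
theorem F363290 : act 1 n108818 = n123888 := d15_1 (iv0 F363289) F357151 (iv2 F357150)
theorem F363291 : act 1 n123888 = n134288 := d15_1 F363290 (iv7 D134288) (iv2 F168773)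
theorem F363292 : act 1 n134288 = n123883 := d15_1 F363291 F355569 F355566
theorem F363293 : act 0 n185226 = n160300 := d17_0 F253206 (iv1 D123833) (iv5 D57710) F44467 D27562 D57723 D123888 F363291 (iv4 F353709)
theorem F363294 : act 0 n123889 = n126878 := d21_4 (iv5 F362805) (iv1 F363291) (iv5 D123888) D123889 (iv6 D126878) (iv5 D59541) F45775 D29779 D62952 D134014
theorem F363295 : act 4 n111526 = n123889 := d18_1 (iv1 F341345) F363294 (iv4 F343749) (iv5 D110279) (iv4 F80207) F323084 (iv4 F323090) F81921 D51901
theorem F363296 : act 6 n123887 = n111526 := d10_0 F363295 (iv6 D123889) D123887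
theorem F363297 : act 1 n111229 = n160300 := d15_0 (iv0 F363293) (iv7 F353708) (iv2 F172517)
theorem F363298 : act 6 n134014 = n123979 := d21_3 D123883 (iv1 F363292) F362805 (iv1 D123979) (iv6 D57757) (iv5 D27573) (iv1 D13178) D13179 (iv6 F44468) D57722
theorem F363299 : act 3 n123900 = n146929 := d6_3 (iv5 D146929) F341473 D123900
theorem F363300 : act 3 n146933 = n110809 := d0_4 F341450 (iv2 F85268) D68877 D146933 F171575
theorem F363301 : act 6 n110808 = n146933 := d7_0 F363300 (iv6 D110809) (iv3 F171574)
theorem F363302 : act 2 n146935 = n110808 := d3_3 F363301 (iv2 D146933) D146935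
theorem F363303 : act 0 n109125 = n138462 := d21_4 (iv5 D24560) D24557 D50373 D109125 (iv6 D138462) (iv5 D65038) (iv1 D30549) D30551 F341398 (iv1 D50384)
theorem F363304 : act 0 n109166 = n120500 := d21_4 F98773 F96651 D63329 (iv6 F341397) (iv6 D120500) F301582 F117193 D58483 F328660 D63443
theorem F363305 : act 6 n138476 = n111642 := d10_2 F341395 D138476 F173205
theorem E102941 : n111643 = n50359 := (c12_3 F363305 (iv5 D111642) D111643 D109076 (iv6 F359813) (iv5 F350383))
theorem E102942 : n109077 = n51488 := ((D109077).symm.trans (sb E102941 (iv6 D111643)))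
theorem F363306 : act 6 n51488 = n50359 := (sb E102942 (iv6 D109077))
theorem F363307 : act 6 n108651 = n111639 := d3_2 F363306 (iv2 F352259) (iv2 D111639)
theorem F363308 : act 6 n109074 = n111640 := d7_2 F363306 D109074 (iv3 D111640)
theorem F363309 : act 6 n109075 = n111641 := d10_2 F363306 D109075 (iv4 D111641)
theorem F363310 : act 0 n177289 = n110844 := d21_10 F171698 (iv1 F354459) (iv5 D111642) F363306 (iv1 F168571) (iv6 F331158) (iv5 D177281) (iv1 D84460) D84462 D177289
theorem F363311 : act 7 n111648 = n109082 := d14_4 (iv7 F352260) F363307 (iv7 F173204) D111648 (iv6 D109082)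
theorem F363312 : act 1 n141997 = n160463 := d18_6 (iv1 F102387) F102383 (iv1 F49455) D31068 D66580 D141997 F253468 F341377 (iv5 D66544)
theorem F363313 : act 5 n108528 = n123496 := d6_2 F341374 (iv3 F167798) F197911
theorem F363314 : act 7 n123495 = n108528 := d13_0 F363313 (iv7 D123496) D123495
theorem F363315 : act 4 n139430 = n123495 := d11_3 F363314 (iv4 F172474) (iv7 F222632)
theorem F363316 : act 4 n116263 = n140707 := d18_7 (iv1 F80205) F39263 (iv1 F38703) D50847 D110266 F341349 D116263 F223796 (iv5 D110275)
theorem F363317 : act 2 n140708 = n116263 := d1_3 F363316 F223793 D140708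
theorem F363318 : act 6 n108883 = n177506 := d12_4 (iv6 D84563) F341341 D111533 (iv5 F173056) (iv5 D177506)
theorem F363319 : act 2 n178119 = n108883 := d3_3 F363318 F302255 D178119
theorem F363320 : act 7 n108884 = n178119 := d15_2 (iv0 D108883) D108884 F363319
theorem F363321 : act 5 n180166 = n115757 := d6_2 F341337 D180166 F180119
theorem F363322 : act 5 n124278 = n111520 := d6_2 F341333 (iv3 F198772) F173045
theorem F363323 : act 5 n171064 = n111300 := d6_2 F341332 D171064 F172694
theorem F363324 : act 7 n160445 = n171064 := d13_0 F363323 F353990 (iv5 F353987)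
theorem F363325 : act 4 n171064 = n162703 := d11_1 F363324 (iv7 F298040) F298038
theorem F363326 : act 6 n171064 = n110265 := d14_1 F363324 F170486 (iv6 F326435) (iv7 F115539) D160445
theorem F363327 : act 4 n111519 = n166627 := d5_2 F341323 (iv3 F173044) (iv3 D166627) (iv4 D79972) (iv3 F326109)
theorem F363328 : act 6 n166627 = n112442 := d10_2 (iv6 F341321) F363327 F174930
theorem F363329 : act 7 n166627 = n177389 := d11_2 (iv7 F341322) F363327 F276772
theorem F363330 : act 5 n114349 = n180481 := d21_6 F331551 (iv1 F180865) F331532 F112696 (iv1 F83364) D114349 (iv1 D180481) (iv5 F341314) (iv6 D141931) (iv1 F331550)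
theorem F363331 : act 2 n180481 = n108676 := d2_1 F363330 F356730 F178587
theorem F363332 : act 6 n180481 = n108672 := d12_2 D114349 F363330 F356733 (iv6 D114342) (iv5 F83363)
theorem F363333 : act 7 n180781 = n180481 := d15_2 F356729 D180781 F363331
theorem F363334 : act 7 n180480 = n108676 := d15_2 (iv0 F327467) F327468 (iv2 F363331)
theorem F363335 : act 2 n180781 = n180480 := d4_3 F363334 (iv2 F363331) (iv7 F363333)
theorem F363336 : act 0 n180395 = n108686 := d21_4 (iv5 D39881) D39878 D86156 D180395 (iv6 D108686) F79517 F40222 (iv5 F79738) (iv6 F341301) F116162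
theorem F363337 : act 1 n180395 = n109190 := d15_1 (iv0 F363336) (iv7 D109190) (iv2 F168617)
theorem F363338 : act 1 n109190 = n140621 := d15_1 F363337 F360120 (iv2 F280733)
theorem E102943 : n157914 = n109188 := (c21_4 F112785 F58381 D75227 D157914 (iv1 D109188) (iv6 D50390) F78065 F78066 D50202 (iv6 F341292) (iv1 F112787))
theorem F363339 : act 2 n109188 = n180395 := (sb E102943 (iv2 F280733))
theorem F363340 : act 3 n109188 = n156330 := (sb E102943 F343820)
theorem F363341 : act 4 n109188 = n157876 := (sb E102943 F248818)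
theorem F363342 : act 5 n109188 = n141946 := (sb E102943 (iv5 F362681))
theorem F363343 : act 6 n109188 = n75227 := (sb E102943 (iv6 D157914))
theorem F363344 : act 7 n109188 = n140621 := (sb E102943 (iv7 F360120))
theorem F363345 : act 2 n140621 = n109187 := d15_3 (iv0 D109187) D109188 F363344
theorem F363346 : act 7 n180395 = n109187 := d4_2 (iv7 F363344) F363339 (iv2 F363345)
theorem F363347 : act 6 n109187 = n140374 := d14_1 F363346 F360109 (iv6 F360107) (iv7 F132112) D180395
theorem F363348 : act 1 n140621 = n108686 := d15_0 (iv0 F363336) F363346 (iv2 F363345)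
theorem E102944 : n153697 = n140620 := ((c21_7 F79732 F79441 (iv5 F79517) D108686 (iv1 F363348) (iv6 D140621) D140620 (iv1 F331111) (iv5 D109067) (iv6 D50354) D50352)).symm
theorem F363349 : act 0 n140620 = n109067 := (sb E102944 (iv1 F331111))
theorem F363350 : act 1 n140620 = n72721 := (sb E102944 (iv0 D153697))
theorem F363351 : act 5 n141947 = n109187 := d17_7 D65983 D140620 F363349 (iv5 D109067) F79740 D66539 D141947 (iv0 D109187) F79759
theorem F363352 : act 6 n140436 = n170872 := d3_2 F341291 (iv2 F223622) F268481
theorem F363353 : act 6 n140440 = n170875 := d10_2 F341291 D140440 (iv4 D170875)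
theorem F363354 : act 5 n170818 = n140437 := d12_3 F363352 (iv5 D170872) (iv6 F268403) (iv6 D140437) D140436
theorem F363355 : act 0 n180387 = n134746 := d21_4 F195613 F116028 D86153 D180387 (iv6 D134746) F98560 F76873 D53375 (iv6 F341290) D122329
theorem F363356 : act 5 n170878 = n108565 := d21_6 F78118 F38494 D30849 (iv6 F341288) D81917 D170878 F332969 (iv5 D109206) (iv6 D50394) (iv1 F78117)
theorem F363357 : act 0 n157876 = n106926 := d21_4 F126260 F74940 D75210 D157876 (iv6 D106926) F78118 F38494 D30849 (iv6 F341288) D81917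
theorem F363358 : act 3 n108567 = n170878 := d6_3 F363356 (iv3 D108565) D108567
theorem F363359 : act 6 n108565 = n124226 := d12_2 D170878 F363356 F304974 F129979 (iv5 F126260)
theorem F363360 : act 3 n124226 = n108568 := d7_1 F363359 (iv6 D108568) D108565
theorem F363361 : act 6 n140336 = n178100 := d21_9 (iv5 D84788) (iv1 F129977) (iv5 F304974) (iv6 F363359) F332969 F169168 (iv5 D65867) D65865 D140336 (iv1 F277638)
theorem F363362 : act 5 n108568 = n178094 := d6_2 (iv5 F304974) F363360 (iv3 D178094)
theorem F363363 : act 6 n170877 = n108567 := d12_4 D108568 F363362 F277634 (iv5 F268483) (iv5 D108567)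
theorem F363364 : act 5 n140449 = n178238 := d6_2 F341281 D140449 (iv3 D178238)
theorem F363365 : act 5 n138492 = n123476 := d6_2 F341280 D138492 (iv3 D123476)
theorem F363366 : act 5 n140451 = n163952 := d6_2 F341278 D140451 F258411
theorem F363367 : act 2 n174812 = n143591 := d1_1 F341204 F226274 D143869
theorem F363368 : act 0 n143869 = n162729 := d20_4 F243921 (iv1 F272357) (iv4 F272355) (iv3 F341203) (iv3 D162729) D162730 (iv1 F318024) F318025 (iv3 F318023) (iv1 F257003)
theorem F363369 : act 5 n162729 = n98200 := d17_3 F328945 (iv5 F341207) F363368 F151518 F331728 F319510 (iv5 D83184) F128235 (iv4 F328949)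
theorem F363370 : act 2 n134678 = n162729 := d15_3 (iv0 F363368) F341202 (iv7 F340195)
theorem F363371 : act 1 n139278 = n162729 := d15_0 (iv0 F363368) F341205 F341206
theorem F363372 : act 7 n162729 = n134683 := d15_2 (iv0 F330257) F363371 F330185
theorem E102945 : n138052 = n136660 := (c2_4 (iv5 F339089) F341196 (iv5 D138055) (iv2 F221301))
theorem F363373 : act 2 n136660 = n64874 := (sb E102945 F221301)
theorem F363374 : act 7 n136660 = n64873 := (sb E102945 (iv7 D138052))
theorem F363375 : act 7 n138049 = n167677 := d11_2 F363374 D138049 (iv4 F339088)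
theorem E102946 : n138047 = n136661 := (c15_4 F219809 F219808 F363374 D138047)
theorem F363376 : act 2 n136661 = n64873 := (sb E102946 (iv2 D138047))
theorem F363377 : act 7 n136661 = n64874 := (sb E102946 (iv7 F221300))
theorem F363378 : act 2 n180009 = n138562 := d15_3 F341166 (iv0 F341136) F322678
theorem F363379 : act 2 n145288 = n122307 := d15_3 F341135 (iv0 F332353) F308877
theorem F363380 : act 6 n123226 = n145288 := d3_0 F363379 F301621 (iv2 F197517)
theorem E102947 : n148446 = n92489 := ((c7_3 (iv6 F231774) F341094 F239690 (iv3 D148446))).symm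
theorem F363381 : act 3 n92489 = n69561 := (sb E102947 (iv3 D148446))
theorem F363382 : act 2 n138624 = n184987 := d2_3 F341093 F221787 D138624
theorem F363383 : act 7 n184988 = n138624 := d15_2 (iv0 D184987) D184988 F363382
theorem F363384 : act 3 n138641 = n184988 := d8_3 F363383 F221791 D138641
theorem F363385 : act 5 n118332 = n184988 := d13_3 F363383 (iv5 D138624) (iv7 F319535)
theorem F363386 : act 6 n184988 = n177888 := d7_2 (iv6 F343240) F363384 (iv3 D177888)
theorem F363387 : act 0 n157228 = n178884 := d20_7 F84412 (iv1 F47614) F316115 (iv3 F104162) F341073 (iv3 F245726) (iv4 F247442) (iv4 D178884) F200298 F313604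
theorem F363388 : act 3 n156365 = n111035 := d19_3 D116179 F341070 (iv4 F245730) (iv1 F172205) (iv5 F165356) F165132 F78258 (iv1 F98358) (iv5 F168736) F323860 F99627 D64849 F169671 (iv4 F169572) (iv3 D65655) (iv1 F49694) F318131 (iv4 D53556) (iv3 F84453)
theorem F363389 : act 5 n111026 = n156365 := d6_0 F363388 F172204 (iv3 F172183)
theorem F363390 : act 6 n111035 = n156363 := d7_2 D156365 F363388 (iv3 D156363)
theorem F363391 : act 7 n111025 = n156365 := d8_0 F363388 (iv7 D111035) (iv3 F172181)
theorem E102948 : n145418 = n138508 := ((c14_3 D111035 F363390 (iv7 F245764) (iv6 D145418) (iv7 D68174) (iv6 F80775))).symm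
theorem F363392 : act 6 n138508 = n68174 := (sb E102948 (iv6 D145418))
theorem F363393 : act 5 n111024 = n154738 := d17_7 (iv1 F180960) (iv5 F180987) (iv1 F341060) F341061 (iv4 F331029) (iv5 D111025) D111024 F252893 (iv4 F316876)
theorem F363394 : act 0 n97293 = n97135 := d17_2 F341058 D97293 (iv5 D97135) (iv4 F321177) (iv5 F317063) F205886 (iv5 F340995) F340994 (iv4 F341011)
theorem F363395 : act 0 n97136 = n95945 := d21_10 (iv5 D95945) (iv1 F147150) F147147 (iv6 F70987) (iv1 F70989) D45447 D97293 F363394 (iv5 D97135) D97136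
theorem F363396 : act 4 n127444 = n97136 := d17_9 F363395 (iv5 D95945) (iv1 F147150) F147147 (iv4 F71300) F305064 (iv0 F302871) (iv5 F305229) F204849
theorem F363397 : act 1 n97136 = n95950 := d15_1 (iv0 F363395) F335093 (iv2 F335098)
theorem F363398 : act 7 n97136 = n103737 := d15_2 (iv0 F335097) (iv0 F363395) F317727
theorem F363399 : act 2 n95816 = n97136 := d4_3 F363398 F317727 (iv7 F325001)
theorem F363400 : act 3 n95769 = n97136 := d8_3 F363398 (iv3 F358019) (iv7 F360645)
theorem E102949 : n145514 = n103710 := ((c15_4 (iv0 D145514) D145515 F341056 (iv2 F159156))).symm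
theorem F363401 : act 1 n103710 = n68235 := (sb E102949 (iv0 D145514))
theorem F363402 : act 6 n179638 = n145515 := d10_0 F341055 (iv6 F313776) D179638
theorem F363403 : act 7 n177290 = n179638 := d14_0 F363402 F341056 F129567 D84463 D177290
theorem F363404 : act 3 n127612 = n97198 := d5_5 F341011 F182785 F105660 F317925 (iv4 F205180)
theorem F363405 : act 5 n152004 = n154472 := d21_6 (iv5 F74235) (iv1 D41345) (iv5 F35153) D47031 D100893 F340967 (iv1 D154472) (iv5 D73171) F306346 (iv1 F34811)
theorem F363406 : act 4 n143800 = n129547 := d10_1 F340945 (iv6 D129547) D129546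
theorem F363407 : act 4 n172502 = n139790 := d11_3 (iv7 F226447) F363406 (iv7 F342316)
theorem F363408 : act 5 n133160 = n105373 := d13_3 (iv7 F340903) F340918 (iv7 F213921)
theorem F363409 : act 4 n101968 = n114878 := d20_8 F315370 (iv1 F104848) (iv4 F229736) F340888 (iv1 F186660) (iv3 F340895) F336778 F289948 (iv3 D114878) (iv1 D53007)
theorem F363410 : act 2 n114878 = n102006 := d1_1 F363409 (iv4 D102006) (iv2 F156935)
theorem F363411 : act 6 n114878 = n146485 := d10_2 F349942 F363409 (iv4 F328479)
theorem F363412 : act 1 n146559 = n151348 := d18_6 D71323 D151335 F340892 F238389 (iv5 F238399) (iv4 F335936) F335932 (iv0 D151343) (iv5 D71325)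
theorem F363413 : act 1 n106055 = n105824 := d17_8 (iv1 F162462) F162459 (iv1 F77294) D49019 D106057 F340871 F232393 D106055 (iv4 D105824)
theorem F363414 : act 3 n117672 = n105829 := d6_3 F340865 (iv3 F252502) (iv5 F187518)
theorem F363415 : act 6 n117669 = n105829 := d21_5 (iv5 D15082) D15080 D31972 D68719 (iv1 F334957) F340865 (iv1 D160037) F114918 (iv6 D68681) (iv1 F50316)
theorem F363416 : act 4 n139107 = n142156 := d18_3 (iv1 F319249) (iv4 F101028) D139107 F322970 F317659 F183909 F314937 (iv0 F340849) F340851
theorem F363417 : act 2 n102010 = n139107 := d1_3 F363416 F322969 F334898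
theorem E102950 : n143296 = n139107 := (c10_1 D143296 F363416 (iv6 D142156) F324986)
theorem F363418 : act 6 n139107 = n67127 := (sb E102950 (iv6 D143296))
theorem F363419 : act 1 n118872 = n139107 := d18_6 F334900 F338180 F233181 (iv4 F332527) F183672 (iv4 F186935) F363416 F322968 (iv5 F162530)
theorem F363420 : act 3 n124887 = n139088 := d20_3 (iv4 F107639) D150849 F237581 (iv1 D139088) F101024 (iv4 F101028) D139107 F363416 F225176 (iv1 F322975)
theorem F363421 : act 2 n139088 = n153568 := d0_1 F363420 F360666 F190873 F230734 (iv2 F230733)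
theorem F363422 : act 7 n139088 = n147901 := d8_2 (iv7 F230731) F363420 (iv3 D147901)
theorem F363423 : act 0 n139081 = n138712 := d20_1 (iv4 F222271) (iv4 D138712) (iv3 D65128) F315107 (iv3 F52115) (iv4 F107639) D150849 F237581 F363420 (iv1 D139088)
theorem E102951 : n142903 = n139087 := (c15_4 (iv0 D139087) D139088 F363422 F357852)
theorem F363424 : act 2 n139087 = n147901 := (sb E102951 (iv2 F357852))
theorem F363425 : act 3 n139087 = n66970 := (sb E102951 F225780)
theorem F363426 : act 6 n139087 = n66967 := (sb E102951 (iv6 D142903))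
theorem F363427 : act 7 n139087 = n153568 := (sb E102951 (iv7 F360665))
theorem F363428 : act 1 n146315 = n139087 := d15_1 F334986 F363427 (iv2 F363421)
theorem F363429 : act 2 n139110 = n118872 := d15_3 F363419 (iv0 D139107) D139110
theorem F363430 : act 6 n118728 = n139110 := d3_0 F363429 (iv6 D118872) (iv2 F186757)
theorem F363431 : act 7 n118872 = n139068 := d4_2 D139110 F363429 F222249
theorem F363432 : act 4 n114885 = n139109 := d16_6 F186935 (iv5 F183672) F332527 (iv5 D146415) (iv4 F317597) (iv5 F178962) (iv5 D139109) D139110 F363429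
theorem F363433 : act 1 n139110 = n102010 := d15_0 (iv0 F341572) (iv7 F363431) (iv2 F363429)
theorem F363434 : act 7 n139109 = n114884 := d11_2 D114885 F363432 (iv4 D114884)
theorem F363435 : act 5 n114884 = n139110 := d13_1 F363434 (iv7 D139110) D139109
theorem F363436 : act 7 n146614 = n114870 := d16_8 D114884 F363435 F222294 F316917 F319486 (iv5 D68711) D68710 D146614 F178949
theorem F363437 : act 2 n114885 = n146614 := d4_3 F363436 F178949 D114885
theorem F363438 : act 1 n114883 = n146614 := d15_1 D114883 F363436 F178949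
theorem F363439 : act 1 n146614 = n114882 := d15_0 (iv0 D114882) D114885 F363437
theorem F363440 : act 1 n139108 = n118872 := d15_1 D139108 F363431 F222249
theorem F363441 : act 4 n179559 = n139108 := d18_5 F319250 (iv4 F353428) (iv1 D117416) (iv4 F183902) F338208 F363440 F186935 (iv0 F316928) D139125
theorem F363442 : act 7 n139108 = n102010 := d11_2 (iv7 F279614) F363441 (iv4 F334898)
theorem F363443 : act 3 n139108 = n102016 := d20_3 (iv4 F359427) (iv1 F279613) F363441 (iv1 F359431) F218569 F99376 F161296 D74499 (iv3 F320467) (iv1 F359430)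
theorem F363444 : act 3 n101386 = n139107 := d7_3 F363418 (iv3 F334875) D101386
theorem F363445 : act 3 n96459 = n105329 := d6_3 F340840 (iv3 F329562) (iv5 F293587)
theorem E102952 : n141218 = n105328 := ((c9_8 F340840 (iv4 F321273) F317215 (iv4 D48911) F77016 D31564 D67895 (iv4 F161519) (iv5 D141218) (iv4 F340833) (iv5 D105796) (iv4 D48914) F50935 D31569 D67897 F162400)).symm
theorem F363446 : act 5 n105328 = n66238 := (sb E102952 (iv5 D141218))
theorem F363447 : act 6 n89040 = n105329 := d12_0 F340840 (iv6 F321274) F328908 F293584 (iv5 F293583)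
theorem F363448 : act 0 n156474 = n105814 := d21_10 (iv5 F229804) F229805 F340840 (iv6 F321274) (iv1 F107617) F317010 (iv5 F337119) F337115 F221789 D156474
theorem F363449 : act 4 n156474 = n105766 := d17_9 F321482 (iv5 D148025) F317203 (iv5 F317215) F321273 (iv5 F340840) (iv0 F229805) F229804 (iv0 F363448)
theorem F363450 : act 2 n124942 = n156474 := d1_3 F363449 F321483 (iv4 F200674)
theorem F363451 : act 5 n105751 = n156474 := d16_1 D105751 F363449 (iv5 D105766) (iv4 D48904) (iv5 D23846) D23845 D48902 (iv7 F114801) (iv2 F114803)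
theorem F363452 : act 0 n105331 = n156474 := d18_2 D146646 F229943 F363449 (iv5 D105766) (iv4 D48904) F50328 F321270 (iv0 F321260) D68721
theorem F363453 : act 5 n124942 = n141220 := d2_2 F363451 (iv2 F363450) F324056
theorem F363454 : act 4 n144854 = n89040 := d10_3 F363447 (iv4 F162400) D144854
theorem F363455 : act 7 n183494 = n144854 := d11_0 F363454 (iv7 F136716) D183494
theorem E102953 : n129542 = n129218 := (c21_5 D61010 (iv1 F208670) (iv5 D60862) D60863 D129542 (iv6 F209072) F306850 F340789 F320713 (iv6 D62206) (iv1 F47188))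
theorem F363456 : act 0 n129218 = n132311 := (sb E102953 (iv1 F212130))
theorem F363457 : act 1 n129218 = n60863 := (sb E102953 (iv0 D129542))
theorem F363458 : act 2 n130746 = n129543 := d15_3 F212129 (iv0 F363456) (iv7 F209309)
theorem F363459 : act 3 n129543 = n132455 := d0_2 D130746 F363458 (iv2 F358028) (iv3 D129220) F95831
theorem F363460 : act 6 n129543 = n132455 := d3_2 (iv6 F209308) F363458 (iv2 F358028)
theorem E102954 : n179909 = n144429 := ((c18_3 (iv1 D67701) (iv4 F103716) D144429 F340753 (iv5 D169822) (iv4 F188252) F311006 F104238 D68101 F317344)).symm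
theorem F363461 : act 4 n144429 = n169822 := (sb E102954 F340753)
theorem F363462 : act 6 n144429 = n85967 := (sb E102954 (iv6 D179909))
theorem F363463 : act 0 n124932 = n157284 := d20_4 (iv4 F103716) D144429 F363461 (iv3 F340752) (iv3 D157284) D157285 F341154 (iv4 F341153) (iv3 D144470) (iv1 D67701)
theorem F363464 : act 6 n157284 = n146349 := d21_5 F54559 (iv1 F303863) (iv5 F305703) D124932 F363463 (iv5 D146349) (iv1 F183691) F232250 (iv6 D85367) (iv1 F200371)
theorem F363465 : act 2 n148599 = n157284 := d3_3 F363464 F327714 D148599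
theorem E102955 : n146349 = n144496 := (c7_1 F363464 F227339 F323786 D157284)
theorem F363466 : act 0 n144496 = n146619 := (sb E102955 F229907)
theorem F363467 : act 1 n144496 = n105437 := (sb E102955 F333261)
theorem F363468 : act 2 n144496 = n69641 := (sb E102955 F327714)
theorem F363469 : act 5 n144496 = n68624 := (sb E102955 (iv5 D146349))
theorem F363470 : act 6 n144496 = n157284 := (sb E102955 (iv6 F363464))
theorem F363471 : act 7 n117043 = n157284 := d14_0 (iv6 F363470) (iv7 D144496) (iv6 D67720) F183022 D117043
theorem F363472 : act 0 n157284 = n139768 := d21_10 F361511 (iv1 D131182) F96076 (iv6 D33989) F50500 (iv6 F104826) (iv5 D68626) D68624 (iv5 F363469) F363470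
theorem F363473 : act 3 n139977 = n177048 := d20_5 F361510 (iv1 D139986) F101435 (iv3 F101433) D139977 (iv4 F361613) (iv1 F341158) (iv4 D157285) D157284 F363472
theorem F363474 : act 2 n144467 = n139977 := d0_5 F363473 F357103 (iv3 F357104) (iv2 F315133) D144467
theorem F363475 : act 5 n177046 = n139977 := d6_0 F363473 (iv5 D177048) D177046
theorem F363476 : act 6 n156512 = n139977 := d7_0 F363473 F344472 F246091
theorem F363477 : act 7 n139978 = n144467 := d15_2 (iv0 D139977) D139978 F363474
theorem F363478 : act 3 n118241 = n139978 := d8_3 F363477 (iv3 D144467) (iv7 F317343)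
theorem F363479 : act 6 n118239 = n139978 := d14_5 F363477 F316714 (iv7 F201211) F239956 (iv7 F239957)
theorem F363480 : act 4 n157284 = n139505 := d11_1 F363471 (iv7 D139505) (iv4 F182984)
theorem F363481 : act 0 n139505 = n144481 := d18_2 F363463 F363480 (iv4 D144481) (iv5 F312216) D145288 (iv0 F331875) (iv4 F331874) F331873 (iv5 F307714)
theorem F363482 : act 0 n156476 = n139505 := d20_7 (iv4 F340807) (iv1 D144175) F103435 F101713 (iv1 F322903) (iv3 F311026) (iv4 F246004) (iv4 F363480) (iv3 D157284) F322109
theorem F363483 : act 1 n156476 = n115948 := d15_1 (iv0 F363482) (iv7 F341122) (iv2 F341123)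
theorem F363484 : act 1 n115948 = n144481 := d15_1 F363483 F227312 (iv2 F246003)
theorem F363485 : act 7 n154725 = n143055 := d11_2 F340744 (iv4 F242910) (iv4 D143055)
theorem F363486 : act 7 n169826 = n150038 := d14_2 F363485 F340749 (iv6 D150038) (iv7 F110079) D154725
theorem F363487 : act 0 n105693 = n143050 := d20_1 (iv4 F162309) (iv4 D143050) (iv3 F340740) F320111 F84661 F41059 (iv1 F37136) F47154 D53551 F320126
theorem F363488 : act 1 n105693 = n143055 := d15_1 (iv0 F363487) (iv7 F363485) (iv2 F340741)
theorem F363489 : act 0 n105688 = n141445 := d20_4 D143055 (iv1 F363488) F162309 (iv3 F162306) (iv3 D141445) D141446 (iv1 F350016) (iv4 F319489) F350012 (iv1 F225896)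
theorem F363490 : act 0 n127629 = n95763 := d21_1 D127629 (iv5 D95763) D95764 F340730 (iv6 D48041) D48040 (iv1 F159180) F334498 (iv6 F150031) F317840
theorem F363491 : act 1 n127629 = n95768 := d15_1 (iv0 F363490) F340385 (iv2 F340383)
theorem F363492 : act 3 n125658 = n96268 := d20_5 (iv4 F39669) (iv1 F39675) D27977 D58841 D125658 (iv4 D96268) F340721 F81322 (iv3 D50416) (iv1 F39430)
theorem F363493 : act 6 n96287 = n125658 := d7_0 F363492 F148061 D96287
theorem F363494 : act 5 n131303 = n148459 := d2_2 F340669 (iv2 F215215) F307834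
theorem F363495 : act 0 n170546 = n144997 := d21_7 (iv5 F215190) F215191 F363494 (iv6 F335188) (iv1 F349008) F349012 D170546 F319879 (iv6 F337877) (iv1 F312193)
theorem E102956 : n170544 = n147989 := ((c21_10 D170546 F363495 F319879 (iv6 F337877) (iv1 F312193) (iv6 F226046) (iv5 F355205) (iv1 F355814) (iv5 D147988) D147989 (iv1 D170544))).symm
theorem F363496 : act 0 n147989 = n81747 := (sb E102956 (iv1 D170544))
theorem F363497 : act 7 n164226 = n152450 := d15_2 F340667 F258853 (iv2 F334820)
theorem F363498 : act 2 n106538 = n164226 := d4_3 F363497 (iv2 F334820) F164564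
theorem E102957 : n121782 = n109366 := ((c20_10 F340619 (iv1 D55905) (iv4 F88440) (iv3 D55898) F327202 F79826 F38602 D24592 D50463 D109366 (iv1 F340618))).symm
theorem F363499 : act 0 n109366 = n103683 := (sb E102957 (iv1 F340618))
theorem F363500 : act 1 n109366 = n121158 := (sb E102957 F194362)
theorem F363501 : act 2 n109366 = n163325 := (sb E102957 F258253)
theorem F363502 : act 4 n109366 = n56266 := (sb E102957 (iv4 D121782))
theorem F363503 : act 7 n109366 = n163324 := (sb E102957 F258252)
theorem F363504 : act 3 n163324 = n109265 := d8_1 F363503 F169242 D109366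
theorem F363505 : act 4 n121783 = n111863 := d10_3 F173717 F363502 D121783
theorem F363506 : act 0 n111863 = n130326 := d20_7 (iv4 D36450) (iv1 F56498) D78695 F326087 F327232 (iv3 F194363) F363505 (iv4 D130326) (iv3 F334290) (iv1 D80039)
theorem F363507 : act 3 n130326 = n92174 := d20_5 F39315 D25053 D51580 D111863 F363506 (iv4 F248858) (iv1 F280844) (iv4 F327411) (iv3 D111854) (iv1 D51575)
theorem F363508 : act 5 n176897 = n130326 := d6_0 F363507 F250808 D176897
theorem F363509 : act 7 n146022 = n130326 := d8_0 F363507 (iv7 F257974) (iv3 F334280)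
theorem F363510 : act 0 n95534 = n176897 := d17_2 F359855 F160339 F363508 (iv4 D130326) (iv5 D61158) D61157 (iv5 F333902) F122326 (iv4 F359859)
theorem F363511 : act 3 n109251 = n185465 := d7_1 F340613 (iv6 D185465) D185464
theorem E102958 : n185457 = n111786 := ((c14_3 (iv7 F340609) F340613 (iv7 F173498) (iv6 D185457) (iv7 F148076) F340580)).symm
theorem F363512 : act 3 n111786 = n88350 := (sb E102958 F287717)
theorem F363513 : act 6 n111786 = n88345 := (sb E102958 (iv6 D185457))
theorem E102959 : n185468 = n185465 := (c8_3 (iv7 F173498) F363512 D185468 (iv3 F363511))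
theorem F363514 : act 7 n185465 = n88350 := (sb E102959 (iv7 D185468))
theorem F363515 : act 4 n185466 = n104782 := d20_0 (iv1 D104782) F340341 (iv3 F160635) F361257 F173482 F81318 D51542 D111786 F363512 D185466
theorem F363516 : act 0 n104848 = n185465 := d20_1 D104848 F287730 (iv3 F363512) F173499 (iv3 F174573) (iv4 F175009) (iv1 F345390) (iv4 F352025) F160693 (iv1 F340333)
theorem F363517 : act 4 n96076 = n114556 := d18_5 (iv1 F340333) D104848 F363516 F287730 (iv5 F147687) (iv0 F178633) F340321 (iv0 F340336) (iv5 D104839)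
theorem F363518 : act 6 n114556 = n96075 := d10_2 D96076 F363517 (iv4 D96075)
theorem F363519 : act 0 n106712 = n96076 := d18_2 F163358 D106712 F363517 (iv5 D114556) (iv4 F144560) F144563 F83553 F82472 D106292
theorem F363520 : act 1 n106718 = n96076 := d18_6 F164405 (iv4 F164462) (iv1 F164465) (iv4 D49315) D49316 D106718 F363517 (iv0 F178633) (iv5 D110746)
theorem F363521 : act 5 n185466 = n106293 := d17_3 F363519 F147687 D185466 (iv4 D106293) (iv5 D49126) (iv0 F54247) D52164 (iv0 F82478) D106712
theorem F363522 : act 2 n104848 = n185466 := d2_3 F363521 (iv2 F164506) (iv5 F356902)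
theorem F363523 : act 6 n185466 = n109690 := d3_2 (iv6 F358432) F363522 F358438
theorem F363524 : act 7 n185467 = n104848 := d15_2 (iv0 D185466) D185467 F363522
theorem F363525 : act 4 n104781 = n185467 := d11_3 F363524 (iv4 D104848) (iv7 F356901)
theorem F363526 : act 2 n185467 = n104843 := d16_9 (iv4 D104843) D104844 F340324 (iv5 D52879) (iv4 F77560) (iv5 F77977) D106724 (iv5 F356902) (iv7 F363524)
theorem F363527 : act 7 n104843 = n185466 := d4_2 (iv7 F363524) F363526 (iv2 F363522)
theorem F363528 : act 1 n104843 = n185465 := d15_0 (iv0 F363516) (iv7 F363524) F363526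
theorem F363529 : act 1 n96280 = n104843 := d15_0 F363528 F363514 (iv2 F148100)
theorem F363530 : act 5 n106726 = n104843 := d13_3 F363527 F363521 (iv7 F164509)
theorem F363531 : act 6 n95983 = n92316 := d14_3 (iv7 F178632) F363518 F147683 (iv7 F293655) (iv6 F144696)
theorem F363532 : act 6 n144013 = n93991 := d21_3 (iv5 D142843) (iv1 F181570) (iv5 F226688) (iv1 F147686) (iv6 F363518) (iv5 D114556) (iv1 D52878) D52879 (iv6 F178629) F318200
theorem F363533 : act 6 n93795 = n96078 := d21_3 (iv5 D94133) (iv1 F69262) (iv5 F144571) F147691 (iv6 F363532) F226688 F181537 (iv5 F333383) (iv6 D98042) (iv1 F295140)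
theorem F363534 : act 3 n96078 = n93816 := d7_1 F363533 (iv6 D93816) (iv3 F144570)
theorem F363535 : act 4 n96079 = n93795 := d10_3 F363533 (iv4 D96078) D96079
theorem F363536 : act 0 n176932 = n96022 := d21_4 F294552 (iv1 D88615) (iv5 F129395) D176932 (iv6 D96022) F70380 (iv1 F147618) (iv5 F147689) (iv6 F363533) (iv1 F145093)
theorem F363537 : act 7 n93794 = n96079 := d11_0 F363535 (iv7 D93795) D93794
theorem F363538 : act 3 n92318 = n95983 := d0_4 F363534 F144621 F294561 (iv2 F141960) (iv2 F147688)
theorem F363539 : act 6 n143659 = n98038 := d21_9 (iv5 D93785) F293966 D92316 (iv6 F363531) (iv1 D95983) D95985 F306969 D116413 (iv5 F226339) (iv1 F344302)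
theorem F363540 : act 3 n102967 = n143659 := d7_3 F363539 F151164 D102967
theorem F363541 : act 5 n93849 = n102967 := d6_0 F363540 F226339 F353835
theorem F363542 : act 0 n102967 = n93879 := d21_7 F76733 (iv1 F37421) D34859 F55126 D43868 D93849 F363541 F144715 (iv6 D48733) D48731
theorem F363543 : act 1 n185464 = n109905 := d15_0 (iv0 F246408) F246407 F340610
theorem E102960 : n185455 = n112258 := (c15_1 D185455 F326023 (iv7 F325081) F340576)
theorem F363544 : act 0 n112258 = n88345 := (sb E102960 (iv1 D185455))
theorem F363545 : act 4 n185117 = n139653 := d20_6 (iv4 F135151) (iv1 F135152) (iv4 D41178) (iv3 F62380) D88230 D185117 (iv1 F245350) F340574 F134641 D87721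
theorem F363546 : act 5 n185485 = n138729 := d6_2 F340573 D185485 (iv3 D138729)
theorem F363547 : act 5 n185487 = n142329 := d12_3 (iv6 F100912) F340573 D185487 (iv6 D142329) (iv5 D66739)
theorem E102961 : n185262 = n139643 := (c5_5 D139656 F340569 F133590 D88275 D185262 F222814)
theorem F363548 : act 4 n139643 = n88275 := (sb E102961 (iv4 D185262))
theorem F363549 : act 4 n102510 = n103352 := d10_3 F340547 F326378 D102510
theorem F363550 : act 2 n96153 = n184400 := d3_3 F340540 F289547 (iv6 F147823)
theorem F363551 : act 1 n184400 = n172221 := d15_0 (iv0 F361763) F152093 F363550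
theorem E102962 : n142699 = n103839 := ((c3_3 F340512 F147701 D103839 F225594)).symm
theorem F363552 : act 0 n103839 = n116857 := (sb E102962 F225596)
theorem F363553 : act 1 n103839 = n112667 := (sb E102962 F225597)
theorem F363554 : act 2 n103839 = n127205 := (sb E102962 F225594)
theorem F363555 : act 3 n103839 = n107427 := (sb E102962 F225595)
theorem F363556 : act 5 n103839 = n66897 := (sb E102962 (iv5 D142699))
theorem F363557 : act 7 n103839 = n145295 := (sb E102962 (iv7 F228323))
theorem F363558 : act 6 n153519 = n140429 := d7_2 F340512 F335345 F223612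
theorem F363559 : act 4 n140431 = n153519 := d10_3 F363558 (iv4 D140429) D140431
theorem F363560 : act 0 n139593 = n140431 := d18_0 F363559 (iv1 D153519) (iv4 F109176) (iv5 F143191) F143190 (iv0 F138894) D115044 F179161 (iv5 F349169)
theorem F363561 : act 5 n140431 = n159348 := d19_1 F363560 (iv4 D159348) (iv3 D76225) (iv1 F55027) (iv5 D25534) F20065 F8856 (iv1 F3951) D3464 D7639 (iv3 F26626) F12688 (iv5 F316028) F11233 (iv3 F11217) D14550 D30704 D65511 D139593
theorem F363562 : act 0 n103879 = n142746 := d21_4 D48072 (iv1 F294326) F294327 D103879 (iv6 D142746) (iv5 D66918) (iv1 F102752) (iv5 F363556) (iv6 D103839) (iv1 D48070)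
theorem F363563 : act 4 n142746 = n103794 := d18_1 F363562 F295616 F82341 D110936 (iv4 F343551) (iv0 F343554) F176708 (iv0 F358877) F352255
theorem F363564 : act 6 n103794 = n111004 := d10_2 D142746 F363563 (iv4 F172091)
theorem F363565 : act 3 n111768 = n142746 := d20_5 F37813 (iv1 F26101) (iv4 F45128) D58751 (iv1 F330478) F363563 F295616 F82341 (iv3 D51152) F39029
theorem F363566 : act 6 n106423 = n111768 := d7_0 F363565 (iv6 D142746) F172092
theorem F363567 : act 2 n111768 = n106973 := d3_1 F363566 F351319 F172112
theorem F363568 : act 7 n111768 = n106972 := d14_2 (iv7 F172111) F363566 (iv6 F345413) (iv7 F345404) (iv6 D107191)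
theorem F363569 : act 5 n111758 = n112675 := d21_8 (iv5 F77650) F102876 (iv5 F172093) F363566 (iv1 D111768) (iv6 F173443) (iv5 D111760) D111758 (iv6 D112675) (iv1 D52001)
theorem F363570 : act 6 n106944 = n112678 := d21_3 (iv5 D51527) D51525 (iv5 F332218) (iv1 D112678) (iv6 D52003) (iv5 F77650) F102876 (iv5 F172093) F363566 (iv1 D111768)
theorem F363571 : act 2 n106972 = n111767 := d15_3 (iv0 D111767) D111768 F363568
theorem F363572 : act 7 n106973 = n111767 := d4_2 (iv7 F363568) F363567 (iv2 F363571)
theorem F363573 : act 6 n111767 = n159185 := d14_1 F363572 F345407 F345397 F172123 (iv6 F351319)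
theorem F363574 : act 2 n110998 = n103794 := d3_3 F363564 F172116 F359497
theorem F363575 : act 7 n103795 = n110998 := d15_2 (iv0 D103794) D103795 F363574
theorem F363576 : act 7 n110999 = n103794 := d15_2 (iv0 D110998) D110999 (iv2 F363574)
theorem F363577 : act 2 n103795 = n110999 := d4_3 F363576 (iv2 F363574) (iv7 F363575)
theorem F363578 : act 6 n107427 = n103837 := d7_2 D103839 F363555 (iv3 D103837)
theorem F363579 : act 2 n103837 = n145294 := d3_1 F363578 (iv6 D145294) (iv2 F220818)
theorem F363580 : act 5 n111017 = n96082 := d17_5 (iv1 D51166) F39036 D31175 (iv5 F166921) D111017 (iv0 D96082) D96084 F340460 (iv4 D110974)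
theorem F363581 : act 4 n96082 = n142849 := d9_1 F363580 F225743 (iv4 F103179) F105774 F49517 (iv5 F166927) D111020 F340514 F340516 F225742 F321034 (iv5 F321035) F94104 (iv5 F166921) D111017
theorem F363582 : act 6 n112947 = n96064 := d3_2 D96069 F340452 F147676
theorem E102963 : n99036 = n99008 := (c17_7 F293480 D94442 F340448 (iv5 D88620) (iv4 F67949) (iv5 F292416) D99036 (iv5 D99008) (iv0 F293935) F136082)
theorem F363583 : act 0 n99008 = n46329 := (sb E102963 (iv1 D99036))
theorem F363584 : act 1 n97272 = n131817 := d15_0 F340415 F340418 (iv2 F340420)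
theorem F363585 : act 0 n147800 = n97176 := d21_7 (iv5 F340407) (iv1 F148725) F71708 F34143 (iv1 F70144) (iv6 F313190) D147800 (iv5 D97176) (iv6 F319356) (iv1 F229594)
theorem F363586 : act 0 n95523 = n146024 := d21_1 D95523 (iv5 D146024) (iv6 D68458) D68456 D146021 (iv5 F340407) (iv1 F148725) F71708 F34143 (iv1 F70144)
theorem F363587 : act 1 n95518 = n146024 := d15_0 (iv0 F363586) F317853 (iv2 F317862)
theorem F363588 : act 3 n111785 = n97299 := d6_3 F340402 F173482 D111785
theorem E102964 : n132114 = n97299 := (c17_1 D132114 F340402 F340306 (iv5 F291969) F138250 (iv5 F340304) F211207 (iv5 F211212) (iv0 D61983) D61985)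
theorem F363589 : act 1 n97299 = n61985 := (sb E102964 (iv0 D132114))
theorem F363590 : act 5 n104824 = n132117 := d21_8 F340402 F340306 (iv5 F291969) (iv6 D89997) (iv1 F291943) D45470 (iv5 F76227) D104824 (iv6 D132117) (iv1 F363589)
theorem F363591 : act 6 n97296 = n111785 := d7_0 F363588 (iv6 D97299) D97296
theorem F363592 : act 6 n89915 = n95810 := d7_0 F340384 (iv6 D89917) D89915
theorem F363593 : act 6 n104710 = n104354 := d14_1 F340374 (iv7 D104354) (iv6 D48291) F290790 D97143
theorem F363594 : act 3 n104354 = n104711 := d7_1 F363593 (iv6 D104711) D104710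
theorem F363595 : act 5 n104711 = n185705 := d6_2 (iv5 F159971) F363594 F287997
theorem F363596 : act 6 n185705 = n104854 := d12_2 D104711 F363595 F160702 F76238 (iv5 F340351)
theorem F363597 : act 3 n104854 = n90060 := d7_1 F363596 F138388 (iv3 F287997)
theorem F363598 : act 0 n95937 = n185705 := d21_4 F147147 (iv1 F70149) D44779 D95937 F363596 F160702 (iv1 F160519) (iv5 F160520) (iv6 D95946) (iv1 F147150)
theorem F363599 : act 6 n104672 = n97182 := d7_2 F340373 (iv3 F160366) (iv3 D97182)
theorem F363600 : act 7 n104836 = n95775 := d14_4 (iv7 F71657) F340373 (iv7 F76234) D104836 (iv6 D95775)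
theorem F363601 : act 1 n104713 = n104836 := d15_1 D104713 F363600 F147460
theorem F363602 : act 1 n104836 = n104712 := d15_0 (iv0 D104712) (iv7 F340369) (iv2 F160694)
theorem F363603 : act 1 n104839 = n104851 := d15_0 (iv0 D104851) D104854 (iv2 F340337)
theorem F363604 : act 4 n104851 = n130612 := d18_7 (iv1 D52878) (iv4 F77560) F77561 F39967 D52118 (iv4 F340339) F363603 F209191 (iv5 D114556)
theorem F363605 : act 0 n95527 = n106727 := d21_4 F147227 (iv1 F147177) F70387 (iv6 F147145) (iv6 D106727) (iv5 F77980) F77897 (iv5 F340330) F160701 (iv1 F147229)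
theorem F363606 : act 1 n95956 = n106727 := d15_0 (iv0 F363605) (iv7 F356672) (iv2 F356673)
theorem E102965 : n132108 = n97305 := ((c21_5 (iv5 F294073) F63577 F294092 (iv6 F71706) D97305 (iv6 D132108) F211212 (iv1 F211207) F340304 (iv6 D78613) (iv1 F293073))).symm
theorem F363607 : act 6 n97305 = n61983 := (sb E102965 (iv6 D132108))
theorem F363608 : act 6 n106750 = n163474 := d3_2 F363607 (iv2 F216664) (iv2 F361096)
theorem F363609 : act 6 n132107 = n127493 := d10_2 F363607 D132107 F361093
theorem F363610 : act 5 n127490 = n132107 := d12_5 F363609 (iv5 D127493) (iv6 D59880) D59879 D127490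
theorem F363611 : act 0 n127490 = n96391 := d21_7 (iv5 D21733) (iv1 F62911) D45327 (iv6 F148032) F361097 (iv6 F363609) (iv5 F363610) (iv5 F150176) (iv6 D97432) (iv1 F71749)
theorem F363612 : act 0 n158063 = n132107 := d21_10 (iv5 F363610) F363611 (iv5 F150176) (iv6 D97432) (iv1 F71749) D45523 F358097 (iv1 D75287) D75289 D158063
theorem F363613 : act 4 n160241 = n176045 := d19_14 F363612 (iv5 F363610) F204925 (iv3 F231449) F348430 (iv5 D176441) (iv4 F311076) (iv3 D130071) F308918 D83941 (iv4 F318696) (iv3 F230933) (iv1 F233908) (iv5 F253055) F275337 (iv1 F326573) F293283 (iv4 F112891) (iv3 F249008)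
theorem F363614 : act 0 n176045 = n147296 := d18_2 (iv1 F253058) F363613 (iv4 D147296) (iv5 F307871) F355162 (iv0 F355158) F350201 (iv0 F355138) (iv5 D166282)
theorem F363615 : act 1 n176045 = n120105 := d18_6 (iv1 F190198) D68910 D147001 (iv4 F233905) (iv5 F253055) F363613 F315728 (iv0 F315737) (iv5 D32122)
theorem E102966 : n132945 = n90058 := (c18_6 (iv1 D29352) F23242 D14022 D29504 D62385 D132945 (iv0 D90058) (iv4 F138387) F340292 (iv5 D61978))
theorem F363616 : act 4 n90058 = n62385 := (sb E102966 (iv4 D132945))
theorem F363617 : act 6 n131232 = n128169 := d14_5 F340216 (iv6 D77462) (iv7 F88151) D120813 F305919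
theorem F363618 : act 6 n173494 = n98464 := d14_5 F340212 (iv6 D153946) (iv7 F128225) D173906 F315798
theorem F363619 : act 6 n153950 = n130149 := d7_2 F363618 F340211 F337625
theorem E102967 : n154563 = n124072 := ((c3_2 F363619 (iv2 F314446) (iv6 D154563) (iv2 F324406))).symm
theorem F363620 : act 6 n124072 = n73265 := (sb E102967 (iv6 D154563))
theorem E102968 : n153950 = n153895 := ((c10_4 F363619 (iv4 D130149) D130150 F337525)).symm
theorem F363621 : act 2 n153895 = n73265 := (sb E102968 F324406)
theorem F363622 : act 3 n153895 = n98464 := (sb E102968 (iv3 F340211))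
theorem F363623 : act 6 n153895 = n130149 := (sb E102968 F363619)
theorem F363624 : act 7 n153895 = n72858 := (sb E102968 (iv7 D153950))
theorem F363625 : act 4 n136918 = n102676 := d16_4 F303663 (iv5 F337532) F220100 D136918 (iv5 D102676) (iv4 F157919) F291517 (iv7 F363624) F363621
theorem F363626 : act 2 n165633 = n167771 := d15_3 F340181 F305505 (iv7 F340179)
theorem F363627 : act 3 n176479 = n165633 := d0_0 F363626 (iv3 D167771) (iv2 F301509) (iv3 F129195) (iv2 F275780)
theorem F363628 : act 0 n142084 = n147295 := d20_1 (iv4 F225111) (iv4 D147295) F190207 F318659 (iv3 F340112) F101293 (iv1 F50334) (iv4 F107360) D141589 F330059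
theorem E102969 : n139837 = n117203 := (c20_5 F107426 (iv1 D31859) (iv4 F49212) (iv3 F101376) D139837 F331670 (iv4 D134669) D134667 F334167 (iv3 F340112) (iv1 F102712))
theorem F363629 : act 0 n117203 = n68594 := (sb E102969 F323396)
theorem F363630 : act 1 n117203 = n65642 := (sb E102969 (iv0 D139837))
theorem F363631 : act 6 n149203 = n127714 := d21_3 D146279 F317835 F311523 (iv1 F205321) F315171 F106414 D149025 F234303 F183359 F363629
theorem E102970 : n127718 = n127714 := ((c3_1 F363631 (iv2 D127718) (iv6 F320012) (iv2 F234579))).symm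
theorem F363632 : act 2 n127714 = n59962 := (sb E102970 (iv2 D127718))
theorem F363633 : act 7 n127714 = n59963 := (sb E102970 (iv7 F205324))
theorem F363634 : act 1 n142084 = n116416 := d15_1 (iv0 F363628) F318651 (iv2 F230915)
theorem F363635 : act 6 n141481 = n134180 := d7_0 F340099 (iv6 D141483) D141481
theorem E102971 : n143146 = n134304 := (c15_1 D143146 F340097 (iv7 F216079) F333154)
theorem F363636 : act 0 n134304 = n67080 := (sb E102971 (iv1 D143146))
theorem F363637 : act 4 n143147 = n146478 := d17_4 D63098 D134304 F363636 D143147 F335882 F218136 F218111 (iv0 D63842) F48414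
theorem F363638 : act 2 n126542 = n146478 := d16_9 (iv4 F363637) (iv5 D143147) F103048 F316981 D117367 (iv5 F335173) (iv4 D135633) (iv5 F203311) (iv7 F203471)
theorem F363639 : act 3 n146478 = n105315 := d0_2 D126542 F363638 F333519 (iv3 F324332) (iv2 F93645)
theorem F363640 : act 2 n143147 = n110799 := d1_3 (iv4 F203469) F363638 (iv4 F363637)
theorem F363641 : act 3 n156450 = n143147 := d0_0 F363640 (iv3 D110799) F80570 D74399 D156450
theorem F363642 : act 7 n113757 = n146478 := d8_0 F363639 F333522 D113757
theorem F363643 : act 0 n146479 = n135752 := d20_1 D146479 (iv4 D135752) F99228 (iv1 F95928) (iv3 F324646) (iv4 F325755) (iv1 F163806) (iv4 F333520) (iv3 F363639) (iv1 D146478)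
theorem F363644 : act 2 n126464 = n113757 := d4_3 F363642 (iv2 F363638) F203471
theorem F363645 : act 5 n135632 = n113757 := d13_3 F363642 F335882 F218135
theorem F363646 : act 0 n113757 = n146480 := d17_2 (iv1 F218114) F363645 F229801 (iv4 F339427) F339428 F323485 (iv5 F317535) F179337 F218078
theorem F363647 : act 1 n113757 = n117411 := d17_6 (iv1 F359577) F359578 (iv1 F339432) F338626 (iv4 F218116) F363645 F183895 (iv0 F339424) F333172
theorem F363648 : act 1 n126542 = n146480 := d15_0 (iv0 F363646) F363642 (iv2 F363638)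
theorem F363649 : act 4 n152274 = n147443 := d5_2 (iv4 F308953) F340079 F231229 F310860 (iv3 F310453)
theorem F363650 : act 2 n147443 = n152493 := d1_1 F363649 F239674 F239333
theorem F363651 : act 4 n159606 = n173537 := d20_2 (iv4 F363649) (iv1 F251415) F271973 D173679 F347638 (iv4 F308865) F183299 (iv4 F233423) F324822 F338181
theorem F363652 : act 3 n184508 = n90621 := d20_3 D93015 F340064 D184508 (iv1 D90621) F65531 D42434 D90635 F291191 (iv3 F291190) (iv1 D93014)
theorem F363653 : act 6 n99376 = n152496 := d10_2 F143454 F340054 (iv4 D152496)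
theorem F363654 : act 3 n152496 = n99046 := d7_1 F363653 F152573 (iv3 F153039)
theorem F363655 : act 5 n152496 = n99040 := d12_1 F363653 (iv6 D99040) F292416 (iv6 F292417) D99376
theorem F363656 : act 3 n157720 = n106907 := d8_3 F228370 F340034 (iv7 F248566)
theorem F363657 : act 0 n118761 = n118748 := d19_16 D34412 D75147 D157720 F363656 (iv1 F223623) (iv5 D140436) (iv4 F165047) F165046 (iv1 F180533) (iv5 D49594) D49593 D107351 (iv1 F165411) (iv5 F223722) F345318 F351272 (iv5 D118748) F86484 F42287
theorem F363658 : act 1 n118761 = n152057 := d15_1 (iv0 F363657) (iv7 D152057) (iv2 F311485)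
theorem E102972 : n137688 = n114330 := (c6_3 D114331 F340003 D137688 (iv3 D114330))
theorem F363659 : act 0 n114330 = n134743 := (sb E102972 F220861)
theorem F363660 : act 5 n114330 = n64723 := (sb E102972 (iv5 D137688))
theorem F363661 : act 6 n127984 = n114365 := d21_3 (iv5 D72732) (iv1 F94690) D127984 (iv1 D114365) (iv6 F178304) F363660 (iv1 D64723) D64724 D137692 F350046
theorem F363662 : act 4 n114365 = n154777 := d10_1 F363661 (iv6 D154777) (iv4 F205966)
theorem F363663 : act 3 n127790 = n106917 := d6_1 F339976 F225650 D140428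
theorem F363664 : act 0 n114361 = n157166 := d21_4 (iv5 F164448) F164450 F83394 D114361 F247338 (iv5 D74726) D74724 (iv5 F165375) F339963 (iv1 F107777)
theorem F363665 : act 5 n107101 = n100567 := d6_0 F339961 (iv5 D107102) D107101
theorem E102973 : n151249 = n144327 := ((c21_8 (iv5 F161471) F161472 F83390 (iv6 F339958) F172028 D144305 F227013 D144327 (iv5 D151249) (iv6 D71283) (iv1 F82837))).symm
theorem F363666 : act 5 n144327 = n71283 := (sb E102973 (iv5 D151249))
theorem F363667 : act 5 n114386 = n111341 := d2_2 F363666 (iv2 F178413) F361208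
theorem F363668 : act 5 n151250 = n111336 := d13_3 (iv7 F361212) F363666 D151250
theorem F363669 : act 4 n108721 = n114387 := d18_1 F356724 (iv1 F178417) (iv4 F237974) F363668 (iv4 D111336) (iv0 D51350) F39168 D50177 D108675
theorem F363670 : act 2 n151253 = n108721 := d1_3 F363669 F237982 D151253
theorem F363671 : act 3 n114387 = n140440 := d5_1 F363669 (iv4 D140440) F101620 (iv4 F79557) (iv3 F168679)
theorem E102974 : n151258 = n109061 := (c11_4 F169065 F363669 F237983 D151258)
theorem F363672 : act 4 n109061 = n71285 := (sb E102974 (iv4 D151258))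
theorem F363673 : act 4 n151257 = n115732 := d5_2 F363672 D151257 F180059 F84195 D109061
theorem F363674 : act 7 n140440 = n151257 := d11_0 F363673 F180060 D140440
theorem F363675 : act 5 n133522 = n151257 := d16_1 (iv4 F214723) F363673 (iv5 D115732) F84191 (iv5 F78206) (iv4 F100084) (iv5 F204092) (iv7 F330913) (iv2 F214740)
theorem F363676 : act 3 n151259 = n133522 := d6_3 F363675 (iv3 D151257) D151259
theorem F363677 : act 3 n180507 = n151253 := d0_0 F363670 F168679 F79739 D109063 F351107
theorem F363678 : act 5 n108720 = n151253 := d2_0 F363670 (iv5 D108721) D108720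
theorem F363679 : act 1 n151253 = n114342 := d15_0 (iv0 F339986) F169065 (iv2 F363670)
theorem F363680 : act 4 n183984 = n144298 := d19_18 (iv1 F201848) F339955 (iv4 D90695) (iv3 D42458) (iv1 D20040) (iv5 D9446) F6182 F3076 D1821 D4304 F293301 (iv3 F14492) D19811 (iv5 F293108) D20647 D43651 F134740 D183984 (iv3 D144298)
theorem F363681 : act 1 n92964 = n110989 := d18_8 F205449 (iv4 F70601) (iv1 F205447) (iv4 F157726) D149659 (iv4 F335539) F202875 F339935 F339953
theorem F363682 : act 4 n99428 = n128377 := d19_18 F94879 D71245 (iv4 F339950) (iv3 D92916) (iv1 F142680) F142678 (iv4 D43561) (iv3 F68447) (iv1 F294648) (iv5 D22681) (iv4 F33733) F33732 (iv1 F62736) (iv5 F291264) (iv4 F17155) (iv3 F34770) D46488 D99428 (iv3 D128377)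
theorem F363683 : act 0 n92909 = n154776 := d20_4 F142677 (iv1 F68003) D43468 D92909 (iv3 D154776) (iv4 F205966) F205967 (iv4 F339950) (iv3 D92916) (iv1 F142680)
theorem F363684 : act 0 n140564 = n150851 := d21_7 D73379 (iv1 F339899) F339902 F322662 (iv1 F84234) D65968 D140564 (iv5 D150851) (iv6 D71119) (iv1 F79148)
theorem E102975 : n140795 = n140563 := (c17_10 (iv1 D140563) D140564 F363684 (iv5 D150851) F107639 (iv5 F104530) F339605 (iv5 D66064) D66063 D140795)
theorem F363685 : act 4 n140563 = n66063 := (sb E102975 (iv4 D140795))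
theorem F363686 : act 2 n144401 = n140563 := d1_3 F363685 F337759 D144401
theorem F363687 : act 2 n140113 = n101202 := d15_3 (iv0 D101202) D101203 (iv7 F339897)
theorem F363688 : act 3 n101202 = n137226 := d0_2 D140113 F363687 F344243 F349209 F323750
theorem F363689 : act 6 n137224 = n101202 := d7_0 F363688 (iv6 D137226) D137224
theorem F363690 : act 1 n139353 = n101202 := d15_0 (iv0 D101202) (iv7 F143953) F339893
theorem F363691 : act 7 n156167 = n115542 := d14_4 (iv7 F330526) F339878 F316106 D156167 (iv6 D115542)
theorem F363692 : act 6 n112133 = n151281 := d10_2 D151283 F339855 (iv4 D151281)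
theorem F363693 : act 3 n112133 = n166695 := d19_3 (iv1 F318319) F316908 F339855 F262371 (iv5 D162712) (iv4 D78189) (iv3 F118826) (iv1 F118839) F118840 (iv4 F296894) F309769 (iv1 F130754) F87520 F301348 F56074 D35375 F324094 (iv4 D53956) (iv3 F85081)
theorem F363694 : act 5 n152929 = n112124 := d13_1 F339842 (iv7 D112124) D112123
theorem F363695 : act 4 n166457 = n112124 := d16_6 (iv4 D85144) (iv5 D39370) (iv4 F60323) D85135 (iv4 F324252) D166457 (iv5 F363694) (iv7 F339842) F339840
theorem F363696 : act 2 n112124 = n166529 := d1_1 F363695 F262054 (iv2 F262011)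
theorem F363697 : act 0 n112124 = n166526 := d17_0 (iv5 F348114) (iv1 D119245) (iv5 F350700) F350699 (iv5 D166150) D166148 F346945 F262013 F363695
theorem F363698 : act 6 n155738 = n178713 := d21_9 F363694 F363697 (iv5 F348114) F189712 (iv1 D85280) D85283 (iv5 F347153) (iv1 F174562) (iv5 F361869) (iv1 F278551)
theorem F363699 : act 1 n166529 = n112121 := d15_0 (iv0 D112121) D112124 F363696
theorem F363700 : act 1 n112124 = n166525 := d15_0 (iv0 D166525) D166529 (iv2 F363696)
theorem F363701 : act 5 n166525 = n119244 := d17_7 (iv1 F113927) (iv5 F130165) F130162 F130478 D152929 F363694 F363700 (iv0 D119244) (iv4 D54882)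
theorem F363702 : act 3 n149057 = n166525 := d19_19 (iv1 F363700) (iv5 F363694) (iv4 D152929) F348315 (iv1 D67118) D67119 (iv4 F320360) F222943 F309338 (iv5 F309344) (iv4 F182255) (iv3 F237437) F183300 F308866 F85711 F41695 D32465 D69914 D149057
theorem F363703 : act 6 n152929 = n138965 := d21_3 (iv5 F363701) (iv1 F363700) (iv5 F363694) (iv1 F356607) (iv6 D155728) (iv5 F329976) (iv1 D96206) F329962 (iv6 F86817) D119244
theorem F363704 : act 2 n138965 = n148655 := d3_1 F363703 (iv6 F322198) F322197
theorem F363705 : act 7 n138965 = n151281 := d14_2 F339842 F363703 (iv6 F363692) (iv7 D112133) (iv6 F174333)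
theorem F363706 : act 0 n179092 = n138965 := d21_4 D85282 D178876 F278745 D179092 (iv6 F363703) F363694 F363697 (iv5 F348114) F189712 (iv1 D85280)
theorem F363707 : act 7 n166525 = n149198 := d8_2 (iv7 F234409) F363702 (iv3 D149198)
theorem F363708 : act 2 n149198 = n166526 := d15_3 (iv0 F363697) F363700 F363707
theorem E102976 : n149198 = n112122 := (c19_20 (iv1 D112122) D112123 F339841 D116506 F322293 F320544 (iv4 F306601) (iv3 D70939) F307320 (iv5 D67331) (iv4 F104775) (iv3 F237430) F248534 (iv5 F305137) F184946 F85714 (iv1 F51551) D32498 D70027 D149198)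
theorem F363709 : act 2 n112122 = n166526 := (sb E102976 F363708)
theorem F363710 : act 3 n112122 = n70027 := (sb E102976 (iv3 D149198))
theorem F363711 : act 7 n112122 = n166525 := (sb E102976 (iv7 F363707))
theorem F363712 : act 2 n166525 = n112121 := d15_3 (iv0 D112121) D112122 F363711
theorem F363713 : act 7 n166526 = n112121 := d4_2 (iv7 F363711) F363709 (iv2 F363712)
theorem F363714 : act 1 n112122 = n166529 := d15_0 F363699 (iv7 F363713) (iv2 F363709)
theorem F363715 : act 5 n95587 = n99780 := d2_0 F339830 (iv5 F339720) (iv2 F332540)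
theorem F363716 : act 6 n128532 = n99780 := d3_0 F339830 (iv6 D128534) D128532
theorem F363717 : act 0 n133362 = n110333 := d17_2 (iv1 F97606) D133362 F170570 F82433 F339808 (iv0 D69043) D69045 (iv0 F335866) F209088
theorem F363718 : act 0 n115176 = n146320 := d21_4 (iv5 F335877) (iv1 F339802) (iv5 D115175) D115176 (iv6 D146320) F104817 (iv1 F94188) D59814 (iv6 F324716) F325875
theorem F363719 : act 1 n114687 = n159791 := d15_0 (iv0 D159791) (iv7 F319719) F339760
theorem F363720 : act 5 n98314 = n100552 := d17_3 (iv1 D46000) D46001 D98314 F339758 (iv5 D114687) (iv0 D52933) D52935 (iv0 F290311) F114616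
theorem F363721 : act 7 n148812 = n166390 := d11_0 F339706 (iv7 F339703) (iv4 F233663)
theorem F363722 : act 7 n183432 = n124725 := d16_8 (iv4 D72884) (iv5 D33606) F25802 D16253 (iv4 F54212) (iv5 F77516) (iv4 F163285) (iv5 F339643) F199556
theorem F363723 : act 2 n154025 = n183432 := d4_3 F363722 F199556 D154025
theorem F363724 : act 1 n154022 = n183432 := d15_1 D154022 F363722 F199556
theorem F363725 : act 0 n123443 = n183423 := d20_4 (iv4 F329063) F329060 (iv4 D123444) D123443 F285142 D183432 (iv1 F363724) F242048 F191144 F125735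
theorem F363726 : act 4 n92785 = n123443 := d17_9 F363725 (iv5 D183423) F233187 F332662 F332661 (iv5 D92778) (iv0 D43405) D43407 D92785
theorem F363727 : act 1 n183432 = n154021 := d15_0 (iv0 D154021) D154025 F363723
theorem F363728 : act 3 n135845 = n159507 := d6_1 F339639 (iv5 D159507) (iv3 F320227)
theorem F363729 : act 3 n119722 = n113878 := d0_2 F339638 F190891 F328636 F179304 (iv2 F179440)
theorem F363730 : act 5 n135842 = n114550 := d17_7 (iv1 D58308) (iv5 D27771) F190379 D55079 D119722 F339637 F328628 (iv0 F199569) (iv4 D124729)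
theorem F363731 : act 2 n135845 = n135842 := d2_3 F363730 (iv2 F320226) F339639
theorem F363732 : act 7 n135846 = n135842 := d13_0 F363730 (iv7 F320233) F335843
theorem F363733 : act 2 n135846 = n135843 := d15_3 (iv0 F328627) F328628 (iv7 F363732)
theorem F363734 : act 5 n135843 = n114756 := d2_2 F335843 F363733 (iv2 F320232)
theorem F363735 : act 7 n135843 = n135845 := d4_2 (iv7 F363732) F363733 F363731
theorem F363736 : act 3 n113989 = n135843 := d8_3 F363735 F363728 (iv7 F251209)
theorem F363737 : act 5 n133442 = n176368 := d21_2 (iv5 F335834) (iv1 F214573) F335142 F206229 F206242 (iv5 F363734) (iv1 D135843) (iv5 F179421) (iv6 D115217) D115214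
theorem F363738 : act 6 n111280 = n106946 := d21_5 (iv5 F339609) (iv1 D108448) D108449 F336685 (iv1 F172625) (iv5 D106946) D106943 F332222 D111766 F203101
theorem F363739 : act 5 n108964 = n107147 := d21_0 (iv1 D107147) F331789 (iv6 F331794) F331790 F214870 F337412 F203101 (iv5 F339609) (iv6 F223745) (iv1 F223751)
theorem F363740 : act 2 n107147 = n140637 := d2_1 F363739 (iv5 F223736) F174476
theorem F363741 : act 7 n107147 = n140636 := d13_2 (iv7 F223454) F363739 F223733
theorem F363742 : act 1 n107147 = n138456 := d17_6 (iv1 F38528) (iv5 D24537) D24535 D50308 D108964 F363739 (iv5 D138456) F100840 F49328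
theorem E102977 : n150854 = n147904 := (c18_6 (iv1 D146719) (iv4 F230045) F337731 F339606 (iv5 D150855) D150854 (iv0 D147904) (iv4 D69295) D69294 (iv5 F243027))
theorem F363743 : act 4 n147904 = n71120 := (sb E102977 (iv4 D150854))
theorem F363744 : act 2 n156642 = n147904 := d1_3 F363743 F316999 D156642
theorem F363745 : act 7 n156637 = n147904 := d11_0 F363743 F317000 D156637
theorem F363746 : act 7 n142159 = n156642 := d15_2 (iv0 D147904) (iv0 F322972) F363744
theorem F363747 : act 2 n142159 = n156637 := d4_3 F363745 (iv2 F363744) (iv7 F363746)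
theorem F363748 : act 6 n156637 = n142071 := d3_2 D142159 F363747 F321326
theorem F363749 : act 1 n156637 = n124885 := d15_0 F339601 (iv7 F363746) F363747
theorem F363750 : act 0 n135219 = n146841 := d17_2 (iv1 F274970) F339586 F230217 F311750 (iv5 D38616) (iv0 D18384) D18386 D38624 D83864
theorem F363751 : act 5 n115191 = n92780 := d2_2 F339548 (iv2 F179384) (iv2 F160561)
theorem F363752 : act 4 n115334 = n99932 := d16_2 F93822 D115334 (iv5 D99932) D99931 F339548 (iv4 F203286) F203287 (iv7 D67508) (iv2 F93821)
theorem F363753 : act 0 n114597 = n135773 := d21_7 (iv5 F339548) F290228 (iv5 F177076) (iv6 D113806) (iv1 F327034) D137478 F327581 (iv5 D135773) F99288 (iv1 F179289)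
theorem F363754 : act 0 n135807 = n131114 := d21_4 (iv5 D135773) F168171 D63860 (iv6 F218418) (iv6 D131114) F96028 (iv1 F47549) (iv5 F83586) D114597 F363753
theorem F363755 : act 1 n114597 = n135770 := d15_1 (iv0 F363753) F218333 (iv2 F218341)
theorem F363756 : act 1 n135770 = n130622 := d15_1 F363755 (iv7 D130622) (iv2 F178686)
theorem E102978 : n135771 = n113886 := ((c21_5 (iv5 F327035) F54326 (iv5 F40352) D52580 D113886 (iv6 D135771) D135770 (iv1 F363755) (iv5 F327581) (iv6 D137478) (iv1 D64621))).symm
theorem F363757 : act 0 n113886 = n135670 := (sb E102978 (iv1 F218337))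
theorem F363758 : act 2 n113886 = n134508 := (sb E102978 F218334)
theorem F363759 : act 4 n113886 = n63838 := (sb E102978 F218335)
theorem F363760 : act 6 n113886 = n63837 := (sb E102978 (iv6 D135771))
theorem F363761 : act 7 n113886 = n134484 := (sb E102978 F218336)
theorem F363762 : act 7 n113887 = n134508 := d15_2 (iv0 D113886) D113887 (iv2 F363758)
theorem F363763 : act 2 n134484 = n113887 := d4_3 F363762 (iv2 F363758) F363761
theorem F363764 : act 4 n115119 = n113887 := d11_3 F363762 F216461 (iv7 F179283)
theorem F363765 : act 6 n115118 = n113887 := d14_5 F363762 (iv6 D134508) (iv7 F99289) F99288 (iv7 F179279)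
theorem F363766 : act 0 n113888 = n135728 := d17_2 (iv1 D113887) D113888 (iv5 D135728) (iv4 D63817) (iv5 F78282) F78286 D53273 (iv0 F179284) F363764
theorem F363767 : act 1 n113888 = n115496 := d15_1 (iv0 F363766) (iv7 F209562) (iv2 F218239)
theorem F363768 : act 1 n115496 = n152777 := d15_1 F363767 (iv7 D152777) (iv2 F177178)
theorem F363769 : act 1 n152777 = n135728 := d15_1 F363768 F218240 F209232
theorem F363770 : act 5 n152777 = n135670 := d17_7 F99244 (iv5 D53277) (iv1 D25828) D25829 D53279 D115496 F363768 (iv0 F363757) F363759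
theorem F363771 : act 7 n135670 = n113787 := d13_2 D152777 F363770 F177045
theorem F363772 : act 4 n139981 = n152777 := d16_2 F330565 D139981 F363770 F218157 (iv5 D126819) F179780 D115481 (iv7 F330599) (iv2 F330563)
theorem F363773 : act 7 n152774 = n139981 := d11_0 F363772 (iv7 D152777) (iv4 F239986)
theorem F363774 : act 3 n116016 = n152774 := d8_3 F363773 F223207 (iv7 F180760)
theorem F363775 : act 5 n116015 = n152774 := d13_3 F363773 (iv5 D139981) (iv7 F180756)
theorem F363776 : act 6 n152773 = n116016 := d7_0 F363774 (iv6 D152774) D152773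
theorem F363777 : act 0 n110867 = n152774 := d20_4 (iv4 F49389) F49347 (iv4 F80643) (iv3 F171723) (iv3 F363774) (iv4 F224232) (iv1 D141203) (iv4 D66235) F49383 D30954
theorem F363778 : act 2 n139941 = n152773 := d3_3 F363776 F180759 D139941
theorem F363779 : act 1 n113887 = n135670 := d15_1 D113887 F363771 F177044
theorem F363780 : act 1 n134508 = n113787 := d15_1 F327847 (iv7 F363771) (iv2 F327848)
theorem F363781 : act 1 n113787 = n134484 := d15_1 F363780 (iv7 F363761) F363758
theorem E102979 : n134507 = n130621 := (c21_7 (iv5 D25508) D25504 D52541 D113787 (iv1 F363780) (iv6 D134508) D134507 (iv1 D130621) (iv5 F103895) (iv6 D67848) (iv1 F82799))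
theorem F363782 : act 2 n130621 = n135770 := (sb E102979 (iv2 F218332))
theorem F363783 : act 5 n130621 = n63195 := (sb E102979 (iv5 D134507))
theorem F363784 : act 7 n130621 = n135773 := (sb E102979 (iv7 F218342))
theorem E102980 : n134510 = n130620 := (c15_4 (iv0 D130620) D130621 F363784 F218341)
theorem F363785 : act 2 n130620 = n135773 := (sb E102980 (iv2 F218341))
theorem F363786 : act 5 n130620 = n63199 := (sb E102980 (iv5 D134510))
theorem F363787 : act 7 n130620 = n135770 := (sb E102980 (iv7 F218333))
theorem F363788 : act 1 n130622 = n135773 := d15_1 F363756 (iv7 F363784) F363782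
theorem F363789 : act 3 n96017 = n135773 := d19_19 (iv1 F363788) (iv5 F328440) (iv4 D125760) F93113 F164067 F47099 D50984 (iv3 F327058) (iv1 F70014) D95271 F146895 D95422 (iv1 F356273) F350435 (iv4 F360352) F360351 F251762 F76240 D96017
theorem F363790 : act 4 n135773 = n96021 := d5_2 D96017 F363789 (iv3 D96021) (iv4 D44806) D44805
theorem F363791 : act 5 n135772 = n96017 := d6_0 F363789 (iv5 D135773) D135772
theorem F363792 : act 1 n96007 = n133646 := d17_6 (iv1 F329182) F218098 (iv1 F168172) D135773 F363790 F147647 (iv5 D133646) D133645 F333578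
theorem F363793 : act 0 n135619 = n130616 := d21_4 F363786 F168432 D63771 (iv6 F218091) (iv6 D130616) (iv5 D61289) (iv1 D29015) D29017 D61291 D130620
theorem F363794 : act 6 n152196 = n135618 := d21_9 D135619 F363793 F209194 (iv6 D113845) (iv1 F83084) F329786 (iv5 F329785) D71782 D152196 (iv1 D135618)
theorem E102981 : n152775 = n130953 := ((c17_6 (iv1 F102042) (iv5 D31024) (iv1 F102001) F48393 D61439 D130953 (iv0 D152775) (iv5 F177045) F363781 F216431)).symm
theorem F363795 : act 1 n130953 = n72091 := (sb E102981 (iv0 D152775))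
theorem E102982 : n152776 = n130659 := (c15_2 F363795 D152776 (iv7 F218240) F218239)
theorem F363796 : act 0 n130659 = n72091 := (sb E102982 (iv1 D152776))
theorem F363797 : act 6 n159831 = n134480 := d10_0 F339543 (iv6 D182692) (iv4 F294953)
theorem F363798 : act 3 n94140 = n131121 := d6_3 F339540 (iv3 D186036) (iv5 F335768)
theorem F363799 : act 0 n91209 = n183042 := d17_2 (iv1 F327454) F327456 (iv5 F333848) F327607 F339527 (iv0 F339521) (iv5 F338418) (iv0 D162242) F119161
theorem F363800 : act 2 n122328 = n183042 := d15_3 (iv0 F363799) F333850 F248788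
theorem F363801 : act 3 n183042 = n170872 := d0_2 (iv3 F195612) F363800 F268481 F126259 (iv2 F89583)
theorem F363802 : act 3 n180390 = n135382 := d20_5 F112759 (iv1 F56216) (iv4 F60676) D86155 D180390 (iv4 D135382) (iv1 F339518) F119161 (iv3 D75209) D75208
theorem F363803 : act 5 n183047 = n180390 := d6_0 F363802 F339515 D183047
theorem F363804 : act 7 n157899 = n180390 := d8_0 F363802 F348606 F304021
theorem F363805 : act 2 n180390 = n157900 := d15_3 (iv0 F327449) F327450 F363804
theorem F363806 : act 2 n157899 = n180391 := d15_3 (iv0 F337385) F337386 (iv7 F363804)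
theorem F363807 : act 7 n180391 = n157900 := d4_2 (iv7 F363804) F363806 (iv2 F363805)
theorem F363808 : act 5 n164027 = n135353 := d6_2 F339512 D164027 F217603
theorem F363809 : act 7 n135352 = n164027 := d13_0 F363808 (iv7 D135353) D135352
theorem F363810 : act 0 n104407 = n90527 := d21_10 (iv5 D90527) (iv1 F139325) (iv5 F183752) F183753 F339425 (iv6 F333179) (iv5 F231783) F335955 F335952 (iv6 F335958)
theorem F363811 : act 6 n135646 = n90527 := d21_5 (iv5 D63845) D63842 (iv5 F218111) F333497 F218271 (iv5 D90527) (iv1 F139325) (iv5 F183752) F183753 F339425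
theorem E102983 : n135647 = n113897 := ((c10_2 F363811 (iv4 F349122) (iv6 D135647) D135646)).symm
theorem F363812 : act 3 n113897 = n63780 := (sb E102983 F218140)
theorem F363813 : act 6 n113897 = n63779 := (sb E102983 (iv6 D135647))
theorem F363814 : act 4 n126517 = n185868 := d5_4 (iv4 F349122) F363812 (iv4 F203652) F203651 F288320
theorem E102984 : n135648 = n135234 := (c20_5 F335959 F363810 (iv4 F349122) F363812 D135648 (iv3 D135234) (iv4 D63549) (iv1 F48350) (iv4 F99104) (iv3 F217979) F359567)
theorem F363815 : act 0 n135234 = n135630 := (sb E102984 (iv1 F218145))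
theorem F363816 : act 1 n135234 = n63780 := (sb E102984 (iv0 D135648))
theorem E102985 : n146768 = n135649 := ((c15_2 F363816 D135649 (iv7 F339346) (iv2 F339347))).symm
theorem F363817 : act 2 n135649 = n135572 := (sb E102985 (iv2 F339342))
theorem F363818 : act 6 n135649 = n68812 := (sb E102985 (iv6 D146768))
theorem F363819 : act 7 n135649 = n135627 := (sb E102985 (iv7 F339346))
theorem E102986 : n135783 = n105324 := ((c21_4 (iv5 D31575) D31573 (iv5 F85306) D105324 (iv1 D135783) (iv6 D63846) D63845 F339424 (iv5 F183895) (iv6 D117411) F85414)).symm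
theorem F363820 : act 0 n105324 = n63846 := (sb E102986 (iv1 D135783))
theorem F363821 : act 6 n135784 = n147967 := d21_9 F335952 (iv1 D146420) (iv5 F335950) (iv6 D114384) (iv1 F107972) D151534 F238408 F363820 D135784 F335955
theorem F363822 : act 3 n147967 = n135788 := d7_1 F363821 F218371 (iv3 F218365)
theorem F363823 : act 4 n147968 = n135784 := d10_3 F363821 (iv4 D147967) D147968
theorem F363824 : act 2 n166117 = n140824 := d1_1 F339402 (iv4 F226285) (iv2 F339401)
theorem F363825 : act 6 n119841 = n148312 := d7_2 (iv6 F324157) F339394 (iv3 D148312)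
theorem F363826 : act 0 n107742 = n114711 := d19_12 D55048 (iv5 F311119) D143720 F339394 (iv1 F189144) F189145 (iv4 F239903) F239902 (iv1 F322854) F322857 (iv4 F315076) F338536 (iv5 D114711) F317609 F240733 (iv1 F87324) (iv5 D55194) F304080 (iv3 F42612)
theorem F363827 : act 0 n152186 = n115189 := d21_4 (iv5 D114711) F317608 D128460 (iv6 F355080) (iv6 D115189) (iv5 D53149) (iv1 F40739) (iv5 F78626) D107742 F363826
theorem F363828 : act 1 n152186 = n159720 := d15_1 (iv0 F363827) (iv7 F343004) (iv2 F179381)
theorem F363829 : act 1 n114651 = n115189 := d15_0 (iv0 F363827) (iv7 D152186) (iv2 F178748)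
theorem F363830 : act 1 n159720 = n114651 := d15_0 F363829 F335482 D159720
theorem F363831 : act 2 n148312 = n119853 := d3_1 F363825 (iv6 D119853) (iv2 F189142)
theorem F363832 : act 0 n148312 = n152493 := d21_4 (iv5 F303499) (iv1 F184592) D119841 F363825 (iv6 D152493) (iv5 F341252) (iv1 F336505) D180579 F348622 F303498
theorem F363833 : act 3 n143758 = n155448 := d5_3 F339392 F313416 D143758 (iv4 D155448) (iv3 F305110)
theorem E102987 : n155474 = n139853 := (c0_3 F363833 F244421 D155474 F334444 F315726 (iv2 F226422))
theorem F363834 : act 3 n139853 = n73944 := (sb E102987 (iv3 D155474))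
theorem F363835 : act 6 n164510 = n143758 := d7_0 F363833 F355585 D164510
theorem F363836 : act 3 n155475 = n114800 := d6_3 (iv5 F334442) F363834 D155475
theorem F363837 : act 3 n143317 = n175264 := d5_3 F339381 F322152 D143317 (iv4 D175264) (iv3 F274283)
theorem F363838 : act 7 n175264 = n123814 := d8_2 (iv7 F312309) F363837 F198277
theorem F363839 : act 0 n175264 = n101383 := d20_4 (iv4 D73493) F312302 D143317 F363837 F156175 D101398 F156199 (iv4 D87352) (iv3 F72927) (iv1 F307548)
theorem E102988 : n175460 = n175202 := ((c20_5 (iv4 F339324) F339321 F305734 (iv3 F128741) D175202 (iv3 D175460) (iv4 F298402) (iv1 F262583) (iv4 F298233) F244450 (iv1 F233315))).symm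
theorem F363840 : act 3 n175202 = n83788 := (sb E102988 (iv3 D175460))
theorem F363841 : act 7 n175202 = n110585 := (sb E102988 F361282)
theorem F363842 : act 1 n160585 = n177631 := d15_0 (iv0 F277091) F339263 (iv2 F254432)
theorem E102989 : n158101 = n157643 := ((c20_7 (iv4 F322052) (iv1 F296382) D35563 D77946 D162242 (iv3 F339244) (iv4 F248417) (iv1 D158101) (iv4 F297201) F56440 F321984)).symm
theorem F363843 : act 0 n157643 = n75303 := (sb E102989 (iv1 D158101))
theorem F363844 : act 1 n157643 = n176712 := (sb E102989 F276080)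
theorem F363845 : act 5 n157643 = n96122 := (sb E102989 F334276)
theorem F363846 : act 6 n96122 = n120584 := d12_2 D157643 F363845 (iv5 D120584) F87811 D75069
theorem F363847 : act 7 n158100 = n176710 := d15_2 F363844 F276079 (iv2 F348601)
theorem F363848 : act 2 n176711 = n158100 := d4_3 F363847 (iv2 F348601) F348600
theorem F363849 : act 6 n177658 = n152927 := d7_2 F339173 D177658 F240161
theorem F363850 : act 5 n152926 = n177658 := d12_5 F363849 (iv5 D152927) (iv6 D72180) D72179 D152926
theorem F363851 : act 3 n102402 = n118850 := d20_5 D46608 (iv1 F74717) (iv4 D47516) (iv3 F74713) D102402 (iv4 F339143) (iv1 D99676) (iv4 D46576) F34813 D22330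
theorem F363852 : act 2 n176122 = n102402 := d0_5 F363851 (iv2 F237072) (iv3 F356223) F302332 D176122
theorem F363853 : act 4 n153691 = n102402 := d5_0 F363851 (iv4 F339143) F339142 (iv4 D153692) D153691
theorem E102990 : n184443 = n157176 := ((c20_8 (iv4 F328998) (iv1 F111200) D74396 F318492 D118850 (iv3 F363851) (iv4 F363853) F361914 (iv4 D184443) (iv3 F153133) F328958)).symm
theorem F363854 : act 4 n157176 = n87959 := (sb E102990 (iv4 D184443))
theorem E102991 : n184429 = n90530 := (c18_7 D102402 (iv4 F363853) F361914 F363854 (iv5 D87959) (iv4 F134948) D184429 F139332 (iv0 D47512) D47515)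
theorem F363855 : act 0 n90530 = n87956 := (sb E102991 (iv1 D184429))
theorem F363856 : act 7 n102403 = n176122 := d15_2 (iv0 D102402) D102403 F363852
theorem F363857 : act 3 n160605 = n102403 := d8_3 F363856 (iv3 D176122) (iv7 F302343)
theorem F363858 : act 0 n100920 = n154266 := d21_1 D100920 (iv5 D154266) (iv6 F339124) (iv1 D99572) (iv6 D46541) (iv5 D22309) (iv1 F34311) D45722 D97950 (iv1 F316400)
theorem E102992 : n135423 = n100492 := ((c20_4 D101862 (iv1 F272862) F154556 (iv3 F154555) (iv1 D135423) (iv3 F108173) F108174 D71690 D152064 (iv3 F339101) F156331)).symm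
theorem F363859 : act 0 n100492 = n63659 := (sb E102992 (iv1 D135423))
theorem F363860 : act 7 n172314 = n135386 := d15_2 (iv0 F363859) (iv0 F347431) F217616
theorem F363861 : act 5 n177667 = n98874 := d21_8 F71633 (iv1 D44662) F304610 (iv6 D33446) D33442 D72443 F339096 D177667 (iv6 D98874) (iv1 F75433)
theorem F363862 : act 2 n183053 = n177667 := d2_3 F363861 F152436 D183053
theorem F363863 : act 3 n98878 = n177667 := d6_3 F363861 F152437 D98878
theorem F363864 : act 6 n100383 = n177667 := d12_0 F363861 (iv6 D98874) F72936 D46849 D100383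
theorem F363865 : act 4 n167781 = n177667 := d17_4 F354779 (iv5 F354776) (iv1 D167780) D167781 F363861 F342343 (iv5 F346594) (iv0 F351926) F352332
theorem F363866 : act 0 n177333 = n167778 := d18_2 (iv1 D177508) (iv4 F276715) F264148 D167781 F363865 (iv0 D177667) (iv4 D84609) D84608 (iv5 F339184)
theorem F363867 : act 0 n167781 = n101841 := d20_1 (iv4 F363865) (iv4 D101841) (iv3 D47329) (iv1 F73576) (iv3 F153367) F346610 F309226 (iv4 F339094) (iv3 F339095) D177667
theorem F363868 : act 5 n167778 = n177450 := d17_1 F363866 (iv1 F342130) (iv5 F342128) F276861 D177597 F277060 (iv5 F339172) F333805 (iv4 F276715)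
theorem F363869 : act 2 n172506 = n167778 := d15_3 (iv0 F363866) (iv0 F357892) F354770
theorem F363870 : act 7 n154577 = n183053 := d15_2 (iv0 D177667) (iv0 F339164) F363862
theorem F363871 : act 5 n138048 = n143591 := d6_2 F339049 D138048 (iv3 D143591)
theorem F363872 : act 4 n139205 = n138051 := d10_1 F339048 (iv6 D138051) D138049
theorem F363873 : act 1 n138051 = n151182 := d18_6 F353445 F313670 (iv1 D65346) (iv4 F101049) D139205 F363872 F237885 D151184 F342559
theorem F363874 : act 7 n164015 = n129495 := d14_4 F203909 F338805 F338804 F336487 F214327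
theorem F363875 : act 0 n127107 = n101869 := d19_8 D84570 (iv5 F338793) (iv4 F166383) (iv3 F168204) (iv1 F82555) F48761 (iv4 F94068) (iv3 F204360) (iv5 D101869) (iv4 F156575) F286890 (iv1 F198814) F91741 F44603 F22011 (iv1 F9778) D8706 D18541 D39052
theorem F363876 : act 7 n163091 = n159323 := d8_2 F338776 D163091 F250822
theorem F363877 : act 6 n113140 = n163091 := d14_5 F363876 (iv6 D159323) F254273 D86305 (iv7 F330678)
theorem F363878 : act 2 n141804 = n136704 := d2_3 F338740 F310051 (iv5 F224814)
theorem F363879 : act 4 n107355 = n136717 := d10_3 F338739 (iv4 D107354) D107355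
theorem F363880 : act 0 n107355 = n107101 := d20_7 F93870 (iv1 F111380) (iv4 F111370) (iv3 F325002) F323328 (iv3 F219866) (iv4 F363879) (iv4 F219973) (iv3 D136771) (iv1 F111383)
theorem E102993 : n152753 = n136975 := (c16_6 (iv4 D134687) (iv5 F309873) F280214 F280211 (iv4 D152752) D152753 (iv4 D136975) (iv5 D64376) D64377 (iv2 F338726))
theorem F363881 : act 5 n136975 = n72083 := (sb E102993 (iv5 D152753))
theorem F363882 : act 6 n106142 = n133221 := d7_2 D133223 F338687 (iv3 D133221)
theorem F363883 : act 6 n114765 = n133446 := d21_9 F218054 (iv1 D135597) (iv5 D63761) (iv6 D30087) (iv1 F23888) D30133 D63884 (iv1 F338672) (iv5 F178862) (iv1 F214588)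
theorem F363884 : act 3 n114957 = n132169 := d5_3 F338657 F338661 D114957 (iv4 D132169) (iv3 F211690)
theorem F363885 : act 3 n105318 = n133185 := d7_3 (iv6 F338658) F338661 (iv6 F177327)
theorem F363886 : act 3 n113815 = n92785 := d0_2 F363885 (iv2 F328057) (iv2 F288087) (iv3 D113784) (iv2 F161498)
theorem F363887 : act 3 n131806 = n127406 := d5_5 F204755 F363885 F213986 (iv3 D131805) D131806
theorem E102994 : n113814 = n113780 := (c8_3 F161506 F363885 (iv7 F328055) (iv3 D113780))
theorem F363888 : act 0 n113780 = n61419 := (sb E102994 F328051)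
theorem F363889 : act 1 n113780 = n52559 := (sb E102994 (iv0 D113814))
theorem F363890 : act 2 n113780 = n133186 := (sb E102994 F328052)
theorem F363891 : act 4 n113780 = n129186 := (sb E102994 F328053)
theorem F363892 : act 6 n113780 = n133447 := (sb E102994 F328054)
theorem F363893 : act 7 n113780 = n133185 := (sb E102994 F328055)
theorem F363894 : act 0 n146888 = n129133 := d20_1 D146888 (iv4 F213985) F213984 D133185 (iv3 F363885) (iv4 F204755) (iv1 D127406) F94261 (iv3 F50401) D68857
theorem F363895 : act 5 n133184 = n101368 := d18_4 D68857 D146888 F363894 (iv4 F213985) (iv4 D101368) (iv0 D47183) (iv4 F68154) F135528 F65398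
theorem F363896 : act 5 n185850 = n130911 := d2_2 F363895 (iv2 F288270) (iv2 F213983)
theorem F363897 : act 7 n113809 = n133184 := d13_0 F363895 F290180 (iv5 F177082)
theorem F363898 : act 7 n130911 = n148701 := d4_2 F363897 F213983 F233463
theorem F363899 : act 3 n133447 = n113783 := d7_1 F363892 (iv6 D113783) D113780
theorem F363900 : act 3 n129187 = n113435 := d5_3 F363891 (iv3 D129186) D129187 F204763 D113780
theorem F363901 : act 4 n133388 = n104665 := d19_6 D93939 F251942 (iv4 F204763) (iv3 F363900) F207419 D133388 (iv3 D104665) F340349 (iv5 F340351) (iv4 D48416) F291203 F290787 F71625 (iv4 F61800) F61799 (iv1 F61673) F291227 F65912 (iv3 F69032)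
theorem F363902 : act 4 n104685 = n128860 := d11_3 (iv7 F214450) F363901 (iv7 F340355)
theorem F363903 : act 1 n104665 = n128944 := d18_6 (iv1 F211179) F211180 (iv1 D62604) D62605 D133388 F363901 (iv4 D128944) D128943 (iv5 F207167)
theorem F363904 : act 3 n133186 = n185771 := d0_2 D113780 F363890 (iv2 F288090) F204766 F161505
theorem F363905 : act 6 n127739 = n115161 := d10_0 F338656 (iv6 D127740) D127739
theorem F363906 : act 0 n114716 = n107742 := d21_1 D114716 (iv5 F338537) F363905 (iv1 F218533) F338653 F339577 F339771 F178804 F316446 (iv1 F318178)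
theorem E102995 : n114769 = n114717 := (c21_5 F338655 (iv1 D114766) (iv5 D52962) D52963 D114769 (iv6 D114717) D114716 F363906 (iv5 F338537) F363905 (iv1 F218533))
theorem F363907 : act 1 n114717 = n52963 := (sb E102995 (iv0 D114769))
theorem F363908 : act 2 n117192 = n114717 := d15_3 F363907 D114770 F331601
theorem F363909 : act 1 n117182 = n114717 := d15_0 F363907 F318647 (iv2 F183338)
theorem F363910 : act 4 n114717 = n147230 := d20_2 (iv4 F318646) (iv1 F363907) (iv3 F323402) (iv1 F323528) F114837 (iv4 F183953) F329076 D134383 F331667 (iv1 F183345)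
theorem F363911 : act 7 n117191 = n114717 := d11_0 F363910 F242769 (iv4 F331610)
theorem F363912 : act 4 n146597 = n105834 := d20_0 (iv1 D105834) (iv4 F162524) F316393 F122600 (iv3 F94460) (iv4 F338538) (iv1 F338644) (iv4 D114750) F315424 D146597
theorem F363913 : act 2 n105834 = n140771 := d1_1 F363912 F338180 F233211
theorem F363914 : act 6 n105834 = n97233 := d10_2 F229895 F363912 F332450
theorem F363915 : act 5 n140763 = n105834 := d12_5 F363914 F337014 (iv6 F350251) (iv5 F204434) D140763
theorem F363916 : act 3 n115142 = n90557 := d6_1 F338623 (iv5 D90557) D90556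
theorem F363917 : act 3 n146877 = n132195 := d5_1 F338614 F218045 F323480 (iv4 F333181) (iv3 F338613)
theorem F363918 : act 0 n132305 = n146877 := d20_10 (iv4 F338614) (iv1 D133436) F97675 (iv3 D62033) (iv1 D29375) D29376 F47057 D29390 D62072 D132305
theorem F363919 : act 6 n132195 = n146875 := d7_2 D146877 F363917 (iv3 D146875)
theorem F363920 : act 6 n146439 = n135585 := d10_2 F363919 F230262 (iv4 F218045)
theorem F363921 : act 2 n135588 = n146439 := d3_3 F363920 F218044 D135588
theorem F363922 : act 0 n148726 = n146439 := d21_4 (iv5 D76468) D76466 F114609 D148726 F363920 (iv5 D135585) (iv1 F325501) D114000 F177491 F114610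
theorem F363923 : act 1 n136953 = n118235 := d17_8 F185763 F123944 D105848 F184613 F109812 F332704 F338557 D136953 F185769
theorem F363924 : act 4 n147838 = n138201 := d18_7 D64913 (iv4 F338402) D132928 F338550 F332699 F155745 D147838 (iv0 D138201) (iv5 D64915)
theorem F363925 : act 7 n138201 = n118200 := d11_2 (iv7 F233221) F363924 (iv4 F190219)
theorem F363926 : act 0 n138201 = n120631 := d17_0 F338540 (iv1 F204288) (iv5 F338411) F85892 (iv5 F105228) F232280 D69273 D147838 F363924
theorem F363927 : act 3 n153661 = n138201 := d8_3 F363925 F306359 D153661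
theorem F363928 : act 7 n151645 = n121335 := d14_2 F338512 D151645 (iv6 D121335) (iv7 F153462) D114856
theorem F363929 : act 3 n121335 = n151654 := d8_1 F363928 (iv7 D151654) (iv3 F238509)
theorem F363930 : act 6 n151654 = n121330 := d7_2 D121335 F363929 F193459
theorem F363931 : act 0 n151654 = n120117 := d21_10 (iv5 F189731) F189732 (iv5 D71434) (iv6 D33053) (iv1 F43571) D55966 F88582 (iv1 F335470) D121330 (iv6 F363930)
theorem F363932 : act 1 n151443 = n120117 := d15_0 (iv0 F363931) (iv7 D151654) (iv2 F335453)
theorem F363933 : act 6 n132226 = n129670 := d10_2 F338474 (iv4 F211853) (iv4 F332394)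
theorem F363934 : act 3 n129670 = n132228 := d7_1 F363933 (iv6 D132228) D132226
theorem E102996 : n129669 = n129156 := ((c6_3 D129670 F363934 F345876 (iv3 D129669))).symm
theorem F363935 : act 3 n129156 = n60908 := (sb E102996 (iv3 D129669))
theorem F363936 : act 4 n129156 = n135572 := (sb E102996 (iv4 F218016))
theorem F363937 : act 6 n129156 = n146843 := (sb E102996 F339343)
theorem E102997 : n135717 = n113625 := ((c20_10 F345881 F345877 F363936 (iv3 D135572) F100271 (iv3 F99131) (iv4 F164149) F362100 F176705 (iv3 F176809) (iv1 F218221))).symm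
theorem F363938 : act 0 n113625 = n130945 := (sb E102997 (iv1 F218221))
theorem F363939 : act 1 n113625 = n63813 := (sb E102997 (iv0 D135717))
theorem E102998 : n135718 = n113612 := ((c15_4 F218215 (iv0 F363938) (iv7 D113625) (iv2 F176786))).symm
theorem F363940 : act 0 n113612 = n63813 := (sb E102998 (iv1 D135718))
theorem F363941 : act 1 n113612 = n130945 := (sb E102998 F218215)
theorem F363942 : act 7 n135116 = n138197 := d15_2 (iv0 F233166) (iv0 F338464) F338408
theorem F363943 : act 2 n183403 = n135116 := d4_3 F363942 F338408 D183403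
theorem F363944 : act 6 n98586 = n135117 := d14_3 F363942 F338410 (iv7 F151976) (iv7 D135117) D135116
theorem F363945 : act 2 n135117 = n182387 := d3_1 F363944 (iv6 D182387) (iv2 F295110)
theorem F363946 : act 4 n182387 = n129410 := d1_2 (iv4 F217335) F363945 (iv2 F213184)
theorem F363947 : act 7 n182387 = n135114 := d4_2 D135117 F363945 (iv2 D135114)
theorem F363948 : act 1 n182387 = n135091 := d15_0 F218461 D135117 F363945
theorem F363949 : act 3 n135114 = n182395 := d8_1 F363947 (iv7 D182395) (iv3 F283942)
theorem F363950 : act 6 n135114 = n183403 := d14_1 F363947 (iv7 D183403) F134445 F294521 D182387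
theorem E102999 : n158970 = n135113 := ((c15_1 D135113 (iv0 F347312) F363947 (iv2 D135114))).symm
theorem F363951 : act 1 n135113 = n182387 := (sb E102999 (iv0 F347312))
theorem F363952 : act 5 n135113 = n148797 := (sb E102999 F250301)
theorem F363953 : act 6 n135113 = n75882 := (sb E102999 (iv6 D158970))
theorem E103000 : n135127 = n132042 := (c20_11 (iv4 D132042) (iv1 D61960) (iv4 F81135) (iv3 D51397) F39200 D50064 F79254 D105490 (iv4 F217331) F363949 (iv1 F337798))
theorem F363954 : act 0 n132042 = n63507 := (sb E103000 (iv1 D135127))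
theorem F363955 : act 1 n132042 = n182395 := (sb E103000 F337798)
theorem E103001 : n132068 = n132041 := (c20_5 (iv4 D129696) F96567 (iv4 D61972) D61971 D132068 (iv3 D132041) D132042 F363954 (iv4 F213565) F213564 F213154)
theorem F363956 : act 1 n132041 = n61971 := (sb E103001 (iv0 D132068))
theorem F363957 : act 6 n129410 = n182386 := d10_2 D182387 F363946 (iv4 D182386)
theorem F363958 : act 4 n182392 = n106613 := d20_0 (iv1 D106613) F77845 (iv3 D29971) D29970 D63436 F98767 D129410 (iv4 F363946) F283942 D182392
theorem F363959 : act 2 n132037 = n182392 := d1_3 F363958 F218395 D132037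
theorem F363960 : act 7 n132042 = n182392 := d11_0 F363958 F218396 D132042
theorem F363961 : act 3 n134780 = n182392 := d20_5 F48177 (iv1 F38329) (iv4 F48089) D63339 D134780 F363958 (iv1 D106613) F77845 (iv3 D29971) D29970
theorem F363962 : act 0 n163476 = n115203 := d20_10 (iv4 D115203) D115200 F179409 (iv3 F164639) (iv1 F164641) D106839 F337806 D182392 F363958 (iv3 F349642)
theorem F363963 : act 0 n115208 = n163476 := d20_4 F97275 (iv1 F211615) F211613 (iv3 F211587) F349642 (iv4 F363958) (iv1 F337803) F213538 (iv3 D62384) D62382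
theorem E103002 : n135062 = n134780 := (c8_1 D135062 F363961 (iv7 F363960) (iv3 F211530))
theorem F363964 : act 2 n134780 = n63480 := (sb E103002 F217295)
theorem F363965 : act 7 n134780 = n63479 := (sb E103002 (iv7 D135062))
theorem E103003 : n135058 = n134781 := (c15_4 F216886 F216881 F363965 D135058)
theorem F363966 : act 2 n134781 = n63479 := (sb E103003 (iv2 D135058))
theorem F363967 : act 7 n134781 = n63480 := (sb E103003 (iv7 F217294))
theorem F363968 : act 6 n134045 = n134780 := d3_0 F363964 F335887 (iv2 F336851)
theorem F363969 : act 7 n135061 = n134305 := d14_4 (iv7 F336852) F363968 F363965 D135061 (iv6 D134305)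
theorem F363970 : act 2 n132042 = n182393 := d15_3 (iv0 F337802) F337803 (iv7 F363960)
theorem F363971 : act 4 n182393 = n106612 := d1_2 D132042 F363970 F218393
theorem F363972 : act 7 n182393 = n132037 := d4_2 (iv7 F363960) F363970 F363959
theorem F363973 : act 1 n135116 = n183401 := d15_0 (iv0 D183401) D183403 F363943
theorem F363974 : act 6 n185875 = n135974 := d7_2 D135975 F338463 (iv3 D135974)
theorem F363975 : act 4 n135974 = n185876 := d10_1 F363974 (iv6 D185876) D185875
theorem F363976 : act 7 n185876 = n136958 := d11_2 (iv7 F218744) F363975 (iv4 D136958)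
theorem F363977 : act 3 n136958 = n185881 := d8_1 F363976 (iv7 D185881) (iv3 F288338)
theorem F363978 : act 6 n136958 = n135613 := d14_1 F363976 (iv7 F331844) (iv6 D185780) (iv7 F135574) D185876
theorem F363979 : act 4 n135613 = n136959 := d10_1 F363978 (iv6 D136959) D136958
theorem E103004 : n136960 = n134604 := (c20_11 F216580 (iv1 F340129) (iv4 F325106) (iv3 F326052) (iv1 F168435) (iv3 F216055) F216056 D135613 F363979 F220123 D136960)
theorem F363980 : act 1 n134604 = n64373 := (sb E103004 (iv0 D136960))
theorem F363981 : act 4 n185900 = n113684 := d20_0 (iv1 F176887) F324732 F97226 D130128 (iv3 F336032) F219892 (iv1 F363980) F216580 F328235 D185900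
theorem F363982 : act 7 n113682 = n185900 := d11_0 F363981 (iv7 D113684) (iv4 F176880)
theorem F363983 : act 2 n185900 = n134593 := d15_3 F334341 (iv0 F288290) F363982
theorem F363984 : act 7 n129906 = n134593 := d4_2 (iv7 F363982) (iv2 F334332) (iv2 F363983)
theorem F363985 : act 1 n134585 = n185900 := d15_1 (iv0 F334336) (iv7 F363982) (iv2 F334332)
theorem F363986 : act 3 n134593 = n112602 := d8_1 F363984 F359740 D129906
theorem F363987 : act 4 n134593 = n102578 := d11_1 F363984 F176884 (iv4 F334333)
theorem F363988 : act 5 n126009 = n134593 := d18_4 F337539 F176688 (iv1 F361883) (iv4 F202702) F363987 (iv0 D102578) (iv4 F157536) (iv0 F323386) D132882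
theorem F363989 : act 0 n113182 = n126009 := d21_10 F363988 (iv1 D134593) D134594 F321673 (iv1 D82578) D82580 (iv5 F128536) (iv1 F362990) (iv5 D113181) D113182
theorem F363990 : act 5 n180485 = n183045 := d6_0 F338453 F280790 D180485
theorem F363991 : act 0 n122328 = n93242 := d20_10 (iv4 D93242) D93240 (iv4 F338450) F338453 (iv1 D180410) F132132 (iv4 F112755) (iv1 F116163) F116161 (iv3 F195612)
theorem E103005 : n178097 = n108858 := (c21_5 D122328 F363991 (iv5 F301261) (iv6 F343105) (iv1 F361608) (iv6 D108858) D108857 F344742 (iv5 D108995) D108996 F327610)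
theorem F363992 : act 0 n108858 = n111465 := (sb E103005 (iv1 F361607))
theorem F363993 : act 1 n108858 = n111473 := (sb E103005 F361608)
theorem F363994 : act 2 n108858 = n84777 := (sb E103005 (iv2 D178097))
theorem F363995 : act 7 n108858 = n111470 := (sb E103005 (iv7 F361606))
theorem F363996 : act 4 n89173 = n132885 := d19_2 D47417 (iv5 F338449) (iv3 D132885) (iv1 D62359) D62360 (iv4 F323709) (iv3 D88378) F63577 F294092 (iv4 D21696) F16477 D21335 F66252 (iv4 F66251) F66250 F62401 (iv5 F293884) F293883 (iv3 F35341)
theorem F363997 : act 1 n132885 = n181983 := d18_6 (iv1 D87048) (iv4 F65257) D90371 F293736 (iv5 F338449) F363996 (iv4 D181983) (iv0 F341225) F341228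
theorem F363998 : act 0 n183390 = n129861 := d20_7 F48182 D29981 D63474 F324964 (iv1 F338413) F338415 D183390 (iv4 F217279) (iv3 D135050) (iv1 D63469)
theorem F363999 : act 4 n119209 = n115921 := d20_8 F80629 (iv1 F80670) (iv4 D51140) (iv3 F80659) D110900 (iv3 F338287) (iv4 D119211) D119209 F180485 F84334
theorem F364000 : act 7 n134010 = n119209 := d11_0 F363999 F180486 D134010
theorem E103006 : n139471 = n136678 := (c21_4 F180528 (iv1 D65452) D65454 D139471 (iv1 D136678) (iv6 D64236) F92806 F92804 D64112 D136368 (iv1 F338279))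
theorem F364001 : act 3 n136678 = n65456 := (sb E103006 F222664)
theorem F364002 : act 6 n136678 = n65454 := (sb E103006 (iv6 D139471))
theorem F364003 : act 3 n129842 = n111349 := d5_1 F338254 (iv4 D111349) F81052 (iv4 F80673) (iv3 F171812)
theorem F364004 : act 7 n129842 = n110902 := d11_2 D110904 F338254 (iv4 D110902)
theorem F364005 : act 6 n111349 = n129841 := d7_2 D129842 F364003 (iv3 D129841)
theorem F364006 : act 4 n129841 = n111350 := d10_1 F364005 (iv6 D111350) D111349
theorem F364007 : act 3 n111181 = n164568 := d20_5 F80555 (iv1 F80894) (iv4 D51284) (iv3 F80883) D111181 F259419 (iv1 F236559) (iv4 F338235) (iv3 D156486) (iv1 D74416)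
theorem F364008 : act 3 n111160 = n164570 := d0_4 F338227 (iv2 F212040) (iv3 F172505) F212025 (iv2 F329016)
theorem F364009 : act 5 n179232 = n111248 := d19_17 F314643 D156719 F338223 F225503 (iv1 F102719) F314032 (iv4 F314984) F311075 (iv1 F278248) (iv5 F311314) (iv4 F189777) (iv3 D108269) (iv1 F310476) (iv5 F312658) (iv4 F167218) F315119 D179232 (iv4 D111248) F316922
theorem E103007 : n141487 = n138661 := (c15_1 D141487 (iv0 F330623) F338218 F224470)
theorem F364010 : act 0 n138661 = n66378 := (sb E103007 (iv1 D141487))
theorem F364011 : act 3 n179010 = n146947 := d7_3 F230340 F338215 D179010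
theorem F364012 : act 5 n141485 = n179010 := d6_0 F364011 (iv5 D146947) (iv3 F224551)
theorem F364013 : act 6 n152372 = n127437 := d7_2 F338197 D152372 F243301
theorem F364014 : act 3 n105833 = n140801 := d20_5 F166584 (iv1 D28346) (iv4 F37202) (iv3 F77136) D105833 F338183 F338188 F105509 F51145 (iv1 F41685)
theorem F364015 : act 4 n146598 = n105833 := d5_0 F364014 F338183 F122494 F315210 (iv3 F233212)
theorem F364016 : act 5 n140772 = n105833 := d6_0 F364014 F223875 (iv3 F223863)
theorem F364017 : act 7 n140771 = n105833 := d8_0 F364014 (iv7 D140801) (iv3 F223862)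
theorem F364018 : act 0 n144379 = n140772 := d17_2 (iv1 F315421) (iv5 F322412) F364016 (iv4 F364015) F314423 D166289 (iv5 F355208) (iv0 D117415) (iv4 F183902)
theorem F364019 : act 6 n140772 = n179597 := d21_3 F114308 D105833 (iv5 F364016) F305218 (iv6 F339145) F339144 F307707 (iv5 F334896) F334897 (iv1 D159431)
theorem F364020 : act 1 n148657 = n147630 := d15_0 F338176 (iv7 F233774) F334589
theorem F364021 : act 4 n157712 = n147630 := d18_5 (iv1 F131639) (iv4 D54338) (iv1 F85719) (iv4 F184946) F305137 F338176 (iv4 F334587) (iv0 F189838) F310762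
theorem E103008 : n176081 = n170522 := (c20_2 (iv4 F128967) D176081 (iv4 F332127) (iv3 F332126) F332100 (iv3 F323515) F323516 F248534 F364021 F347631 (iv1 D84004))
theorem F364022 : act 1 n170522 = n84002 := (sb E103008 (iv0 D176081))
theorem E103009 : n175410 = n147372 := ((c20_4 F226387 (iv1 F316508) (iv4 F105498) (iv3 F231090) (iv1 D175410) F128795 (iv4 F128967) (iv1 F364022) (iv4 F332127) (iv3 F332126) F332100)).symm
theorem F364023 : act 0 n147372 = n83758 := (sb E103009 (iv1 D175410))
theorem F364024 : act 0 n170508 = n93868 := d21_1 F267965 F144692 F83717 (iv1 F69403) F327756 F327292 F326528 (iv5 F317544) D84002 (iv1 F364022)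
theorem F364025 : act 1 n136902 = n176087 := d17_6 (iv1 F364022) F267965 F364024 F144692 (iv4 F178900) (iv5 F220080) (iv5 D176087) (iv0 D84003) (iv4 F128967)
theorem F364026 : act 7 n122847 = n144806 := d4_2 (iv7 F227706) F338171 F227701
theorem F364027 : act 1 n145932 = n122847 := d15_1 (iv0 F229156) F364026 F227701
theorem F364028 : act 0 n95664 = n183213 := d20_4 (iv4 F125488) (iv1 F338153) (iv4 D95665) D95664 F284868 (iv4 D131396) F318755 (iv4 F317682) (iv3 D97128) (iv1 F71612)
theorem F364029 : act 1 n152005 = n184671 := d15_1 D152005 F338137 F229845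
theorem F364030 : act 5 n154471 = n152005 := d17_7 (iv1 D130897) F105960 (iv1 F278368) F332492 (iv4 F314823) (iv5 F274748) (iv0 F310350) F364029 F348246
theorem F364031 : act 0 n108280 = n149143 := d20_4 (iv4 F337888) (iv1 D107974) (iv4 F166833) (iv3 F167421) (iv3 F335023) F237043 (iv1 F237042) F306444 (iv3 F286663) (iv1 F364029)
theorem F364032 : act 1 n108280 = n149138 := d15_1 (iv0 F364031) F234521 F234517
theorem F364033 : act 7 n108280 = n149023 := d15_2 (iv0 F236221) (iv0 F364031) (iv2 F236217)
theorem F364034 : act 2 n167836 = n108280 := d4_3 F364033 (iv2 F236217) (iv7 F264400)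
theorem F364035 : act 1 n183780 = n154473 := d17_8 D154471 F364030 (iv1 D152005) D152006 (iv4 F353686) (iv5 F353685) (iv0 F341562) F289359 (iv4 D154473)
theorem F364036 : act 6 n154579 = n183881 := d7_2 F338030 D154579 (iv3 D183881)
theorem F364037 : act 6 n153882 = n185267 := d14_3 (iv7 F137692) F338030 (iv7 F241812) (iv7 D185267) (iv6 D88276)
theorem F364038 : act 2 n185267 = n154585 := d3_1 F364037 (iv6 D154585) F241814
theorem F364039 : act 5 n185267 = n154017 := d12_1 F364037 (iv6 D154017) D154016 F242042 (iv5 F241813)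
theorem F364040 : act 7 n154017 = n183491 := d13_2 D185267 F364039 F353763
theorem F364041 : act 7 n154585 = n183884 := d4_2 D185267 F364038 F285711
theorem F364042 : act 1 n154585 = n185264 := d15_0 (iv0 D185264) D185267 F364038
theorem F364043 : act 1 n185265 = n154585 := d15_1 D185265 F364041 F285711
theorem E103010 : n183103 = n182030 := ((c21_8 F338028 (iv1 F338023) (iv5 D72814) F306380 F33443 D40355 D86940 D182030 (iv5 F307384) F192094 (iv1 F231585))).symm
theorem F364044 : act 2 n182030 = n87403 := (sb E103010 (iv2 D183103))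
theorem F364045 : act 5 n182030 = n120553 := (sb E103010 (iv5 F307384))
theorem F364046 : act 7 n182030 = n87404 := (sb E103010 (iv7 F284724))
theorem F364047 : act 5 n183105 = n95936 := d16_1 D183105 (iv4 D95936) (iv5 D44779) D44778 (iv5 F315069) D55526 (iv5 F307383) (iv7 F364046) F364044
theorem F364048 : act 5 n183109 = n95919 := d9_8 F364047 (iv4 D95936) (iv5 D44779) D44778 (iv5 F315069) D55526 (iv5 F307383) D183109 (iv4 D95919) (iv5 D44774) D44773 (iv5 F312754) D55521 (iv5 F311630) D183105
theorem F364049 : act 4 n184730 = n182030 := d18_3 (iv1 D88087) D88088 D184730 F364045 (iv4 D120553) (iv0 D55515) (iv4 F87737) (iv0 F304413) F135077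
theorem F364050 : act 2 n183105 = n184730 := d1_3 F364049 F364044 D183105
theorem F364051 : act 7 n183109 = n184730 := d11_0 F364049 F364046 D183109
theorem F364052 : act 1 n143662 = n184733 := d18_8 D184730 F364049 (iv1 F283431) (iv4 F284730) (iv5 F356675) (iv4 D95527) D95526 (iv4 F356912) (iv5 D184733)
theorem F364053 : act 3 n182030 = n177826 := d20_3 D88088 D184730 F364049 (iv1 F277350) F152454 (iv4 F295483) (iv1 F143803) F352554 (iv3 F155507) (iv1 D88087)
theorem F364054 : act 7 n177826 = n98900 := d8_2 (iv7 F364046) F364053 F268865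
theorem F364055 : act 2 n98900 = n177827 := d15_3 F277351 F277350 F364054
theorem F364056 : act 2 n177826 = n98899 := d15_3 (iv0 D98899) D98900 (iv7 F364054)
theorem F364057 : act 7 n98899 = n177827 := d4_2 (iv7 F364054) F364056 (iv2 F364055)
theorem F364058 : act 1 n183105 = n98100 := d15_0 (iv0 F284727) F364051 (iv2 F364050)
theorem F364059 : act 6 n183105 = n90283 := d21_5 (iv5 F134176) (iv1 F295042) (iv5 F295179) (iv6 F151239) (iv1 F364058) (iv5 D90283) (iv1 F67985) (iv5 F142618) (iv6 F362824) F294567
theorem F364060 : act 4 n90283 = n183107 := d10_1 F364059 (iv6 D183107) D183105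
theorem F364061 : act 6 n94141 = n95936 := d12_4 F364059 (iv5 D90283) F294553 (iv5 F294552) (iv5 F364047)
theorem F364062 : act 4 n95937 = n94141 := d10_3 F364061 (iv4 D95936) D95937
theorem F364063 : act 7 n184731 = n183105 := d15_2 (iv0 D184730) D184731 F364050
theorem F364064 : act 2 n184731 = n183109 := d4_3 F364051 (iv2 F364050) (iv7 F364063)
theorem F364065 : act 7 n185150 = n183855 := d8_2 F337974 (iv3 F287501) F285665
theorem F364066 : act 6 n183858 = n185134 := d7_2 F337970 D183858 F287498
theorem F364067 : act 6 n185074 = n102375 := d3_2 F337968 D185074 F157177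
theorem F364068 : act 6 n185038 = n102379 := d10_2 F337968 (iv4 F287432) (iv4 D102379)
theorem F364069 : act 3 n102379 = n185040 := d7_1 F364068 (iv6 D185040) D185038
theorem F364070 : act 7 n185040 = n185128 := d8_2 (iv7 F157187) F364069 (iv3 D185128)
theorem F364071 : act 3 n185017 = n185074 := d7_3 F364067 F157178 D185017
theorem F364072 : act 7 n185149 = n185017 := d4_2 F337967 D185149 F287402
theorem F364073 : act 1 n185149 = n185041 := d15_0 (iv0 D185041) F337967 D185149
theorem F364074 : act 1 n185017 = n185147 := d15_0 (iv0 D185147) (iv7 F337967) (iv2 F287402)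
theorem F364075 : act 1 n185042 = n185149 := d15_1 D185042 F364072 F287402
theorem F364076 : act 1 n185148 = n185017 := d15_1 D185148 (iv7 F364072) (iv2 D185149)
theorem E103011 : n182186 = n122450 := (c7_2 F337953 D182186 (iv6 D122450) (iv3 F304423))
theorem F364077 : act 3 n122450 = n86989 := (sb E103011 (iv3 D182186))
theorem F364078 : act 5 n122450 = n88253 := (sb E103011 F283636)
theorem E103012 : n182190 = n152897 := (c11_3 (iv7 F187027) F337952 D182190 (iv4 D152897))
theorem F364079 : act 7 n152897 = n86990 := (sb E103012 (iv7 D182190))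
theorem F364080 : act 4 n182189 = n124825 := d18_7 (iv1 F108999) F52849 F190099 D54736 D118937 F337952 D182189 (iv0 F240978) (iv5 D153419)
theorem F364081 : act 0 n182167 = n185418 := d21_4 (iv5 F135174) (iv1 F135176) (iv5 F133501) D182167 (iv6 D185418) (iv5 D88329) F62421 F61463 F337950 (iv1 F134103)
theorem F364082 : act 6 n182168 = n182249 := d21_5 (iv5 D19084) D19082 D40384 D86983 D182168 F283691 (iv1 D88213) (iv5 F133507) (iv6 F337950) (iv1 D40391)
theorem F364083 : act 4 n182250 = n182168 := d10_3 F364082 (iv4 D182249) D182250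
theorem F364084 : act 6 n124031 = n185185 := d3_2 F337945 (iv2 F310413) (iv2 D185185)
theorem F364085 : act 6 n177769 = n185171 := d10_2 F337945 (iv4 F310414) F287514
theorem F364086 : act 2 n185171 = n177988 := d3_1 F364085 (iv6 D177988) F277235
theorem F364087 : act 3 n185173 = n177769 := d7_3 F364085 (iv3 D185171) D185173
theorem F364088 : act 7 n177983 = n185173 := d8_0 F364087 (iv7 F277236) D177983
theorem F364089 : act 4 n185179 = n177983 := d11_3 F364088 F287515 D185179
theorem F364090 : act 4 n177988 = n185185 := d1_2 (iv4 F287514) F364086 (iv2 D185185)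
theorem F364091 : act 6 n154438 = n183868 := d7_2 F337937 D154438 (iv3 D183868)
theorem F364092 : act 7 n185231 = n184954 := d14_4 (iv7 F310363) F364091 F285683 D185231 (iv6 D184954)
theorem E103013 : n177956 = n153879 := (c20_5 (iv4 F277516) (iv1 D177963) (iv4 D84716) D84715 D177956 F241804 F337923 (iv1 D88256) (iv4 F337935) D88176 (iv1 F310411))
theorem F364093 : act 1 n153879 = n84715 := (sb E103013 (iv0 D177956))
theorem F364094 : act 6 n185192 = n185182 := d7_2 F337927 D185192 (iv3 D185182)
theorem F364095 : act 7 n185197 = n154660 := d8_2 F337925 D185197 (iv3 D154660)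
theorem F364096 : act 7 n185200 = n185181 := d14_2 F337925 D185200 (iv6 D185181) (iv7 F135177) F308466
theorem F364097 : act 2 n154587 = n185200 := d4_3 F364096 (iv2 F287578) F359651
theorem F364098 : act 4 n153884 = n185200 := d11_3 F364096 F287521 F359647
theorem F364099 : act 1 n154587 = n185297 := d15_0 (iv0 F351166) (iv7 F364096) (iv2 F364097)
theorem F364100 : act 7 n185192 = n154586 := d8_2 F337922 D185192 (iv3 D154586)
theorem F364101 : act 1 n160102 = n144804 := d15_1 (iv0 F337902) (iv7 D144804) (iv2 F328580)
theorem F364102 : act 6 n123408 = n136832 := d21_3 D138190 F314226 (iv5 F306411) (iv1 F326705) (iv6 D130721) D130720 (iv1 F213543) (iv5 D63504) D63505 F337829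
theorem F364103 : act 3 n136832 = n154020 := d7_1 F364102 (iv6 D154020) (iv3 F242347)
theorem F364104 : act 5 n183116 = n132920 := d12_5 F337805 (iv5 D72880) F306395 (iv5 F134161) D183116
theorem F364105 : act 5 n137700 = n183166 := d21_6 F293569 (iv1 F33432) D40498 D87179 (iv1 F329587) D137700 (iv1 D183166) (iv5 F337796) (iv6 F337801) F293621
theorem F364106 : act 6 n135131 = n183049 := d10_2 F337795 D135131 F284680
theorem F364107 : act 5 n179128 = n132505 := d21_8 F336603 F302174 (iv5 F334282) (iv6 F337771) (iv1 D129803) D129806 F323655 D179128 F336574 (iv1 F212386)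
theorem F364108 : act 4 n155072 = n112563 := d10_1 F337688 F175121 (iv4 F219555)
theorem F364109 : act 6 n119241 = n142441 := d14_1 F337687 (iv7 D142441) (iv6 D66790) (iv7 F84689) (iv6 F337686)
theorem F364110 : act 2 n131380 = n174054 := d2_3 F337627 (iv2 D131379) D131380
theorem E103014 : n108478 = n100496 := (c17_4 F205702 F337621 (iv1 F167705) D108478 (iv4 D100496) (iv5 D46888) F73370 (iv5 F153023) F153026 D100504)
theorem F364111 : act 5 n100496 = n50086 := (sb E103014 (iv5 D108478))
theorem F364112 : act 6 n158539 = n146370 := d7_2 D146371 F337565 (iv3 D146370)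
theorem F364113 : act 4 n146370 = n158541 := d10_1 F364112 (iv6 D158541) D158539
theorem F364114 : act 0 n146370 = n102573 := d21_4 (iv5 D106356) D106352 F356349 F364112 (iv6 D102573) F74815 F68405 F68124 D92720 F357306
theorem F364115 : act 3 n166575 = n177636 := d20_5 (iv4 D35805) (iv1 F28575) D36417 D79949 D166575 F277094 (iv1 F337543) (iv4 F122723) (iv3 D79952) (iv1 F57181)
theorem F364116 : act 6 n177634 = n166575 := d7_0 F364115 (iv6 D177636) D177634
theorem E103015 : n175102 = n130148 := (c7_3 D130150 F337524 D175102 (iv3 D130148))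
theorem F364117 : act 6 n130148 = n83626 := (sb E103015 (iv6 D175102))
theorem F364118 : act 0 n177731 = n152036 := d21_7 D107949 F166815 F108170 F311164 (iv1 F197402) F337510 D177731 (iv5 D152036) (iv6 D71679) (iv1 F78848)
theorem F364119 : act 7 n177731 = n154836 := d13_2 F337505 D177731 (iv5 D154836)
theorem F364120 : act 1 n123216 = n152036 := d15_0 (iv0 F364118) F364119 F243543
theorem F364121 : act 1 n111716 = n179868 := d15_1 D111716 (iv7 D179868) F337485
theorem F364122 : act 6 n179864 = n111346 := d7_2 F337482 D179864 F172791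
theorem F364123 : act 0 n140709 = n123131 := d21_4 F170521 (iv1 D66019) D66021 D140709 F197314 (iv5 F304542) (iv1 F337477) F337479 (iv6 F337482) (iv1 F170520)
theorem F364124 : act 1 n140709 = n123894 := d15_1 (iv0 F364123) (iv7 D123894) (iv2 F197313)
theorem F364125 : act 2 n111350 = n179864 := d3_3 F364122 F172790 D111350
theorem F364126 : act 0 n124021 = n111375 := d21_4 (iv5 F337479) F337476 (iv5 F304627) D124021 (iv6 D111375) (iv5 D51366) (iv1 F80610) F80608 D51516 (iv1 F336743)
theorem F364127 : act 6 n140707 = n123891 := d21_3 F325634 (iv1 F325628) D140707 (iv1 D123891) F90894 D57775 F337475 (iv5 F81283) (iv6 D51514) D51511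
theorem F364128 : act 2 n123891 = n140709 := d3_1 F364127 (iv6 D140709) (iv2 F223793)
theorem F364129 : act 7 n179795 = n110284 := d14_2 F337466 D179795 (iv6 D110284) F80209 D51514
theorem F364130 : act 3 n111757 = n179795 := d8_3 F364129 F170523 (iv7 F173442)
theorem F364131 : act 6 n136658 = n141166 := d21_5 (iv5 D64222) (iv1 D30253) D30255 D64230 D136658 (iv5 D141166) (iv1 D66216) (iv5 F81284) D111742 F337456
theorem F364132 : act 6 n91365 = n139421 := d21_3 (iv5 F329817) F329815 (iv5 F140494) (iv1 D139421) (iv6 D65436) (iv5 D30681) (iv1 F49128) (iv5 F98210) D134013 F337435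
theorem F364133 : act 3 n139421 = n91367 := d7_1 F364132 (iv6 D91367) D91365
theorem F364134 : act 4 n139421 = n140711 := d10_1 F364132 F363144 F345164
theorem F364135 : act 5 n139421 = n182183 := d12_1 F364132 (iv6 D182183) (iv5 D86987) D86988 (iv5 F140494)
theorem F364136 : act 0 n123980 = n182183 := d21_1 D123980 (iv5 F364135) (iv6 F364132) (iv1 F355602) (iv6 D123884) D123883 (iv1 F363292) F362805 F363298 (iv1 D123979)
theorem F364137 : act 5 n142000 = n115735 := d18_4 F337409 F337419 F168532 D142000 F180075 (iv0 D67485) F49629 (iv0 F168144) (iv5 F337411)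
theorem F364138 : act 7 n139735 = n111766 := d15_2 (iv0 F337413) F337414 F173451
theorem F364139 : act 5 n115736 = n109234 := d18_4 (iv1 F336695) F336697 (iv1 F168657) (iv4 F180066) F169178 (iv0 F81239) (iv4 F173134) F337414 (iv5 D139735)
theorem F364140 : act 1 n106946 = n140688 := d15_0 (iv0 F223779) (iv7 F172920) F337402
theorem F364141 : act 3 n108614 = n125519 := d7_1 F337400 (iv6 D125519) D125518
theorem F364142 : act 7 n125519 = n108797 := d8_2 (iv7 F168474) F364141 (iv3 D108797)
theorem F364143 : act 0 n180688 = n125519 := d20_4 F119938 (iv1 F254089) D86309 D180688 (iv3 F364141) (iv4 D108614) (iv1 D50150) (iv4 F79447) (iv3 F167989) F341843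
theorem F364144 : act 2 n108797 = n124230 := d4_1 F364142 (iv7 F337393) (iv2 F201869)
theorem F364145 : act 1 n108797 = n164010 := d15_0 (iv0 F337390) F337393 (iv2 F364144)
theorem F364146 : act 0 n180386 = n125520 := d20_4 (iv4 D121280) (iv1 F296946) (iv4 F132109) (iv3 F280716) (iv3 D125520) (iv4 D58761) D58759 F92854 (iv3 F164871) F337375
theorem F364147 : act 0 n126158 = n106963 := d21_4 F163628 (iv1 F82137) (iv5 F182523) D126158 (iv6 D106963) D106962 F337375 (iv5 F337373) F323815 (iv1 F163630)
theorem F364148 : act 3 n145720 = n129025 := d7_1 F337371 (iv6 D129025) D129022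
theorem F364149 : act 7 n129025 = n177331 := d8_2 (iv7 F326485) F364148 (iv3 D177331)
theorem F364150 : act 6 n177331 = n162904 := d14_1 F364149 F345580 F345575 F214149 D129025
theorem F364151 : act 4 n160359 = n177331 := d10_3 F364150 (iv4 F306131) F306132
theorem F364152 : act 6 n166699 = n96992 := d12_2 F337333 D166699 (iv5 F149580) (iv6 D95471) D95470
theorem F364153 : act 3 n96992 = n166701 := d7_1 F364152 (iv6 D166701) (iv3 F262380)
theorem F364154 : act 1 n178949 = n138529 := d18_6 F314499 F70637 D44939 F337320 (iv5 F243054) D178949 F221714 (iv0 F312810) (iv5 D127554)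
theorem F364155 : act 2 n95471 = n96260 := d3_3 (iv6 D96260) F337302 D95471
theorem F364156 : act 2 n95669 = n96992 := d2_3 (iv5 F149580) F364155 F148057
theorem F364157 : act 7 n96991 = n95669 := d15_2 F149579 F149585 F364156
theorem F364158 : act 7 n95668 = n96992 := d15_2 F149586 F149587 (iv2 F364156)
theorem F364159 : act 2 n96991 = n95668 := d4_3 F364158 (iv2 F364156) (iv7 F364157)
theorem F364160 : act 2 n185054 = n182048 := d2_1 F337275 (iv5 D182048) (iv2 F136853)
theorem F364161 : act 3 n185054 = n89154 := d6_1 F337275 (iv5 D89154) (iv3 F136854)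
theorem F364162 : act 6 n185054 = n171090 := d12_2 D89151 F337275 (iv5 D171090) (iv6 D82002) (iv5 F64271)
theorem F364163 : act 7 n185054 = n182144 := d13_2 (iv7 F333364) F337275 (iv5 D182144)
theorem F364164 : act 2 n182144 = n185055 := d15_3 F287441 F287439 F364163
theorem F364165 : act 7 n182048 = n185055 := d4_2 (iv7 F364163) F364160 (iv2 F364164)
theorem E103016 : n182049 = n181965 := ((c13_2 F364165 F287442 (iv7 D182049) D182048)).symm
theorem F364166 : act 2 n181965 = n86975 := (sb E103016 F333369)
theorem F364167 : act 7 n181965 = n86948 := (sb E103016 (iv7 D182049))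
theorem F364168 : act 0 n107716 = n152356 := d18_2 F321883 (iv4 F166356) F239557 (iv5 F251901) F251900 F337274 F133341 D92456 (iv5 F142250)
theorem F364169 : act 0 n159823 = n93853 := d20_4 (iv4 F136920) F337267 F178755 (iv3 F251899) (iv3 D93853) F142174 (iv1 F138032) (iv4 F142169) F142168 (iv1 D90133)
theorem F364170 : act 1 n159823 = n93844 := d15_1 (iv0 F364169) (iv7 F283529) F251692
theorem F364171 : act 0 n92748 = n105764 := d21_7 (iv5 F35032) (iv1 F54143) F54144 D46133 (iv1 F337227) D92452 (iv5 F143020) F162427 (iv6 D92675) (iv1 F68066)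
theorem E103017 : n143005 = n142648 := ((c3_4 F337182 (iv2 F316411) F189234 D142648)).symm
theorem F364172 : act 0 n142648 = n67023 := (sb E103017 (iv1 D143005))
theorem F364173 : act 1 n142648 = n67085 := (sb E103017 F225873)
theorem F364174 : act 6 n142648 = n76667 := (sb E103017 F337182)
theorem F364175 : act 3 n144520 = n142648 := d7_3 F364174 (iv3 F247846) F322310
theorem F364176 : act 6 n153688 = n110924 := d10_2 F337159 (iv4 F337157) (iv4 F175711)
theorem F364177 : act 2 n103762 = n153688 := d3_3 F364176 (iv2 D110924) (iv6 F337155)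
theorem F364178 : act 2 n124941 = n138619 := d15_3 (iv0 F337115) F337116 (iv7 F328077)
theorem F364179 : act 7 n138619 = n138306 := d4_2 (iv7 F328077) F364178 F328072
theorem F364180 : act 3 n134326 = n143384 := d5_3 D154802 F337113 (iv4 F329907) (iv4 D143384) (iv3 F310044)
theorem F364181 : act 6 n143134 = n179166 := d12_2 F337092 D143134 (iv5 D179166) (iv6 D85503) D85502
theorem F364182 : act 6 n158968 = n138177 := d3_2 (iv6 F333874) F337002 (iv2 D138177)
theorem F364183 : act 2 n158936 = n134238 := d15_3 (iv0 F336963) (iv0 F280346) F280345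
theorem F364184 : act 2 n164625 = n176050 := d15_3 (iv0 D176050) (iv0 F336931) (iv7 F259574)
theorem F364185 : act 0 n164625 = n173672 := d20_4 (iv4 F114419) D159520 F336923 D164625 (iv3 D173672) F301466 (iv1 F301081) (iv4 F128953) F332635 (iv1 D76320)
theorem F364186 : act 4 n173672 = n153958 := d20_0 (iv1 F251275) (iv4 D159543) (iv3 D76328) (iv1 D34869) (iv3 F55144) (iv4 F114419) D159520 F336923 D164625 F364185
theorem F364187 : act 2 n150008 = n159623 := d15_3 (iv0 F335032) (iv0 F364185) F259574
theorem F364188 : act 2 n134597 = n123606 := d1_3 (iv4 F361070) F364187 F355306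
theorem F364189 : act 7 n159623 = n176050 := d4_2 F259574 F364187 (iv2 F364184)
theorem F364190 : act 1 n164625 = n159500 := d15_0 (iv0 F355335) F364189 (iv2 F364184)
theorem F364191 : act 5 n164625 = n104368 := d21_0 (iv1 D104368) (iv5 F145319) (iv6 D94244) (iv1 D44055) (iv6 F65481) (iv5 D42400) F55118 D76296 D159500 (iv1 F364190)
theorem F364192 : act 3 n104368 = n115121 := d6_1 F364191 F333511 D164625
theorem F364193 : act 6 n104368 = n132757 := d21_9 F218432 (iv1 F214104) D133260 F319941 F104837 D113777 (iv5 F251178) (iv1 F364190) F364191 F218435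
theorem F364194 : act 5 n123606 = n134596 := d2_2 D134597 F364188 (iv2 D134596)
theorem F364195 : act 3 n179908 = n179910 := d6_3 F336911 F332269 D179908
theorem F364196 : act 4 n123605 = n176050 := d20_2 (iv4 F90767) D123605 F336872 (iv1 F251440) F114483 F55217 (iv1 F56563) (iv4 F177611) D76328 (iv1 F332618)
theorem F364197 : act 3 n123605 = n134515 := d5_3 F336849 (iv3 F336872) (iv4 F364196) (iv4 F352581) F352580
theorem F364198 : act 5 n110805 = n123605 := d6_0 F364197 (iv5 D134515) F211576
theorem F364199 : act 7 n134597 = n123605 := d8_0 F364197 F216468 (iv3 F216578)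
theorem E103018 : n110805 = n104366 := (c19_2 D123605 (iv5 F364198) F159998 F75909 F326528 (iv5 F317544) F59488 (iv3 F59409) (iv1 F128710) (iv5 F191403) (iv4 F234269) (iv3 F306301) (iv1 D71522) (iv5 F308943) (iv4 F53588) (iv3 D34134) D34132 (iv5 F328885) (iv4 F44423) (iv3 F90766))
theorem F364200 : act 1 n104366 = n51085 := (sb E103018 (iv0 D110805))
theorem F364201 : act 3 n104366 = n63213 := (sb E103018 (iv3 F211576))
theorem F364202 : act 5 n104366 = n123605 := (sb E103018 F364198)
theorem F364203 : act 7 n104366 = n63244 := (sb E103018 F211607)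
theorem F364204 : act 7 n134598 = n104412 := d14_2 F364203 D134598 (iv6 D104412) F75935 D104366
theorem F364205 : act 3 n104412 = n134604 := d8_1 F364204 (iv7 D134604) (iv3 F216579)
theorem F364206 : act 4 n104415 = n134598 := d11_3 F364204 F160071 D104415
theorem F364207 : act 6 n134604 = n104410 := d7_2 D104412 F364205 (iv3 D104410)
theorem E103019 : n136928 = n134289 := ((c20_4 F98263 D110803 F171562 D134289 F220111 F364205 F216580 (iv1 F340129) (iv4 F325106) (iv3 F326052) (iv1 F168435))).symm
theorem F364208 : act 0 n134289 = n104412 := (sb E103019 F220111)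
theorem F364209 : act 6 n134289 = n64364 := (sb E103019 (iv6 D136928))
theorem F364210 : act 6 n114109 = n135258 := d10_2 F364209 (iv4 F177713) F217461
theorem F364211 : act 2 n135258 = n148776 := d3_1 F364210 (iv6 D148776) (iv2 F177709)
theorem F364212 : act 0 n135258 = n90441 := d21_4 F139183 (iv1 F114689) D114109 F364210 (iv6 D90441) (iv5 D42296) (iv1 D19960) D19961 (iv6 F65307) D90429
theorem F364213 : act 7 n170405 = n127679 := d8_2 F336845 (iv3 F267878) (iv3 D127679)
theorem F364214 : act 7 n170411 = n127680 := d11_2 F336845 (iv4 F267881) (iv4 D127680)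
theorem F364215 : act 0 n135662 = n126535 := d20_7 (iv4 F77527) (iv1 F177633) (iv4 D52608) D52607 D113967 F336813 D135662 (iv4 F332591) (iv3 D106273) (iv1 D49108)
theorem F364216 : act 3 n183775 = n175532 := d19_19 (iv1 F274875) (iv5 F275057) (iv4 D175681) (iv3 F336800) (iv1 D146434) F104869 F307282 F63916 D41483 F63937 (iv4 D41202) F31003 D19387 F31013 (iv4 F61898) (iv3 F134469) D183528 F285254 D183775
theorem F364217 : act 4 n154653 = n183774 := d5_4 D183775 F364216 F274877 (iv3 F338100) (iv3 D183774)
theorem F364218 : act 2 n183774 = n177959 := d1_1 F364217 (iv4 D177959) (iv2 F338099)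
theorem F364219 : act 0 n159642 = n146523 := d21_10 (iv5 D146523) (iv1 F321365) (iv5 F193440) F193441 (iv1 F114549) D76421 (iv5 F336798) (iv1 F179376) F327306 D159642
theorem F364220 : act 4 n102663 = n185126 := d18_5 F336765 F137186 D89542 F137266 F335643 (iv0 D185126) (iv4 D88232) D88231 (iv5 F295453)
theorem F364221 : act 3 n183465 = n110788 := d6_3 F336764 (iv3 F293577) F293578
theorem F364222 : act 6 n110787 = n183465 := d7_0 F364221 (iv6 D110788) D110787
theorem E103020 : n124022 = n108903 := (c21_5 (iv5 D57299) (iv1 F44357) (iv5 F44474) D57777 D124022 (iv6 D108903) (iv5 D50283) (iv1 F39008) D51111 F336747 F301454)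
theorem F364223 : act 1 n108903 = n57777 := (sb E103020 (iv0 D124022))
theorem E103021 : n139378 = n124023 := ((c15_2 F364223 D124023 (iv7 D139378) (iv2 F168909))).symm
theorem F364224 : act 7 n124023 = n65415 := (sb E103021 (iv7 D139378))
theorem F364225 : act 5 n170725 = n111726 := d6_2 F336742 D170725 F173434
theorem E103022 : n109204 = n108621 := (c21_5 (iv5 D49387) (iv1 F37772) (iv5 F38552) D50394 D109204 (iv6 D108621) (iv5 D50153) F49286 (iv5 F79673) F336708 F84196)
theorem F364226 : act 1 n108621 = n50394 := (sb E103022 (iv0 D109204))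
theorem F364227 : act 0 n108779 = n134744 := d21_4 (iv5 D24543) (iv1 F38514) (iv5 F79577) D108779 (iv6 D134744) F98553 F79436 D53369 (iv6 F336708) (iv1 F79675)
theorem E103023 : n109205 = n108877 := (c15_2 F364226 D109205 (iv7 D108877) (iv2 F168488))
theorem F364228 : act 0 n108877 = n50394 := (sb E103023 (iv1 D109205))
theorem E103024 : n108875 = n106932 := ((c21_4 (iv5 D63312) (iv1 F48051) (iv5 F78127) D106932 (iv1 D108875) (iv6 D50271) (iv5 D24518) (iv1 F38450) D50214 F336704 (iv1 F98538))).symm
theorem F364229 : act 0 n106932 = n50271 := (sb E103024 (iv1 D108875))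
theorem E103025 : n186365 = n135038 := ((c0_3 D91181 F336665 (iv3 F217269) F289155 F143837 F141303)).symm
theorem F364230 : act 2 n135038 = n93258 := (sb E103025 F289155)
theorem F364231 : act 5 n135038 = n88775 := (sb E103025 (iv5 D186365))
theorem F364232 : act 6 n93258 = n135033 := d3_2 D135038 F364230 F217267
theorem F364233 : act 3 n135033 = n93262 := d7_1 F364232 (iv6 D93262) (iv3 F143837)
theorem F364234 : act 6 n100822 = n116276 := d7_2 D116278 F336659 (iv3 D116276)
theorem F364235 : act 6 n102612 = n158856 := d10_2 F364234 (iv4 F362228) F356159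
theorem F364236 : act 4 n174678 = n150668 := d18_3 F336614 F302658 D174678 (iv5 F237210) F206393 (iv0 F200418) (iv4 F206279) (iv0 F315319) F333982
theorem F364237 : act 3 n166411 = n144839 := d20_5 (iv4 D18340) D18338 D38473 (iv3 F122640) D166411 (iv4 F230704) F336614 F302658 (iv3 D83467) (iv1 D38481)
theorem F364238 : act 6 n141566 = n166411 := d7_0 F364237 (iv6 D144839) (iv3 F224602)
theorem F364239 : act 0 n131962 = n106837 := d20_4 F96557 (iv1 F78039) (iv4 F104284) D131962 (iv3 F213507) F213508 F336585 (iv4 F208143) (iv3 D129792) F164007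
theorem F364240 : act 2 n176876 = n160949 := d1_1 F336541 (iv4 D160949) (iv2 F336540)
theorem F364241 : act 5 n160949 = n104631 := d2_2 F358124 F364240 (iv2 F358141)
theorem F364242 : act 0 n96011 = n165769 := d21_4 (iv5 F75453) F70372 D44803 (iv6 F147638) (iv6 F336532) F364241 (iv1 D104631) (iv5 F158392) (iv6 D103105) (iv1 F75451)
theorem F364243 : act 1 n96011 = n158894 := d15_1 (iv0 F364242) (iv7 F254229) (iv2 F261160)
theorem F364244 : act 5 n163351 = n96009 := d17_5 (iv1 D79618) (iv5 F322726) (iv1 F334293) F334291 D163351 (iv0 D96009) D96011 F364243 F250187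
theorem F364245 : act 5 n100090 = n160948 := d6_2 F336539 (iv3 F323429) (iv3 D160948)
theorem F364246 : act 0 n126335 = n160948 := d19_0 (iv5 F364245) (iv4 D100090) (iv3 D46728) (iv1 F73295) (iv5 F152915) (iv4 F331773) F223477 D140568 F342423 (iv4 D66102) F49355 F318496 (iv5 F318618) F100902 (iv3 F166317) F166320 (iv5 D59227) D59226 D126335
theorem F364247 : act 6 n166707 = n112100 := d7_2 F336506 D166707 (iv3 F318889)
theorem F364248 : act 3 n174238 = n159325 := d20_5 F129379 (iv1 F296594) (iv4 F298022) D83286 D174238 F250823 F336479 D121075 F193100 (iv1 F129381)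
theorem F364249 : act 6 n98132 = n174238 := d7_0 F364248 (iv6 D159325) (iv3 F151333)
theorem F364250 : act 7 n106145 = n152353 := d8_0 F336467 (iv7 F324741) D106145
theorem F364251 : act 2 n106145 = n152354 := d15_3 F314192 (iv0 F314191) (iv7 F364250)
theorem F364252 : act 6 n175932 = n106145 := d3_0 F364251 (iv6 F343355) F342085
theorem E103026 : n155974 = n106148 := ((c7_3 F364252 (iv3 D106145) D106148 (iv3 F342086))).symm
theorem F364253 : act 1 n106148 = n142835 := (sb E103026 F245010)
theorem F364254 : act 2 n106148 = n145915 := (sb E103026 F245009)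
theorem F364255 : act 3 n106148 = n175932 := (sb E103026 (iv3 F342086))
theorem F364256 : act 4 n106148 = n74184 := (sb E103026 (iv4 D155974))
theorem F364257 : act 7 n135657 = n135860 := d11_2 F336463 D135657 (iv4 D135860)
theorem F364258 : act 2 n135657 = n135855 := d15_3 (iv0 F350917) (iv0 F362724) (iv7 F364257)
theorem F364259 : act 6 n135855 = n113619 := d3_2 (iv6 F329784) F364258 F176803
theorem F364260 : act 2 n135662 = n135860 := d1_3 (iv4 D135860) F336462 D135662
theorem F364261 : act 7 n135855 = n135662 := d4_0 F364260 (iv7 F364257) F364258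
theorem F364262 : act 1 n135657 = n126535 := d15_0 (iv0 F364215) (iv7 F364261) (iv2 F364258)
theorem F364263 : act 4 n95735 = n112927 := d10_1 F336411 (iv6 D112927) D112926
theorem F364264 : act 4 n135522 = n144186 := d17_4 F175871 F359564 (iv1 D135521) D135522 F360341 (iv0 D104855) F76240 (iv0 F157629) F364263
theorem F364265 : act 4 n95970 = n133217 := d1_2 F364264 F360337 (iv2 F217923)
theorem F364266 : act 6 n144186 = n135529 := d10_2 (iv6 F217924) F364264 (iv4 D135529)
theorem F364267 : act 6 n133226 = n95970 := d3_2 F364266 F217943 (iv2 F360337)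
theorem F364268 : act 3 n135529 = n130632 := d7_1 F364266 (iv6 F331412) (iv3 F360340)
theorem F364269 : act 4 n130631 = n135518 := d5_4 D135529 F364268 (iv4 D130632) D130631 F217920
theorem F364270 : act 3 n158858 = n160990 := d20_5 F81643 (iv1 F326187) D34663 D75801 D158858 F254495 (iv1 F336339) (iv4 F119584) (iv3 D78376) F326152
theorem F364271 : act 6 n160988 = n158858 := d7_0 F364270 (iv6 D160990) D160988
theorem F364272 : act 6 n147711 = n158043 := d10_2 F336336 D147711 F248995
theorem F364273 : act 6 n165767 = n89871 := d14_3 (iv7 F336335) F364272 (iv7 F261155) (iv7 F293446) F328300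
theorem F364274 : act 5 n95558 = n165767 := d12_5 F364273 (iv5 D89871) F64779 D44634 D95558
theorem F364275 : act 6 n158042 = n174232 := d21_5 (iv5 F71535) (iv1 F71538) D89871 (iv6 F364273) (iv1 F261158) (iv5 F362525) (iv1 D104764) (iv5 F148400) (iv6 D96403) (iv1 F70792)
theorem F364276 : act 2 n165765 = n158042 := d3_3 F364275 F362526 (iv6 F358418)
theorem F364277 : act 7 n158041 = n165765 := d15_2 F261158 F261156 F364276
theorem F364278 : act 7 n165766 = n158042 := d15_2 (iv0 D165765) D165766 (iv2 F364276)
theorem F364279 : act 2 n158041 = n165766 := d4_3 F364278 (iv2 F364276) (iv7 F364277)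
theorem F364280 : act 4 n184347 = n128179 := d18_3 D128116 F336305 D184347 F206314 (iv4 F109304) F109308 (iv4 F190724) (iv0 D60205) D60207
theorem F364281 : act 7 n128178 = n184347 := d11_0 F364280 (iv7 D128179) D128178
theorem F364282 : act 3 n161365 = n154122 := d20_5 F323536 (iv1 F101759) F322787 (iv3 F116285) D161365 (iv4 D154122) (iv1 F307364) (iv4 F336289) (iv3 D141060) F324867
theorem F364283 : act 2 n152634 = n161365 := d0_5 F364282 (iv2 F332002) F273298 (iv2 F271685) F271686
theorem F364284 : act 5 n118488 = n161365 := d6_0 F364282 F332009 F273239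
theorem F364285 : act 7 n118487 = n161365 := d8_0 F364282 (iv7 F332008) F273236
theorem F364286 : act 0 n161365 = n152632 := d19_4 (iv1 F92131) D72978 D154122 (iv3 F364282) (iv5 F239843) F189148 F87253 F305963 F309498 F61206 F50907 (iv1 F189889) (iv5 F107272) F303552 F151509 (iv1 F113039) D75786 (iv4 F317252) F199452
theorem F364287 : act 6 n163074 = n161365 := d21_9 (iv5 F239843) F243955 D155132 F350974 (iv1 D74148) D74150 (iv5 F311449) D124474 (iv5 F341244) F364286
theorem F364288 : act 1 n155057 = n118487 := d15_1 F332043 F364285 (iv2 F364283)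
theorem E103027 : n141625 = n141533 := (c8_4 F336236 F162306 F320120 D141625)
theorem F364289 : act 3 n141533 = n66428 := (sb E103027 (iv3 D141625))
theorem F364290 : act 6 n141533 = n152681 := (sb E103027 F320121)
theorem F364291 : act 0 n154725 = n141626 := d20_1 (iv4 F242910) (iv4 D141626) (iv3 F364289) (iv1 D141533) (iv3 D66389) D66390 (iv1 F330613) (iv4 F326860) F326859 F323650
theorem F364292 : act 7 n109343 = n142357 := d8_2 F181712 F336226 (iv3 D142357)
theorem F364293 : act 7 n136312 = n136315 := d15_2 F336189 D136312 F219381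
theorem F364294 : act 2 n105708 = n136312 := d4_3 F364293 F219381 F336191
theorem F364295 : act 5 n105693 = n133993 := d2_2 D133994 F336186 (iv2 D133993)
theorem F364296 : act 0 n125730 = n113220 := d19_8 D105659 F336180 F93036 (iv3 D27982) (iv1 F45220) D58813 (iv4 F93097) D125730 (iv5 D113220) F318605 F129781 (iv1 F60705) D78756 F316436 F320610 (iv1 D66840) (iv5 D31148) (iv4 F49494) (iv3 F76918)
theorem F364297 : act 2 n136286 = n141283 := d0_3 F336179 F99669 D136286 (iv3 D141283) F162254
theorem F364298 : act 4 n141290 = n136286 := d1_0 F364297 F224302 D141290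
theorem F364299 : act 4 n105562 = n141309 := d1_2 (iv4 F224324) F336176 (iv2 D141309)
theorem F364300 : act 4 n137313 = n105635 := d5_0 F336174 (iv4 F179739) (iv3 F162107) F162108 D137313
theorem F364301 : act 5 n115435 = n144423 := d6_2 F162345 F336174 (iv3 D144423)
theorem F364302 : act 1 n136200 = n113853 := d18_8 F216965 (iv4 F331793) F331790 (iv4 D133571) F163940 (iv4 F323861) D64038 D136200 F336154
theorem F364303 : act 7 n145332 = n107349 := d13_2 (iv7 F165380) F336121 (iv5 D107349)
theorem F364304 : act 2 n107355 = n145330 := d3_3 (iv6 D145330) F336116 D107355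
theorem F364305 : act 2 n145334 = n107339 := d3_3 (iv6 D107339) F336113 D145334
theorem F364306 : act 3 n137197 = n126738 := d20_3 (iv4 F336105) (iv1 F218844) D137197 (iv1 D126738) F93864 F45761 (iv1 D14473) D14474 D30497 D64894
theorem F364307 : act 5 n126832 = n137197 := d6_0 F364306 F347037 D126832
theorem F364308 : act 3 n163954 = n157976 := d20_5 F87612 F56236 (iv4 F56526) D78767 D163954 F248862 (iv1 F336082) (iv4 F324072) (iv3 D55358) D55356
theorem F364309 : act 6 n157974 = n163954 := d7_0 F364308 (iv6 D157976) D157974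
theorem F364310 : act 6 n134738 = n90686 := d7_2 D90688 F336078 (iv3 D90686)
theorem F364311 : act 2 n90686 = n134742 := d3_1 F364310 (iv6 D134742) (iv2 F216763)
theorem E103028 : n108580 = n101174 := (c2_3 (iv5 F293005) F364311 F216773 (iv2 D101174))
theorem F364312 : act 3 n101174 = n50138 := (sb E103028 F167912)
theorem F364313 : act 5 n101174 = n134742 := (sb E103028 (iv5 F216773))
theorem F364314 : act 6 n101174 = n50133 := (sb E103028 (iv6 D108580))
theorem F364315 : act 6 n124662 = n132802 := d12_4 D132803 F336072 F334677 F334607 (iv5 D132802)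
theorem F364316 : act 4 n132802 = n175450 := d10_1 F364315 (iv6 D175450) (iv4 F334606)
theorem F364317 : act 6 n121216 = n132800 := d7_2 D132803 F336070 (iv3 D132800)
theorem F364318 : act 3 n123337 = n160788 := d7_3 F336020 F253106 (iv6 F197649)
theorem F364319 : act 5 n135848 = n145342 := d6_0 F335983 (iv5 D135851) (iv3 F218507)
theorem F364320 : act 5 n150772 = n99423 := d6_0 F335922 (iv5 D150773) D150772
theorem F364321 : act 2 n99431 = n150772 := d2_3 F364320 F155659 D99431
theorem F364322 : act 7 n99428 = n150772 := d13_0 F364320 F155660 D99428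
theorem F364323 : act 0 n89412 = n150772 := d17_2 (iv1 D89411) D89412 F364320 (iv4 F153148) D101041 F344196 F159457 (iv0 F344203) F349306
theorem F364324 : act 5 n106234 = n135507 := d12_5 F335895 (iv5 D106231) (iv6 F77493) D49093 D106234
theorem F364325 : act 6 n151401 = n135517 := d21_3 F104831 D71365 D151401 (iv1 D135517) (iv6 D63719) D63718 F216324 F218274 D135541 F335888
theorem F364326 : act 4 n135517 = n144782 := d10_1 F364325 F227658 (iv4 F349033)
theorem F364327 : act 0 n146456 = n135517 := d21_4 (iv5 F184401) (iv1 F229791) (iv5 D146455) D146456 (iv6 F364325) (iv5 D151401) (iv1 F186617) (iv5 F349037) F349038 F183652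
theorem F364328 : act 7 n146456 = n135512 := d15_2 D135517 (iv0 F364327) F217915
theorem F364329 : act 2 n135519 = n146456 := d4_3 F364328 F217915 D135519
theorem F364330 : act 1 n146456 = n135516 := d15_0 (iv0 D135516) D135519 F364329
theorem F364331 : act 6 n134307 = n135063 := d7_2 F335887 D134307 (iv3 D135063)
theorem F364332 : act 0 n147975 = n147971 := d21_4 (iv5 D146325) D146323 (iv5 F229664) D147975 (iv6 D147971) F105599 F55384 D54085 (iv6 F335880) (iv1 F229667)
theorem F364333 : act 4 n133364 = n159593 := d1_0 F335868 (iv4 D133368) (iv2 F214414)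
theorem F364334 : act 0 n170405 = n117109 := d21_4 D134394 (iv1 F335852) (iv5 D170404) D170405 (iv6 D117109) F85149 (iv1 F83045) F329165 (iv6 F331675) (iv1 D134392)
theorem E103029 : n137363 = n134112 := (c20_7 (iv4 D25766) (iv1 F23492) D29619 D62630 D133440 F335832 (iv4 F220562) (iv1 D134112) F98314 (iv3 D62636) (iv1 F47576))
theorem F364335 : act 2 n134112 = n64575 := (sb E103029 F220561)
theorem F364336 : act 4 n134112 = n113777 := (sb E103029 F220562)
theorem F364337 : act 6 n134112 = n64570 := (sb E103029 (iv6 D137363))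
theorem F364338 : act 1 n185852 = n90542 := d15_1 (iv0 F335784) (iv7 F143158) F143156
theorem F364339 : act 1 n92575 = n90573 := d15_0 (iv0 F335784) (iv7 F290221) (iv2 F142606)
theorem F364340 : act 1 n90542 = n92575 := d15_0 F364339 (iv7 F143128) F143126
theorem E103030 : n98019 = n90289 := (c16_8 (iv4 F333334) (iv5 D148452) F105841 D69579 (iv4 F324854) (iv5 D148310) D148309 F335782 F335767 (iv2 F335772))
theorem F364341 : act 0 n90289 = n45751 := (sb E103030 (iv1 D98019))
theorem F364342 : act 1 n90289 = n88472 := (sb E103030 F291660)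
theorem F364343 : act 5 n90289 = n148309 := (sb E103030 (iv5 F335782))
theorem F364344 : act 6 n153925 = n148309 := d21_5 D66955 D142848 F225742 D143656 F333386 (iv5 F364343) F364341 (iv5 F291662) F333376 (iv1 D66954)
theorem F364345 : act 6 n143762 = n167897 := d21_5 F145391 (iv1 F364342) F364343 (iv6 F364344) (iv1 F315722) (iv5 F324350) F324347 (iv5 F318182) F318183 (iv1 F335781)
theorem F364346 : act 5 n100254 = n92586 := d21_0 (iv1 F142619) F138873 (iv6 F67982) (iv1 F67984) D90289 F364343 F346195 (iv5 D92518) (iv6 F291333) D100254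
theorem F364347 : act 7 n93786 = n100254 := d13_0 F364346 F344309 (iv5 F144566)
theorem F364348 : act 0 n143763 = n128129 := d21_1 D143763 (iv5 D128129) F94780 (iv1 F105279) D147303 F230947 (iv1 F324348) F324350 (iv6 F364345) (iv1 D143762)
theorem F364349 : act 0 n92848 = n90288 := d21_7 (iv5 F291662) F333373 (iv5 F333355) F333356 (iv1 F142281) (iv6 F291333) (iv5 F292119) (iv5 D90288) D90289 F364341
theorem E103031 : n100255 = n94134 := ((c21_10 (iv5 F292119) F364349 (iv5 D90288) D90289 F364341 F72205 D45757 (iv1 F295140) (iv5 D94133) D94134 (iv1 D100255))).symm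
theorem F364350 : act 0 n94134 = n46783 := (sb E103031 (iv1 D100255))
theorem F364351 : act 1 n92848 = n90283 := d15_1 (iv0 F364349) F155678 (iv2 F155682)
theorem F364352 : act 6 n92848 = n140835 := d21_3 (iv5 F145090) F364350 (iv5 F292119) F358477 (iv6 D183150) F134178 (iv1 F294568) F294570 (iv6 F362821) (iv1 F142614)
theorem E103032 : n100664 = n94134 := ((c15_1 (iv0 F364350) (iv0 D100664) (iv7 F292197) F292118)).symm
theorem F364353 : act 1 n94134 = n46950 := (sb E103032 (iv0 D100664))
theorem E103033 : n100665 = n100254 := (c15_2 F364353 D100665 (iv7 F364347) (iv2 F344307))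
theorem F364354 : act 0 n100254 = n46950 := (sb E103033 (iv1 D100665))
theorem F364355 : act 5 n90542 = n100668 := d21_2 D92575 (iv1 F364340) (iv6 D100668) (iv1 F364353) (iv6 D94134) D94133 F290243 F144733 (iv6 D88521) F290235
theorem F364356 : act 2 n100668 = n92475 := d2_1 F364355 (iv5 F143127) F143126
theorem F364357 : act 7 n100668 = n92471 := d13_2 F143158 F364355 (iv5 F143157)
theorem F364358 : act 0 n93791 = n100668 := d21_10 (iv5 F364355) (iv1 F364338) (iv5 D185852) F290237 (iv1 F135448) (iv6 F292601) (iv5 F129395) (iv1 F335771) (iv5 D93790) D93791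
theorem F364359 : act 0 n100667 = n90283 := d21_7 (iv5 F129395) (iv1 F335771) (iv5 D93790) D93791 F364358 (iv6 D100668) D100667 (iv5 D90283) F294553 (iv1 D88615)
theorem F364360 : act 1 n93791 = n90154 := d15_1 (iv0 F364358) (iv7 F142299) (iv2 F364356)
theorem F364361 : act 0 n134509 = n135828 := d21_4 F139404 (iv1 F364360) F335769 F349141 (iv6 D135828) F209509 (iv1 D130908) F209515 (iv6 F335804) F335784
theorem F364362 : act 1 n134509 = n135838 := d15_1 (iv0 F364361) (iv7 D135838) (iv2 F218471)
theorem F364363 : act 1 n100667 = n90288 := d15_1 (iv0 F364359) (iv7 F155685) (iv2 F155686)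
theorem F364364 : act 7 n100667 = n90630 := d15_2 F364351 (iv0 F364359) (iv2 F143215)
theorem F364365 : act 1 n94139 = n92471 := d15_1 (iv0 F335793) (iv7 F364357) F364356
theorem F364366 : act 6 n185855 = n135836 := d21_3 F143157 (iv1 F364365) (iv5 F290245) (iv1 D135836) (iv6 D63871) D63870 (iv1 F209513) (iv5 F209515) D130910 F335786
theorem F364367 : act 2 n135836 = n134509 := d3_1 F364366 (iv6 F349141) (iv2 F344296)
theorem F364368 : act 6 n92475 = n99332 := d3_2 D100668 F364356 F295272
theorem F364369 : act 0 n99332 = n93786 := d21_4 D90274 (iv1 F335791) F143127 F364368 (iv6 D93786) D93785 F344301 F129395 F292601 F290220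
theorem F364370 : act 1 n90263 = n93786 := d15_0 (iv0 F364369) F152964 (iv2 F292118)
theorem F364371 : act 0 n90630 = n92584 := d21_1 (iv5 F139542) (iv5 D92584) D92585 F349302 (iv6 F292651) D98038 (iv1 F344302) (iv5 D93785) D93786 (iv1 F364370)
theorem F364372 : act 4 n184506 = n100549 := d20_6 D42499 (iv1 F139544) (iv4 D90631) D90630 F364371 (iv3 F286447) (iv1 D100549) (iv4 F340056) (iv3 D90759) (iv1 D42498)
theorem F364373 : act 1 n90630 = n92580 := d15_1 (iv0 F364371) F155685 F155682
theorem F364374 : act 3 n140835 = n92850 := d7_1 F364352 (iv6 D92850) D92848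
theorem E103034 : n114076 = n106310 := (c18_1 D114076 F317601 D119970 F335779 F145391 F135452 (iv0 F291659) (iv4 F333334) (iv0 F333333) (iv5 D114080))
theorem F364375 : act 1 n106310 = n52653 := (sb E103034 (iv0 D114076))
theorem F364376 : act 4 n134243 = n102546 := d18_7 (iv1 F126277) F126273 (iv1 F89712) (iv4 F335702) F335731 F172414 D134243 F289892 (iv5 D82034)
theorem F364377 : act 7 n160305 = n134243 := d11_0 F364376 (iv7 F335634) (iv4 F360251)
theorem F364378 : act 2 n160305 = n134242 := d15_3 (iv0 D134242) D134243 (iv7 F364377)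
theorem F364379 : act 4 n134242 = n102541 := d1_2 (iv4 F360251) F364378 (iv2 F335631)
theorem F364380 : act 6 n134242 = n120456 := d3_2 D160305 F364378 F357681
theorem F364381 : act 7 n89092 = n186562 := d11_2 F335726 (iv4 F136808) (iv4 D186562)
theorem F364382 : act 1 n172207 = n95753 := d15_0 F289501 (iv7 F364381) (iv2 F270401)
theorem F364383 : act 2 n89353 = n186562 := d1_3 (iv4 D186562) F335725 D89353
theorem F364384 : act 7 n172207 = n89353 := d4_0 F364383 (iv7 F364381) (iv2 F270401)
theorem F364385 : act 0 n108559 = n100178 := d20_4 (iv4 F171582) (iv1 D108105) (iv4 F79401) (iv3 F167891) (iv3 D100178) (iv4 D46754) (iv1 F73861) D100154 F335718 (iv1 F167846)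
theorem F364386 : act 6 n108536 = n89582 := d3_2 F335710 D108536 (iv2 F292916)
theorem F364387 : act 6 n108443 = n106872 := d21_5 F142787 (iv1 F142671) F349182 (iv6 F364386) (iv1 F167826) F350393 (iv1 F350413) (iv5 D106865) F329668 (iv1 F292940)
theorem F364388 : act 2 n108534 = n108443 := d3_3 F364387 (iv2 F219093) (iv6 F338935)
theorem F364389 : act 7 n108442 = n108534 := d15_2 F167826 F167824 F364388
theorem F364390 : act 7 n108535 = n108443 := d15_2 (iv0 D108534) D108535 (iv2 F364388)
theorem F364391 : act 2 n108442 = n108535 := d4_3 F364390 (iv2 F364388) (iv7 F364389)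
theorem F364392 : act 2 n98391 = n122405 := d2_3 (iv5 D122405) F335700 D98391
theorem F364393 : act 7 n122400 = n98391 := d15_2 (iv0 F362786) (iv0 F195849) F364392
theorem F364394 : act 2 n122400 = n89597 := d4_3 (iv7 F335609) (iv2 F364392) (iv7 F364393)
theorem F364395 : act 3 n98858 = n122400 := d0_0 F364394 F137362 (iv2 F135774) (iv3 F288567) F288566
theorem E103035 : n185983 = n98380 := (c20_1 D185983 (iv1 D98380) (iv4 F151809) F151808 (iv1 F335690) (iv3 D40406) (iv4 D19088) (iv1 F30596) (iv4 F61382) (iv3 F133331) (iv1 F135740))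
theorem F364396 : act 2 n98380 = n181945 := (sb E103035 F288495)
theorem F364397 : act 4 n98380 = n88592 := (sb E103035 (iv4 D185983))
theorem F364398 : act 7 n98380 = n181942 := (sb E103035 F288496)
theorem E103036 : n182923 = n98379 := (c15_4 (iv0 D98379) D98380 F364398 F284510)
theorem F364399 : act 2 n98379 = n181942 := (sb E103036 (iv2 F284510))
theorem F364400 : act 3 n98379 = n87337 := (sb E103036 (iv3 D182923))
theorem F364401 : act 4 n98379 = n88591 := (sb E103036 F284509)
theorem F364402 : act 7 n98379 = n181945 := (sb E103036 (iv7 F284511))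
theorem E103037 : n182996 = n103334 := (c3_3 F335689 (iv2 F335685) D182996 (iv2 D103334))
theorem F364403 : act 6 n103334 = n87360 := (sb E103037 (iv6 D182996))
theorem F364404 : act 3 n177893 = n89534 := d7_3 F137246 F335669 D177893
theorem F364405 : act 5 n89519 = n177893 := d6_0 F364404 (iv5 D89534) (iv3 F137227)
theorem F364406 : act 5 n177929 = n138630 := d21_0 (iv1 F363033) F364405 (iv6 D177893) (iv1 D84689) F60130 (iv5 D18574) D18572 D39122 D84703 D177929
theorem F364407 : act 0 n123872 = n177893 := d21_7 F335628 (iv1 F74796) F306485 F328341 (iv1 F80894) (iv6 F329886) D123872 (iv5 F364405) (iv6 D89519) D89516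
theorem F364408 : act 4 n138630 = n134285 := d17_4 (iv1 F350262) F300527 D177929 F364406 F357149 (iv0 D123129) (iv5 D57295) (iv0 F342785) (iv4 F98424)
theorem F364409 : act 2 n171168 = n88877 := d3_3 (iv6 D88877) F335664 D171168
theorem F364410 : act 6 n134349 = n89516 := d21_5 F80892 (iv1 F47927) D29846 D63114 D134349 F335628 (iv1 F74796) F306485 F328341 (iv1 F80894)
theorem E103038 : n101418 = n101369 := (c20_5 D87746 F134709 (iv4 D47202) D47201 D101418 F156133 D102062 F328173 (iv4 F245931) F335578 F133552)
theorem F364411 : act 1 n101369 = n47201 := (sb E103038 (iv0 D101418))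
theorem F364412 : act 2 n137627 = n139565 := d2_3 F335551 F219026 D137627
theorem F364413 : act 0 n137234 = n139565 := d17_2 D64500 D137234 F335551 F219027 F99575 F81357 F81354 F48518 D30366
theorem F364414 : act 4 n139565 = n137228 := d18_1 F364413 (iv1 D137228) (iv4 D64498) (iv5 D30364) F24064 D14414 D30368 F100433 D137234
theorem F364415 : act 3 n137228 = n107096 := d5_1 F364414 F165070 (iv3 F171683) F171684 (iv3 F222714)
theorem F364416 : act 6 n137228 = n107094 := d10_2 D139565 F364414 F165068
theorem F364417 : act 3 n167687 = n111125 := d20_5 (iv4 D64498) D64496 D137222 F360991 D167687 (iv4 D111125) (iv1 F100275) (iv4 F165070) (iv3 F364415) (iv1 D137228)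
theorem F364418 : act 6 n139716 = n167687 := d7_0 F364417 F172337 (iv3 F222889)
theorem F364419 : act 3 n127337 = n153170 := d8_3 F312400 F364417 (iv7 F204573)
theorem F364420 : act 3 n147506 = n128800 := d7_3 F207049 F364419 F242941
theorem F364421 : act 6 n139563 = n137627 := d3_0 F364412 (iv6 D139565) D139563
theorem F364422 : act 5 n137625 = n139563 := d12_5 F364421 (iv5 D137627) (iv6 D64691) D64690 D137625
theorem F364423 : act 0 n139563 = n93321 := d21_4 (iv5 F220780) (iv1 D137626) D137627 (iv6 F364421) F362367 F345100 F345097 F171813 (iv6 F338256) (iv1 F220385)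
theorem F364424 : act 1 n139563 = n101036 := d15_1 (iv0 F364423) (iv7 F338300) (iv2 F338296)
theorem F364425 : act 7 n139563 = n101058 := d15_2 F328892 (iv0 F364423) (iv2 F328893)
theorem F364426 : act 5 n95741 = n144245 := d13_3 (iv7 F226934) F335529 (iv7 F335526)
theorem F364427 : act 2 n151523 = n115013 := d2_3 (iv5 D115013) F335502 D151523
theorem E103039 : n151638 = n146523 := ((c2_1 D146523 F335471 (iv5 D121330) (iv2 F321025))).symm
theorem F364428 : act 2 n146523 = n121330 := (sb E103039 F335471)
theorem F364429 : act 7 n146523 = n71467 := (sb E103039 (iv7 D151638))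
theorem F364430 : act 1 n159642 = n114853 := d15_1 (iv0 F364219) (iv7 F193460) (iv2 F364428)
theorem F364431 : act 7 n103638 = n98650 := d15_2 (iv0 D103637) D103638 (iv2 F335412)
theorem F364432 : act 2 n98651 = n103638 := d4_3 F364431 (iv2 F335412) F335415
theorem F364433 : act 6 n99074 = n103638 := d14_5 F364431 F289317 (iv7 F283589) D185982 (iv7 F288492)
theorem F364434 : act 5 n103638 = n100639 := d21_6 (iv5 F295020) (iv1 D93287) F294373 D46342 D99074 F364433 (iv1 F154735) (iv5 D87822) (iv6 F294663) (iv1 F138656)
theorem F364435 : act 1 n103638 = n90771 := d15_0 (iv0 F335411) F335415 F364432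
theorem E103040 : n172093 = n93198 := (c10_3 D93200 F335328 D172093 (iv4 D93198))
theorem F364436 : act 2 n93198 = n84246 := (sb E103040 F270240)
theorem F364437 : act 5 n93198 = n82424 := (sb E103040 F270241)
theorem F364438 : act 6 n93198 = n82418 := (sb E103040 (iv6 D172093))
theorem F364439 : act 0 n93198 = n95779 := d21_4 F331175 F299452 D82418 (iv6 F364438) (iv6 D95779) (iv5 F120352) F120354 (iv5 D46982) D46983 D100751
theorem F364440 : act 1 n93198 = n183117 := d15_1 (iv0 F364439) F284733 F149788
theorem F364441 : act 7 n93198 = n89113 := d15_2 F294340 (iv0 F364439) (iv2 F294341)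
theorem F364442 : act 5 n89113 = n172112 := d13_1 F364441 (iv7 D172112) (iv5 F364437)
theorem F364443 : act 1 n176705 = n89113 := d15_1 D176705 (iv7 F364441) F364436
theorem F364444 : act 2 n183117 = n176705 := d15_3 F364443 (iv0 F157254) (iv7 F284733)
theorem F364445 : act 4 n176705 = n96103 := d20_2 D89113 (iv1 F364443) (iv3 F150063) (iv1 D46318) (iv3 D22149) (iv4 F62689) (iv1 F293248) F293251 (iv3 F31377) D41635
theorem F364446 : act 3 n176705 = n93985 := d20_5 F70187 D82487 D172219 F270429 (iv1 F364443) (iv4 F294534) F294531 (iv4 F294945) (iv3 F295000) F136693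
theorem F364447 : act 6 n183478 = n176705 := d7_0 F364446 (iv6 F293688) F293686
theorem F364448 : act 7 n95779 = n176705 := d8_0 F364446 F157270 (iv3 F147471)
theorem E103041 : n186148 = n176944 := (c18_7 (iv1 F364443) F364445 (iv1 D96103) F70436 D44853 (iv4 F329425) D186148 (iv4 D176944) F270265 (iv5 F364442))
theorem F364449 : act 0 n176944 = n88683 := (sb E103041 (iv1 D186148))
theorem F364450 : act 1 n176944 = n186411 := (sb E103041 F289192)
theorem E103042 : n176943 = n144019 := ((c20_5 D96078 F147691 (iv4 D93991) F305027 D144019 (iv3 D176943) D176944 F364449 F329425 F70454 (iv1 F70412))).symm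
theorem F364451 : act 3 n144019 = n84338 := (sb E103042 (iv3 D176943))
theorem F364452 : act 3 n176945 = n104787 := d6_3 (iv5 F350525) F364451 D176945
theorem E103043 : n176937 = n144232 := (c8_3 (iv7 F350526) F364451 F276297 (iv3 D144232))
theorem F364453 : act 2 n144232 = n84337 := (sb E103043 (iv2 D176937))
theorem F364454 : act 7 n144232 = n84338 := (sb E103043 (iv7 F276297))
theorem F364455 : act 6 n104785 = n176945 := d7_0 F364452 (iv6 D104787) D104785
theorem F364456 : act 4 n176933 = n97433 := d18_7 F145497 F64245 D41635 D89113 F364442 F270262 F276294 (iv0 F356250) (iv5 D96111)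
theorem F364457 : act 2 n89689 = n176933 := d1_3 F364456 F150179 F343054
theorem F364458 : act 7 n89690 = n176933 := d11_0 F364456 (iv7 F293831) (iv4 F343052)
theorem F364459 : act 2 n89690 = n176934 := d15_3 F276288 F276294 (iv7 F364458)
theorem F364460 : act 7 n176934 = n89689 := d4_2 (iv7 F364458) F364459 F364457
theorem F364461 : act 4 n172111 = n186409 := d18_1 (iv1 F270260) (iv1 D186409) (iv4 F329423) (iv5 D96111) F294979 F294846 D183117 (iv0 F294339) F335319
theorem F364462 : act 5 n157985 = n155092 := d21_0 F259372 D173948 F335274 F318964 (iv6 D82389) F122972 (iv1 D41703) (iv5 F54649) D75249 D157985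
theorem F364463 : act 6 n164507 = n157985 := d21_5 D172016 F358674 (iv5 F300634) F253926 (iv1 F332303) F364462 F259372 D173948 F335274 F318964
theorem F364464 : act 0 n120230 = n120211 := d18_2 F188129 D120230 F335260 F332085 F206402 (iv0 F332067) (iv4 F308895) F187812 D119401
theorem F364465 : act 6 n119293 = n118651 := d14_3 F335259 (iv6 D119502) (iv7 F187771) F186621 D128132
theorem F364466 : act 7 n96746 = n148994 := d16_8 (iv4 F186473) F311883 (iv4 F206249) F335257 F234273 (iv5 F318556) (iv4 F335255) (iv5 F335249) F234178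
theorem F364467 : act 2 n107961 = n170888 := d1_3 F335241 F189791 (iv4 F166830)
theorem F364468 : act 5 n123241 = n170888 := d17_3 (iv1 D57364) D57365 D123241 F335241 F189792 (iv0 F232780) F307793 F314058 (iv4 F314060)
theorem F364469 : act 7 n170887 = n123241 := d13_0 F364468 (iv7 D170888) D170887
theorem F364470 : act 0 n115970 = n150128 := d17_2 F305130 (iv5 F328876) F236295 (iv4 F185493) F335220 (iv0 F311826) (iv5 F241790) F242802 F190933
theorem F364471 : act 1 n115970 = n101053 := d15_1 (iv0 F364470) F331761 (iv2 F361452)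
theorem E103044 : n154332 = n98316 := (c12_1 D154332 F335214 (iv6 D77635) (iv5 F72441) F298333 F123575)
theorem F364472 : act 6 n98316 = n73117 := (sb E103044 (iv6 D154332))
theorem F364473 : act 0 n143529 = n153631 := d21_7 F108138 (iv1 F90535) (iv5 F106640) (iv6 F335178) (iv1 D134314) (iv6 F329734) D143529 (iv5 D153631) (iv6 D72648) (iv1 F108140)
theorem E103045 : n135594 = n115495 := ((c21_4 F335155 (iv1 F232609) (iv5 F322394) (iv6 F179794) (iv1 D135594) (iv6 D63758) (iv5 D30086) (iv1 F23888) (iv5 F48354) (iv6 F83858) (iv1 F203441))).symm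
theorem F364474 : act 0 n115495 = n63758 := (sb E103045 (iv1 D135594))
theorem F364475 : act 1 n115495 = n135789 := (sb E103045 F218375)
theorem F364476 : act 7 n135593 = n135787 := d15_2 F364475 F218376 F355294
theorem F364477 : act 2 n130952 = n135593 := d4_3 F364476 F355294 (iv7 F209561)
theorem F364478 : act 6 n96556 = n157465 := d12_2 F228544 F335139 (iv5 D157465) F310546 (iv5 F322655)
theorem F364479 : act 4 n157465 = n96558 := d10_1 F364478 (iv6 D96558) D96556
theorem F364480 : act 1 n96558 = n95863 := d18_6 (iv1 D127937) (iv4 F205880) F323805 (iv4 F324909) D157465 F364479 F341007 F341004 F205882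
theorem F364481 : act 1 n95863 = n97294 := d15_1 F364480 (iv7 D97294) (iv2 F288195)
theorem F364482 : act 4 n97294 = n157469 := d17_9 F344003 (iv5 F343997) (iv1 D124592) F313014 F71229 D45399 D97138 (iv5 F149862) F364481
theorem F364483 : act 6 n146024 = n96010 := d21_3 D95945 F335097 D146024 (iv1 D96010) (iv6 D44802) (iv5 D21333) (iv1 D10178) D10179 (iv6 F33524) D44781
theorem F364484 : act 5 n96010 = n146022 := d12_1 F364483 (iv6 D146022) (iv5 D68457) D68458 D146024
theorem F364485 : act 3 n158903 = n96010 := d6_3 F364484 F334280 F254080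
theorem F364486 : act 7 n176897 = n96010 := d13_0 F364484 F363509 (iv5 F363508)
theorem F364487 : act 2 n176897 = n96009 := d15_3 (iv0 D96009) D96010 (iv7 F364486)
theorem F364488 : act 2 n163351 = n130326 := d2_3 (iv5 F363508) F364487 (iv5 F364244)
theorem F364489 : act 4 n139951 = n154954 := d10_1 F335027 (iv6 D154954) D154952
theorem F364490 : act 1 n118815 = n127668 := d17_6 F318928 (iv5 F333309) F333308 (iv5 D155324) D155323 F335024 (iv5 D127668) F308952 (iv4 F318931)
theorem F364491 : act 3 n120688 = n170568 := d8_3 F334997 F225732 (iv7 F322358)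
theorem F364492 : act 4 n147897 = n142099 := d10_1 F334991 (iv6 D142099) (iv4 F181998)
theorem F364493 : act 7 n142099 = n170585 := d11_2 (iv7 F313102) F364492 F268014
theorem F364494 : act 7 n170066 = n116417 := d14_0 F334990 (iv7 F182558) (iv6 F322645) (iv7 F125459) D170066
theorem F364495 : act 3 n142831 = n170066 := d8_3 F364494 F334989 D142831
theorem F364496 : act 1 n116408 = n170066 := d15_1 (iv0 F318656) F364494 F318653
theorem F364497 : act 1 n170066 = n116420 := d15_1 F364496 (iv7 D116420) (iv2 F181571)
theorem F364498 : act 4 n170066 = n114164 := d20_8 (iv4 F177835) (iv1 F178967) F178969 (iv3 F331598) (iv1 D114770) (iv3 F178858) (iv4 F317990) (iv1 F364497) F177911 F177675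
theorem F364499 : act 2 n114164 = n170585 := d1_1 F364498 F268014 (iv2 F267545)
theorem F364500 : act 3 n170585 = n114174 := d0_2 (iv3 F177911) F364499 (iv2 F290514) F120139 (iv2 F161670)
theorem F364501 : act 7 n143044 = n145508 := d15_2 F334981 D143044 F228567
theorem F364502 : act 2 n170573 = n143044 := d4_3 F364501 F228567 F334992
theorem F364503 : act 3 n97287 = n143044 := d8_3 F364501 F228568 (iv7 F334478)
theorem F364504 : act 6 n170568 = n143044 := d14_5 F364501 (iv6 D145508) F182565 D142834 (iv7 F334997)
theorem F364505 : act 5 n143044 = n97286 := d12_1 F364504 (iv6 F359665) (iv5 F335002) (iv6 D170569) D170568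
theorem F364506 : act 1 n141598 = n143042 := d18_6 F230420 F87466 D55263 D120106 F320020 D141598 F225906 D143044 F364505
theorem F364507 : act 2 n144379 = n103696 := d15_3 F334899 D140770 F334907
theorem F364508 : act 5 n99656 = n143276 := d6_2 F334885 (iv3 F153481) F226085
theorem F364509 : act 5 n143092 = n99581 := d6_2 F334882 (iv3 F225941) (iv3 D99581)
theorem F364510 : act 7 n99635 = n143092 := d13_0 F364509 F153414 D99635
theorem F364511 : act 6 n143091 = n99635 := d14_5 F364510 (iv6 D143092) (iv7 D67055) D67054 D143091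
theorem F364512 : act 5 n143291 = n100969 := d12_3 F292709 F334878 D143291 (iv6 D100969) (iv5 F292708)
theorem F364513 : act 3 n99756 = n143291 := d6_3 F364512 F155585 (iv5 F153570)
theorem E103046 : n159994 = n93961 := (c8_2 F334842 D159994 (iv7 D93961) (iv3 F144773))
theorem F364514 : act 3 n93961 = n76603 := (sb E103046 (iv3 D159994))
theorem F364515 : act 4 n94053 = n93956 := d5_2 D93953 F334837 (iv3 D93956) (iv4 D43916) D43915
theorem F364516 : act 3 n152451 = n151676 := d5_3 (iv4 F210442) F334827 D152451 F238543 F166728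
theorem F364517 : act 0 n114979 = n92808 := d21_7 (iv5 D43460) F63331 D41312 D88507 (iv1 F334783) (iv6 D114980) D114979 F143160 (iv6 D92473) (iv1 F68316)
theorem F364518 : act 5 n92884 = n114886 := d21_8 D114979 F364517 F143160 (iv6 D92473) (iv1 F68316) (iv6 F143264) (iv5 D92886) D92884 (iv6 F234966) (iv1 F161840)
theorem F364519 : act 7 n159505 = n92884 := d13_0 F364518 F191126 D159505
theorem F364520 : act 5 n102979 = n105400 := d17_7 (iv1 D147321) F171210 (iv1 F175146) F330314 (iv4 F330310) (iv5 F292763) D102979 F238152 F334762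
theorem F364521 : act 3 n105409 = n102979 := d6_3 F364520 F161733 (iv5 F161754)
theorem F364522 : act 7 n93879 = n102979 := d13_0 F364520 (iv7 D105400) (iv5 F144715)
theorem F364523 : act 6 n180375 = n181699 := d7_0 F334648 (iv6 D180377) D180375
theorem F364524 : act 5 n154499 = n148650 := d6_0 F334594 F231507 D154499
theorem F364525 : act 0 n108145 = n179908 := d19_12 (iv1 F130567) (iv5 F199946) D158978 (iv3 F334538) (iv1 F332232) (iv5 D111162) (iv4 F111022) (iv3 D74203) (iv1 D34041) D34043 (iv4 F79003) (iv3 F167228) (iv5 D179908) (iv4 F232989) F232988 (iv1 F92245) (iv5 D39440) D39439 (iv3 F305190)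
theorem E103047 : n103190 = n103041 := (c15_4 (iv0 D103041) (iv0 F147579) F334506 D103190)
theorem F364526 : act 2 n103041 = n47825 := (sb E103047 (iv2 D103190))
theorem F364527 : act 7 n103041 = n47826 := (sb E103047 (iv7 F158445))
theorem F364528 : act 6 n148003 = n145510 := d21_9 D145511 F334439 D146315 F229647 (iv1 F106805) D73377 (iv5 F314859) F314856 D148003 (iv1 D145510)
theorem F364529 : act 3 n145510 = n148015 := d7_1 F364528 (iv6 D148015) (iv3 F231825)
theorem F364530 : act 4 n145510 = n139830 := d20_6 (iv4 D30736) F38643 (iv4 F79958) (iv3 F169664) F353444 (iv3 F364529) (iv1 D139830) F101374 F49211 (iv1 F49705)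
theorem F364531 : act 3 n151283 = n141046 := d7_3 F334432 F233154 D151283
theorem F364532 : act 3 n184272 = n116258 := d7_3 F334427 F268862 D184272
theorem F364533 : act 4 n174916 = n184272 := d5_0 F364532 F348335 (iv3 F348322) F324263 (iv3 F273818)
theorem F364534 : act 2 n100434 = n115958 := d3_1 F334425 (iv6 D115958) (iv2 F180556)
theorem F364535 : act 5 n115958 = n100395 := d2_2 (iv5 F154487) F364534 F154418
theorem F364536 : act 7 n115958 = n100394 := d4_2 D100434 F364534 F154415
theorem F364537 : act 1 n115958 = n100431 := d15_0 (iv0 D100431) D100434 F364534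
theorem F364538 : act 1 n124819 = n100394 := d15_1 (iv0 F338824) (iv7 F364536) (iv2 F364534)
theorem F364539 : act 1 n100432 = n115958 := d15_1 D100432 F364536 F154415
theorem E103048 : n141191 = n98924 := (c21_4 F181692 (iv1 F84532) D66231 D141191 (iv1 D98924) (iv6 F152453) F338880 (iv1 F154423) (iv5 F364535) (iv6 D115958) D115955)
theorem F364540 : act 2 n98924 = n66236 := (sb E103048 F224209)
theorem F364541 : act 6 n98924 = n66231 := (sb E103048 (iv6 D141191))
theorem F364542 : act 4 n186311 = n125637 := d1_0 F334367 (iv4 D186313) (iv2 F289083)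
theorem F364543 : act 3 n111795 = n186311 := d5_5 F364542 (iv3 D125637) F165632 F165634 D111795
theorem F364544 : act 7 n125637 = n186308 := d11_2 D186311 F364542 (iv4 D186308)
theorem E103049 : n186311 = n102813 := ((c20_8 (iv4 D112661) (iv1 D51991) D51993 (iv3 F326754) (iv1 F116031) D78542 F119726 D102813 F364542 (iv3 D125637) F175323)).symm
theorem F364545 : act 2 n102813 = n88755 := (sb E103049 F289083)
theorem F364546 : act 3 n102813 = n111795 := (sb E103049 (iv3 F364543))
theorem F364547 : act 4 n102813 = n125637 := (sb E103049 F364542)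
theorem F364548 : act 7 n102813 = n88754 := (sb E103049 (iv7 D186311))
theorem E103050 : n186306 = n102814 := (c15_4 F158079 F158076 F364548 D186306)
theorem F364549 : act 2 n102814 = n88754 := (sb E103050 (iv2 D186306))
theorem F364550 : act 7 n102814 = n88755 := (sb E103050 (iv7 F289080))
theorem F364551 : act 0 n157918 = n125577 := d20_1 (iv4 F282832) F201993 F92994 D58822 D125637 (iv4 F364547) (iv1 F158076) (iv4 F282821) F282820 (iv1 F282837)
theorem F364552 : act 2 n111863 = n186312 := d0_3 F364546 F173525 D111863 (iv3 D186312) (iv2 F364545)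
theorem F364553 : act 6 n186312 = n163325 := d3_2 (iv6 F173717) F364552 (iv2 F363501)
theorem E103051 : n186315 = n160854 := ((c7_2 F364553 F281152 (iv6 D186315) D186312)).symm
theorem F364554 : act 6 n160854 = n88755 := (sb E103051 (iv6 D186315))
theorem E103052 : n186314 = n176858 := (c21_7 D64079 D136300 (iv5 F362623) (iv6 F362621) (iv1 F257542) F364554 D186314 (iv1 D176858) (iv5 D84310) F326186 (iv1 D64077))
theorem F364555 : act 5 n176858 = n88755 := (sb E103052 (iv5 D186314))
theorem F364556 : act 5 n155972 = n111810 := d21_8 (iv5 F364555) (iv1 D176858) (iv5 D84310) F326186 (iv1 D64077) (iv6 F53385) D74184 D155972 F356056 (iv1 F158080)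
theorem F364557 : act 2 n137287 = n155972 := d2_3 F364556 (iv2 F173847) D137287
theorem F364558 : act 7 n137284 = n155972 := d13_0 F364556 F173848 D137284
theorem E103053 : n147120 = n137284 := (c15_2 F359233 D147120 F364558 (iv2 F364557))
theorem F364559 : act 0 n137284 = n68979 := (sb E103053 (iv1 D147120))
theorem F364560 : act 1 n137284 = n109515 := (sb E103053 F230675)
theorem F364561 : act 2 n137284 = n155973 := d15_3 F245008 F245007 (iv7 F364558)
theorem F364562 : act 5 n155973 = n111811 := d2_2 D137284 F364561 F173846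
theorem F364563 : act 7 n155973 = n137287 := d4_2 (iv7 F364558) F364561 F364557
theorem F364564 : act 6 n95794 = n155973 := d21_5 (iv5 D44731) (iv1 D21307) D21309 D44737 D95794 F364562 (iv1 D111811) (iv5 F316661) (iv6 D97208) (iv1 F71681)
theorem E103054 : n186298 = n109300 := ((c21_4 F342888 F349523 (iv5 D109299) D109300 (iv1 F356055) (iv6 D137285) D137284 F364559 F110943 F110942 F173964)).symm
theorem F364565 : act 0 n109300 = n137285 := (sb E103054 (iv1 F356055))
theorem F364566 : act 1 n109300 = n88751 := (sb E103054 (iv0 D186298))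
theorem F364567 : act 3 n186308 = n111867 := d8_1 F364544 F173726 D125637
theorem F364568 : act 1 n129070 = n186308 := d15_1 (iv0 F343672) (iv7 F364544) F334367
theorem F364569 : act 4 n180672 = n134345 := d18_5 F119819 (iv4 D78650) (iv1 F254318) D86303 D180672 (iv0 D134345) (iv4 F164184) F334356 (iv5 D157800)
theorem F364570 : act 5 n129394 = n126280 := d12_3 D105188 F334353 F212370 (iv6 D126280) F93396
theorem E103055 : n129727 = n112602 := ((c21_3 (iv5 D59020) D59018 (iv5 F175191) (iv6 D129727) (iv1 F207895) (iv6 F334323) F334322 (iv1 F119843) D79687 (iv6 F330791) F327233)).symm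
theorem F364571 : act 6 n112602 = n60935 := (sb E103055 (iv6 D129727))
theorem E103056 : n129723 = n129705 := (c3_2 F364571 D129723 F361186 (iv2 F359739))
theorem F364572 : act 2 n129705 = n60935 := (sb E103056 (iv2 D129723))
theorem F364573 : act 7 n129705 = n60936 := (sb E103056 (iv7 F207922))
theorem F364574 : act 6 n129724 = n134593 := d7_2 F364571 D129724 F363986
theorem E103057 : n129728 = n129706 := (c15_4 F207890 F207893 F364573 (iv2 F207923))
theorem F364575 : act 2 n129706 = n60936 := (sb E103057 F207923)
theorem F364576 : act 7 n129706 = n60935 := (sb E103057 (iv7 D129728))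
theorem F364577 : act 4 n129911 = n130306 := d20_6 (iv4 F334317) (iv1 D129165) D129166 F334321 F326074 D129911 (iv1 D130306) F95659 (iv3 F95658) (iv1 F334295)
theorem F364578 : act 3 n132097 = n121148 := d6_1 F334274 (iv5 D121148) (iv3 F193206)
theorem E103058 : n159285 = n128228 := ((c15_1 (iv0 F334245) (iv0 D159285) (iv7 F248239) F315009)).symm
theorem F364579 : act 1 n128228 = n76204 := (sb E103058 (iv0 D159285))
theorem F364580 : act 3 n126736 = n93340 := d7_3 F334194 F203699 D126736
theorem F364581 : act 5 n103266 = n126736 := d6_0 F364580 F294744 D103266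
theorem F364582 : act 7 n101218 = n126736 := d8_0 F364580 F143961 D101218
theorem F364583 : act 1 n126742 = n101218 := d15_1 D126742 F364582 F203965
theorem F364584 : act 2 n126743 = n103266 := d2_3 F364581 F203965 D126743
theorem F364585 : act 7 n130381 = n134663 := d8_0 F334179 F307699 D130381
theorem F364586 : act 1 n170667 = n131162 := d15_0 (iv0 D131162) D131165 (iv2 F334131)
theorem F364587 : act 2 n167596 = n134643 := d1_1 F334110 F330254 F252884
theorem E103059 : n172362 = n126971 := ((c21_4 D83167 (iv1 F334099) (iv5 D134655) (iv6 F327819) (iv1 D172362) (iv6 D82538) (iv5 F320694) D165633 F330242 (iv6 F330243) (iv1 F315503))).symm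
theorem F364588 : act 0 n126971 = n82538 := (sb E103059 (iv1 D172362))
theorem F364589 : act 0 n127671 = n95600 := d17_2 (iv1 F205218) D127671 (iv5 D95600) D95599 F334072 F240752 F240750 (iv0 F229475) F229477
theorem F364590 : act 0 n95623 = n133372 := d18_2 F364589 (iv4 F361147) F358455 (iv5 D147800) (iv4 D69249) (iv0 F130786) (iv4 F318895) F318893 D127671
theorem F364591 : act 1 n127671 = n95605 := d15_1 (iv0 F364589) (iv7 F348968) F361118
theorem F364592 : act 5 n184388 = n95623 := d21_6 D133357 F355472 (iv5 F158316) (iv6 D103057) (iv1 F294026) D184388 F364590 (iv5 D133372) (iv6 D62595) D62591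
theorem F364593 : act 1 n184388 = n128242 := d17_8 (iv1 F206363) (iv5 F237219) (iv1 F237221) F233863 F354114 D133372 (iv0 F364590) (iv5 F364592) (iv4 D128242)
theorem F364594 : act 1 n128231 = n184388 := d15_0 F364593 (iv7 F242582) F242581
theorem F364595 : act 5 n97180 = n128242 := d21_6 (iv5 D48411) (iv1 F63083) (iv5 F71552) (iv6 F328706) F147308 (iv6 F149918) (iv1 F364593) F364592 (iv6 D95623) (iv1 F76085)
theorem F364596 : act 2 n103314 = n184388 := d2_3 F364592 (iv2 F149759) (iv5 F158554)
theorem F364597 : act 3 n175370 = n127673 := d7_3 (iv6 F233838) F334056 D175370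
theorem F364598 : act 7 n160990 = n127625 := d4_2 D147708 F334023 F205191
theorem E103060 : n147706 = n104638 := (c15_1 D147706 F359603 F364598 F205191)
theorem F364599 : act 0 n104638 = n69216 := (sb E103060 (iv1 D147706))
theorem F364600 : act 6 n160977 = n95771 := d12_2 F334012 D160977 (iv5 F318859) (iv6 D59892) D59891
theorem F364601 : act 6 n136688 = n141325 := d21_3 (iv5 F48638) D64239 D136688 (iv1 D141325) F102209 (iv5 F328725) (iv1 F333876) F216368 (iv6 F333877) (iv1 D30500)
theorem E103061 : n138178 = n126601 := (c10_2 F333874 D138178 (iv6 D126601) D126599)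
theorem F364602 : act 4 n126601 = n64908 := (sb E103061 (iv4 D138178))
theorem F364603 : act 2 n138165 = n183997 := d3_1 F333872 (iv6 D183997) (iv2 F285839)
theorem F364604 : act 7 n138166 = n183997 := d15_2 (iv0 D138165) D138166 (iv2 F364603)
theorem F364605 : act 0 n185904 = n113928 := d20_4 (iv4 F157536) F321698 F333826 D185904 (iv3 D113928) (iv4 F332864) F332861 F82758 (iv3 F82873) F82934
theorem F364606 : act 1 n148799 = n113928 := d15_0 (iv0 F364605) F288403 (iv2 F233634)
theorem F364607 : act 6 n121093 = n180590 := d7_2 F333779 D121093 (iv3 D180590)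
theorem F364608 : act 6 n148333 = n119440 := d3_2 D174808 F333758 F273676
theorem F364609 : act 6 n164553 = n173930 := d14_3 F232127 F364608 F273677 F310283 (iv6 F319518)
theorem E103062 : n177190 = n177029 := (c14_2 F333731 D177190 (iv7 D177029) (iv6 D84375) F126886 D96181)
theorem F364610 : act 6 n177029 = n84427 := (sb E103062 (iv6 D177190))
theorem F364611 : act 3 n175239 = n177029 := d7_3 F364610 (iv3 F333728) F333664
theorem F364612 : act 4 n121480 = n175239 := d11_3 F333730 F319557 (iv7 F303159)
theorem E103063 : n177029 = n124536 := ((c20_5 F58150 F296105 (iv4 F296103) D58125 D124536 (iv3 F364611) (iv4 F364612) (iv1 D121480) (iv4 F312735) F312734 F120903)).symm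
theorem F364613 : act 3 n124536 = n175239 := (sb E103063 (iv3 F364611))
theorem F364614 : act 6 n124536 = n84427 := (sb E103063 F364610)
theorem F364615 : act 7 n124536 = n84375 := (sb E103063 (iv7 D177029))
theorem F364616 : act 3 n144475 = n170277 := d7_1 F333691 (iv6 D170277) D170274
theorem F364617 : act 4 n170277 = n133051 := d5_2 F350914 F364616 F213711 F333686 (iv3 F230751)
theorem F364618 : act 0 n133051 = n144573 := d20_7 (iv4 F317138) F320871 (iv4 F321977) (iv3 F320625) F333696 F364616 F364617 (iv4 D144573) (iv3 F322117) F317911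
theorem F364619 : act 0 n138995 = n179610 := d19_8 F312412 F333690 (iv4 F332189) F332188 (iv1 F123112) (iv5 F128631) (iv4 F273779) (iv3 F333019) (iv5 D179610) (iv4 D85765) (iv3 D39613) (iv1 D18756) (iv5 D8791) (iv4 D3921) D3920 D8781 F61594 D34715 D75961
theorem F364620 : act 4 n179610 = n130227 := d18_3 D129018 (iv4 F222168) F364619 (iv5 D130227) F95644 F207718 (iv4 F207217) (iv0 F207219) D60664
theorem F364621 : act 5 n153702 = n142700 := d21_2 D72722 D153702 (iv6 D142700) (iv1 D66897) (iv6 F320518) D138995 F364619 (iv5 D179610) F205963 (iv1 D72720)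
theorem F364622 : act 1 n139004 = n179610 := d15_0 (iv0 F364619) F222167 (iv2 F222181)
theorem F364623 : act 6 n91276 = n153702 := d12_0 F364621 (iv6 D142700) (iv5 F363556) (iv6 D103839) (iv5 F294499)
theorem F364624 : act 4 n103931 = n153702 := d16_2 D153667 (iv5 F338040) F364621 F225600 F321588 (iv4 D72659) D72660 (iv7 F240987) F240986
theorem F364625 : act 5 n178439 = n112591 := d12_3 D58979 F333673 D178439 (iv6 D112591) F82044
theorem F364626 : act 2 n147170 = n178439 := d2_3 F364625 F175181 D147170
theorem F364627 : act 6 n116916 = n121488 := d21_5 (iv5 D50993) (iv1 F39686) F51122 D69118 (iv1 F347961) (iv5 F263489) (iv1 F350911) F364625 (iv6 D112591) (iv1 F82046)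
theorem F364628 : act 4 n139829 = n114755 := d18_3 (iv1 D65644) (iv4 F101374) D139829 (iv5 D114755) F83690 D52971 D114796 F333645 (iv5 D139849)
theorem F364629 : act 6 n139842 = n155902 := d7_2 F333635 D139842 (iv3 D155902)
theorem F364630 : act 6 n139843 = n155903 := d10_2 F333635 D139843 (iv4 D155903)
theorem F364631 : act 5 n170267 = n139842 := d12_5 F364629 F351493 (iv6 D96181) F125583 D170267
theorem F364632 : act 3 n135621 = n95971 := d5_1 F333584 (iv4 D95971) F70362 D44792 D95984
theorem F364633 : act 0 n133647 = n95984 := d18_2 (iv1 D134502) (iv4 F333564) F333584 F218092 (iv4 D111865) F81415 (iv4 F95806) F179240 (iv5 F216454)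
theorem F364634 : act 6 n95971 = n144178 := d7_2 (iv6 F329186) F364632 F226879
theorem F364635 : act 2 n144184 = n95971 := d3_3 F364634 F226878 D144184
theorem E103064 : n157394 = n152442 := (c21_6 F209267 (iv1 F99241) (iv5 F218328) F333580 F215038 D157394 (iv5 D152442) F327116 D130699 F209264 D130706)
theorem F364636 : act 4 n152442 = n74852 := (sb E103064 F247873)
theorem F364637 : act 6 n152442 = n74851 := (sb E103064 (iv6 D157394))
theorem F364638 : act 6 n157392 = n114043 := d7_2 F364637 D157392 (iv3 F239635)
theorem F364639 : act 2 n159600 = n157392 := d3_3 F364638 F193517 D159600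
theorem F364640 : act 4 n130860 = n164219 := d1_2 F364636 (iv2 F209448) (iv2 F258957)
theorem F364641 : act 4 n157398 = n159605 := d11_3 F251410 F364636 D157398
theorem F364642 : act 4 n106512 = n107563 := d20_0 (iv1 D107563) F324327 F322881 D107552 F341589 F227966 F319880 (iv4 F364641) F247878 (iv1 F164445)
theorem F364643 : act 4 n106845 = n106703 := d1_2 F364642 (iv2 F358296) (iv2 F205546)
theorem F364644 : act 4 n106846 = n106702 := d11_3 F205547 F364642 F358295
theorem F364645 : act 4 n106511 = n107562 := d1_2 F364644 F205549 F358292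
theorem F364646 : act 3 n106511 = n114238 := d19_3 D133389 (iv5 F343683) (iv4 F364645) (iv1 F214481) (iv5 F251162) F343929 F219387 F99698 (iv5 D62009) (iv4 D29363) (iv3 F45616) (iv1 F45618) F36940 F36939 F36880 F18001 D14059 D29603 D62607
theorem F364647 : act 6 n114235 = n106511 := d7_0 F364646 (iv6 D114238) (iv3 F178029)
theorem F364648 : act 3 n130596 = n106703 := d8_3 (iv7 F205548) F364646 (iv7 F209169)
theorem F364649 : act 7 n164414 = n114235 := d14_0 F364647 F205548 F259066 (iv7 D164417) (iv6 F259057)
theorem F364650 : act 3 n105390 = n164414 := d8_3 F364649 F178029 (iv7 F178234)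
theorem F364651 : act 4 n123118 = n152531 := d16_2 (iv4 F90374) (iv5 F197308) F239711 F364640 (iv5 D164219) F327772 (iv5 D82995) D82996 F127917
theorem F364652 : act 6 n114810 = n123118 := d10_0 F364651 (iv6 D152531) (iv4 F178880)
theorem F364653 : act 7 n152531 = n123117 := d11_2 D123118 F364651 (iv4 D123117)
theorem F364654 : act 3 n123157 = n114810 := d7_3 F364652 F197307 D123157
theorem F364655 : act 5 n178074 = n114810 := d12_5 F364652 F197308 F302815 D84763 D178074
theorem F364656 : act 6 n152524 = n171099 := d21_5 (iv5 F188682) F188683 (iv5 D71956) (iv6 F108440) D152524 (iv5 F305153) (iv1 F197291) (iv5 F197308) (iv6 F364652) (iv1 F178881)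
theorem F364657 : act 4 n119627 = n178074 := d16_0 F364655 F178880 F108445 F95889 F46705 D55039 D119621 F240052 (iv2 F240051)
theorem F364658 : act 6 n178073 = n119627 := d10_0 F364657 (iv6 D178074) D178073
theorem F364659 : act 1 n135767 = n133644 := d15_0 (iv0 D133644) D133647 F333563
theorem F364660 : act 7 n133644 = n95984 := d15_2 F333576 F364659 F333583
theorem F364661 : act 4 n133644 = n130713 := d18_7 (iv1 F168172) (iv4 D63841) (iv1 D30118) (iv4 F48407) D63833 D135767 F364659 F218099 F218098
theorem F364662 : act 3 n95533 = n133644 := d19_19 (iv1 F364659) F333566 (iv4 D158119) F112908 D75309 F112909 (iv4 D41374) F31187 (iv1 F33766) F33768 F30720 F27366 (iv1 D4323) D4325 D9597 (iv3 F293103) (iv1 F33461) D44623 D95533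
theorem F364663 : act 4 n107480 = n133654 := d20_0 (iv1 D133654) F97862 (iv3 F97856) D133644 (iv3 F364662) (iv4 D95533) F294001 D185691 F348095 (iv1 F176052)
theorem F364664 : act 0 n96080 = n151497 := d20_4 (iv4 D96078) (iv1 D44830) D44831 D96080 F238345 F344964 (iv1 F218099) (iv4 F364661) (iv3 F364662) (iv1 F147692)
theorem F364665 : act 1 n96080 = n151980 := d15_1 (iv0 F364664) (iv7 D151980) (iv2 F238344)
theorem F364666 : act 3 n186248 = n107480 := d20_5 F364661 F209279 D135809 F344968 D186248 F364663 (iv1 D133654) F97862 (iv3 F97856) D133644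
theorem F364667 : act 6 n135622 = n133644 := d14_5 F364660 F333585 F85209 D68442 (iv7 F329187)
theorem F364668 : act 4 n157404 = n90328 := d10_3 F333557 (iv4 D157403) D157404
theorem F364669 : act 7 n90811 = n157404 := d11_0 F364668 F138965 D90811
theorem E103065 : n119184 = n99945 := (c10_3 D115074 F333554 D119184 F329997)
theorem F364670 : act 6 n99945 = n54844 := (sb E103065 (iv6 D119184))
theorem E103066 : n131843 = n131838 := (c0_3 (iv3 F163812) F333533 (iv3 F211251) F211248 F96437 (iv2 F77773))
theorem F364671 : act 3 n131838 = n61864 := (sb E103066 F211251)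
theorem F364672 : act 6 n131838 = n61862 := (sb E103066 (iv6 D131843))
theorem F364673 : act 1 n115076 = n132198 := d17_6 F322887 F177017 (iv1 F161489) F333521 F218101 F333530 (iv5 D132198) D132196 (iv4 F211779)
theorem F364674 : act 5 n126547 = n105310 := d18_9 (iv1 D105310) (iv4 F161186) F325762 (iv4 F333526) F333527 F161926 F211725 (iv4 F216440) F216443
theorem F364675 : act 2 n113724 = n126547 := d2_3 F364674 F343642 D113724
theorem F364676 : act 7 n113719 = n126547 := d13_0 F364674 F343644 D113719
theorem F364677 : act 6 n148773 = n126547 := d21_5 (iv5 D16906) F24849 D32362 D69725 D148773 F364674 (iv1 D105310) (iv5 F114435) (iv6 D76338) (iv1 D34873)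
theorem F364678 : act 2 n159855 = n148773 := d3_3 F364677 (iv2 F364675) (iv6 F252007)
theorem F364679 : act 7 n148774 = n159855 := d15_2 (iv0 D148773) D148774 F364678
theorem F364680 : act 7 n159856 = n148773 := d15_2 (iv0 D159855) D159856 (iv2 F364678)
theorem F364681 : act 2 n148774 = n159856 := d4_3 F364680 (iv2 F364678) (iv7 F364679)
theorem F364682 : act 2 n113719 = n126548 := d15_3 F216445 F216443 (iv7 F364676)
theorem F364683 : act 5 n126548 = n105309 := d2_2 D113719 F364682 F343645
theorem F364684 : act 7 n126548 = n113724 := d4_2 (iv7 F364676) F364682 F364675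
theorem E103067 : n126230 = n106473 := ((c20_5 (iv4 D29603) F23463 D24009 D49196 D106473 F203004 F93382 D105314 F333526 (iv3 D49239) (iv1 F47530))).symm
theorem F364685 : act 2 n106473 = n106659 := (sb E103067 F349653)
theorem F364686 : act 3 n106473 = n59177 := (sb E103067 F203004)
theorem F364687 : act 6 n106473 = n59175 := (sb E103067 (iv6 D126230))
theorem F364688 : act 7 n106473 = n106658 := (sb E103067 (iv7 F349655))
theorem F364689 : act 2 n106658 = n106474 := d15_3 F164298 F164296 F364688
theorem F364690 : act 7 n106659 = n106474 := d4_2 (iv7 F364688) F364685 (iv2 F364689)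
theorem F364691 : act 6 n148738 = n135625 := d21_5 (iv5 D15248) D15246 D32354 D69708 D148738 (iv5 F333521) (iv1 D105315) (iv5 F106085) (iv6 D69717) (iv1 D32359)
theorem F364692 : act 2 n135626 = n148738 := d3_3 F364691 (iv2 D135625) D135626
theorem F364693 : act 5 n131127 = n135800 := d21_8 F177017 (iv1 F161489) F333521 (iv6 F364691) (iv1 F251350) F251347 F233520 (iv1 F210016) (iv6 D135800) F322887
theorem F364694 : act 3 n135807 = n131127 := d6_3 F364693 F218411 D135807
theorem F364695 : act 6 n135803 = n131127 := d12_0 F364693 (iv6 D135800) (iv5 D63855) D63856 D135803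
theorem F364696 : act 5 n93938 = n135802 := d21_0 (iv1 D135802) D135803 F364695 (iv1 D131127) (iv6 D61517) F46787 (iv1 F23478) D25303 D52116 F157670
theorem F364697 : act 2 n135802 = n130633 := d2_1 F364696 (iv5 D130633) (iv2 F157672)
theorem F364698 : act 3 n135802 = n93947 := d6_1 F364696 (iv5 D93947) (iv3 F144766)
theorem F364699 : act 6 n135802 = n93941 := d12_2 D93938 F364696 (iv5 D93941) (iv6 D43908) D43907
theorem F364700 : act 7 n135802 = n130635 := d13_2 F157673 F364696 (iv5 D130635)
theorem F364701 : act 4 n135802 = n169913 := d19_2 F157670 F364696 F267336 (iv1 F132079) (iv5 D86129) (iv4 D39867) D39866 (iv1 F60661) (iv5 D19409) (iv4 D9104) (iv3 F12357) F13381 D9698 (iv4 F31232) D41405 D88678 (iv5 F355754) F355758 F175834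
theorem F364702 : act 4 n96465 = n93947 := d5_4 F364701 F267336 F125355 (iv3 F148560) (iv3 F364698)
theorem F364703 : act 6 n93949 = n96465 := d10_0 F364702 F144770 D93949
theorem F364704 : act 7 n93947 = n183504 := d11_2 F294501 F364702 (iv4 D183504)
theorem F364705 : act 1 n93947 = n172228 := d18_6 (iv1 D99779) F294695 (iv1 D88409) (iv4 F70889) D96465 F364702 (iv4 D172228) D172227 (iv5 F357389)
theorem F364706 : act 3 n183504 = n130635 := d8_1 F364704 (iv7 F364700) F364698
theorem F364707 : act 5 n183504 = n93948 := d13_1 F364704 (iv7 D93948) D93947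
theorem F364708 : act 4 n130635 = n183506 := d5_2 D183504 F364706 (iv3 D183506) (iv4 D87588) D87587
theorem F364709 : act 7 n183506 = n169913 := d11_2 F364700 F364708 (iv4 F364701)
theorem F364710 : act 0 n135798 = n130635 := d20_7 F294526 F294299 F70866 (iv3 F112728) D157801 (iv3 F354708) (iv4 F218407) F364708 (iv3 D183506) (iv1 F294525)
theorem F364711 : act 0 n130635 = n113910 := d20_7 F165656 (iv1 D49340) (iv4 F47003) (iv3 F96559) (iv1 F328521) D183506 (iv4 F364708) F327708 F211481 (iv1 F164187)
theorem F364712 : act 1 n130633 = n113910 := d15_0 (iv0 F364711) (iv7 F364700) F364697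
theorem F364713 : act 1 n135798 = n130633 := d15_0 F364712 F327709 (iv2 F218405)
theorem F364714 : act 5 n95280 = n183506 := d13_3 F364709 (iv5 D169913) (iv7 F146926)
theorem F364715 : act 3 n96467 = n93949 := d7_3 F364703 F148560 D96467
theorem F364716 : act 0 n128613 = n169915 := d20_7 (iv4 D92745) (iv1 F142993) (iv4 F159993) F349135 (iv1 D63063) (iv3 F98371) (iv4 F206887) F267339 F364715 F144771
theorem E103068 : n135801 = n114007 := ((c15_4 (iv0 D135801) D135802 F364700 F209204)).symm
theorem F364717 : act 1 n114007 = n63856 := (sb E103068 (iv0 D135801))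
theorem F364718 : act 0 n135803 = n144784 := d21_1 D135803 (iv5 D144784) F103898 (iv1 F161870) F177326 (iv5 F114614) F251945 D93941 (iv6 F364699) (iv1 D135802)
theorem F364719 : act 1 n135803 = n144787 := d15_1 (iv0 F364718) F227667 (iv2 F227661)
theorem F364720 : act 4 n131127 = n176719 := d5_2 (iv4 F344973) F364694 F276097 F129326 D88716
theorem F364721 : act 7 n148739 = n135626 := d15_2 (iv0 D148738) D148739 F364692
theorem F364722 : act 7 n159579 = n148738 := d15_2 F325507 D159579 (iv2 F364692)
theorem F364723 : act 2 n148739 = n159579 := d4_3 F364722 (iv2 F364692) (iv7 F364721)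
theorem F364724 : act 3 n135630 = n148739 := d8_3 F364721 F218105 D135630
theorem F364725 : act 0 n104359 = n92801 := d20_4 D90440 (iv1 F159985) (iv4 D104360) D104359 F333514 (iv4 F93580) D126453 (iv4 F203494) (iv3 F325802) (iv1 F69119)
theorem F364726 : act 2 n131525 = n137117 := d2_3 F333407 (iv2 F313539) D131525
theorem F364727 : act 2 n116772 = n153925 := d15_3 (iv0 F333386) F333387 (iv7 F182291)
theorem F364728 : act 7 n153925 = n143758 := d4_2 (iv7 F182291) F364727 F226422
theorem F364729 : act 0 n93774 = n114091 := d20_4 D93845 (iv1 F333366) F152155 (iv3 F144544) (iv3 D114091) (iv4 F83215) F114634 F114622 (iv3 F114566) (iv1 F114570)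
theorem F364730 : act 0 n92435 = n93774 := d20_4 (iv4 F71434) F142184 (iv4 D92436) D92435 F144544 (iv4 F152155) F333365 (iv4 D93840) F138027 (iv1 F114671)
theorem F364731 : act 2 n159764 = n154953 := d1_3 F333332 F291706 D159764
theorem F364732 : act 0 n94245 = n119572 := d20_7 D33737 (iv1 F109788) F310873 (iv3 F310872) (iv1 F333317) (iv3 F318170) F318171 (iv4 D119572) F190154 (iv1 F52976)
theorem F364733 : act 2 n114997 = n152391 := d2_3 (iv5 D152391) F333226 D114997
theorem F364734 : act 0 n115014 = n115187 := d20_4 F179028 (iv1 D106371) (iv4 F177640) (iv3 F179098) F179377 F83918 (iv1 F166306) F166309 (iv3 F333211) (iv1 F179026)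
theorem F364735 : act 1 n115014 = n159744 := d15_1 (iv0 F364734) (iv7 D159744) (iv2 F335479)
theorem F364736 : act 5 n148732 = n126585 := d6_2 F333202 D148732 F203611
theorem F364737 : act 2 n126586 = n148732 := d2_3 F364736 (iv2 D126585) D126586
theorem F364738 : act 6 n148764 = n126586 := d3_0 F364737 F233505 D148764
theorem F364739 : act 0 n126522 = n159859 := d21_4 (iv5 F212546) (iv1 F212549) (iv5 D126521) D126522 (iv6 D159859) F114710 (iv1 F114500) F106096 (iv6 F114492) (iv1 F333191)
theorem F364740 : act 4 n159584 = n126522 := d18_1 (iv1 F251356) F364739 F252019 F114714 (iv4 F210038) F332876 (iv4 F364720) F210016 (iv5 F233520)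
theorem F364741 : act 3 n146447 = n135620 := d7_3 (iv6 F218373) F333185 D146447
theorem F364742 : act 7 n135612 = n146447 := d8_0 F364741 (iv7 D135620) (iv3 F218088)
theorem F364743 : act 4 n135516 = n146449 := d20_0 (iv1 D146449) (iv4 F229787) F364741 (iv1 F344976) (iv3 D135534) (iv4 D63730) (iv1 D30076) (iv4 F48330) (iv3 F99078) D135516
theorem F364744 : act 4 n146450 = n135612 := d11_3 F364742 F229787 D146450
theorem F364745 : act 1 n102630 = n156451 := d15_1 D102630 (iv7 F333137) F153750
theorem F364746 : act 5 n137075 = n102630 := d17_5 F333097 D128526 (iv1 F220922) (iv5 D137076) D137075 F364745 (iv5 F333093) F153756 D102622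
theorem F364747 : act 6 n110814 = n102586 := d3_2 F333136 (iv2 F224175) F157546
theorem F364748 : act 6 n141161 = n102599 := d7_2 F333136 D141161 (iv3 D102599)
theorem E103069 : n139436 = n123241 := ((c21_9 (iv5 F224244) (iv1 F224248) F225849 F364747 F331223 F360986 (iv5 D171052) (iv1 F335239) (iv5 F364468) (iv6 D139436) (iv1 F180515))).symm
theorem F364749 : act 6 n123241 = n65441 := (sb E103069 (iv6 D139436))
theorem F364750 : act 1 n102631 = n137551 := d18_6 (iv1 F99533) D64651 F333130 F74849 D47597 D102631 (iv4 D137551) F218907 (iv5 D136036)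
theorem F364751 : act 1 n128718 = n102631 := d15_0 F364750 (iv7 F220902) (iv2 F333062)
theorem F364752 : act 4 n110959 = n152588 := d18_7 (iv1 F120225) F205237 (iv1 D69855) (iv4 F59155) D83175 F333005 D110959 F259402 F259400
theorem F364753 : act 6 n164000 = n110959 := d10_0 F364752 F342068 (iv4 F258465)
theorem F364754 : act 3 n140693 = n110964 := d20_3 F198957 F325816 (iv4 F223782) (iv1 D110964) (iv3 F333000) (iv4 D83188) F330281 (iv4 F305789) (iv3 D124409) D124407
theorem F364755 : act 2 n110964 = n111122 := d0_1 F364754 F351066 F81075 D66013 D140693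
theorem F364756 : act 6 n110964 = n111362 := d7_2 (iv6 F223783) F364754 F172813
theorem F364757 : act 7 n110964 = n111121 := d8_2 (iv7 F325843) F364754 (iv3 F353082)
theorem F364758 : act 2 n111121 = n110963 := d15_3 (iv0 D110963) D110964 F364757
theorem F364759 : act 7 n111122 = n110963 := d4_2 (iv7 F364757) F364755 (iv2 F364758)
theorem F364760 : act 3 n110963 = n111368 := d8_1 F364759 (iv7 D111368) (iv3 F351066)
theorem F364761 : act 0 n140683 = n173980 := d20_10 (iv4 D173980) (iv1 D83187) D83188 F333000 D110963 F364760 F172827 (iv1 F81084) D66009 D140683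
theorem F364762 : act 1 n140683 = n124409 := d15_1 (iv0 F364761) F353075 (iv2 F353078)
theorem F364763 : act 4 n174151 = n107403 := d18_7 (iv1 F78354) F163977 (iv1 D31714) (iv4 F39068) (iv5 F80710) F332999 D174151 F165453 F164977
theorem F364764 : act 4 n89418 = n108476 := d19_18 (iv1 D50086) D50088 F332982 (iv3 F153245) F306300 (iv5 D57752) D57751 F300596 (iv1 F61164) (iv5 F315289) D62669 D133534 F329171 F103982 (iv4 F107996) (iv3 F307589) (iv1 D89417) D89418 (iv3 D108476)
theorem F364765 : act 6 n108476 = n89420 := d10_2 (iv6 F137095) F364764 (iv4 D89420)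
theorem F364766 : act 3 n89420 = n108479 := d7_1 F364765 (iv6 D108479) D108476
theorem F364767 : act 0 n108479 = n138777 := d20_4 (iv4 D46778) F66129 D89420 F364766 (iv3 D138777) (iv4 D65166) (iv1 F79390) (iv4 F167844) (iv3 F335718) F154082
theorem F364768 : act 5 n138777 = n114281 := d19_1 F364767 (iv4 D114281) (iv3 F176899) (iv1 F176902) (iv5 F177547) F177544 F84923 F85411 D35040 D76657 D160070 F349202 (iv5 D92651) F68044 (iv3 D43342) (iv1 F291855) D41757 D89420 F364766
theorem F364769 : act 3 n114281 = n138778 := d6_1 F364768 (iv5 D138778) D138777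
theorem F364770 : act 1 n184062 = n109214 := d18_6 D46645 F310573 (iv1 F111603) (iv4 F309285) (iv5 F134771) (iv4 F286008) F332979 (iv0 D99888) (iv5 D46647)
theorem F364771 : act 5 n138450 = n109215 := d19_17 (iv1 F364770) (iv5 F350383) (iv4 D138476) F100847 (iv1 F98575) (iv5 D63326) (iv4 D29918) (iv3 F39084) (iv1 F45712) (iv5 F46502) F46505 (iv3 F38993) (iv1 F80261) F80258 F78949 D65034 D138450 (iv4 D109215) D109214
theorem F364772 : act 2 n156307 = n138450 := d2_3 F364771 (iv2 F351217) F350391
theorem F364773 : act 7 n156306 = n138450 := d13_0 F364771 F351209 (iv5 F350387)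
theorem F364774 : act 0 n157863 = n138453 := d17_0 (iv5 D138453) D138450 F364771 (iv4 D109215) D109216 F359224 (iv5 F345425) (iv0 D180418) (iv4 F248779)
theorem F364775 : act 1 n137065 = n135917 := d17_6 F246213 F349753 F364774 (iv5 D138453) (iv4 F111080) (iv5 F220230) (iv5 F247038) F245329 F245324
theorem E103070 : n138451 = n109198 := ((c15_4 F245630 F245628 (iv7 F364773) (iv2 F350388))).symm
theorem F364776 : act 0 n109198 = n65034 := (sb E103070 (iv1 D138451))
theorem F364777 : act 1 n109198 = n156308 := (sb E103070 F245630)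
theorem F364778 : act 3 n140343 = n135740 := d7_1 F332968 (iv6 D135740) (iv3 F218265)
theorem F364779 : act 4 n102184 = n109209 := d19_18 (iv1 F168627) (iv5 F172805) (iv4 F332964) F219451 F99725 (iv5 D63903) F48458 (iv3 D24347) (iv1 F38130) F38128 F18737 F11888 (iv1 F11087) D6854 D14347 D30225 F329265 D102184 (iv3 D109209)
theorem F364780 : act 4 n106865 = n101182 := d10_3 F157068 F364779 F351226
theorem F364781 : act 3 n101182 = n109194 := d5_1 F364780 (iv4 D109194) (iv3 D50391) (iv4 F78078) (iv3 F164691)
theorem F364782 : act 7 n101182 = n140368 := d11_2 (iv7 F164692) F364780 (iv4 D140368)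
theorem F364783 : act 5 n101182 = n141816 := d16_3 (iv4 F78075) D106865 F364780 (iv4 D141816) (iv5 F350396) (iv4 F350395) (iv5 F350400) F172959 (iv2 D65393)
theorem F364784 : act 0 n111134 = n120544 := d21_7 (iv5 D57382) (iv1 D27466) D27467 (iv6 F328494) (iv1 F53581) D51261 D111134 (iv5 F332942) F332943 (iv1 F302775)
theorem F364785 : act 0 n120544 = n138330 := d17_2 (iv1 F171730) F332942 F221529 F100771 F48919 F49454 (iv5 F84523) (iv0 D53578) (iv4 F80657)
theorem F364786 : act 6 n150098 = n138636 := d7_2 F332928 (iv3 F236215) (iv3 D138636)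
theorem F364787 : act 2 n160995 = n126188 := d3_3 F202937 F332909 F299387
theorem F364788 : act 2 n113403 = n96652 := d4_3 (iv7 F254497) F364787 F202938
theorem F364789 : act 4 n96678 = n113403 := d1_0 F364788 F148940 D96678
theorem F364790 : act 1 n113403 = n106216 := d15_0 (iv0 F348401) F254497 (iv2 F364788)
theorem F364791 : act 6 n98133 = n130554 := d3_2 F332881 (iv2 F288737) (iv2 F211363)
theorem F364792 : act 4 n182509 = n128964 := d20_8 F203050 (iv1 F161557) (iv4 F332864) F152023 (iv1 F72686) D98627 F295373 D182509 F207177 (iv1 F329263)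
theorem F364793 : act 5 n169907 = n182509 := d19_1 D169907 F364792 F207177 (iv1 F329263) F329264 (iv4 D61874) (iv3 F164056) (iv1 D13983) F10785 (iv4 F19713) F324224 (iv1 F28500) (iv5 D8236) D8235 F16803 D8439 D17893 D37215 D81502
theorem F364794 : act 0 n128964 = n128907 := d20_1 F364792 (iv4 F211504) (iv3 D132004) F164342 (iv3 F96559) F328124 (iv1 D40480) D40481 D87129 D182509
theorem F364795 : act 6 n109135 = n96342 := d21_5 (iv5 F211935) (iv1 D128687) D128689 (iv6 F348809) F169124 F148281 D182509 (iv5 F364793) F362853 (iv1 F207187)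
theorem F364796 : act 5 n125637 = n131985 := d6_2 F332805 D125637 F211479
theorem F364797 : act 5 n131852 = n113531 := d6_2 F332799 D131852 F176698
theorem E103071 : n144781 = n125792 := ((c8_2 F332783 D125792 (iv7 D144781) (iv3 F332780))).symm
theorem F364798 : act 4 n125792 = n67853 := (sb E103071 F227657)
theorem F364799 : act 7 n125792 = n67850 := (sb E103071 (iv7 D144781))
theorem E103072 : n169934 = n115003 := (c20_6 F332774 (iv1 F98288) (iv4 F327599) F125361 D81513 D169934 F179075 (iv1 F175394) (iv4 F364798) (iv3 D125792) (iv1 F332773))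
theorem F364800 : act 3 n115003 = n81513 := (sb E103072 (iv3 D169934))
theorem F364801 : act 5 n115003 = n96334 := (sb E103072 F267354)
theorem F364802 : act 5 n95270 = n144786 := d13_3 F227665 F364801 F148260
theorem F364803 : act 3 n144786 = n95271 := d6_1 F364802 (iv5 D95271) D95270
theorem F364804 : act 4 n95422 = n144785 := d5_4 D144786 F364803 F146895 D95422 (iv3 D144785)
theorem E103073 : n183484 = n114989 := ((c11_3 F295061 F364804 F227664 (iv4 D183484))).symm
theorem F364805 : act 4 n114989 = n87580 := (sb E103073 (iv4 D183484))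
theorem F364806 : act 0 n144785 = n113775 := d20_7 F344355 (iv1 F344352) (iv4 D95420) F70081 D44566 D95422 F364804 (iv4 F218982) F218981 (iv1 F338456)
theorem E103074 : n183485 = n114988 := (c10_3 D114989 F364805 D183485 (iv4 D114988))
theorem F364807 : act 3 n114988 = n87583 := (sb E103074 F285238)
theorem F364808 : act 5 n114988 = n185374 := (sb E103074 (iv5 F287612))
theorem F364809 : act 6 n114988 = n87580 := (sb E103074 (iv6 D183485))
theorem F364810 : act 4 n185374 = n101908 := d16_4 (iv4 D53055) D53056 D114988 F364808 F156850 (iv4 F308601) F308602 (iv7 F271992) F334788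
theorem F364811 : act 2 n154494 = n185374 := d1_3 F364810 F312615 D154494
theorem F364812 : act 6 n101908 = n185373 := d10_2 D185374 F364810 (iv4 D185373)
theorem F364813 : act 2 n185373 = n154496 := d3_1 F364812 (iv6 D154496) (iv2 F312615)
theorem F364814 : act 4 n154496 = n185372 := d1_2 D185373 F364813 (iv2 D185372)
theorem F364815 : act 1 n102302 = n154521 := d15_1 (iv0 F287609) (iv7 F353729) (iv2 F364813)
theorem F364816 : act 6 n185372 = n154494 := d10_2 D154496 F364814 (iv4 D154494)
theorem E103075 : n169935 = n115001 := (c5_3 D114988 F364807 F295063 (iv3 D115001) (iv4 D53061) (iv3 F83762))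
theorem F364817 : act 4 n115001 = n87583 := (sb E103075 (iv4 F295063))
theorem F364818 : act 6 n115001 = n81513 := (sb E103075 (iv6 D169935))
theorem F364819 : act 3 n144780 = n125547 := d6_3 (iv5 F201950) F332780 D144780
theorem F364820 : act 4 n166678 = n144780 := d5_0 F364819 F201947 (iv3 F168358) D109870 (iv3 F358382)
theorem F364821 : act 7 n125786 = n144780 := d8_0 F364819 (iv7 F201949) D125786
theorem F364822 : act 5 n125792 = n125786 := d13_3 F364821 (iv5 D144780) (iv7 F364799)
theorem F364823 : act 5 n169911 = n113248 := d18_9 F179076 F179075 (iv1 F175394) (iv4 F364798) F364822 F202299 F358146 (iv4 F125354) D169911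
theorem F364824 : act 6 n113249 = n169911 := d12_0 F364823 (iv6 D113248) (iv5 D52273) D52274 D113249
theorem E103076 : n128589 = n113363 := ((c12_4 (iv6 F93123) F332767 F174556 D113363 (iv6 D128589) (iv5 D60479))).symm
theorem F364825 : act 2 n113363 = n60538 := (sb E103076 F206828)
theorem F364826 : act 4 n113363 = n128647 := (sb E103076 (iv4 F206941))
theorem F364827 : act 6 n113363 = n60479 := (sb E103076 (iv6 D128589))
theorem F364828 : act 0 n125657 = n113437 := d21_4 F164621 (iv1 F78031) D58838 D125657 F176624 (iv5 D52368) (iv1 F161173) D113363 F364827 (iv1 F164623)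
theorem F364829 : act 3 n166090 = n128614 := d20_5 (iv4 D79737) (iv1 D36314) D36315 D79740 D166090 F206889 F364828 (iv4 F341624) (iv3 F341625) F299389
theorem F364830 : act 6 n128612 = n166090 := d7_0 F364829 (iv6 D128614) (iv3 F206884)
theorem E103077 : n128734 = n113367 := ((c15_2 F348389 (iv0 F348390) (iv7 D128734) (iv2 F364825))).symm
theorem F364831 : act 4 n113367 = n129060 := (sb E103077 (iv4 F207295))
theorem F364832 : act 7 n113367 = n60538 := (sb E103077 (iv7 D128734))
theorem F364833 : act 6 n128855 = n125743 := d12_4 (iv6 F201961) F332765 F168196 D128855 F202238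
theorem F364834 : act 6 n128776 = n107166 := d21_3 F362262 (iv1 F206820) D128776 F202239 (iv6 F364833) (iv5 D128855) (iv1 F206866) F362270 (iv6 D128886) D128883
theorem E103078 : n128781 = n112689 := ((c3_2 F364834 (iv2 F175371) (iv6 D128781) (iv2 F207035))).symm
theorem F364835 : act 3 n112689 = n60567 := (sb E103078 F207037)
theorem F364836 : act 6 n112689 = n60565 := (sb E103078 (iv6 D128781))
theorem F364837 : act 4 n125836 = n170835 := d20_0 (iv1 F281399) F281397 F248632 F119819 (iv3 F332756) (iv4 F332760) F327092 F76481 (iv3 F93140) D125836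
theorem F364838 : act 4 n111659 = n157843 := d20_8 (iv4 F254261) (iv1 D78648) D78650 (iv3 F332756) (iv1 F332757) (iv3 F173221) F173222 D111659 (iv3 D157843) (iv1 F248708)
theorem F364839 : act 3 n157841 = n111659 := d5_5 F364838 (iv3 D157843) (iv4 D75195) D75194 D157841
theorem F364840 : act 3 n182768 = n96148 := d0_4 F332748 F76345 D87244 D182768 (iv2 F152084)
theorem F364841 : act 4 n182769 = n182768 := d5_0 F364840 F147818 F295048 (iv4 F133890) (iv3 F284337)
theorem F364842 : act 6 n96147 = n182768 := d7_0 F364840 (iv6 D96148) D96147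
theorem F364843 : act 2 n182769 = n96147 := d3_3 F364842 (iv2 D182768) D182769
theorem F364844 : act 2 n182772 = n98627 := d2_3 (iv5 F152083) F332738 D182772
theorem F364845 : act 4 n182511 = n182772 := d1_0 F364844 F295373 D182511
theorem F364846 : act 5 n141895 = n180778 := d21_6 F294321 F293297 F140573 (iv6 F331052) (iv1 F180884) D141895 (iv1 D180778) (iv5 F332729) (iv6 D103985) (iv1 F294320)
theorem F364847 : act 3 n129991 = n176075 := d20_5 (iv4 F207143) F218460 (iv4 F332687) F332686 F208414 (iv4 D176075) (iv1 F321107) F179372 (iv3 F207063) (iv1 F207068)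
theorem F364848 : act 2 n176075 = n135026 := d0_1 F364847 (iv3 D135026) (iv2 F216851) (iv3 F216846) (iv2 F208412)
theorem F364849 : act 6 n176075 = n135600 := d7_2 (iv6 F359672) F364847 F218058
theorem F364850 : act 7 n176075 = n135291 := d8_2 F208415 F364847 (iv3 D135291)
theorem F364851 : act 6 n134783 = n91018 := d3_2 D91023 F332672 F140066
theorem F364852 : act 1 n91023 = n135069 := d15_0 (iv0 D135069) (iv7 F216889) (iv2 F332672)
theorem F364853 : act 5 n89029 = n134784 := d12_3 F364851 (iv5 D91018) F293982 (iv6 D134784) D134783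
theorem F364854 : act 7 n134784 = n89028 := d13_2 D89029 F364853 (iv5 D89028)
theorem F364855 : act 0 n134784 = n89040 := d17_2 (iv1 F136700) F364853 F293583 F70880 D47724 D102904 F331375 (iv0 F294678) F69421
theorem F364856 : act 0 n89039 = n134784 := d21_1 F157558 (iv5 F364853) (iv6 F293982) (iv1 F294138) D46287 (iv5 F153686) (iv1 D47586) (iv5 D22883) D22884 D47589
theorem E103079 : n135163 = n135065 := ((c17_2 (iv1 F216887) D135065 (iv1 D135163) (iv5 F167591) F167590 (iv5 F329170) F332641 (iv5 F327770) F179375 (iv4 F216883))).symm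
theorem F364857 : act 0 n135065 = n63518 := (sb E103079 (iv1 D135163))
theorem F364858 : act 1 n128873 = n127400 := d15_0 (iv0 F259069) F332638 (iv2 F213420)
theorem F364859 : act 3 n135705 = n113754 := d20_9 (iv4 F328852) (iv1 F206824) (iv4 F332632) F332631 (iv1 F97716) (iv3 F179231) F179232 (iv1 F99182) D135705 (iv1 D113754)
theorem F364860 : act 7 n113754 = n113605 := d8_2 F349105 F364859 F328469
theorem F364861 : act 2 n113605 = n113753 := d15_3 (iv0 D113753) D113754 F364860
theorem F364862 : act 2 n113754 = n113606 := d15_3 F177010 F177011 (iv7 F364860)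
theorem F364863 : act 7 n113606 = n113753 := d4_2 (iv7 F364860) F364862 (iv2 F364861)
theorem F364864 : act 6 n106103 = n134491 := d3_2 D134492 F332613 (iv2 D134491)
theorem F364865 : act 6 n152365 = n135759 := d21_3 F105037 D71882 D152365 (iv1 D135759) (iv6 D63830) (iv5 D30115) (iv1 F45613) D59373 (iv6 F332593) F332589
theorem F364866 : act 2 n135759 = n134495 := d3_1 F364865 (iv6 F359182) (iv2 F334818)
theorem F364867 : act 0 n135760 = n106499 := d21_1 D135760 F163752 (iv6 D59831) F50518 D68844 F105037 D71882 D152365 F364865 (iv1 D135759)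
theorem F364868 : act 5 n127383 = n186407 := d21_2 F163752 D127383 (iv6 D186407) (iv1 F291561) D94046 F327569 (iv1 D63832) D63833 (iv6 F218296) F364867
theorem F364869 : act 7 n134494 = n135759 := d15_2 F218301 F218302 F364866
theorem F364870 : act 7 n135758 = n134495 := d15_2 F218294 F218300 (iv2 F364866)
theorem F364871 : act 2 n134494 = n135758 := d4_3 F364870 (iv2 F364866) (iv7 F364869)
theorem F364872 : act 0 n167882 = n116416 := d20_7 F110656 (iv1 F41525) (iv4 F49429) (iv3 F102278) (iv1 F224472) F332442 (iv4 F264516) F181615 F84659 D53665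
theorem F364873 : act 7 n167882 = n140783 := d15_2 F363634 (iv0 F364872) (iv2 F225110)
theorem F364874 : act 2 n167882 = n170478 := d15_3 (iv0 F355438) F339810 (iv7 F364873)
theorem F364875 : act 7 n170478 = n142084 := d4_2 (iv7 F364873) F364874 F225110
theorem F364876 : act 0 n107453 = n108198 := d20_7 (iv4 D30564) (iv1 F26165) F49745 D67704 F332413 (iv3 F180614) F180615 F167317 F79058 (iv1 F53620)
theorem E103080 : n174580 = n111031 := (c7_2 F332391 D174580 (iv6 D111031) D111029)
theorem F364877 : act 3 n111031 = n83427 := (sb E103080 (iv3 D174580))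
theorem F364878 : act 3 n173336 = n97076 := d19_7 D130905 F209493 (iv4 F172192) F364877 (iv1 D83427) D83429 (iv4 F271779) F149757 F138057 (iv4 D48395) D48394 (iv1 F160665) (iv5 D103114) (iv4 F135534) D92800 F335799 (iv5 D130914) F95919 (iv3 F95912)
theorem F364879 : act 3 n95622 = n109525 := d0_2 F364878 F149754 F169482 (iv3 F326133) (iv2 F271778)
theorem F364880 : act 4 n97074 = n174586 := d5_4 (iv4 F271779) F364878 (iv4 D97076) (iv3 F149750) F273439
theorem F364881 : act 0 n184485 = n122461 := d20_7 F113554 F298273 (iv4 F299366) (iv3 F302237) (iv1 F237221) (iv3 F332327) F332328 F303726 F127236 (iv1 F128567)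
theorem F364882 : act 0 n100489 = n98301 := d20_4 F95896 (iv1 F94573) (iv4 F94576) (iv3 F332307) F151723 F151558 (iv1 F319780) D61203 F95678 D61400
theorem F364883 : act 3 n112601 = n133004 := d6_1 F332174 (iv5 D133004) (iv3 F311203)
theorem F364884 : act 6 n133004 = n112599 := d7_2 D112601 F364883 (iv3 D112599)
theorem F364885 : act 2 n139659 = n163133 := d2_3 F332172 (iv2 F165615) D139659
theorem F364886 : act 3 n107067 = n163133 := d6_3 F332172 (iv3 D107065) D107067
theorem F364887 : act 0 n109239 = n163133 := d21_1 F169194 F332172 F165698 F209165 (iv6 D115298) (iv5 F84019) (iv1 F48710) (iv5 F100063) (iv6 F111138) F169195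
theorem F364888 : act 7 n121742 = n112773 := d13_2 F332146 F325665 F332138
theorem F364889 : act 2 n112773 = n121741 := d15_3 (iv0 D121741) D121742 F364888
theorem F364890 : act 2 n121742 = n112772 := d15_3 (iv0 D112772) D112773 (iv7 F364888)
theorem F364891 : act 7 n112772 = n121741 := d4_2 (iv7 F364888) F364890 (iv2 F364889)
theorem F364892 : act 1 n112715 = n121741 := d15_1 F332151 (iv7 F364891) (iv2 F364890)
theorem F364893 : act 5 n121741 = n126010 := d17_7 F166517 F162045 (iv1 D105532) F76858 (iv4 F82207) D112715 F364892 F332161 (iv4 F326028)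
theorem F364894 : act 6 n129726 = n121741 := d21_9 (iv5 D112715) (iv1 F326507) D121736 F348459 (iv1 D85085) (iv6 F313370) (iv5 D60937) D60935 D129726 (iv1 F364892)
theorem F364895 : act 5 n144355 = n147372 := d6_2 F332102 D144355 F231090
theorem F364896 : act 2 n147379 = n144355 := d2_3 F364895 F231089 D147379
theorem F364897 : act 7 n155057 = n152632 := d15_2 F239846 F332043 F239844
theorem F364898 : act 3 n152632 = n155072 := d8_1 F364897 (iv7 D155072) (iv3 F243836)
theorem F364899 : act 3 n103274 = n117094 := d6_1 F332037 F321765 D155065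
theorem F364900 : act 7 n103274 = n135995 := d13_2 (iv7 F243854) F332037 F321763
theorem F364901 : act 6 n154110 = n174458 := d7_2 F332005 (iv3 F242178) (iv3 D174458)
theorem F364902 : act 4 n174501 = n154110 := d10_3 F364901 F273333 (iv6 F273381)
theorem E103081 : n152743 = n138081 := ((c16_5 D125001 F331977 F93931 D64883 D138081 (iv5 D152743) (iv4 D72075) (iv5 F199918) F199920 (iv2 F199921))).symm
theorem F364903 : act 5 n138081 = n72075 := (sb E103081 (iv5 D152743))
theorem F364904 : act 3 n128805 = n175993 := d20_5 (iv4 D24890) F22970 D28768 D60577 D128805 (iv4 D175993) (iv1 F331956) (iv4 F167295) (iv3 D108191) (iv1 F79036)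
theorem F364905 : act 0 n141985 = n145394 := d19_16 (iv1 F183120) F331938 (iv4 D73603) F53172 (iv1 D16374) (iv5 D7602) F5432 (iv3 F5669) D8070 D17207 (iv4 F324113) (iv3 F49338) (iv1 F81077) (iv5 F81078) (iv4 F102421) (iv3 F225013) (iv5 D145394) (iv4 F204056) (iv3 D126806)
theorem F364906 : act 4 n174738 = n107275 := d11_3 (iv7 F172218) F331928 D174738
theorem F364907 : act 4 n128286 = n105599 := d16_2 F187762 D128286 (iv5 D105599) F76899 D48825 D105608 F329467 D128101 F331923
theorem F364908 : act 2 n175106 = n128286 := d16_9 F364907 (iv5 D105599) F76899 D48825 D105608 F329467 F94760 D83627 D175106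
theorem F364909 : act 3 n128073 = n119435 := d0_4 (iv3 F274073) F364908 F206408 (iv2 F206102) F188188
theorem F364910 : act 7 n128286 = n152602 := d4_2 D175106 F364908 F239795
theorem F364911 : act 1 n128286 = n175103 := d15_0 (iv0 D175103) D175106 F364908
theorem F364912 : act 3 n152602 = n128079 := d8_1 F364910 F206123 (iv3 F206408)
theorem F364913 : act 1 n175104 = n128286 := d15_1 D175104 F364910 F239795
theorem F364914 : act 5 n172372 = n175104 := d17_5 D73621 (iv5 F328525) (iv1 F219432) F328955 (iv4 F270600) F364913 (iv5 D128286) F328951 F110323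
theorem F364915 : act 6 n128079 = n152598 := d7_2 (iv6 F239796) F364912 F239791
theorem F364916 : act 2 n152598 = n128326 := d3_1 F364915 (iv6 D128326) (iv2 F206122)
theorem F364917 : act 3 n128326 = n119420 := d0_2 (iv3 F239791) F364916 F188178 F128694 F120197
theorem F364918 : act 5 n128326 = n119409 := d2_2 D152598 F364916 F188155
theorem F364919 : act 0 n128326 = n141082 := d21_7 F306573 (iv1 F304852) F127305 F297350 (iv1 F116176) D119409 (iv5 F364918) F324975 (iv6 D82882) D82879
theorem F364920 : act 3 n165317 = n101459 := d5_5 F331913 (iv3 F331912) (iv4 D79423) D79422 D165317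
theorem F364921 : act 0 n165317 = n123067 := d20_4 F128584 D83484 (iv4 F331913) (iv3 F364920) (iv3 F361520) (iv4 F348239) (iv1 F348240) F304378 F197496 F331918
theorem F364922 : act 7 n165317 = n101477 := d15_2 D123067 (iv0 F364921) F304182
theorem F364923 : act 2 n122298 = n165317 := d4_3 F364922 F304182 F301407
theorem F364924 : act 6 n123525 = n165317 := d14_5 F364922 F304184 F90339 D57569 D123525
theorem F364925 : act 1 n165317 = n123066 := d15_0 (iv0 D123066) F301407 F364923
theorem E103082 : n123066 = n99590 := ((c20_10 (iv4 D165317) (iv1 F312432) F305760 (iv3 F184676) (iv1 F304386) (iv3 F197122) F197123 (iv1 F309645) F153349 (iv3 F153343) (iv1 F364925))).symm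
theorem F364926 : act 0 n99590 = n165317 := (sb E103082 (iv1 F364925))
theorem F364927 : act 1 n99590 = n57269 := (sb E103082 (iv0 D123066))
theorem F364928 : act 7 n123067 = n181149 := d15_2 F364927 D123067 F282160
theorem F364929 : act 6 n133677 = n123067 := d14_5 F364928 (iv6 D181149) F132702 (iv6 F314265) (iv7 F342005)
theorem F364930 : act 5 n120138 = n126903 := d6_2 D126904 F331895 (iv3 D126903)
theorem F364931 : act 6 n153962 = n182916 := d12_2 F331870 D153962 (iv5 D182916) (iv6 D87334) (iv5 F127860)
theorem F364932 : act 0 n183456 = n153962 := d21_7 F129888 (iv1 F70102) F72500 D98216 F321376 D184036 (iv5 F285987) (iv5 D153962) (iv6 F331870) F129892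
theorem F364933 : act 6 n176112 = n162610 := d10_2 F331867 D176112 F303391
theorem F364934 : act 2 n174722 = n153962 := d2_3 (iv5 D153962) F331865 D174722
theorem F364935 : act 7 n153967 = n174722 := d13_2 F331864 D153967 (iv5 D174722)
theorem F364936 : act 1 n183456 = n153967 := d15_1 (iv0 F364932) F364935 F364934
theorem F364937 : act 1 n107199 = n116112 := d15_1 D107199 (iv7 F331820) F165214
theorem F364938 : act 2 n116115 = n107199 := d15_3 F364937 (iv0 D116112) D116115
theorem F364939 : act 5 n106880 = n107199 := d17_5 F163937 F49158 (iv1 F95961) F95959 (iv4 F164725) F364937 F180902 (iv0 F214872) (iv4 D133571)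
theorem F364940 : act 7 n107199 = n106879 := d13_2 D106880 F364939 (iv5 D106879)
theorem F364941 : act 4 n107199 = n115302 := d16_2 (iv4 F164725) F364939 (iv5 D115302) F84025 F326903 (iv4 D53524) (iv5 D25925) D25926 (iv2 F78100)
theorem F364942 : act 1 n115302 = n115275 := d18_6 F102040 (iv4 D53517) (iv1 F78105) (iv4 F164725) F364939 F364941 (iv4 F331019) F222780 (iv5 D134724)
theorem F364943 : act 4 n115396 = n116106 := d19_18 (iv1 F164728) F364939 F364941 F179568 F84028 (iv5 D53176) F40765 (iv3 D13493) (iv1 F22613) F22610 F10457 (iv3 F8937) (iv1 F8940) D5814 D12259 D25814 D53236 D115396 (iv3 D116106)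
theorem F364944 : act 3 n175026 = n107199 := d5_5 F364941 F179568 F84027 (iv3 F175521) F328394
theorem F364945 : act 4 n115565 = n106879 := d11_3 (iv7 F364940) F364941 (iv7 F179879)
theorem F364946 : act 2 n116114 = n115565 := d1_3 F364945 F164723 D116114
theorem F364947 : act 3 n115627 = n116114 := d0_0 F364946 (iv3 D115565) (iv2 F84158) (iv3 F179605) F179990
theorem F364948 : act 1 n115270 = n115302 := d15_1 (iv0 F331831) (iv7 F179879) (iv2 F364946)
theorem F364949 : act 6 n107199 = n175024 := d7_2 D175026 F364944 (iv3 D175024)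
theorem F364950 : act 3 n138765 = n126167 := d6_1 F331814 F202873 (iv3 F202861)
theorem F364951 : act 7 n138765 = n126162 := d13_2 D126163 F331814 (iv5 D126162)
theorem F364952 : act 6 n126167 = n138764 := d7_2 D138765 F364950 (iv3 D138764)
theorem F364953 : act 5 n134861 = n156311 := d21_0 (iv1 D156311) (iv5 F221903) (iv6 F364952) (iv1 F202874) (iv6 F339930) F331546 (iv1 D66509) (iv5 F101672) D140612 (iv1 F351256)
theorem F364954 : act 5 n133353 = n112891 := d17_1 (iv1 F214410) (iv1 D112891) (iv5 D52104) (iv4 F48142) D63378 D134861 F364953 F245639 F221653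
theorem F364955 : act 6 n140638 = n107127 := d10_2 F331811 D140638 F165109
theorem F364956 : act 2 n107129 = n140638 := d3_3 F364955 (iv2 D107127) D107129
theorem E103083 : n140633 = n112679 := (c2_2 F331810 D140633 (iv5 D112679) (iv2 F175342))
theorem F364957 : act 2 n112679 = n65987 := (sb E103083 (iv2 D140633))
theorem F364958 : act 5 n107129 = n109071 := d16_1 (iv4 F165113) (iv4 D109071) (iv5 D50357) (iv4 F79730) F79731 (iv4 F100838) D138456 F221652 F331805
theorem F364959 : act 3 n109071 = n107131 := d6_1 F364958 (iv5 D107131) (iv3 F165112)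
theorem E103084 : n145409 = n100984 := (c3_3 (iv6 F155576) F331779 D145409 (iv2 D100984))
theorem F364960 : act 6 n100984 = n68171 := (sb E103084 (iv6 D145409))
theorem F364961 : act 4 n139394 = n184259 := d20_2 (iv4 F101143) D139394 F286187 (iv1 F331752) (iv3 D65460) D65461 (iv1 F182981) F182976 F182982 (iv1 D65432)
theorem F364962 : act 6 n184258 = n139394 := d10_0 F364961 (iv6 D184259) (iv4 F286186)
theorem F364963 : act 1 n137410 = n141797 := d17_8 (iv1 D66482) D66484 (iv1 F323661) F331748 F94022 D64488 D137201 (iv5 F220622) (iv4 D141797)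
theorem F364964 : act 2 n158791 = n160538 := d0_3 F331725 F249250 (iv3 F249996) (iv3 D160538) D160537
theorem F364965 : act 4 n160538 = n174232 := d1_2 (iv4 F358419) F364964 F362526
theorem F364966 : act 5 n160538 = n134638 := d2_2 D158791 F364964 F317042
theorem F364967 : act 0 n173213 = n160538 := d21_1 D173213 F364966 (iv6 D134638) (iv1 F316282) (iv6 D38023) D38022 (iv1 F59259) (iv5 D38131) D38132 D82888
theorem F364968 : act 0 n160538 = n126327 := d21_1 (iv5 F364966) F320703 (iv6 F332048) F317080 (iv6 D83090) (iv5 F306844) (iv1 D69156) F304912 D82739 (iv1 F354481)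
theorem F364969 : act 6 n110661 = n144573 := d10_2 (iv6 F227424) F331698 (iv4 D144573)
theorem F364970 : act 3 n144573 = n172354 := d7_1 F364969 (iv6 D172354) (iv3 F344917)
theorem F364971 : act 6 n144505 = n110760 := d10_2 D112925 F331684 F171447
theorem F364972 : act 7 n123851 = n119576 := d8_0 F331659 (iv7 F329958) D123851
theorem F364973 : act 6 n134399 = n123851 := d14_5 F364972 F331660 (iv7 D63135) D63134 D134399
theorem F364974 : act 2 n123851 = n119575 := d15_3 (iv0 D119575) D119576 (iv7 F364972)
theorem F364975 : act 6 n148531 = n134007 := d3_2 D134011 F331643 F215939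
theorem F364976 : act 0 n146975 = n111129 := d20_4 F331626 (iv1 F105026) D68895 D146975 F172341 F80851 (iv1 D29854) D29855 D63141 D134422
theorem F364977 : act 1 n144903 = n111256 := d15_1 (iv0 F230427) F216384 F331624
theorem F364978 : act 3 n142713 = n105393 := d8_1 F331569 F178229 (iv3 F178002)
theorem F364979 : act 0 n114318 = n116163 := d19_4 D66508 (iv5 F331551) (iv4 D114320) (iv3 F178201) (iv5 D116163) (iv4 D53539) F40989 (iv1 F24237) (iv5 D14574) F11229 D12337 (iv1 F22562) (iv5 D6413) D6412 F18860 F18862 D14776 F24416 D31047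
theorem F364980 : act 3 n114598 = n114425 := d19_19 (iv1 D114425) (iv5 F112704) F331543 F98681 (iv1 F53524) (iv5 D34108) (iv4 D16516) F11912 (iv1 F10902) (iv5 D6693) F4715 (iv3 F4710) F10019 F8838 (iv4 F18352) D24018 (iv1 F56587) (iv5 F120071) (iv4 F178687)
theorem F364981 : act 7 n114425 = n133412 := d8_2 F178688 F364980 F351262
theorem F364982 : act 3 n183114 = n112957 := d20_9 F176139 (iv1 F175971) F340030 (iv3 F364980) (iv1 F356878) F356947 (iv4 D95944) (iv1 F147150) F356674 (iv1 F176142)
theorem F364983 : act 5 n112957 = n183113 := d6_2 D183114 F364982 (iv3 D183113)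
theorem F364984 : act 7 n112957 = n113057 := d8_2 (iv7 F356672) F364982 (iv3 F356941)
theorem F364985 : act 2 n113057 = n112958 := d15_3 F176141 F176142 F364984
theorem F364986 : act 2 n112957 = n113056 := d15_3 (iv0 D113056) D113057 (iv7 F364984)
theorem F364987 : act 3 n113056 = n106527 := d0_2 F364982 F364986 (iv2 F356958) F356942 F356673
theorem F364988 : act 7 n113056 = n112958 := d4_2 (iv7 F364984) F364986 (iv2 F364985)
theorem F364989 : act 3 n112958 = n106747 := d8_1 F364988 (iv7 F356953) (iv3 F364987)
theorem F364990 : act 4 n113084 = n112958 := d20_2 F178454 (iv1 F176241) F364989 (iv1 D106747) (iv3 F333549) (iv4 D106744) (iv1 F77994) D78895 (iv3 F351262) (iv1 F214524)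
theorem F364991 : act 2 n113124 = n113084 := d1_3 F364990 (iv2 F364985) (iv4 F351258)
theorem F364992 : act 7 n113083 = n113124 := d15_2 F176241 F176242 F364991
theorem F364993 : act 7 n113123 = n113084 := d15_2 F176238 F176240 (iv2 F364991)
theorem F364994 : act 2 n113083 = n113123 := d4_3 F364993 (iv2 F364991) (iv7 F364992)
theorem F364995 : act 4 n113056 = n113123 := d11_3 F364993 F364990 (iv7 F364988)
theorem F364996 : act 4 n113083 = n112957 := d1_2 F364995 (iv2 F364994) F364986
theorem F364997 : act 4 n134860 = n114371 := d18_7 D113056 F364995 (iv1 F176240) (iv4 F214521) F214522 F351254 F351305 (iv0 D114371) F83378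
theorem F364998 : act 3 n114371 = n159375 := d19_3 D156310 F351306 F364997 (iv1 F250923) F179186 F333532 F96470 F46976 (iv5 D24093) (iv4 D11313) (iv3 F11105) D14337 (iv5 F40707) (iv4 F46388) F80252 (iv1 D50877) F48118 (iv4 F53519) D74351
theorem F364999 : act 0 n183113 = n92966 := d21_1 F364983 F292041 (iv6 D88711) (iv1 F291605) (iv6 D52162) (iv5 D25331) (iv1 F19909) (iv5 F39979) D52138 D112957
theorem F365000 : act 6 n114305 = n183159 := d21_3 (iv5 F94474) (iv1 F177895) (iv5 F178176) (iv1 D183159) (iv6 F284729) (iv5 F364983) (iv1 F176142) (iv5 F178306) (iv6 D114333) (iv1 F94473)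
theorem F365001 : act 5 n183159 = n115000 := d12_1 F365000 (iv6 D115000) (iv5 D53059) D53060 (iv5 F178176)
theorem F365002 : act 7 n112895 = n112997 := d11_2 F364981 F351263 F340030
theorem F365003 : act 2 n133412 = n114424 := d15_3 (iv0 D114424) D114425 F364981
theorem F365004 : act 2 n114425 = n133413 := d15_3 F214519 F214524 (iv7 F364981)
theorem F365005 : act 7 n133413 = n114424 := d4_2 (iv7 F364981) F365004 (iv2 F365003)
theorem F365006 : act 2 n112997 = n112896 := d15_3 F175976 F175977 F365002
theorem F365007 : act 2 n112895 = n112996 := d15_3 (iv0 D112996) D112997 (iv7 F365002)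
theorem F365008 : act 4 n112996 = n114424 := d1_2 F351263 F365007 (iv2 F365003)
theorem F365009 : act 7 n112996 = n112896 := d4_2 (iv7 F365002) F365007 (iv2 F365006)
theorem F365010 : act 4 n112896 = n133413 := d11_1 F365009 F365005 (iv4 F365008)
theorem F365011 : act 4 n113042 = n128558 := d18_7 (iv1 F175976) F365010 (iv1 D133413) F97667 (iv5 F103447) F331489 D113042 F206814 F206812
theorem F365012 : act 4 n112891 = n128580 := d18_7 D112996 F365008 (iv1 F214526) F214521 (iv5 F331506) (iv4 D112892) D112891 (iv0 D128580) F95045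
theorem F365013 : act 6 n128582 = n112889 := d3_2 D112893 F331503 F175809
theorem F365014 : act 1 n116967 = n143984 := d15_0 (iv0 D143984) (iv7 F331500) (iv2 F182833)
theorem F365015 : act 5 n138262 = n143984 := d21_6 D60457 F95007 (iv5 D31361) D31362 D67494 (iv6 F221460) (iv1 F365014) (iv5 D116967) (iv6 D53907) (iv1 F46311)
theorem F365016 : act 7 n143984 = n143996 := d13_2 F357413 F365015 (iv5 F357409)
theorem F365017 : act 2 n143984 = n143997 := d15_3 F226653 F226652 (iv7 F365016)
theorem F365018 : act 7 n143985 = n143997 := d15_2 (iv0 D143984) D143985 (iv2 F365017)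
theorem F365019 : act 2 n143996 = n143985 := d4_3 F365018 (iv2 F365017) F365016
theorem F365020 : act 5 n143985 = n144294 := d2_2 F357409 F365019 (iv2 F357412)
theorem F365021 : act 1 n143985 = n116967 := d15_0 F365014 F365016 F365019
theorem F365022 : act 6 n116964 = n112944 := d7_2 F331496 (iv3 F182826) (iv3 F176105)
theorem F365023 : act 2 n112945 = n116964 := d3_3 F365022 (iv2 D112944) D112945
theorem F365024 : act 5 n116963 = n112945 := d2_0 F365023 (iv5 D116964) D116963
theorem F365025 : act 7 n128573 = n112945 := d4_0 F365023 F182827 (iv2 F206800)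
theorem F365026 : act 1 n112945 = n128574 := d15_0 (iv0 D128574) (iv7 F182827) (iv2 F365023)
theorem F365027 : act 1 n128575 = n112945 := d15_1 D128575 (iv7 F365025) F206800
theorem F365028 : act 0 n105384 = n140034 := d20_1 (iv4 F161717) (iv4 F226337) (iv3 D143657) (iv1 D67284) F49572 (iv4 D14883) D14881 D31631 D67967 F331478
theorem F365029 : act 7 n96067 = n186186 := d4_2 F291633 F331418 (iv2 F291631)
theorem F365030 : act 1 n103311 = n186211 := d15_0 (iv0 F331380) (iv7 D131144) (iv2 F331355)
theorem F365031 : act 7 n186211 = n95568 := d15_2 (iv0 F176043) F365030 (iv2 F149531)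
theorem E103085 : n176857 = n96030 := (c20_8 D21337 D44811 (iv4 F70430) (iv3 F147720) F331364 (iv3 F294947) F294948 D176857 (iv4 D96030) (iv3 D44808) (iv1 D21336))
theorem F365032 : act 1 n96030 = n84310 := (sb E103085 (iv0 D176857))
theorem F365033 : act 1 n97415 = n90017 := d18_8 D90014 (iv4 F293509) (iv1 D90754) (iv4 F76242) F76243 D96030 F365032 (iv4 F294948) (iv5 D90017)
theorem F365034 : act 1 n181897 = n97415 := d15_0 F365033 F138313 (iv2 F283195)
theorem F365035 : act 1 n96962 = n181897 := d15_0 F365034 F205515 (iv2 F149544)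
theorem E103086 : n96014 = n95960 := (c20_5 (iv4 F147645) (iv1 D96020) (iv4 D44806) D44805 D96014 (iv3 F150100) (iv4 F331363) F235279 (iv4 F331356) F158547 F75154)
theorem F365036 : act 1 n95960 = n44805 := (sb E103086 (iv0 D96014))
theorem F365037 : act 6 n130627 = n96067 := d21_5 (iv5 D61254) (iv1 F46631) (iv5 F46658) D61293 D130627 F251775 (iv1 D103310) D103311 F331357 (iv1 F95730)
theorem F365038 : act 2 n133374 = n130627 := d3_3 F365037 (iv2 F331418) F340441
theorem F365039 : act 4 n113035 = n130627 := d10_3 F365037 F331416 (iv6 F331420)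
theorem F365040 : act 7 n130628 = n133374 := d15_2 (iv0 D130627) D130628 F365038
theorem F365041 : act 7 n133375 = n130627 := d15_2 (iv0 D133374) D133375 (iv2 F365038)
theorem F365042 : act 2 n130628 = n133375 := d4_3 F365041 (iv2 F365038) (iv7 F365040)
theorem F365043 : act 4 n112940 = n133375 := d11_3 F365041 (iv4 F365039) (iv7 F331431)
theorem F365044 : act 4 n130628 = n113036 := d1_2 F365043 (iv2 F365042) F331432
theorem F365045 : act 4 n113714 = n144779 := d18_1 (iv1 F176942) (iv1 D144779) F103897 F49860 (iv4 F95779) D130628 F365044 F176089 F175888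
theorem F365046 : act 3 n130691 = n113714 := d20_5 (iv4 D61329) (iv1 D29031) (iv4 F46673) (iv3 F95801) D130691 F365045 (iv1 D144779) F103897 (iv3 F103894) (iv1 F328437)
theorem F365047 : act 0 n144290 = n103592 := d20_4 F68333 D43489 F331316 (iv3 F226989) F158935 (iv4 D100861) (iv1 F157772) F153283 F75412 F157743
theorem F365048 : act 1 n144290 = n103589 := d15_1 (iv0 F365047) F158919 (iv2 F158934)
theorem F365049 : act 7 n144290 = n95301 := d15_2 F176037 (iv0 F365047) (iv2 F147978)
theorem F365050 : act 5 n95301 = n144030 := d13_1 F365049 F226727 D144290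
theorem F365051 : act 0 n128535 = n159522 := d21_4 (iv5 D53906) (iv1 F46311) D60457 D128535 F251260 (iv5 D95563) F178355 D97421 F331312 (iv1 F95015)
theorem E103087 : n144233 = n137093 := ((c18_7 F157268 F70308 (iv1 F294539) (iv4 F295128) D97421 F331311 D137093 (iv4 D144233) F306980 (iv5 D44799))).symm
theorem F365052 : act 4 n137093 = n67561 := (sb E103087 (iv4 D144233))
theorem F365053 : act 2 n104150 = n155912 := d0_5 (iv3 D155912) F331310 (iv3 D87926) (iv2 F75746) D104150
theorem F365054 : act 2 n184256 = n155913 := d1_3 (iv4 D155913) F331310 (iv4 F286185)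
theorem F365055 : act 3 n105547 = n184255 := d20_3 F84016 D53192 (iv4 F162078) (iv1 D184255) D184256 F286185 (iv1 F331308) F325003 (iv3 D144710) F162030
theorem F365056 : act 4 n184255 = n139346 := d5_2 (iv4 F162078) F365055 (iv3 D139346) (iv4 D65403) (iv3 F111300)
theorem F365057 : act 7 n184255 = n139596 := d8_2 F162079 F365055 (iv3 D139596)
theorem F365058 : act 2 n139596 = n184254 := d15_3 (iv0 D184254) D184255 F365057
theorem F365059 : act 4 n184254 = n139603 := d1_2 (iv4 F222742) F365058 (iv2 D139603)
theorem F365060 : act 3 n139603 = n100787 := d20_3 D87888 D184254 F365059 (iv1 F154886) F74257 (iv4 F74302) (iv1 F74303) (iv4 D46765) D46764 F134921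
theorem F365061 : act 7 n100878 = n139603 := d8_0 F365060 F270480 D100878
theorem F365062 : act 2 n139346 = n100878 := d4_3 F365061 (iv2 D139603) (iv7 F222555)
theorem F365063 : act 1 n139602 = n100878 := d15_1 D139602 F365061 (iv2 D139603)
theorem F365064 : act 1 n100878 = n139601 := d15_0 (iv0 D139601) (iv7 F222555) F365062
theorem F365065 : act 1 n139346 = n155581 := d18_8 (iv1 F158454) F157789 (iv1 D87858) F62126 D41005 D87888 D184255 F365056 F349994
theorem F365066 : act 1 n155581 = n139603 := d15_1 F365065 (iv7 F365061) (iv2 F365062)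
theorem F365067 : act 1 n139603 = n99517 := d15_1 F365066 F349989 F349990
theorem F365068 : act 1 n99517 = n139346 := d15_1 F365067 F222555 D139603
theorem E103088 : n136985 = n99539 := ((c20_7 F49120 D30668 D65403 D139346 (iv1 F365068) F153285 D99539 (iv1 D136985) D136987 F220133 (iv1 D65398))).symm
theorem F365069 : act 0 n99539 = n64383 := (sb E103088 (iv1 D136985))
theorem F365070 : act 5 n137500 = n96225 := d21_8 (iv5 D21444) D21441 (iv5 F55103) D76271 (iv1 F331307) (iv6 F220691) (iv5 D137502) D137500 (iv6 D96225) (iv1 D44929)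
theorem F365071 : act 2 n159522 = n137500 := d2_3 F365070 F148003 D159522
theorem F365072 : act 6 n96962 = n137500 := d12_0 F365070 (iv6 D96225) F70624 D45330 D96962
theorem F365073 : act 7 n137501 = n159522 := d15_2 (iv0 D137500) D137501 F365071
theorem F365074 : act 5 n159523 = n137501 := d13_3 F365073 (iv5 D159522) D159523
theorem E103089 : n115469 = n115465 := ((c19_13 (iv1 F331295) (iv5 D142405) (iv4 F321152) F130689 F319060 (iv5 F320300) F46729 (iv3 F46726) (iv1 F46727) (iv5 D25829) (iv4 F40815) (iv3 F84107) D115465 F179768 F103394 (iv3 D31368) (iv1 F48671) (iv5 F95039) F95040 (iv3 F331278))).symm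
theorem F365075 : act 3 n115465 = n53263 := (sb E103089 (iv3 D115469))
theorem F365076 : act 5 n115465 = n67505 := (sb E103089 F179768)
theorem F365077 : act 7 n115465 = n115323 := (sb E103089 F179769)
theorem F365078 : act 5 n144086 = n115618 := d17_7 (iv1 F206785) F330553 D115465 F365076 F103394 D67512 D144086 F182820 (iv4 F206780)
theorem F365079 : act 2 n128569 = n144086 := d2_3 F365078 F179957 D128569
theorem F365080 : act 3 n142360 = n144086 := d6_3 F365078 F179973 D142360
theorem F365081 : act 7 n128571 = n144086 := d13_0 F365078 (iv7 F179956) D128571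
theorem F365082 : act 4 n144205 = n144086 := d16_0 F365078 (iv4 D115618) D115619 F219380 (iv5 D136314) F99690 D113100 F176212 D144205
theorem F365083 : act 6 n144089 = n131916 := d21_5 (iv5 F365078) (iv1 D144086) (iv5 D67512) D67513 D144089 (iv5 F211372) (iv1 F175964) (iv5 D112990) (iv6 F95037) (iv1 F182820)
theorem F365084 : act 4 n156263 = n144089 := d10_3 F365083 F211370 D156263
theorem F365085 : act 1 n128569 = n116981 := d15_0 F355426 F365081 (iv2 F365079)
theorem F365086 : act 2 n128571 = n144085 := d15_3 (iv0 D144085) D144086 (iv7 F365081)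
theorem F365087 : act 4 n144085 = n113100 := d16_0 (iv5 D113100) (iv4 F99690) D136314 (iv4 F219380) (iv5 D115619) D115618 (iv5 F365078) (iv7 F365081) F365086
theorem F365088 : act 7 n128569 = n144085 := d11_0 F365087 F176212 (iv4 F206799)
theorem F365089 : act 5 n116962 = n144085 := d19_1 D116962 F365087 F176211 F82541 (iv5 D31354) (iv4 D14780) F11296 (iv1 F11422) (iv5 F11423) F8848 (iv3 F9948) F9945 (iv5 D5179) F9981 (iv3 F9973) (iv1 F9091) D12357 D26065 D53905
theorem F365090 : act 0 n116964 = n144124 := d20_4 F49617 (iv1 F82542) (iv4 F85006) (iv3 F182826) F226837 (iv4 D144087) D144085 F365087 F176211 F82541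
theorem F365091 : act 6 n144124 = n180630 := d21_5 (iv5 D112983) D112980 F175947 (iv6 F365022) F365090 (iv5 D180630) (iv1 F132255) D86307 (iv6 F359171) F210036
theorem F365092 : act 1 n128573 = n144124 := d15_0 (iv0 F365090) F182827 (iv2 F206800)
theorem F365093 : act 5 n144122 = n111958 := d17_1 D144122 F347193 (iv5 F226899) F365082 F365078 F182820 D128573 F365092 (iv4 D144124)
theorem F365094 : act 6 n111959 = n144122 := d12_0 F365093 (iv6 D111958) (iv5 D51635) D51636 D111959
theorem E103090 : n144127 = n111975 := ((c21_4 F99668 (iv1 D51641) D51643 D111975 (iv1 D144127) (iv6 D67524) D67523 D144122 F365093 (iv6 D111958) (iv1 F99667))).symm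
theorem F365095 : act 0 n111975 = n67524 := (sb E103090 (iv1 D144127))
theorem F365096 : act 4 n180630 = n144125 := d10_1 F365091 (iv6 D144125) D144124
theorem F365097 : act 1 n144083 = n128569 := d15_0 F365085 F182871 (iv2 F226804)
theorem E103091 : n144079 = n128574 := ((c20_8 F94049 (iv1 F85039) F85038 (iv3 F182870) (iv1 F365085) (iv3 F206802) (iv4 D128576) D128574 F226803 F182906 (iv1 F94051))).symm
theorem F365098 : act 4 n128574 = n116993 := (sb E103091 F226803)
theorem F365099 : act 5 n128574 = n67509 := (sb E103091 (iv5 D144079))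
theorem F365100 : act 7 n128574 = n144124 := (sb E103091 (iv7 F226838))
theorem E103092 : n144081 = n128575 := (c15_4 F365027 F365026 F365100 F226840)
theorem F365101 : act 2 n128575 = n144124 := (sb E103092 (iv2 F226840))
theorem F365102 : act 4 n128575 = n144116 := (sb E103092 F226841)
theorem F365103 : act 5 n128575 = n67510 := (sb E103092 (iv5 D144081))
theorem F365104 : act 1 n128571 = n144083 := d15_0 F365097 F365088 (iv2 F365086)
theorem F365105 : act 7 n136769 = n184256 := d11_2 F331292 D136769 F286185
theorem F365106 : act 7 n155913 = n136728 := d4_2 F365105 F365054 (iv2 F219968)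
theorem F365107 : act 3 n184258 = n136769 := d8_3 F365105 (iv3 D184256) D184258
theorem F365108 : act 5 n90002 = n181899 := d21_0 (iv1 D181899) (iv5 D86878) (iv6 F293594) D48082 (iv6 F176035) F331289 (iv1 F111361) (iv5 F331261) (iv6 D97422) F295127
theorem F365109 : act 2 n181899 = n97415 := d2_1 F365108 (iv5 D97415) (iv2 F294582)
theorem F365110 : act 4 n181899 = n176855 := d9_1 F365108 (iv5 D176855) (iv4 F262093) (iv5 F343692) F211227 (iv5 D92425) (iv4 F70188) D95563 (iv4 F343691) F292455 (iv4 F116024) D160999 (iv4 F343690) (iv5 D94002) (iv4 F294583)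
theorem F365111 : act 7 n181899 = n96962 := d13_2 (iv7 F294585) F365108 (iv5 D96962)
theorem F365112 : act 1 n90017 = n96962 := d15_1 F365033 (iv7 F365111) F365109
theorem F365113 : act 0 n155858 = n126687 := d20_7 F111289 (iv1 F48712) (iv4 F100123) F331269 F293110 F329972 D155858 F203871 F93865 D59469
theorem F365114 : act 0 n103266 = n126751 := d20_4 F291976 (iv1 F75042) D47852 D103266 (iv3 D126751) F111289 (iv1 F48712) (iv4 F100123) F331269 F293110
theorem E103093 : n176165 = n102399 := (c6_2 F331190 D176165 (iv5 D102399) (iv3 F154402))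
theorem F365115 : act 3 n102399 = n84028 := (sb E103093 (iv3 D176165))
theorem F365116 : act 0 n124561 = n92723 := d17_2 (iv1 D124559) D124561 F331165 F109947 F306682 (iv0 F297116) D86714 (iv0 F310632) F310633
theorem F365117 : act 3 n109046 = n177281 := d7_3 F331158 F168568 D109046
theorem E103094 : n177461 = n140413 := ((c21_5 D109081 F204656 F79760 D65907 D140413 (iv6 D177461) (iv5 F312882) F312879 D177281 F331158 (iv1 F168573))).symm
theorem F365118 : act 4 n140413 = n84546 := (sb E103094 F276875)
theorem F365119 : act 6 n140413 = n84545 := (sb E103094 (iv6 D177461))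
theorem F365120 : act 5 n177280 = n109046 := d6_0 F365117 (iv5 D177281) D177280
theorem F365121 : act 2 n109057 = n177280 := d2_3 F365120 F169047 D109057
theorem F365122 : act 3 n177413 = n105243 := d7_3 F161191 F331154 D177413
theorem F365123 : act 4 n109092 = n177413 := d5_0 F365122 F161190 (iv3 F163203) F163204 (iv3 F169084)
theorem F365124 : act 7 n105238 = n177413 := d8_0 F365122 (iv7 D105243) (iv3 F161183)
theorem F365125 : act 0 n180483 = n109092 := d20_1 (iv4 F280908) F365123 F365122 (iv1 F165561) D113413 F176601 F360322 (iv4 F262093) F262092 (iv1 F262135)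
theorem F365126 : act 6 n153792 = n109092 := d10_0 F365123 (iv6 D177413) (iv4 F312888)
theorem F365127 : act 5 n109092 = n153789 := d12_1 F365126 (iv6 D153789) F109236 D72754 D153792
theorem F365128 : act 7 n153789 = n109091 := d13_2 D109092 F365127 (iv5 D109091)
theorem F365129 : act 6 n109091 = n153788 := d14_1 F365128 (iv7 D153788) (iv6 D72752) D72753 D153789
theorem F365130 : act 0 n177346 = n127357 := d21_4 F331146 (iv1 F300171) D84485 D177346 (iv6 D127357) F203754 (iv1 D113428) (iv5 D52363) D52364 D113431
theorem F365131 : act 1 n104011 = n109093 := d15_0 (iv0 D109093) D109096 (iv2 F331131)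
theorem F365132 : act 0 n126155 = n140697 := d21_4 F37899 D49464 (iv5 F166899) D126155 (iv6 D140697) (iv5 D66014) D66011 (iv5 F331101) (iv6 D107250) (iv1 D49551)
theorem F365133 : act 3 n91279 = n116104 := d6_3 (iv5 D116104) F331062 D91279
theorem F365134 : act 6 n116100 = n91279 := d7_0 F365133 F180895 (iv3 F180891)
theorem F365135 : act 3 n180509 = n91191 := d19_19 (iv1 D91191) (iv5 F295007) F331053 F84427 (iv1 F49449) (iv5 D30860) D30859 F49319 (iv1 D28223) (iv5 D13475) (iv4 F18861) (iv3 D11552) (iv1 F8210) (iv5 F8216) (iv4 F18958) (iv3 F38549) F324491 D86202 D180509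
theorem E103095 : n136801 = n124380 := (c21_5 D64032 (iv1 F330990) (iv5 F326903) D64314 D136801 (iv6 D124380) F301791 (iv1 F115345) (iv5 F325437) (iv6 D136140) (iv1 F99621))
theorem F365136 : act 1 n124380 = n64314 := (sb E103095 (iv0 D136801))
theorem E103096 : n136803 = n133243 := ((c21_6 (iv5 D57826) F300017 D39708 F325752 (iv1 F97501) D133243 (iv5 D136803) (iv1 F365136) F198919 (iv6 D85866) F303359)).symm
theorem F365137 : act 3 n133243 = n64318 := (sb E103096 F220014)
theorem F365138 : act 5 n133243 = n64314 := (sb E103096 (iv5 D136803))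
theorem F365139 : act 5 n136796 = n135078 := d2_2 F365138 (iv2 F220012) F217304
theorem F365140 : act 6 n136857 = n132397 := d7_2 D132400 F330969 (iv3 D132397)
theorem E103097 : n136858 = n134758 := ((c10_2 F365140 F216810 (iv6 D136858) D136857)).symm
theorem F365141 : act 3 n134758 = n64338 := (sb E103097 F220046)
theorem F365142 : act 5 n134758 = n135036 := (sb E103097 F361060)
theorem F365143 : act 6 n134758 = n64336 := (sb E103097 (iv6 D136858))
theorem E103098 : n136853 = n134939 := (c3_2 F365143 (iv2 F220044) (iv6 D134939) (iv2 F216813))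
theorem F365144 : act 0 n134939 = n134179 := (sb E103098 (iv1 F336145))
theorem F365145 : act 1 n134939 = n134187 := (sb E103098 (iv0 F336140))
theorem F365146 : act 2 n134939 = n64336 := (sb E103098 F220044)
theorem F365147 : act 3 n134939 = n137399 := (sb E103098 (iv3 F220605))
theorem F365148 : act 5 n134939 = n64335 := (sb E103098 (iv5 D136853))
theorem F365149 : act 7 n134939 = n134184 := (sb E103098 (iv7 F330975))
theorem F365150 : act 7 n137392 = n134942 := d14_4 (iv7 F216811) F365143 (iv7 F100520) D137392 (iv6 D134942)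
theorem F365151 : act 3 n134942 = n137396 := d8_1 F365150 (iv7 D137396) (iv3 F220595)
theorem F365152 : act 6 n137399 = n134936 := d7_2 D134939 F365147 (iv3 D134936)
theorem F365153 : act 2 n134936 = n137401 := d3_1 F365152 (iv6 D137401) D137399
theorem F365154 : act 4 n137401 = n130799 := d1_2 F362913 F365153 F347575
theorem F365155 : act 6 n130799 = n137400 := d10_2 D137401 F365154 (iv4 D137400)
theorem F365156 : act 0 n159922 = n137401 := d20_7 (iv4 D75758) F315271 F97717 D133468 F355401 (iv3 F114795) D159922 F365154 (iv3 D130799) (iv1 F317507)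
theorem F365157 : act 3 n137400 = n130801 := d7_1 F365155 (iv6 D130801) D130799
theorem F365158 : act 0 n134938 = n135033 := d21_7 (iv5 F348533) F348531 D182415 F362231 (iv1 F365145) (iv6 D134939) D134938 (iv5 D135033) F328516 D182700
theorem F365159 : act 1 n134938 = n134773 := d15_1 (iv0 F365158) F216859 (iv2 F217267)
theorem F365160 : act 5 n126473 = n134937 := d17_3 F212954 (iv5 D126476) D126473 (iv4 D134937) D134938 F365159 (iv5 D134773) D134771 (iv4 F216847)
theorem F365161 : act 2 n135036 = n134938 := d2_1 F365142 (iv5 D134938) (iv2 F216813)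
theorem F365162 : act 7 n135036 = n134941 := d13_2 (iv7 F216811) F365142 (iv5 D134941)
theorem F365163 : act 7 n135301 = n136865 := d8_2 F365162 F217537 (iv3 F361061)
theorem F365164 : act 2 n134941 = n135035 := d15_3 (iv0 D135035) D135036 F365162
theorem F365165 : act 7 n134938 = n135035 := d4_2 (iv7 F365162) F365161 (iv2 F365164)
theorem F365166 : act 1 n134773 = n134941 := d15_1 F365159 (iv7 F365162) F365161
theorem F365167 : act 5 n135035 = n134757 := d13_1 F365165 (iv7 F216814) D134938
theorem F365168 : act 1 n134941 = n135033 := d15_0 (iv0 F365158) F365165 (iv2 F365164)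
theorem F365169 : act 1 n124633 = n162605 := d15_0 (iv0 F330952) (iv7 D145339) (iv2 F330947)
theorem F365170 : act 2 n162605 = n145337 := d1_3 F330946 (iv2 F300604) D162605
theorem F365171 : act 7 n162608 = n145337 := d11_0 F330946 (iv7 F300609) D162608
theorem F365172 : act 0 n174514 = n141804 := d20_4 D83434 (iv1 F330945) F330946 D174514 F224813 F322016 F316496 (iv4 F130600) F327870 (iv1 D83433)
theorem F365173 : act 2 n162608 = n145336 := d15_3 (iv0 D145336) D145337 (iv7 F365171)
theorem F365174 : act 7 n145336 = n162605 := d4_2 (iv7 F365171) F365173 F365170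
theorem F365175 : act 4 n146454 = n130805 := d5_0 F330905 (iv4 D113738) (iv3 F162384) (iv4 F162388) D146454
theorem F365176 : act 0 n146454 = n130684 := d20_7 (iv4 F212468) (iv1 F350881) F251327 F325867 F324789 (iv3 F330905) (iv4 F365175) F209254 F207661 F350854
theorem F365177 : act 7 n146454 = n130935 := d15_2 (iv0 F350857) (iv0 F365176) F209553
theorem F365178 : act 2 n130941 = n146454 := d4_3 F365177 F209553 D130941
theorem F365179 : act 1 n146454 = n130938 := d15_0 (iv0 D130938) D130941 F365178
theorem F365180 : act 7 n130938 = n133467 := d15_2 (iv0 F365176) F365179 F214643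
theorem F365181 : act 3 n130814 = n148770 := d19_3 F330895 F330889 D130814 (iv1 D148770) F106098 F80544 F330368 F134291 (iv5 F293098) (iv4 D36417) D36416 (iv1 F57175) (iv5 D34437) (iv4 D16703) (iv3 F21514) (iv1 F27456) F296401 (iv4 F92679) D78508
theorem F365182 : act 6 n133272 = n130814 := d10_2 F330891 D133272 (iv4 D130814)
theorem F365183 : act 6 n174055 = n120291 := d14_1 F330859 (iv7 F261331) F330797 F258231 D157921
theorem F365184 : act 6 n124243 = n174876 := d3_2 F365183 (iv2 F261329) (iv2 F273774)
theorem E103099 : n174056 = n165938 := ((c10_2 F365183 (iv4 F261369) (iv6 D174056) D174055)).symm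
theorem F365185 : act 5 n165938 = n158796 := (sb E103099 F272864)
theorem F365186 : act 6 n165938 = n83213 := (sb E103099 (iv6 D174056))
theorem F365187 : act 2 n158796 = n165939 := d2_1 F365185 (iv5 D165939) D165938
theorem E103100 : n111561 = n111466 := ((c19_17 (iv1 F254488) F330674 F205294 F320936 (iv1 F318251) (iv5 F321031) F180601 (iv3 F180605) (iv1 D107439) F78382 F50023 (iv3 D30688) (iv1 D14546) D14548 (iv4 F39223) (iv3 F81181) D111466 (iv5 D111561) D111560 (iv3 F330666))).symm
theorem F365188 : act 5 n111466 = n51455 := (sb E103100 (iv5 D111561))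
theorem E103101 : n115504 = n115479 := (c6_3 D115481 F330600 (iv5 F182530) (iv3 D115479))
theorem F365189 : act 1 n115479 = n53283 := (sb E103101 (iv0 D115504))
theorem F365190 : act 2 n115479 = n115400 := (sb E103101 (iv2 F182528))
theorem F365191 : act 5 n115479 = n107046 := (sb E103101 F182530)
theorem F365192 : act 7 n115479 = n115396 := (sb E103101 (iv7 F182529))
theorem F365193 : act 6 n137037 = n115396 := d7_0 F330598 (iv6 F172055) D137037
theorem F365194 : act 3 n139653 = n115678 := d6_3 (iv5 D115678) F330592 D139653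
theorem F365195 : act 3 n141183 = n115485 := d20_5 (iv4 D67107) F102870 F84686 D66228 D141183 (iv4 D115485) D115483 F330540 F179851 F103068
theorem F365196 : act 0 n115485 = n141124 := d20_10 F224101 (iv1 D115259) F83992 (iv3 D51124) F39012 D29773 (iv4 F82504) D113058 (iv4 F224203) F365195
theorem F365197 : act 5 n115542 = n130963 := d12_3 (iv6 F95940) F330524 D115542 (iv6 D130963) (iv5 D61445)
theorem F365198 : act 0 n108834 = n126730 := d21_4 (iv5 D50896) F38752 D50252 D108834 (iv6 D126730) D126729 (iv1 F204082) (iv5 D126836) (iv6 F330506) F165979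
theorem F365199 : act 1 n147379 = n126730 := d15_0 (iv0 F365198) (iv7 F362474) (iv2 F364896)
theorem F365200 : act 6 n106980 = n110908 := d12_4 F330486 (iv5 D49423) D49424 D106980 F171820
theorem F365201 : act 3 n110909 = n106980 := d7_3 F365200 (iv3 D110908) D110909
theorem F365202 : act 5 n106976 = n110909 := d6_0 F365201 (iv5 D106980) (iv3 F164890)
theorem F365203 : act 2 n111760 = n106976 := d2_3 F365202 F171822 D111760
theorem F365204 : act 0 n106976 = n123893 := d21_7 (iv5 F192030) F305542 (iv5 F336742) (iv6 D51516) (iv1 F80670) D110909 (iv5 F365202) (iv5 D123893) F90894 D57772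
theorem F365205 : act 4 n156145 = n111760 := d1_0 F365203 (iv4 F245057) (iv2 F245386)
theorem F365206 : act 5 n183228 = n133290 := d17_7 (iv1 F167461) (iv5 D108300) F79124 (iv5 F80531) (iv4 F171455) F330361 D183228 (iv0 F238526) (iv4 D151671)
theorem F365207 : act 6 n109898 = n183228 := d21_5 F79917 (iv1 D24676) D24678 D50683 D109898 F365206 (iv1 F215058) (iv5 F360277) (iv6 D110648) F80484
theorem F365208 : act 4 n102777 = n146932 := d20_0 (iv1 D146932) F105065 (iv3 D68421) (iv1 F51059) D69023 F105236 D69037 (iv4 F330310) F291747 D102777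
theorem F365209 : act 3 n105448 = n102777 := d20_5 (iv4 D32110) (iv1 F50616) (iv4 F85201) D117186 (iv1 F361632) F365208 (iv1 D146932) F105065 (iv3 D68421) (iv1 F51059)
theorem F365210 : act 6 n102777 = n105445 := d7_2 D105448 F365209 (iv3 D105445)
theorem F365211 : act 7 n180690 = n166436 := d11_2 F330290 (iv4 F281223) (iv4 D166436)
theorem F365212 : act 6 n134537 = n142460 := d3_2 (iv6 F320616) F330259 F225375
theorem F365213 : act 6 n162909 = n108906 := d7_2 F330159 (iv3 F257225) F168911
theorem F365214 : act 2 n108908 = n162909 := d3_3 F365213 (iv2 D108906) D108908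
theorem F365215 : act 4 n108932 = n162909 := d10_3 F365213 F168912 D108932
theorem F365216 : act 5 n162908 = n108908 := d2_0 F365214 (iv5 D162909) D162908
theorem F365217 : act 3 n108911 = n162908 := d6_3 F365216 F168919 D108911
theorem F365218 : act 5 n162711 = n145404 := d16_3 (iv4 F93138) (iv5 F202330) F330151 (iv4 D145404) (iv5 D68170) (iv4 F50038) (iv5 F39783) (iv7 F78257) (iv2 F82157)
theorem F365219 : act 3 n145404 = n162712 := d6_1 F365218 (iv5 D162712) D162711
theorem F365220 : act 5 n166653 = n130341 := d6_2 F330147 D166653 F208863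
theorem F365221 : act 4 n182136 = n153423 := d18_3 (iv1 D86972) D86973 D182136 (iv5 F240991) (iv4 F242182) F330091 F282518 (iv0 F309032) F306610
theorem F365222 : act 2 n153673 = n182136 := d1_3 F365221 F240992 D153673
theorem F365223 : act 7 n153670 = n182136 := d11_0 F365221 F240993 D153670
theorem F365224 : act 1 n153673 = n181962 := d15_0 F351882 F365223 (iv2 F365222)
theorem F365225 : act 7 n182137 = n153673 := d15_2 (iv0 D182136) D182137 F365222
theorem F365226 : act 2 n182137 = n153670 := d4_3 F365223 (iv2 F365222) (iv7 F365225)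
theorem F365227 : act 0 n127685 = n96376 := d20_7 F324827 F323544 (iv4 D65134) (iv3 F100897) (iv1 F325726) F330074 D127685 F320042 F105161 F314516
theorem F365228 : act 1 n103757 = n184218 := d18_6 F365227 F320042 F240650 (iv4 F334491) F288198 D103757 (iv4 D184218) D184217 (iv5 F350623)
theorem F365229 : act 2 n146643 = n179994 := d3_1 F330052 F310600 (iv2 F310596)
theorem F365230 : act 3 n114645 = n99489 := d20_3 F329996 (iv1 F179176) (iv4 F179179) (iv1 D99489) F73488 D46517 (iv1 F74361) (iv4 D46913) D46912 F140434
theorem F365231 : act 0 n103878 = n151162 := d19_12 F104227 (iv5 F179178) (iv4 F179179) F365230 (iv1 D99489) (iv5 D46510) (iv4 F70592) F70591 F62739 D23208 D48089 D103878 F241266 (iv4 D114476) (iv3 F143181) (iv1 D92816) (iv5 D43428) D43427 (iv3 F104225)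
theorem F365232 : act 4 n102271 = n100983 := d20_0 (iv1 D100983) (iv4 F155009) (iv3 D100884) (iv1 F329992) F154898 (iv4 F158498) (iv1 F158499) (iv4 D47852) D47851 (iv1 F314176)
theorem F365233 : act 3 n100983 = n101456 := d5_1 F365232 F156276 F74484 (iv4 F74645) (iv3 F157099)
theorem F365234 : act 6 n100983 = n101450 := d10_2 D102271 F365232 F156261
theorem F365235 : act 2 n127948 = n100983 := d0_5 F365233 F352718 (iv3 D60161) (iv2 F94671) D127948
theorem F365236 : act 4 n103668 = n127948 := d1_0 F365235 (iv4 F365232) F314177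
theorem F365237 : act 4 n100982 = n103231 := d20_8 F49647 (iv1 F319500) D54847 (iv3 F329985) F329984 D100884 F155009 D100982 F313128 (iv1 D67551)
theorem F365238 : act 3 n118308 = n100982 := d5_5 F365237 F313128 (iv4 F322550) F178727 D118308
theorem F365239 : act 7 n127948 = n100982 := d11_0 F365237 F177375 F365236
theorem E103102 : n144275 = n100884 := (c18_1 D144275 F155009 D100982 F365237 (iv5 D103231) (iv4 F139641) F177344 F177331 F205441 F331283)
theorem F365240 : act 1 n100884 = n67587 := (sb E103102 (iv0 D144275))
theorem F365241 : act 5 n100982 = n154776 := d6_2 (iv5 F185875) F365238 (iv3 D154776)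
theorem F365242 : act 5 n155726 = n103589 := d6_2 F329975 D155726 F158920
theorem F365243 : act 3 n155857 = n103452 := d5_3 (iv4 F143975) F329973 (iv4 F244843) F158760 F75262
theorem F365244 : act 7 n123862 = n134428 := d13_2 F329970 D123862 (iv5 D134428)
theorem F365245 : act 3 n101171 = n114361 := d7_3 (iv6 D114361) F329963 D101171
theorem F365246 : act 0 n114355 = n100593 := d20_4 F83371 (iv1 F46041) D52774 D114355 F154655 F74132 (iv1 F73380) (iv4 F74355) (iv3 F329963) F83374
theorem F365247 : act 4 n180393 = n114519 := d20_6 (iv4 F362339) (iv1 F362338) (iv4 D180790) F132346 (iv1 F132115) (iv3 F280730) (iv1 D114519) (iv4 F178374) (iv3 F365245) F354718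
theorem F365248 : act 7 n111411 = n123857 := d11_2 F329959 (iv4 F172894) (iv4 D123857)
theorem F365249 : act 6 n100781 = n141290 := d3_2 F329956 (iv2 F154969) (iv2 D141290)
theorem F365250 : act 0 n182252 = n182250 := d21_4 D87000 (iv1 F133518) (iv5 F133549) D182252 (iv6 D182250) F133548 (iv1 D41222) D41223 F329950 (iv1 D86998)
theorem F365251 : act 6 n182253 = n105066 := d21_5 (iv5 D86916) F63120 D40407 D87015 D182253 F294288 F157192 (iv5 F135243) (iv6 F329949) (iv1 F133369)
theorem F365252 : act 4 n105056 = n182253 := d10_3 F365251 (iv4 D105066) (iv6 F160975)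
theorem F365253 : act 0 n146360 = n156715 := d19_16 (iv1 D103291) F329945 F86831 F42506 (iv1 F24999) (iv5 D15459) F11601 (iv3 F12601) F10569 (iv5 D6503) F12422 D7615 (iv1 F43610) D31932 D68628 D146360 F329911 F159264 F159266
theorem F365254 : act 1 n146360 = n100862 := d15_1 (iv0 F365253) (iv7 F349221) F349219
theorem F365255 : act 1 n151380 = n156715 := d15_0 (iv0 F365253) F229688 D151380
theorem F365256 : act 1 n100862 = n151380 := d15_0 F365255 F349223 (iv2 F349222)
theorem E103103 : n114525 = n100590 := (c20_4 (iv4 D28498) D28496 (iv4 F83507) D114525 (iv1 D100590) (iv3 D46921) (iv4 D22534) D22532 D46913 (iv3 F329942) (iv1 D60023))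
theorem F365257 : act 3 n100590 = n52862 := (sb E103103 (iv3 D114525))
theorem F365258 : act 4 n100590 = n179749 := (sb E103103 (iv4 F356714))
theorem F365259 : act 5 n100590 = n127806 := (sb E103103 (iv5 F205606))
theorem F365260 : act 7 n100590 = n114355 := (sb E103103 F178586)
theorem F365261 : act 2 n114355 = n100589 := d15_3 (iv0 D100589) D100590 F365260
theorem F365262 : act 3 n155888 = n103253 := d5_1 F329938 (iv4 D103253) (iv3 D47848) D47849 D103256
theorem F365263 : act 0 n103668 = n103046 := d20_4 F187546 (iv1 D114618) F322663 (iv3 F159085) (iv3 D103046) (iv4 F293990) F329849 (iv4 F329850) (iv3 F329914) (iv1 F187544)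
theorem F365264 : act 5 n103046 = n93521 := d17_3 F177358 D103668 F365263 (iv4 F292051) F251995 (iv0 D159847) (iv5 D76517) D76516 F205431
theorem F365265 : act 6 n93521 = n89929 := d21_9 F160601 (iv1 F160600) (iv5 D103111) (iv6 D47802) (iv1 F36264) D48014 D103668 F365263 F365264 (iv1 F283794)
theorem F365266 : act 3 n103451 = n155856 := d6_3 (iv5 D155856) F329913 D103451
theorem F365267 : act 0 n114334 = n90762 := d20_4 (iv4 D105306) F76618 D52765 D114334 (iv3 D90762) (iv4 D42499) D42497 D90757 F329912 (iv1 F161473)
theorem F365268 : act 0 n134951 = n141538 := d20_4 (iv4 F103610) (iv1 F171615) F329889 (iv3 F217162) (iv3 D141538) (iv4 D66390) (iv1 D30997) (iv4 F49385) F49384 D30957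
theorem F365269 : act 2 n134233 = n154219 := d3_3 (iv6 D154219) F329883 D134233
theorem E103104 : n135960 = n101851 := (c21_4 D30423 D64656 F220886 D135960 (iv1 D101851) (iv6 D47332) D47331 F156337 F329873 (iv6 D64653) (iv1 D30421))
theorem F365270 : act 2 n101851 = n64475 := (sb E103104 F218720)
theorem F365271 : act 6 n101851 = n63926 := (sb E103104 (iv6 D135960))
theorem F365272 : act 6 n137165 = n98558 := d10_2 F329870 D137165 F249715
theorem F365273 : act 4 n100787 = n144252 := d1_2 F329867 (iv2 F270479) (iv2 D144252)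
theorem F365274 : act 4 n183920 = n144251 := d20_0 (iv1 D144251) F329867 F329765 F111408 F329371 F329039 (iv1 F329035) (iv4 D87922) D87921 F285784
theorem E103105 : n139554 = n99521 := (c20_5 F80619 D51104 F111417 D65483 D139554 (iv3 F285783) F365274 (iv1 D144251) F329867 F329765 F111408)
theorem F365275 : act 1 n99521 = n65483 := (sb E103105 (iv0 D139554))
theorem F365276 : act 6 n93132 = n139557 := d21_5 F61993 (iv1 F91681) F91683 (iv6 F294600) (iv1 F295258) (iv5 D139557) (iv1 F365275) (iv5 D99521) (iv6 D46524) F61995
theorem E103106 : n139555 = n139441 := ((c21_1 F357355 (iv1 D139555) D139557 (iv6 F365276) F143850 F294804 F357353 (iv1 D138029) D138030 (iv6 F356322) (iv1 F157796))).symm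
theorem F365277 : act 0 n139441 = n65483 := (sb E103106 (iv1 D139555))
theorem F365278 : act 6 n144251 = n173838 := d10_2 F356147 F365274 F356129
theorem F365279 : act 1 n144251 = n100879 := d18_6 (iv1 F74211) D47018 (iv1 F157783) F154826 D183920 F365274 (iv4 D100879) F154887 F154885
theorem F365280 : act 7 n100879 = n144252 := d15_2 D144251 F365279 (iv2 D144252)
theorem F365281 : act 2 n139581 = n100879 := d4_3 F365280 (iv2 D144252) (iv7 F222720)
theorem F365282 : act 3 n100879 = n103083 := d0_2 D139581 F365281 F296439 (iv3 D67564) (iv2 F101239)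
theorem F365283 : act 5 n100879 = n100721 := d2_2 (iv5 F357204) F365281 (iv2 F159073)
theorem F365284 : act 1 n100879 = n144250 := d15_0 (iv0 D144250) (iv7 F222720) F365281
theorem F365285 : act 3 n143529 = n122714 := d6_3 F329110 F329851 D143529
theorem F365286 : act 6 n134319 = n143529 := d7_0 F365285 F329111 (iv3 F216328)
theorem E103107 : n104150 = n103278 := ((c20_5 (iv4 D47852) (iv1 D23023) D23024 D47856 D103278 (iv3 D104150) (iv4 D48197) D48195 F328897 (iv3 F329847) (iv1 F158499))).symm
theorem F365287 : act 2 n103278 = n155912 := (sb E103107 F365053)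
theorem F365288 : act 3 n103278 = n48197 := (sb E103107 (iv3 D104150))
theorem F365289 : act 7 n103279 = n155912 := d15_2 (iv0 D103278) D103279 (iv2 F365287)
theorem E103108 : n136717 = n103279 := (c8_4 F365289 (iv3 D155912) (iv7 F324693) (iv3 F219866))
theorem F365290 : act 3 n103279 = n64260 := (sb E103108 F219866)
theorem F365291 : act 4 n103279 = n107355 := (sb E103108 (iv4 F363879))
theorem F365292 : act 5 n103279 = n64256 := (sb E103108 (iv5 D136717))
theorem F365293 : act 6 n103279 = n107354 := (sb E103108 F338739)
theorem F365294 : act 5 n155912 = n101823 := d13_1 F365289 F323249 (iv5 F365292)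
theorem F365295 : act 6 n101826 = n155912 := d12_0 F365294 (iv6 D101823) (iv5 D47320) D47321 D101826
theorem F365296 : act 3 n155132 = n101826 := d7_3 F365295 (iv3 D155912) (iv6 F350974)
theorem F365297 : act 6 n174563 = n179252 := d21_3 D103281 (iv1 F353022) (iv5 F347871) (iv1 D179252) D179256 F354325 F288118 (iv5 F336045) (iv6 F365293) (iv1 D103279)
theorem F365298 : act 0 n174447 = n154537 := d21_10 (iv5 D154537) F309614 (iv5 F354154) (iv6 D136710) (iv1 D64253) D64256 (iv5 F365292) (iv1 D103279) D103281 (iv6 F358744)
theorem F365299 : act 3 n139549 = n183994 := d7_3 (iv6 D183994) F329840 D139549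
theorem F365300 : act 2 n139541 = n183995 := d0_3 F285840 F329835 D139541 (iv3 D183995) (iv2 F285839)
theorem F365301 : act 2 n138331 = n100881 := d3_3 (iv6 D100881) F329812 (iv6 F221531)
theorem E103109 : n92855 = n92817 := (c5_4 F329801 F68295 D43446 D92855 (iv4 D92817) F107970)
theorem F365302 : act 3 n92817 = n43446 := (sb E103109 (iv3 D92855))
theorem F365303 : act 4 n92843 = n151533 := d10_3 (iv6 D151533) F329801 D92843
theorem E103110 : n151537 = n93013 := ((c20_5 D92849 F143217 (iv4 D43522) (iv3 F68396) D93013 (iv3 D151537) (iv4 D71438) D71436 F329801 F68295 D43444)).symm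
theorem F365304 : act 3 n93013 = n71438 := (sb E103110 (iv3 D151537))
theorem E103111 : n152238 = n100546 := (((F340055).symm.trans (sb E103110 (iv4 F239299)))).symm
theorem F365305 : act 3 n100546 = n71812 := (sb E103111 (iv3 D152238))
theorem F365306 : act 3 n97164 = n95973 := d19_7 F94964 F94962 (iv4 F329799) (iv3 F251905) F251907 (iv5 F161636) (iv4 F149911) F324607 (iv5 D118964) (iv4 D54747) (iv3 D26475) (iv1 F21040) F11757 F5416 (iv3 F10541) (iv1 F10545) (iv5 F12669) (iv4 F27784) (iv3 F55286)
theorem F365307 : act 5 n151265 = n97164 := d6_0 F365306 F324608 D151265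
theorem F365308 : act 6 n95973 = n97100 := d7_2 D97164 F365306 (iv3 F149814)
theorem F365309 : act 0 n93858 = n100250 := d20_7 (iv4 D47887) (iv1 F291794) F69052 (iv3 F70363) D95973 (iv3 F365306) F149911 F154234 (iv3 D91286) (iv1 F75190)
theorem E103112 : n144199 = n97122 := ((c3_3 F365308 F283554 D97122 F323195)).symm
theorem F365310 : act 0 n97122 = n91291 := (sb E103112 (iv1 F352753))
theorem F365311 : act 1 n97122 = n67552 := (sb E103112 (iv0 D144199))
theorem F365312 : act 2 n97122 = n95973 := (sb E103112 F323195)
theorem F365313 : act 5 n97122 = n118413 := (sb E103112 F323196)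
theorem F365314 : act 7 n97122 = n95974 := (sb E103112 F323197)
theorem F365315 : act 0 n97121 = n104317 := d21_7 (iv5 F360341) (iv1 D144186) F306977 (iv6 F306954) (iv1 F365311) (iv6 D97122) D97121 (iv5 D104317) (iv6 F290798) D104855
theorem F365316 : act 6 n96140 = n137538 := d3_2 F329771 (iv2 F147797) F220730
theorem F365317 : act 6 n102140 = n126937 := d7_2 F329771 D102140 F204192
theorem F365318 : act 4 n126938 = n102140 := d10_3 F365317 (iv4 D126937) D126938
theorem F365319 : act 0 n102140 = n131860 := d20_7 F23425 D14041 (iv4 F80087) D60794 F336498 (iv3 F204193) F365318 F211270 (iv3 D62108) F79857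
theorem F365320 : act 2 n101773 = n137531 := d1_3 F220729 F329770 D101773
theorem F365321 : act 3 n113086 = n101773 := d0_0 F365320 F220728 (iv2 F181804) (iv3 F355200) F176243
theorem F365322 : act 6 n136031 = n101773 := d3_0 F365320 (iv6 D137531) (iv2 F218894)
theorem F365323 : act 5 n101773 = n113082 := d6_2 D113086 F365321 F176169
theorem F365324 : act 3 n89428 = n137502 := d7_3 F220691 F329768 D89428
theorem F365325 : act 5 n137495 = n89428 := d6_0 F365324 (iv5 D137502) (iv3 F220687)
theorem F365326 : act 1 n163035 = n126208 := d15_0 (iv0 D126208) D126211 (iv2 F329758)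
theorem F365327 : act 5 n146894 = n185441 := d16_3 F329754 (iv5 F227827) (iv4 F230275) (iv4 D185441) (iv5 D88339) (iv4 F135191) (iv5 F136266) F136267 D89435
theorem F365328 : act 4 n137651 = n185340 := d1_2 F329739 F245198 F287595
theorem F365329 : act 3 n153175 = n90794 := d20_5 (iv4 D69299) (iv1 F51157) D33359 D72295 D153175 (iv4 D90794) F292281 (iv4 F143285) F329720 (iv1 F105559)
theorem F365330 : act 3 n92910 = n154742 := d20_3 (iv4 D47934) F293192 (iv4 F143281) (iv1 D154742) (iv3 D73384) F86059 (iv1 F86056) D60155 (iv3 F329720) F292694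
theorem F365331 : act 5 n154742 = n92909 := d6_2 D92910 F365330 (iv3 D92909)
theorem F365332 : act 7 n100158 = n153175 := d8_0 F365329 F139738 D100158
theorem F365333 : act 3 n150768 = n100687 := d7_3 (iv6 D100687) F329719 D150768
theorem F365334 : act 6 n116262 = n100002 := d21_5 F80674 (iv1 F39021) D25949 D53586 D116262 (iv5 D100002) F295002 (iv5 F329713) (iv6 D65396) (iv1 F80676)
theorem F365335 : act 4 n111373 = n116262 := d10_3 F365334 (iv4 F345090) F345426
theorem F365336 : act 3 n116262 = n139446 := d5_1 F365335 (iv4 D139446) F101157 (iv4 F81088) (iv3 F172857)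
theorem F365337 : act 7 n116262 = n140708 := d11_2 (iv7 F172858) F365335 (iv4 D140708)
theorem F365338 : act 0 n108712 = n100202 := d20_4 (iv4 F111364) (iv1 D50199) (iv4 F79556) (iv3 F168659) (iv3 D100202) (iv4 D46765) (iv1 D22419) D22420 D46769 (iv1 F329684)
theorem F365339 : act 0 n139596 = n184258 := d20_7 F328865 (iv1 F329032) (iv4 D41125) (iv3 F62336) (iv1 F329679) D65521 (iv4 F222742) F286186 F134896 (iv1 F75745)
theorem F365340 : act 5 n99513 = n139602 := d18_9 (iv1 D139602) (iv4 F222742) F365339 F286186 F134897 (iv4 F75549) D103852 (iv4 F159264) (iv0 F157771)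
theorem F365341 : act 3 n105939 = n139602 := d20_9 (iv4 F222742) F365339 F286186 F134896 (iv1 F75745) F328864 (iv4 D55222) D55221 (iv4 F162677) (iv1 D139602)
theorem F365342 : act 2 n139602 = n99517 := d0_1 F365341 F153285 (iv2 F150977) F349200 F162678
theorem F365343 : act 4 n139602 = n118271 := d5_2 (iv4 F162677) F365341 (iv3 D118271) F86015 (iv3 F87373)
theorem F365344 : act 7 n139602 = n155581 := d8_2 (iv7 F162679) F365341 (iv3 D155581)
theorem F365345 : act 0 n139532 = n184316 := d20_10 (iv4 F359402) (iv1 F365284) (iv4 D100879) D100878 (iv1 F365063) (iv3 F365341) F162677 (iv1 F87375) F322247 D139532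
theorem F365346 : act 0 n100200 = n118271 := d20_7 (iv4 D71079) F320857 (iv4 F101167) (iv3 F328869) F293150 D46764 D100200 (iv4 F365343) (iv3 F365341) (iv1 F162680)
theorem E103113 : n139601 = n139406 := ((c15_4 (iv0 D139601) D139602 F365344 (iv2 F349990))).symm
theorem F365347 : act 0 n139406 = n100878 := (sb E103113 (iv1 F365064))
theorem F365348 : act 1 n139406 = n65521 := (sb E103113 (iv0 D139601))
theorem F365349 : act 3 n100136 = n140383 := d6_3 F223498 F329675 D100136
theorem F365350 : act 7 n140372 = n100136 := d8_0 F365349 (iv7 D140383) (iv3 F223479)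
theorem F365351 : act 3 n155683 = n185429 := d6_3 F287692 F329673 D155683
theorem F365352 : act 6 n185428 = n155683 := d7_0 F365351 (iv6 D185429) (iv3 F287687)
theorem F365353 : act 6 n100458 = n139506 := d10_2 F329671 (iv4 F154513) (iv4 D139506)
theorem F365354 : act 2 n139521 = n100458 := d3_3 F365353 F222683 D139521
theorem F365355 : act 7 n100400 = n139521 := d4_0 F365354 (iv7 D100458) (iv2 F154435)
theorem F365356 : act 1 n139521 = n100454 := d15_0 (iv0 D100454) D100458 (iv2 F365354)
theorem F365357 : act 1 n100455 = n139521 := d15_1 D100455 (iv7 F365355) F154435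
theorem F365358 : act 5 n134766 = n141286 := d6_2 F329653 (iv3 F216835) (iv3 D141286)
theorem F365359 : act 0 n141286 = n93356 := d21_1 F365358 F295240 (iv6 F160976) (iv1 F336403) (iv6 D134229) F329918 (iv1 F198104) F336386 D134127 F352550
theorem F365360 : act 0 n93331 = n141286 := d21_7 (iv5 F349690) F349692 F294739 (iv6 D87218) F61651 D87056 (iv5 F294442) (iv5 F365358) (iv6 D134766) D134762
theorem F365361 : act 3 n108818 = n154224 := d7_3 (iv6 D154224) F329649 D108818
theorem F365362 : act 6 n134957 = n101474 := d14_3 F329636 D134115 (iv7 F217166) F304180 (iv6 F198025)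
theorem E103114 : n130665 = n123621 := (c10_3 (iv6 F198025) F329635 D130665 (iv4 D123621))
theorem F365363 : act 1 n123621 = n90446 := (sb E103114 (iv0 F355357))
theorem F365364 : act 3 n123621 = n61309 := (sb E103114 F209236)
theorem F365365 : act 6 n123621 = n61307 := (sb E103114 (iv6 D130665))
theorem F365366 : act 0 n99831 = n127116 := d20_4 F74600 (iv1 D46625) D46626 D99831 (iv3 D127116) F163578 (iv1 D30418) (iv4 F48848) F329624 (iv1 F74599)
theorem F365367 : act 1 n102614 = n127116 := d15_0 (iv0 F365366) F153707 D102614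
theorem F365368 : act 0 n95693 = n156339 := d19_16 F100082 F78143 (iv4 F100551) F329601 (iv1 F74734) (iv5 F137062) F137063 (iv3 F157498) F286184 (iv5 D89723) (iv4 F70264) (iv3 D44689) (iv1 D21280) D21281 D44694 D95693 (iv5 D156339) (iv4 D74362) F111338
theorem F365369 : act 5 n104246 = n95693 := d17_1 (iv1 F360798) F365368 (iv5 D156339) (iv4 D74362) F80857 F80856 F48919 F49454 D66501
theorem F365370 : act 7 n95693 = n106901 := d15_2 (iv0 F245682) (iv0 F365368) (iv2 F216762)
theorem F365371 : act 2 n141980 = n95693 := d4_3 F365370 (iv2 F216762) (iv7 F225011)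
theorem F365372 : act 3 n106901 = n95695 := d8_1 F365370 (iv7 D95695) D95693
theorem F365373 : act 1 n95693 = n156341 := d15_0 F245683 (iv7 F225011) F365371
theorem F365374 : act 3 n102219 = n144098 := d6_3 (iv5 D144098) F329594 D102219
theorem F365375 : act 3 n157233 = n102228 := d20_5 F49637 F27061 (iv4 F53917) (iv3 F112208) D157233 (iv4 D102228) (iv1 D47451) (iv4 F74640) (iv3 F329594) (iv1 D67515)
theorem F365376 : act 0 n137642 = n102238 := d20_7 F64411 (iv1 F34845) D22791 D47448 (iv1 F329591) D130586 (iv4 F220801) (iv4 D102238) (iv3 D47455) (iv1 F64414)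
theorem E103115 : n183510 = n136224 := ((c21_4 D137699 (iv1 F220881) F168836 D136224 (iv1 D183510) (iv6 D87589) F293569 (iv1 F33432) D40498 D87179 (iv1 F329587))).symm
theorem F365377 : act 0 n136224 = n87589 := (sb E103115 (iv1 D183510))
theorem F365378 : act 4 n185350 = n142329 := d10_3 (iv6 D142329) F329586 D185350
theorem F365379 : act 6 n182599 = n135480 := d10_2 F329580 D182599 F329380
theorem E103116 : n138099 = n98618 := (c21_5 (iv5 F233573) (iv1 D126782) F93921 D64889 D138099 (iv6 D98618) F294473 (iv1 D87176) D87178 (iv6 F329580) (iv1 F219059))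
theorem F365380 : act 1 n98618 = n64889 := (sb E103116 (iv0 D138099))
theorem F365381 : act 2 n137825 = n182599 := d3_3 F365379 F329379 D137825
theorem F365382 : act 5 n126529 = n182599 := d12_5 F365379 (iv5 D135480) (iv6 D63691) (iv5 F93636) D126529
theorem F365383 : act 5 n137825 = n126610 := d2_2 F365382 (iv2 F365381) F203656
theorem F365384 : act 4 n135643 = n96297 := d16_4 (iv4 F221051) F365383 F203657 D135643 (iv5 D96297) F70691 D45046 (iv7 F133788) F329336
theorem E103117 : n135772 = n135642 := (c19_20 (iv1 D135642) D135643 F365384 F148141 F70692 (iv5 D40314) (iv4 D19056) (iv3 F30578) (iv1 F32694) F32692 (iv4 F31669) (iv3 F27348) (iv1 F27431) (iv5 F324229) F39573 (iv3 F39559) F81653 F81652 D63841 D135772)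
theorem F365385 : act 3 n135642 = n63841 := (sb E103117 (iv3 D135772))
theorem F365386 : act 4 n135642 = n132674 := (sb E103117 F218338)
theorem F365387 : act 5 n135642 = n96017 := (sb E103117 F363791)
theorem F365388 : act 6 n135642 = n134479 := (sb E103117 F218339)
theorem F365389 : act 7 n135642 = n134506 := (sb E103117 F218340)
theorem F365390 : act 2 n134506 = n135641 := d15_3 (iv0 D135641) D135642 F365389
theorem F365391 : act 3 n134277 = n160045 := d20_5 (iv4 F100737) F100738 F80879 (iv3 F98391) D134277 F252545 F314568 (iv4 F329570) F98400 D63103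
theorem F365392 : act 2 n123089 = n134277 := d0_5 F365391 F252544 F352592 (iv2 F352606) (iv3 F338486)
theorem F365393 : act 6 n120452 = n134277 := d7_0 F365391 (iv6 D160045) (iv3 F191893)
theorem F365394 : act 7 n134277 = n134173 := d14_2 F191895 F365393 F341466 F274171 (iv6 F332271)
theorem F365395 : act 6 n134181 = n123819 := d21_3 F360775 (iv1 F216024) (iv5 F352309) (iv1 D123819) (iv6 D57707) F44465 D56886 (iv5 F191892) F365393 (iv1 F360777)
theorem F365396 : act 5 n134022 = n134277 := d13_3 F365394 (iv5 D134173) F215983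
theorem E103118 : n175368 = n134278 := (c15_4 F360776 F360777 F365394 (iv2 F341467))
theorem F365397 : act 2 n134278 = n134173 := (sb E103118 F341467)
theorem F365398 : act 3 n134278 = n137409 := (sb E103118 F352625)
theorem F365399 : act 4 n134278 = n83747 := (sb E103118 F274415)
theorem F365400 : act 5 n134278 = n134023 := (sb E103118 (iv5 F341469))
theorem F365401 : act 6 n134278 = n83745 := (sb E103118 (iv6 D175368))
theorem F365402 : act 7 n134278 = n123089 := (sb E103118 (iv7 F334548))
theorem F365403 : act 0 n141481 = n148818 := d21_4 (iv5 D63084) D63081 (iv5 F361288) (iv6 F363635) (iv6 F361641) F332248 (iv1 F245553) F332243 (iv6 F365401) (iv1 D134278)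
theorem F365404 : act 6 n134023 = n134950 := d21_3 (iv5 F360775) (iv1 F360776) F365400 (iv1 D134950) (iv6 D63423) D63422 D134945 F336996 (iv6 F347104) (iv1 F216023)
theorem F365405 : act 2 n134950 = n134174 := d3_1 F365404 (iv6 D134174) (iv2 F215982)
theorem F365406 : act 3 n134950 = n137410 := d7_1 F365404 (iv6 D137410) (iv3 F352621)
theorem E103119 : n175988 = n175372 := (c20_10 (iv4 F365399) (iv1 D134278) D134279 (iv3 F336377) (iv1 D153913) (iv3 F241887) F241888 (iv1 F238455) F350990 D175988 (iv1 D175372))
theorem F365407 : act 3 n175372 = n83975 := (sb E103119 (iv3 D175988))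
theorem E103120 : n184204 = n119266 := ((c19_16 D19311 D41014 (iv4 F329561) (iv3 D55238) F42781 (iv5 F46009) (iv4 D28488) (iv3 F45997) D59949 F94428 (iv4 F84937) (iv3 F182653) F182656 F104064 F86829 D119266 (iv1 D184204) (iv5 D87859) F62126 F30961)).symm
theorem F365408 : act 0 n119266 = n87859 := (sb E103120 (iv1 D184204))
theorem E103121 : n155575 = n92905 := (c0_3 D92608 F329558 D155575 (iv2 D92905) (iv3 D43467) (iv2 F68324))
theorem F365409 : act 3 n92905 = n74016 := (sb E103121 (iv3 D155575))
theorem F365410 : act 4 n92905 = n115039 := (sb E103121 F244594)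
theorem F365411 : act 2 n115039 = n92906 := d1_1 F365410 (iv4 D92906) D92905
theorem F365412 : act 4 n159343 = n159827 := d11_3 F251916 F365410 (iv7 F250845)
theorem F365413 : act 3 n155673 = n93061 := d7_3 (iv6 D93061) F329549 D155673
theorem F365414 : act 2 n93061 = n100155 := d0_1 F365413 (iv3 F335716) F172385 (iv3 F319534) (iv2 F244706)
theorem F365415 : act 5 n138290 = n159909 := d2_2 F329496 D138290 F252173
theorem F365416 : act 3 n143485 = n141149 := d7_3 (iv6 D141149) F329479 D143485
theorem F365417 : act 6 n114758 = n133231 := d7_2 F329477 (iv3 F178857) (iv3 D133231)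
theorem F365418 : act 6 n114771 = n133232 := d12_4 F329477 (iv5 D52962) D52963 D114771 (iv5 D133232)
theorem F365419 : act 6 n135535 = n110767 := d3_2 F365418 (iv2 F217960) (iv2 F178865)
theorem F365420 : act 0 n133231 = n135834 := d21_4 F363730 F191340 D114758 F365417 (iv6 D135834) (iv5 D63870) (iv1 D30127) D30129 D63875 D135842
theorem F365421 : act 6 n113933 = n131962 := d7_2 F329451 D113933 (iv3 D131962)
theorem F365422 : act 6 n136780 = n123551 := d10_2 F329437 (iv4 F219997) (iv4 D123551)
theorem F365423 : act 3 n123551 = n105566 := d7_1 F365422 F162144 D136780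
theorem F365424 : act 4 n96119 = n186142 := d5_4 F329425 F70454 D44855 D96119 F288875
theorem F365425 : act 4 n95548 = n186150 := d11_3 (iv7 D186150) F329425 (iv7 F147198)
theorem F365426 : act 4 n186408 = n172110 := d18_7 F364439 F147472 F157233 (iv4 F70174) D95548 F365425 F289191 (iv0 D172110) (iv5 F364437)
theorem E103122 : n172110 = n144232 := ((c20_6 (iv4 F147616) (iv1 F147617) (iv4 D44801) (iv3 F70376) (iv1 F306980) D144232 (iv4 F365426) (iv1 F289191) (iv4 F365425) F147197 D95550)).symm
theorem F365427 : act 0 n144232 = n84339 := (sb E103122 (iv1 F270264))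
theorem F365428 : act 1 n144232 = n82424 := (sb E103122 (iv0 D172110))
theorem F365429 : act 4 n144232 = n186408 := (sb E103122 (iv4 F365426))
theorem F365430 : act 2 n186408 = n176939 := d1_1 F365429 (iv4 D176939) (iv2 F364453)
theorem F365431 : act 7 n186408 = n176944 := d11_2 (iv7 F364454) F365429 (iv4 D176944)
theorem F365432 : act 2 n176944 = n186409 := d15_3 F289186 F289191 F365431
theorem F365433 : act 7 n176939 = n186409 := d4_2 (iv7 F365431) F365430 (iv2 F365432)
theorem E103123 : n186147 = n176939 := ((c15_4 (iv0 D186147) (iv0 F364449) (iv7 F365431) F365430)).symm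
theorem F365434 : act 0 n176939 = n186411 := (sb E103123 (iv1 F289193))
theorem F365435 : act 1 n176939 = n88683 := (sb E103123 (iv0 D186147))
theorem E103124 : n176938 = n97323 := (c20_4 (iv4 F329425) (iv1 F365435) (iv4 D176939) D176938 (iv1 D97323) F71709 D45459 (iv1 F293834) F134053 (iv3 F140145) F293830)
theorem F365436 : act 3 n97323 = n84337 := (sb E103124 (iv3 D176938))
theorem E103125 : n185630 = n176940 := ((c6_3 (iv5 F294039) F365436 D176940 (iv3 D185630))).symm
theorem F365437 : act 3 n176940 = n88428 := (sb E103125 (iv3 D185630))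
theorem E103126 : n176942 = n172111 := ((c11_2 F365433 (iv4 F364461) (iv7 D176942) D176939)).symm
theorem F365438 : act 2 n172111 = n84338 := (sb E103126 F276298)
theorem F365439 : act 7 n172111 = n84337 := (sb E103126 (iv7 D176942))
theorem F365440 : act 6 n186141 = n96119 := d10_0 F365424 (iv6 D186142) D186141
theorem F365441 : act 3 n96120 = n186141 := d7_3 F365440 (iv3 D96119) D96120
theorem F365442 : act 0 n109743 = n156669 := d21_4 D137253 (iv1 F221403) (iv5 D109742) D109743 F326027 (iv5 F325912) (iv1 F148074) F329422 (iv6 F173623) (iv1 F173624)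
theorem F365443 : act 1 n109743 = n185464 := d15_1 (iv0 F365442) F340609 (iv2 F246405)
theorem F365444 : act 5 n174700 = n109743 := d17_7 F169218 F79995 F79932 F79928 (iv4 F325064) D83473 D174700 F365443 (iv4 F340611)
theorem F365445 : act 0 n109525 = n174700 := d21_1 D109525 F365444 (iv6 D109743) (iv1 D50611) (iv6 D24651) D24650 D50607 F79984 D51652 F81553
theorem F365446 : act 7 n109525 = n174698 := d15_2 D174700 (iv0 F365445) F273548
theorem F365447 : act 3 n174698 = n97069 := d8_1 F365446 F149734 F364879
theorem F365448 : act 5 n174701 = n136815 := d16_1 D174701 (iv4 D136815) (iv5 D64318) F48728 (iv5 F38620) (iv4 F79904) D109525 F365446 F273548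
theorem F365449 : act 1 n109575 = n174698 := d15_1 D109575 (iv7 F365446) F169482
theorem F365450 : act 0 n137731 = n134368 := d21_7 (iv5 F329414) (iv1 D117468) (iv5 F329416) (iv6 D30454) D30452 D64739 D137731 (iv5 D134368) (iv6 D63124) D63119
theorem F365451 : act 3 n132167 = n113960 := d8_1 F329388 (iv7 D113960) (iv3 F177298)
theorem F365452 : act 6 n105352 = n132161 := d7_2 F329386 (iv3 F161560) (iv3 D132161)
theorem F365453 : act 2 n132161 = n105353 := d3_1 F365452 (iv6 D105353) D105352
theorem F365454 : act 0 n132154 = n113994 := d20_4 F164628 (iv1 F78037) F102072 D132154 (iv3 D113994) (iv4 D52613) (iv1 D25531) (iv4 F40359) (iv3 F83105) (iv1 F329383)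
theorem F365455 : act 7 n101989 = n137302 := d11_2 F329377 (iv4 F156952) F220455
theorem F365456 : act 2 n137307 = n101989 := d4_3 F365455 F220453 D137307
theorem F365457 : act 1 n137305 = n101989 := d15_1 D137305 F365455 F220453
theorem F365458 : act 1 n101989 = n137304 := d15_0 (iv0 D137304) D137307 F365456
theorem E103127 : n137077 = n102217 := ((c21_5 (iv5 F137066) (iv1 D89381) (iv5 F64379) D47449 D102217 (iv6 D137077) D137076 (iv1 F220923) (iv5 D137490) F329374 (iv1 F74739))).symm
theorem F365459 : act 6 n102217 = n64438 := (sb E103127 (iv6 D137077))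
theorem F365460 : act 0 n99806 = n130591 := d20_4 (iv4 F74636) (iv1 F136344) F136345 D99806 (iv3 D130591) (iv4 D61270) (iv1 F82377) (iv4 F329358) (iv3 D47448) (iv1 F74634)
theorem F365461 : act 1 n102246 = n130591 := d15_0 (iv0 F365460) F153647 D102246
theorem F365462 : act 6 n134728 = n104279 := d7_2 D104280 F329347 (iv3 D104279)
theorem F365463 : act 2 n104279 = n134730 := d3_1 F365462 (iv6 D134730) D134728
theorem F365464 : act 0 n126695 = n104231 := d21_4 D64717 F219112 (iv5 F93833) D126695 (iv6 D104231) (iv5 D48233) (iv1 F36520) D23411 D48260 (iv1 F329342)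
theorem E103128 : n183401 = n137786 := (c21_5 (iv5 D46089) F66245 D40753 (iv6 F134445) D183401 (iv6 D137786) (iv5 D64758) (iv1 D30460) D30463 D64770 (iv1 F329334))
theorem F365465 : act 0 n137786 = n135116 := (sb E103128 (iv1 F363973))
theorem F365466 : act 1 n137786 = n87548 := (sb E103128 (iv0 D183401))
theorem E103129 : n137836 = n102474 := (c0_3 D99827 F329333 D137836 (iv2 D102474) (iv3 D47537) F73651)
theorem F365467 : act 3 n102474 = n64772 := (sb E103129 (iv3 D137836))
theorem F365468 : act 2 n137838 = n88972 := d2_3 (iv5 F153699) F329333 D137838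
theorem F365469 : act 3 n99011 = n137838 := d0_0 F365468 F136560 F64094 (iv3 F72975) (iv2 F152549)
theorem F365470 : act 6 n88970 = n137838 := d3_0 F365468 (iv6 D88972) D88970
theorem F365471 : act 1 n137838 = n94123 := d15_0 (iv0 F157431) F157427 (iv2 F365468)
theorem F365472 : act 5 n137717 = n182254 := d21_6 (iv5 D40885) (iv1 F66875) D48217 D104206 F329315 D137717 (iv1 D182254) D182255 F283698 F133552
theorem F365473 : act 0 n89038 = n93060 := d21_4 D102589 (iv1 F157820) (iv5 D89037) D89038 (iv6 D93060) (iv5 F329249) (iv1 F110811) F329202 (iv6 F293581) (iv1 F293612)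
theorem F365474 : act 0 n153619 = n100193 := d20_4 (iv4 D33527) D33525 D72643 D153619 (iv3 D100193) (iv4 D46761) (iv1 F293151) (iv4 F143293) F329199 F94706
theorem F365475 : act 0 n100986 = n127948 := d20_4 F142674 (iv1 F292938) (iv4 F74302) (iv3 F155600) (iv3 D127948) (iv4 D60111) (iv1 F86105) (iv4 F110049) F329198 (iv1 F292958)
theorem F365476 : act 0 n128033 = n100979 := d20_4 (iv4 D33745) (iv1 F54094) (iv4 F94709) D128033 (iv3 D100979) F74295 (iv1 D46440) D46441 (iv3 F329198) (iv1 D73356)
theorem F365477 : act 1 n100984 = n127948 := d15_0 (iv0 F365475) (iv7 D100986) D100984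
theorem F365478 : act 6 n135986 = n117517 := d3_2 F329193 F218774 F184097
theorem F365479 : act 6 n136999 = n117620 := d7_2 F329193 D136999 F184225
theorem F365480 : act 6 n137000 = n117645 := d10_2 F329193 D137000 (iv4 D117645)
theorem F365481 : act 5 n117617 = n136999 := d12_5 F365479 (iv5 D117620) (iv6 D54183) D54182 D117617
theorem E103130 : n149163 = n136992 := (c21_9 F220131 (iv1 F179679) (iv5 F218773) F365478 F346076 (iv6 D149172) (iv5 D70006) D70003 D149163 (iv6 D136992) (iv1 F220129))
theorem F365482 : act 1 n136992 = n175524 := (sb E103130 F338058)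
theorem F365483 : act 5 n136992 = n70003 := (sb E103130 (iv5 D149163))
theorem F365484 : act 7 n136992 = n124702 := (sb E103130 F234541)
theorem F365485 : act 3 n136443 = n143488 := d6_3 (iv5 D143488) F329192 (iv5 F219539)
theorem F365486 : act 3 n136533 = n143489 := d8_3 (iv7 D143489) F329192 (iv7 F219630)
theorem F365487 : act 6 n143489 = n136532 := d7_2 D136533 F365486 (iv3 D136532)
theorem F365488 : act 7 n136532 = n117617 := d14_2 D143489 F365487 (iv6 D117617) F85513 D67209
theorem F365489 : act 4 n117617 = n141256 := d11_1 F365488 (iv7 F329702) F329701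
theorem F365490 : act 0 n117617 = n139156 := d20_7 (iv4 D107926) F78831 D54499 (iv3 F319659) (iv1 F171641) (iv3 F224283) (iv4 F365489) (iv4 F352996) (iv3 D118698) (iv1 F166785)
theorem F365491 : act 6 n117650 = n136443 := d7_0 F365485 F226214 (iv3 F184240)
theorem F365492 : act 4 n159677 = n141208 := d5_4 F329153 F167599 (iv4 F220677) F327580 F224235
theorem F365493 : act 3 n134949 = n144861 := d20_5 (iv4 D63429) (iv1 D29966) (iv4 F48168) (iv3 F98747) D134949 (iv4 D144861) (iv1 F114529) F324065 F101828 (iv1 F329152)
theorem F365494 : act 4 n148747 = n134949 := d5_0 F365493 (iv4 D144861) F103979 D69713 D148747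
theorem F365495 : act 7 n146483 = n134949 := d8_0 F365493 F227801 D146483
theorem F365496 : act 3 n98252 = n113242 := d8_3 (iv7 F202171) F329145 (iv7 F151599)
theorem F365497 : act 6 n180183 = n173247 := d10_2 F329143 D180183 (iv4 D173247)
theorem F365498 : act 2 n174202 = n180183 := d3_3 F365497 F271587 D174202
theorem F365499 : act 7 n180807 = n180183 := d14_0 F365497 F271588 (iv6 F328760) (iv7 F256585) D180807
theorem F365500 : act 7 n174202 = n180178 := d4_2 F365499 (iv2 F365498) F328389
theorem F365501 : act 3 n149281 = n102592 := d5_5 (iv4 D102592) F329091 (iv4 D83156) (iv3 F302137) D149281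
theorem F365502 : act 3 n172402 = n102594 := d7_3 (iv6 D102594) F329091 (iv6 F270634)
theorem F365503 : act 3 n132270 = n154022 := d5_3 F329054 (iv3 F209501) (iv4 F211953) F242048 F191144
theorem E103131 : n102225 = n30356 := (c21_6 (iv5 F73592) F64467 (iv5 D22792) D22793 D47450 D102225 D64469 (iv1 F220917) (iv5 D64654) F329049 (iv1 F73589))
theorem E103132 : n64470 = n47450 := ((D64470).symm.trans (sb E103131 (iv6 D102225)))
theorem E103135 : n102221 = n99803 := ((D102221).symm.trans (sb E103132 (iv2 F362584)))
theorem E103136 : n102222 = n101437 := ((D102222).symm.trans (sb E103132 (iv3 F360828)))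
theorem E103137 : n137134 = n102223 := (((D102223).symm.trans (sb E103132 (iv4 F220325)))).symm
theorem F365504 : act 6 n47450 = n30356 := (sb E103132 (iv6 D64470))
theorem E103139 : n102226 = n99804 := ((D102226).symm.trans (sb E103132 (iv7 F362586)))
theorem F365505 : act 2 n99803 = n47450 := (sb E103135 (iv2 D102221))
theorem F365506 : act 7 n99803 = n47451 := (sb E103135 (iv7 F157083))
theorem F365507 : act 3 n101437 = n47450 := (sb E103136 (iv3 D102222))
theorem F365508 : act 6 n102223 = n64468 := (sb E103137 (iv6 D137134))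
theorem F365509 : act 2 n99804 = n47451 := (sb E103139 F157084)
theorem F365510 : act 7 n99804 = n47450 := (sb E103139 (iv7 D102226))
theorem E103140 : n137151 = n102230 := ((c14_2 F365506 D102230 (iv7 D137151) (iv6 D64475) (iv7 F182935) (iv6 F362585))).symm
theorem F365511 : act 7 n102230 = n64475 := (sb E103140 (iv7 D137151))
theorem F365512 : act 0 n116266 = n99825 := d20_7 (iv4 F74597) (iv1 F74598) (iv4 D22778) F329048 D30426 D64669 (iv4 F181222) (iv4 D99825) F73647 D46624
theorem E103141 : n137591 = n137343 := ((c18_10 (iv1 D137591) (iv4 F181222) F365512 (iv4 D99825) (iv5 D46623) (iv4 F68108) (iv0 F290150) F142813 (iv0 F290147) F362224)).symm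
theorem F365513 : act 0 n137343 = n64669 := (sb E103141 (iv1 D137591))
theorem E103142 : n143280 = n137590 := (c15_4 (iv0 D137590) (iv0 F365513) (iv7 F359471) (iv2 F359472))
theorem F365514 : act 2 n137590 = n143483 := (sb E103142 F359472)
theorem F365515 : act 3 n137590 = n67129 := (sb E103142 F226087)
theorem F365516 : act 5 n137590 = n99576 := (sb E103142 (iv5 F362223))
theorem F365517 : act 6 n137590 = n117614 := (sb E103142 (iv6 F359474))
theorem F365518 : act 7 n137590 = n67123 := (sb E103142 (iv7 D143280))
theorem F365519 : act 2 n104410 = n134551 := d1_3 F216531 F329045 (iv4 F160064)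
theorem F365520 : act 1 n104410 = n134548 := d15_0 (iv0 D134548) D134551 (iv2 F365519)
theorem F365521 : act 4 n134548 = n130221 := d18_7 F334172 (iv4 F234641) F361085 F340128 F328616 (iv4 F160064) F365520 (iv0 D130221) D130223
theorem F365522 : act 3 n132779 = n130221 := d20_5 (iv4 F142896) (iv1 D92707) F319814 (iv3 F97174) D132779 (iv4 F365521) (iv1 F365520) F160064 (iv3 D88538) D88536
theorem F365523 : act 6 n130221 = n132885 := d7_2 (iv6 F342150) F365522 (iv3 D132885)
theorem F365524 : act 7 n130221 = n132805 := d8_2 (iv7 F342153) F365522 (iv3 D132805)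
theorem F365525 : act 1 n101218 = n126741 := d15_0 (iv0 D126741) D126744 (iv2 F329042)
theorem F365526 : act 6 n140394 = n178307 := d10_2 F329028 (iv4 F223527) (iv4 D178307)
theorem F365527 : act 6 n173238 = n108741 := d14_5 (iv7 F223528) F365526 F277891 (iv6 F334708) (iv7 F271568)
theorem F365528 : act 5 n137422 = n117509 := d2_2 F329018 D137422 (iv2 D117509)
theorem F365529 : act 5 n136052 = n117404 := d13_3 F183878 F329018 (iv7 F218931)
theorem F365530 : act 2 n143376 = n136052 := d2_3 F365529 F183876 D143376
theorem F365531 : act 7 n137422 = n143376 := d4_0 F365530 F218931 D137422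
theorem F365532 : act 1 n143376 = n137420 := d15_0 (iv0 D137420) (iv7 F218931) (iv2 F365530)
theorem F365533 : act 3 n117612 = n137422 := d8_3 F365531 F226132 (iv7 F184213)
theorem F365534 : act 1 n137329 = n143376 := d15_1 (iv0 F360688) (iv7 F365531) (iv2 D137422)
theorem F365535 : act 0 n137422 = n101380 := d20_4 F221288 (iv1 D138025) (iv4 F184214) F365533 F156174 (iv4 F156194) (iv1 F357289) (iv4 D137715) D137714 F357291
theorem F365536 : act 1 n136052 = n101380 := d15_0 (iv0 F365535) F365531 F365530
theorem F365537 : act 0 n137710 = n101393 := d20_1 D137710 F156194 (iv3 F156174) (iv1 F365536) (iv3 D136052) F328046 F328026 F48867 (iv3 F48860) D64730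
theorem F365538 : act 6 n164570 = n136015 := d3_2 D137214 F329016 F218848
theorem E103143 : n185001 = n136980 := ((c7_2 F329015 (iv3 F220128) (iv6 D185001) (iv3 F290198))).symm
theorem F365539 : act 0 n136980 = n152872 := (sb E103143 F359594)
theorem F365540 : act 6 n136980 = n88188 := (sb E103143 (iv6 D185001))
theorem F365541 : act 4 n102224 = n102306 := d19_6 (iv1 F97697) F97693 F328996 F74639 D47450 D102224 F157120 F74663 (iv5 D41349) F31127 F14242 D19470 (iv5 F291257) (iv4 F69120) (iv3 F144893) (iv1 F145643) F183968 F326336 F102028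
theorem F365542 : act 0 n102224 = n182932 := d20_7 (iv4 F283271) (iv1 F283273) F133521 (iv3 F64418) F74664 (iv3 F157120) (iv4 F365541) (iv4 D182932) F134097 D87344
theorem F365543 : act 5 n185377 = n138061 := d21_8 (iv5 D136120) (iv1 D64013) D64015 F328986 (iv1 F294463) D87583 (iv5 F135224) D185377 (iv6 D138061) (iv1 F219117)
theorem F365544 : act 2 n138067 = n185377 := d2_3 F365543 F221305 D138067
theorem F365545 : act 6 n124723 = n183492 := d21_9 (iv5 F135224) D185377 F365543 (iv6 D138061) (iv1 F219117) F345942 F310389 F241546 F241545 (iv1 D183492)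
theorem F365546 : act 2 n183492 = n154017 := d3_1 F365545 (iv6 D154017) F240985
theorem F365547 : act 5 n183492 = n154585 := d12_1 F365545 (iv6 D154585) D154584 (iv6 F242657) F241545
theorem E103144 : n185264 = n154373 := (c17_9 D154371 F242449 (iv1 F357267) (iv5 F310884) F337986 F135224 D183492 F365547 F364042 (iv4 D154373))
theorem F365548 : act 0 n154373 = n154585 := (sb E103144 (iv1 F364042))
theorem F365549 : act 1 n154373 = n88276 := (sb E103144 (iv0 D185264))
theorem F365550 : act 7 n185378 = n138067 := d15_2 (iv0 D185377) D185378 F365544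
theorem F365551 : act 3 n138082 = n185378 := d8_3 F365550 F221308 D138082
theorem F365552 : act 5 n138068 = n185378 := d13_3 F365550 (iv5 D138067) D138068
theorem F365553 : act 6 n155605 = n99824 := d12_4 F328904 (iv5 D74024) D74025 D155605 (iv5 F153696)
theorem F365554 : act 2 n102594 = n155605 := d3_3 F365553 (iv2 F153694) D102594
theorem F365555 : act 3 n104245 = n155605 := d7_3 F365553 (iv3 F153695) D104245
theorem F365556 : act 5 n139535 = n102594 := d2_0 F365554 (iv5 D155605) (iv2 F323768)
theorem F365557 : act 4 n102594 = n152026 := d16_2 (iv4 F323769) F365556 (iv5 D152026) F108160 (iv5 F55464) (iv4 F114865) (iv5 F305351) (iv7 D74028) (iv2 F107844)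
theorem F365558 : act 3 n152026 = n101210 := d5_1 F365557 (iv4 F340232) F304711 D172402 F365502
theorem F365559 : act 6 n152026 = n102592 := d10_2 D102594 F365557 (iv4 D102592)
theorem F365560 : act 5 n102592 = n152023 := d12_1 F365559 (iv6 D152023) (iv5 D71672) D71673 D152026
theorem F365561 : act 2 n100920 = n152026 := d0_5 F365558 (iv2 F156890) (iv3 F155503) F156869 (iv3 F155061)
theorem F365562 : act 7 n184670 = n152026 := d8_0 F365558 (iv7 F156887) (iv3 F286662)
theorem F365563 : act 1 n154261 = n184670 := d15_1 (iv0 F361933) F365562 (iv2 F365561)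
theorem F365564 : act 4 n100920 = n155605 := d16_0 (iv5 D155605) F110768 (iv5 F78740) (iv4 F309385) F114867 (iv4 F314127) D184670 F365562 (iv2 F365561)
theorem F365565 : act 3 n101058 = n139556 := d0_2 D139337 F328893 (iv2 D139556) (iv3 D65483) (iv2 F103516)
theorem F365566 : act 0 n184236 = n139596 := d20_7 F101110 F111369 F101098 D139337 F328891 F155640 D184236 F222742 (iv3 D65521) (iv1 F101950)
theorem F365567 : act 6 n130714 = n142854 := d7_2 F328844 D130714 F225748
theorem F365568 : act 5 n142851 = n130714 := d12_5 F365567 (iv5 D142854) (iv6 D66956) D66955 D142851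
theorem F365569 : act 6 n167926 = n134808 := d12_4 F328835 F321259 (iv6 F319681) D167926 F216923
theorem F365570 : act 3 n116274 = n167926 := d7_3 F365569 (iv3 D134808) (iv6 F343168)
theorem F365571 : act 0 n138210 = n154073 := d18_2 (iv1 F328822) F328825 (iv4 D154073) (iv5 D72946) F52915 D33627 (iv4 F190927) F185510 F327126
theorem F365572 : act 5 n136990 = n154073 := d17_7 F328821 (iv5 D54402) D54400 (iv5 F327127) (iv4 F162245) (iv5 F227569) (iv0 F227572) (iv0 F365571) (iv4 F328825)
theorem F365573 : act 2 n154073 = n157175 := d2_1 F365572 F247354 (iv2 F220137)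
theorem F365574 : act 7 n154073 = n136990 := d16_8 (iv4 F327134) (iv5 D101799) (iv4 F321053) F109443 (iv4 F109459) F327140 (iv4 F220138) F365572 F220137
theorem F365575 : act 0 n154073 = n138224 := d18_0 (iv4 F322836) F322835 F100330 (iv5 F99825) (iv4 F325440) (iv0 F306510) F338809 (iv0 F227572) F365572
theorem F365576 : act 0 n113247 = n176530 := d20_4 (iv4 D112837) (iv1 F82305) (iv4 F82655) (iv3 F176445) (iv3 D176530) (iv4 D84167) (iv1 F118632) D82587 (iv3 F328788) F175695
theorem F365577 : act 3 n111798 = n158032 := d19_7 (iv1 F138492) (iv5 F328769) F172931 F203488 (iv1 D126545) (iv5 F161394) (iv4 F173536) (iv1 D158032) (iv5 F142018) F292613 F144786 (iv1 F139699) (iv5 F144630) (iv4 D93819) (iv3 F144622) F291015 (iv5 F291008) F291007 (iv3 F138487)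
theorem F365578 : act 6 n158032 = n111797 := d7_2 D111798 F365577 (iv3 D111797)
theorem F365579 : act 6 n174182 = n170849 := d7_2 F328760 D174182 F268457
theorem F365580 : act 5 n134878 = n179823 := d2_2 (iv5 F304694) F328736 F280042
theorem F365581 : act 0 n135241 = n179823 := d21_1 D135241 (iv5 F365580) (iv6 F328252) (iv1 D123031) (iv6 F327939) (iv5 F328334) (iv1 F328717) (iv5 D61902) D61903 F100230
theorem F365582 : act 3 n131293 = n159989 := d19_15 (iv1 F328717) (iv5 D61902) (iv4 D29330) (iv3 D13955) (iv1 F18376) F18370 F7758 F3506 (iv1 F3509) D5194 D11265 D24011 (iv1 F46843) D61615 D131293 (iv1 D159989) (iv5 D76599) (iv4 F114871) F114870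
theorem F365583 : act 6 n134416 = n109938 := d10_2 F328713 D134416 (iv4 F324390)
theorem F365584 : act 7 n89444 = n134416 := d14_0 F365583 (iv7 F324381) F157441 F74752 D89444
theorem F365585 : act 0 n161814 = n166202 := d20_4 F321976 F311267 F325777 D161814 F261680 (iv4 F328710) F328707 F323866 F316631 D133133
theorem F365586 : act 5 n129566 = n161814 := d21_0 F365585 (iv5 D166202) (iv6 F301079) F128024 D85130 F326954 F169526 F326951 D172497 (iv1 F342317)
theorem F365587 : act 6 n161814 = n155768 := d12_2 F212315 F365586 F350836 F321904 (iv5 F313451)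
theorem F365588 : act 7 n161814 = n129565 := d13_2 D129566 F365586 (iv5 D129565)
theorem E103145 : n159859 = n132680 := (c7_3 D132682 F328661 D159859 (iv3 D132680))
theorem F365589 : act 1 n132680 = n126522 := (sb E103145 (iv0 F364739))
theorem F365590 : act 2 n132680 = n148778 := (sb E103145 F252018)
theorem F365591 : act 4 n132680 = n76526 := (sb E103145 F252019)
theorem F365592 : act 6 n132680 = n76525 := (sb E103145 (iv6 D159859))
theorem F365593 : act 1 n134549 = n104410 := d15_1 D134549 F160065 F328607
theorem F365594 : act 3 n155833 = n103237 := d5_1 F328605 (iv4 D103237) F75122 D47843 D103243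
theorem F365595 : act 3 n103056 = n155827 := d20_3 (iv4 F110829) (iv1 F327747) D103056 (iv1 D155827) (iv3 D74125) D74126 D155833 (iv4 F328605) (iv3 D103243) F328221
theorem F365596 : act 2 n155827 = n107715 := d0_1 F365595 F166355 F323323 F336636 (iv2 F158312)
theorem F365597 : act 6 n155827 = n107713 := d7_2 F353851 F365595 (iv3 F344829)
theorem F365598 : act 7 n155827 = n103359 := d8_2 (iv7 F158313) F365595 (iv3 D103359)
theorem E103146 : n155826 = n155807 := ((c15_4 (iv0 D155826) D155827 F365598 (iv2 F336639))).symm
theorem F365599 : act 1 n155807 = n74125 := (sb E103146 (iv0 D155826))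
theorem E103147 : n151265 = n103236 := (c20_1 (iv4 F237990) (iv1 D103236) D103237 (iv3 F365594) (iv1 F244833) F329913 (iv4 D47934) F293192 (iv4 F143281) F365330 (iv1 D154742))
theorem F365600 : act 3 n103236 = n71289 := (sb E103147 (iv3 D151265))
theorem F365601 : act 4 n103236 = n73384 := (sb E103147 F237990)
theorem F365602 : act 5 n103236 = n97164 := (sb E103147 F365307)
theorem F365603 : act 4 n154741 = n92873 := d20_8 (iv4 F294256) (iv1 D103790) (iv4 D48053) F321142 (iv1 F107783) (iv3 F365600) F365601 D154741 F143256 F294251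
theorem F365604 : act 7 n103867 = n154741 := d11_0 F365603 F143257 D103867
theorem F365605 : act 3 n155790 = n103211 := d5_1 F328604 (iv4 D103211) F75114 D47836 D103222
theorem F365606 : act 7 n140880 = n156359 := d8_2 F328588 (iv3 F223939) F245726
theorem E103148 : n144803 = n136489 := (c2_3 (iv5 F220643) F328580 D144803 F219603)
theorem F365607 : act 5 n136489 = n67861 := (sb E103148 (iv5 D144803))
theorem F365608 : act 7 n164575 = n136373 := d13_2 F328578 D164575 (iv5 F220641)
theorem F365609 : act 6 n136014 = n164575 := d14_5 F365608 (iv6 D136373) (iv7 F211766) F211765 (iv7 F218847)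
theorem F365610 : act 3 n136413 = n99952 := d20_3 F328170 (iv1 F201744) (iv4 F219520) (iv1 D99952) F73787 D46685 F73788 (iv4 D46608) D46607 (iv1 F328571)
theorem F365611 : act 6 n99952 = n136838 := d7_2 F219523 F365610 (iv3 D136838)
theorem F365612 : act 5 n136591 = n185350 := d21_8 (iv5 D41215) D41212 D88296 (iv6 F328568) F111428 (iv6 F219670) (iv5 D136593) D136591 (iv6 D185350) (iv1 D88306)
theorem F365613 : act 6 n136538 = n185357 := d21_3 (iv5 D64211) (iv1 F162114) D136538 (iv1 D185357) (iv6 D88308) (iv5 D41215) D41212 D88296 (iv6 F328568) F111428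
theorem F365614 : act 0 n101242 = n136078 := d20_4 D104242 F159839 (iv4 D101243) (iv3 F155975) (iv3 D136078) (iv4 F166215) (iv1 F328541) (iv4 D104237) F75829 D48238
theorem F365615 : act 1 n101242 = n137601 := d15_1 (iv0 F365614) (iv7 F362214) (iv2 F362212)
theorem F365616 : act 1 n101375 = n136078 := d15_0 (iv0 F365614) F155976 (iv2 F156171)
theorem F365617 : act 1 n137601 = n101375 := d15_0 F365616 F218995 D137601
theorem F365618 : act 5 n93216 = n134146 := d6_2 F328517 (iv3 F295445) (iv3 D134146)
theorem E103149 : n136267 = n82421 := (c19_8 (iv1 F328110) (iv5 F328517) F171517 F171519 (iv1 D107626) (iv5 F93106) (iv4 F99661) (iv3 F219329) (iv1 D82421) D82423 D172108 F294677 (iv1 F144653) F144651 F293541 (iv3 F161066) (iv1 F289006) F289005 F136151 F328108)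
theorem E103150 : n172101 = n64066 := ((D172101).symm.trans (sb E103149 F219329))
theorem E103151 : n172102 = n111330 := ((D172102).symm.trans (sb E103149 F219330))
theorem E103152 : n172104 = n64064 := ((D172104).symm.trans (sb E103149 (iv6 D136267)))
theorem F365619 : act 3 n64066 = n82421 := (sb E103150 (iv3 D172101))
theorem F365620 : act 4 n111330 = n82421 := (sb E103151 (iv4 D172102))
theorem F365621 : act 6 n64064 = n82421 := (sb E103152 (iv6 D172104))
theorem F365622 : act 6 n172100 = n136265 := d3_2 F365621 (iv2 F270249) (iv2 D136265)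
theorem F365623 : act 6 n172095 = n174192 := d14_3 (iv7 F99656) F365621 F270247 (iv7 F343718) (iv6 D111618)
theorem E103153 : n172099 = n160811 := ((c3_2 F365623 (iv2 F300935) (iv6 D172099) D172095)).symm
theorem F365624 : act 6 n160811 = n82420 := (sb E103153 (iv6 D172099))
theorem F365625 : act 3 n136270 = n172095 := d7_3 F365623 F353285 F219354
theorem E103154 : n172095 = n158004 := (c19_4 (iv1 F202267) (iv5 F202250) (iv4 F219334) F365625 (iv1 D158004) F112838 (iv4 F158255) (iv3 D102976) (iv1 F293766) F69128 (iv4 F69127) (iv3 F144907) F144908 (iv5 D92487) (iv4 F125891) F125890 D81871 (iv5 F327601) (iv4 F171510) (iv3 F202263))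
theorem F365626 : act 2 n158004 = n82420 := (sb E103154 (iv2 D172095))
theorem F365627 : act 3 n158004 = n136270 := (sb E103154 (iv3 F365625))
theorem F365628 : act 6 n158004 = n174192 := (sb E103154 F365623)
theorem F365629 : act 7 n158004 = n82421 := (sb E103154 (iv7 F270247))
theorem E103155 : n172100 = n158003 := (c15_4 (iv0 D158003) D158004 F365629 (iv2 F270249))
theorem F365630 : act 2 n158003 = n82421 := (sb E103155 F270249)
theorem F365631 : act 6 n158003 = n136265 := (sb E103155 F365622)
theorem F365632 : act 7 n158003 = n82420 := (sb E103155 (iv7 D172100))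
theorem F365633 : act 6 n172098 = n164110 := d12_2 F365624 D172098 (iv5 D164110) (iv6 F298322) D160811
theorem F365634 : act 5 n172107 = n158032 := d21_2 F248917 (iv1 F270256) F365578 F173534 (iv6 F346339) F346338 F300922 D160811 F365624 (iv1 F248919)
theorem F365635 : act 3 n172103 = n136269 := d6_3 (iv5 D136269) F365619 D172103
theorem F365636 : act 2 n134146 = n172224 := d2_1 F365618 (iv5 D172224) (iv2 F294209)
theorem F365637 : act 7 n134146 = n172220 := d13_2 (iv7 F294211) F365618 (iv5 D172220)
theorem F365638 : act 1 n126232 = n163648 := d15_1 D126232 (iv7 F328513) F202996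
theorem F365639 : act 5 n126232 = n176736 := d19_1 (iv1 F365638) (iv4 D176736) F129333 (iv1 F112882) (iv5 D75285) F54693 F28437 F21394 F21393 F9486 F5671 (iv1 F4109) D6116 D12904 D26965 D55904 (iv5 F250810) D78625 D163648
theorem F365640 : act 3 n126232 = n160996 := d20_5 F56470 D35815 D78625 D163648 (iv1 F365638) (iv4 F360299) (iv1 F360298) (iv4 F343686) F343685 (iv1 D78607)
theorem F365641 : act 4 n126232 = n160416 := d20_0 (iv1 D160416) (iv4 F119776) (iv3 D78604) (iv1 D35808) D35809 F56470 D35815 D78625 D163648 (iv1 F365638)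
theorem F365642 : act 2 n124297 = n111311 := d1_1 F328512 F172727 (iv2 F202996)
theorem F365643 : act 6 n124297 = n111309 := d10_2 D126226 F328512 F172719
theorem F365644 : act 5 n150688 = n98908 := d12_3 D46285 F328508 (iv6 F237238) (iv6 D98908) (iv5 D46284)
theorem F365645 : act 5 n99938 = n93060 := d21_8 F328508 (iv1 D71139) (iv5 F328065) (iv6 D46426) (iv1 F34696) D22507 D46852 F153869 (iv6 D93060) (iv1 F292684)
theorem F365646 : act 0 n98908 = n116260 := d17_2 F312925 F365644 (iv5 D116260) F84543 (iv5 F317422) (iv0 F191180) D48974 F312928 (iv4 F221508)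
theorem E103156 : n159567 = n129448 := ((c20_7 F40190 (iv1 F24513) D31518 F328468 (iv1 F96434) (iv3 F211240) F211241 (iv1 D159567) F165903 F165902 F78473)).symm
theorem F365647 : act 0 n129448 = n76340 := (sb E103156 (iv1 D159567))
theorem F365648 : act 2 n132417 = n159566 := d15_3 (iv0 D159566) (iv0 F365647) (iv7 F212488)
theorem F365649 : act 5 n128770 = n113235 := d21_6 F40209 (iv1 F39800) D52016 (iv6 F328467) D60562 D128770 (iv1 D113235) F82642 (iv6 D25436) D25434
theorem F365650 : act 0 n132417 = n159570 := d20_7 F45414 (iv1 F40242) (iv4 F82176) (iv3 F328465) D60568 D128790 (iv4 F212487) F251332 F176443 F82652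
theorem F365651 : act 0 n142607 = n117592 := d21_7 F328444 (iv1 D63971) D63972 (iv6 F218920) F328458 F320616 D142607 (iv5 D117592) (iv6 D54174) (iv1 F85402)
theorem F365652 : act 6 n129060 = n126176 := d14_5 F202903 F328359 F95101 D60674 D129060
theorem F365653 : act 0 n128622 = n113353 := d21_4 F46436 (iv1 F46346) D60493 D128622 F176550 (iv5 D52320) D52318 D113355 F328359 (iv1 F95098)
theorem F365654 : act 1 n129049 = n126176 := d15_1 D129049 F202903 F328357
theorem F365655 : act 5 n110467 = n129049 := d17_5 (iv1 F76528) F168341 (iv1 F176223) F176220 (iv4 F174040) F365654 (iv5 D126176) F95727 F82698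
theorem F365656 : act 4 n129058 = n129049 := d18_7 F95726 F45411 D48651 D105213 F332761 (iv4 F95270) D129058 F365654 (iv5 D126176)
theorem F365657 : act 3 n129058 = n125860 := d19_3 D110467 F365655 (iv4 F365656) F326458 (iv5 D84509) (iv4 D38978) (iv3 F60001) F297631 (iv5 D35154) D35153 F309145 (iv1 F38272) (iv5 F38104) F43122 (iv3 F30081) F297691 F325292 (iv4 F170871) F170870
theorem F365658 : act 5 n125852 = n129058 := d6_0 F365657 (iv5 D125860) (iv3 F202352)
theorem F365659 : act 0 n134256 = n122424 := d21_1 D134256 (iv5 F304694) (iv6 D123449) (iv1 D57501) F327941 (iv5 F327940) (iv1 F328338) (iv5 D29843) D29844 (iv1 F168309)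
theorem F365660 : act 0 n176122 = n90488 := d20_4 (iv4 F328301) (iv1 D84013) D84014 D176122 F139259 F74636 (iv1 D47435) (iv4 D22786) D22785 (iv1 F159816)
theorem E103157 : n152544 = n133457 := ((c21_1 D133457 (iv1 D152544) (iv5 F327479) F327480 (iv1 F112653) (iv6 F327859) (iv5 F328276) F328274 F214066 F97481 (iv1 F97706))).symm
theorem F365661 : act 0 n133457 = n71945 := (sb E103157 (iv1 D152544))
theorem E103158 : n152543 = n135722 := ((c15_4 (iv0 D152543) (iv0 F365661) F214616 (iv2 F218226))).symm
theorem F365662 : act 1 n135722 = n71945 := (sb E103158 (iv0 D152543))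
theorem F365663 : act 5 n184717 = n120432 := d21_2 D88084 (iv1 F287113) F191872 (iv1 F108927) D75027 (iv5 F306915) F328260 (iv5 F328265) (iv6 F302878) (iv1 F72317)
theorem F365664 : act 2 n120451 = n184717 := d2_3 F365663 F191870 (iv5 F191891)
theorem F365665 : act 7 n120431 = n184717 := d13_0 F365663 (iv7 D120432) D120431
theorem F365666 : act 1 n120451 = n98096 := d15_0 (iv0 F356770) F365665 (iv2 F365664)
theorem F365667 : act 3 n132204 = n148759 := d7_3 (iv6 D148759) F328247 (iv6 F211801)
theorem F365668 : act 7 n148759 = n132199 := d8_2 D132204 F365667 F211792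
theorem F365669 : act 4 n103314 = n120022 := d10_3 (iv6 D120022) F328222 D103314
theorem F365670 : act 3 n120015 = n103314 := d5_5 F365669 F189510 F87401 (iv3 F87397) (iv4 F189500)
theorem F365671 : act 1 n154540 = n103314 := d18_6 (iv1 F131197) F94754 F130785 D33708 D73242 D154540 F365669 F355177 (iv5 D60329)
theorem F365672 : act 0 n154537 = n178517 := d20_4 (iv4 F365669) (iv1 F365671) (iv4 D154540) (iv3 F242574) (iv3 D178517) D178518 F278191 (iv4 D119434) (iv3 F306330) (iv1 F355177)
theorem F365673 : act 3 n134252 = n92753 := d6_1 F328200 (iv5 D92753) D92752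
theorem F365674 : act 7 n134196 = n136910 := d4_2 F328195 F217101 (iv2 D136910)
theorem F365675 : act 1 n134196 = n136908 := d15_0 (iv0 D136908) F328195 F217101
theorem F365676 : act 5 n135213 = n136908 := d21_0 (iv1 F365675) (iv5 D134196) (iv6 F98775) F96651 (iv6 F81246) D111600 (iv1 F216312) (iv5 D134290) D134291 (iv1 F331027)
theorem F365677 : act 5 n136910 = n134033 := d13_1 F365674 F216011 D134196
theorem F365678 : act 1 n136909 = n134196 := d15_1 D136909 F365674 (iv2 D136910)
theorem E103159 : n136909 = n136844 := ((c19_20 (iv1 D136909) F328194 F203283 (iv3 F171557) (iv1 F203282) (iv5 F220366) F220365 (iv3 F220355) F328184 (iv5 D117607) (iv4 F320915) F180778 F318250 F316590 F84559 D107281 F171804 (iv5 F220038) (iv4 D136845) D136844)).symm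
theorem F365679 : act 0 n136844 = n64357 := (sb E103159 (iv1 D136909))
theorem F365680 : act 1 n136844 = n134196 := (sb E103159 F365678)
theorem F365681 : act 3 n101829 = n138260 := d6_3 (iv5 D138260) F328193 D101829
theorem F365682 : act 3 n101830 = n138261 := d7_3 (iv6 D138261) F328193 D101830
theorem F365683 : act 3 n166642 = n113409 := d8_1 F328097 (iv7 D113409) (iv3 F176591)
theorem E103160 : n173812 = n99291 := (c19_20 (iv1 F152884) F328066 F84364 F40948 (iv1 F48930) D31773 D68285 (iv3 F324264) F189184 (iv5 D118487) (iv4 F107082) F107081 F187387 F311667 (iv4 F128115) (iv3 D83109) (iv1 D38256) D38257 D83114 D173812)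
theorem F365684 : act 3 n99291 = n83114 := (sb E103160 (iv3 D173812))
theorem E103161 : n171126 = n99291 := (c0_6 F365684 (iv2 F310297) (iv3 D104126) (iv2 F307373) (iv3 F264017) D171126)
theorem F365685 : act 2 n99291 = n82018 := (sb E103161 (iv2 D171126))
theorem F365686 : act 7 n99291 = n82019 := (sb E103161 (iv7 F268861))
theorem F365687 : act 6 n117592 = n136820 := d12_4 F327987 (iv5 D54173) D54174 D117592 (iv5 D136820)
theorem F365688 : act 7 n135270 = n110748 := d13_2 F327973 D135270 (iv5 F177100)
theorem F365689 : act 3 n111871 = n186310 := d7_3 (iv6 D186310) F327946 D111871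
theorem F365690 : act 0 n164109 = n186310 := d20_4 F193186 F115929 (iv4 F298086) D164109 (iv3 F365689) F173741 F161390 D112527 (iv3 F348125) (iv1 F296608)
theorem E103162 : n131858 = n102635 := (c6_3 (iv5 F147810) F327931 (iv5 F211265) (iv3 D102635))
theorem F365691 : act 0 n102635 = n128899 := (sb E103162 (iv1 F211266))
theorem F365692 : act 1 n102635 = n128896 := (sb E103162 F211267)
theorem F365693 : act 5 n102635 = n61868 := (sb E103162 F211265)
theorem F365694 : act 7 n102635 = n61867 := (sb E103162 (iv7 D131858))
theorem F365695 : act 7 n166222 = n101987 := d8_2 F327922 D166222 (iv3 D101987)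
theorem F365696 : act 4 n99780 = n166222 := d11_3 F365695 F156951 (iv7 F153602)
theorem F365697 : act 2 n166222 = n126654 := d16_9 (iv4 F206745) (iv5 F339720) F332539 D103136 F317939 (iv5 F339821) (iv4 F264150) (iv5 F339823) (iv7 F365695)
theorem F365698 : act 6 n126652 = n166222 := d3_0 F365697 (iv6 D126654) D126652
theorem F365699 : act 5 n166222 = n158209 := d16_1 F365696 (iv4 F314727) (iv5 F339822) F227728 F318008 (iv4 F317173) (iv5 F339832) (iv7 F339829) (iv2 F339830)
theorem F365700 : act 7 n158209 = n167783 := d13_2 (iv7 F365695) F365699 (iv5 F339823)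
theorem F365701 : act 0 n174387 = n166222 := d17_2 F328939 (iv5 F273233) F365699 (iv4 F314727) (iv5 F339822) F243117 (iv5 F345657) F303090 (iv4 F328942)
theorem F365702 : act 0 n166222 = n172789 := d21_7 D38405 F59258 (iv5 D38022) D38023 (iv1 F155406) D158209 (iv5 F365699) (iv5 D172789) (iv6 D82730) (iv1 F58862)
theorem F365703 : act 0 n162652 = n104667 := d20_4 (iv4 D35626) D35624 D78132 D162652 (iv3 D104667) (iv4 F135293) (iv1 F135294) D95481 F327919 (iv1 D78141)
theorem F365704 : act 4 n135519 = n127344 := d10_1 F327882 (iv6 D127344) (iv4 F183733)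
theorem F365705 : act 7 n127344 = n115100 := d11_2 D135519 F365704 F179235
theorem F365706 : act 3 n135726 = n147973 := d6_3 F231798 F327881 (iv5 F218234)
theorem F365707 : act 3 n147976 = n152578 := d7_3 (iv6 F354440) F365706 (iv6 F356767)
theorem F365708 : act 3 n135073 = n181992 := d20_5 F327851 F202543 F79250 (iv3 F98812) D135073 (iv4 F287227) (iv1 D184751) (iv4 D88102) (iv3 F89554) D122303
theorem F365709 : act 7 n183451 = n135073 := d8_0 F365708 F310660 D183451
theorem F365710 : act 0 n128621 = n98619 := d20_4 (iv4 F173729) F92950 (iv4 F95090) (iv3 F206904) (iv3 D98619) (iv4 D46102) (iv1 D22019) D22020 D46107 (iv1 F327829)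
theorem F365711 : act 0 n151259 = n135588 := d21_4 F327778 (iv1 F178977) F178974 (iv6 F237977) (iv6 D135588) (iv5 D63756) D63753 D135582 F326368 (iv1 F327776)
theorem F365712 : act 6 n90506 = n180747 := d21_3 (iv5 F283776) (iv1 F283778) F139302 (iv1 D180747) F132314 (iv5 D39951) (iv1 F296720) D38798 D84173 (iv1 F327757)
theorem F365713 : act 3 n180747 = n129266 := d7_1 F365712 F352076 (iv3 F348576)
theorem F365714 : act 4 n180747 = n90572 := d10_1 F365712 (iv6 D90572) (iv4 F139300)
theorem F365715 : act 7 n176508 = n93864 := d4_2 F327753 D176508 (iv2 F145317)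
theorem F365716 : act 1 n93864 = n176506 := d15_0 (iv0 D176506) (iv7 F327753) F145317
theorem F365717 : act 1 n176507 = n93864 := d15_1 D176507 (iv7 F365715) (iv2 D176508)
theorem F365718 : act 5 n158117 = n112127 := d17_7 F81653 F81652 (iv1 D30118) (iv5 F39294) (iv4 F81325) D111793 F327735 F174549 F81776
theorem F365719 : act 2 n111858 = n158117 := d2_3 F365718 (iv2 F174534) (iv5 F174532)
theorem F365720 : act 6 n142365 = n158117 := d12_0 F365718 (iv6 D112127) D112126 F348113 (iv5 F225287)
theorem F365721 : act 7 n111857 = n158117 := d13_0 F365718 (iv7 F174536) (iv5 F174554)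
theorem F365722 : act 2 n111857 = n158118 := d15_3 (iv0 F327734) F327735 (iv7 F365721)
theorem F365723 : act 5 n158118 = n112226 := d2_2 (iv5 F174554) F365722 F174547
theorem F365724 : act 7 n158118 = n111858 := d4_2 (iv7 F365721) F365722 F365719
theorem F365725 : act 3 n180632 = n158118 := d6_3 F365723 F326794 D180632
theorem F365726 : act 3 n113909 = n135599 := d6_3 F218055 F327706 D113909
theorem F365727 : act 7 n135591 = n113909 := d8_0 F365726 (iv7 D135599) (iv3 F218050)
theorem F365728 : act 0 n114289 = n92926 := d20_7 (iv4 F138941) F69469 (iv4 F139603) F327703 (iv1 D52777) D52778 (iv4 F178147) F143291 F139618 (iv1 F138940)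
theorem F365729 : act 3 n137598 = n101833 := d8_3 (iv7 D101833) F327700 (iv7 F220758)
theorem F365730 : act 2 n138249 = n101736 := d3_3 (iv6 D101736) F327699 D138249
theorem F365731 : act 3 n99703 = n135240 := d0_4 (iv3 F221430) F365730 F156622 (iv2 F156700) F217424
theorem F365732 : act 0 n129861 = n182386 := d20_7 (iv4 F125358) (iv1 F132069) F132067 (iv3 F133877) (iv1 F327637) D135050 F217279 (iv4 D182386) F133696 (iv1 F70885)
theorem F365733 : act 0 n108975 = n163724 := d20_1 (iv4 F168978) (iv4 F281415) (iv3 D180787) (iv1 D86346) (iv3 D39969) (iv4 D18902) F27391 D34438 D75206 F327609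
theorem F365734 : act 4 n172220 = n130701 := d5_2 F171510 F327600 (iv3 D130701) (iv4 F202262) F202263
theorem F365735 : act 3 n146878 = n126870 := d20_5 (iv4 D68850) (iv1 D32025) D32026 D68854 D146878 F204111 (iv1 D64551) (iv4 F95320) (iv3 F207373) F327585
theorem F365736 : act 3 n130706 = n94055 := d8_1 F327570 (iv7 D94055) (iv3 F144890)
theorem F365737 : act 5 n94055 = n134498 := d6_2 (iv5 F209267) F365736 (iv3 D134498)
theorem F365738 : act 7 n137908 = n134875 := d14_2 F327509 D137908 (iv6 D134875) (iv7 F206956) (iv6 F216233)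
theorem F365739 : act 3 n134879 = n137908 := d8_3 F365738 F217059 D134879
theorem F365740 : act 2 n137735 = n128656 := d3_3 (iv6 F216233) F327507 D137735
theorem F365741 : act 7 n134873 = n137735 := d4_0 F365740 F206956 D134873
theorem F365742 : act 1 n143099 = n134873 := d15_1 F355779 F365741 F365740
theorem F365743 : act 1 n137735 = n134871 := d15_0 (iv0 D134871) (iv7 F206956) (iv2 F365740)
theorem E103163 : n137982 = n137980 := ((c21_10 F329190 D141252 F353577 (iv6 F361805) (iv1 F365743) (iv6 D137735) F100613 D109592 (iv5 F169575) D137980 (iv1 D137982))).symm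
theorem F365744 : act 0 n137980 = n64851 := (sb E103163 (iv1 D137982))
theorem F365745 : act 1 n137980 = n64868 := (sb E103163 F221238)
theorem E103164 : n138008 = n137981 := ((c15_2 F365745 F221237 (iv7 D138008) (iv2 F221236))).symm
theorem F365746 : act 2 n137981 = n64863 := (sb E103164 F355788)
theorem F365747 : act 7 n137981 = n64862 := (sb E103164 (iv7 D138008))
theorem F365748 : act 1 n134872 = n137735 := d15_1 D134872 (iv7 F365741) (iv2 D134873)
theorem F365749 : act 6 n137956 = n137337 := d10_2 F327471 (iv4 F221224) (iv4 D137337)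
theorem F365750 : act 0 n143475 = n135949 := d21_4 (iv5 D117612) (iv1 F85511) D67204 D143475 (iv6 D135949) (iv5 F100522) (iv1 F225846) (iv5 D137338) F327471 (iv1 F184216)
theorem F365751 : act 3 n109016 = n180798 := d6_3 (iv5 D180798) F327438 D109016
theorem F365752 : act 3 n180526 = n111421 := d8_3 (iv7 F172903) F365751 F281439
theorem F365753 : act 2 n180805 = n109010 := d0_3 F327422 F256584 D180805 (iv3 D109010) (iv2 F171887)
theorem F365754 : act 4 n170836 = n125837 := d20_0 (iv1 D125837) (iv4 F168544) F168543 D108644 F327422 (iv4 D86215) (iv1 F60826) (iv4 F132342) (iv3 F281396) (iv1 F281401)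
theorem F365755 : act 3 n169910 = n125837 := d20_5 (iv4 D21480) D21478 (iv4 F58170) D81503 D169910 (iv4 F365754) (iv1 D170836) (iv4 F148280) (iv3 D96342) (iv1 D44986)
theorem F365756 : act 2 n180448 = n111419 := d0_3 F327419 (iv2 F261316) D180448 (iv3 D111419) (iv2 F172609)
theorem F365757 : act 4 n170827 = n113267 := d20_0 (iv1 D113267) F82659 F81104 D51382 (iv3 F327418) (iv4 D86176) (iv1 F60688) (iv4 F112777) (iv3 F248776) (iv1 F268412)
theorem F365758 : act 6 n179610 = n170827 := d10_0 F365757 (iv6 F354372) (iv4 F364620)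
theorem F365759 : act 1 n158110 = n110325 := d15_0 (iv0 F220391) (iv7 F173706) F327415
theorem F365760 : act 5 n134144 = n182716 := d6_2 F327407 D134144 (iv3 D182716)
theorem F365761 : act 3 n176123 = n99017 := d20_3 (iv4 F270243) (iv1 F270245) (iv4 F275378) (iv1 D99017) F72975 F63027 (iv1 F64378) F64371 (iv3 F74628) (iv1 F327383)
theorem F365762 : act 5 n99017 = n176122 := d6_2 D176123 F365761 (iv3 D176122)
theorem F365763 : act 4 n95355 = n178085 := d20_6 F299349 (iv1 D56198) D56199 (iv3 F327381) (iv1 F70782) (iv3 F146988) (iv1 D178085) (iv4 F302359) F270228 (iv1 F126980)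
theorem F365764 : act 0 n109287 = n162818 := d20_10 (iv4 D162818) (iv1 D78266) (iv4 F119413) (iv3 D78217) D78215 (iv3 F327362) (iv4 D66174) (iv1 F161279) (iv4 F79810) (iv3 F169306)
theorem F365765 : act 6 n159884 = n173614 := d7_2 F327361 D159884 (iv3 D173614)
theorem F365766 : act 2 n175313 = n159884 := d3_3 F365765 F272072 D175313
theorem F365767 : act 1 n89032 = n135073 := d15_0 (iv0 D135073) (iv7 F327344) F301617
theorem F365768 : act 2 n183451 = n135074 := d15_3 F332667 F365767 (iv7 F365709)
theorem F365769 : act 6 n129103 = n113459 := d10_2 D113460 F327330 (iv4 D113459)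
theorem F365770 : act 0 n113548 = n131891 := d21_1 D113548 (iv5 D131891) (iv6 D61887) F327329 (iv6 D52376) (iv5 D25427) (iv1 D12088) D12090 D25436 D52404
theorem F365771 : act 0 n131981 = n113549 := d21_4 D113467 F327331 (iv5 D131980) D131981 (iv6 D113549) D113548 F365770 (iv5 D131891) (iv6 D61887) F327329
theorem F365772 : act 6 n132543 = n129649 := d10_0 F327301 (iv6 F177491) F325504
theorem F365773 : act 0 n92793 = n130781 := d21_4 F292142 (iv1 F292077) (iv5 F68256) D92793 (iv6 D130781) (iv5 F325735) F325731 F327292 (iv6 D41305) D41302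
theorem F365774 : act 6 n160417 = n111697 := d10_2 D113497 F327277 F173423
theorem F365775 : act 2 n157973 = n112608 := d3_3 F175206 F327245 D157973
theorem F365776 : act 7 n121783 = n112599 := d8_2 F327237 (iv3 F194363) (iv3 D112599)
theorem F365777 : act 5 n109337 = n160908 := d12_5 (iv6 D160908) F327204 (iv6 D50453) D50452 D109337
theorem F365778 : act 3 n160908 = n109348 := d6_1 F365777 (iv5 D109348) (iv3 F169353)
theorem F365779 : act 0 n160908 = n102219 := d21_7 (iv5 F137097) (iv1 F137099) F64403 D47390 (iv1 F344537) D109337 F365777 (iv5 D102219) (iv6 D47449) (iv1 F74634)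
theorem F365780 : act 1 n109337 = n101778 := d17_8 D101780 F157086 (iv1 D102232) (iv5 D47452) (iv4 F74640) D102219 (iv0 F365779) (iv5 F365777) F156643
theorem F365781 : act 4 n102219 = n103908 := d20_8 D95622 F147298 (iv4 D89847) D89846 F353186 F353203 (iv4 F254104) F365779 F159342 (iv1 F75587)
theorem F365782 : act 2 n185422 = n102233 := d16_9 (iv4 D102233) (iv5 D47452) (iv4 F74640) D102219 F365781 (iv5 D103908) (iv4 F134911) (iv5 F283682) (iv7 F287662)
theorem F365783 : act 5 n185421 = n102233 := d16_1 (iv4 F287653) (iv4 D102233) (iv5 D47452) (iv4 F74640) D102219 F365781 (iv5 D103908) (iv7 F76139) D104721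
theorem F365784 : act 4 n89466 = n185422 := d1_0 F365782 (iv4 D102233) (iv2 F137134)
theorem F365785 : act 6 n89465 = n185422 := d3_0 F365782 (iv6 F288534) F288533
theorem F365786 : act 3 n185424 = n89465 := d7_3 F365785 F287661 D185424
theorem F365787 : act 5 n93949 = n89465 := d12_5 F365785 (iv5 D185422) F293589 D96465 (iv6 F364703)
theorem F365788 : act 5 n185993 = n104357 := d2_2 F365787 (iv2 F288533) F159973
theorem F365789 : act 5 n104408 = n89473 := d9_8 F365787 (iv4 D89465) (iv5 D41773) F63697 D43257 (iv4 F291678) F142296 D104408 (iv4 D89473) (iv5 D41776) (iv4 F61803) F291227 F65912 D43913 D93949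
theorem F365790 : act 5 n185998 = n104360 := d13_3 F159983 F365787 (iv7 F288546)
theorem F365791 : act 5 n100186 = n90444 := d17_3 (iv1 F144772) F365787 (iv1 F154134) (iv4 D90444) (iv5 F291075) F291073 (iv5 F142989) (iv0 D92736) D92738
theorem F365792 : act 5 n88919 = n92738 := d17_1 F137143 (iv1 F144772) F365787 (iv4 D89465) (iv5 D41773) (iv0 D19651) D19653 D41779 D89479
theorem F365793 : act 5 n186015 = n104363 := d18_4 (iv1 F154134) (iv4 D100186) F135785 D186015 F159993 F142993 D92745 (iv0 F144771) F365787
theorem F365794 : act 5 n104409 = n89613 := d2_2 F365793 F160061 (iv2 F288592)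
theorem F365795 : act 3 n134249 = n186015 := d6_3 F365793 F349135 D134249
theorem F365796 : act 5 n186009 = n104362 := d9_8 F365793 F159993 F142995 F69120 F291257 D41351 D88603 D186009 F159988 F142989 F68957 F291177 D41353 D88606 D186015
theorem F365797 : act 5 n94057 = n89600 := d13_3 (iv7 F288593) F365793 F159992
theorem F365798 : act 3 n89600 = n170661 := d6_1 F365797 (iv5 F363086) F359592
theorem F365799 : act 1 n89600 = n104445 := d17_6 (iv1 F68176) (iv5 F68177) F135490 D43967 D94057 F365797 F160121 F143028 F139213
theorem F365800 : act 1 n104445 = n89613 := d15_1 F365799 (iv7 F288576) F288575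
theorem F365801 : act 6 n90450 = n123620 := d21_3 (iv5 F365796) F288577 F292380 (iv1 D123620) (iv6 F198025) (iv5 D123607) D123605 (iv5 F364202) (iv6 D104366) D104362
theorem F365802 : act 4 n123620 = n90543 := d10_1 F365801 (iv6 D90543) F139236
theorem F365803 : act 5 n92811 = n89476 := d17_5 (iv1 F75933) (iv5 D42317) F66787 (iv5 F68275) (iv4 F143164) F137142 F365792 (iv0 F160058) (iv4 D104408)
theorem E103165 : n160853 = n109368 := (c20_5 (iv4 D35751) F28264 D35237 D77192 D160853 (iv3 D109368) (iv4 D50466) (iv1 D24593) (iv4 F38602) (iv3 F79826) (iv1 F327201))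
theorem F365804 : act 0 n109368 = n163248 := (sb E103165 (iv1 F257540))
theorem F365805 : act 1 n109368 = n77192 := (sb E103165 (iv0 D160853))
theorem F365806 : act 3 n182863 = n185638 := d5_1 F327190 (iv4 D185638) F135419 (iv4 F119712) (iv3 F257693)
theorem F365807 : act 7 n185638 = n182860 := d8_2 D182863 F365806 F284406
theorem E103166 : n182860 = n97368 := (c11_1 F365807 (iv4 D97368) (iv7 F293050) D185638)
theorem F365808 : act 3 n97368 = n87293 := (sb E103166 F284406)
theorem F365809 : act 6 n97368 = n87292 := (sb E103166 (iv6 D182860))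
theorem F365810 : act 7 n97368 = n185638 := (sb E103166 (iv7 F365807))
theorem F365811 : act 6 n134834 = n140904 := d7_2 F327186 (iv3 F217000) (iv3 D140904)
theorem F365812 : act 6 n135581 = n105365 := d10_2 F327167 D135581 (iv4 D105365)
theorem F365813 : act 4 n114368 = n92923 := d20_6 (iv4 F139146) (iv1 F139147) D90736 F327161 (iv1 F94507) (iv3 F178378) (iv1 D92923) F68329 (iv3 D42464) D42462
theorem F365814 : act 0 n114527 = n90705 := d20_4 F83376 (iv1 F46034) (iv4 F83511) D114527 (iv3 D90705) (iv4 F139146) (iv1 F139147) D90736 F327161 (iv1 F94507)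
theorem F365815 : act 3 n92923 = n114291 := d5_1 F365813 F178150 F83347 (iv4 F83376) (iv3 F178378)
theorem F365816 : act 7 n92923 = n114289 := d11_2 D114368 F365813 F178147
theorem F365817 : act 2 n114289 = n92922 := d15_3 (iv0 D92922) D92923 F365816
theorem F365818 : act 4 n92922 = n114366 := d1_2 (iv4 F178147) F365817 (iv2 D114366)
theorem F365819 : act 6 n129108 = n113702 := d12_4 F327153 (iv5 D60694) D60695 D129108 (iv5 D113702)
theorem E103167 : n146944 = n132387 := (c3_3 F365819 F176922 D146944 F212417)
theorem F365820 : act 4 n132387 = n68883 := (sb E103167 F230339)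
theorem F365821 : act 6 n132387 = n68882 := (sb E103167 (iv6 D146944))
theorem F365822 : act 4 n146826 = n129108 := d10_3 F365819 F176924 D146826
theorem F365823 : act 0 n132563 = n146826 := d18_2 (iv1 D132562) D132563 F365822 (iv5 D129108) F95285 D60697 D129112 F212441 (iv5 F212782)
theorem F365824 : act 1 n132563 = n146948 := d15_1 (iv0 F365823) (iv7 D146948) (iv2 F230173)
theorem F365825 : act 6 n153545 = n136891 := d12_4 F217425 F327149 D99692 F321086 (iv5 F220067)
theorem F365826 : act 6 n138254 = n179936 := d3_2 F365825 (iv2 F221437) F280241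
theorem F365827 : act 3 n136818 = n93306 := d6_3 F295175 F327145 D136818
theorem F365828 : act 5 n136989 = n154067 := d6_2 F327140 (iv3 F220136) F242116
theorem F365829 : act 7 n154066 = n136989 := d13_0 F365828 (iv7 D154067) D154066
theorem F365830 : act 0 n136989 = n143463 := d21_7 (iv5 F114941) (iv1 F114942) D76672 D160099 F332406 (iv6 F242118) (iv5 F365828) (iv5 F361530) (iv6 D160108) (iv1 F115030)
theorem F365831 : act 3 n109917 = n163753 := d6_3 (iv5 D163753) F327091 D109917
theorem E103168 : n163422 = n125526 := (c20_5 (iv4 D40214) F30312 D35780 D78538 D163422 F201891 F92887 F164075 D50979 (iv3 F327059) (iv1 F296233))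
theorem F365832 : act 1 n125526 = n78538 := (sb E103168 (iv0 D163422))
theorem F365833 : act 4 n113590 = n163950 := d20_0 (iv1 D163950) (iv4 F146887) (iv3 D95268) F70011 F327058 (iv4 D50984) (iv1 F164084) (iv4 F40235) (iv3 F82774) D113590
theorem F365834 : act 4 n163246 = n113281 := d20_8 F161412 F164085 D50984 (iv3 F327058) (iv1 F70014) D95270 F146893 D163246 (iv3 D113281) F165637
theorem F365835 : act 3 n109264 = n163246 := d5_5 F365834 (iv3 D113281) (iv4 D52287) (iv3 F165636) D109264
theorem F365836 : act 6 n102813 = n163246 := d10_0 F365834 (iv6 F202080) (iv4 F364547)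
theorem F365837 : act 2 n163246 = n160854 := d3_1 F365836 F364554 (iv2 F364545)
theorem F365838 : act 7 n109368 = n163246 := d15_2 F257542 (iv0 F365804) F365837
theorem F365839 : act 7 n163247 = n160854 := d15_2 (iv0 D163246) D163247 (iv2 F365837)
theorem F365840 : act 2 n109368 = n163247 := d4_3 F365839 (iv2 F365837) (iv7 F365838)
theorem F365841 : act 0 n160810 = n137264 := d20_4 F325192 (iv1 F115919) D77164 D160810 F220405 F100441 (iv1 F81351) D111808 F327056 (iv1 F325190)
theorem F365842 : act 3 n154268 = n139931 := d20_5 D104137 F307370 (iv4 D73104) (iv3 F109601) D154268 F223161 F322231 (iv4 F322236) F327049 F306641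
theorem F365843 : act 6 n139929 = n154268 := d7_0 F365842 (iv6 D139931) D139929
theorem F365844 : act 0 n171064 = n174182 := d20_4 F299239 (iv1 F326995) (iv4 F325246) D171064 (iv3 D174182) (iv4 D83259) F118804 (iv4 F318101) (iv3 D123014) D123013
theorem F365845 : act 0 n111531 = n171064 := d20_4 (iv4 F173193) (iv1 F173195) F168696 D111531 (iv3 D171064) F325246 F326994 D77342 F326254 (iv1 F172716)
theorem F365846 : act 0 n108954 = n160389 := d20_4 (iv4 F169059) (iv1 F169062) F168959 D108954 (iv3 D160389) F326974 (iv1 F326977) (iv4 F297438) F326936 (iv1 F168527)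
theorem F365847 : act 6 n108918 = n160389 := d7_2 F326975 F170129 (iv3 D160389)
theorem F365848 : act 7 n160389 = n170853 := d14_2 (iv7 F170132) F365847 (iv6 D170853) (iv7 F327005) (iv6 D110217)
theorem F365849 : act 4 n176838 = n160389 := d11_3 F365848 F268461 D176838
theorem F365850 : act 4 n108954 = n109737 := d18_7 (iv1 F173625) (iv4 F202142) (iv1 F202145) (iv4 F173565) F354539 F365849 (iv0 F365846) (iv0 F220390) (iv5 D137251)
theorem F365851 : act 3 n109697 = n109737 := d20_5 (iv4 D82909) (iv1 D38148) D38149 F326424 (iv1 F169683) (iv4 F365850) F365846 (iv4 F365849) F276211 (iv1 F129380)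
theorem F365852 : act 5 n109735 = n109697 := d6_0 F365851 (iv5 D109737) D109735
theorem F365853 : act 7 n109737 = n109735 := d8_2 (iv7 F202530) F365851 (iv3 D109735)
theorem F365854 : act 2 n109735 = n109742 := d15_3 F221403 F220392 F365853
theorem F365855 : act 2 n110167 = n160390 := d2_3 (iv5 D160390) F326973 D110167
theorem F365856 : act 7 n160390 = n170855 := d4_2 F358860 F365855 (iv2 F358858)
theorem F365857 : act 3 n125988 = n124484 := d6_3 (iv5 D124484) F326937 D125988
theorem F365858 : act 4 n111419 = n158107 := d5_4 F326929 (iv3 D125579) F172610 D111419 (iv3 D158107)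
theorem F365859 : act 0 n111419 = n162162 := d20_7 (iv4 D34467) F27441 D16730 D34480 D75305 D158107 (iv4 F365858) F256258 (iv3 D78830) (iv1 F56550)
theorem F365860 : act 5 n174699 = n109905 := d17_3 (iv1 D83471) D83473 D174699 (iv4 F202927) F203877 F203874 F104288 F93033 F326926
theorem F365861 : act 1 n109525 = n174699 := d17_6 F161375 F80050 (iv1 D30297) (iv5 F38620) (iv4 F79904) D109525 F365860 (iv0 F246408) (iv4 D156669)
theorem F365862 : act 2 n174694 = n109573 := d2_3 (iv5 D109573) F326925 D174694
theorem F365863 : act 7 n109321 = n174694 := d4_0 F365862 (iv7 F174071) F174070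
theorem F365864 : act 5 n136694 = n135144 := d12_3 F326904 (iv5 D136693) D136694 (iv6 D135144) F217325
theorem F365865 : act 0 n134741 = n135144 := d21_1 F358535 (iv5 F365864) (iv6 D136694) (iv1 D64240) (iv6 D30260) (iv5 D14357) D14354 D30247 D64199 D136564
theorem F365866 : act 3 n120274 = n111945 := d8_3 F173942 F326833 F191510
theorem E103169 : n170746 = n155958 := ((c20_7 F58388 F31208 D35311 F326830 (iv1 F163208) (iv3 F168595) (iv4 F244991) (iv1 D170746) F125878 (iv3 D37509) D37507)).symm
theorem F365867 : act 0 n155958 = n81861 := (sb E103169 (iv1 D170746))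
theorem F365868 : act 3 n113323 = n124588 := d6_1 F326810 (iv5 D124588) D124587
theorem F365869 : act 0 n96139 = n134146 := d20_4 D46084 (iv1 F147800) (iv4 D96140) D96139 (iv3 D134146) F171517 (iv1 D61843) (iv4 F96400) (iv3 F326770) (iv1 D46083)
theorem F365870 : act 0 n101461 = n136926 := d21_4 (iv5 F365618) F294208 D172217 F270426 (iv6 D136926) F114701 (iv1 F99558) D136067 F361758 F365869
theorem F365871 : act 3 n109991 = n120266 := d6_3 (iv5 D120266) F326757 D109991
theorem F365872 : act 4 n111406 = n169908 := d20_0 (iv1 D169908) F125353 (iv3 D75204) (iv1 F60680) F326756 (iv4 D51391) (iv1 D24980) (iv4 F39194) (iv3 F81104) D111406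
theorem F365873 : act 6 n108772 = n111406 := d10_0 F365872 F343674 (iv4 F354465)
theorem E103170 : n163955 = n108788 := ((c20_4 F173936 (iv1 F164682) F169240 D108788 (iv1 D163955) (iv3 D78767) F56526 F44565 (iv4 F87617) F326755 D111943)).symm
theorem F365874 : act 0 n108788 = n78767 := (sb E103170 (iv1 D163955))
theorem E103171 : n163262 = n97051 := (c12_5 F326737 (iv5 D84218) F296592 D78466 D163262 (iv5 D97051))
theorem E103172 : n160910 = n95672 := (((F149718).symm.trans (sb E103171 F257570))).symm
theorem F365875 : act 4 n97051 = n163251 := (sb E103171 F257571)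
theorem F365876 : act 6 n97051 = n78466 := (sb E103171 (iv6 D163262))
theorem F365877 : act 4 n95672 = n160847 := (sb E103172 F254106)
theorem F365878 : act 6 n95672 = n77213 := (sb E103172 (iv6 D160910))
theorem F365879 : act 0 n166701 = n97049 := d21_4 (iv5 D77066) (iv1 F57232) D80008 D166701 F149715 (iv5 D45368) D45367 D97051 F365876 F119664
theorem F365880 : act 0 n102786 = n95489 := d20_4 F299333 F297217 (iv4 F74946) (iv3 F158042) (iv3 D95489) (iv4 D44607) D44605 D95484 F326716 (iv1 F127838)
theorem F365881 : act 0 n113647 = n104593 := d20_4 (iv4 F80441) F80443 (iv4 F82847) (iv3 F176826) (iv3 D104593) (iv4 D48372) (iv1 F70131) D95487 F326712 F326035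
theorem F365882 : act 3 n137731 = n134328 := d6_3 (iv5 F216337) F326703 D137731
theorem F365883 : act 3 n137251 = n174235 := d6_3 F273027 F326662 D137251
theorem E103173 : n174189 = n137261 := (c20_4 (iv4 D88650) (iv1 F298136) (iv4 F300620) D174189 (iv1 D137261) (iv3 D64513) (iv4 D30371) D30369 D64507 (iv3 F326662) F199078)
theorem F365884 : act 3 n137261 = n83262 := (sb E103173 (iv3 D174189))
theorem F365885 : act 7 n160810 = n137261 := d8_0 F365884 F300622 D160810
theorem F365886 : act 2 n160810 = n137260 := d15_3 (iv0 D137260) D137261 (iv7 F365885)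
theorem F365887 : act 0 n155086 = n112237 := d20_7 (iv4 D109237) F161338 (iv4 F82609) (iv3 F326654) (iv1 D82569) (iv3 F110305) D155086 (iv4 F175009) F175008 F169187
theorem F365888 : act 2 n153763 = n107091 := d0_3 (iv3 F202861) F326612 D153763 F165065 (iv2 F93295)
theorem F365889 : act 7 n107087 = n153763 := d4_0 F365888 (iv7 D107091) (iv2 F165063)
theorem F365890 : act 1 n153763 = n103621 := d15_0 F351316 D107091 (iv2 F365888)
theorem F365891 : act 1 n107089 = n153763 := d15_1 D107089 (iv7 F365889) F165063
theorem F365892 : act 0 n89194 = n132745 := d20_4 F136780 (iv1 D41672) D41673 D89194 (iv3 D132745) (iv4 D62302) (iv1 F100248) D58835 F326582 (iv1 F136778)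
theorem F365893 : act 1 n129003 = n132745 := d15_0 (iv0 F365892) F361252 (iv2 F207254)
theorem F365894 : act 7 n176048 = n114456 := d13_2 F326575 D176048 (iv5 D114456)
theorem F365895 : act 6 n133519 = n90570 := d10_2 F326572 (iv4 F319734) (iv4 F204209)
theorem F365896 : act 6 n158798 = n113742 := d14_5 (iv7 F204208) F326572 F113041 D75759 D158798
theorem F365897 : act 2 n137303 = n158798 := d3_3 F365896 (iv2 F176995) D137303
theorem F365898 : act 7 n158220 = n137303 := d4_0 F365897 (iv7 D158798) (iv2 F249249)
theorem F365899 : act 1 n137303 = n132344 := d15_0 F362641 D158798 (iv2 F365897)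
theorem F365900 : act 1 n158796 = n137303 := d15_0 F365899 (iv7 F362644) (iv2 F365187)
theorem F365901 : act 3 n129253 = n158220 := d8_3 F365898 F220456 (iv7 F327315)
theorem F365902 : act 3 n185864 = n115210 := d7_1 F326534 (iv6 D115210) D115207
theorem F365903 : act 7 n115210 = n185857 := d8_2 D185864 F365902 F288285
theorem F365904 : act 0 n90572 = n133536 := d21_4 F63679 F63350 (iv5 F65475) D90572 (iv6 D133536) (iv5 F319751) F128913 (iv5 F113537) (iv6 F326533) (iv1 F63678)
theorem F365905 : act 6 n110127 = n162617 := d3_2 F326517 (iv2 F170269) F302198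
theorem F365906 : act 6 n110173 = n178092 := d7_2 F326517 D110173 (iv3 D178092)
theorem F365907 : act 7 n112774 = n121743 := d11_2 F326508 D112774 (iv4 D121743)
theorem F365908 : act 0 n125608 = n124619 := d20_7 F41782 (iv1 D12982) D12983 D27104 (iv1 F326506) (iv3 F171216) (iv4 F202060) F199311 F92073 (iv1 F44795)
theorem F365909 : act 6 n125864 = n169918 := d3_2 F326462 D125864 (iv2 D169918)
theorem F365910 : act 6 n95280 = n125853 := d14_3 F326457 F296356 (iv7 F146926) (iv7 D125853) D125852
theorem F365911 : act 6 n112495 = n124283 := d3_2 F326435 D112495 (iv2 D124283)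
theorem F365912 : act 0 n158890 = n109755 := d20_4 F298022 F296593 (iv4 F113708) (iv3 F250180) (iv3 D109755) (iv4 D50621) (iv1 D24653) (iv4 F38650) (iv3 F79982) (iv1 F326417)
theorem F365913 : act 1 n136296 = n109755 := d15_0 (iv0 F365912) (iv7 F300938) (iv2 F354538)
theorem F365914 : act 3 n109900 = n160888 := d7_3 (iv6 D160888) F326402 (iv6 F169911)
theorem F365915 : act 5 n160888 = n109888 := d6_2 D109900 F365914 F169900
theorem F365916 : act 3 n111314 = n124282 := d20_3 (iv4 F215923) (iv1 F215926) (iv4 F173232) (iv1 D124282) (iv3 D57940) F325616 (iv1 F326399) D35571 F326021 (iv1 F172783)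
theorem F365917 : act 7 n124282 = n111583 := d8_2 (iv7 F202505) F365916 (iv3 D111583)
theorem F365918 : act 2 n111583 = n124281 := d15_3 (iv0 D124281) D124282 F365917
theorem F365919 : act 2 n124282 = n160441 := d15_3 (iv0 D160441) (iv0 F358384) (iv7 F365917)
theorem F365920 : act 7 n160441 = n124281 := d4_2 (iv7 F365917) F365919 (iv2 F365918)
theorem F365921 : act 6 n110224 = n162162 := d7_2 F326389 D110224 (iv3 D162162)
theorem F365922 : act 4 n164086 = n110224 := d10_3 F365921 F256258 D164086
theorem F365923 : act 2 n113904 = n135591 := d2_3 (iv5 D135591) F326358 D113904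
theorem F365924 : act 6 n106612 = n113994 := d7_2 D113996 F326355 (iv3 D113994)
theorem F365925 : act 2 n113994 = n132044 := d3_1 F365924 (iv6 D132044) (iv2 F218393)
theorem F365926 : act 5 n132909 = n113994 := d2_0 F365925 F347515 (iv2 F213506)
theorem F365927 : act 1 n132154 = n128955 := d15_1 (iv0 F365454) (iv7 F347516) (iv2 F365925)
theorem E103174 : n113995 = n106837 := (c6_3 F365926 (iv3 D113994) D113995 (iv3 F213507))
theorem F365928 : act 5 n106837 = n52613 := (sb E103174 (iv5 D113995))
theorem F365929 : act 6 n132128 = n106836 := d12_4 D106837 F365928 D113996 (iv5 F363064) (iv5 D106836)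
theorem F365930 : act 6 n106833 = n106618 := d3_2 F326348 F164638 F164223
theorem F365931 : act 7 n132542 = n129647 := d14_4 (iv7 F208436) F326346 (iv7 F208627) D132542 (iv6 D129647)
theorem F365932 : act 7 n132659 = n129830 := d4_2 F365931 (iv2 F212961) (iv2 F212762)
theorem F365933 : act 1 n132542 = n130502 := d15_0 (iv0 F347022) F365932 (iv2 F212762)
theorem F365934 : act 3 n99890 = n153713 := d7_3 (iv6 D153713) F326345 (iv6 F153794)
theorem F365935 : act 0 n113621 = n126528 := d21_4 D146876 F230264 (iv5 D113620) D113621 (iv6 D126528) F93634 (iv1 F48285) D62113 (iv6 F326343) F176907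
theorem F365936 : act 5 n132442 = n146943 := d6_2 (iv5 F176906) F326342 (iv3 D146943)
theorem F365937 : act 6 n94453 = n175980 := d21_5 (iv5 D42622) F291179 D20986 D44144 D94453 (iv5 D175980) D175978 F326299 (iv6 D88721) (iv1 F66456)
theorem E103175 : n130693 = n94453 := (c12_6 F365937 (iv5 D175980) (iv6 D83973) F316623 D61317 D130693)
theorem F365938 : act 3 n94453 = n61322 := (sb E103175 F209259)
theorem F365939 : act 5 n94453 = n61317 := (sb E103175 (iv5 D130693))
theorem F365940 : act 3 n130699 = n175980 := d7_3 (iv6 F365937) F365938 (iv6 F209264)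
theorem F365941 : act 7 n175980 = n113025 := d8_2 (iv7 F327120) F365940 F176077
theorem F365942 : act 5 n181879 = n183236 := d19_17 D94453 F365939 F95802 F46690 (iv1 F79875) (iv5 F321985) F28271 (iv3 F28270) (iv1 F296035) (iv5 D10833) (iv4 D4938) D4937 F15465 D19136 (iv4 F61356) D86871 D181879 F363173 F145628
theorem F365943 : act 3 n106545 = n130707 := d20_3 F80544 D106801 (iv4 F354467) (iv1 D130707) (iv3 F365938) (iv4 F354339) (iv1 F276117) (iv4 F293809) F171504 (iv1 D110786)
theorem F365944 : act 2 n106764 = n106545 := d0_5 F365943 (iv2 F327568) F144890 (iv2 F144654) F205519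
theorem F365945 : act 5 n134500 = n106545 := d6_0 F365943 F209268 D134500
theorem F365946 : act 7 n106546 = n106764 := d15_2 (iv0 D106545) D106546 F365944
theorem F365947 : act 7 n106765 = n106545 := d15_2 (iv0 D106764) D106765 (iv2 F365944)
theorem F365948 : act 2 n106546 = n106765 := d4_3 F365947 (iv2 F365944) (iv7 F365946)
theorem F365949 : act 3 n135763 = n106765 := d8_3 F365947 F365943 (iv7 F218306)
theorem F365950 : act 5 n135762 = n106765 := d13_3 F365947 (iv5 F365945) (iv7 F218304)
theorem F365951 : act 4 n106851 = n106765 := d19_2 F348401 F348402 (iv3 F365949) F218307 F209269 F95806 F46674 (iv1 F23428) (iv5 F23429) (iv4 F324959) D27068 (iv1 F44558) (iv5 D27638) (iv4 D13196) F13905 F30171 (iv5 F296067) (iv4 F296281) D160995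
theorem F365952 : act 2 n106802 = n106851 := d1_3 F365951 (iv2 F365948) F362862
theorem F365953 : act 7 n106801 = n106851 := d11_0 F365951 F365947 F354467
theorem E103176 : n132118 = n97389 := (c20_5 F365951 (iv1 D106765) F78008 (iv3 F96574) D132118 (iv3 D97389) F294089 (iv1 F293897) D97412 (iv3 F341804) (iv1 F164649))
theorem F365954 : act 1 n97389 = n61986 := (sb E103176 (iv0 D132118))
theorem F365955 : act 2 n106801 = n106850 := d15_3 (iv0 D106850) D106851 (iv7 F365953)
theorem F365956 : act 4 n106850 = n106764 := d1_2 F354467 F365955 F365944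
theorem F365957 : act 7 n106850 = n106802 := d4_2 (iv7 F365953) F365955 F365952
theorem F365958 : act 4 n177013 = n108938 := d20_0 (iv1 D108938) (iv4 F168920) F168919 F164019 (iv3 F326255) (iv4 D84365) (iv1 D38904) D38905 D84369 D177013
theorem F365959 : act 3 n161962 = n109070 := d6_3 (iv5 F169075) F326229 D161962
theorem E103177 : n161890 = n152796 := (c10_2 F326220 D161890 (iv6 D152796) (iv4 F189404))
theorem F365960 : act 1 n152796 = n115359 := (sb E103177 (iv0 F362018))
theorem F365961 : act 4 n152796 = n77748 := (sb E103177 (iv4 D161890))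
theorem F365962 : act 3 n181222 = n110501 := d6_3 (iv5 D110501) F326208 D181222
theorem F365963 : act 6 n110278 = n123339 := d14_3 (iv7 F115526) F326167 (iv7 F173293) (iv7 D123339) F90621
theorem F365964 : act 0 n109050 = n158000 := d20_4 F202180 F202179 F163185 (iv3 F169051) (iv3 D158000) (iv4 D75263) F296941 (iv4 F122808) F326158 (iv1 F174260)
theorem F365965 : act 0 n111478 = n178094 := d20_4 F101700 F172993 (iv4 D111479) D111478 (iv3 D178094) (iv4 F129978) F326125 (iv4 F325636) F325635 F101701
theorem F365966 : act 1 n123480 = n110127 := d18_6 (iv1 F81434) D109378 F326103 F129981 F297628 (iv4 F197892) (iv4 D110127) (iv0 F170941) (iv5 F81430)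
theorem F365967 : act 3 n112840 = n177347 := d6_3 (iv5 D177347) F326097 D112840
theorem F365968 : act 7 n177347 = n181222 := d8_2 (iv7 F175706) F365967 F365962
theorem F365969 : act 2 n181222 = n180023 := d4_1 F365968 F280405 (iv2 F276733)
theorem F365970 : act 7 n132691 = n129877 := d11_2 F326064 (iv4 F213019) F208221
theorem F365971 : act 7 n132581 = n129690 := d4_2 F365970 (iv2 F212810) (iv2 F213018)
theorem F365972 : act 4 n108937 = n177014 := d20_0 (iv1 D177014) (iv4 F198849) (iv3 D124333) F119112 F326044 (iv4 D50311) (iv1 D24536) (iv4 F38516) (iv3 F79672) D108937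
theorem F365973 : act 3 n160392 = n108635 := d20_5 F323081 F297545 D35133 D76889 D160392 F168518 (iv1 F79484) D50311 (iv3 F326044) F324503
theorem F365974 : act 6 n109004 = n160392 := d7_0 F365973 F168519 (iv3 F169008)
theorem F365975 : act 7 n108630 = n160392 := d8_0 F365973 (iv7 D108635) (iv3 F168512)
theorem F365976 : act 2 n108630 = n160393 := d15_3 F351616 F351615 (iv7 F365975)
theorem F365977 : act 3 n160393 = n108932 := d0_2 (iv3 F168512) F365976 F168942 F79672 (iv2 F79477)
theorem F365978 : act 6 n160393 = n108628 := d3_2 D108630 F365976 (iv2 D108628)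
theorem F365979 : act 3 n177014 = n126216 := d20_9 (iv4 F343937) (iv1 F343936) (iv4 F332907) (iv3 F332904) (iv1 D108910) (iv3 F168919) F168920 D108937 F365972 (iv1 F202987)
theorem F365980 : act 5 n126211 = n177014 := d6_0 F365979 F202986 (iv3 F202971)
theorem F365981 : act 7 n126210 = n177014 := d8_0 F365979 (iv7 D126216) (iv3 F202970)
theorem F365982 : act 2 n126210 = n177013 := d15_3 (iv0 D177013) D177014 (iv7 F365981)
theorem F365983 : act 5 n177013 = n126201 := d2_2 D126210 F365982 F202954
theorem F365984 : act 6 n113311 = n177016 := d21_5 (iv5 F204837) (iv1 D113308) (iv5 D52302) D52303 D113311 (iv5 D177016) D177013 F365983 (iv6 D126201) (iv1 F93356)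
theorem F365985 : act 3 n177021 = n113311 := d7_3 F365984 F276421 D177021
theorem F365986 : act 0 n177021 = n181689 := d20_4 (iv4 D176504) D176502 F354043 (iv3 F365985) (iv3 D181689) (iv4 D86716) (iv1 F296823) D79541 D165604 F348161
theorem F365987 : act 7 n109576 = n174701 := d11_2 F326041 D109576 (iv4 D174701)
theorem F365988 : act 1 n174698 = n109574 := d15_0 (iv0 D109574) (iv7 F326041) (iv2 F273548)
theorem E103178 : n174661 = n137272 := ((c20_4 (iv4 F93029) F93031 (iv4 F100446) (iv3 F220414) (iv1 D174661) (iv3 D83461) (iv4 D38478) (iv1 D18339) D18340 D38482 (iv1 F326039))).symm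
theorem F365989 : act 0 n137272 = n83461 := (sb E103178 (iv1 D174661))
theorem F365990 : act 5 n112258 = n183235 := d21_2 F325912 (iv1 F326023) (iv6 D183235) (iv1 D87467) (iv6 D40694) D40693 F106447 F106446 D87850 (iv1 F289682)
theorem F365991 : act 6 n183234 = n111857 := d12_4 D112258 F365990 (iv6 D183235) D183234 F174554
theorem F365992 : act 0 n183235 = n111966 := d17_2 (iv1 F326023) F365990 (iv5 D111966) F81521 (iv5 F40787) D53199 (iv5 F84035) (iv0 F161374) (iv4 F325048)
theorem F365993 : act 1 n183235 = n112031 := d17_6 (iv1 F93047) (iv5 F182860) F223589 F223590 F202260 F365990 F174134 (iv0 F171262) (iv4 D110659)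
theorem F365994 : act 6 n129151 = n129853 := d21_5 (iv5 F207388) (iv1 D129148) (iv5 D60714) D60715 D129151 F208204 (iv1 F203350) (iv5 F207400) F326007 (iv1 F97066)
theorem F365995 : act 4 n112609 = n129151 := d10_3 F365994 (iv4 F345861) F359612
theorem F365996 : act 6 n97473 = n176660 := d12_4 (iv6 D84228) F325914 F294697 (iv5 F294696) (iv5 D176660)
theorem F365997 : act 0 n162635 = n104761 := d20_4 F127825 (iv1 F297222) D78108 D162635 (iv3 D104761) (iv4 D48439) (iv1 F70656) (iv4 F325903) (iv3 D82949) D82947
theorem F365998 : act 6 n109424 = n173833 := d7_2 F325901 D109424 (iv3 D173833)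
theorem F365999 : act 6 n109444 = n173319 := d7_2 F325899 D109444 (iv3 D173319)
theorem F366000 : act 2 n124606 = n113319 := d0_3 F325865 F125701 D124606 (iv3 D113319) (iv2 F82683)
theorem F366001 : act 0 n124326 = n160275 := d17_2 F119077 D124326 (iv5 D160275) (iv4 F115323) F325839 (iv0 F325818) (iv5 D77783) (iv0 F118766) F60896
theorem F366002 : act 1 n124326 = n160277 := d15_1 (iv0 F366001) F253137 (iv2 F253130)
theorem F366003 : act 2 n136303 = n103179 := d2_1 F325807 (iv5 D103179) (iv2 F325805)
theorem F366004 : act 6 n103179 = n136299 := d3_2 D136303 F366003 F219357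
theorem F366005 : act 3 n130781 = n148729 := d7_3 (iv6 D148729) F325730 D130781
theorem F366006 : act 5 n163435 = n125879 := d12_5 (iv6 D125879) F325719 (iv6 D78544) D78543 D163435
theorem F366007 : act 3 n146690 = n112774 := d5_5 (iv4 D112774) F325705 F314935 (iv3 F104952) D146690
theorem F366008 : act 3 n121750 = n112768 := d7_3 F175570 F325705 D121750
theorem F366009 : act 5 n125868 = n169921 := d12_3 F325642 D58940 D125868 (iv6 D169921) (iv5 D81507)
theorem F366010 : act 5 n111713 = n180509 := d16_1 D111713 (iv4 D180509) (iv5 D86202) F60709 F30118 (iv4 F60687) (iv5 F325634) F172848 F172849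
theorem F366011 : act 4 n109444 = n180431 := d20_8 (iv4 D50822) F169598 (iv4 F49346) (iv3 D30888) D30887 D66016 (iv4 F174005) F174007 (iv3 D180431) F325625
theorem F366012 : act 7 n112453 = n110152 := d11_0 F325620 (iv7 F323982) (iv4 F174941)
theorem F366013 : act 2 n112453 = n180163 := d15_3 F362616 (iv0 F362593) (iv7 F366012)
theorem F366014 : act 2 n180509 = n109140 := d1_3 (iv4 D109140) F325591 D180509
theorem F366015 : act 6 n145455 = n96335 := d7_2 F325567 D145455 (iv3 D96335)
theorem F366016 : act 7 n126393 = n185561 := d13_2 F325532 D126393 (iv5 D185561)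
theorem F366017 : act 2 n180038 = n126393 := d4_3 F366016 (iv2 F325538) (iv7 F360444)
theorem F366018 : act 5 n132169 = n132023 := d21_6 D49260 (iv1 F96425) (iv5 D61854) D61855 (iv1 F211206) (iv6 F211708) (iv1 D132023) (iv5 F325499) (iv6 D49370) (iv1 F37733)
theorem F366019 : act 1 n132023 = n128825 := d17_6 (iv1 F47018) F46359 (iv1 F47019) D62005 D132169 F366018 (iv5 D128825) (iv0 F102060) (iv4 D62000)
theorem F366020 : act 5 n136342 = n151237 := d16_5 (iv4 F325498) (iv5 D49367) (iv4 F48594) D64099 D136342 F237970 F107776 D106694 F164407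
theorem F366021 : act 3 n124014 = n136342 := d6_3 F366020 F360003 F345425
theorem F366022 : act 6 n136342 = n124013 := d7_2 D124014 F366021 (iv3 D124013)
theorem F366023 : act 4 n124013 = n136339 := d10_1 F366022 F219423 D136342
theorem F366024 : act 2 n136342 = n124013 := d1_3 F366023 F219421 D136342
theorem F366025 : act 3 n100639 = n151224 := d20_5 (iv4 F139624) (iv1 D90716) F294350 (iv3 F74158) D100639 (iv4 D151224) (iv1 D71275) F325484 F74098 F293355
theorem E103179 : n113622 = n61434 := (c21_5 F50400 (iv1 D25455) D25457 D52456 D113622 (iv6 D61434) (iv5 D29080) D29077 D61424 (iv6 F325469) F82881)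
theorem E103180 : n130943 = n52456 := ((D130943).symm.trans (sb E103179 (iv0 D113622)))
theorem F366026 : act 0 n52456 = n61434 := (sb E103180 (iv1 D130943))
theorem E103181 : n135720 = n113623 := (((D113623).symm.trans (sb E103180 F218222))).symm
theorem F366027 : act 1 n113623 = n130942 := (sb E103181 F218223)
theorem F366028 : act 2 n113623 = n130945 := (sb E103181 F218218)
theorem F366029 : act 4 n113623 = n129158 := (sb E103181 F218219)
theorem F366030 : act 6 n113623 = n135523 := (sb E103181 F218220)
theorem F366031 : act 7 n113623 = n63813 := (sb E103181 (iv7 D135720))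
theorem F366032 : act 7 n130942 = n113612 := d15_2 D113623 F366027 F176786
theorem F366033 : act 2 n113625 = n130942 := d4_3 F366032 F176786 D113625
theorem F366034 : act 3 n97054 = n144100 := d19_15 F98343 (iv5 F163795) F163794 F325463 (iv1 F68183) (iv5 F65313) (iv4 F67713) F67712 F69723 (iv5 F290859) (iv4 F63473) D45345 F71457 D45368 D97054 (iv1 D144100) (iv5 D67516) F49637 (iv3 F49636)
theorem F366035 : act 4 n144100 = n97082 := d5_2 D97054 F366034 (iv3 D97082) (iv4 D45380) (iv3 F71523)
theorem F366036 : act 1 n160317 = n161958 := d18_6 F115344 F57382 D36535 F115332 D76834 D160317 (iv4 D161958) (iv0 F325435) F325437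
theorem F366037 : act 3 n146494 = n157731 := d7_3 (iv6 D157731) F325419 D146494
theorem F366038 : act 4 n156042 = n174514 := d19_10 D79563 (iv5 F325405) (iv4 F190304) F190303 (iv1 F85989) (iv5 F86004) (iv4 F185778) (iv3 F319577) F167091 D156042 (iv3 D174514) (iv1 F128518) (iv5 D38426) F298126 F28205 F298124 D8228 D17500 D36235
theorem F366039 : act 3 n183404 = n132676 := d19_15 D14013 F23365 (iv4 F325392) F28510 (iv1 F27352) (iv5 D16691) F12249 F5940 F16883 (iv5 F293894) (iv4 F14117) (iv3 F30889) D40751 D87550 D183404 (iv1 D132676) (iv5 D62259) F47235 F23357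
theorem F366040 : act 0 n129172 = n96481 := d20_10 (iv4 D96481) (iv1 F295068) D183404 F366039 (iv1 D132676) (iv3 F326010) F203357 (iv1 F93615) D60726 D129172
theorem F366041 : act 6 n186199 = n113052 := d12_0 F325372 F324169 D114080 F292582 D186199
theorem F366042 : act 3 n142098 = n128518 := d0_2 D127786 F325369 (iv2 F290533) (iv3 D114322) (iv2 F161681)
theorem E103182 : n164429 = n142097 := (c6_3 D142098 F366042 (iv5 F259075) (iv3 D142097))
theorem F366043 : act 5 n142097 = n128518 := (sb E103182 F259075)
theorem F366044 : act 7 n142097 = n78970 := (sb E103182 (iv7 D164429))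
theorem F366045 : act 3 n115086 = n140847 := d8_3 (iv7 F225136) F366042 F206697
theorem F366046 : act 7 n164426 = n127486 := d11_2 F366044 (iv4 F259074) (iv4 F225134)
theorem F366047 : act 2 n164426 = n127485 := d15_3 (iv0 D127485) D127486 (iv7 F366046)
theorem F366048 : act 4 n127485 = n114151 := d1_2 (iv4 F259074) F366047 F290510
theorem F366049 : act 6 n127485 = n96966 := d3_2 D164426 F366047 (iv2 F178260)
theorem F366050 : act 3 n127208 = n142671 := d20_5 F161863 (iv1 D78951) (iv4 F83210) F325367 (iv1 F204489) (iv4 D142671) F208260 D67099 (iv3 F324995) (iv1 F161861)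
theorem F366051 : act 7 n145924 = n186407 := d14_4 F136167 F325365 (iv7 F104608) D145924 (iv6 D186407)
theorem F366052 : act 3 n186411 = n145924 := d8_3 F366051 F289185 D186411
theorem F366053 : act 1 n94045 = n186407 := d15_1 (iv0 F339783) (iv7 F366051) F229126
theorem F366054 : act 7 n130686 = n113739 := d4_2 F325311 (iv2 F209256) F176982
theorem F366055 : act 1 n113739 = n130691 := d15_0 (iv0 D130691) (iv7 F325311) (iv2 F176982)
theorem F366056 : act 4 n113739 = n130811 := d11_1 F366054 (iv7 D130811) (iv4 F209257)
theorem F366057 : act 1 n130692 = n113739 := d15_1 D130692 (iv7 F366054) F209256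
theorem F366058 : act 4 n165939 = n130692 := d18_5 F330894 (iv4 F341827) (iv1 F198745) (iv4 F198742) D165939 F366057 F366056 F209368 (iv5 F330889)
theorem E103183 : n123318 = n108863 := (c14_5 (iv7 F175549) F325298 (iv7 F260928) F302254 (iv7 F197621) (iv6 D108863))
theorem F366059 : act 3 n108863 = n57422 := (sb E103183 (iv3 D123318))
theorem F366060 : act 4 n108863 = n58085 := (sb E103183 F197620)
theorem F366061 : act 7 n108863 = n84561 := (sb E103183 F197621)
theorem F366062 : act 5 n124246 = n109160 := d6_2 F325167 (iv3 F198749) (iv3 D109160)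
theorem F366063 : act 2 n132587 = n126525 := d0_3 F325151 F207724 D132587 F203445 (iv2 F93740)
theorem F366064 : act 3 n129869 = n105495 := d6_3 F161949 F325151 D129869
theorem F366065 : act 6 n105493 = n129869 := d7_0 F366064 (iv6 D105495) (iv3 F161942)
theorem F366066 : act 6 n126506 = n132587 := d3_0 F366063 (iv6 D126525) F203410
theorem F366067 : act 0 n133467 = n130935 := d21_4 (iv5 F315828) D83920 (iv5 F318967) D133467 (iv6 D130935) D130934 (iv1 F209552) F98856 (iv6 F325150) (iv1 D61059)
theorem F366068 : act 4 n158744 = n133467 := d20_6 (iv4 D92790) D92789 (iv4 F176994) (iv3 F204186) F226676 F361872 F366067 F209554 (iv3 F97762) F324785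
theorem F366069 : act 1 n133467 = n130941 := d15_1 (iv0 F366067) (iv7 D130941) (iv2 F209553)
theorem F366070 : act 5 n129350 = n112599 := d6_2 F325146 D129350 (iv3 D112599)
theorem F366071 : act 0 n144979 = n147889 := d20_1 (iv4 F227945) (iv4 D147889) (iv3 D69289) (iv1 D32209) F24814 (iv4 F20476) D26015 (iv4 F114314) D105853 F325095
theorem F366072 : act 1 n117112 = n147889 := d15_0 (iv0 F366071) (iv7 D144979) (iv2 F183171)
theorem E103184 : n142608 = n141477 := ((c20_6 (iv4 D32033) (iv1 D15113) D15114 (iv3 F49416) D66375 D141477 F225463 (iv1 F225373) F325092 (iv3 D146893) (iv1 F105052))).symm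
theorem F366073 : act 4 n141477 = n66842 := (sb E103184 F225463)
theorem F366074 : act 6 n141477 = n73846 := (sb E103184 F318114)
theorem F366075 : act 7 n141477 = n66841 := (sb E103184 (iv7 D142608))
theorem E103185 : n155374 = n141480 := (c7_2 F366074 D155374 (iv6 D141480) D141477)
theorem F366076 : act 1 n141480 = n76673 := (sb E103185 F317627)
theorem F366077 : act 3 n141480 = n73846 := (sb E103185 (iv3 D155374))
theorem F366078 : act 4 n141480 = n73848 := (sb E103185 F244347)
theorem F366079 : act 2 n119612 = n137017 := d4_3 F220151 F325052 (iv7 F188650)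
theorem F366080 : act 1 n152345 = n137017 := d15_1 D152345 F220151 F325052
theorem F366081 : act 1 n137017 = n152344 := d15_0 (iv0 D152344) (iv7 F188650) F366079
theorem F366082 : act 6 n116397 = n156780 := d3_2 F325038 (iv2 F181511) F246689
theorem F366083 : act 6 n161987 = n177700 := d14_1 F325017 F313877 (iv6 D85317) (iv7 F92300) D125006
theorem E103186 : n184088 = n184065 := (c19_5 (iv1 F325007) F294999 (iv4 D87810) D87809 D184088 (iv5 D184065) D184064 F286011 (iv1 D103612) F322866 (iv4 D54884) (iv3 F50995) (iv1 F52146) (iv5 F54469) (iv4 F54547) F54546 F52858 (iv5 D33560) D33559 D72731)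
theorem F366084 : act 1 n184065 = n87809 := (sb E103186 (iv0 D184088))
theorem F366085 : act 0 n103834 = n151154 := d20_4 (iv4 D96211) F294333 F293311 D103834 (iv3 D151154) (iv4 D71236) (iv1 F52140) D33559 D72731 (iv1 F325007)
theorem E103187 : n107297 = n107006 := ((c21_5 F294999 (iv1 F135029) (iv5 F292255) F295631 D107006 (iv6 D107297) (iv5 F172098) (iv1 F78317) (iv5 F80715) (iv6 F323711) (iv1 F325007))).symm
theorem F366086 : act 2 n107006 = n111021 := (sb E103187 (iv2 F172178))
theorem F366087 : act 6 n107006 = n49576 := (sb E103187 (iv6 D107297))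
theorem F366088 : act 6 n107295 = n103880 := d10_2 F366087 D107295 F357666
theorem F366089 : act 7 n107007 = n111021 := d15_2 (iv0 D107006) D107007 (iv2 F366086)
theorem F366090 : act 7 n146024 = n95917 := d13_2 F325001 D146024 F147574
theorem F366091 : act 2 n146024 = n95918 := d15_3 F147575 F147578 (iv7 F366090)
theorem F366092 : act 6 n125019 = n116246 := d14_3 F324988 F313851 (iv7 F200834) F181195 D141177
theorem F366093 : act 4 n96662 = n175028 := d18_1 F313665 (iv1 D175028) (iv4 F322782) (iv5 F211145) (iv4 F240657) F240662 F324909 (iv0 F323805) F315784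
theorem F366094 : act 6 n175028 = n147517 := d10_2 (iv6 F308542) F366093 F231302
theorem F366095 : act 7 n175028 = n151164 := d11_2 (iv7 F308543) F366093 F237855
theorem F366096 : act 5 n175028 = n95819 := d16_1 F366093 (iv4 D95819) (iv5 D44744) (iv4 F58240) F313013 F112393 D74882 (iv7 F321227) F321225
theorem E103188 : n175027 = n128385 := ((c15_4 (iv0 D175027) D175028 F366095 F237854)).symm
theorem F366097 : act 1 n128385 = n83588 := (sb E103188 (iv0 D175027))
theorem F366098 : act 6 n145491 = n108196 := d10_2 F324906 D145491 F167306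
theorem F366099 : act 2 n108198 = n145491 := d3_3 F366098 (iv2 D108196) D108198
theorem E103189 : n145491 = n145362 := ((c21_5 (iv5 F37961) D49657 F166889 D68156 D145362 F366098 (iv5 F167310) D129031 (iv5 F208893) F320212 (iv1 D49569))).symm
theorem F366100 : act 2 n145362 = n108198 := (sb E103189 (iv2 F366099))
theorem F366101 : act 4 n145362 = n68223 := (sb E103189 (iv4 D145491))
theorem F366102 : act 6 n145362 = n108196 := (sb E103189 F366098)
theorem F366103 : act 0 n139901 = n145361 := d20_10 F228407 D145362 F366101 (iv3 F324905) (iv1 F340946) (iv3 F322119) (iv4 F322572) F322570 F320867 D139901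
theorem F366104 : act 5 n139901 = n130844 := d18_9 (iv1 F215337) F315267 D177127 (iv4 F350137) (iv5 D145492) (iv4 F366101) (iv0 D145362) (iv4 F228407) (iv0 F366103)
theorem F366105 : act 6 n120097 = n139901 := d12_0 F366104 F310915 (iv5 D86613) D86614 F308733
theorem F366106 : act 7 n125182 = n139901 := d13_0 F366104 F304902 (iv5 F304901)
theorem F366107 : act 0 n156540 = n139901 := d21_10 F366104 (iv1 F215337) F98000 (iv6 D60355) (iv1 F94285) (iv6 F204795) (iv5 D127417) D127415 (iv5 F341052) (iv6 F363150)
theorem E103190 : n145363 = n139786 := (c15_2 (iv0 D145362) D145363 F222970 (iv2 F366100))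
theorem F366108 : act 0 n139786 = n68156 := (sb E103190 (iv1 D145363))
theorem F366109 : act 4 n145360 = n156087 := d20_6 F165761 (iv1 F78394) D67709 (iv3 F222969) F366108 (iv3 F228404) (iv1 D156087) (iv4 F228332) (iv3 D145302) (iv1 F165764)
theorem F366110 : act 0 n178656 = n156102 := d20_1 F316712 F245273 (iv3 D74447) (iv1 F53619) D65619 D139786 F366108 (iv4 F228407) F228406 F349481
theorem F366111 : act 6 n156087 = n107047 := d10_2 D145360 F366109 (iv4 F164989)
theorem F366112 : act 2 n115397 = n156087 := d3_3 F366111 F180675 D115397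
theorem F366113 : act 5 n119853 = n148659 := d6_2 D148660 F324822 (iv3 D148659)
theorem F366114 : act 6 n148659 = n119856 := d12_2 D119853 F366113 (iv5 D119856) (iv6 D55161) D55160
theorem F366115 : act 7 n175647 = n90449 := d13_2 F324795 D175647 F139211
theorem F366116 : act 7 n164469 = n106147 := d13_2 F324741 D164469 (iv5 D106147)
theorem F366117 : act 2 n164472 = n106147 := d2_3 (iv5 D106147) F324740 D164472
theorem F366118 : act 2 n164469 = n106142 := d4_3 (iv7 F362427) F366117 (iv7 F366116)
theorem F366119 : act 0 n185857 = n135269 := d20_4 (iv4 F176880) F288290 F288289 (iv3 F288285) (iv3 D135269) (iv4 D63582) (iv1 D30020) (iv4 F48231) (iv3 F97232) (iv1 F324729)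
theorem F366120 : act 0 n127973 = n139161 := d21_1 D127973 (iv5 D139161) (iv6 D65312) (iv1 F101027) (iv6 F324697) D67049 (iv1 F221271) F221270 F319248 F114973
theorem E103191 : n155887 = n126758 := (c18_3 (iv1 D74148) (iv4 F110862) D155887 (iv4 D126758) (iv5 D59471) F45727 F101929 D53872 F111241 F324694)
theorem F366121 : act 1 n126758 = n74141 := (sb E103191 (iv0 D155887))
theorem F366122 : act 6 n105299 = n132788 := d21_3 (iv5 D52483) (iv1 F76611) D105299 (iv1 D132788) (iv6 D62321) D62320 (iv1 F209530) F209528 (iv6 F324653) F82859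
theorem F366123 : act 2 n132788 = n105301 := d3_1 F366122 (iv6 D105301) (iv2 F161448)
theorem F366124 : act 3 n132788 = n113612 := d7_1 F366122 (iv6 D113612) (iv3 F161449)
theorem F366125 : act 7 n180263 = n178833 := d11_2 F324623 (iv4 F280585) (iv4 D178833)
theorem F366126 : act 2 n180263 = n155086 := d1_3 (iv4 D155086) F324618 (iv4 F280585)
theorem F366127 : act 3 n154698 = n125978 := d5_5 (iv4 D125978) F324567 (iv4 F309331) F243064 D154698
theorem F366128 : act 7 n163186 = n154698 := d8_0 F366127 F325668 D163186
theorem F366129 : act 4 n125373 = n113301 := d20_2 F160849 D125373 (iv3 D113301) (iv1 D52300) (iv3 D25402) (iv4 D12080) (iv1 F19979) D25390 D52270 (iv1 F324563)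
theorem F366130 : act 6 n126048 = n182515 := d12_2 F324551 (iv5 F202754) (iv5 D182515) (iv6 D87130) F70736
theorem F366131 : act 2 n182515 = n126088 := d3_1 F366130 (iv6 D126088) (iv2 F202753)
theorem F366132 : act 5 n126088 = n125380 := d2_2 D182515 F366131 F201662
theorem F366133 : act 3 n180491 = n108651 := d20_5 F324522 (iv1 D39898) (iv4 F60709) (iv3 F132155) D180491 (iv4 F176585) F244987 F170292 (iv3 D50799) D50797
theorem F366134 : act 7 n109079 = n180491 := d8_0 F366133 F352260 D109079
theorem F366135 : act 2 n180491 = n109110 := d15_3 (iv0 F359055) F358833 F366134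
theorem F366136 : act 7 n180492 = n109110 := d15_2 (iv0 D180491) D180492 (iv2 F366135)
theorem F366137 : act 2 n109079 = n180492 := d4_3 F366136 (iv2 F366135) (iv7 F366134)
theorem F366138 : act 1 n109111 = n180491 := d15_1 F359057 (iv7 F366134) F366137
theorem F366139 : act 7 n109124 = n180509 := d11_2 F324497 D109124 (iv4 D180509)
theorem F366140 : act 0 n185560 = n125612 := d19_4 D28072 (iv5 F324417) (iv4 F135383) (iv3 F287866) F202218 (iv4 D125722) F93086 D58870 F93088 (iv4 D51556) (iv3 D25045) (iv1 D11898) (iv5 D5580) (iv4 F10042) (iv3 D2343) (iv1 F7712) (iv5 F4328) (iv4 F9869) (iv3 F22251)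
theorem F366141 : act 1 n180035 = n125612 := d15_0 (iv0 F366140) (iv7 F362999) F362997
theorem F366142 : act 4 n125883 = n185561 := d18_3 (iv1 D58945) D58946 D125883 (iv5 D185561) F135383 F324415 D50476 D109401 (iv5 F170864)
theorem F366143 : act 0 n143665 = n140742 := d21_7 (iv5 F318182) F318179 (iv5 F125654) F321029 (iv1 D67284) D67286 D143665 (iv5 D140742) D140743 F324347
theorem F366144 : act 1 n143665 = n140782 := d15_1 (iv0 F366143) (iv7 F225123) F225122
theorem F366145 : act 0 n133213 = n106698 := d21_7 F82871 (iv1 F65428) (iv5 F139286) F324314 (iv1 D62507) D62510 D133213 F164431 (iv6 D52491) D52488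
theorem F366146 : act 1 n159137 = n135923 := d15_0 (iv0 D135923) F324297 (iv2 F250556)
theorem E103192 : n153515 = n111087 := (c7_2 F324274 D153515 (iv6 D111087) (iv3 F172276))
theorem F366147 : act 0 n111087 = n107092 := (sb E103192 (iv1 F362005))
theorem F366148 : act 3 n111087 = n72580 := (sb E103192 (iv3 D153515))
theorem F366149 : act 7 n111087 = n72737 := (sb E103192 F241269)
theorem F366150 : act 5 n132349 = n163830 := d6_2 F324207 D132349 (iv3 D163830)
theorem F366151 : act 7 n165952 = n132349 := d13_0 F366150 F261320 D165952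
theorem F366152 : act 6 n180009 = n140780 := d10_2 F324177 D180009 F223870
theorem F366153 : act 0 n140843 = n170548 := d21_4 D66637 (iv1 F223915) (iv5 D140842) D140843 (iv6 D170548) (iv5 D81748) F311464 (iv5 D78942) F324165 (iv1 D66636)
theorem F366154 : act 4 n119721 = n140843 := d18_1 F190386 F366153 (iv4 F299888) (iv5 D101278) F74436 (iv0 F306401) F44851 D27770 D58305
theorem F366155 : act 1 n140843 = n127323 := d15_1 (iv0 F366153) (iv7 F233349) F314923
theorem F366156 : act 2 n140843 = n114319 := d1_1 F366154 F290375 (iv2 F190832)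
theorem F366157 : act 7 n140843 = n154035 := d11_2 (iv7 F190830) F366154 (iv4 D154035)
theorem F366158 : act 4 n129565 = n134737 := d10_3 (iv6 D134737) F324049 (iv6 F207756)
theorem F366159 : act 3 n180574 = n111566 := d6_3 (iv5 D111566) F323985 D180574
theorem F366160 : act 6 n140724 = n128033 := d7_2 F323806 D140724 (iv3 D128033)
theorem F366161 : act 4 n133363 = n178938 := d10_3 (iv6 D178938) F323801 D133363
theorem F366162 : act 2 n130564 = n133363 := d1_3 F366161 F278808 (iv4 F318273)
theorem F366163 : act 2 n140115 = n150755 := d1_3 F237315 F323752 (iv4 F223303)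
theorem F366164 : act 1 n140115 = n155613 := d15_0 F360993 F360987 (iv2 F366163)
theorem F366165 : act 3 n142607 = n140056 := d6_3 F223265 F323723 D142607
theorem F366166 : act 7 n97130 = n95815 := d13_2 F323698 D97130 (iv5 D95815)
theorem F366167 : act 2 n95815 = n97135 := d15_3 (iv0 F363394) (iv0 F150040) F366166
theorem E103193 : n175771 = n136476 := (c16_7 F84081 F323563 (iv4 D83906) (iv5 D38641) D38640 D83902 D175771 (iv5 D136476) (iv7 F179695) (iv2 D115390))
theorem F366168 : act 4 n136476 = n83902 := (sb E103193 (iv4 D175771))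
theorem F366169 : act 5 n175770 = n120485 := d18_9 (iv1 D120485) D120487 F344938 F178517 D153334 F346453 (iv0 F357404) F366168 D175770
theorem F366170 : act 6 n162758 = n174680 := d10_2 F323498 (iv4 F256985) (iv4 F323497)
theorem F366171 : act 4 n100929 = n145403 := d19_14 F76973 F76971 (iv4 F49367) F323442 (iv1 F43436) (iv5 D12892) F41950 D15597 (iv1 F190014) (iv5 F90788) F90787 (iv3 F308328) (iv1 F156728) F156730 F228434 (iv1 F228432) (iv5 F228433) (iv4 D126345) F93443
theorem F366172 : act 5 n145401 = n100126 := d17_7 D99447 (iv5 F153183) (iv1 F156728) F156730 F366171 (iv5 D145403) D145401 F268289 (iv4 D99449)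
theorem F366173 : act 3 n135416 = n88958 := d6_3 F275020 F323427 D135416
theorem F366174 : act 4 n164302 = n148522 := d5_2 F323425 (iv3 F258931) (iv3 D148522) D148523 F233285
theorem E103194 : n181227 = n172568 := (c20_5 F297293 (iv1 D40114) D40115 D86542 D181227 (iv3 D172568) (iv4 D82611) F118928 D83962 (iv3 F323361) D86029)
theorem F366175 : act 1 n172568 = n86542 := (sb E103194 (iv0 D181227))
theorem F366176 : act 3 n145964 = n93935 := d7_3 F251939 F323344 D145964
theorem F366177 : act 1 n149378 = n143381 := d17_6 (iv1 F122448) (iv5 F234075) (iv1 D71015) (iv5 F52065) D70144 D149378 (iv5 D143381) D143380 F323284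
theorem F366178 : act 4 n161814 = n141993 := d20_6 F45780 D28274 D59558 (iv3 F323259) D77713 D161814 (iv1 D141993) (iv4 F204151) (iv3 D126903) (iv1 D59553)
theorem F366179 : act 3 n141993 = n153610 := d5_1 F366178 (iv4 D153610) F190291 F325777 D161814
theorem F366180 : act 7 n141993 = n134737 := d11_2 (iv7 F365588) F366178 (iv4 F366158)
theorem E103195 : n141992 = n140329 := ((c15_4 (iv0 D141992) D141993 F366180 (iv2 F223439))).symm
theorem F366181 : act 1 n140329 = n66579 := (sb E103195 (iv0 D141992))
theorem F366182 : act 0 n94054 = n133210 := d21_4 (iv5 F68177) F135490 D43967 (iv6 F144896) (iv6 D133210) (iv5 D62509) D62506 (iv5 F323242) (iv6 D90455) (iv1 F68176)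
theorem F366183 : act 4 n133210 = n183479 := d18_3 D172226 F361756 F366182 (iv5 D183479) D183478 (iv0 F285233) (iv4 D172219) (iv0 D82487) D82489
theorem F366184 : act 6 n183479 = n133209 := d10_2 D133210 F366183 (iv4 D133209)
theorem F366185 : act 6 n92569 = n135092 := d21_5 F293449 (iv1 D20447) D20449 D43309 D92569 (iv5 D135092) (iv1 D63491) F323234 (iv6 D43582) F294148
theorem F366186 : act 2 n90237 = n92569 := d3_3 F366185 (iv2 F354664) (iv6 F354762)
theorem F366187 : act 7 n92570 = n90237 := d15_2 (iv0 D92569) D92570 F366186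
theorem F366188 : act 7 n90238 = n92569 := d15_2 (iv0 D90237) D90238 (iv2 F366186)
theorem F366189 : act 2 n92570 = n90238 := d4_3 F366188 (iv2 F366186) (iv7 F366187)
theorem E103196 : n144288 = n119262 := ((c20_4 (iv4 F323190) (iv1 F187727) (iv4 D119263) D119262 (iv1 D144288) (iv3 D67598) (iv4 D31398) (iv1 D14797) (iv4 F24445) (iv3 F49646) D67550)).symm
theorem F366190 : act 0 n119262 = n67598 := (sb E103196 (iv1 D144288))
theorem E103197 : n152827 = n103597 := ((c20_7 (iv4 D118409) F86143 D54886 (iv3 F323187) F70374 (iv3 F75355) D103597 (iv1 D152827) (iv4 F187729) (iv3 D119262) (iv1 F186063))).symm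
theorem F366191 : act 0 n103597 = n72115 := (sb E103197 (iv1 D152827))
theorem F366192 : act 6 n165604 = n180475 := d7_2 F323185 D165604 (iv3 F323184)
theorem F366193 : act 3 n108971 = n180600 := d20_5 (iv4 F45315) (iv1 F38460) D24540 D50316 D108971 (iv4 D180600) F323158 F93176 (iv3 D52237) (iv1 F45313)
theorem F366194 : act 7 n96984 = n95666 := d13_2 F322992 D96984 (iv5 D95666)
theorem F366195 : act 2 n96989 = n95666 := d2_3 (iv5 D95666) F322991 D96989
theorem F366196 : act 3 n121325 = n114862 := d7_3 (iv6 D114862) F322982 D121325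
theorem F366197 : act 4 n116334 = n116639 := d20_6 F322936 F321311 (iv4 D128009) F188339 F319299 D116334 (iv1 D116639) F84768 (iv3 F84767) D116629
theorem F366198 : act 7 n116639 = n152715 := d11_2 (iv7 F319701) F366197 (iv4 F264608)
theorem F366199 : act 0 n152320 = n116639 := d20_1 D152320 (iv4 F366197) (iv3 D116334) (iv1 D53615) F41025 F20441 D12315 D25966 D53636 (iv1 F318565)
theorem F366200 : act 2 n152715 = n116638 := d15_3 (iv0 D116638) D116639 F366198
theorem F366201 : act 2 n116639 = n152716 := d15_3 F239922 F239921 (iv7 F366198)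
theorem F366202 : act 7 n152716 = n116638 := d4_2 (iv7 F366198) F366201 (iv2 F366200)
theorem F366203 : act 1 n152320 = n116638 := d15_1 (iv0 F366199) (iv7 F366202) (iv2 F366201)
theorem F366204 : act 0 n138943 = n144166 := d21_7 D117009 (iv1 F182947) (iv5 D66801) (iv6 F322929) (iv1 D65226) D65228 D138943 (iv5 D144166) (iv6 D67539) (iv1 F85056)
theorem F366205 : act 4 n144166 = n96998 := d18_3 F356594 (iv4 F346829) F366204 (iv5 D96998) (iv4 F136473) (iv0 D88921) F64059 D44721 D95755
theorem F366206 : act 7 n155589 = n139931 := d14_4 F205138 F322921 F114985 D155589 (iv6 D139931)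
theorem F366207 : act 2 n139931 = n179036 := d15_3 F362451 (iv0 F356809) F366206
theorem F366208 : act 6 n179036 = n115995 := d3_2 D139931 F366207 F205133
theorem F366209 : act 3 n139409 = n179036 := d7_3 F366208 F182982 D139409
theorem F366210 : act 0 n139409 = n123552 := d19_4 (iv1 F209608) F313707 D179036 (iv3 F366209) F197972 (iv4 F197958) F300030 F297767 F321157 (iv4 F222184) (iv3 F351100) F223780 (iv5 D108966) (iv4 D50311) (iv3 F163935) (iv1 D11679) D11680 D24672 D50664
theorem F366211 : act 6 n185869 = n129465 := d14_5 (iv7 F211862) F322891 (iv7 F114438) (iv6 F139386) (iv7 F288325)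
theorem F366212 : act 3 n129467 = n185869 := d7_3 F366211 (iv3 D129465) D129467
theorem F366213 : act 3 n113768 = n134172 := d0_2 D132229 F322889 F216216 (iv3 D129460) (iv2 F209631)
theorem E103198 : n146479 = n134171 := ((c5_4 D113768 F366213 (iv4 D134172) D134171 (iv4 D146479) F104877)).symm
theorem F366214 : act 0 n134171 = n135752 := (sb E103198 F363643)
theorem F366215 : act 4 n134171 = n68669 := (sb E103198 (iv4 D146479))
theorem F366216 : act 6 n134171 = n68672 := (sb E103198 F229799)
theorem F366217 : act 6 n134172 = n113770 := d7_2 (iv6 F177016) F366213 (iv3 D113770)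
theorem E103199 : n146483 = n134174 := (c10_2 F366217 (iv4 F229809) (iv6 D134174) D134172)
theorem F366218 : act 0 n134174 = n134944 := (sb E103199 F360204)
theorem F366219 : act 1 n134174 = n134952 := (sb E103199 F360205)
theorem F366220 : act 3 n134174 = n68672 := (sb E103199 (iv3 D146483))
theorem F366221 : act 4 n134174 = n113770 := (sb E103199 F229809)
theorem F366222 : act 7 n134174 = n134949 := (sb E103199 F365495)
theorem E103200 : n159330 = n152034 := (c10_2 F322883 D159330 (iv6 D152034) (iv4 F165939))
theorem F366223 : act 4 n152034 = n76217 := (sb E103200 (iv4 D159330))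
theorem F366224 : act 7 n152034 = n127342 := (sb E103200 F250824)
theorem F366225 : act 0 n102575 = n130125 := d21_4 (iv5 F68124) (iv1 F290659) (iv5 F290841) D102575 (iv6 D130125) D130124 (iv1 F209526) F97448 (iv6 F322859) (iv1 F68123)
theorem F366226 : act 1 n102575 = n130142 := d15_1 (iv0 F366225) (iv7 D130142) (iv2 F208635)
theorem F366227 : act 3 n171127 = n150114 := d20_9 (iv4 D118109) (iv1 F107169) F321121 (iv3 F322831) F112810 (iv3 F90055) F90056 D82018 D171127 (iv1 F236397)
theorem F366228 : act 6 n150112 = n171127 := d7_0 F366227 (iv6 D150114) D150112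
theorem F366229 : act 0 n149470 = n171127 := d20_4 F312488 (iv1 F215549) (iv4 F351916) (iv3 F235086) F366227 F236264 (iv1 F236399) F322834 (iv3 F333415) (iv1 F312487)
theorem F366230 : act 0 n106740 = n175933 := d21_7 F317508 (iv1 D62643) D62645 F322824 F86683 D119056 F187318 (iv5 D175933) (iv6 D83956) (iv1 F128923)
theorem F366231 : act 0 n98490 = n120233 := d20_10 (iv4 D120233) F130964 (iv4 F303706) F154842 F322813 (iv3 D22735) D22736 D47297 (iv4 F156783) (iv3 F151899)
theorem F366232 : act 1 n98490 = n118087 := d15_1 (iv0 F366231) (iv7 F319956) F319954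
theorem F366233 : act 1 n98482 = n120233 := d15_0 (iv0 F366231) (iv7 D98490) (iv2 F151884)
theorem F366234 : act 1 n118087 = n98482 := d15_0 F366233 F191435 (iv2 F305767)
theorem F366235 : act 3 n145917 = n106191 := d20_5 (iv4 D14991) D14989 D31841 D68421 D145917 (iv4 F178990) (iv1 F178992) F322800 (iv3 D68438) (iv1 D31847)
theorem F366236 : act 7 n106182 = n145917 := d8_0 F366235 (iv7 D106191) (iv3 F163177)
theorem F366237 : act 2 n145917 = n144917 := d15_3 F229112 (iv0 F340908) F366236
theorem F366238 : act 2 n106182 = n145918 := d15_3 (iv0 F322602) F322603 (iv7 F366236)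
theorem F366239 : act 6 n145918 = n106179 := d3_2 D106182 F366238 (iv2 D106179)
theorem F366240 : act 7 n145918 = n144917 := d4_2 (iv7 F366236) F366238 (iv2 F366237)
theorem F366241 : act 3 n161367 = n140999 := d5_3 F322787 (iv3 F116285) D161367 (iv4 D140999) F101764
theorem F366242 : act 7 n157184 = n145567 := d14_4 (iv7 F321164) F322617 (iv7 F212196) D157184 (iv6 D145567)
theorem F366243 : act 6 n139806 = n118265 := d7_2 F322609 D139806 (iv3 D118265)
theorem F366244 : act 4 n117060 = n132508 := d11_3 F212652 F322567 (iv7 F183078)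
theorem F366245 : act 6 n163095 = n138144 := d10_2 F322470 D163095 (iv4 D138144)
theorem F366246 : act 2 n138144 = n120973 := d3_1 F366245 (iv6 F298794) (iv2 F257416)
theorem F366247 : act 1 n138144 = n160988 := d15_0 (iv0 F254494) F248949 (iv2 F366246)
theorem E103201 : n154335 = n129707 := ((c21_7 D28871 D60866 F207690 F322467 (iv1 F47239) D60930 D129707 (iv1 D154335) F319160 (iv6 D60863) (iv1 D28869))).symm
theorem F366248 : act 0 n129707 = n73119 := (sb E103201 (iv1 D154335))
theorem F366249 : act 2 n107659 = n179064 := d3_3 (iv6 D179064) F322393 D107659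
theorem F366250 : act 2 n142906 = n153722 := d1_3 (iv4 D153722) F322377 (iv4 F225783)
theorem F366251 : act 6 n153722 = n142789 := d3_2 D142906 F366250 F322375
theorem F366252 : act 5 n141914 = n154707 := d17_3 (iv1 D66530) D66531 D141914 F242879 F110069 F108901 F322147 D116630 F322347
theorem F366253 : act 7 n154706 = n141914 := d13_0 F366252 (iv7 D154707) D154706
theorem F366254 : act 4 n97010 = n141914 := d16_2 (iv4 F358725) (iv5 F149622) F366252 F242879 F110069 F190214 (iv5 F353896) F353897 F236444
theorem F366255 : act 6 n141914 = n95825 := d10_2 D97010 F366254 F147510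
theorem F366256 : act 2 n167679 = n142748 := d1_3 F322341 F299111 D167679
theorem F366257 : act 7 n167672 = n142748 := d11_0 F322341 F299113 D167672
theorem F366258 : act 2 n167672 = n142747 := d15_3 (iv0 D142747) D142748 (iv7 F366257)
theorem F366259 : act 7 n142747 = n167679 := d4_2 (iv7 F366257) F366258 F366256
theorem F366260 : act 7 n142587 = n120015 := d11_2 F322335 (iv4 F225458) F189500
theorem F366261 : act 0 n115517 = n152737 := d20_4 F83997 D110863 (iv4 F171720) D115517 (iv3 D152737) (iv4 D72067) (iv1 F322304) (iv4 F102613) (iv3 D66738) (iv1 F166203)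
theorem F366262 : act 6 n145102 = n144452 := d10_2 F322285 (iv4 F228067) F227255
theorem F366263 : act 0 n152327 = n115647 := d21_7 D25850 D53340 F179940 F322284 (iv1 D71873) (iv6 F108331) D152327 (iv5 D115647) (iv6 D53336) (iv1 D25848)
theorem E103202 : n141720 = n115614 := ((c21_4 D139637 (iv1 F222804) (iv5 D115613) D115614 (iv1 D141720) F318781 D119627 (iv1 F239537) (iv5 D152342) (iv6 F322284) (iv1 F179590))).symm
theorem F366264 : act 0 n115614 = n66458 := (sb E103202 (iv1 D141720))
theorem F366265 : act 6 n107331 = n124842 := d10_2 F322257 (iv4 F165403) F316130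
theorem F366266 : act 0 n154706 = n141888 := d21_1 D154706 (iv5 D141888) (iv6 D66524) F84422 (iv6 F322256) D124843 F316132 (iv5 D74355) (iv6 F312833) F190974
theorem F366267 : act 4 n152792 = n126742 := d20_0 (iv1 D126742) (iv4 F203871) F203870 F101952 F322253 (iv4 D16080) D16078 D33290 D72100 D152792
theorem E103203 : n152812 = n115366 := ((c20_4 (iv4 F176287) (iv1 F176289) (iv4 F165010) D115366 (iv1 D152812) (iv3 D72108) (iv4 D33294) (iv1 D16079) D16080 (iv3 F322253) D65819)).symm
theorem F366268 : act 0 n115366 = n72108 := (sb E103203 (iv1 D152812))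
theorem F366269 : act 3 n152769 = n115606 := d8_3 (iv7 F220788) F322252 D152769
theorem F366270 : act 0 n145567 = n179638 := d18_2 F322227 (iv4 F228612) (iv4 D179638) F243347 (iv4 D147459) (iv0 D69122) F51124 D32159 D69134
theorem F366271 : act 6 n145571 = n147899 := d10_2 F322225 D145571 (iv4 D147899)
theorem E103204 : n136984 = n118884 := (c20_8 (iv4 D48978) F53311 D32940 (iv3 F322220) (iv1 F101092) (iv3 F220133) (iv4 D136987) D136984 (iv4 F252616) (iv3 D160070) F114986)
theorem F366272 : act 1 n118884 = n64383 := (sb E103204 (iv0 D136984))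
theorem F366273 : act 7 n116635 = n152737 := d8_2 F322177 (iv3 F182006) (iv3 D152737)
theorem F366274 : act 7 n116640 = n152738 := d13_2 F322177 D116640 (iv5 D152738)
theorem F366275 : act 0 n134737 = n141841 := d20_4 F319313 (iv1 F322132) (iv4 F225050) F225049 (iv3 D141841) (iv4 D66501) (iv1 F49454) (iv4 F49467) (iv3 F102399) (iv1 F224924)
theorem F366276 : act 2 n116640 = n152718 := d2_3 (iv5 D152718) F322128 D116640
theorem F366277 : act 7 n130566 = n133360 := d8_2 F322127 D130566 (iv3 D133360)
theorem F366278 : act 7 n130568 = n133362 := d13_2 F322127 D130568 (iv5 D133362)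
theorem F366279 : act 2 n133362 = n130563 := d15_3 F354248 F355458 F366278
theorem F366280 : act 2 n130568 = n133357 := d15_3 F355473 (iv0 F363717) (iv7 F366278)
theorem F366281 : act 7 n133357 = n130563 := d4_2 (iv7 F366278) F366280 (iv2 F366279)
theorem F366282 : act 3 n124997 = n133357 := d8_3 F366281 F318271 (iv7 F200778)
theorem F366283 : act 2 n178827 = n133360 := d0_5 (iv3 D133360) F322126 F316057 (iv2 F130556) D178827
theorem F366284 : act 7 n157259 = n178827 := d4_0 F366283 (iv7 F366277) (iv2 F247491)
theorem F366285 : act 7 n116471 = n125046 := d4_2 F322122 (iv2 F181754) F316047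
theorem F366286 : act 1 n125046 = n142369 := d15_0 (iv0 D142369) (iv7 F322122) (iv2 F316047)
theorem F366287 : act 1 n142370 = n125046 := d15_1 D142370 (iv7 F366285) F181754
theorem F366288 : act 6 n142370 = n111999 := d21_5 D178870 F278740 (iv5 D125045) D125046 (iv1 F366287) (iv5 D111999) F173814 (iv5 F348107) (iv6 D157261) (iv1 F316052)
theorem F366289 : act 5 n109729 = n142370 := d12_5 F366288 (iv5 D111999) (iv6 D51654) (iv5 F79990) D109729
theorem F366290 : act 6 n116456 = n156840 := d10_2 F322121 (iv4 F181718) F246812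
theorem F366291 : act 7 n95810 = n97135 := d13_2 F322040 D95810 (iv5 D97135)
theorem F366292 : act 2 n97130 = n95810 := d4_3 F366291 (iv2 F366167) (iv7 F366166)
theorem F366293 : act 3 n97135 = n95768 := d8_1 F366291 F340385 (iv3 F340384)
theorem F366294 : act 6 n149336 = n117778 := d3_2 D143397 F321932 F184466
theorem F366295 : act 7 n177054 = n141398 := d8_0 F321897 (iv7 F300139) D177054
theorem F366296 : act 2 n135243 = n177054 := d4_3 F366295 F321896 (iv7 F217433)
theorem F366297 : act 5 n167678 = n177054 := d13_3 F366295 F224439 (iv7 F357372)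
theorem F366298 : act 1 n107924 = n177054 := d15_1 (iv0 F316863) F366295 F321896
theorem F366299 : act 1 n177054 = n141452 := d15_1 F366298 F321258 (iv2 F166780)
theorem F366300 : act 3 n119852 = n144982 := d5_3 F321816 F133208 D119852 (iv4 D144982) F317364
theorem F366301 : act 7 n144982 = n139853 := d8_2 (iv7 F189183) F366300 F363834
theorem F366302 : act 7 n145784 = n121491 := d8_2 F321810 (iv3 F228911) (iv3 D121491)
theorem F366303 : act 4 n148449 = n154036 := d18_3 (iv1 F321791) (iv4 F105841) D148449 F242061 (iv4 F209982) F209979 F96141 D61592 F321795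
theorem F366304 : act 6 n154035 = n148449 := d10_0 F366303 (iv6 D154036) D154035
theorem F366305 : act 0 n129830 = n133169 := d20_7 F23707 D14203 F98521 D61220 F321679 (iv3 F213190) F213191 F213941 (iv3 D62487) (iv1 F98504)
theorem F366306 : act 1 n129647 = n133169 := d15_0 (iv0 F366305) (iv7 F365932) F212961
theorem F366307 : act 4 n158448 = n129647 := d18_5 (iv1 F312088) D80312 (iv1 F300242) F149002 D158448 F366306 F213941 (iv0 F350873) (iv5 F322468)
theorem F366308 : act 3 n157589 = n143930 := d7_3 (iv6 D143930) F321646 (iv6 F248346)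
theorem F366309 : act 6 n137512 = n181759 := d7_2 F321645 (iv3 F220708) (iv3 D181759)
theorem F366310 : act 2 n181759 = n136509 := d3_1 F366309 F326613 D137512
theorem F366311 : act 4 n181759 = n108460 := d10_1 F366309 F351889 (iv4 F220709)
theorem F366312 : act 7 n181759 = n139092 := d14_2 (iv7 F220710) F366309 F351887 F304671 (iv6 F339064)
theorem F366313 : act 0 n136578 = n108136 := d20_1 D136578 (iv4 F222289) F222288 F312280 D181759 F366311 (iv1 F167869) F167867 (iv3 F218593) (iv1 F218598)
theorem E103205 : n136605 = n136577 := (c20_5 (iv4 D86805) F309999 (iv4 D64216) D64215 D136605 (iv3 D136577) D136578 F366313 (iv4 F222289) F222288 F312280)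
theorem F366314 : act 1 n136577 = n64215 := (sb E103205 (iv0 D136605))
theorem F366315 : act 0 n153528 = n144708 := d20_4 F185723 F104127 D72590 D153528 (iv3 D144708) (iv4 D67812) (iv1 D31495) D31497 F321642 (iv1 F185721)
theorem F366316 : act 0 n144243 = n145109 := d20_4 F79801 D50428 D109280 (iv3 F226931) (iv3 D145109) (iv4 D68021) F50601 (iv4 F86013) (iv3 F321642) (iv1 F111447)
theorem F366317 : act 7 n144754 = n145119 := d13_2 F321597 D144754 (iv5 D145119)
theorem F366318 : act 3 n145125 = n144754 := d8_3 F366317 F228092 D145125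
theorem F366319 : act 6 n163047 = n116469 := d10_2 F321550 D163047 (iv4 F204410)
theorem F366320 : act 3 n116471 = n163047 := d7_3 F366319 (iv3 D116469) D116471
theorem F366321 : act 6 n112974 = n177563 := d14_5 F277011 F366319 F181750 (iv6 F321153) F316688
theorem F366322 : act 3 n177563 = n125046 := d7_1 F366321 (iv6 D125046) (iv3 F316044)
theorem F366323 : act 0 n143994 = n163047 := d20_4 F82554 D52214 F168205 D143994 (iv3 F366320) F181755 (iv1 F325041) D67352 (iv3 F162376) (iv1 F168290)
theorem F366324 : act 7 n179943 = n142253 := d13_2 F321539 D179943 (iv5 D142253)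
theorem F366325 : act 0 n115952 = n144394 := d20_7 F49214 (iv1 F39912) (iv4 F49196) D65579 F321510 (iv3 F103762) (iv4 F180555) (iv4 D144394) (iv3 D67659) (iv1 F49706)
theorem F366326 : act 3 n152770 = n143916 := d8_3 F226556 F321403 (iv7 F239980)
theorem F366327 : act 3 n95771 = n97138 := d6_3 (iv5 F149862) F321393 F318859
theorem F366328 : act 7 n97178 = n95771 := d8_0 F366327 (iv7 F290436) (iv3 F353133)
theorem F366329 : act 2 n95770 = n97178 := d4_3 F366328 F317113 (iv7 F317112)
theorem F366330 : act 4 n97178 = n128261 := d16_0 (iv5 D128261) (iv4 D60289) (iv5 D28644) F22811 (iv5 F22732) (iv4 F45986) D59930 (iv7 F317112) F366329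
theorem F366331 : act 1 n128261 = n97067 := d18_6 F318892 (iv4 D59935) (iv1 F94376) (iv4 F317842) F149923 F366330 (iv4 D97067) D97066 (iv5 F149725)
theorem F366332 : act 0 n103762 = n184218 := d18_2 (iv1 F158958) D103762 (iv4 D184218) (iv5 D87862) (iv4 F125484) F321384 (iv4 D48039) F75370 (iv5 F158956)
theorem E103206 : n184195 = n149213 := (c20_5 D48039 (iv1 F321384) F125484 (iv3 F134847) D184195 (iv3 D149213) (iv4 D70035) (iv1 F106356) (iv4 F158908) F158907 (iv1 F75370))
theorem F366333 : act 1 n149213 = n87856 := (sb E103206 (iv0 D184195))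
theorem F366334 : act 5 n95923 = n103167 := d21_6 (iv5 F321371) (iv1 F150030) (iv5 D45446) D45447 D97291 F150039 (iv1 D103167) (iv5 D47818) D47819 (iv1 F319857)
theorem F366335 : act 3 n103167 = n103732 := d6_1 F366334 F334498 F353134
theorem F366336 : act 7 n95659 = n96987 := d8_2 F321368 D95659 (iv3 D96987)
theorem F366337 : act 7 n95661 = n96989 := d13_2 F321368 D95661 (iv5 D96989)
theorem F366338 : act 2 n96984 = n95661 := d4_3 F366337 F366195 (iv7 F366194)
theorem F366339 : act 2 n95659 = n97047 := d15_3 (iv0 D97047) (iv0 F338150) (iv7 F366336)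
theorem F366340 : act 0 n95659 = n97050 := d20_4 (iv4 F71229) (iv1 F313008) F321366 D95659 F149716 F318176 F315996 F319120 (iv3 F319119) (iv1 D45398)
theorem F366341 : act 0 n97043 = n95659 := d20_4 (iv4 D159734) F251646 (iv4 F114670) (iv3 F149702) (iv3 D95659) (iv4 F321366) (iv1 F313018) F125488 (iv3 F147492) F251660
theorem F366342 : act 3 n148234 = n164500 := d6_3 (iv5 D164500) F321305 D148234
theorem F366343 : act 2 n149726 = n148234 := d0_5 F366342 F259237 F178696 (iv2 F178676) (iv3 F235473)
theorem F366344 : act 7 n143665 = n149726 := d15_2 F232066 (iv0 F366143) F366343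
theorem F366345 : act 6 n118274 = n139824 := d7_2 F321292 D118274 (iv3 D139824)
theorem F366346 : act 6 n136894 = n160058 := d10_2 F366345 F223026 F252591
theorem F366347 : act 3 n159926 = n141308 := d20_3 (iv4 F321273) D120038 F319489 (iv1 D141308) (iv3 D66289) (iv4 D30968) (iv1 D14657) (iv4 F24335) (iv3 F49384) D66237
theorem F366348 : act 5 n141308 = n159925 := d6_2 D159926 F366347 (iv3 D159925)
theorem F366349 : act 4 n125600 = n131895 := d16_4 F321241 (iv5 D64525) (iv4 F92981) D125600 (iv5 D131895) F96472 F77748 D106129 (iv2 F290560)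
theorem F366350 : act 6 n125732 = n125600 := d10_0 F366349 F211323 (iv4 F360468)
theorem F366351 : act 3 n125602 = n125732 := d7_3 F366350 F202048 D125602
theorem E103207 : n125690 = n125597 := ((c21_8 (iv5 D25387) F36869 D27991 D58872 D125732 F366350 (iv5 D125600) D125597 (iv5 D125690) (iv6 D58855) F45251)).symm
theorem F366352 : act 5 n125597 = n58855 := (sb E103207 (iv5 D125690))
theorem F366353 : act 6 n125597 = n58858 := (sb E103207 F202168)
theorem F366354 : act 5 n125688 = n105176 := d17_3 D125597 F366352 D125688 F161091 (iv5 F110943) (iv0 F364559) (iv5 D137284) (iv0 D64522) (iv4 F92981)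
theorem E103208 : n125697 = n125694 := ((c21_4 F342870 (iv1 F165251) (iv5 F328813) (iv6 F202173) (iv1 D125697) (iv6 F366353) F366352 D125688 F366354 F161092 (iv1 F342910))).symm
theorem F366355 : act 0 n125694 = n58858 := (sb E103208 (iv1 D125697))
theorem F366356 : act 2 n105177 = n125688 := d2_3 F366354 (iv2 D105176) D105177
theorem F366357 : act 3 n113226 = n125688 := d6_3 F366354 F161090 D113226
theorem E103209 : n125689 = n125631 := (c15_2 (iv0 D125688) D125689 F202076 F366356)
theorem F366358 : act 0 n125631 = n58855 := (sb E103209 (iv1 D125689))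
theorem F366359 : act 0 n125602 = n125814 := d19_4 (iv1 D61890) D61891 (iv4 F360468) (iv3 F366351) F202322 F168629 (iv3 D52272) (iv1 D25392) D25394 F40167 D25526 (iv1 F114373) (iv5 D52530) (iv4 F68242) F83031 (iv1 D52544) D52545 D113792 F328040
theorem F366360 : act 6 n125814 = n113553 := d21_5 (iv5 D27968) D27965 D58810 D125602 F366359 (iv5 D113553) (iv1 D52405) (iv5 F82642) (iv6 D52268) (iv1 F45222)
theorem F366361 : act 3 n113553 = n125815 := d7_1 F366360 (iv6 D125815) D125814
theorem F366362 : act 5 n113554 = n113668 := d12_3 F366360 (iv5 D113553) D113554 F176857 (iv5 F202322)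
theorem F366363 : act 3 n113669 = n113554 := d6_3 F366362 (iv3 D113668) D113669
theorem F366364 : act 6 n113551 = n113669 := d7_0 F366363 (iv6 D113554) D113551
theorem F366365 : act 5 n125815 = n113551 := d12_5 F366364 (iv5 D113669) F82854 (iv5 F93132) D125815
theorem F366366 : act 2 n114318 = n140842 := d15_3 F223915 (iv0 F321180) F205405
theorem F366367 : act 0 n97056 = n95652 := d20_4 F312407 D73245 F320362 D97056 F147349 F317478 F315258 F321177 F319119 (iv1 D44724)
theorem F366368 : act 7 n152611 = n101608 := d15_2 (iv0 F321176) D152611 F156533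
theorem F366369 : act 2 n101623 = n152611 := d4_3 F366368 F156533 D101623
theorem F366370 : act 6 n145582 = n157191 := d10_2 F321160 D145582 (iv4 D157191)
theorem F366371 : act 6 n118067 = n133784 := d12_4 D139003 F321155 (iv6 F299950) (iv5 F310272) F215419
theorem F366372 : act 3 n134719 = n179129 := d20_9 F321152 (iv1 F204184) (iv4 D126929) (iv3 F100472) (iv1 F100477) D126955 (iv4 F220828) F224900 F224899 (iv1 D179129)
theorem F366373 : act 0 n185797 = n135343 := d21_4 (iv5 F142946) (iv1 F143480) F143478 D185797 (iv6 D135343) (iv5 F315350) F315348 (iv5 F319008) (iv6 F321125) (iv1 F142942)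
theorem E103210 : n135835 = n135769 := (c20_5 (iv4 F288116) F366373 (iv4 F218478) F218477 D135835 (iv3 D135769) (iv4 D63837) (iv1 F48411) (iv4 F98448) (iv3 F208660) (iv1 F366226))
theorem F366374 : act 1 n135769 = n63871 := (sb E103210 (iv0 D135835))
theorem F366375 : act 1 n185797 = n135353 := d15_1 (iv0 F366373) (iv7 D135353) (iv2 F217581)
theorem F366376 : act 1 n135353 = n132711 := d15_1 F366375 F354337 F288381
theorem F366377 : act 0 n158797 = n120984 := d21_10 (iv5 F326012) (iv1 F366376) (iv5 F363808) F353658 (iv1 D160745) F115843 (iv5 D35218) (iv1 F296736) D75762 (iv6 F250000)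
theorem F366378 : act 6 n150129 = n136565 := d21_3 (iv5 D123382) (iv1 F305159) F236296 (iv1 D136565) (iv6 D64199) (iv5 D30247) (iv1 F48466) (iv5 F99417) F321114 (iv1 F306464)
theorem F366379 : act 2 n136565 = n179863 := d3_1 F366378 (iv6 D179863) (iv2 F236297)
theorem F366380 : act 4 n136565 = n129846 := d10_1 F366378 (iv6 F355283) F355282
theorem F366381 : act 6 n95659 = n147114 := d7_2 F320997 D95659 (iv3 D147114)
theorem F366382 : act 2 n159184 = n174910 := d1_3 F273815 F320973 (iv4 F250664)
theorem E103211 : n152742 = n119566 := (c5_4 F320684 F108537 D72075 D152742 (iv4 D119566) (iv3 F188545))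
theorem F366383 : act 3 n119566 = n72075 := (sb E103211 (iv3 D152742))
theorem F366384 : act 0 n121687 = n177057 := d20_7 (iv4 F110819) F320127 (iv4 F320664) (iv3 F309024) (iv1 D149330) F106497 D121687 F276470 F308547 (iv1 F87405)
theorem F366385 : act 1 n121687 = n177056 := d15_1 (iv0 F366384) (iv7 F312873) F312872
theorem F366386 : act 7 n174968 = n120022 := d8_2 F320663 D174968 F189510
theorem F366387 : act 6 n155759 = n174968 := d14_5 F366386 (iv6 D120022) F87399 D74093 D155759
theorem F366388 : act 2 n174968 = n128288 := d15_3 (iv0 D128288) (iv0 F355176) (iv7 F366386)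
theorem F366389 : act 5 n153609 = n174968 := d2_0 F366388 F206410 (iv2 F241461)
theorem F366390 : act 3 n130476 = n153609 := d6_3 F366389 (iv3 D174968) (iv5 F306591)
theorem F366391 : act 0 n174968 = n128079 := d17_2 F334067 F366389 (iv5 D128079) (iv4 D60189) D60190 F188381 (iv5 D71045) (iv0 F205204) D127673
theorem F366392 : act 1 n174968 = n128073 := d17_6 F162951 (iv5 F312370) (iv1 F334069) F334072 (iv4 F241462) F366389 (iv5 D128073) F185359 F108846
theorem E103212 : n179234 = n156270 := (c2_3 (iv5 F166975) F320633 D179234 (iv2 D156270))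
theorem F366393 : act 5 n156270 = n85534 := (sb E103212 (iv5 D179234))
theorem E103213 : n178810 = n113067 := (c5_4 F320583 F130525 D85204 D178810 (iv4 D113067) D113066)
theorem F366394 : act 3 n113067 = n85204 := (sb E103213 (iv3 D178810))
theorem F366395 : act 0 n130530 = n113068 := d19_0 (iv5 D113068) D113067 F366394 (iv1 F274447) F274448 (iv4 D85131) (iv3 F130465) (iv1 F330753) F330752 F186451 F96170 F54216 F23176 (iv4 F27760) F27759 (iv1 F23067) D29013 (iv4 F95707) (iv3 F209106)
theorem E103214 : n178793 = n156046 := (c2_3 (iv5 F220226) F320577 D178793 (iv2 D156046))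
theorem F366396 : act 5 n156046 = n85198 := (sb E103214 (iv5 D178793))
theorem F366397 : act 0 n154723 = n108111 := d20_7 (iv4 D108544) (iv1 F79388) (iv4 F100941) F320533 (iv1 F79148) D73378 (iv4 F242902) (iv4 F167892) F167891 (iv1 F167862)
theorem F366398 : act 0 n108464 = n147924 := d20_4 (iv4 F168677) (iv1 D63373) (iv4 F79279) (iv3 F167699) (iv3 D147924) F105576 (iv1 D32929) D32930 (iv3 F320533) (iv1 F167841)
theorem F366399 : act 3 n119627 = n137034 := d6_3 (iv5 D137034) F320532 D119627
theorem E103215 : n156154 = n152779 := (c20_4 F111029 D126697 F203891 D156154 (iv1 D152779) (iv3 D72092) (iv4 D33286) (iv1 F42603) D55041 (iv3 F320532) F111427)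
theorem F366400 : act 3 n152779 = n74282 := (sb E103215 (iv3 D156154))
theorem F366401 : act 4 n152779 = n138770 := (sb E103215 F245397)
theorem F366402 : act 7 n152779 = n137037 := (sb E103215 F245398)
theorem F366403 : act 2 n137037 = n152778 := d15_3 (iv0 D152778) D152779 F366402
theorem F366404 : act 6 n152778 = n115505 := d3_2 (iv6 F365193) F366403 F182526
theorem F366405 : act 3 n156162 = n152833 := d8_3 F240054 F366399 (iv7 F245424)
theorem F366406 : act 0 n156063 = n152747 := d20_4 F220782 (iv1 F167035) (iv4 F167032) D156063 (iv3 D152747) (iv4 D72080) (iv1 D33281) D33282 (iv3 F320512) D137634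
theorem F366407 : act 5 n156181 = n152869 := d6_2 (iv5 F188665) F320457 (iv3 D152869)
theorem F366408 : act 7 n152869 = n156180 := d13_2 D156181 F366407 (iv5 D156180)
theorem F366409 : act 2 n156174 = n152868 := d3_1 F320456 (iv6 D152868) F239543
theorem F366410 : act 5 n152868 = n156171 := d2_2 D156174 F366409 F245439
theorem F366411 : act 2 n133358 = n130569 := d3_3 (iv6 D130569) F320425 D133358
theorem F366412 : act 3 n117078 = n133358 := d0_0 F366411 (iv3 F348123) (iv2 F302223) (iv3 F348117) F359483
theorem F366413 : act 4 n133358 = n125006 := d5_2 D117078 F366412 F200791 F92302 (iv3 F320587)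
theorem F366414 : act 0 n174785 = n117235 := d20_4 (iv4 F181670) F320389 (iv4 F154480) (iv3 F273607) (iv3 D117235) (iv4 D54034) (iv1 F41432) D26220 (iv3 F84385) D116040
theorem F366415 : act 3 n163184 = n143932 := d20_5 F231684 F309673 (iv4 F257475) (iv3 D163186) D163184 (iv4 D143932) (iv1 D67434) D67435 D143935 F320346
theorem F366416 : act 6 n156340 = n163184 := d7_0 F366415 F226571 D156340
theorem F366417 : act 3 n155604 = n116835 := d8_1 F320341 F182433 D143883
theorem F366418 : act 6 n144394 = n155604 := d7_0 F366417 F182432 (iv3 F227158)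
theorem E103216 : n153612 = n139273 := (c21_9 F320145 (iv1 F320142) (iv5 D72834) D72835 F303886 (iv6 F304699) (iv5 F314793) F314790 (iv5 F241472) (iv6 D139273) (iv1 F313937))
theorem F366419 : act 0 n139273 = n120560 := (sb E103216 (iv1 F241473))
theorem F366420 : act 1 n139273 = n147798 := (sb E103216 F241474)
theorem F366421 : act 2 n139273 = n147802 := (sb E103216 F241471)
theorem F366422 : act 5 n139273 = n73246 := (sb E103216 F241472)
theorem F366423 : act 7 n139273 = n72638 := (sb E103216 (iv7 D153612))
theorem F366424 : act 7 n105693 = n141626 := d14_0 F320122 F280247 F319621 F173678 D105693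
theorem F366425 : act 4 n148525 = n149746 := d18_3 (iv1 D69618) (iv4 F105888) D148525 F235517 F314403 (iv0 F278277) F310020 F215207 F320085
theorem E103217 : n148525 = n140052 := ((c10_1 D140052 F366425 (iv6 D149746) F318912)).symm
theorem F366426 : act 1 n140052 = n69607 := (sb E103217 (iv0 D148525))
theorem F366427 : act 4 n140052 = n149746 := (sb E103217 F366425)
theorem F366428 : act 7 n156826 = n96376 := d11_0 F320042 F314721 D156826
theorem F366429 : act 1 n170411 = n156826 := d15_1 (iv0 F346814) F366428 (iv2 F318903)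
theorem F366430 : act 0 n96368 = n95462 := d20_4 F312415 (iv1 F51093) F320025 D96368 F147110 F317483 D59902 F316024 F316808 (iv1 D44754)
theorem F366431 : act 6 n127724 = n128083 := d7_2 F320016 D127724 F206136
theorem F366432 : act 6 n127725 = n149057 := d10_2 F320016 D127725 (iv4 D149057)
theorem F366433 : act 2 n149181 = n127725 := d3_3 F366432 F234408 D149181
theorem F366434 : act 7 n127720 = n149181 := d15_2 (iv0 F346184) F346187 F366433
theorem F366435 : act 5 n98341 = n127724 := d12_5 F366431 (iv5 D128083) (iv6 F303648) (iv5 D98340) D98341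
theorem F366436 : act 7 n157669 = n98482 := d15_2 D98488 F319953 F151884
theorem F366437 : act 2 n98490 = n157669 := d4_3 F366436 F151884 D98490
theorem F366438 : act 6 n183394 = n157669 := d14_5 F366436 (iv6 D98482) F72637 D87544 D183394
theorem F366439 : act 5 n175126 = n112734 := d12_5 (iv6 F175497) F319923 F86978 (iv5 F128699) D175126
theorem F366440 : act 1 n125988 = n175126 := d17_6 (iv1 F82234) D112738 F175513 (iv5 D58994) D58993 D125988 F366439 F175493 F170730
theorem F366441 : act 0 n125983 = n175126 := d19_0 F366439 F175495 F173801 (iv1 D51590) F39335 (iv4 F40933) (iv3 F84363) D115959 F327050 (iv4 F242117) F242116 F321061 (iv5 F327151) (iv4 D64058) D64057 F163982 F48643 (iv4 F93940) (iv3 F351687)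
theorem F366442 : act 0 n125989 = n166171 := d21_4 (iv5 F366439) (iv1 F366440) (iv5 D125988) D125989 F341659 F363258 F344916 (iv5 D110661) (iv6 F170731) (iv1 F175493)
theorem F366443 : act 0 n120304 = n135364 := d17_2 F319895 D120304 (iv5 D135364) (iv4 D63629) (iv5 D30036) F48253 (iv5 F52397) F52399 D63648
theorem F366444 : act 5 n135405 = n153816 := d21_6 D57282 (iv1 F113276) (iv5 D55363) D55364 (iv1 F319894) D135405 (iv1 D153816) (iv5 D72761) (iv6 D33569) (iv1 F44348)
theorem F366445 : act 4 n158157 = n152040 := d10_3 (iv6 D152040) F319890 D158157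
theorem F366446 : act 2 n131666 = n158157 := d1_3 F366445 F239053 F217749
theorem F366447 : act 0 n98301 = n99361 := d20_4 F314248 F319779 (iv4 F151558) (iv3 F151723) (iv3 D99361) F195692 (iv1 F127689) F127685 (iv3 F153247) (iv1 F195691)
theorem E103218 : n179686 = n152169 := (c21_2 D85828 D179686 (iv5 D152169) (iv6 F318366) (iv1 F195777) F155906 (iv5 F286437) (iv1 F286439) (iv5 F305153) F319774 F317528)
theorem F366448 : act 0 n152169 = n88075 := (sb E103218 (iv1 F279899))
theorem F366449 : act 1 n152169 = n85828 := (sb E103218 (iv0 D179686))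
theorem E103219 : n179687 = n152158 := (c15_2 F366449 D179687 F239221 (iv2 F239247))
theorem F366450 : act 0 n152158 = n85828 := (sb E103219 (iv1 D179687))
theorem F366451 : act 1 n152158 = n88075 := (sb E103219 F279900)
theorem F366452 : act 3 n117260 = n149378 := d6_3 (iv5 D149378) F319683 D117260
theorem F366453 : act 6 n141195 = n167913 := d3_2 F319681 (iv2 F224212) F264576
theorem F366454 : act 0 n106991 = n128383 := d20_4 (iv4 D106999) (iv1 D49432) (iv4 F78160) (iv3 F164909) (iv3 D128383) F94881 F54466 D54537 (iv3 F319666) (iv1 F164934)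
theorem F366455 : act 0 n156198 = n159433 := d20_10 F251063 (iv1 D155877) (iv4 D74137) F53332 (iv1 F25924) D34004 F319662 (iv1 F162016) D105553 (iv3 F245471)
theorem F366456 : act 3 n155787 = n126762 := d0_4 F319661 (iv2 F110883) F110884 (iv2 F244794) F203981
theorem F366457 : act 3 n145126 = n144755 := d7_3 (iv6 D144755) F319661 D145126
theorem F366458 : act 3 n127347 = n156767 := d6_3 (iv5 D156767) F319660 D127347
theorem F366459 : act 3 n136538 = n151181 := d8_3 F237882 F366458 F246602
theorem E103220 : n185893 = n135351 := (c21_4 (iv5 F139305) D182283 F283776 D185893 (iv1 D135351) (iv6 D63625) D63624 (iv1 F317263) (iv5 F319566) F319567 (iv1 F139303))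
theorem F366460 : act 2 n135351 = n185797 := (sb E103220 F288381)
theorem F366461 : act 3 n135351 = n132602 := (sb E103220 F354335)
theorem F366462 : act 4 n135351 = n94455 := (sb E103220 F288382)
theorem F366463 : act 5 n135351 = n180588 := (sb E103220 (iv5 F354336))
theorem F366464 : act 6 n135351 = n88537 := (sb E103220 (iv6 D185893))
theorem F366465 : act 7 n135351 = n132711 := (sb E103220 (iv7 F354337))
theorem F366466 : act 2 n132711 = n135350 := d15_3 (iv0 D135350) D135351 F366465
theorem F366467 : act 7 n185797 = n135350 := d4_2 (iv7 F366465) F366460 (iv2 F366466)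
theorem F366468 : act 1 n132711 = n135343 := d15_0 (iv0 F366373) F366467 (iv2 F366466)
theorem F366469 : act 3 n156950 = n178806 := d7_3 (iv6 D178806) F319507 D156950
theorem F366470 : act 0 n160075 = n155493 := d20_4 F319414 (iv1 D76662) (iv4 F114991) (iv3 F252623) (iv3 D155493) (iv4 D73957) (iv1 D33949) D33950 D73962 D155504
theorem F366471 : act 3 n151182 = n136539 := d7_3 (iv6 D136539) F319407 D151182
theorem F366472 : act 7 n137468 = n151182 := d8_0 F366471 F219639 (iv3 F220671)
theorem E103221 : n136281 = n93528 := ((c21_4 F293010 (iv1 D43734) D43736 D93528 (iv1 D136281) (iv6 F319387) (iv5 D103039) (iv1 D47769) D47770 F75029 D47774)).symm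
theorem F366473 : act 0 n93528 = n64070 := (sb E103221 (iv1 D136281))
theorem F366474 : act 3 n125089 = n108535 := d20_3 D108566 F319273 D125089 (iv1 D108535) (iv3 D50118) (iv4 D24446) (iv1 D11548) D11549 D24450 D50130
theorem F366475 : act 3 n140827 = n114470 := d6_3 (iv5 D114470) F319271 D140827
theorem F366476 : act 6 n142070 = n156636 := d7_2 F319265 D142070 (iv3 D156636)
theorem F366477 : act 6 n111246 = n151380 := d3_2 F319245 (iv2 F172550) (iv2 D151380)
theorem F366478 : act 6 n111248 = n145112 := d10_2 F319245 D111248 F228088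
theorem F366479 : act 6 n139602 = n123550 := d21_3 (iv5 D100862) (iv1 F157772) F365340 (iv1 D123550) F329437 F329113 D123535 (iv5 F335197) F366477 (iv1 F365256)
theorem F366480 : act 5 n123550 = n171014 := d12_1 F366479 (iv6 D171014) F126382 D99513 F365340
theorem F366481 : act 7 n123550 = n139409 := d14_2 (iv7 F365344) F366479 (iv6 D139409) (iv7 F205139) (iv6 F349995)
theorem F366482 : act 2 n139409 = n123549 := d15_3 (iv0 D123549) D123550 F366481
theorem F366483 : act 5 n123549 = n133587 := d2_2 (iv5 F356867) F366482 F214903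
theorem F366484 : act 6 n123549 = n108899 := d3_2 D139409 F366482 (iv2 F205140)
theorem F366485 : act 4 n125500 = n179114 := d20_6 F37810 (iv1 D13323) D13324 D27936 D58754 D125500 (iv1 F319237) F176263 F163609 (iv1 F77639)
theorem F366486 : act 2 n179115 = n125500 := d1_3 F366485 (iv2 D179114) D179115
theorem F366487 : act 4 n140580 = n106299 := d16_6 (iv4 D30904) (iv5 D14631) (iv4 F24299) D30868 D65973 D140580 (iv5 D106299) (iv7 F319132) F101730
theorem F366488 : act 6 n106302 = n140580 := d10_0 F366487 F163375 D106302
theorem F366489 : act 2 n146378 = n114490 := d2_3 (iv5 D114490) F319127 D146378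
theorem F366490 : act 0 n152626 = n133004 := d17_2 F319081 D152626 (iv5 D133004) (iv4 D62407) (iv5 D29510) F47319 F47317 F47329 D62427
theorem F366491 : act 5 n142408 = n179102 := d12_3 F319063 D66780 D142408 (iv6 D179102) (iv5 D85460)
theorem F366492 : act 0 n112026 = n96395 := d20_4 F93040 D58844 (iv4 F101545) D112026 (iv3 D96395) D96396 F148379 (iv4 D47798) (iv3 F75093) (iv1 F319033)
theorem F366493 : act 6 n155240 = n139693 := d10_2 F319032 D155240 (iv4 D139693)
theorem F366494 : act 7 n152880 = n155240 := d14_0 F366493 F349400 (iv6 D115351) (iv7 F170806) F360853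
theorem F366495 : act 3 n130862 = n136696 := d6_3 F318995 F311081 D130862
theorem F366496 : act 3 n123382 = n131149 := d8_3 F210053 F366495 F318996
theorem F366497 : act 3 n124676 = n136695 := d0_4 F366496 F210052 (iv3 F315788) (iv2 F199441) F318990
theorem F366498 : act 3 n146341 = n113911 := d7_3 F177204 F318941 D146341
theorem F366499 : act 3 n147959 = n152512 := d6_3 (iv5 D152512) F318934 D147959
theorem F366500 : act 3 n146559 = n152509 := d7_3 (iv6 D152509) F318933 D146559
theorem F366501 : act 3 n117357 = n152273 := d8_3 (iv7 F239342) F318933 F183794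
theorem F366502 : act 3 n157218 = n118247 := d6_3 (iv5 D118247) F318746 D157218
theorem F366503 : act 6 n145149 = n144401 := d10_2 F318727 D145149 (iv4 D144401)
theorem F366504 : act 3 n133571 = n145149 := d7_3 F366503 F227175 (iv6 F214870)
theorem F366505 : act 7 n155710 = n167086 := d8_2 F318535 D155710 F263171
theorem F366506 : act 2 n162624 = n155710 := d4_3 F366505 F263170 (iv7 F303410)
theorem F366507 : act 5 n162623 = n155710 := d13_3 F366505 (iv5 D167086) (iv7 F303409)
theorem F366508 : act 6 n162803 = n155710 := d14_5 F366505 F263172 (iv7 F304834) D101671 F333803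
theorem F366509 : act 1 n173364 = n155710 := d15_1 D173364 F366505 F263170
theorem F366510 : act 0 n173363 = n155710 := d21_4 (iv5 F237111) (iv1 F349896) (iv5 F349893) (iv6 F349897) (iv6 F366508) (iv5 D162803) D162799 (iv5 F342327) (iv6 F362167) F362163
theorem F366511 : act 3 n153563 = n108081 := d5_5 F167109 F318478 D152757 F239954 (iv4 F241373)
theorem F366512 : act 3 n152758 = n156258 := d6_3 (iv5 D156258) F318478 D152758
theorem F366513 : act 3 n152324 = n156259 := d8_3 (iv7 D156259) F318478 (iv7 F239959)
theorem F366514 : act 2 n178664 = n135733 := d3_3 F218251 F318477 D178664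
theorem F366515 : act 1 n178661 = n135739 := d15_1 D178661 (iv7 D135739) F318477
theorem F366516 : act 1 n135736 = n178568 := d15_1 D135736 F278306 (iv2 F318477)
theorem F366517 : act 3 n178661 = n156023 := d20_5 (iv4 D34036) (iv1 F48400) (iv4 F99218) (iv3 F218266) (iv1 F366515) F245625 (iv1 D156307) (iv4 F245024) (iv3 D155981) (iv1 F110955)
theorem F366518 : act 0 n178649 = n156051 := d20_10 F245184 (iv1 F245629) (iv4 F245625) (iv3 F366517) (iv1 D178661) (iv3 D85099) (iv4 D39349) D39347 D85093 D178649
theorem F366519 : act 1 n178649 = n155981 := d15_1 (iv0 F366518) F245026 D156051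
theorem F366520 : act 6 n116709 = n155719 := d10_2 F318411 D116709 (iv4 D155719)
theorem F366521 : act 3 n108468 = n154752 := d20_3 F167848 (iv1 F167186) (iv4 F167701) (iv1 D154752) (iv3 D73387) F86064 (iv1 D54490) D54491 (iv3 F318404) D65160
theorem F366522 : act 7 n154752 = n108464 := d8_2 D108468 F366521 F167699
theorem F366523 : act 2 n108464 = n154751 := d15_3 (iv0 D154751) D154752 F366522
theorem F366524 : act 6 n154751 = n108462 := d3_2 D108464 F366523 (iv2 D108462)
theorem F366525 : act 0 n155728 = n138970 := d20_7 (iv4 F92377) (iv1 F110860) F110861 (iv3 F315151) F315150 (iv3 F185791) (iv4 F244738) (iv4 D138970) (iv3 F318396) (iv1 F85702)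
theorem F366526 : act 0 n156636 = n118251 := d20_10 (iv4 F244738) F366525 (iv4 D138970) (iv3 F318396) (iv1 F85702) (iv3 F92223) (iv4 F200564) (iv1 F363749) (iv4 D156637) D156636
theorem F366527 : act 2 n151281 = n138970 := d15_3 (iv0 F366525) F356607 F363705
theorem F366528 : act 7 n138970 = n148655 := d4_2 F363705 F366527 (iv2 F363704)
theorem F366529 : act 1 n179092 = n138970 := d15_1 (iv0 F363706) F366528 (iv2 F363704)
theorem F366530 : act 7 n138924 = n119252 := d4_2 F318389 (iv2 F222109) F187696
theorem F366531 : act 1 n138924 = n151277 := d15_0 (iv0 D151277) F318389 (iv2 F222109)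
theorem F366532 : act 1 n119252 = n138941 := d15_0 (iv0 D138941) (iv7 F318389) (iv2 F187696)
theorem F366533 : act 1 n151278 = n138924 := d15_1 D151278 F366530 F187696
theorem F366534 : act 1 n138942 = n119252 := d15_1 D138942 (iv7 F366530) F222109
theorem F366535 : act 4 n138942 = n150853 := d20_8 (iv4 F246247) F353407 F322939 F227732 (iv1 D72729) (iv3 F86824) (iv4 F187697) (iv1 F366534) (iv3 D150853) F317006
theorem F366536 : act 4 n151278 = n156636 := d20_2 (iv4 F222110) (iv1 F366533) (iv3 D156636) (iv1 F316994) (iv3 F162673) (iv4 F244707) F353413 (iv4 F334430) F233154 F318259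
theorem F366537 : act 6 n116495 = n151278 := d10_0 F366536 (iv6 F366476) F225083
theorem F366538 : act 2 n119620 = n137030 := d0_3 F318377 F112364 D119620 (iv3 D137030) (iv2 F111486)
theorem F366539 : act 3 n157412 = n156163 := d7_3 (iv6 D156163) F318377 (iv6 F247900)
theorem E103222 : n156147 = n119631 := ((c20_4 F247908 F239365 (iv4 F185673) D119631 (iv1 D156147) F111477 F53496 D34083 D74286 F318377 D157414)).symm
theorem F366540 : act 0 n119631 = n74280 := (sb E103222 (iv1 D156147))
theorem F366541 : act 0 n137037 = n119006 := d20_4 F245106 (iv1 F203900) (iv4 F175909) D137037 (iv3 D119006) (iv4 D54763) F54436 D74861 (iv3 F318377) (iv1 F245109)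
theorem F366542 : act 3 n152940 = n157172 := d6_3 F247344 F318355 D152940
theorem F366543 : act 7 n157162 = n152940 := d8_0 F366542 (iv7 D157172) (iv3 F247334)
theorem F366544 : act 3 n178656 = n156030 := d7_3 (iv6 D156030) F318315 D178656
theorem E103223 : n118167 = n108112 := (c5_4 F318298 F85972 D54437 D118167 F167195 (iv3 F167161))
theorem F366545 : act 3 n108112 = n54437 := (sb E103223 (iv3 D118167))
theorem F366546 : act 3 n150044 = n126772 := d0_4 F366545 F85973 D70593 D150044 F204018
theorem F366547 : act 6 n113090 = n150044 := d7_0 F366546 (iv6 D126772) F176181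
theorem F366548 : act 3 n178930 = n130542 := d20_3 (iv4 F318269) D85314 D178930 (iv1 D130542) (iv3 D61250) (iv4 D28997) (iv1 D13802) D13803 D29001 D61258
theorem F366549 : act 0 n108056 = n179897 := d20_1 (iv4 F167060) F280180 (iv3 D178869) (iv1 D85280) (iv3 F316057) (iv4 F318269) D85314 D178930 F366548 (iv1 D130542)
theorem F366550 : act 6 n148645 = n132508 := d7_2 F318246 D148645 F212651
theorem F366551 : act 4 n101364 = n157457 := d18_5 (iv1 F242859) (iv4 D75030) (iv1 F305552) D47181 D101364 (iv0 F318150) F318152 (iv0 D154690) D154692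
theorem F366552 : act 6 n167809 = n101364 := d10_0 F366551 F248075 D167809
theorem F366553 : act 0 n163186 = n101364 := d18_2 F309673 (iv4 F257475) F366551 (iv5 D157457) (iv4 F162876) (iv0 F309043) F309046 (iv0 D74890) (iv5 F105555)
theorem F366554 : act 5 n101454 = n167809 := d12_5 F366552 (iv5 D101364) F74464 D47210 D101454
theorem F366555 : act 4 n95823 = n101454 := d9_15 F366554 (iv4 D167809) (iv5 D80529) D80528 F333990 (iv4 F340309) F340350 (iv4 F352715) F352716 (iv4 D60153) (iv5 D28585) (iv4 F46157) D60139 (iv4 F352717) (iv5 F147505)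
theorem E103224 : n148527 = n143494 := ((c10_3 F317917 F318078 D143494 F233288)).symm
theorem F366556 : act 2 n143494 = n69607 := (sb E103224 (iv2 D148527))
theorem F366557 : act 4 n143494 = n69619 := (sb E103224 F233288)
theorem F366558 : act 1 n143493 = n160114 := d17_6 (iv1 F191171) (iv5 D48991) F191156 D79760 F318078 D143493 (iv5 D160114) (iv0 F185064) (iv4 D70144)
theorem F366559 : act 2 n166122 = n143493 := d15_3 F366558 (iv0 F314580) F314581
theorem F366560 : act 7 n142415 = n154987 := d11_2 F318077 (iv4 F225324) (iv4 D154987)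
theorem E103225 : n158470 = n144476 := ((c10_2 F318066 D144476 (iv6 D158470) (iv4 F307280))).symm
theorem F366561 : act 6 n144476 = n75597 := (sb E103225 (iv6 D158470))
theorem F366562 : act 3 n148538 = n144476 := d7_3 F366561 (iv3 F307279) (iv6 F233297)
theorem F366563 : act 3 n150690 = n138330 := d6_3 F221529 F318064 D150690
theorem F366564 : act 7 n138316 = n150690 := d8_0 F366563 (iv7 D138330) (iv3 F221511)
theorem F366565 : act 5 n148484 = n131258 := d6_2 F317797 D148484 (iv3 D131258)
theorem F366566 : act 3 n148536 = n166122 := d6_3 (iv5 D166122) F317789 D148536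
theorem F366567 : act 3 n178375 = n146576 := d6_3 (iv5 F231751) F317779 D178375
theorem F366568 : act 3 n158497 = n130212 := d7_3 (iv6 D130212) F317567 D158497
theorem F366569 : act 0 n158497 = n130043 := d20_4 D132626 F363247 (iv4 F208734) (iv3 F366568) (iv3 D130043) (iv4 F323383) (iv1 D41328) D41329 D88538 (iv1 F341748)
theorem F366570 : act 6 n180746 = n174020 := d21_5 F317493 F296721 D39951 (iv6 F132314) D180746 (iv5 D174020) (iv1 D83200) D83201 F128280 F317555
theorem F366571 : act 5 n130775 = n165197 := d6_2 F317526 (iv3 F209344) F260459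
theorem F366572 : act 7 n170259 = n184237 := d8_2 F317488 (iv3 F267771) F286165
theorem F366573 : act 0 n156213 = n138729 := d20_7 (iv4 F317323) (iv1 F38211) (iv4 F53652) D74493 (iv1 F317397) (iv3 F167379) (iv4 F245492) F221880 (iv3 D65141) (iv1 F316091)
theorem F366574 : act 6 n149223 = n115643 := d12_2 F317369 D149223 F180010 (iv6 F174303) F174302
theorem F366575 : act 3 n178713 = n149223 := d7_3 F366574 (iv3 F361868) F363698
theorem F366576 : act 4 n115644 = n149223 := d10_3 F366574 (iv4 D115643) D115644
theorem F366577 : act 5 n149145 = n115644 := d16_3 D149216 (iv5 F338055) (iv4 F338054) F366576 (iv5 D149223) (iv4 D70040) D70041 (iv7 F234305) (iv2 F234304)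
theorem F366578 : act 6 n115647 = n149145 := d12_0 F366577 (iv6 D115644) (iv5 D53335) D53336 D115647
theorem F366579 : act 5 n149222 = n178713 := d6_0 F366575 (iv5 D149223) D149222
theorem F366580 : act 0 n179906 = n108145 := d18_0 F216972 (iv1 D134826) (iv4 F166940) F317336 (iv4 D85963) F312677 (iv4 F96856) (iv0 F316157) D179906
theorem F366581 : act 2 n108585 = n179744 := d16_9 F279969 (iv5 D150237) F107179 F155150 D85963 (iv5 F317336) F166940 (iv5 F167718) (iv7 F167920)
theorem F366582 : act 6 n144471 = n153562 := d10_2 F317329 D144471 F241378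
theorem F366583 : act 3 n151963 = n101575 := d6_3 (iv5 D101575) F317257 D151963
theorem F366584 : act 3 n151494 = n98096 := d0_2 F317256 (iv2 F238334) (iv2 F156451) (iv3 F155421) F156440
theorem F366585 : act 3 n151960 = n101573 := d7_3 (iv6 D101573) F317256 D151960
theorem F366586 : act 3 n151499 = n89128 := d8_3 F156433 F317256 (iv7 F238349)
theorem F366587 : act 7 n149575 = n155507 := d13_2 F317169 D149575 (iv5 D155507)
theorem F366588 : act 3 n119865 = n149575 := d8_3 F366587 F244525 (iv7 F189205)
theorem F366589 : act 6 n111780 = n104807 := d21_3 (iv5 D68457) D68456 (iv5 F173478) (iv1 D104807) (iv6 D48455) (iv5 D23617) (iv1 F66548) D23003 (iv6 F70343) (iv1 F317120)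
theorem F366590 : act 2 n104807 = n111781 := d3_1 F366589 (iv6 D111781) D111780
theorem F366591 : act 4 n104807 = n131671 := d10_1 F366589 F333681 (iv4 F173477)
theorem F366592 : act 0 n134848 = n125089 := d20_10 (iv4 D125089) (iv1 D58475) (iv4 F317012) F317011 D58378 D124867 F314696 F222128 (iv4 D134849) D134848
theorem F366593 : act 7 n156636 = n150853 := d8_2 F317000 D156636 (iv3 D150853)
theorem F366594 : act 7 n138942 = n151278 := d11_2 F366593 (iv4 F366535) F366536
theorem F366595 : act 2 n151278 = n138941 := d15_3 (iv0 D138941) D138942 F366594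
theorem F366596 : act 2 n138942 = n151277 := d15_3 (iv0 D151277) D151278 (iv7 F366594)
theorem F366597 : act 7 n151277 = n138941 := d4_2 (iv7 F366594) F366596 (iv2 F366595)
theorem F366598 : act 6 n138941 = n102011 := d3_2 F366537 F366595 (iv2 F356241)
theorem F366599 : act 3 n102013 = n138941 := d7_3 F366598 (iv3 D102011) D102013
theorem F366600 : act 0 n147906 = n156602 := d20_4 (iv4 D147902) (iv1 D69294) D69295 D147906 (iv3 D156602) (iv4 D74465) (iv1 D34152) (iv4 F53636) (iv3 F111764) (iv1 F316989)
theorem F366601 : act 1 n143503 = n149378 := d17_6 F316940 (iv5 F315962) (iv1 F222363) F101051 (iv4 F103153) (iv5 F226218) (iv5 D149378) D149376 (iv4 F234897)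
theorem F366602 : act 7 n154745 = n177058 := d8_2 F316886 (iv3 F243417) (iv3 D177058)
theorem F366603 : act 7 n146378 = n114635 := d13_2 F316823 D146378 (iv5 D114635)
theorem F366604 : act 2 n114635 = n157726 := d4_1 F366603 F248582 (iv2 F366489)
theorem F366605 : act 3 n114635 = n117314 := d8_1 F366603 F183680 (iv3 F229705)
theorem F366606 : act 3 n159347 = n146492 := d6_1 F316761 F229817 D159871
theorem F366607 : act 6 n146492 = n155580 := d7_2 (iv6 F250854) F366606 F244597
theorem F366608 : act 0 n130614 = n145007 := d21_4 (iv5 D29017) D29014 D61287 D130614 (iv6 D145007) (iv5 D67982) F314384 (iv5 F314386) (iv6 F316736) F83543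
theorem F366609 : act 6 n156394 = n150076 := d21_3 (iv5 F316717) F245509 F245868 (iv1 F236157) F107084 (iv5 F227910) F236558 F236557 (iv6 D149072) F155119
theorem E103226 : n156362 = n124791 := (c15_2 F316707 D156362 F200459 (iv2 F200456))
theorem F366610 : act 0 n124791 = n74371 := (sb E103226 (iv1 D156362))
theorem F366611 : act 1 n124791 = n74376 := (sb E103226 F245729)
theorem F366612 : act 6 n135392 = n153281 := d3_2 F253123 F316615 (iv2 F253120)
theorem F366613 : act 7 n127955 = n147934 := d13_2 F316575 D127955 (iv5 D147934)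
theorem F366614 : act 0 n157184 = n177290 := d20_1 (iv4 F247377) F276669 F311377 (iv1 F92495) F316488 F49359 (iv1 F47167) F316118 (iv3 F184332) F314355
theorem F366615 : act 1 n139080 = n125177 := d15_1 F245704 F201221 (iv2 F316481)
theorem F366616 : act 2 n108142 = n179908 := d2_1 F316480 (iv5 D179908) F232983
theorem F366617 : act 7 n108142 = n179906 := d13_2 F232986 F316480 (iv5 D179906)
theorem F366618 : act 2 n179906 = n108141 := d15_3 (iv0 D108141) D108142 F366617
theorem F366619 : act 7 n179908 = n108141 := d4_2 (iv7 F366617) F366616 (iv2 F366618)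
theorem F366620 : act 3 n170478 = n114834 := d7_3 (iv6 D114834) F316379 D170478
theorem F366621 : act 4 n114834 = n147277 := d20_6 F230834 (iv1 F183345) (iv4 F318646) (iv3 F178858) F355438 F366620 (iv1 D147277) (iv4 F230827) F230826 D147239
theorem F366622 : act 3 n179652 = n147277 := d5_5 (iv4 F366621) (iv3 F366620) F267926 (iv3 F267906) (iv4 F353468)
theorem F366623 : act 6 n147277 = n114832 := d7_2 F353466 F366622 (iv3 F352374)
theorem F366624 : act 4 n170545 = n152011 := d1_2 F316370 D170545 F247841
theorem F366625 : act 2 n140999 = n179926 := d1_3 (iv4 D179926) F316368 D140999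
theorem F366626 : act 6 n179892 = n140999 := d3_0 F366625 F280206 (iv2 F280157)
theorem E103227 : n126322 = n119335 := ((c21_1 D119335 (iv1 D126322) (iv5 F316279) F316280 (iv1 F175153) F315492 (iv5 F303649) (iv1 F149936) F300854 (iv6 D55029) (iv1 F184588))).symm
theorem F366627 : act 0 n119335 = n59219 := (sb E103227 (iv1 D126322))
theorem F366628 : act 4 n149328 = n136830 := d20_6 F27062 D16588 (iv4 F49755) D65074 (iv1 F316231) (iv3 F306079) (iv1 D136830) F100288 F49201 F27063
theorem F366629 : act 6 n136830 = n150554 := d10_2 (iv6 F306080) F366628 (iv4 D150554)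
theorem F366630 : act 7 n136830 = n179596 := d11_2 (iv7 F306081) F366628 F279696
theorem F366631 : act 2 n179596 = n136829 := d15_3 (iv0 D136829) D136830 F366630
theorem F366632 : act 4 n136829 = n106007 := d1_2 (iv4 F279696) F366631 F306055
theorem F366633 : act 2 n156167 = n178667 := d3_3 (iv6 D178667) F316202 D156167
theorem F366634 : act 6 n156226 = n157414 := d14_5 F247911 F316171 (iv7 D74316) D74315 D156226
theorem F366635 : act 5 n179594 = n136649 := d6_2 F316158 D179594 (iv3 D136649)
theorem E103228 : n155726 = n112989 := (c7_2 F316040 D155726 (iv6 D112989) D112986)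
theorem F366636 : act 3 n112989 = n74083 := (sb E103228 (iv3 D155726))
theorem F366637 : act 5 n112989 = n103589 := (sb E103228 F365242)
theorem F366638 : act 7 n138315 = n150688 := d15_2 F315863 D138315 F237237
theorem F366639 : act 2 n150687 = n138315 := d4_3 F366638 F237237 F237235
theorem F366640 : act 1 n138315 = n150685 := d15_0 F237229 F237235 F366639
theorem F366641 : act 7 n138305 = n156473 := d8_2 F315858 D138305 (iv3 D156473)
theorem F366642 : act 4 n156473 = n178827 := d11_1 F366641 (iv7 F366284) F247492
theorem F366643 : act 0 n111129 = n178690 := d20_4 D51284 F80893 (iv4 F80851) (iv3 F172341) (iv3 D178690) (iv4 D85131) (iv1 F130429) (iv4 F315807) (iv3 D111189) (iv1 D51283)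
theorem F366644 : act 5 n99032 = n146911 := d21_8 F361301 (iv1 F329724) (iv5 D89578) (iv6 D41834) (iv1 F64461) (iv6 F346308) (iv5 F346311) D99032 (iv6 F343209) F366643
theorem F366645 : act 5 n179640 = n124666 := d6_2 F315768 D179640 F199414
theorem F366646 : act 0 n131551 = n152926 := d21_4 (iv5 D61717) (iv1 F79184) (iv5 F96327) D131551 (iv6 D152926) (iv5 D72179) (iv1 F188321) D120196 F189855 (iv1 F315648)
theorem F366647 : act 0 n133005 = n101757 := d20_4 (iv4 D133751) (iv1 F210393) (iv4 F210598) (iv3 F213660) F156631 F74532 (iv1 F156364) F155181 (iv3 F315646) F235424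
theorem F366648 : act 1 n143514 = n148554 := d18_6 (iv1 F123870) F123868 F191182 (iv4 F77262) F314153 (iv4 F226223) (iv4 D148554) F184800 F315619
theorem F366649 : act 0 n95327 = n170409 := d20_4 F315580 F307407 F296545 (iv3 F146968) (iv3 D170409) (iv4 D81704) (iv1 F71703) F71699 F34142 (iv1 F70144)
theorem F366650 : act 5 n131666 = n172029 := d21_6 F122975 (iv1 F112934) (iv5 D75320) D75321 (iv1 F315460) D131666 (iv1 D172029) (iv5 D82392) (iv6 D37788) D37786
theorem F366651 : act 3 n172029 = n103168 := d6_1 F366650 F358085 (iv3 F211024)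
theorem F366652 : act 5 n133100 = n123968 := d17_5 F206390 F315350 F207245 (iv5 F212575) F213744 (iv0 D123968) (iv5 D57752) D57749 D123958
theorem F366653 : act 3 n123968 = n150118 := d6_1 F366652 F236271 (iv3 F314245)
theorem F366654 : act 6 n123968 = n139289 := d12_2 (iv6 F314246) F366652 F357473 D139359 (iv5 F357491)
theorem F366655 : act 7 n123968 = n150108 := d13_2 F315098 F366652 (iv5 D150108)
theorem F366656 : act 0 n123968 = n132793 := d17_2 F315089 F366652 (iv5 D132793) (iv4 D62324) (iv5 D29483) D29480 D62313 F314207 D75641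
theorem F366657 : act 2 n123136 = n132793 := d15_3 (iv0 F366656) (iv0 D123968) (iv7 F197327)
theorem F366658 : act 5 n123970 = n132785 := d16_5 (iv4 D61092) F315286 (iv4 D57751) D57752 D123970 (iv4 D132785) (iv5 D62320) F47280 (iv2 F95606)
theorem F366659 : act 3 n152034 = n120524 := d7_3 (iv6 D120524) F315263 D152034
theorem F366660 : act 3 n107930 = n120327 := d8_3 F191631 F315263 (iv7 F166794)
theorem F366661 : act 2 n124791 = n138506 := d15_3 (iv0 D138506) F315250 (iv7 F200459)
theorem F366662 : act 6 n138506 = n128013 := d3_2 F241488 F366661 (iv2 F241487)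
theorem F366663 : act 7 n138506 = n124789 := d4_2 (iv7 F200459) F366661 F200456
theorem F366664 : act 6 n108136 = n150034 := d7_2 F315169 D108136 (iv3 D150034)
theorem F366665 : act 6 n118862 = n139101 := d10_2 F366664 F236050 F222289
theorem E103229 : n179232 = n108031 := ((c15_1 D108031 (iv0 D179232) (iv7 F315144) (iv2 D108032))).symm
theorem F366666 : act 1 n108031 = n85534 := (sb E103229 (iv0 D179232))
theorem F366667 : act 5 n108031 = n111248 := (sb E103229 F364009)
theorem F366668 : act 5 n130438 = n101482 := d21_6 (iv5 D22591) (iv1 F34787) (iv5 F51872) D70638 F315096 D130438 (iv1 D101482) (iv5 D47220) (iv6 D22714) F35132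
theorem F366669 : act 3 n101482 = n130875 := d6_1 F366668 (iv5 D130875) (iv3 F208949)
theorem F366670 : act 0 n154494 = n175625 := d20_7 (iv4 F306749) (iv1 D124051) (iv4 D57791) F44478 D33695 D73182 D154494 (iv4 D175625) (iv3 F315065) (iv1 F129934)
theorem F366671 : act 6 n172026 = n146987 := d12_2 F315047 D172026 (iv5 D146987) F105074 (iv5 F72633)
theorem F366672 : act 4 n130484 = n120486 := d1_2 D120487 F315038 (iv2 D120486)
theorem F366673 : act 6 n120486 = n100774 := d10_2 D130484 F366672 (iv4 F312371)
theorem F366674 : act 0 n120486 = n122798 := d20_1 F366672 (iv4 F240569) (iv3 F348442) F348440 (iv3 F317040) (iv4 D118629) (iv1 F86345) D63262 D134626 (iv1 F344796)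
theorem F366675 : act 6 n155118 = n157070 := d21_9 (iv5 F311947) (iv1 F314364) (iv5 F314998) (iv6 D54394) (iv1 F41922) D38549 (iv5 F77329) (iv1 F189985) D155118 (iv1 F247164)
theorem F366676 : act 5 n106254 = n148593 := d21_8 (iv5 D114163) (iv1 F290268) F106685 (iv6 D49136) (iv1 D23976) D23978 (iv5 F77516) D106254 F314924 (iv1 F313074)
theorem F366677 : act 3 n148594 = n106254 := d6_3 F366676 (iv3 D148593) D148594
theorem F366678 : act 3 n153173 = n127340 := d5_3 F314883 D72291 D153173 (iv4 D127340) F94141
theorem F366679 : act 1 n138509 = n124884 := d15_1 F314708 (iv7 D124884) (iv2 F200389)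
theorem F366680 : act 1 n124884 = n138528 := d15_1 F366679 (iv7 F350067) F350063
theorem F366681 : act 6 n169883 = n154705 := d3_2 F314685 (iv2 F267308) (iv2 F242872)
theorem F366682 : act 7 n139161 = n118871 := d13_2 F314670 D139161 (iv5 D118871)
theorem F366683 : act 2 n139161 = n118863 := d15_3 (iv0 F251015) F251016 (iv7 F366682)
theorem F366684 : act 0 n150763 = n146341 := d21_4 F189430 F114523 F114522 D150763 (iv6 D146341) (iv5 D68622) (iv1 F94387) (iv5 F314417) (iv6 D119996) D119994
theorem F366685 : act 5 n123242 = n122343 := d17_7 F311812 (iv5 F311814) (iv1 F191332) F308942 F90512 D57365 D123242 F314400 F166831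
theorem F366686 : act 2 n170887 = n123242 := d2_3 F366685 F195649 D170887
theorem F366687 : act 2 n157162 = n153689 := d2_3 (iv5 D153689) F314358 D157162
theorem F366688 : act 4 n156316 = n124740 := d10_3 (iv6 D124740) F314347 D156316
theorem E103230 : n178900 = n139624 := (c20_4 (iv4 F314347) F190639 D85303 D178900 (iv1 D139624) (iv3 D65531) (iv4 D30717) (iv1 F24212) D16516 D34107 D74352)
theorem F366689 : act 2 n139624 = n134209 := (sb E103230 F351349)
theorem F366690 : act 3 n139624 = n85303 := (sb E103230 (iv3 D178900))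
theorem F366691 : act 4 n139624 = n85305 := (sb E103230 F278778)
theorem F366692 : act 7 n139624 = n134210 := (sb E103230 (iv7 F351350))
theorem F366693 : act 2 n134210 = n139623 := d15_3 (iv0 D139623) D139624 F366692
theorem F366694 : act 7 n134209 = n139623 := d4_2 (iv7 F366692) F366689 (iv2 F366693)
theorem F366695 : act 0 n145149 = n156316 := d18_2 F341074 D145149 F366688 F199619 F335109 F358013 (iv4 D116181) F341030 F341029
theorem F366696 : act 7 n153977 = n147598 := d13_2 F314298 D153977 (iv5 D147598)
theorem F366697 : act 3 n146779 = n153977 := d8_3 F366696 F231387 F230288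
theorem F366698 : act 2 n123988 = n130872 := d3_3 (iv6 D130872) F314238 D123988
theorem F366699 : act 5 n182226 = n153387 := d2_2 (iv5 F241526) F314204 F240943
theorem F366700 : act 7 n182226 = n153390 := d4_2 D153651 F314204 F240950
theorem F366701 : act 1 n182226 = n153648 := d15_0 (iv0 D153648) D153651 F314204
theorem F366702 : act 1 n153649 = n182226 := d15_1 D153649 F366700 F240950
theorem F366703 : act 7 n174020 = n172263 := d13_2 F314201 D174020 (iv5 D172263)
theorem F366704 : act 2 n152679 = n174020 := d4_3 F366703 (iv2 F362736) (iv7 F352110)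
theorem F366705 : act 7 n89341 = n100905 := d13_2 F314199 D89341 (iv5 D100905)
theorem F366706 : act 2 n100905 = n89346 := d15_3 (iv0 F274661) (iv0 F156485) F366705
theorem F366707 : act 5 n95793 = n102253 := d13_1 F314188 F157091 D102266
theorem F366708 : act 6 n102253 = n103668 := d12_2 D95793 F366707 (iv5 D103668) (iv6 D48014) (iv5 F70327)
theorem F366709 : act 6 n164621 = n102257 := d21_5 (iv5 D21309) D21306 (iv5 F56739) D79100 D164621 (iv5 D102257) D102253 (iv5 F366707) (iv6 D95793) (iv1 D44736)
theorem F366710 : act 3 n101927 = n179983 := d6_3 (iv5 D179983) F314170 D101927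
theorem F366711 : act 2 n149192 = n175517 := d0_3 (iv3 F156911) F314168 (iv3 F234562) F274846 (iv2 F274800)
theorem F366712 : act 4 n102318 = n175517 := d11_3 F274847 F314162 D102318
theorem F366713 : act 5 n140059 = n160109 := d6_2 F314111 (iv3 F223267) F252708
theorem F366714 : act 1 n100433 = n140059 := d17_6 (iv1 D100393) D100394 (iv1 F364538) (iv5 D124819) (iv4 F200480) (iv5 F338889) F366713 (iv0 F342634) (iv4 F338850)
theorem F366715 : act 0 n101477 = n181149 := d21_4 F106842 (iv1 F311634) (iv5 F314109) (iv6 F304184) (iv6 D181149) F132703 (iv1 F132438) (iv5 D86393) (iv6 F296240) D55423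
theorem F366716 : act 1 n122298 = n181149 := d15_0 (iv0 F366715) (iv7 F364922) (iv2 F364923)
theorem F366717 : act 0 n149225 = n150087 := d20_1 D149225 F236185 (iv3 F313934) (iv1 D139269) (iv3 D65366) (iv4 F104782) (iv1 D49881) (iv4 F38224) (iv3 F79093) (iv1 F310497)
theorem F366718 : act 6 n152024 = n99554 := d10_0 F313765 F306000 (iv4 F239040)
theorem F366719 : act 5 n154268 = n152024 := d21_2 D73086 D154268 F366718 F315418 D101137 (iv5 F156640) F339120 (iv5 F339010) F339124 (iv1 D73085)
theorem F366720 : act 7 n178649 = n156049 := d8_2 F313699 D178649 F245183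
theorem F366721 : act 6 n152747 = n156049 := d7_2 F313698 D152747 F245183
theorem F366722 : act 2 n107963 = n171052 := d2_3 (iv5 D171052) F313614 D107963
theorem F366723 : act 3 n150093 = n107963 := d0_0 F366722 F268773 F126397 (iv3 F234109) (iv2 F236199)
theorem F366724 : act 6 n102597 = n107963 := d3_0 F366722 (iv6 F360986) F362216
theorem F366725 : act 5 n107959 = n102597 := d12_5 F366724 (iv5 D107963) (iv6 D49862) D49861 D107959
theorem F366726 : act 3 n173495 = n119182 := d6_3 F187532 F313364 D173495
theorem F366727 : act 2 n100508 = n173495 := d0_5 F366726 (iv2 F210619) F357932 F272724 D100508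
theorem F366728 : act 5 n173447 = n100508 := d2_0 F366727 (iv5 D173495) (iv2 F279300)
theorem F366729 : act 7 n100508 = n173514 := d13_2 (iv7 F279301) F366728 (iv5 D173514)
theorem F366730 : act 3 n173514 = n99370 := d8_1 F366729 F272730 D100508
theorem E103231 : n159594 = n148451 := (c10_3 D148494 F313179 D159594 F232199)
theorem F366731 : act 6 n148451 = n76351 := (sb E103231 (iv6 D159594))
theorem F366732 : act 6 n98890 = n124779 := d7_2 F312924 D98890 F200449
theorem E103232 : n177282 = n152888 := (c14_2 F312887 D177282 F240091 F109048 (iv7 F107719) D151156)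
theorem F366733 : act 6 n152888 = n84460 := (sb E103232 (iv6 D177282))
theorem F366734 : act 0 n152883 = n177255 := d20_7 (iv4 F312881) F312879 F299162 F308110 (iv1 F231689) F243063 D152883 (iv4 D177255) (iv3 D84452) F299123
theorem E103233 : n151993 = n120473 := ((c20_5 F44237 D35347 F91405 D55460 D120473 (iv3 D151993) F108151 (iv1 D49851) D49852 (iv3 F312878) F91391)).symm
theorem F366735 : act 3 n120473 = n71663 := (sb E103233 (iv3 D151993))
theorem F366736 : act 4 n120473 = n74893 := (sb E103233 F239008)
theorem F366737 : act 6 n120473 = n152619 := (sb E103233 F239823)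
theorem F366738 : act 7 n120473 = n107934 := (sb E103233 F239009)
theorem F366739 : act 6 n108526 = n181323 := d7_2 F312852 (iv3 F167791) (iv3 D181323)
theorem F366740 : act 2 n181323 = n108528 := d3_1 F366739 (iv6 D108528) D108526
theorem F366741 : act 1 n181323 = n140358 := d15_0 (iv0 F350369) F363314 (iv2 F366740)
theorem F366742 : act 3 n179741 = n134861 := d19_3 (iv1 F312685) (iv5 F306515) D179741 (iv1 D134861) (iv5 D63378) F48142 (iv3 D25296) D25294 (iv5 F47691) (iv4 D29672) (iv3 F47684) (iv1 F95770) (iv5 D61287) F46652 (iv3 D24305) (iv1 D11444) D11446 D24314 D49860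
theorem F366743 : act 3 n114372 = n153319 := d5_3 D179741 F366742 (iv4 F351257) (iv4 D153319) F308336
theorem F366744 : act 3 n101551 = n135394 := d6_1 F312670 (iv5 D135394) D135393
theorem F366745 : act 7 n173421 = n98515 := d13_2 F312633 D173421 (iv5 D98515)
theorem F366746 : act 3 n89051 = n173421 := d8_3 F366745 F151913 (iv7 F268260)
theorem F366747 : act 2 n133676 = n123930 := d3_3 (iv6 D123930) F312442 D133676
theorem F366748 : act 3 n131173 = n175092 := d6_3 (iv5 D175092) F312380 D131173
theorem F366749 : act 3 n152204 = n175200 := d7_3 (iv6 F336409) F366748 F274069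
theorem E103234 : n184039 = n124676 := (c17_3 (iv1 F75771) D87792 (iv1 F285990) (iv5 D124676) (iv4 F94584) F312246 F53640 (iv5 F245845) (iv0 D74381) (iv4 F307268))
theorem F366750 : act 0 n124676 = n87787 := (sb E103234 (iv1 D184039))
theorem F366751 : act 1 n124676 = n87792 := (sb E103234 F285990)
theorem F366752 : act 0 n124785 = n140576 := d21_4 (iv5 D124676) (iv1 F199718) D58340 D124785 F358547 (iv5 D136552) (iv1 F218616) F338903 (iv6 D184048) (iv1 F366751)
theorem F366753 : act 1 n124785 = n140573 := d15_1 (iv0 F366752) (iv7 F358533) F358532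
theorem E103235 : n159987 = n148439 := ((c7_2 F312186 D148439 (iv6 D159987) (iv3 F312185))).symm
theorem F366754 : act 6 n148439 = n76598 := (sb E103235 (iv6 D159987))
theorem F366755 : act 3 n159986 = n157355 := d6_3 F247665 F312185 D159986
theorem E103236 : n127835 = n125508 := (c10_2 F312158 F250976 (iv6 D125508) D125506)
theorem F366756 : act 3 n125508 = n60031 := (sb E103236 (iv3 D127835))
theorem F366757 : act 4 n125508 = n159393 := (sb E103236 (iv4 F250976))
theorem F366758 : act 5 n125508 = n153781 := (sb E103236 (iv5 F241636))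
theorem F366759 : act 3 n131487 = n99368 := d8_1 F311797 F272807 (iv3 F154525)
theorem F366760 : act 0 n133582 = n101070 := d20_4 (iv4 D61707) (iv1 F83564) (iv4 F97800) D133582 (iv3 D101070) (iv4 F233079) (iv1 F114778) (iv4 F185733) F311792 (iv1 F96306)
theorem F366761 : act 1 n133582 = n184486 := d15_1 (iv0 F366760) F286425 F268813
theorem F366762 : act 2 n100900 = n89341 := d2_3 (iv5 D89341) F311781 D100900
theorem F366763 : act 7 n89346 = n100900 := d4_0 F366762 F366705 F366706
theorem F366764 : act 1 n174039 = n161589 := d18_6 (iv1 D80168) F57350 D46462 F195692 D83206 D174039 (iv4 D161589) D161588 F311757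
theorem F366765 : act 3 n100900 = n118220 := d6_3 (iv5 D118220) F311747 D100900
theorem F366766 : act 3 n153542 = n89346 := d8_3 F366763 F366765 (iv7 F241339)
theorem F366767 : act 3 n102490 = n124374 := d7_1 F311713 (iv6 D124374) (iv3 F198904)
theorem F366768 : act 5 n120562 = n183104 := d6_2 F311630 D120562 (iv3 D183104)
theorem E103237 : n179319 = n152356 := (c5_4 F311529 (iv3 F184744) (iv4 F130728) D179319 F239557 F178749)
theorem F366769 : act 3 n152356 = n85559 := (sb E103237 (iv3 D179319))
theorem F366770 : act 3 n163188 = n178949 := d5_3 F311447 (iv3 F119627) (iv4 F257476) (iv4 D178949) (iv3 D85322)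
theorem F366771 : act 6 n178949 = n163186 := d7_2 D163188 F366770 (iv3 D163186)
theorem F366772 : act 2 n152883 = n155240 := d1_3 (iv4 D155240) F311445 D152883
theorem F366773 : act 7 n134686 = n135437 := d8_2 F310709 D134686 (iv3 D135437)
theorem F366774 : act 7 n132122 = n129041 := d11_2 F366773 F217754 (iv4 F216695)
theorem F366775 : act 2 n129041 = n132121 := d15_3 (iv0 D132121) D132122 F366774
theorem F366776 : act 2 n132122 = n129040 := d15_3 (iv0 D129040) D129041 (iv7 F366774)
theorem F366777 : act 7 n129040 = n132121 := d4_2 (iv7 F366774) F366776 (iv2 F366775)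
theorem F366778 : act 7 n98898 = n124820 := d14_4 F197500 F310662 F281939 D98898 (iv6 D124820)
theorem F366779 : act 0 n154579 = n183393 := d21_7 F51566 (iv1 D21984) D21986 D46011 F310595 D153666 (iv5 F242643) (iv5 D183393) (iv6 D87544) (iv1 F61860)
theorem F366780 : act 0 n153938 = n123761 := d18_2 F307398 D153938 (iv4 D123761) F302082 F310573 (iv0 D65062) (iv4 F307751) D48207 D104183
theorem E103238 : n153936 = n104178 := ((c17_8 F366780 (iv5 F362328) F350385 F350383 F286008 F134771 F75770 D104178 (iv0 D153936) D153938)).symm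
theorem F366781 : act 1 n104178 = n72849 := (sb E103238 (iv0 D153936))
theorem F366782 : act 1 n123773 = n177833 := d18_6 (iv1 F199699) (iv4 D58312) (iv1 F44866) (iv4 F44459) (iv5 F90871) (iv4 F198251) (iv4 F338871) F366781 (iv5 D72849)
theorem F366783 : act 0 n123211 = n177828 := d20_4 D123152 (iv1 F197508) (iv4 D123212) (iv3 F197506) F338875 F338871 (iv1 F366782) F198251 F90870 (iv1 F90385)
theorem F366784 : act 2 n162025 = n100100 := d15_3 (iv0 D100100) D100101 F310558
theorem F366785 : act 6 n161574 = n100558 := d21_3 (iv5 F272728) F310437 D161574 (iv1 D100558) (iv6 D46911) (iv5 D22530) (iv1 D10693) D10694 (iv6 F35080) D46890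
theorem F366786 : act 3 n100558 = n161577 := d7_1 F366785 F255574 (iv3 F255570)
theorem F366787 : act 5 n100558 = n161571 := d12_1 F366785 (iv6 D161571) (iv5 D77604) D77605 D161574
theorem E103239 : n149120 = n119578 := (c12_5 D119579 F310218 F302770 D69979 D149120 (iv5 D119578))
theorem F366788 : act 6 n119578 = n69979 := (sb E103239 (iv6 D149120))
theorem F366789 : act 7 n147505 = n169805 := d11_2 F310122 (iv4 F231290) (iv4 D169805)
theorem F366790 : act 2 n169805 = n181686 := d15_3 (iv0 F354308) F341975 F366789
theorem F366791 : act 2 n163186 = n154695 := d1_3 (iv4 D154695) F309674 (iv4 F257475)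
theorem F366792 : act 3 n179989 = n123583 := d6_3 (iv5 D123583) F309602 D179989
theorem F366793 : act 3 n98314 = n114928 := d20_5 D41763 (iv1 F72585) (iv4 D46007) (iv3 F72579) D98314 (iv4 D114928) F258990 F309294 F136207 (iv1 F63947)
theorem F366794 : act 7 n163200 = n155891 := d11_2 F309233 D163200 F244884
theorem F366795 : act 3 n155896 = n163200 := d8_3 F366794 F244883 D155896
theorem F366796 : act 6 n123757 = n182189 := d21_3 (iv5 F309031) F308443 D123757 (iv1 D182189) (iv6 D86990) (iv5 D40388) (iv1 D19083) D19084 (iv6 F61459) D86971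
theorem F366797 : act 4 n154585 = n184981 := d10_3 (iv6 D184981) F308729 D154585
theorem F366798 : act 3 n98361 = n153632 := d6_3 (iv5 D153632) F308585 D98361
theorem F366799 : act 3 n98362 = n153633 := d7_3 (iv6 D153633) F308585 D98362
theorem F366800 : act 2 n153632 = n179821 := d0_1 F366798 (iv3 D179821) (iv2 F131733) (iv3 F306707) F274654
theorem F366801 : act 5 n184053 = n124745 := d6_2 F308576 D184053 (iv3 D124745)
theorem F366802 : act 6 n182272 = n153657 := d12_4 (iv6 D124747) F308576 D184055 F286004 F241539
theorem E103240 : n184084 = n153367 := ((c21_4 (iv5 F308576) F199700 D72849 (iv6 F240937) (iv1 D184084) (iv6 D87806) (iv5 D40914) (iv1 D19281) D19282 (iv6 F62005) D87794)).symm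
theorem F366803 : act 0 n153367 = n87806 := (sb E103240 (iv1 D184084))
theorem F366804 : act 7 n124780 = n184053 := d13_0 F366801 F199657 D124780
theorem F366805 : act 1 n150033 = n169824 := d15_0 (iv0 D169824) (iv7 F308557) (iv2 F236047)
theorem F366806 : act 7 n169824 = n143546 := d15_2 F340772 F366805 (iv2 F340773)
theorem F366807 : act 3 n141776 = n169824 := d8_3 F366806 F226252 (iv7 F342580)
theorem F366808 : act 6 n154660 = n183932 := d7_2 F308466 D154660 (iv3 D183932)
theorem F366809 : act 6 n185386 = n149129 := d21_5 F294189 F293171 (iv5 D88317) D88318 D185386 (iv5 D149129) F308455 D72814 (iv6 F308465) D95442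
theorem F366810 : act 2 n154559 = n185386 := d3_3 F366809 F306619 D154559
theorem F366811 : act 3 n149132 = n185386 := d7_3 F366809 F234509 D149132
theorem F366812 : act 7 n185387 = n154559 := d15_2 (iv0 D185386) D185387 F366810
theorem F366813 : act 2 n124785 = n184057 := d3_3 (iv6 D184057) F308460 D124785
theorem F366814 : act 2 n124822 = n184055 := d3_3 (iv6 D184055) F308458 D124822
theorem F366815 : act 1 n157611 = n101361 := d15_0 (iv0 D101361) D101365 F308453
theorem F366816 : act 4 n101361 = n154595 := d18_7 (iv1 F308291) F310333 (iv1 F74459) (iv4 F74395) (iv5 F305553) D157611 F366815 (iv0 F308293) (iv5 D104118)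
theorem F366817 : act 3 n182135 = n170672 := d7_3 (iv6 D170672) F308320 D182135
theorem F366818 : act 7 n183423 = n124712 := d8_2 F308301 (iv3 F285142) F199532
theorem F366819 : act 2 n183433 = n154026 := d3_3 (iv6 D154026) F308298 D183433
theorem F366820 : act 3 n184951 = n181153 := d0_4 F241697 F308272 D88171 D184951 (iv2 F303654)
theorem F366821 : act 7 n173280 = n141804 := d13_2 F308034 D173280 F224814
theorem F366822 : act 2 n130381 = n120209 := d0_3 (iv3 F305653) F307700 D130381 (iv3 D120209) (iv2 F234228)
theorem F366823 : act 7 n182920 = n153362 := d8_2 F307614 (iv3 F284505) F240930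
theorem F366824 : act 3 n151578 = n100955 := d6_3 F155573 F307589 D151578
theorem E103241 : n154249 = n100953 := ((c7_4 F242354 F366824 (iv6 D100955) D100953)).symm
theorem F366825 : act 2 n100953 = n73086 := (sb E103241 F242353)
theorem F366826 : act 4 n100953 = n141181 := (sb E103241 (iv4 F342357))
theorem F366827 : act 5 n100953 = n73081 := (sb E103241 (iv5 D154249))
theorem F366828 : act 6 n100953 = n151578 := (sb E103241 F242354)
theorem F366829 : act 2 n152703 = n158464 := d2_3 (iv5 D158464) F307425 D152703
theorem F366830 : act 5 n184297 = n154026 := d12_3 (iv6 F92129) F307393 D184297 (iv6 D154026) F109367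
theorem F366831 : act 7 n158469 = n152703 := d13_2 F307281 D158469 (iv5 D152703)
theorem F366832 : act 3 n152319 = n158469 := d8_3 F366831 F239910 (iv7 F239470)
theorem F366833 : act 6 n177139 = n144931 := d3_2 F307165 D177139 F259432
theorem F366834 : act 6 n177140 = n164567 := d10_2 F307165 D177140 (iv4 F259427)
theorem F366835 : act 5 n183090 = n124785 := d12_3 F307012 D87396 D183090 (iv6 D124785) (iv5 D58340)
theorem F366836 : act 3 n94813 = n123638 := d7_1 F306922 (iv6 D123638) D123637
theorem F366837 : act 3 n134456 = n183532 := d8_3 F286528 F366836 F329431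
theorem F366838 : act 5 n184557 = n157597 := d21_8 (iv5 D101228) (iv1 D47141) D47142 F74393 D47148 D101247 F155985 F286535 (iv6 D157597) (iv1 F306904)
theorem F366839 : act 2 n123768 = n184557 := d2_3 F366838 F351892 (iv5 F351893)
theorem F366840 : act 3 n167349 = n133172 := d5_3 F306795 (iv3 F123394) D167349 (iv4 D133172) F97374
theorem F366841 : act 6 n101674 = n173365 := d10_2 F306790 D101674 (iv4 D173365)
theorem E103242 : n178072 = n153815 := (c15_1 D178072 (iv0 D153815) D153818 F306753)
theorem F366842 : act 0 n153815 = n84763 := (sb E103242 (iv1 D178072))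
theorem F366843 : act 2 n184297 = n154137 := d3_3 (iv6 D154137) F306643 D184297
theorem F366844 : act 5 n154137 = n183433 := d2_2 (iv5 F366830) F366843 F366819
theorem F366845 : act 0 n183898 = n154559 := d21_4 (iv5 D87021) D87019 (iv5 F134649) D183898 (iv6 D154559) (iv5 D73258) (iv1 F52971) D33735 (iv6 F306632) (iv1 F133562)
theorem F366846 : act 7 n153280 = n101352 := d8_2 F306618 (iv3 F240822) (iv3 D101352)
theorem F366847 : act 5 n101352 = n153281 := d13_1 F366846 (iv7 D153281) D153280
theorem F366848 : act 2 n157617 = n101355 := d3_3 (iv6 D101355) F306616 D157617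
theorem F366849 : act 0 n177960 = n147854 := d20_4 F299232 (iv1 F263561) F263557 (iv3 F277509) (iv3 D147854) (iv4 D69278) F190152 F306458 (iv3 F306457) F301690
theorem F366850 : act 2 n153682 = n178122 := d0_3 F306457 (iv2 F306417) (iv3 F241553) (iv3 D178122) F130002
theorem F366851 : act 1 n152159 = n184953 := d15_1 (iv0 F353870) (iv7 F308302) F366850
theorem F366852 : act 4 n153533 = n153534 := d20_0 (iv1 D153534) F109132 F52848 D33532 F306356 F190217 (iv1 D33511) (iv4 F52831) (iv3 F109131) D153533
theorem F366853 : act 3 n153534 = n170644 := d20_3 (iv4 F109132) D153533 F366852 (iv1 D170644) (iv3 D81798) F296254 (iv1 F119025) F91369 D56726 F304677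
theorem F366854 : act 3 n170022 = n153533 := d20_5 D72659 F304635 (iv4 F61378) (iv3 F133329) (iv1 F340973) F366852 (iv1 D153534) F109132 F52848 D33532
theorem F366855 : act 0 n98853 = n153534 := d20_1 (iv4 F152411) (iv4 F366852) (iv3 F366854) F340972 F155041 F74285 (iv1 F112943) F274639 (iv3 F308585) F304489
theorem F366856 : act 0 n153533 = n98853 := d20_7 (iv4 D98235) F320008 (iv4 F320010) (iv3 F196442) F268093 (iv3 F366853) (iv4 F366852) F152411 (iv3 F152399) (iv1 F354015)
theorem F366857 : act 7 n98853 = n153531 := d15_2 D153534 (iv0 F366855) F241317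
theorem E103243 : n170759 = n123083 := ((c14_5 F184642 F306326 F125383 D57278 D123083 (iv6 D170759))).symm
theorem F366858 : act 6 n123083 = n81867 := (sb E103243 (iv6 D170759))
theorem F366859 : act 6 n132284 = n152730 := d21_5 D28967 F208773 F95592 D62061 D132284 (iv5 D152730) (iv1 F305686) (iv5 D130193) (iv6 D61115) (iv1 F46594)
theorem F366860 : act 3 n152733 = n132284 := d7_3 F366859 F239935 D152733
theorem F366861 : act 0 n123649 = n88862 := d21_4 (iv5 F90810) (iv1 D57639) D57641 D123649 (iv6 D88862) (iv5 D41481) (iv1 D19528) D19529 (iv6 F63921) (iv1 F305472)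
theorem F366862 : act 1 n123649 = n89419 := d15_1 (iv0 F366861) (iv7 D89419) (iv2 F136260)
theorem F366863 : act 1 n172314 = n135422 := d15_0 (iv0 D135422) (iv7 F305434) (iv2 F270556)
theorem F366864 : act 6 n96023 = n144007 := d21_5 (iv5 D23625) D23623 (iv5 F66252) D44807 D96023 (iv5 D144007) (iv1 D67470) D67472 (iv6 F305028) F69057
theorem F366865 : act 5 n157617 = n94116 := d21_6 (iv5 D47147) (iv1 D22685) D22686 (iv6 F74393) F304947 D157617 (iv1 D94116) D94117 F145056 (iv1 F74409)
theorem F366866 : act 3 n94116 = n120506 := d6_1 F366865 (iv5 F253235) F253234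
theorem F366867 : act 6 n94116 = n120451 := d12_2 D157617 F366865 F191891 F87751 (iv5 F112555)
theorem F366868 : act 7 n179787 = n124018 := d8_2 F304862 D179787 F198410
theorem F366869 : act 5 n124019 = n179787 := d13_3 F366868 (iv5 D124018) D124019
theorem F366870 : act 2 n179786 = n124020 := d3_3 (iv6 D124020) F304861 D179786
theorem F366871 : act 2 n98524 = n123447 := d2_3 F304693 F274637 (iv5 F151921)
theorem F366872 : act 7 n98525 = n123447 := d15_2 (iv0 D98524) D98525 (iv2 F366871)
theorem F366873 : act 3 n123030 = n98525 := d8_3 F366872 (iv3 D123447) (iv7 F197154)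
theorem F366874 : act 7 n179718 = n170655 := d4_2 F304683 (iv2 F279929) (iv2 F268117)
theorem F366875 : act 1 n179825 = n170655 := d15_1 D179825 (iv7 F366874) F279929
theorem F366876 : act 5 n170671 = n179825 := d17_5 (iv1 F304297) (iv5 D57760) (iv1 F121420) D81810 D170671 F366875 F268115 F304682 (iv4 D122462)
theorem F366877 : act 0 n123683 = n91353 := d21_4 (iv5 F304672) (iv1 D57661) D57662 (iv6 F198118) (iv6 D91353) (iv5 D42751) F65776 D22361 (iv6 F73702) D99888
theorem F366878 : act 1 n123683 = n91376 := d15_1 (iv0 F366877) (iv7 D91376) (iv2 F140457)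
theorem F366879 : act 1 n123728 = n91353 := d15_0 (iv0 F366877) F359721 (iv2 F359720)
theorem F366880 : act 1 n91376 = n123728 := d15_0 F366879 (iv7 F359727) (iv2 F359724)
theorem F366881 : act 7 n123766 = n184551 := d11_2 F304668 D123766 (iv4 D184551)
theorem F366882 : act 2 n184551 = n123761 := d15_3 (iv0 F366780) F241955 F366881
theorem F366883 : act 2 n123763 = n184552 := d3_3 (iv6 D184552) F304667 D123763
theorem F366884 : act 7 n123761 = n184556 := d11_2 F304649 D123761 (iv4 D184556)
theorem F366885 : act 2 n184556 = n123766 := d4_1 F366884 F366881 F366882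
theorem F366886 : act 7 n120503 = n179784 := d8_2 F304543 D120503 (iv3 D179784)
theorem F366887 : act 5 n123156 = n179784 := d6_2 F304542 D123156 (iv3 D179784)
theorem F366888 : act 4 n120506 = n179786 := d10_3 (iv6 D179786) F304541 D120506
theorem F366889 : act 1 n123982 = n179822 := d15_1 F304437 F280041 (iv2 F263581)
theorem F366890 : act 5 n122624 = n98167 := d18_4 D122432 F304427 F129721 D122624 (iv4 D98167) (iv0 F131812) F195873 F304429 (iv5 F304325)
theorem F366891 : act 7 n98167 = n120422 := d13_2 F268099 F366890 (iv5 F268100)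
theorem F366892 : act 5 n124154 = n179712 := d6_2 F304352 D124154 (iv3 D179712)
theorem F366893 : act 3 n120500 = n175772 := d7_3 (iv6 D175772) F304333 D120500
theorem F366894 : act 0 n160352 = n124426 := d18_2 F304326 D160352 (iv4 D124426) (iv5 D58020) (iv4 D27672) F298941 (iv4 F91616) (iv0 F301568) D57978
theorem F366895 : act 5 n122745 = n122434 := d6_2 F304325 D122745 (iv3 D122434)
theorem F366896 : act 3 n98237 = n172372 := d7_3 (iv6 D172372) F304308 D98237
theorem F366897 : act 7 n160331 = n186084 := d15_2 F304175 F303344 (iv2 F304176)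
theorem F366898 : act 5 n173692 = n166205 := d2_2 F304136 (iv2 F272215) F261683
theorem F366899 : act 6 n122716 = n98396 := d12_2 F304016 (iv5 F196564) F151815 (iv6 F126274) (iv5 F289826)
theorem F366900 : act 5 n172170 = n172846 := d17_3 (iv1 D82450) D82451 D172170 (iv4 D172846) (iv5 D82752) (iv0 D38033) D38035 D82760 F303451
theorem F366901 : act 3 n96013 = n172170 := d6_3 F366900 F339571 (iv5 F361222)
theorem F366902 : act 1 n161958 = n160325 := d18_6 (iv1 F118770) F63810 (iv1 F118760) D35497 D77786 D161958 (iv4 D160325) F303347 (iv5 D58020)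
theorem F366903 : act 7 n174707 = n162667 := d13_2 D162668 F303296 (iv5 D162667)
theorem F366904 : act 7 n167235 = n161910 := d11_2 F303199 D167235 (iv4 D161910)
theorem F366905 : act 0 n103837 = n107463 := d20_4 (iv4 D103854) F294331 F293319 D103837 (iv3 D107463) (iv4 D49640) (iv1 F39049) (iv4 F80724) (iv3 F302687) (iv1 F159272)
theorem E103244 : n111021 = n110934 := ((c21_5 (iv5 F294996) (iv1 F140481) F294314 D103793 F295619 (iv6 D111021) F166927 (iv1 D31176) (iv5 F39036) F302686 (iv1 F134850))).symm
theorem F366906 : act 2 n110934 = n107006 := (sb E103244 (iv2 F366086))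
theorem F366907 : act 6 n110934 = n51193 := (sb E103244 (iv6 D111021))
theorem F366908 : act 7 n110934 = n107007 := (sb E103244 (iv7 F366089))
theorem F366909 : act 2 n107007 = n110933 := d15_3 (iv0 D110933) D110934 F366908
theorem F366910 : act 7 n107006 = n110933 := d4_2 (iv7 F366908) F366906 (iv2 F366909)
theorem F366911 : act 6 n165686 = n163020 := d10_2 F302615 (iv4 F260955) F257377
theorem F366912 : act 7 n157875 = n121273 := d11_2 D121299 F302606 F193384
theorem F366913 : act 7 n173837 = n158000 := d14_2 D172089 F302360 F248907 F112839 (iv6 F126976)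
theorem F366914 : act 6 n123835 = n178083 := d14_3 F302315 (iv6 F90889) D123835 (iv7 D178083) (iv6 D84766)
theorem E103245 : n178071 = n153816 := ((c15_1 D153816 (iv0 D178071) (iv7 F302301) F196224)).symm
theorem F366915 : act 1 n153816 = n84763 := (sb E103245 (iv0 D178071))
theorem F366916 : act 4 n178090 = n160336 := d16_0 (iv5 D160336) (iv4 D76843) (iv5 D35119) F27978 D17055 D35133 D76890 (iv7 F302227) (iv2 F277624)
theorem F366917 : act 5 n174683 = n162763 := d12_3 F302212 D83468 D174683 (iv6 D162763) (iv5 D78218)
theorem F366918 : act 7 n121144 = n176714 := d11_2 F302191 (iv4 F193207) F276084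
theorem F366919 : act 6 n179810 = n122711 := d21_5 (iv5 F91578) (iv1 D39720) D39721 (iv6 F131729) D179810 (iv5 D122711) (iv1 D56994) D56995 F90075 (iv1 F302129)
theorem F366920 : act 7 n124154 = n179864 := d8_2 F302093 D124154 (iv3 D179864)
theorem F366921 : act 4 n123176 = n179795 := d10_3 (iv6 D179795) F302090 D123176
theorem F366922 : act 2 n179795 = n124155 := d1_1 F366921 F198614 (iv2 F197410)
theorem F366923 : act 1 n98856 = n153634 := d15_0 (iv0 D153634) (iv7 F302020) F154468
theorem F366924 : act 5 n124402 = n170672 := d12_3 F301962 D58002 D124402 (iv6 D170672) (iv5 D81810)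
theorem F366925 : act 2 n170672 = n179882 := d3_3 (iv6 D179882) F301693 D170672
theorem F366926 : act 6 n124159 = n179868 := d14_3 F301674 D57859 D124159 (iv7 D179868) (iv6 D85907)
theorem F366927 : act 5 n170717 = n170654 := d12_3 F301609 D81841 D170717 (iv6 D170654) F125732
theorem F366928 : act 6 n157890 = n163940 := d7_2 D163965 F301269 F258390
theorem F366929 : act 0 n124701 = n154238 := d21_4 F109121 (iv1 F73431) (iv5 F92141) D124701 (iv6 D154238) (iv5 F114937) (iv1 D76636) (iv5 F74068) (iv6 F300999) (iv1 F126422)
theorem F366930 : act 7 n98112 = n166202 := d8_2 F300737 (iv3 F151269) F261680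
theorem F366931 : act 5 n172241 = n128243 := d12_3 F300713 (iv5 F127149) D172241 (iv6 D128243) (iv5 D60285)
theorem F366932 : act 2 n174524 = n162586 := d3_3 F256823 F300610 D174524
theorem F366933 : act 7 n174514 = n162607 := d8_2 F300609 D174514 (iv3 D162607)
theorem F366934 : act 7 n98161 = n120415 := d8_2 F300580 (iv3 F151417) F191830
theorem F366935 : act 0 n102532 = n174785 := d21_4 (iv5 D22860) D22857 D47558 D102532 (iv6 D174785) (iv5 D83504) (iv1 F300534) D46725 F73846 F64061
theorem E103246 : n177914 = n160088 := (c6_2 F300527 (iv3 F277477) (iv5 D160088) (iv3 F191645))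
theorem F366936 : act 3 n160088 = n84703 := (sb E103246 F277477)
theorem F366937 : act 6 n160088 = n84695 := (sb E103246 (iv6 D177914))
theorem F366938 : act 6 n184987 = n102364 := d21_9 D102366 F346087 D160088 F366937 D177911 (iv6 F358569) F364524 F348386 (iv5 F341093) (iv1 D102364)
theorem F366939 : act 5 n102364 = n117806 := d12_1 F366938 F356811 (iv5 D138616) D138617 (iv5 F341093)
theorem F366940 : act 6 n166360 = n186087 := d7_2 F300503 D166360 (iv3 D186087)
theorem F366941 : act 7 n98129 = n166207 := d8_2 F300481 D98129 (iv3 D166207)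
theorem F366942 : act 6 n164120 = n162753 := d7_2 F300449 D164120 (iv3 D162753)
theorem E103247 : n179814 = n124820 := (c20_5 F300099 F123455 F123427 D85879 D179814 F200491 F92216 F190653 (iv4 F125744) (iv3 D81809) D81808)
theorem F366943 : act 1 n124820 = n85879 := (sb E103247 (iv0 D179814))
theorem F366944 : act 4 n144263 = n183124 := d20_6 F71461 (iv1 F71465) F291824 D91390 F299848 D144263 (iv1 D183124) (iv4 F293317) (iv3 D91289) F292252
theorem F366945 : act 6 n166092 = n96346 := d10_2 F299593 (iv4 F261503) (iv4 F194394)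
theorem F366946 : act 7 n157879 = n121277 := d13_2 F299592 D157879 (iv5 D121277)
theorem F366947 : act 2 n174706 = n162672 := d3_3 (iv6 D162672) F299371 D174706
theorem F366948 : act 5 n160912 = n174706 := d2_0 F366947 F256910 (iv2 F254109)
theorem F366949 : act 2 n174527 = n162587 := d4_3 (iv7 D162587) F298876 D174527
theorem F366950 : act 1 n174526 = n162587 := d15_1 D174526 (iv7 D162587) F298876
theorem F366951 : act 1 n162585 = n174527 := d15_1 D162585 (iv7 D174527) (iv2 F298876)
theorem F366952 : act 5 n162540 = n174527 := d2_0 F366949 F256825 (iv2 F256744)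
theorem F366953 : act 1 n162587 = n174525 := d15_0 (iv0 D174525) D174527 F366949
theorem F366954 : act 1 n174527 = n162584 := d15_0 (iv0 D162584) D162587 (iv2 F366949)
theorem F366955 : act 6 n164109 = n160810 := d7_2 F298322 D164109 (iv3 D160810)
theorem F366956 : act 5 n162554 = n174705 := d6_2 F298314 D162554 (iv3 D174705)
theorem F366957 : act 4 n174705 = n144104 := d16_4 (iv4 F95333) D129183 F341770 F366956 (iv5 D144104) (iv4 D67518) (iv5 F96412) (iv7 D61850) F46949
theorem F366958 : act 5 n160738 = n174526 := d21_6 (iv5 D34504) F27477 D17092 D35215 D77120 D160738 (iv1 D174526) F298302 (iv6 D78047) F56274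
theorem F366959 : act 7 n121148 = n176716 := d13_2 F297238 D121148 (iv5 D176716)
theorem F366960 : act 5 n163240 = n176721 := d2_2 F297237 (iv2 F257518) F276100
theorem F366961 : act 6 n163237 = n176718 := d7_2 F297236 (iv3 F257515) F276089
theorem F366962 : act 4 n160810 = n162894 := d5_4 (iv4 D78306) F296895 D77164 D160810 (iv3 D162894)
theorem F366963 : act 7 n163425 = n180340 := d8_2 F296838 (iv3 F257708) F280645
theorem F366964 : act 4 n181689 = n163952 := d5_4 F119934 F296822 D86716 D181689 F258411
theorem F366965 : act 6 n95268 = n181689 := d10_0 F366964 (iv6 D163952) (iv4 F146887)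
theorem F366966 : act 0 n166627 = n177634 := d20_4 F296364 (iv1 F122694) D79972 D166627 (iv3 D177634) (iv4 D84601) (iv1 D39072) (iv4 F60009) (iv3 D38996) D38994
theorem F366967 : act 3 n144134 = n89912 := d6_1 F295868 F138066 (iv3 F159233)
theorem F366968 : act 6 n144134 = n89910 := d12_2 D103803 F295868 F138060 (iv6 D48060) D48059
theorem F366969 : act 7 n182716 = n170770 := d8_2 F295450 D182716 (iv3 D170770)
theorem F366970 : act 2 n183231 = n182716 := d4_3 F366969 (iv2 F270435) (iv7 F284880)
theorem F366971 : act 1 n98639 = n182716 := d15_1 (iv0 F270438) F366969 (iv2 F270435)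
theorem F366972 : act 1 n182716 = n97083 := d15_1 F366971 F157634 F152032
theorem F366973 : act 3 n89036 = n184230 := d20_5 (iv4 D42503) F31890 D20080 D42538 (iv1 F292002) F286155 (iv1 F295206) F149607 (iv3 D96153) F291838
theorem F366974 : act 6 n159730 = n90391 := d7_2 D90394 F295166 (iv3 D90391)
theorem E103248 : n92669 = n90393 := ((c21_7 F292923 (iv1 F154220) (iv5 D87930) D87931 (iv1 F295164) (iv6 D90394) D90393 (iv1 D92669) (iv5 D43348) (iv6 F68045) D92648)).symm
theorem F366975 : act 0 n90393 = n43348 := (sb E103248 (iv1 D92669))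
theorem F366976 : act 1 n90393 = n93288 := (sb E103248 F143871)
theorem F366977 : act 2 n93286 = n90393 := d15_3 F366976 (iv0 F294912) F294822
theorem F366978 : act 7 n90393 = n93287 := d4_2 F294822 F366977 (iv2 F294821)
theorem F366979 : act 3 n98989 = n100377 := d20_5 (iv4 D47875) F36096 D23061 D47901 (iv1 F294727) F154387 (iv1 F295158) F295159 (iv3 D93084) F293707
theorem F366980 : act 0 n93297 = n100931 := d21_1 D93297 (iv5 F156492) (iv6 D101583) (iv1 D47252) F295147 (iv5 D20633) (iv1 D9779) D9781 D20640 D43640
theorem F366981 : act 0 n101562 = n93298 := d21_4 (iv5 D22724) D22722 D47244 D101562 (iv6 D93298) D93297 F366980 (iv5 F156492) (iv6 D101583) (iv1 D47252)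
theorem F366982 : act 7 n98034 = n186041 := d8_2 F295138 D98034 (iv3 D186041)
theorem F366983 : act 4 n97155 = n180636 := d19_6 (iv1 F295121) (iv5 D98587) (iv4 F147154) F147153 F157281 D97155 F281168 D180638 F281170 (iv4 D157971) (iv3 D75243) (iv1 D34449) (iv5 F45084) (iv4 F92776) (iv3 D58710) F45081 D44513 F70028 (iv3 F133787)
theorem F366984 : act 1 n96297 = n183234 := d17_6 (iv1 D46087) D46089 F295067 (iv5 D45046) (iv4 F70691) D96297 (iv5 D183234) F150149 F150144
theorem F366985 : act 1 n144184 = n135643 := d18_6 (iv1 D87467) F61810 D40751 (iv4 F70361) (iv5 F306977) (iv4 F226890) F365384 F366984 (iv5 D183234)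
theorem F366986 : act 4 n182593 = n104316 := d1_2 (iv4 F290797) F295065 (iv2 D104316)
theorem F366987 : act 6 n104316 = n104857 := d10_2 D182593 F366986 F294385
theorem F366988 : act 7 n104316 = n185521 := d11_2 (iv7 F294480) F366986 (iv4 D185521)
theorem F366989 : act 1 n104315 = n185521 := d15_1 D104315 (iv7 F366988) (iv2 D104316)
theorem F366990 : act 4 n183534 = n180361 := d11_3 (iv7 D180361) F295052 D183534
theorem F366991 : act 2 n186360 = n93997 := d2_3 (iv5 D93997) F295036 D186360
theorem F366992 : act 5 n186387 = n102565 := d6_2 F295032 D186387 F294481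
theorem F366993 : act 0 n90759 = n92622 := d21_7 F295032 (iv1 F291648) (iv5 D94443) D94444 (iv1 F145632) (iv6 F145584) F145583 (iv5 D92622) F291524 D88617
theorem F366994 : act 2 n94018 = n186387 := d2_3 F366992 F157528 (iv5 F144844)
theorem F366995 : act 4 n99023 = n186294 := d11_3 (iv7 D186294) F294987 D99023
theorem E103249 : n183140 = n182917 := ((c17_2 F294845 D182917 (iv1 D183140) (iv5 F294366) F141494 D185956 (iv0 F294894) (iv5 D89105) (iv0 F145497) F294979)).symm
theorem F366996 : act 0 n182917 = n87419 := (sb E103249 (iv1 D183140))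
theorem F366997 : act 5 n91227 = n102015 := d21_6 (iv5 D20140) (iv1 D9503) D9505 D20150 D42704 D91227 (iv1 D102015) F294977 (iv6 D43639) F32755
theorem F366998 : act 6 n186203 = n113053 := d21_3 (iv5 D97151) (iv1 F293676) (iv5 F288984) F176135 F83398 F40528 (iv1 F40083) D51185 F294946 (iv1 F157802)
theorem F366999 : act 6 n112954 = n90054 := d3_2 F366998 F176133 (iv2 F288983)
theorem F367000 : act 3 n90055 = n112954 := d7_3 F366999 (iv3 D90054) D90055
theorem E103250 : n144168 = n103265 := ((c12_5 F366999 F138381 F292637 F138091 D103265 F331454)).symm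
theorem F367001 : act 1 n103265 = n67541 := (sb E103250 (iv0 D144168))
theorem F367002 : act 2 n103265 = n140521 := (sb E103250 (iv2 F340487))
theorem F367003 : act 4 n103265 = n115754 := (sb E103250 F226869)
theorem F367004 : act 5 n103265 = n112954 := (sb E103250 F331454)
theorem F367005 : act 7 n103265 = n140516 := (sb E103250 F340480)
theorem F367006 : act 3 n140516 = n103271 := d8_1 F367005 (iv7 D103271) (iv3 F158503)
theorem F367007 : act 0 n103271 = n136759 := d20_4 F49630 D65950 D140516 F367006 (iv3 F219956) F166902 (iv1 F204482) (iv4 F340462) F340461 (iv1 D67489)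
theorem F367008 : act 1 n97341 = n136759 := d15_0 (iv0 F367007) (iv7 D103271) (iv2 F150087)
theorem F367009 : act 1 n136754 = n97341 := d15_0 F367008 (iv7 F226659) F226663
theorem F367010 : act 6 n115754 = n103264 := d10_2 D103265 F367003 (iv4 D103264)
theorem E103251 : n144003 = n103269 := ((c20_11 F226660 (iv1 D135993) (iv4 F100356) (iv3 D64434) F48765 D53908 F85010 D115754 (iv4 F367003) F158503 D103269)).symm
theorem F367011 : act 2 n103269 = n136754 := (sb E103251 F226663)
theorem F367012 : act 3 n103269 = n67469 := (sb E103251 (iv3 D144003))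
theorem F367013 : act 4 n103269 = n135993 := (sb E103251 F226660)
theorem F367014 : act 7 n103269 = n136759 := (sb E103251 F226659)
theorem F367015 : act 3 n126712 = n103268 := d20_5 (iv4 D107338) (iv1 F180530) (iv4 F330922) F330921 (iv1 F219940) F158505 D103269 F367013 (iv3 F362965) (iv1 F343463)
theorem F367016 : act 6 n103266 = n126712 := d7_0 F367015 (iv6 D103268) D103266
theorem F367017 : act 4 n135992 = n103270 := d20_0 (iv1 D103270) (iv4 F158505) (iv3 F367015) (iv1 D126712) (iv3 D59456) F45723 (iv1 F23978) D30157 D63944 D135992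
theorem F367018 : act 2 n103270 = n136759 := d1_1 F367017 (iv4 D136759) (iv2 F226664)
theorem F367019 : act 7 n103270 = n136754 := d11_2 (iv7 F226665) F367017 (iv4 D136754)
theorem F367020 : act 1 n103271 = n136754 := d15_1 (iv0 F367007) (iv7 F367019) F367018
theorem F367021 : act 2 n126712 = n136745 := d3_1 F367016 (iv6 F347033) F364584
theorem F367022 : act 7 n136746 = n126712 := d15_2 (iv0 D136745) D136746 F367021
theorem F367023 : act 7 n126711 = n136745 := d15_2 F219940 F219938 (iv2 F367021)
theorem F367024 : act 2 n136746 = n126711 := d4_3 F367023 (iv2 F367021) (iv7 F367022)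
theorem F367025 : act 2 n103264 = n140523 := d3_1 F367010 (iv6 D140523) (iv2 F339979)
theorem F367026 : act 4 n140523 = n103263 := d1_2 D103264 F367025 (iv2 D103263)
theorem F367027 : act 6 n103263 = n140521 := d10_2 D140523 F367026 (iv4 D140521)
theorem E103252 : n144111 = n97341 := (c0_5 (iv3 F158503) F367002 (iv3 F223671) F340488 D144111 F150087)
theorem F367028 : act 3 n97341 = n67520 := (sb E103252 (iv3 D144111))
theorem E103253 : n144113 = n97325 := (c6_3 D97341 F367028 D144113 F150067)
theorem F367029 : act 5 n97325 = n67520 := (sb E103253 (iv5 D144113))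
theorem E103254 : n144114 = n97328 := (c7_3 (iv6 F150088) F367028 D144114 F150068)
theorem F367030 : act 6 n97328 = n67520 := (sb E103254 (iv6 D144114))
theorem F367031 : act 5 n103210 = n97327 := d21_6 D67523 D144122 F365093 (iv6 D111958) (iv1 F99667) (iv6 F355198) (iv1 D97327) D97328 F367030 (iv1 D67520)
theorem F367032 : act 0 n103268 = n132508 := d20_7 (iv4 F182993) (iv1 D66030) F49643 D67541 (iv1 F367001) F158503 (iv4 F158505) (iv4 F366244) (iv3 D117060) (iv1 F182991)
theorem F367033 : act 3 n132138 = n163435 := d5_5 F257726 F367000 (iv4 D112954) (iv3 F331451) (iv4 F353144)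
theorem F367034 : act 6 n163433 = n132138 := d7_0 F367033 (iv6 D163435) (iv3 F257723)
theorem F367035 : act 0 n184070 = n92558 := d20_4 F31784 D42255 D90387 F294910 (iv3 D92558) D92559 (iv1 F293718) F293719 (iv3 D90391) (iv1 D42256)
theorem F367036 : act 5 n97397 = n163424 := d2_2 F294907 D97397 (iv2 D163424)
theorem F367037 : act 3 n163460 = n97397 := d6_3 F367036 F257707 D163460
theorem F367038 : act 6 n95398 = n99295 := d10_2 F294893 (iv4 F147026) F152888
theorem F367039 : act 7 n96130 = n185956 := d8_2 F294878 (iv3 F147779) F288461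
theorem F367040 : act 2 n96098 = n185959 := d3_3 (iv6 D185959) F294877 D96098
theorem F367041 : act 0 n93783 = n186279 := d20_7 F136493 (iv1 F294597) (iv4 D92664) D92663 F294811 (iv3 F294591) F294592 (iv4 D186279) (iv3 F294784) F152591
theorem F367042 : act 2 n99007 = n186279 := d15_3 (iv0 F367041) (iv0 F157236) F157237
theorem F367043 : act 3 n186279 = n93805 := d0_2 F294533 F367042 F152544 (iv3 F144799) (iv2 F294532)
theorem F367044 : act 6 n186279 = n98564 := d3_2 F251930 F367042 (iv2 F251926)
theorem F367045 : act 7 n186279 = n93834 := d4_2 F157237 F367042 (iv2 F145332)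
theorem F367046 : act 3 n186285 = n182917 := d6_3 (iv5 D182917) F294788 D186285
theorem F367047 : act 7 n186280 = n98288 := d13_2 F294787 D186280 (iv5 D98288)
theorem F367048 : act 2 n186285 = n98288 := d2_3 (iv5 D98288) F294786 D186285
theorem F367049 : act 7 n99008 = n186285 := d15_2 F177443 (iv0 F363583) F367048
theorem F367050 : act 2 n99008 = n186280 := d4_3 F367047 (iv2 F367048) (iv7 F367049)
theorem F367051 : act 6 n90016 = n104703 := d7_2 F294699 (iv3 F138306) (iv3 F160418)
theorem F367052 : act 5 n96463 = n183483 := d17_1 (iv1 F148558) (iv1 D183483) (iv5 D87580) F63048 D45520 D97473 F294696 F138236 (iv4 F147026)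
theorem F367053 : act 2 n183483 = n137944 := d2_1 F367052 F350435 F350438
theorem F367054 : act 6 n183483 = n137940 := d12_2 (iv6 F350442) F367052 (iv5 D137940) D137941 F331216
theorem F367055 : act 4 n146857 = n183483 := d10_3 F367054 F221196 D146857
theorem F367056 : act 0 n130701 = n146857 := d20_10 F367055 (iv1 D183483) (iv4 F364805) F179068 (iv1 F175394) (iv3 F328439) (iv4 D125760) D125759 F202262 D130701
theorem F367057 : act 0 n100846 = n186059 := d18_2 F289943 (iv4 F154950) F288674 F367052 (iv4 F367055) (iv0 F367056) (iv4 F365734) F361765 F147836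
theorem F367058 : act 5 n176939 = n133219 := d21_2 (iv5 F291523) (iv1 F365435) F214060 F367056 (iv6 D146857) F105038 F82804 D69726 D148776 F233577
theorem F367059 : act 3 n133220 = n176939 := d6_3 F367058 (iv3 D133219) D133220
theorem F367060 : act 5 n135525 = n186409 := d13_3 (iv7 F365433) F367058 (iv7 F217933)
theorem F367061 : act 3 n186409 = n135261 := d6_1 F367060 F217463 D135525
theorem F367062 : act 6 n181884 = n101973 := d3_2 F294694 (iv2 F283174) (iv2 F158642)
theorem F367063 : act 6 n91992 = n95381 := d10_2 F294694 (iv4 F141494) (iv4 F291918)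
theorem F367064 : act 0 n95381 = n183923 := d21_4 D182917 F366996 (iv5 F294366) F367063 (iv6 D183923) (iv5 F331215) F325117 D166232 F331219 F294845
theorem F367065 : act 3 n186287 = n98988 := d6_3 (iv5 D98988) F294630 D186287
theorem F367066 : act 7 n99010 = n186287 := d8_0 F367065 (iv7 F287768) F287766
theorem F367067 : act 1 n186289 = n99010 := d15_1 D186289 F367066 F289053
theorem F367068 : act 1 n99013 = n186287 := d15_1 D99013 (iv7 F367066) F152548
theorem F367069 : act 5 n99013 = n99933 := d21_2 D186287 (iv1 F367068) (iv6 D99933) (iv1 D46673) (iv6 D22380) (iv5 F34498) (iv1 F83054) (iv5 D45989) D45990 (iv1 F293936)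
theorem E103255 : n99933 = n90202 := (c17_8 (iv1 F135822) (iv5 F291610) (iv1 D94446) (iv5 D44141) (iv4 F63030) D46320 D99013 F367069 F142564 F142560)
theorem F367070 : act 5 n90202 = n99013 := (sb E103255 (iv5 F367069))
theorem F367071 : act 6 n90202 = n46673 := (sb E103255 (iv6 D99933))
theorem F367072 : act 6 n93768 = n179807 := d10_2 F294628 D93768 (iv4 D179807)
theorem F367073 : act 6 n93761 = n102466 := d7_2 F294622 D93761 (iv3 D102466)
theorem F367074 : act 6 n99547 = n90224 := d14_5 (iv7 F254751) F367073 F290043 (iv6 F289917) (iv7 F177412)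
theorem F367075 : act 1 n185593 = n185458 := d15_0 (iv0 D185458) F294574 (iv2 F287915)
theorem F367076 : act 3 n96095 = n181884 := d20_3 (iv4 F294545) F294544 F293644 (iv1 D181884) (iv3 D86873) (iv4 F61360) (iv1 D19483) D19484 D41367 D88627
theorem F367077 : act 5 n183496 = n95276 := d6_2 F294527 D183496 (iv3 D95276)
theorem F367078 : act 7 n169919 = n183496 := d13_0 F367077 F146908 D169919
theorem F367079 : act 2 n169921 = n183508 := d1_3 F285247 F294504 (iv4 F267344)
theorem F367080 : act 5 n95398 = n183503 := d2_2 F294500 D95398 (iv2 D183503)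
theorem F367081 : act 6 n186378 = n112920 := d10_2 F294492 D186378 (iv4 D112920)
theorem F367082 : act 5 n102867 = n119068 := d21_6 (iv5 D25311) D25308 D52122 F294492 (iv1 F294490) D102867 (iv1 D119068) (iv5 F175874) (iv6 D112929) (iv1 D52127)
theorem F367083 : act 0 n186285 = n88975 := d17_2 (iv1 F293934) D186285 F291613 F65094 D47705 F294490 (iv5 D88781) F293477 (iv4 F72973)
theorem F367084 : act 1 n186280 = n88975 := d15_0 (iv0 F367083) (iv7 F367049) F367050
theorem F367085 : act 1 n99037 = n186280 := d15_0 F367084 F136564 D99037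
theorem F367086 : act 1 n186285 = n99037 := d15_0 F367085 F367047 (iv2 F367048)
theorem F367087 : act 5 n92553 = n99037 := d17_5 D41446 D88776 F295069 (iv5 D186050) (iv4 F142560) F367085 (iv5 D186280) (iv0 D88735) F63875
theorem F367088 : act 6 n92553 = n99375 := d21_9 D100544 F239752 F74127 (iv6 D46082) D46078 F294785 D186280 (iv1 F367085) (iv5 F367087) (iv1 F153038)
theorem F367089 : act 5 n182590 = n98605 := d6_2 F294475 D182590 F151998
theorem F367090 : act 5 n181880 = n183237 := d17_1 (iv1 F283169) (iv1 D183237) (iv5 D87468) F61810 D40753 (iv0 F136896) F294473 F133785 (iv4 F148140)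
theorem F367091 : act 6 n103852 = n181880 := d21_5 D87457 (iv1 F134838) (iv5 D87852) D87853 (iv1 F159262) F367090 (iv1 D183237) (iv5 D87468) (iv6 D40694) D40690
theorem F367092 : act 2 n181880 = n184200 := d3_1 F367091 (iv6 D184200) (iv2 F159265)
theorem F367093 : act 7 n181879 = n184200 := d15_2 F283169 F283164 (iv2 F367092)
theorem F367094 : act 0 n182777 = n184552 := d21_1 D182777 (iv5 F287226) (iv6 D184749) (iv1 D88101) F294439 (iv5 D40520) (iv1 D19145) D19147 D40527 D87246
theorem F367095 : act 0 n154237 = n182778 := d21_4 (iv5 D41135) (iv1 F302512) (iv5 F109592) D154237 (iv6 D182778) D182777 F367094 (iv5 F287226) (iv6 D184749) (iv1 D88101)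
theorem F367096 : act 7 n99656 = n102898 := d8_2 F294404 (iv3 F153481) F158202
theorem F367097 : act 0 n100151 = n182590 := d20_4 F61539 (iv1 F293499) (iv4 F153483) (iv3 F251754) (iv3 D182590) (iv4 F294385) (iv1 F160709) F294012 (iv3 D182316) (iv1 D87053)
theorem F367098 : act 5 n98917 = n92558 := d2_2 F294366 (iv2 F152465) F142576
theorem F367099 : act 5 n186140 = n90991 := d17_7 F294132 D91016 F294361 (iv5 D43308) (iv4 F63851) D88681 D186140 (iv0 F293116) F72748
theorem F367100 : act 2 n98693 = n186140 := d2_3 F367099 F344280 D98693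
theorem F367101 : act 7 n98698 = n186140 := d13_0 F367099 F344281 D98698
theorem E103256 : n186413 = n98698 := (c15_2 F349284 D186413 F367101 (iv2 F367100))
theorem F367102 : act 0 n98698 = n88790 := (sb E103256 (iv1 D186413))
theorem F367103 : act 1 n98698 = n186137 := (sb E103256 F289199)
theorem F367104 : act 2 n98698 = n186139 := d15_3 (iv0 D186139) D186140 (iv7 F367101)
theorem F367105 : act 5 n186139 = n90990 := d2_2 D98698 F367104 F344284
theorem F367106 : act 7 n186139 = n98693 := d4_2 (iv7 F367101) F367104 F367100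
theorem E103257 : n184377 = n184128 := (c15_1 D184377 (iv0 D184128) (iv7 F140465) F294328)
theorem F367107 : act 0 n184128 = n87936 := (sb E103257 (iv1 D184377))
theorem F367108 : act 5 n184128 = n103595 := (sb E103257 (iv5 F343058))
theorem F367109 : act 7 n184128 = n95506 := (sb E103257 F343056)
theorem F367110 : act 3 n105056 = n104446 := d7_3 (iv6 D104446) F294284 (iv6 F160975)
theorem F367111 : act 5 n104446 = n89191 := d6_2 D105056 F367110 F294448
theorem F367112 : act 3 n99014 = n186290 := d5_3 F294282 (iv3 F72974) D99014 (iv4 D186290) F136083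
theorem F367113 : act 0 n185136 = n185631 := d20_10 (iv4 D185631) (iv1 D88428) (iv4 F65098) (iv3 D42167) (iv1 D19896) D19897 (iv4 F65027) D90090 F294259 D185136
theorem F367114 : act 3 n100658 = n103465 := d7_3 (iv6 D103465) F294207 D100658
theorem F367115 : act 5 n103465 = n89769 := d6_2 (iv5 F293428) F367114 F137765
theorem F367116 : act 6 n95619 = n184385 := d10_2 F294161 (iv4 F147290) F286316
theorem F367117 : act 1 n184385 = n91289 := d15_0 F293316 (iv7 F294157) D184385
theorem F367118 : act 1 n100885 = n184385 := d15_0 F367117 (iv7 F140539) F357427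
theorem F367119 : act 0 n96976 = n91286 := d20_1 F251143 (iv4 F154234) (iv3 D100250) (iv1 F73894) F293951 (iv4 D23307) F292015 (iv4 F33146) (iv3 F69461) D94405
theorem F367120 : act 6 n91133 = n89133 := d21_5 F31983 F31733 D20140 D42675 D91133 (iv5 D89133) (iv1 D41640) D41641 F64262 F293943
theorem F367121 : act 2 n101573 = n91133 := d3_3 F367120 F156440 D101573
theorem F367122 : act 3 n184722 = n91133 := d7_3 F367120 F155421 D184722
theorem F367123 : act 7 n91134 = n101573 := d15_2 (iv0 D91133) D91134 F367121
theorem F367124 : act 7 n99014 = n186290 := d11_2 F293938 D99014 (iv4 D186290)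
theorem F367125 : act 1 n99010 = n186288 := d15_0 (iv0 D186288) F293938 (iv2 F152548)
theorem F367126 : act 1 n186287 = n99012 := d15_0 (iv0 D99012) (iv7 F293938) (iv2 F289053)
theorem F367127 : act 5 n99012 = n90201 := d17_7 D47702 (iv5 F293472) F291646 (iv5 D88783) (iv4 F136082) D186287 F367126 (iv0 D90201) F65094
theorem F367128 : act 0 n100377 = n98313 := d21_4 (iv5 F367127) (iv1 F367126) (iv5 D186287) (iv6 F154388) (iv6 D98313) D98312 F344373 (iv5 D102530) F291615 D90201
theorem F367129 : act 5 n186288 = n92551 := d17_7 D88617 F295032 (iv1 F291648) (iv5 D94443) (iv4 F72973) D99010 F367125 (iv0 D92551) F67949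
theorem F367130 : act 6 n92551 = n99922 := d21_3 D88738 D186288 F367129 (iv1 D99922) (iv6 D46671) (iv5 F72632) (iv1 F136432) (iv5 D88911) F294790 (iv1 D88736)
theorem F367131 : act 2 n90202 = n92551 := d3_3 F367130 F160543 (iv6 F367071)
theorem F367132 : act 2 n186288 = n99013 := d2_3 (iv5 F367070) F367131 (iv5 F367129)
theorem F367133 : act 7 n92552 = n90202 := d15_2 (iv0 D92551) D92552 F367131
theorem F367134 : act 7 n90201 = n92551 := d15_2 F142564 F142562 (iv2 F367131)
theorem F367135 : act 2 n92552 = n90201 := d4_3 F367134 (iv2 F367131) (iv7 F367133)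
theorem F367136 : act 7 n186288 = n99012 := d13_2 F367134 (iv5 F367129) F367127
theorem F367137 : act 2 n99012 = n186289 := d15_3 F367067 F367125 F367136
theorem F367138 : act 7 n99013 = n186289 := d4_2 (iv7 F367136) F367132 (iv2 F367137)
theorem F367139 : act 5 n186289 = n92552 := d13_1 F367138 F367133 F367070
theorem F367140 : act 6 n100375 = n89498 := d21_5 (iv5 F367139) (iv1 D186289) (iv5 D88738) (iv6 F74035) D100375 F346298 D175280 F354875 (iv6 F291612) (iv1 F142563)
theorem F367141 : act 2 n98313 = n100375 := d3_3 F367140 F145299 D98313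
theorem F367142 : act 3 n186500 = n100375 := d7_3 F367140 F137203 D186500
theorem F367143 : act 5 n175406 = n100375 := d12_5 F367140 F346298 F128760 D83756 D175406
theorem E103258 : n175406 = n100147 := ((c21_2 D46744 D100147 F367143 F367140 (iv1 F137204) (iv6 D45994) D45993 (iv1 F73764) (iv5 D46669) D46670 (iv1 F157759))).symm
theorem F367144 : act 5 n100147 = n100375 := (sb E103258 F367143)
theorem F367145 : act 6 n100147 = n83756 := (sb E103258 (iv6 D175406))
theorem F367146 : act 7 n100376 = n98313 := d15_2 (iv0 D100375) D100376 F367141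
theorem F367147 : act 6 n96387 = n181881 := d7_2 F293828 (iv3 F148351) F283165
theorem F367148 : act 1 n94345 = n102937 := d15_0 (iv0 D102937) D102940 F293800
theorem F367149 : act 6 n102931 = n120121 := d10_2 F293789 D102931 (iv4 D120121)
theorem F367150 : act 6 n102893 = n99654 := d10_2 F293770 D102893 (iv4 F153434)
theorem F367151 : act 2 n99656 = n102893 := d3_3 F367150 (iv2 D99654) D99656
theorem F367152 : act 1 n102893 = n182411 := d15_0 (iv0 F361063) (iv7 F367096) F367151
theorem F367153 : act 7 n102966 = n93910 := d4_2 F293767 (iv2 F158249) F144734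
theorem F367154 : act 1 n102966 = n93827 := d15_0 F144653 F293767 (iv2 F158249)
theorem F367155 : act 1 n93819 = n102966 := d15_0 F367154 F144652 (iv2 F144628)
theorem F367156 : act 0 n102110 = n102898 := d20_10 (iv4 D102898) (iv1 D47722) (iv4 F70880) (iv3 D45037) (iv1 F33825) D40446 (iv4 F65257) D90371 F293736 D102110
theorem F367157 : act 5 n100669 = n90543 := d2_2 F143155 F293728 (iv2 F143153)
theorem F367158 : act 0 n100669 = n90597 := d21_7 (iv5 D90539) (iv1 D42372) D42373 F65454 D42384 D90543 (iv5 F367157) (iv5 F161539) (iv6 D105340) F139350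
theorem F367159 : act 5 n94365 = n164076 := d2_2 F293691 D94365 (iv2 D164076)
theorem F367160 : act 3 n164094 = n94365 := d6_3 F367159 F258570 D164094
theorem F367161 : act 2 n169915 = n183498 := d1_3 F285244 F293627 (iv4 F267339)
theorem E103259 : n159735 = n90665 := (c20_1 F251667 (iv1 D90665) (iv4 F139576) F139575 F291205 D96292 F148138 D96417 F293552 F160390 (iv1 F160382))
theorem F367162 : act 2 n90665 = n92802 := (sb E103259 (iv2 F251663))
theorem F367163 : act 3 n90665 = n76420 := (sb E103259 F251661)
theorem F367164 : act 4 n90665 = n103805 := (sb E103259 (iv4 F251667))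
theorem F367165 : act 5 n90665 = n76418 := (sb E103259 (iv5 D159735))
theorem F367166 : act 6 n90665 = n92776 := (sb E103259 F251662)
theorem E103260 : n104314 = n103091 := (c20_5 (iv4 D44956) D44955 (iv4 F70686) D48278 D104314 (iv3 F251666) (iv4 F367164) (iv1 D90665) (iv4 F139576) F139575 F291205)
theorem F367167 : act 1 n103091 = n48278 := (sb E103260 (iv0 D104314))
theorem F367168 : act 1 n185521 = n103091 := d15_0 F367167 (iv7 F290772) (iv2 F287790)
theorem F367169 : act 4 n185832 = n181896 := d10_3 (iv6 D181896) F293510 F288209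
theorem E103261 : n181896 = n104297 := (c20_1 F367169 (iv1 D104297) F291491 F139579 (iv1 F290722) (iv3 F291046) F31093 D19443 D41314 D88508 D185832)
theorem F367170 : act 4 n104297 = n185832 := (sb E103261 (iv4 F367169))
theorem F367171 : act 6 n104297 = n86876 := (sb E103261 (iv6 D181896))
theorem F367172 : act 2 n164104 = n94276 := d2_3 (iv5 D94276) F293461 D164104
theorem F367173 : act 6 n94276 = n164079 := d3_2 (iv6 F258635) F367172 F258581
theorem F367174 : act 3 n96547 = n163464 := d5_3 F293339 (iv3 F70974) D96547 (iv4 D163464) F119739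
theorem F367175 : act 7 n89870 = n89718 := d14_4 F293309 (iv6 D44828) (iv7 F69030) (iv6 F137956) (iv6 F140350)
theorem F367176 : act 4 n89718 = n93942 := d11_1 F367175 (iv7 D93942) (iv4 F137955)
theorem F367177 : act 6 n93942 = n100250 := d10_2 F140350 F367176 F154234
theorem F367178 : act 1 n95576 = n89718 := d18_6 (iv1 F161502) (iv4 F176551) (iv1 F177002) (iv4 D113750) D113751 (iv4 F177004) F367176 F251829 F251827
theorem F367179 : act 0 n92804 = n104359 := d19_0 F159981 (iv4 F367176) (iv3 D89718) F292505 F70787 D96396 F330287 (iv1 F330285) F330652 (iv4 D85005) (iv3 F190133) (iv1 D58308) (iv5 D27771) (iv4 F44851) (iv3 F92154) F304375 D89032 F332657 F288074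
theorem F367180 : act 5 n100250 = n92605 := d12_1 F367177 F251772 (iv5 D114011) (iv6 F251769) F159981
theorem F367181 : act 5 n114834 = n102938 := d21_6 (iv5 D40432) F63209 (iv5 F68972) D93851 (iv1 F144675) D114834 (iv1 D102938) (iv5 F293283) F293284 F292195
theorem F367182 : act 0 n94345 = n102938 := d21_1 (iv5 F238452) (iv5 F367181) (iv6 D114834) (iv1 D52986) (iv6 D25720) F20210 D23960 (iv5 F76733) D105395 (iv1 F238455)
theorem F367183 : act 6 n186294 = n99023 := d14_3 F293266 D88739 D186294 (iv7 D99023) (iv6 D46323)
theorem F367184 : act 5 n104364 = n186003 := d6_2 F293257 D104364 (iv3 D186003)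
theorem F367185 : act 2 n186003 = n134550 := d2_1 F367184 (iv5 D134550) (iv2 F328607)
theorem F367186 : act 1 n186003 = n136888 := d17_6 (iv1 F352092) (iv5 F352079) (iv1 D176331) F321849 (iv4 F328608) F367184 (iv5 D136888) D136887 F352100
theorem F367187 : act 0 n100931 = n93302 := d21_10 (iv5 D93302) (iv1 D43641) (iv5 F68450) (iv6 D43562) (iv1 F293214) (iv6 F35157) (iv5 D22616) D22614 D47039 D100931
theorem F367188 : act 6 n100245 = n93302 := d21_5 (iv5 D10721) (iv1 F66059) D22438 D46779 D100245 (iv5 D93302) (iv1 D43641) (iv5 F68450) (iv6 D43562) (iv1 F293214)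
theorem F367189 : act 5 n102906 = n92843 := d6_2 F293200 (iv3 F158205) F143209
theorem F367190 : act 5 n102914 = n92861 := d13_3 (iv7 D92861) F293200 D102914
theorem F367191 : act 5 n100366 = n100976 := d6_2 F293155 D100366 (iv3 D100976)
theorem F367192 : act 1 n97376 = n185668 := d15_1 D97376 (iv7 D185668) F293058
theorem F367193 : act 1 n185666 = n97377 := d15_1 D185666 (iv7 D97377) (iv2 F293058)
theorem F367194 : act 4 n163514 = n97376 := d18_5 (iv1 F140958) F140956 (iv1 F88408) D78576 D163514 F367192 (iv4 F348731) F257869 (iv5 D163455)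
theorem F367195 : act 5 n101422 = n95824 := d18_4 D101251 F155992 F293043 F292404 F147506 (iv0 D45348) D45350 D97012 F290786
theorem F367196 : act 5 n95686 = n104230 := d2_2 F367195 (iv2 F147507) F159821
theorem F367197 : act 5 n95689 = n104120 := d13_3 F159599 F367195 (iv7 F147508)
theorem F367198 : act 6 n185703 = n95523 := d21_5 F293036 (iv1 D41287) D41289 D88454 D185703 (iv5 D95523) (iv1 D44619) D44620 F70146 D44625
theorem F367199 : act 2 n95937 = n185703 := d3_3 F367198 F317852 D95937
theorem F367200 : act 4 n185703 = n93793 := d1_2 (iv4 F364062) F367199 (iv2 F155692)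
theorem F367201 : act 7 n185704 = n95937 := d15_2 (iv0 D185703) D185704 F367199
theorem F367202 : act 4 n93792 = n185704 := d11_3 F367201 F364062 (iv7 F155693)
theorem F367203 : act 5 n95775 = n185692 := d2_2 F293032 (iv2 F147460) F287990
theorem F367204 : act 0 n185692 = n95937 := d21_4 F66252 F293018 D88450 D185692 (iv6 D95937) (iv5 D44779) (iv1 D21323) D21324 F33524 D21335
theorem F367205 : act 5 n96299 = n97008 := d2_2 (iv5 F150185) F292823 F149617
theorem F367206 : act 7 n94349 = n102931 := d11_2 F292777 D94349 (iv4 D102931)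
theorem F367207 : act 1 n94355 = n102914 := d15_1 D94355 (iv7 D102914) F292776
theorem F367208 : act 1 n102912 = n94356 := d15_1 D102912 (iv7 D94356) (iv2 F292776)
theorem F367209 : act 7 n94336 = n102905 := d11_2 F292772 D94336 (iv4 D102905)
theorem F367210 : act 5 n163430 = n94349 := d19_13 (iv1 F292760) (iv5 D1743) F1737 (iv3 F1704) F2903 F2901 F2900 D3714 D8256 (iv5 F30319) D35782 D78542 D163430 (iv4 D94349) (iv3 D44098) (iv1 D20948) (iv5 D9951) F6604 F3185
theorem F367211 : act 7 n181694 = n163430 := d13_0 F367210 F367206 (iv5 F282818)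
theorem F367212 : act 2 n181694 = n163431 := d16_9 (iv4 F276104) F283197 (iv4 D181900) (iv5 D86878) (iv4 F64566) (iv5 F292529) D94349 (iv5 F367210) (iv7 F367211)
theorem F367213 : act 7 n181695 = n163431 := d15_2 (iv0 D181694) D181695 (iv2 F367212)
theorem F367214 : act 2 n163430 = n181695 := d4_3 F367213 (iv2 F367212) F367211
theorem F367215 : act 3 n102570 = n186037 := d20_5 (iv4 F65928) (iv1 D22878) (iv4 F35574) (iv3 F74813) D102570 (iv4 D186037) (iv1 F135810) F72220 F72219 (iv1 F292716)
theorem F367216 : act 0 n102570 = n102856 := d20_4 F63761 D88614 D186037 (iv3 F367215) (iv3 D102856) D102857 (iv1 F158170) (iv4 F288644) (iv3 D186041) (iv1 D88615)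
theorem F367217 : act 0 n97164 = n93521 := d20_1 (iv4 F149911) (iv4 F292051) (iv3 D90851) F291278 D46957 F74176 (iv1 F292684) (iv4 F144728) (iv3 F251953) F251956
theorem F367218 : act 0 n93061 = n100119 := d21_4 F292683 (iv1 F68416) D43545 D93061 (iv6 D100119) (iv5 D46735) (iv1 D22405) D22406 F34961 D22418
theorem F367219 : act 2 n98859 = n91066 := d0_3 (iv3 F139242) F292670 F290088 F140106 F66699
theorem F367220 : act 7 n98369 = n91066 := d15_2 (iv0 D98859) (iv0 F151789) (iv2 F367219)
theorem F367221 : act 6 n91068 = n88956 := d21_5 F292625 (iv1 F31739) D20131 D42655 D91068 (iv5 D88956) (iv1 D41533) D41534 F64080 D41542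
theorem F367222 : act 2 n93770 = n91068 := d3_3 F367221 F272718 (iv6 F294629)
theorem F367223 : act 4 n92569 = n91068 := d10_3 F367221 (iv4 F332680) (iv6 F366185)
theorem F367224 : act 7 n91068 = n93771 := d11_2 F366188 F367223 F351148
theorem F367225 : act 2 n93771 = n91069 := d15_3 F144539 F144540 F367224
theorem F367226 : act 7 n93770 = n91069 := d4_2 (iv7 F367224) (iv2 F367222) (iv2 F367225)
theorem F367227 : act 4 n91069 = n92570 := d11_1 F367226 F366187 (iv4 F354763)
theorem F367228 : act 0 n92437 = n185824 := d21_1 D92437 (iv5 D185824) F291531 (iv1 F288944) (iv6 F292581) (iv5 D105375) (iv1 F76695) (iv5 F83212) (iv6 F142171) (iv1 F142172)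
theorem F367229 : act 1 n89846 = n97163 := d17_6 (iv1 F142172) D92437 F367228 (iv5 D185824) F135487 (iv5 F137911) (iv5 D97163) F138033 (iv4 F142169)
theorem F367230 : act 0 n94400 = n92438 := d21_4 (iv5 F292578) F331393 (iv5 D94399) D94400 (iv6 D92438) D92437 F367228 (iv5 D185824) F291531 (iv1 F288944)
theorem F367231 : act 5 n186227 = n114371 := d21_0 (iv1 F205572) F205569 (iv6 D112956) (iv1 F82496) F292580 (iv5 D88703) (iv1 D41412) D41414 D88711 D186227
theorem F367232 : act 0 n96975 = n104299 := d21_1 D96975 (iv5 D104299) (iv6 F292374) F292561 (iv6 F292575) (iv5 F161631) (iv1 F251896) F251894 (iv6 F149556) (iv1 F149557)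
theorem F367233 : act 0 n96065 = n96976 := d21_4 D186201 (iv1 F331400) (iv5 D96064) D96065 (iv6 D96976) D96975 F367232 (iv5 D104299) (iv6 F292374) F292561
theorem F367234 : act 6 n186185 = n96234 := d7_2 F292566 D186185 (iv3 D96234)
theorem F367235 : act 6 n186179 = n90419 := d7_2 F292441 D186179 (iv3 D90419)
theorem F367236 : act 1 n186249 = n151975 := d15_1 D186249 (iv7 F292427) F140031
theorem F367237 : act 2 n93999 = n186250 := d2_1 F292426 (iv5 D186250) (iv2 F140031)
theorem F367238 : act 6 n104298 = n96095 := d3_2 F292374 D104298 (iv2 D96095)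
theorem F367239 : act 3 n101973 = n104298 := d7_3 F367238 F367076 F367062
theorem F367240 : act 1 n184071 = n92558 := d15_1 D184071 F142577 F292349
theorem F367241 : act 5 n183120 = n184071 := d17_7 (iv1 D181884) (iv5 F292816) F150184 (iv5 D95548) F70174 D87409 D183120 F367240 F283173
theorem F367242 : act 0 n89478 = n153539 := d21_7 (iv5 F31380) (iv1 F35165) (iv5 D22637) D22638 (iv1 F290143) (iv6 F292284) F292283 (iv5 D153539) (iv6 D72595) F52829
theorem F367243 : act 3 n100702 = n159848 := d6_3 (iv5 F251985) F292211 D100702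
theorem F367244 : act 5 n102701 = n92568 := d6_2 F292206 (iv3 F157959) F142596
theorem F367245 : act 5 n102708 = n92571 := d13_3 (iv7 D92571) F292206 D102708
theorem F367246 : act 0 n90468 = n99928 := d20_4 (iv4 F32689) F290731 (iv4 F290733) D90468 (iv3 F285530) F285531 (iv1 F292184) F140132 (iv3 D91081) (iv1 F66707)
theorem F367247 : act 5 n177883 = n90232 := d6_2 (iv5 F138619) F292180 F138794
theorem F367248 : act 5 n114372 = n186228 := d21_0 (iv1 D186228) (iv5 F292041) (iv6 D92966) D92963 F205465 (iv5 D52754) (iv1 F46019) (iv5 F94478) D127795 (iv1 F205571)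
theorem F367249 : act 6 n186228 = n133392 := d21_9 (iv5 F233583) (iv1 F331444) F331446 (iv6 D113051) (iv1 F82499) D112956 (iv5 F205569) (iv1 F205571) F367248 (iv1 F214464)
theorem F367250 : act 0 n92682 = n100707 := d20_4 D92609 (iv1 F142850) (iv4 D92685) (iv3 F142832) F154814 (iv4 F291890) (iv1 F138948) F65578 (iv3 F32644) (iv1 F67997)
theorem E103262 : n100188 = n99919 := (c17_7 (iv1 F138958) D92682 F367250 F154815 (iv4 F143503) F292681 D100188 (iv5 D99919) (iv0 F157760) F139728)
theorem F367251 : act 0 n99919 = n46760 := (sb E103262 (iv1 D100188))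
theorem F367252 : act 5 n96292 = n97007 := d6_2 F291778 D96292 (iv3 D97007)
theorem F367253 : act 6 n98607 = n90468 := d10_2 F291560 (iv4 F291559) (iv4 F290584)
theorem F367254 : act 1 n100152 = n182590 := d15_1 D100152 F284088 F291553
theorem F367255 : act 5 n98573 = n100152 := d17_7 (iv1 D88687) D88689 (iv1 F291016) (iv5 D93817) F68937 D46081 D98573 F367254 F284089
theorem F367256 : act 5 n104303 = n96098 := d12_3 F291492 D48271 D104303 (iv6 D96098) (iv5 D44840)
theorem F367257 : act 6 n90764 = n186437 := d21_5 (iv5 D42275) F65637 D20059 D42500 D90764 (iv5 D186437) (iv1 D88795) (iv5 F74182) (iv6 D46968) F291450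
theorem F367258 : act 7 n100686 = n92452 := d11_2 F291440 (iv4 F154799) F142236
theorem F367259 : act 5 n90443 = n100686 := d13_3 F367258 (iv5 F143020) F143021
theorem F367260 : act 0 n100345 = n90443 := d17_2 F290211 D100345 F367259 F154799 (iv5 F365645) (iv0 F153869) (iv5 D46852) D46851 F143010
theorem F367261 : act 5 n95826 = n101391 := d6_2 F291433 D95826 (iv3 D101391)
theorem F367262 : act 0 n177896 = n185129 := d19_8 (iv1 F35783) D9358 D19889 (iv3 F291372) (iv1 D39116) D39117 D84690 D177896 (iv5 D185129) (iv4 D88232) F62380 (iv1 F62371) (iv5 F68707) (iv4 D43711) F32825 F15393 (iv5 D8952) (iv4 F15266) D9264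
theorem F367263 : act 5 n93061 = n99939 := d12_5 (iv6 D99939) F291078 (iv6 D43546) D43545 D93061
theorem F367264 : act 5 n90446 = n100687 := d12_3 D46959 F291075 D90446 (iv6 D100687) (iv5 D46958)
theorem F367265 : act 2 n100687 = n90761 := d2_1 F367264 (iv5 F143019) F143018
theorem F367266 : act 5 n92514 = n102672 := d6_2 F290981 D92514 (iv3 D102672)
theorem F367267 : act 5 n102573 = n100718 := d12_3 F290844 (iv5 F74815) D102573 (iv6 D100718) F74183
theorem F367268 : act 4 n102369 = n93864 := d10_3 (iv6 D93864) F290743 D102369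
theorem F367269 : act 0 n146320 = n102569 := d21_4 (iv5 D59812) D59810 (iv5 F104817) D146320 (iv6 D102569) (iv5 D47572) F290205 D100341 (iv6 F163255) F163257
theorem F367270 : act 0 n177892 = n184612 := d18_2 F289760 D177892 (iv4 D184612) (iv5 D88029) (iv4 F73695) (iv0 F289617) F289771 F289737 D102417
theorem E103263 : n183222 = n97072 := ((c15_2 F289564 D97072 (iv7 D183222) (iv2 F149498))).symm
theorem F367271 : act 2 n97072 = n95611 := (sb E103263 F289560)
theorem F367272 : act 3 n97072 = n95679 := (sb E103263 F344222)
theorem F367273 : act 6 n97072 = n95679 := (sb E103263 (iv6 F344220))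
theorem F367274 : act 7 n97072 = n87460 := (sb E103263 (iv7 D183222))
theorem F367275 : act 0 n95578 = n95490 := d20_10 F147122 (iv1 F289534) F71480 (iv3 D45352) F63254 (iv3 F70333) F70334 (iv1 F83203) F83204 D95578
theorem E103264 : n100742 = n89371 := ((c21_7 (iv5 F51872) (iv1 F51875) (iv5 F58716) D41628 (iv1 F289521) D41733 D89371 (iv1 D100742) (iv5 D46978) (iv6 D22592) (iv1 F34787))).symm
theorem F367276 : act 0 n89371 = n46978 := (sb E103264 (iv1 D100742))
theorem E103265 : n102336 = n100741 := (c15_4 (iv0 D100741) (iv0 F367276) (iv7 F137041) D102336)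
theorem F367277 : act 2 n100741 = n47489 := (sb E103265 (iv2 D102336))
def n186574 : Q := act 6 n88861
theorem D186574 : act 6 n88861 = n186574 := rfl
theorem F367278 : act 2 n186574 = n89415 := d3_1 D186574 (iv6 D89415) (iv2 F136257)
theorem F367279 : act 3 n186574 = n133421 := d7_1 D186574 F214537 F352665
theorem F367280 : act 4 n186574 = n88862 := d10_1 D186574 (iv6 D88862) D88861
theorem F367281 : act 5 n186574 = n133418 := d12_1 D186574 (iv6 D133418) F97669 (iv6 F329361) (iv5 F136258)
theorem F367282 : act 0 n95456 = n186574 := d21_4 (iv5 D21276) D21274 (iv5 F70121) D95456 (iv6 D186574) F136258 (iv1 F74717) (iv5 F136484) F307545 F70198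
def n186575 : Q := act 0 n88862
theorem D186575 : act 0 n88862 = n186575 := rfl
theorem F367283 : act 2 n89416 = n186575 := d15_3 (iv0 D186575) (iv0 F366861) F352512
theorem F367284 : act 3 n186575 = n151579 := d0_2 F352511 F367283 (iv2 F242372) F242373 (iv2 F198067)
theorem F367285 : act 7 n186575 = n89417 := d4_2 F352512 F367283 F307588
theorem F367286 : act 1 n89419 = n186575 := d15_1 F366862 F367285 F307588
def n186576 : Q := act 7 n88862
theorem D186576 : act 7 n88862 = n186576 := rfl
theorem F367287 : act 2 n186576 = n89419 := d4_1 D186576 (iv7 D89419) (iv2 F136260)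
theorem F367288 : act 6 n186576 = n89387 := d14_1 D186576 (iv7 D89387) (iv6 D41740) (iv7 F63935) D88862
theorem F367289 : act 1 n89417 = n186576 := d15_1 D89417 (iv7 D186576) F136260
theorem F367290 : act 1 n186576 = n89416 := d15_1 F367289 (iv7 F352512) (iv2 F307588)
def n186577 : Q := act 6 n88865
theorem D186577 : act 6 n88865 = n186577 := rfl
theorem F367291 : act 2 n186577 = n89428 := d3_1 D186577 (iv6 D89428) (iv2 F136268)
theorem F367292 : act 4 n186577 = n88866 := d10_1 D186577 (iv6 D88866) D88865
def n186578 : Q := act 0 n88866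
theorem D186578 : act 0 n88866 = n186578 := rfl
def n186579 : Q := act 1 n88866
theorem D186579 : act 1 n88866 = n186579 := rfl
theorem F367293 : act 1 n186579 = n89432 := d15_1 D186579 (iv7 D89432) (iv2 F136271)
theorem F367294 : act 5 n134539 = n186579 := d21_6 (iv5 D21394) (iv1 F292125) D43613 (iv6 F143798) (iv1 F332683) (iv6 F355062) (iv1 D186579) (iv5 F147809) (iv6 D96144) (iv1 D44866)
theorem F367295 : act 2 n186579 = n89430 := d2_1 F367294 (iv5 F354705) F355060
def n186580 : Q := act 7 n88866
theorem D186580 : act 7 n88866 = n186580 := rfl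
theorem F367296 : act 2 n186580 = n89432 := d4_1 D186580 (iv7 D89432) (iv2 F136271)
theorem F367297 : act 3 n186580 = n136048 := d8_1 D186580 F328460 F352609
theorem F367298 : act 5 n186580 = n136041 := d13_1 D186580 F352613 F147809
theorem F367299 : act 6 n186580 = n89442 := d14_1 D186580 (iv7 D89442) (iv6 D41764) (iv7 F63939) D88866
theorem F367300 : act 1 n89432 = n186578 := d15_0 (iv0 D186578) D186580 F367296
theorem F367301 : act 1 n89430 = n186580 := d15_1 D89430 (iv7 D186580) F136271
theorem F367302 : act 7 n186578 = n89430 := d15_2 F367293 F367300 (iv2 F367295)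
theorem F367303 : act 5 n134219 = n186578 := d13_3 F367302 (iv5 F354705) F355058
theorem F367304 : act 2 n186578 = n89429 := d15_3 (iv0 D89429) D89430 (iv7 F367302)
theorem F367305 : act 5 n89429 = n131934 := d2_2 F367303 F367304 F355059
theorem F367306 : act 7 n89429 = n186579 := d4_2 (iv7 F367302) F367304 F367295
theorem F367307 : act 1 n186580 = n89429 := d15_1 F367301 F367306 F367295
theorem E103266 : n131935 = n131840 := (c17_6 (iv1 F352509) (iv5 D89431) D89429 F367305 (iv4 D131934) D131935 (iv0 D131840) (iv5 D61862) D61860 D131835)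
theorem F367308 : act 5 n131840 = n61907 := (sb E103266 (iv5 D131935))
theorem F367309 : act 0 n131936 = n105353 := d21_4 D61862 D131840 F367308 D131936 (iv6 D105353) F76644 (iv1 F173407) (iv5 F176680) F352531 (iv1 D61860)
theorem F367310 : act 1 n131936 = n129093 := d15_1 (iv0 F367309) (iv7 F211684) F365453
theorem F367311 : act 3 n186578 = n134130 := d6_1 F367303 F349806 D134219
theorem F367312 : act 6 n186578 = n153825 := d21_3 (iv5 D134541) F216262 F367303 (iv1 F361981) F307502 (iv5 F136212) (iv1 F307521) D73045 D154181 F355349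
def n186581 : Q := act 6 n88867
theorem D186581 : act 6 n88867 = n186581 := rfl
theorem F367313 : act 2 n186581 = n89444 := d3_1 D186581 (iv6 D89444) F136273
theorem F367314 : act 4 n186581 = n98332 := d10_1 D186581 (iv6 D98332) (iv4 F136272)
def n186582 : Q := act 0 n88869
theorem D186582 : act 0 n88869 = n186582 := rfl
theorem F367315 : act 1 n89336 = n186582 := d15_0 (iv0 D186582) (iv7 F289455) F289453
def n186583 : Q := act 1 n88869
theorem D186583 : act 1 n88869 = n186583 := rfl
theorem F367316 : act 1 n186583 = n89336 := d15_1 D186583 F137021 (iv2 F136279)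
def n186584 : Q := act 3 n88870
theorem D186584 : act 3 n88870 = n186584 := rfl
theorem F367317 : act 4 n186584 = n88883 := d5_2 D88870 D186584 (iv3 D88883) (iv4 D41492) (iv3 F63949)
theorem F367318 : act 5 n186584 = n92717 := d6_2 (iv5 F136283) D186584 (iv3 D92717)
theorem F367319 : act 6 n186584 = n90800 := d7_2 (iv6 F290830) D186584 (iv3 D90800)
theorem F367320 : act 7 n186584 = n89561 := d8_2 (iv7 F136282) D186584 (iv3 D89561)
def n186585 : Q := act 3 n88874
theorem D186585 : act 3 n88874 = n186585 := rfl
theorem F367321 : act 2 n186585 = n89703 := d0_1 D186585 (iv3 D89703) (iv2 F64629) F64491 F136303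
theorem F367322 : act 4 n186585 = n95618 := d5_2 F145287 D186585 (iv3 F149554) F149555 (iv3 F145286)
theorem F367323 : act 6 n186585 = n98852 := d7_2 F136306 D186585 F152407
theorem F367324 : act 7 n186585 = n89022 := d8_2 (iv7 F136305) D186585 F136664
theorem F367325 : act 0 n186585 = n95635 := d20_4 (iv4 D94232) F145291 F145287 D186585 F251783 (iv4 F114616) F290311 (iv4 F136904) (iv3 F306701) F306699
theorem F367326 : act 0 n95634 = n186585 := d20_4 F31260 D41469 D88822 (iv3 F147315) (iv3 D186585) (iv4 F145287) (iv1 F145290) (iv4 F136206) (iv3 D88826) (iv1 D41470)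
def n186586 : Q := act 0 n88877
theorem D186586 : act 0 n88877 = n186586 := rfl
theorem F367327 : act 3 n186586 = n183481 := d20_5 (iv4 D42140) (iv1 F290681) (iv4 F63963) (iv3 F136314) D186586 F285237 (iv1 F150260) F147768 F137042 F291151
theorem F367328 : act 6 n186586 = n89027 := d21_5 D102641 (iv1 F337101) (iv5 F337107) D88877 D186586 (iv5 F157818) (iv1 F285215) (iv5 F293578) F293579 (iv1 F153724)
theorem F367329 : act 2 n89038 = n186586 := d15_3 (iv0 D186586) (iv0 F287621) F287618
def n186587 : Q := act 5 n88877
theorem D186587 : act 5 n88877 = n186587 := rfl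
theorem F367330 : act 2 n186587 = n100388 := d2_1 D186587 F362126 F364409
theorem F367331 : act 3 n186587 = n88881 := d6_1 D186587 (iv5 D88881) (iv3 F136314)
theorem F367332 : act 7 n186587 = n99938 := d13_2 (iv7 F291440) D186587 F365645
theorem F367333 : act 0 n186587 = n99286 := d17_2 F287621 D186587 (iv5 D99286) F73268 D92774 F177038 F177036 (iv0 F283801) F287619
theorem F367334 : act 0 n100390 = n186587 := d21_7 (iv5 F337214) (iv1 D143307) (iv5 F316954) F74858 (iv1 F73646) (iv6 F74045) (iv5 F154410) (iv5 D186587) (iv6 D88877) D88874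
theorem F367335 : act 1 n100390 = n177888 := d15_1 (iv0 F367334) (iv7 F362124) (iv2 F367330)
theorem F367336 : act 0 n184612 = n177889 := d20_1 D184612 (iv4 D177889) D177888 (iv1 F367335) F154409 (iv4 F135175) (iv1 F135176) (iv4 D41191) D41190 (iv1 F356381)
theorem F367337 : act 1 n177888 = n99286 := d15_0 (iv0 F367333) F367332 (iv2 F362123)
def n186588 : Q := act 6 n88878
theorem D186588 : act 6 n88878 = n186588 := rfl
theorem F367338 : act 2 n186588 = n89531 := d3_1 D186588 (iv6 D89531) (iv2 F136315)
theorem F367339 : act 3 n186588 = n127616 := d7_1 D186588 (iv6 F353154) F353148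
theorem F367340 : act 4 n186588 = n88879 := d10_1 D186588 (iv6 D88879) D88878
def n186589 : Q := act 0 n88879
theorem D186589 : act 0 n88879 = n186589 := rfl
theorem F367341 : act 6 n186589 = n102509 := d21_5 (iv5 D21982) (iv1 F63435) D41490 D88879 D186589 (iv5 D102509) (iv1 D47547) D47548 F74746 F35954
theorem F367342 : act 2 n89532 = n186589 := d3_3 F367341 F326380 (iv6 F362580)
theorem F367343 : act 0 n186589 = n89535 := d21_4 (iv5 F324393) (iv1 F153714) D102509 (iv6 F367341) F363031 (iv5 D111141) D111138 (iv5 F361301) (iv6 F348480) F324386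
theorem F367344 : act 7 n89533 = n186589 := d15_2 (iv0 D89532) D89533 (iv2 F367342)
def n186590 : Q := act 1 n88879
theorem D186590 : act 1 n88879 = n186590 := rfl
theorem F367345 : act 1 n186590 = n89535 := d15_1 D186590 (iv7 D89535) (iv2 F136322)
theorem F367346 : act 7 n186590 = n89532 := d15_2 (iv0 D186589) D186590 F367342
theorem F367347 : act 2 n89533 = n186590 := d4_3 F367346 F367342 (iv7 F367344)
def n186591 : Q := act 5 n88879
theorem D186591 : act 5 n88879 = n186591 := rfl
theorem F367348 : act 2 n186591 = n89534 := d2_1 D186591 (iv5 D89534) (iv2 F136322)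
theorem F367349 : act 6 n186591 = n88881 := d12_2 D88879 D186591 (iv5 D88881) (iv6 D41491) D41490
theorem F367350 : act 4 n102362 = n186591 := d10_3 F367349 (iv4 F136331) D102362
def n186592 : Q := act 7 n88879
theorem D186592 : act 7 n88879 = n186592 := rfl
theorem F367351 : act 2 n186592 = n89535 := d4_1 D186592 (iv7 D89535) (iv2 F136322)
theorem F367352 : act 3 n186592 = n117806 := d8_1 D186592 (iv7 F356838) (iv3 F363032)
theorem F367353 : act 6 n186592 = n89579 := d14_1 D186592 (iv7 D89579) (iv6 D41834) (iv7 F63961) D88879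
theorem F367354 : act 1 n89533 = n186592 := d15_1 D89533 (iv7 D186592) F136322
theorem F367355 : act 1 n186592 = n89532 := d15_1 F367354 (iv7 F367346) (iv2 F367347)
def n186593 : Q := act 3 n88880
theorem D186593 : act 3 n88880 = n186593 := rfl
theorem F367356 : act 4 n186593 = n94049 := d5_2 F290821 D186593 F144893 F69120 F291256
theorem F367357 : act 6 n186593 = n90775 := d7_2 F291163 D186593 (iv3 D90775)
theorem F367358 : act 7 n186593 = n89065 := d8_2 (iv7 F136324) D186593 F136753
def n186594 : Q := act 2 n88883
theorem D186594 : act 2 n88883 = n186594 := rfl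
theorem F367359 : act 3 n186594 = n89544 := d0_2 D88883 D186594 (iv2 D89544) (iv3 D41811) (iv2 F63964)
theorem F367360 : act 6 n186594 = n90827 := d3_2 (iv6 F292013) D186594 (iv2 D90827)
theorem F367361 : act 7 n186594 = n89586 := d4_2 (iv7 F136339) D186594 (iv2 D89586)
theorem F367362 : act 1 n186594 = n89584 := d15_0 (iv0 D89584) (iv7 F136339) D186594
theorem F367363 : act 1 n89585 = n186594 := d15_0 F367362 (iv7 F157694) F157693
theorem F367364 : act 5 n186594 = n100384 := d21_0 (iv1 F154405) (iv5 D47582) (iv6 F74045) F74046 (iv6 F291472) D43308 (iv1 F294359) (iv5 D91011) (iv6 F294850) (iv1 F367362)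
theorem F367365 : act 3 n100384 = n124355 := d6_1 F367364 F357225 (iv3 F367359)
def n186595 : Q := act 5 n88883
theorem D186595 : act 5 n88883 = n186595 := rfl
theorem F367366 : act 2 n186595 = n100384 := d2_1 D186595 (iv5 F367364) (iv2 D186594)
theorem F367367 : act 3 n186595 = n88884 := d6_1 D186595 (iv5 D88884) D88883
theorem F367368 : act 7 n186595 = n89587 := d13_2 (iv7 F136339) D186595 (iv5 D89587)
theorem F367369 : act 0 n186595 = n99821 := d21_1 D186595 (iv5 D99821) F151056 (iv1 F151054) (iv6 F292348) D92564 F293379 (iv5 D46286) D46287 F136340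
theorem F367370 : act 0 n90523 = n186595 := d21_1 D90523 (iv5 D186595) F292013 (iv1 F292002) (iv6 D89036) D89035 F157686 (iv5 D102589) (iv6 D47584) (iv1 F73642)
theorem F367371 : act 1 n92717 = n127473 := d17_6 (iv1 F73642) D90523 F367370 (iv5 D186595) (iv4 F367317) F367318 F204900 F290151 F74811
theorem F367372 : act 1 n135707 = n92717 := d15_0 F367371 F349111 F349109
theorem F367373 : act 0 n98699 = n186584 := d21_10 F367318 (iv1 F367372) F349108 F290241 (iv1 F143006) F290953 D186137 (iv1 F367103) (iv5 D98698) D98699
def n186596 : Q := act 6 n88884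
theorem D186596 : act 6 n88884 = n186596 := rfl
theorem F367374 : act 2 n186596 = n89547 := d3_1 D186596 (iv6 D89547) (iv2 F136341)
theorem F367375 : act 4 n186596 = n99807 := d10_1 D186596 (iv6 D99807) (iv4 F136345)
theorem F367376 : act 5 n186596 = n90830 := d12_1 D186596 (iv6 D90830) (iv5 D42539) (iv6 F292290) D88884
def n186597 : Q := act 3 n88891
theorem D186597 : act 3 n88891 = n186597 := rfl
theorem F367377 : act 5 n186597 = n99806 := d6_2 (iv5 F136364) D186597 (iv3 D99806)
theorem F367378 : act 7 n186597 = n89530 := d8_2 (iv7 F136363) D186597 (iv3 D89530)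
def n186598 : Q := act 6 n88891
theorem D186598 : act 6 n88891 = n186598 := rfl
theorem F367379 : act 2 n186598 = n89575 := d3_1 D186598 (iv6 D89575) (iv2 F136362)
theorem F367380 : act 4 n186598 = n88892 := d10_1 D186598 (iv6 D88892) D88891
theorem F367381 : act 5 n186425 = n186598 := d21_8 (iv5 D102018) F74595 (iv5 F64409) D89446 (iv1 F344531) (iv6 F289221) (iv5 D186427) D186425 (iv6 D186598) (iv1 F156974)
theorem F367382 : act 2 n176925 = n186425 := d2_3 F367381 F367379 (iv5 F353334)
theorem F367383 : act 4 n112983 = n186424 := d19_18 D186425 F367381 F367380 F335712 (iv1 F100881) F100883 F53583 F49665 (iv1 F24455) (iv5 D13320) F19461 F19460 (iv1 D5686) D5687 D12024 D25324 D52149 D112983 F289218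
theorem F367384 : act 3 n186400 = n112983 := d5_5 F367383 F289218 F136175 (iv3 F136165) (iv4 F289176)
theorem F367385 : act 6 n186398 = n112983 := d10_0 F367383 (iv6 D186424) (iv4 F289174)
theorem F367386 : act 5 n112982 = n186400 := d6_0 F367384 (iv5 D112983) D112982
theorem F367387 : act 4 n186401 = n130544 := d20_8 F80747 (iv1 F47534) (iv4 F96044) D131133 F210036 (iv3 F367384) F289176 D186401 F209130 F95720
theorem F367388 : act 3 n130602 = n186401 := d5_5 F367387 F209130 F95719 (iv3 F95748) D130602
theorem F367389 : act 4 n100706 = n136581 := d16_4 (iv4 F175954) F367386 F289176 (iv5 F154813) (iv5 D136581) (iv4 F204009) F204010 F176178 (iv2 F176177)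
theorem F367390 : act 2 n136585 = n100706 := d1_3 F367389 F219665 D136585
theorem F367391 : act 6 n136581 = n100705 := d10_2 D100706 F367389 (iv4 D100705)
theorem F367392 : act 2 n100705 = n136586 := d3_1 F367391 (iv6 D136586) (iv2 F219665)
theorem F367393 : act 4 n136586 = n100702 := d1_2 D100705 F367392 F154811
theorem F367394 : act 6 n100702 = n136585 := d10_2 D136586 F367393 (iv4 D136585)
theorem F367395 : act 0 n136586 = n100564 := d20_7 F335541 (iv1 F165069) F339956 F143366 (iv1 F251984) (iv3 F367243) (iv4 F367393) (iv4 F361013) F228239 D145258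
theorem F367396 : act 5 n136585 = n186385 := d12_1 F367394 (iv6 D186385) (iv5 D88783) (iv6 F74178) D100702
theorem F367397 : act 7 n186426 = n176925 := d15_2 (iv0 D186425) D186426 F367382
theorem F367398 : act 7 n176926 = n186425 := d15_2 (iv0 D176925) D176926 (iv2 F367382)
theorem F367399 : act 2 n186426 = n176926 := d4_3 F367398 (iv2 F367382) (iv7 F367397)
def n186599 : Q := act 0 n88892
theorem D186599 : act 0 n88892 = n186599 := rfl
theorem F367400 : act 3 n186599 = n157078 := d20_5 F90329 (iv1 F328717) F96502 (iv3 F335712) D186599 (iv4 D157078) D157076 F349778 F172513 F329100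
theorem F367401 : act 1 n89579 = n186599 := d15_0 (iv0 D186599) F335714 (iv2 F361772)
theorem F367402 : act 7 n89577 = n186599 := d8_0 F367400 F342238 (iv3 F342221)
theorem F367403 : act 2 n186599 = n89576 := d15_3 (iv0 D89576) D89577 F367402
def n186600 : Q := act 1 n88892
theorem D186600 : act 1 n88892 = n186600 := rfl
theorem F367404 : act 1 n186600 = n89579 := d15_1 D186600 (iv7 D89579) (iv2 F136365)
theorem F367405 : act 7 n186600 = n89576 := d15_2 (iv0 D186599) D186600 (iv2 F367403)
theorem F367406 : act 6 n89102 = n186600 := d21_3 F114990 (iv1 F90531) (iv5 F136817) (iv1 D186600) (iv6 D88892) (iv5 D41499) F35815 D21982 (iv6 F72580) (iv1 F304502)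
theorem F367407 : act 2 n186600 = n89577 := d3_1 F367406 (iv6 F301800) F147098
theorem F367408 : act 4 n186600 = n89103 := d10_1 F367406 (iv6 D89103) D89102
def n186601 : Q := act 6 n88896
theorem D186601 : act 6 n88896 = n186601 := rfl
theorem F367409 : act 2 n186601 = n89588 := d3_1 D186601 (iv6 D89588) (iv2 F136379)
theorem F367410 : act 4 n186601 = n99809 := d10_1 D186601 (iv6 D99809) (iv4 F136380)
theorem F367411 : act 5 n186601 = n89601 := d12_1 D186601 (iv6 D89601) (iv5 D41846) (iv6 F63994) D88896
def n186602 : Q := act 5 n88910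
theorem D186602 : act 5 n88910 = n186602 := rfl
theorem F367412 : act 2 n186602 = n98294 := d2_1 D186602 (iv5 D98294) (iv2 F136426)
theorem F367413 : act 3 n186602 = n138028 := d6_1 D186602 F356325 (iv3 F136427)
theorem F367414 : act 7 n186602 = n98565 := d13_2 (iv7 F157574) D186602 (iv5 D98565)
theorem F367415 : act 0 n186602 = n98605 := d17_2 (iv1 F157573) D186602 (iv5 F367089) F284089 D186157 F345007 (iv5 D92487) F69112 (iv4 F65933)
theorem F367416 : act 0 n89071 = n186602 := d21_7 D45993 (iv1 F73764) (iv5 D46669) D46670 (iv1 F157759) D46745 (iv5 F136766) (iv5 D186602) (iv6 D88910) (iv1 F64042)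
def n186603 : Q := act 6 n88911
theorem D186603 : act 6 n88911 = n186603 := rfl
theorem F367417 : act 2 n186603 = n98285 := d3_1 D186603 (iv6 D98285) (iv2 F136428)
theorem F367418 : act 3 n186603 = n173344 := d7_1 D186603 (iv6 D173344) (iv3 F136429)
theorem F367419 : act 4 n186603 = n128163 := d10_1 D186603 (iv6 D128163) (iv4 F136433)
theorem F367420 : act 7 n186603 = n98959 := d14_2 (iv7 F136430) D186603 F332360 (iv7 F344997) (iv6 D98291)
theorem F367421 : act 0 n186603 = n88949 := d21_10 F317517 (iv1 D152046) (iv5 D71683) F306774 F112923 (iv6 F302445) (iv5 D45993) (iv1 F64047) D88911 D186603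
theorem F367422 : act 1 n186603 = n98960 := d15_1 (iv0 F367421) F354622 F354646
def n186604 : Q := act 0 n88913
theorem D186604 : act 0 n88913 = n186604 := rfl
theorem F367423 : act 4 n186604 = n93853 := d20_2 (iv4 F136438) D186604 (iv3 D93853) (iv1 F114638) (iv3 F145286) F145287 (iv1 F136304) (iv4 F137285) (iv3 F142253) (iv1 F142256)
theorem F367424 : act 6 n186604 = n99017 := d21_5 (iv5 F72573) (iv1 F73829) F73827 D88913 D186604 F365762 F365660 (iv5 D90488) (iv6 D42344) D42341
theorem F367425 : act 3 n98849 = n186604 := d7_3 F367424 (iv3 F365761) F353208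
theorem F367426 : act 2 n186604 = n88914 := d0_1 F367425 (iv3 F283241) (iv2 F364399) F364400 (iv2 F284515)
theorem F367427 : act 7 n186604 = n88915 := d8_2 (iv7 F284516) F367425 F283528
theorem F367428 : act 0 n186604 = n88917 := d20_4 (iv4 F136800) F353209 (iv4 F152400) F367425 F136461 F64053 (iv1 F61666) F63715 D88597 F335745
def n186605 : Q := act 1 n88913
theorem D186605 : act 1 n88913 = n186605 := rfl
theorem F367429 : act 1 n186605 = n88917 := d15_1 D186605 (iv7 D88917) (iv2 F136436)
theorem F367430 : act 7 n186605 = n88914 := d15_2 (iv0 D186604) D186605 (iv2 F367426)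
theorem F367431 : act 3 n98380 = n186605 := d20_3 F133332 (iv1 F135740) (iv4 F364397) (iv1 D186605) F136437 F72589 D97099 (iv4 F288480) (iv3 D185980) (iv1 F135747)
theorem F367432 : act 4 n93844 = n186605 := d20_6 (iv4 F83215) F114634 F114622 (iv3 F114566) (iv1 F114570) D93844 (iv1 D186605) F136438 F67851 D52662
theorem F367433 : act 2 n186605 = n88915 := d1_1 F367432 (iv4 F251975) F251974
def n186606 : Q := act 5 n88913
theorem D186606 : act 5 n88913 = n186606 := rfl
theorem F367434 : act 2 n186606 = n88916 := d2_1 D186606 (iv5 D88916) (iv2 F136436)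
theorem F367435 : act 3 n186606 = n98336 := d6_1 D186606 (iv5 D98336) (iv3 F136437)
def n186607 : Q := act 7 n88913
theorem D186607 : act 7 n88913 = n186607 := rfl
theorem F367436 : act 2 n186607 = n88917 := d4_1 D186607 (iv7 D88917) (iv2 F136436)
theorem F367437 : act 3 n186607 = n98337 := d8_1 D186607 (iv7 D98337) (iv3 F136437)
theorem F367438 : act 4 n186607 = n92456 := d11_1 D186607 F142247 (iv4 F136438)
theorem F367439 : act 6 n186607 = n89500 := d14_1 D186607 F137206 (iv6 D45994) (iv7 F64045) D88913
theorem F367440 : act 1 n88915 = n186607 := d15_1 D88915 (iv7 D186607) F136436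
theorem F367441 : act 1 n186607 = n88914 := d15_1 F367440 (iv7 F367430) F367433
def n186608 : Q := act 5 n88914
theorem D186608 : act 5 n88914 = n186608 := rfl
def n186609 : Q := act 6 n88914
theorem D186609 : act 6 n88914 = n186609 := rfl
theorem F367442 : act 2 n186609 = n99017 := d3_1 D186609 (iv6 F367424) F367426
theorem F367443 : act 5 n102402 = n186609 := d2_0 F367442 F365762 F363852
def n186610 : Q := act 5 n88915
theorem D186610 : act 5 n88915 = n186610 := rfl
theorem F367444 : act 3 n186610 = n182928 := d6_1 D186610 (iv5 D182928) (iv3 F283528)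
def n186611 : Q := act 6 n88915
theorem D186611 : act 6 n88915 = n186611 := rfl
theorem F367445 : act 3 n186611 = n182929 := d7_1 D186611 (iv6 D182929) (iv3 F283528)
def n186612 : Q := act 0 n88916
theorem D186612 : act 0 n88916 = n186612 := rfl
def n186613 : Q := act 1 n88916
theorem D186613 : act 1 n88916 = n186613 := rfl
def n186614 : Q := act 4 n88916
theorem D186614 : act 4 n88916 = n186614 := rfl
theorem F367446 : act 1 n186614 = n185056 := d18_6 (iv1 D181965) F133341 F67766 (iv4 F64050) D88916 D186614 (iv4 D185056) D185055 F287442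
def n186615 : Q := act 7 n88916
theorem D186615 : act 7 n88916 = n186615 := rfl
theorem F367447 : act 3 n186615 = n88920 := d8_1 D186615 (iv7 D88920) (iv3 F136460)
theorem F367448 : act 5 n186615 = n88917 := d13_1 D186615 (iv7 D88917) D88916
def n186616 : Q := act 3 n88919
theorem D186616 : act 3 n88919 = n186616 := rfl
def n186617 : Q := act 7 n88919
theorem D186617 : act 7 n88919 = n186617 := rfl
theorem F367449 : act 2 n186617 = n98375 := d4_1 D186617 (iv7 D98375) (iv2 F136467)
theorem F367450 : act 4 n186617 = n88920 := d11_1 D186617 (iv7 D88920) D88919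
theorem F367451 : act 5 n186617 = n90440 := d13_1 D186617 (iv7 F142998) (iv5 F365792)
theorem F367452 : act 1 n92810 = n186617 := d15_1 (iv0 F292654) (iv7 D186617) F136467
theorem F367453 : act 1 n186617 = n91138 := d15_1 F367452 (iv7 F293347) F293345
def n186618 : Q := act 6 n88920
theorem D186618 : act 6 n88920 = n186618 := rfl
theorem F367454 : act 2 n186618 = n98376 := d3_1 D186618 (iv6 D98376) (iv2 F136468)
theorem F367455 : act 5 n186618 = n89503 := d12_1 D186618 (iv6 D89503) (iv5 D41795) (iv6 F64054) (iv5 F136469)
def n186619 : Q := act 6 n88922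
theorem D186619 : act 6 n88922 = n186619 := rfl
theorem F367456 : act 2 n186619 = n89724 := d3_1 D186619 (iv6 D89724) F136480
theorem F367457 : act 3 n186619 = n103334 := d7_1 D186619 F364403 (iv3 F344209)
theorem F367458 : act 4 n186619 = n184399 := d10_1 D186619 F340539 F147372
theorem F367459 : act 7 n186619 = n98993 := d14_2 (iv7 F136479) D186619 (iv6 F340563) F340558 F287748
theorem F367460 : act 0 n186619 = n89580 := d21_4 F346826 F356593 F356589 D186619 F157429 (iv5 D102486) (iv1 F159759) (iv5 D99947) (iv6 F140606) (iv1 F157491)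
theorem F367461 : act 5 n100173 = n186619 := d21_2 D87884 (iv1 F154124) (iv6 D186619) (iv1 D88922) (iv6 D41522) (iv5 F34957) F34959 (iv5 D19308) D19309 D41003
theorem F367462 : act 0 n98989 = n186619 := d21_4 D92040 F294097 (iv5 D98988) D98989 (iv6 D186619) (iv5 F356589) (iv1 D146808) (iv5 F346304) F293095 F67941
def n186620 : Q := act 5 n88929
theorem D186620 : act 5 n88929 = n186620 := rfl
theorem F367463 : act 2 n186620 = n183025 := d2_1 D186620 (iv5 D183025) (iv2 F136492)
theorem F367464 : act 3 n186620 = n88930 := d6_1 D186620 (iv5 D88930) D88929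
def n186621 : Q := act 4 n88930
theorem D186621 : act 4 n88930 = n186621 := rfl
theorem F367465 : act 2 n186621 = n109097 := d1_1 D186621 F326775 F294277
theorem F367466 : act 5 n186621 = n111280 := d9_2 D88930 D186621 (iv4 D111280) (iv5 F80977) D63015 (iv5 F326771) (iv4 F72620) D88926 (iv4 F326836) (iv5 D109499) (iv4 D50510) (iv5 F46693) D61378 (iv5 F325981) F72615
theorem F367467 : act 7 n186621 = n109098 := d11_2 F294281 D186621 (iv4 F336756)
theorem F367468 : act 0 n186621 = n109100 := d17_0 F169088 F163207 D112325 F326855 F295154 (iv0 D43829) D43832 (iv0 F294625) D186621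
theorem F367469 : act 1 n186621 = n108664 := d18_6 F136830 F69204 (iv1 F72614) F72615 D88930 D186621 F362810 D185145 (iv5 F289707)
def n186622 : Q := act 3 n88933
theorem D186622 : act 3 n88933 = n186622 := rfl
theorem F367470 : act 2 n186622 = n183041 := d0_1 D186622 (iv3 D183041) (iv2 F284672) (iv3 F294613) F294612
theorem F367471 : act 5 n186622 = n90224 := d6_2 (iv5 F294275) D186622 (iv3 D90224)
theorem F367472 : act 0 n186622 = n186443 := d21_7 (iv5 F85976) (iv1 F85979) F75468 D46534 D99547 F367074 (iv5 F367471) (iv5 D186443) (iv6 D88798) (iv1 F72609)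
theorem F367473 : act 0 n90392 = n90224 := d17_0 (iv5 F367471) F367472 (iv5 D186443) F136178 D88801 F295170 (iv5 D42258) D42256 D90392
def n186623 : Q := act 6 n88933
theorem D186623 : act 6 n88933 = n186623 := rfl
theorem F367474 : act 4 n186623 = n180507 := d10_1 D186623 (iv6 F351108) F351113
theorem F367475 : act 5 n186623 = n116262 := d12_1 D186623 F365334 (iv5 D100002) F294276 (iv5 F294275)
def n186624 : Q := act 6 n88936
theorem D186624 : act 6 n88936 = n186624 := rfl
theorem F367476 : act 2 n186624 = n88937 := d3_1 D186624 (iv6 D88937) D88936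
theorem F367477 : act 3 n186624 = n98482 := d7_1 D186624 (iv6 D98482) (iv3 F136496)
def n186625 : Q := act 1 n88937
theorem D186625 : act 1 n88937 = n186625 := rfl
theorem F367478 : act 7 n186625 = n174812 := d15_2 (iv0 F351746) D186625 F363367
theorem F367479 : act 4 n186625 = n173777 := d18_7 F308711 (iv4 F108433) (iv1 F334177) (iv4 F334176) (iv5 F340241) F268250 D186625 (iv0 F340191) (iv5 D134678)
theorem F367480 : act 3 n174768 = n186625 := d20_3 (iv4 F324285) (iv1 F128597) D174768 (iv1 D186625) F136501 F64069 (iv1 F156779) (iv4 D22736) D22735 D47290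
theorem F367481 : act 6 n186625 = n173962 := d7_2 F356179 F367480 F272613
def n186626 : Q := act 5 n88937
theorem D186626 : act 5 n88937 = n186626 := rfl
theorem F367482 : act 3 n186626 = n88940 := d6_1 D186626 (iv5 D88940) (iv3 F136501)
theorem F367483 : act 6 n186626 = n90488 := d12_2 D88937 D186626 (iv5 D90488) (iv6 D42344) (iv5 F64066)
theorem F367484 : act 0 n186626 = n135424 := d17_2 (iv1 D186625) D186626 (iv5 D135424) F98984 F48261 D63279 D134683 F330184 (iv4 F367479)
def n186627 : Q := act 7 n88937
theorem D186627 : act 7 n88937 = n186627 := rfl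
theorem F367485 : act 3 n186627 = n88941 := d8_1 D186627 (iv7 D88941) (iv3 F136501)
theorem F367486 : act 6 n186627 = n98466 := d14_1 D186627 (iv7 D98466) (iv6 D46052) (iv7 F64067) D88937
theorem F367487 : act 0 n174812 = n186627 := d20_4 F59345 D38499 D83512 D174812 F367485 F136506 (iv1 F272740) (iv4 D46585) D46584 (iv1 F321036)
def n186628 : Q := act 0 n88940
theorem D186628 : act 0 n88940 = n186628 := rfl
theorem F367488 : act 5 n186628 = n100498 := d17_3 (iv1 F311709) D88940 D186628 (iv4 F304820) F304821 (iv0 D83884) (iv5 D38630) D38629 (iv4 F309519)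
theorem F367489 : act 4 n186628 = n99733 := d18_1 D186628 (iv1 F153537) F74551 F35300 (iv4 F35296) F59444 D83876 (iv0 F275097) D88940
theorem F367490 : act 2 n98501 = n186628 := d15_3 (iv0 D186628) F286960 F286891
theorem F367491 : act 7 n186628 = n98502 := d4_2 F286891 F367490 (iv2 F286893)
theorem F367492 : act 1 n98504 = n186628 := d15_1 F286962 F367491 (iv2 F286893)
def n186629 : Q := act 7 n88940
theorem D186629 : act 7 n88940 = n186629 := rfl
theorem F367493 : act 2 n186629 = n98504 := d4_1 D186629 (iv7 D98504) (iv2 F136503)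
theorem F367494 : act 5 n186629 = n88941 := d13_1 D186629 (iv7 D88941) D88940
theorem F367495 : act 6 n186629 = n102410 := d14_1 D186629 (iv7 D102410) (iv6 D47517) (iv7 F65396) (iv6 F136504)
theorem F367496 : act 1 n98502 = n186629 := d15_1 D98502 (iv7 D186629) F136503
theorem F367497 : act 1 n186629 = n98501 := d15_1 F367496 (iv7 F286891) F286893
def n186630 : Q := act 5 n88943
theorem D186630 : act 5 n88943 = n186630 := rfl
theorem F367498 : act 2 n186630 = n183393 := d2_1 D186630 (iv5 D183393) (iv2 F136515)
theorem F367499 : act 3 n186630 = n88946 := d6_1 D186630 (iv5 D88946) (iv3 F136516)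
theorem F367500 : act 6 n186630 = n99284 := d12_2 D88943 D186630 (iv5 D99284) (iv6 D46423) (iv5 F64070)
def n186631 : Q := act 4 n88946
theorem D186631 : act 4 n88946 = n186631 := rfl
theorem F367501 : act 2 n186631 = n98479 := d1_1 D186631 (iv4 D98479) (iv2 F136518)
theorem F367502 : act 6 n186631 = n99285 := d10_2 (iv6 F136519) D186631 (iv4 D99285)
theorem F367503 : act 1 n186631 = n175530 := d18_6 (iv1 F59426) (iv4 F272771) (iv1 D82555) (iv4 F64077) D88946 D186631 (iv4 D175530) F128837 (iv5 D47344)
theorem F367504 : act 1 n175525 = n186631 := d15_0 F367503 F338125 (iv2 F338126)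
def n186632 : Q := act 6 n88951
theorem D186632 : act 6 n88951 = n186632 := rfl
theorem F367505 : act 2 n186632 = n98951 := d3_1 D186632 (iv6 D98951) (iv2 F272713)
theorem F367506 : act 5 n186632 = n100510 := d12_1 D186632 (iv6 D100510) (iv5 F136527) (iv6 D88952) D88951
def n186633 : Q := act 5 n88954
theorem D186633 : act 5 n88954 = n186633 := rfl
theorem F367507 : act 3 n186633 = n88956 := d6_1 D186633 (iv5 D88956) D88954
theorem F367508 : act 7 n186633 = n98939 := d13_2 (iv7 F272717) D186633 (iv5 D98939)
def n186634 : Q := act 6 n88954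
theorem D186634 : act 6 n88954 = n186634 := rfl
theorem F367509 : act 3 n186634 = n88957 := d7_1 D186634 (iv6 D88957) D88954
theorem F367510 : act 0 n131167 = n186634 := d20_4 F280230 (iv1 F242146) F190951 (iv3 F361467) F367509 (iv4 F155440) D172446 (iv4 F272680) F344091 D179932
theorem F367511 : act 0 n186634 = n131169 := d20_4 (iv4 F74532) (iv1 F272689) F155440 (iv3 F367509) (iv3 F330117) F199467 (iv1 F350099) F360593 (iv3 F156464) (iv1 D47309)
def n186635 : Q := act 5 n88957
theorem D186635 : act 5 n88957 = n186635 := rfl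
theorem F367512 : act 2 n186635 = n98971 := d2_1 D186635 (iv5 D98971) (iv2 F272720)
theorem F367513 : act 0 n186635 = n100054 := d17_2 (iv1 F275099) D186635 (iv5 D100054) (iv4 F249129) D75622 (iv0 F334626) F334629 F274615 (iv4 F275089)
theorem F367514 : act 1 n186635 = n100049 := d17_6 D82505 D172263 F270663 (iv5 D172448) F155440 D186635 (iv5 D100049) (iv0 D46717) (iv4 F58744)
def n186636 : Q := act 6 n88958
theorem D186636 : act 6 n88958 = n186636 := rfl
theorem F367515 : act 2 n186636 = n98977 := d3_1 D186636 (iv6 D98977) (iv2 F275019)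
theorem F367516 : act 5 n186636 = n102706 := d21_6 (iv5 D41540) (iv1 D19557) D19558 (iv6 F64080) D88958 D186636 (iv1 D102706) (iv5 F292206) (iv6 D43309) (iv1 F293451)
def n186637 : Q := act 3 n88959
theorem D186637 : act 3 n88959 = n186637 := rfl
theorem F367517 : act 7 n186637 = n98974 := d8_2 (iv7 F275017) D186637 (iv3 D98974)
def n186638 : Q := act 6 n88959
theorem D186638 : act 6 n88959 = n186638 := rfl
theorem F367518 : act 2 n186638 = n98981 := d3_1 D186638 (iv6 D98981) (iv2 F275016)
def n186639 : Q := act 5 n88969
theorem D186639 : act 5 n88969 = n186639 := rfl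
theorem F367519 : act 2 n186639 = n94097 := d2_1 D186639 (iv5 D94097) F136549
theorem F367520 : act 3 n186639 = n183009 := d6_1 D186639 F284617 F136550
theorem F367521 : act 7 n186639 = n98334 := d13_2 (iv7 F136548) D186639 (iv5 D98334)
theorem F367522 : act 0 n186639 = n88978 := d17_2 (iv1 F136552) D186639 F294040 F65098 D88430 D185637 F335376 (iv0 F294579) (iv4 F72953)
theorem F367523 : act 0 n99025 = n186639 := d21_1 F152561 (iv5 D186639) (iv6 F136551) (iv1 D46087) D46090 (iv5 F151997) (iv1 D88358) (iv5 D41249) D41250 D88361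
def n186640 : Q := act 4 n88971
theorem D186640 : act 4 n88971 = n186640 := rfl
theorem F367524 : act 3 n186640 = n98991 := d5_1 D186640 (iv4 D98991) F72955 F294374 (iv3 F136558)
theorem F367525 : act 7 n186640 = n98991 := d11_2 (iv7 F136559) D186640 (iv4 D98991)
def n186641 : Q := act 6 n88971
theorem D186641 : act 6 n88971 = n186641 := rfl
theorem F367526 : act 3 n186641 = n88974 := d7_1 D186641 (iv6 D88974) (iv3 F136558)
def n186642 : Q := act 1 n88972
theorem D186642 : act 1 n88972 = n186642 := rfl
theorem F367527 : act 3 n182237 = n186642 := d20_3 D137596 (iv1 F356793) F289469 (iv1 D186642) F136560 F64095 F64474 (iv4 F72998) D99081 F329008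
theorem F367528 : act 2 n186642 = n94123 := d0_1 F367527 (iv3 D94123) F69223 (iv3 F133544) (iv2 F283679)
theorem F367529 : act 5 n186642 = n99952 := d6_2 (iv5 F335576) F367527 (iv3 F365610)
theorem F367530 : act 6 n186642 = n98335 := d7_2 D182237 F367527 F151746
def n186643 : Q := act 0 n88974
theorem D186643 : act 0 n88974 = n186643 := rfl
def n186644 : Q := act 1 n88974
theorem D186644 : act 1 n88974 = n186644 := rfl
theorem F367531 : act 1 n186644 = n99023 := d15_1 D186644 (iv7 D99023) (iv2 F136563)
theorem F367532 : act 6 n98949 = n186644 := d21_3 F275020 F301803 (iv5 F338820) (iv1 D186644) (iv6 D88974) (iv5 D41540) (iv1 D19557) D19558 (iv6 F64080) D88958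
theorem F367533 : act 2 n186644 = n99022 := d3_1 F367532 (iv6 F287034) F287075
def n186645 : Q := act 7 n88974
theorem D186645 : act 7 n88974 = n186645 := rfl
theorem F367534 : act 2 n186645 = n99023 := d4_1 D186645 (iv7 D99023) (iv2 F136563)
theorem F367535 : act 4 n186645 = n99003 := d11_1 D186645 (iv7 D99003) (iv4 F294988)
theorem F367536 : act 6 n186645 = n99003 := d14_1 D186645 (iv7 D99003) (iv6 D46315) (iv7 F64093) D88974
theorem F367537 : act 1 n99023 = n186643 := d15_0 (iv0 D186643) D186645 F367534
theorem F367538 : act 1 n99022 = n186645 := d15_1 D99022 (iv7 D186645) F136563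
theorem F367539 : act 7 n186643 = n99022 := d15_2 F367531 F367537 (iv2 F367533)
theorem F367540 : act 2 n186643 = n99021 := d15_3 (iv0 D99021) D99022 (iv7 F367539)
theorem F367541 : act 7 n99021 = n186644 := d4_2 (iv7 F367539) F367540 F367533
theorem F367542 : act 1 n186645 = n99021 := d15_1 F367538 F367541 F367533
def n186646 : Q := act 2 n88975
theorem D186646 : act 2 n88975 = n186646 := rfl
theorem F367543 : act 3 n186646 = n99025 := d0_2 D88975 D186646 (iv2 D99025) (iv3 D46325) (iv2 F72983)
theorem F367544 : act 5 n186646 = n90203 := d2_2 (iv5 F291613) D186646 (iv2 D90203)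
theorem F367545 : act 7 n186646 = n99037 := d4_2 (iv7 F136564) D186646 (iv2 D99037)
theorem F367546 : act 1 n186646 = n98288 := d15_0 F177443 (iv7 F136564) D186646
theorem F367547 : act 1 n99008 = n186646 := d15_0 F367546 (iv7 F367047) (iv2 F367050)
def n186647 : Q := act 4 n88975
theorem D186647 : act 4 n88975 = n186647 := rfl
theorem F367548 : act 3 n186647 = n99038 := d5_1 D186647 (iv4 D99038) (iv3 D46329) (iv4 F294577) D88975
theorem F367549 : act 7 n186647 = n99038 := d11_2 (iv7 F136564) D186647 (iv4 D99038)
def n186648 : Q := act 6 n88975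
theorem D186648 : act 6 n88975 = n186648 := rfl
theorem F367550 : act 3 n186648 = n88977 := d7_1 D186648 (iv6 D88977) D88975
def n186649 : Q := act 0 n88977
theorem D186649 : act 0 n88977 = n186649 := rfl
def n186650 : Q := act 1 n88977
theorem D186650 : act 1 n88977 = n186650 := rfl
theorem F367551 : act 1 n186650 = n99034 := d15_1 D186650 (iv7 D99034) (iv2 F136568)
def n186651 : Q := act 7 n88977
theorem D186651 : act 7 n88977 = n186651 := rfl
theorem F367552 : act 2 n186651 = n99034 := d4_1 D186651 (iv7 D99034) (iv2 F136568)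
theorem F367553 : act 4 n186651 = n99047 := d11_1 D186651 (iv7 D99047) (iv4 F294578)
theorem F367554 : act 6 n186651 = n99047 := d14_1 D186651 (iv7 D99047) (iv6 D46332) (iv7 F72984) D88977
theorem F367555 : act 1 n99034 = n186649 := d15_0 (iv0 D186649) D186651 F367552
theorem F367556 : act 1 n99033 = n186651 := d15_1 D99033 (iv7 D186651) F136568
theorem F367557 : act 1 n186651 = n99032 := d15_0 (iv0 D99032) D99034 (iv2 F367552)
def n186652 : Q := act 2 n88978
theorem D186652 : act 2 n88978 = n186652 := rfl
theorem F367558 : act 3 n186652 = n99037 := d0_2 D88978 D186652 (iv2 D99037) (iv3 D46329) (iv2 F72982)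
theorem F367559 : act 5 n186652 = n90212 := d2_2 (iv5 F294040) D186652 (iv2 D90212)
theorem F367560 : act 7 n186652 = n99025 := d4_2 (iv7 F136570) D186652 (iv2 D99025)
theorem F367561 : act 1 n186652 = n94097 := d15_0 (iv0 F145004) (iv7 F136570) D186652
theorem F367562 : act 1 n98334 = n186652 := d15_0 F367561 F145003 (iv2 F151742)
def n186653 : Q := act 4 n88978
theorem D186653 : act 4 n88978 = n186653 := rfl
theorem F367563 : act 3 n186653 = n99026 := d5_1 D186653 (iv4 D99026) (iv3 D46325) (iv4 F294576) D88978
theorem F367564 : act 7 n186653 = n99026 := d11_2 (iv7 F136570) D186653 (iv4 D99026)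
def n186654 : Q := act 6 n88978
theorem D186654 : act 6 n88978 = n186654 := rfl
theorem F367565 : act 3 n186654 = n88980 := d7_1 D186654 (iv6 D88980) D88978
theorem F367566 : act 5 n186654 = n100522 := d12_1 D186654 (iv6 D100522) (iv5 D46896) F293362 (iv5 F294040)
def n186655 : Q := act 0 n88980
theorem D186655 : act 0 n88980 = n186655 := rfl
def n186656 : Q := act 1 n88980
theorem D186656 : act 1 n88980 = n186656 := rfl
theorem F367567 : act 1 n186656 = n99047 := d15_1 D186656 (iv7 D99047) (iv2 F136574)
def n186657 : Q := act 7 n88980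
theorem D186657 : act 7 n88980 = n186657 := rfl
theorem F367568 : act 2 n186657 = n99047 := d4_1 D186657 (iv7 D99047) (iv2 F136574)
theorem F367569 : act 4 n186657 = n99034 := d11_1 D186657 (iv7 D99034) (iv4 F294986)
theorem F367570 : act 5 n186657 = n100538 := d13_1 D186657 (iv7 D100538) (iv5 F136575)
theorem F367571 : act 6 n186657 = n99034 := d14_1 D186657 (iv7 D99034) (iv6 D46328) F72981 D88980
theorem F367572 : act 1 n99047 = n186655 := d15_0 (iv0 D186655) D186657 F367568
theorem F367573 : act 1 n99045 = n186657 := d15_1 D99045 (iv7 D186657) F136574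
theorem F367574 : act 1 n186657 = n99044 := d15_0 (iv0 D99044) D99047 (iv2 F367568)
theorem F367575 : act 4 n99044 = n91234 := d18_7 (iv1 F305561) F242305 F347766 F320024 F346317 (iv4 F367569) F367574 (iv0 D91234) F294661
def n186658 : Q := act 5 n89015
theorem D186658 : act 5 n89015 = n186658 := rfl
theorem F367576 : act 2 n186658 = n89018 := d2_1 D186658 (iv5 D89018) (iv2 F136652)
theorem F367577 : act 3 n186658 = n90241 := d6_1 D186658 (iv5 D90241) (iv3 F136653)
theorem F367578 : act 6 n186658 = n108298 := d12_2 D89015 D186658 (iv5 D108298) (iv6 F85368) F85370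
theorem F367579 : act 7 n186658 = n186360 := d13_2 F294388 D186658 (iv5 D186360)
def n186659 : Q := act 5 n89016
theorem D186659 : act 5 n89016 = n186659 := rfl
theorem F367580 : act 0 n186659 = n186387 := d17_2 D89016 D186659 F366992 F157529 D102589 (iv0 F157686) (iv5 D89035) (iv0 D41584) (iv4 F64163)
def n186660 : Q := act 6 n89016
theorem D186660 : act 6 n89016 = n186660 := rfl
theorem F367581 : act 0 n90800 = n186660 := d21_4 (iv5 F204900) (iv1 F367371) (iv5 F367318) F367319 (iv6 D186660) D186659 F367580 F366992 (iv6 D102565) (iv1 F290151)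
theorem F367582 : act 1 n100691 = n186660 := d15_0 (iv0 F367581) (iv7 F290653) F362402
def n186661 : Q := act 5 n89017
theorem D186661 : act 5 n89017 = n186661 := rfl
theorem F367583 : act 3 n186661 = n98698 := d6_1 D186661 (iv5 D98698) (iv3 F152162)
def n186662 : Q := act 6 n89017
theorem D186662 : act 6 n89017 = n186662 := rfl
theorem F367584 : act 3 n186662 = n98699 := d7_1 D186662 (iv6 D98699) (iv3 F152162)
def n186663 : Q := act 0 n89018
theorem D186663 : act 0 n89018 = n186663 := rfl
theorem F367585 : act 1 n186360 = n186663 := d15_0 (iv0 D186663) (iv7 F144827) (iv2 F366991)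
theorem F367586 : act 5 n186663 = n102570 := d17_7 D47589 F157558 F364856 (iv5 F364853) F294939 D186360 F367585 (iv0 D102570) F74814
def n186664 : Q := act 1 n89018
theorem D186664 : act 1 n89018 = n186664 := rfl
theorem F367587 : act 1 n186664 = n186360 := d15_1 D186664 (iv7 F367579) F367576
theorem F367588 : act 5 n186664 = n102571 := d17_7 (iv1 D96455) (iv5 F293583) (iv1 D89040) (iv5 D41586) (iv4 F64163) D89018 D186664 F360978 F158167
theorem F367589 : act 3 n98701 = n186664 := d6_3 F367588 F360979 (iv5 F349266)
def n186665 : Q := act 4 n89018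
theorem D186665 : act 4 n89018 = n186665 := rfl
theorem F367590 : act 6 n186665 = n157358 := d10_2 F162594 D186665 F247675
theorem F367591 : act 5 n186665 = n131308 := d16_1 D186665 F355829 (iv5 F335487) (iv4 F216891) (iv5 F364853) F294939 D186360 (iv7 F367579) F367576
theorem F367592 : act 1 n186665 = n102905 := d18_6 (iv1 D92323) (iv4 F294175) (iv1 D41585) (iv4 F64163) D89018 D186665 (iv4 D102905) D102904 F331375
def n186666 : Q := act 4 n89019
theorem D186666 : act 4 n89019 = n186666 := rfl
theorem F367593 : act 6 n186666 = n89021 := d10_2 (iv6 F136656) D186666 (iv4 D89021)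
theorem F367594 : act 0 n186666 = n93880 := d18_2 (iv1 F136657) D186666 (iv4 D93880) F95765 F95759 (iv0 F87480) F83226 (iv0 F50510) D49219
theorem F367595 : act 1 n186666 = n93882 := d18_6 (iv1 F68915) F65513 (iv1 F55475) (iv4 F64164) D89019 D186666 (iv4 D93882) F144576 F144575
def n186667 : Q := act 3 n89021
theorem D186667 : act 3 n89021 = n186667 := rfl
def n186668 : Q := act 0 n89022
theorem D186668 : act 0 n89022 = n186668 := rfl
theorem F367596 : act 4 n186668 = n95798 := d20_2 (iv4 F136665) D186668 (iv3 D95798) (iv1 F147482) (iv3 F149818) (iv4 F151755) (iv1 F151757) F149749 F149741 (iv1 F147293)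
theorem F367597 : act 1 n89703 = n186668 := d15_0 (iv0 D186668) (iv7 F367324) F367321
theorem F367598 : act 3 n89499 = n186668 := d20_3 F178755 (iv1 F339777) F145349 (iv1 F367597) (iv3 D89703) F64628 (iv1 F34375) F64324 D89206 F337267
theorem F367599 : act 2 n186668 = n95634 := d0_1 F367598 F147315 F151730 (iv3 D98307) F145302
theorem F367600 : act 7 n186668 = n95635 := d8_2 (iv7 F145301) F367598 F251783
def n186669 : Q := act 1 n89022
theorem D186669 : act 1 n89022 = n186669 := rfl
theorem F367601 : act 1 n186669 = n89703 := d15_1 D186669 F137666 (iv2 F136663)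
theorem F367602 : act 7 n186669 = n95634 := d15_2 (iv0 D186668) D186669 (iv2 F367599)
theorem F367603 : act 3 n182984 = n186669 := d20_3 F63918 (iv1 F136188) (iv4 F349053) (iv1 D186669) F136664 (iv4 F69358) D94228 (iv4 F337220) F337219 (iv1 F136195)
theorem F367604 : act 4 n95753 = n186669 := d20_6 (iv4 D92431) F142173 F142169 F138030 (iv1 F137897) D95753 (iv1 D186669) F136665 (iv3 F71428) F147483
theorem F367605 : act 2 n186669 = n95635 := d1_1 F367604 (iv4 F251834) F251833
def n186670 : Q := act 5 n89024
theorem D186670 : act 5 n89024 = n186670 := rfl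
theorem F367606 : act 2 n186670 = n89611 := d2_1 D186670 (iv5 D89611) F136671
theorem F367607 : act 3 n186670 = n98391 := d6_1 D186670 (iv5 D98391) (iv3 F335701)
theorem F367608 : act 7 n186670 = n98858 := d13_2 (iv7 F136670) D186670 (iv5 D98858)
theorem F367609 : act 0 n186670 = n182248 := d17_2 (iv1 F136669) D186670 F283689 (iv4 F135491) (iv5 F251566) (iv0 F251745) (iv5 D93846) F114570 F114567
def n186671 : Q := act 6 n89024
theorem D186671 : act 6 n89024 = n186671 := rfl
theorem F367610 : act 2 n186671 = n89612 := d3_1 D186671 (iv6 D89612) F136671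
theorem F367611 : act 3 n186671 = n90782 := d7_1 D186671 F356459 (iv3 F335701)
theorem F367612 : act 4 n186671 = n100691 := d10_1 D186671 F362394 F142399
theorem F367613 : act 7 n186671 = n90827 := d14_2 (iv7 F136670) D186671 (iv6 F367360) F367361 F137344
theorem F367614 : act 5 n186671 = n100439 := d21_6 F309580 (iv1 F316948) F337214 (iv6 F136306) (iv1 F136669) D186671 (iv1 F154495) (iv5 D46874) D46875 F74089
theorem F367615 : act 0 n89036 = n186671 := d21_4 (iv5 F157822) (iv1 F157823) (iv5 D89035) D89036 (iv6 D186671) D186670 F367609 F283689 F293620 (iv1 F293527)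
theorem F367616 : act 1 n90826 = n186671 := d15_0 (iv0 F367615) (iv7 F154510) (iv2 F292003)
def n186672 : Q := act 1 n89025
theorem D186672 : act 1 n89025 = n186672 := rfl
theorem F367617 : act 1 n186672 = n98861 := d15_1 D186672 (iv7 D98861) (iv2 F136681)
theorem F367618 : act 7 n186672 = n98859 := d15_2 F355739 D186672 F367219
theorem F367619 : act 5 n186672 = n177857 := d17_7 (iv1 F288153) (iv5 D159701) (iv1 D76404) F55257 (iv4 F64177) D89025 D186672 (iv0 F290942) F290945
theorem F367620 : act 2 n98369 = n186672 := d2_3 F367619 (iv2 F290613) F290615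
theorem F367621 : act 3 n98394 = n186672 := d6_3 F367619 F277436 F151814
def n186673 : Q := act 4 n89025
theorem D186673 : act 4 n89025 = n186673 := rfl
theorem F367622 : act 2 n186673 = n98860 := d1_1 D186673 (iv4 D98860) (iv2 F136681)
theorem F367623 : act 6 n186673 = n185984 := d10_2 F154470 D186673 F363126
def n186674 : Q := act 1 n89028
theorem D186674 : act 1 n89028 = n186674 := rfl
theorem F367624 : act 1 n186674 = n89042 := d15_1 D186674 (iv7 D89042) (iv2 F136694)
theorem F367625 : act 7 n186674 = n89039 := d15_2 (iv0 F157559) D186674 (iv2 F136717)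
theorem F367626 : act 5 n96456 = n186674 := d21_0 (iv1 D186674) (iv5 D89028) (iv6 D41582) (iv1 F31358) D22129 D46269 (iv1 F307548) (iv5 F309580) (iv6 F74848) (iv1 F293580)
theorem F367627 : act 2 n186674 = n89040 := d2_1 F367626 F293583 D96456
theorem F367628 : act 3 n186674 = n183503 := d6_1 F367626 (iv5 F367080) (iv3 F148531)
def n186675 : Q := act 4 n89028
theorem D186675 : act 4 n89028 = n186675 := rfl
theorem F367629 : act 2 n186675 = n89041 := d1_1 D186675 (iv4 D89041) (iv2 F136694)
theorem F367630 : act 3 n186675 = n115136 := d5_1 D186675 (iv4 F203300) (iv3 F326760) (iv4 D98406) (iv3 F136695)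
theorem F367631 : act 6 n186675 = n92782 := d10_2 F301618 D186675 F332656
theorem F367632 : act 7 n186675 = n115132 := d11_2 F364854 D186675 (iv4 F216891)
theorem F367633 : act 1 n185904 = n186675 := d15_1 (iv0 F364605) F367632 (iv2 F347560)
theorem F367634 : act 0 n148799 = n186675 := d21_4 (iv5 D52017) F51409 D69737 D148799 F367631 (iv5 D92782) (iv1 D43406) D43407 (iv6 F76629) (iv1 F82182)
def n186676 : Q := act 4 n89030
theorem D186676 : act 4 n89030 = n186676 := rfl
theorem F367635 : act 2 n186676 = n149162 := d1_1 D186676 F304373 (iv2 F285185)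
theorem F367636 : act 7 n186676 = n153811 := d11_2 F301614 D186676 F304378
theorem F367637 : act 3 n186676 = n122557 := d20_3 F109463 D89030 D186676 (iv1 F196230) F109246 F52868 (iv1 F25773) D16293 D33734 (iv1 F184765)
theorem F367638 : act 0 n154238 = n186676 := d20_10 (iv4 D186676) (iv1 F301619) (iv4 F302828) F302827 (iv1 D39088) (iv3 F60089) (iv4 F91906) (iv1 F338146) F197416 (iv3 F242351)
def n186677 : Q := act 5 n89030
theorem D186677 : act 5 n89030 = n186677 := rfl
theorem F367639 : act 2 n186677 = n183423 := d2_1 D186677 (iv5 D183423) (iv2 F285185)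
theorem F367640 : act 6 n186677 = n141221 := d21_9 (iv5 D66239) D66237 (iv5 F340840) (iv6 F363447) (iv1 D89040) (iv6 F136702) (iv5 D89032) D89030 D186677 (iv1 D141221)
theorem F367641 : act 4 n100345 = n186677 := d10_3 F367640 F324061 (iv6 F154326)
theorem F367642 : act 0 n102488 = n112017 := d19_12 D89030 D186677 (iv4 F367641) (iv3 F204899) (iv1 F367371) (iv5 F367318) F367317 (iv3 D88883) (iv1 F74742) (iv5 D47542) D47541 D102488 F174120 (iv4 F171155) F361274 (iv1 D158389) (iv5 D75537) F54822 (iv3 F64180)
def n186678 : Q := act 5 n89034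
theorem D186678 : act 5 n89034 = n186678 := rfl
theorem F367643 : act 2 n186678 = n95422 := d2_1 D186678 F147039 (iv2 F294756)
theorem F367644 : act 3 n186678 = n89035 := d6_1 D186678 (iv5 D89035) D89034
theorem F367645 : act 7 n186678 = n183480 := d13_2 (iv7 F136706) D186678 (iv5 D183480)
theorem F367646 : act 0 n186678 = n183483 := d21_1 D186678 (iv5 F367052) F350442 (iv1 D87743) (iv6 D40882) (iv5 F61730) (iv1 F127862) F127860 D87334 F157627
theorem F367647 : act 1 n186678 = n183482 := d15_0 (iv0 D183482) F295061 (iv2 F367643)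
theorem F367648 : act 7 n183482 = n137944 := d15_2 (iv0 F367646) F367647 (iv2 F367053)
theorem F367649 : act 5 n183482 = n96462 := d17_7 D88408 (iv5 F356257) F294709 (iv5 D181927) F295221 D186678 F367647 (iv0 D96462) F70889
theorem F367650 : act 0 n184230 = n182929 := d21_4 (iv5 F367649) (iv1 F367647) (iv5 D186678) F294757 (iv6 D182929) D182928 F356256 (iv5 D185422) F293589 D96462
theorem F367651 : act 3 n137961 = n183482 := d6_3 F367649 (iv3 F283854) (iv5 F360353)
def n186679 : Q := act 4 n89035
theorem D186679 : act 4 n89035 = n186679 := rfl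
theorem F367652 : act 2 n186679 = n183466 := d1_1 D186679 (iv4 D183466) (iv2 F136709)
def n186680 : Q := act 6 n89035
theorem D186680 : act 6 n89035 = n186680 := rfl
theorem F367653 : act 2 n186680 = n183467 := d3_1 D186680 (iv6 D183467) (iv2 F136709)
theorem F367654 : act 5 n186680 = n91062 := d12_1 D186680 F351151 (iv5 F154433) (iv6 D89036) D89035
theorem F367655 : act 0 n186680 = n141208 := d21_4 (iv5 D41586) D41584 D89035 D186680 F224236 (iv5 D66239) D66237 (iv5 F340840) (iv6 F363447) (iv1 D89040)
def n186681 : Q := act 4 n89037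
theorem D186681 : act 4 n89037 = n186681 := rfl
theorem F367656 : act 7 n186681 = n183466 := d11_2 (iv7 F136712) D186681 (iv4 D183466)
theorem F367657 : act 5 n186681 = n131306 := d16_1 D186681 F210445 (iv5 F108015) (iv4 F360285) (iv5 D94288) F69421 D89035 (iv7 F157819) (iv2 F157817)
def n186682 : Q := act 6 n89037
theorem D186682 : act 6 n89037 = n186682 := rfl
theorem F367658 : act 3 n186682 = n95425 := d7_1 D186682 (iv6 D95425) (iv3 F294941)
def n186683 : Q := act 3 n89039
theorem D186683 : act 3 n89039 = n186683 := rfl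
theorem F367659 : act 2 n186683 = n96465 := d0_1 D186683 F148560 (iv2 F292535) D87584 F136717
theorem F367660 : act 5 n186683 = n96464 := d6_2 F157558 D186683 (iv3 F293616)
theorem F367661 : act 7 n186683 = n183503 := d8_2 F367625 D186683 (iv3 F367628)
theorem F367662 : act 1 n183479 = n186683 := d15_1 (iv0 F356269) F367661 (iv2 D183503)
theorem F367663 : act 6 n104357 = n186683 := d12_0 F367660 F293588 F365783 (iv6 F288534) F365788
theorem F367664 : act 0 n182916 = n186683 := d17_2 (iv1 F157628) D182916 F367660 F148555 D185599 F356266 (iv5 D97041) F71795 (iv4 F63048)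
theorem F367665 : act 4 n186683 = n104358 := d10_1 F367663 (iv6 D104358) D104357
def n186684 : Q := act 4 n89039
theorem D186684 : act 4 n89039 = n186684 := rfl
theorem F367666 : act 2 n186684 = n183494 := d1_1 D186684 (iv4 D183494) F136717
def n186685 : Q := act 6 n89039
theorem D186685 : act 6 n89039 = n186685 := rfl
theorem F367667 : act 2 n186685 = n183495 := d3_1 D186685 (iv6 D183495) F136717
theorem F367668 : act 3 n186685 = n104357 := d7_1 D186685 F367663 (iv3 D186683)
theorem F367669 : act 7 n134318 = n186685 := d8_0 F367668 (iv7 F160057) (iv3 F359590)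
theorem F367670 : act 0 n186685 = n134320 := d20_4 (iv4 D48295) D48293 D104357 (iv3 F367668) F216329 (iv4 F171530) (iv1 F171533) (iv4 F180509) (iv3 F349135) (iv1 D104363)
theorem E103267 : n183495 = n134317 := (c15_4 (iv0 D134317) D134318 F367669 F367667)
theorem F367671 : act 2 n134317 = n186685 := (sb E103267 (iv2 F367667))
theorem F367672 : act 3 n134317 = n87586 := (sb E103267 F285242)
theorem F367673 : act 6 n134317 = n87584 := (sb E103267 (iv6 D183495))
def n186686 : Q := act 0 n89041
theorem D186686 : act 0 n89041 = n186686 := rfl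
theorem F367674 : act 2 n185904 = n186686 := d15_3 (iv0 D186686) (iv0 F347565) (iv7 F288403)
theorem F367675 : act 1 n115132 = n186686 := d15_0 (iv0 D186686) F347562 F347560
theorem F367676 : act 7 n186686 = n148799 := d15_2 (iv0 F347567) F367675 F233634
theorem F367677 : act 3 n159585 = n186686 := d8_3 F367676 F233635 D159585
def n186687 : Q := act 5 n89041
theorem D186687 : act 5 n89041 = n186687 := rfl
theorem F367678 : act 6 n186687 = n93903 := d12_2 F347564 D186687 F251609 F251607 D185768
def n186688 : Q := act 4 n89044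
theorem D186688 : act 4 n89044 = n186688 := rfl
theorem F367679 : act 2 n186688 = n183398 := d1_1 D186688 (iv4 D183398) (iv2 F268267)
theorem F367680 : act 3 n186688 = n145083 := d5_1 D186688 F333714 F184761 F184760 D89044
theorem F367681 : act 7 n186688 = n98537 := d11_2 (iv7 F268268) D186688 (iv4 D98537)
theorem F367682 : act 5 n145076 = n186688 := d6_0 F367680 (iv5 D145083) (iv3 F228027)
def n186689 : Q := act 5 n89044
theorem D186689 : act 5 n89044 = n186689 := rfl
theorem F367683 : act 2 n186689 = n183399 := d2_1 D186689 (iv5 D183399) (iv2 F268267)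
theorem F367684 : act 3 n186689 = n89046 := d6_1 D186689 (iv5 D89046) D89044
theorem F367685 : act 7 n186689 = n98538 := d13_2 (iv7 F268268) D186689 (iv5 D98538)
theorem F367686 : act 1 n183399 = n154014 := d15_0 (iv0 F358465) (iv7 F367685) F367683
def n186690 : Q := act 1 n89046
theorem D186690 : act 1 n89046 = n186690 := rfl
theorem F367687 : act 1 n186690 = n89051 := d15_1 D186690 F268260 (iv2 F268271)
theorem F367688 : act 7 n186690 = n98524 := d15_2 (iv0 F343478) D186690 F366871
theorem F367689 : act 5 n100484 = n186690 := d21_0 (iv1 D186690) (iv5 D89046) D89047 F343473 (iv6 F304329) D124371 F311711 F157829 F154558 (iv1 F154548)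
theorem F367690 : act 6 n186690 = n98599 := d21_3 D98552 (iv1 F154548) F367689 (iv1 D98599) (iv6 D46092) (iv5 D22016) (iv1 D10495) D10496 (iv6 F34501) D46074
theorem F367691 : act 2 n98525 = n186690 := d4_3 F367688 F366871 (iv7 F366872)
def n186691 : Q := act 4 n89046
theorem D186691 : act 4 n89046 = n186691 := rfl
theorem F367692 : act 2 n186691 = n98526 := d1_1 D186691 (iv4 D98526) (iv2 F268271)
theorem F367693 : act 7 n186691 = n98543 := d11_2 (iv7 F268272) D186691 (iv4 D98543)
theorem F367694 : act 0 n186691 = n124618 := d17_0 (iv5 D124618) D124615 F352205 (iv4 D98551) D98552 (iv0 F249712) (iv5 F304693) (iv0 F343478) D186691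
def n186692 : Q := act 6 n89046
theorem D186692 : act 6 n89046 = n186692 := rfl
theorem F367695 : act 2 n186692 = n98527 := d3_1 D186692 (iv6 D98527) (iv2 F268271)
theorem F367696 : act 5 n186692 = n100132 := d12_1 D186692 (iv6 D100132) (iv5 F136722) (iv6 D89047) D89046
theorem F367697 : act 0 n186692 = n141140 := d21_10 (iv5 D141140) F360355 (iv5 F136773) (iv6 D89073) (iv1 D41603) (iv6 F64186) (iv5 D41590) D41588 D89046 D186692
theorem F367698 : act 0 n144864 = n186692 := d21_1 (iv5 F360363) F367696 (iv6 D100132) (iv1 D46738) F34961 (iv5 D10662) D10660 D22411 D46748 D100161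
def n186693 : Q := act 4 n89051
theorem D186693 : act 4 n89051 = n186693 := rfl
theorem F367699 : act 2 n186693 = n98543 := d1_1 D186693 (iv4 D98543) (iv2 F268259)
theorem F367700 : act 7 n186693 = n98526 := d11_2 (iv7 F268260) D186693 (iv4 D98526)
theorem F367701 : act 1 n186693 = n124618 := d18_6 (iv1 F64290) (iv4 F184603) F184600 F184766 D89051 D186693 F352184 (iv0 D101504) (iv5 D47225)
def n186694 : Q := act 3 n89053
theorem D186694 : act 3 n89053 = n186694 := rfl
theorem F367702 : act 7 n186694 = n98555 := d8_2 (iv7 F272843) D186694 (iv3 D98555)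
theorem F367703 : act 2 n186694 = n137786 := d15_3 F365466 (iv0 F233166) (iv7 F367702)
theorem F367704 : act 6 n136093 = n186694 := d3_0 F367703 (iv6 D137786) (iv2 F219037)
theorem F367705 : act 0 n138197 = n186694 := d21_4 (iv5 D98587) (iv1 F72657) D87543 (iv6 F338410) (iv6 F367704) (iv5 D136093) (iv1 F99580) D64761 F329580 (iv1 F295121)
theorem F367706 : act 1 n183403 = n186694 := d15_0 (iv0 F367705) (iv7 F363942) (iv2 F363943)
def n186695 : Q := act 6 n89053
theorem D186695 : act 6 n89053 = n186695 := rfl
theorem F367707 : act 2 n186695 = n98553 := d3_1 D186695 (iv6 D98553) (iv2 F272841)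
theorem F367708 : act 3 n186695 = n136093 := d7_1 D186695 F367704 (iv3 D186694)
theorem F367709 : act 5 n186695 = n99857 := d21_6 (iv5 D41600) (iv1 D19588) D19589 (iv6 F64186) D89053 D186695 (iv1 D99857) D99858 F153751 F73677
theorem F367710 : act 7 n102623 = n186695 := d13_0 F367709 F333108 D102623
theorem F367711 : act 4 n186695 = n137169 := d20_6 (iv4 F100065) F100067 F93770 D64042 (iv1 F360511) (iv3 F367708) (iv1 D137169) (iv4 D64480) F48795 (iv1 F48748)
theorem F367712 : act 6 n137169 = n101533 := d10_2 D186695 F367711 F272844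
def n186696 : Q := act 3 n89054
theorem D186696 : act 3 n89054 = n186696 := rfl
theorem F367713 : act 7 n186696 = n98550 := d8_2 (iv7 F272831) D186696 (iv3 D98550)
def n186697 : Q := act 6 n89054
theorem D186697 : act 6 n89054 = n186697 := rfl
theorem F367714 : act 2 n186697 = n98557 := d3_1 D186697 (iv6 D98557) (iv2 F272830)
def n186698 : Q := act 3 n89055
theorem D186698 : act 3 n89055 = n186698 := rfl
theorem F367715 : act 2 n186698 = n128893 := d0_1 D186698 F362286 F206862 F327832 (iv2 F136725)
theorem F367716 : act 4 n186698 = n92804 := d5_2 D89055 D186698 (iv3 F288074) (iv4 F332657) F136701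
theorem F367717 : act 6 n186698 = n89076 := d7_2 (iv6 F136726) D186698 (iv3 D89076)
theorem F367718 : act 5 n125657 = n186698 := d12_5 F367717 F327325 F93015 D58838 D125657
def n186699 : Q := act 5 n89055
theorem D186699 : act 5 n89055 = n186699 := rfl
theorem F367719 : act 2 n186699 = n98561 := d2_1 D186699 (iv5 D98561) (iv2 F136725)
theorem F367720 : act 3 n186699 = n125657 := d6_1 D186699 F367718 (iv3 D186698)
theorem F367721 : act 6 n186699 = n125656 := d12_2 (iv6 F136726) D186699 (iv5 D125656) (iv6 F325753) F72689
theorem F367722 : act 7 n186699 = n172545 := d13_2 (iv7 F361723) D186699 F361717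
theorem F367723 : act 0 n186699 = n177616 := d17_2 F345244 D186699 F352529 F352525 (iv5 D89180) (iv0 D41657) D41659 D89188 (iv4 F345246)
def n186700 : Q := act 4 n89057
theorem D186700 : act 4 n89057 = n186700 := rfl
theorem F367724 : act 2 n186700 = n183404 := d1_1 D186700 (iv4 D183404) (iv2 F136732)
theorem F367725 : act 7 n186700 = n98591 := d11_2 (iv7 F136734) D186700 (iv4 D98591)
def n186701 : Q := act 6 n89057
theorem D186701 : act 6 n89057 = n186701 := rfl
theorem F367726 : act 2 n186701 = n183405 := d3_1 D186701 (iv6 D183405) (iv2 F136732)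
theorem F367727 : act 3 n186701 = n89060 := d7_1 D186701 (iv6 D89060) (iv3 F136733)
def n186702 : Q := act 3 n89059
theorem D186702 : act 3 n89059 = n186702 := rfl
theorem F367728 : act 7 n186702 = n98596 := d8_2 (iv7 F136740) D186702 (iv3 D98596)
theorem F367729 : act 0 n106456 = n186702 := d20_4 (iv4 D106466) (iv1 D49190) (iv4 F77682) (iv3 F163710) (iv3 D186702) (iv4 D89059) (iv1 F73678) (iv4 F147811) F327931 (iv1 F165629)
def n186703 : Q := act 6 n89059
theorem D186703 : act 6 n89059 = n186703 := rfl
theorem F367730 : act 2 n186703 = n98582 := d3_1 D186703 (iv6 D98582) (iv2 F136739)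
theorem F367731 : act 4 n186703 = n89060 := d10_1 D186703 (iv6 D89060) D89059
def n186704 : Q := act 0 n89060
theorem D186704 : act 0 n89060 = n186704 := rfl
theorem F367732 : act 4 n186704 = n128728 := d18_1 D186704 F332754 (iv4 F345229) (iv5 F155858) F345228 F281421 F354685 F354720 F153055
theorem F367733 : act 6 n186704 = n141140 := d21_5 (iv5 D19589) D19587 D41595 D89060 D186704 (iv5 D141140) F360355 (iv5 F136773) (iv6 D89073) (iv1 D41603)
theorem F367734 : act 5 n186704 = n141137 := d21_8 F350418 (iv1 F172956) (iv5 F329481) (iv6 D46924) (iv1 F73380) D99384 F153055 D186704 (iv6 D141137) D141135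
theorem F367735 : act 3 n128664 = n186704 := d6_3 F367734 F224108 (iv5 F329458)
theorem F367736 : act 7 n186704 = n98584 := d8_2 D128664 F367735 F354670
theorem F367737 : act 2 n186704 = n98583 := d15_3 (iv0 D98583) D98584 (iv7 F367736)
def n186705 : Q := act 1 n89060
theorem D186705 : act 1 n89060 = n186705 := rfl
theorem F367738 : act 1 n186705 = n98585 := d15_1 D186705 (iv7 D98585) (iv2 F136742)
theorem F367739 : act 7 n186705 = n98583 := d15_2 (iv0 D186704) D186705 (iv2 F367737)
theorem F367740 : act 4 n186705 = n128720 := d17_9 (iv1 F345230) (iv5 F345227) (iv1 F160845) (iv5 F334358) F164184 D134347 F354720 F153055 D186705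
theorem F367741 : act 2 n98584 = n186705 := d1_3 F367740 F206997 (iv4 F354671)
theorem F367742 : act 6 n128659 = n186705 := d10_0 F367740 (iv6 D128720) (iv4 F206957)
theorem F367743 : act 1 n98585 = n186704 := d15_1 F367738 F367736 F367741
def n186706 : Q := act 7 n89060
theorem D186706 : act 7 n89060 = n186706 := rfl
theorem F367744 : act 2 n186706 = n98585 := d4_1 D186706 (iv7 D98585) (iv2 F136742)
theorem F367745 : act 6 n186706 = n98601 := d14_1 D186706 (iv7 D98601) (iv6 D46092) (iv7 F65846) D89060
theorem F367746 : act 1 n98584 = n186706 := d15_1 D98584 (iv7 D186706) F136742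
theorem F367747 : act 1 n186706 = n98583 := d15_1 F367746 (iv7 F367739) (iv2 F367741)
def n186707 : Q := act 5 n89062
theorem D186707 : act 5 n89062 = n186707 := rfl
theorem F367748 : act 2 n186707 = n98565 := d2_1 D186707 (iv5 D98565) (iv2 F145420)
theorem F367749 : act 3 n186707 = n183479 := d6_1 D186707 (iv5 D183479) (iv3 F151965)
theorem F367750 : act 7 n186707 = n98294 := d13_2 (iv7 F157615) D186707 (iv5 D98294)
theorem F367751 : act 0 n186707 = n89071 := d17_2 (iv1 F136748) D186707 F136766 F73860 D94060 F292608 F136056 D88760 (iv4 F294193)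
theorem F367752 : act 0 n98605 = n186707 := d21_1 F367089 (iv5 D186707) F157614 (iv1 D46318) D46321 (iv5 F74730) (iv1 F342515) (iv5 D102397) (iv6 F251756) F367097
theorem E103268 : n98603 = n98565 := ((c15_4 (iv0 D98603) (iv0 F344982) (iv7 F367750) F367748)).symm
theorem F367753 : act 1 n98565 = n46097 := (sb E103268 (iv0 D98603))
def n186708 : Q := act 5 n89063
theorem D186708 : act 5 n89063 = n186708 := rfl
theorem F367754 : act 2 n186708 = n89064 := d2_1 D186708 (iv5 D89064) D89063
theorem F367755 : act 3 n186708 = n98587 := d6_1 D186708 (iv5 D98587) (iv3 F136744)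
theorem F367756 : act 7 n186708 = n98570 := d13_2 (iv7 F136746) D186708 (iv5 D98570)
theorem F367757 : act 1 n186708 = n98572 := d17_6 D94058 F291008 (iv1 F344369) (iv5 D94041) (iv4 F136745) D186708 (iv5 F251755) (iv0 D100151) F73860
theorem F367758 : act 1 n98573 = n186708 := d15_1 D98573 F367756 F151966
theorem F367759 : act 6 n100152 = n102528 := d21_3 D186708 (iv1 F367758) F367255 (iv1 D102528) F291615 (iv5 F291613) (iv1 F367084) (iv5 D186280) (iv6 F294785) (iv1 F136747)
def n186709 : Q := act 6 n89063
theorem D186709 : act 6 n89063 = n186709 := rfl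
theorem F367760 : act 2 n186709 = n89065 := d3_1 D186709 (iv6 D89065) D89063
theorem F367761 : act 3 n186709 = n98588 := d7_1 D186709 (iv6 D98588) (iv3 F136744)
theorem F367762 : act 4 n186709 = n94042 := d10_1 D186709 (iv6 D94042) (iv4 F136745)
def n186710 : Q := act 0 n89064
theorem D186710 : act 0 n89064 = n186710 := rfl
theorem F367763 : act 1 n98570 = n186710 := d15_0 (iv0 D186710) F136752 (iv2 F151966)
def n186711 : Q := act 1 n89064
theorem D186711 : act 1 n89064 = n186711 := rfl
theorem F367764 : act 1 n186711 = n98570 := d15_1 D186711 (iv7 F367756) F367754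
theorem F367765 : act 3 n183483 = n186711 := d20_3 F365734 F367056 F367055 (iv1 D186711) F136751 D89066 (iv1 F147842) (iv4 D96160) D96159 (iv1 F361765)
theorem F367766 : act 2 n186711 = n98572 := d0_1 F367765 (iv3 F357368) F221177 (iv3 F221208) (iv2 F367053)
theorem F367767 : act 7 n98573 = n186711 := d15_2 (iv0 D98572) D98573 F367766
theorem F367768 : act 7 n186710 = n98572 := d15_2 F367764 F367763 (iv2 F367766)
theorem F367769 : act 2 n98573 = n186710 := d4_3 F367768 (iv2 F367766) (iv7 F367767)
def n186712 : Q := act 4 n89064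
theorem D186712 : act 4 n89064 = n186712 := rfl
theorem F367770 : act 7 n186712 = n98574 := d11_2 (iv7 F136752) D186712 (iv4 D98574)
theorem F367771 : act 1 n186712 = n182421 := d18_6 (iv1 D87214) (iv4 F63888) (iv1 F292497) (iv4 F65933) D89064 D186712 (iv4 D182421) D182420 F362418
def n186713 : Q := act 6 n89064
theorem D186713 : act 6 n89064 = n186713 := rfl
theorem F367772 : act 3 n186713 = n89067 := d7_1 D186713 (iv6 D89067) (iv3 F136751)
def n186714 : Q := act 0 n89065
theorem D186714 : act 0 n89065 = n186714 := rfl
def n186715 : Q := act 1 n89065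
theorem D186715 : act 1 n89065 = n186715 := rfl
theorem F367773 : act 5 n186715 = n99935 := d18_9 (iv1 D99935) D99936 (iv1 F287506) (iv4 D185166) D185167 F287508 (iv0 D94047) (iv4 F136754) D186715
theorem F367774 : act 6 n89499 = n186715 := d21_5 D46667 F73758 (iv5 D45993) D45994 (iv1 F137208) F367773 (iv1 D99935) (iv5 D46674) (iv6 D22380) D22377
theorem F367775 : act 2 n186715 = n98310 := d3_1 F367774 (iv6 D98310) F145302
def n186716 : Q := act 3 n89066
theorem D186716 : act 3 n89066 = n186716 := rfl
theorem F367776 : act 7 n186716 = n98581 := d8_2 (iv7 F136756) D186716 (iv3 D98581)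
def n186717 : Q := act 6 n89066
theorem D186717 : act 6 n89066 = n186717 := rfl
theorem F367777 : act 2 n186717 = n98597 := d3_1 D186717 (iv6 D98597) (iv2 F136755)
theorem F367778 : act 4 n186717 = n89067 := d10_1 D186717 (iv6 D89067) D89066
def n186718 : Q := act 0 n89067
theorem D186718 : act 0 n89067 = n186718 := rfl
def n186719 : Q := act 1 n89067
theorem D186719 : act 1 n89067 = n186719 := rfl
theorem F367779 : act 1 n186719 = n98601 := d15_1 D186719 (iv7 D98601) (iv2 F136758)
def n186720 : Q := act 7 n89067
theorem D186720 : act 7 n89067 = n186720 := rfl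
theorem F367780 : act 2 n186720 = n98601 := d4_1 D186720 (iv7 D98601) (iv2 F136758)
theorem F367781 : act 6 n186720 = n98585 := d14_1 D186720 (iv7 D98585) (iv6 D46085) F65850 D89067
theorem F367782 : act 1 n98601 = n186718 := d15_0 (iv0 D186718) D186720 F367780
theorem F367783 : act 1 n98599 = n186720 := d15_1 D98599 (iv7 D186720) F136758
theorem F367784 : act 1 n186720 = n98598 := d15_0 (iv0 D98598) D98601 (iv2 F367780)
def n186721 : Q := act 4 n89068
theorem D186721 : act 4 n89068 = n186721 := rfl
theorem F367785 : act 2 n186721 = n183407 := d1_1 D186721 (iv4 D183407) (iv2 F136897)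
theorem F367786 : act 7 n186721 = n98616 := d11_2 (iv7 F136760) D186721 (iv4 D98616)
def n186722 : Q := act 6 n89068
theorem D186722 : act 6 n89068 = n186722 := rfl
theorem F367787 : act 2 n186722 = n183408 := d3_1 D186722 (iv6 D183408) (iv2 F136897)
theorem F367788 : act 3 n186722 = n89070 := d7_1 D186722 (iv6 D89070) D89068
def n186723 : Q := act 3 n89069
theorem D186723 : act 3 n89069 = n186723 := rfl
theorem F367789 : act 5 n186723 = n186716 := d6_2 (iv5 F136763) D186723 (iv3 D186716)
theorem F367790 : act 7 n186723 = n98619 := d8_2 (iv7 F136762) D186723 (iv3 D98619)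
def n186724 : Q := act 6 n89069
theorem D186724 : act 6 n89069 = n186724 := rfl
theorem F367791 : act 2 n186724 = n98610 := d3_1 D186724 (iv6 D98610) (iv2 F136761)
theorem F367792 : act 4 n186724 = n89070 := d10_1 D186724 (iv6 D89070) D89069
def n186725 : Q := act 0 n89070
theorem D186725 : act 0 n89070 = n186725 := rfl
theorem F367793 : act 6 n186725 = n134348 := d21_5 (iv5 D22889) D22887 (iv5 F64204) D89070 D186725 (iv5 F354681) (iv1 D100581) F74129 (iv6 D46085) (iv1 F35582)
theorem F367794 : act 3 n131927 = n186725 := d7_3 F367793 F216349 (iv6 F211399)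
theorem F367795 : act 4 n131951 = n186725 := d10_3 F367793 (iv4 F334365) F334366
theorem F367796 : act 7 n131923 = n186725 := d14_0 F367793 (iv7 D134348) (iv6 D63113) (iv7 F96499) D131923
theorem F367797 : act 3 n132022 = n186724 := d20_5 F165530 (iv1 D49337) (iv4 F47001) (iv3 F96549) D132022 F367792 D186725 (iv4 F367795) F211423 (iv1 F164152)
theorem F367798 : act 6 n186723 = n132022 := d7_0 F367797 (iv6 D186724) D186723
def n186726 : Q := act 1 n89070
theorem D186726 : act 1 n89070 = n186726 := rfl
theorem F367799 : act 1 n186726 = n98614 := d15_1 D186726 (iv7 D98614) (iv2 F136765)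
def n186727 : Q := act 5 n89070
theorem D186727 : act 5 n89070 = n186727 := rfl
theorem F367800 : act 2 n186727 = n98613 := d2_1 D186727 (iv5 D98613) (iv2 F136765)
theorem F367801 : act 6 n186727 = n89599 := d12_2 D89070 D186727 F291666 (iv6 F291667) (iv5 F64204)
def n186728 : Q := act 7 n89070
theorem D186728 : act 7 n89070 = n186728 := rfl
theorem F367802 : act 2 n186728 = n98614 := d4_1 D186728 (iv7 D98614) (iv2 F136765)
theorem F367803 : act 6 n186728 = n98624 := d14_1 D186728 (iv7 D98624) (iv6 D46104) (iv7 F72674) D89070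
theorem F367804 : act 1 n98614 = n186725 := d15_0 (iv0 D186725) D186728 F367802
theorem F367805 : act 1 n98612 = n186728 := d15_1 D98612 (iv7 D186728) F136765
theorem F367806 : act 2 n131923 = n186726 := d15_3 F367799 F367804 (iv7 F367796)
theorem F367807 : act 3 n186726 = n134312 := d0_2 (iv3 F211387) F367806 F216326 F98401 (iv2 F96504)
theorem F367808 : act 4 n186726 = n131943 := d1_2 (iv4 F211388) F367806 F211419
theorem F367809 : act 6 n186726 = n131921 := d3_2 D131923 F367806 (iv2 D131921)
theorem F367810 : act 1 n186728 = n98611 := d15_0 (iv0 D98611) D98614 (iv2 F367802)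
def n186729 : Q := act 2 n89071
theorem D186729 : act 2 n89071 = n186729 := rfl
theorem F367811 : act 3 n186729 = n96473 := d0_2 D89071 D186729 (iv2 F294472) (iv3 D46101) (iv2 F72672)
theorem F367812 : act 5 n186729 = n96471 := d2_2 (iv5 F136766) D186729 F291553
theorem F367813 : act 7 n186729 = n98605 := d4_2 (iv7 F136767) D186729 (iv2 D98605)
theorem F367814 : act 1 n186729 = n98565 := d15_0 F367753 (iv7 F136767) D186729
theorem F367815 : act 1 n98294 = n186729 := d15_0 F367814 (iv7 F367414) F367412
def n186730 : Q := act 4 n89071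
theorem D186730 : act 4 n89071 = n186730 := rfl
theorem F367816 : act 7 n186730 = n98606 := d11_2 (iv7 F136767) D186730 (iv4 D98606)
theorem F367817 : act 1 n186730 = n182702 := d18_6 (iv1 D105041) F76400 (iv1 F290709) (iv4 F73860) (iv5 F136766) D186730 (iv4 D182702) D182701 (iv5 F339538)
def n186731 : Q := act 6 n89071
theorem D186731 : act 6 n89071 = n186731 := rfl
theorem F367818 : act 3 n186731 = n89073 := d7_1 D186731 (iv6 D89073) D89071
theorem F367819 : act 5 n186731 = n100150 := d12_1 D186731 (iv6 D100150) (iv5 D46744) D46745 (iv5 F136766)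
def n186732 : Q := act 3 n89072
theorem D186732 : act 3 n89072 = n186732 := rfl
theorem F367820 : act 5 n186732 = n186702 := d6_2 (iv5 F136769) D186732 (iv3 D186702)
theorem F367821 : act 7 n186732 = n98609 := d8_2 (iv7 F136770) D186732 (iv3 D98609)
def n186733 : Q := act 6 n89072
theorem D186733 : act 6 n89072 = n186733 := rfl
theorem F367822 : act 2 n186733 = n98620 := d3_1 D186733 (iv6 D98620) (iv2 F136768)
theorem F367823 : act 4 n186733 = n89073 := d10_1 D186733 (iv6 D89073) D89072
theorem F367824 : act 3 n186733 = n106220 := d19_3 F360355 (iv5 F136773) (iv4 F367823) (iv1 F163225) (iv5 F163213) (iv4 F201966) F201965 (iv1 F93145) D58940 D125867 (iv3 F360402) (iv1 F360482) (iv5 F349561) F163720 (iv3 F97784) (iv1 F97781) F48172 (iv4 F49376) (iv3 F101803)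
theorem F367825 : act 6 n106220 = n186732 := d7_2 D186733 F367824 (iv3 D186732)
theorem F367826 : act 0 n89073 = n105330 := d20_7 F45877 (iv1 F37356) (iv4 F37374) (iv3 F77466) D106220 (iv3 F367824) F367823 F161520 (iv3 D48704) (iv1 F45879)
def n186734 : Q := act 7 n89073
theorem D186734 : act 7 n89073 = n186734 := rfl
theorem F367827 : act 2 n186734 = n98624 := d4_1 D186734 (iv7 D98624) (iv2 F136772)
theorem F367828 : act 5 n186734 = n100163 := d13_1 D186734 (iv7 D100163) (iv5 F136773)
theorem F367829 : act 6 n186734 = n98614 := d14_1 D186734 (iv7 D98614) (iv6 D46100) F72671 D89073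
theorem F367830 : act 1 n98622 = n186734 := d15_1 D98622 (iv7 D186734) F136772
theorem F367831 : act 1 n186734 = n98621 := d15_0 (iv0 D98621) D98624 (iv2 F367827)
def n186735 : Q := act 3 n89074
theorem D186735 : act 3 n89074 = n186735 := rfl
theorem F367832 : act 4 n186735 = n105052 := d5_2 (iv4 F136774) D186735 (iv3 D105052) (iv4 D48550) (iv3 F293502)
theorem F367833 : act 7 n186735 = n98627 := d8_2 F136777 D186735 (iv3 D98627)
def n186736 : Q := act 6 n89074
theorem D186736 : act 6 n89074 = n186736 := rfl
theorem F367834 : act 2 n186736 = n98626 := d3_1 D186736 (iv6 D98626) F136776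
theorem F367835 : act 4 n186736 = n89191 := d10_1 D186736 (iv6 D89191) (iv4 F136774)
theorem F367836 : act 7 n186736 = n131949 := d14_2 F136777 D186736 (iv6 F362896) F352460 (iv6 F352458)
theorem F367837 : act 0 n186736 = n131951 := d21_4 (iv5 F147810) (iv1 F147812) F136794 D186736 (iv6 F334366) F248690 (iv1 D104966) (iv5 F332749) (iv6 D98654) (iv1 F74852)
theorem F367838 : act 0 n131943 = n186736 := d21_4 D131831 (iv1 F362893) (iv5 D131942) D131943 (iv6 D186736) (iv5 F136794) (iv1 F147814) F327930 (iv6 D61863) D61859
def n186737 : Q := act 3 n89075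
theorem D186737 : act 3 n89075 = n186737 := rfl
theorem F367839 : act 5 n186737 = n96147 := d6_2 (iv5 F136781) D186737 (iv3 D96147)
theorem F367840 : act 7 n186737 = n98625 := d8_2 (iv7 F136779) D186737 (iv3 D98625)
def n186738 : Q := act 4 n89080
theorem D186738 : act 4 n89080 = n186738 := rfl
theorem F367841 : act 2 n186738 = n183526 := d1_1 D186738 (iv4 D183526) (iv2 F136787)
theorem F367842 : act 7 n186738 = n98648 := d11_2 (iv7 F136789) D186738 (iv4 D98648)
theorem F367843 : act 3 n186738 = n134913 := d20_3 F226088 (iv1 F334886) D186738 (iv1 D134913) F98714 F48156 D29955 D63408 D134927 F356333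
def n186739 : Q := act 6 n89080
theorem D186739 : act 6 n89080 = n186739 := rfl
theorem F367844 : act 2 n186739 = n183527 := d3_1 D186739 (iv6 D183527) (iv2 F136787)
theorem F367845 : act 3 n186739 = n89083 := d7_1 D186739 (iv6 D89083) (iv3 F136788)
theorem F367846 : act 5 n186739 = n185057 := d12_1 D186739 F358603 F157123 (iv6 D89081) D89080
def n186740 : Q := act 3 n89082
theorem D186740 : act 3 n89082 = n186740 := rfl
theorem F367847 : act 4 n186740 = n134913 := d5_2 D89082 D186740 (iv3 F367843) (iv4 D186738) F136788
theorem F367848 : act 5 n186740 = n186735 := d6_2 (iv5 F136794) D186740 (iv3 D186735)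
theorem F367849 : act 7 n186740 = n98653 := d8_2 (iv7 F136795) D186740 (iv3 D98653)
theorem F367850 : act 2 n182773 = n186740 := d4_3 F367849 F332738 D182773
theorem F367851 : act 6 n180361 = n186740 := d14_5 F367849 F332740 F76346 D86141 D180361
theorem F367852 : act 1 n182771 = n186740 := d15_1 D182771 F367849 F332738
theorem F367853 : act 1 n186740 = n182770 := d15_0 (iv0 D182770) D182773 F367850
def n186741 : Q := act 6 n89082
theorem D186741 : act 6 n89082 = n186741 := rfl
theorem F367854 : act 2 n186741 = n96163 := d3_1 D186741 (iv6 D96163) (iv2 F136793)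
theorem F367855 : act 3 n186741 = n180361 := d7_1 D186741 F367851 (iv3 D186740)
theorem F367856 : act 4 n186741 = n89083 := d10_1 D186741 (iv6 D89083) D89082
theorem F367857 : act 7 n186741 = n180358 := d14_2 (iv7 F136795) D186741 (iv6 D180358) (iv7 F332750) (iv6 D98654)
def n186742 : Q := act 0 n89083
theorem D186742 : act 0 n89083 = n186742 := rfl
def n186743 : Q := act 1 n89083
theorem D186743 : act 1 n89083 = n186743 := rfl
theorem F367858 : act 1 n186743 = n96167 := d15_1 D186743 (iv7 D96167) (iv2 F136796)
theorem F367859 : act 5 n101932 = n186743 := d21_6 (iv5 D22809) (iv1 D10774) D10775 (iv6 F35304) D47355 D101932 (iv1 D186743) (iv5 F157128) (iv6 D102309) (iv1 F74654)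
theorem F367860 : act 2 n186743 = n96165 := d2_1 F367859 (iv5 F274868) F338127
def n186744 : Q := act 7 n89083
theorem D186744 : act 7 n89083 = n186744 := rfl
theorem F367861 : act 2 n186744 = n96167 := d4_1 D186744 (iv7 D96167) (iv2 F136796)
theorem F367862 : act 4 n186744 = n180358 := d11_1 D186744 (iv7 F367857) F367856
theorem F367863 : act 6 n186744 = n98657 := d14_1 D186744 (iv7 D98657) (iv6 D46116) (iv7 F64231) D89083
theorem F367864 : act 1 n96167 = n186742 := d15_0 (iv0 D186742) D186744 F367861
theorem F367865 : act 1 n96165 = n186744 := d15_1 D96165 (iv7 D186744) F136796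
theorem F367866 : act 7 n186742 = n96165 := d15_2 F367858 F367864 (iv2 F367860)
theorem F367867 : act 2 n186742 = n96164 := d15_3 (iv0 D96164) D96165 (iv7 F367866)
theorem F367868 : act 7 n96164 = n186743 := d4_2 (iv7 F367866) F367867 F367860
theorem F367869 : act 1 n186744 = n96164 := d15_1 F367865 F367868 F367860
def n186745 : Q := act 6 n89084
theorem D186745 : act 6 n89084 = n186745 := rfl
theorem F367870 : act 2 n186745 = n149274 := d3_1 D186745 (iv6 D149274) (iv2 F136797)
theorem F367871 : act 4 n186745 = n122693 := d10_1 D186745 (iv6 D122693) (iv4 F136798)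
def n186746 : Q := act 5 n89085
theorem D186746 : act 5 n89085 = n186746 := rfl
def n186747 : Q := act 7 n89085
theorem D186747 : act 7 n89085 = n186747 := rfl
theorem F367872 : act 3 n186747 = n89353 := d8_1 D186747 (iv7 F364384) F270402
theorem F367873 : act 4 n186747 = n89089 := d11_1 D186747 (iv7 D89089) (iv4 F136800)
theorem F367874 : act 6 n186747 = n89353 := d14_1 D186747 (iv7 F364384) (iv6 D172207) F127108 D89085
theorem F367875 : act 1 n182927 = n186747 := d15_1 (iv0 F289562) (iv7 D186747) (iv2 F148679)
theorem F367876 : act 1 n186747 = n182924 := d15_1 F367875 F284518 (iv2 F284520)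
def n186748 : Q := act 5 n89086
theorem D186748 : act 5 n89086 = n186748 := rfl
theorem F367877 : act 2 n186748 = n89461 := d2_1 D186748 (iv5 D89461) (iv2 F335741)
theorem F367878 : act 0 n186748 = n100870 := d21_1 D186748 (iv5 D100870) (iv6 D47020) (iv1 D22605) (iv6 D10715) D10714 F34429 (iv5 F34430) D41625 D89086
def n186749 : Q := act 0 n89088
theorem D186749 : act 0 n89088 = n186749 := rfl
theorem F367879 : act 2 n89475 = n186749 := d15_3 (iv0 D186749) (iv0 F289696) F157121
def n186750 : Q := act 4 n89088
theorem D186750 : act 4 n89088 = n186750 := rfl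
def n186751 : Q := act 7 n89088
theorem D186751 : act 7 n89088 = n186751 := rfl
theorem F367880 : act 3 n186751 = n182176 := d8_1 D186751 F352775 F151423
theorem F367881 : act 5 n186751 = n89089 := d13_1 D186751 (iv7 D89089) D89088
theorem F367882 : act 0 n89475 = n186751 := d21_1 F291782 F367881 F289531 (iv1 F136251) (iv6 F294161) F294160 (iv1 F154956) (iv5 D47019) D47020 (iv1 F343084)
def n186752 : Q := act 5 n89090
theorem D186752 : act 5 n89090 = n186752 := rfl
theorem F367883 : act 2 n186752 = n120395 := d2_1 D186752 (iv5 F356971) F281614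
theorem F367884 : act 3 n186752 = n89095 := d6_1 D186752 (iv5 D89095) (iv3 F136801)
theorem F367885 : act 6 n186752 = n114121 := d12_2 D89090 D186752 F177737 F297096 F74223
def n186753 : Q := act 6 n89091
theorem D186753 : act 6 n89091 = n186753 := rfl
theorem F367886 : act 3 n186753 = n95491 := d7_1 D186753 (iv6 D95491) (iv3 F136803)
theorem F367887 : act 4 n186753 = n160075 := d10_1 D186753 (iv6 D160075) (iv4 F136804)
def n186754 : Q := act 0 n89092
theorem D186754 : act 0 n89092 = n186754 := rfl
theorem F367888 : act 4 n186754 = n95634 := d20_2 (iv4 F136808) D186754 F147315 (iv1 F335652) F284579 (iv4 F335673) (iv1 F137081) (iv4 D89399) (iv3 F136249) F289522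
theorem F367889 : act 2 n95798 = n186754 := d15_3 (iv0 D186754) F289525 F251835
theorem F367890 : act 1 n89353 = n186754 := d15_0 (iv0 D186754) F364381 (iv2 F364383)
theorem F367891 : act 7 n186754 = n95753 := d15_2 (iv0 F251837) F367890 (iv2 F251833)
theorem F367892 : act 3 n89834 = n186754 := d20_3 (iv4 F281616) F289544 F137892 (iv1 F367890) (iv3 F367872) F367873 (iv1 F270417) F289549 (iv3 F147371) (iv1 F289553)
def n186755 : Q := act 5 n89092
theorem D186755 : act 5 n89092 = n186755 := rfl
theorem F367893 : act 3 n186755 = n95494 := d6_1 D186755 (iv5 D95494) (iv3 F136807)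
def n186756 : Q := act 5 n89097
theorem D186756 : act 5 n89097 = n186756 := rfl
theorem F367894 : act 2 n186756 = n89109 := d2_1 D186756 (iv5 D89109) (iv2 F136809)
theorem F367895 : act 3 n186756 = n101540 := d6_1 D186756 (iv5 D101540) (iv3 F136810)
theorem F367896 : act 6 n186756 = n89100 := d12_2 D89097 D186756 (iv5 D89100) (iv6 D41630) D41629
theorem F367897 : act 7 n186756 = n175768 := d13_2 F155175 D186756 (iv5 D175768)
theorem F367898 : act 0 n120488 = n186756 := d21_1 D120488 (iv5 D186756) (iv6 D89097) (iv1 F64239) D46984 D100757 F345505 D101842 (iv6 F362434) (iv1 D120485)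
def n186757 : Q := act 4 n89100
theorem D186757 : act 4 n89100 = n186757 := rfl
theorem F367899 : act 2 n186757 = n89123 := d1_1 D186757 (iv4 D89123) (iv2 F136812)
theorem F367900 : act 5 n186757 = n113920 := d16_1 D186757 F177277 (iv5 F163738) F360836 (iv5 D93210) (iv4 D43607) D43608 F294966 (iv2 F136812)
def n186758 : Q := act 1 n89103
theorem D186758 : act 1 n89103 = n186758 := rfl
theorem F367901 : act 7 n186758 = n186574 := d15_2 (iv0 F352644) D186758 F367278
theorem F367902 : act 3 n164452 = n186758 := d20_3 F259230 (iv1 F177956) F259095 (iv1 D186758) F136820 (iv4 F125280) (iv1 F335134) (iv4 D96551) D96550 F261860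
theorem F367903 : act 4 n186576 = n186758 := d11_3 F367901 F367280 D186576
def n186759 : Q := act 5 n89103
theorem D186759 : act 5 n89103 = n186759 := rfl
theorem F367904 : act 3 n186759 = n96248 := d6_1 D186759 (iv5 D96248) (iv3 F136820)
theorem F367905 : act 6 n186759 = n89105 := d12_2 D89103 D186759 (iv5 D89105) (iv6 D41632) D41631
def n186760 : Q := act 7 n89103
theorem D186760 : act 7 n89103 = n186760 := rfl
theorem F367906 : act 3 n186760 = n96249 := d8_1 D186760 (iv7 D96249) (iv3 F136820)
theorem F367907 : act 4 n186760 = n89576 := d11_1 D186760 (iv7 F367405) F367408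
theorem F367908 : act 0 n186574 = n186760 := d20_4 F120179 D78998 (iv4 F352663) (iv3 F367279) F367906 (iv4 F334461) (iv1 F150025) (iv4 D45445) D45444 (iv1 F258977)
def n186761 : Q := act 4 n89105
theorem D186761 : act 4 n89105 = n186761 := rfl
theorem F367909 : act 3 n186761 = n106490 := d5_1 D186761 (iv4 F328935) F359021 (iv4 D96954) (iv3 F136821)
theorem F367910 : act 7 n186761 = n106487 := d11_2 (iv7 F294895) D186761 F360836
theorem F367911 : act 0 n106499 = n131120 := d20_4 F332842 (iv1 D131991) F96535 (iv3 F163751) (iv3 F352840) (iv4 F352841) F357561 D186761 F367909 (iv1 F164396)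
theorem F367912 : act 6 n135558 = n130682 := d21_5 (iv5 F163752) F367911 F345003 (iv6 F217412) (iv1 F217980) (iv5 F347377) (iv1 D144944) D144945 F347379 (iv1 D127384)
theorem F367913 : act 3 n130684 = n135558 := d7_3 F367912 (iv3 D130682) D130684
theorem F367914 : act 4 n159655 = n135558 := d10_3 F367912 F209253 (iv6 F360184)
theorem F367915 : act 0 n126840 = n129519 := d20_4 F345905 (iv1 D64768) D64769 (iv3 F204084) F350871 F367914 (iv1 D135558) F99100 (iv3 F212983) (iv1 F345904)
theorem F367916 : act 5 n113922 = n186761 := d13_3 F367910 F163738 D113922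
def n186762 : Q := act 5 n89106
theorem D186762 : act 5 n89106 = n186762 := rfl
theorem F367917 : act 2 n186762 = n100729 := d2_1 D186762 (iv5 D100729) (iv2 F136822)
theorem F367918 : act 6 n186762 = n99468 := d12_2 D89106 D186762 (iv5 D99468) (iv6 D46504) F64250
def n186763 : Q := act 5 n89108
theorem D186763 : act 5 n89108 = n186763 := rfl
theorem F367919 : act 2 n186763 = n170714 := d2_1 D186763 (iv5 D170714) F155177
theorem F367920 : act 3 n186763 = n132547 := d6_1 D186763 (iv5 F215107) F306373
theorem F367921 : act 7 n186763 = n136480 := d13_2 (iv7 F155173) D186763 F310380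
theorem F367922 : act 4 n186763 = n115391 := d16_2 (iv4 F155178) D186763 (iv5 D115391) F84081 F323563 (iv4 D83906) (iv5 D38641) (iv7 F61158) D83044
theorem F367923 : act 1 n186763 = n175769 := d17_6 F344938 F334147 (iv1 F272111) (iv5 D173635) (iv4 F155178) D186763 (iv5 F303369) F303682 D120487
theorem F367924 : act 1 n175770 = n186763 := d15_1 D175770 F367921 F310379
def n186764 : Q := act 6 n89108
theorem D186764 : act 6 n89108 = n186764 := rfl
theorem F367925 : act 2 n186764 = n101738 := d3_1 D186764 F355383 F155177
theorem F367926 : act 3 n186764 = n131165 := d7_1 D186764 (iv6 F215108) F306373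
theorem F367927 : act 4 n186764 = n125292 := d10_1 D186764 F319529 (iv4 F155178)
theorem F367928 : act 7 n186764 = n101739 := d14_2 (iv7 F155173) D186764 F355375 F312603 F310381
theorem F367929 : act 0 n101726 = n186764 := d21_4 (iv5 F345496) F354498 F327150 D101726 (iv6 D186764) D186763 (iv1 F367924) F366169 F362434 F305528
theorem F367930 : act 1 n101741 = n186764 := d15_1 (iv0 F355389) F367928 F355372
def n186765 : Q := act 0 n89109
theorem D186765 : act 0 n89109 = n186765 := rfl
theorem F367931 : act 5 n186765 = n120310 := d17_3 (iv1 D89108) D89109 D186765 F191572 (iv5 F302295) (iv0 F321887) (iv5 D83494) (iv0 F318052) (iv4 F155178)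
theorem F367932 : act 4 n186765 = n102163 := d18_1 D186765 F354507 (iv4 F344853) (iv5 D175734) (iv4 D83889) (iv0 D38637) D38640 F155164 D89109
theorem F367933 : act 3 n186765 = n120311 := d20_5 (iv4 F295470) (iv1 D91029) F295269 (iv3 F136824) D186765 F301586 (iv1 F277356) (iv4 D85843) (iv3 F131705) (iv1 F131707)
theorem F367934 : act 2 n136394 = n186765 := d0_5 F367933 F191574 (iv3 F191915) F355251 (iv3 F219500)
theorem F367935 : act 3 n177831 = n102187 := d5_3 (iv4 F367932) F367933 F301586 (iv4 D102187) (iv3 F157058)
theorem F367936 : act 7 n120488 = n186765 := d8_0 F367933 F191575 (iv3 F191929)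
theorem F367937 : act 1 n136394 = n186756 := d15_0 (iv0 F367898) F367936 (iv2 F367934)
theorem E103269 : n180419 = n141940 := ((c20_4 (iv4 D85843) (iv1 F303358) D120543 F363282 (iv1 D180419) (iv3 F280793) (iv4 F345432) (iv1 D102186) D102187 (iv3 F367935) (iv1 F277356))).symm
theorem F367938 : act 0 n141940 = n86166 := (sb E103269 (iv1 D180419))
theorem F367939 : act 1 n175768 = n186765 := d17_8 F354507 (iv5 F344851) (iv1 D115389) D115391 (iv4 F367922) (iv5 D186763) F155176 D175768 F367932
def n186766 : Q := act 1 n89109
theorem D186766 : act 1 n89109 = n186766 := rfl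
theorem F367940 : act 1 n186766 = n175768 := d15_1 D186766 (iv7 F367897) F367894
theorem F367941 : act 7 n186766 = n136394 := d15_2 (iv0 D186765) D186766 F367934
theorem F367942 : act 5 n120486 = n186766 := d21_6 (iv5 F34781) (iv1 F34782) D22597 D46990 D100774 (iv6 F366673) (iv1 D186766) (iv5 D89109) (iv6 D41634) F34423
theorem F367943 : act 2 n186766 = n120488 := d2_1 F367942 (iv5 D120488) D120486
theorem F367944 : act 4 n186766 = n132243 := d9_1 F367942 F211885 (iv4 F167725) F324293 (iv4 D83967) F302295 (iv4 F191572) (iv5 F367931) F367932 (iv5 D102163) (iv4 F328304) F300890 F115836 (iv5 F316724) F366672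
theorem F367945 : act 3 n132235 = n186766 := d5_5 F367944 (iv3 D132243) (iv4 D62041) (iv3 F96675) D132235
def n186767 : Q := act 4 n89109
theorem D186767 : act 4 n89109 = n186767 := rfl
theorem F367946 : act 6 n186767 = n89123 := d10_2 (iv6 F136825) D186767 (iv4 D89123)
theorem F367947 : act 5 n186767 = n136626 := d16_1 D186767 F219764 (iv5 F344860) F342669 (iv5 F342670) F130423 D175768 (iv7 F367897) F367894
theorem F367948 : act 0 n136649 = n186767 := d20_10 (iv4 D186767) D186765 F367932 F157058 F155843 F352962 (iv4 F351900) F351901 (iv4 D136650) D136649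
def n186768 : Q := act 7 n89109
theorem D186768 : act 7 n89109 = n186768 := rfl
theorem F367949 : act 2 n186768 = n175768 := d4_1 D186768 (iv7 F367897) F367894
theorem F367950 : act 3 n186768 = n89138 := d8_1 D186768 (iv7 D89138) (iv3 F136824)
theorem F367951 : act 5 n186768 = n89110 := d13_1 D186768 (iv7 D89110) D89109
theorem F367952 : act 1 n120488 = n186768 := d15_1 (iv0 F367898) (iv7 D186768) (iv2 F367894)
theorem F367953 : act 1 n186768 = n136394 := d15_1 F367952 (iv7 F367941) F367943
theorem F367954 : act 0 n186637 = n182024 := d20_10 (iv4 F355253) (iv1 D129471) D129472 (iv3 F219500) (iv1 F367953) F367950 F295270 (iv1 F143649) F295428 D186637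
def n186769 : Q := act 6 n89113
theorem D186769 : act 6 n89113 = n186769 := rfl
theorem F367955 : act 4 n186769 = n89115 := d10_1 D186769 (iv6 D89115) D89113
def n186770 : Q := act 4 n89114
theorem D186770 : act 4 n89114 = n186770 := rfl
theorem F367956 : act 3 n186770 = n101164 := d5_1 D186770 (iv4 F362334) F362335 (iv4 F343087) F289710
def n186771 : Q := act 6 n89114
theorem D186771 : act 6 n89114 = n186771 := rfl
theorem F367957 : act 3 n186771 = n134953 := d7_1 D186771 (iv6 F336664) F289710
theorem F367958 : act 5 n186771 = n138331 := d12_1 D186771 F221531 (iv5 F329814) (iv6 D89115) D89114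
def n186772 : Q := act 5 n89117
theorem D186772 : act 5 n89117 = n186772 := rfl
theorem F367959 : act 3 n186772 = n89119 := d6_1 D186772 (iv5 D89119) D89117
def n186773 : Q := act 4 n89119
theorem D186773 : act 4 n89119 = n186773 := rfl
theorem F367960 : act 5 n186773 = n134598 := d16_1 D186773 (iv4 F364206) F355648 (iv4 F270262) (iv5 F364442) (iv4 D89113) D89114 F356245 (iv2 F356243)
theorem F367961 : act 3 n134603 = n186773 := d6_3 F367960 F216579 D134603
def n186774 : Q := act 6 n89119
theorem D186774 : act 6 n89119 = n186774 := rfl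
theorem F367962 : act 5 n186774 = n136482 := d12_1 D186774 F354519 F327390 F335326 D89119
def n186775 : Q := act 3 n89121
theorem D186775 : act 3 n89121 = n186775 := rfl
theorem F367963 : act 5 n186775 = n91084 := d6_2 (iv5 F357558) D186775 (iv3 D91084)
theorem F367964 : act 7 n186775 = n98084 := d8_2 (iv7 F357559) D186775 F357535
theorem F367965 : act 4 n186775 = n111421 := d20_6 (iv4 F294577) (iv1 F293674) F294823 (iv3 F64258) D89121 D186775 (iv1 F343100) (iv4 D93140) F68496 F294148
theorem F367966 : act 2 n98083 = n186775 := d1_3 F367965 (iv2 F172902) (iv4 F343094)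
theorem F367967 : act 1 n91181 = n186775 := d17_8 (iv1 F343100) (iv5 F343102) (iv1 F172619) F172612 (iv4 F362812) (iv5 F362817) (iv0 D94104) (iv5 F295198) F367965
theorem F367968 : act 0 n98075 = n186775 := d18_0 F367965 (iv1 F343100) (iv4 D93140) (iv5 D43580) (iv4 F68473) (iv0 F294993) (iv4 F136829) (iv0 F136908) D98075
theorem F367969 : act 6 n186775 = n120467 := d21_5 F300098 F117198 D56655 (iv6 F151224) F367968 (iv5 D120467) (iv1 D55456) D55457 F87756 D55469
def n186776 : Q := act 4 n89121
theorem D186776 : act 4 n89121 = n186776 := rfl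
def n186777 : Q := act 6 n89121
theorem D186777 : act 6 n89121 = n186777 := rfl
theorem F367970 : act 2 n186777 = n146941 := d3_1 D186777 (iv6 F347753) F357556
theorem F367971 : act 3 n186777 = n120467 := d7_1 D186777 (iv6 F367969) (iv3 D186775)
theorem F367972 : act 5 n186777 = n120465 := d12_1 D186777 (iv6 F362411) F362409 (iv6 D91087) (iv5 F357558)
theorem F367973 : act 4 n139285 = n186777 := d1_0 F367970 (iv4 F230338) (iv2 F222482)
theorem F367974 : act 6 n186776 = n139285 := d10_0 F367973 (iv6 D186777) D186776
def n186778 : Q := act 3 n89122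
theorem D186778 : act 3 n89122 = n186778 := rfl
theorem F367975 : act 5 n186778 = n91089 := d6_2 (iv5 F357554) D186778 (iv3 D91089)
theorem F367976 : act 7 n186778 = n146942 := d8_2 (iv7 F357555) D186778 F347754
def n186779 : Q := act 4 n89122
theorem D186779 : act 4 n89122 = n186779 := rfl
def n186780 : Q := act 6 n89122
theorem D186780 : act 6 n89122 = n186780 := rfl
def n186781 : Q := act 1 n89123
theorem D186781 : act 1 n89123 = n186781 := rfl
def n186782 : Q := act 5 n89123
theorem D186782 : act 5 n89123 = n186782 := rfl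
theorem F367977 : act 2 n186782 = n113920 := d2_1 D186782 (iv5 F367900) F367899
theorem F367978 : act 6 n186782 = n113915 := d12_2 F367946 D186782 F177209 (iv6 F346583) (iv5 F367947)
theorem F367979 : act 4 n113916 = n186782 := d16_0 (iv5 D186782) (iv4 D89123) (iv5 D41637) (iv4 F64245) D89105 D186761 (iv5 F367916) (iv7 D113922) (iv2 F177211)
theorem F367980 : act 0 n138039 = n186782 := d19_0 (iv5 D186782) (iv4 D89123) F64258 F293943 F31983 (iv4 D19893) F16350 F16851 F16828 D4416 F16819 F16769 D8990 D19138 D40499 D87180 (iv5 F356331) (iv4 D138040) D138039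
def n186783 : Q := act 1 n89128
theorem D186783 : act 1 n89128 = n186783 := rfl
theorem F367981 : act 1 n186783 = n89133 := d15_1 D186783 F156441 (iv2 F156432)
theorem F367982 : act 7 n186783 = n101559 := d15_2 (iv0 F137016) D186783 (iv2 F156368)
theorem F367983 : act 5 n186783 = n100934 := d17_7 (iv1 F128619) F322741 F330862 (iv5 F330866) F155416 D89128 D186783 F156399 F304534
theorem F367984 : act 4 n186783 = n135173 := d17_9 (iv1 F357792) (iv5 F354667) (iv1 D128811) F324645 (iv4 F295431) F74506 F64265 D89128 D186783
theorem F367985 : act 2 n101560 = n186783 := d1_3 F367984 (iv2 D135173) (iv4 F317327)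
theorem F367986 : act 6 n93291 = n186783 := d10_0 F367984 (iv6 F359446) (iv4 F359441)
theorem F367987 : act 3 n186783 = n175770 := d20_3 D98967 (iv1 F357791) (iv4 F367984) (iv1 D175770) F304333 D120499 F304334 (iv4 D85868) D85867 (iv1 F286851)
def n186784 : Q := act 4 n89128
theorem D186784 : act 4 n89128 = n186784 := rfl
theorem F367988 : act 2 n186784 = n101561 := d1_1 D186784 (iv4 D101561) (iv2 F156432)
theorem F367989 : act 7 n186784 = n101572 := d11_2 (iv7 F156433) D186784 (iv4 D101572)
theorem F367990 : act 5 n186784 = n128833 := d16_1 D186784 (iv4 D128833) (iv5 F332809) (iv4 F345744) (iv5 D158421) (iv4 F155419) D89133 F156441 (iv2 F156432)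
theorem F367991 : act 0 n93303 = n186784 := d21_10 F367990 (iv1 F332690) F352557 (iv6 F295271) (iv1 F136845) D101583 F156492 F367187 (iv5 D93302) D93303
theorem F367992 : act 4 n93303 = n125128 := d17_9 (iv1 F286912) (iv5 D88951) (iv1 F64083) (iv5 F72952) (iv4 F295483) (iv5 F352557) F332690 (iv5 F367990) (iv0 F367991)
theorem E103270 : n99022 = n93301 := (c10_3 D93303 F367992 F287034 (iv4 D93301))
theorem F367993 : act 0 n93301 = n46323 := (sb E103270 (iv1 D99022))
theorem F367994 : act 1 n93301 = n186645 := (sb E103270 F367538)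
theorem F367995 : act 2 n93301 = n186644 := (sb E103270 (iv2 F367533))
theorem F367996 : act 3 n93301 = n125130 := (sb E103270 F287035)
theorem F367997 : act 6 n93301 = n125128 := (sb E103270 (iv6 F287034))
theorem F367998 : act 7 n93301 = n186643 := (sb E103270 (iv7 F367539))
theorem F367999 : act 7 n179776 = n93303 := d11_0 F367992 F201036 D179776
theorem F368000 : act 4 n186643 = n93294 := d11_1 F367998 (iv7 F143876) D93301
theorem E103271 : n99021 = n93296 := ((c1_3 F368000 (iv2 D93294) D93296 (iv2 F367540))).symm
theorem F368001 : act 0 n93296 = n186645 := (sb E103271 (iv1 F367542))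
theorem F368002 : act 1 n93296 = n46323 := (sb E103271 (iv0 D99021))
theorem F368003 : act 2 n93296 = n186643 := (sb E103271 (iv2 F367540))
theorem F368004 : act 7 n93296 = n186644 := (sb E103271 F367541)
theorem F368005 : act 4 n186644 = n93299 := d11_1 F368004 (iv7 D93299) D93296
def n186785 : Q := act 6 n89128
theorem D186785 : act 6 n89128 = n186785 := rfl
theorem F368006 : act 2 n186785 = n101562 := d3_1 D186785 (iv6 D101562) (iv2 F156432)
theorem F368007 : act 5 n186785 = n101148 := d12_1 D186785 (iv6 D101148) (iv5 F136837) (iv6 D89129) D89128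
def n186786 : Q := act 4 n89133
theorem D186786 : act 4 n89133 = n186786 := rfl
theorem F368008 : act 2 n186786 = n101572 := d1_1 D186786 (iv4 D101572) (iv2 F156440)
theorem F368009 : act 5 n186786 = n128828 := d9_2 D89133 D186786 (iv4 D128828) (iv5 F333040) F333039 (iv5 F330866) F155416 D89128 D186784 F367990 (iv4 D128833) (iv5 F332809) (iv4 F345744) (iv5 D158421) (iv4 F155419)
theorem F368010 : act 7 n186786 = n101561 := d11_2 (iv7 F156441) D186786 (iv4 D101561)
theorem F368011 : act 0 n186786 = n93303 := d18_2 (iv1 F156469) D186786 F367992 (iv5 F286903) F301810 F128619 (iv4 F304534) (iv0 D89318) D89320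
theorem F368012 : act 6 n91107 = n186786 := d21_5 (iv5 D9505) D9502 D20137 D42667 D91107 F368009 (iv1 F332685) (iv5 F294781) (iv6 D42701) (iv1 D20148)
theorem F368013 : act 4 n91133 = n91107 := d10_3 F368012 (iv4 D186786) (iv6 F367120)
def n186787 : Q := act 5 n89134
theorem D186787 : act 5 n89134 = n186787 := rfl
theorem F368014 : act 2 n186787 = n101575 := d2_1 D186787 (iv5 D101575) (iv2 F156442)
theorem F368015 : act 3 n186787 = n184724 := d6_1 D186787 (iv5 D184724) (iv3 F155422)
theorem F368016 : act 7 n186787 = n101785 := d13_2 (iv7 F156443) D186787 (iv5 D101785)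
theorem F368017 : act 1 n186787 = n100900 := d17_6 D34585 D75617 (iv1 F334627) F334629 F249607 D186787 (iv5 D100900) (iv0 D47032) F35156
theorem F368018 : act 0 n186787 = n100905 := d21_1 D186787 (iv5 D100905) D100906 F338117 (iv6 F156329) F329873 (iv1 F329871) (iv5 D46581) D46582 (iv1 F156668)
def n186788 : Q := act 6 n89135
theorem D186788 : act 6 n89135 = n186788 := rfl
theorem F368019 : act 2 n186788 = n101580 := d3_1 D186788 (iv6 D101580) (iv2 F156879)
theorem F368020 : act 3 n186788 = n152003 := d7_1 D186788 (iv6 D152003) (iv3 F319337)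
theorem F368021 : act 5 n186788 = n102332 := d12_1 D186788 (iv6 F338092) (iv5 F338065) (iv6 D152000) (iv5 F319338)
def n186789 : Q := act 6 n89136
theorem D186789 : act 6 n89136 = n186789 := rfl
theorem F368022 : act 2 n186789 = n101583 := d3_1 D186789 (iv6 D101583) (iv2 F156876)
theorem F368023 : act 3 n186789 = n184729 := d7_1 D186789 (iv6 D184729) F155507
theorem F368024 : act 4 n186789 = n137150 := d10_1 D186789 (iv6 F352558) F352554
def n186790 : Q := act 5 n89153
theorem D186790 : act 5 n89153 = n186790 := rfl
theorem F368025 : act 2 n186790 = n89471 := d2_1 D186790 (iv5 D89471) (iv2 F337270)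
def n186791 : Q := act 6 n89153
theorem D186791 : act 6 n89153 = n186791 := rfl
theorem F368026 : act 2 n186791 = n89472 := d3_1 D186791 (iv6 D89472) (iv2 F337270)
theorem F368027 : act 3 n186791 = n184400 := d7_1 D186791 F340540 (iv3 F337271)
theorem F368028 : act 4 n186791 = n103334 := d10_1 D186791 F364403 (iv4 F344208)
theorem F368029 : act 7 n186791 = n136406 := d14_2 (iv7 F337272) D186791 F219511 (iv7 F328964) (iv6 F335683)
theorem F368030 : act 5 n186791 = n101086 := d21_6 (iv5 F136266) (iv1 F337258) F337264 (iv6 F337265) (iv1 F241334) D186791 (iv1 F155759) (iv5 D47096) D47097 (iv1 F344226)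
theorem F368031 : act 0 n89167 = n186791 := d21_10 F368030 (iv1 F155759) (iv5 D47096) D47097 (iv1 F344226) F135192 (iv5 F329583) F329582 (iv5 D89166) D89167
def n186792 : Q := act 1 n89154
theorem D186792 : act 1 n89154 = n186792 := rfl
def n186793 : Q := act 4 n89154
theorem D186793 : act 4 n89154 = n186793 := rfl
theorem F368032 : act 0 n186793 = n185441 := d20_7 D182225 F337955 (iv4 F337957) (iv3 F135141) D185054 F364161 D186793 (iv4 D185441) F135282 (iv1 F133542)
def n186794 : Q := act 7 n89154
theorem D186794 : act 7 n89154 = n186794 := rfl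
theorem F368033 : act 3 n186794 = n182144 := d8_1 D186794 (iv7 F364163) F364161
theorem F368034 : act 5 n186794 = n89155 := d13_1 D186794 (iv7 D89155) D89154
theorem F368035 : act 1 n89478 = n186794 := d15_1 (iv0 F367242) (iv7 D186794) (iv2 F241328)
def n186795 : Q := act 0 n89158
theorem D186795 : act 0 n89158 = n186795 := rfl
theorem F368036 : act 5 n186795 = n91120 := d17_1 D186795 F344358 (iv5 F329583) (iv4 F204201) (iv5 F341231) (iv0 D120977) (iv5 F322722) (iv0 F348617) (iv4 F337842)
theorem F368037 : act 2 n89173 = n186795 := d15_3 (iv0 D186795) F350293 (iv7 F350291)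
theorem F368038 : act 1 n89176 = n186795 := d15_0 (iv0 D186795) F337843 (iv2 F339503)
theorem F368039 : act 7 n186795 = n89174 := d15_2 (iv0 F350292) F368038 F350290
theorem F368040 : act 3 n135040 = n186795 := d8_3 F368039 (iv3 F348534) (iv7 F361048)
def n186796 : Q := act 5 n89165
theorem D186796 : act 5 n89165 = n186796 := rfl
theorem F368041 : act 3 n186796 = n89166 := d6_1 D186796 (iv5 D89166) D89165
theorem F368042 : act 7 n186796 = n137577 := d13_2 (iv7 F344262) D186796 F344343
theorem F368043 : act 0 n186796 = n143276 := d21_1 D186796 (iv5 F364508) (iv6 D99656) (iv1 F290149) (iv6 D99541) (iv5 F109454) (iv1 F144660) (iv5 D93829) D93830 F157630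
def n186797 : Q := act 6 n89165
theorem D186797 : act 6 n89165 = n186797 := rfl
theorem F368044 : act 3 n186797 = n89167 := d7_1 D186797 (iv6 D89167) D89165
def n186798 : Q := act 6 n89166
theorem D186798 : act 6 n89166 = n186798 := rfl
theorem F368045 : act 2 n186798 = n137585 := d3_1 D186798 (iv6 D137585) (iv2 F344340)
def n186799 : Q := act 6 n89171
theorem D186799 : act 6 n89171 = n186799 := rfl
theorem F368046 : act 2 n186799 = n137580 := d3_1 D186799 (iv6 D137580) (iv2 F344337)
def n186800 : Q := act 3 n89173
theorem D186800 : act 3 n89173 = n186800 := rfl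
theorem F368047 : act 4 n186800 = n185904 := d5_2 (iv4 F363996) D186800 (iv3 D185904) (iv4 F333826) D132885
theorem F368048 : act 5 n186800 = n102110 := d6_2 (iv5 F338449) D186800 (iv3 D102110)
def n186801 : Q := act 4 n89174
theorem D186801 : act 4 n89174 = n186801 := rfl
theorem F368049 : act 6 n186801 = n126747 := d10_2 F350296 D186801 F362709
theorem F368050 : act 5 n186801 = n121195 := d16_1 D186801 (iv4 F280909) F363990 F338450 F338447 F293736 (iv5 F338449) F350291 (iv2 F350290)
theorem F368051 : act 0 n186801 = n181983 := d17_0 F295103 F362659 F362657 (iv4 F362656) (iv5 D89166) (iv0 D41653) D41655 D89174 D186801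
theorem F368052 : act 3 n186801 = n121196 := d19_3 (iv1 F157022) (iv5 F289984) D186801 (iv1 F262475) (iv5 D166744) F122846 (iv3 D78497) (iv1 D35764) (iv5 F43494) (iv4 F67180) (iv3 D42869) (iv1 F63578) F294073 (iv4 D45522) (iv3 F71796) D97472 F356257 D185594 (iv3 F295366)
def n186802 : Q := act 3 n89175
theorem D186802 : act 3 n89175 = n186802 := rfl
theorem F368053 : act 4 n186802 = n89194 := d5_2 D89175 D186802 (iv3 D89194) (iv4 D41673) (iv3 F64280)
theorem F368054 : act 5 n186802 = n147163 := d6_2 F338418 D186802 F339244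
theorem F368055 : act 6 n186802 = n135290 := d7_2 (iv6 F339523) D186802 F217527
theorem F368056 : act 7 n186802 = n129011 := d8_2 (iv7 F339524) D186802 F207265
theorem F368057 : act 0 n186802 = n129911 := d20_10 F364577 (iv1 D130306) F95659 (iv3 F95658) (iv1 F334295) (iv3 F368052) (iv4 D186801) (iv1 D89174) D89175 D186802
def n186803 : Q := act 0 n89180
theorem D186803 : act 0 n89180 = n186803 := rfl
theorem F368058 : act 5 n186803 = n100906 := d21_2 D89180 D186803 (iv6 D100906) (iv1 D47033) (iv6 D22613) F17246 F14239 D9222 D19615 D41657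
theorem F368059 : act 1 n89185 = n186803 := d15_0 (iv0 D186803) F156757 (iv2 F156748)
theorem F368060 : act 2 n101504 = n186803 := d2_3 F368058 F338119 (iv5 F156315)
theorem F368061 : act 7 n101505 = n186803 := d15_2 (iv0 D101504) D101505 (iv2 F368060)
def n186804 : Q := act 1 n89180
theorem D186804 : act 1 n89180 = n186804 := rfl
theorem F368062 : act 1 n186804 = n89185 := d15_1 D186804 F156749 (iv2 F156756)
theorem F368063 : act 7 n186804 = n101504 := d15_2 (iv0 D186803) D186804 F368060
theorem F368064 : act 5 n186804 = n101130 := d17_7 (iv1 F273720) F309540 (iv1 F346429) (iv5 D158384) (iv4 F184700) D89180 D186804 F156330 F249714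
theorem F368065 : act 6 n96165 = n186804 := d12_0 F368064 (iv6 F274867) (iv5 D175526) D175527 F274868
theorem F368066 : act 2 n101505 = n186804 := d4_3 F368063 F368060 (iv7 F368061)
theorem F368067 : act 6 n186743 = n101505 := d3_0 F368066 (iv6 F368065) (iv2 F367860)
def n186805 : Q := act 5 n89183
theorem D186805 : act 5 n89183 = n186805 := rfl
theorem F368068 : act 2 n186805 = n123668 := d2_1 D186805 (iv5 D123668) F304958
theorem F368069 : act 3 n186805 = n89185 := d6_1 D186805 (iv5 D89185) D89183
theorem F368070 : act 6 n186805 = n143102 := d12_2 (iv6 F304748) D186805 F355778 (iv6 D76395) (iv5 F90806)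
theorem F368071 : act 7 n186805 = n101495 := d13_2 (iv7 F156745) D186805 (iv5 D101495)
def n186806 : Q := act 3 n89188
theorem D186806 : act 3 n89188 = n186806 := rfl
theorem F368072 : act 2 n186806 = n184748 := d0_1 D186806 (iv3 D184748) (iv2 F156034) F156035 F155798
theorem F368073 : act 7 n186806 = n101527 := d8_2 (iv7 F155819) D186806 (iv3 D101527)
theorem F368074 : act 1 n99595 = n186806 := d15_1 (iv0 F349698) F368073 (iv2 F349693)
def n186807 : Q := act 7 n89189
theorem D186807 : act 7 n89189 = n186807 := rfl
theorem F368075 : act 2 n186807 = n101537 := d4_1 D186807 (iv7 D101537) (iv2 F136883)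
theorem F368076 : act 3 n186807 = n128981 := d8_1 D186807 (iv7 F342195) F342194
theorem F368077 : act 4 n186807 = n89190 := d11_1 D186807 (iv7 D89190) D89189
theorem F368078 : act 5 n186807 = n166162 := d13_1 D186807 (iv7 F300044) (iv5 F361241)
theorem F368079 : act 6 n186807 = n128978 := d14_1 D186807 F207193 (iv6 F361236) (iv7 D89196) (iv6 F136884)
theorem F368080 : act 1 n101534 = n186807 := d15_1 D101534 (iv7 D186807) F136883
theorem F368081 : act 1 n186807 = n101533 := d15_1 F368080 (iv7 F272846) (iv2 F272849)
def n186808 : Q := act 0 n89191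
theorem D186808 : act 0 n89191 = n186808 := rfl
def n186809 : Q := act 7 n89191
theorem D186809 : act 7 n89191 = n186809 := rfl
theorem F368082 : act 3 n186809 = n105057 := d8_1 D186809 (iv7 D105057) (iv3 F294448)
theorem F368083 : act 4 n186809 = n131949 := d11_1 D186809 (iv7 F367836) F367835
theorem F368084 : act 6 n186809 = n182490 := d14_1 D186809 (iv7 D182490) (iv6 D87124) F294400 D89191
def n186810 : Q := act 4 n89192
theorem D186810 : act 4 n89192 = n186810 := rfl
theorem F368085 : act 2 n186810 = n143075 := d1_1 D186810 F352441 (iv2 F294436)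
theorem F368086 : act 6 n186810 = n142992 := d10_2 (iv6 F350427) D186810 F225839
def n186811 : Q := act 1 n89194
theorem D186811 : act 1 n89194 = n186811 := rfl
theorem F368087 : act 7 n186811 = n129015 := d15_2 (iv0 F365892) D186811 F361228
theorem F368088 : act 4 n186811 = n129952 := d18_7 (iv1 F302175) (iv4 F276077) (iv1 F363844) F248417 (iv5 F368054) F368053 D186811 (iv0 F334292) F334291
theorem F368089 : act 2 n128904 = n186811 := d1_3 F368088 (iv2 D129952) (iv4 F207138)
theorem F368090 : act 1 n186811 = n129003 := d15_0 F365893 F213124 F368089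
def n186812 : Q := act 2 n89194
theorem D186812 : act 2 n89194 = n186812 := rfl
theorem F368091 : act 6 n186812 = n129002 := d3_2 F361253 D186812 F361748
theorem F368092 : act 7 n186812 = n129003 := d4_2 (iv7 F361252) D186812 F207254
theorem F368093 : act 1 n186812 = n128904 := d15_0 F361234 (iv7 F361252) D186812
theorem F368094 : act 1 n129015 = n186812 := d15_0 F368093 (iv7 F213124) (iv2 F361228)
theorem F368095 : act 5 n135832 = n186812 := d12_5 F368091 (iv5 F337896) F333463 F333452 D135832
def n186813 : Q := act 5 n89194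
theorem D186813 : act 5 n89194 = n186813 := rfl
theorem F368096 : act 2 n186813 = n135832 := d2_1 D186813 F368095 (iv2 D186812)
theorem F368097 : act 3 n186813 = n89195 := d6_1 D186813 (iv5 D89195) D89194
theorem F368098 : act 6 n186813 = n135821 := d12_2 F361253 D186813 (iv5 F333457) F325644 D163623
theorem F368099 : act 7 n186813 = n129016 := d13_2 (iv7 F361252) D186813 (iv5 D129016)
theorem F368100 : act 0 n186813 = n126280 := d17_2 (iv1 D186811) D186813 (iv5 F364570) F207568 (iv5 F323647) D78503 (iv5 F334282) (iv0 F334287) (iv4 F368088)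
theorem F368101 : act 4 n135828 = n186813 := d10_3 F368098 F218467 D135828
def n186814 : Q := act 1 n89198
theorem D186814 : act 1 n89198 = n186814 := rfl
theorem F368102 : act 1 n186814 = n89230 := d15_1 D186814 F337235 (iv2 F136903)
theorem F368103 : act 7 n186814 = n89232 := d15_2 (iv0 F290312) D186814 (iv2 D89232)
theorem F368104 : act 4 n186814 = n90134 := d17_9 (iv1 F138582) (iv5 F106107) (iv1 F316438) (iv5 F318687) (iv4 F290624) F140515 (iv0 F348526) (iv5 F343008) D186814
theorem F368105 : act 3 n89241 = n186814 := d20_3 F126273 (iv1 F89712) (iv4 F335702) (iv1 D186814) (iv3 F306701) F317606 (iv1 F317602) F335665 (iv3 D82032) (iv1 F126277)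
theorem F368106 : act 6 n100692 = n186814 := d21_3 D101197 (iv1 F359970) F362388 (iv1 D186814) (iv6 D89198) F64302 (iv1 F58450) (iv5 D22675) D22676 D47130
theorem F368107 : act 2 n186814 = n89206 := d3_1 F368106 (iv6 F294634) F362387
def n186815 : Q := act 7 n89198
theorem D186815 : act 7 n89198 = n186815 := rfl
theorem F368108 : act 2 n186815 = n89230 := d4_1 D186815 F337235 (iv2 F136903)
theorem F368109 : act 4 n186815 = n114696 := d11_1 D186815 (iv7 D114696) (iv4 F136904)
theorem F368110 : act 5 n186815 = n175264 := d13_1 D186815 F363838 (iv5 F343008)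
theorem F368111 : act 6 n186815 = n181965 := d14_1 D186815 F364167 (iv6 D86948) F64303 D89198
theorem F368112 : act 1 n89206 = n186815 := d15_1 (iv0 F337267) (iv7 D186815) F136903
theorem F368113 : act 1 n186815 = n89232 := d15_1 F368112 (iv7 F368103) F368107
def n186816 : Q := act 5 n89199
theorem D186816 : act 5 n89199 = n186816 := rfl
theorem F368114 : act 2 n186816 = n89202 := d2_1 D186816 (iv5 D89202) (iv2 F136905)
theorem F368115 : act 3 n186816 = n98075 := d6_1 D186816 (iv5 D98075) (iv3 F136906)
theorem F368116 : act 6 n186816 = n122337 := d12_2 D89199 D186816 (iv5 D122337) (iv6 D56652) (iv5 F64297)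
theorem F368117 : act 7 n186816 = n135038 := d13_2 F294389 D186816 F364231
theorem F368118 : act 1 n186816 = n184502 := d17_6 (iv1 D88618) D88620 (iv1 F362337) (iv5 D90241) (iv4 F136907) D186816 (iv5 D184502) (iv0 F292412) F140198
def n186817 : Q := act 4 n89200
theorem D186817 : act 4 n89200 = n186817 := rfl
theorem F368119 : act 2 n186817 = n93783 := d1_1 D186817 (iv4 F294592) F344288
theorem F368120 : act 3 n186817 = n182051 := d5_1 D186817 (iv4 D182051) F150720 (iv4 F294779) F294778
theorem F368121 : act 0 n186817 = n99007 := d20_1 D186817 (iv4 D99007) F150063 (iv1 D96103) (iv3 D44843) (iv4 D21370) (iv1 F65813) (iv4 F31392) (iv3 F64307) D89200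
theorem F368122 : act 0 n93834 = n186817 := d20_10 (iv4 D186817) F295038 (iv4 D88775) D88774 (iv1 F295033) F152162 D98697 (iv1 F294812) F294814 (iv3 F144663)
def n186818 : Q := act 5 n89200
theorem D186818 : act 5 n89200 = n186818 := rfl
def n186819 : Q := act 6 n89200
theorem D186819 : act 6 n89200 = n186819 := rfl
theorem F368123 : act 3 n186819 = n89411 := d7_1 D186819 F349309 F294778
theorem F368124 : act 0 n100697 = n186819 := d20_4 F75159 (iv1 F134678) (iv4 F292797) (iv3 F293945) F368123 (iv4 F349306) F344203 (iv4 F293855) (iv3 D47879) D47877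
theorem F368125 : act 1 n100692 = n186819 := d15_0 (iv0 F368124) F293948 F362387
theorem F368126 : act 0 n94109 = n186818 := d21_7 (iv5 F362388) F349187 (iv5 D101200) D101201 F361042 (iv6 F292414) F292413 (iv5 D186818) D186819 (iv1 F368125)
def n186820 : Q := act 3 n89201
theorem D186820 : act 3 n89201 = n186820 := rfl
theorem F368127 : act 2 n186820 = n98697 := d0_1 D186820 (iv3 F294776) F344257 D93234 (iv2 F344290)
theorem F368128 : act 4 n186820 = n90990 := d5_2 F145092 D186820 (iv3 F293983) (iv4 D94137) D94136
theorem F368129 : act 7 n186820 = n98692 := d8_2 (iv7 F344289) D186820 (iv3 F294591)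
theorem F368130 : act 0 n186820 = n94218 := d20_4 D99007 F152533 F145092 D186820 (iv3 F147419) F147420 (iv1 F157284) (iv4 F72953) F294630 F293935
theorem F368131 : act 0 n99066 = n186820 := d20_4 F295260 F284598 (iv4 D99067) D99066 (iv3 D186820) (iv4 F145092) (iv1 F157231) F144664 (iv3 F294599) (iv1 F295258)
def n186821 : Q := act 5 n89201
theorem D186821 : act 5 n89201 = n186821 := rfl
theorem F368132 : act 0 n186821 = n94109 := d17_2 (iv1 F295037) D186821 (iv5 F292413) F140198 F293458 F292460 (iv5 D94443) (iv0 F293474) D88775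
def n186822 : Q := act 6 n89201
theorem D186822 : act 6 n89201 = n186822 := rfl
theorem F368133 : act 2 n186822 = n137602 := d3_1 D186822 F339535 (iv2 F344290)
theorem F368134 : act 5 n186822 = n137601 := d21_6 (iv5 F328106) (iv1 D135040) (iv5 F328109) F294657 (iv1 F295037) D186822 (iv1 F365615) (iv5 D101242) F291462 D87095
theorem F368135 : act 7 n182158 = n186822 := d13_0 F368134 (iv7 F362214) (iv5 F283609)
def n186823 : Q := act 0 n89202
theorem D186823 : act 0 n89202 = n186823 := rfl
theorem F368136 : act 1 n135038 = n186823 := d15_0 (iv0 D186823) F295040 (iv2 F364230)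
theorem F368137 : act 5 n186823 = n91119 := d17_7 (iv1 D47703) D47705 (iv1 F295070) (iv5 D88776) D88775 (iv5 F364231) F368136 F362647 F74984
theorem F368138 : act 3 n91121 = n186823 := d6_3 F368137 (iv3 D91119) D91121
theorem F368139 : act 7 n184502 = n186823 := d13_0 F368137 F338439 D184502
def n186824 : Q := act 1 n89202
theorem D186824 : act 1 n89202 = n186824 := rfl
theorem F368140 : act 1 n186824 = n135038 := d15_1 D186824 (iv7 F368117) F368114
theorem F368141 : act 5 n186824 = n91146 := d17_7 (iv1 F135820) D186050 F294491 (iv5 D88781) (iv4 F294390) D89202 D186824 F158170 (iv4 D102857)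
theorem F368142 : act 3 n141205 = n186824 := d20_3 D91022 F338882 (iv4 F224234) (iv1 D186824) F136909 D89203 (iv1 F283444) (iv4 D182036) (iv3 F294857) (iv1 D91021)
theorem F368143 : act 4 n186824 = n111573 := d5_2 (iv4 F224234) F368142 F173112 F81236 (iv3 F101827)
theorem F368144 : act 6 n186824 = n111572 := d7_2 D141205 F368142 F173111
theorem F368145 : act 2 n184502 = n186824 := d2_3 F368141 F362648 D184502
def n186825 : Q := act 4 n89202
theorem D186825 : act 4 n89202 = n186825 := rfl
theorem F368146 : act 6 n186825 = n184712 := d10_2 (iv6 F136910) D186825 (iv4 D184712)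
theorem F368147 : act 0 n186825 = n186647 := d18_2 (iv1 D186824) D186825 (iv4 D186647) F291613 F65094 D47703 (iv4 F74984) D91146 (iv5 F368141)
def n186826 : Q := act 3 n89203
theorem D186826 : act 3 n89203 = n186826 := rfl
theorem F368148 : act 6 n186826 = n184732 := d7_2 (iv6 F136912) D186826 (iv3 D184732)
def n186827 : Q := act 5 n89204
theorem D186827 : act 5 n89204 = n186827 := rfl
theorem F368149 : act 3 n186827 = n89205 := d6_1 D186827 (iv5 D89205) D89204
theorem F368150 : act 6 n186827 = n185226 := d12_2 (iv6 F136914) D186827 (iv5 D185226) (iv6 D88264) D88263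
theorem F368151 : act 7 n186827 = n89242 := d13_2 (iv7 F136915) D186827 (iv5 D89242)
def n186828 : Q := act 4 n89205
theorem D186828 : act 4 n89205 = n186828 := rfl
theorem F368152 : act 2 n186828 = n89237 := d1_1 D186828 (iv4 D89237) (iv2 F136916)
theorem F368153 : act 6 n186828 = n185248 := d10_2 (iv6 F136917) D186828 (iv4 D185248)
theorem F368154 : act 7 n186828 = n89244 := d11_2 (iv7 F136918) D186828 (iv4 D89244)
theorem F368155 : act 5 n186828 = n104634 := d16_1 D186828 (iv4 D104634) (iv5 F76060) F291989 (iv5 D45791) F64324 D89207 F136923 (iv2 F136916)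
theorem F368156 : act 3 n186828 = n112773 := d20_3 F356619 (iv1 F292052) D186828 (iv1 D112773) F325705 F314935 F51346 (iv4 F315668) (iv3 F122604) (iv1 F356618)
theorem F368157 : act 0 n185248 = n182294 := d21_4 (iv5 F344675) (iv1 F160337) (iv5 F368155) F368153 F359841 (iv5 F350773) (iv1 D147325) D147326 (iv6 F357280) F156199
def n186829 : Q := act 5 n89206
theorem D186829 : act 5 n89206 = n186829 := rfl
theorem F368158 : act 3 n186829 = n89207 := d6_1 D186829 (iv5 D89207) D89206
theorem F368159 : act 6 n186829 = n175365 := d12_2 F294634 D186829 F332240 F359969 (iv5 F294633)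
theorem F368160 : act 7 n186829 = n89233 := d13_2 (iv7 F136921) D186829 (iv5 D89233)
theorem F368161 : act 1 n186829 = n175277 := d17_8 (iv1 D83697) (iv5 D38580) D38578 D83689 (iv4 F334593) F304522 (iv0 F337267) D186829 (iv4 D175277)
def n186830 : Q := act 4 n89207
theorem D186830 : act 4 n89207 = n186830 := rfl
theorem F368162 : act 2 n186830 = n89244 := d1_1 D186830 (iv4 D89244) (iv2 F136922)
theorem F368163 : act 5 n186830 = n104637 := d9_2 D89207 D186830 (iv4 D104637) (iv5 F76066) F292056 (iv5 D41844) (iv4 F64317) D89205 D186828 F368155 (iv4 D104634) (iv5 F76060) F291989 (iv5 D45791) F64324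
theorem F368164 : act 6 n186830 = n153912 := d10_2 F336366 D186830 F342698
theorem F368165 : act 7 n186830 = n89237 := d11_2 (iv7 F136923) D186830 (iv4 D89237)
def n186831 : Q := act 5 n89230
theorem D186831 : act 5 n89230 = n186831 := rfl
theorem F368166 : act 2 n186831 = n175264 := d2_1 D186831 (iv5 F368110) F368108
theorem F368167 : act 3 n186831 = n89397 := d6_1 D186831 (iv5 D89397) (iv3 F137139)
theorem F368168 : act 4 n186831 = n175135 := d9_1 D186831 (iv5 D175135) (iv4 F334567) (iv5 D114682) F83650 D52935 (iv4 F136904) F343008 F334556 (iv5 D175130) (iv4 F334561) F226409 F316454 D159783 F251782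
theorem F368169 : act 7 n186831 = n123101 := d13_2 (iv7 F337235) D186831 F304522
theorem F368170 : act 0 n186831 = n123806 := d17_2 D89230 D186831 (iv5 F356989) F156173 (iv5 F316443) F316441 F138810 (iv0 F67868) F67866
theorem F368171 : act 1 n186831 = n89246 := d17_6 (iv1 F363719) (iv5 D114687) (iv1 F290300) D159783 F251782 D186831 (iv5 F140515) F349295 (iv4 F349297)
def n186832 : Q := act 5 n89232
theorem D186832 : act 5 n89232 = n186832 := rfl
theorem F368172 : act 2 n186832 = n89233 := d2_1 D186832 (iv5 D89233) D89232
theorem F368173 : act 1 n186832 = n175272 := d17_8 (iv1 F274116) F274113 (iv1 F128705) D83694 D175264 (iv5 F368110) F368113 D186832 (iv4 D175272)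
theorem F368174 : act 0 n186832 = n175277 := d18_0 (iv4 D175277) (iv1 D83697) D83698 (iv5 F346298) (iv4 F145298) F339772 (iv4 F368109) F368113 D186832
theorem F368175 : act 1 n175272 = n186829 := d15_1 F368173 F368160 (iv2 F368172)
def n186833 : Q := act 6 n89232
theorem D186833 : act 6 n89232 = n186833 := rfl
theorem F368176 : act 2 n186833 = n89234 := d3_1 D186833 (iv6 D89234) D89232
theorem F368177 : act 3 n186833 = n185215 := d7_1 D186833 (iv6 F336776) (iv3 F344211)
theorem F368178 : act 4 n186833 = n90244 := d10_1 D186833 (iv6 D90244) (iv4 F136951)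
theorem F368179 : act 5 n186833 = n183873 := d21_6 D19333 D41073 F62312 D86947 (iv1 F337266) D186833 F290230 (iv5 D87965) (iv6 D41070) (iv1 D19330)
theorem F368180 : act 0 n185174 = n186833 := d21_4 D41079 D87993 (iv5 F349152) (iv6 F361025) (iv6 D186833) D186832 F368174 F360954 (iv6 D87992) (iv1 D41078)
theorem F368181 : act 1 n182057 = n186833 := d15_0 (iv0 F368180) F344331 F344314
theorem F368182 : act 7 n186833 = n185167 := d15_2 (iv0 F344328) F368181 F287507
def n186834 : Q := act 0 n89233
theorem D186834 : act 0 n89233 = n186834 := rfl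
theorem F368183 : act 4 n186834 = n175138 := d18_1 D186834 (iv1 D175138) (iv4 F335205) (iv5 D98312) (iv4 F114616) (iv0 F251780) F251782 (iv0 D89230) D89233
theorem F368184 : act 5 n186834 = n101096 := d21_2 D89233 D186834 (iv6 D101096) F153159 (iv6 D41071) (iv5 F30970) D37566 (iv5 F64302) D89198 F290312
theorem F368185 : act 2 n175277 = n186834 := d2_3 F368184 F155767 (iv5 F360954)
theorem F368186 : act 3 n89407 = n186834 := d6_3 F368184 F155768 F344225
theorem F368187 : act 7 n186834 = n175272 := d8_2 F346005 F368186 F357758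
theorem F368188 : act 0 n102530 = n98309 := d20_10 F335210 (iv1 F274108) (iv4 F368183) (iv3 F368186) (iv1 D89407) F64388 D41753 (iv1 F137065) F137067 (iv3 F157477)
theorem F368189 : act 0 n98310 = n186709 := d21_4 D102530 F368188 (iv5 D98309) D98310 (iv6 D186709) D186708 (iv1 F367758) F367255 F367759 (iv1 D102528)
theorem F368190 : act 1 n98310 = n186593 := d15_1 (iv0 F368189) F367358 (iv2 F367760)
def n186835 : Q := act 1 n89233
theorem D186835 : act 1 n89233 = n186835 := rfl
theorem F368191 : act 7 n186835 = n175277 := d15_2 (iv0 D186834) D186835 F368185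
theorem F368192 : act 4 n186835 = n175137 := d17_9 (iv1 F274114) F128762 (iv1 F128700) D175135 (iv4 F368168) (iv5 D186831) (iv0 D89230) D89233 D186835
theorem F368193 : act 3 n140055 = n186835 := d20_3 (iv4 F337111) (iv1 F243469) F349359 (iv1 D186835) F136952 D89237 (iv1 F286027) (iv4 D184087) (iv3 F286029) (iv1 D89567)
theorem F368194 : act 2 n186835 = n175272 := d0_1 F368193 F357758 (iv2 F356783) (iv3 F356788) F356790
theorem F368195 : act 5 n186835 = n101382 := d6_2 (iv5 F349357) F368193 F360955
theorem F368196 : act 6 n186835 = n140053 := d7_2 D140055 F368193 (iv3 D140053)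
def n186836 : Q := act 6 n89233
theorem D186836 : act 6 n89233 = n186836 := rfl
theorem F368197 : act 3 n186836 = n89238 := d7_1 D186836 (iv6 D89238) (iv3 F136952)
theorem F368198 : act 5 n186836 = n183875 := d12_1 D186836 (iv6 D183875) F136954 (iv6 D89234) D89233
def n186837 : Q := act 6 n89235
theorem D186837 : act 6 n89235 = n186837 := rfl
theorem F368199 : act 2 n186837 = n91375 := d3_1 D186837 F140512 F136958
theorem F368200 : act 5 n186837 = n91353 := d12_1 D186837 (iv6 D91353) (iv5 D42751) D42752 (iv5 F136956)
def n186838 : Q := act 1 n89237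
theorem D186838 : act 1 n89237 = n186838 := rfl
theorem F368201 : act 1 n186838 = n89244 := d15_1 D186838 (iv7 F368154) F368152
theorem F368202 : act 5 n186838 = n95364 := d17_7 (iv1 F75451) (iv5 F75453) F70372 D44803 D96013 F361222 D186838 F158390 F158389
theorem F368203 : act 4 n186838 = n95382 := d17_9 (iv1 F292364) (iv5 D89692) F64592 (iv5 F134109) (iv4 F284566) (iv5 F353920) F148365 F361222 D186838
theorem F368204 : act 6 n150244 = n186838 := d10_0 F368203 (iv6 F359698) (iv4 F347996)
theorem F368205 : act 0 n125426 = n125974 := d21_4 F281158 F258191 F254071 D125426 F359599 F333969 (iv1 F368201) F368202 (iv6 F344665) (iv1 F281156)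
def n186839 : Q := act 6 n89237
theorem D186839 : act 6 n89237 = n186839 := rfl
theorem F368206 : act 2 n186839 = n185248 := d3_1 D186839 (iv6 F368153) F368152
theorem F368207 : act 4 n186839 = n89238 := d10_1 D186839 (iv6 D89238) D89237
def n186840 : Q := act 0 n89242
theorem D186840 : act 0 n89242 = n186840 := rfl
theorem F368208 : act 5 n186840 = n182446 := d17_3 (iv1 D89240) D89242 D186840 F356511 (iv5 F356423) (iv0 D182180) (iv5 D86987) D86985 (iv4 F137163)
theorem F368209 : act 6 n186840 = n117692 := d21_3 (iv5 F356456) D182446 (iv5 F368208) F350744 (iv6 D55365) (iv5 D26753) (iv1 F21880) (iv5 F21954) D27557 D57701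
theorem F368210 : act 2 n120468 = n186840 := d3_3 F368209 F353607 D120468
theorem F368211 : act 3 n117693 = n186840 := d7_3 F368209 (iv3 D117692) D117693
def n186841 : Q := act 1 n89242
theorem D186841 : act 1 n89242 = n186841 := rfl
theorem F368212 : act 7 n186841 = n120468 := d15_2 (iv0 D186840) D186841 F368210
theorem F368213 : act 5 n186841 = n99875 := d17_7 (iv1 F277450) D100025 F362786 (iv5 D122405) (iv4 F335607) D89242 D186841 (iv0 F356439) F356442
theorem F368214 : act 1 n160305 = n134040 := d18_6 F356416 F133711 D90473 F292664 (iv5 F335632) (iv4 F360251) (iv4 F356360) D186841 F368213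
theorem F368215 : act 6 n134285 = n186841 := d21_3 D57295 D123129 (iv5 F357149) (iv1 D186841) F356361 (iv5 D51306) (iv1 D24947) D24949 D51315 F342785
theorem F368216 : act 3 n89365 = n186841 := d6_3 F368213 F356411 (iv5 F357146)
def n186842 : Q := act 2 n89246
theorem D186842 : act 2 n89246 = n186842 := rfl
theorem F368217 : act 3 n186842 = n120400 := d0_2 D89246 D186842 (iv2 F356452) (iv3 F356454) F291550
theorem F368218 : act 6 n186842 = n134025 := d3_2 (iv6 F348520) D186842 F348518
theorem F368219 : act 7 n186842 = n123806 := d4_2 F156176 D186842 (iv2 F356990)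
theorem F368220 : act 1 n186842 = n123101 := d15_0 (iv0 F348705) F156176 D186842
theorem F368221 : act 1 n175264 = n186842 := d15_0 F368220 (iv7 F368169) F368166
def n186843 : Q := act 1 n89248
theorem D186843 : act 1 n89248 = n186843 := rfl
theorem F368222 : act 1 n186843 = n134030 := d15_1 D186843 F216003 (iv2 F329134)
theorem F368223 : act 7 n186843 = n134130 := d15_2 (iv0 F339651) D186843 F354987
theorem F368224 : act 5 n186843 = n108814 := d17_7 D60641 D128949 F339683 (iv5 F329121) F216090 (iv5 F329135) D186843 (iv0 D108814) F79602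
theorem F368225 : act 2 n134131 = n186843 := d2_3 F368224 F355026 (iv5 F354992)
theorem F368226 : act 3 n89430 = n186843 := d6_3 F368224 F211417 F354705
theorem F368227 : act 6 n154379 = n186843 := d14_5 F368223 F353722 F354982 D73128 D154379
def n186844 : Q := act 7 n89248
theorem D186844 : act 7 n89248 = n186844 := rfl
theorem F368228 : act 2 n186844 = n134030 := d4_1 D186844 F216003 (iv2 F329134)
theorem F368229 : act 3 n186844 = n134178 := d8_1 D186844 (iv7 F348523) F348516
theorem F368230 : act 4 n186844 = n173696 := d11_1 D186844 (iv7 F272232) (iv4 F339652)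
theorem F368231 : act 5 n186844 = n134029 := d13_1 D186844 F215998 (iv5 F329135)
theorem F368232 : act 1 n134131 = n186844 := d15_1 D134131 (iv7 D186844) F329134
theorem F368233 : act 1 n186844 = n134130 := d15_1 F368232 (iv7 F368223) (iv2 F368225)
def n186845 : Q := act 0 n89251
theorem D186845 : act 0 n89251 = n186845 := rfl
theorem F368234 : act 4 n186845 = n146755 := d18_3 F354104 (iv4 F357251) D186845 (iv5 D146755) (iv4 F350769) (iv0 F318116) F355122 (iv0 F354105) (iv5 F354088)
theorem F368235 : act 3 n186845 = n89440 := d20_5 F183940 D146921 F342816 F357250 D186845 F344530 F344529 (iv4 F324390) F328712 (iv1 F343206)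
theorem F368236 : act 7 n123719 = n186845 := d8_0 F368235 (iv7 F352820) F355151
theorem F368237 : act 5 n157587 = n186845 := d17_3 (iv1 D75016) D75017 D157587 F368234 (iv5 D146755) F230096 (iv5 F312503) F312501 F350764
theorem F368238 : act 4 n157587 = n107287 := d16_2 (iv4 F368234) (iv5 F368237) (iv5 D107287) F78324 D53663 (iv4 F322861) D146751 F350799 (iv2 F350796)
theorem F368239 : act 3 n101863 = n157587 := d5_5 F368238 F165351 D107291 F342890 (iv4 F349520)
theorem F368240 : act 6 n137177 = n157587 := d10_0 F368238 (iv6 F165849) F360844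
def n186846 : Q := act 1 n89251
theorem D186846 : act 1 n89251 = n186846 := rfl
theorem F368241 : act 4 n186846 = n146751 := d18_7 (iv1 F314299) (iv4 D69133) (iv1 D32159) (iv4 F51124) D69124 (iv4 F357251) D186846 (iv0 F230103) F106139
theorem F368242 : act 2 n123719 = n186846 := d1_3 F368241 (iv2 F355147) F355150
theorem F368243 : act 3 n143116 = n186846 := d5_5 F368241 F230102 F229067 F342987 (iv4 F355735)
theorem F368244 : act 5 n186846 = n157588 := d6_2 (iv5 F355736) F368243 (iv3 F357692)
theorem F368245 : act 6 n186846 = n123681 := d7_2 (iv6 F355737) F368243 F352397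
theorem E103272 : n181738 = n101426 := ((c21_5 (iv5 D44001) D44000 F72338 D47203 D101426 (iv6 F357693) (iv5 F368244) (iv1 D186846) (iv5 F155968) (iv6 D101239) F74404)).symm
theorem F368246 : act 3 n101426 = n86783 := (sb E103272 (iv3 D181738))
theorem F368247 : act 4 n101426 = n138527 := (sb E103272 (iv4 F359638))
theorem F368248 : act 6 n101426 = n157588 := (sb E103272 (iv6 F357693))
def n186847 : Q := act 7 n89251
theorem D186847 : act 7 n89251 = n186847 := rfl
theorem F368249 : act 3 n186847 = n123861 := d8_1 D186847 (iv7 F342815) F357250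
theorem F368250 : act 4 n186847 = n147470 := d11_1 D186847 (iv7 D147470) (iv4 F357251)
theorem F368251 : act 6 n186847 = n134030 := d14_1 D186847 F216003 (iv6 F329137) (iv7 F292174) D89251
theorem F368252 : act 1 n123719 = n186847 := d15_1 F357285 (iv7 D186847) (iv2 F156195)
def n186848 : Q := act 0 n89254
theorem D186848 : act 0 n89254 = n186848 := rfl
theorem F368253 : act 6 n186848 = n118571 := d21_5 (iv5 D71694) (iv1 F296753) D60134 (iv6 F308369) D186848 F186484 (iv1 F186373) F332309 (iv6 D164506) F298367
theorem F368254 : act 3 n119365 = n186848 := d7_3 F368253 F186483 (iv6 F331679)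
theorem F368255 : act 7 n186848 = n178537 := d8_2 F206154 F368254 (iv3 D178537)
def n186849 : Q := act 1 n89254
theorem D186849 : act 1 n89254 = n186849 := rfl
theorem F368256 : act 5 n186849 = n124650 := d18_9 F362445 F327672 F188505 F326272 D79921 (iv4 F346920) (iv0 F346910) (iv4 F136968) D186849
theorem F368257 : act 3 n124652 = n186849 := d20_3 F298397 (iv1 F249557) F336443 (iv1 D186849) (iv3 D89254) (iv4 D41700) D41698 D89247 F352033 (iv1 F253873)
theorem F368258 : act 2 n186849 = n178537 := d0_1 F368257 (iv3 D178537) F206156 (iv3 F346401) (iv2 F336444)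
def n186850 : Q := act 5 n89254
theorem D186850 : act 5 n89254 = n186850 := rfl
theorem F368259 : act 3 n186850 = n89255 := d6_1 D186850 (iv5 D89255) D89254
theorem F368260 : act 6 n186850 = n127990 := d12_2 (iv6 F308369) D186850 (iv5 D127990) (iv6 D60135) D60134
theorem F368261 : act 4 n186850 = n152923 := d16_2 (iv4 F136968) D186850 (iv5 D152923) (iv4 F123800) D167806 (iv4 F352734) F352735 F357202 (iv2 D89449)
theorem F368262 : act 7 n186850 = n158445 := d16_8 F346957 (iv5 D120196) (iv4 F106299) D148996 (iv4 F335758) (iv5 D89450) (iv4 F136968) D186850 F346956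
theorem F368263 : act 1 n163726 = n186850 := d15_1 (iv0 F346958) F368262 F346956
theorem F368264 : act 1 n186850 = n177610 := d15_1 F368263 F362459 (iv2 F258085)
def n186851 : Q := act 7 n89254
theorem D186851 : act 7 n89254 = n186851 := rfl
theorem F368265 : act 3 n186851 = n89256 := d8_1 D186851 (iv7 D89256) D89254
theorem F368266 : act 4 n186851 = n89451 := d11_1 D186851 (iv7 D89451) (iv4 F136968)
theorem F368267 : act 5 n186851 = n158445 := d13_1 D186851 (iv7 F368262) (iv5 D186850)
theorem F368268 : act 1 n178537 = n186851 := d15_1 (iv0 F278239) (iv7 D186851) F308368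
def n186852 : Q := act 5 n89260
theorem D186852 : act 5 n89260 = n186852 := rfl
theorem F368269 : act 2 n186852 = n131438 := d2_1 D186852 (iv5 D131438) (iv2 F307276)
theorem F368270 : act 3 n186852 = n121167 := d6_1 D186852 F334252 (iv3 F307277)
theorem F368271 : act 6 n186852 = n172016 := d12_2 D89260 D186852 (iv5 D172016) (iv6 D82389) F122972
theorem F368272 : act 0 n186852 = n174871 := d17_2 F309288 D186852 (iv5 F363198) F200282 (iv5 F316785) D138501 F344469 (iv0 F344470) (iv4 F309289)
def n186853 : Q := act 1 n89296
theorem D186853 : act 1 n89296 = n186853 := rfl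
theorem F368273 : act 1 n186853 = n174052 := d15_1 D186853 F272801 F156817
theorem F368274 : act 7 n186853 = n100495 := d15_2 F156789 D186853 F272823
theorem F368275 : act 4 n100501 = n186853 := d20_0 (iv1 D186853) F137002 (iv3 F136999) (iv1 F354486) (iv3 D160274) (iv4 F115323) (iv1 F115857) (iv4 F115393) D160343 (iv1 F338817)
theorem F368276 : act 3 n133078 = n186853 := d20_3 F97312 D62439 D133078 (iv1 D186853) (iv3 F298844) F298845 (iv1 F354481) F216603 (iv3 F334207) (iv1 D133073)
theorem F368277 : act 6 n174044 = n186853 := d21_3 F297058 D158230 F298226 (iv1 D186853) (iv6 D89296) (iv5 F301492) F86864 (iv5 F306539) (iv6 D98542) (iv1 F184674)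
theorem F368278 : act 2 n186853 = n174053 := d3_1 F368277 F272859 (iv2 F272790)
theorem F368279 : act 5 n186853 = n101760 := d21_6 D172448 (iv1 F311777) (iv5 D152679) D152680 F311778 F368277 (iv1 D101760) (iv5 D47300) D47301 (iv1 F272689)
def n186854 : Q := act 5 n89296
theorem D186854 : act 5 n89296 = n186854 := rfl
theorem F368280 : act 2 n186854 = n155138 := d2_1 D186854 F287017 F156817
theorem F368281 : act 3 n186854 = n128243 := d6_1 D186854 (iv5 F366931) F298844
theorem F368282 : act 6 n186854 = n128240 := d12_2 D89296 D186854 (iv5 D128240) F303517 F301492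
theorem F368283 : act 7 n186854 = n172400 := d13_2 F156811 D186854 F270613
theorem F368284 : act 0 n186854 = n98116 := d17_2 (iv1 D186853) D186854 (iv5 D98116) F72374 D46062 D98502 (iv5 F151902) (iv0 F154559) F368275
theorem F368285 : act 1 n186854 = n172403 := d17_6 (iv1 F34820) (iv5 F35300) (iv1 F73568) (iv5 F73569) (iv4 F137002) D186854 F270636 F272737 (iv4 D46580)
theorem F368286 : act 4 n186854 = n175723 := d18_5 (iv1 F263167) (iv4 F307561) (iv1 D89304) (iv4 F137002) D186854 F275149 F156579 F128884 (iv5 F304821)
def n186855 : Q := act 0 n89301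
theorem D186855 : act 0 n89301 = n186855 := rfl
theorem F368287 : act 5 n186855 = n99760 := d17_1 D186855 (iv1 D99760) F73596 (iv4 F329750) (iv5 F94318) F81638 (iv5 F349486) F349483 (iv4 F319204)
theorem F368288 : act 4 n186855 = n166686 := d18_3 (iv1 F320049) (iv4 F319204) D186855 (iv5 D166686) F122792 D80002 (iv4 F324464) (iv0 D51700) D51703
theorem F368289 : act 2 n102040 = n186855 := d1_3 F368288 (iv2 F325573) (iv4 F319201)
theorem F368290 : act 3 n143455 = n186855 := d5_5 F368288 F338520 (iv4 F338511) F338510 (iv4 F335458)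
theorem F368291 : act 1 n117501 = n186855 := d18_6 F325197 F74969 D47686 (iv4 F322492) F105469 (iv4 F184065) F368288 F353323 (iv5 D111909)
theorem F368292 : act 7 n186855 = n102036 := d8_2 (iv7 F335430) F368290 F360851
theorem F368293 : act 6 n89384 = n186855 := d21_5 (iv5 D9233) D9231 D19639 D41740 D89384 F368287 (iv1 D99760) F73596 (iv6 D41764) (iv1 D19647)
theorem F368294 : act 2 n186553 = n89384 := d3_3 F368293 (iv2 F368289) (iv6 F289484)
theorem F368295 : act 7 n89385 = n186553 := d15_2 (iv0 D89384) D89385 F368294
theorem F368296 : act 7 n186554 = n89384 := d15_2 (iv0 D186553) D186554 (iv2 F368294)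
theorem F368297 : act 2 n89385 = n186554 := d4_3 F368296 (iv2 F368294) (iv7 F368295)
theorem F368298 : act 3 n154399 = n89385 := d8_3 F368295 (iv3 F350725) (iv7 F357260)
theorem F368299 : act 5 n89385 = n154397 := d6_2 D154399 F368298 (iv3 D154397)
theorem F368300 : act 0 n175507 = n154397 := d21_10 (iv5 F368299) (iv1 D89385) D89386 F137071 F64381 (iv6 F59428) (iv5 D38611) D38609 D83802 D175507
theorem F368301 : act 0 n97975 = n185068 := d21_4 (iv5 D21860) D21858 D45729 D97975 (iv6 F353698) (iv5 F368299) (iv1 D89385) D89386 F137071 F64381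
def n186856 : Q := act 1 n89301
theorem D186856 : act 1 n89301 = n186856 := rfl
theorem F368302 : act 1 n186856 = n117501 := d15_1 D186856 F184066 (iv2 F319203)
theorem F368303 : act 7 n186856 = n102040 := d15_2 (iv0 D186855) D186856 F368289
theorem F368304 : act 5 n186856 = n99759 := d17_7 (iv1 F344550) F344552 (iv1 F81562) (iv5 F169709) F352823 F153531 D186856 (iv0 D99759) (iv4 F153574)
theorem F368305 : act 3 n153283 = n186856 := d20_9 F319204 (iv1 F349483) F349485 (iv3 F349449) (iv1 F349450) (iv3 F349454) F231388 (iv1 F350788) (iv4 F350782) (iv1 D186856)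
theorem F368306 : act 2 n186856 = n102036 := d0_1 F368305 F360851 (iv2 F335446) F350757 (iv2 F350783)
def n186857 : Q := act 7 n89301
theorem D186857 : act 7 n89301 = n186857 := rfl
theorem F368307 : act 2 n186857 = n117501 := d4_1 D186857 F184066 (iv2 F319203)
theorem F368308 : act 3 n186857 = n117583 := d8_1 D186857 F349951 (iv3 F349945)
theorem F368309 : act 4 n186857 = n109885 := d11_1 D186857 (iv7 F320051) (iv4 F319204)
theorem F368310 : act 1 n102036 = n186857 := d15_1 (iv0 F319202) (iv7 D186857) F319203
theorem F368311 : act 1 n186857 = n102040 := d15_1 F368310 (iv7 F368303) F368306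
def n186858 : Q := act 0 n89312
theorem D186858 : act 0 n89312 = n186858 := rfl
theorem F368312 : act 5 n186858 = n101550 := d17_1 D186858 (iv1 F156354) (iv5 D85942) (iv4 D39754) F312689 (iv0 D24375) D24378 D50002 (iv4 F310490)
theorem F368313 : act 4 n186858 = n139075 := d18_3 F310475 (iv4 F310490) D186858 (iv5 D139075) (iv4 F245503) F167383 (iv4 D49995) F79079 F312658
theorem F368314 : act 2 n150235 = n186858 := d15_3 (iv0 D186858) (iv0 F312668) (iv7 F315125)
theorem F368315 : act 1 n108270 = n186858 := d15_0 (iv0 D186858) (iv7 F312664) (iv2 F212686)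
theorem F368316 : act 7 n186858 = n150085 := d15_2 F217633 F368315 (iv2 F312669)
def n186859 : Q := act 5 n89312
theorem D186859 : act 5 n89312 = n186859 := rfl
theorem F368317 : act 2 n186859 = n150237 := d2_1 D186859 (iv5 D150237) (iv2 F286795)
theorem F368318 : act 3 n186859 = n89320 := d6_1 D186859 (iv5 D89320) (iv3 F137013)
theorem F368319 : act 4 n186859 = n108585 := d16_2 (iv4 F310490) D186859 F167919 F167093 D108079 F312675 F310481 (iv7 F310486) F310485
theorem F368320 : act 0 n186859 = n124809 := d17_2 F312668 D186859 (iv5 D124809) (iv4 D58356) D58357 D124812 (iv5 F305866) F311686 (iv4 F217631)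
theorem F368321 : act 0 n100513 = n179737 := d18_2 F368320 (iv4 F338891) (iv4 D179737) (iv5 F312682) (iv4 F166819) (iv0 F222261) (iv4 F368313) (iv0 D186858) D186859
theorem F368322 : act 0 n179736 = n98939 := d20_4 (iv4 F338891) F368321 (iv4 D179737) D179736 F152481 D98950 (iv1 F354669) (iv4 F354757) (iv3 F368318) F368320
def n186860 : Q := act 5 n89315
theorem D186860 : act 5 n89315 = n186860 := rfl
theorem F368323 : act 2 n186860 = n172430 := d2_1 D186860 F270652 (iv2 F270626)
theorem F368324 : act 3 n186860 = n124984 := d6_1 D186860 F200758 (iv3 F287037)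
theorem F368325 : act 7 n186860 = n164156 := d16_8 (iv4 D128723) (iv5 D60535) (iv4 F95124) D128660 (iv4 F354757) (iv5 D89320) (iv4 F137014) D186860 F354788
theorem F368326 : act 0 n186860 = n98965 := d17_2 (iv1 F273365) D186860 (iv5 D98965) (iv4 D46299) D46300 F286851 F301807 (iv0 F301805) (iv4 F155516)
theorem F368327 : act 1 n186860 = n98945 := d17_6 D41639 D89128 F137016 (iv5 D89320) (iv4 F137014) D186860 (iv5 D98945) F155165 F54793
def n186861 : Q := act 7 n89315
theorem D186861 : act 7 n89315 = n186861 := rfl
theorem F368328 : act 2 n186861 = n174478 := d4_1 D186861 F273364 (iv2 F270626)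
theorem F368329 : act 3 n186861 = n161331 := d8_1 D186861 F304808 (iv3 F287037)
theorem F368330 : act 4 n186861 = n89321 := d11_1 D186861 (iv7 D89321) (iv4 F137014)
theorem F368331 : act 5 n186861 = n164156 := d13_1 D186861 (iv7 F368325) (iv5 D186860)
theorem F368332 : act 6 n186861 = n174052 := d14_1 D186861 F272801 F304280 (iv7 F303188) D89315
theorem F368333 : act 1 n100098 = n186861 := d15_1 F275041 (iv7 D186861) F270626
theorem F368334 : act 1 n186861 = n174479 := d15_1 F368333 (iv7 D174479) (iv2 F275000)
def n186862 : Q := act 0 n89317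
theorem D186862 : act 0 n89317 = n186862 := rfl
theorem F368335 : act 4 n186862 = n155957 := d20_2 (iv4 F307587) D186862 F244988 F110933 F81346 (iv4 D32151) F50954 (iv4 F316568) D95338 F348020
theorem F368336 : act 3 n120435 = n186862 := d5_5 F368335 F244988 (iv4 F161140) (iv3 F202961) F353597
theorem F368337 : act 7 n89379 = n186862 := d11_0 F368335 F244989 F353331
theorem F368338 : act 5 n91233 = n186862 := d16_1 (iv4 F140265) F368335 (iv5 D155957) F110929 (iv5 F331085) F139922 F66418 D42706 (iv2 F139109)
def n186863 : Q := act 5 n89317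
theorem D186863 : act 5 n89317 = n186863 := rfl
theorem F368339 : act 6 n186863 = n89320 := d12_2 D89317 D186863 (iv5 D89320) (iv6 D41719) D41718
def n186864 : Q := act 7 n89317
theorem D186864 : act 7 n89317 = n186864 := rfl
theorem F368340 : act 3 n186864 = n117503 := d8_1 D186864 (iv7 F337301) (iv3 F307586)
theorem F368341 : act 4 n186864 = n95462 := d11_1 D186864 (iv7 D95462) (iv4 F307587)
theorem F368342 : act 6 n186864 = n117501 := d14_1 D186864 F184066 F316858 (iv7 F305560) D89317
theorem F368343 : act 1 n89379 = n186864 := d15_1 F305561 (iv7 D186864) F307585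
def n186865 : Q := act 0 n89326
theorem D186865 : act 0 n89326 = n186865 := rfl
theorem F368344 : act 6 n186865 = n89441 := d21_5 (iv5 D33656) D33652 F307516 D89326 D186865 (iv5 F344547) (iv1 D101864) F319206 F316858 F109563
theorem F368345 : act 2 n123716 = n186865 := d3_3 F368344 (iv2 F352819) (iv6 F355152)
theorem F368346 : act 3 n186865 = n159696 := d0_2 D123716 F368345 F251613 (iv3 F352397) F354950
theorem F368347 : act 7 n159737 = n186865 := d15_2 (iv0 F355153) (iv0 F359379) (iv2 F368345)
def n186866 : Q := act 1 n89326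
theorem D186866 : act 1 n89326 = n186866 := rfl
theorem F368348 : act 7 n186866 = n123716 := d15_2 (iv0 D186865) D186866 F368345
theorem F368349 : act 2 n159737 = n186866 := d4_3 F368348 F368345 (iv7 F368347)
theorem F368350 : act 3 n123682 = n186866 := d8_3 F368348 (iv3 D123716) (iv7 F354953)
def n186867 : Q := act 7 n89326
theorem D186867 : act 7 n89326 = n186867 := rfl
theorem F368351 : act 3 n186867 = n123866 := d8_1 D186867 F347684 (iv3 F308360)
theorem F368352 : act 5 n186867 = n104014 := d13_1 D186867 F289427 (iv5 F154739)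
theorem F368353 : act 1 n159737 = n186867 := d15_1 (iv0 F359379) (iv7 D186867) F308359
theorem F368354 : act 1 n186867 = n123716 := d15_1 F368353 (iv7 F368348) (iv2 F368349)
def n186868 : Q := act 1 n89330
theorem D186868 : act 1 n89330 = n186868 := rfl
theorem F368355 : act 7 n186868 = n154360 := d15_2 (iv0 F342799) D186868 (iv2 D154360)
theorem F368356 : act 2 n153825 = n186868 := d4_3 F368355 (iv2 D154360) (iv7 F354983)
theorem F368357 : act 3 n186868 = n121323 := d0_2 D153825 F368356 F354926 (iv3 D73130) (iv2 F354981)
theorem F368358 : act 6 n186868 = n89429 := d3_2 F367312 F368356 (iv2 F367304)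
theorem F368359 : act 1 n186868 = n154358 := d15_0 (iv0 D154358) (iv7 F354983) F368356
theorem F368360 : act 7 n154358 = n93865 := d15_2 D186868 F368359 (iv2 F308363)
theorem F368361 : act 3 n93867 = n154358 := d20_3 F138599 (iv1 F69371) (iv4 F144687) (iv1 F368359) F368357 (iv4 D121323) (iv1 D55969) (iv4 F88584) F88583 D90147
theorem F368362 : act 6 n154358 = n186867 := d7_2 F352390 F368361 F368351
theorem F368363 : act 5 n186868 = n102355 := d21_0 (iv1 D102355) (iv5 F136236) (iv6 D88853) (iv1 F74776) D102526 F157470 D104014 (iv5 F368352) (iv6 F368362) (iv1 F368359)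
theorem F368364 : act 3 n102355 = n154473 := d6_1 F368363 (iv5 F354925) (iv3 F368357)
theorem F368365 : act 4 n154482 = n102355 := d5_0 F368364 (iv4 D154473) F109652 D73175 D154482
theorem F368366 : act 6 n183783 = n102355 := d7_0 F368364 F310353 D183783
theorem F368367 : act 0 n101932 = n183783 := d21_4 F310408 D100948 F155078 D101932 F368366 (iv5 F368363) (iv1 D186868) (iv5 F274765) (iv6 D175507) F312614
theorem F368368 : act 3 n175530 = n101932 := d20_3 (iv4 D101888) (iv1 F128837) D175530 F368367 (iv3 D183783) (iv4 D87684) D87682 D183775 F364216 (iv1 F274875)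
theorem F368369 : act 6 n101930 = n175530 := d7_0 F368368 (iv6 D101932) D101930
theorem F368370 : act 4 n175531 = n101930 := d10_3 F368369 (iv4 D175530) D175531
theorem F368371 : act 0 n175531 = n154573 := d20_7 F310893 (iv1 D88181) (iv4 D41157) (iv3 F35303) D47355 D101930 (iv4 F368370) (iv4 D154573) F109719 D73271
theorem F368372 : act 0 n186762 = n101930 := d18_0 (iv4 F368370) F368371 (iv4 D154573) (iv5 D73268) (iv4 F109706) F309615 (iv4 F311721) (iv0 F312002) D186762
theorem F368373 : act 5 n154190 = n134540 := d21_0 (iv1 F355061) (iv5 F367305) (iv6 F368358) (iv1 D186868) (iv6 D89330) (iv5 F307514) (iv1 D33653) D33656 D73050 D154190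
theorem F368374 : act 2 n134541 = n154190 := d2_3 F368373 (iv2 D134540) D134541
theorem F368375 : act 7 n154191 = n134541 := d15_2 (iv0 D154190) D154191 F368374
theorem F368376 : act 3 n134547 = n154191 := d8_3 F368375 F216521 D134547
theorem F368377 : act 5 n132092 = n154191 := d13_3 F368375 (iv5 D134541) (iv7 F211628)
def n186869 : Q := act 7 n89330
theorem D186869 : act 7 n89330 = n186869 := rfl
theorem F368378 : act 2 n186869 = n154358 := d4_1 D186869 F368360 (iv2 F308363)
theorem F368379 : act 4 n186869 = n97050 := d11_1 D186869 (iv7 D97050) (iv4 F308365)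
theorem F368380 : act 1 n153825 = n186869 := d15_1 F361981 (iv7 D186869) F308363
theorem F368381 : act 1 n186869 = n154360 := d15_1 F368380 (iv7 F368355) (iv2 F368356)
def n186870 : Q := act 6 n89331
theorem D186870 : act 6 n89331 = n186870 := rfl
theorem F368382 : act 2 n186870 = n186753 := d3_1 D186870 (iv6 D186753) (iv2 F307539)
theorem F368383 : act 3 n186870 = n186745 := d7_1 D186870 (iv6 D186745) (iv3 F307540)
theorem F368384 : act 4 n186870 = n161571 := d10_1 D186870 (iv6 D161571) (iv4 F307541)
def n186871 : Q := act 6 n89335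
theorem D186871 : act 6 n89335 = n186871 := rfl
theorem F368385 : act 2 n186871 = n102274 := d3_1 D186871 (iv6 F306780) F306778
theorem F368386 : act 3 n186871 = n97106 := d7_1 D186871 (iv6 D97106) (iv3 F305475)
theorem F368387 : act 4 n186871 = n89336 := d10_1 D186871 (iv6 D89336) (iv4 F137020)
theorem F368388 : act 7 n186871 = n89453 := d14_2 D89335 D186871 (iv6 D89453) (iv7 D41769) (iv6 F64356)
theorem F368389 : act 1 n89443 = n186871 := d15_1 (iv0 F357210) F368388 F137117
theorem F368390 : act 1 n186871 = n102272 := d15_1 F368389 F357213 F353226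
def n186872 : Q := act 5 n89336
theorem D186872 : act 5 n89336 = n186872 := rfl
theorem F368391 : act 3 n186872 = n123700 := d6_1 D186872 (iv5 D123700) (iv3 F305477)
theorem F368392 : act 6 n186872 = n89337 := d12_2 D89336 D186872 (iv5 D89337) (iv6 D41724) (iv5 F64357)
theorem F368393 : act 7 n186872 = n89456 := d13_2 (iv7 F137021) D186872 (iv5 D89456)
def n186873 : Q := act 4 n89337
theorem D186873 : act 4 n89337 = n186873 := rfl
theorem F368394 : act 7 n186873 = n89350 := d11_2 (iv7 F137023) D186873 (iv4 D89350)
def n186874 : Q := act 5 n89339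
theorem D186874 : act 5 n89339 = n186874 := rfl
theorem F368395 : act 3 n186874 = n89341 := d6_1 D186874 (iv5 D89341) D89339
theorem F368396 : act 0 n186874 = n170652 := d17_2 F354017 D186874 (iv5 F355382) F355381 (iv5 F323360) F201501 (iv5 F345519) (iv0 D98229) (iv4 F151416)
def n186875 : Q := act 6 n89339
theorem D186875 : act 6 n89339 = n186875 := rfl
theorem F368397 : act 3 n186875 = n89342 := d7_1 D186875 (iv6 D89342) D89339
theorem F368398 : act 5 n175529 = n186875 := d6_0 F368397 F137026 D175529
theorem F368399 : act 0 n175529 = n100729 := d21_7 (iv5 D41629) (iv1 F58712) (iv5 F72415) D98158 F354017 D186875 (iv5 F368398) (iv5 D100729) (iv6 D46975) (iv1 F64240)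
def n186876 : Q := act 4 n89341
theorem D186876 : act 4 n89341 = n186876 := rfl
def n186877 : Q := act 6 n89341
theorem D186877 : act 6 n89341 = n186877 := rfl
theorem F368400 : act 5 n186877 = n175531 := d12_1 D186877 (iv6 D175531) (iv5 F137026) (iv6 D89342) D89341
def n186878 : Q := act 4 n89346
theorem D186878 : act 4 n89346 = n186878 := rfl
def n186879 : Q := act 6 n89346
theorem D186879 : act 6 n89346 = n186879 := rfl
def n186880 : Q := act 3 n89348
theorem D186880 : act 3 n89348 = n186880 := rfl
theorem F368401 : act 5 n186880 = n101741 := d6_2 (iv5 F156664) D186880 F156626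
theorem F368402 : act 7 n186880 = n101740 := d8_2 (iv7 F156665) D186880 F156625
theorem F368403 : act 1 n120415 = n186880 := d17_6 (iv1 F344935) F303617 (iv1 F324242) F321788 (iv4 F300578) D120415 F368401 F367930 F367927
def n186881 : Q := act 4 n89348
theorem D186881 : act 4 n89348 = n186881 := rfl
theorem F368404 : act 7 n186881 = n101786 := d11_2 (iv7 F156665) D186881 (iv4 D101786)
theorem F368405 : act 1 n186881 = n100058 := d18_6 (iv1 F311782) (iv4 F152501) (iv1 F272750) F156637 (iv5 F156664) D186881 (iv4 D100058) D100057 F311784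
def n186882 : Q := act 6 n89348
theorem D186882 : act 6 n89348 = n186882 := rfl
def n186883 : Q := act 4 n89349
theorem D186883 : act 4 n89349 = n186883 := rfl
theorem F368406 : act 2 n186883 = n101786 := d1_1 D186883 (iv4 D101786) (iv2 F156666)
theorem F368407 : act 0 n186883 = n100058 := d18_2 (iv1 F155051) D186883 (iv4 D100058) (iv5 D46719) (iv4 F58744) (iv0 F309568) (iv4 F311775) F74288 (iv5 F155049)
def n186884 : Q := act 6 n89349
theorem D186884 : act 6 n89349 = n186884 := rfl
theorem F368408 : act 2 n186884 = n101782 := d3_1 D186884 F156647 (iv2 F156666)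
theorem F368409 : act 3 n186884 = n136891 := d7_1 D186884 (iv6 F365825) (iv3 F362741)
theorem F368410 : act 5 n186884 = n99703 := d12_1 D186884 (iv6 D99703) (iv5 D46581) D46582 F137028
theorem F368411 : act 0 n186884 = n102224 := d21_7 D135964 (iv1 F218732) (iv5 F221259) D64653 (iv1 F329871) D99703 (iv5 F368410) (iv5 D102224) F365504 (iv1 F99443)
def n186885 : Q := act 0 n89350
theorem D186885 : act 0 n89350 = n186885 := rfl
theorem F368412 : act 4 n186885 = n98363 := d18_3 (iv1 D89349) D89350 D186885 F343483 (iv4 F305422) (iv0 F307531) F249607 F156668 F137028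
theorem F368413 : act 5 n114116 = n186885 := d16_1 (iv4 F177731) F368412 F343483 (iv4 F305422) F307526 D130492 (iv5 F340918) F340903 F161601
theorem F368414 : act 3 n186885 = n120419 := d6_1 F368413 (iv5 D120419) (iv3 F177730)
theorem F368415 : act 6 n186885 = n120415 := d12_2 D114116 F368413 (iv5 D120415) (iv6 D55436) F83250
def n186886 : Q := act 1 n89350
theorem D186886 : act 1 n89350 = n186886 := rfl
theorem F368416 : act 4 n186886 = n98364 := d18_7 (iv1 F73840) (iv4 F274639) (iv1 D75329) F54719 D41727 D89350 D186886 F153987 F153985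
theorem F368417 : act 3 n153634 = n98364 := d20_5 (iv4 F345161) (iv1 D153676) (iv4 D72669) (iv3 F109180) D153634 (iv4 F368416) (iv1 D186886) (iv4 D89350) F64360 D86971
def n186887 : Q := act 3 n89350
theorem D186887 : act 3 n89350 = n186887 := rfl
theorem F368418 : act 4 n186887 = n182138 := d5_2 D89350 D186887 (iv3 D182138) (iv4 D86973) (iv3 F64360)
theorem F368419 : act 6 n186887 = n89483 := d7_2 (iv6 F137029) D186887 (iv3 D89483)
def n186888 : Q := act 5 n89350
theorem D186888 : act 5 n89350 = n186888 := rfl
def n186889 : Q := act 5 n89353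
theorem D186889 : act 5 n89353 = n186889 := rfl
def n186890 : Q := act 6 n89354
theorem D186890 : act 6 n89354 = n186890 := rfl
theorem F368420 : act 3 n186890 = n120420 := d7_1 D186890 F191839 (iv3 F303375)
theorem F368421 : act 4 n186890 = n106352 := d10_1 D186890 F356350 F336778
theorem F368422 : act 7 n186890 = n114116 := d14_2 (iv7 F303376) D186890 (iv6 D114116) F83249 D57700
def n186891 : Q := act 4 n89361
theorem D186891 : act 4 n89361 = n186891 := rfl
theorem F368423 : act 2 n186891 = n89367 := d1_1 D186891 (iv4 D89367) (iv2 F137033)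
theorem F368424 : act 5 n186891 = n90312 := d17_5 F335733 F300577 (iv1 F335723) D89361 D186891 (iv0 F178533) F178532 F335754 (iv4 D102006)
theorem F368425 : act 6 n89756 = n186891 := d12_0 F368424 (iv6 D90312) (iv5 D42214) D42215 (iv5 F137747)
def n186892 : Q := act 6 n89361
theorem D186892 : act 6 n89361 = n186892 := rfl
theorem F368426 : act 2 n186892 = n89368 := d3_1 D186892 (iv6 D89368) (iv2 F137033)
theorem F368427 : act 3 n186892 = n117516 := d7_1 D186892 F346067 F289463
theorem F368428 : act 4 n186892 = n89756 := d10_1 D186892 F368425 (iv4 D186891)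
theorem F368429 : act 0 n186892 = n90137 := d21_4 F300577 (iv1 F335723) D89361 D186892 (iv6 F347716) (iv5 D137379) F329376 D101992 F156954 F335733
theorem F368430 : act 5 n97984 = n186892 := d17_1 F152855 F368429 (iv5 F347714) (iv4 F291161) F291162 F136323 (iv5 F137258) F137260 D99285
theorem F368431 : act 1 n186892 = n90131 := d15_1 (iv0 F368429) (iv7 F142409) F142408
theorem F368432 : act 7 n186892 = n102352 := d13_2 (iv7 F151035) F368430 (iv5 D102352)
def n186893 : Q := act 1 n89362
theorem D186893 : act 1 n89362 = n186893 := rfl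
theorem F368433 : act 1 n186893 = n89372 := d15_1 D186893 (iv7 D89372) (iv2 F137034)
theorem F368434 : act 7 n186893 = n89369 := d15_2 (iv0 F362410) D186893 F356202
theorem F368435 : act 2 n89370 = n186893 := d4_3 F368434 F356202 (iv7 F356206)
theorem F368436 : act 3 n185223 = n186893 := d8_3 F368434 F356198 (iv7 F356390)
def n186894 : Q := act 5 n89362
theorem D186894 : act 5 n89362 = n186894 := rfl
theorem F368437 : act 2 n186894 = n89371 := d2_1 D186894 (iv5 D89371) (iv2 F137034)
theorem F368438 : act 3 n186894 = n101033 := d6_1 D186894 F356797 F289468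
theorem F368439 : act 6 n186894 = n97984 := d12_2 D89362 D186894 F368430 (iv6 D186892) (iv5 D89361)
theorem F368440 : act 1 n186894 = n100744 := d17_6 F70773 D48438 D104758 (iv5 F160477) F147352 D186894 F154840 (iv0 F289672) (iv4 F70771)
theorem F368441 : act 0 n186894 = n99468 := d21_7 D22292 F54815 (iv5 F58703) D82483 (iv1 F335723) D89362 D186894 (iv5 D99468) (iv6 D46504) (iv1 D22290)
theorem F368442 : act 7 n186894 = n100741 := d15_2 (iv0 F289676) (iv0 F368441) F367277
theorem F368443 : act 4 n97985 = n186894 := d10_3 F368439 (iv4 D97984) D97985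
def n186895 : Q := act 7 n89362
theorem D186895 : act 7 n89362 = n186895 := rfl
theorem F368444 : act 2 n186895 = n89372 := d4_1 D186895 (iv7 D89372) (iv2 F137034)
theorem F368445 : act 4 n186895 = n97476 := d11_1 D186895 F150259 F147352
theorem F368446 : act 5 n186895 = n100741 := d13_1 D186895 (iv7 F368442) (iv5 D186894)
theorem F368447 : act 1 n89370 = n186895 := d15_1 D89370 (iv7 D186895) F137034
theorem F368448 : act 1 n186895 = n89369 := d15_1 F368447 (iv7 F368434) (iv2 F368435)
def n186896 : Q := act 1 n89363
theorem D186896 : act 1 n89363 = n186896 := rfl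
theorem F368449 : act 5 n186896 = n101973 := d17_7 (iv1 F156943) (iv5 F347749) (iv1 D89366) (iv5 D41732) D41731 D89363 D186896 F158638 F158634
theorem F368450 : act 6 n174711 = n186896 := d21_5 (iv5 D83468) (iv1 D38481) D38483 D83478 D174711 F368449 (iv1 D101973) (iv5 F147306) (iv6 F348937) (iv1 F302211)
def n186897 : Q := act 4 n89363
theorem D186897 : act 4 n89363 = n186897 := rfl
def n186898 : Q := act 6 n89363
theorem D186898 : act 6 n89363 = n186898 := rfl
theorem F368451 : act 3 n186898 = n97070 := d7_1 D186898 (iv6 D97070) (iv3 F137035)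
theorem F368452 : act 5 n186898 = n163272 := d12_1 D186898 F344664 F146995 (iv6 D89364) D89363
theorem F368453 : act 0 n186898 = n174708 := d21_7 F273027 F199078 (iv5 F271620) F358399 (iv1 F160471) (iv6 F344664) (iv5 F368452) F273556 (iv6 D174237) D174235
def n186899 : Q := act 1 n89364
theorem D186899 : act 1 n89364 = n186899 := rfl
theorem F368454 : act 1 n186899 = n97476 := d15_1 D186899 F150259 F147351
theorem F368455 : act 7 n186899 = n97471 := d15_2 (iv0 F137038) D186899 F150250
theorem F368456 : act 6 n184397 = n186899 := d21_3 D95451 (iv1 F352904) (iv5 F340530) (iv1 D186899) (iv6 D89364) D89363 F158641 (iv5 D103357) (iv6 D47895) (iv1 F75213)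
theorem F368457 : act 2 n186899 = n89927 := d3_1 F368456 F293238 F286327
def n186900 : Q := act 4 n89365
theorem D186900 : act 4 n89365 = n186900 := rfl
def n186901 : Q := act 6 n89365
theorem D186901 : act 6 n89365 = n186901 := rfl
theorem F368458 : act 2 n186901 = n148522 := d3_1 D186901 (iv6 F362413) F362404
theorem F368459 : act 3 n186901 = n134285 := d7_1 D186901 F368215 (iv3 F368216)
def n186902 : Q := act 0 n89367
theorem D186902 : act 0 n89367 = n186902 := rfl
theorem F368460 : act 6 n186902 = n114828 := d21_5 (iv5 F68980) F67897 D42450 (iv6 F347697) D186902 (iv5 D114828) (iv1 F144676) (iv5 F145331) (iv6 D94248) (iv1 F69375)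
def n186903 : Q := act 1 n89367
theorem D186903 : act 1 n89367 = n186903 := rfl
def n186904 : Q := act 3 n89367
theorem D186904 : act 3 n89367 = n186904 := rfl
theorem F368461 : act 4 n186904 = n89382 := d5_2 D89367 D186904 (iv3 D89382) (iv4 D41739) (iv3 F64362)
theorem F368462 : act 5 n186904 = n90663 := d6_2 (iv5 F347696) D186904 F139577
theorem F368463 : act 6 n186904 = n90666 := d7_2 (iv6 F347697) D186904 F139578
theorem F368464 : act 7 n186904 = n164493 := d8_2 F289511 D186904 F347694
theorem F368465 : act 3 n149290 = n186903 := d20_3 (iv4 D166272) (iv1 F122584) D149290 (iv1 D186903) D186904 F368461 (iv1 F352672) F352674 (iv3 F315704) F315702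
theorem F368466 : act 1 n114847 = n186904 := d15_1 (iv0 F335537) F368464 (iv2 F335532)
theorem F368467 : act 1 n186904 = n151645 := d15_1 F368466 F363928 F193538
def n186905 : Q := act 7 n89368
theorem D186905 : act 7 n89368 = n186905 := rfl
theorem F368468 : act 2 n186905 = n102352 := d4_1 D186905 (iv7 F368432) F368426
theorem F368469 : act 3 n186905 = n89387 := d8_1 D186905 (iv7 D89387) (iv3 F137039)
theorem F368470 : act 4 n186905 = n89757 := d11_1 D186905 F137751 (iv4 F347700)
theorem F368471 : act 5 n186905 = n89388 := d13_1 D186905 F137073 (iv5 F347701)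
theorem F368472 : act 1 n90131 = n186905 := d15_1 F368431 (iv7 D186905) (iv2 F368426)
theorem F368473 : act 1 n186905 = n90137 := d15_1 F368472 (iv7 F142394) F142393
def n186906 : Q := act 3 n89370
theorem D186906 : act 3 n89370 = n186906 := rfl
def n186907 : Q := act 4 n89370
theorem D186907 : act 4 n89370 = n186907 := rfl
def n186908 : Q := act 6 n89370
theorem D186908 : act 6 n89370 = n186908 := rfl
def n186909 : Q := act 1 n89371
theorem D186909 : act 1 n89371 = n186909 := rfl
theorem F368474 : act 1 n186909 = n100741 := d15_1 D186909 (iv7 F368442) F368437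
theorem F368475 : act 7 n186909 = n99468 := d15_2 (iv0 F367276) D186909 F153226
theorem F368476 : act 5 n186909 = n91104 := d17_7 (iv1 F76174) D104757 (iv1 F160471) F146995 F137037 D89371 D186909 F292385 (iv4 F289667)
theorem F368477 : act 3 n156182 = n186909 := d19_19 (iv1 D186909) (iv5 D89371) (iv4 F137037) F137036 (iv1 F71538) D89871 (iv4 F160347) F328293 (iv1 F194226) (iv5 F345645) (iv4 F345649) (iv3 F349378) F349381 F320612 D151303 F320478 F111158 D74297 D156182
theorem F368478 : act 2 n100744 = n186909 := d2_3 F368476 F292386 (iv5 F154840)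
theorem F368479 : act 6 n136936 = n186909 := d12_0 F368476 F292388 D99770 F362177 D136936
theorem F368480 : act 6 n102671 = n136944 := d21_9 (iv5 D64368) D64366 D136936 F368479 (iv1 D186909) F347704 (iv5 F347701) F347698 (iv5 F347707) (iv1 D136944)
theorem F368481 : act 4 n136944 = n100570 := d10_1 F368480 F154643 D102671
theorem F368482 : act 5 n136929 = n98479 := d21_8 (iv5 F347701) F347698 (iv5 F347707) F368480 (iv1 D136944) (iv6 F354884) F354883 D136929 F151878 (iv1 F74671)
def n186910 : Q := act 4 n89375
theorem D186910 : act 4 n89375 = n186910 := rfl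
theorem F368483 : act 2 n186910 = n175675 := d1_1 D186910 F336807 (iv2 F289356)
theorem F368484 : act 7 n186910 = n118758 := d11_2 F157459 D186910 F361659
theorem F368485 : act 5 n186910 = n114937 := d17_5 F309260 (iv5 F153326) F284791 (iv5 F137056) D186910 F259190 (iv5 D151553) (iv0 F259136) D114920
theorem F368486 : act 0 n186910 = n148710 := d17_0 (iv5 F233477) (iv1 F349030) F183723 F309259 (iv5 D88812) D88811 D186459 F289307 D186910
theorem F368487 : act 1 n186910 = n175678 := d18_8 (iv1 F349031) F335971 F349028 F349026 F335889 F356613 F289307 D186910 F357754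
theorem F368488 : act 6 n114937 = n117340 := d21_3 (iv5 F357754) (iv1 F368487) F368485 (iv1 D117340) (iv6 D54079) (iv5 D26163) D26161 D54075 D117329 F349028
theorem F368489 : act 6 n93841 = n186910 := d12_4 F368488 (iv5 F183749) (iv6 D93842) D93841 F368485
def n186911 : Q := act 6 n89375
theorem D186911 : act 6 n89375 = n186911 := rfl
theorem F368490 : act 3 n186911 = n89377 := d7_1 D186911 (iv6 D89377) D89375
theorem F368491 : act 4 n186911 = n93841 := d10_1 D186911 F368489 (iv4 D186910)
theorem F368492 : act 5 n186911 = n100642 := d12_1 D186911 (iv6 D100642) (iv5 D46940) D46941 (iv5 F137056)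
def n186912 : Q := act 3 n89376
theorem D186912 : act 3 n89376 = n186912 := rfl
def n186913 : Q := act 6 n89376
theorem D186913 : act 6 n89376 = n186913 := rfl
theorem F368493 : act 4 n186913 = n89377 := d10_1 D186913 (iv6 D89377) D89376
def n186914 : Q := act 0 n89377
theorem D186914 : act 0 n89377 = n186914 := rfl
def n186915 : Q := act 1 n89377
theorem D186915 : act 1 n89377 = n186915 := rfl
def n186916 : Q := act 7 n89377
theorem D186916 : act 7 n89377 = n186916 := rfl
theorem F368494 : act 5 n186916 = n100649 := d13_1 D186916 (iv7 D100649) (iv5 F137059)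
def n186917 : Q := act 3 n89380
theorem D186917 : act 3 n89380 = n186917 := rfl
theorem F368495 : act 4 n186917 = n145536 := d5_2 (iv4 F137063) D186917 F323818 (iv4 F346305) F157498
theorem F368496 : act 5 n186917 = n102477 := d6_2 (iv5 F137062) D186917 (iv3 D102477)
theorem F368497 : act 7 n186917 = n95341 := d8_2 F137240 D186917 F348023
theorem F368498 : act 0 n186917 = n127685 := d20_10 (iv4 D127685) (iv1 D59945) (iv4 F94414) (iv3 F162368) (iv1 F353140) F353148 (iv4 D88878) F74793 (iv4 F137063) D186917
theorem F368499 : act 6 n127650 = n186917 := d21_9 F350623 (iv1 D184217) (iv5 D87862) (iv6 D40979) F30954 D21642 D45371 D97065 (iv5 F361128) F368498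
theorem F368500 : act 1 n186917 = n127680 := d15_1 (iv0 F368498) (iv7 F364214) F350622
theorem F368501 : act 2 n156826 = n186917 := d15_3 F368500 F361891 (iv7 F366428)
def n186918 : Q := act 6 n89380
theorem D186918 : act 6 n89380 = n186918 := rfl
theorem F368502 : act 3 n186918 = n127650 := d7_1 D186918 F368499 (iv3 D186917)
theorem F368503 : act 4 n186918 = n102537 := d10_1 D186918 (iv6 D102537) (iv4 F137063)
def n186919 : Q := act 3 n89381
theorem D186919 : act 3 n89381 = n186919 := rfl
theorem F368504 : act 5 n186919 = n102488 := d6_2 (iv5 F137066) D186919 (iv3 D102488)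
def n186920 : Q := act 6 n89381
theorem D186920 : act 6 n89381 = n186920 := rfl
theorem F368505 : act 2 n186920 = n95338 := d3_1 D186920 (iv6 F348021) F137238
theorem F368506 : act 4 n186920 = n102532 := d10_1 D186920 (iv6 D102532) (iv4 F137067)
theorem F368507 : act 0 n186920 = n95453 := d21_4 F136269 (iv1 F74739) (iv5 F137066) D186920 (iv6 D95453) (iv5 D44592) (iv1 F33776) (iv5 F70196) (iv6 F307545) F136485
theorem F368508 : act 0 n95462 = n186920 := d21_4 (iv5 D111835) (iv1 F81394) F105469 F320054 (iv6 D186920) F137066 F74738 (iv5 F74606) (iv6 F156987) F329859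
theorem F368509 : act 7 n186920 = n95459 := d15_2 (iv0 F347766) (iv0 F368507) (iv2 F348022)
def n186921 : Q := act 6 n89382
theorem D186921 : act 6 n89382 = n186921 := rfl
theorem F368510 : act 2 n186921 = n127670 := d3_1 D186921 (iv6 F359659) F352671
theorem F368511 : act 3 n186921 = n89383 := d7_1 D186921 (iv6 D89383) D89382
theorem F368512 : act 4 n186921 = n90666 := d10_1 D186921 (iv6 F368463) F368461
def n186922 : Q := act 0 n89383
theorem D186922 : act 0 n89383 = n186922 := rfl
theorem F368513 : act 6 n186922 = n95468 := d21_5 (iv5 F74630) (iv1 F74632) F64379 D89383 D186922 F349486 (iv1 F81638) F94318 (iv6 F329864) (iv1 F72585)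
theorem F368514 : act 5 n186922 = n166701 := d21_0 F365879 (iv5 D97049) (iv6 D45366) (iv1 F70117) (iv6 F306525) (iv5 F74630) (iv1 F74632) F64379 D89383 D186922
theorem F368515 : act 2 n109888 = n186922 := d2_3 F368514 F262384 F365915
theorem F368516 : act 3 n95471 = n186922 := d6_3 F368514 (iv3 F364153) (iv5 F149580)
theorem F368517 : act 4 n186922 = n186589 := d1_2 (iv4 F362581) F368515 (iv2 F367342)
theorem F368518 : act 0 n186922 = n127651 := d20_1 (iv4 F368517) (iv4 F362115) (iv3 F362114) (iv1 F184100) (iv3 F184226) F184227 (iv1 F315738) (iv4 F243594) (iv3 F363032) D186589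
def n186923 : Q := act 1 n89383
theorem D186923 : act 1 n89383 = n186923 := rfl
theorem F368519 : act 1 n186923 = n127651 := d15_1 D186923 F362116 F289482
theorem F368520 : act 7 n186923 = n109888 := d15_2 (iv0 D186922) D186923 F368515
theorem F368521 : act 3 n109901 = n186923 := d8_3 F368520 F169900 D109901
theorem F368522 : act 4 n186590 = n186923 := d11_3 F368520 F362581 (iv7 F367346)
def n186924 : Q := act 5 n89383
theorem D186924 : act 5 n89383 = n186924 := rfl
theorem F368523 : act 6 n186924 = n102219 := d12_2 D89383 D186924 (iv5 D102219) (iv6 D47449) F64379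
def n186925 : Q := act 7 n89383
theorem D186925 : act 7 n89383 = n186925 := rfl
theorem F368524 : act 2 n186925 = n127651 := d4_1 D186925 F362116 F289482
theorem F368525 : act 4 n186925 = n89387 := d11_1 D186925 (iv7 D89387) (iv4 F137069)
theorem F368526 : act 6 n186925 = n186758 := d14_1 D186925 F367901 (iv6 D186574) F136259 D89383
theorem F368527 : act 1 n186925 = n109888 := d15_0 (iv0 F362117) (iv7 F362116) (iv2 F368524)
def n186926 : Q := act 3 n89384
theorem D186926 : act 3 n89384 = n186926 := rfl
theorem F368528 : act 2 n186926 = n151629 := d0_1 D186926 (iv3 F353684) F353683 F350725 F368294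
theorem F368529 : act 6 n186926 = n143455 := d7_2 (iv6 F368293) D186926 F368290
theorem F368530 : act 4 n114853 = n186926 := d10_3 F368529 F335458 (iv6 F325409)
theorem F368531 : act 5 n154508 = n186926 := d12_5 F368529 F335427 F321996 D159416 (iv6 F362837)
def n186927 : Q := act 4 n89384
theorem D186927 : act 4 n89384 = n186927 := rfl
theorem F368532 : act 3 n186927 = n114855 := d5_1 D186927 (iv4 D114855) (iv3 F178917) F368530 (iv3 D186926)
theorem F368533 : act 6 n186927 = n166686 := d10_2 (iv6 F368293) D186927 (iv4 F368288)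
theorem F368534 : act 5 n166683 = n186927 := d12_5 F368533 (iv5 D166686) (iv6 D80000) D79999 D166683
theorem F368535 : act 0 n89531 = n186927 := d21_4 D41768 (iv1 F64413) (iv5 F64463) D89531 F368533 (iv5 D166686) (iv1 F324001) (iv5 F322926) (iv6 D89446) (iv1 D41766)
def n186928 : Q := act 5 n89384
theorem D186928 : act 5 n89384 = n186928 := rfl
theorem F368536 : act 3 n186928 = n154508 := d6_1 D186928 F368531 (iv3 D186926)
theorem F368537 : act 0 n186928 = n175507 := d17_2 D89384 D186928 F274765 F308365 D97049 (iv0 F365879) (iv5 F368514) (iv0 D186922) F137069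
theorem F368538 : act 4 n154511 = n186928 := d5_0 F368536 (iv4 D154508) (iv3 D73187) D73188 D154511
def n186929 : Q := act 4 n89385
theorem D186929 : act 4 n89385 = n186929 := rfl
theorem F368539 : act 0 n186929 = n89531 := d20_1 D186929 F137245 (iv3 F137227) F363017 F357154 (iv4 F204821) (iv1 F204825) F184102 F362114 (iv1 F289490)
def n186930 : Q := act 6 n89385
theorem D186930 : act 6 n89385 = n186930 := rfl
def n186931 : Q := act 0 n89386
theorem D186931 : act 0 n89386 = n186931 := rfl
theorem F368540 : act 5 n186931 = n154360 := d19_1 D186931 F361979 (iv3 D164443) (iv1 F177937) F177929 (iv4 D95583) F70192 D44658 (iv5 F76126) F76127 F61964 (iv1 F292757) F292758 (iv4 F33278) (iv3 F33631) (iv1 F72164) F72162 D47490 (iv3 F347702)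
theorem F368541 : act 2 n154362 = n186931 := d2_3 F368540 (iv2 D154360) D154362
theorem F368542 : act 7 n102355 = n186931 := d13_0 F368540 (iv7 F368355) F368363
theorem F368543 : act 0 n186931 = n102356 := d21_1 (iv5 F368540) (iv5 F289487) F289488 (iv1 F366862) (iv6 D123649) (iv5 D57641) (iv1 F307500) F136212 (iv6 F307502) F361980
theorem E103273 : n154362 = n102354 := (c15_4 (iv0 D102354) D102355 F368542 (iv2 F368541))
theorem F368544 : act 2 n102354 = n186931 := (sb E103273 F368541)
theorem F368545 : act 3 n102354 = n73127 := (sb E103273 F242441)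
theorem F368546 : act 5 n102354 = n73125 := (sb E103273 (iv5 D154362))
def n186932 : Q := act 1 n89386
theorem D186932 : act 1 n89386 = n186932 := rfl
theorem F368547 : act 1 n186932 = n102356 := d15_1 D186932 (iv7 D102356) (iv2 F137070)
theorem F368548 : act 7 n186932 = n102354 := d15_2 (iv0 D186931) D186932 F368544
theorem F368549 : act 5 n153825 = n186932 := d21_6 F64374 (iv1 F62393) (iv5 F63937) D88866 D186578 F367312 (iv1 D186932) (iv5 D89386) (iv6 D41740) D41737
theorem F368550 : act 2 n186932 = n102355 := d2_1 F368549 (iv5 F368363) (iv2 F368356)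
theorem F368551 : act 3 n186932 = n153827 := d6_1 F368549 (iv5 D153827) D153825
def n186933 : Q := act 4 n89386
theorem D186933 : act 4 n89386 = n186933 := rfl
theorem F368552 : act 2 n186933 = n102353 := d1_1 D186933 F157156 (iv2 F137070)
theorem F368553 : act 3 n186933 = n102337 := d5_1 D186933 (iv4 D102337) (iv3 D47489) D47490 (iv3 F347702)
theorem F368554 : act 6 n186933 = n89388 := d10_2 (iv6 F137071) D186933 (iv4 D89388)
theorem F368555 : act 7 n102338 = n186933 := d14_0 F368554 F137073 (iv6 F347704) (iv7 F137041) D102338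
def n186934 : Q := act 7 n89386
theorem D186934 : act 7 n89386 = n186934 := rfl
theorem F368556 : act 2 n186934 = n102356 := d4_1 D186934 (iv7 D102356) (iv2 F137070)
theorem F368557 : act 3 n186934 = n89388 := d8_1 D186934 F137073 (iv3 F347702)
theorem F368558 : act 4 n186934 = n102338 := d11_1 D186934 F368555 (iv4 D186933)
theorem F368559 : act 5 n186934 = n89387 := d13_1 D186934 (iv7 D89387) D89386
theorem F368560 : act 6 n186934 = n102337 := d14_1 D186934 F361675 (iv6 D47491) F72161 (iv6 F137071)
theorem F368561 : act 1 n102355 = n186934 := d15_1 D102355 (iv7 D186934) F137070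
theorem F368562 : act 1 n186934 = n102354 := d15_1 F368561 (iv7 F368548) F368550
theorem E103274 : n185197 = n102344 := (c20_4 F242499 (iv1 D153882) F337923 D185197 (iv1 D102344) (iv3 F157147) (iv4 F368558) (iv1 F368561) (iv4 F368365) (iv3 D154482) (iv1 F242498))
theorem F368563 : act 3 n102344 = n88256 := (sb E103274 (iv3 D185197))
theorem F368564 : act 7 n102344 = n154660 := (sb E103274 F364095)
theorem F368565 : act 2 n154660 = n102343 := d15_3 (iv0 D102343) D102344 F368564
theorem F368566 : act 2 n102344 = n185312 := d4_1 (iv7 F368564) F361677 (iv2 F368565)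
theorem F368567 : act 1 n102337 = n154660 := d15_1 F287575 (iv7 F368564) F368566
theorem F368568 : act 4 n185309 = n102344 := d1_0 F368566 (iv4 D185312) (iv2 F287574)
theorem F368569 : act 1 n154660 = n97985 := d15_0 F361678 F361677 (iv2 F368565)
def n186935 : Q := act 6 n89397
theorem D186935 : act 6 n89397 = n186935 := rfl
theorem F368570 : act 4 n186935 = n139699 := d10_1 D186935 (iv6 F349376) F337247
def n186936 : Q := act 5 n89399
theorem D186936 : act 5 n89399 = n186936 := rfl
theorem F368571 : act 2 n186936 = n89404 := d2_1 D186936 (iv5 D89404) (iv2 F137077)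
theorem F368572 : act 3 n186936 = n98347 := d6_1 D186936 (iv5 D98347) F149748
theorem F368573 : act 7 n186936 = n182236 := d13_2 (iv7 F137078) D186936 (iv5 D182236)
theorem F368574 : act 1 n186936 = n182238 := d17_6 D99752 (iv5 F344202) (iv1 F289471) (iv5 D89400) D89399 D186936 F362133 (iv0 D88309) (iv4 F73587)
theorem F368575 : act 0 n186936 = n182239 := d21_1 D186936 F346008 F295345 (iv1 D44563) (iv6 F70070) D95389 (iv1 F321335) F321337 F335708 (iv1 F137081)
def n186937 : Q := act 4 n89400
theorem D186937 : act 4 n89400 = n186937 := rfl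
theorem F368576 : act 2 n186937 = n89408 := d1_1 D186937 (iv4 D89408) (iv2 F137082)
theorem F368577 : act 1 n186937 = n145998 := d18_6 (iv1 F134125) (iv4 F335673) (iv1 F137081) (iv4 D89399) D89400 D186937 F346801 (iv0 F285873) (iv5 D150139)
theorem F368578 : act 3 n186937 = n146107 := d20_3 F344206 (iv1 F289471) D186937 (iv1 D146107) F104710 (iv4 F315540) D39266 F313338 F130901 F184260
theorem F368579 : act 6 n148984 = n186937 := d7_0 F368578 (iv6 F243255) (iv3 F234827)
def n186938 : Q := act 6 n89400
theorem D186938 : act 6 n89400 = n186938 := rfl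
theorem F368580 : act 2 n186938 = n89409 := d3_1 D186938 (iv6 D89409) (iv2 F137082)
theorem F368581 : act 4 n186938 = n148984 := d10_1 D186938 F368579 (iv4 D186937)
theorem F368582 : act 7 n186938 = n117637 := d14_2 F289464 D186938 (iv6 D117637) (iv7 F233834) F346067
theorem F368583 : act 0 n186938 = n175366 := d21_4 F337264 (iv1 F136220) D89400 D186938 (iv6 F359668) (iv5 D137409) (iv1 F327495) F339497 (iv6 F352607) (iv1 F337258)
theorem F368584 : act 0 n148185 = n186938 := d21_4 (iv5 F197270) (iv1 F312007) (iv5 D148184) D148185 (iv6 D186938) (iv5 D89400) (iv1 F337259) (iv5 F310780) F310781 F125589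
theorem F368585 : act 5 n110952 = n186938 := d21_8 F346006 F344347 (iv5 F73588) F329604 F94293 D68725 (iv5 F329017) F338225 (iv6 D186938) (iv1 F289472)
theorem F368586 : act 4 n152585 = n110953 := d16_0 (iv5 D110953) D110952 F368585 F368581 (iv5 D148984) (iv4 F312361) D131508 F314759 F259395
def n186939 : Q := act 5 n89401
theorem D186939 : act 5 n89401 = n186939 := rfl
theorem F368587 : act 2 n186939 = n89412 := d2_1 D186939 (iv5 D89412) (iv2 F137083)
theorem F368588 : act 3 n186939 = n100848 := d6_1 D186939 (iv5 F294160) F294159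
theorem F368589 : act 6 n186939 = n110952 := d12_2 D89401 D186939 F368585 (iv6 D186938) (iv5 D89400)
theorem F368590 : act 0 n186939 = n99431 := d17_2 (iv1 F357619) D186939 (iv5 D99431) F153158 D47096 F155759 (iv5 F368030) (iv0 F368031) (iv4 F357581)
theorem F368591 : act 1 n186939 = n99428 := d17_6 D40895 D87763 D183975 F343915 (iv4 F362781) D186939 (iv5 D99428) (iv0 D46488) F34771
theorem F368592 : act 4 n110954 = n186939 := d10_3 F368589 (iv4 D110952) D110954
theorem F368593 : act 3 n103626 = n110954 := d5_5 F368592 F368588 F349153 F154894 D103626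
theorem F368594 : act 1 n144298 = n110954 := d18_6 F153161 F153154 (iv1 F134734) D87767 D183984 F363680 F368592 F368591 (iv5 D99428)
theorem F368595 : act 5 n110954 = n184114 := d16_7 (iv4 F361003) F250915 (iv4 F343919) F343915 (iv4 F362781) D186939 (iv4 F368592) (iv7 D184114) D184112
theorem F368596 : act 7 n103909 = n110954 := d13_0 F368595 (iv7 D184114) (iv5 F294318)
theorem F368597 : act 6 n110951 = n103626 := d7_0 F368593 (iv6 D110954) D110951
theorem F368598 : act 2 n103879 = n110951 := d3_3 F368597 F159002 D103879
theorem F368599 : act 4 n103627 = n110951 := d10_3 F368597 (iv4 D103626) D103627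
def n186940 : Q := act 3 n89403
theorem D186940 : act 3 n89403 = n186940 := rfl
theorem F368600 : act 2 n186940 = n98382 := d0_1 D186940 F151811 (iv2 F89709) (iv3 F335672) (iv2 F335695)
theorem F368601 : act 4 n186940 = n98382 := d5_2 F335591 D186940 F151811 F72613 (iv3 F107133)
theorem F368602 : act 6 n186940 = n182986 := d7_2 (iv6 F335584) D186940 F284579
theorem F368603 : act 7 n186940 = n98378 := d8_2 (iv7 F335585) D186940 F151808
theorem F368604 : act 0 n186940 = n98380 := d20_4 F135750 F335592 F335591 D186940 F367431 (iv4 F367432) (iv1 F364170) F251900 F136854 (iv1 F337269)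
theorem F368605 : act 0 n98379 = n186940 := d20_4 (iv4 F148681) F353220 (iv4 D182924) (iv3 F364400) (iv3 D186940) (iv4 F335591) (iv1 F134118) (iv4 F344208) F337271 (iv1 D172214)
def n186941 : Q := act 4 n89404
theorem D186941 : act 4 n89404 = n186941 := rfl
theorem F368606 : act 7 n186941 = n182240 := d11_2 (iv7 F137087) D186941 (iv4 D182240)
def n186942 : Q := act 6 n89404
theorem D186942 : act 6 n89404 = n186942 := rfl
theorem F368607 : act 3 n186942 = n153667 := d7_1 D186942 F338039 (iv3 F137086)
def n186943 : Q := act 6 n89407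
theorem D186943 : act 6 n89407 = n186943 := rfl
theorem F368608 : act 4 n186943 = n181684 := d10_1 D186943 (iv6 F354312) (iv4 F344224)
theorem F368609 : act 5 n186943 = n101098 := d12_1 D186943 (iv6 D101098) (iv5 D47096) D47097 F344225
theorem F368610 : act 0 n134600 = n186943 := d21_4 F330251 (iv1 F98476) D63245 D134600 (iv6 D186943) (iv5 F344225) (iv1 F344226) (iv5 F136266) F352607 (iv1 D147018)
def n186944 : Q := act 0 n89408
theorem D186944 : act 0 n89408 = n186944 := rfl
theorem F368611 : act 5 n186944 = n145909 := d17_1 D186944 (iv1 F356479) F227827 (iv4 F329754) F153556 F287562 (iv5 F356785) (iv0 D89406) D89408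
theorem F368612 : act 3 n127746 = n186944 := d6_3 F368611 (iv3 D145909) (iv5 F205356)
theorem F368613 : act 7 n145998 = n186944 := d13_0 F368611 F264325 D145998
theorem F368614 : act 6 n127536 = n186944 := d21_5 (iv5 D67944) (iv1 F84935) F84929 D59896 D127536 F368611 (iv1 F356479) F227827 (iv6 D113795) (iv1 F104042)
def n186945 : Q := act 1 n89408
theorem D186945 : act 1 n89408 = n186945 := rfl
def n186946 : Q := act 5 n89408
theorem D186946 : act 5 n89408 = n186946 := rfl
theorem F368615 : act 3 n186946 = n103144 := d6_1 D186946 (iv5 F158415) F356802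
def n186947 : Q := act 5 n89409
theorem D186947 : act 5 n89409 = n186947 := rfl
theorem F368616 : act 2 n186947 = n110952 := d2_1 D186947 F368585 F368580
theorem F368617 : act 3 n186947 = n89418 := d6_1 D186947 (iv5 D89418) (iv3 F137090)
theorem F368618 : act 6 n186947 = n89412 := d12_2 D89409 D186947 (iv5 D89412) (iv6 D41750) D41749
theorem F368619 : act 0 n186947 = n156718 := d17_2 F352634 D186947 F338224 F229953 F104921 F130871 D34692 D75900 D158978
theorem F368620 : act 1 n186947 = n164570 := d17_6 (iv1 F236559) F227906 D148979 (iv5 F352635) F352631 D186947 (iv5 D164570) D164568 F259419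
theorem F368621 : act 4 n110950 = n186947 := d18_7 D164567 (iv4 F259427) (iv1 F259442) F278772 F338240 F171646 (iv0 F357638) F368620 (iv5 D164570)
theorem F368622 : act 7 n186947 = n110947 := d11_2 D110950 F368621 (iv4 D110947)
def n186948 : Q := act 7 n89409
theorem D186948 : act 7 n89409 = n186948 := rfl
theorem F368623 : act 2 n186948 = n117637 := d4_1 D186948 (iv7 F368582) F368580
theorem F368624 : act 3 n186948 = n89419 := d8_1 D186948 (iv7 D89419) (iv3 F137090)
theorem F368625 : act 4 n186948 = n95890 := d11_1 D186948 F352637 F352631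
theorem F368626 : act 5 n186948 = n110947 := d13_1 D186948 (iv7 F368622) (iv5 D186947)
theorem F368627 : act 6 n186948 = n117515 := d14_1 D186948 F233832 (iv6 F346066) F136228 D89409
theorem F368628 : act 1 n148185 = n186948 := d15_1 (iv0 F368584) (iv7 D186948) (iv2 F368580)
theorem F368629 : act 1 n186948 = n175366 := d15_1 F368628 F359670 F250310
def n186949 : Q := act 1 n89412
theorem D186949 : act 1 n89412 = n186949 := rfl
theorem F368630 : act 7 n186949 = n99431 := d15_2 (iv0 F364323) D186949 F364321
theorem F368631 : act 5 n186949 = n99422 := d17_7 D87757 D183966 (iv1 F345094) (iv5 D103927) F293940 D89412 D186949 (iv0 D99422) F73439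
theorem F368632 : act 2 n99428 = n186949 := d2_3 F368631 F155655 D99428
theorem F368633 : act 3 n101197 = n186949 := d6_3 F368631 F153145 D101197
def n186950 : Q := act 4 n89412
theorem D186950 : act 4 n89412 = n186950 := rfl
theorem F368634 : act 2 n186950 = n110954 := d1_1 D186950 F368592 F368587
theorem F368635 : act 6 n186950 = n110950 := d10_2 F368618 D186950 F368621
def n186951 : Q := act 1 n89414
theorem D186951 : act 1 n89414 = n186951 := rfl
theorem F368636 : act 1 n186951 = n127672 := d15_1 D186951 (iv7 F346793) F346791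
theorem F368637 : act 7 n186951 = n95476 := d15_2 (iv0 F360234) D186951 (iv2 F337327)
theorem F368638 : act 4 n186951 = n117281 := d17_9 (iv1 F312756) F312759 F230591 (iv5 D147094) (iv4 F314846) D95293 F339715 (iv5 F137093) D186951
theorem F368639 : act 2 n147208 = n186951 := d1_3 F368638 F242995 D147208
theorem F368640 : act 3 n166529 = n186951 := d5_5 F368638 F183534 (iv4 F315408) (iv3 F122666) (iv4 F262054)
def n186952 : Q := act 0 n89415
theorem D186952 : act 0 n89415 = n186952 := rfl
theorem F368641 : act 4 n186952 = n186599 := d20_2 (iv4 F137094) D186952 F367400 F342235 (iv3 F332645) F332263 (iv1 D71455) (iv4 F107996) (iv3 F307589) (iv1 D89417)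
theorem F368642 : act 2 n186760 = n186952 := d15_3 (iv0 D186952) (iv0 F352644) D186760
theorem F368643 : act 7 n186952 = n95456 := d4_2 D186760 F368642 F147102
theorem F368644 : act 1 n186758 = n186952 := d15_1 D186758 F368643 F147102
def n186953 : Q := act 5 n89415
theorem D186953 : act 5 n89415 = n186953 := rfl
theorem F368645 : act 2 n186953 = n133418 := d2_1 D186953 (iv5 F367281) F367278
theorem F368646 : act 6 n186953 = n102174 := d12_2 D89415 D186953 (iv5 D102174) (iv6 D47437) (iv5 F64398)
theorem F368647 : act 0 n158873 = n186953 := d21_4 F112889 (iv1 F54910) D75805 D158873 F368646 (iv5 D102174) D102172 (iv5 F352910) (iv6 D84285) (iv1 F112888)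
theorem F368648 : act 7 n176762 = n186953 := d15_2 F359399 D176762 F368645
def n186954 : Q := act 7 n89415
theorem D186954 : act 7 n89415 = n186954 := rfl
theorem F368649 : act 2 n186954 = n186758 := d4_1 D186954 F367901 F367278
theorem F368650 : act 3 n186954 = n95329 := d8_1 D186954 F352642 F352639
theorem F368651 : act 4 n186954 = n89419 := d11_1 D186954 (iv7 D89419) (iv4 F137094)
theorem F368652 : act 5 n186954 = n176762 := d13_1 D186954 F368648 (iv5 D186953)
theorem F368653 : act 6 n186954 = n127651 := d14_1 D186954 F362116 (iv6 D186552) F136233 D89415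
theorem F368654 : act 1 n95456 = n186954 := d15_1 (iv0 F367282) (iv7 D186954) (iv2 F367278)
theorem F368655 : act 1 n186954 = n186760 := d15_1 F368654 (iv7 D186760) (iv2 F147102)
theorem F368656 : act 4 n94306 = n176925 := d18_3 (iv1 D176762) (iv4 F292787) D94306 F353334 F137323 D89577 (iv4 F363175) F368654 F368652
def n186955 : Q := act 4 n89416
theorem D186955 : act 4 n89416 = n186955 := rfl
theorem F368657 : act 0 n89575 = n186955 := d20_10 (iv4 D186955) (iv1 F367290) F367903 (iv3 F367902) (iv1 D164452) (iv3 F230848) (iv4 D147255) D147253 F234575 (iv3 F337147)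
def n186956 : Q := act 5 n89416
theorem D186956 : act 5 n89416 = n186956 := rfl
theorem F368658 : act 3 n186956 = n134085 := d6_1 D186956 F354230 F352511
theorem F368659 : act 4 n186956 = n108525 := d18_5 (iv1 D89577) (iv4 F137323) F368657 (iv4 D186955) D186956 F167794 (iv4 F172340) (iv0 F342222) F154055
def n186957 : Q := act 0 n89418
theorem D186957 : act 0 n89418 = n186957 := rfl
theorem F368660 : act 4 n186957 = n108443 := d20_0 (iv1 D108443) (iv4 F80866) (iv3 D51265) (iv1 F53728) D74513 F111874 (iv1 F357639) F368621 F368617 D186957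
theorem F368661 : act 3 n111232 = n186957 := d20_5 (iv4 F53730) (iv1 F38973) (iv4 F39117) D51305 D111232 F368660 (iv1 D108443) (iv4 F80866) (iv3 D51265) (iv1 F53728)
def n186958 : Q := act 1 n89418
theorem D186958 : act 1 n89418 = n186958 := rfl
theorem F368662 : act 4 n108442 = n186958 := d20_0 (iv1 D186958) F364764 (iv3 D108476) (iv1 D50086) (iv3 D24426) (iv4 D11527) D11525 D24422 D50073 D108442
def n186959 : Q := act 7 n89418
theorem D186959 : act 7 n89418 = n186959 := rfl
theorem F368663 : act 3 n186959 = n110947 := d8_1 D186959 (iv7 F368622) F368617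
theorem F368664 : act 5 n186959 = n89419 := d13_1 D186959 (iv7 D89419) D89418
def n186960 : Q := act 4 n89423
theorem D186960 : act 4 n89423 = n186960 := rfl
theorem F368665 : act 2 n186960 = n89424 := d1_1 D186960 (iv4 D89424) D89423
theorem F368666 : act 7 n186960 = n114878 := d11_2 (iv7 F156937) D186960 (iv4 F363409)
theorem F368667 : act 3 n186960 = n114868 := d20_3 F161592 (iv1 F335732) D186960 (iv1 F178955) F83734 F40656 (iv1 F37056) F177795 D76281 (iv1 F356462)
theorem F368668 : act 0 n114433 = n186960 := d20_1 (iv4 F178469) (iv4 D186960) F337254 (iv1 F337251) (iv3 F368167) F368168 F339755 F339756 (iv3 F355681) (iv1 D153342)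
def n186961 : Q := act 6 n89423
theorem D186961 : act 6 n89423 = n186961 := rfl
theorem F368669 : act 2 n186961 = n89425 := d3_1 D186961 (iv6 D89425) D89423
theorem F368670 : act 3 n186961 = n137419 := d7_1 D186961 F337256 (iv3 F337254)
theorem F368671 : act 7 n186961 = n137374 := d14_2 (iv7 F156937) D186961 F220582 D137389 F349942
theorem F368672 : act 5 n134111 = n186961 := d21_8 F335751 (iv1 D88857) D88859 (iv6 F347689) F361679 F336381 F329683 D134111 (iv6 D186961) (iv1 F156959)
theorem F368673 : act 1 n89425 = n146935 := d15_0 (iv0 F347383) (iv7 F368671) F368669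
theorem F368674 : act 4 n176506 = n186961 := d20_8 (iv4 D117478) (iv1 D54134) (iv4 F85442) (iv3 F183978) F339702 D176490 F275806 D176506 F368670 (iv1 F339494)
theorem F368675 : act 6 n186960 = n176506 := d10_0 F368674 (iv6 D186961) D186960
def n186962 : Q := act 0 n89424
theorem D186962 : act 0 n89424 = n186962 := rfl
theorem F368676 : act 4 n186962 = n153344 := d18_3 F289945 D89424 D186962 (iv5 F357339) F137664 (iv0 F70257) (iv4 D41731) F289521 D89095
theorem F368677 : act 1 n114878 = n186962 := d15_0 (iv0 D186962) (iv7 F156960) (iv2 F363410)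
theorem F368678 : act 7 n114433 = n186962 := d11_0 F368676 (iv7 D153344) (iv4 F178469)
theorem F368679 : act 5 n90673 = n186962 := d19_1 D90673 F368676 F240918 (iv1 F309577) (iv5 F134107) (iv4 D42779) (iv3 F66621) F134682 (iv5 F291116) F64430 (iv3 F133494) (iv1 F335761) (iv5 D137602) (iv4 F165308) (iv3 D107261) (iv1 D49555) D49556 (iv4 F335534) F139577
theorem F368680 : act 3 n114886 = n186962 := d20_5 F27674 D23937 F177819 D53011 D114886 F368676 F348701 (iv4 D159471) (iv3 D76281) (iv1 D34843)
theorem F368681 : act 3 n90673 = n92884 := d6_3 F364518 F368680 (iv5 F368679)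
theorem F368682 : act 7 n114477 = n90673 := d8_0 F368681 (iv7 F364519) F251198
def n186963 : Q := act 1 n89424
theorem D186963 : act 1 n89424 = n186963 := rfl
theorem F368683 : act 1 n186963 = n114878 := d15_1 D186963 (iv7 F368666) F368665
theorem F368684 : act 4 n186963 = n153336 := d18_7 F285787 (iv4 F158629) F158630 F156947 F74570 D89424 D186963 (iv0 F357337) (iv5 F356338)
theorem F368685 : act 3 n128051 = n186963 := d20_3 F320180 (iv1 F319834) D128051 (iv1 D186963) F355677 (iv4 D137509) (iv1 F209158) (iv4 F350593) F234847 (iv1 F234845)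
theorem F368686 : act 2 n186963 = n114433 := d0_1 F368685 F178468 F114407 F94781 (iv2 F206060)
theorem F368687 : act 6 n186963 = n90579 := d7_2 (iv6 F206061) F368685 F139418
theorem F368688 : act 5 n90674 = n186963 := d12_5 F368687 F139416 F83459 D114443 F178485
def n186964 : Q := act 5 n89424
theorem D186964 : act 5 n89424 = n186964 := rfl
def n186965 : Q := act 6 n89424
theorem D186965 : act 6 n89424 = n186965 := rfl
theorem F368689 : act 2 n186965 = n176506 := d3_1 D186965 (iv6 F368675) F368665
theorem F368690 : act 4 n186965 = n89425 := d10_1 D186965 (iv6 D89425) D89424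
theorem F368691 : act 7 n176507 = n186965 := d15_2 (iv0 D176506) D176507 F368689
def n186966 : Q := act 0 n89425
theorem D186966 : act 0 n89425 = n186966 := rfl
theorem F368692 : act 6 n186966 = n92510 := d21_5 (iv5 F362403) F335341 F74570 D89425 D186966 (iv5 F358617) F152855 F368430 (iv6 D186892) (iv1 F289510)
theorem F368693 : act 3 n108812 = n186966 := d7_3 F368692 F346099 (iv6 F341479)
theorem F368694 : act 4 n92511 = n186966 := d10_3 F368692 (iv4 D92510) D92511
theorem F368695 : act 0 n186966 = n137374 := d21_4 F368471 (iv1 F152856) F358617 (iv6 F368692) F220582 (iv5 D64578) D64576 D137379 F347716 (iv1 F368473)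
theorem F368696 : act 7 n186966 = n110808 := d15_2 (iv0 F347383) (iv0 F368695) (iv2 F363302)
theorem F368697 : act 5 n108811 = n186966 := d13_3 F368696 (iv5 D110808) (iv7 F168752)
theorem F368698 : act 0 n186965 = n94244 := d17_0 F145319 D104367 F355334 F355306 (iv5 D134597) (iv0 F168753) F368697 (iv0 D186966) (iv4 F368690)
theorem F368699 : act 1 n186965 = n176508 := d15_1 (iv0 F368698) F365715 (iv2 F145317)
def n186967 : Q := act 5 n89425
theorem D186967 : act 5 n89425 = n186967 := rfl
theorem F368700 : act 2 n186967 = n134111 := d2_1 D186967 F368672 F368669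
theorem F368701 : act 3 n186967 = n89431 := d6_1 D186967 (iv5 D89431) (iv3 F137096)
theorem F368702 : act 6 n186967 = n96159 := d12_2 D89425 D186967 F147836 F147829 F74570
theorem F368703 : act 0 n186967 = n123607 := d17_2 (iv1 F368673) D186967 (iv5 D123607) F90767 D114257 F355670 F333215 (iv0 F355276) (iv4 F230332)
theorem F368704 : act 1 n186967 = n134113 := d17_8 (iv1 F214609) (iv5 F347381) (iv1 F178095) F336953 (iv4 F168751) F368697 (iv0 D186966) D186967 F216162
theorem F368705 : act 7 n186967 = n134112 := d15_2 (iv0 F347382) (iv0 F368703) F364335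
def n186968 : Q := act 7 n89425
theorem D186968 : act 7 n89425 = n186968 := rfl
theorem F368706 : act 2 n186968 = n137374 := d4_1 D186968 (iv7 F368671) F368669
theorem F368707 : act 3 n186968 = n89432 := d8_1 D186968 (iv7 D89432) (iv3 F137096)
theorem F368708 : act 4 n186968 = n176507 := d11_1 D186968 F368691 F368690
theorem F368709 : act 5 n186968 = n134112 := d13_1 D186968 (iv7 F368705) (iv5 D186967)
theorem F368710 : act 6 n186968 = n137366 := d14_1 D186968 (iv7 F356507) F156954 (iv7 F74568) D89425
def n186969 : Q := act 0 n89428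
theorem D186969 : act 0 n89428 = n186969 := rfl
theorem F368711 : act 4 n186969 = n134337 := d20_8 (iv4 F229091) (iv1 D145913) (iv4 F105067) (iv3 F230331) (iv1 F368673) F137096 (iv4 F137102) D186969 (iv3 F354736) (iv1 F230308)
theorem F368712 : act 3 n96990 = n186969 := d5_5 F368711 (iv3 F354736) F230306 (iv3 F192114) (iv4 F338159)
theorem F368713 : act 6 n186969 = n96987 := d7_2 D96990 F368712 (iv3 D96987)
def n186970 : Q := act 1 n89428
theorem D186970 : act 1 n89428 = n186970 := rfl
theorem F368714 : act 4 n134333 = n186970 := d20_0 (iv1 D186970) F137102 (iv3 F137096) D186966 (iv3 F368693) F168755 (iv1 F111684) F80851 D63139 (iv1 F354722)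
def n186971 : Q := act 7 n89428
theorem D186971 : act 7 n89428 = n186971 := rfl
theorem F368715 : act 4 n186971 = n89432 := d11_1 D186971 (iv7 D89432) (iv4 F137102)
theorem F368716 : act 6 n186971 = n111837 := d14_1 D186971 (iv7 F329863) F156987 F74605 D89428
def n186972 : Q := act 3 n89429
theorem D186972 : act 3 n89429 = n186972 := rfl
theorem F368717 : act 2 n186972 = n154386 := d0_1 D186972 F242457 (iv2 F354987) (iv3 F367311) F367304
theorem F368718 : act 6 n186972 = n121323 := d7_2 F368358 D186972 (iv3 F368357)
theorem F368719 : act 4 n121325 = n186972 := d10_3 F368718 (iv4 D121323) D121325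
def n186973 : Q := act 4 n89429
theorem D186973 : act 4 n89429 = n186973 := rfl
theorem F368720 : act 1 n186973 = n89444 := d18_6 (iv1 D131920) F96498 D61907 D131934 (iv5 F367305) D186973 F137108 D102557 (iv5 F354692)
theorem F368721 : act 0 n186972 = n143103 := d20_4 (iv4 F137108) (iv1 F368720) (iv4 D186973) D186972 F347290 (iv4 D85106) F60318 (iv4 F105059) (iv3 F354737) (iv1 D102557)
def n186974 : Q := act 4 n89430
theorem D186974 : act 4 n89430 = n186974 := rfl
theorem F368722 : act 0 n186974 = n89444 := d18_2 (iv1 F367301) D186974 F137108 F327938 F96394 D61860 D131835 F352615 (iv5 F367298)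
def n186975 : Q := act 6 n89430
theorem D186975 : act 6 n89430 = n186975 := rfl
theorem F368723 : act 3 n186975 = n154379 := d7_1 D186975 F368227 (iv3 F368226)
theorem F368724 : act 7 n186975 = n154363 := d14_2 F367302 D186975 (iv6 D154363) (iv7 F354983) (iv6 F367312)
theorem F368725 : act 4 n155976 = n186975 := d11_3 F368724 F361977 (iv7 F245015)
theorem F368726 : act 6 n186974 = n155976 := d10_0 F368725 (iv6 D186975) D186974
theorem F368727 : act 3 n155977 = n186974 := d7_3 F368726 (iv3 D155976) D155977
def n186976 : Q := act 4 n89431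
theorem D186976 : act 4 n89431 = n186976 := rfl
theorem F368728 : act 6 n186976 = n96160 := d10_2 (iv6 F137103) D186976 (iv4 D96160)
def n186977 : Q := act 7 n89431
theorem D186977 : act 7 n89431 = n186977 := rfl
theorem F368729 : act 2 n186977 = n136041 := d4_1 D186977 F352613 F147808
theorem F368730 : act 3 n186977 = n134112 := d8_1 D186977 (iv7 F368705) F368701
theorem F368731 : act 5 n186977 = n89432 := d13_1 D186977 (iv7 D89432) D89431
theorem F368732 : act 6 n186977 = n136036 := d14_1 D186977 F218906 (iv6 F329628) (iv7 F70510) (iv6 F137103)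
theorem F368733 : act 0 n101523 = n186977 := d21_4 F136886 (iv1 F64289) D47230 D101523 F368732 (iv5 D136036) (iv1 F99533) F221259 (iv6 F329870) (iv1 F136889)
def n186978 : Q := act 6 n89440
theorem D186978 : act 6 n89440 = n186978 := rfl
theorem F368734 : act 4 n186978 = n186427 := d10_1 D186978 F289221 (iv4 F344530)
def n186979 : Q := act 3 n89441
theorem D186979 : act 3 n89441 = n186979 := rfl
theorem F368735 : act 2 n186979 = n143116 := d0_1 D186979 F368243 (iv2 F368242) (iv3 F355151) F352819
theorem F368736 : act 6 n186979 = n159696 := d7_2 F368344 D186979 (iv3 F368346)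
theorem F368737 : act 7 n186979 = n143117 := d8_2 (iv7 F359237) D186979 F353336
theorem F368738 : act 4 n151663 = n186979 := d20_2 D137932 (iv1 F354838) (iv3 D186979) (iv1 D89441) F329603 (iv4 D59851) F50916 (iv4 F85433) D117431 F329160
def n186980 : Q := act 4 n89441
theorem D186980 : act 4 n89441 = n186980 := rfl
theorem F368739 : act 5 n186980 = n102819 := d9_2 F344547 D186980 F158082 F297235 (iv4 F297250) (iv5 F276243) (iv4 F349520) F156994 F344530 (iv5 D164087) F120001 (iv5 F323961) D50816 D110206 F344520
theorem F368740 : act 7 n186980 = n102818 := d11_2 (iv7 F359237) D186980 F353333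
theorem F368741 : act 0 n186980 = n89446 := d18_2 (iv1 F156992) D186980 F137110 F74861 (iv4 F153709) F349519 (iv4 F344580) F153575 (iv5 F156989)
theorem F368742 : act 1 n186980 = n109938 := d18_8 F325232 F122792 F254940 (iv4 F322504) F94318 F329750 D89441 D186980 (iv5 D109938)
theorem F368743 : act 3 n186980 = n155973 := d20_3 F344532 (iv1 F156992) D186980 (iv1 D155973) F110945 (iv4 F82045) (iv1 F82046) F80436 (iv3 F81395) D111837
theorem F368744 : act 0 n142998 = n186979 := d20_4 (iv4 D140767) F177261 D137899 (iv3 F341549) (iv3 D186979) D186980 F368741 F137110 F321294 (iv1 F223860)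
theorem F368745 : act 1 n143119 = n186979 := d15_0 (iv0 F368744) F341550 (iv2 F335426)
def n186981 : Q := act 6 n89443
theorem D186981 : act 6 n89443 = n186981 := rfl
theorem F368746 : act 3 n186981 = n89444 := d7_1 D186981 (iv6 D89444) D89443
theorem F368747 : act 4 n186981 = n111210 := d10_1 D186981 (iv6 F356525) F356536
def n186982 : Q := act 5 n89444
theorem D186982 : act 5 n89444 = n186982 := rfl
theorem F368748 : act 6 n186982 = n102618 := d12_2 D89444 D186982 (iv5 D102618) (iv6 D47594) F64405
def n186983 : Q := act 6 n89448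
theorem D186983 : act 6 n89448 = n186983 := rfl
theorem F368749 : act 2 n186983 = n157703 := d3_1 D186983 F340700 (iv2 F352745)
theorem F368750 : act 4 n186983 = n146163 := d10_1 D186983 F347918 (iv4 F352747)
theorem F368751 : act 7 n157698 = n186983 := d11_0 F368750 F347920 D157698
def n186984 : Q := act 5 n89449
theorem D186984 : act 5 n89449 = n186984 := rfl
theorem F368752 : act 2 n186984 = n89450 := d2_1 D186984 (iv5 D89450) D89449
theorem F368753 : act 3 n186984 = n102253 := d6_1 D186984 (iv5 F366707) (iv3 F312634)
theorem F368754 : act 6 n186984 = n103081 := d12_2 (iv6 F312636) D186984 (iv5 D103081) (iv6 D47790) (iv5 F71594)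
theorem F368755 : act 7 n186984 = n99812 := d13_2 F357202 D186984 F352735
theorem F368756 : act 4 n186984 = n114615 := d16_2 (iv4 F312635) D186984 (iv5 D114615) F83596 D75588 D158445 (iv5 F368267) (iv7 D186851) F308368
theorem F368757 : act 0 n186984 = n99811 := d17_2 F342451 D186984 F346943 (iv4 D166517) (iv5 F330774) (iv0 D166147) D166150 F350689 (iv4 F340701)
theorem F368758 : act 1 n186984 = n99810 := d17_8 (iv1 D54881) (iv5 D26546) F113935 F318493 (iv4 F84705) (iv5 F346742) F342453 D186984 F337150
def n186985 : Q := act 0 n89452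
theorem D186985 : act 0 n89452 = n186985 := rfl
def n186986 : Q := act 1 n89452
theorem D186986 : act 1 n89452 = n186986 := rfl
theorem F368759 : act 1 n186986 = n101886 := d15_1 D186986 F156829 (iv2 F137115)
def n186987 : Q := act 7 n89452
theorem D186987 : act 7 n89452 = n186987 := rfl
theorem F368760 : act 2 n186987 = n101886 := d4_1 D186987 F156829 (iv2 F137115)
theorem F368761 : act 3 n186987 = n118963 := d8_1 D186987 F323194 (iv3 F339162)
theorem F368762 : act 4 n186987 = n99738 := d11_1 D186987 F153541 (iv4 F137116)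
theorem F368763 : act 5 n186987 = n184064 := d13_1 D186987 F286010 (iv5 F359411)
theorem F368764 : act 6 n186987 = n99737 := d14_1 D186987 (iv7 D99737) F73571 (iv7 F64412) D89452
theorem F368765 : act 1 n101886 = n186985 := d15_0 (iv0 D186985) D186987 F368760
theorem F368766 : act 1 n102276 = n186987 := d15_1 D102276 (iv7 D186987) F137115
theorem F368767 : act 3 n144251 = n186985 := d20_9 F156828 (iv1 F153653) F346669 F134941 F293875 (iv3 F74216) (iv4 F329991) F285784 F365274 (iv1 F368765)
theorem F368768 : act 4 n102408 = n186985 := d20_2 F352889 D102408 (iv3 F368767) (iv1 D144251) (iv3 D67567) (iv4 F111179) F93302 (iv4 F99427) (iv3 F346622) F346620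
theorem F368769 : act 1 n186987 = n102275 := d15_0 (iv0 D102275) (iv7 F156829) (iv2 F368760)
def n186988 : Q := act 5 n89453
theorem D186988 : act 5 n89453 = n186988 := rfl
theorem F368770 : act 2 n186988 = n101884 := d2_1 D186988 F156826 (iv2 F137117)
theorem F368771 : act 6 n186988 = n99736 := d12_2 D89453 D186988 (iv5 D99736) F73571 (iv5 F64417)
theorem F368772 : act 7 n102245 = n186988 := d15_2 F357220 D102245 F368770
theorem F368773 : act 2 n102245 = n130591 := d4_3 F357205 (iv2 F368770) (iv7 F368772)
theorem F368774 : act 1 n186988 = n102246 := d15_0 F365461 F357205 (iv2 F368770)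
theorem F368775 : act 4 n100881 = n102245 := d1_0 F368773 (iv4 F221530) F365301
theorem F368776 : act 5 n186871 = n102245 := d2_0 F368773 (iv5 F357189) (iv2 F368385)
theorem F368777 : act 6 n100879 = n102245 := d3_0 F368773 (iv6 F222719) F365281
theorem F368778 : act 1 n99806 = n186988 := d15_1 (iv0 F365460) (iv7 F368772) F368773
theorem E103275 : n144250 = n144140 := ((c21_4 (iv5 F103445) (iv1 F357463) (iv5 D144139) D144140 (iv1 F365284) F368777 (iv5 F368776) (iv1 F368389) F137107 D102615 F333131)).symm
theorem F368779 : act 0 n144140 = n100879 := (sb E103275 (iv1 F365284))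
theorem F368780 : act 1 n144140 = n67567 := (sb E103275 (iv0 D144250))
theorem F368781 : act 3 n144140 = n103596 := (sb E103275 (iv3 F359403))
theorem F368782 : act 4 n144140 = n184316 := (sb E103275 F359402)
theorem F368783 : act 6 n184316 = n139495 := d10_2 D144140 F368782 F222679
theorem F368784 : act 6 n103596 = n144138 := d7_2 D144140 F368781 (iv3 D144138)
theorem E103276 : n113074 = n100845 := ((c21_3 F365283 F157782 D100845 (iv6 D113074) (iv1 D52189) (iv6 F82505) (iv5 F103445) (iv1 F357463) (iv5 D144139) D144140 F368779)).symm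
theorem F368785 : act 6 n100845 = n52189 := (sb E103276 (iv6 D113074))
def n186989 : Q := act 2 n89454
theorem D186989 : act 2 n89454 = n186989 := rfl
theorem F368786 : act 7 n89455 = n186989 := d15_2 (iv0 D89454) D89455 (iv2 D186989)
def n186990 : Q := act 3 n89454
theorem D186990 : act 3 n89454 = n186990 := rfl
def n186991 : Q := act 5 n89454
theorem D186991 : act 5 n89454 = n186991 := rfl
def n186992 : Q := act 6 n89454
theorem D186992 : act 6 n89454 = n186992 := rfl
theorem F368787 : act 5 n186992 = n91220 := d21_6 (iv5 D41478) (iv1 F31266) (iv5 F31409) D41770 D89454 D186992 (iv1 D91220) D91221 F294960 F74760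
theorem F368788 : act 0 n154363 = n186992 := d21_10 F368787 (iv1 D91220) D91221 F294960 F74760 D88853 F136236 D102354 F368546 D154363
def n186993 : Q := act 7 n89454
theorem D186993 : act 7 n89454 = n186993 := rfl
theorem F368789 : act 2 n186993 = n89455 := d4_1 D186993 F368786 (iv2 D186989)
def n186994 : Q := act 5 n89455
theorem D186994 : act 5 n89455 = n186994 := rfl
def n186995 : Q := act 6 n89455
theorem D186995 : act 6 n89455 = n186995 := rfl
theorem F368790 : act 3 n186995 = n164567 := d7_1 D186995 (iv6 F366834) (iv3 F357199)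
def n186996 : Q := act 0 n89456
theorem D186996 : act 0 n89456 = n186996 := rfl
def n186997 : Q := act 1 n89456
theorem D186997 : act 1 n89456 = n186997 := rfl
def n186998 : Q := act 4 n89456
theorem D186998 : act 4 n89456 = n186998 := rfl
theorem F368791 : act 6 n186998 = n89457 := d10_2 (iv6 F137120) D186998 (iv4 D89457)
def n186999 : Q := act 3 n89457
theorem D186999 : act 3 n89457 = n186999 := rfl
theorem F368792 : act 4 n186999 = n182219 := d5_2 D89457 D186999 F283657 F133521 (iv3 F64418)
theorem F368793 : act 7 n186999 = n89483 := d8_2 (iv7 F137121) D186999 (iv3 D89483)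
def n187000 : Q := act 0 n89461
theorem D187000 : act 0 n89461 = n187000 := rfl
theorem F368794 : act 5 n187000 = n100786 := d21_2 D89461 D187000 (iv6 D100786) (iv1 D46992) (iv6 D22598) D22597 (iv1 F72417) F72415 D82485 F289555
theorem F368795 : act 2 n100870 = n187000 := d2_3 F368794 F154980 D100870
theorem F368796 : act 3 n182181 = n187000 := d6_3 F368794 F154880 (iv5 F356415)
def n187001 : Q := act 1 n89461
theorem D187001 : act 1 n89461 = n187001 := rfl
theorem F368797 : act 7 n187001 = n100870 := d15_2 (iv0 D187000) D187001 F368795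
theorem F368798 : act 5 n100871 = n187001 := d13_3 F368797 (iv5 D100870) D100871
def n187002 : Q := act 4 n89461
theorem D187002 : act 4 n89461 = n187002 := rfl
def n187003 : Q := act 6 n89461
theorem D187003 : act 6 n89461 = n187003 := rfl
theorem F368799 : act 3 n187003 = n89466 := d7_1 D187003 (iv6 D89466) (iv3 F137123)
theorem F368800 : act 5 n187003 = n99800 := d12_1 D187003 (iv6 D99800) F137125 (iv6 D89462) D89461
theorem F368801 : act 6 n186009 = n187001 := d21_3 F293257 D104362 (iv5 F365796) (iv1 D187001) D187003 F368800 F357913 D136918 F220101 (iv1 F293256)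
theorem F368802 : act 4 n187001 = n186010 := d10_1 F368801 (iv6 D186010) D186009
def n187004 : Q := act 3 n89463
theorem D187004 : act 3 n89463 = n187004 := rfl
theorem F368803 : act 2 n187004 = n182159 := d0_1 D187004 (iv3 D182159) (iv2 F133497) (iv3 F73910) F137129
theorem F368804 : act 5 n187004 = n91081 := d6_2 (iv5 F292187) D187004 (iv3 D91081)
theorem F368805 : act 0 n153636 = n187004 := d21_1 (iv5 F363130) F368804 F292186 F157767 (iv6 D22303) D22302 F72917 (iv5 D40315) D40316 D86900
theorem F368806 : act 0 n187004 = n181946 := d21_1 (iv5 F368804) (iv5 D181946) (iv6 F289317) (iv1 F292863) F292865 F283700 (iv1 F157645) (iv5 D87675) D87676 (iv1 F292184)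
def n187005 : Q := act 4 n89463
theorem D187005 : act 4 n89463 = n187005 := rfl
theorem F368807 : act 2 n187005 = n100269 := d1_1 D187005 (iv4 D100269) F137129
theorem F368808 : act 5 n187005 = n92750 := d9_2 (iv5 F292187) D187005 F143024 (iv5 F69034) F69033 (iv5 F35718) D23485 D48326 D104445 F160121 F143030 (iv5 F68271) F67789 F32417 D42660
theorem F368809 : act 0 n187005 = n89613 := d17_0 (iv5 F365794) (iv1 F291718) (iv5 D89484) (iv4 D41780) (iv5 D19653) D19652 D41776 F137128 D187005
theorem F368810 : act 1 n187005 = n89600 := d18_6 F291056 F35979 (iv1 F290869) D42660 (iv5 F292187) D187005 (iv4 D89600) D89599 F291666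
def n187006 : Q := act 6 n89463
theorem D187006 : act 6 n89463 = n187006 := rfl
theorem F368811 : act 2 n187006 = n100266 := d3_1 D187006 F154253 F137129
theorem F368812 : act 5 n187006 = n99331 := d12_1 D187006 (iv6 D99331) (iv5 D46444) F292132 (iv5 F292187)
def n187007 : Q := act 1 n89465
theorem D187007 : act 1 n89465 = n187007 := rfl
theorem F368813 : act 1 n187007 = n89473 := d15_1 D187007 (iv7 F288535) F288533
theorem F368814 : act 5 n187007 = n90448 := d17_7 (iv1 F68270) (iv5 F68271) F69040 D43913 D93949 F365787 D187007 F139366 F139365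
theorem F368815 : act 4 n187007 = n90469 := d17_9 (iv1 F291676) (iv5 D88603) F63726 (iv5 F72601) (iv4 F151801) (iv5 F290990) (iv0 F144771) F365787 D187007
def n187008 : Q := act 0 n89466
theorem D187008 : act 0 n89466 = n187008 := rfl
theorem F368816 : act 4 n187008 = n186748 := d18_3 F356256 (iv4 F365784) D187008 (iv5 D186748) F335743 (iv0 D45367) (iv4 F61715) D87338 D182928
theorem F368817 : act 2 n187002 = n187008 := d1_3 F368816 F367877 D187002
def n187009 : Q := act 1 n89466
theorem D187009 : act 1 n89466 = n187009 := rfl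
theorem F368818 : act 1 n187009 = n102234 := d15_1 D187009 (iv7 D102234) (iv2 F137134)
theorem F368819 : act 7 n187009 = n187002 := d15_2 (iv0 D187008) D187009 F368817
theorem F368820 : act 4 n185997 = n187009 := d20_6 D181973 F283285 (iv4 D93448) (iv3 F73910) (iv1 F135761) (iv3 F288543) (iv1 D187009) F365784 F287661 F135262
theorem F368821 : act 0 n100870 = n185997 := d18_0 F368820 (iv1 D187009) F365784 (iv5 D185422) F135258 (iv0 F158653) (iv4 F291781) F343084 D100870
def n187010 : Q := act 7 n89466
theorem D187010 : act 7 n89466 = n187010 := rfl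
theorem F368822 : act 2 n187010 = n102234 := d4_1 D187010 (iv7 D102234) (iv2 F137134)
theorem F368823 : act 4 n187010 = n182245 := d11_1 D187010 (iv7 F287662) (iv4 F365784)
theorem F368824 : act 5 n187010 = n99805 := d13_1 D187010 (iv7 D99805) (iv5 F137135)
theorem F368825 : act 1 n102234 = n187008 := d15_0 (iv0 D187008) D187010 F368822
theorem F368826 : act 1 n102232 = n187010 := d15_1 D102232 (iv7 D187010) F137134
theorem F368827 : act 0 n187002 = n187010 := d18_2 (iv1 D187001) D187002 F368823 F283682 F134911 (iv0 F148344) F148343 (iv0 F357142) F368798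
theorem E103277 : n187002 = n102231 := (c15_1 (iv0 F368827) (iv0 D102231) D102234 (iv2 F368822))
theorem F368828 : act 0 n102231 = n187010 := (sb E103277 F368827)
theorem F368829 : act 2 n102231 = n187008 := (sb E103277 F368817)
theorem F368830 : act 4 n102231 = n89461 := (sb E103277 (iv4 D187002))
theorem F368831 : act 7 n102231 = n187009 := (sb E103277 (iv7 F368819))
theorem F368832 : act 2 n187009 = n102232 := d15_3 F368826 (iv0 F368828) F368831
theorem F368833 : act 7 n102232 = n187008 := d4_2 F368831 F368832 (iv2 F368829)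
theorem F368834 : act 6 n136524 = n101781 := d21_5 F352830 (iv1 D136521) (iv5 D64179) D64180 D136524 (iv5 F157085) F368828 F368824 F153643 (iv1 F153622)
def n187011 : Q := act 0 n89471
theorem D187011 : act 0 n89471 = n187011 := rfl
theorem F368835 : act 5 n187011 = n91129 := d17_3 F337236 D89471 D187011 (iv4 F356791) (iv5 F356785) (iv0 D89406) (iv5 D41749) D41746 (iv4 F337239)
def n187012 : Q := act 1 n89471
theorem D187012 : act 1 n89471 = n187012 := rfl
theorem F368836 : act 5 n91130 = n187012 := d21_6 (iv5 D101106) (iv1 F155709) F155706 (iv6 F153155) (iv1 F153156) (iv6 F344229) (iv1 D187012) (iv5 D89471) D89472 F338298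
theorem F368837 : act 3 n187012 = n182153 := d6_1 F368836 F344234 (iv3 F339711)
def n187013 : Q := act 4 n89471
theorem D187013 : act 4 n89471 = n187013 := rfl
theorem F368838 : act 5 n187013 = n158940 := d16_3 (iv4 F335688) D89471 D187013 F250273 (iv5 F184117) F339709 (iv5 D150139) (iv7 F335686) F335685
def n187014 : Q := act 6 n89471
theorem D187014 : act 6 n89471 = n187014 := rfl
theorem F368839 : act 3 n187014 = n89474 := d7_1 D187014 (iv6 D89474) (iv3 F137140)
theorem F368840 : act 5 n187014 = n136440 := d12_1 D187014 F344186 F159457 (iv6 D89472) D89471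
theorem F368841 : act 7 n187014 = n136439 := d14_2 F288532 D187014 F219536 (iv7 F329006) (iv6 F288531)
def n187015 : Q := act 3 n89473
theorem D187015 : act 3 n89473 = n187015 := rfl
theorem F368842 : act 5 n187015 = n134318 := d6_2 F365789 D187015 F359590
def n187016 : Q := act 6 n89473
theorem D187016 : act 6 n89473 = n187016 := rfl
theorem F368843 : act 4 n187016 = n89474 := d10_1 D187016 (iv6 D89474) D89473
def n187017 : Q := act 0 n89474
theorem D187017 : act 0 n89474 = n187017 := rfl
def n187018 : Q := act 1 n89474
theorem D187018 : act 1 n89474 = n187018 := rfl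
def n187019 : Q := act 7 n89474
theorem D187019 : act 7 n89474 = n187019 := rfl
theorem F368844 : act 3 n187019 = n136439 := d8_1 D187019 (iv7 F368841) F368839
theorem F368845 : act 5 n187019 = n136432 := d13_1 D187019 F344188 F159460
theorem F368846 : act 6 n187019 = n102234 := d14_1 D187019 (iv7 D102234) (iv6 F135754) F135755 D89474
def n187020 : Q := act 4 n89475
theorem D187020 : act 4 n89475 = n187020 := rfl
theorem F368847 : act 7 n187020 = n102224 := d11_2 F157121 D187020 F365541
theorem F368848 : act 5 n187020 = n99804 := d17_5 F367878 (iv5 D100870) (iv1 F343084) F291782 D187020 F153641 (iv5 F157087) F368825 F368816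
theorem F368849 : act 2 n102229 = n187020 := d2_3 F368848 F365509 D102229
theorem F368850 : act 0 n187020 = n101782 := d21_1 (iv5 F368848) (iv5 D101782) (iv6 D47306) D47303 F346673 (iv5 F346672) F352961 (iv5 D64140) (iv6 F329360) (iv1 F153641)
theorem F368851 : act 4 n101782 = n182224 := d18_3 F357539 D187020 F368850 (iv5 D182224) F133538 (iv0 F70260) F70259 (iv0 F289555) D172215
theorem F368852 : act 6 n182224 = n101786 := d10_2 (iv6 F156647) F368851 (iv4 D101786)
theorem F368853 : act 7 n182932 = n101782 := d11_0 F368851 F283664 D182932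
theorem F368854 : act 5 n101783 = n182932 := d13_3 F368853 (iv5 D101782) D101783
theorem F368855 : act 3 n101786 = n182226 := d7_1 F368852 (iv6 D182226) (iv3 F283663)
theorem F368856 : act 6 n186881 = n153362 := d14_3 (iv7 F283664) F368852 (iv7 F368404) (iv7 F366823) F284506
theorem F368857 : act 3 n153390 = n186881 := d7_3 F368856 F240930 (iv6 F240951)
theorem F368858 : act 4 n153362 = n186882 := d10_1 F368856 (iv6 D186882) D186881
theorem F368859 : act 5 n153345 = n186881 := d12_5 F368856 (iv5 D153362) (iv6 D72456) (iv5 F108981) D153345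
theorem F368860 : act 4 n186749 = n102229 := d1_0 F368849 (iv4 D187020) F367879
theorem F368861 : act 1 n102229 = n182932 := d15_0 (iv0 F365542) (iv7 F368847) (iv2 F368849)
theorem F368862 : act 1 n186884 = n102229 := d15_0 F368861 F368853 (iv2 F368408)
theorem F368863 : act 5 n182930 = n184323 := d17_1 D182930 (iv1 F287655) F365783 (iv4 D102233) (iv5 D47452) D47451 D102229 F368861 (iv4 D182932)
theorem E103278 : n102230 = n101850 := ((c21_5 F307572 (iv1 F307569) (iv5 D47331) D47332 D101850 (iv6 D102230) D102229 (iv1 F368862) F368410 (iv6 D99703) D99700)).symm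
theorem F368864 : act 6 n101850 = n47451 := (sb E103278 (iv6 D102230))
theorem F368865 : act 7 n101850 = n64475 := (sb E103278 F365511)
def n187021 : Q := act 6 n89475
theorem D187021 : act 6 n89475 = n187021 := rfl
theorem F368866 : act 3 n187021 = n89477 := d7_1 D187021 (iv6 D89477) D89475
def n187022 : Q := act 3 n89476
theorem D187022 : act 3 n89476 = n187022 := rfl
def n187023 : Q := act 6 n89476
theorem D187023 : act 6 n89476 = n187023 := rfl
theorem F368867 : act 4 n187023 = n89477 := d10_1 D187023 (iv6 D89477) D89476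
def n187024 : Q := act 0 n89477
theorem D187024 : act 0 n89477 = n187024 := rfl
theorem F368868 : act 6 n187024 = n102229 := d21_5 (iv5 D46789) (iv1 F291132) (iv5 F291785) D89477 D187024 (iv5 D102229) (iv1 D47451) D47452 (iv6 F135754) F135756
def n187025 : Q := act 1 n89477
theorem D187025 : act 1 n89477 = n187025 := rfl
def n187026 : Q := act 7 n89477
theorem D187026 : act 7 n89477 = n187026 := rfl
def n187027 : Q := act 2 n89478
theorem D187027 : act 2 n89478 = n187027 := rfl
def n187028 : Q := act 4 n89478
theorem D187028 : act 4 n89478 = n187028 := rfl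
theorem F368869 : act 5 n187028 = n123778 := d16_3 F292498 F292283 D187028 F340879 F183458 (iv4 F183951) (iv5 F343877) F362385 F159828
def n187029 : Q := act 6 n89478
theorem D187029 : act 6 n89478 = n187029 := rfl
theorem F368870 : act 3 n187029 = n89480 := d7_1 D187029 (iv6 D89480) D89478
def n187030 : Q := act 3 n89479
theorem D187030 : act 3 n89479 = n187030 := rfl
theorem F368871 : act 5 n187030 = n90547 := d6_2 (iv5 F293346) D187030 (iv3 D90547)
def n187031 : Q := act 6 n89479
theorem D187031 : act 6 n89479 = n187031 := rfl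
theorem F368872 : act 4 n187031 = n89480 := d10_1 D187031 (iv6 D89480) D89479
def n187032 : Q := act 0 n89480
theorem D187032 : act 0 n89480 = n187032 := rfl
def n187033 : Q := act 1 n89480
theorem D187033 : act 1 n89480 = n187033 := rfl
def n187034 : Q := act 7 n89480
theorem D187034 : act 7 n89480 = n187034 := rfl
def n187035 : Q := act 3 n89481
theorem D187035 : act 3 n89481 = n187035 := rfl
theorem F368873 : act 5 n187035 = n134169 := d6_2 (iv5 F292676) D187035 F352102
theorem F368874 : act 7 n187035 = n134252 := d8_2 (iv7 F292677) D187035 F365673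
theorem F368875 : act 2 n187035 = n134251 := d15_3 (iv0 D134251) D134252 (iv7 F368874)
theorem F368876 : act 0 n134042 = n187035 := d17_2 F207863 D134042 F368873 (iv4 D134169) (iv5 D63030) (iv0 F93901) F93900 F166287 D129681
theorem F368877 : act 1 n134254 = n187035 := d17_6 (iv1 D61335) F46678 D34137 (iv5 F53595) (iv4 F98380) (iv5 F216283) F368873 (iv0 F329432) F329435
def n187036 : Q := act 6 n89481
theorem D187036 : act 6 n89481 = n187036 := rfl
theorem F368878 : act 4 n187036 = n90481 := d10_1 D187036 (iv6 D90481) (iv4 F292675)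
def n187037 : Q := act 3 n89482
theorem D187037 : act 3 n89482 = n187037 := rfl
theorem F368879 : act 5 n187037 = n90452 := d6_2 (iv5 F291470) D187037 (iv3 D90452)
def n187038 : Q := act 6 n89482
theorem D187038 : act 6 n89482 = n187038 := rfl
theorem F368880 : act 2 n187038 = n136918 := d3_1 D187038 F220101 F292181
theorem F368881 : act 4 n187038 = n98370 := d10_1 D187038 (iv6 D98370) (iv4 F137145)
theorem F368882 : act 5 n187038 = n135999 := d12_1 D187038 (iv6 D135999) F100515 (iv6 F100514) (iv5 F291470)
def n187039 : Q := act 0 n89483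
theorem D187039 : act 0 n89483 = n187039 := rfl
def n187040 : Q := act 1 n89483
theorem D187040 : act 1 n89483 = n187040 := rfl
def n187041 : Q := act 2 n89483
theorem D187041 : act 2 n89483 = n187041 := rfl
theorem F368883 : act 3 n187041 = n134550 := d0_2 D89483 D187041 (iv2 F367185) (iv3 D186003) F135765
theorem F368884 : act 4 n187041 = n182217 := d1_2 (iv4 F137146) D187041 (iv2 D182217)
theorem F368885 : act 5 n134542 = n187041 := d6_0 F368883 (iv5 D134550) (iv3 F216522)
def n187042 : Q := act 5 n89483
theorem D187042 : act 5 n89483 = n187042 := rfl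
theorem F368886 : act 2 n187042 = n134542 := d2_1 D187042 F368885 (iv2 D187041)
theorem F368887 : act 3 n187042 = n89484 := d6_1 D187042 (iv5 D89484) D89483
theorem F368888 : act 6 n134540 = n187042 := d3_0 F368886 (iv6 D134542) D134540
theorem F368889 : act 0 n187042 = n98664 := d21_4 F308420 D154190 F368373 F368888 (iv6 D98664) (iv5 D46121) (iv1 F66255) (iv5 F70473) D96144 F156325
theorem F368890 : act 5 n137138 = n187040 := d21_6 (iv5 F367305) (iv1 F367307) F367298 (iv6 D136041) F220918 D137138 (iv1 D187040) D187042 (iv6 F368888) (iv1 F355061)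
theorem F368891 : act 6 n187040 = n102224 := d12_2 D137138 F368890 (iv5 D102224) F365504 D64469
theorem F368892 : act 1 n187042 = n186809 := d15_1 (iv0 F368889) (iv7 D186809) (iv2 F152105)
def n187043 : Q := act 6 n89484
theorem D187043 : act 6 n89484 = n187043 := rfl
theorem F368893 : act 2 n187043 = n104366 := d3_1 D187043 (iv6 D104366) F292649
theorem F368894 : act 3 n187043 = n134540 := d7_1 D187043 F368888 F368887
theorem F368895 : act 4 n187043 = n90459 := d10_1 D187043 (iv6 D90459) (iv4 F291719)
theorem F368896 : act 0 n187043 = n108811 := d21_10 F368697 F368695 (iv5 D137374) (iv6 D64575) D64572 (iv6 F100514) (iv5 F291470) (iv1 D89482) D89484 D187043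
theorem F368897 : act 7 n187043 = n134596 := d15_2 (iv0 F168753) (iv0 F368896) (iv2 D134596)
theorem E103279 : n134596 = n110806 := ((c15_2 F364200 D110806 (iv7 F368897) F368893)).symm
theorem F368898 : act 2 n110806 = n63244 := (sb E103279 (iv2 D134596))
theorem F368899 : act 5 n110806 = n123606 := (sb E103279 (iv5 F364194))
theorem F368900 : act 7 n110806 = n187043 := (sb E103279 (iv7 F368897))
theorem F368901 : act 0 n110807 = n187043 := d20_1 F217436 F368895 F335808 D115200 F179408 (iv4 F208174) (iv1 F208178) F355275 F355299 (iv1 F217439)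
def n187044 : Q := act 3 n89486
theorem D187044 : act 3 n89486 = n187044 := rfl
theorem F368902 : act 7 n187044 = n98066 := d8_2 (iv7 F335740) D187044 F151219
theorem F368903 : act 0 n187044 = n97120 := d20_4 (iv4 F136913) F335727 (iv4 F335738) D187044 (iv3 F149855) D181945 (iv1 F335694) F151809 F72612 (iv1 F335671)
theorem F368904 : act 4 n187044 = n97072 := d20_6 F61388 F63105 D19663 D41783 D89486 D187044 (iv1 D97072) F71543 (iv3 D40422) (iv1 F63121)
theorem F368905 : act 0 n97115 = n187044 := d20_4 F64177 D43865 D93840 (iv3 F149853) (iv3 D187044) F335738 (iv1 F335730) F335702 (iv3 F335701) (iv1 D89024)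
def n187045 : Q := act 5 n89486
theorem D187045 : act 5 n89486 = n187045 := rfl
theorem F368906 : act 2 n187045 = n182176 := d2_1 D187045 (iv5 D182176) (iv2 F335737)
theorem F368907 : act 6 n187045 = n123795 := d12_2 (iv6 F335739) D187045 F198267 (iv6 F191812) F356444
theorem F368908 : act 7 n187045 = n98069 := d13_2 (iv7 F335740) D187045 (iv5 D98069)
theorem F368909 : act 0 n187045 = n182203 := d17_2 D89486 D187045 F283645 F157184 D102440 (iv0 F304455) F304458 (iv0 F335597) (iv4 F64431)
theorem F368910 : act 1 n187045 = n102394 := d17_6 F356416 F356456 (iv1 F191815) F356444 (iv4 F335738) D187045 (iv5 D102394) F356412 (iv4 F153788)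
def n187046 : Q := act 0 n89489
theorem D187046 : act 0 n89489 = n187046 := rfl
theorem F368911 : act 5 n187046 = n102381 := d21_2 D89489 D187046 F352770 (iv1 D88035) (iv6 D41104) F30984 F21776 D21933 D45855 (iv1 F335735)
theorem F368912 : act 1 n182178 = n187046 := d15_0 (iv0 D187046) F137166 (iv2 F283633)
theorem F368913 : act 2 n182181 = n187046 := d2_3 F368911 F352768 (iv5 F356415)
theorem F368914 : act 7 n182180 = n187046 := d13_0 F368911 (iv7 F356418) (iv5 F356423)
def n187047 : Q := act 1 n89489
theorem D187047 : act 1 n89489 = n187047 := rfl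
theorem F368915 : act 1 n187047 = n182178 := d15_1 D187047 (iv7 F356428) (iv2 F356426)
theorem F368916 : act 7 n187047 = n182181 := d15_2 (iv0 D187046) D187047 F368913
theorem F368917 : act 5 n187047 = n102382 := d17_7 (iv1 F74798) (iv5 F335632) (iv1 D89517) (iv5 D41799) (iv4 F64431) D89489 D187047 F157212 F157208
theorem F368918 : act 2 n182180 = n187047 := d2_3 F368917 F356419 (iv5 F356423)
theorem F368919 : act 6 n170661 = n187047 := d12_0 F368917 F352773 (iv5 F328769) (iv6 F216032) F363086
def n187048 : Q := act 4 n89489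
theorem D187048 : act 4 n89489 = n187048 := rfl
theorem F368920 : act 7 n187048 = n182182 := d11_2 (iv7 F137166) D187048 (iv4 D182182)
def n187049 : Q := act 6 n89489
theorem D187049 : act 6 n89489 = n187049 := rfl
theorem F368921 : act 3 n187049 = n89492 := d7_1 D187049 (iv6 D89492) (iv3 F137165)
theorem F368922 : act 5 n187049 = n101433 := d12_1 D187049 (iv6 D101433) F137169 (iv6 D89490) D89489
def n187050 : Q := act 0 n89490
theorem D187050 : act 0 n89490 = n187050 := rfl
theorem F368923 : act 2 n98082 = n187050 := d15_3 (iv0 D187050) (iv0 F331234) (iv7 F356195)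
theorem F368924 : act 4 n187050 = n170772 := d1_2 F295452 F368923 (iv2 F295451)
theorem F368925 : act 6 n187050 = n94104 := d3_2 D98082 F368923 F270467
theorem F368926 : act 7 n187050 = n139607 := d4_2 (iv7 F356195) F368923 (iv2 F356414)
def n187051 : Q := act 3 n89491
theorem D187051 : act 3 n89491 = n187051 := rfl
theorem F368927 : act 5 n187051 = n183876 := d6_2 (iv5 F137172) D187051 (iv3 D183876)
theorem F368928 : act 7 n187051 = n122450 := d8_2 (iv7 F137171) D187051 F364077
theorem F368929 : act 6 n170663 = n187051 := d14_5 F368928 (iv6 D122450) F301689 D81803 D170663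
def n187052 : Q := act 6 n89491
theorem D187052 : act 6 n89491 = n187052 := rfl
theorem F368930 : act 2 n187052 = n182167 := d3_1 D187052 (iv6 D182167) (iv2 F137170)
theorem F368931 : act 3 n187052 = n170663 := d7_1 D187052 F368929 (iv3 D187051)
theorem F368932 : act 4 n187052 = n89492 := d10_1 D187052 (iv6 D89492) D89491
theorem F368933 : act 7 n187052 = n152898 := d14_2 (iv7 F137171) D187052 (iv6 D152898) (iv7 F187027) F337953
theorem F368934 : act 0 n187052 = n105056 := d21_4 F283293 F135206 (iv5 F137172) D187052 F160975 (iv5 D48554) (iv1 F293440) D41171 (iv6 F135157) (iv1 F337954)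
def n187053 : Q := act 0 n89492
theorem D187053 : act 0 n89492 = n187053 := rfl
theorem F368935 : act 4 n187053 = n185424 := d20_8 (iv4 D100186) F135785 D186015 (iv3 F365795) F363083 (iv3 F368931) F368932 D187053 F365786 (iv1 F154134)
theorem F368936 : act 6 n187053 = n182165 := d21_5 (iv5 D40319) F31424 D41784 D89492 D187053 (iv5 F337964) (iv1 D88217) D88218 F135157 F62375
theorem F368937 : act 2 n182168 = n187053 := d3_3 F368936 (iv2 F283690) (iv6 F364082)
theorem F368938 : act 7 n182169 = n187053 := d15_2 (iv0 D182168) D182169 (iv2 F368937)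
theorem F368939 : act 3 n102231 = n187053 := d5_5 F368935 F365786 (iv4 D89465) (iv3 F137123) (iv4 F368830)
theorem F368940 : act 3 n182169 = n187009 := d8_3 (iv7 F368831) F368939 (iv7 F368938)
def n187054 : Q := act 1 n89492
theorem D187054 : act 1 n89492 = n187054 := rfl
theorem F368941 : act 1 n187054 = n182170 := d15_1 D187054 (iv7 D182170) (iv2 F137173)
theorem F368942 : act 7 n187054 = n182168 := d15_2 (iv0 D187053) D187054 F368937
theorem F368943 : act 2 n182169 = n187054 := d4_3 F368942 F368937 (iv7 F368938)
theorem F368944 : act 1 n182170 = n187053 := d15_1 F368941 (iv7 F368938) F368943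
def n187055 : Q := act 7 n89492
theorem D187055 : act 7 n89492 = n187055 := rfl
theorem F368945 : act 2 n187055 = n182170 := d4_1 D187055 (iv7 D182170) (iv2 F137173)
theorem F368946 : act 4 n187055 = n152898 := d11_1 D187055 (iv7 F368933) F368932
theorem F368947 : act 5 n187055 = n101439 := d13_1 D187055 (iv7 D101439) (iv5 F137174)
theorem F368948 : act 6 n187055 = n152897 := d14_1 D187055 F364079 (iv6 D86990) (iv7 F64434) D89492
theorem F368949 : act 1 n182169 = n187055 := d15_1 D182169 (iv7 D187055) F137173
theorem F368950 : act 1 n187055 = n182168 := d15_1 F368949 (iv7 F368942) (iv2 F368943)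
def n187056 : Q := act 2 n89495
theorem D187056 : act 2 n89495 = n187056 := rfl
theorem F368951 : act 3 n187056 = n185167 := d0_2 D89495 D187056 F287507 F135172 (iv2 F64441)
theorem F368952 : act 4 n187056 = n89544 := d1_2 (iv4 F137186) D187056 (iv2 D89544)
theorem F368953 : act 5 n187056 = n183865 := d2_2 (iv5 F137187) D187056 (iv2 D183865)
theorem F368954 : act 6 n187056 = n139589 := d3_2 F294642 D187056 F336650
theorem F368955 : act 7 n187056 = n185215 := d4_2 (iv7 F137188) D187056 F287534
theorem F368956 : act 1 n187056 = n170772 := d15_0 F356393 (iv7 F137188) D187056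
theorem F368957 : act 1 n185223 = n187056 := d15_0 F368956 F290110 F356391
def n187057 : Q := act 5 n89499
theorem D187057 : act 5 n89499 = n187057 := rfl
theorem F368958 : act 2 n187057 = n98309 := d2_1 D187057 (iv5 D98309) F145302
theorem F368959 : act 7 n187057 = n98312 := d13_2 (iv7 F145301) D187057 (iv5 D98312)
theorem F368960 : act 4 n187057 = n175140 := d16_6 (iv4 F59403) D83684 D175224 F339577 F145349 D187057 F274113 (iv7 D83650) F59387
theorem F368961 : act 0 n187057 = n89524 := d17_2 (iv1 F137208) D187057 F137230 F74121 D93018 (iv0 F143465) (iv5 D92494) (iv0 F136300) (iv4 F72572)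
theorem F368962 : act 1 n187057 = n175280 := d17_6 (iv1 F339762) F339763 F339765 F339577 F145349 D187057 F354875 F157474 F339758
def n187058 : Q := act 5 n89500
theorem D187058 : act 5 n89500 = n187058 := rfl
theorem F368963 : act 2 n187058 = n89501 := d2_1 D187058 (iv5 D89501) D89500
theorem F368964 : act 3 n187058 = n183388 := d6_1 D187058 F285099 (iv3 F137205)
theorem F368965 : act 4 n187058 = n121483 := d9_1 D187058 (iv5 D121483) (iv4 F312735) (iv5 D114721) F83667 (iv5 D42180) (iv4 F34480) D46001 D98316 F335214 (iv4 F309814) (iv5 F335212) F233197 F317458 (iv4 F138577)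
theorem F368966 : act 7 n187058 = n98297 := d13_2 (iv7 F137206) D187058 (iv5 D98297)
theorem F368967 : act 0 n187058 = n98315 := d17_2 (iv1 F137207) D187058 (iv5 F161657) F161656 (iv5 D76460) D76457 D159783 F251781 (iv4 D98308)
theorem F368968 : act 1 n187058 = n98314 := d17_6 D93017 F317465 D145942 F317458 (iv4 F138577) D187058 F363720 (iv0 D100552) F74121
theorem F368969 : act 5 n186611 = n100549 := d21_6 (iv5 F363720) (iv1 F368968) (iv5 D187058) (iv6 F367439) (iv1 F367440) D186611 (iv1 D100549) (iv5 D46908) D46909 D100552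
theorem F368970 : act 0 n98571 = n186611 := d17_0 F368969 (iv1 D100549) (iv5 D46908) F62993 D43520 D93014 (iv5 F291329) D100672 (iv4 F345033)
def n187059 : Q := act 0 n89501
theorem D187059 : act 0 n89501 = n187059 := rfl
theorem F368971 : act 5 n187059 = n102527 := d17_3 (iv1 D89499) D89501 D187059 (iv4 F251789) (iv5 D159786) F321658 (iv5 F178804) (iv0 F339771) F145349
theorem F368972 : act 4 n187059 = n175246 := d18_1 D187059 (iv1 D175246) (iv4 F334593) F304522 F178755 F339773 F145298 (iv0 D89498) D89501
theorem F368973 : act 3 n187059 = n151395 := d20_5 D88865 (iv1 F137216) (iv4 D89502) (iv3 F137210) D187059 F336782 (iv1 D71443) F307282 F63916 D41483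
theorem F368974 : act 0 n102401 = n176122 := d21_1 D102401 (iv5 F365762) (iv6 F367424) F367428 F136463 D89501 D187059 F368971 F251236 (iv1 F139257)
theorem F368975 : act 1 n98297 = n187059 := d15_0 (iv0 D187059) F137211 (iv2 F151710)
theorem F368976 : act 2 n98315 = n187059 := d0_5 F368973 F336781 (iv3 F251122) (iv2 F355680) F355681
theorem F368977 : act 7 n98314 = n187059 := d8_0 F368973 F336783 (iv3 F366793)
def n187060 : Q := act 1 n89501
theorem D187060 : act 1 n89501 = n187060 := rfl
theorem F368978 : act 1 n187060 = n98297 := d15_1 D187060 (iv7 F368966) F368963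
theorem F368979 : act 7 n187060 = n98315 := d15_2 (iv0 D187059) D187060 F368976
theorem F368980 : act 5 n187060 = n102528 := d17_7 F290621 F318687 F316437 F138810 F65113 D89501 D187060 F157475 F154627
theorem F368981 : act 4 n187060 = n175245 := d17_9 (iv1 F274280) (iv5 D83694) (iv1 D38579) D38580 D83698 (iv5 F346298) (iv0 D89498) D89501 D187060
theorem F368982 : act 2 n98314 = n187060 := d16_9 F368981 (iv5 F337069) (iv4 F337067) (iv5 F337036) F315226 D159786 F251789 (iv5 F368971) (iv7 F368977)
def n187061 : Q := act 4 n89501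
theorem D187061 : act 4 n89501 = n187061 := rfl
theorem F368983 : act 2 n187061 = n121483 := d1_1 D187061 (iv4 F368965) F368963
theorem F368984 : act 5 n187061 = n121481 := d9_2 D89501 D187061 F343383 (iv5 F317115) F125479 F106107 (iv4 F72572) D98297 F343384 (iv5 D77642) F297964 (iv5 F308534) (iv4 F315230) F138810 F65113
theorem F368985 : act 7 n187061 = n98316 := d11_2 (iv7 F137211) D187061 (iv4 D98316)
theorem F368986 : act 0 n187061 = n131474 := d18_2 (iv1 D187060) D187061 (iv4 F356468) (iv5 F356989) F156173 F291618 (iv4 F291614) D102528 (iv5 F368980)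

end Cfsg.Agent.Helper17.ONTC
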