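import Cfsg.Agent.Helper17.ONTC.Facts44

set_option autoImplicit false
set_option linter.all false

noncomputable section

namespace Cfsg.Agent.Helper17.ONTC

theorem F368987 : act 1 n187061 = n159054 := d18_6 F290312 (iv4 F67866) F67868 F65113 D89501 D187061 F348525 (iv0 F348526) (iv5 F343008)
theorem F368988 : act 3 n187061 = n147169 := d20_3 (iv4 F368981) (iv1 D187060) D187061 (iv1 D147169) F105207 F51039 D32100 D69008 (iv3 F334573) D175245
def n187062 : Q := act 6 n89501
theorem D187062 : act 6 n89501 = n187062 := rfl
theorem F368989 : act 3 n187062 = n89503 := d7_1 D187062 (iv6 D89503) (iv3 F137210)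
def n187063 : Q := act 3 n89502
theorem D187063 : act 3 n89502 = n187063 := rfl
theorem F368990 : act 2 n187063 = n184198 := d0_1 D187063 F286126 (iv2 F147270) (iv3 F353227) (iv2 F137212)
theorem F368991 : act 4 n187063 = n147169 := d5_2 D89502 D187063 (iv3 F368988) (iv4 D187061) F137210
theorem F368992 : act 5 n187063 = n99954 := d6_2 (iv5 F137213) D187063 (iv3 D99954)
theorem F368993 : act 7 n187063 = n98333 := d8_2 (iv7 F137214) D187063 (iv3 D98333)
theorem F368994 : act 0 n187063 = n109564 := d20_10 (iv4 F171155) F361284 (iv4 F335524) (iv3 F368386) (iv1 F368389) (iv3 D89443) F64404 (iv1 F64456) D89502 D187063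
theorem F368995 : act 0 n149213 = n187063 := d20_4 (iv4 D32502) D32500 D70035 D149213 (iv3 D187063) (iv4 D89502) F64455 F64408 F340925 (iv1 D70044)
def n187064 : Q := act 6 n89502
theorem D187064 : act 6 n89502 = n187064 := rfl
theorem F368996 : act 2 n187064 = n100796 := d3_1 D187064 F353229 (iv2 F137212)
theorem F368997 : act 4 n187064 = n89503 := d10_1 D187064 (iv6 D89503) D89502
theorem F368998 : act 7 n187064 = n95647 := d14_2 (iv7 F137214) D187064 (iv6 D95647) F70250 (iv6 F306525)
theorem F368999 : act 1 n100794 = n187064 := d15_1 D100794 F368998 F147345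
theorem F369000 : act 0 n186990 = n114116 := d20_4 (iv4 F368997) (iv1 F368999) F357192 D186990 F177730 F87725 (iv1 F304012) (iv4 F356483) D122704 (iv1 F356537)
theorem F369001 : act 1 n187064 = n100793 := d15_0 (iv0 D100793) D100796 (iv2 F368996)
def n187065 : Q := act 0 n89503
theorem D187065 : act 0 n89503 = n187065 := rfl
theorem F369002 : act 4 n187065 = n102272 := d20_2 F368997 D187065 F357212 (iv1 D103585) F75350 F36226 D38924 D84415 (iv3 F357197) (iv1 F369001)
theorem F369003 : act 0 n187065 = n100792 := d20_7 F332539 (iv1 F315749) (iv4 F317107) (iv3 F106431) (iv1 F158902) (iv3 F357212) (iv4 F369002) F154890 F74213 D95291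
def n187066 : Q := act 7 n89503
theorem D187066 : act 7 n89503 = n187066 := rfl
theorem F369004 : act 2 n187066 = n100792 := d4_1 D187066 F353232 F157446
theorem F369005 : act 4 n187066 = n95647 := d11_1 D187066 (iv7 F368998) F368997
theorem F369006 : act 6 n187066 = n95646 := d14_1 D187066 F303330 F72580 (iv7 F64454) D89503
def n187067 : Q := act 3 n89516
theorem D187067 : act 3 n89516 = n187067 := rfl
theorem F369007 : act 5 n187067 = n102461 := d6_2 (iv5 F335628) D187067 (iv3 D102461)
theorem F369008 : act 4 n187067 = n186945 := d20_6 D89378 F137060 (iv4 D41803) (iv3 F64457) D89516 D187067 (iv1 D186945) (iv4 D89408) F64388 (iv1 F64376)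
theorem F369009 : act 5 n186945 = n123777 := d17_5 (iv1 F321339) (iv5 D104240) F157413 (iv5 F369007) F369008 (iv0 F340878) F227827 F243207 D146013
theorem F369010 : act 0 n89707 = n187067 := d18_0 F369008 (iv1 D186945) (iv4 D89408) (iv5 D41749) D41748 D89403 (iv4 F335591) (iv0 F335592) D89707
theorem F369011 : act 4 n185431 = n123780 := d16_0 (iv5 D123780) (iv4 F198259) (iv5 F369009) (iv4 F369008) F369007 F157412 D185435 (iv7 F346009) F346007
theorem F369012 : act 1 n182995 = n187067 := d15_0 (iv0 F369010) F345995 (iv2 F345987)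
theorem F369013 : act 2 n145998 = n186945 := d2_3 F369009 F356477 D145998
theorem F369014 : act 2 n187067 = n183990 := d1_3 (iv4 F346801) F369013 (iv4 F369008)
def n187068 : Q := act 4 n89516
theorem D187068 : act 4 n89516 = n187068 := rfl
theorem F369015 : act 2 n187068 = n134243 := d1_1 D187068 F364376 (iv2 F335627)
theorem F369016 : act 7 n187068 = n134242 := d11_2 (iv7 F335629) D187068 F364379
theorem F369017 : act 0 n187068 = n134040 := d18_2 D89516 D187068 (iv4 F356360) (iv5 D89242) F335607 F89706 F72613 (iv0 F335597) D41799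
theorem F369018 : act 3 n187068 = n148534 := d19_3 D47534 (iv5 F335628) D187068 (iv1 F250276) (iv5 F368838) (iv4 D187013) F137140 F292734 (iv5 D48326) (iv4 D23485) (iv3 D11008) (iv1 F7434) F7433 F3360 (iv3 F3321) (iv1 F7033) (iv5 F7348) (iv4 F17313) (iv3 F35411)
theorem F369019 : act 1 n187068 = n134245 := d15_1 (iv0 F369017) (iv7 D134245) (iv2 F216028)
theorem F369020 : act 1 n134245 = n160305 := d15_1 F369019 F364377 (iv2 F369015)
def n187069 : Q := act 3 n89517
theorem D187069 : act 3 n89517 = n187069 := rfl
theorem F369021 : act 5 n187069 = n102466 := d6_2 (iv5 F335632) D187069 (iv3 D102466)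
theorem F369022 : act 6 n187069 = n118747 := d7_2 (iv6 F335633) D187069 F347726
theorem F369023 : act 0 n187069 = n186487 := d20_10 (iv4 F336819) F349058 F336807 F289358 (iv1 F136957) (iv3 F136965) F356360 (iv1 F368214) F360251 D187069
def n187070 : Q := act 3 n89518
theorem D187070 : act 3 n89518 = n187070 := rfl
theorem F369024 : act 2 n187070 = n143512 := d0_1 D187070 (iv3 D143512) (iv2 F226144) (iv3 F364180) (iv2 F363024)
theorem F369025 : act 4 n187070 = n89530 := d5_2 D89518 D187070 (iv3 D89530) (iv4 D41803) (iv3 F64457)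
def n187071 : Q := act 3 n89521
theorem D187071 : act 3 n89521 = n187071 := rfl
theorem F369026 : act 7 n187071 = n98436 := d8_2 (iv7 F335644) D187071 F151860
theorem F369027 : act 0 n187071 = n186488 := d20_10 F289354 F289293 F134470 F134469 (iv1 F64444) D89495 F137186 D89542 F137266 D187071
def n187072 : Q := act 2 n89524
theorem D187072 : act 2 n89524 = n187072 := rfl
theorem F369028 : act 3 n187072 = n138975 := d0_2 D89524 D187072 F346827 F157498 F74790
theorem F369029 : act 5 n187072 = n100547 := d2_2 (iv5 F137230) D187072 F154626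
theorem F369030 : act 7 n187072 = n175280 := d4_2 F157478 D187072 (iv2 F357755)
theorem F369031 : act 1 n187072 = n98309 := d15_0 (iv0 F368188) F157478 D187072
theorem F369032 : act 4 n187072 = n121491 := d16_0 (iv5 F337063) F337062 D170576 F344374 (iv5 D102870) (iv4 F291614) D102530 F157478 D187072
theorem F369033 : act 1 n98312 = n187072 := d15_0 F369031 F335211 (iv2 F335204)
theorem E103280 : n100187 = n100140 := (c21_2 F292681 D100187 (iv5 D100140) (iv6 F177389) (iv1 F153027) D100547 (iv5 F369029) (iv1 F369033) (iv5 D98312) D98313 F345184)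
theorem F369034 : act 1 n100140 = n46760 := (sb E103280 (iv0 D100187))
def n187073 : Q := act 4 n89524
theorem D187073 : act 4 n89524 = n187073 := rfl
theorem F369035 : act 2 n187073 = n121491 := d1_1 D187073 (iv4 F369032) (iv2 D187072)
theorem F369036 : act 0 n187073 = n161656 := d17_0 (iv5 D161656) (iv1 D77641) D77642 (iv4 F343384) (iv5 D98297) F137204 F346298 (iv0 F357756) D187073
theorem F369037 : act 1 n187073 = n161651 := d18_6 (iv1 D101382) (iv4 F142981) F142988 (iv4 F74121) (iv5 F137230) D187073 (iv4 F339570) D186835 F368195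
def n187074 : Q := act 6 n89524
theorem D187074 : act 6 n89524 = n187074 := rfl
theorem F369038 : act 3 n187074 = n89526 := d7_1 D187074 (iv6 D89526) D89524
theorem F369039 : act 5 n187074 = n100551 := d12_1 D187074 (iv6 D100551) (iv5 D46908) D46909 (iv5 F137230)
def n187075 : Q := act 3 n89525
theorem D187075 : act 3 n89525 = n187075 := rfl
theorem F369040 : act 5 n187075 = n102021 := d6_2 (iv5 F137233) D187075 (iv3 D102021)
theorem F369041 : act 7 n187075 = n186919 := d8_2 (iv7 F137232) D187075 (iv3 D186919)
theorem F369042 : act 0 n149179 = n187075 := d20_4 (iv4 D149176) (iv1 D70010) D70011 D149179 (iv3 D187075) (iv4 D89525) (iv1 F64460) D41833 D89574 F337125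
def n187076 : Q := act 6 n89525
theorem D187076 : act 6 n89525 = n187076 := rfl
theorem F369043 : act 2 n187076 = n186918 := d3_1 D187076 (iv6 D186918) (iv2 F137231)
theorem F369044 : act 4 n187076 = n89526 := d10_1 D187076 (iv6 D89526) D89525
def n187077 : Q := act 0 n89526
theorem D187077 : act 0 n89526 = n187077 := rfl
def n187078 : Q := act 7 n89526
theorem D187078 : act 7 n89526 = n187078 := rfl
theorem F369045 : act 5 n187078 = n100559 := d13_1 D187078 (iv7 D100559) (iv5 F137236)
def n187079 : Q := act 0 n89530
theorem D187079 : act 0 n89530 = n187079 := rfl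
theorem F369046 : act 3 n187079 = n127117 := d20_5 (iv4 D89528) (iv1 D41802) D41803 D89530 D187079 F339971 F259234 F352664 F352665 (iv1 F137242)
theorem F369047 : act 5 n127116 = n187079 := d6_0 F369046 (iv5 D127117) D127116
def n187080 : Q := act 1 n89530
theorem D187080 : act 1 n89530 = n187080 := rfl
def n187081 : Q := act 2 n89530
theorem D187081 : act 2 n89530 = n187081 := rfl
theorem F369048 : act 3 n187081 = n143507 := d0_2 D89530 D187081 (iv2 F353151) F353148 F136315
theorem F369049 : act 4 n187081 = n143512 := d1_2 F369025 D187081 (iv2 F369024)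
theorem F369050 : act 5 n187081 = n102246 := d2_2 (iv5 F137244) D187081 (iv2 D102246)
def n187082 : Q := act 6 n89530
theorem D187082 : act 6 n89530 = n187082 := rfl
theorem F369051 : act 3 n187082 = n89531 := d7_1 D187082 (iv6 D89531) D89530
def n187083 : Q := act 5 n89531
theorem D187083 : act 5 n89531 = n187083 := rfl
theorem F369052 : act 6 n187083 = n102251 := d12_2 D89531 D187083 (iv5 D102251) (iv6 D47459) (iv5 F64463)
theorem F369053 : act 0 n160847 = n102251 := d21_4 (iv5 D158015) F112859 D77187 D160847 (iv6 F369052) (iv5 D187083) F368535 (iv5 F368534) (iv6 D166683) (iv1 F248945)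
def n187084 : Q := act 7 n89531
theorem D187084 : act 7 n89531 = n187084 := rfl
theorem F369054 : act 4 n187084 = n89535 := d11_1 D187084 (iv7 D89535) (iv4 F137245)
def n187085 : Q := act 3 n89532
theorem D187085 : act 3 n89532 = n187085 := rfl
def n187086 : Q := act 5 n89532
theorem D187086 : act 5 n89532 = n187086 := rfl
def n187087 : Q := act 3 n89533
theorem D187087 : act 3 n89533 = n187087 := rfl
def n187088 : Q := act 4 n89533
theorem D187088 : act 4 n89533 = n187088 := rfl
theorem F369055 : act 2 n187088 = n186923 := d1_1 D187088 (iv4 F368522) (iv2 F367347)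
theorem F369056 : act 7 n187088 = n186922 := d11_2 (iv7 F367344) D187088 F368517
theorem F369057 : act 0 n187088 = n186552 := d20_1 D187088 F289483 F346063 (iv1 D54190) (iv3 F85514) F85515 D54264 D117806 (iv3 F367352) (iv1 F367354)
theorem F369058 : act 0 n117657 = n187087 := d20_4 F41605 D26214 D54196 D117657 (iv3 D187087) D187088 F369057 F289483 F346063 (iv1 D54190)
theorem F369059 : act 1 n187088 = n186925 := d15_1 (iv0 F369057) (iv7 D186925) (iv2 F289482)
def n187089 : Q := act 5 n89533
theorem D187089 : act 5 n89533 = n187089 := rfl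
theorem F369060 : act 0 n175573 = n187089 := d21_10 (iv5 D187089) (iv1 D89533) D89534 F137246 F64464 (iv6 F72635) (iv5 D46055) (iv1 F154535) D83829 D175573
def n187090 : Q := act 6 n89533
theorem D187090 : act 6 n89533 = n187090 := rfl
def n187091 : Q := act 0 n89534
theorem D187091 : act 0 n89534 = n187091 := rfl
def n187092 : Q := act 1 n89534
theorem D187092 : act 1 n89534 = n187092 := rfl
def n187093 : Q := act 4 n89534
theorem D187093 : act 4 n89534 = n187093 := rfl
theorem F369061 : act 2 n187093 = n102362 := d1_1 D187093 F367350 F367348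
theorem F369062 : act 6 n187093 = n89538 := d10_2 (iv6 F137246) D187093 (iv4 D89538)
def n187094 : Q := act 7 n89534
theorem D187094 : act 7 n89534 = n187094 := rfl
theorem F369063 : act 5 n187094 = n89535 := d13_1 D187094 (iv7 D89535) D89534
def n187095 : Q := act 4 n89536
theorem D187095 : act 4 n89536 = n187095 := rfl
theorem F369064 : act 3 n187095 = n89828 := d5_1 D187095 F291284 F70217 (iv4 F290834) D89536
theorem F369065 : act 6 n187095 = n91291 := d10_2 (iv6 F154636) D187095 F291422
theorem F369066 : act 7 n187095 = n89858 := d11_2 (iv7 F137247) D187095 F137922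
theorem F369067 : act 5 n187095 = n104800 := d16_1 D187095 F346832 (iv5 D65547) D65546 D139661 F359518 F285724 (iv7 F287742) F287741
theorem F369068 : act 0 n187095 = n95752 := d17_0 F356020 (iv1 D111817) (iv5 F321138) F75092 D87876 (iv0 F340567) F340570 (iv0 F137248) D187095
def n187096 : Q := act 6 n89537
theorem D187096 : act 6 n89537 = n187096 := rfl
theorem F369069 : act 2 n187096 = n99943 := d3_1 D187096 (iv6 D99943) F137252
theorem F369070 : act 3 n187096 = n185473 := d7_1 D187096 (iv6 D185473) F137253
theorem F369071 : act 5 n187096 = n99819 := d12_1 D187096 (iv6 D99819) (iv5 D46620) F291467 (iv5 F291466)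
def n187097 : Q := act 3 n89538
theorem D187097 : act 3 n89538 = n187097 := rfl
theorem F369072 : act 7 n187097 = n102357 := d8_2 (iv7 F137262) D187097 (iv3 D102357)
def n187098 : Q := act 5 n89538
theorem D187098 : act 5 n89538 = n187098 := rfl
theorem F369073 : act 2 n187098 = n102361 := d2_1 D187098 (iv5 D102361) (iv2 F137254)
theorem F369074 : act 7 n187098 = n90823 := d13_2 (iv7 F137262) D187098 F290684
theorem F369075 : act 4 n187098 = n90824 := d16_2 D89538 D187098 F139802 F66010 (iv5 F32934) (iv4 F68441) (iv5 F291078) (iv7 F136338) F136328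
theorem F369076 : act 0 n187098 = n89758 := d17_2 (iv1 F137256) D187098 (iv5 F347711) (iv4 D102308) F74652 F64385 D41743 (iv0 F64383) D47470
theorem F369077 : act 1 n187098 = n92520 := d17_6 (iv1 F74878) (iv5 F74880) (iv1 D41806) D41807 D89538 D187098 (iv5 F347712) F157131 (iv4 D47637)
def n187099 : Q := act 6 n89539
theorem D187099 : act 6 n89539 = n187099 := rfl
theorem F369078 : act 2 n187099 = n99939 := d3_1 D187099 (iv6 D99939) (iv2 F137257)
theorem F369079 : act 3 n187099 = n139456 := d7_1 D187099 (iv6 F343239) (iv3 F362122)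
theorem F369080 : act 4 n187099 = n102359 := d10_1 D187099 (iv6 D102359) F137261
theorem F369081 : act 5 n187099 = n100155 := d12_1 D187099 (iv6 D100155) F291165 F290767 (iv5 F137258)
def n187100 : Q := act 1 n89540
theorem D187100 : act 1 n89540 = n187100 := rfl
theorem F369082 : act 1 n187100 = n94100 := d15_1 D187100 F291816 (iv2 F342532)
theorem F369083 : act 7 n187100 = n99075 := d15_2 (iv0 F288488) D187100 F289319
theorem F369084 : act 5 n187100 = n99585 := d17_7 F339147 F308658 (iv1 F342517) F342519 (iv4 D143289) (iv5 F334878) D187100 (iv0 D99585) D99587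
theorem F369085 : act 2 n99074 = n187100 := d2_3 F369084 F288493 (iv5 F157305)
theorem F369086 : act 6 n98651 = n187100 := d21_5 D87680 (iv1 F160578) (iv5 F283700) (iv6 F292865) F292862 F369084 (iv1 F153334) F73565 (iv6 F72129) (iv1 F72131)
def n187101 : Q := act 0 n89541
theorem D187101 : act 0 n89541 = n187101 := rfl
theorem F369087 : act 1 n99011 = n187101 := d15_0 (iv0 D187101) F137265 (iv2 F152549)
def n187102 : Q := act 1 n89541
theorem D187102 : act 1 n89541 = n187102 := rfl
def n187103 : Q := act 2 n89541
theorem D187103 : act 2 n89541 = n187103 := rfl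
theorem F369088 : act 7 n187103 = n99011 := d4_2 (iv7 F137265) D187103 F152549
theorem F369089 : act 1 n187103 = n99016 := d15_0 (iv0 D99016) (iv7 F137265) D187103
theorem F369090 : act 1 n187102 = n99011 := d15_1 D187102 (iv7 F369088) (iv2 D187103)
theorem F369091 : act 5 n102403 = n187102 := d17_7 (iv1 F145632) F144897 (iv1 F135540) (iv5 D88515) F63661 D47515 D102403 F369090 F152550
theorem F369092 : act 7 n187102 = n99017 := d13_2 (iv7 F363856) F369091 F365762
theorem E103281 : n187101 = n186609 := ((c15_4 (iv0 D187101) D187102 F369092 (iv2 F367442))).symm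
theorem F369093 : act 0 n186609 = n99011 := (sb E103281 (iv1 F369087))
theorem F369094 : act 1 n186609 = n89541 := (sb E103281 (iv0 D187101))
theorem F369095 : act 2 n187102 = n99016 := d15_3 (iv0 D99016) D99017 (iv7 F369092)
theorem F369096 : act 7 n99016 = n186609 := d4_2 (iv7 F369092) F369095 F367442
theorem F369097 : act 1 n99017 = n187103 := d15_0 F369089 F369096 F367442
def n187104 : Q := act 6 n89544
theorem D187104 : act 6 n89544 = n187104 := rfl
theorem F369098 : act 2 n187104 = n89546 := d3_1 D187104 (iv6 D89546) D89544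
theorem F369099 : act 3 n187104 = n90827 := d7_1 D187104 (iv6 F367360) F367359
theorem F369100 : act 4 n187104 = n139589 := d10_1 D187104 (iv6 F368954) F368952
theorem F369101 : act 7 n187104 = n90782 := d14_2 (iv7 F357222) D187104 F356459 (iv7 F335696) D122401
theorem F369102 : act 0 n187104 = n90781 := d21_4 D57975 D124355 F357225 D187104 F343887 F326771 (iv1 F325974) (iv5 D99853) (iv6 D46633) F289715
theorem F369103 : act 0 n90780 = n187104 := d21_4 D84686 (iv1 F277443) (iv5 F277451) (iv6 F343865) (iv6 D187104) (iv5 F357225) (iv1 F289743) (iv5 D99843) F289774 (iv1 F289737)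
def n187105 : Q := act 4 n89545
theorem D187105 : act 4 n89545 = n187105 := rfl
theorem F369104 : act 3 n187105 = n102238 := d5_1 D187105 (iv4 D102238) (iv3 D47455) (iv4 F64472) (iv3 F137268)
theorem F369105 : act 1 n187105 = n184626 := d18_6 (iv1 F290105) (iv4 F295452) F336765 F137186 D89545 D187105 (iv4 D184626) (iv0 F356435) F356436
def n187106 : Q := act 5 n89546
theorem D187106 : act 5 n89546 = n187106 := rfl
theorem F369106 : act 3 n187106 = n89548 := d6_1 D187106 (iv5 D89548) (iv3 F137269)
theorem F369107 : act 6 n187106 = n159160 := d12_2 D89546 D187106 (iv5 F343267) (iv6 F343226) (iv5 D89545)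
theorem F369108 : act 7 n187106 = n90783 := d13_2 F292901 D187106 (iv5 D90783)
theorem F369109 : act 0 n187106 = n99350 := d17_2 (iv1 F345084) D187106 (iv5 D99350) F73804 (iv5 F329238) F171641 (iv5 F222712) F222710 D139566
theorem F369110 : act 1 n187106 = n99354 := d17_6 (iv1 F135044) (iv5 F329833) (iv1 F335379) (iv5 F294641) F294640 D187106 (iv5 D99354) F329543 (iv4 F329541)
def n187107 : Q := act 0 n89547
theorem D187107 : act 0 n89547 = n187107 := rfl
def n187108 : Q := act 1 n89547
theorem D187108 : act 1 n89547 = n187108 := rfl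
def n187109 : Q := act 5 n89547
theorem D187109 : act 5 n89547 = n187109 := rfl
theorem F369111 : act 2 n187109 = n90830 := d2_1 D187109 (iv5 F367376) F367374
theorem F369112 : act 3 n187109 = n159160 := d6_1 D187109 (iv5 F343267) F343227
theorem F369113 : act 6 n187109 = n89548 := d12_2 D89547 D187109 (iv5 D89548) (iv6 D41813) D41812
theorem F369114 : act 0 n187109 = n100497 := d21_4 D46914 (iv1 F74126) D89548 (iv6 F369113) (iv6 D100497) (iv5 D46888) (iv1 D22519) D22520 F35080 D22532
def n187110 : Q := act 7 n89547
theorem D187110 : act 7 n89547 = n187110 := rfl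
theorem F369115 : act 4 n187110 = n102243 := d11_1 D187110 (iv7 D102243) (iv4 F137270)
def n187111 : Q := act 4 n89550
theorem D187111 : act 4 n89550 = n187111 := rfl
theorem F369116 : act 2 n187111 = n90823 := d1_1 D187111 (iv4 D90823) F290607
theorem F369117 : act 5 n187111 = n97986 := d9_2 D89550 D187111 F151037 F291078 F68441 F32934 (iv4 F66010) (iv5 F139802) (iv4 F369075) (iv5 D187098) (iv4 D89538) (iv5 D41807) F31429 D19680 D41815
theorem F369118 : act 7 n187111 = n102361 := d11_2 (iv7 F137278) D187111 F157158
theorem F369119 : act 0 n187111 = n92520 := d17_0 (iv5 F347712) F157130 F290981 (iv4 D43285) (iv5 D20431) D20430 D43281 F290602 D187111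
theorem F369120 : act 1 n187111 = n89758 := d18_6 (iv1 F290722) (iv4 D22895) F31440 D41815 D89550 D187111 (iv4 D89758) D89757 F137752
def n187112 : Q := act 6 n89550
theorem D187112 : act 6 n89550 = n187112 := rfl
theorem F369121 : act 2 n187112 = n90820 := d3_1 D187112 F139797 F290607
theorem F369122 : act 3 n187112 = n113981 := d7_1 D187112 F178188 (iv3 F290597)
theorem F369123 : act 5 n187112 = n90346 := d12_1 D187112 (iv6 D90346) (iv5 D42237) F290598 D89550
theorem F369124 : act 7 n187112 = n159597 := d14_2 (iv7 F137278) D187112 (iv6 D159597) (iv7 F290596) (iv6 D102730)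
def n187113 : Q := act 0 n89556
theorem D187113 : act 0 n89556 = n187113 := rfl
theorem F369125 : act 5 n187113 = n159383 := d17_3 (iv1 F360972) F139680 D187113 (iv4 D159383) (iv5 D76240) (iv0 F55051) D68619 (iv0 F166777) (iv4 F238409)
theorem F369126 : act 4 n187113 = n140114 := d18_3 (iv1 D89571) (iv4 F137288) D187113 (iv5 D140114) (iv4 D65758) (iv0 F320853) F328487 (iv0 F328486) (iv5 F328867)
theorem F369127 : act 1 n100684 = n187113 := d15_0 (iv0 D187113) F290889 D100684
theorem F369128 : act 2 n100683 = n187113 := d1_3 F369126 (iv2 F361588) F349212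
theorem F369129 : act 7 n98694 = n187113 := d11_0 F369126 F361589 (iv4 F349235)
def n187114 : Q := act 1 n89556
theorem D187114 : act 1 n89556 = n187114 := rfl
theorem F369130 : act 1 n187114 = n100684 := d15_1 D187114 F329547 F340072
theorem F369131 : act 7 n187114 = n100683 := d15_2 (iv0 D187113) D187114 F369128
theorem F369132 : act 4 n187114 = n140094 := d17_9 F323745 (iv5 D118699) (iv1 F166785) F335920 F155910 (iv5 F335915) (iv0 F360971) F139680 D187114
theorem F369133 : act 6 n90991 = n187114 := d21_3 (iv5 F289196) (iv1 F289200) F367099 (iv1 D187114) (iv6 D89556) F317605 F131154 D69564 F349281 (iv1 F140083)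
theorem F369134 : act 2 n187114 = n98694 := d3_1 F369133 (iv6 D98694) (iv2 F344280)
def n187115 : Q := act 0 n89561
theorem D187115 : act 0 n89561 = n187115 := rfl
def n187116 : Q := act 1 n89561
theorem D187116 : act 1 n89561 = n187116 := rfl
theorem F369135 : act 4 n137593 = n187116 := d20_6 F64095 F64474 (iv4 F72998) D99081 F329008 (iv3 F220753) (iv1 D187116) F137300 (iv3 D41839) F64096
theorem F369136 : act 6 n100683 = n187116 := d21_9 (iv5 F139295) (iv1 F349112) (iv5 D100341) (iv6 D46821) (iv1 F68078) D92677 (iv5 F239746) F328909 (iv5 F349213) (iv1 D187116)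
theorem F369137 : act 7 n187116 = n98699 := d14_2 F369131 F369136 (iv6 D98699) (iv7 F344281) F369133
theorem F369138 : act 2 n98699 = n187115 := d15_3 (iv0 D187115) D187116 F369137
theorem F369139 : act 6 n187115 = n90990 := d3_2 D98699 F369138 F344284
def n187117 : Q := act 2 n89561
theorem D187117 : act 2 n89561 = n187117 := rfl
theorem F369140 : act 3 n187117 = n90244 := d0_2 D89561 D187117 (iv2 F142389) F142390 F67872
theorem F369141 : act 4 n187117 = n89586 := d1_2 (iv4 F137300) D187117 (iv2 D89586)
theorem F369142 : act 6 n187117 = n90128 := d3_2 (iv6 F137301) D187117 (iv2 D90128)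
theorem F369143 : act 1 n98699 = n187117 := d17_8 F157697 (iv5 F153686) (iv1 D47586) (iv5 D22883) (iv4 F35573) D47572 D102567 F361067 F369141
def n187118 : Q := act 3 n89566
theorem D187118 : act 3 n89566 = n187118 := rfl
theorem F369144 : act 4 n187118 = n186903 := d5_2 (iv4 F337122) D187118 (iv3 F368465) (iv4 D149290) (iv3 F317434)
def n187119 : Q := act 3 n89570
theorem D187119 : act 3 n89570 = n187119 := rfl
theorem F369145 : act 2 n187119 = n103328 := d0_1 D187119 (iv3 D103328) (iv2 F292023) F328898 (iv2 F328862)
theorem F369146 : act 5 n187119 = n139532 := d6_2 (iv5 F328863) D187119 (iv3 D139532)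
theorem F369147 : act 6 n187119 = n173892 := d7_2 (iv6 F286040) D187119 (iv3 F331225)
theorem F369148 : act 7 n187119 = n98904 := d8_2 (iv7 F286041) D187119 F152459
theorem F369149 : act 4 n187119 = n100885 := d20_6 (iv4 D20467) (iv1 F291083) (iv4 F31444) (iv3 F64495) D89570 D187119 F356185 F293559 (iv3 D92646) (iv1 D43341)
theorem F369150 : act 1 n183124 = n187119 := d15_1 D183124 F369148 F152458
theorem F369151 : act 1 n187119 = n183123 := d15_0 (iv0 D183123) (iv7 F292851) (iv2 F369145)
def n187120 : Q := act 4 n89570
theorem D187120 : act 4 n89570 = n187120 := rfl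
theorem F369152 : act 2 n187120 = n92893 := d1_1 D187120 F328903 (iv2 F328862)
theorem F369153 : act 5 n187120 = n92891 := d9_2 (iv5 F328863) D187120 F329555 (iv5 D55220) (iv4 D26683) D26684 D55222 (iv5 F328867) (iv4 F137316) (iv5 F142663) F329559 (iv5 D71349) (iv4 D33012) D33013 F322247
theorem F369154 : act 7 n187120 = n93901 := d11_2 (iv7 F286041) D187120 F144728
theorem F369155 : act 0 n187120 = n93908 := d17_0 F360969 F329796 (iv5 D43442) (iv4 F62984) (iv5 F328908) (iv0 F87409) (iv5 F329247) F329246 D187120
theorem F369156 : act 1 n187120 = n93907 := d18_6 D105939 F162677 (iv1 F87375) F322247 (iv5 F328863) D187120 F349214 (iv0 F162681) (iv5 D105941)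
theorem F369157 : act 0 n151345 = n150763 := d21_4 (iv5 F369153) F369155 F360969 (iv6 F238058) (iv6 D150763) (iv5 F114522) F114521 (iv5 F83505) (iv6 F139313) (iv1 F157314)
def n187121 : Q := act 2 n89574
theorem D187121 : act 2 n89574 = n187121 := rfl
theorem F369158 : act 4 n187121 = n143387 := d1_2 (iv4 F337112) D187121 F346244
theorem F369159 : act 5 n187121 = n102237 := d2_2 (iv5 F137322) D187121 (iv2 D102237)
theorem F369160 : act 7 n187121 = n143507 := d4_2 (iv7 F353150) D187121 (iv2 F353151)
theorem F369161 : act 1 n187121 = n166129 := d15_0 (iv0 F261597) (iv7 F353150) D187121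
theorem F369162 : act 1 n105727 = n187121 := d15_0 F369161 F261596 (iv2 F353136)
theorem F369163 : act 6 n95498 = n187121 := d21_5 (iv5 D44610) (iv1 F33456) D21231 D44613 D95498 F369159 (iv1 F359294) (iv5 D103586) (iv6 D47980) (iv1 F70134)
theorem F369164 : act 2 n96531 = n95498 := d3_3 F369163 (iv2 D187121) (iv6 F337137)
theorem F369165 : act 7 n95499 = n96531 := d15_2 (iv0 D95498) D95499 F369164
theorem F369166 : act 7 n96532 = n95498 := d15_2 (iv0 D96531) D96532 (iv2 F369164)
theorem F369167 : act 2 n95499 = n96532 := d4_3 F369166 (iv2 F369164) (iv7 F369165)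
def n187122 : Q := act 7 n89575
theorem D187122 : act 7 n89575 = n187122 := rfl
theorem F369168 : act 3 n187122 = n95499 := d8_1 D187122 F369165 (iv3 F337147)
theorem F369169 : act 4 n187122 = n89579 := d11_1 D187122 (iv7 D89579) (iv4 F137323)
theorem F369170 : act 5 n187122 = n186426 := d13_1 D187122 F367397 F353334
def n187123 : Q := act 3 n89576
theorem D187123 : act 3 n89576 = n187123 := rfl
theorem F369171 : act 2 n187123 = n175389 := d0_1 D187123 (iv3 D175389) (iv2 F342237) (iv3 F367400) F367403
theorem F369172 : act 4 n187123 = n158934 := d5_2 F367907 D187123 (iv3 F334460) F334461 (iv3 F367906)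
theorem F369173 : act 6 n187123 = n158933 := d7_2 (iv6 F361770) D187123 F361768
theorem F369174 : act 0 n187123 = n154101 := d20_4 (iv4 F367280) F367908 F367907 D187123 (iv3 D154101) D154102 (iv1 F345975) F198063 (iv3 F198054) F366861
def n187124 : Q := act 4 n89584
theorem D187124 : act 4 n89584 = n187124 := rfl
theorem F369175 : act 2 n187124 = n93808 := d1_1 D187124 F144607 F137342
theorem F369176 : act 6 n187124 = n91010 := d10_2 (iv6 F294850) D187124 (iv4 D91010)
theorem F369177 : act 3 n93931 = n187124 := d7_3 F369176 F294849 D93931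
def n187125 : Q := act 4 n89585
theorem D187125 : act 4 n89585 = n187125 := rfl
theorem F369178 : act 3 n187125 = n92474 := d5_1 D187125 F291678 F291069 F133551 F137340
theorem F369179 : act 6 n187125 = n92893 := d10_2 (iv6 F328904) D187125 F328903
theorem F369180 : act 7 n187125 = n93808 := d11_2 (iv7 F137341) D187125 F144607
theorem F369181 : act 5 n187125 = n104407 := d17_5 (iv1 F73640) D47583 (iv1 F153692) (iv5 F153696) D187125 (iv0 F359589) (iv5 D90531) F139324 F139321
theorem F369182 : act 0 n187125 = n93842 := d17_0 F183749 (iv1 D117340) F85347 F65444 D46850 (iv0 F137346) (iv5 D89587) D89585 D187125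
theorem F369183 : act 1 n187124 = n93842 := d15_0 (iv0 F369182) F369180 (iv2 F369175)
def n187126 : Q := act 5 n89586
theorem D187126 : act 5 n89586 = n187126 := rfl
theorem F369184 : act 2 n187126 = n89587 := d2_1 D187126 (iv5 D89587) D89586
theorem F369185 : act 3 n187126 = n99971 := d6_1 D187126 (iv5 F195850) (iv3 F356404)
theorem F369186 : act 7 n187126 = n100384 := d13_2 F367361 D187126 (iv5 F367364)
theorem F369187 : act 0 n187126 = n90523 := d21_1 D187126 (iv5 D90523) (iv6 D42366) F31831 D22238 D46431 (iv1 F328485) (iv5 F328863) F286040 (iv1 F157696)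
theorem F369188 : act 0 n99821 = n187126 := d21_1 D99821 (iv5 D187126) F137344 (iv1 F136688) F136686 D89563 (iv1 F137311) (iv5 D47605) F35960 D46621
def n187127 : Q := act 4 n89587
theorem D187127 : act 4 n89587 = n187127 := rfl
theorem F369189 : act 3 n187127 = n102247 := d5_1 D187127 (iv4 D102247) (iv3 D47458) (iv4 F64501) (iv3 F137345)
theorem F369190 : act 0 n138324 = n187127 := d20_10 (iv4 D187127) F137346 D100385 (iv3 F356740) (iv1 F356742) F356743 F98296 D62987 (iv4 F171766) D138324
def n187128 : Q := act 6 n89587
theorem D187128 : act 6 n89587 = n187128 := rfl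
theorem F369191 : act 3 n187128 = n89588 := d7_1 D187128 (iv6 D89588) (iv3 F137345)
def n187129 : Q := act 0 n89588
theorem D187129 : act 0 n89588 = n187129 := rfl
def n187130 : Q := act 1 n89588
theorem D187130 : act 1 n89588 = n187130 := rfl
def n187131 : Q := act 7 n89588
theorem D187131 : act 7 n89588 = n187131 := rfl
theorem F369192 : act 4 n187131 = n102252 := d11_1 D187131 (iv7 D102252) (iv4 F137347)
def n187132 : Q := act 0 n89589
theorem D187132 : act 0 n89589 = n187132 := rfl
theorem F369193 : act 3 n187132 = n100684 := d20_5 (iv4 D22442) F31445 D41841 D89589 D187132 F154796 F329245 (iv4 F137316) F69017 F291336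
theorem F369194 : act 6 n187132 = n94449 := d21_5 F323387 (iv1 F179258) F349136 F291267 D187132 F145629 (iv1 F139262) F135535 F142908 (iv1 D92710)
theorem F369195 : act 2 n94420 = n187132 := d15_3 (iv0 D187132) F295344 (iv7 F292095)
theorem F369196 : act 1 n100672 = n187132 := d15_0 (iv0 D187132) (iv7 F291247) F345031
theorem F369197 : act 7 n187132 = n100673 := d15_2 D100672 F369196 (iv2 D100673)
theorem F369198 : act 5 n187132 = n93013 := d17_7 F340064 (iv5 D87991) (iv1 D41078) D41079 D87995 (iv5 F345134) F369196 (iv0 D93013) D93015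
def n187133 : Q := act 2 n89589
theorem D187133 : act 2 n89589 = n187133 := rfl
theorem F369199 : act 3 n187133 = n144270 := d0_2 D89589 D187133 (iv2 F345178) (iv3 D93054) F290808
theorem F369200 : act 5 n187133 = n152561 := d2_2 (iv5 F349150) D187133 (iv2 F239754)
theorem F369201 : act 6 n187133 = n134473 := d3_2 F291267 D187133 (iv2 F339552)
theorem F369202 : act 7 n187133 = n100672 := d4_2 F291247 D187133 (iv2 F345031)
theorem F369203 : act 1 n187133 = n100673 := d15_0 (iv0 F340070) F291247 D187133
theorem F369204 : act 1 n94420 = n187133 := d15_0 F369203 (iv7 F369197) (iv2 F369195)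
def n187134 : Q := act 0 n89597
theorem D187134 : act 0 n89597 = n187134 := rfl
theorem F369205 : act 5 n187134 = n99979 := d17_3 (iv1 F335671) D89597 D187134 F289890 D102546 F289892 (iv5 D82034) (iv0 D37593) (iv4 F34494)
theorem F369206 : act 1 n98391 = n187134 := d15_0 (iv0 D187134) (iv7 F335609) (iv2 F364392)
theorem F369207 : act 2 n100025 = n187134 := d2_3 F369205 F154185 D100025
theorem F369208 : act 3 n182238 = n187134 := d6_3 F369205 (iv3 F289894) (iv5 F362133)
theorem F369209 : act 6 n156495 = n187134 := d12_0 F369205 (iv6 D99979) D99978 F329241 (iv5 F246040)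
def n187135 : Q := act 1 n89597
theorem D187135 : act 1 n89597 = n187135 := rfl
theorem F369210 : act 1 n187135 = n98391 := d15_1 D187135 (iv7 F364393) F364394
theorem F369211 : act 7 n187135 = n100025 := d15_2 (iv0 D187134) D187135 F369207
theorem F369212 : act 5 n100026 = n187135 := d21_0 (iv1 D187135) (iv5 D89597) (iv6 F136377) F335697 (iv6 D93130) (iv5 F294984) (iv1 F144530) (iv5 D93765) (iv6 F139241) F291473
theorem F369213 : act 6 n187135 = n134256 := d12_2 F294270 F369212 (iv5 D134256) (iv6 F98810) (iv5 F327066)
def n187136 : Q := act 4 n89597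
theorem D187136 : act 4 n89597 = n187136 := rfl
def n187137 : Q := act 6 n89597
theorem D187137 : act 6 n89597 = n187137 := rfl
theorem F369214 : act 3 n187137 = n89601 := d7_1 D187137 (iv6 D89601) (iv3 F137362)
def n187138 : Q := act 3 n89598
theorem D187138 : act 3 n89598 = n187138 := rfl
theorem F369215 : act 5 n187138 = n90793 := d6_2 (iv5 F137363) D187138 F139735
def n187139 : Q := act 4 n89598
theorem D187139 : act 4 n89598 = n187139 := rfl
theorem F369216 : act 2 n187139 = n100186 := d1_1 D187139 (iv4 D100186) F137365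
theorem F369217 : act 7 n187139 = n187007 := d11_2 (iv7 F291435) D187139 F368815
theorem F369218 : act 5 n187139 = n90545 := d16_1 D187139 F139363 (iv5 F69116) (iv4 F291060) F291061 F68883 (iv5 F291666) F137367 F137365
theorem F369219 : act 0 n187139 = n185998 := d17_0 F365790 F159984 F290706 (iv4 D46022) (iv5 D21991) (iv0 F63705) D41853 F137364 D187139
theorem F369220 : act 1 n187139 = n185993 := d18_6 (iv1 F66898) F291438 F73907 (iv4 F66003) (iv5 F137363) D187139 (iv4 D185993) F292106 (iv5 D90464)
theorem F369221 : act 6 n90545 = n153970 := d21_3 (iv5 F365788) (iv1 F369220) F369218 (iv1 D153970) (iv6 F241978) (iv5 D153957) D153955 (iv5 F355303) F336946 (iv1 F159975)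
theorem F369222 : act 4 n153970 = n92747 := d10_1 F369221 (iv6 D92747) (iv4 F139363)
def n187140 : Q := act 6 n89598
theorem D187140 : act 6 n89598 = n187140 := rfl
theorem F369223 : act 2 n187140 = n100183 := d3_1 D187140 F154130 F137365
theorem F369224 : act 5 n187140 = n90795 := d12_1 D187140 (iv6 D90795) (iv5 D42517) D42518 (iv5 F137363)
def n187141 : Q := act 4 n89599
theorem D187141 : act 4 n89599 = n187141 := rfl
theorem F369225 : act 2 n187141 = n187007 := d1_1 D187141 F368815 (iv2 F291665)
theorem F369226 : act 5 n187141 = n90546 := d9_2 (iv5 F291666) D187141 F139359 (iv5 F68177) F67764 F290904 (iv4 F66003) (iv5 F137363) D187139 F369218 F139363 (iv5 F69116) (iv4 F291060) F291061 F68883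
theorem F369227 : act 7 n187141 = n100186 := d11_2 (iv7 F137367) D187141 (iv4 D100186)
theorem F369228 : act 0 n187141 = n185993 := d17_0 F365788 F159974 (iv5 F367451) F367450 F136469 F64056 D41846 D89599 D187141
theorem F369229 : act 1 n187141 = n185998 := d18_6 (iv1 F291132) F65273 D43827 F68883 (iv5 F291666) D187141 (iv4 D185998) F135761 (iv5 D46789)
def n187142 : Q := act 6 n89600
theorem D187142 : act 6 n89600 = n187142 := rfl
theorem F369230 : act 2 n187142 = n187001 := d3_1 D187142 (iv6 F368801) F288575
theorem F369231 : act 3 n187142 = n187047 := d7_1 D187142 (iv6 F368919) (iv3 F365798)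
theorem F369232 : act 4 n187142 = n89601 := d10_1 D187142 (iv6 D89601) D89600
theorem F369233 : act 7 n187000 = n187142 := d8_0 F369231 F368916 F368796
theorem F369234 : act 1 n186748 = n187142 := d15_1 (iv0 F367878) (iv7 F369233) (iv2 F368795)
theorem F369235 : act 1 n187142 = n185997 := d15_1 F369234 F288544 (iv2 F367877)
def n187143 : Q := act 0 n89601
theorem D187143 : act 0 n89601 = n187143 := rfl
def n187144 : Q := act 1 n89601
theorem D187144 : act 1 n89601 = n187144 := rfl
def n187145 : Q := act 7 n89601
theorem D187145 : act 7 n89601 = n187145 := rfl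
theorem F369236 : act 4 n187145 = n187000 := d11_1 D187145 F369233 F369232
def n187146 : Q := act 1 n89606
theorem D187146 : act 1 n89606 = n187146 := rfl
def n187147 : Q := act 2 n89606
theorem D187147 : act 2 n89606 = n187147 := rfl
theorem F369237 : act 3 n187147 = n134473 := d0_2 D89606 D187147 (iv2 F339552) F144893 (iv2 F290987)
theorem F369238 : act 4 n187147 = n144271 := d1_2 F350464 D187147 (iv2 F350460)
theorem F369239 : act 6 n187147 = n144270 := d3_2 F291246 D187147 (iv2 F345178)
theorem F369240 : act 5 n134472 = n187147 := d6_0 F369237 (iv5 D134473) D134472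
theorem F369241 : act 0 n186194 = n134472 := d21_1 D186194 F369240 F369239 (iv1 F345180) (iv6 F204778) (iv5 D127410) (iv1 F94265) F82937 (iv6 F65286) F292573
def n187148 : Q := act 5 n89606
theorem D187148 : act 5 n89606 = n187148 := rfl
theorem F369242 : act 2 n187148 = n134472 := d2_1 D187148 F369240 (iv2 D187147)
theorem F369243 : act 3 n187148 = n89607 := d6_1 D187148 (iv5 D89607) D89606
theorem F369244 : act 1 n187148 = n90420 := d17_6 (iv1 F159106) D103675 F350465 F160340 F350464 D187148 (iv5 D90420) F139165 (iv4 F159104)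
theorem F369245 : act 0 n187148 = n90417 := d21_7 (iv5 F205427) (iv1 D127779) F94471 D90122 F205514 F291246 D187148 (iv5 D90417) F83202 (iv1 F177593)
def n187149 : Q := act 6 n89607
theorem D187149 : act 6 n89607 = n187149 := rfl
def n187150 : Q := act 0 n89611
theorem D187150 : act 0 n89611 = n187150 := rfl
theorem F369246 : act 5 n187150 = n91064 := d17_3 (iv1 F136687) D89611 D187150 F290945 F288144 F283738 (iv5 D159752) F114564 (iv4 F136685)
theorem F369247 : act 3 n187150 = n102233 := d20_5 D187005 F368809 (iv4 D89613) (iv3 F137393) D187150 (iv4 D102233) D102231 F368830 F137123 D89463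
theorem F369248 : act 2 n182248 = n187150 := d15_3 (iv0 D187150) (iv0 F287690) F287688
theorem F369249 : act 1 n98858 = n187150 := d15_0 (iv0 D187150) (iv7 F288568) F288566
def n187151 : Q := act 4 n89611
theorem D187151 : act 4 n89611 = n187151 := rfl
def n187152 : Q := act 6 n89611
theorem D187152 : act 6 n89611 = n187152 := rfl
theorem F369250 : act 3 n187152 = n89614 := d7_1 D187152 (iv6 D89614) (iv3 F137393)
def n187153 : Q := act 5 n89612
theorem D187153 : act 5 n89612 = n187153 := rfl
theorem F369251 : act 2 n187153 = n100439 := d2_1 D187153 (iv5 F367614) F367610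
theorem F369252 : act 3 n187153 = n89615 := d6_1 D187153 (iv5 D89615) (iv3 F137394)
theorem F369253 : act 7 n187153 = n90828 := d13_2 F291252 D187153 (iv5 D90828)
theorem F369254 : act 0 n187153 = n100397 := d21_1 D187153 (iv5 D100397) (iv6 F75840) (iv1 F153723) (iv6 F293579) F293578 (iv1 D183465) (iv5 D87571) D87572 F142412
theorem F369255 : act 0 n90618 = n187153 := d19_0 (iv5 D187153) (iv4 F142407) F142406 (iv1 F290657) (iv5 F290825) (iv4 F142669) F354414 (iv1 F337446) F221912 (iv4 D67582) (iv3 D31393) (iv1 F49627) (iv5 F92831) (iv4 F345174) (iv3 D103806) (iv1 F159224) F294257 (iv4 D104189) (iv3 F139507)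
def n187154 : Q := act 3 n89613
theorem D187154 : act 3 n89613 = n187154 := rfl
def n187155 : Q := act 6 n89613
theorem D187155 : act 6 n89613 = n187155 := rfl
theorem F369256 : act 4 n187155 = n89614 := d10_1 D187155 (iv6 D89614) D89613
def n187156 : Q := act 0 n89614
theorem D187156 : act 0 n89614 = n187156 := rfl
def n187157 : Q := act 1 n89614
theorem D187157 : act 1 n89614 = n187157 := rfl
def n187158 : Q := act 5 n89614
theorem D187158 : act 5 n89614 = n187158 := rfl
theorem F369257 : act 2 n187158 = n90786 := d2_1 D187158 F293927 F288595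
theorem F369258 : act 6 n187158 = n89615 := d12_2 D89614 D187158 (iv5 D89615) (iv6 D41854) D41853
def n187159 : Q := act 7 n89614
theorem D187159 : act 7 n89614 = n187159 := rfl
def n187160 : Q := act 3 n89648
theorem D187160 : act 3 n89648 = n187160 := rfl
theorem F369259 : act 5 n187160 = n186219 := d6_2 (iv5 F292598) D187160 (iv3 D186219)
theorem F369260 : act 7 n187160 = n90113 := d8_2 F292635 D187160 F138555
theorem F369261 : act 0 n187160 = n93789 := d20_4 F68918 D44824 F293176 D187160 (iv3 F144817) (iv4 F283463) F283464 F144662 (iv3 F69383) (iv1 F157583)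
theorem F369262 : act 0 n93784 = n187160 := d20_4 (iv4 F294814) F294811 (iv4 D98692) F144565 (iv3 D187160) (iv4 F293176) (iv1 F144756) (iv4 D93929) (iv3 F294849) F294847
def n187161 : Q := act 6 n89649
theorem D187161 : act 6 n89649 = n187161 := rfl
theorem F369263 : act 2 n187161 = n89651 := d3_1 D187161 (iv6 D89651) D89649
theorem F369264 : act 3 n187161 = n94444 := d7_1 D187161 (iv6 D94444) F292643
theorem F369265 : act 4 n187161 = n97352 := d10_1 D187161 (iv6 D97352) F293175
theorem F369266 : act 0 n187161 = n127410 := d21_4 D88698 D186188 F331405 D187161 F204778 F205484 (iv1 D92964) (iv5 D43492) F291035 D41411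
theorem F369267 : act 0 n90119 = n187161 := d21_4 D102726 F290547 (iv5 D90118) D90119 (iv6 D187161) (iv5 F331405) (iv1 F288971) (iv5 D88703) (iv6 F291601) F290537
def n187162 : Q := act 0 n89652
theorem D187162 : act 0 n89652 = n187162 := rfl
theorem F369268 : act 5 n187162 = n130686 := d17_3 (iv1 F366226) (iv5 F291544) D187162 F209257 D130810 F320276 F334634 F331840 (iv4 F208661)
theorem F369269 : act 2 n94453 = n187162 := d2_3 F369268 F209256 (iv5 F365939)
theorem F369270 : act 7 n94454 = n187162 := d13_0 F369268 F366054 F176983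
def n187163 : Q := act 1 n89652
theorem D187163 : act 1 n89652 = n187163 := rfl
theorem F369271 : act 1 n187163 = n94456 := d15_1 D187163 (iv7 D94456) (iv2 F291542)
theorem F369272 : act 7 n187163 = n94453 := d15_2 (iv0 D187162) D187163 F369269
theorem F369273 : act 6 n113019 = n187163 := d21_3 F152164 F87479 (iv5 F176059) (iv1 D187163) (iv6 D89652) (iv5 D41872) (iv1 F291229) D22075 (iv6 F72755) D98703
theorem F369274 : act 5 n113673 = n187163 := d21_6 (iv5 D22872) (iv1 F35613) D19989 (iv6 F65422) (iv1 F82933) D113673 (iv1 D187163) F291544 (iv6 D102575) (iv1 D47575)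
theorem F369275 : act 2 n187163 = n94454 := d2_1 F369274 (iv5 F176983) F176982
theorem F369276 : act 3 n187163 = n130709 := d6_1 F369274 F209269 F326216
theorem F369277 : act 4 n187163 = n176739 := d20_6 F171493 (iv1 F164649) F365951 (iv3 F365949) F218307 (iv3 F369276) (iv1 D176739) (iv4 F292790) (iv3 F145465) (iv1 F171496)
theorem F369278 : act 7 n176739 = n158125 := d11_2 (iv7 F369272) F369277 F354339
theorem F369279 : act 2 n158125 = n176738 := d15_3 (iv0 D176738) D176739 F369278
theorem F369280 : act 2 n176739 = n158126 := d15_3 F276116 F276117 (iv7 F369278)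
theorem F369281 : act 4 n158126 = n94454 := d1_2 F369277 F369280 (iv2 F369275)
theorem F369282 : act 7 n158126 = n176738 := d4_2 (iv7 F369278) F369280 (iv2 F369279)
theorem F369283 : act 4 n176738 = n187162 := d11_1 F369282 (iv7 F369270) (iv4 F369281)
theorem F369284 : act 6 n113023 = n158126 := d10_0 F369281 (iv6 F145636) D113023
theorem F369285 : act 1 n94456 = n187162 := d15_1 F369271 (iv7 F369270) (iv2 F369275)
def n187164 : Q := act 7 n89652
theorem D187164 : act 7 n89652 = n187164 := rfl
theorem F369286 : act 2 n187164 = n94456 := d4_1 D187164 (iv7 D94456) (iv2 F291542)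
theorem F369287 : act 3 n187164 = n113036 := d8_1 D187164 F331430 (iv3 F291543)
theorem F369288 : act 4 n187164 = n186323 := d11_1 D187164 (iv7 D186323) (iv4 F137449)
theorem F369289 : act 6 n187164 = n94419 := d14_1 D187164 (iv7 D94419) (iv6 D44125) (iv7 F290999) D89652
theorem F369290 : act 1 n94454 = n187164 := d15_1 D94454 (iv7 D187164) F291542
theorem F369291 : act 1 n187164 = n94453 := d15_1 F369290 (iv7 F369272) F369275
theorem F369292 : act 5 n187164 = n130139 := d17_7 D61103 (iv5 F345539) F345535 (iv5 F342148) (iv4 F366056) F176983 F369290 (iv0 D130139) F95614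
theorem F369293 : act 7 n130139 = n102575 := d13_2 D187164 F369292 (iv5 F291544)
theorem F369294 : act 4 n135350 = n130139 := d11_3 F369293 (iv4 F288116) F366467
theorem F369295 : act 4 n176916 = n94330 := d18_7 (iv1 F362718) F217594 D135350 F369294 (iv5 F369292) F369288 F289103 (iv0 D94330) (iv5 F135586)
def n187165 : Q := act 4 n89658
theorem D187165 : act 4 n89658 = n187165 := rfl
theorem F369296 : act 2 n187165 = n102898 := d1_1 D187165 (iv4 D102898) (iv2 F293629)
theorem F369297 : act 6 n187165 = n159764 := d10_2 (iv6 F292540) D187165 (iv4 D159764)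
theorem F369298 : act 7 n187165 = n102893 := d11_2 (iv7 F293630) D187165 (iv4 D102893)
theorem F369299 : act 1 n102110 = n102893 := d15_1 (iv0 F367156) (iv7 F369298) F369296
def n187166 : Q := act 5 n89658
theorem D187166 : act 5 n89658 = n187166 := rfl
theorem F369300 : act 2 n187166 = n94291 := d2_1 D187166 F293771 (iv2 F293629)
theorem F369301 : act 3 n187166 = n96068 := d6_1 D187166 F331384 F292585
theorem F369302 : act 6 n187166 = n159768 := d12_2 (iv6 F292540) D187166 (iv5 D159768) (iv6 D76438) D76437
theorem F369303 : act 7 n187166 = n94290 := d13_2 (iv7 F293630) D187166 F293769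
theorem F369304 : act 0 n187166 = n94288 := d17_2 D89658 D187166 (iv5 D94288) F69421 D89035 F157823 F157822 F293527 F70076
theorem F369305 : act 4 n151685 = n186387 := d18_3 F369304 F360285 D151685 F366992 F157529 F293612 F148532 F137477 D187166
theorem F369306 : act 4 n187166 = n96080 := d19_2 D89658 D187166 (iv3 D96080) (iv1 F147609) F147607 (iv4 D48474) F293033 D42084 F64994 (iv4 F57158) (iv3 F293235) (iv1 D18195) F293113 F13947 D9405 (iv1 F27439) (iv5 F32432) F32433 D41877
theorem F369307 : act 0 n94289 = n93847 := d21_4 D187166 F369304 (iv5 D94288) D94289 (iv6 D93847) D93846 F251745 F251566 F292545 D89658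
theorem F369308 : act 0 n89685 = n187166 := d21_1 (iv5 F137617) (iv5 D187166) F292540 (iv1 F291709) (iv6 F293383) F293382 (iv1 F238556) F238554 (iv6 F294240) (iv1 D92323)
def n187167 : Q := act 3 n89659
theorem D187167 : act 3 n89659 = n187167 := rfl
theorem F369309 : act 4 n187167 = n100151 := d5_2 F293633 D187167 F251754 F153483 (iv3 F153481)
theorem F369310 : act 6 n187167 = n90530 := d7_2 (iv6 F292541) D187167 (iv3 D90530)
theorem F369311 : act 7 n187167 = n102897 := d8_2 (iv7 F293632) D187167 (iv3 D102897)
theorem F369312 : act 0 n98029 = n187167 := d20_10 F369309 F367097 F284089 (iv3 F292483) (iv1 F144873) F293508 F288975 F151160 (iv4 D98030) D98029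
theorem F369313 : act 0 n187167 = n182407 := d20_1 (iv4 F369309) (iv4 D182407) F140159 F344358 F74625 (iv4 F62397) (iv1 F66076) F65838 (iv3 F73859) D100151
def n187168 : Q := act 5 n89659
theorem D187168 : act 5 n89659 = n187168 := rfl
theorem F369314 : act 2 n187168 = n94290 := d2_1 D187168 F293769 (iv2 F293631)
theorem F369315 : act 7 n187168 = n94291 := d13_2 (iv7 F293632) D187168 F293771
theorem F369316 : act 0 n187168 = n89685 := d17_2 (iv1 F137481) D187168 F137617 (iv4 F294175) D89037 F157820 (iv5 D102589) F293612 F148532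
theorem F369317 : act 1 n187168 = n94288 := d17_6 F157630 D186796 F368043 (iv5 F364508) F293633 D187168 (iv5 D94288) F157568 (iv4 F144662)
def n187169 : Q := act 3 n89668
theorem D187169 : act 3 n89668 = n187169 := rfl
theorem F369318 : act 6 n187169 = n99931 := d7_2 (iv6 F350505) D187169 F153863
theorem F369319 : act 7 n187169 = n102918 := d8_2 (iv7 F350506) D187169 (iv3 D102918)
theorem F369320 : act 0 n187169 = n98034 := d20_4 (iv4 F76242) (iv1 F350522) (iv4 F350504) D187169 (iv3 D98034) D98035 F288976 (iv4 F288975) (iv3 F293508) (iv1 D90754)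
theorem F369321 : act 4 n187169 = n90202 := d20_6 (iv4 F31235) (iv1 F30554) (iv4 F31468) D41880 D89668 D187169 (iv1 D90202) F65094 (iv3 D22960) (iv1 F31234)
def n187170 : Q := act 5 n89668
theorem D187170 : act 5 n89668 = n187170 := rfl
theorem F369322 : act 2 n187170 = n94321 := d2_1 D187170 F353201 (iv2 F350503)
theorem F369323 : act 6 n187170 = n113926 := d12_2 (iv6 F350505) D187170 (iv5 D113926) D113927 F177287
theorem F369324 : act 7 n187170 = n94320 := d13_2 (iv7 F350506) D187170 F350498
theorem F369325 : act 1 n187170 = n89687 := d17_6 (iv1 F157280) (iv5 F302691) D144019 F350525 (iv4 F350504) D187170 F137621 (iv0 F294537) (iv4 F71643)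
theorem F369326 : act 1 n94317 = n187170 := d15_0 F369325 (iv7 F292788) (iv2 F145461)
def n187171 : Q := act 5 n89669
theorem D187171 : act 5 n89669 = n187171 := rfl
theorem F369327 : act 2 n187171 = n94320 := d2_1 D187171 F350498 (iv2 F350507)
theorem F369328 : act 3 n187171 = n151664 := d6_1 D187171 (iv5 F288409) F350509
theorem F369329 : act 7 n187171 = n94321 := d13_2 (iv7 F350508) D187171 F353201
theorem F369330 : act 0 n187171 = n89687 := d17_2 (iv1 F137499) D187171 F137621 (iv4 F294529) D45495 D97424 F360348 F138311 F138307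
theorem F369331 : act 1 n187171 = n94317 := d17_6 (iv1 F144791) (iv5 F306979) (iv1 F226697) (iv5 F350512) (iv4 F350510) D187171 (iv5 D94317) (iv0 F294531) F294534
theorem F369332 : act 6 n187171 = n106471 := d21_3 (iv5 D102927) (iv1 F137499) D187171 (iv1 D106471) (iv6 D49195) (iv5 D24007) (iv1 F23490) D29616 D62627 (iv1 F293784)
def n187172 : Q := act 6 n89669
theorem D187172 : act 6 n89669 = n187172 := rfl
theorem F369333 : act 2 n187172 = n90664 := d3_1 D187172 F350500 (iv2 F350507)
theorem F369334 : act 3 n187172 = n159697 := d7_1 D187172 (iv6 F288410) F350509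
theorem F369335 : act 4 n187172 = n104697 := d10_1 D187172 F350515 (iv4 F350510)
theorem F369336 : act 7 n187172 = n90665 := d14_2 (iv7 F350508) D187172 F367166 F160559 F294515
theorem F369337 : act 0 n187172 = n90667 := d21_4 D94317 (iv1 F369331) (iv5 D187171) D187172 F293765 (iv5 F293764) F235284 (iv5 F114668) (iv6 F294535) F294531
theorem F369338 : act 5 n187172 = n121357 := d21_6 (iv5 F83499) (iv1 F177469) (iv5 F293796) (iv6 D102928) (iv1 F137499) D187172 (iv1 F193578) F144680 (iv6 F69389) (iv1 F69391)
theorem F369339 : act 0 n90655 = n187172 := d21_4 (iv5 F178555) F178556 (iv5 D90654) D90655 (iv6 D187172) D187171 F369330 F137621 F293639 F345181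
def n187173 : Q := act 2 n89685
theorem D187173 : act 2 n89685 = n187173 := rfl
theorem F369340 : act 3 n187173 = n94317 := d0_2 D89685 D187173 F145461 F69438 F291762
theorem F369341 : act 5 n187173 = n92324 := d2_2 (iv5 F137617) D187173 (iv2 D92324)
theorem F369342 : act 7 n187173 = n94288 := d4_2 F292782 D187173 F145422
theorem F369343 : act 1 n187173 = n94290 := d15_0 (iv0 D94290) F292782 D187173
theorem F369344 : act 1 n94291 = n187173 := d15_0 F369343 (iv7 F369303) F369300
theorem F369345 : act 4 n151687 = n187173 := d11_3 F369342 F360285 D151687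
def n187174 : Q := act 4 n89685
theorem D187174 : act 4 n89685 = n187174 := rfl
theorem F369346 : act 2 n187174 = n151687 := d1_1 D187174 F369345 (iv2 D187173)
theorem F369347 : act 3 n187174 = n158119 := d5_1 D187174 (iv4 D158119) F112908 (iv4 F64581) D89685
theorem F369348 : act 7 n187174 = n94292 := d11_2 F292782 D187174 (iv4 D94292)
theorem F369349 : act 1 n187174 = n151685 := d18_6 F295034 (iv4 F294939) (iv1 F136699) F294175 (iv5 F137617) D187174 F369305 (iv0 F367580) (iv5 D186659)
theorem F369350 : act 0 n96007 = n158119 := d20_4 (iv4 D95978) (iv1 F70366) D44801 D96007 (iv3 F369347) (iv4 D187174) F369308 F369306 (iv3 D96080) (iv1 F147609)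
theorem F369351 : act 6 n151681 = n187174 := d14_5 F369348 F333573 F107892 D71480 D151681
theorem F369352 : act 1 n151686 = n187174 := d15_1 D151686 F369348 F333571
def n187175 : Q := act 6 n89685
theorem D187175 : act 6 n89685 = n187175 := rfl
theorem F369353 : act 3 n187175 = n89686 := d7_1 D187175 (iv6 D89686) D89685
theorem F369354 : act 4 n187175 = n151681 := d10_1 D187175 F369351 (iv4 D187174)
theorem F369355 : act 5 n187175 = n185780 := d12_1 D187175 (iv6 D185780) (iv5 F292140) (iv6 D92325) (iv5 F137617)
theorem F369356 : act 7 n187175 = n151679 := d14_2 F292782 D187175 (iv6 D151679) (iv7 F360284) (iv6 D94293)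
theorem F369357 : act 0 n157356 = n187175 := d21_4 (iv5 D34289) D34288 D74832 D157356 (iv6 D187175) F137617 (iv1 F294237) (iv5 F97944) (iv6 D62770) (iv1 F54411)
theorem F369358 : act 5 n151679 = n135613 := d13_1 F369356 (iv7 F331844) (iv5 F369355)
theorem F369359 : act 0 n151679 = n112909 := d21_1 (iv5 F369358) F175835 (iv6 D112697) F82181 (iv6 F104878) (iv5 D68669) F323478 (iv5 D63766) D63767 D135613
theorem F369360 : act 0 n146482 = n136958 := d21_4 (iv5 D31952) D31951 D68671 D146482 F363978 (iv5 F369358) F369359 F175835 (iv6 D112697) F82181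
def n187176 : Q := act 0 n89686
theorem D187176 : act 0 n89686 = n187176 := rfl
theorem F369361 : act 6 n187176 = n176048 := d21_5 (iv5 D20367) D20364 (iv5 F64580) D89686 D187176 (iv5 D176048) (iv1 F326573) F293283 (iv6 D47734) F36027
theorem F369362 : act 5 n187176 = n158794 := d21_8 (iv5 F325735) F325731 F327292 (iv6 D41305) D41302 D88484 (iv5 F292648) D187176 (iv6 D158794) F317506
theorem F369363 : act 7 n94331 = n187176 := d14_0 F369361 F365894 F178509 (iv7 F164381) F164384
theorem F369364 : act 2 n187176 = n94330 := d15_3 (iv0 D94330) D94331 F369363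
def n187177 : Q := act 1 n89686
theorem D187177 : act 1 n89686 = n187177 := rfl
theorem F369365 : act 1 n187177 = n94332 := d15_1 D187177 (iv7 D94332) F292789
theorem F369366 : act 7 n187177 = n94330 := d15_2 (iv0 D187176) D187177 (iv2 F369364)
theorem F369367 : act 6 n94264 = n187177 := d21_3 (iv5 D49206) D49203 F145399 (iv1 D187177) (iv6 D89686) F64580 (iv1 F292981) D20902 (iv6 F68993) F86647
theorem F369368 : act 2 n187177 = n94331 := d3_1 F369367 (iv6 F164384) (iv2 F164383)
theorem F369369 : act 1 n94332 = n187176 := d15_1 F369365 (iv7 F369363) (iv2 F369368)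
theorem F369370 : act 1 n158794 = n130819 := d17_8 (iv1 D61365) D61366 (iv1 F345536) F345539 D130161 F336098 F369369 F369362 (iv4 D130819)
theorem F369371 : act 0 n158794 = n130814 := d18_0 (iv4 D130814) (iv1 F209368) (iv4 F366056) F176983 (iv4 F369281) F276116 (iv4 F293809) F369369 F369362
theorem F369372 : act 4 n186322 = n187177 := d18_7 F336095 (iv4 F351700) (iv1 F366375) F288116 (iv5 F291544) F137449 D186322 F369365 (iv5 F336098)
theorem F369373 : act 7 n176916 = n186322 := d11_0 F369372 F369366 (iv4 F369295)
theorem F369374 : act 2 n186322 = n176917 := d15_3 F289102 F289103 F369373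
theorem F369375 : act 2 n176916 = n186321 := d15_3 (iv0 D186321) D186322 (iv7 F369373)
theorem F369376 : act 4 n186321 = n187176 := d1_2 (iv4 F369295) F369375 F369364
theorem F369377 : act 7 n186321 = n176917 := d4_2 (iv7 F369373) F369375 (iv2 F369374)
theorem F369378 : act 4 n176917 = n94331 := d11_1 F369377 F369363 (iv4 F369376)
theorem F369379 : act 6 n113026 = n176917 := d10_0 F369378 (iv6 F164384) (iv4 F176079)
def n187178 : Q := act 7 n89686
theorem D187178 : act 7 n89686 = n187178 := rfl
theorem F369380 : act 2 n187178 = n94332 := d4_1 D187178 (iv7 D94332) F292789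
theorem F369381 : act 3 n187178 = n151679 := d8_1 D187178 (iv7 F369356) F369353
theorem F369382 : act 4 n187178 = n158127 := d11_1 D187178 (iv7 D158127) (iv4 F137620)
theorem F369383 : act 5 n187178 = n185785 := d13_1 D187178 (iv7 D185785) (iv5 F292648)
theorem F369384 : act 6 n187178 = n94308 := d14_1 D187178 (iv7 D94308) (iv6 D44084) F291760 D89686
theorem F369385 : act 1 n94331 = n187178 := d15_1 D94331 (iv7 D187178) (iv2 F292789)
theorem F369386 : act 1 n187178 = n94330 := d15_1 F369385 (iv7 F369366) F369368
def n187179 : Q := act 2 n89687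
theorem D187179 : act 2 n89687 = n187179 := rfl
theorem F369387 : act 3 n187179 = n94288 := d0_2 D89687 D187179 F145422 F69422 F291758
theorem F369388 : act 5 n187179 = n92330 := d2_2 (iv5 F137621) D187179 (iv2 D92330)
theorem F369389 : act 7 n187179 = n94317 := d4_2 F292788 D187179 F145461
theorem F369390 : act 1 n187179 = n94320 := d15_0 (iv0 D94320) F292788 D187179
theorem F369391 : act 1 n94321 = n187179 := d15_0 F369390 (iv7 F369324) F369322
theorem F369392 : act 6 n151682 = n187179 := d7_0 F369387 F360286 D151682
def n187180 : Q := act 4 n89687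
theorem D187180 : act 4 n89687 = n187180 := rfl
theorem F369393 : act 7 n187180 = n94322 := d11_2 F292788 D187180 (iv4 D94322)
theorem F369394 : act 5 n187180 = n166562 := d16_5 (iv4 D97425) (iv5 D45495) F294529 (iv5 F137621) D187180 F281167 (iv5 F358390) (iv7 D137095) (iv2 F331313)
def n187181 : Q := act 6 n89687
theorem D187181 : act 6 n89687 = n187181 := rfl
theorem F369395 : act 2 n187181 = n151682 := d3_1 D187181 F369392 (iv2 D187179)
theorem F369396 : act 3 n187181 = n89688 := d7_1 D187181 (iv6 D89688) D89687
theorem F369397 : act 5 n187181 = n90697 := d12_1 D187181 (iv6 D90697) D90696 (iv6 F293639) (iv5 F137621)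
def n187182 : Q := act 0 n89688
theorem D187182 : act 0 n89688 = n187182 := rfl
def n187183 : Q := act 1 n89688
theorem D187183 : act 1 n89688 = n187183 := rfl
theorem F369398 : act 1 n187183 = n94308 := d15_1 D187183 (iv7 D94308) F292786
theorem F369399 : act 4 n187183 = n186426 := d20_0 (iv1 D186426) F136175 (iv3 F136165) D186401 (iv3 F367388) (iv4 D130602) F95751 D71479 (iv3 F360279) (iv1 F369398)
theorem F369400 : act 7 n94306 = n187183 := d11_0 F369399 F367397 (iv4 F368656)
theorem F369401 : act 0 n186953 = n176764 := d18_0 (iv4 F293806) (iv1 F369398) F369399 (iv5 F369170) F369169 F367401 (iv4 F368641) (iv0 D186952) D186953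
theorem F369402 : act 2 n94306 = n187182 := d15_3 (iv0 D187182) D187183 (iv7 F369400)
theorem F369403 : act 4 n187182 = n186425 := d1_2 (iv4 F368656) F369402 (iv2 F367382)
theorem F369404 : act 7 n94307 = n187182 := d15_2 (iv0 D94306) D94307 (iv2 F369402)
theorem F369405 : act 2 n187183 = n94307 := d4_3 F369404 (iv2 F369402) F369400
theorem F369406 : act 4 n176926 = n94307 := d11_3 F369404 F369403 (iv7 F367398)
theorem F369407 : act 1 n94308 = n187182 := d15_1 F369398 (iv7 F369404) (iv2 F369405)
def n187184 : Q := act 7 n89688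
theorem D187184 : act 7 n89688 = n187184 := rfl
theorem F369408 : act 2 n187184 = n94308 := d4_1 D187184 (iv7 D94308) F292786
theorem F369409 : act 5 n187184 = n90704 := d13_1 D187184 (iv7 D90704) (iv5 F292647)
theorem F369410 : act 6 n187184 = n94332 := d14_1 D187184 (iv7 D94332) (iv6 D44093) F291764 D89688
theorem F369411 : act 1 n94307 = n187184 := d15_1 D94307 (iv7 D187184) (iv2 F292786)
theorem F369412 : act 1 n187184 = n94306 := d15_1 F369411 F369400 F369405
def n187185 : Q := act 3 n89689
theorem D187185 : act 3 n89689 = n187185 := rfl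
def n187186 : Q := act 5 n89689
theorem D187186 : act 5 n89689 = n187186 := rfl
def n187187 : Q := act 6 n89689
theorem D187187 : act 6 n89689 = n187187 := rfl
def n187188 : Q := act 5 n89690
theorem D187188 : act 5 n89690 = n187188 := rfl
theorem F369413 : act 3 n187188 = n105463 := d6_1 D187188 (iv5 F171491) (iv3 F347539)
theorem F369414 : act 6 n187188 = n105453 := d12_2 F361703 D187188 (iv5 D105453) D105454 (iv5 F171486)
def n187189 : Q := act 6 n89692
theorem D187189 : act 6 n89692 = n187189 := rfl
theorem F369415 : act 2 n187189 = n89712 := d3_1 D187189 (iv6 D89712) (iv2 F137625)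
theorem F369416 : act 4 n187189 = n132968 := d10_1 D187189 F338394 (iv4 F356615)
theorem F369417 : act 5 n187189 = n182278 := d12_1 D187189 (iv6 D182278) (iv5 D87034) (iv6 F64590) D89692
theorem F369418 : act 7 n187189 = n154104 := d14_2 (iv7 F137626) D187189 (iv6 D154104) (iv7 F345956) (iv6 D89726)
theorem F369419 : act 4 n183492 = n180360 := d16_0 (iv5 F341760) F354354 D132968 (iv4 F369416) F369417 F283733 (iv5 F353763) (iv7 F364040) (iv2 F365546)
theorem F369420 : act 6 n180360 = n154232 := d10_2 F365545 F369419 F242342
def n187190 : Q := act 1 n89707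
theorem D187190 : act 1 n89707 = n187190 := rfl
theorem F369421 : act 1 n187190 = n182995 := d15_1 D187190 (iv7 F345990) (iv2 F345992)
theorem F369422 : act 7 n187190 = n183990 := d15_2 (iv0 F369010) D187190 (iv2 F369014)
theorem F369423 : act 4 n186944 = n187190 := d20_0 (iv1 D187190) F345993 (iv3 F130901) (iv1 F105904) (iv3 F183534) (iv4 F368638) (iv1 D186951) (iv4 F345662) F356802 D186944
theorem F369424 : act 5 n104239 = n187190 := d21_0 (iv1 D187190) (iv5 D89707) D89708 (iv1 F346020) (iv6 D182631) (iv5 F324219) (iv1 F328978) F328980 (iv6 F147018) (iv1 F362384)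
theorem F369425 : act 6 n187190 = n117543 := d21_3 (iv5 F343877) (iv1 F362384) F369424 F348007 (iv6 D122837) (iv5 D57107) (iv1 D27379) D27381 D57114 (iv1 F321344)
def n187191 : Q := act 3 n89709
theorem D187191 : act 3 n89709 = n187191 := rfl
theorem F369426 : act 5 n187191 = n96415 := d6_2 (iv5 F291576) D187191 (iv3 D96415)
theorem F369427 : act 4 n186902 = n187191 := d20_2 D89367 D186902 (iv3 D187191) (iv1 F137679) (iv3 F137718) (iv4 F346301) (iv1 D144966) (iv4 F105681) (iv3 F347747) (iv1 D89366)
def n187192 : Q := act 4 n89709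
theorem D187192 : act 4 n89709 = n187192 := rfl
theorem F369428 : act 2 n187192 = n184087 := d1_1 D187192 (iv4 D184087) F137680
theorem F369429 : act 7 n187192 = n186838 := d11_2 (iv7 F291577) D187192 F368203
theorem F369430 : act 5 n187192 = n96393 := d16_1 D187192 (iv4 D96393) F70793 F291571 (iv5 F137352) (iv4 F291022) (iv5 F291569) F137682 F137680
theorem F369431 : act 0 n187192 = n186830 := d17_0 F368163 F160343 F344675 (iv4 D87352) (iv5 D40602) (iv0 F63711) D41909 F137679 D187192
theorem F369432 : act 1 n187192 = n186828 := d18_6 (iv1 F291368) (iv4 F67002) (iv1 F73745) (iv4 F291027) (iv5 F291576) D187192 (iv4 D186828) F292052 (iv5 D95379)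
def n187193 : Q := act 6 n89709
theorem D187193 : act 6 n89709 = n187193 := rfl
theorem F369433 : act 2 n187193 = n184085 := d3_1 D187193 F286025 F137680
theorem F369434 : act 5 n187193 = n103344 := d12_1 D187193 (iv6 D103344) (iv5 D47883) F291578 (iv5 F291576)
def n187194 : Q := act 4 n89710
theorem D187194 : act 4 n89710 = n187194 := rfl
theorem F369435 : act 2 n187194 = n186838 := d1_1 D187194 F368203 (iv2 F291568)
theorem F369436 : act 3 n187194 = n148205 := d5_1 D187194 F232034 F223259 (iv4 F337099) F157852
theorem F369437 : act 5 n187194 = n96396 := d9_2 (iv5 F291569) D187194 (iv4 D96396) (iv5 F70787) F70202 F291029 (iv4 F291027) (iv5 F291576) D187192 F369430 (iv4 D96393) F70793 F291571 (iv5 F137352) (iv4 F291022)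
theorem F369438 : act 6 n187194 = n148203 := d10_2 (iv6 F359697) D187194 F232031
theorem F369439 : act 7 n187194 = n184087 := d11_2 (iv7 F137682) D187194 (iv4 D184087)
theorem F369440 : act 0 n187194 = n186828 := d17_0 F368155 F160336 (iv5 F348700) F206342 F309400 (iv0 D41898) D41900 D89710 D187194
theorem F369441 : act 1 n187194 = n186830 := d18_6 D42761 F290708 (iv1 F290710) (iv4 F291022) (iv5 F291569) D187194 (iv4 D186830) F136924 (iv5 D42763)
def n187195 : Q := act 0 n89712
theorem D187195 : act 0 n89712 = n187195 := rfl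
theorem F369442 : act 3 n187195 = n89768 := d20_5 F184099 (iv1 F85478) D54201 (iv3 F345998) D187195 (iv4 D89768) F291316 (iv4 F157155) F352984 (iv1 F184103)
theorem F369443 : act 4 n187195 = n182294 := d20_8 F283814 F135488 F321777 (iv3 F320189) F320187 (iv3 F208147) F346000 D187195 (iv3 D182294) D182293
theorem F369444 : act 6 n187195 = n117557 := d21_5 (iv5 D40602) (iv1 F63552) D41900 D89712 D187195 F355528 (iv1 F329316) (iv5 F350038) F350039 (iv1 D87351)
theorem F369445 : act 0 n187195 = n154104 := d21_4 F328818 D64730 (iv5 F355528) (iv6 F369444) (iv6 D154104) D154103 F353932 D179158 F353933 (iv1 D117462)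
def n187196 : Q := act 1 n89712
theorem D187196 : act 1 n89712 = n187196 := rfl
theorem F369446 : act 1 n187196 = n154104 := d15_1 D187196 (iv7 F369418) F369415
def n187197 : Q := act 5 n89712
theorem D187197 : act 5 n89712 = n187197 := rfl
theorem F369447 : act 2 n187197 = n182278 := d2_1 D187197 (iv5 F369417) F369415
theorem F369448 : act 3 n187197 = n117664 := d6_1 D187197 (iv5 D117664) (iv3 F345998)
theorem F369449 : act 6 n187197 = n89713 := d12_2 D89712 D187197 (iv5 D89713) (iv6 D41901) D41900
theorem F369450 : act 4 n183884 = n187197 := d10_3 F369449 F137688 D183884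
theorem F369451 : act 7 n184981 = n187197 := d14_0 F369449 F137685 (iv6 F338027) F310892 D184981
theorem F369452 : act 1 n97987 = n184981 := d15_1 (iv0 F354904) F369451 F369447
def n187198 : Q := act 7 n89712
theorem D187198 : act 7 n89712 = n187198 := rfl
theorem F369453 : act 2 n187198 = n154104 := d4_1 D187198 (iv7 F369418) F369415
theorem F369454 : act 3 n187198 = n117519 := d8_1 D187198 F184105 (iv3 F345998)
theorem F369455 : act 4 n187198 = n132651 := d11_1 D187198 F212943 F346000
theorem F369456 : act 5 n187198 = n184981 := d13_1 D187198 F369451 (iv5 D187197)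
theorem F369457 : act 6 n187198 = n124685 := d14_1 D187198 F342702 (iv6 F309396) F137633 D89712
def n187199 : Q := act 1 n89718
theorem D187199 : act 1 n89718 = n187199 := rfl
theorem F369458 : act 7 n187199 = n159815 := d15_2 F367178 D187199 F251850
theorem F369459 : act 4 n113746 = n187199 := d20_0 (iv1 D187199) F367176 F144768 (iv1 F75904) (iv3 F61527) (iv4 D40440) (iv1 F290840) (iv4 F64546) (iv3 F137447) F290836
theorem F369460 : act 6 n187199 = n97428 := d10_2 (iv6 F350549) F369459 F350548
def n187200 : Q := act 2 n89718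
theorem D187200 : act 2 n89718 = n187200 := rfl
theorem F369461 : act 3 n187200 = n166208 := d0_2 D89718 D187200 F261689 (iv3 F327382) (iv2 F292507)
theorem F369462 : act 4 n187200 = n159804 := d1_2 (iv4 F367176) D187200 (iv2 F251947)
theorem F369463 : act 1 n159815 = n187200 := d17_8 (iv1 D159804) F114614 (iv1 D52539) F40335 (iv4 F33423) D44526 D95323 (iv5 F251852) F369462
theorem F369464 : act 5 n166207 = n187200 := d6_0 F369461 (iv5 D166208) D166207
def n187201 : Q := act 5 n89718
theorem D187201 : act 5 n89718 = n187201 := rfl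
theorem F369465 : act 2 n187201 = n166207 := d2_1 D187201 F369464 (iv2 D187200)
theorem F369466 : act 3 n187201 = n89719 := d6_1 D187201 (iv5 D89719) D89718
theorem F369467 : act 1 n187201 = n95320 := d17_6 (iv1 F143147) D92804 F367179 F159981 (iv4 F367176) D187201 (iv5 D95320) F146955 F146952
theorem F369468 : act 1 n95316 = n187201 := d15_0 F369467 F347480 F347476
def n187202 : Q := act 6 n89723
theorem D187202 : act 6 n89723 = n187202 := rfl
theorem F369469 : act 3 n187202 = n89726 := d7_1 D187202 (iv6 D89726) (iv3 F137718)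
theorem F369470 : act 7 n154101 = n187202 := d8_0 F369469 F345956 D154101
theorem F369471 : act 0 n187202 = n175389 := d20_4 (iv4 F94775) D128106 F345968 (iv3 F369469) (iv3 D175389) (iv4 F316072) F316070 (iv4 F336355) (iv3 D154278) (iv1 D73089)
def n187203 : Q := act 5 n89724
theorem D187203 : act 5 n89724 = n187203 := rfl
theorem F369472 : act 2 n187203 = n100173 := d2_1 D187203 F367461 F367456
theorem F369473 : act 3 n187203 = n89727 := d6_1 D187203 (iv5 D89727) (iv3 F137719)
theorem F369474 : act 7 n187203 = n100172 := d13_2 F293852 D187203 F294731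
theorem F369475 : act 1 n187203 = n99316 := d17_6 (iv1 F159262) (iv5 F358508) F358504 F159290 F147375 D187203 (iv5 D99316) F73864 (iv4 F134841)
theorem F369476 : act 0 n187203 = n100167 := d21_1 D187203 (iv5 D100167) (iv6 F135340) (iv1 F285753) (iv6 F293666) F293665 (iv1 D98990) (iv5 D46308) D46309 F139759
def n187204 : Q := act 5 n89726
theorem D187204 : act 5 n89726 = n187204 := rfl
theorem F369477 : act 2 n187204 = n103338 := d2_1 D187204 F361444 (iv2 F345955)
theorem F369478 : act 6 n187204 = n89727 := d12_2 D89726 D187204 (iv5 D89727) (iv6 D41910) D41909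
theorem F369479 : act 7 n187204 = n154103 := d13_2 (iv7 F345956) D187204 (iv5 D154103)
theorem F369480 : act 1 n187204 = n179157 := d17_8 (iv1 F336301) (iv5 F336296) (iv1 D178959) F130610 (iv4 F200671) F327053 (iv0 F345953) D187204 F279109
theorem F369481 : act 0 n187204 = n125019 := d18_0 F200833 (iv1 F350806) F166013 D111154 F336375 F241893 F206311 (iv0 F345953) D187204
theorem F369482 : act 4 n179221 = n187204 := d20_6 (iv4 D39589) (iv1 F46259) (iv4 F46263) D39486 D85531 D179221 F369481 F200833 (iv3 D58455) (iv1 F60465)
theorem F369483 : act 5 n116246 = n184118 := d21_6 (iv5 F62143) (iv1 F133568) D89727 (iv6 F369478) F369481 F366092 (iv1 D184118) (iv5 F143912) (iv6 D93323) (iv1 F68586)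
theorem F369484 : act 3 n184118 = n115955 := d6_1 F369483 F181692 D116246
theorem F369485 : act 7 n184118 = n139512 := d13_2 (iv7 F181195) F369483 F222693
theorem F369486 : act 2 n139512 = n184117 := d15_3 (iv0 D184117) D184118 F369485
theorem F369487 : act 5 n184117 = n141176 := d2_2 (iv5 F222693) F369486 (iv2 D141176)
def n187205 : Q := act 3 n89756
theorem D187205 : act 3 n89756 = n187205 := rfl
theorem F369488 : act 5 n187205 = n90310 := d6_2 (iv5 F137747) D187205 F138924
theorem F369489 : act 7 n187205 = n102744 := d8_2 F291095 D187205 F158008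
theorem F369490 : act 0 n187205 = n117306 := d20_4 D90131 (iv1 F368431) F368428 D187205 F316820 (iv4 F161739) (iv1 F178265) (iv4 F290550) F157992 (iv1 F290589)
theorem F369491 : act 4 n187205 = n127666 := d20_6 D102883 F291384 (iv4 D87037) (iv3 F64673) D89756 D187205 F233829 (iv4 F105593) (iv3 F318926) (iv1 F290888)
theorem F369492 : act 0 n148439 = n90129 := d20_4 F183661 (iv1 F232246) D69558 D148439 F138573 D90131 (iv1 F368431) F368428 D187205 F369490
theorem F369493 : act 2 n127667 = n187205 := d1_3 F369491 (iv2 D127666) D127667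
theorem F369494 : act 0 n117865 = n187205 := d18_0 F369491 F233829 (iv4 F105593) (iv5 F317605) F64484 D41829 (iv4 F69362) F145289 (iv5 F340080)
def n187206 : Q := act 3 n89757
theorem D187206 : act 3 n89757 = n187206 := rfl
theorem F369495 : act 5 n187206 = n90667 := d6_2 (iv5 F137752) D187206 F139579
theorem F369496 : act 7 n187206 = n90666 := d8_2 (iv7 F137751) D187206 F139578
theorem F369497 : act 6 n114186 = n187206 := d14_5 F369496 (iv6 F368463) F368464 (iv6 D164493) (iv7 F352661)
theorem F369498 : act 2 n187206 = n164497 := d3_1 F369497 (iv6 D164497) (iv2 F352660)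
theorem F369499 : act 1 n164497 = n159842 := d15_0 F283553 (iv7 F369496) F369498
theorem F369500 : act 1 n159838 = n164497 := d15_0 F369499 (iv7 F283543) F283551
theorem F369501 : act 0 n93857 = n187206 := d17_2 (iv1 F114637) D93857 F369495 (iv4 F291491) D104299 (iv0 F367232) (iv5 D96975) F149557 F149555
theorem F369502 : act 1 n93854 = n187206 := d17_6 (iv1 D104697) (iv5 F137911) F353186 (iv5 D97160) (iv4 F142174) D93854 F369495 (iv0 F369337) F369335
def n187207 : Q := act 6 n89757
theorem D187207 : act 6 n89757 = n187207 := rfl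
theorem F369503 : act 2 n187207 = n93960 := d3_1 D187207 F291716 F291094
theorem F369504 : act 3 n187207 = n114186 := d7_1 D187207 F369497 (iv3 D187206)
theorem F369505 : act 5 n187207 = n93813 := d12_1 D187207 (iv6 D93813) F292766 (iv6 F292767) (iv5 F137752)
theorem F369506 : act 7 n187207 = n164490 := d14_2 (iv7 F137751) D187207 (iv6 F347690) F289511 F347697
theorem F369507 : act 0 n187207 = n159502 := d21_4 F291054 F290726 (iv5 F137752) D187207 (iv6 D159502) (iv5 D76301) F55120 D42400 F65481 D44054
def n187208 : Q := act 3 n89758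
theorem D187208 : act 3 n89758 = n187208 := rfl
theorem F369508 : act 4 n187208 = n182285 := d5_2 D89758 D187208 (iv3 D182285) (iv4 D87037) (iv3 F64673)
theorem F369509 : act 5 n187208 = n185060 := d6_2 F347711 D187208 F358594
theorem F369510 : act 7 n187208 = n187195 := d8_2 F137764 D187208 F369442
theorem F369511 : act 0 n187198 = n187208 := d20_4 F85471 D54149 D117519 (iv3 F369454) (iv3 D187208) (iv4 D89758) D89756 (iv4 F368428) F368427 (iv1 D117516)
theorem F369512 : act 0 n182285 = n186839 := d18_2 F369511 F369508 F368207 F136964 (iv4 F285701) (iv0 F353700) (iv4 F354903) F369452 (iv5 F369456)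
theorem F369513 : act 0 n186836 = n117511 := d20_4 F369508 F369512 F368207 (iv3 F368197) F184085 F85471 D54149 D117519 (iv3 F369454) F369511
theorem F369514 : act 1 n187189 = n187208 := d15_0 (iv0 F369511) (iv7 D187198) (iv2 F369415)
theorem F369515 : act 2 n187208 = n187196 := d15_3 F369446 (iv0 F369445) (iv7 F369510)
theorem F369516 : act 5 n154348 = n182285 := d17_3 (iv1 D73121) D73122 D154348 (iv4 F369508) F369509 (iv0 F338037) (iv5 D153371) D153370 F342780
theorem F369517 : act 3 n90507 = n154348 := d6_3 F369516 (iv3 D182285) F139305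
def n187209 : Q := act 6 n89758
theorem D187209 : act 6 n89758 = n187209 := rfl
theorem F369518 : act 4 n187209 = n89759 := d10_1 D187209 (iv6 D89759) D89758
def n187210 : Q := act 0 n89759
theorem D187210 : act 0 n89759 = n187210 := rfl
theorem F369519 : act 5 n187210 = n130117 := d21_8 D135829 (iv1 F319150) F319151 (iv6 F319153) (iv1 F68260) D92794 F143132 D187210 (iv6 D130117) F207248
theorem F369520 : act 3 n146343 = n187210 := d6_3 F369519 (iv3 F339445) F339446
theorem F369521 : act 6 n176050 = n187210 := d21_5 (iv5 D43424) F55115 (iv5 F83469) F324638 D176050 F369519 F339466 F339464 (iv6 D114427) F83438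
def n187211 : Q := act 7 n89759
theorem D187211 : act 7 n89759 = n187211 := rfl
theorem F369522 : act 3 n187211 = n173589 := d8_1 D187211 F326554 (iv3 F326543)
def n187212 : Q := act 5 n89768
theorem D187212 : act 5 n89768 = n187212 := rfl
theorem F369523 : act 2 n187212 = n102310 := d2_1 D187212 F347712 F142472
theorem F369524 : act 4 n187212 = n90158 := d9_1 D187212 (iv5 D90158) (iv4 D42140) (iv5 D19880) D19879 D42138 D90155 F347709 (iv4 D96168) (iv5 D44883) F33632 (iv5 F290660) D19745 D41931 D89768
theorem F369525 : act 7 n187212 = n102308 := d13_2 (iv7 F137764) D187212 F347711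
theorem F369526 : act 0 n187212 = n90149 := d17_2 F139799 D187212 (iv5 D90149) (iv4 D42135) (iv5 D19875) D19874 D42131 F67878 D90823
theorem F369527 : act 1 n187212 = n90175 := d17_6 (iv1 F69371) F68981 (iv1 F63359) D41931 D89768 D187212 (iv5 F142452) F142454 F138599
def n187213 : Q := act 6 n89768
theorem D187213 : act 6 n89768 = n187213 := rfl
theorem F369528 : act 2 n187213 = n114266 := d3_1 D187213 F361671 F142472
theorem F369529 : act 3 n187213 = n117557 := d7_1 D187213 (iv6 F369444) F369442
theorem F369530 : act 4 n187213 = n89769 := d10_1 D187213 (iv6 D89769) D89768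
theorem F369531 : act 0 n114247 = n187213 := d21_4 (iv5 D72447) (iv1 F108951) F108949 D114247 (iv6 D187213) D187212 F369526 (iv5 D90149) (iv6 F76687) (iv1 F108968)
theorem F369532 : act 0 n89769 = n117584 := d20_7 (iv4 D54105) (iv1 F41534) D26206 D54163 D117557 (iv3 F369529) F369530 (iv4 D117584) (iv3 D54171) (iv1 F85402)
theorem F369533 : act 0 n187213 = n114269 := d20_1 (iv4 F369530) F178117 F83343 (iv1 F46012) D60005 D127780 (iv1 F259561) F146949 (iv3 F235977) F235980
theorem F369534 : act 5 n137709 = n187213 := d6_0 F369529 F355528 D137709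
theorem F369535 : act 7 n114267 = n187213 := d8_0 F369529 (iv7 F355538) F355542
def n187214 : Q := act 7 n89769
theorem D187214 : act 7 n89769 = n187214 := rfl
theorem F369536 : act 3 n187214 = n114441 := d8_1 D187214 F178475 (iv3 F137765)
theorem F369537 : act 4 n187214 = n114267 := d11_1 D187214 F369535 F369530
theorem F369538 : act 6 n187214 = n187211 := d14_1 D187214 (iv7 D187211) (iv6 D89759) (iv7 F64679) D89769
theorem F369539 : act 1 n105417 = n187214 := d15_1 (iv0 F161810) (iv7 D187214) (iv2 F142474)
def n187215 : Q := act 6 n89819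
theorem D187215 : act 6 n89819 = n187215 := rfl
theorem F369540 : act 2 n187215 = n97167 := d3_1 D187215 F251897 F251892
theorem F369541 : act 3 n187215 = n89821 := d7_1 D187215 (iv6 D89821) (iv3 F137856)
theorem F369542 : act 4 n187215 = n97157 := d10_1 D187215 (iv6 F177924) F177925
def n187216 : Q := act 3 n89820
theorem D187216 : act 3 n89820 = n187216 := rfl
theorem F369543 : act 5 n187216 = n95489 := d6_2 (iv5 F137858) D187216 (iv3 D95489)
theorem F369544 : act 7 n187216 = n95631 := d8_2 (iv7 F137859) D187216 (iv3 D95631)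
def n187217 : Q := act 6 n89820
theorem D187217 : act 6 n89820 = n187217 := rfl
theorem F369545 : act 4 n187217 = n89821 := d10_1 D187217 (iv6 D89821) D89820
def n187218 : Q := act 0 n89821
theorem D187218 : act 0 n89821 = n187218 := rfl
def n187219 : Q := act 1 n89821
theorem D187219 : act 1 n89821 = n187219 := rfl
def n187220 : Q := act 7 n89821
theorem D187220 : act 7 n89821 = n187220 := rfl
theorem F369546 : act 6 n187220 = n95610 := d14_1 D187220 (iv7 D95610) F70201 (iv7 F64730) D89821
def n187221 : Q := act 4 n89822
theorem D187221 : act 4 n89822 = n187221 := rfl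
theorem F369547 : act 3 n187221 = n96995 := d5_1 D187221 (iv4 F344215) F344214 D186562 F289499
theorem F369548 : act 7 n187221 = n95490 := d11_2 (iv7 F289569) D187221 F147122
theorem F369549 : act 0 n187221 = n96974 := d20_1 D187221 F149573 (iv3 D95578) (iv1 D44642) F33478 F15998 (iv1 F63184) D19768 D41960 D89822
theorem F369550 : act 0 n159813 = n187221 := d20_10 (iv4 D187221) (iv1 F137862) F70270 (iv3 D44696) F63261 (iv3 F33518) F33519 D42124 F114625 D159813
def n187222 : Q := act 5 n89822
theorem D187222 : act 5 n89822 = n187222 := rfl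
theorem F369551 : act 7 n187222 = n95494 := d13_2 (iv7 F289569) D187222 (iv5 D95494)
theorem F369552 : act 0 n187222 = n95822 := d21_1 D187222 F147504 (iv6 D95372) (iv1 F76184) (iv6 F289681) D104599 (iv1 F350168) F159120 (iv6 D89825) D89822
theorem F369553 : act 0 n95774 = n187222 := d21_1 (iv5 F147459) (iv5 D187222) F289568 (iv1 D89888) D89890 (iv5 F158460) F350174 (iv5 D103593) D103594 F343082
def n187223 : Q := act 0 n89824
theorem D187223 : act 0 n89824 = n187223 := rfl
theorem F369554 : act 5 n187223 = n103027 := d21_2 D89824 D187223 (iv6 D103027) (iv1 D47765) (iv6 D22981) F26946 D32517 F51594 D45075 (iv1 F289565)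
theorem F369555 : act 1 n95697 = n187223 := d15_0 (iv0 D187223) (iv7 F137995) (iv2 F147385)
def n187224 : Q := act 1 n89824
theorem D187224 : act 1 n89824 = n187224 := rfl
theorem F369556 : act 1 n187224 = n95697 := d15_1 D187224 (iv7 F149643) F149641
theorem F369557 : act 5 n104220 = n187224 := d21_0 (iv1 D187224) (iv5 D89824) D89825 (iv1 F360564) (iv6 D96544) D96543 F343049 (iv5 D87292) (iv6 F75811) D104220
def n187225 : Q := act 4 n89824
theorem D187225 : act 4 n89824 = n187225 := rfl
def n187226 : Q := act 6 n89824
theorem D187226 : act 6 n89824 = n187226 := rfl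
theorem F369558 : act 3 n187226 = n89827 := d7_1 D187226 (iv6 D89827) (iv3 F137864)
def n187227 : Q := act 3 n89826
theorem D187227 : act 3 n89826 = n187227 := rfl
theorem F369559 : act 5 n187227 = n164093 := d6_2 F138109 D187227 (iv3 F340637)
theorem F369560 : act 0 n187227 = n174617 := d19_4 (iv1 F35821) D41961 D89826 D187227 (iv5 D174617) F128548 (iv3 D39218) (iv1 F57071) D79778 F317443 (iv3 F183455) (iv1 D117242) F85260 (iv4 F85436) (iv3 F183943) F360632 (iv5 D88923) F64059 F33511
def n187228 : Q := act 6 n89826
theorem D187228 : act 6 n89826 = n187228 := rfl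
theorem F369561 : act 2 n187228 = n89853 := d3_1 D187228 (iv6 D89853) (iv2 F137867)
theorem F369562 : act 4 n187228 = n89827 := d10_1 D187228 (iv6 D89827) D89826
theorem F369563 : act 0 n187228 = n89848 := d21_4 (iv5 F76180) (iv1 F138112) F138109 D187228 (iv6 D89848) F64761 (iv1 D23535) D23536 (iv6 F76071) (iv1 F340375)
def n187229 : Q := act 0 n89827
theorem D187229 : act 0 n89827 = n187229 := rfl
theorem F369564 : act 5 n187229 = n160975 := d17_3 F363499 F159123 D187229 F254409 F253648 F254294 (iv5 F254301) (iv0 D121779) (iv4 F363502)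
theorem F369565 : act 6 n187229 = n89850 := d21_5 (iv5 D21304) (iv1 F35821) D41961 D89827 D187229 F340357 (iv1 D48403) D48404 F76071 F36653
theorem F369566 : act 2 n89854 = n187229 := d15_3 (iv0 D187229) (iv0 F340617) F358129
theorem F369567 : act 1 n89857 = n187229 := d15_0 (iv0 D187229) (iv7 F358133) (iv2 F358131)
theorem F369568 : act 7 n187229 = n89855 := d15_2 F340635 F369567 (iv2 F358135)
theorem F369569 : act 4 n187229 = n104724 := d1_2 (iv4 F358139) F369566 F160427
def n187230 : Q := act 5 n89833
theorem D187230 : act 5 n89833 = n187230 := rfl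
theorem F369570 : act 2 n187230 = n95755 := d2_1 D187230 (iv5 D95755) (iv2 F145366)
theorem F369571 : act 3 n187230 = n95801 := d6_1 D187230 (iv5 D95801) (iv3 F137890)
theorem F369572 : act 7 n187230 = n95751 := d13_2 (iv7 F145361) D187230 (iv5 D95751)
theorem F369573 : act 0 n89843 = n187230 := d19_0 (iv5 D187230) F356581 (iv3 F356577) F356575 (iv5 D73504) (iv4 D33790) F25847 D16339 D33814 F53147 (iv3 F117787) F299499 F298216 (iv4 F298768) (iv3 F327919) F147115 (iv5 F137910) (iv4 D89844) D89843
def n187231 : Q := act 5 n89834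
theorem D187231 : act 5 n89834 = n187231 := rfl
theorem F369574 : act 2 n187231 = n95751 := d2_1 D187231 (iv5 D95751) F145365
theorem F369575 : act 7 n187231 = n95755 := d13_2 F145367 D187231 (iv5 D95755)
theorem F369576 : act 0 n187231 = n89843 := d17_2 F137893 D187231 F137909 F76072 D102536 (iv0 F285097) (iv5 D183385) (iv0 D87538) (iv4 F70297)
def n187232 : Q := act 6 n89834
theorem D187232 : act 6 n89834 = n187232 := rfl
theorem F369577 : act 2 n187232 = n95752 := d3_1 D187232 (iv6 D95752) F145365
theorem F369578 : act 4 n187232 = n186485 := d10_1 D187232 (iv6 D186485) F137892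
theorem F369579 : act 5 n187232 = n103097 := d21_6 (iv5 F71594) (iv1 F71593) (iv5 D44714) D44715 F137893 D187232 (iv1 D103097) (iv5 D47795) (iv6 D23000) D22997
theorem F369580 : act 4 n115326 = n183778 := d16_4 F93040 (iv5 F85020) F85019 D115326 F289351 (iv4 F369578) F369579 F319037 (iv2 F173597)
theorem F369581 : act 1 n89858 = n187232 := d17_6 (iv1 F81382) (iv5 F49192) (iv1 F84034) (iv5 F84035) (iv4 F346835) F160334 F369579 F319034 F173606
def n187233 : Q := act 5 n89835
theorem D187233 : act 5 n89835 = n187233 := rfl
theorem F369582 : act 2 n187233 = n89836 := d2_1 D187233 (iv5 D89836) D89835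
theorem F369583 : act 7 n187233 = n95739 := d13_2 (iv7 F137895) D187233 (iv5 D95739)
theorem F369584 : act 0 n187233 = n95758 := d21_1 D187233 (iv5 F160319) (iv6 D104622) (iv1 D48382) (iv6 F75096) F321139 (iv1 F173600) (iv5 F356020) (iv6 D95752) (iv1 F137896)
theorem F369585 : act 1 n187233 = n95757 := d15_0 (iv0 D95757) (iv7 F137899) (iv2 F369582)
theorem F369586 : act 5 n95757 = n104693 := d17_7 F293555 D96420 (iv1 F360634) F285099 (iv4 F137894) D187233 F369585 (iv0 D104693) F76072
theorem F369587 : act 3 n159771 = n95757 := d6_3 F369586 F161646 D159771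
def n187234 : Q := act 0 n89836
theorem D187234 : act 0 n89836 = n187234 := rfl
theorem F369588 : act 3 n187234 = n95804 := d20_5 D95626 F147304 (iv4 D89837) (iv3 F137898) D187234 (iv4 F259090) (iv1 F259091) (iv4 D95583) F70192 D44658
theorem F369589 : act 5 n187234 = n103654 := d21_2 D89836 D187234 (iv6 D103654) (iv1 F76051) (iv6 F158378) (iv5 F340584) (iv1 F319034) (iv5 F369579) (iv6 D187232) (iv1 D89834)
theorem F369590 : act 1 n95739 = n187234 := d15_0 (iv0 D187234) F137899 (iv2 F147431)
theorem F369591 : act 2 n95758 = n187234 := d2_3 F369589 (iv2 F160317) F160319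
theorem F369592 : act 7 n95757 = n187234 := d13_0 F369589 F161647 (iv5 F369586)
def n187235 : Q := act 1 n89836
theorem D187235 : act 1 n89836 = n187235 := rfl
theorem F369593 : act 1 n187235 = n95739 := d15_1 D187235 (iv7 F369583) F369582
theorem F369594 : act 7 n187235 = n95758 := d15_2 (iv0 D187234) D187235 F369591
theorem F369595 : act 5 n187235 = n104707 := d17_7 (iv1 F293557) (iv5 F347307) F347303 F157444 F136295 D89836 D187235 F160394 F160376
theorem F369596 : act 2 n95757 = n187235 := d2_3 F369595 (iv2 F161648) (iv5 F369586)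
def n187236 : Q := act 4 n89836
theorem D187236 : act 4 n89836 = n187236 := rfl
theorem F369597 : act 7 n187236 = n95759 := d11_2 (iv7 F137899) D187236 (iv4 D95759)
def n187237 : Q := act 6 n89836
theorem D187237 : act 6 n89836 = n187237 := rfl
theorem F369598 : act 3 n187237 = n89838 := d7_1 D187237 (iv6 D89838) (iv3 F137898)
def n187238 : Q := act 3 n89837
theorem D187238 : act 3 n89837 = n187238 := rfl
theorem F369599 : act 5 n187238 = n103124 := d6_2 (iv5 F137900) D187238 (iv3 D103124)
theorem F369600 : act 7 n187238 = n95778 := d8_2 (iv7 F137901) D187238 (iv3 D95778)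
def n187239 : Q := act 6 n89837
theorem D187239 : act 6 n89837 = n187239 := rfl
theorem F369601 : act 4 n187239 = n89838 := d10_1 D187239 (iv6 D89838) D89837
def n187240 : Q := act 0 n89838
theorem D187240 : act 0 n89838 = n187240 := rfl
def n187241 : Q := act 1 n89838
theorem D187241 : act 1 n89838 = n187241 := rfl
def n187242 : Q := act 7 n89838
theorem D187242 : act 7 n89838 = n187242 := rfl
theorem F369602 : act 6 n187242 = n95773 := d14_1 D187242 (iv7 D95773) F70302 (iv7 F64758) D89838
def n187243 : Q := act 3 n89839
theorem D187243 : act 3 n89839 = n187243 := rfl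
theorem F369603 : act 5 n187243 = n100171 := d6_2 (iv5 F137902) D187243 F154119
theorem F369604 : act 7 n187243 = n104317 := d8_2 (iv7 F290773) D187243 F159944
def n187244 : Q := act 4 n89839
theorem D187244 : act 4 n89839 = n187244 := rfl
theorem F369605 : act 2 n187244 = n101424 := d1_1 D187244 F290802 F137904
theorem F369606 : act 7 n187244 = n101435 := d11_2 (iv7 F290773) D187244 F156254
theorem F369607 : act 5 n187244 = n101246 := d16_1 D187244 (iv4 D101246) F291143 F290764 F64452 D47644 (iv5 F290599) F137906 F137904
theorem F369608 : act 0 n187244 = n97004 := d17_0 (iv5 F360810) (iv1 D101390) F291433 (iv4 D44748) (iv5 D21314) (iv0 F63261) D44697 F137903 D187244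
theorem F369609 : act 1 n187244 = n97000 := d18_6 F290957 F70053 F134682 F134681 (iv5 F137902) D187244 (iv4 D97000) F292164 (iv5 D48271)
def n187245 : Q := act 6 n89839
theorem D187245 : act 6 n89839 = n187245 := rfl
theorem F369610 : act 2 n187245 = n103248 := d3_1 D187245 F158494 F137904
theorem F369611 : act 5 n187245 = n103045 := d12_1 D187245 (iv6 D103045) (iv5 D47772) D47773 (iv5 F137902)
def n187246 : Q := act 3 n89840
theorem D187246 : act 3 n89840 = n187246 := rfl
theorem F369612 : act 5 n187246 = n102717 := d6_2 (iv5 F290599) D187246 (iv3 D102717)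
theorem F369613 : act 7 n187246 = n103241 := d8_2 (iv7 F137906) D187246 F158488
theorem F369614 : act 0 n95801 = n187246 := d17_2 (iv1 F147481) D95801 F369612 F157980 D102726 F290548 F94471 F83214 (iv4 F147479)
theorem F369615 : act 1 n95799 = n187246 := d17_6 F293791 (iv5 F293276) (iv1 F177779) (iv5 D94258) (iv4 F137982) D95799 F369612 F290545 (iv4 D76448)
def n187247 : Q := act 4 n89840
theorem D187247 : act 4 n89840 = n187247 := rfl
theorem F369616 : act 2 n187247 = n101435 := d1_1 D187247 F156254 F290651
theorem F369617 : act 5 n187247 = n101249 := d9_2 (iv5 F290599) D187247 (iv4 D101249) F74411 (iv4 F64430) F291116 F134681 (iv5 F137902) D187244 F369607 (iv4 D101246) F291143 F290764 F64452 D47644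
theorem F369618 : act 7 n187247 = n101424 := d11_2 (iv7 F137906) D187247 F290802
theorem F369619 : act 0 n187247 = n97000 := d17_0 (iv5 F360812) (iv1 F156191) (iv5 F290897) F149878 F71625 (iv0 F35801) D41970 D89840 D187247
theorem F369620 : act 1 n187247 = n97004 := d18_6 D47898 F290762 F74929 D47644 (iv5 F290599) D187247 (iv4 D97004) F75220 (iv5 D47899)
def n187248 : Q := act 6 n89840
theorem D187248 : act 6 n89840 = n187248 := rfl
theorem F369621 : act 2 n187248 = n96025 := d3_1 D187248 F290799 F290651
theorem F369622 : act 5 n187248 = n95537 := d12_1 D187248 (iv6 D95537) F293036 (iv6 F293037) (iv5 F290599)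
def n187249 : Q := act 0 n89841
theorem D187249 : act 0 n89841 = n187249 := rfl
theorem F369623 : act 5 n187249 = n101251 := d17_1 D187249 (iv1 F155995) (iv5 F290795) F149623 F290650 (iv0 F290640) (iv5 F137902) (iv0 D89839) D89841
theorem F369624 : act 4 n187249 = n95674 := d18_1 D187249 (iv1 F147365) D95683 F360811 (iv4 D104244) F75833 D48259 (iv0 F156180) F360803
theorem F369625 : act 1 n95699 = n187249 := d15_0 (iv0 D187249) (iv7 F138046) (iv2 F147390)
theorem F369626 : act 2 n101441 = n187249 := d1_3 F369624 (iv2 F147366) (iv4 F292812)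
theorem F369627 : act 7 n101444 = n187249 := d11_0 F369624 F291917 (iv4 F156257)
def n187250 : Q := act 1 n89841
theorem D187250 : act 1 n89841 = n187250 := rfl
theorem F369628 : act 1 n187250 = n95699 := d15_1 D187250 (iv7 F149645) F149644
theorem F369629 : act 7 n187250 = n101441 := d15_2 (iv0 D187249) D187250 F369626
theorem F369630 : act 5 n187250 = n101252 := d17_7 (iv1 F74410) F74411 (iv1 F69218) (iv5 F74470) D101385 F360803 D187250 F155997 F74483
theorem F369631 : act 4 n187250 = n95675 := d17_9 (iv1 D95675) (iv5 D44687) (iv1 F34035) (iv5 F71472) (iv4 F149635) (iv5 F293014) (iv0 F156180) F360803 D187250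
theorem F369632 : act 2 n101444 = n187250 := d1_3 F369631 F291919 (iv4 F156257)
theorem F369633 : act 3 n187250 = n124306 := d19_3 (iv1 F291208) (iv5 F147369) (iv4 F369631) F343791 (iv5 D141844) (iv4 D66504) (iv3 F163591) (iv1 D49179) (iv5 F39958) (iv4 F82371) F329596 (iv1 F74717) (iv5 F136484) (iv4 D88924) (iv3 F136482) (iv1 F360635) (iv5 D96420) (iv4 F148138) (iv3 D96292)
theorem F369634 : act 6 n124305 = n187250 := d7_0 F369633 (iv6 D124306) D124305
def n187251 : Q := act 6 n89841
theorem D187251 : act 6 n89841 = n187251 := rfl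
theorem F369635 : act 4 n187251 = n89842 := d10_1 D187251 (iv6 D89842) D89841
def n187252 : Q := act 0 n89842
theorem D187252 : act 0 n89842 = n187252 := rfl
def n187253 : Q := act 1 n89842
theorem D187253 : act 1 n89842 = n187253 := rfl
theorem F369636 : act 5 n104666 = n187253 := d21_6 (iv5 D23168) F35591 D23518 F340368 D48397 D104666 (iv1 D187253) (iv5 F138114) (iv6 D89931) F64884
def n187254 : Q := act 7 n89842
theorem D187254 : act 7 n89842 = n187254 := rfl
theorem F369637 : act 3 n187254 = n89857 := d8_1 D187254 (iv7 D89857) (iv3 F137908)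
def n187255 : Q := act 2 n89843
theorem D187255 : act 2 n89843 = n187255 := rfl
theorem F369638 : act 5 n187255 = n104695 := d2_2 (iv5 F137909) D187255 (iv2 D104695)
theorem F369639 : act 1 n187255 = n95751 := d15_0 (iv0 F349343) F138054 D187255
theorem F369640 : act 1 n95755 = n187255 := d15_0 F369639 (iv7 F369572) F369570
theorem F369641 : act 0 n95756 = n89922 := d21_4 (iv5 F369638) (iv1 F369640) (iv5 D95755) D95756 F138088 F137942 (iv1 F160316) (iv5 D103653) D103654 F161633
theorem F369642 : act 6 n151279 = n187255 := d12_0 F369638 F323339 (iv5 D71291) D71292 D151279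
def n187256 : Q := act 6 n89843
theorem D187256 : act 6 n89843 = n187256 := rfl
theorem F369643 : act 2 n187256 = n151279 := d3_1 D187256 F369642 (iv2 D187255)
theorem F369644 : act 3 n187256 = n89845 := d7_1 D187256 (iv6 D89845) D89843
theorem F369645 : act 4 n187256 = n187255 := d10_1 D187256 (iv6 F369642) F362036
theorem F369646 : act 5 n187256 = n119252 := d12_1 D187256 (iv6 D119252) (iv5 F322866) (iv6 F76073) (iv5 F137909)
theorem F369647 : act 0 n144166 = n187256 := d17_2 F352561 D144166 F369646 F187697 F86825 F322275 (iv5 D67735) (iv0 F321510) D139724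
def n187257 : Q := act 3 n89844
theorem D187257 : act 3 n89844 = n187257 := rfl
theorem F369648 : act 5 n187257 = n104822 := d6_2 (iv5 F137910) D187257 (iv3 D104822)
def n187258 : Q := act 6 n89844
theorem D187258 : act 6 n89844 = n187258 := rfl
theorem F369649 : act 4 n187258 = n89845 := d10_1 D187258 (iv6 D89845) D89844
def n187259 : Q := act 0 n89845
theorem D187259 : act 0 n89845 = n187259 := rfl
def n187260 : Q := act 1 n89845
theorem D187260 : act 1 n89845 = n187260 := rfl
theorem F369650 : act 5 n144005 = n187260 := d21_6 (iv5 D91356) (iv1 F66984) (iv5 F291425) (iv6 F299844) D67469 D144005 (iv1 D187260) (iv5 F158977) (iv6 D103616) (iv1 F292230)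
def n187261 : Q := act 7 n89845
theorem D187261 : act 7 n89845 = n187261 := rfl
def n187262 : Q := act 2 n89846
theorem D187262 : act 2 n89846 = n187262 := rfl
theorem F369651 : act 5 n187262 = n104698 := d2_2 (iv5 F137911) D187262 (iv2 D104698)
def n187263 : Q := act 4 n89846
theorem D187263 : act 4 n89846 = n187263 := rfl
theorem F369652 : act 3 n187263 = n160912 := d5_1 D187263 F254110 (iv3 F348739) (iv4 D89847) D89846
theorem F369653 : act 6 n160911 = n187263 := d7_0 F369652 (iv6 D160912) D160911
def n187264 : Q := act 6 n89846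
theorem D187264 : act 6 n89846 = n187264 := rfl
theorem F369654 : act 3 n187264 = n89848 := d7_1 D187264 (iv6 D89848) D89846
theorem F369655 : act 4 n187264 = n160911 := d10_1 D187264 F369653 (iv4 D187263)
theorem F369656 : act 5 n187264 = n185660 := d12_1 D187264 (iv6 D185660) (iv5 D88437) (iv6 F292443) (iv5 F137911)
def n187265 : Q := act 0 n89848
theorem D187265 : act 0 n89848 = n187265 := rfl
theorem F369657 : act 4 n187265 = n89857 := d18_3 F344656 (iv4 F348733) D187265 (iv5 F358132) (iv4 D121158) (iv0 D55904) (iv4 F88440) (iv0 F344651) F148381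
theorem F369658 : act 6 n187265 = n95768 := d21_5 F70303 (iv1 F36652) (iv5 F64761) D89848 D187265 (iv5 D95768) (iv1 D44724) D44725 F70302 D44727
theorem F369659 : act 7 n89853 = n187265 := d14_0 F369658 F340385 (iv6 D89917) F64853 D89853
def n187266 : Q := act 3 n89849
theorem D187266 : act 3 n89849 = n187266 := rfl
theorem F369660 : act 5 n187266 = n104680 := d6_2 (iv5 F340364) D187266 (iv3 D104680)
def n187267 : Q := act 6 n89849
theorem D187267 : act 6 n89849 = n187267 := rfl
theorem F369661 : act 4 n187267 = n104720 := d10_1 D187267 (iv6 D104720) (iv4 F137914)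
def n187268 : Q := act 3 n89850
theorem D187268 : act 3 n89850 = n187268 := rfl
theorem F369662 : act 5 n187268 = n104685 := d6_2 (iv5 F340357) D187268 (iv3 D104685)
theorem F369663 : act 4 n113004 = n187268 := d16_0 F369662 F363902 (iv5 F207114) F207041 F97624 (iv4 F97613) (iv5 F214439) (iv7 D133383) (iv2 F175989)
theorem F369664 : act 2 n187268 = n133382 := d1_1 F369663 (iv4 D133382) (iv2 F175989)
def n187269 : Q := act 0 n89851
theorem D187269 : act 0 n89851 = n187269 := rfl
theorem F369665 : act 4 n187269 = n150710 := d20_8 D141957 (iv1 F362809) (iv4 F198786) (iv3 F369633) (iv1 D187250) (iv3 F360805) (iv4 F360806) D187269 F315252 (iv1 F166464)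
theorem F369666 : act 5 n104644 = n187269 := d16_1 (iv4 F340615) F369665 (iv5 D150710) (iv4 D71061) F56331 (iv4 F119407) F303459 (iv7 F302489) F330686
def n187270 : Q := act 1 n89851
theorem D187270 : act 1 n89851 = n187270 := rfl
def n187271 : Q := act 2 n89851
theorem D187271 : act 2 n89851 = n187271 := rfl
def n187272 : Q := act 5 n89851
theorem D187272 : act 5 n89851 = n187272 := rfl
theorem F369667 : act 3 n187272 = n89852 := d6_1 D187272 (iv5 D89852) D89851
theorem F369668 : act 4 n187272 = n162827 := d16_4 D66650 D142158 (iv4 F360806) D187272 F340268 F322954 (iv5 D66646) (iv7 F321319) F321318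
theorem F369669 : act 1 n187272 = n167764 := d17_8 D167762 F264116 (iv1 F344678) (iv5 D163758) (iv4 F340615) F369666 (iv0 D187269) D187272 (iv4 D167764)
theorem F369670 : act 1 n111974 = n187272 := d15_0 F369669 F264127 F344636
theorem F369671 : act 0 n103124 = n125698 := d20_10 (iv4 D125698) D125696 F345721 (iv3 F345723) (iv1 F369669) F369667 F137917 (iv1 D47806) D47807 D103124
theorem F369672 : act 6 n163351 = n187272 := d21_9 (iv5 F344637) F359853 F147505 (iv6 D95374) F70379 (iv6 F147638) (iv5 D96011) D96009 (iv5 F364244) (iv1 F369670)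
def n187273 : Q := act 6 n89851
theorem D187273 : act 6 n89851 = n187273 := rfl
theorem F369673 : act 3 n187273 = n89853 := d7_1 D187273 (iv6 D89853) D89851
def n187274 : Q := act 6 n89852
theorem D187274 : act 6 n89852 = n187274 := rfl
theorem F369674 : act 2 n187274 = n164092 := d3_1 D187274 F340638 F138108
theorem F369675 : act 3 n187274 = n163351 := d7_1 D187274 F369672 F369667
theorem F369676 : act 4 n187274 = n103123 := d10_1 D187274 (iv6 D103123) (iv4 F137917)
theorem F369677 : act 5 n97362 = n187274 := d21_8 (iv5 F137858) F137860 (iv5 D48400) (iv6 F340368) (iv1 F36754) D48462 F76227 D97362 (iv6 D187274) F137918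
theorem F369678 : act 3 n96009 = n97362 := d6_3 F369677 F369675 F364244
theorem F369679 : act 3 n103123 = n165880 := d5_1 F369676 (iv4 F302179) (iv3 D163350) D163351 (iv3 F369675)
theorem F369680 : act 6 n165880 = n103122 := d7_2 D103123 F369679 (iv3 D103122)
def n187275 : Q := act 5 n89853
theorem D187275 : act 5 n89853 = n187275 := rfl
theorem F369681 : act 6 n187275 = n97362 := d12_2 D89853 D187275 F369677 (iv6 D187274) (iv5 D89852)
theorem F369682 : act 4 n187275 = n166642 := d16_2 (iv4 F137920) D187275 (iv5 D166642) (iv4 D79981) F254093 D78498 D163339 F358133 F137868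
def n187276 : Q := act 3 n89854
theorem D187276 : act 3 n89854 = n187276 := rfl
theorem F369683 : act 5 n187276 = n109753 := d6_2 (iv5 F358127) D187276 F358144
theorem F369684 : act 7 n187276 = n109917 := d8_2 F358129 D187276 F365831
theorem F369685 : act 2 n109921 = n187276 := d2_3 F369683 F169744 D109921
def n187277 : Q := act 3 n89855
theorem D187277 : act 3 n89855 = n187277 := rfl
theorem F369686 : act 5 n187277 = n160642 := d6_2 F358136 D187277 (iv3 F333998)
theorem F369687 : act 0 n187277 = n160856 := d21_1 (iv5 F369686) (iv5 D160856) D160857 F353182 F321137 (iv5 F316661) F316658 (iv5 F347760) F346890 (iv1 F262334)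
def n187278 : Q := act 4 n89855
theorem D187278 : act 4 n89855 = n187278 := rfl
theorem F369688 : act 7 n187278 = n104724 := d11_2 F369568 D187278 (iv4 F369569)
theorem F369689 : act 5 n187278 = n185612 := d16_7 (iv4 F294906) F358960 (iv4 F262244) (iv5 F254418) (iv4 F333999) F358136 D187278 (iv7 D185612) (iv2 F138316)
def n187279 : Q := act 6 n89855
theorem D187279 : act 6 n89855 = n187279 := rfl
def n187280 : Q := act 2 n89858
theorem D187280 : act 2 n89858 = n187280 := rfl
theorem F369690 : act 3 n187280 = n95999 := d0_2 D89858 D187280 F147634 F70377 (iv2 F76059)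
theorem F369691 : act 4 n187280 = n98588 := d1_2 (iv4 F137922) D187280 F151981
theorem F369692 : act 5 n187280 = n139666 := d2_2 F160334 D187280 (iv2 F346834)
theorem F369693 : act 6 n187280 = n95531 := d3_2 (iv6 F137923) D187280 (iv2 D95531)
theorem F369694 : act 1 n187280 = n95752 := d15_0 (iv0 F369068) F369066 D187280
def n187281 : Q := act 1 n89859
theorem D187281 : act 1 n89859 = n187281 := rfl
theorem F369695 : act 1 n187281 = n95999 := d15_1 D187281 (iv7 F350459) (iv2 F350460)
theorem F369696 : act 7 n187281 = n96005 := d15_2 (iv0 F353183) D187281 (iv2 F350451)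
theorem F369697 : act 2 n96004 = n187281 := d4_3 F369696 (iv2 F350451) (iv7 F350463)
def n187282 : Q := act 1 n89863
theorem D187282 : act 1 n89863 = n187282 := rfl
def n187283 : Q := act 2 n89863
theorem D187283 : act 2 n89863 = n187283 := rfl
theorem F369698 : act 3 n187283 = n186899 := d0_2 D89863 D187283 F368457 (iv3 D89927) F64865
theorem F369699 : act 6 n187283 = n144274 := d3_2 F138126 D187283 (iv2 F345189)
def n187284 : Q := act 5 n89863
theorem D187284 : act 5 n89863 = n187284 := rfl
theorem F369700 : act 3 n187284 = n89864 := d6_1 D187284 (iv5 D89864) D89863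
theorem F369701 : act 7 n187284 = n185462 := d13_2 F138100 D187284 F287724
theorem F369702 : act 1 n187284 = n96235 := d17_6 (iv1 F135567) D90561 F288363 (iv5 F145468) F145467 D187284 (iv5 D96235) F76033 (iv4 F135560)
theorem F369703 : act 1 n96231 = n187284 := d15_0 F369702 (iv7 F160276) (iv2 F160277)
def n187285 : Q := act 2 n89865
theorem D187285 : act 2 n89865 = n187285 := rfl
theorem F369704 : act 5 n187285 = n104811 := d2_2 (iv5 F137942) D187285 (iv2 D104811)
def n187286 : Q := act 3 n89866
theorem D187286 : act 3 n89866 = n187286 := rfl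
theorem F369705 : act 4 n187286 = n178245 := d5_2 D89866 D187286 (iv3 D178245) (iv4 F324801) (iv3 F75447)
theorem F369706 : act 7 n187286 = n164093 := d8_2 F138110 D187286 (iv3 F340637)
theorem F369707 : act 0 n187286 = n121722 := d20_4 (iv4 D47807) (iv1 F64768) D89866 D187286 F194283 (iv4 D58246) (iv1 F117739) D38174 D82949 (iv1 F326709)
theorem F369708 : act 2 n187286 = n166411 := d15_3 (iv0 D166411) (iv0 F340634) (iv7 F369706)
theorem F369709 : act 0 n166408 = n187286 := d20_7 (iv4 F323554) (iv1 F70786) D96396 F330287 (iv1 F330285) F194259 D166408 F369705 (iv3 D178245) (iv1 F130028)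
def n187287 : Q := act 1 n89867
theorem D187287 : act 1 n89867 = n187287 := rfl
theorem F369710 : act 7 n187287 = n96268 := d15_2 (iv0 F358003) D187287 F148060
theorem F369711 : act 4 n96269 = n187287 := d11_3 F369710 (iv4 D96268) D96269
def n187288 : Q := act 7 n89867
theorem D187288 : act 7 n89867 = n187288 := rfl
theorem F369712 : act 3 n187288 = n109284 := d8_1 D187288 F352014 F159117
theorem F369713 : act 4 n187288 = n97204 := d11_1 D187288 F358009 F358000
theorem F369714 : act 0 n96268 = n187288 := d18_2 (iv1 D96267) D96268 F369713 (iv5 F358011) (iv4 D116181) F341030 (iv4 F276574) (iv0 F361115) F149722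
def n187289 : Q := act 0 n89870
theorem D187289 : act 0 n89870 = n187289 := rfl
theorem F369715 : act 5 n187289 = n95322 := d17_1 D187289 (iv1 F356065) (iv5 F356000) F146952 (iv5 F161500) F161507 (iv5 F251942) (iv0 D93939) (iv4 F137955)
theorem F369716 : act 4 n187289 = n127410 := d18_3 F251945 (iv4 F137955) D187289 (iv5 D127410) (iv4 F178281) (iv0 D113351) F82697 D52539 (iv5 F114614)
theorem F369717 : act 2 n187199 = n187289 := d15_3 (iv0 D187289) (iv0 F283795) (iv7 F369458)
theorem F369718 : act 1 n187200 = n187289 := d15_0 (iv0 D187289) F367175 D187200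
theorem F369719 : act 7 n187289 = n95576 := d15_2 F369463 F369718 (iv2 F251850)
def n187290 : Q := act 2 n89870
theorem D187290 : act 2 n89870 = n187290 := rfl
theorem F369720 : act 3 n187290 = n96112 := d0_2 D89870 D187290 F147761 F70455 (iv2 F64778)
theorem F369721 : act 4 n187290 = n93931 := d1_2 (iv4 F137955) D187290 F144758
theorem F369722 : act 6 n187290 = n93929 := d3_2 (iv6 F137956) D187290 F144752
theorem F369723 : act 7 n187290 = n187200 := d4_2 (iv7 F367175) D187290 (iv2 D187200)
theorem F369724 : act 1 n187290 = n95576 := d15_0 F367178 (iv7 F367175) D187290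
theorem F369725 : act 1 n187199 = n187290 := d15_0 F369724 (iv7 F369719) (iv2 F369717)
theorem F369726 : act 5 n98129 = n187290 := d17_7 (iv1 F290837) F290838 (iv1 F288022) F176890 F135436 D95320 (iv0 F347482) F369724 F177004
theorem F369727 : act 0 n95316 = n98129 := d21_1 D95316 F369726 F369722 F205491 (iv6 D44639) (iv5 F56628) F56629 (iv5 D21175) D21176 D44524
def n187291 : Q := act 5 n89870
theorem D187291 : act 5 n89870 = n187291 := rfl
theorem F369728 : act 2 n187291 = n98129 := d2_1 D187291 F369726 (iv2 D187290)
theorem F369729 : act 3 n187291 = n89871 := d6_1 D187291 (iv5 D89871) D89870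
theorem F369730 : act 7 n187291 = n187201 := d13_2 (iv7 F367175) D187291 (iv5 D187201)
theorem F369731 : act 0 n180281 = n187291 := d21_1 F347473 (iv5 D187291) F137956 (iv1 F178361) (iv6 D45328) (iv5 F70616) (iv1 F70619) (iv5 D44521) D44522 (iv1 F146954)
theorem F369732 : act 6 n98134 = n187291 := d7_0 F369729 (iv6 F364273) F261153
def n187292 : Q := act 5 n89882
theorem D187292 : act 5 n89882 = n187292 := rfl
theorem F369733 : act 2 n187292 = n97002 := d2_1 D187292 (iv5 D97002) F137975
theorem F369734 : act 7 n187292 = n97051 := d13_2 (iv7 F137977) D187292 (iv5 D97051)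
theorem F369735 : act 0 n103908 = n187292 := d21_7 F340530 (iv1 F359412) (iv5 D103349) F75211 F74219 D48105 D103908 (iv5 D187292) F340538 D184397
def n187293 : Q := act 5 n89883
theorem D187293 : act 5 n89883 = n187293 := rfl
theorem F369736 : act 2 n187293 = n89884 := d2_1 D187293 (iv5 D89884) D89883
theorem F369737 : act 3 n187293 = n159822 := d6_1 D187293 F251894 (iv3 F137978)
theorem F369738 : act 7 n187293 = n97044 := d13_2 (iv7 F137979) D187293 (iv5 D97044)
theorem F369739 : act 0 n187293 = n97009 := d21_1 D187293 F149618 (iv6 D96382) F70773 (iv6 F70761) F324888 F298012 D84218 (iv6 F326737) (iv1 F137980)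
theorem F369740 : act 0 n97053 = n187293 := d21_1 F159339 (iv5 D187293) F147288 (iv1 D95618) (iv6 F294156) (iv5 F294884) (iv1 D103904) (iv5 D48104) D48105 D103907
def n187294 : Q := act 0 n89884
theorem D187294 : act 0 n89884 = n187294 := rfl
theorem F369741 : act 5 n187294 = n95464 := d21_2 D89884 D187294 (iv6 D95464) (iv1 F76174) (iv6 F148086) F325911 F298067 (iv5 F324885) (iv6 D95673) F70260
theorem F369742 : act 2 n97009 = n187294 := d15_3 (iv0 D187294) (iv0 F147377) (iv7 F149619)
theorem F369743 : act 1 n97044 = n187294 := d15_0 (iv0 D187294) F137984 (iv2 F149704)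
theorem F369744 : act 7 n187294 = n97053 := d15_2 (iv0 F158656) F369743 (iv2 F149720)
def n187295 : Q := act 4 n89884
theorem D187295 : act 4 n89884 = n187295 := rfl
theorem F369745 : act 7 n187295 = n97054 := d11_2 (iv7 F137984) D187295 (iv4 D97054)
def n187296 : Q := act 6 n89884
theorem D187296 : act 6 n89884 = n187296 := rfl
theorem F369746 : act 3 n187296 = n89886 := d7_1 D187296 (iv6 D89886) (iv3 F137983)
def n187297 : Q := act 3 n89885
theorem D187297 : act 3 n89885 = n187297 := rfl
theorem F369747 : act 5 n187297 = n96287 := d6_2 (iv5 F137986) D187297 (iv3 D96287)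
theorem F369748 : act 7 n187297 = n97082 := d8_2 (iv7 F137987) D187297 (iv3 D97082)
def n187298 : Q := act 6 n89885
theorem D187298 : act 6 n89885 = n187298 := rfl
theorem F369749 : act 2 n187298 = n187217 := d3_1 D187298 (iv6 D187217) (iv2 F137985)
theorem F369750 : act 4 n187298 = n89886 := d10_1 D187298 (iv6 D89886) D89885
def n187299 : Q := act 0 n89886
theorem D187299 : act 0 n89886 = n187299 := rfl
def n187300 : Q := act 1 n89886
theorem D187300 : act 1 n89886 = n187300 := rfl
theorem F369751 : act 1 n187300 = n187220 := d15_1 D187300 (iv7 D187220) (iv2 F137990)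
def n187301 : Q := act 7 n89886
theorem D187301 : act 7 n89886 = n187301 := rfl
theorem F369752 : act 2 n187301 = n187220 := d4_1 D187301 (iv7 D187220) (iv2 F137990)
theorem F369753 : act 6 n187301 = n97068 := d14_1 D187301 (iv7 D97068) F71526 (iv7 F64805) D89886
theorem F369754 : act 1 n187220 = n187299 := d15_0 (iv0 D187299) D187301 F369752
theorem F369755 : act 1 n187219 = n187301 := d15_1 D187219 (iv7 D187301) F137990
theorem F369756 : act 1 n187301 = n187218 := d15_0 (iv0 D187218) D187220 (iv2 F369752)
def n187302 : Q := act 3 n89888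
theorem D187302 : act 3 n89888 = n187302 := rfl
theorem F369757 : act 2 n187302 = n186747 := d0_1 D187302 F367872 F364383 F289499 F289567
theorem F369758 : act 6 n187302 = n186562 := d7_2 F289568 D187302 F289499
theorem F369759 : act 7 n187302 = n96524 := d8_2 (iv7 F289539) D187302 F148680
theorem F369760 : act 4 n187302 = n172216 := d20_6 F16430 D10328 D21623 D45352 (iv1 F137993) D187302 F335746 F135757 (iv3 D45345) (iv1 D21618)
theorem F369761 : act 0 n97159 = n187302 := d20_10 F369760 F335746 F135757 (iv3 D45345) (iv1 D21618) (iv3 F34025) F34026 D43871 F142174 D97159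
theorem F369762 : act 0 n187302 = n97119 := d20_1 (iv4 F369760) F152403 (iv3 F283243) (iv1 F335694) F151808 F107130 D70663 D150138 (iv3 F335742) (iv1 F270423)
def n187303 : Q := act 4 n89888
theorem D187303 : act 4 n89888 = n187303 := rfl
theorem F369763 : act 2 n187303 = n187221 := d1_1 D187303 (iv4 D187221) F289567
theorem F369764 : act 6 n187303 = n187221 := d10_2 F289568 D187303 (iv4 D187221)
theorem F369765 : act 7 n187303 = n96525 := d11_2 (iv7 F289539) D187303 F148683
theorem F369766 : act 0 n187303 = n95578 := d20_1 D187303 (iv4 F149573) (iv3 D96974) (iv1 D45335) F34025 F16430 D10328 D21623 D45352 (iv1 F137993)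
theorem F369767 : act 3 n187303 = n95611 := d20_3 F71480 (iv1 F137993) D187303 (iv1 F149744) F149741 F147290 F289522 (iv4 F136808) F136807 (iv1 F289534)
def n187304 : Q := act 5 n89888
theorem D187304 : act 5 n89888 = n187304 := rfl
theorem F369768 : act 2 n187304 = n187222 := d2_1 D187304 (iv5 D187222) F289567
theorem F369769 : act 7 n187304 = n96528 := d13_2 (iv7 F289539) D187304 (iv5 D96528)
theorem F369770 : act 0 n187304 = n97182 := d21_1 D187304 F149926 (iv6 D48377) D48374 F289681 D104771 F343033 F158405 F138017 (iv1 F137993)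
theorem F369771 : act 0 n97141 = n187304 := d21_1 (iv5 F290794) (iv5 D187304) (iv6 F289568) (iv1 F137862) (iv6 F291395) (iv5 F292221) F363042 (iv5 D103026) D103027 F343080
def n187305 : Q := act 0 n89889
theorem D187305 : act 0 n89889 = n187305 := rfl
theorem F369772 : act 5 n187305 = n104615 := d21_2 D89889 D187305 (iv6 F343078) (iv1 F138240) F291222 (iv5 F147459) F369553 (iv5 D187222) F289568 (iv1 D89888)
theorem F369773 : act 1 n97017 = n187305 := d15_0 (iv0 D187305) F137995 (iv2 F149641)
theorem F369774 : act 2 n187224 = n187305 := d2_3 F369772 (iv2 F343067) F369557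
theorem F369775 : act 7 n187223 = n187305 := d13_0 F369772 (iv7 F343068) (iv5 F369554)
def n187306 : Q := act 1 n89889
theorem D187306 : act 1 n89889 = n187306 := rfl
theorem F369776 : act 1 n187306 = n97017 := d15_1 D187306 F149643 F147385
theorem F369777 : act 7 n187306 = n187224 := d15_2 (iv0 D187305) D187306 F369774
theorem F369778 : act 2 n187223 = n187306 := d4_3 F369777 F369774 (iv7 F369775)
theorem F369779 : act 5 n103594 = n187306 := d13_3 F369777 (iv5 F369557) F343075
def n187307 : Q := act 4 n89889
theorem D187307 : act 4 n89889 = n187307 := rfl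
theorem F369780 : act 7 n187307 = n187225 := d11_2 (iv7 F137995) D187307 (iv4 D187225)
def n187308 : Q := act 6 n89889
theorem D187308 : act 6 n89889 = n187308 := rfl
theorem F369781 : act 3 n187308 = n89892 := d7_1 D187308 (iv6 D89892) (iv3 F137994)
def n187309 : Q := act 0 n89890
theorem D187309 : act 0 n89890 = n187309 := rfl
theorem F369782 : act 6 n187309 = n176551 := d21_5 F369779 (iv1 D187306) (iv5 D89889) D89890 D187309 (iv5 D176551) F343038 (iv5 D95371) D95372 (iv1 F343083)
theorem F369783 : act 5 n187309 = n103028 := d21_0 (iv1 F158950) F158947 F75359 (iv1 F75352) D103594 F369779 (iv1 D187306) (iv5 D89889) D89890 D187309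
theorem F369784 : act 2 n184128 = n187309 := d15_3 (iv0 D187309) F350173 (iv7 F367109)
theorem F369785 : act 1 n91355 = n187309 := d15_0 (iv0 D187309) F292273 (iv2 F294328)
theorem F369786 : act 7 n187309 = n96539 := d15_2 (iv0 F350172) F369785 F270488
theorem F369787 : act 3 n176552 = n187309 := d7_3 F369782 F275887 D176552
def n187310 : Q := act 3 n89891
theorem D187310 : act 3 n89891 = n187310 := rfl
theorem F369788 : act 5 n187310 = n187286 := d6_2 (iv5 F137999) D187310 (iv3 D187286)
theorem F369789 : act 7 n187310 = n187227 := d8_2 (iv7 F138000) D187310 (iv3 D187227)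
def n187311 : Q := act 0 n89892
theorem D187311 : act 0 n89892 = n187311 := rfl
theorem F369790 : act 5 n187311 = n128259 := d17_1 D187311 (iv1 D128259) D128261 (iv4 F366330) (iv5 F149923) (iv0 D95938) D95940 (iv0 F147585) (iv4 F358005)
theorem F369791 : act 4 n187311 = n127652 := d18_3 F363490 (iv4 F358005) D187311 (iv5 D127652) (iv4 D59935) (iv0 D28465) (iv4 F45986) D59929 D127629
theorem F369792 : act 6 n128261 = n187241 := d21_3 F369790 (iv1 D128259) D128261 (iv1 D187241) (iv6 D89838) (iv5 D41969) (iv1 F31565) D42001 D89892 D187311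
theorem F369793 : act 1 n89921 = n187311 := d18_6 (iv1 F71531) F318176 F315996 F319120 D95768 (iv4 F358007) F369791 F361119 (iv5 D95600)
def n187312 : Q := act 1 n89892
theorem D187312 : act 1 n89892 = n187312 := rfl
theorem F369794 : act 1 n187312 = n89921 := d15_1 D187312 (iv7 D89921) (iv2 F138003)
theorem F369795 : act 4 n187312 = n127671 := d18_7 (iv1 D44649) (iv4 F58272) (iv1 F314409) F317108 D95763 (iv4 F358005) D187312 F364591 (iv5 D95605)
theorem F369796 : act 6 n127629 = n187312 := d21_3 (iv5 F149923) F317840 D127629 (iv1 D187312) (iv6 D89892) (iv5 D42001) F35863 D21673 (iv6 F71650) D97178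
theorem F369797 : act 5 n103194 = n187312 := d21_6 (iv5 D23020) (iv1 D10861) D10862 (iv6 F36072) D47825 D103194 (iv1 D187312) (iv5 F158465) (iv6 D103217) (iv1 F75117)
theorem E103282 : n128258 = n103194 := (c17_3 (iv1 F366331) (iv5 D128261) D128258 F369797 F369795 (iv5 D127671) F205218 F361128 (iv0 D97065) D97067)
theorem F369798 : act 1 n103194 = n60289 := (sb E103282 (iv0 D128258))
def n187313 : Q := act 7 n89892
theorem D187313 : act 7 n89892 = n187313 := rfl
theorem F369799 : act 2 n187313 = n89921 := d4_1 D187313 (iv7 D89921) (iv2 F138003)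
theorem F369800 : act 4 n187313 = n97176 := d11_1 D187313 F340391 (iv4 F358005)
theorem F369801 : act 6 n187313 = n163339 := d14_1 D187313 F358133 (iv6 D89827) (iv7 F64809) D89892
theorem F369802 : act 1 n89919 = n187313 := d15_1 D89919 (iv7 D187313) F138003
theorem F369803 : act 1 n187313 = n89918 := d15_0 (iv0 D89918) D89921 (iv2 F369799)
def n187314 : Q := act 1 n89895
theorem D187314 : act 1 n89895 = n187314 := rfl
theorem F369804 : act 1 n187314 = n176694 := d15_1 D187314 F343026 (iv2 F138015)
theorem F369805 : act 7 n187314 = n96544 := d15_2 (iv0 F343018) D187314 F335312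
theorem F369806 : act 5 n187314 = n104605 := d18_9 (iv1 D104605) D104606 F348553 (iv4 F348561) (iv5 F348560) (iv4 D176696) (iv0 F343018) F138016 D187314
theorem F369807 : act 3 n186907 = n187314 := d20_3 (iv4 F368445) (iv1 F368447) D186907 (iv1 D187314) (iv3 D89895) (iv4 D42003) F63252 (iv4 F34180) (iv3 F71797) D97476
theorem F369808 : act 6 n184128 = n187314 := d21_3 D47983 D103595 (iv5 F367108) (iv1 D187314) F138017 D97017 (iv1 F369776) (iv5 F369779) (iv6 D103594) (iv1 D47982)
theorem F369809 : act 2 n187314 = n176551 := d3_1 F369808 (iv6 F369782) (iv2 F369784)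
def n187315 : Q := act 5 n89897
theorem D187315 : act 5 n89897 = n187315 := rfl
theorem F369810 : act 2 n187315 = n97163 := d2_1 D187315 (iv5 D97163) (iv2 F283541)
theorem F369811 : act 7 n187315 = n97160 := d13_2 (iv7 F283542) D187315 (iv5 D97160)
theorem F369812 : act 0 n187315 = n187262 := d17_2 D89897 D187315 F369651 (iv4 F288133) F288171 F288219 (iv5 F178165) F142164 F67736
theorem F369813 : act 1 n187315 = n89910 := d17_6 (iv1 D90665) D90666 (iv1 F283553) (iv5 D159842) (iv4 F138024) D187315 F138060 D103805 (iv4 F367164)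
def n187316 : Q := act 6 n89897
theorem D187316 : act 6 n89897 = n187316 := rfl
theorem F369814 : act 2 n187316 = n97164 := d3_1 D187316 (iv6 D97164) (iv2 F283541)
theorem F369815 : act 4 n187316 = n159843 := d10_1 D187316 (iv6 D159843) (iv4 F138024)
theorem F369816 : act 0 n89923 = n187316 := d21_4 D186066 F331396 F138381 F292637 (iv6 D187316) D187315 F369812 F369651 F293471 (iv1 F135861)
def n187317 : Q := act 5 n89898
theorem D187317 : act 5 n89898 = n187317 := rfl
theorem F369817 : act 2 n187317 = n97160 := d2_1 D187317 (iv5 D97160) (iv2 F283536)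
theorem F369818 : act 3 n187317 = n97116 := d6_1 D187317 (iv5 D97116) F138029
theorem F369819 : act 7 n187317 = n97163 := d13_2 (iv7 F283537) D187317 (iv5 D97163)
theorem F369820 : act 0 n187317 = n89910 := d21_1 D187317 F138060 (iv6 D48060) (iv1 F157754) (iv6 D48013) (iv5 F70321) (iv1 F70322) F40474 D45408 F138028
theorem F369821 : act 0 n187262 = n187317 := d21_1 (iv5 F369651) (iv5 D187317) (iv6 F350450) (iv1 D96005) (iv6 D44800) D44799 (iv1 F306980) (iv5 F350496) (iv6 F350499) (iv1 F160380)
def n187318 : Q := act 5 n89899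
theorem D187318 : act 5 n89899 = n187318 := rfl
theorem F369822 : act 2 n187318 = n89900 := d2_1 D187318 (iv5 D89900) D89899
theorem F369823 : act 3 n187318 = n187233 := d6_1 D187318 (iv5 D187233) (iv3 F138030)
theorem F369824 : act 7 n187318 = n97157 := d13_2 (iv7 F138031) D187318 (iv5 D97157)
theorem F369825 : act 0 n187318 = n97166 := d17_2 (iv1 F138032) D187318 (iv5 F251668) (iv4 F367164) F367165 F251647 F193567 F114638 F142174
theorem F369826 : act 1 n187318 = n97165 := d17_6 D185832 F288167 (iv1 F142194) (iv5 F142170) F142169 D187318 F251681 (iv0 D103804) (iv4 F135505)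
def n187319 : Q := act 0 n89900
theorem D187319 : act 0 n89900 = n187319 := rfl
theorem F369827 : act 5 n187319 = n103115 := d17_3 (iv1 D89898) D89900 D187319 F158401 F193580 F193579 F144680 F114671 F138026
theorem F369828 : act 1 n97157 = n187319 := d15_0 (iv0 D187319) F138037 (iv2 F149904)
theorem F369829 : act 2 n97166 = n187319 := d2_3 F369827 (iv2 F251665) F251668
theorem F369830 : act 7 n97165 = n187319 := d13_0 F369827 F251672 (iv5 F251681)
def n187320 : Q := act 1 n89900
theorem D187320 : act 1 n89900 = n187320 := rfl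
theorem F369831 : act 1 n187320 = n97157 := d15_1 D187320 (iv7 F369824) F369822
theorem F369832 : act 7 n187320 = n97166 := d15_2 (iv0 D187319) D187320 F369829
theorem F369833 : act 5 n187320 = n104697 := d17_7 (iv1 F288215) (iv5 D164484) (iv1 F142198) F142192 F67736 D89900 D187320 F160381 (iv4 F288211)
theorem F369834 : act 2 n97165 = n187320 := d2_3 F369833 F251671 (iv5 F251681)
def n187321 : Q := act 4 n89900
theorem D187321 : act 4 n89900 = n187321 := rfl
theorem F369835 : act 7 n187321 = n97167 := d11_2 (iv7 F138037) D187321 (iv4 D97167)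
def n187322 : Q := act 6 n89900
theorem D187322 : act 6 n89900 = n187322 := rfl
theorem F369836 : act 3 n187322 = n89902 := d7_1 D187322 (iv6 D89902) (iv3 F138036)
def n187323 : Q := act 3 n89901
theorem D187323 : act 3 n89901 = n187323 := rfl
theorem F369837 : act 5 n187323 = n103663 := d6_2 (iv5 F138039) D187323 (iv3 D103663)
theorem F369838 : act 7 n187323 = n97184 := d8_2 (iv7 F138040) D187323 (iv3 D97184)
def n187324 : Q := act 6 n89901
theorem D187324 : act 6 n89901 = n187324 := rfl
theorem F369839 : act 2 n187324 = n187239 := d3_1 D187324 (iv6 D187239) (iv2 F138038)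
theorem F369840 : act 4 n187324 = n89902 := d10_1 D187324 (iv6 D89902) D89901
def n187325 : Q := act 0 n89902
theorem D187325 : act 0 n89902 = n187325 := rfl
def n187326 : Q := act 1 n89902
theorem D187326 : act 1 n89902 = n187326 := rfl
theorem F369841 : act 1 n187326 = n187242 := d15_1 D187326 (iv7 D187242) (iv2 F138041)
def n187327 : Q := act 7 n89902
theorem D187327 : act 7 n89902 = n187327 := rfl
theorem F369842 : act 2 n187327 = n187242 := d4_1 D187327 (iv7 D187242) (iv2 F138041)
theorem F369843 : act 6 n187327 = n97181 := d14_1 D187327 (iv7 D97181) F71650 (iv7 F64836) D89902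
theorem F369844 : act 1 n187242 = n187325 := d15_0 (iv0 D187325) D187327 F369842
theorem F369845 : act 1 n187241 = n187327 := d15_1 D187241 (iv7 D187327) F138041
theorem F369846 : act 1 n187327 = n187240 := d15_0 (iv0 D187240) D187242 (iv2 F369842)
def n187328 : Q := act 3 n89904
theorem D187328 : act 3 n89904 = n187328 := rfl
theorem F369847 : act 4 n187328 = n89915 := d5_2 D89904 D187328 (iv3 D89915) (iv4 D42012) (iv3 F64840)
theorem F369848 : act 7 n187328 = n142158 := d8_2 (iv7 F138046) D187328 F360805
theorem F369849 : act 5 n142067 = n187328 := d13_3 F369848 (iv5 D142158) (iv7 F321323)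
theorem F369850 : act 2 n187328 = n142139 := d2_1 F369849 (iv5 D142139) (iv2 F321322)
def n187329 : Q := act 5 n89904
theorem D187329 : act 5 n89904 = n187329 := rfl
theorem F369851 : act 2 n187329 = n101387 := d2_1 D187329 F360808 F147390
theorem F369852 : act 3 n187329 = n142067 := d6_1 D187329 F369849 (iv3 D187328)
theorem F369853 : act 4 n187329 = n97021 := d9_1 D187329 (iv5 D97021) (iv4 D45354) (iv5 D21624) D21623 D45353 D97018 F360807 (iv4 D94120) (iv5 D44001) F33033 F290895 (iv4 F31576) D42008 D89904
theorem F369854 : act 7 n187329 = n101385 := d13_2 (iv7 F138046) D187329 F360803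
theorem F369855 : act 0 n187329 = n97014 := d17_2 F292810 D187329 (iv5 D97014) (iv4 D45350) (iv5 D21619) D21618 D45346 F75220 (iv4 F292812)
theorem F369856 : act 1 n187329 = n97038 := d17_6 (iv1 F71622) F70340 (iv1 F35854) D42008 D89904 D187329 F149684 F149626 F149623
def n187330 : Q := act 6 n89904
theorem D187330 : act 6 n89904 = n187330 := rfl
theorem F369857 : act 4 n187330 = n89905 := d10_1 D187330 (iv6 D89905) D89904
def n187331 : Q := act 0 n89905
theorem D187331 : act 0 n89905 = n187331 := rfl
def n187332 : Q := act 1 n89905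
theorem D187332 : act 1 n89905 = n187332 := rfl
theorem F369858 : act 5 n144103 = n187332 := d21_6 (iv5 D47990) (iv1 D23151) D23152 (iv6 F75365) D103608 F361618 (iv1 D187332) F352785 (iv6 D91303) (iv1 F291426)
theorem F369859 : act 3 n187332 = n144104 := d6_1 F369858 (iv5 D144104) D144103
def n187333 : Q := act 7 n89905
theorem D187333 : act 7 n89905 = n187333 := rfl
theorem F369860 : act 3 n187333 = n89921 := d8_1 D187333 (iv7 D89921) (iv3 F138047)
theorem F369861 : act 6 n187333 = n187254 := d14_1 D187333 (iv7 D187254) (iv6 D89842) (iv7 F64841) D89905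
def n187334 : Q := act 2 n89907
theorem D187334 : act 2 n89907 = n187334 := rfl
theorem F369862 : act 3 n187334 = n187262 := d0_2 D89907 D187334 (iv2 D187262) (iv3 D89846) F64847
theorem F369863 : act 5 n187334 = n104708 := d2_2 (iv5 F138053) D187334 (iv2 D104708)
theorem F369864 : act 7 n187334 = n187255 := d4_2 (iv7 F138054) D187334 (iv2 D187255)
theorem F369865 : act 1 n187334 = n187230 := d15_0 (iv0 F369573) (iv7 F138054) D187334
theorem F369866 : act 1 n187231 = n187334 := d15_0 F369865 F369572 (iv2 F369574)
def n187335 : Q := act 6 n89907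
theorem D187335 : act 6 n89907 = n187335 := rfl
theorem F369867 : act 3 n187335 = n89909 := d7_1 D187335 (iv6 D89909) D89907
theorem F369868 : act 5 n187335 = n97370 := d12_1 D187335 (iv6 D97370) F291955 (iv6 F291956) (iv5 F138053)
def n187336 : Q := act 3 n89908
theorem D187336 : act 3 n89908 = n187336 := rfl
theorem F369869 : act 4 n187336 = n108220 := d5_2 D89908 D187336 (iv3 F222132) F346829 (iv3 D89907)
theorem F369870 : act 5 n187336 = n104660 := d6_2 (iv5 F138057) D187336 (iv3 D104660)
theorem F369871 : act 7 n187336 = n187257 := d8_2 (iv7 F138056) D187336 (iv3 D187257)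
def n187337 : Q := act 0 n89909
theorem D187337 : act 0 n89909 = n187337 := rfl
theorem F369872 : act 4 n187337 = n163339 := d18_3 F344659 F348736 D187337 (iv5 D163339) (iv4 D78498) F88453 (iv4 F193199) F193201 (iv5 F344661)
theorem F369873 : act 6 n187337 = n97176 := d21_5 (iv5 D23550) D23547 (iv5 F64846) D89909 D187337 (iv5 D97176) (iv1 D45413) D45414 F71650 (iv1 F36661)
theorem F369874 : act 2 n187265 = n187337 := d15_3 (iv0 D187337) (iv0 F358137) F369659
theorem F369875 : act 7 n187337 = n187228 := d4_2 F369659 F369874 F369561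
theorem F369876 : act 1 n166711 = n187337 := d15_1 F358138 F369875 F369561
def n187338 : Q := act 7 n89909
theorem D187338 : act 7 n89909 = n187338 := rfl
theorem F369877 : act 2 n187338 = n166711 := d4_1 D187338 (iv7 F348734) (iv2 F138058)
theorem F369878 : act 4 n187338 = n166710 := d11_1 D187338 F262413 F348736
theorem F369879 : act 5 n187338 = n97377 := d13_1 D187338 (iv7 D97377) (iv5 F138059)
theorem F369880 : act 6 n187338 = n187261 := d14_1 D187338 (iv7 D187261) (iv6 D89845) F64848 D89909
theorem F369881 : act 1 n187228 = n187338 := d15_1 (iv0 F369563) (iv7 D187338) F138058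
theorem F369882 : act 1 n187338 = n187265 := d15_1 F369881 (iv7 F369659) (iv2 F369561)
def n187339 : Q := act 2 n89910
theorem D187339 : act 2 n89910 = n187339 := rfl
theorem F369883 : act 3 n187339 = n187255 := d0_2 D89910 D187339 (iv2 D187255) (iv3 D89843) F64852
theorem F369884 : act 5 n187339 = n103799 := d2_2 (iv5 F138060) D187339 F159232
theorem F369885 : act 7 n187339 = n187262 := d4_2 (iv7 F138061) D187339 (iv2 D187262)
theorem F369886 : act 1 n187339 = n97160 := d15_0 (iv0 F353186) (iv7 F138061) D187339
theorem F369887 : act 1 n97163 = n187339 := d15_0 F369886 (iv7 F369811) F369810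
def n187340 : Q := act 4 n89910
theorem D187340 : act 4 n89910 = n187340 := rfl
theorem F369888 : act 7 n187340 = n187263 := d11_2 (iv7 F138061) D187340 (iv4 D187263)
def n187341 : Q := act 6 n89911
theorem D187341 : act 6 n89911 = n187341 := rfl
theorem F369889 : act 2 n187341 = n187258 := d3_1 D187341 (iv6 D187258) (iv2 F138062)
theorem F369890 : act 3 n187341 = n166715 := d7_1 D187341 F262418 F348744
theorem F369891 : act 4 n187341 = n89912 := d10_1 D187341 (iv6 D89912) D89911
theorem F369892 : act 7 n187341 = n166712 := d14_2 (iv7 F138064) D187341 (iv6 D166712) F122829 (iv6 F348740)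
def n187342 : Q := act 0 n89912
theorem D187342 : act 0 n89912 = n187342 := rfl
def n187343 : Q := act 1 n89912
theorem D187343 : act 1 n89912 = n187343 := rfl
theorem F369893 : act 1 n187343 = n187261 := d15_1 D187343 (iv7 D187261) (iv2 F138065)
def n187344 : Q := act 7 n89912
theorem D187344 : act 7 n89912 = n187344 := rfl
theorem F369894 : act 2 n187344 = n187261 := d4_1 D187344 (iv7 D187261) (iv2 F138065)
theorem F369895 : act 3 n187344 = n112857 := d8_1 D187344 F226848 F366967
theorem F369896 : act 4 n187344 = n166712 := d11_1 D187344 (iv7 F369892) F369891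
theorem F369897 : act 5 n187344 = n103811 := d13_1 D187344 (iv7 D103811) (iv5 F138066)
theorem F369898 : act 6 n187344 = n166711 := d14_1 D187344 (iv7 F348734) (iv6 D89848) (iv7 F64850) D89912
theorem F369899 : act 1 n187261 = n187342 := d15_0 (iv0 D187342) D187344 F369894
theorem F369900 : act 1 n187260 = n187344 := d15_1 D187260 (iv7 D187344) F138065
theorem F369901 : act 1 n187344 = n187259 := d15_0 (iv0 D187259) D187261 (iv2 F369894)
def n187345 : Q := act 3 n89913
theorem D187345 : act 3 n89913 = n187345 := rfl
theorem F369902 : act 5 n187345 = n104667 := d6_2 (iv5 F138067) D187345 (iv3 D104667)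
theorem F369903 : act 6 n187345 = n187276 := d7_2 (iv6 F358128) D187345 (iv3 D187276)
theorem F369904 : act 7 n187345 = n187266 := d8_2 F138071 D187345 (iv3 D187266)
def n187346 : Q := act 3 n89914
theorem D187346 : act 3 n89914 = n187346 := rfl
theorem F369905 : act 4 n187346 = n144098 := d5_2 (iv4 F138074) D187346 (iv3 F365374) F365781 F159342
theorem F369906 : act 5 n187346 = n104665 := d6_2 (iv5 F138075) D187346 (iv3 D104665)
theorem F369907 : act 7 n187346 = n187268 := d8_2 (iv7 F138073) D187346 (iv3 D187268)
def n187347 : Q := act 6 n89914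
theorem D187347 : act 6 n89914 = n187347 := rfl
theorem F369908 : act 2 n187347 = n187267 := d3_1 D187347 (iv6 D187267) F138076
theorem F369909 : act 4 n187347 = n103913 := d10_1 D187347 F159345 (iv4 F138074)
theorem F369910 : act 7 n187347 = n187279 := d14_2 (iv7 F138073) D187347 (iv6 D187279) (iv7 F369568) F369565
def n187348 : Q := act 0 n89915
theorem D187348 : act 0 n89915 = n187348 := rfl
theorem F369911 : act 1 n187271 = n187348 := d15_0 (iv0 D187348) F138077 D187271
def n187349 : Q := act 1 n89915
theorem D187349 : act 1 n89915 = n187349 := rfl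
def n187350 : Q := act 2 n89915
theorem D187350 : act 2 n89915 = n187350 := rfl
theorem F369912 : act 4 n187350 = n142139 := d1_2 F369847 D187350 (iv2 F369850)
theorem F369913 : act 6 n187350 = n97130 := d3_2 (iv6 F363592) D187350 F366292
theorem F369914 : act 7 n187350 = n187271 := d4_2 (iv7 F138077) D187350 (iv2 D187271)
theorem F369915 : act 1 n187350 = n187269 := d15_0 (iv0 D187269) (iv7 F138077) D187350
theorem F369916 : act 1 n187349 = n187271 := d15_1 D187349 (iv7 F369914) (iv2 D187350)
theorem F369917 : act 5 n144839 = n187350 := d17_5 F335287 D162692 F340259 F333982 F230704 F369915 (iv5 F369666) (iv0 D104644) (iv4 F160357)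
theorem F369918 : act 1 n187270 = n187350 := d15_1 D187270 F369914 (iv2 D187271)
theorem F369919 : act 5 n104645 = n187270 := d17_5 (iv1 F344684) F344685 (iv1 D162724) F303459 (iv4 F348566) F369918 (iv5 F369917) (iv0 F354855) F174018
def n187351 : Q := act 5 n89915
theorem D187351 : act 5 n89915 = n187351 := rfl
theorem F369920 : act 2 n187351 = n144839 := d2_1 D187351 F369917 (iv2 D187350)
theorem F369921 : act 3 n187351 = n89916 := d6_1 D187351 (iv5 D89916) D89915
theorem F369922 : act 6 n187351 = n95851 := d12_2 (iv6 F363592) D187351 (iv5 F319397) (iv6 F320369) D95810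
theorem F369923 : act 7 n187351 = n187272 := d13_2 (iv7 F138077) D187351 (iv5 D187272)
theorem F369924 : act 4 n187351 = n144818 := d16_4 D142067 F369849 F369847 D187351 F333981 F330134 F319312 F321319 (iv2 F321316)
theorem F369925 : act 0 n150669 = n187351 := d18_2 (iv1 D150668) D150669 F369924 F333981 F330134 (iv0 D80551) (iv4 F123782) F206394 F237210
theorem F369926 : act 1 n109579 = n187351 := d18_6 (iv1 F190301) F94643 (iv1 F188307) (iv4 F123751) D167760 F344634 F369924 F333980 F321727
def n187352 : Q := act 1 n89917
theorem D187352 : act 1 n89917 = n187352 := rfl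
theorem F369927 : act 1 n187352 = n97176 := d15_1 D187352 F340391 F340383
theorem F369928 : act 7 n187352 = n95940 := d15_2 (iv0 F340381) D187352 F317846
theorem F369929 : act 5 n187352 = n95941 := d17_7 (iv1 F94371) (iv5 F106183) (iv1 F188391) (iv5 F94856) F319352 (iv5 F340382) D187352 F317848 F94413
theorem F369930 : act 2 n127629 = n187352 := d2_3 F369929 F317849 D127629
theorem F369931 : act 6 n187352 = n89919 := d21_3 F317111 (iv1 F317848) (iv5 F369929) (iv1 D89919) (iv6 D42013) (iv5 D19806) (iv1 F35816) D21304 (iv6 F70302) D95770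
theorem F369932 : act 2 n89919 = n187312 := d3_1 F369931 (iv6 F369796) F369930
theorem F369933 : act 7 n187311 = n89919 := d15_2 F369794 F369793 F369932
theorem F369934 : act 7 n89918 = n187312 := d15_2 F369802 F369803 (iv2 F369932)
theorem F369935 : act 2 n187311 = n89918 := d4_3 F369934 (iv2 F369932) (iv7 F369933)
def n187353 : Q := act 3 n89918
theorem D187353 : act 3 n89918 = n187353 := rfl
def n187354 : Q := act 4 n89918
theorem D187354 : act 4 n89918 = n187354 := rfl
theorem F369936 : act 2 n187354 = n127652 := d1_1 D187354 (iv4 F369791) F369935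
theorem F369937 : act 7 n187354 = n127671 := d11_2 (iv7 F369934) D187354 (iv4 F369795)
theorem F369938 : act 5 n187354 = n127530 := d18_4 (iv1 D187352) F138083 D89918 D187354 (iv4 D127530) (iv0 D59893) (iv4 F94370) (iv0 F317847) (iv5 F369929)
theorem F369939 : act 1 n187354 = n97058 := d18_8 (iv1 F71529) F316756 (iv1 F94857) F319355 D97176 (iv4 F369800) F369803 D187354 (iv5 D97058)
theorem F369940 : act 1 n97063 = n187354 := d15_0 F369939 F348968 (iv2 F361116)
def n187355 : Q := act 5 n89918
theorem D187355 : act 5 n89918 = n187355 := rfl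
theorem F369941 : act 2 n187355 = n128259 := d2_1 D187355 (iv5 F369790) F369935
theorem F369942 : act 7 n187355 = n103194 := d13_2 (iv7 F369934) D187355 F369797
theorem F369943 : act 4 n187355 = n178932 := d16_4 D127530 (iv5 F369938) (iv4 D187354) D187355 F355434 F233882 F106183 F233729 F233722
theorem F369944 : act 6 n178930 = n187355 := d10_0 F369943 (iv6 D178932) D178930
theorem F369945 : act 0 n128262 = n187355 := d18_2 (iv1 F206082) (iv4 F206383) F369943 F355434 F233882 (iv0 F188390) (iv4 F237218) F237222 F231554
theorem F369946 : act 1 n128067 = n187355 := d18_6 (iv1 F305900) (iv4 D60189) (iv1 D28610) (iv4 F46175) D60181 D128067 F369943 (iv0 F355435) (iv5 D174954)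
def n187356 : Q := act 6 n89918
theorem D187356 : act 6 n89918 = n187356 := rfl
def n187357 : Q := act 3 n89919
theorem D187357 : act 3 n89919 = n187357 := rfl
def n187358 : Q := act 4 n89919
theorem D187358 : act 4 n89919 = n187358 := rfl
theorem F369947 : act 2 n187358 = n127671 := d1_1 D187358 (iv4 F369795) (iv2 F369932)
theorem F369948 : act 7 n187358 = n127652 := d11_2 F369933 D187358 (iv4 F369791)
theorem F369949 : act 5 n187358 = n127534 := d16_1 D187358 (iv4 D127534) (iv5 F106183) (iv4 F233882) (iv5 F355434) (iv4 F369943) (iv5 D187355) F369934 (iv2 F369932)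
theorem F369950 : act 1 n187358 = n97063 := d18_8 (iv1 D45370) F315993 D60312 F319352 (iv5 F340382) F138083 D89919 D187358 (iv5 D97063)
theorem F369951 : act 1 n97058 = n187358 := d15_0 F369950 (iv7 F361117) (iv2 F361118)
def n187359 : Q := act 5 n89919
theorem D187359 : act 5 n89919 = n187359 := rfl
theorem F369952 : act 2 n187359 = n103194 := d2_1 D187359 F369797 (iv2 F369932)
theorem F369953 : act 7 n187359 = n128259 := d13_2 F369933 D187359 (iv5 F369790)
theorem F369954 : act 1 n187359 = n128067 := d17_8 D128065 (iv5 F231554) (iv1 F237222) F237219 F340386 (iv5 D89920) D89919 D187359 (iv4 D128067)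
theorem F369955 : act 0 n187359 = n128262 := d18_0 F206383 (iv1 F206078) F354114 D133372 F358455 (iv0 F340381) F138083 D89919 D187359
theorem F369956 : act 6 n103041 = n187359 := d21_5 (iv5 D47772) (iv1 D22983) D22984 (iv6 F75029) D103041 (iv5 D187359) (iv1 D89919) D89920 F138084 (iv1 F75036)
def n187360 : Q := act 0 n89922
theorem D187360 : act 0 n89922 = n187360 := rfl
theorem F369957 : act 5 n187360 = n125663 := d17_1 D187360 (iv1 F360497) (iv5 D103207) F75113 D87884 F154122 F294731 (iv0 F294728) (iv4 F138086)
theorem F369958 : act 6 n187360 = n125664 := d21_5 (iv5 F331194) (iv1 F331200) (iv5 F137942) (iv6 F138088) D187360 (iv5 D125664) (iv1 F173609) F340584 F158378 (iv1 F76052)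
theorem F369959 : act 2 n97327 = n187360 := d15_3 (iv0 D187360) (iv0 F369641) (iv7 F360981)
theorem F369960 : act 1 n97321 = n187360 := d15_0 (iv0 D187360) F138089 (iv2 F150066)
theorem F369961 : act 7 n187360 = n97326 := d4_2 (iv7 F360981) F369959 (iv2 F349227)
theorem F369962 : act 3 n144027 = n187360 := d8_3 F369961 F349228 (iv7 F226718)
theorem F369963 : act 1 n95756 = n97321 := d15_0 F369960 F369961 (iv2 F349227)
def n187361 : Q := act 2 n89922
theorem D187361 : act 2 n89922 = n187361 := rfl
theorem F369964 : act 4 n187361 = n184252 := d1_2 (iv4 F138086) D187361 F286179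
theorem F369965 : act 5 n187361 = n103252 := d2_2 (iv5 F138087) D187361 (iv2 D103252)
theorem F369966 : act 6 n187361 = n187285 := d3_2 (iv6 F138088) D187361 (iv2 D187285)
theorem F369967 : act 7 n187361 = n97321 := d4_2 (iv7 F138089) D187361 F150066
theorem F369968 : act 1 n187361 = n97326 := d15_0 (iv0 D97326) (iv7 F138089) D187361
theorem F369969 : act 1 n97327 = n187361 := d15_0 F369968 (iv7 F369961) (iv2 F369959)
def n187362 : Q := act 1 n89923
theorem D187362 : act 1 n89923 = n187362 := rfl
theorem F369970 : act 7 n187362 = n97164 := d15_2 (iv0 F369816) D187362 (iv2 F369814)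
theorem F369971 : act 3 n144200 = n187362 := d8_3 F369970 F365306 (iv7 F323200)
theorem F369972 : act 6 n187281 = n187362 := d14_5 F369970 (iv6 D97164) (iv7 F283537) (iv6 F350450) (iv7 F369696)
def n187363 : Q := act 2 n89923
theorem D187363 : act 2 n89923 = n187363 := rfl
theorem F369973 : act 3 n187363 = n97321 := d0_2 D89923 D187363 F150066 F71710 (iv2 F64856)
theorem F369974 : act 4 n187363 = n94400 := d1_2 (iv4 F138090) D187363 F145562
theorem F369975 : act 5 n187363 = n103263 := d2_2 (iv5 F138091) D187363 (iv2 D103263)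
theorem F369976 : act 6 n187363 = n91855 := d3_2 F292637 D187363 (iv2 D91855)
theorem F369977 : act 0 n187363 = n97164 := d21_4 (iv5 F294676) F331394 F288984 (iv6 F369976) (iv6 D97164) D97163 (iv1 F367229) F137911 F292443 D88434
theorem F369978 : act 0 n103263 = n103668 := d21_7 (iv5 F34132) (iv1 F56639) F56638 D45406 (iv1 F293676) (iv6 F369976) F369975 (iv5 D103668) (iv6 D48014) (iv1 D23170)
def n187364 : Q := act 0 n89926
theorem D187364 : act 0 n89926 = n187364 := rfl
theorem F369979 : act 5 n187364 = n96237 := d17_1 D187364 (iv1 F160243) (iv5 D104588) (iv4 F135560) (iv5 F233528) F233532 F353200 (iv0 D94324) (iv4 F138098)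
theorem F369980 : act 3 n187364 = n187289 := d20_5 (iv4 D19810) D19808 D42018 D89926 D187364 F369716 (iv1 F283796) F283790 (iv3 D89929) (iv1 D42021)
theorem F369981 : act 4 n187364 = n187146 := d20_0 (iv1 D187146) (iv4 F350464) (iv3 D89859) (iv1 D41976) (iv3 F31582) (iv4 D19810) D19808 D42018 D89926 D187364
theorem F369982 : act 1 n187283 = n187364 := d15_0 (iv0 D187364) F138100 D187283
theorem F369983 : act 5 n187146 = n159559 := d17_5 (iv1 D44932) D44933 D96237 (iv5 F369979) F369981 (iv0 D159559) F114428 F292572 (iv4 F292565)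
theorem F369984 : act 6 n187146 = n94406 := d21_3 (iv5 F114428) D159559 (iv5 F369983) (iv1 D94406) (iv6 D44121) D44120 F292570 (iv5 D88698) D88699 (iv1 F292572)
theorem F369985 : act 5 n90750 = n94406 := d21_2 (iv5 F251133) (iv1 F251135) (iv6 F369984) (iv1 D187146) (iv6 F291246) F205513 (iv1 F205457) (iv5 D92955) (iv6 F205454) F205436
theorem F369986 : act 3 n95322 = n96237 := d6_3 (iv5 F369979) F369980 F369715
theorem F369987 : act 7 n96972 = n187364 := d8_0 F369980 F369719 (iv3 F149569)
theorem F369988 : act 7 n96237 = n104589 := d13_2 F369987 F369979 (iv5 F160245)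
theorem F369989 : act 2 n104589 = n96238 := d15_3 F160242 F160243 F369988
theorem F369990 : act 2 n96237 = n104590 := d15_3 F160246 F160244 (iv7 F369988)
theorem F369991 : act 7 n104590 = n96238 := d4_2 (iv7 F369988) F369990 (iv2 F369989)
def n187365 : Q := act 1 n89926
theorem D187365 : act 1 n89926 = n187365 := rfl
theorem F369992 : act 5 n187365 = n96238 := d18_9 (iv1 D96238) D96239 F353197 (iv4 F353190) F353191 (iv4 F353198) (iv0 D94324) (iv4 F138098) D187365
theorem F369993 : act 4 n92433 = n187365 := d20_0 (iv1 D187365) F138098 F69439 F63350 F69036 F69033 (iv1 F291519) D41849 D89606 F353184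
theorem F369994 : act 6 n187365 = n92431 := d10_2 D92433 F369993 (iv4 D92431)
theorem F369995 : act 2 n96972 = n187365 := d3_3 F369994 F178270 D96972
theorem F369996 : act 1 n187365 = n187283 := d15_0 F369982 (iv7 F369987) F369995
theorem F369997 : act 7 n187282 = n187365 := d15_2 (iv0 F288025) D187282 (iv2 F369995)
theorem F369998 : act 2 n187364 = n187282 := d4_3 F369997 (iv2 F369995) F369987
theorem F369999 : act 5 n104590 = n187282 := d13_3 F369997 F369992 (iv7 F369991)
theorem F370000 : act 6 n96071 = n187282 := d14_5 F369997 F369994 F178271 D96976 (iv7 F360297)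
def n187366 : Q := act 2 n89926
theorem D187366 : act 2 n89926 = n187366 := rfl
theorem F370001 : act 3 n187366 = n97471 := d0_2 D89926 D187366 F150250 F71797 (iv2 F64862)
theorem F370002 : act 4 n187366 = n94318 := d1_2 (iv4 F138098) D187366 F145462
theorem F370003 : act 6 n187366 = n90003 := d3_2 F294186 D187366 (iv2 D90003)
theorem F370004 : act 7 n187366 = n187283 := d4_2 (iv7 F138100) D187366 (iv2 D187283)
theorem F370005 : act 1 n187366 = n96972 := d15_0 (iv0 F288025) (iv7 F138100) D187366
theorem F370006 : act 1 n187282 = n187366 := d15_0 F370005 F369987 F369998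
def n187367 : Q := act 0 n89928
theorem D187367 : act 0 n89928 = n187367 := rfl
theorem F370007 : act 1 n187285 = n187367 := d15_0 (iv0 D187367) F138105 D187285
theorem F370008 : act 6 n144200 = n187367 := d21_9 F369704 (iv1 F160645) (iv5 D104621) D104622 F161649 F76073 F322866 (iv1 F186077) (iv5 F323199) (iv1 F370007)
theorem F370009 : act 2 n187367 = n176698 := d3_1 F370008 (iv6 F331235) (iv2 F323198)
theorem F370010 : act 3 n187367 = n187281 := d7_1 F370008 F369972 (iv3 F369971)
theorem F370011 : act 7 n187367 = n97117 := d14_2 (iv7 F323200) F370008 (iv6 D97117) (iv7 F283555) (iv6 F365308)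
theorem F370012 : act 5 n187367 = n103658 := d21_6 D103094 F361886 (iv5 F369067) F369065 F352751 F370008 (iv1 F160323) (iv5 D104623) (iv6 F158378) (iv1 F158379)
def n187368 : Q := act 1 n89928
theorem D187368 : act 1 n89928 = n187368 := rfl
theorem F370013 : act 7 n187368 = n176698 := d15_2 (iv0 D187367) D187368 (iv2 F370009)
theorem F370014 : act 3 n160609 = n187368 := d20_3 D166261 (iv1 F353218) (iv4 F353214) (iv1 D187368) (iv3 D89928) (iv4 F292083) F122674 (iv4 F292170) F326726 F300513
theorem F370015 : act 5 n103659 = n187368 := d21_0 (iv1 D187368) F138103 D104649 F361132 D176830 F354541 (iv1 F173550) (iv5 F220409) (iv6 F340585) (iv1 F160322)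
theorem F370016 : act 2 n187368 = n97117 := d2_1 F370015 F160325 (iv2 F353169)
theorem F370017 : act 6 n187368 = n97099 := d21_3 D104623 (iv1 F160322) F370015 (iv1 F149820) F71606 D89836 D187234 F369589 (iv6 D103654) (iv1 F76051)
theorem F370018 : act 0 n187285 = n187368 := d21_10 (iv5 F370015) (iv1 D103659) (iv5 D48009) (iv6 D23167) D23164 D48003 (iv5 F296080) (iv1 F296437) (iv5 F369965) F369966
def n187369 : Q := act 2 n89928
theorem D187369 : act 2 n89928 = n187369 := rfl
theorem F370019 : act 3 n187369 = n97352 := d0_2 D89928 D187369 F150104 F71720 F64870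
theorem F370020 : act 4 n187369 = n137838 := d1_2 (iv4 F138102) D187369 F365468
theorem F370021 : act 5 n187369 = n104647 := d2_2 (iv5 F138103) D187369 (iv2 D104647)
theorem F370022 : act 6 n187369 = n91850 := d3_2 F293100 D187369 (iv2 D91850)
theorem F370023 : act 7 n187369 = n187285 := d4_2 (iv7 F138105) D187369 (iv2 D187285)
theorem F370024 : act 1 n187369 = n97117 := d15_0 (iv0 F160326) (iv7 F138105) D187369
theorem F370025 : act 1 n176698 = n187369 := d15_0 F370024 (iv7 F370011) F370009
theorem F370026 : act 0 n104317 = n97116 := d21_7 F370021 F331201 F331194 D103657 F251762 F290798 D104317 (iv5 D97116) D97117 (iv1 F370024)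
def n187370 : Q := act 1 n89929
theorem D187370 : act 1 n89929 = n187370 := rfl
theorem F370027 : act 7 n187370 = n97358 := d15_2 F283794 D187370 F283802
theorem F370028 : act 4 n187370 = n159805 := d17_9 (iv1 F251829) (iv5 F159981) F364725 (iv5 D92801) F135534 D103114 F160665 (iv5 F138106) D187370
theorem F370029 : act 6 n144027 = n187370 := d21_9 F138106 (iv1 F160665) (iv5 D103114) D103115 F178369 (iv6 D103799) F323025 (iv1 F323022) (iv5 F226719) (iv1 D187370)
theorem F370030 : act 2 n187370 = n97357 := d3_1 F370029 F350466 F226720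
theorem F370031 : act 3 n187370 = n125664 := d7_1 F370029 (iv6 F369958) (iv3 F369962)
theorem F370032 : act 5 n187370 = n104792 := d12_1 F370029 F355933 (iv5 F336180) F172069 (iv5 F226719)
theorem F370033 : act 0 n97352 = n187370 := d21_4 D186061 (iv1 F331403) (iv5 D97351) D97352 (iv6 F370029) F226719 (iv1 D110994) (iv5 F295723) F291604 D88627
def n187371 : Q := act 2 n89929
theorem D187371 : act 2 n89929 = n187371 := rfl
theorem F370034 : act 3 n187371 = n187285 := d0_2 D89929 D187371 (iv2 D187285) (iv3 D89865) F64879
theorem F370035 : act 5 n187371 = n104657 := d2_2 (iv5 F138106) D187371 (iv2 D104657)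
theorem F370036 : act 7 n187371 = n97352 := d4_2 (iv7 F138107) D187371 F150104
theorem F370037 : act 1 n187371 = n97357 := d15_0 (iv0 D97357) (iv7 F138107) D187371
theorem F370038 : act 1 n97358 = n187371 := d15_0 F370037 (iv7 F288028) (iv2 F283802)
def n187372 : Q := act 0 n89931
theorem D187372 : act 0 n89931 = n187372 := rfl
theorem F370039 : act 4 n187372 = n158869 := d20_0 (iv1 D158869) (iv4 F119667) (iv3 D78468) (iv1 D35756) D35757 F56437 D35763 D78493 (iv3 F340622) D187372
theorem F370040 : act 2 n176725 = n187372 := d1_3 F370039 F348776 D176725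
theorem F370041 : act 7 n176730 = n187372 := d11_0 F370039 F348778 D176730
theorem F370042 : act 3 n160616 = n187372 := d20_5 (iv4 D17329) F28027 D35180 D77017 D160616 F370039 (iv1 D158869) (iv4 F119667) (iv3 D78468) (iv1 D35756)
theorem F370043 : act 7 n160842 = n160616 := d8_0 F370042 (iv7 F370041) (iv3 F276107)
theorem F370044 : act 2 n160616 = n160843 := d15_3 F254006 F254003 F370043
theorem F370045 : act 2 n160842 = n160617 := d15_3 F254007 F254005 (iv7 F370043)
theorem F370046 : act 7 n160617 = n160843 := d4_2 (iv7 F370043) F370045 (iv2 F370044)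
def n187373 : Q := act 1 n89931
theorem D187373 : act 1 n89931 = n187373 := rfl
theorem F370047 : act 7 n187373 = n176725 := d15_2 (iv0 D187372) D187373 F370040
theorem F370048 : act 4 n158868 = n187373 := d20_0 (iv1 D187373) F340623 (iv3 D164092) (iv1 D78833) (iv3 D35888) (iv4 D17376) (iv1 F27555) D34665 D75804 D158868
theorem F370049 : act 2 n187373 = n176730 := d1_1 F370048 (iv4 D176730) (iv2 F348779)
def n187374 : Q := act 7 n89931
theorem D187374 : act 7 n89931 = n187374 := rfl
theorem F370050 : act 3 n187374 = n121158 := d8_1 D187374 F257940 (iv3 F340622)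
theorem F370051 : act 5 n187374 = n187254 := d13_1 D187374 (iv7 D187254) (iv5 F138114)
theorem F370052 : act 6 n187374 = n187288 := d14_1 D187374 (iv7 D187288) (iv6 D89867) (iv7 F64882) D89931
theorem F370053 : act 0 n187374 = n176730 := d20_10 (iv4 D176730) (iv1 D84257) (iv4 F129308) (iv3 D84248) F59870 D55898 F88440 D55904 D121158 (iv3 F370050)
theorem F370054 : act 1 n187374 = n176725 := d15_1 (iv0 F370053) (iv7 F370047) F370049
theorem F370055 : act 1 n103123 = n176730 := d15_0 (iv0 F370053) (iv7 D187374) (iv2 F158406)
theorem F370056 : act 1 n176725 = n103123 := d15_0 F370055 F370041 (iv2 F370040)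
def n187375 : Q := act 0 n89934
theorem D187375 : act 0 n89934 = n187375 := rfl
theorem F370057 : act 5 n187375 = n107111 := d17_1 D187375 (iv1 D107111) F331300 (iv4 F157726) D149659 F235273 (iv5 F350467) (iv0 F345038) (iv4 F294335)
theorem F370058 : act 4 n187375 = n94016 := d18_1 D187375 (iv1 D94016) F299846 (iv5 D67476) F49619 D31357 D67483 F219904 F345191
theorem F370059 : act 6 n187375 = n187289 := d21_5 D96235 (iv1 F369702) (iv5 D187284) (iv6 F138126) D187375 F369715 (iv1 F356065) (iv5 F356000) F146953 (iv1 F76033)
theorem F370060 : act 2 n97428 = n187375 := d15_3 (iv0 D187375) (iv0 F345200) (iv7 F350538)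
theorem F370061 : act 1 n97422 = n187375 := d15_0 (iv0 D187375) F138127 (iv2 F150168)
theorem F370062 : act 7 n187375 = n97427 := d15_2 (iv0 F350536) F370061 F350539
def n187376 : Q := act 6 n89935
theorem D187376 : act 6 n89935 = n187376 := rfl
theorem F370063 : act 2 n187376 = n184426 := d3_1 D187376 (iv6 D184426) (iv2 F294118)
theorem F370064 : act 3 n187376 = n113370 := d7_1 D187376 (iv6 F219903) (iv3 F359400)
theorem F370065 : act 4 n187376 = n103274 := d10_1 D187376 (iv6 D103274) (iv4 F138131)
theorem F370066 : act 5 n187376 = n173851 := d12_1 D187376 (iv6 F337347) (iv5 D89864) (iv6 F64888) D89935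
theorem F370067 : act 7 n187376 = n137073 := d14_2 (iv7 F138128) D187376 (iv6 D137073) F100357 F331251
theorem F370068 : act 0 n187376 = n133358 := d21_4 (iv5 D87940) (iv1 F293332) D89935 D187376 (iv6 D133358) D133357 F355472 (iv5 F158316) (iv6 D103057) (iv1 F294026)
theorem F370069 : act 6 n103361 = n173854 := d21_5 (iv5 D47863) (iv1 F36093) D23059 D47897 D103361 (iv5 D173854) D173851 (iv5 F370066) (iv6 D187376) F138129
theorem F370070 : act 3 n173858 = n103361 := d7_3 F370069 F272491 D173858
def n187377 : Q := act 5 n89990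
theorem D187377 : act 5 n89990 = n187377 := rfl
theorem F370071 : act 2 n187377 = n89991 := d2_1 D187377 (iv5 D89991) D89990
theorem F370072 : act 3 n187377 = n181897 := d6_1 D187377 (iv5 D181897) (iv3 F138232)
theorem F370073 : act 7 n187377 = n185599 := d13_2 (iv7 F138233) D187377 (iv5 D185599)
theorem F370074 : act 0 n187377 = n95559 := d17_2 (iv1 F138234) D187377 (iv5 D95559) F70187 D82489 D172227 (iv5 F357389) F295183 (iv4 D185594)
theorem F370075 : act 0 n181923 = n187377 := d21_1 D181923 (iv5 D187377) (iv6 F294893) (iv1 F148293) (iv6 F75211) D103349 F359410 (iv5 D87948) F62300 D86892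
def n187378 : Q := act 4 n89991
theorem D187378 : act 4 n89991 = n187378 := rfl
theorem F370076 : act 7 n187378 = n185603 := d11_2 (iv7 F138238) D187378 (iv4 D185603)
def n187379 : Q := act 6 n89991
theorem D187379 : act 6 n89991 = n187379 := rfl
theorem F370077 : act 3 n187379 = n89992 := d7_1 D187379 (iv6 D89992) (iv3 F138237)
def n187380 : Q := act 0 n89992
theorem D187380 : act 0 n89992 = n187380 := rfl
theorem F370078 : act 6 n187380 = n94351 := d21_5 (iv5 D44959) F33743 D42061 D89992 D187380 F293604 (iv1 F358090) F358092 (iv6 D90006) (iv1 F70693)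
theorem F370079 : act 3 n94353 = n187380 := d7_3 F370078 (iv3 D94351) D94353
theorem F370080 : act 4 n187380 = n106637 := d20_6 (iv4 D61518) (iv1 D29126) D29127 D61522 (iv1 F352939) F370079 (iv1 F358315) (iv4 F295478) F295477 (iv1 F96041)
def n187381 : Q := act 1 n89992
theorem D187381 : act 1 n89992 = n187381 := rfl
theorem F370081 : act 1 n187381 = n181907 := d15_1 D187381 (iv7 D181907) (iv2 F138239)
theorem F370082 : act 4 n106632 = n187381 := d20_0 (iv1 D187381) (iv4 F294900) F352534 (iv1 F361769) F164181 F77833 (iv1 F77688) (iv4 F96404) (iv3 F211173) F358254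
def n187382 : Q := act 7 n89992
theorem D187382 : act 7 n89992 = n187382 := rfl
theorem F370083 : act 2 n187382 = n181907 := d4_1 D187382 (iv7 D181907) (iv2 F138239)
theorem F370084 : act 6 n187382 = n185612 := d14_1 D187382 (iv7 D185612) (iv6 D88413) (iv7 F64941) D89992
theorem F370085 : act 1 n181907 = n187380 := d15_0 (iv0 D187380) D187382 F370083
theorem F370086 : act 1 n181906 = n187382 := d15_1 D181906 (iv7 D187382) F138239
theorem F370087 : act 1 n187382 = n181905 := d15_0 (iv0 D181905) D181907 (iv2 F370083)
def n187383 : Q := act 3 n89993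
theorem D187383 : act 3 n89993 = n187383 := rfl
theorem F370088 : act 6 n187383 = n102001 := d7_2 (iv6 F343078) D187383 (iv3 F160292)
theorem F370089 : act 7 n187383 = n91090 := d8_2 (iv7 F343079) D187383 (iv3 F140139)
theorem F370090 : act 4 n187383 = n90379 := d20_6 (iv4 D19052) F14530 D19835 D42062 D89993 D187383 (iv1 D90379) (iv4 F133281) (iv3 D86873) (iv1 D40303)
theorem F370091 : act 2 n91085 = n187383 := d1_3 F370090 F357549 D91085
theorem F370092 : act 1 n176940 = n187383 := d17_8 (iv1 D90379) D90381 F343086 (iv5 D89114) D89113 F364442 F270266 D176940 F370090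
theorem F370093 : act 0 n176945 = n187383 := d18_0 F370090 (iv1 D90379) (iv4 F133281) (iv5 F292816) (iv4 F364456) (iv0 D176933) F129398 D84338 D176945
def n187384 : Q := act 4 n89993
theorem D187384 : act 4 n89993 = n187384 := rfl
theorem F370094 : act 2 n187384 = n182853 := d1_1 D187384 (iv4 D182853) (iv2 F343076)
theorem F370095 : act 7 n187384 = n182848 := d11_2 (iv7 F343079) D187384 (iv4 D182848)
theorem F370096 : act 3 n187384 = n185458 := d20_9 F287916 (iv1 D90211) F65098 (iv3 D41280) (iv1 F31638) D42062 F64942 D89993 D187384 (iv1 F367075)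
theorem F370097 : act 1 n186185 = n182848 := d15_1 (iv0 F288962) (iv7 F370095) F370094
def n187385 : Q := act 3 n89994
theorem D187385 : act 3 n89994 = n187385 := rfl
theorem F370098 : act 6 n187385 = n100780 := d7_2 (iv6 F343073) D187385 F154877
theorem F370099 : act 7 n187385 = n182852 := d8_2 (iv7 F343074) D187385 (iv3 D182852)
theorem F370100 : act 4 n187385 = n99779 := d20_6 (iv4 D21359) F293026 (iv4 F63607) (iv3 F133981) (iv1 F138245) D187385 (iv1 D99779) F294695 (iv3 F294543) (iv1 D44838)
theorem F370101 : act 2 n100846 = n187385 := d1_3 F370100 F357388 (iv4 F154950)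
theorem F370102 : act 0 n185649 = n187385 := d20_10 F370100 (iv1 D99779) F294695 (iv3 F294543) (iv1 D44838) D44839 (iv4 F292764) D102956 F158245 D185649
theorem F370103 : act 1 n176674 = n187385 := d15_0 (iv0 F370102) (iv7 F350441) F350444
theorem F370104 : act 0 n137960 = n95414 := d20_4 (iv4 F370100) (iv1 F370103) F360352 F350434 (iv3 D95414) (iv4 F138789) F294266 F287701 F295366 (iv1 F295183)
def n187386 : Q := act 4 n89994
theorem D187386 : act 4 n89994 = n187386 := rfl
theorem F370105 : act 2 n187386 = n182848 := d1_1 D187386 (iv4 D182848) (iv2 F343071)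
theorem F370106 : act 6 n187386 = n103022 := d10_2 (iv6 F343073) D187386 (iv4 D103022)
theorem F370107 : act 7 n187386 = n182853 := d11_2 (iv7 F343074) D187386 (iv4 D182853)
theorem F370108 : act 3 n187386 = n96294 := d20_3 F133982 (iv1 F138245) D187386 (iv1 F283168) F283165 (iv4 D91093) (iv1 F139092) (iv4 F370090) (iv3 D187383) (iv1 F138240)
theorem E103283 : n184200 = n96294 := ((c7_2 (iv6 F370106) F370108 (iv6 D184200) (iv3 F158270))).symm
theorem F370109 : act 2 n96294 = n181880 := (sb E103283 (iv2 F367092))
theorem F370110 : act 6 n96294 = n87857 := (sb E103283 (iv6 D184200))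
theorem F370111 : act 7 n96294 = n181879 := (sb E103283 (iv7 F367093))
theorem F370112 : act 2 n181879 = n96295 := d15_3 F283170 F283168 F370111
theorem F370113 : act 7 n181880 = n96295 := d4_2 (iv7 F370111) F370109 (iv2 F370112)
theorem F370114 : act 6 n96295 = n185470 := d14_1 F370113 F363040 (iv6 D184202) (iv7 F159263) F367091
theorem F370115 : act 1 n181893 = n182853 := d15_1 (iv0 F284400) (iv7 F370107) F370105
def n187387 : Q := act 4 n89996
theorem D187387 : act 4 n89996 = n187387 := rfl
theorem F370116 : act 2 n187387 = n138940 := d1_1 D187387 (iv4 F348071) (iv2 F291968)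
theorem F370117 : act 3 n187387 = n97377 := d5_1 D187387 F327101 F119780 (iv4 F64945) (iv3 F138247)
theorem F370118 : act 7 n187387 = n97370 := d11_2 (iv7 F138248) D187387 F327100
theorem F370119 : act 6 n138923 = n187387 := d14_5 F370118 (iv6 D97370) (iv7 F293050) (iv6 F348761) F319046
def n187388 : Q := act 6 n89996
theorem D187388 : act 6 n89996 = n187388 := rfl
theorem F370120 : act 2 n187388 = n138939 := d3_1 D187388 F348070 (iv2 F291968)
theorem F370121 : act 3 n187388 = n89997 := d7_1 D187388 (iv6 D89997) (iv3 F138247)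
theorem F370122 : act 4 n187388 = n138923 := d10_1 D187388 F370119 (iv4 D187387)
theorem F370123 : act 5 n187388 = n176687 := d12_1 D187388 (iv6 D176687) (iv5 F335303) F291907 D89996
def n187389 : Q := act 0 n89997
theorem D187389 : act 0 n89997 = n187389 := rfl
theorem F370124 : act 4 n187389 = n132908 := d18_3 F340300 (iv4 F138250) D187389 (iv5 D132908) (iv4 D62372) F213157 (iv4 F47004) (iv0 F211585) (iv5 F211618)
theorem F370125 : act 2 n90058 = n187389 := d1_3 F370124 F213503 (iv4 F363616)
theorem F370126 : act 7 n90059 = n187389 := d11_0 F370124 F213505 (iv4 F361706)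
theorem F370127 : act 1 n90060 = n187389 := d18_6 F213501 (iv4 D132298) (iv1 D62068) (iv4 F96417) D131812 F340298 F370124 F347532 F347530
theorem F370128 : act 0 n131954 = n106836 := d20_4 F77854 (iv1 F77692) (iv4 F96518) D131954 (iv3 F213504) (iv4 F370124) (iv1 F370127) (iv4 F340298) F211225 F96421
theorem F370129 : act 1 n132150 = n106836 := d15_0 (iv0 F370128) F211429 F343681
theorem F370130 : act 1 n106841 = n132150 := d15_0 F370129 (iv7 F213649) F213647
def n187390 : Q := act 1 n89997
theorem D187390 : act 1 n89997 = n187390 := rfl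
theorem F370131 : act 1 n187390 = n90060 := d15_1 D187390 (iv7 D90060) (iv2 F138249)
theorem F370132 : act 7 n187390 = n90058 := d15_2 (iv0 D187389) D187390 F370125
theorem F370133 : act 2 n90059 = n187390 := d4_3 F370132 F370125 (iv7 F370126)
theorem F370134 : act 4 n132947 = n187390 := d11_3 F370132 F363616 D132947
def n187391 : Q := act 7 n89997
theorem D187391 : act 7 n89997 = n187391 := rfl
theorem F370135 : act 2 n187391 = n90060 := d4_1 D187391 (iv7 D90060) (iv2 F138249)
theorem F370136 : act 4 n187391 = n132079 := d11_1 D187391 F340297 (iv4 F138250)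
theorem F370137 : act 6 n187391 = n182863 := d14_1 D187391 (iv7 D182863) (iv6 D87293) (iv7 F64946) D89997
theorem F370138 : act 1 n90059 = n187391 := d15_1 D90059 (iv7 D187391) F138249
theorem F370139 : act 1 n187391 = n90058 := d15_1 F370138 (iv7 F370132) (iv2 F370133)
def n187392 : Q := act 3 n90002
theorem D187392 : act 3 n90002 = n187392 := rfl
theorem F370140 : act 7 n187392 = n96959 := d8_2 (iv7 F294585) D187392 F149541
theorem F370141 : act 0 n187392 = n95508 := d20_4 F69053 D43937 (iv4 F294583) D187392 (iv3 F147665) F147664 F157292 F147420 (iv3 F71642) (iv1 F157280)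
theorem F370142 : act 0 n95504 = n187392 := d20_4 (iv4 F147425) F284882 (iv4 D183231) F147135 (iv3 D187392) F294583 (iv1 F178328) F178331 (iv3 F147153) (iv1 F157625)
def n187393 : Q := act 5 n90003
theorem D187393 : act 5 n90003 = n187393 := rfl
theorem F370143 : act 2 n187393 = n90004 := d2_1 D187393 (iv5 D90004) D90003
theorem F370144 : act 3 n187393 = n97470 := d6_1 D187393 (iv5 D97470) F295000
theorem F370145 : act 4 n187393 = n137095 := d9_1 D187393 F358390 (iv4 F281167) (iv5 F369394) (iv4 D187180) F137621 (iv4 F294529) D45495 D97425 F294702 F262091 (iv5 F341786) (iv4 F341787) (iv5 D94317) (iv4 F294945)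
theorem F370146 : act 7 n187393 = n97421 := d13_2 F295129 D187393 (iv5 D97421)
theorem F370147 : act 1 n187393 = n97423 := d17_6 D89668 D187170 (iv1 F369326) (iv5 D94317) (iv4 F294945) D187393 F293681 (iv0 D86875) (iv4 F64566)
theorem F370148 : act 0 n187393 = n97424 := d18_0 F360347 (iv1 D144223) F103451 D67562 (iv4 F305030) F205495 (iv4 F71420) (iv0 F294943) D187393
theorem F370149 : act 0 n104299 = n96971 := d21_1 D104299 (iv5 D96971) D96972 (iv1 F370005) F370003 D187393 F370148 F360348 (iv6 F367171) (iv1 D104297)
theorem F370150 : act 5 n96071 = n103866 := d21_6 (iv5 F293681) (iv1 F370147) (iv5 D187393) (iv6 F370003) (iv1 F370006) (iv6 F370000) (iv1 D103866) (iv5 D48085) F293594 D86875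
theorem F370151 : act 6 n137095 = n187393 := d14_5 F370146 F331312 (iv7 F95016) D64443 D137095
def n187394 : Q := act 1 n90004
theorem D187394 : act 1 n90004 = n187394 := rfl
theorem F370152 : act 1 n187394 = n97421 := d15_1 D187394 (iv7 F370146) F370143
theorem F370153 : act 7 n187394 = n97424 := d15_2 F350533 D187394 F360346
theorem F370154 : act 5 n187394 = n90015 := d17_7 (iv1 F137500) (iv5 F353201) (iv1 D94321) (iv5 D44090) (iv4 F294185) D90004 D187394 F138310 (iv4 F137496)
theorem F370155 : act 4 n187394 = n117019 := d17_9 (iv1 F306988) (iv5 F360303) (iv1 D158887) (iv5 F292455) F343691 (iv5 D95563) F294586 D90004 D187394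
theorem F370156 : act 2 n97423 = n187394 := d1_3 F370155 F350528 (iv4 F293680)
def n187395 : Q := act 4 n90004
theorem D187395 : act 4 n90004 = n187395 := rfl
theorem F370157 : act 2 n187395 = n137095 := d1_1 D187395 (iv4 F370145) F370143
theorem F370158 : act 3 n187395 = n90006 := d5_1 D187395 (iv4 F354386) F257733 F119734 (iv3 F138270)
theorem F370159 : act 7 n187395 = n97425 := d11_2 (iv7 F294691) D187395 (iv4 D97425)
theorem F370160 : act 0 n187395 = n137093 := d18_2 (iv1 D187394) D187395 F365052 (iv5 F350496) (iv4 D102919) (iv0 D47729) (iv4 F64972) D90015 (iv5 F370154)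
theorem F370161 : act 1 n187395 = n137092 := d18_6 (iv1 F305032) (iv4 F144800) (iv1 D44087) (iv4 F294185) D90004 D187395 F350535 (iv0 D67560) D67562
theorem F370162 : act 6 n90004 = n187395 := d14_5 F370159 F331314 (iv7 F95043) (iv6 F331293) (iv7 F294691)
def n187396 : Q := act 6 n90014
theorem D187396 : act 6 n90014 = n187396 := rfl
theorem F370163 : act 2 n187396 = n104297 := d3_1 D187396 F367171 (iv2 F288954)
theorem F370164 : act 3 n187396 = n104716 := d7_1 D187396 F292575 (iv3 F138302)
theorem F370165 : act 4 n187396 = n164484 := d10_1 D187396 F259223 F293509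
theorem F370166 : act 7 n187396 = n95317 := d14_2 (iv7 F288955) D187396 (iv6 D95317) (iv7 F160266) F294383
theorem F370167 : act 0 n187396 = n104298 := d21_4 D90004 (iv1 F350533) F289094 D187396 F367238 F331378 F331380 (iv5 F293683) (iv6 F294584) (iv1 D90002)
theorem F370168 : act 0 n90659 = n187396 := d21_4 F350537 (iv1 F331303) (iv5 D90658) D90659 (iv6 D187396) (iv5 F289094) (iv1 F350534) (iv5 D97421) D97422 F350536
theorem F370169 : act 5 n96977 = n187396 := d21_8 D181897 (iv1 F365035) (iv5 D96962) (iv6 D45330) (iv1 D21612) D21615 D45336 D96977 (iv6 D187396) (iv1 F138303)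
def n187397 : Q := act 3 n90015
theorem D187397 : act 3 n90015 = n187397 := rfl
theorem F370170 : act 2 n187397 = n186185 := d0_1 D187397 (iv3 D186185) (iv2 F292437) (iv3 F293462) (iv2 F288950)
theorem F370171 : act 4 n187397 = n186185 := d5_2 F138304 D187397 (iv3 D186185) (iv4 D88697) D88696
theorem F370172 : act 6 n187397 = n95319 := d7_2 (iv6 F292555) D187397 (iv3 D95319)
theorem F370173 : act 7 n187397 = n181893 := d8_2 (iv7 F288951) D187397 (iv3 D181893)
theorem F370174 : act 0 n187397 = n187384 := d20_10 (iv4 D187384) (iv1 F138240) F133982 F133981 (iv1 F293016) D48473 F76242 F292481 F138304 D187397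
theorem F370175 : act 1 n187397 = n187386 := d15_1 (iv0 F370174) F370107 (iv2 F370094)
def n187398 : Q := act 5 n90016
theorem D187398 : act 5 n90016 = n187398 := rfl
theorem F370176 : act 2 n187398 = n90017 := d2_1 D187398 (iv5 D90017) D90016
theorem F370177 : act 3 n187398 = n185599 := d6_1 D187398 (iv5 D185599) (iv3 F138306)
theorem F370178 : act 7 n187398 = n181897 := d13_2 (iv7 F138308) D187398 (iv5 D181897)
theorem F370179 : act 0 n187398 = n181899 := d17_2 (iv1 F138309) D187398 (iv5 F365108) F294583 D94002 (iv0 F331421) (iv5 D94036) (iv0 F251870) (iv4 F293463)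
theorem F370180 : act 1 n187398 = n95563 := d17_6 F157256 (iv5 F97674) (iv1 F293784) (iv5 D102927) (iv4 F138307) D187398 (iv5 D95563) F294586 F294185
theorem F370181 : act 6 n187398 = n144094 := d21_3 F293681 (iv1 F138309) D187398 (iv1 D144094) (iv6 D67514) (iv5 D31369) (iv1 F48671) (iv5 F95039) (iv6 F331293) D97423
def n187399 : Q := act 4 n90017
theorem D187399 : act 4 n90017 = n187399 := rfl
theorem F370182 : act 3 n187399 = n158060 := d5_1 D187399 (iv4 F348786) (iv3 D97389) F294089 (iv3 F138312)
theorem F370183 : act 7 n187399 = n181900 := d11_2 (iv7 F138313) D187399 (iv4 D181900)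
theorem F370184 : act 1 n187399 = n180636 := d18_6 (iv1 F350514) (iv4 D102924) (iv1 D47730) (iv4 F64972) D90017 D187399 (iv4 F366983) (iv0 F177450) (iv5 F160712)
def n187400 : Q := act 6 n90017
theorem D187400 : act 6 n90017 = n187400 := rfl
theorem F370185 : act 2 n187400 = n144094 := d3_1 D187400 (iv6 F370181) F370176
theorem F370186 : act 3 n187400 = n90019 := d7_1 D187400 (iv6 D90019) (iv3 F138312)
theorem F370187 : act 0 n187400 = n116973 := d21_4 F370154 (iv1 D90015) D90017 D187400 (iv6 D116973) (iv5 D53909) (iv1 F48474) (iv5 F95013) (iv6 F331312) (iv1 F370152)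
theorem F370188 : act 1 n187400 = n144096 := d15_1 (iv0 F370187) (iv7 D144096) (iv2 F182846)
def n187401 : Q := act 0 n90019
theorem D187401 : act 0 n90019 = n187401 := rfl
theorem F370189 : act 4 n187401 = n163607 := d18_3 F358963 F294906 D187401 F257876 (iv4 F140955) (iv0 F258191) (iv4 F258255) F257785 D163514
theorem F370190 : act 6 n187401 = n144546 := d21_5 F133320 (iv1 F64937) D42073 D90019 D187401 (iv5 D144546) F331271 F134944 (iv6 D86897) D86896
theorem F370191 : act 3 n144549 = n187401 := d7_3 F370190 F227407 D144549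
theorem F370192 : act 7 n185610 = n187401 := d11_0 F370189 F257875 (iv4 F358961)
theorem F370193 : act 2 n187401 = n185609 := d15_3 (iv0 D185609) D185610 F370192
theorem F370194 : act 4 n185609 = n163455 := d1_2 (iv4 F370189) F370193 F257877
def n187402 : Q := act 1 n90019
theorem D187402 : act 1 n90019 = n187402 := rfl
theorem F370195 : act 1 n187402 = n185612 := d15_1 D187402 (iv7 D185612) (iv2 F138316)
theorem F370196 : act 7 n187402 = n185609 := d15_2 (iv0 D187401) D187402 (iv2 F370193)
theorem F370197 : act 4 n187402 = n163606 := d18_7 D78606 (iv4 F254292) F254289 F262244 (iv5 F358960) F294906 D187402 (iv0 D163606) (iv5 D78609)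
theorem F370198 : act 2 n185610 = n187402 := d1_3 F370197 (iv2 F257873) (iv4 F358961)
theorem F370199 : act 1 n185612 = n187401 := d15_1 F370195 (iv7 F370192) F370198
def n187403 : Q := act 7 n90019
theorem D187403 : act 7 n90019 = n187403 := rfl
theorem F370200 : act 2 n187403 = n185612 := d4_1 D187403 (iv7 D185612) (iv2 F138316)
theorem F370201 : act 6 n187403 = n181907 := d14_1 D187403 (iv7 D181907) (iv6 D86881) (iv7 F64975) D90019
theorem F370202 : act 1 n185610 = n187403 := d15_1 D185610 (iv7 D187403) F138316
theorem F370203 : act 1 n187403 = n185609 := d15_1 F370202 (iv7 F370196) (iv2 F370198)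
def n187404 : Q := act 4 n90031
theorem D187404 : act 4 n90031 = n187404 := rfl
theorem F370204 : act 2 n187404 = n185631 := d1_1 D187404 (iv4 D185631) (iv2 F357376)
theorem F370205 : act 7 n187404 = n185626 := d11_2 (iv7 F357378) D187404 (iv4 D185626)
theorem F370206 : act 1 n185136 = n185626 := d15_1 (iv0 F367113) (iv7 F370205) F370204
def n187405 : Q := act 5 n90031
theorem D187405 : act 5 n90031 = n187405 := rfl
theorem F370207 : act 2 n187405 = n97323 := d2_1 D187405 F294039 (iv2 F357376)
theorem F370208 : act 3 n187405 = n144020 := d6_1 D187405 (iv5 F350512) (iv3 F357377)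
theorem F370209 : act 7 n187405 = n97322 := d13_2 (iv7 F357378) D187405 F357386
theorem F370210 : act 0 n187405 = n97320 := d17_2 D90031 D187405 (iv5 D97320) (iv4 F72953) D98988 (iv0 F294097) (iv5 D92040) (iv0 F67941) F67939
theorem F370211 : act 0 n90052 = n187405 := d21_10 (iv5 D187405) (iv1 F138328) (iv5 F295136) (iv6 D156878) D156875 F353359 F292432 (iv1 F361133) F341814 (iv6 F341815)
def n187406 : Q := act 6 n90031
theorem D187406 : act 6 n90031 = n187406 := rfl
theorem F370212 : act 2 n187406 = n185633 := d3_1 D187406 (iv6 D185633) (iv2 F357376)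
theorem F370213 : act 3 n187406 = n104697 := d7_1 D187406 F350515 (iv3 F357377)
theorem F370214 : act 7 n187406 = n103091 := d14_2 (iv7 F357378) D187406 (iv6 D103091) (iv7 F160555) F357383
theorem F370215 : act 5 n97123 = n187406 := d21_2 D45395 D97123 (iv6 D187406) (iv1 F138328) (iv6 F293641) F319715 D118413 (iv5 F365313) (iv6 D97122) (iv1 D45394)
theorem F370216 : act 3 n187320 = n97123 := d6_3 F370215 F370213 (iv5 F369833)
theorem E103284 : n185633 = n104315 := (c15_4 F366989 F367168 (iv7 F370214) F370212)
theorem F370217 : act 2 n104315 = n187406 := (sb E103284 (iv2 F370212))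
theorem F370218 : act 6 n104315 = n88428 := (sb E103284 (iv6 D185633))
theorem F370219 : act 0 n100171 = n187406 := d20_4 F70053 F134682 F134681 (iv3 F154119) F370213 (iv4 F369335) F369337 (iv4 F291491) (iv3 D48270) F290957
theorem F370220 : act 1 n104316 = n187406 := d15_0 (iv0 F370219) F290772 D104316
def n187407 : Q := act 3 n90032
theorem D187407 : act 3 n90032 = n187407 := rfl
theorem F370221 : act 2 n187407 = n176945 := d0_1 D187407 F364452 (iv2 F294015) F158223 (iv2 F357379)
theorem F370222 : act 4 n187407 = n184070 := d5_2 F139102 D187407 (iv3 F294910) (iv4 D90387) D90386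
theorem F370223 : act 6 n187407 = n100724 := d7_2 (iv6 F291952) D187407 F289699
theorem F370224 : act 7 n187407 = n176940 := d8_2 (iv7 F357380) D187407 F365437
theorem F370225 : act 5 n172111 = n187407 := d13_3 F370224 (iv5 D176940) (iv7 F365439)
theorem F370226 : act 1 n187407 = n91090 := d17_8 (iv1 D42662) D42665 D91099 F356189 D93198 F364437 D172111 F370225 (iv4 D91090)
theorem F370227 : act 0 n187407 = n91085 := d18_0 (iv4 D91085) (iv1 F139091) (iv4 F283179) (iv5 F356265) F343054 (iv0 D89689) (iv4 F126987) D172111 F370225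
def n187408 : Q := act 5 n90032
theorem D187408 : act 5 n90032 = n187408 := rfl
theorem F370228 : act 2 n187408 = n97322 := d2_1 D187408 F357386 (iv2 F357379)
theorem F370229 : act 3 n187408 = n172111 := d6_1 D187408 F370225 (iv3 D187407)
theorem F370230 : act 7 n187408 = n97323 := d13_2 (iv7 F357380) D187408 F294039
theorem F370231 : act 0 n187408 = n90052 := d17_2 (iv1 F138332) D187408 F138378 (iv4 F294112) D88971 F287769 (iv5 D185476) (iv0 F293670) F138778
theorem F370232 : act 0 n97320 = n187408 := d21_1 D97320 (iv5 D187408) F291952 (iv1 D47794) (iv6 D23000) (iv5 F33521) F70287 (iv5 D44708) D44709 (iv1 F157284)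
def n187409 : Q := act 2 n90052
theorem D187409 : act 2 n90052 = n187409 := rfl
theorem F370233 : act 3 n187409 = n97351 := d0_2 D90052 D187409 F150103 F71719 F291944
theorem F370234 : act 5 n187409 = n91850 := d2_2 (iv5 F138378) D187409 (iv2 D91850)
theorem F370235 : act 6 n187409 = n176827 := d3_2 (iv6 F341815) D187409 (iv2 F362556)
theorem F370236 : act 7 n187409 = n97320 := d4_2 F293059 D187409 F150065
theorem F370237 : act 1 n187409 = n97322 := d15_0 (iv0 D97322) F293059 D187409
theorem F370238 : act 1 n97323 = n187409 := d15_0 F370237 (iv7 F370209) F370207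
def n187410 : Q := act 4 n90052
theorem D187410 : act 4 n90052 = n187410 := rfl
theorem F370239 : act 7 n187410 = n97324 := d11_2 F293059 D187410 (iv4 D97324)
def n187411 : Q := act 0 n90053
theorem D187411 : act 0 n90053 = n187411 := rfl
theorem F370240 : act 5 n187411 = n164092 := d21_8 (iv5 F137986) F340376 (iv5 D48404) (iv6 D23533) D23530 D48393 (iv5 F291965) D187411 F340638 F138111
theorem F370241 : act 2 n97362 = n187411 := d2_3 F370240 (iv2 F369674) (iv5 F369677)
theorem F370242 : act 3 n158904 = n187411 := d6_3 F370240 (iv3 D164092) F254079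
theorem F370243 : act 7 n187411 = n176900 := d8_2 (iv7 F257978) F370242 (iv3 D176900)
theorem E103285 : n176900 = n97363 := ((c15_2 (iv0 D97362) D97363 (iv7 F370243) (iv2 F370241))).symm
theorem F370244 : act 3 n97363 = n84328 := (sb E103285 (iv3 D176900))
theorem F370245 : act 7 n97363 = n187411 := (sb E103285 (iv7 F370243))
def n187412 : Q := act 1 n90053
theorem D187412 : act 1 n90053 = n187412 := rfl
theorem F370246 : act 1 n187412 = n97364 := d15_1 D187412 (iv7 D97364) F293069
theorem F370247 : act 7 n187412 = n97362 := d15_2 (iv0 D187411) D187412 F370241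
theorem F370248 : act 6 n97271 = n187412 := d21_3 F340407 (iv1 F340412) (iv5 F340414) (iv1 D187412) (iv6 D90053) F64994 F291962 D21525 (iv6 F70984) D96559
theorem F370249 : act 2 n97363 = n187412 := d4_3 F370247 F370241 (iv7 F370245)
theorem F370250 : act 1 n97364 = n187411 := d15_1 F370246 (iv7 F370245) F370249
def n187413 : Q := act 7 n90053
theorem D187413 : act 7 n90053 = n187413 := rfl
theorem F370251 : act 2 n187413 = n97364 := d4_1 D187413 (iv7 D97364) F293069
theorem F370252 : act 3 n187413 = n176822 := d8_1 D187413 F362548 F341813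
theorem F370253 : act 5 n187413 = n104654 := d13_1 D187413 (iv7 D104654) (iv5 F291965)
theorem F370254 : act 6 n187413 = n97342 := d14_1 D187413 (iv7 D97342) (iv6 D45460) F291941 D90053
theorem F370255 : act 1 n97363 = n187413 := d15_1 D97363 (iv7 D187413) (iv2 F293069)
theorem F370256 : act 1 n187413 = n97362 := d15_1 F370255 (iv7 F370247) (iv2 F370249)
def n187414 : Q := act 0 n90055
theorem D187414 : act 0 n90055 = n187414 := rfl
def n187415 : Q := act 1 n90055
theorem D187415 : act 1 n90055 = n187415 := rfl
theorem F370257 : act 1 n187415 = n97342 := d15_1 D187415 (iv7 D97342) F293065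
def n187416 : Q := act 7 n90055
theorem D187416 : act 7 n90055 = n187416 := rfl
theorem F370258 : act 2 n187416 = n97342 := d4_1 D187416 (iv7 D97342) F293065
theorem F370259 : act 3 n187416 = n113050 := d8_1 D187416 F176130 (iv3 F367000)
theorem F370260 : act 5 n187416 = n103271 := d13_1 D187416 (iv7 D103271) (iv5 F291961)
theorem F370261 : act 6 n187416 = n97364 := d14_1 D187416 (iv7 D97364) (iv6 D45470) F291945 D90055
theorem F370262 : act 1 n97342 = n187414 := d15_0 (iv0 D187414) D187416 F370258
theorem F370263 : act 1 n97340 = n187416 := d15_1 D97340 (iv7 D187416) (iv2 F293065)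
theorem F370264 : act 1 n187416 = n97339 := d15_0 (iv0 D97339) D97342 (iv2 F370258)
def n187417 : Q := act 0 n90056
theorem D187417 : act 0 n90056 = n187417 := rfl
theorem F370265 : act 1 n185725 = n187417 := d15_0 (iv0 D187417) F138385 D185725
def n187418 : Q := act 1 n90056
theorem D187418 : act 1 n90056 = n187418 := rfl
theorem F370266 : act 1 n187418 = n185725 := d15_1 D187418 F358217 (iv2 F341773)
theorem F370267 : act 4 n187418 = n133664 := d17_9 (iv1 D133664) (iv5 D62736) D62734 D133659 (iv4 F362868) (iv5 F362866) F327625 (iv5 F138384) D187418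
def n187419 : Q := act 3 n90058
theorem D187419 : act 3 n90058 = n187419 := rfl
def n187420 : Q := act 5 n90058
theorem D187420 : act 5 n90058 = n187420 := rfl
theorem F370268 : act 4 n187420 = n133004 := d16_2 (iv4 F363616) D187420 (iv5 D133004) (iv4 D62407) (iv5 D29510) D29509 D62405 (iv7 F213505) F213503
theorem F370269 : act 0 n187420 = n133070 := d18_0 (iv4 D133070) F334254 (iv4 F193207) F334274 (iv4 D132097) F211619 (iv4 F370136) F370139 D187420
theorem F370270 : act 0 n132116 = n187420 := d18_2 D121167 F334251 F370268 (iv5 D133004) (iv4 D62407) F97284 (iv4 F313258) (iv0 F200730) F322747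
def n187421 : Q := act 6 n90058
theorem D187421 : act 6 n90058 = n187421 := rfl
theorem F370271 : act 4 n187421 = n132043 := d10_1 D187421 F347517 (iv4 F363616)
def n187422 : Q := act 3 n90059
theorem D187422 : act 3 n90059 = n187422 := rfl
def n187423 : Q := act 5 n90059
theorem D187423 : act 5 n90059 = n187423 := rfl
theorem F370272 : act 4 n187423 = n132958 := d9_1 D187423 (iv5 D132958) (iv4 D62390) (iv5 D29505) D29504 D62385 (iv4 F363616) D187420 F370268 (iv5 D133004) (iv4 D62407) (iv5 D29510) D29509 D62405 (iv4 F361706)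
theorem F370273 : act 0 n187423 = n132116 := d17_2 (iv1 F370138) D187423 (iv5 D132116) (iv4 D61985) (iv5 D29354) D29352 D61978 F211619 (iv4 F370136)
theorem F370274 : act 1 n187423 = n133070 := d17_8 F334254 (iv5 F322747) F200730 F334262 F160631 (iv5 F293049) D90059 D187423 (iv4 D133070)
def n187424 : Q := act 6 n90059
theorem D187424 : act 6 n90059 = n187424 := rfl
theorem F370275 : act 4 n187424 = n132998 := d10_1 D187424 (iv6 D132998) (iv4 F361706)
def n187425 : Q := act 3 n90090
theorem D187425 : act 3 n90090 = n187425 := rfl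
theorem F370276 : act 5 n187425 = n135050 := d6_2 (iv5 F328083) D187425 (iv3 D135050)
theorem F370277 : act 7 n187425 = n182434 := d8_2 (iv7 F294426) D187425 (iv3 D182434)
theorem F370278 : act 4 n187425 = n96295 := d20_6 F33824 F31675 D19858 D42109 D90090 D187425 (iv1 D96295) F70691 (iv3 D21511) D21509
theorem F370279 : act 0 n187425 = n182316 := d20_10 (iv4 F294012) (iv1 D103214) (iv4 F293513) F293512 (iv1 F72682) (iv3 F73670) F73671 D88234 (iv4 F294259) D187425
def n187426 : Q := act 1 n90103
theorem D187426 : act 1 n90103 = n187426 := rfl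
theorem F370280 : act 1 n187426 = n186245 := d15_1 D187426 (iv7 F345005) F142361
theorem F370281 : act 7 n187426 = n186157 := d15_2 (iv0 F292213) D187426 F288902
theorem F370282 : act 5 n187426 = n94059 := d17_7 (iv1 F160958) (iv5 F361056) F328104 (iv5 D86951) (iv4 F65039) D90103 D187426 F291011 (iv4 F160954)
theorem F370283 : act 2 n94060 = n187426 := d2_3 F370282 (iv2 D94059) D94060
theorem F370284 : act 4 n106499 = n187426 := d16_4 D98606 F344984 F204708 (iv5 F163752) F370282 (iv4 F291554) (iv5 F367812) F367813 (iv2 D98605)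
theorem F370285 : act 6 n187426 = n106498 := d21_3 F291020 (iv1 F291011) (iv5 F370282) F163750 D133643 F333561 (iv1 F99233) (iv5 F327569) (iv6 D94046) D94043
def n187427 : Q := act 4 n90103
theorem D187427 : act 4 n90103 = n187427 := rfl
theorem F370286 : act 6 n187427 = n157391 := d10_2 (iv6 F138531) D187427 (iv4 D157391)
theorem F370287 : act 7 n187427 = n135807 := d11_2 (iv7 F292214) D187427 F344973
theorem F370288 : act 5 n187427 = n135808 := d16_7 (iv4 F203603) F344978 (iv4 D182060) (iv5 D86951) (iv4 F65039) D90103 D187427 (iv7 D135808) F99321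
theorem E103286 : n135617 = n133229 := ((c19_20 (iv1 F218423) (iv5 F370288) (iv4 D187427) F138530 F291392 F63866 F31237 (iv3 F31179) (iv1 F31182) (iv5 D10246) (iv4 F14040) (iv3 F21595) F27449 F324950 F38609 (iv3 F38603) (iv1 F79779) (iv5 F79780) D62518 D133229)).symm
theorem F370289 : act 0 n133229 = n135808 := (sb E103286 (iv1 F218423))
theorem F370290 : act 1 n133229 = n63768 := (sb E103286 (iv0 D135617))
theorem F370291 : act 7 n135618 = n135805 := d15_2 F370290 D135618 (iv2 F344977)
theorem F370292 : act 2 n135534 = n135618 := d4_3 F370291 (iv2 F344977) (iv7 F217959)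
theorem F370293 : act 0 n130616 = n187427 := d21_1 (iv5 F209194) F370288 F218420 (iv1 F218369) (iv6 F355277) F355261 F233097 (iv5 F338624) D115147 F355406
def n187428 : Q := act 1 n90121
theorem D187428 : act 1 n90121 = n187428 := rfl
theorem F370294 : act 7 n187428 = n93774 := d15_2 (iv0 F290487) D187428 (iv2 F145078)
theorem F370295 : act 4 n92468 = n187428 := d20_0 (iv1 D187428) (iv4 F142183) (iv3 D92435) (iv1 D43232) F32393 F15077 D9677 D20405 D43250 D92468
theorem F370296 : act 3 n187428 = n90126 := d20_3 F67784 D92468 F370295 (iv1 F142401) F142398 (iv4 F368104) (iv1 D186814) F136904 F83651 (iv1 F290315)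
def n187429 : Q := act 6 n90121
theorem D187429 : act 6 n90121 = n187429 := rfl
theorem F370297 : act 3 n187429 = n90122 := d7_1 D187429 (iv6 D90122) D90121
def n187430 : Q := act 4 n90126
theorem D187430 : act 4 n90126 = n187430 := rfl
theorem F370298 : act 7 n187430 = n98684 := d11_2 (iv7 F349339) D187430 F152155
theorem F370299 : act 1 n187430 = n159747 := d18_6 D34915 D76414 D159724 (iv4 F355774) (iv5 F349338) D187430 (iv4 D159747) (iv0 D76422) (iv5 D34917)
theorem F370300 : act 0 n187430 = n159751 := d20_1 D187430 (iv4 D159751) F138035 (iv1 D43872) F32949 F15528 D20420 F63475 D42128 D90126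
theorem F370301 : act 3 n187430 = n181965 := d20_3 F135770 D90126 D187430 (iv1 D181965) (iv3 D86908) F63774 (iv1 D41363) (iv4 F61388) (iv3 F64176) F135773
def n187431 : Q := act 5 n90128
theorem D187431 : act 5 n90128 = n187431 := rfl
theorem F370302 : act 2 n187431 = n90129 := d2_1 D187431 (iv5 D90129) D90128
theorem F370303 : act 3 n187431 = n90243 := d6_1 D187431 (iv5 D90243) (iv3 F138571)
def n187432 : Q := act 0 n90129
theorem D187432 : act 0 n90129 = n187432 := rfl
def n187433 : Q := act 4 n90129
theorem D187433 : act 4 n90129 = n187433 := rfl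
def n187434 : Q := act 6 n90129
theorem D187434 : act 6 n90129 = n187434 := rfl
theorem F370304 : act 3 n187434 = n90132 := d7_1 D187434 (iv6 D90132) (iv3 F138573)
theorem F370305 : act 0 n187434 = n186501 := d21_10 F349055 F349044 F183655 (iv6 D54632) D54630 D118646 F186609 F337229 D90129 D187434
theorem F370306 : act 1 n187434 = n186490 := d15_1 (iv0 F370305) F356614 F349056
def n187435 : Q := act 3 n90131
theorem D187435 : act 3 n90131 = n187435 := rfl
theorem F370307 : act 0 n187435 = n185226 := d20_4 F157158 (iv1 F290589) D90131 D187435 F287538 D185248 F368157 (iv4 F369443) F369442 (iv1 F347710)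
theorem F370308 : act 5 n123832 = n187435 := d21_0 F370307 (iv5 D185226) (iv6 D88264) (iv1 F356381) F135035 (iv5 D86510) (iv1 F297327) D56891 (iv6 F90889) D123832
theorem F370309 : act 3 n98602 = n123832 := d6_3 F370308 (iv3 D187435) (iv5 F347715)
theorem F370310 : act 1 n187435 = n111229 := d17_8 F363289 (iv5 D123883) (iv1 F197319) F197316 (iv4 F90898) D123896 F198334 F370308 F172518
theorem F370311 : act 6 n187435 = n134243 := d21_3 D57710 D123832 F370308 (iv1 D134243) (iv6 D63061) (iv5 D29829) D29827 (iv5 F98320) F341484 (iv1 D57709)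
theorem F370312 : act 7 n123832 = n123908 := d8_2 F157915 F370309 (iv3 F358595)
theorem F370313 : act 2 n123908 = n123833 := d15_3 F198333 F198334 F370312
theorem F370314 : act 2 n123832 = n123907 := d15_3 (iv0 D123907) D123908 (iv7 F370312)
theorem F370315 : act 7 n123907 = n123833 := d4_2 (iv7 F370312) F370314 (iv2 F370313)
def n187436 : Q := act 6 n90131
theorem D187436 : act 6 n90131 = n187436 := rfl
theorem F370316 : act 3 n187436 = n134243 := d7_1 D187436 (iv6 F370311) (iv3 D187435)
theorem F370317 : act 4 n187436 = n90132 := d10_1 D187436 (iv6 D90132) D90131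
def n187437 : Q := act 0 n90132
theorem D187437 : act 0 n90132 = n187437 := rfl
theorem F370318 : act 6 n187437 = n114255 := d21_5 (iv5 D19875) D19873 D42129 D90132 D187437 F332256 (iv1 F332261) F143000 (iv6 D90146) (iv1 D42134)
theorem F370319 : act 5 n187437 = n130135 := d21_8 D61097 (iv1 F323240) F323242 (iv6 F323243) (iv1 F65434) D90505 F139299 D187437 (iv6 D130135) (iv1 D61096)
theorem F370320 : act 3 n133479 = n187437 := d6_3 F370319 F208654 (iv5 F214663)
theorem F370321 : act 1 n114275 = n187437 := d17_6 F322819 (iv5 F322822) (iv1 F112950) D75622 D158531 (iv5 F340913) F370319 (iv0 F360183) (iv4 D158539)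
def n187438 : Q := act 1 n90132
theorem D187438 : act 1 n90132 = n187438 := rfl
theorem F370322 : act 1 n187438 = n114275 := d15_1 D187438 F178121 F142396
theorem F370323 : act 5 n187438 = n106268 := d17_7 (iv1 F310732) (iv5 D34587) D34585 D75617 (iv4 F340914) F139299 D187438 F339450 (iv4 D133160)
theorem F370324 : act 3 n106270 = n187438 := d6_3 F370323 (iv3 D106268) D106270
def n187439 : Q := act 7 n90132
theorem D187439 : act 7 n90132 = n187439 := rfl
theorem F370325 : act 2 n187439 = n114275 := d4_1 D187439 F178121 F142396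
theorem F370326 : act 6 n187439 = n114248 := d14_1 D187439 F178061 F83340 F67877 D90132
def n187440 : Q := act 1 n90135
theorem D187440 : act 1 n90135 = n187440 := rfl
theorem F370327 : act 1 n187440 = n90243 := d15_1 D187440 F339566 F339568
theorem F370328 : act 5 n187440 = n93012 := d17_7 F349312 (iv5 F360954) (iv1 F368161) (iv5 D186829) F136920 D90135 D187440 F143452 (iv4 F156173)
theorem F370329 : act 2 n93018 = n187440 := d2_3 F370328 F143451 D93018
def n187441 : Q := act 3 n90137
theorem D187441 : act 3 n90137 = n187441 := rfl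
theorem F370330 : act 6 n187441 = n117699 := d7_2 F347716 D187441 (iv3 F349476)
def n187442 : Q := act 5 n90138
theorem D187442 : act 5 n90138 = n187442 := rfl
theorem F370331 : act 2 n187442 = n92973 := d2_1 D187442 F143386 (iv2 F138586)
theorem F370332 : act 3 n187442 = n119204 := d6_1 D187442 (iv5 D119204) (iv3 F138587)
theorem F370333 : act 6 n187442 = n90139 := d12_2 D90138 D187442 (iv5 D90139) (iv6 D42132) D42131
theorem F370334 : act 7 n187442 = n114274 := d13_2 F138589 D187442 (iv5 D114274)
theorem F370335 : act 4 n187442 = n111521 := d16_2 F338498 D187442 F173046 F170745 D110387 F345511 D137384 (iv7 F347719) F347717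
theorem F370336 : act 6 n111521 = n92853 := d10_2 (iv6 F370333) F370335 F143224
theorem F370337 : act 3 n92853 = n111522 := d7_1 F370336 (iv6 D111522) D111521
theorem F370338 : act 5 n111522 = n153175 := d6_2 (iv5 F291250) F370337 F365329
theorem F370339 : act 6 n153175 = n108882 := d12_2 D111522 F370338 (iv5 D108882) (iv6 F81205) (iv5 F81203)
def n187443 : Q := act 6 n90141
theorem D187443 : act 6 n90141 = n187443 := rfl
theorem F370340 : act 2 n187443 = n117252 := d3_1 D187443 F346100 F142425
theorem F370341 : act 3 n187443 = n123826 := d7_1 D187443 (iv6 D123826) (iv3 F346098)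
theorem F370342 : act 4 n187443 = n90143 := d10_1 D187443 (iv6 D90143) D90141
theorem F370343 : act 7 n187443 = n146933 := d14_2 F142434 D187443 (iv6 F363301) (iv7 F368696) F368692
theorem F370344 : act 1 n146932 = n187443 := d15_1 D146932 F370343 (iv2 D146933)
theorem F370345 : act 1 n187443 = n146931 := d15_0 (iv0 D146931) (iv7 F183481) (iv2 F370340)
def n187444 : Q := act 3 n90145
theorem D187444 : act 3 n90145 = n187444 := rfl
theorem F370346 : act 2 n187444 = n123828 := d0_1 D187444 (iv3 D123828) (iv2 F341480) (iv3 F346099) F142433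
theorem F370347 : act 4 n187444 = n144906 := d5_2 D90145 D187444 F227872 (iv4 F315228) (iv3 D90144)
theorem F370348 : act 5 n187444 = n99940 := d6_2 (iv5 F290691) D187444 (iv3 D99940)
theorem F370349 : act 7 n187444 = n117253 := d8_2 F142426 D187444 (iv3 F346097)
theorem F370350 : act 0 n187444 = n146685 := d20_4 F142451 (iv1 F67888) D90145 D187444 F310210 F115016 F333348 (iv4 F224504) F346091 (iv1 F142454)
theorem F370351 : act 6 n146938 = n187444 := d21_3 (iv5 F336959) (iv1 F216256) (iv5 F336976) F370350 F310211 (iv5 F115008) (iv1 D57266) D57268 D123065 F311645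
theorem F370352 : act 1 n187444 = n146909 := d15_1 (iv0 F370350) (iv7 F354935) (iv2 F310209)
def n187445 : Q := act 6 n90145
theorem D187445 : act 6 n90145 = n187445 := rfl
theorem F370353 : act 2 n187445 = n186966 := d3_1 D187445 F368692 F142433
theorem F370354 : act 3 n187445 = n146938 := d7_1 D187445 F370351 (iv3 D187444)
theorem F370355 : act 4 n187445 = n90146 := d10_1 D187445 (iv6 D90146) D90145
theorem F370356 : act 7 n187445 = n146935 := d14_2 F142426 D187445 (iv6 D146935) (iv7 F183481) F346100
theorem F370357 : act 0 n187445 = n186968 := d21_4 (iv5 D102352) F74672 (iv5 F290691) D187445 F368710 (iv5 D137366) D137364 F349939 F178119 F347713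
theorem F370358 : act 0 n186961 = n187445 := d21_4 F357146 (iv1 F156944) F156941 D186961 (iv6 D187445) F290691 (iv1 F74671) (iv5 F347701) (iv6 D89368) D89365
theorem F370359 : act 1 n186961 = n110808 := d15_1 (iv0 F370358) (iv7 F368696) (iv2 F370353)
theorem F370360 : act 1 n110808 = n186968 := d15_1 F370359 (iv7 D186968) (iv2 F368669)
def n187446 : Q := act 0 n90146
theorem D187446 : act 0 n90146 = n187446 := rfl
theorem F370361 : act 5 n187446 = n133453 := d17_1 D187446 (iv1 F214609) (iv5 F347381) (iv4 F198027) F329683 D134112 (iv5 F368709) (iv0 F370357) F370355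
theorem F370362 : act 3 n187446 = n114952 := d20_5 F335147 F199847 (iv4 F229131) (iv3 F355354) D187446 F179032 (iv1 F161876) F161877 (iv3 F323348) (iv1 F335144)
theorem F370363 : act 2 n133454 = n187446 := d15_3 (iv0 D187446) (iv0 F355356) (iv7 F214611)
theorem F370364 : act 7 n187446 = n114947 := d4_2 (iv7 F214611) F370363 F357123
def n187447 : Q := act 3 n90148
theorem D187447 : act 3 n90148 = n187447 := rfl
theorem F370365 : act 4 n187447 = n128222 := d5_2 (iv4 F138600) D187447 F336893 F327760 (iv3 F69367)
theorem F370366 : act 5 n187447 = n97987 := d6_2 (iv5 F290878) D187447 (iv3 D97987)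
theorem F370367 : act 7 n187447 = n102775 := d8_2 (iv7 F290879) D187447 (iv3 D102775)
theorem F370368 : act 0 n187447 = n124671 := d20_4 F144687 (iv1 F69364) (iv4 F138600) D187447 F357741 F357743 (iv1 D144905) (iv4 F183483) (iv3 F346097) (iv1 F144690)
theorem F370369 : act 0 n119604 = n187447 := d20_4 (iv4 D119572) (iv1 F87023) D55030 D119604 (iv3 D187447) F138600 (iv1 D44055) D44056 D94245 F364732
theorem F370370 : act 6 n173698 = n187447 := d21_5 (iv5 D87808) (iv1 F291477) D44554 D95394 (iv1 F360620) F370366 F354904 (iv5 F369417) (iv6 D187189) F137627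
theorem F370371 : act 2 n153370 = n187447 := d1_3 F370365 F346107 (iv4 F342780)
def n187448 : Q := act 6 n90148
theorem D187448 : act 6 n90148 = n187448 := rfl
theorem F370372 : act 2 n187448 = n102369 := d3_1 D187448 (iv6 D102369) (iv2 F290877)
theorem F370373 : act 3 n187448 = n173698 := d7_1 D187448 F370370 (iv3 D187447)
theorem F370374 : act 4 n187448 = n94244 := d10_1 D187448 (iv6 D94244) (iv4 F138600)
theorem F370375 : act 7 n176490 = n187448 := d11_0 F370374 F327753 (iv4 F275806)
def n187449 : Q := act 6 n90149
theorem D187449 : act 6 n90149 = n187449 := rfl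
theorem F370376 : act 2 n187449 = n102673 := d3_1 D187449 (iv6 D102673) F290980
theorem F370377 : act 3 n187449 = n123216 := d7_1 D187449 F197511 F193445
theorem F370378 : act 4 n187449 = n97997 := d10_1 D187449 (iv6 D97997) F291325
theorem F370379 : act 5 n187449 = n123213 := d12_1 D187449 (iv6 D123213) F90542 F76687 D90149
theorem F370380 : act 0 n102359 = n95437 := d21_4 (iv5 F347709) (iv1 F139800) F290684 D102359 (iv6 F359655) (iv5 D153897) (iv1 F337507) (iv5 F370379) (iv6 D187449) F290885
theorem F370381 : act 7 n154562 = n187449 := d13_0 F370379 F324405 D154562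
def n187450 : Q := act 4 n90151
theorem D187450 : act 4 n90151 = n187450 := rfl
theorem F370382 : act 2 n187450 = n187428 := d1_1 D187450 (iv4 F370295) (iv2 F333353)
theorem F370383 : act 5 n187450 = n106310 := d9_2 (iv5 F333355) D187450 F317601 (iv5 F317612) (iv4 F185212) (iv5 F112534) F144549 (iv5 D93777) (iv4 F144545) (iv5 F163380) F317598 (iv5 F317610) (iv4 F205864) F205865 F192398
theorem F370384 : act 6 n187450 = n187428 := d10_2 (iv6 F333356) D187450 (iv4 F370295)
theorem F370385 : act 7 n187450 = n94126 := d11_2 (iv7 F333357) D187450 F145080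
theorem F370386 : act 0 n187450 = n92435 := d20_1 D187450 F142183 (iv3 D90121) (iv1 D42125) F31716 F14577 D9356 D19879 D42137 D90151
theorem F370387 : act 3 n187450 = n92448 := d20_3 F65054 D90151 D187450 (iv1 F142225) (iv3 F142253) (iv4 F283258) F333363 (iv4 F144542) F144541 F333358
theorem F370388 : act 0 n114091 = n187450 := d20_10 (iv4 D187450) (iv1 F138602) F65119 (iv3 D42190) F63211 (iv3 F33111) (iv4 F33479) D44641 F83215 D114091
def n187451 : Q := act 0 n90153
theorem D187451 : act 0 n90153 = n187451 := rfl
theorem F370389 : act 5 n187451 = n92585 := d17_1 D187451 F349302 (iv5 F144671) F343009 (iv5 F343017) (iv0 D133949) F317819 D117884 F317793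
theorem F370390 : act 4 n187451 = n116774 := d18_1 D187451 F359300 F290488 (iv5 F205407) (iv4 F142183) (iv0 F370386) (iv4 D187450) (iv0 D90151) D90153
theorem F370391 : act 1 n90262 = n187451 := d15_0 (iv0 D187451) (iv7 F142468) F142466
theorem F370392 : act 2 n148309 = n187451 := d1_3 F370390 F359298 D148309
theorem F370393 : act 6 n116772 = n187451 := d10_0 F370390 (iv6 D116774) D116772
def n187452 : Q := act 1 n90153
theorem D187452 : act 1 n90153 = n187452 := rfl
theorem F370394 : act 1 n187452 = n90262 := d15_1 D187452 (iv7 F142285) F142283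
theorem F370395 : act 7 n187452 = n148309 := d15_2 (iv0 D187451) D187452 F370392
theorem F370396 : act 4 n187452 = n147298 := d17_9 F242062 F242061 F205867 F205865 F192398 (iv5 F333355) (iv0 D90151) D90153 D187452
theorem F370397 : act 5 n185764 = n187452 := d21_0 (iv1 D187452) (iv5 D90153) D90154 (iv1 F364360) (iv6 D93791) D93790 F335770 (iv5 D98038) F292651 D185764
theorem F370398 : act 6 n187452 = n147296 := d21_3 F144671 D185764 F370397 F235006 (iv6 D149423) F106610 (iv1 D55261) F42810 D52929 (iv1 F290279)
def n187453 : Q := act 1 n90154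
theorem D187453 : act 1 n90154 = n187453 := rfl
theorem F370399 : act 1 n187453 = n100668 := d15_1 D187453 F364357 F142286
theorem F370400 : act 7 n187453 = n94139 := d15_2 F364360 D187453 (iv2 F344295)
theorem F370401 : act 6 n100254 = n187453 := d21_3 D43315 D92586 (iv5 F364346) (iv1 D187453) (iv6 D90154) D90153 D187451 F370389 (iv6 D92585) (iv1 D43314)
theorem F370402 : act 5 n187453 = n185754 := d21_6 F364343 F346195 (iv5 D92518) (iv6 F291333) D100254 F370401 (iv1 D185754) (iv5 D88471) D88472 (iv1 F364342)
def n187454 : Q := act 3 n90155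
theorem D187454 : act 3 n90155 = n187454 := rfl
theorem F370403 : act 4 n187454 = n166116 := d5_2 D90155 D187454 (iv3 F317792) F317793 F138604
theorem F370404 : act 7 n187454 = n143396 := d8_2 F142473 D187454 F361674
theorem F370405 : act 0 n187454 = n117811 := d20_10 (iv4 D117811) (iv1 D54265) (iv4 F85515) F85514 D54189 (iv3 F352984) F157155 (iv1 F291320) D90155 D187454
theorem F370406 : act 1 n187454 = n117806 := d15_1 (iv0 F370405) (iv7 F356838) F356845
theorem F370407 : act 6 n143510 = n187454 := d14_5 F370404 (iv6 D143396) F184464 (iv6 F366294) (iv7 F314566)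
def n187455 : Q := act 6 n90155
theorem D187455 : act 6 n90155 = n187455 := rfl
theorem F370408 : act 2 n187455 = n187209 := d3_1 D187455 (iv6 D187209) (iv2 F138607)
theorem F370409 : act 3 n187455 = n143510 := d7_1 D187455 F370407 (iv3 D187454)
theorem F370410 : act 4 n187455 = n90156 := d10_1 D187455 (iv6 D90156) D90155
theorem F370411 : act 5 n186878 = n187455 := d16_1 D186878 F370410 (iv5 F139405) F362737 (iv5 D172263) F271105 D89341 F366705 F366706
def n187456 : Q := act 0 n90156
theorem D187456 : act 0 n90156 = n187456 := rfl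
theorem F370412 : act 5 n187456 = n132758 := d19_1 D187456 F213209 (iv3 F213190) F347045 F347044 F344033 F94445 F315380 F312984 (iv4 D16398) (iv3 F25882) D33897 D73793 (iv4 F307736) (iv3 F241535) (iv1 F241538) (iv5 F315742) F315741 (iv3 F290416)
theorem F370413 : act 6 n187456 = n164625 := d21_5 (iv5 D20924) (iv1 F63357) D42138 D90156 D187456 F364191 (iv1 D104368) (iv5 F145319) (iv6 D94244) (iv1 D44055)
theorem F370414 : act 2 n187210 = n187456 := d3_3 F370413 F364184 F369521
theorem F370415 : act 3 n164628 = n187456 := d7_3 F370413 (iv3 D164625) D164628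
theorem F370416 : act 7 n158549 = n187456 := d15_2 (iv0 D187210) (iv0 F339465) (iv2 F370414)
theorem F370417 : act 4 n186888 = n187456 := d16_2 D89350 D186888 F370412 F213209 (iv5 F321683) (iv4 F74285) (iv5 F155049) (iv7 D100909) F74282
def n187457 : Q := act 1 n90156
theorem D187457 : act 1 n90156 = n187457 := rfl
theorem F370418 : act 1 n187457 = n187211 := d15_1 D187457 (iv7 D187211) (iv2 F138608)
theorem F370419 : act 7 n187457 = n187210 := d15_2 (iv0 D187456) D187457 F370414
theorem F370420 : act 5 n132845 = n187457 := d21_6 (iv5 D20019) (iv1 F63159) D19437 D41305 F326528 D132845 (iv1 D187457) (iv5 F139405) (iv6 D90574) (iv1 D42398)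
theorem F370421 : act 2 n187457 = n158549 := d2_1 F370420 (iv5 D158549) F318975
theorem F370422 : act 6 n187457 = n176083 := d12_2 D132845 F370420 (iv5 D176083) (iv6 D84002) F317544
theorem F370423 : act 1 n187211 = n187456 := d15_1 F370418 (iv7 F370416) (iv2 F370421)
def n187458 : Q := act 7 n90156
theorem D187458 : act 7 n90156 = n187458 := rfl
theorem F370424 : act 2 n187458 = n187211 := d4_1 D187458 (iv7 D187211) (iv2 F138608)
theorem F370425 : act 1 n158549 = n187458 := d15_1 (iv0 F339465) (iv7 D187458) F138608
theorem F370426 : act 1 n187458 = n187210 := d15_1 F370425 (iv7 F370419) F370421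
def n187459 : Q := act 5 n90157
theorem D187459 : act 5 n90157 = n187459 := rfl
theorem F370427 : act 2 n187459 = n102383 := d2_1 D187459 (iv5 F283700) (iv2 F291155)
theorem F370428 : act 3 n187459 = n90158 := d6_1 D187459 (iv5 D90158) D90157
theorem F370429 : act 7 n187459 = n102307 := d13_2 F291340 D187459 F157123
theorem F370430 : act 0 n187459 = n97958 := d21_1 D187459 (iv5 D97958) D97959 (iv1 F285543) (iv6 D87931) D87930 (iv1 F154221) (iv5 F292928) F292929 (iv1 F291154)
theorem F370431 : act 0 n97962 = n187459 := d21_1 D97962 (iv5 D187459) (iv6 F139701) (iv1 F364435) (iv6 F364433) F157305 (iv1 F153336) F153333 F73544 (iv1 F72123)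
def n187460 : Q := act 6 n90158
theorem D187460 : act 6 n90158 = n187460 := rfl
theorem F370432 : act 2 n187460 = n101157 := d3_1 D187460 F155853 F291354
theorem F370433 : act 5 n187460 = n99507 := d12_1 D187460 (iv6 D99507) F291840 F65985 D90158
theorem F370434 : act 0 n187460 = n101925 := d21_4 (iv5 F72162) F291151 D90158 D187460 (iv6 D101925) (iv5 D47353) (iv1 D22750) D22751 F35304 D22811
def n187461 : Q := act 3 n90173
theorem D187461 : act 3 n90173 = n187461 := rfl
theorem F370435 : act 2 n187461 = n185477 := d0_1 D187461 (iv3 D185477) (iv2 F157913) (iv3 D102670) F291287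
theorem F370436 : act 5 n187461 = n186593 := d6_2 (iv5 F291162) D187461 (iv3 D186593)
theorem F370437 : act 7 n187461 = n102667 := d8_2 F291260 D187461 (iv3 D102667)
theorem F370438 : act 0 n99932 = n187461 := d17_2 (iv1 F153857) D99932 F370436 F367356 (iv5 F349136) F179258 (iv5 F323387) D92710 (iv4 F153855)
def n187462 : Q := act 6 n90173
theorem D187462 : act 6 n90173 = n187462 := rfl
theorem F370439 : act 2 n187462 = n100570 := d3_1 D187462 F154643 F291287
theorem F370440 : act 5 n187462 = n99382 := d12_1 D187462 (iv6 D99382) F291849 F291163 (iv5 F291162)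
def n187463 : Q := act 3 n90175
theorem D187463 : act 3 n90175 = n187463 := rfl
theorem F370441 : act 7 n187463 = n102672 := d8_2 F290982 D187463 (iv3 D102672)
def n187464 : Q := act 6 n90175
theorem D187464 : act 6 n90175 = n187464 := rfl
theorem F370442 : act 2 n187464 = n102704 := d3_1 D187464 (iv6 D102704) (iv2 F290884)
theorem F370443 : act 4 n187464 = n90176 := d10_1 D187464 (iv6 D90176) D90175
def n187465 : Q := act 0 n90176
theorem D187465 : act 0 n90176 = n187465 := rfl
def n187466 : Q := act 1 n90176
theorem D187466 : act 1 n90176 = n187466 := rfl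
theorem F370444 : act 1 n187466 = n102708 := d15_1 D187466 (iv7 D102708) (iv2 F292179)
theorem F370445 : act 5 n98977 = n187466 := d21_6 (iv5 D22151) (iv1 D10556) D10557 (iv6 F34606) D46302 D98977 (iv1 D187466) F138619 (iv6 D42176) (iv1 F293265)
theorem F370446 : act 2 n187466 = n102706 := d2_1 F370445 (iv5 F367516) F367515
def n187467 : Q := act 7 n90176
theorem D187467 : act 7 n90176 = n187467 := rfl
theorem F370447 : act 2 n187467 = n102708 := d4_1 D187467 (iv7 D102708) (iv2 F292179)
theorem F370448 : act 5 n187467 = n90239 := d13_1 D187467 (iv7 D90239) (iv5 F138619)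
theorem F370449 : act 6 n187467 = n102677 := d14_1 D187467 (iv7 D102677) (iv6 D47620) (iv7 F291375) D90176
theorem F370450 : act 1 n102708 = n187465 := d15_0 (iv0 D187465) D187467 F370447
theorem F370451 : act 1 n102706 = n187467 := d15_1 D102706 (iv7 D187467) F292179
theorem F370452 : act 7 n187465 = n102706 := d15_2 F370444 F370450 (iv2 F370446)
theorem F370453 : act 2 n187465 = n102705 := d15_3 (iv0 D102705) D102706 (iv7 F370452)
theorem F370454 : act 7 n102705 = n187466 := d4_2 (iv7 F370452) F370453 F370446
theorem F370455 : act 1 n187467 = n102705 := d15_1 F370451 F370454 F370446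
def n187468 : Q := act 4 n90187
theorem D187468 : act 4 n90187 = n187468 := rfl
theorem F370456 : act 2 n187468 = n90392 := d1_1 D187468 (iv4 D90392) (iv2 F294915)
theorem F370457 : act 7 n187468 = n90387 := d11_2 (iv7 F294916) D187468 (iv4 D90387)
theorem F370458 : act 0 n93761 = n187468 := d20_10 (iv4 D187468) (iv1 F138651) F65275 F65274 F293889 (iv3 F62381) (iv4 F73671) (iv1 F294617) (iv4 D93762) D93761
def n187469 : Q := act 3 n90188
theorem D187469 : act 3 n90188 = n187469 := rfl
theorem F370459 : act 6 n187469 = n92781 := d7_2 (iv6 F294294) D187469 (iv3 F143102)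
theorem F370460 : act 7 n187469 = n90391 := d8_2 (iv7 F294909) D187469 (iv3 D90391)
theorem F370461 : act 4 n187469 = n92783 := d20_6 F62456 (iv1 F292884) (iv4 F31975) (iv3 F65274) (iv1 F138656) D187469 (iv1 F288420) F292356 (iv3 F292355) (iv1 F63568)
theorem F370462 : act 1 n186130 = n187469 := d18_6 (iv1 D151680) (iv4 F238546) F369359 (iv4 F355758) F355754 D186130 F370461 F288419 F238549
theorem F370463 : act 0 n91114 = n187469 := d20_10 F370461 (iv1 F288420) F292356 (iv3 F292355) (iv1 F63568) (iv3 F135284) F135285 (iv1 F295365) (iv4 D91115) D91114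
def n187470 : Q := act 4 n90188
theorem D187470 : act 4 n90188 = n187470 := rfl
theorem F370464 : act 2 n187470 = n90387 := d1_1 D187470 (iv4 D90387) (iv2 F294908)
theorem F370465 : act 6 n187470 = n97961 := d10_2 (iv6 F294294) D187470 (iv4 D97961)
theorem F370466 : act 7 n187470 = n90392 := d11_2 (iv7 F294909) D187470 (iv4 D90392)
theorem F370467 : act 3 n187470 = n92551 := d20_3 F65275 (iv1 F138656) D187470 (iv1 F142558) (iv3 F292623) F292624 (iv1 F138333) D185631 F287947 (iv1 F138651)
theorem F370468 : act 1 n93761 = n187470 := d15_1 (iv0 F370458) F370466 (iv2 F370456)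
def n187471 : Q := act 4 n90201
theorem D187471 : act 4 n90201 = n187471 := rfl
theorem F370469 : act 2 n187471 = n102918 := d1_1 D187471 F158220 F367135
theorem F370470 : act 3 n187471 = n90625 := d5_1 D187471 F293719 (iv3 D90391) D90392 (iv3 F139104)
theorem F370471 : act 0 n187471 = n184495 := d20_1 D187471 F286441 (iv3 F338434) (iv1 D90372) (iv3 D42249) F31776 F17634 (iv4 F31738) D42164 D90201
theorem F370472 : act 1 n187471 = n98034 := d15_1 (iv0 F370471) F366982 F362652
theorem F370473 : act 6 n159722 = n187471 := d7_0 F370470 (iv6 F177435) (iv3 F251648)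
def n187472 : Q := act 6 n90201
theorem D187472 : act 6 n90201 = n187472 := rfl
theorem F370474 : act 4 n187472 = n159722 := d10_1 D187472 F370473 (iv4 D187471)
theorem F370475 : act 7 n187472 = n99928 := d14_2 (iv7 F367134) D187472 (iv6 D99928) (iv7 F160544) (iv6 F367130)
theorem F370476 : act 5 n186612 = n187472 := d21_8 F367087 (iv1 F367086) (iv5 D186285) (iv6 F294790) (iv1 D41517) D41519 D88916 D186612 (iv6 D187472) (iv1 F142562)
theorem F370477 : act 0 n90793 = n187472 := d18_2 F135139 (iv4 F139736) F370474 (iv5 D159722) D159721 (iv0 F251641) (iv4 D92492) F321882 (iv5 F321885)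
def n187473 : Q := act 3 n90202
theorem D187473 : act 3 n90202 = n187473 := rfl
theorem F370478 : act 2 n187473 = n184070 := d0_1 D187473 (iv3 F294910) (iv2 F370464) F370467 (iv2 F367131)
theorem F370479 : act 4 n187473 = n176945 := d5_2 F369321 D187473 F364452 (iv4 F350504) D187169
theorem F370480 : act 6 n187473 = n95436 := d7_2 (iv6 F367071) D187473 F153865
theorem F370481 : act 0 n91051 = n187473 := d20_1 (iv4 F140144) F370479 F364452 (iv1 F350523) (iv3 F294384) F294385 (iv1 F133781) (iv4 F148140) (iv3 F283178) (iv1 F283182)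
theorem F370482 : act 0 n187473 = n91992 := d20_7 F75149 (iv1 D42483) F36757 D48473 (iv1 F350522) (iv3 F364452) (iv4 F370479) F141494 (iv3 D88580) (iv1 F294874)
theorem F370483 : act 0 n184495 = n187169 := d20_1 (iv4 F286441) F369321 D187473 F370482 (iv3 D91992) (iv4 F294005) D45811 F294377 (iv3 F140197) F292412
theorem F370484 : act 7 n184071 = n187473 := d15_2 (iv0 D184070) D184071 F370478
theorem F370485 : act 3 n92552 = n184071 := d8_3 F370484 (iv3 D187473) (iv7 F367133)
theorem F370486 : act 3 n183120 = n186289 := d6_3 F367139 F370485 (iv5 F367241)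
def n187474 : Q := act 3 n90220
theorem D187474 : act 3 n90220 = n187474 := rfl
theorem F370487 : act 2 n187474 = n95414 := d0_1 D187474 (iv3 D95414) (iv2 F254754) F144525 (iv2 F254765)
theorem F370488 : act 4 n187474 = n95414 := d5_2 D90220 D187474 (iv3 D95414) (iv4 F138789) (iv3 D90219)
theorem F370489 : act 5 n187474 = n135056 := d6_2 (iv5 F327066) D187474 (iv3 D135056)
theorem F370490 : act 0 n187474 = n182317 := d20_10 (iv4 D182317) (iv1 D87053) F61539 (iv3 D40448) (iv1 F31695) D42109 F65027 D42170 D90220 D187474
theorem F370491 : act 0 n99658 = n187474 := d20_4 (iv4 F151159) F369312 F369309 F251754 (iv3 D187474) (iv4 D90220) (iv1 F68895) (iv4 F133708) (iv3 F160953) (iv1 F160958)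
def n187475 : Q := act 2 n90224
theorem D187475 : act 2 n90224 = n187475 := rfl
theorem F370492 : act 3 n187475 = n91997 := d0_2 D90224 D187475 F295149 F294603 (iv2 F254749)
theorem F370493 : act 5 n187475 = n183041 := d2_2 F367471 D187475 (iv2 F367470)
theorem F370494 : act 6 n187475 = n183965 := d3_2 F367074 D187475 F285824
theorem F370495 : act 1 n187475 = n187468 := d15_0 (iv0 F370458) F254751 D187475
theorem F370496 : act 1 n187470 = n187475 := d15_0 F370495 F370457 (iv2 F370464)
theorem F370497 : act 4 n187475 = n90224 := d20_2 D187468 (iv1 F370495) (iv3 D90224) (iv1 D42171) (iv3 D19897) (iv4 D9363) D9361 D19893 D42159 D90187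
def n187476 : Q := act 6 n90228
theorem D187476 : act 6 n90228 = n187476 := rfl
theorem F370498 : act 2 n187476 = n90232 := d3_1 D187476 (iv6 D90232) (iv2 F138793)
theorem F370499 : act 4 n187476 = n108496 := d10_1 D187476 (iv6 F343106) F336762
theorem F370500 : act 7 n187476 = n179804 := d14_2 F144528 D187476 (iv6 D179804) (iv7 F351137) (iv6 F351155)
theorem F370501 : act 0 n187476 = n134815 := d21_4 F295154 (iv1 F68892) D90228 D187476 (iv6 D134815) F98638 (iv1 F48096) D29988 (iv6 F324642) D93138
theorem F370502 : act 3 n127823 = n108496 := d20_5 F83511 (iv1 D28497) D28498 D60024 D127823 (iv4 F370499) F370501 F216938 (iv3 F331538) F83515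
theorem F370503 : act 1 n187476 = n135198 := d15_1 (iv0 F370501) F217372 (iv2 F216937)
theorem F370504 : act 4 n179804 = n108589 := d11_1 F370500 F351301 (iv4 F370499)
theorem E103287 : n179804 = n135199 := ((c15_2 (iv0 F351279) F351304 (iv7 F370500) F370498)).symm
theorem F370505 : act 4 n135199 = n108589 := (sb E103287 F370504)
theorem F370506 : act 6 n135199 = n85875 := (sb E103287 (iv6 D179804))
theorem F370507 : act 7 n135199 = n187476 := (sb E103287 (iv7 F370500))
theorem F370508 : act 6 n179802 = n108589 := d10_2 F370506 D179802 (iv4 F370505)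
theorem F370509 : act 3 n108589 = n184581 := d7_1 F370508 (iv6 D184581) (iv3 F345421)
theorem F370510 : act 7 n184581 = n127823 := d8_2 (iv7 F351301) F370509 F370502
def n187477 : Q := act 6 n90229
theorem D187477 : act 6 n90229 = n187477 := rfl
theorem F370511 : act 2 n187477 = n179770 := d3_1 D187477 F280003 (iv2 F294277)
theorem F370512 : act 3 n187477 = n136503 := d7_1 D187477 (iv6 F337823) (iv3 F294278)
theorem F370513 : act 5 n187477 = n102445 := d12_1 D187477 (iv6 D102445) (iv5 F295315) (iv6 D93130) (iv5 F294984)
theorem F370514 : act 0 n125130 = n187477 := d21_4 (iv5 D55489) D55486 (iv5 F301828) D125130 (iv6 D187477) F294984 F294931 D82029 F126450 (iv1 F302822)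
theorem F370515 : act 7 n179771 = n187477 := d15_2 (iv0 D179770) D179771 F370511
theorem F370516 : act 6 n138327 = n179771 := d14_5 F370515 (iv6 D187477) F294279 F343170 (iv7 F221523)
def n187478 : Q := act 3 n90230
theorem D187478 : act 3 n90230 = n187478 := rfl
theorem F370517 : act 5 n187478 = n93132 := d6_2 (iv5 F294985) D187478 (iv3 D93132)
theorem F370518 : act 7 n187478 = n186620 := d8_2 (iv7 F294281) D187478 F367464
def n187479 : Q := act 7 n90232
theorem D187479 : act 7 n90232 = n187479 := rfl
theorem F370519 : act 2 n187479 = n135199 := d4_1 D187479 F370507 F370498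
theorem F370520 : act 3 n187479 = n90239 := d8_1 D187479 (iv7 D90239) (iv3 F138794)
theorem F370521 : act 4 n187479 = n108495 := d11_1 D187479 F351300 (iv4 F351281)
theorem F370522 : act 6 n187479 = n179714 := d14_1 D187479 F351142 F294628 F68899 D90232
theorem F370523 : act 1 n135198 = n187479 := d15_1 F370503 (iv7 D187479) (iv2 F370498)
theorem F370524 : act 1 n187479 = n134815 := d15_1 F370523 F351278 (iv2 F351277)
def n187480 : Q := act 3 n90237
theorem D187480 : act 3 n90237 = n187480 := rfl
def n187481 : Q := act 5 n90237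
theorem D187481 : act 5 n90237 = n187481 := rfl
def n187482 : Q := act 3 n90238
theorem D187482 : act 3 n90238 = n187482 := rfl
def n187483 : Q := act 5 n90238
theorem D187483 : act 5 n90238 = n187483 := rfl
def n187484 : Q := act 6 n90238
theorem D187484 : act 6 n90238 = n187484 := rfl
theorem F370525 : act 7 n187484 = n146914 := d14_2 (iv7 F366188) D187484 F354740 (iv7 F354663) (iv6 F366185)
theorem F370526 : act 3 n117245 = n187484 := d8_3 F370525 F230299 (iv7 F183465)
theorem F370527 : act 5 n117244 = n187484 := d13_3 F370525 (iv5 D146914) (iv7 F183463)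
theorem F370528 : act 6 n187482 = n117245 := d7_0 F370526 (iv6 D187484) D187482
theorem F370529 : act 0 n187484 = n135194 := d19_4 (iv1 F106057) (iv5 F231957) F231958 F370526 F350736 F196499 (iv3 F353326) (iv1 F353323) (iv5 D166686) F122792 (iv3 F70026) (iv1 F323934) F323935 (iv4 F323930) (iv3 D113447) (iv1 D52371) D52374 D113459 F176643
theorem F370530 : act 2 n146904 = n187482 := d3_3 F370528 F183464 D146904
theorem F370531 : act 0 n187482 = n185490 := d21_4 (iv5 D148788) (iv1 F106109) D117245 (iv6 F370528) F287754 (iv5 D88362) D88361 F152561 (iv6 F346314) (iv1 F233608)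
def n187485 : Q := act 4 n90241
theorem D187485 : act 4 n90241 = n187485 := rfl
theorem F370532 : act 2 n187485 = n186378 := d1_1 D187485 (iv4 D186378) (iv2 F293696)
theorem F370533 : act 6 n187485 = n131355 := d10_2 (iv6 F138805) D187485 (iv4 D131355)
theorem F370534 : act 7 n187485 = n186369 := d11_2 (iv7 F293697) D187485 (iv4 D186369)
def n187486 : Q := act 4 n90249
theorem D187486 : act 4 n90249 = n187486 := rfl
theorem F370535 : act 7 n187486 = n152493 := d11_2 (iv7 F138816) D187486 F239674
theorem F370536 : act 1 n119853 = n187486 := d15_1 (iv0 F338181) F370535 (iv2 F363650)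
def n187487 : Q := act 6 n90249
theorem D187487 : act 6 n90249 = n187487 := rfl
theorem F370537 : act 2 n187487 = n152513 := d3_1 D187487 F239690 F142368
theorem F370538 : act 3 n187487 = n90252 := d7_1 D187487 (iv6 D90252) (iv3 F138815)
theorem F370539 : act 7 n187487 = n152278 := d14_2 (iv7 F138816) D187487 (iv6 D152278) F239338 D71929
theorem F370540 : act 0 n187487 = n133479 := d21_4 (iv5 F67852) F136439 D90249 D187487 (iv6 D133479) F97727 (iv1 F48222) D53117 F323566 (iv1 D52649)
theorem F370541 : act 1 n187487 = n152510 := d15_1 (iv0 F370540) F359196 (iv2 F214662)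
def n187488 : Q := act 1 n90250
theorem D187488 : act 1 n90250 = n187488 := rfl
theorem F370542 : act 1 n187488 = n94449 := d15_1 D187488 F145631 F142369
theorem F370543 : act 7 n187488 = n94444 := d15_2 (iv0 F138819) D187488 F145622
theorem F370544 : act 4 n187488 = n187103 := d17_9 (iv1 F369097) F365762 F365660 (iv5 D90488) F65393 D42351 (iv0 F139208) F139207 D187488
theorem F370545 : act 2 n93032 = n187488 := d1_3 F370544 (iv2 D187103) (iv4 F143482)
theorem F370546 : act 6 n187488 = n100689 := d3_2 (iv6 F290842) F370545 (iv2 F154802)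
def n187489 : Q := act 3 n90251
theorem D187489 : act 3 n90251 = n187489 := rfl
theorem F370547 : act 5 n187489 = n130788 := d6_2 F139296 D187489 F336054
theorem F370548 : act 6 n187489 = n173586 := d7_2 (iv6 F321771) D187489 (iv3 D173586)
def n187490 : Q := act 1 n90252
theorem D187490 : act 1 n90252 = n187490 := rfl
theorem F370549 : act 1 n187490 = n173582 := d15_1 D187490 F273749 (iv2 F324793)
theorem F370550 : act 7 n187490 = n175645 := d15_2 (iv0 F324792) D187490 (iv2 F274971)
theorem F370551 : act 4 n147847 = n187490 := d20_6 (iv4 F336438) (iv1 D124663) D124664 F350714 F243360 (iv3 F231621) (iv1 D187490) F324794 D173586 F309535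
theorem F370552 : act 3 n134465 = n187490 := d20_9 F324794 (iv1 D83029) D83030 (iv3 F326550) (iv1 F177323) (iv3 F338633) F338637 (iv1 D147840) (iv4 F338641) (iv1 D187490)
theorem F370553 : act 5 n134464 = n187490 := d21_6 (iv5 D19961) D19959 D42291 D90437 F336943 D134464 (iv1 D187490) (iv5 F139211) (iv6 D90449) (iv1 D42299)
theorem F370554 : act 6 n187490 = n147834 := d7_2 (iv6 F338642) F370552 (iv3 D147834)
theorem F370555 : act 2 n175644 = n187490 := d3_3 F370554 (iv2 F346172) F347629
def n187491 : Q := act 0 n90263
theorem D187491 : act 0 n90263 = n187491 := rfl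
theorem F370556 : act 5 n187491 = n90290 := d21_0 (iv1 F142621) F142618 F67982 (iv1 F67976) D92585 (iv5 F370389) (iv1 F370391) (iv5 D90262) D90263 D187491
theorem F370557 : act 2 n100254 = n187491 := d15_3 (iv0 D187491) F364370 F364347
theorem F370558 : act 1 n99332 = n187491 := d15_0 (iv0 D187491) F292197 (iv2 F295272)
theorem F370559 : act 7 n187491 = n94134 := d15_2 (iv0 F364369) F370558 F344307
def n187492 : Q := act 3 n90264
theorem D187492 : act 3 n90264 = n187492 := rfl
theorem F370560 : act 5 n187492 = n130742 := d6_2 (iv5 F139302) D187492 (iv3 F348576)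
theorem F370561 : act 7 n187492 = n148386 := d8_2 F142290 D187492 (iv3 F352108)
theorem F370562 : act 0 n187492 = n117821 := d20_4 F321774 (iv1 F133594) D90264 D187492 F184505 (iv4 D59971) D59968 D127733 F320189 (iv1 F319784)
theorem F370563 : act 6 n116745 = n187492 := d21_3 D142443 (iv1 F352069) F352071 F370562 (iv6 F192321) F192320 D125063 (iv5 F351005) (iv6 F351002) (iv1 F181812)
theorem F370564 : act 2 n187492 = n143599 := d3_1 F370563 (iv6 D143599) (iv2 F182180)
theorem F370565 : act 0 n134568 = n187492 := d21_4 (iv5 D178231) (iv1 F199326) F331711 (iv6 F334093) (iv6 F370563) (iv5 F352071) F352068 F112674 D116500 F331710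
def n187493 : Q := act 6 n90264
theorem D187493 : act 6 n90264 = n187493 := rfl
theorem F370566 : act 2 n187493 = n114466 := d3_1 D187493 F178523 (iv2 F138831)
theorem F370567 : act 3 n187493 = n116745 := d7_1 D187493 F370563 (iv3 D187492)
theorem F370568 : act 4 n187493 = n90265 := d10_1 D187493 (iv6 D90265) D90264
theorem F370569 : act 0 n187493 = n147322 := d21_4 (iv5 F328615) D90506 (iv5 F139302) D187493 (iv6 D147322) F171210 (iv1 F175146) F330314 (iv6 F330312) (iv1 F328229)
theorem F370570 : act 5 n160730 = n187493 := d21_8 F291386 F327758 F129210 (iv6 D83074) F298343 (iv6 F347971) F347970 D160730 (iv6 D187493) (iv1 F291385)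
theorem F370571 : act 7 n187493 = n114469 := d13_2 (iv7 F352168) F370570 F359835
def n187494 : Q := act 0 n90268
theorem D187494 : act 0 n90268 = n187494 := rfl
theorem F370572 : act 4 n187494 = n90486 := d20_2 (iv4 F138848) D187494 (iv3 F153325) (iv1 F153730) (iv3 D99842) F289773 (iv1 F129805) (iv4 F289756) (iv3 F290174) (iv1 D101187)
theorem F370573 : act 6 n187494 = n159786 := d21_5 (iv5 F82940) (iv1 F138844) (iv5 D90267) D90268 D187494 (iv5 D159786) F321657 D114655 F178754 F106030
theorem F370574 : act 2 n90556 = n187494 := d15_3 (iv0 D187494) F290177 F288307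
theorem F370575 : act 1 n101368 = n187494 := d15_0 (iv0 D187494) F290178 F288270
theorem F370576 : act 7 n187494 = n90530 := d15_2 (iv0 F288309) F370575 (iv2 F288305)
theorem F370577 : act 3 n90520 = n187494 := d20_3 F142813 (iv1 F290146) F153323 (iv1 F370575) F156132 (iv4 D88187) (iv1 F134610) (iv4 F142911) F142910 (iv1 F290151)
def n187495 : Q := act 4 n90274
theorem D187495 : act 4 n90274 = n187495 := rfl
def n187496 : Q := act 0 n90278
theorem D187496 : act 0 n90278 = n187496 := rfl
theorem F370578 : act 5 n187496 = n105899 := d17_3 (iv1 D90277) D90278 D187496 F162624 D105907 (iv0 F162646) F83365 F164495 F164493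
theorem F370579 : act 3 n187496 = n105900 := d20_5 D159371 F250911 (iv4 D90297) (iv3 F138864) D187496 (iv4 F239737) (iv1 D152549) (iv4 D71947) D71946 F139469
theorem F370580 : act 6 n187496 = n148234 := d21_5 (iv5 D90288) (iv1 D42203) D42204 (iv6 F138865) D187496 (iv5 D148234) (iv1 F180374) D140835 (iv6 F364352) F364349
theorem F370581 : act 2 n106295 = n187496 := d3_3 F370580 (iv2 F366343) F235474
theorem F370582 : act 7 n114802 = n187496 := d15_2 F163368 (iv0 F178878) (iv2 F370581)
def n187497 : Q := act 1 n90278
theorem D187497 : act 1 n90278 = n187497 := rfl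
theorem F370583 : act 7 n187497 = n106295 := d15_2 (iv0 D187496) D187497 F370581
theorem F370584 : act 5 n187497 = n106296 := d17_7 F163348 D114802 F178878 (iv5 D90583) F65490 D90278 D187497 F163374 (iv4 F163345)
theorem F370585 : act 2 n114802 = n187497 := d2_3 F370584 F163369 D114802
theorem F370586 : act 3 n114373 = n187497 := d6_3 F370584 F163370 D114373
theorem F370587 : act 6 n183097 = n187497 := d12_0 F370584 F163372 (iv5 F178637) F340311 (iv5 F335103)
theorem F370588 : act 4 n183098 = n187497 := d18_3 (iv1 F205624) (iv4 F356660) F295277 F370584 F163371 F77581 F37460 (iv0 F77248) D105907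
def n187498 : Q := act 4 n90278
theorem D187498 : act 4 n90278 = n187498 := rfl
theorem F370589 : act 6 n187498 = n90292 := d10_2 (iv6 F138865) D187498 (iv4 D90292)
theorem F370590 : act 0 n187498 = n106302 := d18_2 (iv1 D187497) D187498 (iv4 D106302) (iv5 D49130) (iv4 F77579) D106294 (iv4 F163364) F163373 (iv5 F370584)
theorem F370591 : act 7 n91169 = n187498 := d14_0 F370589 F362831 F135171 (iv7 F294839) D91169
theorem F370592 : act 1 n94111 = n106302 := d15_0 (iv0 F370590) (iv7 F370591) F295286
def n187499 : Q := act 7 n90278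
theorem D187499 : act 7 n90278 = n187499 := rfl
theorem F370593 : act 3 n187499 = n90298 := d8_1 D187499 (iv7 D90298) (iv3 F138864)
theorem F370594 : act 4 n187499 = n91169 := d11_1 D187499 F370591 (iv4 D187498)
theorem F370595 : act 5 n187499 = n90279 := d13_1 D187499 (iv7 D90279) D90278
theorem F370596 : act 6 n187499 = n91168 := d14_1 D187499 F295284 (iv6 F362821) (iv7 D90293) (iv6 F138865)
theorem F370597 : act 1 n114802 = n187499 := d15_1 (iv0 F178878) (iv7 D187499) (iv2 F139438)
theorem F370598 : act 1 n187499 = n106295 := d15_1 F370597 (iv7 F370583) (iv2 F370585)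
def n187500 : Q := act 0 n90281
theorem D187500 : act 0 n90281 = n187500 := rfl
theorem F370599 : act 4 n187500 = n99373 := d20_2 (iv4 F138868) D187500 (iv3 F177415) F177414 (iv3 D99353) (iv4 F73798) (iv1 D46693) (iv4 F58455) (iv3 F62307) D87967
theorem F370600 : act 3 n187500 = n90307 := d20_5 F142863 F205434 (iv4 D90282) D90281 D187500 (iv4 F177400) F177397 (iv4 F143347) F143348 (iv1 F205440)
theorem F370601 : act 2 n100543 = n187500 := d15_3 (iv0 D187500) (iv0 F177334) F177336
theorem F370602 : act 1 n101094 = n187500 := d15_0 (iv0 D187500) F155677 (iv2 F155761)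
theorem F370603 : act 7 n187500 = n90515 := d15_2 F177335 F370602 F139315
theorem F370604 : act 6 n100139 = n187500 := d14_5 F370603 (iv6 D90515) (iv7 F68206) D92767 F157720
theorem F370605 : act 5 n184521 = n187500 := d18_4 F154353 F349151 (iv1 F286370) D184521 F370599 (iv0 D99373) F73372 (iv0 F68016) D87972
def n187501 : Q := act 5 n90281
theorem D187501 : act 5 n90281 = n187501 := rfl
theorem F370606 : act 2 n187501 = n184494 := d2_1 D187501 (iv5 D184494) (iv2 F155681)
theorem F370607 : act 3 n187501 = n90283 := d6_1 D187501 (iv5 D90283) D90281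
theorem F370608 : act 7 n187501 = n184506 := d13_2 (iv7 F155677) D187501 (iv5 D184506)
def n187502 : Q := act 0 n90282
theorem D187502 : act 0 n90282 = n187502 := rfl
theorem F370609 : act 4 n187502 = n159845 := d18_3 D42202 D90282 D187502 F356699 (iv4 D185516) D185515 (iv4 F356716) (iv0 D90290) (iv5 D42204)
theorem F370610 : act 3 n187502 = n92631 := d20_5 (iv4 F73531) D99543 F177404 F138869 D187502 (iv4 F142733) (iv1 F139565) (iv4 D90653) (iv3 F138916) F177382
theorem F370611 : act 2 n159845 = n187502 := d15_3 (iv0 D187502) (iv0 F205434) D159845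
theorem F370612 : act 1 n90287 = n187502 := d15_0 (iv0 D187502) F155676 (iv2 F155668)
theorem F370613 : act 7 n187502 = n92690 := d15_2 F205435 F370612 F142861
theorem F370614 : act 6 n159845 = n187502 := d14_5 F370613 (iv6 D92690) F68101 D76510 D159845
def n187503 : Q := act 5 n90282
theorem D187503 : act 5 n90282 = n187503 := rfl
theorem F370615 : act 3 n187503 = n100352 := d6_1 D187503 (iv5 D100352) F138869
def n187504 : Q := act 5 n90286
theorem D187504 : act 5 n90286 = n187504 := rfl
theorem F370616 : act 3 n187504 = n90288 := d6_1 D187504 (iv5 D90288) D90286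
theorem F370617 : act 6 n155509 = n187504 := d21_5 (iv5 D25689) (iv1 F50901) D52783 D114377 (iv1 F355590) (iv5 D187504) (iv1 F157719) (iv5 F178745) (iv6 D114644) (iv1 D52915)
theorem F370618 : act 4 n187504 = n155510 := d10_1 F370617 (iv6 D155510) D155509
def n187505 : Q := act 6 n90286
theorem D187505 : act 6 n90286 = n187505 := rfl
theorem F370619 : act 2 n187505 = n185047 := d3_1 D187505 F344233 F235262
theorem F370620 : act 3 n187505 = n90289 := d7_1 D187505 (iv6 D90289) D90286
theorem F370621 : act 4 n187505 = n101201 := d10_1 D187505 (iv6 D101201) (iv4 F138871)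
theorem F370622 : act 7 n187505 = n185052 := d14_2 F155684 D187505 F335764 (iv7 F361051) F361055
theorem F370623 : act 1 n159722 = n187505 := d17_8 F361042 F135144 (iv1 F287410) (iv5 D182144) D182143 (iv5 F342999) (iv0 D159718) D159722 F370621
def n187506 : Q := act 5 n90287
theorem D187506 : act 5 n90287 = n187506 := rfl
theorem F370624 : act 3 n187506 = n151536 := d6_1 D187506 F335915 F139663
def n187507 : Q := act 6 n90287
theorem D187507 : act 6 n90287 = n187507 := rfl
theorem F370625 : act 4 n187507 = n90289 := d10_1 D187507 (iv6 D90289) D90287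
theorem F370626 : act 1 n114080 = n187507 := d17_8 F364341 (iv5 F291662) F333373 (iv5 F333355) D187450 F370383 F364375 D114080 F370625
def n187508 : Q := act 6 n90288
theorem D187508 : act 6 n90288 = n187508 := rfl
theorem F370627 : act 3 n187508 = n155509 := d7_1 D187508 F370617 F370616
theorem F370628 : act 5 n187508 = n153925 := d12_1 D187508 F364344 (iv5 F364343) (iv6 D90289) D90288
theorem F370629 : act 0 n128129 = n187508 := d21_4 F370578 F162626 D114432 (iv6 F206226) (iv6 D187508) (iv5 D90288) (iv1 D42203) D42204 (iv6 F138865) D187496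
def n187509 : Q := act 3 n90290
theorem D187509 : act 3 n90290 = n187509 := rfl
theorem F370630 : act 4 n187509 = n100544 := d20_6 F138941 (iv1 D90320) (iv4 D42218) (iv3 F65147) D90290 D187509 F239752 (iv4 F345120) F143448 F138954
theorem F370631 : act 0 n159824 = n187509 := d18_0 F370630 F239752 (iv4 F345120) (iv5 D93010) (iv4 F68392) F134958 (iv4 F138868) (iv0 F177334) D159824
def n187510 : Q := act 6 n90290
theorem D187510 : act 6 n90290 = n187510 := rfl
def n187511 : Q := act 3 n90291
theorem D187511 : act 3 n90291 = n187511 := rfl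
def n187512 : Q := act 6 n90291
theorem D187512 : act 6 n90291 = n187512 := rfl
def n187513 : Q := act 0 n90292
theorem D187513 : act 0 n90292 = n187513 := rfl
theorem F370632 : act 5 n187513 = n154374 := d21_8 F242449 (iv1 F357267) (iv5 F310884) F310885 F337965 (iv6 F337970) (iv5 F362830) D187513 (iv6 D154374) D154371
theorem F370633 : act 1 n91154 = n187513 := d15_0 (iv0 D187513) F362831 (iv2 F294572)
theorem F370634 : act 6 n154378 = n187513 := d12_0 F370632 (iv6 D154374) (iv5 D73127) D73128 D154378
def n187514 : Q := act 1 n90292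
theorem D187514 : act 1 n90292 = n187514 := rfl
theorem F370635 : act 1 n187514 = n91154 := d15_1 D187514 F362829 F142615
def n187515 : Q := act 3 n90292
theorem D187515 : act 3 n90292 = n187515 := rfl
theorem F370636 : act 4 n187515 = n90321 := d5_2 D90292 D187515 (iv3 D90321) (iv4 D42218) (iv3 F65147)
theorem F370637 : act 5 n187515 = n185134 := d6_2 (iv5 F362830) D187515 F287498
theorem F370638 : act 7 n187515 = n185133 := d8_2 (iv7 F362831) D187515 F287496
theorem F370639 : act 3 n159396 = n187514 := d20_3 F250988 (iv1 D159395) D159396 (iv1 D187514) D187515 F370636 F351314 (iv4 F186824) (iv3 D118772) D118770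
theorem F370640 : act 7 n187514 = n185162 := d8_2 (iv7 F250989) F370639 (iv3 F362823)
theorem F370641 : act 2 n185162 = n187513 := d15_3 (iv0 D187513) D187514 F370640
theorem F370642 : act 2 n187514 = n185161 := d15_3 (iv0 D185161) D185162 (iv7 F370640)
theorem F370643 : act 7 n185161 = n187513 := d4_2 (iv7 F370640) F370642 (iv2 F370641)
theorem F370644 : act 0 n108494 = n187515 := d18_2 (iv1 D108496) (iv4 F167722) F370636 (iv5 F342493) F159469 (iv0 F345140) (iv4 F335538) (iv0 F360600) (iv5 F343108)
def n187516 : Q := act 5 n90294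
theorem D187516 : act 5 n90294 = n187516 := rfl
theorem F370645 : act 2 n187516 = n90595 := d2_1 D187516 (iv5 D90595) (iv2 F138874)
theorem F370646 : act 3 n187516 = n113613 := d6_1 D187516 (iv5 D113613) (iv3 F138875)
theorem F370647 : act 7 n187516 = n90591 := d13_2 (iv7 F138877) D187516 (iv5 D90591)
theorem F370648 : act 0 n187516 = n114188 := d17_2 F138879 D187516 (iv5 D114188) F83286 D52729 D114244 (iv5 F178048) F142207 F142205
theorem F370649 : act 1 n187516 = n114251 := d17_6 (iv1 F83462) D114444 F178489 (iv5 D90295) D90294 D187516 (iv5 D114251) F83320 (iv4 F40546)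
def n187517 : Q := act 4 n90295
theorem D187517 : act 4 n90295 = n187517 := rfl
theorem F370650 : act 2 n187517 = n90596 := d1_1 D187517 (iv4 D90596) (iv2 F138880)
theorem F370651 : act 7 n187517 = n90592 := d11_2 (iv7 F138882) D187517 (iv4 D90592)
theorem F370652 : act 0 n187517 = n114245 := d18_2 F178489 D187517 (iv4 D114245) (iv5 D52729) (iv4 F83286) (iv0 F83288) (iv4 F40541) D52821 D114444
def n187518 : Q := act 6 n90295
theorem D187518 : act 6 n90295 = n187518 := rfl
theorem F370653 : act 2 n187518 = n90597 := d3_1 D187518 (iv6 D90597) (iv2 F138880)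
theorem F370654 : act 3 n187518 = n159333 := d7_1 D187518 (iv6 D159333) (iv3 F138881)
theorem F370655 : act 0 n90634 = n187518 := d21_4 F292987 (iv1 D48162) (iv5 F293952) D90634 (iv6 D187518) (iv5 D90295) (iv1 D42207) D42208 F65152 D42216
def n187519 : Q := act 4 n90296
theorem D187519 : act 4 n90296 = n187519 := rfl
theorem F370656 : act 2 n187519 = n90600 := d1_1 D187519 (iv4 D90600) F138886
theorem F370657 : act 7 n187519 = n90598 := d11_2 (iv7 F138884) D187519 (iv4 D90598)
theorem F370658 : act 0 n187519 = n114483 := d18_2 (iv1 F138883) D187519 (iv4 F178541) (iv5 D90124) (iv4 F67747) (iv0 F138878) (iv4 D90294) F65150 (iv5 F65527)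
theorem F370659 : act 1 n187519 = n114482 := d18_6 F76705 (iv4 F77182) (iv1 F83333) F83330 (iv5 F138885) D187519 F179197 (iv0 D115081) (iv5 D53102)
def n187520 : Q := act 6 n90296
theorem D187520 : act 6 n90296 = n187520 := rfl
theorem F370660 : act 2 n187520 = n90601 := d3_1 D187520 (iv6 D90601) F138886
theorem F370661 : act 5 n187520 = n93877 := d12_1 D187520 (iv6 D93877) (iv5 D43885) D43886 (iv5 F138885)
def n187521 : Q := act 0 n90297
theorem D187521 : act 0 n90297 = n187521 := rfl
theorem F370662 : act 5 n187521 = n103878 := d17_1 D187521 F365231 F241266 (iv4 D114476) (iv5 D52838) (iv0 D25646) D25648 (iv0 F65153) D90297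
theorem F370663 : act 4 n187521 = n114243 := d18_3 (iv1 D90296) D90297 D187521 (iv5 D114243) (iv4 F83312) F83496 (iv4 D52840) F69006 (iv5 F138885)
theorem F370664 : act 2 n90602 = n187521 := d15_3 (iv0 D187521) (iv0 F250911) F250910
theorem F370665 : act 7 n187521 = n90603 := d4_2 F250910 F370664 (iv2 F250909)
theorem F370666 : act 3 n91344 = n187521 := d8_3 F370665 F345165 (iv7 F140430)
theorem F370667 : act 1 n90604 = n187521 := d15_1 F250912 F370665 (iv2 F250909)
def n187522 : Q := act 7 n90297
theorem D187522 : act 7 n90297 = n187522 := rfl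
theorem F370668 : act 2 n187522 = n90604 := d4_1 D187522 (iv7 D90604) (iv2 F138888)
theorem F370669 : act 4 n187522 = n90298 := d11_1 D187522 (iv7 D90298) D90297
theorem F370670 : act 1 n90603 = n187522 := d15_1 D90603 (iv7 D187522) F138888
theorem F370671 : act 1 n187522 = n90602 := d15_1 F370670 (iv7 F250910) F250909
def n187523 : Q := act 6 n90298
theorem D187523 : act 6 n90298 = n187523 := rfl
theorem F370672 : act 2 n187523 = n90605 := d3_1 D187523 (iv6 D90605) (iv2 F138890)
theorem F370673 : act 3 n187523 = n91168 := d7_1 D187523 (iv6 F370596) F370593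
theorem F370674 : act 7 n187523 = n90324 := d14_2 D90298 D187523 (iv6 D90324) (iv7 D42219) (iv6 F65152)
theorem F370675 : act 1 n90720 = n187523 := d15_1 D90720 F370674 F138951
theorem F370676 : act 1 n187523 = n90719 := d15_0 (iv0 D90719) (iv7 F139498) (iv2 F370672)
def n187524 : Q := act 1 n90302
theorem D187524 : act 1 n90302 = n187524 := rfl
theorem F370677 : act 1 n187524 = n90654 := d15_1 D187524 (iv7 F235271) F235269
theorem F370678 : act 7 n187524 = n90661 := d15_2 F178557 D187524 (iv2 F178554)
theorem F370679 : act 4 n187524 = n110987 := d17_9 (iv1 F339938) F339941 (iv1 F80721) D110985 F339954 F228246 (iv0 F157741) D90302 D187524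
theorem F370680 : act 3 n118677 = n187524 := d19_19 (iv1 D187524) (iv5 D90302) F65159 (iv3 D23040) D23038 D47863 F329850 (iv3 D55215) (iv1 F52051) F52049 (iv4 D32590) (iv3 F51643) F56750 (iv5 D28573) (iv4 F46146) (iv3 F55048) F55052 D54642 D118677
theorem F370681 : act 2 n90660 = n187524 := d1_3 F370679 (iv2 F172036) (iv4 F335542)
def n187525 : Q := act 6 n90302
theorem D187525 : act 6 n90302 = n187525 := rfl
theorem F370682 : act 3 n187525 = n90305 := d7_1 D187525 (iv6 D90305) (iv3 F138905)
theorem F370683 : act 5 n187525 = n93966 := d12_1 D187525 (iv6 D93966) (iv5 F135606) F135607 D90302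
def n187526 : Q := act 6 n90304
theorem D187526 : act 6 n90304 = n187526 := rfl
theorem F370684 : act 2 n187526 = n90639 := d3_1 D187526 (iv6 D90639) (iv2 F138911)
theorem F370685 : act 4 n187526 = n90305 := d10_1 D187526 (iv6 D90305) D90304
def n187527 : Q := act 0 n90305
theorem D187527 : act 0 n90305 = n187527 := rfl
def n187528 : Q := act 1 n90305
theorem D187528 : act 1 n90305 = n187528 := rfl
theorem F370686 : act 1 n187528 = n90643 := d15_1 D187528 (iv7 D90643) (iv2 F138913)
def n187529 : Q := act 7 n90305
theorem D187529 : act 7 n90305 = n187529 := rfl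
theorem F370687 : act 2 n187529 = n90643 := d4_1 D187529 (iv7 D90643) (iv2 F138913)
theorem F370688 : act 5 n187529 = n93971 := d13_1 D187529 (iv7 D93971) (iv5 F138914)
theorem F370689 : act 6 n187529 = n90676 := d14_1 D187529 (iv7 D90676) (iv6 D42447) (iv7 F65162) D90305
theorem F370690 : act 1 n90643 = n187527 := d15_0 (iv0 D187527) D187529 F370687
theorem F370691 : act 1 n90641 = n187529 := d15_1 D90641 (iv7 D187529) F138913
theorem F370692 : act 1 n187529 = n90640 := d15_0 (iv0 D90640) D90643 (iv2 F370687)
def n187530 : Q := act 5 n90307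
theorem D187530 : act 5 n90307 = n187530 := rfl
theorem F370693 : act 2 n187530 = n90609 := d2_1 D187530 (iv5 D90609) (iv2 F154620)
theorem F370694 : act 3 n187530 = n184521 := d6_1 D187530 F370605 F370600
theorem F370695 : act 7 n187530 = n90518 := d13_2 (iv7 F177385) D187530 (iv5 D90518)
theorem F370696 : act 0 n187530 = n90316 := d17_2 (iv1 F138920) D187530 F138934 (iv4 F134455) (iv5 F135031) F329566 F329255 F74062 F65530
theorem F370697 : act 0 n90680 = n187530 := d20_4 (iv4 F339924) F165067 (iv4 F335541) F228242 F370694 (iv4 D184521) (iv1 D87994) D87995 (iv3 F345132) (iv1 D114358)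
def n187531 : Q := act 5 n90308
theorem D187531 : act 5 n90308 = n187531 := rfl
theorem F370698 : act 2 n187531 = n90309 := d2_1 D187531 (iv5 D90309) D90308
theorem F370699 : act 3 n187531 = n90654 := d6_1 D187531 (iv5 D90654) (iv3 F138916)
theorem F370700 : act 7 n187531 = n90616 := d13_2 (iv7 F138918) D187531 (iv5 D90616)
theorem F370701 : act 1 n187531 = n90620 := d17_6 F142412 D187153 F369254 (iv5 D100397) (iv4 F138917) D187531 (iv5 F288160) (iv0 D94294) (iv4 F134455)
theorem F370702 : act 6 n114882 = n187531 := d21_5 (iv5 D54654) F42250 D34811 (iv6 F83733) D114882 (iv5 D187531) F177382 D90518 F139318 F114573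
theorem F370703 : act 1 n90621 = n187531 := d15_1 D90621 F370700 F139503
def n187532 : Q := act 0 n90309
theorem D187532 : act 0 n90309 = n187532 := rfl
theorem F370704 : act 1 n90616 = n187532 := d15_0 (iv0 D187532) F138923 (iv2 F139503)
def n187533 : Q := act 1 n90309
theorem D187533 : act 1 n90309 = n187533 := rfl
theorem F370705 : act 1 n187533 = n90616 := d15_1 D187533 (iv7 F370700) F370698
theorem F370706 : act 5 n187533 = n93847 := d17_7 F367615 F367614 (iv1 F154495) (iv5 D46874) (iv4 F65164) D90309 D187533 (iv0 F369307) F145424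
theorem F370707 : act 6 n118753 = n187533 := d21_9 (iv5 D90309) F177369 D92765 F143065 (iv1 D54680) (iv6 F86486) (iv5 D54675) D54673 D118753 (iv1 D187533)
theorem F370708 : act 2 n90620 = n187533 := d2_3 F370706 (iv2 F288158) F288160
theorem F370709 : act 7 n187532 = n90620 := d15_2 F370705 F370704 F370708
theorem F370710 : act 7 n90621 = n187533 := d15_2 (iv0 D90620) D90621 (iv2 F370708)
theorem F370711 : act 2 n187532 = n90621 := d4_3 F370710 (iv2 F370708) (iv7 F370709)
theorem F370712 : act 5 n94295 = n90621 := d13_3 F370710 F370706 (iv7 F288162)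
def n187534 : Q := act 4 n90309
theorem D187534 : act 4 n90309 = n187534 := rfl
theorem F370713 : act 7 n187534 = n90622 := d11_2 (iv7 F138923) D187534 (iv4 D90622)
def n187535 : Q := act 6 n90309
theorem D187535 : act 6 n90309 = n187535 := rfl
theorem F370714 : act 2 n187535 = n114882 := d3_1 D187535 F370702 F370698
theorem F370715 : act 3 n187535 = n90312 := d7_1 D187535 (iv6 D90312) (iv3 F138922)
theorem F370716 : act 0 n114870 = n187535 := d21_4 (iv5 D26447) D26445 D54677 (iv6 F178951) (iv6 D187535) (iv5 D90309) F177369 D92765 F143065 (iv1 D54680)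
theorem F370717 : act 1 n114885 = n187535 := d15_0 (iv0 F370716) (iv7 F363436) (iv2 F363437)
theorem F370718 : act 7 n114883 = n187535 := d15_2 (iv0 D114882) D114883 F370714
def n187536 : Q := act 3 n90311
theorem D187536 : act 3 n90311 = n187536 := rfl
theorem F370719 : act 7 n187536 = n90637 := d8_2 (iv7 F138927) D187536 (iv3 D90637)
def n187537 : Q := act 6 n90311
theorem D187537 : act 6 n90311 = n187537 := rfl
theorem F370720 : act 2 n187537 = n90672 := d3_1 D187537 (iv6 D90672) (iv2 F138926)
theorem F370721 : act 4 n187537 = n90312 := d10_1 D187537 (iv6 D90312) D90311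
def n187538 : Q := act 0 n90312
theorem D187538 : act 0 n90312 = n187538 := rfl
theorem F370722 : act 2 n90673 = n187538 := d15_3 (iv0 D187538) (iv0 F178533) F368682
theorem F370723 : act 7 n187538 = n90674 := d4_2 F368682 F370722 (iv2 F178531)
theorem F370724 : act 1 n90676 = n187538 := d15_1 F178534 F370723 (iv2 F178531)
def n187539 : Q := act 7 n90312
theorem D187539 : act 7 n90312 = n187539 := rfl
theorem F370725 : act 2 n187539 = n90676 := d4_1 D187539 (iv7 D90676) (iv2 F138928)
theorem F370726 : act 3 n187539 = n114883 := d8_1 D187539 F370718 F370715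
theorem F370727 : act 6 n187539 = n90643 := d14_1 D187539 (iv7 D90643) (iv6 D42435) (iv7 F65172) D90312
theorem F370728 : act 1 n90674 = n187539 := d15_1 D90674 (iv7 D187539) F138928
theorem F370729 : act 1 n187539 = n90673 := d15_1 F370728 (iv7 F368682) F178531
def n187540 : Q := act 6 n90313
theorem D187540 : act 6 n90313 = n187540 := rfl
theorem F370730 : act 3 n187540 = n90315 := d7_1 D187540 (iv6 D90315) D90313
theorem F370731 : act 4 n187540 = n106927 := d10_1 D187540 (iv6 F356665) (iv4 F345193)
theorem F370732 : act 5 n187540 = n185790 := d12_1 D187540 (iv6 D185790) (iv5 F145468) F360349 (iv5 F345187)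
theorem E103288 : n185790 = n146181 := (c21_7 (iv5 D28362) F27785 (iv5 F40550) D52861 (iv1 F345198) D187540 F370732 (iv1 D146181) F104748 (iv6 D32988) (iv1 F45858))
theorem F370733 : act 3 n146181 = n88487 := (sb E103288 F288112)
theorem F370734 : act 5 n146181 = n187540 := (sb E103288 (iv5 F370732))
theorem F370735 : act 6 n146181 = n88485 := (sb E103288 (iv6 D185790))
theorem F370736 : act 7 n108682 = n187540 := d11_0 F370731 F164794 D108682
def n187541 : Q := act 0 n90315
theorem D187541 : act 0 n90315 = n187541 := rfl
def n187542 : Q := act 1 n90315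
theorem D187542 : act 1 n90315 = n187542 := rfl
theorem F370737 : act 1 n187542 = n90691 := d15_1 D187542 (iv7 D90691) (iv2 F138932)
def n187543 : Q := act 7 n90315
theorem D187543 : act 7 n90315 = n187543 := rfl
theorem F370738 : act 2 n187543 = n90691 := d4_1 D187543 (iv7 D90691) (iv2 F138932)
theorem F370739 : act 3 n187543 = n108682 := d8_1 D187543 F370736 F370730
theorem F370740 : act 4 n187543 = n106921 := d11_1 D187543 (iv7 D106921) (iv4 F336041)
theorem F370741 : act 5 n187543 = n185795 := d13_1 D187543 (iv7 D185795) (iv5 F138933)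
theorem F370742 : act 6 n187543 = n90704 := d14_1 D187543 (iv7 D90704) (iv6 D42461) (iv7 F65577) D90315
theorem F370743 : act 1 n90691 = n187541 := d15_0 (iv0 D187541) D187543 F370738
theorem F370744 : act 1 n90690 = n187543 := d15_1 D90690 (iv7 D187543) F138932
theorem F370745 : act 1 n187543 = n90689 := d15_0 (iv0 D90689) D90691 (iv2 F370738)
def n187544 : Q := act 2 n90316
theorem D187544 : act 2 n90316 = n187544 := rfl
theorem F370746 : act 3 n187544 = n90694 := d0_2 D90316 D187544 (iv2 D90694) (iv3 D42458) (iv2 F65573)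
theorem F370747 : act 5 n187544 = n94289 := d2_2 (iv5 F138934) D187544 F145423
theorem F370748 : act 7 n187544 = n90680 := d4_2 (iv7 F138935) D187544 (iv2 D90680)
theorem F370749 : act 1 n187544 = n90609 := d15_0 F335352 (iv7 F138935) D187544
theorem F370750 : act 1 n90518 = n187544 := d15_0 F370749 (iv7 F177439) F143063
theorem F370751 : act 6 n151683 = n187544 := d12_0 F370747 (iv6 D94289) D94288 F360286 D151683
theorem F370752 : act 4 n187544 = n152050 := d10_1 F370751 (iv6 D152050) (iv4 F238558)
def n187545 : Q := act 4 n90316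
theorem D187545 : act 4 n90316 = n187545 := rfl
theorem F370753 : act 2 n187545 = n152050 := d1_1 D187545 (iv4 F370752) (iv2 D187544)
theorem F370754 : act 7 n187545 = n90681 := d11_2 (iv7 F138935) D187545 (iv4 D90681)
theorem F370755 : act 0 n187545 = n100361 := d18_2 F370696 D187545 (iv4 D100361) (iv5 D46827) F35049 D22515 (iv4 F65164) D90307 D187530
theorem F370756 : act 3 n179733 = n187545 := d0_0 F370753 F318520 F131691 (iv3 F131714) (iv2 F279953)
theorem F370757 : act 6 n133774 = n187545 := d3_0 F370753 (iv6 D152050) (iv2 F215395)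
def n187546 : Q := act 6 n90316
theorem D187546 : act 6 n90316 = n187546 := rfl
theorem F370758 : act 2 n187546 = n151683 := d3_1 D187546 F370751 (iv2 D187544)
theorem F370759 : act 3 n187546 = n90318 := d7_1 D187546 (iv6 D90318) D90316
theorem F370760 : act 4 n187546 = n133774 := d10_1 D187546 F370757 (iv4 D187545)
theorem F370761 : act 5 n187546 = n94293 := d12_1 D187546 (iv6 D94293) (iv5 D44079) D44080 (iv5 F138934)
theorem F370762 : act 7 n151678 = n187546 := d13_0 F370761 F360284 D151678
def n187547 : Q := act 3 n90317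
theorem D187547 : act 3 n90317 = n187547 := rfl
theorem F370763 : act 2 n187547 = n179747 := d0_1 D187547 (iv3 F343150) (iv2 F351185) (iv3 D90698) (iv2 F138936)
theorem F370764 : act 4 n187547 = n179733 := d5_2 D90317 D187547 F370756 (iv4 D187545) (iv3 D90316)
theorem F370765 : act 5 n187547 = n101176 := d6_2 (iv5 F292309) D187547 F155872
theorem F370766 : act 7 n187547 = n90686 := d8_2 (iv7 F138937) D187547 (iv3 D90686)
theorem F370767 : act 6 n179732 = n187547 := d10_0 F370764 (iv6 D179733) D179732
def n187548 : Q := act 6 n90317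
theorem D187548 : act 6 n90317 = n187548 := rfl
theorem F370768 : act 2 n187548 = n90700 := d3_1 D187548 (iv6 D90700) (iv2 F138936)
theorem F370769 : act 3 n187548 = n179732 := d7_1 D187548 F370767 (iv3 D187547)
theorem F370770 : act 4 n187548 = n90318 := d10_1 D187548 (iv6 D90318) D90317
def n187549 : Q := act 0 n90318
theorem D187549 : act 0 n90318 = n187549 := rfl
theorem F370771 : act 4 n187549 = n108432 := d20_8 (iv4 D63348) (iv1 F95129) F95127 D108585 (iv1 F343117) (iv3 F370769) F370770 D187549 F167643 (iv1 F98632)
def n187550 : Q := act 1 n90318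
theorem D187550 : act 1 n90318 = n187550 := rfl
theorem F370772 : act 1 n187550 = n90704 := d15_1 D187550 (iv7 D90704) (iv2 F138938)
def n187551 : Q := act 7 n90318
theorem D187551 : act 7 n90318 = n187551 := rfl
theorem F370773 : act 2 n187551 = n90704 := d4_1 D187551 (iv7 D90704) (iv2 F138938)
theorem F370774 : act 3 n187551 = n151678 := d8_1 D187551 F370762 F370759
theorem F370775 : act 5 n187551 = n94308 := d13_1 D187551 (iv7 D94308) (iv5 F138939)
theorem F370776 : act 6 n187551 = n90691 := d14_1 D187551 (iv7 D90691) (iv6 D42456) (iv7 F65574) D90318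
theorem F370777 : act 1 n90704 = n187549 := d15_0 (iv0 D187549) D187551 F370773
theorem F370778 : act 1 n90702 = n187551 := d15_1 D90702 (iv7 D187551) F138938
theorem F370779 : act 1 n187551 = n90701 := d15_0 (iv0 D90701) D90704 (iv2 F370773)
def n187552 : Q := act 3 n90319
theorem D187552 : act 3 n90319 = n187552 := rfl
theorem F370780 : act 5 n187552 = n99386 := d6_2 (iv5 F291891) D187552 (iv3 D99386)
theorem F370781 : act 7 n187552 = n90708 := d8_2 (iv7 F139152) D187552 (iv3 D90708)
theorem F370782 : act 0 n103847 = n187552 := d20_4 (iv4 D46517) D46516 (iv4 F153056) F351159 (iv3 D187552) F291890 F291183 (iv4 F139599) F345119 F74128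
theorem F370783 : act 6 n187552 = n115771 := d21_5 F294499 (iv1 D48070) D48072 D103847 F370782 F180359 (iv1 D53506) D53508 (iv6 F331054) D91276
theorem F370784 : act 2 n140574 = n187552 := d3_3 F370783 (iv2 F180360) D140574
def n187553 : Q := act 6 n90319
theorem D187553 : act 6 n90319 = n187553 := rfl
theorem F370785 : act 2 n187553 = n90707 := d3_1 D187553 (iv6 D90707) F139151
theorem F370786 : act 3 n187553 = n115771 := d7_1 D187553 (iv6 F370783) (iv3 D187552)
theorem F370787 : act 4 n187553 = n100718 := d10_1 D187553 (iv6 D100718) (iv4 F291890)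
theorem F370788 : act 5 n187553 = n107331 := d12_1 D187553 F366265 F333015 F153020 (iv5 F291891)
theorem F370789 : act 7 n140575 = n187553 := d13_0 F370788 F165405 (iv5 F223711)
def n187554 : Q := act 3 n90320
theorem D187554 : act 3 n90320 = n187554 := rfl
theorem F370790 : act 5 n187554 = n100593 := d6_2 (iv5 F291892) D187554 F154655
theorem F370791 : act 7 n187554 = n90705 := d8_2 F139149 D187554 (iv3 D90705)
theorem F370792 : act 0 n114348 = n187554 := d20_4 (iv4 D25618) D25616 D52771 D114348 (iv3 D187554) (iv4 F138941) F69469 (iv4 F139603) F327703 (iv1 D52777)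
def n187555 : Q := act 6 n90320
theorem D187555 : act 6 n90320 = n187555 := rfl
theorem F370793 : act 2 n187555 = n90710 := d3_1 D187555 (iv6 D90710) (iv2 F139150)
theorem F370794 : act 4 n187555 = n94418 := d10_1 D187555 F145582 F138941
theorem F370795 : act 5 n187555 = n108443 := d12_1 D187555 F364387 F350393 (iv6 D100597) (iv5 F291892)
def n187556 : Q := act 6 n90323
theorem D187556 : act 6 n90323 = n187556 := rfl
theorem F370796 : act 2 n187556 = n90718 := d3_1 D187556 (iv6 D90718) (iv2 F138945)
theorem F370797 : act 3 n187556 = n108664 := d7_1 D187556 F351312 (iv3 F351311)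
theorem F370798 : act 4 n187556 = n90324 := d10_1 D187556 (iv6 D90324) (iv4 F138946)
theorem F370799 : act 5 n187556 = n108662 := d12_1 D187556 (iv6 D108662) (iv5 F331085) (iv6 D90917) (iv5 F138947)
def n187557 : Q := act 0 n90324
theorem D187557 : act 0 n90324 = n187557 := rfl
theorem F370800 : act 4 n187557 = n180385 := d20_8 (iv4 F327009) F327006 (iv4 F112774) (iv3 F326835) F169457 (iv3 F370797) F370798 D187557 F280714 F132106
theorem F370801 : act 1 n90605 = n187557 := d15_0 (iv0 D187557) (iv7 F370674) F370672
theorem F370802 : act 3 n114519 = n187557 := d5_5 F370800 F280714 (iv4 F132113) (iv3 F280730) F365247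
theorem F370803 : act 0 n180393 = n114526 := d20_7 (iv4 D87433) F66322 D88244 (iv3 F362825) D187557 (iv3 F370802) (iv4 F365247) F178588 (iv3 F356657) (iv1 F145052)
def n187558 : Q := act 1 n90324
theorem D187558 : act 1 n90324 = n187558 := rfl
theorem F370804 : act 1 n187558 = n90605 := d15_1 D187558 F139498 (iv2 F138951)
def n187559 : Q := act 6 n90325
theorem D187559 : act 6 n90325 = n187559 := rfl
theorem F370805 : act 2 n187559 = n90737 := d3_1 D187559 (iv6 D90737) (iv2 F138952)
theorem F370806 : act 3 n187559 = n152555 := d7_1 D187559 F239741 F143448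
theorem F370807 : act 4 n187559 = n170870 := d10_1 D187559 (iv6 F354717) F139599
theorem F370808 : act 7 n187559 = n152547 := d14_2 (iv7 F138953) D187559 (iv6 D152547) F138566 F138564
def n187560 : Q := act 5 n90326
theorem D187560 : act 5 n90326 = n187560 := rfl
theorem F370809 : act 2 n187560 = n90806 := d2_1 D187560 (iv5 D90806) F138955
theorem F370810 : act 7 n187560 = n90489 := d13_2 (iv7 F138957) D187560 (iv5 D90489)
theorem F370811 : act 0 n187560 = n100702 := d18_0 (iv4 F367393) F367395 (iv4 F361013) F228240 F106721 (iv0 F157760) F139728 F138956 D187560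
theorem F370812 : act 0 n100707 = n187560 := d21_1 (iv5 F154815) (iv5 D187560) F142702 (iv1 F142700) D93012 (iv5 F370328) (iv1 D187440) (iv5 D90135) D90136 F295157
def n187561 : Q := act 5 n90327
theorem D187561 : act 5 n90327 = n187561 := rfl
theorem F370813 : act 2 n187561 = n90328 := d2_1 D187561 (iv5 D90328) D90327
theorem F370814 : act 3 n187561 = n90747 := d6_1 D187561 (iv5 D90747) (iv3 F138959)
theorem F370815 : act 7 n187561 = n90807 := d13_2 (iv7 F138961) D187561 (iv5 D90807)
theorem F370816 : act 0 n187561 = n90810 := d17_2 (iv1 F138962) D187561 F143227 F295159 F294633 (iv0 F349191) F349188 (iv0 F143945) F74372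
theorem F370817 : act 0 n90809 = n187561 := d21_1 (iv5 F362399) (iv5 D187561) (iv6 F144906) F291010 (iv6 F290937) D90438 F159976 F157531 F290842 (iv1 F362398)
def n187562 : Q := act 3 n90331
theorem D187562 : act 3 n90331 = n187562 := rfl
theorem F370818 : act 7 n187562 = n90816 := d8_2 (iv7 F138975) D187562 (iv3 D90816)
theorem F370819 : act 0 n187562 = n109088 := d20_4 F291188 (iv1 F290917) D90331 D187562 F169082 (iv4 F164718) F351318 (iv4 F335538) (iv3 D90670) (iv1 F139550)
theorem F370820 : act 0 n90713 = n187562 := d20_4 F139593 (iv1 F293353) (iv4 F294350) (iv3 F139617) (iv3 D187562) (iv4 D90331) F290916 (iv4 F291191) F345135 (iv1 F293920)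
def n187563 : Q := act 6 n90331
theorem D187563 : act 6 n90331 = n187563 := rfl
theorem F370821 : act 2 n187563 = n90763 := d3_1 D187563 (iv6 D90763) (iv2 F138974)
theorem F370822 : act 4 n187563 = n90332 := d10_1 D187563 (iv6 D90332) D90331
def n187564 : Q := act 0 n90332
theorem D187564 : act 0 n90332 = n187564 := rfl
def n187565 : Q := act 1 n90332
theorem D187565 : act 1 n90332 = n187565 := rfl
theorem F370823 : act 1 n187565 = n90767 := d15_1 D187565 (iv7 D90767) (iv2 F138976)
def n187566 : Q := act 7 n90332
theorem D187566 : act 7 n90332 = n187566 := rfl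
theorem F370824 : act 2 n187566 = n90767 := d4_1 D187566 (iv7 D90767) (iv2 F138976)
theorem F370825 : act 6 n187566 = n90821 := d14_1 D187566 (iv7 D90821) (iv6 D42533) (iv7 F65204) D90332
theorem F370826 : act 1 n90767 = n187564 := d15_0 (iv0 D187564) D187566 F370824
theorem F370827 : act 1 n90765 = n187566 := d15_1 D90765 (iv7 D187566) F138976
theorem F370828 : act 1 n187566 = n90764 := d15_0 (iv0 D90764) D90767 (iv2 F370824)
def n187567 : Q := act 0 n90343
theorem D187567 : act 0 n90343 = n187567 := rfl
theorem F370829 : act 1 n90747 = n187567 := d15_0 (iv0 D187567) F139016 (iv2 F139676)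
def n187568 : Q := act 1 n90343
theorem D187568 : act 1 n90343 = n187568 := rfl
theorem F370830 : act 1 n187568 = n90747 := d15_1 D187568 F251134 F251131
theorem F370831 : act 5 n187568 = n92438 := d17_7 F369977 (iv5 F365602) (iv1 D103236) (iv5 D47841) (iv4 F65227) D90343 D187568 (iv0 F367230) (iv4 F369974)
theorem F370832 : act 2 n90749 = n187568 := d2_3 F370831 (iv2 F251142) F251137
theorem F370833 : act 7 n90750 = n187568 := d13_0 F370831 (iv7 F251144) (iv5 F369985)
theorem F370834 : act 2 n90750 = n187567 := d15_3 (iv0 D187567) D187568 (iv7 F370833)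
theorem F370835 : act 7 n187567 = n90749 := d4_2 (iv7 F370833) F370834 F370832
def n187569 : Q := act 4 n90343
theorem D187569 : act 4 n90343 = n187569 := rfl
theorem F370836 : act 6 n187569 = n114912 := d10_2 F176041 D187569 F179004
theorem F370837 : act 7 n187569 = n90751 := d11_2 (iv7 F139016) D187569 (iv4 D90751)
def n187570 : Q := act 3 n90345
theorem D187570 : act 3 n90345 = n187570 := rfl
theorem F370838 : act 7 n187570 = n90762 := d8_2 (iv7 F139020) D187570 (iv3 D90762)
theorem F370839 : act 0 n127806 = n187570 := d20_4 F107778 F77740 D60017 D127806 (iv3 D187570) (iv4 D90345) (iv1 F290770) (iv4 F291188) F329842 (iv1 F107777)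
def n187571 : Q := act 6 n90345
theorem D187571 : act 6 n90345 = n187571 := rfl
theorem F370840 : act 2 n187571 = n90817 := d3_1 D187571 (iv6 D90817) (iv2 F139019)
theorem F370841 : act 4 n187571 = n90346 := d10_1 D187571 (iv6 D90346) D90345
def n187572 : Q := act 0 n90346
theorem D187572 : act 0 n90346 = n187572 := rfl
theorem F370842 : act 2 n90818 = n187572 := d15_3 (iv0 D187572) (iv0 F178045) (iv7 F251150)
theorem F370843 : act 1 n90821 = n187572 := d15_0 (iv0 D187572) (iv7 F251145) (iv2 F251146)
theorem F370844 : act 7 n187572 = n90819 := d15_2 F178046 F370843 (iv2 F177743)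
theorem F370845 : act 5 n114943 = n187572 := d13_3 F370844 (iv5 F161593) (iv7 F355678)
theorem F370846 : act 1 n187112 = n144973 := d17_8 (iv1 D89366) (iv5 D41732) D41728 D89354 (iv4 F336778) F370845 (iv0 D187572) (iv5 F369123) (iv4 F347748)
def n187573 : Q := act 0 n90364
theorem D187573 : act 0 n90364 = n187573 := rfl
theorem F370847 : act 3 n187573 = n152400 := d20_5 (iv4 F159461) (iv1 F293980) (iv4 D90368) (iv3 F139057) D187573 F239591 (iv1 D114375) (iv4 F325487) F153043 (iv1 F137274)
theorem F370848 : act 5 n187573 = n98650 := d21_2 D90364 D187573 F289317 (iv1 D86901) (iv6 D40316) D40315 (iv1 F72921) (iv5 D22307) D22308 F293975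
theorem F370849 : act 1 n91350 = n187573 := d15_0 (iv0 D187573) F293978 (iv2 F140446)
theorem F370850 : act 2 n100640 = n187573 := d2_3 F370848 (iv2 F335412) F335413
theorem F370851 : act 7 n100639 = n187573 := d13_0 F370848 (iv7 F364431) F364434
def n187574 : Q := act 1 n90364
theorem D187574 : act 1 n90364 = n187574 := rfl
theorem F370852 : act 1 n187574 = n91350 := d15_1 D187574 F140448 (iv2 F293977)
theorem F370853 : act 7 n187574 = n100640 := d15_2 (iv0 D187573) D187574 F370850
theorem F370854 : act 5 n98651 = n187574 := d21_0 (iv1 D187574) (iv5 D90364) F65249 D42255 (iv6 F294914) D87680 (iv1 F160578) (iv5 F283700) (iv6 F292865) F292862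
theorem F370855 : act 2 n187574 = n100639 := d2_1 F370854 (iv5 F364434) (iv2 F364432)
def n187575 : Q := act 4 n90364
theorem D187575 : act 4 n90364 = n187575 := rfl
theorem F370856 : act 2 n187575 = n184119 := d1_1 D187575 (iv4 D184119) (iv2 F293977)
theorem F370857 : act 7 n187575 = n100641 := d11_2 (iv7 F293978) D187575 (iv4 D100641)
def n187576 : Q := act 6 n90364
theorem D187576 : act 6 n90364 = n187576 := rfl
theorem F370858 : act 2 n187576 = n184120 := d3_1 D187576 (iv6 D184120) (iv2 F293977)
theorem F370859 : act 3 n187576 = n90369 := d7_1 D187576 (iv6 D90369) (iv3 F139057)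
theorem F370860 : act 5 n187576 = n90399 := d12_1 D187576 (iv6 D90399) (iv5 D42258) (iv6 F65249) D90364
def n187577 : Q := act 3 n90368
theorem D187577 : act 3 n90368 = n187577 := rfl
theorem F370861 : act 2 n187577 = n109088 := d0_1 D187577 F169082 (iv2 F331072) (iv3 D90916) (iv2 F139063)
theorem F370862 : act 5 n187577 = n90714 := d6_2 (iv5 F139064) D187577 F139618
theorem F370863 : act 7 n187577 = n90713 := d8_2 F139065 D187577 F139617
theorem F370864 : act 0 n187577 = n90816 := d20_4 F154599 (iv1 F292990) D90368 D187577 (iv3 D90816) (iv4 D42532) (iv1 F65983) D90760 F340057 (iv1 F154598)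
theorem F370865 : act 1 n153705 = n90816 := d15_0 (iv0 F370864) F370863 (iv2 F241574)
theorem F370866 : act 6 n109083 = n187577 := d21_5 (iv5 D53384) D53381 (iv5 F180883) (iv6 F352249) (iv1 F358908) F370862 (iv1 F345116) (iv5 F370780) F370783 (iv1 D115771)
def n187578 : Q := act 6 n90368
theorem D187578 : act 6 n90368 = n187578 := rfl
theorem F370867 : act 2 n187578 = n90917 := d3_1 D187578 (iv6 D90917) (iv2 F139063)
theorem F370868 : act 3 n187578 = n109083 := d7_1 D187578 F370866 (iv3 D187577)
theorem F370869 : act 4 n187578 = n90369 := d10_1 D187578 (iv6 D90369) D90368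
theorem F370870 : act 5 n108660 = n187578 := d21_8 F362670 (iv1 F362672) (iv5 D100584) D100585 F351180 F355979 (iv5 D109037) (iv1 F168590) (iv6 D187578) F293979
theorem F370871 : act 7 n187578 = n109045 := d13_2 (iv7 F168589) F370870 (iv5 D109045)
theorem F370872 : act 1 n109052 = n187578 := d15_1 D109052 F370871 F169046
theorem F370873 : act 6 n109052 = n180410 := d21_5 (iv5 F291891) (iv1 F138948) (iv5 F139064) D187578 (iv1 F370872) F280790 (iv1 D86194) D86196 (iv6 F345208) F147827
theorem F370874 : act 1 n187578 = n109051 := d15_0 (iv0 D109051) (iv7 F331086) (iv2 F370867)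
theorem F370875 : act 6 n141821 = n109051 := d21_3 (iv5 D106865) D106862 F224839 (iv1 F370874) (iv6 D187578) F139064 (iv1 F138940) F291892 D100597 (iv1 F350413)
def n187579 : Q := act 0 n90369
theorem D187579 : act 0 n90369 = n187579 := rfl
def n187580 : Q := act 1 n90369
theorem D187580 : act 1 n90369 = n187580 := rfl
theorem F370876 : act 1 n187580 = n90920 := d15_1 D187580 (iv7 D90920) (iv2 F139066)
theorem F370877 : act 5 n93298 = n187580 := d21_0 (iv1 D187580) F139067 (iv6 D42259) (iv1 F32751) (iv6 F295147) (iv5 D22724) D22722 D47244 D101562 F366981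
def n187581 : Q := act 7 n90369
theorem D187581 : act 7 n90369 = n187581 := rfl
theorem F370878 : act 2 n187581 = n90920 := d4_1 D187581 (iv7 D90920) (iv2 F139066)
theorem F370879 : act 4 n187581 = n109045 := d11_1 D187581 (iv7 F370871) F370869
theorem F370880 : act 5 n187581 = n90402 := d13_1 D187581 (iv7 D90402) (iv5 F139067)
theorem F370881 : act 6 n187581 = n100649 := d14_1 D187581 (iv7 D100649) (iv6 D46943) F293354 D90369
theorem F370882 : act 1 n90920 = n187579 := d15_0 (iv0 D187579) D187581 F370878
theorem F370883 : act 1 n90919 = n187581 := d15_1 D90919 (iv7 D187581) F139066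
theorem F370884 : act 1 n187581 = n90918 := d15_0 (iv0 D90918) D90920 (iv2 F370878)
def n187582 : Q := act 3 n90371
theorem D187582 : act 3 n90371 = n187582 := rfl
theorem F370885 : act 7 n187582 = n91114 := d8_2 (iv7 F338432) D187582 (iv3 D91114)
theorem F370886 : act 0 n187582 = n90391 := d20_4 F294762 D47417 (iv4 F293736) D187582 (iv3 D90391) D90392 F367473 (iv4 F370497) F370492 (iv1 D91997)
theorem F370887 : act 4 n187582 = n91046 := d20_6 (iv4 F32373) F32371 (iv4 F31776) D42249 D90371 D187582 (iv1 D91046) F66477 (iv3 D20130) (iv1 F31740)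
theorem F370888 : act 2 n186130 = n187582 := d1_3 F370887 F349275 D186130
def n187583 : Q := act 5 n90373
theorem D187583 : act 5 n90373 = n187583 := rfl
theorem F370889 : act 2 n187583 = n90374 := d2_1 D187583 (iv5 D90374) D90373
theorem F370890 : act 3 n187583 = n91094 := d6_1 D187583 (iv5 D91094) (iv3 F139074)
theorem F370891 : act 7 n187583 = n91123 := d13_2 (iv7 F139076) D187583 (iv5 D91123)
theorem F370892 : act 0 n187583 = n91126 := d17_2 (iv1 F139077) D187583 F356800 F295160 D89171 F338456 F329014 (iv0 F295364) (iv4 D91115)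
theorem F370893 : act 1 n187583 = n91125 := d17_6 F72625 F333869 (iv1 D64779) D64780 (iv4 F328550) D187583 F357623 (iv0 D43615) (iv4 F294760)
def n187584 : Q := act 0 n90374
theorem D187584 : act 0 n90374 = n187584 := rfl
theorem F370894 : act 5 n187584 = n91000 := d17_3 (iv1 D90372) D90374 D187584 F294777 F344342 (iv0 D64664) F329339 D47418 (iv4 F338435)
theorem F370895 : act 1 n91123 = n187584 := d15_0 (iv0 D187584) F139081 (iv2 F140160)
theorem F370896 : act 2 n91126 = n187584 := d2_3 F370894 F344257 (iv5 F356800)
theorem F370897 : act 7 n91125 = n187584 := d13_0 F370894 F344259 (iv5 F357623)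
def n187585 : Q := act 1 n90374
theorem D187585 : act 1 n90374 = n187585 := rfl
theorem F370898 : act 1 n187585 = n91123 := d15_1 D187585 (iv7 F370891) F370889
theorem F370899 : act 7 n187585 = n91126 := d15_2 (iv0 D187584) D187585 F370896
theorem F370900 : act 5 n187585 = n91001 := d17_7 (iv1 F295250) (iv5 F328561) (iv1 D136133) F328161 (iv4 F65257) D90374 D187585 F140049 (iv4 F295223)
theorem F370901 : act 2 n91125 = n187585 := d2_3 F370900 F344254 (iv5 F357623)
theorem F370902 : act 3 n186818 = n187585 := d6_3 F370900 F294778 D186818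
def n187586 : Q := act 4 n90374
theorem D187586 : act 4 n90374 = n187586 := rfl
theorem F370903 : act 3 n187586 = n93768 := d5_1 D187586 (iv4 D93768) F68898 (iv4 F65261) (iv3 F139080)
theorem F370904 : act 7 n187586 = n91127 := d11_2 (iv7 F139081) D187586 (iv4 D91127)
theorem F370905 : act 5 n187586 = n109004 := d16_7 F327612 (iv5 F328565) F203778 F328161 (iv4 F65257) D90374 D187586 (iv7 D109004) (iv2 F169005)
theorem F370906 : act 0 n187586 = n183029 := d18_2 (iv1 D187585) D187586 (iv4 D183029) (iv5 D87378) F295455 (iv0 D87188) (iv4 F66461) D91001 (iv5 F370900)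
theorem F370907 : act 1 n187586 = n157874 := d18_6 F289932 F294604 (iv1 D87048) (iv4 F65257) D90374 D187586 F333854 D183017 F362814
def n187587 : Q := act 6 n90374
theorem D187587 : act 6 n90374 = n187587 := rfl
theorem F370908 : act 3 n187587 = n90376 := d7_1 D187587 (iv6 D90376) (iv3 F139080)
theorem F370909 : act 5 n187587 = n102325 := d12_1 D187587 (iv6 D102325) (iv5 D47485) (iv6 F292733) D90374
def n187588 : Q := act 0 n90376
theorem D187588 : act 0 n90376 = n187588 := rfl
theorem F370910 : act 6 n187588 = n101572 := d21_5 (iv5 D19947) D19944 D42250 D90376 D187588 (iv5 F332709) (iv1 F332708) (iv5 D93222) (iv6 D43610) F32745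
theorem F370911 : act 2 n91107 = n187588 := d3_3 F370910 (iv2 F368008) (iv6 F368012)
theorem F370912 : act 3 n185161 = n187588 := d7_3 F370910 (iv3 F332712) (iv6 F332715)
theorem F370913 : act 4 n101573 = n187588 := d10_3 F370910 (iv4 D101572) D101573
theorem F370914 : act 0 n101573 = n91136 := d20_7 (iv4 F351194) (iv1 F351196) (iv4 F362811) F287496 D185161 F370912 (iv4 F370913) F140167 (iv3 F370520) (iv1 F370523)
theorem F370915 : act 7 n91108 = n187588 := d15_2 (iv0 D91107) D91108 (iv2 F370911)
theorem F370916 : act 3 n187513 = n91108 := d8_3 F370915 (iv3 F370912) F370643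
theorem F370917 : act 4 n91134 = n91108 := d11_3 F370915 (iv4 F370913) (iv7 F367123)
def n187589 : Q := act 1 n90376
theorem D187589 : act 1 n90376 = n187589 := rfl
theorem F370918 : act 1 n187589 = n91110 := d15_1 D187589 (iv7 D91110) (iv2 F139084)
theorem F370919 : act 7 n187589 = n91107 := d15_2 (iv0 D187588) D187589 F370911
theorem F370920 : act 2 n91108 = n187589 := d4_3 F370919 F370911 (iv7 F370915)
theorem F370921 : act 3 n187589 = n159403 := d0_2 F370916 F370920 F251009 F362823 F370641
theorem F370922 : act 1 n91110 = n187588 := d15_1 F370918 (iv7 F370915) F370920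
def n187590 : Q := act 7 n90376
theorem D187590 : act 7 n90376 = n187590 := rfl
theorem F370923 : act 2 n187590 = n91110 := d4_1 D187590 (iv7 D91110) (iv2 F139084)
theorem F370924 : act 4 n187590 = n93772 := d11_1 D187590 (iv7 D93772) (iv4 F139085)
theorem F370925 : act 5 n187590 = n102333 := d13_1 D187590 (iv7 D102333) (iv5 F293739)
theorem F370926 : act 6 n187590 = n91136 := d14_1 D187590 (iv7 D91136) (iv6 D42675) (iv7 F65260) D90376
theorem F370927 : act 1 n91108 = n187590 := d15_1 D91108 (iv7 D187590) F139084
theorem F370928 : act 1 n187590 = n91107 := d15_1 F370927 (iv7 F370919) (iv2 F370920)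
def n187591 : Q := act 4 n90378
theorem D187591 : act 4 n90378 = n187591 := rfl
theorem F370929 : act 2 n187591 = n91090 := d1_1 D187591 (iv4 D91090) (iv2 F357542)
theorem F370930 : act 3 n187591 = n100846 := d5_1 D187591 F154950 (iv3 F328099) F328100 (iv3 F357536)
theorem F370931 : act 6 n187591 = n99480 := d10_2 (iv6 F357538) D187591 (iv4 D99480)
theorem F370932 : act 7 n187591 = n91085 := d11_2 (iv7 F357543) D187591 (iv4 D91085)
theorem F370933 : act 0 n187591 = n176945 := d17_0 (iv5 D176945) (iv1 D84338) (iv5 F129304) (iv4 F335318) D89119 (iv0 F335332) (iv5 D91094) F139088 D187591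
theorem F370934 : act 1 n187591 = n176940 := d15_1 (iv0 F370933) (iv7 F370224) F370221
def n187592 : Q := act 3 n90379
theorem D187592 : act 3 n90379 = n187592 := rfl
theorem F370935 : act 2 n187592 = n185136 := d0_1 D187592 (iv3 D185136) (iv2 F295072) (iv3 D91084) (iv2 F357549)
theorem F370936 : act 4 n187592 = n185458 := d5_2 F370090 D187592 (iv3 F370096) (iv4 D187384) D187383
theorem F370937 : act 5 n187592 = n146942 := d6_2 F347752 D187592 F347754
theorem F370938 : act 6 n187592 = n102000 := d7_2 (iv6 F347751) D187592 (iv3 D102000)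
theorem F370939 : act 7 n187592 = n91089 := d8_2 (iv7 F357550) D187592 (iv3 D91089)
theorem F370940 : act 0 n187592 = n187404 := d20_10 (iv4 D187404) (iv1 F138328) (iv4 F138778) (iv3 F142559) (iv1 F142564) D187473 F370479 F370093 F370090 D187592
theorem F370941 : act 1 n187592 = n90386 := d15_1 (iv0 F370940) (iv7 F357381) (iv2 F370204)
theorem F370942 : act 1 n185626 = n91089 := d15_1 F370206 (iv7 F370939) F370935
theorem F370943 : act 1 n91089 = n185631 := d15_1 F370942 F357381 (iv2 F357382)
def n187593 : Q := act 5 n90380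
theorem D187593 : act 5 n90380 = n187593 := rfl
theorem F370944 : act 2 n187593 = n90381 := d2_1 D187593 (iv5 D90381) D90380
theorem F370945 : act 3 n187593 = n91123 := d6_1 D187593 (iv5 D91123) (iv3 F139089)
theorem F370946 : act 7 n187593 = n91094 := d13_2 (iv7 F139090) D187593 (iv5 D91094)
theorem F370947 : act 1 n187593 = n91099 := d17_6 (iv1 F295186) D44853 D96113 F356265 F283179 D187593 F356189 (iv0 D43604) D43607
theorem F370948 : act 0 n187593 = n91100 := d21_1 D187593 F356248 (iv6 F357533) (iv1 D93065) (iv6 F293194) D88859 D186567 F362409 (iv6 D91087) (iv1 F139091)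
def n187594 : Q := act 6 n90380
theorem D187594 : act 6 n90380 = n187594 := rfl
theorem F370949 : act 2 n187594 = n90382 := d3_1 D187594 (iv6 D90382) D90380
theorem F370950 : act 3 n187594 = n91124 := d7_1 D187594 (iv6 D91124) (iv3 F139089)
theorem F370951 : act 4 n187594 = n103907 := d10_1 D187594 F352884 F283179
theorem F370952 : act 7 n187594 = n100735 := d14_2 (iv7 F139090) D187594 (iv6 D100735) (iv7 F292394) (iv6 D91095)
theorem F370953 : act 0 n187594 = n100871 := d21_10 F368798 (iv1 D187001) (iv5 D89461) D89462 (iv1 F356190) (iv6 D93200) (iv5 F356189) (iv1 F370947) (iv5 D187593) D187594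
theorem F370954 : act 0 n100786 = n187594 := d21_4 D93067 F335721 (iv5 D100785) D100786 (iv6 D187594) D187593 F370948 F356248 (iv6 F357533) (iv1 D93065)
theorem F370955 : act 5 n186749 = n187594 := d21_8 (iv5 F357554) (iv1 D89122) (iv5 D41637) (iv6 D19604) D19599 D41625 D89088 D186749 (iv6 D187594) (iv1 F139093)
def n187595 : Q := act 4 n90381
theorem D187595 : act 4 n90381 = n187595 := rfl
theorem F370956 : act 3 n187595 = n92567 := d5_1 D187595 (iv4 D92567) F67967 (iv4 F65268) (iv3 F139094)
theorem F370957 : act 7 n187595 = n91101 := d11_2 (iv7 F139095) D187595 (iv4 D91101)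
theorem F370958 : act 0 n187595 = n183121 := d18_2 (iv1 F356249) D187595 (iv4 D183121) (iv5 D87409) (iv4 F70174) (iv0 F70176) F64245 D41636 D89119
def n187596 : Q := act 6 n90381
theorem D187596 : act 6 n90381 = n187596 := rfl
theorem F370959 : act 3 n187596 = n90383 := d7_1 D187596 (iv6 D90383) (iv3 F139094)
theorem F370960 : act 5 n187596 = n187021 := d12_1 D187596 (iv6 D187021) (iv5 F291782) (iv6 D90382) D90381
def n187597 : Q := act 0 n90382
theorem D187597 : act 0 n90382 = n187597 := rfl
theorem F370961 : act 5 n187597 = n187142 := d17_1 D187597 (iv1 F369234) (iv5 D186748) F335743 D97051 (iv0 F356251) (iv5 D104722) (iv0 F158653) (iv4 F291781)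
theorem F370962 : act 6 n187597 = n99778 := d21_5 D89119 (iv1 F356249) (iv5 D90381) D90382 D187597 (iv5 F361754) (iv1 F361752) F339513 (iv6 D93208) F294961
theorem F370963 : act 2 n100871 = n187597 := d15_3 (iv0 D187597) F343084 D100871
theorem F370964 : act 1 n100735 = n187597 := d15_0 (iv0 D187597) F291783 (iv2 F289669)
theorem F370965 : act 7 n187597 = n100786 := d15_2 (iv0 F363041) F370964 F154980
theorem F370966 : act 3 n102382 = n187597 := d8_3 F370965 F154880 (iv7 F352772)
def n187598 : Q := act 1 n90383
theorem D187598 : act 1 n90383 = n187598 := rfl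
theorem F370967 : act 1 n187598 = n91136 := d15_1 D187598 (iv7 D91136) (iv2 F139097)
theorem F370968 : act 7 n187598 = n91133 := d15_2 (iv0 F293825) D187598 (iv2 F367121)
theorem F370969 : act 2 n91134 = n187598 := d4_3 F370968 (iv2 F367121) (iv7 F367123)
theorem F370970 : act 3 n106302 = n187598 := d8_3 F370968 (iv3 F367122) F356688
theorem F370971 : act 4 n187589 = n187598 := d11_3 F370968 F368013 (iv7 F370919)
def n187599 : Q := act 7 n90383
theorem D187599 : act 7 n90383 = n187599 := rfl
theorem F370972 : act 2 n187599 = n91136 := d4_1 D187599 (iv7 D91136) (iv2 F139097)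
theorem F370973 : act 4 n187599 = n92571 := d11_1 D187599 (iv7 D92571) (iv4 F139098)
theorem F370974 : act 5 n187599 = n187026 := d13_1 D187599 (iv7 D187026) (iv5 F293826)
theorem F370975 : act 6 n187599 = n91110 := d14_1 D187599 (iv7 D91110) (iv6 D42667) (iv7 F65269) D90383
theorem F370976 : act 1 n91134 = n187599 := d15_1 D91134 (iv7 D187599) F139097
theorem F370977 : act 1 n187599 = n91133 := d15_1 F370976 (iv7 F370968) (iv2 F370969)
def n187600 : Q := act 1 n90386
theorem D187600 : act 1 n90386 = n187600 := rfl
theorem F370978 : act 1 n187600 = n187404 := d15_1 D187600 F370205 F357382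
theorem F370979 : act 7 n187600 = n185136 := d15_2 F370941 D187600 (iv2 F370935)
theorem F370980 : act 3 n91161 = n187600 := d20_9 F139102 (iv1 D90032) (iv4 F67939) (iv3 D43299) (iv1 F32490) D20752 (iv4 F61571) D87104 (iv4 F140213) (iv1 D187600)
theorem F370981 : act 2 n187600 = n91089 := d0_1 F370980 (iv3 D91089) (iv2 F357542) F357536 (iv2 F294419)
theorem F370982 : act 6 n187600 = n99870 := d7_2 (iv6 F294420) F370980 (iv3 D99870)
theorem F370983 : act 4 n187600 = n185459 := d20_6 (iv4 F72229) F72228 F294370 D42685 D91161 F370980 (iv1 D185459) F135290 F63090 D41253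
theorem F370984 : act 3 n181880 = n185459 := d5_5 (iv4 F370983) (iv3 F370980) F140213 D182434 F283981
theorem F370985 : act 6 n185459 = n103291 := d7_2 F367091 F370984 (iv3 F159266)
def n187601 : Q := act 5 n90386
theorem D187601 : act 5 n90386 = n187601 := rfl
theorem F370986 : act 3 n187601 = n90388 := d6_1 D187601 (iv5 D90388) D90386
def n187602 : Q := act 0 n90387
theorem D187602 : act 0 n90387 = n187602 := rfl
theorem F370987 : act 4 n187602 = n93761 := d20_2 D90387 D187602 (iv3 D93761) (iv1 D43830) (iv3 D20752) (iv4 D9847) (iv1 F7278) D9414 D19946 D42255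
theorem F370988 : act 3 n187602 = n182297 := d20_5 D91090 (iv1 F370226) F370222 (iv3 F294910) D187602 (iv4 D182297) (iv1 F133634) F70080 (iv3 F139089) (iv1 F139093)
theorem F370989 : act 2 n93761 = n187602 := d15_3 (iv0 D187602) (iv0 F140218) (iv7 F254751)
theorem F370990 : act 1 n90392 = n187602 := d15_0 (iv0 D187602) (iv7 F370457) F370456
theorem F370991 : act 7 n187602 = n187475 := d15_2 (iv0 F367473) F370990 (iv2 D187475)
def n187603 : Q := act 5 n90387
theorem D187603 : act 5 n90387 = n187603 := rfl
theorem F370992 : act 3 n187603 = n183119 := d6_1 D187603 F286016 (iv3 F294910)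
theorem F370993 : act 1 n187603 = n187478 := d17_6 (iv1 D43346) D43348 (iv1 F294913) (iv5 D90388) D90387 D187603 F370517 F295258 (iv4 D92664)
theorem F370994 : act 1 n183025 = n187603 := d15_0 F370993 F370518 F367463
def n187604 : Q := act 4 n90388
theorem D187604 : act 4 n90388 = n187604 := rfl
def n187605 : Q := act 6 n90388
theorem D187605 : act 6 n90388 = n187605 := rfl
theorem F370995 : act 5 n187605 = n183770 := d12_1 D187605 (iv6 D183770) (iv5 D87680) F294914 D90388
def n187606 : Q := act 0 n90391
theorem D187606 : act 0 n90391 = n187606 := rfl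
theorem F370996 : act 4 n187606 = n91045 := d20_2 F293719 D187606 (iv3 F288646) (iv1 F355749) (iv3 D186179) (iv4 F292438) (iv1 F158545) (iv4 F293644) F158246 (iv1 F293718)
theorem F370997 : act 2 n91114 = n187606 := d15_3 (iv0 D187606) (iv0 F370886) F370885
theorem F370998 : act 3 n187606 = n91146 := d0_2 D91114 F370997 F362648 (iv3 F338434) F338433
theorem F370999 : act 6 n187606 = n99543 := d3_2 (iv6 F338423) F370997 F177402
theorem F371000 : act 7 n187606 = n186130 := d4_2 F370885 F370997 F370888
theorem F371001 : act 5 n141205 = n187606 := d16_7 F370887 F349276 (iv4 F355759) (iv5 F251549) F365492 (iv5 D141208) (iv4 F224234) F371000 F370888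
def n187607 : Q := act 2 n90391
theorem D187607 : act 2 n90391 = n187607 := rfl
theorem F371002 : act 3 n187607 = n187404 := d0_2 D90391 D187607 F370204 F287947 F294915
theorem F371003 : act 4 n187607 = n185913 := d1_2 F293719 D187607 (iv2 F288416)
theorem F371004 : act 1 n187607 = n186130 := d15_0 F370462 F370460 D187607
theorem F371005 : act 1 n91114 = n187607 := d15_0 F371004 (iv7 F371000) (iv2 F370997)
def n187608 : Q := act 5 n90391
theorem D187608 : act 5 n90391 = n187608 := rfl
theorem F371006 : act 3 n187608 = n90393 := d6_1 D187608 (iv5 D90393) D90391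
def n187609 : Q := act 5 n90392
theorem D187609 : act 5 n90392 = n187609 := rfl
theorem F371007 : act 3 n187609 = n99012 := d6_1 D187609 F367127 F139104
theorem F371008 : act 1 n187609 = n183025 := d17_6 (iv1 F294793) (iv5 F295022) (iv1 F366976) (iv5 D90393) D90392 D187609 (iv5 D183025) (iv0 F294801) (iv4 D92659)
def n187610 : Q := act 6 n90392
theorem D187610 : act 6 n90392 = n187610 := rfl
theorem F371009 : act 3 n187610 = n187472 := d7_1 D187610 (iv6 D187472) F139104
theorem F371010 : act 4 n187610 = n90394 := d10_1 D187610 (iv6 D90394) D90392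
theorem F371011 : act 7 n187610 = n183757 := d14_2 F370466 D187610 (iv6 D183757) (iv7 F160545) (iv6 F370465)
theorem F371012 : act 0 n185434 = n187610 := d20_10 F371010 F295163 F139227 (iv3 D90463) (iv1 F66898) (iv3 F140165) (iv4 F292498) F157413 F157412 D185434
def n187611 : Q := act 4 n90393
theorem D187611 : act 4 n90393 = n187611 := rfl
def n187612 : Q := act 6 n90393
theorem D187612 : act 6 n90393 = n187612 := rfl
theorem F371013 : act 0 n187612 = n151960 := d21_4 F294990 (iv1 F294662) D90393 D187612 (iv6 D151960) (iv5 D71643) (iv1 F78813) D107904 F309781 F295169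
def n187613 : Q := act 4 n90395
theorem D187613 : act 4 n90395 = n187613 := rfl
theorem F371014 : act 2 n187613 = n90398 := d1_1 D187613 (iv4 D90398) (iv2 F139105)
theorem F371015 : act 3 n187613 = n146563 := d5_1 D187613 F229868 (iv3 F356651) (iv4 D91174) (iv3 F139106)
theorem F371016 : act 6 n146562 = n187613 := d7_0 F371015 (iv6 D146563) D146562
def n187614 : Q := act 6 n90395
theorem D187614 : act 6 n90395 = n187614 := rfl
theorem F371017 : act 2 n187614 = n90399 := d3_1 D187614 (iv6 D90399) (iv2 F139105)
theorem F371018 : act 3 n187614 = n91175 := d7_1 D187614 (iv6 D91175) (iv3 F139106)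
theorem F371019 : act 4 n187614 = n146562 := d10_1 D187614 F371016 (iv4 D187613)
theorem F371020 : act 5 n187614 = n184120 := d12_1 D187614 (iv6 D184120) (iv5 D87822) (iv6 F294663) D90395
def n187615 : Q := act 3 n90397
theorem D187615 : act 3 n90397 = n187615 := rfl
theorem F371021 : act 5 n187615 = n99066 := d6_2 (iv5 F295171) D187615 (iv3 D99066)
theorem F371022 : act 1 n141205 = n187615 := d17_6 (iv1 D90991) D90993 F292419 (iv5 F355742) (iv4 F370996) (iv5 F371001) F371021 (iv0 F293984) F143809
def n187616 : Q := act 4 n90397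
theorem D187616 : act 4 n90397 = n187616 := rfl
def n187617 : Q := act 6 n90397
theorem D187617 : act 6 n90397 = n187617 := rfl
def n187618 : Q := act 0 n90398
theorem D187618 : act 0 n90398 = n187618 := rfl
theorem F371023 : act 5 n187618 = n146564 := d17_1 D187618 (iv1 F356768) F356762 (iv4 D183167) (iv5 D87431) F157259 D88801 F295170 D90398
theorem F371024 : act 4 n187618 = n186443 := d18_3 (iv1 D90397) D90398 D187618 (iv5 D186443) F136178 (iv0 F157260) F62236 D46340 (iv5 F295171)
def n187619 : Q := act 1 n90398
theorem D187619 : act 1 n90398 = n187619 := rfl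
def n187620 : Q := act 5 n90398
theorem D187620 : act 5 n90398 = n187620 := rfl
theorem F371025 : act 3 n187620 = n94101 := d6_1 D187620 (iv5 F294671) F140236
theorem F371026 : act 7 n187620 = n183172 := d13_2 (iv7 F140231) D187620 (iv5 F295290)
def n187621 : Q := act 6 n90398
theorem D187621 : act 6 n90398 = n187621 := rfl
theorem F371027 : act 2 n187621 = n146562 := d3_1 D187621 F371016 F371014
theorem F371028 : act 4 n187621 = n90399 := d10_1 D187621 (iv6 D90399) D90398
def n187622 : Q := act 0 n90399
theorem D187622 : act 0 n90399 = n187622 := rfl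
def n187623 : Q := act 1 n90399
theorem D187623 : act 1 n90399 = n187623 := rfl
def n187624 : Q := act 7 n90399
theorem D187624 : act 7 n90399 = n187624 := rfl
theorem F371029 : act 3 n187624 = n90402 := d8_1 D187624 (iv7 D90402) (iv3 F139107)
def n187625 : Q := act 2 n90400
theorem D187625 : act 2 n90400 = n187625 := rfl
theorem F371030 : act 7 n90401 = n187625 := d15_2 (iv0 D90400) D90401 (iv2 D187625)
def n187626 : Q := act 3 n90400
theorem D187626 : act 3 n90400 = n187626 := rfl
theorem F371031 : act 4 n140328 = n187626 := d19_2 D65861 D140328 (iv3 D187626) (iv1 F139110) (iv5 F139923) F331069 F79727 D50352 F79732 (iv4 D50145) F39142 (iv1 D24954) (iv5 D11849) (iv4 F10144) (iv3 F10152) F10150 D6973 D14594 D30820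
theorem F371032 : act 2 n187626 = n136492 := d1_1 F371031 (iv4 F361152) (iv2 F223437)
theorem F371033 : act 7 n187626 = n91229 := d11_2 (iv7 F223438) F371031 (iv4 F331087)
theorem F371034 : act 5 n187626 = n135887 := d16_1 F371031 F218572 F361161 F207635 F322574 F101516 D140330 F223441 (iv2 F223437)
theorem F371035 : act 6 n135890 = n187626 := d12_0 F371034 (iv6 D135887) (iv5 D63897) D63898 D135890
theorem E103289 : n91223 = n90400 := (c8_3 F371033 (iv3 D91229) F140262 D187626)
theorem E103290 : n187625 = n42704 := ((D187625).symm.trans (sb E103289 (iv2 D91223)))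
theorem F371036 : act 7 n90400 = n42705 := (sb E103289 (iv7 F140262))
theorem F371037 : act 2 n42704 = n90400 := (sb E103290 (iv2 D187625))
theorem E103291 : n91228 = n90401 := ((D91228).symm.trans (sb E103290 (iv7 F371030)))
theorem F371038 : act 2 n90401 = n42705 := (sb E103291 F140263)
theorem F371039 : act 7 n90401 = n42704 := (sb E103291 (iv7 D91228))
def n187627 : Q := act 4 n90400
theorem D187627 : act 4 n90400 = n187627 := rfl
theorem F371040 : act 2 n187627 = n91225 := d1_1 D187627 (iv4 D91225) F371037
theorem F371041 : act 7 n187627 = n91230 := d11_2 (iv7 F371036) D187627 (iv4 D91230)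
def n187628 : Q := act 5 n90400
theorem D187628 : act 5 n90400 = n187628 := rfl
theorem F371042 : act 2 n187628 = n91226 := d2_1 D187628 (iv5 D91226) F371037
theorem F371043 : act 3 n187628 = n135887 := d6_1 D187628 (iv5 F371034) (iv3 D187626)
theorem F371044 : act 7 n187628 = n91231 := d13_2 (iv7 F371036) D187628 (iv5 D91231)
theorem F371045 : act 6 n187628 = n135885 := d21_9 (iv5 D102184) (iv1 D47439) D47440 F75646 (iv1 F292990) D90369 F139067 D90400 D187628 (iv1 F352854)
theorem F371046 : act 0 n101148 = n187628 := d21_10 (iv5 D187628) (iv1 F139110) (iv5 F139923) F295011 (iv1 F159483) (iv6 F357954) (iv5 D154173) (iv1 F311760) F136837 D101148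
def n187629 : Q := act 6 n90400
theorem D187629 : act 6 n90400 = n187629 := rfl
theorem F371047 : act 2 n187629 = n91227 := d3_1 D187629 (iv6 D91227) F371037
theorem F371048 : act 3 n187629 = n135890 := d7_1 D187629 F371035 (iv3 D187626)
theorem F371049 : act 5 n187629 = n135886 := d12_1 D187629 (iv6 D135886) D135885 (iv6 F371045) (iv5 D187628)
theorem F371050 : act 2 n135886 = n102015 := d2_1 F371049 (iv5 F366997) (iv2 F371047)
theorem F371051 : act 3 n102015 = n136477 := d0_2 (iv3 F218569) F371050 F219591 F99869 (iv2 F99375)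
theorem F371052 : act 6 n102015 = n135884 := d3_2 D135886 F371050 (iv2 D135884)
theorem F371053 : act 0 n91227 = n137150 := d21_7 D30359 D64478 (iv5 F221252) F326615 (iv1 F218564) (iv6 F371052) (iv5 F366997) (iv5 D137150) (iv6 D64475) (iv1 D30357)
def n187630 : Q := act 3 n90401
theorem D187630 : act 3 n90401 = n187630 := rfl
theorem F371054 : act 7 n187630 = n91224 := d8_2 (iv7 F371039) D187630 (iv3 D91224)
def n187631 : Q := act 4 n90401
theorem D187631 : act 4 n90401 = n187631 := rfl
theorem F371055 : act 2 n187631 = n91230 := d1_1 D187631 (iv4 D91230) (iv2 F371038)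
theorem F371056 : act 7 n187631 = n91225 := d11_2 (iv7 F371039) D187631 (iv4 D91225)
def n187632 : Q := act 5 n90401
theorem D187632 : act 5 n90401 = n187632 := rfl
theorem F371057 : act 2 n187632 = n91231 := d2_1 D187632 (iv5 D91231) (iv2 F371038)
theorem F371058 : act 7 n187632 = n91226 := d13_2 (iv7 F371039) D187632 (iv5 D91226)
theorem F371059 : act 0 n187632 = n101148 := d21_1 D187632 (iv5 F368007) (iv6 D186785) F137016 (iv6 F368339) (iv5 D186863) D186862 (iv5 F368338) (iv6 D91233) (iv1 F139108)
theorem F371060 : act 6 n101155 = n187632 := d21_5 F75650 F292148 (iv5 F292150) D47116 D101155 (iv5 D187632) (iv1 D90401) (iv5 F139067) (iv6 D90369) (iv1 F293221)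
def n187633 : Q := act 6 n90401
theorem D187633 : act 6 n90401 = n187633 := rfl
theorem F371061 : act 2 n187633 = n91232 := d3_1 D187633 (iv6 D91232) (iv2 F371038)
theorem F371062 : act 0 n101580 = n187633 := d21_4 (iv5 D89320) D89318 F137015 D101580 (iv6 D187633) D187632 F371059 (iv5 F368007) (iv6 D186785) F137016
def n187634 : Q := act 6 n90410
theorem D187634 : act 6 n90410 = n187634 := rfl
theorem F371063 : act 2 n187634 = n100718 := d3_1 D187634 (iv6 D100718) (iv2 F291449)
theorem F371064 : act 4 n187634 = n90707 := d10_1 D187634 (iv6 D90707) (iv4 F139146)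
def n187635 : Q := act 3 n90413
theorem D187635 : act 3 n90413 = n187635 := rfl
theorem F371065 : act 2 n187635 = n185741 := d0_1 D187635 (iv3 D185741) F160271 F76029 (iv2 F160259)
theorem F371066 : act 4 n187635 = n185741 := d5_2 F139166 D187635 (iv3 D185741) (iv4 F135438) (iv3 F135439)
theorem F371067 : act 7 n187635 = n90419 := d8_2 (iv7 F160260) D187635 (iv3 D90419)
theorem F371068 : act 0 n187635 = n185851 := d20_10 (iv4 D185851) (iv1 D88519) F63665 (iv3 D41322) F63160 (iv3 F31845) (iv4 F33699) D44931 F139166 D187635
theorem F371069 : act 0 n92572 = n187635 := d20_4 D92781 F290217 (iv4 F142810) F142809 (iv3 D187635) (iv4 F139166) (iv1 F76031) (iv4 F135560) F135559 (iv1 F135462)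
def n187636 : Q := act 5 n90413
theorem D187636 : act 5 n90413 = n187636 := rfl
theorem F371070 : act 2 n187636 = n90417 := d2_1 D187636 (iv5 D90417) (iv2 F160259)
theorem F371071 : act 6 n187636 = n126458 := d12_2 F161610 D187636 F332578 (iv6 D105380) D105379
theorem F371072 : act 7 n187636 = n90420 := d13_2 (iv7 F160260) D187636 (iv5 D90420)
theorem F371073 : act 0 n134472 = n187636 := d21_7 F290557 (iv1 D114311) F83351 (iv6 F204783) F345179 (iv6 F369239) (iv5 F369240) (iv5 D187636) (iv6 F161610) (iv1 F290555)
def n187637 : Q := act 0 n90417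
theorem D187637 : act 0 n90417 = n187637 := rfl
theorem F371074 : act 1 n90420 = n187637 := d15_0 (iv0 D187637) F331436 (iv2 F331435)
theorem F371075 : act 7 n187637 = n134472 := d15_2 F369244 F371074 (iv2 F369242)
theorem F371076 : act 6 n134500 = n187637 := d21_9 (iv5 D90420) (iv1 D42279) D42280 (iv6 F77420) F77422 D76343 F114449 D106545 (iv5 F365945) (iv1 F371074)
theorem F371077 : act 3 n187637 = n115112 := d7_1 F371076 (iv6 F179265) D134500
theorem F371078 : act 4 n129677 = n187637 := d5_0 F371077 F179264 (iv3 D60912) D60913 D129677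
def n187638 : Q := act 4 n90417
theorem D187638 : act 4 n90417 = n187638 := rfl
theorem F371079 : act 6 n187638 = n135492 := d10_2 F177665 D187638 (iv4 F332598)
theorem F371080 : act 0 n187638 = n185883 := d18_2 F369245 D187638 (iv4 D185883) F135579 (iv4 F138098) D187365 (iv4 F369993) (iv0 F353184) D187148
theorem F371081 : act 3 n135495 = n187638 := d7_3 F371079 (iv3 D135492) D135495
def n187639 : Q := act 5 n90419
theorem D187639 : act 5 n90419 = n187639 := rfl
theorem F371082 : act 3 n187639 = n90420 := d6_1 D187639 (iv5 D90420) D90419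
def n187640 : Q := act 4 n90420
theorem D187640 : act 4 n90420 = n187640 := rfl
theorem F371083 : act 1 n187640 = n185883 := d18_6 (iv1 D88525) F63673 D48368 F76026 D90420 D187640 (iv4 D185883) (iv0 F288323) (iv5 D185868)
def n187641 : Q := act 4 n90422
theorem D187641 : act 4 n90422 = n187641 := rfl
theorem F371084 : act 0 n187641 = n185869 := d18_2 D90422 D187641 (iv4 D185869) (iv5 D88527) F63673 D48369 (iv4 F76028) (iv0 D42278) D42280
theorem F371085 : act 0 n148748 = n187641 := d20_7 (iv4 F204771) (iv1 F204773) F176623 D113784 (iv1 F177038) F143093 (iv4 F233524) (iv4 D187641) F176998 (iv1 F94267)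
def n187642 : Q := act 5 n90422
theorem D187642 : act 5 n90422 = n187642 := rfl
theorem F371086 : act 2 n187642 = n187146 := d2_1 D187642 F369983 (iv2 F251303)
theorem F371087 : act 3 n187642 = n113746 := d6_1 D187642 (iv5 D113746) (iv3 F176998)
theorem F371088 : act 7 n187642 = n92433 := d13_2 F204786 D187642 (iv5 F204785)
theorem F371089 : act 4 n187642 = n187282 := d17_4 (iv1 D42279) D42280 D90422 D187642 (iv5 F369999) F160246 (iv5 D96222) F76027 F76026
theorem F371090 : act 1 n187147 = n187642 := d17_8 (iv1 D187282) D187284 (iv1 F369703) (iv5 D96231) F139166 D187636 (iv0 F371073) F369240 F371089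
theorem F371091 : act 0 n93826 = n187642 := d20_10 F371089 (iv1 D187282) (iv4 F145467) F145466 (iv1 F69442) F61527 F61511 F35686 (iv4 F68957) (iv3 F144648)
def n187643 : Q := act 6 n90422
theorem D187643 : act 6 n90422 = n187643 := rfl
theorem F371092 : act 3 n187643 = n113747 := d7_1 D187643 (iv6 D113747) (iv3 F176998)
def n187644 : Q := act 3 n90423
theorem D187644 : act 3 n90423 = n187644 := rfl
theorem F371093 : act 2 n187644 = n113749 := d0_1 D187644 (iv3 D113749) (iv2 F178273) D127412 F251305
def n187645 : Q := act 4 n90423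
theorem D187645 : act 4 n90423 = n187645 := rfl
theorem F371094 : act 0 n187645 = n148748 := d18_2 F326588 D187645 F233524 F106078 (iv4 F70615) F76027 F76026 F139165 (iv5 F326591)
theorem F371095 : act 1 n187645 = n185869 := d15_1 (iv0 F371094) F288325 (iv2 F233523)
def n187646 : Q := act 5 n90423
theorem D187646 : act 5 n90423 = n187646 := rfl
theorem F371096 : act 2 n187646 = n92433 := d2_1 D187646 (iv5 F204785) F251305
theorem F371097 : act 7 n187646 = n187146 := d13_2 (iv7 F251304) D187646 F369983
theorem F371098 : act 4 n187646 = n96972 := d17_4 (iv1 F139167) (iv5 F326591) F326588 D187646 F160245 (iv0 D104589) (iv5 D48371) D48369 (iv4 F76028)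
theorem F371099 : act 1 n187646 = n187147 := d17_8 F350458 F350456 (iv1 D103678) (iv5 D48018) F36276 D42280 D90423 D187646 F369238
theorem F371100 : act 6 n187646 = n92427 := d21_3 (iv5 F326591) F326588 D187646 F142163 F67737 (iv5 F76693) (iv1 F76696) D52660 (iv6 F83202) (iv1 F139167)
theorem F371101 : act 0 n187646 = n93826 := d20_1 (iv4 F371098) F144649 F70377 F68951 F64763 (iv4 D19778) D19776 D41980 D89863 F288025
def n187647 : Q := act 6 n90423
theorem D187647 : act 6 n90423 = n187647 := rfl
def n187648 : Q := act 0 n90424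
theorem D187648 : act 0 n90424 = n187648 := rfl
theorem F371102 : act 4 n187648 = n90563 := d18_3 (iv1 D90423) D90424 D187648 F353200 F353198 (iv0 D96004) (iv4 F144649) (iv0 F371101) (iv5 D187646)
theorem F371103 : act 1 n132199 = n187648 := d18_6 D42390 (iv4 F135565) (iv1 F159107) F159104 (iv5 F326591) (iv4 F211793) F371102 (iv0 D90563) (iv5 D42392)
def n187649 : Q := act 1 n90424
theorem D187649 : act 1 n90424 = n187649 := rfl
theorem F371104 : act 1 n187649 = n132199 := d15_1 D187649 (iv7 F365668) F233553
theorem F371105 : act 4 n187649 = n90564 := d18_7 (iv1 F135567) (iv4 F151058) (iv1 D48017) F36276 D42280 D90424 D187649 F233531 F233528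
def n187650 : Q := act 3 n90424
theorem D187650 : act 3 n90424 = n187650 := rfl
theorem F371106 : act 4 n187650 = n90452 := d5_2 D90424 D187650 (iv3 D90452) (iv4 D42300) (iv3 F65284)
theorem F371107 : act 6 n187650 = n137823 := d7_2 (iv6 F139170) D187650 (iv3 F221049)
def n187651 : Q := act 5 n90424
theorem D187651 : act 5 n90424 = n187651 := rfl
def n187652 : Q := act 7 n90424
theorem D187652 : act 7 n90424 = n187652 := rfl
theorem F371108 : act 2 n187652 = n132199 := d4_1 D187652 (iv7 F365668) F233553
theorem F371109 : act 4 n187652 = n90425 := d11_1 D187652 (iv7 D90425) D90424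
theorem F371110 : act 6 n187652 = n132197 := d14_1 D187652 F211787 F326596 (iv7 F114501) (iv6 F139170)
def n187653 : Q := act 4 n90426
theorem D187653 : act 4 n90426 = n187653 := rfl
theorem F371111 : act 2 n187653 = n186666 := d1_1 D187653 (iv4 D186666) (iv2 F139173)
theorem F371112 : act 6 n187653 = n92418 := d10_2 (iv6 F139175) D187653 (iv4 D92418)
theorem F371113 : act 0 n187653 = n130607 := d18_2 F163765 D187653 (iv4 D130607) (iv5 D61284) F46649 (iv0 F56578) (iv4 F76662) (iv0 F77733) D106506
def n187654 : Q := act 6 n90427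
theorem D187654 : act 6 n90427 = n187654 := rfl
theorem F371114 : act 2 n187654 = n146841 := d3_1 D187654 (iv6 D146841) (iv2 F139177)
theorem F371115 : act 3 n187654 = n146363 := d7_1 D187654 (iv6 D146363) (iv3 F139178)
theorem F371116 : act 5 n187654 = n114145 := d12_1 D187654 (iv6 D114145) F83264 F65300 D90427
theorem F371117 : act 0 n187654 = n134464 := d21_4 (iv5 D42286) D42284 D90427 D187654 (iv6 D134464) (iv5 F336953) (iv1 D114106) D114107 F177708 F83239
theorem F371118 : act 7 n175630 = n187654 := d13_0 F371116 F311746 D175630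
def n187655 : Q := act 6 n90428
theorem D187655 : act 6 n90428 = n187655 := rfl
theorem F371119 : act 3 n187655 = n113615 := d7_1 D187655 (iv6 D113615) (iv3 F139180)
theorem F371120 : act 5 n187655 = n114282 := d12_1 D187655 (iv6 D114282) (iv5 D52746) F82924 D90428
theorem F371121 : act 0 n111621 = n114282 := d21_7 (iv5 D69726) F76659 (iv5 F142973) (iv6 F178091) F355669 D133455 F349532 (iv5 F371120) (iv6 D187655) (iv1 F139182)
def n187656 : Q := act 6 n90429
theorem D187656 : act 6 n90429 = n187656 := rfl
theorem F371122 : act 2 n187656 = n146857 := d3_1 D187656 (iv6 D146857) F139185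
theorem F371123 : act 4 n187656 = n137944 := d10_1 D187656 (iv6 D137944) (iv4 F139184)
theorem F371124 : act 5 n187656 = n94053 := d12_1 D187656 (iv6 F164417) (iv5 D106695) F114691 (iv5 F139183)
def n187657 : Q := act 5 n90430
theorem D187657 : act 5 n90430 = n187657 := rfl
theorem F371125 : act 6 n187657 = n135550 := d12_2 F290241 D187657 F349125 D135707 F349108
theorem F371126 : act 7 n187657 = n105764 := d13_2 F290214 D187657 F162427
theorem F371127 : act 4 n124712 = n187657 := d11_3 F371126 F360921 F366818
def n187658 : Q := act 5 n90432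
theorem D187658 : act 5 n90432 = n187658 := rfl
theorem F371128 : act 2 n187658 = n90433 := d2_1 D187658 (iv5 D90433) D90432
theorem F371129 : act 3 n187658 = n90490 := d6_1 D187658 (iv5 D90490) (iv3 F139190)
def n187659 : Q := act 6 n90432
theorem D187659 : act 6 n90432 = n187659 := rfl
theorem F371130 : act 2 n187659 = n90434 := d3_1 D187659 (iv6 D90434) D90432
theorem F371131 : act 3 n187659 = n90491 := d7_1 D187659 (iv6 D90491) (iv3 F139190)
theorem F371132 : act 4 n187659 = n177857 := d10_1 D187659 (iv6 D177857) (iv4 F289802)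
def n187660 : Q := act 0 n90433
theorem D187660 : act 0 n90433 = n187660 := rfl
theorem F371133 : act 4 n187660 = n135073 := d18_1 D187660 (iv1 F365767) F332657 (iv5 D185768) D185767 (iv0 F288072) F285521 (iv0 D90430) D90433
def n187661 : Q := act 1 n90433
theorem D187661 : act 1 n90433 = n187661 := rfl
theorem F371134 : act 4 n187661 = n135074 := d17_9 (iv1 D135074) (iv5 F327343) F197143 D124712 F371127 (iv5 D187657) (iv0 D90430) D90433 D187661
def n187662 : Q := act 4 n90433
theorem D187662 : act 4 n90433 = n187662 := rfl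
theorem F371135 : act 1 n187662 = n185875 := d18_6 (iv1 D43406) (iv4 F35060) F72173 F72171 D90433 D187662 (iv4 D185875) F287623 (iv5 D92782)
def n187663 : Q := act 6 n90433
theorem D187663 : act 6 n90433 = n187663 := rfl
theorem F371136 : act 3 n187663 = n90437 := d7_1 D187663 (iv6 D90437) (iv3 F139191)
theorem F371137 : act 0 n187663 = n135059 := d21_10 F363108 (iv1 D76554) D76555 F114796 D76557 (iv6 F154326) (iv5 D100345) (iv1 F290210) D90433 D187663
theorem F371138 : act 0 n135064 = n187663 := d21_4 (iv5 D63735) D63732 (iv5 F218274) F335886 (iv6 D187663) (iv5 D90433) D90430 D187657 F371125 (iv1 D135550)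
def n187664 : Q := act 0 n90434
theorem D187664 : act 0 n90434 = n187664 := rfl
theorem F371139 : act 3 n187664 = n187507 := d20_5 F290695 F74589 F290580 (iv3 F139192) D187664 F370625 F364341 F72204 (iv3 D45751) F290726
theorem F371140 : act 6 n90732 = n187664 := d7_0 F371139 (iv6 D187507) (iv3 F139663)
theorem F371141 : act 5 n187432 = n187664 := d21_2 D90129 D187432 (iv6 F371140) F142817 (iv6 D92677) F68076 F55700 (iv5 F64151) D89014 F337229
def n187665 : Q := act 1 n90434
theorem D187665 : act 1 n90434 = n187665 := rfl
def n187666 : Q := act 1 n90438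
theorem D187666 : act 1 n90438 = n187666 := rfl
theorem F371142 : act 1 n187666 = n90490 := d15_1 D187666 (iv7 F288236) F288235
theorem F371143 : act 5 n94444 = n187666 := d21_0 (iv1 D187666) (iv5 D90438) F290937 F133702 (iv6 F291560) F239627 F239683 (iv5 D92489) D92490 (iv1 F145623)
theorem F371144 : act 2 n187666 = n94450 := d2_1 F371143 (iv5 D94450) (iv2 F145622)
theorem F371145 : act 1 n186822 = n182152 := d17_8 (iv1 F145623) F371143 (iv1 D187666) (iv5 D90438) (iv4 F74405) D101242 F365615 (iv5 F368134) F283607
theorem F371146 : act 6 n187666 = n133216 := d21_3 (iv5 F142370) (iv1 F145623) F371143 (iv1 D133216) (iv6 D62511) (iv5 D29542) D29539 D62501 (iv6 F324312) (iv1 F135539)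
theorem F371147 : act 2 n133216 = n135521 := d3_1 F371146 F359566 (iv2 F371144)
theorem F371148 : act 7 n135520 = n133216 := d15_2 F217922 F217927 F371147
theorem F371149 : act 7 n133215 = n135521 := d15_2 F217928 F217929 (iv2 F371147)
theorem F371150 : act 2 n135520 = n133215 := d4_3 F371149 (iv2 F371147) (iv7 F371148)
def n187667 : Q := act 4 n90438
theorem D187667 : act 4 n90438 = n187667 := rfl
def n187668 : Q := act 3 n90440
theorem D187668 : act 3 n90440 = n187668 := rfl
def n187669 : Q := act 6 n90440
theorem D187669 : act 6 n90440 = n187669 := rfl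
theorem F371151 : act 4 n187669 = n90441 := d10_1 D187669 (iv6 D90441) D90440
theorem F371152 : act 0 n186782 = n187669 := d21_4 (iv5 D64830) D64826 (iv5 F177209) (iv6 F367978) (iv6 D187669) (iv5 F367451) (iv1 F367452) (iv5 D92810) (iv6 F83014) (iv1 F139189)
theorem F371153 : act 5 n183121 = n187669 := d16_3 F70174 D87409 D183121 F371151 F291469 (iv4 F329423) (iv5 D96111) (iv7 F295191) F295188
def n187670 : Q := act 0 n90441
theorem D187670 : act 0 n90441 = n187670 := rfl
def n187671 : Q := act 7 n90441
theorem D187671 : act 7 n90441 = n187671 := rfl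
theorem F371154 : act 5 n187671 = n186411 := d13_1 D187671 (iv7 D186411) (iv5 F291469)
theorem F371155 : act 6 n187671 = n134461 := d14_1 D187671 F336949 (iv6 D92739) F68159 D90441
theorem F371156 : act 1 n148776 = n187671 := d15_1 (iv0 F233577) (iv7 D187671) (iv2 F143017)
def n187672 : Q := act 0 n90443
theorem D187672 : act 0 n90443 = n187672 := rfl
theorem F371157 : act 1 n146890 = n187672 := d15_0 (iv0 D187672) (iv7 F143021) (iv2 F230273)
def n187673 : Q := act 2 n90443
theorem D187673 : act 2 n90443 = n187673 := rfl
theorem F371158 : act 3 n187673 = n90492 := d0_2 D90443 D187673 F142374 (iv3 F142375) F68185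
theorem F371159 : act 7 n187673 = n146890 := d4_2 F143021 D187673 F230273
theorem F371160 : act 1 n187673 = n105764 := d15_0 (iv0 F364171) F143021 D187673
theorem F371161 : act 1 n100345 = n146890 := d15_1 (iv0 F367260) (iv7 F371159) (iv2 D187673)
theorem E103292 : n187672 = n187657 := (c15_2 F371161 F371157 F371126 F162426)
theorem F371162 : act 0 n187657 = n146890 := (sb E103292 (iv1 F371157))
theorem F371163 : act 1 n187657 = n90443 := (sb E103292 (iv0 D187672))
def n187674 : Q := act 4 n90443
theorem D187674 : act 4 n90443 = n187674 := rfl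
theorem F371164 : act 0 n92786 = n187674 := d20_7 (iv4 F143036) (iv1 F143038) F139212 (iv3 F68264) (iv1 D43413) (iv3 F68241) D92786 (iv4 D187674) (iv3 D90443) (iv1 F68187)
def n187675 : Q := act 6 n90443
theorem D187675 : act 6 n90443 = n187675 := rfl
theorem F371165 : act 3 n187675 = n90446 := d7_1 D187675 (iv6 D90446) D90443
theorem F371166 : act 5 n187675 = n150768 := d12_1 D187675 (iv6 D150768) F329548 D100686 (iv5 F367259)
def n187676 : Q := act 3 n90444
theorem D187676 : act 3 n90444 = n187676 := rfl
theorem F371167 : act 0 n137908 = n187676 := d20_4 (iv4 D130727) F98702 (iv4 F217073) F365739 (iv3 D187676) (iv4 D90444) (iv1 F68187) (iv4 F143036) (iv3 F352102) F216209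
def n187677 : Q := act 6 n90444
theorem D187677 : act 6 n90444 = n187677 := rfl
theorem F371168 : act 2 n187677 = n153970 := d3_1 D187677 (iv6 F369221) (iv2 F139362)
theorem F371169 : act 4 n187677 = n90446 := d10_1 D187677 (iv6 D90446) D90444
theorem F371170 : act 0 n153972 = n187677 := d18_0 F371169 (iv1 F365363) (iv4 D123621) (iv5 D57619) (iv4 F90760) D123600 (iv4 F241969) F241968 (iv5 F241987)
theorem F371171 : act 1 n153953 = n187677 := d15_0 (iv0 F371170) (iv7 D153972) (iv2 F241970)
def n187678 : Q := act 1 n90446
theorem D187678 : act 1 n90446 = n187678 := rfl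
def n187679 : Q := act 7 n90446
theorem D187679 : act 7 n90446 = n187679 := rfl
def n187680 : Q := act 4 n90447
theorem D187680 : act 4 n90447 = n187680 := rfl
theorem F371172 : act 2 n187680 = n146891 := d1_1 D187680 (iv4 D146891) F142371
theorem F371173 : act 7 n187680 = n146888 := d11_2 F142373 D187680 (iv4 D146888)
theorem F371174 : act 0 n129661 = n187680 := d20_7 D42300 D90450 (iv4 F139236) D90542 (iv1 F364338) (iv3 F335805) F209518 (iv4 D187680) (iv3 D90447) (iv1 D42299)
theorem F371175 : act 1 n146891 = n129133 := d15_0 (iv0 F363894) (iv7 F371173) F371172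
def n187681 : Q := act 6 n90447
theorem D187681 : act 6 n90447 = n187681 := rfl
theorem F371176 : act 2 n187681 = n146892 := d3_1 D187681 (iv6 D146892) F142371
theorem F371177 : act 3 n187681 = n90449 := d7_1 D187681 (iv6 D90449) D90447
theorem F371178 : act 5 n187681 = n187487 := d12_1 D187681 (iv6 D187487) (iv5 D90249) D90250 (iv5 F139207)
theorem F371179 : act 0 n187681 = n152365 := d21_7 (iv5 F319882) F319880 (iv5 D159605) D159606 F251414 D187487 (iv5 F371178) (iv5 D152365) D152366 F362421
theorem F371180 : act 1 n187681 = n106378 := d15_1 (iv0 F371179) F163482 (iv2 F334818)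
def n187682 : Q := act 3 n90448
theorem D187682 : act 3 n90448 = n187682 := rfl
def n187683 : Q := act 6 n90448
theorem D187683 : act 6 n90448 = n187683 := rfl
theorem F371181 : act 4 n187683 = n90449 := d10_1 D187683 (iv6 D90449) D90448
theorem F371182 : act 5 n101937 = n187683 := d16_1 (iv4 F338083) F371181 F139211 F324794 (iv5 F127941) (iv4 F249127) F338087 F338097 F338081
def n187684 : Q := act 0 n90449
theorem D187684 : act 0 n90449 = n187684 := rfl
def n187685 : Q := act 1 n90449
theorem D187685 : act 1 n90449 = n187685 := rfl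
theorem F371183 : act 5 n187685 = n152354 := d17_7 (iv1 F128862) F272024 (iv1 D158522) F127941 (iv4 F324794) (iv5 F139211) D187685 F314192 (iv4 D83851)
def n187686 : Q := act 3 n90450
theorem D187686 : act 3 n90450 = n187686 := rfl
def n187687 : Q := act 5 n90451
theorem D187687 : act 5 n90451 = n187687 := rfl
theorem F371184 : act 2 n187687 = n104445 := d2_1 D187687 F160121 (iv2 F143031)
theorem F371185 : act 4 n187687 = n90464 := d9_1 D187687 (iv5 D90464) (iv4 D42333) (iv5 F290966) (iv4 F74170) (iv5 F292382) F139236 (iv5 F292380) (iv4 D100269) (iv5 D46789) F34998 (iv5 F290876) (iv4 F61511) F65457 (iv4 F139212)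
theorem F371186 : act 7 n187687 = n187005 := d13_2 (iv7 F143026) D187687 F368808
theorem F371187 : act 0 n187687 = n186009 := d17_2 (iv1 F143038) D187687 F365796 F159988 F142989 F69122 F65313 F68183 (iv4 F143036)
theorem F371188 : act 1 n187687 = n186015 := d17_6 (iv1 F75906) (iv5 F75908) (iv1 F75904) F65457 (iv4 F139212) D187687 F365793 F159991 (iv4 D92758)
def n187688 : Q := act 6 n90451
theorem D187688 : act 6 n90451 = n187688 := rfl
theorem F371189 : act 4 n187688 = n90544 := d10_1 D187688 (iv6 D90544) (iv4 F139212)
theorem F371190 : act 5 n175525 = n187688 := d16_1 D175525 F371189 F326545 F273884 (iv5 F270640) (iv4 F271106) F137026 (iv7 F338107) F338106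
def n187689 : Q := act 0 n90452
theorem D187689 : act 0 n90452 = n187689 := rfl
def n187690 : Q := act 1 n90452
theorem D187690 : act 1 n90452 = n187690 := rfl
def n187691 : Q := act 2 n90452
theorem D187691 : act 2 n90452 = n187691 := rfl
theorem F371191 : act 3 n187691 = n134888 := d0_2 D90452 D187691 (iv2 F328198) (iv3 D92752) F68179
theorem F371192 : act 7 n134886 = n187691 := d8_0 F371191 (iv7 D134888) (iv3 F217088)
theorem F371193 : act 1 n187690 = n134886 := d15_1 D187690 F371192 (iv2 D187691)
def n187692 : Q := act 7 n90452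
theorem D187692 : act 7 n90452 = n187692 := rfl
theorem F371194 : act 2 n187692 = n134886 := d4_1 D187692 F371192 (iv2 D187691)
theorem F371195 : act 3 n187692 = n90454 := d8_1 D187692 (iv7 D90454) D90452
theorem F371196 : act 1 n134886 = n187689 := d15_0 (iv0 D187689) D187692 F371194
theorem F371197 : act 6 n134884 = n187692 := d3_0 F371194 (iv6 D134886) D134884
def n187693 : Q := act 6 n90454
theorem D187693 : act 6 n90454 = n187693 := rfl
theorem F371198 : act 2 n187693 = n133195 := d3_1 D187693 (iv6 F352103) F143035
theorem F371199 : act 3 n187693 = n134884 := d7_1 D187693 F371197 F371195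
theorem F371200 : act 4 n187693 = n90455 := d10_1 D187693 (iv6 D90455) (iv4 F139213)
theorem F371201 : act 7 n187693 = n134891 := d14_2 D90454 D187693 F325766 F106597 (iv6 F100514)
theorem F371202 : act 1 n134890 = n187693 := d15_1 D134890 F371201 (iv2 D134891)
theorem F371203 : act 0 n134889 = n187693 := d18_2 F321198 F217591 F371200 F323242 (iv4 F207495) (iv0 F214126) (iv4 F209679) (iv0 D130975) (iv5 F321200)
def n187694 : Q := act 4 n90456
theorem D187694 : act 4 n90456 = n187694 := rfl
theorem F371204 : act 2 n187694 = n132072 := d1_1 D187694 F354358 (iv2 F139215)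
theorem F371205 : act 6 n187694 = n115203 := d10_2 (iv6 F335807) D187694 (iv4 D115203)
def n187695 : Q := act 0 n90459
theorem D187695 : act 0 n90459 = n187695 := rfl
theorem F371206 : act 5 n187695 = n150008 := d17_1 D187695 F336931 (iv5 F324637) F220579 D137374 (iv0 F368695) (iv5 F368697) (iv0 F368896) F368895
theorem F371207 : act 6 n187695 = n105359 := d21_5 (iv5 D20010) F66790 D42317 D90459 D187695 F339589 (iv1 F272040) (iv5 F326545) (iv6 D90544) (iv1 D42385)
theorem F371208 : act 2 n104367 = n187695 := d3_3 F371207 (iv2 F354892) F355336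
theorem F371209 : act 3 n105362 = n187695 := d7_3 F371207 (iv3 D105359) D105362
theorem F371210 : act 7 n104368 = n187695 := d14_0 F371207 F193493 D113993 F326353 (iv6 F364193)
theorem F371211 : act 1 n104369 = n187695 := d18_8 F336931 (iv4 F324635) D153955 F336932 F336942 F217436 F171573 (iv4 F326536) F371206
def n187696 : Q := act 1 n90459
theorem D187696 : act 1 n90459 = n187696 := rfl
theorem F371212 : act 1 n187696 = n104369 := d15_1 D187696 (iv7 D104369) (iv2 F139221)
theorem F371213 : act 7 n187696 = n104367 := d15_2 (iv0 D187695) D187696 F371208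
theorem F371214 : act 4 n134307 = n187696 := d20_6 (iv4 D131934) (iv1 F164178) F164176 (iv3 F216047) (iv1 F216052) D134307 (iv1 D187696) (iv4 F368895) F368894 (iv1 F355061)
theorem F371215 : act 3 n135742 = n187696 := d20_9 (iv4 F368895) F368896 F168751 (iv3 D63159) (iv1 F48011) D53142 F83887 D63825 D135742 (iv1 D187696)
theorem F371216 : act 5 n176050 = n187696 := d21_0 (iv1 D187696) (iv5 F144684) (iv6 D93864) (iv1 D43876) (iv6 F68287) (iv5 D43424) F55115 (iv5 F83469) F324638 D176050
theorem F371217 : act 2 n187696 = n104368 := d2_1 F371216 (iv5 F364191) F364184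
theorem F371218 : act 6 n187696 = n130116 := d12_2 (iv6 F369521) F371216 (iv5 D130116) D130117 (iv5 F369519)
def n187697 : Q := act 7 n90459
theorem D187697 : act 7 n90459 = n187697 := rfl
theorem F371219 : act 2 n187697 = n104369 := d4_1 D187697 (iv7 D104369) (iv2 F139221)
theorem F371220 : act 3 n187697 = n115206 := d8_1 D187697 (iv7 D115206) (iv3 F335808)
theorem F371221 : act 4 n187697 = n110806 := d11_1 D187697 F368900 F368895
theorem F371222 : act 5 n187697 = n176508 := d13_1 D187697 F365715 F144684
theorem F371223 : act 6 n187697 = n113921 := d14_1 D187697 F177278 (iv6 D92759) F68192 D90459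
theorem F371224 : act 1 n104368 = n187697 := d15_1 D104368 (iv7 D187697) F139221
theorem F371225 : act 1 n187697 = n104367 := d15_1 F371224 (iv7 F371213) F371217
def n187698 : Q := act 5 n90463
theorem D187698 : act 5 n90463 = n187698 := rfl
theorem F371226 : act 2 n187698 = n185417 := d2_1 D187698 (iv5 D185417) (iv2 F291502)
theorem F371227 : act 3 n187698 = n90464 := d6_1 D187698 (iv5 D90464) D90463
theorem F371228 : act 7 n187698 = n187004 := d13_2 F140133 D187698 F368804
theorem F371229 : act 0 n187698 = n185981 := d21_1 D187698 (iv5 D185981) D185982 (iv1 F288489) (iv6 D94100) (iv5 F295022) (iv1 F366976) (iv5 D90393) D90394 F295163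
theorem F371230 : act 0 n185984 = n187698 := d21_1 D185984 (iv5 D187698) F291503 F294409 (iv6 F294435) (iv5 F289275) (iv1 F309261) F309264 F136194 (iv1 F135740)
def n187699 : Q := act 6 n90464
theorem D187699 : act 6 n90464 = n187699 := rfl
theorem F371231 : act 2 n187699 = n104446 := d3_1 D187699 (iv6 D104446) (iv2 F139228)
theorem F371232 : act 5 n187699 = n98664 := d12_1 D187699 (iv6 D98664) (iv5 D46121) F291504 D90464
theorem F371233 : act 0 n187699 = n186879 := d21_4 F291785 (iv1 F66867) D90464 D187699 (iv6 D186879) (iv5 D89346) (iv1 D41726) D41727 F64361 D41778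
theorem E103293 : n186996 = n186887 := (c21_5 (iv5 D88596) F63693 D41771 (iv6 F137120) D186996 F368419 D187042 F368889 (iv5 F371232) (iv6 D187699) (iv1 F292106))
theorem F371234 : act 1 n186887 = n89456 := (sb E103293 (iv0 D186996))
def n187700 : Q := act 1 n90468
theorem D187700 : act 1 n90468 = n187700 := rfl
theorem F371235 : act 6 n92552 = n187700 := d21_3 D99010 (iv1 F367067) F367139 (iv1 D187700) (iv6 F367253) (iv5 D98607) (iv1 F367753) (iv5 D98565) F294785 F293933
theorem F371236 : act 2 n187700 = n187472 := d3_1 F371235 (iv6 D187472) (iv2 F367135)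
theorem F371237 : act 1 n187700 = n185520 := d15_0 (iv0 F288154) (iv7 F370475) (iv2 F371236)
def n187701 : Q := act 2 n90468
theorem D187701 : act 2 n90468 = n187701 := rfl
theorem F371238 : act 3 n187701 = n182593 := d0_2 D90468 D187701 (iv2 F295065) (iv3 F291057) (iv2 F68459)
theorem F371239 : act 4 n187701 = n185025 := d1_2 F290584 D187701 (iv2 F287424)
theorem F371240 : act 6 n187701 = n182590 := d3_2 F367253 D187701 (iv2 F291558)
theorem F371241 : act 7 n187701 = n185520 := d4_2 F290680 D187701 F287787
theorem F371242 : act 1 n187701 = n187472 := d15_0 (iv0 F370477) F290680 D187701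
def n187702 : Q := act 5 n90468
theorem D187702 : act 5 n90468 = n187702 := rfl
theorem F371243 : act 3 n187702 = n90469 := d6_1 D187702 (iv5 D90469) D90468
theorem F371244 : act 7 n187702 = n187138 := d13_2 F290680 D187702 F369215
theorem F371245 : act 1 n187702 = n186610 := d17_6 (iv1 D92456) (iv5 F108436) (iv1 F239684) (iv5 F239627) F290584 D187702 (iv5 D186610) F367440 F367438
theorem F371246 : act 0 n187702 = n186608 := d21_1 D187702 (iv5 D186608) D186609 F369093 (iv6 D99011) D99010 (iv1 F367067) F367139 F371235 (iv1 D187700)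
def n187703 : Q := act 5 n90473
theorem D187703 : act 5 n90473 = n187703 := rfl
theorem F371247 : act 2 n187703 = n187135 := d2_1 D187703 (iv5 F369212) (iv2 F292662)
theorem F371248 : act 3 n187703 = n185431 := d6_1 D187703 (iv5 D185431) (iv3 F292663)
theorem F371249 : act 6 n187703 = n135241 := d12_2 F294618 D187703 (iv5 D135241) F326264 F295155
theorem F371250 : act 7 n187703 = n187134 := d13_2 (iv7 F292666) D187703 F369205
theorem F371251 : act 1 n187703 = n122405 := d17_6 (iv1 F126269) (iv5 F329681) (iv1 F335630) F335632 (iv4 F292664) D187703 (iv5 D122405) F89706 F72613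
theorem F371252 : act 0 n187703 = n122400 := d21_1 D187703 (iv5 D122400) D122401 F356402 (iv6 D88931) D88930 F294625 (iv5 D43832) (iv6 F65377) D90473
def n187704 : Q := act 4 n90476
theorem D187704 : act 4 n90476 = n187704 := rfl
def n187705 : Q := act 0 n90481
theorem D187705 : act 0 n90481 = n187705 := rfl
def n187706 : Q := act 1 n90481
theorem D187706 : act 1 n90481 = n187706 := rfl
def n187707 : Q := act 7 n90481
theorem D187707 : act 7 n90481 = n187707 := rfl
theorem F371253 : act 5 n187707 = n93772 := d13_1 D187707 (iv7 D93772) (iv5 F139245)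
def n187708 : Q := act 5 n90483
theorem D187708 : act 5 n90483 = n187708 := rfl
theorem F371254 : act 2 n187708 = n99919 := d2_1 D187708 (iv5 D99919) (iv2 F139247)
theorem F371255 : act 7 n187708 = n100140 := d13_2 (iv7 F157737) D187708 (iv5 D100140)
theorem F371256 : act 0 n99320 = n187708 := d19_0 (iv5 D187708) (iv4 F143074) F143073 F157712 D43442 (iv4 F329801) (iv3 F107970) D92815 F143175 F83464 (iv3 F83493) (iv1 F83496) (iv5 F83441) D92822 F349184 D92895 (iv5 F292911) F74295 D99320
theorem F371257 : act 1 n100189 = n187708 := d15_0 (iv0 F371256) F152932 D100189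
def n187709 : Q := act 5 n90484
theorem D187709 : act 5 n90484 = n187709 := rfl
theorem F371258 : act 2 n187709 = n99914 := d2_1 D187709 (iv5 D99914) (iv2 F139248)
theorem F371259 : act 3 n187709 = n183921 := d6_1 D187709 (iv5 D183921) (iv3 F139249)
theorem F371260 : act 7 n187709 = n100544 := d13_2 (iv7 F177355) D187709 (iv5 D100544)
theorem F371261 : act 0 n187709 = n99381 := d17_2 (iv1 F177354) D187709 (iv5 F291847) F139707 F349150 (iv0 F154353) (iv5 D87972) (iv0 F140421) (iv4 F74118)
theorem F371262 : act 1 n187709 = n100574 := d17_8 (iv1 F345126) (iv5 F345134) (iv1 D100672) F291329 F340054 (iv5 D99376) (iv0 F177353) D187709 (iv4 F345124)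
def n187710 : Q := act 5 n90485
theorem D187710 : act 5 n90485 = n187710 := rfl
theorem F371263 : act 2 n187710 = n90488 := d2_1 D187710 (iv5 D90488) (iv2 F139251)
theorem F371264 : act 3 n187710 = n99946 := d6_1 D187710 (iv5 D99946) (iv3 F139252)
theorem F371265 : act 7 n187710 = n102401 := d13_2 F139254 D187710 (iv5 D102401)
theorem F371266 : act 1 n187710 = n102402 := d17_6 (iv1 F144900) F142370 (iv1 D68858) (iv5 F65398) (iv4 F139253) D187710 F367443 F369094 (iv4 F143482)
theorem F371267 : act 1 n102403 = n187710 := d15_1 D102403 F371265 F157329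
theorem F371268 : act 6 n187102 = n98577 := d21_3 D187710 (iv1 F371267) F369091 (iv1 D98577) (iv6 D46082) D46081 D98572 (iv5 F251755) F251756 F139255
theorem F371269 : act 7 n98577 = n186611 := d14_2 (iv7 F369092) F371268 (iv6 D186611) (iv7 F367427) F367424
theorem F371270 : act 2 n186611 = n98576 := d15_3 (iv0 D98576) D98577 F371269
theorem F371271 : act 6 n98576 = n186605 := d3_2 D186611 F371270 F367433
def n187711 : Q := act 5 n90486
theorem D187711 : act 5 n90486 = n187711 := rfl
theorem F371272 : act 2 n187711 = n102399 := d2_1 D187711 (iv5 D102399) (iv2 F153475)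
theorem F371273 : act 3 n187711 = n137617 := d6_1 D187711 (iv5 F356217) F153325
theorem F371274 : act 7 n187711 = n102397 := d13_2 F153474 D187711 (iv5 D102397)
theorem F371275 : act 0 n187711 = n102474 := d17_2 D90486 D187711 F157417 F152550 F371143 F371142 (iv5 D90490) (iv0 D42349) (iv4 F65393)
theorem F371276 : act 0 n99829 = n187711 := d21_7 (iv5 F369029) (iv1 F369033) (iv5 D98312) D98313 F345184 F292682 (iv5 F153703) (iv5 D187711) (iv6 F251236) (iv1 F157471)
theorem F371277 : act 6 n137892 = n187711 := d14_5 F371274 F331214 (iv7 D64809) D64808 D137892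
def n187712 : Q := act 5 n90487
theorem D187712 : act 5 n90487 = n187712 := rfl
theorem F371278 : act 2 n187712 = n102397 := d2_1 D187712 (iv5 D102397) F153476
theorem F371279 : act 3 n187712 = n137941 := d6_1 D187712 F331216 F154400
theorem F371280 : act 7 n187712 = n102399 := d13_2 (iv7 F153477) D187712 (iv5 D102399)
theorem F371281 : act 0 n187712 = n99829 := d17_2 (iv1 F139258) D187712 F153703 (iv4 F143482) (iv5 F157531) (iv0 F159976) (iv5 D90438) F135533 F135530
theorem F371282 : act 6 n111103 = n187712 := d7_0 F371279 (iv6 D137941) F172300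
theorem F371283 : act 4 n187712 = n111105 := d10_1 F371282 (iv6 D111105) D111103
theorem F371284 : act 5 n135422 = n137782 := d21_2 (iv5 D135424) D135422 (iv6 D137782) F219212 F371282 (iv5 D187712) (iv1 D90487) D90488 (iv6 F367483) F367484
theorem F371285 : act 3 n137789 = n135422 := d6_3 F371284 F221030 D137789
theorem F371286 : act 1 n111105 = n107261 := d18_6 D47183 D101368 F288309 F288306 D187712 F371283 F165308 (iv0 F339537) (iv5 D47186)
theorem F371287 : act 1 n187712 = n102474 := d15_0 (iv0 F371275) F371274 (iv2 F371278)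
def n187713 : Q := act 6 n90487
theorem D187713 : act 6 n90487 = n187713 := rfl
theorem F371288 : act 2 n187713 = n100151 := d3_1 D187713 F251756 F153476
theorem F371289 : act 3 n187713 = n96463 := d7_1 D187713 F350442 F154400
theorem F371290 : act 7 n187713 = n100152 := d14_2 (iv7 F153477) D187713 F367759 F251232 F161658
theorem F371291 : act 0 n187713 = n98607 := d21_4 (iv5 F157417) (iv1 F371287) (iv5 D187712) D187713 F367253 D187702 F371246 (iv5 D186608) D186609 F369093
theorem F371292 : act 5 n186711 = n187713 := d21_2 D98570 (iv1 F367764) (iv6 D187713) (iv1 D90487) (iv6 D42344) (iv5 F64066) F129801 F129797 D88910 F157572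
theorem F371293 : act 1 n187713 = n96471 := d17_8 F291010 (iv5 F136166) (iv1 F291561) (iv5 D43961) (iv4 F65933) D89064 D186711 F371292 F291554
theorem F371294 : act 3 n100152 = n95397 := d8_1 F371290 F350440 (iv3 F371289)
def n187714 : Q := act 0 n90488
theorem D187714 : act 0 n90488 = n187714 := rfl
theorem F371295 : act 2 n102403 = n187714 := d15_3 (iv0 D187714) (iv0 F365660) (iv7 F363856)
theorem F371296 : act 1 n102401 = n187714 := d15_0 (iv0 D187714) F139260 (iv2 F157329)
theorem F371297 : act 7 n187714 = n102402 := d15_2 (iv0 F368974) F371296 (iv2 F363852)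
theorem F371298 : act 5 n187714 = n99016 := d17_7 D94449 F145629 (iv1 F139262) F135535 F135530 D102401 F371296 (iv0 D99016) F72976
def n187715 : Q := act 4 n90488
theorem D187715 : act 4 n90488 = n187715 := rfl
theorem F371299 : act 7 n187715 = n102404 := d11_2 (iv7 F139260) D187715 (iv4 D102404)
def n187716 : Q := act 0 n90489
theorem D187716 : act 0 n90489 = n187716 := rfl
theorem F371300 : act 5 n187716 = n100689 := d21_2 D90489 D187716 (iv6 F370546) (iv1 D187488) (iv6 D90250) D90249 F139794 (iv5 D90814) (iv6 D42531) (iv1 F68094)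
theorem F371301 : act 2 n100707 = n187716 := d15_3 (iv0 D187716) F351317 D100707
theorem F371302 : act 1 n90806 = n187716 := d15_0 (iv0 D187716) (iv7 F370810) F370809
theorem F371303 : act 7 n187716 = n100702 := d15_2 (iv0 F360005) F371302 F154811
def n187717 : Q := act 4 n90489
theorem D187717 : act 4 n90489 = n187717 := rfl
theorem F371304 : act 6 n187717 = n119217 := d10_2 (iv6 F139261) D187717 (iv4 D119217)
def n187718 : Q := act 4 n90490
theorem D187718 : act 4 n90490 = n187718 := rfl
def n187719 : Q := act 6 n90490
theorem D187719 : act 6 n90490 = n187719 := rfl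
theorem F371305 : act 5 n187719 = n144946 := d12_1 D187719 (iv6 F229178) F316443 (iv6 D90491) D90490
theorem F371306 : act 0 n126611 = n187719 := d21_4 (iv5 D30004) D30003 (iv5 F93736) D126611 (iv6 D187719) (iv5 D90490) (iv1 F135532) (iv5 F135535) F325462 F95927
theorem F371307 : act 4 n187719 = n115093 := d18_1 F371306 (iv1 F208176) F208174 F338617 F336939 (iv0 F155267) (iv4 F314526) F252150 F347600
theorem F371308 : act 6 n146869 = n135222 := d21_3 F371305 (iv1 F229127) (iv5 F355405) (iv1 D135222) (iv6 D63542) (iv5 D30004) D30003 (iv5 F93736) D126611 F371306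
theorem F371309 : act 2 n135222 = n135558 := d3_1 F371308 F367912 F355403
theorem F371310 : act 7 n135557 = n135222 := d15_2 F217980 F217985 F371309
theorem F371311 : act 7 n135221 = n135558 := d15_2 F217986 F217987 (iv2 F371309)
theorem F371312 : act 2 n135557 = n135221 := d4_3 F371311 (iv2 F371309) (iv7 F371310)
theorem F371313 : act 6 n115093 = n187718 := d10_2 D187719 F371307 (iv4 D187718)
theorem F371314 : act 7 n144945 = n187719 := d11_0 F371307 F355365 (iv4 F347618)
def n187720 : Q := act 4 n90492
theorem D187720 : act 4 n90492 = n187720 := rfl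
theorem F371315 : act 2 n187720 = n146888 := d1_1 D187720 (iv4 D146888) (iv2 F142374)
theorem F371316 : act 7 n187720 = n146891 := d11_2 (iv7 F142372) D187720 (iv4 D146891)
theorem F371317 : act 0 n187720 = n129661 := d18_2 D90492 D187720 (iv4 F209518) (iv5 F363896) (iv4 F290170) F290168 F74467 (iv0 D42349) D42351
def n187721 : Q := act 6 n90492
theorem D187721 : act 6 n90492 = n187721 := rfl
theorem F371318 : act 2 n187721 = n146889 := d3_1 D187721 (iv6 D146889) (iv2 F142374)
def n187722 : Q := act 0 n90493
theorem D187722 : act 0 n90493 = n187722 := rfl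
theorem F371319 : act 1 n132381 = n187722 := d15_0 (iv0 D187722) (iv7 F325468) (iv2 F212405)
def n187723 : Q := act 1 n90493
theorem D187723 : act 1 n90493 = n187723 := rfl
theorem F371320 : act 1 n187723 = n132381 := d15_1 D187723 F326334 (iv2 F139263)
def n187724 : Q := act 3 n90493
theorem D187724 : act 3 n90493 = n187724 := rfl
theorem F371321 : act 4 n187724 = n90508 := d5_2 D90493 D187724 (iv3 D90508) (iv4 D42360) (iv3 F65406)
theorem F371322 : act 6 n187724 = n129569 := d7_2 (iv6 F139264) D187724 F354210
theorem F371323 : act 7 n187724 = n129302 := d8_2 F325468 D187724 F207503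
def n187725 : Q := act 5 n90493
theorem D187725 : act 5 n90493 = n187725 := rfl
theorem F371324 : act 2 n187725 = n146886 := d2_1 D187725 (iv5 D146886) (iv2 F139263)
def n187726 : Q := act 4 n90495
theorem D187726 : act 4 n90495 = n187726 := rfl
theorem F371325 : act 2 n187726 = n113679 := d1_1 D187726 (iv4 D113679) (iv2 F139271)
theorem F371326 : act 7 n187726 = n113676 := d11_2 (iv7 F139273) D187726 (iv4 D113676)
theorem F371327 : act 5 n187726 = n136900 := d16_7 F322563 F220028 (iv4 F142970) (iv5 D92732) (iv4 F68150) D90495 D187726 (iv7 F337551) F275112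
theorem F371328 : act 0 n187726 = n137347 := d17_0 (iv5 D137347) F323472 (iv5 D62675) (iv4 F324790) (iv5 F82926) (iv0 F76604) D52487 (iv0 F139274) D187726
theorem F371329 : act 1 n187726 = n137357 := d18_6 F68244 F65473 (iv1 F68148) (iv4 F68150) D90495 D187726 F220552 (iv0 F143105) (iv5 D92787)
theorem F371330 : act 3 n187726 = n141757 := d19_3 (iv1 F65416) D90495 D187726 (iv1 F361998) (iv5 D107383) (iv4 D49601) F37904 (iv1 F18545) (iv5 F18617) (iv4 D11368) F9953 (iv1 F8713) (iv5 D5666) F3710 (iv3 F3709) D5656 F8684 D11118 D23738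
theorem F371331 : act 6 n141757 = n187726 := d21_3 (iv5 F319763) F330918 (iv5 F361997) F371328 (iv6 F345848) F333821 (iv1 F337543) (iv5 F322444) F97509 (iv1 F336050)
def n187727 : Q := act 6 n90495
theorem D187727 : act 6 n90495 = n187727 := rfl
theorem F371332 : act 2 n187727 = n113680 := d3_1 D187727 (iv6 D113680) (iv2 F139271)
theorem F371333 : act 3 n187727 = n117311 := d7_1 D187727 F335897 (iv3 F139272)
theorem F371334 : act 4 n187727 = n141757 := d10_1 D187727 F371331 (iv4 D187726)
theorem F371335 : act 7 n187727 = n146370 := d14_2 (iv7 F139273) D187727 (iv6 F364112) (iv7 F337566) (iv6 D113677)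
def n187728 : Q := act 1 n90502
theorem D187728 : act 1 n90502 = n187728 := rfl
theorem F371336 : act 7 n187728 = n133469 := d15_2 F352107 D187728 F214646
def n187729 : Q := act 7 n90502
theorem D187729 : act 7 n90502 = n187729 := rfl
theorem F371337 : act 3 n187729 = n133242 := d8_1 D187729 F214094 F334644
theorem F371338 : act 4 n187729 = n132287 := d11_1 D187729 F212071 (iv4 F334643)
theorem F371339 : act 6 n187729 = n158531 := d14_1 D187729 F340911 (iv6 D92720) (iv7 F68126) D90502
theorem F371340 : act 0 n133469 = n187729 := d21_4 (iv5 F315836) (iv1 F128923) F317508 D133469 F371339 (iv5 F340913) (iv1 F370322) F370323 F339453 (iv1 F97219)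
theorem E103294 : n132309 = n130746 := ((c20_4 F95340 (iv1 F47072) (iv4 F95830) D130746 (iv1 D132309) (iv3 F212115) (iv4 F214647) F371340 F371338 (iv3 D132287) (iv1 F96725))).symm
theorem F371341 : act 0 n130746 = n62074 := (sb E103294 (iv1 D132309))
theorem F371342 : act 1 n130746 = n129545 := (sb E103294 F212124)
theorem F371343 : act 7 n132308 = n129543 := d15_2 F371342 F212128 (iv2 F363458)
theorem F371344 : act 2 n129218 = n132308 := d4_3 F371343 (iv2 F363458) F209309
theorem F371345 : act 3 n129305 = n132308 := d8_3 F371343 F363459 F358027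
def n187730 : Q := act 2 n90503
theorem D187730 : act 2 n90503 = n187730 := rfl
theorem F371346 : act 3 n187730 = n117459 := d0_2 D90503 D187730 F183969 (iv3 D92719) F68125
theorem F371347 : act 5 n187730 = n187117 := d2_2 (iv5 F139295) D187730 (iv2 D187117)
theorem F371348 : act 1 n187730 = n135707 := d15_0 F367372 F142930 D187730
theorem F371349 : act 1 n127473 = n187730 := d15_0 F371348 (iv7 F349107) (iv2 F204898)
def n187731 : Q := act 4 n90503
theorem D187731 : act 4 n90503 = n187731 := rfl
theorem F371350 : act 0 n187731 = n117338 := d18_2 F157526 D187731 F183747 F85347 F65444 F66885 (iv4 F35573) D47570 D102562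
def n187732 : Q := act 6 n90503
theorem D187732 : act 6 n90503 = n187732 := rfl
theorem F371351 : act 3 n187732 = n90505 := d7_1 D187732 (iv6 D90505) D90503
theorem F371352 : act 5 n187732 = n187434 := d12_1 D187732 (iv6 D187434) (iv5 D90129) (iv6 F137301) (iv5 F139295)
theorem F371353 : act 1 n151401 = n187732 := d17_6 D186489 F289355 (iv1 F157455) (iv5 F356343) (iv4 D151400) D151401 F371352 F370306 (iv4 D186490)
def n187733 : Q := act 0 n90505
theorem D187733 : act 0 n90505 = n187733 := rfl
theorem F371354 : act 5 n187733 = n106354 := d17_1 D187733 (iv1 F163506) F340918 (iv4 D130492) (iv5 F307526) (iv0 F307531) (iv5 F334629) F334627 (iv4 F340914)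
theorem F371355 : act 4 n187733 = n172448 := d18_3 (iv1 D158517) (iv4 F340914) D187733 (iv5 D172448) F155440 F275099 F275089 F309520 F307529
theorem F371356 : act 2 n106356 = n187733 := d15_3 (iv0 D187733) (iv0 F340907) F163495
theorem F371357 : act 3 n187733 = n152365 := d0_2 (iv3 F163422) F371356 F334818 F163162 F163470
theorem F371358 : act 1 n158531 = n187733 := d17_8 (iv1 F311777) (iv5 D152679) F309568 D82507 (iv4 F339452) (iv5 F370323) F370322 F340913 F371355
theorem F371359 : act 6 n187733 = n133212 := d21_3 F176870 (iv1 F340900) (iv5 F371354) (iv1 D133212) (iv6 D62510) D62509 (iv1 F203341) F203340 (iv6 F339455) F339456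
theorem F371360 : act 3 n133212 = n135759 := d7_1 F371359 (iv6 F364865) (iv3 F371357)
def n187734 : Q := act 7 n90505
theorem D187734 : act 7 n90505 = n187734 := rfl
theorem F371361 : act 2 n187734 = n158531 := d4_1 D187734 F340911 F142935
theorem F371362 : act 4 n187734 = n158174 := d11_1 D187734 F273743 (iv4 F340914)
theorem F371363 : act 5 n187734 = n187439 := d13_1 D187734 (iv7 D187439) (iv5 F139299)
theorem F371364 : act 0 n106356 = n187734 := d21_1 D106356 F371363 F370326 (iv1 D114248) (iv6 D52731) (iv5 D25599) F37024 (iv5 F76668) D105373 F357303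
def n187735 : Q := act 5 n90515
theorem D187735 : act 5 n90515 = n187735 := rfl
theorem F371365 : act 2 n187735 = n159824 := d2_1 D187735 (iv5 D159824) (iv2 F139315)
theorem F371366 : act 3 n187735 = n90518 := d6_1 D187735 (iv5 D90518) (iv3 F139316)
theorem F371367 : act 6 n187735 = n114611 := d12_2 D90515 D187735 (iv5 F178705) F108570 (iv5 F65439)
theorem F371368 : act 7 n187735 = n184521 := d13_2 F370603 D187735 F370605
theorem F371369 : act 4 n187735 = n152569 := d18_5 (iv1 D43518) (iv4 F62993) F177388 (iv4 F139317) D187735 F361039 (iv4 F345121) F239749 (iv5 D93010)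
theorem F371370 : act 6 n114799 = n184506 := d21_5 (iv5 D52902) F50918 D25715 (iv6 F83696) D114799 (iv5 D184506) (iv1 F177352) D187735 F371367 (iv1 D114611)
def n187736 : Q := act 4 n90518
theorem D187736 : act 4 n90518 = n187736 := rfl
theorem F371371 : act 6 n187736 = n159754 := d10_2 (iv6 F139318) D187736 (iv4 D159754)
theorem F371372 : act 3 n187736 = n100454 := d20_9 F222696 (iv1 F329566) D100452 F351135 (iv1 D179715) (iv3 F318520) (iv4 F370752) (iv1 F370750) D187736 (iv1 F365356)
def n187737 : Q := act 5 n90520
theorem D187737 : act 5 n90520 = n187737 := rfl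
theorem F371373 : act 2 n187737 = n90527 := d2_1 D187737 (iv5 D90527) (iv2 F153431)
theorem F371374 : act 7 n187737 = n90531 := d13_2 (iv7 F153432) D187737 (iv5 D90531)
theorem F371375 : act 0 n187737 = n104356 := d17_2 D90520 D187737 F159972 F144607 (iv5 F153686) F153684 (iv5 D99822) F73645 (iv4 F65444)
def n187738 : Q := act 5 n90521
theorem D187738 : act 5 n90521 = n187738 := rfl
theorem F371376 : act 2 n187738 = n90531 := d2_1 D187738 (iv5 D90531) (iv2 F153433)
theorem F371377 : act 3 n187738 = n90561 := d6_1 D187738 (iv5 D90561) (iv3 F151059)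
theorem F371378 : act 7 n187738 = n90527 := d13_2 (iv7 F153435) D187738 (iv5 D90527)
theorem F371379 : act 0 n104356 = n187738 := d21_1 (iv5 F159972) (iv5 D187738) F293770 (iv1 F137480) F292543 F288144 (iv1 F283739) (iv5 D159748) D159749 F288415
def n187739 : Q := act 4 n90523
theorem D187739 : act 4 n90523 = n187739 := rfl
theorem F371380 : act 2 n187739 = n100385 := d1_1 D187739 (iv4 D100385) (iv2 F139326)
theorem F371381 : act 7 n187739 = n102584 := d11_2 (iv7 F139328) D187739 (iv4 D102584)
def n187740 : Q := act 0 n90527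
theorem D187740 : act 0 n90527 = n187740 := rfl
theorem F371382 : act 5 n187740 = n187124 := d17_3 D42367 D90527 D187740 (iv4 D187124) (iv5 F153688) (iv0 D99823) (iv5 D46623) (iv0 F68110) F65447
theorem F371383 : act 2 n104356 = n187740 := d15_3 (iv0 D187740) (iv0 F363810) F160055
theorem F371384 : act 1 n90531 = n187740 := d15_0 (iv0 D187740) (iv7 F371378) F371376
def n187741 : Q := act 5 n90530
theorem D187741 : act 5 n90530 = n187741 := rfl
theorem F371385 : act 3 n187741 = n90531 := d6_1 D187741 (iv5 D90531) D90530
def n187742 : Q := act 4 n90531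
theorem D187742 : act 4 n90531 = n187742 := rfl
def n187743 : Q := act 6 n90531
theorem D187743 : act 6 n90531 = n187743 := rfl
theorem F371386 : act 0 n105346 = n187743 := d21_4 (iv5 F55209) (iv1 F55211) (iv5 F76641) D105346 (iv6 D187743) (iv5 D90531) (iv1 D42368) D42369 (iv6 F85320) (iv1 F85323)
def n187744 : Q := act 4 n90533
theorem D187744 : act 4 n90533 = n187744 := rfl
def n187745 : Q := act 5 n90533
theorem D187745 : act 5 n90533 = n187745 := rfl
theorem F371387 : act 7 n187745 = n93842 := d13_2 (iv7 F283592) D187745 F183749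
theorem F371388 : act 1 n187745 = n93808 := d17_8 F136340 D186595 F367369 (iv5 D99821) (iv4 F139321) (iv5 F183752) F183756 D187745 F144607
def n187746 : Q := act 6 n90533
theorem D187746 : act 6 n90533 = n187746 := rfl
def n187747 : Q := act 3 n90534
theorem D187747 : act 3 n90534 = n187747 := rfl
theorem F371389 : act 4 n187747 = n146885 := d20_6 (iv4 F178281) (iv1 F202979) F202976 (iv3 F183751) (iv1 F183755) D187747 (iv1 D146885) F105043 F50401 D59840
theorem F371390 : act 0 n130911 = n187747 := d18_0 F371389 (iv1 D146885) F105043 (iv5 F65398) (iv4 F139253) (iv0 F139255) (iv4 F139332) (iv0 F288274) F363896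
theorem F371391 : act 1 n113809 = n187747 := d15_0 (iv0 F371390) F363898 F233463
def n187748 : Q := act 4 n90534
theorem D187748 : act 4 n90534 = n187748 := rfl
def n187749 : Q := act 6 n90534
theorem D187749 : act 6 n90534 = n187749 := rfl
theorem F371392 : act 2 n187749 = n114937 := d3_1 D187749 F368488 F283591
theorem F371393 : act 5 n187749 = n175675 := d12_1 D187749 (iv6 F336808) (iv5 D159748) D159749 F251695
theorem F371394 : act 0 n105471 = n187749 := d17_2 (iv1 F258989) D105471 F371393 F336807 F289355 (iv0 F161651) D99649 F153398 (iv4 F309294)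
theorem F371395 : act 1 n114929 = n187749 := d15_0 (iv0 F371394) F161897 (iv2 F179016)
theorem F371396 : act 7 n114936 = n187749 := d15_2 F259190 F259189 F371392
def n187750 : Q := act 0 n90535
theorem D187750 : act 0 n90535 = n187750 := rfl
theorem F371397 : act 4 n187750 = n92717 := d18_3 (iv1 D90534) D90535 D187750 (iv5 F367318) F367317 (iv0 F136340) (iv4 F144607) (iv0 F288415) F251695
theorem F371398 : act 3 n92718 = n187750 := d5_5 F371397 (iv3 D92717) (iv4 F139406) F334645 F334642
theorem F371399 : act 7 n187731 = n187750 := d11_0 F371397 F142930 D187731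
theorem F371400 : act 6 n187750 = n92717 := d7_2 D92718 F371398 (iv3 D92717)
def n187751 : Q := act 1 n90535
theorem D187751 : act 1 n90535 = n187751 := rfl
theorem F371401 : act 4 n187751 = n187730 := d18_7 (iv1 F142883) F74811 (iv1 F73642) F65447 D42369 D90535 D187751 F371348 F349108
theorem F371402 : act 2 n187731 = n187751 := d1_3 F371401 (iv2 D187730) D187731
theorem F371403 : act 3 n130650 = n187751 := d5_5 F371401 F371346 F326336 F102028 D130650
def n187752 : Q := act 3 n90535
theorem D187752 : act 3 n90535 = n187752 := rfl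
theorem F371404 : act 4 n187752 = n90547 := d5_2 D90535 D187752 (iv3 D90547) (iv4 D42386) (iv3 F65448)
theorem F371405 : act 0 n187752 = n187675 := d19_4 (iv1 D42368) D42369 D90535 D187752 F371166 F237334 F107620 F157812 (iv5 F368462) F368461 (iv3 D89382) D89380 F137062 (iv4 D47538) D47537 (iv1 F342515) (iv5 D102397) (iv4 F139332) (iv3 D90530)
def n187753 : Q := act 5 n90535
theorem D187753 : act 5 n90535 = n187753 := rfl
theorem F371406 : act 6 n187753 = n183167 := d12_2 F183697 D187753 (iv5 F356762) (iv6 D146563) (iv5 F183699)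
theorem F371407 : act 4 n187753 = n183168 := d16_2 D90535 D187753 (iv5 F286690) F356746 (iv5 D99821) (iv4 F139321) (iv5 F183752) (iv7 D117341) F85345
def n187754 : Q := act 7 n90535
theorem D187754 : act 7 n90535 = n187754 := rfl
theorem F371408 : act 4 n187754 = n90536 := d11_1 D187754 (iv7 D90536) D90535
theorem F371409 : act 6 n187754 = n115096 := d14_1 D187754 F339431 F339421 (iv7 F183698) F183697
theorem F371410 : act 1 n187731 = n187754 := d15_1 (iv0 F371350) (iv7 D187754) (iv2 F183746)
def n187755 : Q := act 5 n90537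
theorem D187755 : act 5 n90537 = n187755 := rfl
theorem F371411 : act 2 n187755 = n113790 := d2_1 D187755 (iv5 D113790) (iv2 F139335)
theorem F371412 : act 3 n187755 = n90538 := d6_1 D187755 (iv5 D90538) D90537
theorem F371413 : act 6 n187755 = n135845 := d12_2 (iv6 F139337) D187755 (iv5 F339639) F320229 F106544
theorem F371414 : act 7 n187755 = n113772 := d13_2 (iv7 F139338) D187755 (iv5 D113772)
theorem F371415 : act 0 n187755 = n113831 := d17_2 F139340 D187755 F177121 F106044 (iv5 F115177) (iv0 D49099) (iv5 D23954) D23952 D49095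
theorem F371416 : act 0 n113820 = n187755 := d19_0 (iv5 D187755) F139336 (iv3 F83031) F68244 (iv5 F106079) (iv4 F322893) (iv3 F324339) (iv1 F347026) (iv5 F347030) (iv4 D115584) (iv3 F179514) (iv1 F179519) D115546 F330536 (iv3 F99509) (iv1 F99514) (iv5 F100533) (iv4 F327473) D113820
def n187756 : Q := act 6 n90539
theorem D187756 : act 6 n90539 = n187756 := rfl
theorem F371417 : act 2 n187756 = n113774 := d3_1 D187756 (iv6 D113774) (iv2 F139346)
theorem F371418 : act 3 n187756 = n185793 := d7_1 D187756 F288114 F143107
theorem F371419 : act 4 n187756 = n136005 := d10_1 D187756 (iv6 D136005) (iv4 F139349)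
theorem F371420 : act 0 n104361 = n187756 := d21_4 F292382 (iv1 F292107) F75908 D104361 (iv6 D187756) (iv5 D90539) (iv1 D42372) D42373 F65454 D42384
def n187757 : Q := act 3 n90540
theorem D187757 : act 3 n90540 = n187757 := rfl
theorem F371421 : act 2 n187757 = n113791 := d0_1 D187757 (iv3 F177053) (iv2 F143114) F139398 F139353
theorem F371422 : act 5 n187757 = n106229 := d6_2 (iv5 F139351) D187757 (iv3 D106229)
theorem F371423 : act 7 n187757 = n113776 := d8_2 (iv7 F139355) D187757 (iv3 D113776)
theorem F371424 : act 0 n187757 = n106232 := d20_4 (iv4 F100513) (iv1 F218977) F218974 D187757 F163252 D113807 F177077 (iv4 D113697) (iv3 F83238) F83239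
theorem F371425 : act 0 n106236 = n187757 := d20_4 F326698 D53140 (iv4 F326218) (iv3 F163259) (iv3 D187757) (iv4 F218974) F218976 (iv4 F106594) F85421 (iv1 F56602)
def n187758 : Q := act 6 n90540
theorem D187758 : act 6 n90540 = n187758 := rfl
theorem F371426 : act 2 n187758 = n113775 := d3_1 D187758 (iv6 D113775) F139353
theorem F371427 : act 4 n187758 = n96139 := d10_1 D187758 (iv6 F361758) F218974
theorem F371428 : act 5 n187758 = n93946 := d12_1 D187758 (iv6 F214495) (iv5 D133401) F114370 (iv5 F139351)
theorem F371429 : act 0 n187758 = n114989 := d21_4 F161529 (iv1 F77479) (iv5 F139351) D187758 (iv6 D114989) (iv5 D53056) F206246 (iv5 F177019) (iv6 D113771) (iv1 F161531)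
def n187759 : Q := act 3 n90541
theorem D187759 : act 3 n90541 = n187759 := rfl
theorem F371430 : act 6 n187759 = n90547 := d7_2 (iv6 F139357) D187759 (iv3 D90547)
def n187760 : Q := act 4 n90542
theorem D187760 : act 4 n90542 = n187760 := rfl
def n187761 : Q := act 6 n90542
theorem D187761 : act 6 n90542 = n187761 := rfl
theorem F371431 : act 3 n187761 = n90543 := d7_1 D187761 (iv6 D90543) D90542
def n187762 : Q := act 0 n90543
theorem D187762 : act 0 n90543 = n187762 := rfl
def n187763 : Q := act 1 n90543
theorem D187763 : act 1 n90543 = n187763 := rfl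
def n187764 : Q := act 7 n90543
theorem D187764 : act 7 n90543 = n187764 := rfl
theorem F371432 : act 6 n187764 = n114987 := d14_1 D187764 (iv7 F353841) (iv6 D92808) (iv7 F68281) D90543
def n187765 : Q := act 0 n90544
theorem D187765 : act 0 n90544 = n187765 := rfl
theorem F371433 : act 5 n187765 = n105451 := d17_3 (iv1 F272040) (iv5 F326545) D187765 (iv4 F334803) (iv5 F308602) (iv0 D167469) (iv5 F308605) F127947 (iv4 F272038)
theorem F371434 : act 2 n105453 = n187765 := d15_3 (iv0 D187765) F353836 (iv7 F161848)
theorem F371435 : act 3 n187765 = n114929 := d0_2 (iv3 F161847) F371434 F179016 F83748 (iv2 F161777)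
theorem F371436 : act 7 n187765 = n114979 := d4_2 (iv7 F161848) F371434 F179064
theorem F371437 : act 1 n114987 = n187765 := d15_1 D114987 F371436 F179064
def n187766 : Q := act 7 n90544
theorem D187766 : act 7 n90544 = n187766 := rfl
theorem F371438 : act 2 n187766 = n114987 := d4_1 D187766 (iv7 F353841) F143159
theorem F371439 : act 5 n187766 = n173589 := d13_1 D187766 F326554 (iv5 F326545)
theorem F371440 : act 1 n114979 = n187766 := d15_1 (iv0 F364517) (iv7 D187766) (iv2 F143159)
theorem F371441 : act 1 n187766 = n105453 := d15_1 F371440 F161848 (iv2 F179064)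
def n187767 : Q := act 3 n90545
theorem D187767 : act 3 n90545 = n187767 := rfl
theorem F371442 : act 7 n187767 = n187682 := d8_2 (iv7 F139364) D187767 (iv3 D187682)
def n187768 : Q := act 3 n90546
theorem D187768 : act 3 n90546 = n187768 := rfl
theorem F371443 : act 7 n187768 = n187676 := d8_2 F139361 D187768 (iv3 D187676)
theorem F371444 : act 0 n187768 = n136828 := d20_4 F139213 (iv1 F68176) (iv4 F139359) D187768 F220031 (iv4 F203906) F352077 (iv4 F348577) (iv3 F348578) (iv1 F143027)
theorem F371445 : act 0 n134875 = n187768 := d20_4 (iv4 D134881) (iv1 D63388) (iv4 F98693) (iv3 F217059) (iv3 D187768) F139359 (iv1 D43389) D43390 D92752 F328196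
def n187769 : Q := act 6 n90546
theorem D187769 : act 6 n90546 = n187769 := rfl
theorem F371446 : act 2 n187769 = n187683 := d3_1 D187769 (iv6 D187683) F139360
theorem F371447 : act 4 n187769 = n92749 := d10_1 D187769 (iv6 D92749) (iv4 F139359)
theorem F371448 : act 0 n114988 = n187769 := d21_4 (iv5 D183479) (iv1 D87578) D87580 (iv6 F364809) (iv6 D187769) (iv5 F369226) F369228 F365788 F367663 (iv1 F367662)
theorem F371449 : act 5 n187769 = n175532 := d17_1 F371448 (iv1 F274875) (iv5 F275057) (iv4 D175681) (iv5 D83870) D83868 (iv5 F326545) F353836 D114988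
def n187770 : Q := act 0 n90547
theorem D187770 : act 0 n90547 = n187770 := rfl
theorem F371450 : act 3 n187770 = n134878 := d20_5 F139212 (iv1 D42385) D42386 D90547 D187770 F217069 (iv1 D134168) D134169 F352102 (iv1 F143038)
def n187771 : Q := act 1 n90547
theorem D187771 : act 1 n90547 = n187771 := rfl
def n187772 : Q := act 2 n90547
theorem D187772 : act 2 n90547 = n187772 := rfl
def n187773 : Q := act 7 n90547
theorem D187773 : act 7 n90547 = n187773 := rfl
theorem F371451 : act 3 n187773 = n90549 := d8_1 D187773 (iv7 D90549) D90547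
def n187774 : Q := act 6 n90549
theorem D187774 : act 6 n90549 = n187774 := rfl
theorem F371452 : act 4 n187774 = n90550 := d10_1 D187774 (iv6 D90550) (iv4 F139365)
theorem F371453 : act 1 n132785 = n187774 := d18_6 (iv1 F208623) (iv4 D62312) (iv1 D29480) D29482 D62320 D132785 F371452 F317739 (iv5 D135345)
def n187775 : Q := act 0 n90550
theorem D187775 : act 0 n90550 = n187775 := rfl
theorem F371454 : act 5 n187775 = n132755 := d17_3 (iv1 F209680) (iv5 F317740) D187775 (iv4 F213194) F357873 F357874 (iv5 F319566) (iv0 F214126) (iv4 F209679)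
theorem F371455 : act 4 n187775 = n134890 := d18_1 D187775 (iv1 D134890) F98707 F97465 (iv4 F97462) D132440 F212510 F209681 (iv5 F317740)
theorem F371456 : act 1 n105313 = n187775 := d15_0 (iv0 D187775) (iv7 F319942) (iv2 F321199)
theorem F371457 : act 7 n187775 = n135829 := d15_2 (iv0 F321198) F371456 F218472
theorem F371458 : act 3 n130907 = n187775 := d19_19 (iv1 F371456) F321200 (iv4 D61448) D61447 (iv1 F212289) (iv5 F211038) D131687 (iv3 F343402) (iv1 D150014) (iv5 F311166) D131340 F333448 (iv1 D84125) F322744 (iv4 F347509) F347508 (iv1 F296428) D164178 (iv4 F333456)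
def n187776 : Q := act 4 n90553
theorem D187776 : act 4 n90553 = n187776 := rfl
theorem F371459 : act 2 n187776 = n159828 := d1_1 D187776 (iv4 D159828) (iv2 F139370)
theorem F371460 : act 6 n187776 = n115036 := d10_2 (iv6 F139371) D187776 (iv4 D115036)
def n187777 : Q := act 4 n90557
theorem D187777 : act 4 n90557 = n187777 := rfl
theorem F371461 : act 2 n187777 = n126517 := d1_1 D187777 F363814 F288319
theorem F371462 : act 6 n187777 = n126515 := d10_2 (iv6 F139381) D187777 F327782
theorem F371463 : act 0 n187777 = n129677 := d20_1 D187777 F371078 F371077 (iv1 F179262) F321702 F319812 (iv1 F319809) (iv4 D88486) D88485 (iv1 F288362)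
def n187778 : Q := act 4 n90561
theorem D187778 : act 4 n90561 = n187778 := rfl
theorem F371464 : act 7 n187778 = n126517 := d11_2 F288322 D187778 F363814
theorem F371465 : act 1 n187778 = n129677 := d18_6 (iv1 F139167) (iv4 F159104) (iv1 F159106) F151058 D90561 D187778 F371078 (iv0 D187637) (iv5 D90417)
def n187779 : Q := act 3 n90563
theorem D187779 : act 3 n90563 = n187779 := rfl
theorem F371466 : act 4 n187779 = n146884 := d20_6 (iv4 F139412) (iv1 D90576) (iv4 D42399) (iv3 F65462) D90563 D187779 (iv1 F325466) F325467 F135537 (iv1 F68123)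
theorem F371467 : act 0 n187779 = n130911 := d20_10 F209518 F371174 (iv4 D187680) (iv3 D90447) (iv1 D42299) (iv3 F65284) D90424 D187648 F371102 D187779
theorem F371468 : act 0 n113809 = n187779 := d20_4 F326623 F102022 (iv4 F327590) (iv3 F177081) (iv3 D187779) (iv4 F371102) (iv1 F371103) F211793 F209538 (iv1 F326622)
def n187780 : Q := act 6 n90563
theorem D187780 : act 6 n90563 = n187780 := rfl
theorem F371469 : act 0 n187780 = n159647 := d21_4 F135579 D94324 (iv5 F353200) D187780 (iv6 D159647) (iv5 F114490) (iv1 F161793) (iv5 F327778) F327779 F288323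
theorem F371470 : act 5 n187780 = n159358 := d21_6 (iv5 D52512) (iv1 F55168) (iv5 F55221) (iv6 F65463) D90563 D187780 (iv1 D159358) F114209 (iv6 D69708) (iv1 F82915)
theorem F371471 : act 6 n92874 = n159358 := d21_5 F179099 (iv1 F179000) (iv5 D114908) F177453 D92874 (iv5 F371470) F371469 F251501 (iv6 D115018) D115015
def n187781 : Q := act 6 n90564
theorem D187781 : act 6 n90564 = n187781 := rfl
theorem F371472 : act 3 n187781 = n114937 := d7_1 D187781 F368488 (iv3 F251971)
def n187782 : Q := act 0 n90565
theorem D187782 : act 0 n90565 = n187782 := rfl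
theorem F371473 : act 4 n187782 = n159559 := d18_3 (iv1 D90564) D90565 D187782 (iv5 F369983) (iv4 F369981) (iv0 D187364) F138098 D94325 F350454
theorem F371474 : act 2 n187641 = n187782 := d1_3 F371473 (iv2 F251303) D187641
theorem F371475 : act 7 n187645 = n187782 := d11_0 F371473 (iv7 F251304) D187645
def n187783 : Q := act 1 n90565
theorem D187783 : act 1 n90565 = n187783 := rfl
theorem F371476 : act 7 n187783 = n187641 := d15_2 (iv0 D187782) D187783 F371474
theorem F371477 : act 4 n187783 = n127412 := d18_7 F292573 (iv4 F292565) (iv1 D44932) F33699 D42392 D90565 D187783 (iv0 F204787) F139172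
theorem F371478 : act 2 n187645 = n187783 := d1_3 F371477 F251305 D187645
def n187784 : Q := act 3 n90565
theorem D187784 : act 3 n90565 = n187784 := rfl
theorem F371479 : act 4 n187784 = n90577 := d5_2 D90565 D187784 (iv3 D90577) (iv4 D42399) (iv3 F65462)
theorem F371480 : act 6 n187784 = n159565 := d7_2 (iv6 F139386) D187784 (iv3 D159565)
theorem F371481 : act 7 n187784 = n129467 := d8_2 F288325 D187784 F366212
theorem F371482 : act 5 n187784 = n129155 := d21_6 (iv5 F212465) F212464 (iv5 D132404) D132405 (iv1 F350881) (iv6 F371480) (iv1 F362150) (iv5 D129659) (iv6 D60904) D60900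
def n187785 : Q := act 5 n90565
theorem D187785 : act 5 n90565 = n187785 := rfl
theorem F371483 : act 3 n187785 = n129155 := d6_1 D187785 (iv5 F371482) (iv3 D187784)
theorem F371484 : act 0 n135495 = n187785 := d19_0 (iv5 D187785) (iv4 D90565) F65462 D42397 F65475 (iv4 D40435) F30691 F15396 (iv5 D9812) (iv4 F14811) F65697 (iv1 F290874) (iv5 D9423) (iv4 F14650) (iv3 F31793) D42278 D90417 D187638 (iv3 F371081)
def n187786 : Q := act 6 n90566
theorem D187786 : act 6 n90566 = n187786 := rfl
theorem F371485 : act 2 n187786 = n158547 := d3_1 D187786 (iv6 F339462) F143103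
theorem F371486 : act 3 n187786 = n113771 := d7_1 D187786 (iv6 D113771) (iv3 F139387)
theorem F371487 : act 4 n187786 = n127032 := d10_1 D187786 (iv6 D127032) (iv4 F139388)
theorem F371488 : act 5 n187786 = n114426 := d12_1 D187786 (iv6 D114426) (iv5 D52808) (iv6 F65466) D90566
theorem F371489 : act 7 n187786 = n158546 := d14_2 F143108 D187786 (iv6 F344106) F288349 F288114
theorem F371490 : act 0 n187786 = n132845 := d21_4 (iv5 D42395) D42393 D90566 D187786 (iv6 D132845) (iv5 F317544) (iv1 F128007) (iv5 F319735) F365895 (iv1 D90570)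
theorem F371491 : act 0 n132758 = n187786 := d21_4 (iv5 F218449) (iv1 F218450) (iv5 D132757) D132758 (iv6 D187786) (iv5 D90566) F68255 (iv5 F143123) F319944 (iv1 F214105)
theorem F371492 : act 0 n176083 = n114833 := d21_10 (iv5 D114833) (iv1 D52986) D52987 F83715 (iv1 F83436) D114426 (iv5 F371488) F371490 F370420 F370422
def n187787 : Q := act 5 n90567
theorem D187787 : act 5 n90567 = n187787 := rfl
theorem F371493 : act 2 n187787 = n113772 := d2_1 D187787 (iv5 D113772) (iv2 F139390)
theorem F371494 : act 3 n187787 = n90568 := d6_1 D187787 (iv5 D90568) D90567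
theorem F371495 : act 7 n187787 = n113790 := d13_2 (iv7 F139393) D187787 (iv5 D113790)
theorem F371496 : act 0 n187787 = n113820 := d17_2 F139395 D187787 F177094 F103879 F94167 F163245 (iv5 D106230) (iv0 D49090) D49092
theorem F371497 : act 1 n187787 = n113831 := d17_6 F165915 (iv5 F165917) F177021 (iv5 D113772) (iv4 F139391) D187787 F177121 (iv0 F163114) (iv4 F163329)
def n187788 : Q := act 6 n90569
theorem D187788 : act 6 n90569 = n187788 := rfl
theorem F371498 : act 3 n187788 = n113775 := d7_1 D187788 (iv6 D113775) (iv3 F139398)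
theorem F371499 : act 4 n187788 = n137303 := d10_1 D187788 (iv6 D137303) F139399
theorem F371500 : act 5 n187788 = n187177 := d12_1 D187788 (iv6 F369367) (iv5 F145399) (iv6 F114388) (iv5 F139397)
theorem F371501 : act 0 n130814 = n187788 := d17_0 F371500 (iv1 D187177) F292648 F342175 D130167 F345532 (iv5 F342148) F209368 D130814
theorem F371502 : act 1 n130819 = n187788 := d18_8 (iv1 D187177) F137620 D158125 F354339 F365939 F95802 D61365 D130819 F371500
def n187789 : Q := act 3 n90570
theorem D187789 : act 3 n90570 = n187789 := rfl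
theorem F371503 : act 2 n187789 = n113776 := d0_1 D187789 (iv3 D113776) F106575 (iv3 F114380) F139402
theorem F371504 : act 5 n187789 = n106281 := d6_2 (iv5 F139401) D187789 F163328
theorem F371505 : act 6 n187789 = n130653 := d7_2 F365895 D187789 (iv3 F214721)
theorem F371506 : act 7 n187789 = n113791 := d8_2 F143115 D187789 (iv3 F177053)
theorem F371507 : act 0 n187789 = n106236 := d19_4 (iv1 F100471) D126957 F204209 D187789 (iv5 D106236) (iv4 D49095) D49094 F77502 D54064 D117302 F349039 (iv1 F218542) (iv5 F218228) F354432 F286462 D184594 F345621 (iv4 F220439) (iv3 D137297)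
theorem F371508 : act 0 n106232 = n187789 := d20_4 D113699 (iv1 F177078) (iv4 D113807) (iv3 F163252) (iv3 D187789) (iv4 F204209) (iv1 F204210) (iv4 D90496) F65421 (iv1 F82888)
theorem E103295 : n135825 = n113833 := ((c21_4 F371504 F165915 (iv5 F165917) D113833 (iv1 D135825) (iv6 D63866) D63865 (iv1 F209510) F214014 F335806 F371508)).symm
theorem F371509 : act 0 n113833 = n63866 := (sb E103295 (iv1 D135825))
theorem F371510 : act 2 n135569 = n135824 := d15_3 (iv0 D135824) (iv0 F371509) F327990
theorem F371511 : act 3 n135824 = n135627 := d0_2 D135569 F371510 (iv2 F339347) (iv3 D135234) F99785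
def n187790 : Q := act 1 n90572
theorem D187790 : act 1 n90572 = n187790 := rfl
theorem F371512 : act 7 n187790 = n130781 := d15_2 (iv0 F365904) D187790 (iv2 F214814)
theorem F371513 : act 4 n130791 = n187790 := d20_0 (iv1 D187790) (iv4 F365714) F365713 (iv1 D129266) F95351 F46472 D29549 (iv4 F96719) D132287 F319753
theorem F371514 : act 6 n131007 = n187790 := d21_3 F288345 F346552 F346550 (iv1 D187790) (iv6 D90572) F65475 D87040 F133604 D88532 D185879
def n187791 : Q := act 7 n90572
theorem D187791 : act 7 n90572 = n187791 := rfl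
def n187792 : Q := act 4 n90573
theorem D187792 : act 4 n90573 = n187792 := rfl
def n187793 : Q := act 6 n90573
theorem D187793 : act 6 n90573 = n187793 := rfl
theorem F371515 : act 3 n187793 = n90574 := d7_1 D187793 (iv6 D90574) D90573
theorem F371516 : act 5 n187793 = n154038 := d12_1 D187793 F290415 (iv5 D90153) D90154 (iv5 F139404)
theorem F371517 : act 1 n114758 = n187793 := d17_6 D72905 F109384 (iv1 F190126) F108593 (iv4 F190164) D114758 F371516 (iv0 D154038) (iv4 D72907)
def n187794 : Q := act 0 n90574
theorem D187794 : act 0 n90574 = n187794 := rfl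
def n187795 : Q := act 1 n90574
theorem D187795 : act 1 n90574 = n187795 := rfl
theorem F371518 : act 4 n187795 = n130821 := d17_9 F331837 (iv5 D80365) F304687 F321683 (iv4 F213209) (iv5 F370412) (iv0 D187456) (iv5 F139405) D187795
theorem F371519 : act 5 n105445 = n187795 := d21_6 (iv5 D42450) F290739 D22945 D47666 D102777 F365210 (iv1 D187795) F139405 (iv6 D90156) F65565
theorem F371520 : act 3 n187795 = n105447 := d6_1 F371519 (iv5 D105447) D105445
theorem F371521 : act 6 n130819 = n187795 := d10_0 F371518 (iv6 D130821) D130819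
theorem F371522 : act 0 n105445 = n114427 := d21_7 (iv5 D76344) (iv1 F114390) (iv5 F139397) D187788 (iv1 F371502) F371521 (iv5 F371519) (iv5 F339464) (iv6 F339462) F143105
def n187796 : Q := act 7 n90574
theorem D187796 : act 7 n90574 = n187796 := rfl
theorem F371523 : act 4 n187796 = n174020 := d11_1 D187796 F366703 (iv4 F362737)
theorem F371524 : act 5 n187796 = n187458 := d13_1 D187796 (iv7 D187458) (iv5 F139405)
def n187797 : Q := act 0 n90577
theorem D187797 : act 0 n90577 = n187797 := rfl
def n187798 : Q := act 1 n90577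
theorem D187798 : act 1 n90577 = n187798 := rfl
theorem F371525 : act 6 n152703 = n187798 := d21_9 F362053 (iv1 D175322) (iv5 F315347) (iv6 D130195) (iv1 F313033) (iv6 F249649) (iv5 D158448) (iv1 F305383) D152703 (iv1 D187798)
theorem F371526 : act 3 n187798 = n152708 := d7_1 F371525 (iv6 D152708) (iv3 F239910)
theorem F371527 : act 5 n187798 = n175279 := d12_1 F371525 (iv6 D175279) (iv5 F333658) F333659 D152703
theorem F371528 : act 4 n136833 = n152708 := d20_2 (iv4 F209291) F326704 (iv3 F371526) (iv1 D187798) (iv3 D90577) (iv4 D42399) D42397 (iv4 F139300) F348576 (iv1 D130742)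
theorem F371529 : act 6 n152707 = n136833 := d10_0 F371528 (iv6 D152708) D152707
def n187799 : Q := act 2 n90577
theorem D187799 : act 2 n90577 = n187799 := rfl
theorem F371530 : act 6 n187799 = n126839 := d3_2 (iv6 F203956) D187799 (iv2 F220097)
def n187800 : Q := act 5 n90581
theorem D187800 : act 5 n90581 = n187800 := rfl
theorem F371531 : act 2 n187800 = n114805 := d2_1 D187800 F178879 F139449
theorem F371532 : act 3 n187800 = n114374 := d6_1 D187800 F178388 F139429
theorem F371533 : act 7 n187800 = n151222 := d13_2 (iv7 F139453) D187800 F237950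
theorem F371534 : act 1 n187800 = n114432 := d17_6 F77248 D49141 D106329 F163398 F139433 D187800 (iv5 D114432) (iv0 F162626) F162624
theorem F371535 : act 0 n187800 = n114478 := d21_1 D187800 (iv5 D114478) (iv6 F139392) F139394 (iv6 F77508) (iv5 D43311) (iv1 F32500) (iv5 F31861) D42402 D90581
def n187801 : Q := act 5 n90582
theorem D187801 : act 5 n90582 = n187801 := rfl
theorem F371536 : act 2 n187801 = n151222 := d2_1 D187801 F237950 (iv2 F139452)
theorem F371537 : act 3 n187801 = n113890 := d6_1 D187801 F177185 F139436
theorem F371538 : act 7 n187801 = n114805 := d13_2 F139451 D187801 F178879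
theorem F371539 : act 1 n187801 = n114478 := d17_6 (iv1 F77580) D52767 (iv1 F163400) (iv5 F163401) F139435 D187801 (iv5 D114478) F163373 F163371
theorem F371540 : act 0 n187801 = n114432 := d21_7 (iv5 F106785) F106787 (iv5 F106027) (iv6 F163113) F163114 (iv6 F139437) D187801 (iv5 D114432) (iv6 D52813) F77232
def n187802 : Q := act 4 n90583
theorem D187802 : act 4 n90583 = n187802 := rfl
theorem F371541 : act 2 n187802 = n187498 := d1_1 D187802 (iv4 D187498) (iv2 F139438)
theorem F371542 : act 6 n187802 = n92588 := d10_2 (iv6 F139440) D187802 (iv4 D92588)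
theorem F371543 : act 1 n187802 = n184722 := d18_6 (iv1 F164496) F164493 (iv1 D90277) (iv4 F65490) D90583 D187802 (iv4 F356687) F205625 F205622
theorem F371544 : act 5 n182197 = n187802 := d12_5 F371542 F362833 (iv6 D88239) (iv5 F133505) D182197
theorem F371545 : act 7 n94111 = n187802 := d14_0 F371542 (iv7 F362829) (iv6 D91154) (iv7 F294381) D94111
def n187803 : Q := act 7 n90583
theorem D187803 : act 7 n90583 = n187803 := rfl
theorem F371546 : act 2 n187803 = n187499 := d4_1 D187803 (iv7 D187499) (iv2 F139438)
theorem F371547 : act 3 n187803 = n90588 := d8_1 D187803 (iv7 D90588) (iv3 F139439)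
theorem F371548 : act 4 n187803 = n94111 := d11_1 D187803 F371545 (iv4 D187802)
theorem F371549 : act 5 n187803 = n90584 := d13_1 D187803 (iv7 D90584) D90583
theorem F371550 : act 6 n187803 = n94110 := d14_1 D187803 (iv7 F294571) F362824 (iv7 D92589) (iv6 F139440)
theorem F371551 : act 1 n187497 = n187803 := d15_1 D187497 (iv7 D187803) F139438
theorem F371552 : act 1 n187803 = n187496 := d15_1 F371551 (iv7 F370582) F370585
def n187804 : Q := act 4 n90585
theorem D187804 : act 4 n90585 = n187804 := rfl
theorem F371553 : act 2 n187804 = n92820 := d1_1 D187804 (iv4 D92820) (iv2 F139454)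
theorem F371554 : act 3 n187804 = n92603 := d5_1 D187804 (iv4 D92603) (iv3 F142654) F329486 (iv3 F139455)
theorem F371555 : act 7 n187804 = n92817 := d11_2 (iv7 F139456) D187804 (iv4 D92817)
theorem F371556 : act 5 n99454 = n187804 := d6_0 F371554 F291271 D99454
def n187805 : Q := act 6 n90585
theorem D187805 : act 6 n90585 = n187805 := rfl
theorem F371557 : act 2 n187805 = n92821 := d3_1 D187805 (iv6 D92821) (iv2 F139454)
theorem F371558 : act 3 n187805 = n150763 := d7_1 D187805 (iv6 D150763) (iv3 F139455)
theorem F371559 : act 5 n187805 = n132806 := d12_1 D187805 F342162 (iv5 D159501) F114377 D90585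
theorem F371560 : act 0 n92852 = n187805 := d21_4 F292120 (iv1 F73894) (iv5 F292969) D92852 (iv6 D187805) (iv5 D90585) (iv1 D42404) D42405 F65493 D43322
def n187806 : Q := act 4 n90586
theorem D187806 : act 4 n90586 = n187806 := rfl
theorem F371561 : act 2 n187806 = n92824 := d1_1 D187806 (iv4 D92824) F139461
theorem F371562 : act 3 n187806 = n92609 := d5_1 D187806 (iv4 D92609) D92608 F329559 F139462
theorem F371563 : act 7 n187806 = n92822 := d11_2 (iv7 F139459) D187806 (iv4 D92822)
theorem F371564 : act 0 n187806 = n114287 := d17_0 (iv5 F349169) F363560 F363561 (iv4 D159348) F114196 (iv0 D42403) D42405 D90586 D187806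
theorem F371565 : act 1 n187806 = n114284 := d18_6 D25605 F77182 (iv1 F114231) F114228 (iv5 F139460) D187806 (iv4 D114284) (iv0 D52747) (iv5 D25607)
theorem F371566 : act 5 n108479 = n187806 := d17_7 (iv1 F178088) F178086 (iv1 F83332) D52746 D114281 (iv5 F364768) (iv0 F364767) F371565 (iv4 D114284)
def n187807 : Q := act 6 n90586
theorem D187807 : act 6 n90586 = n187807 := rfl
theorem F371567 : act 2 n187807 = n92825 := d3_1 D187807 (iv6 D92825) F139461
theorem F371568 : act 3 n187807 = n151366 := d7_1 D187807 (iv6 D151366) F139462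
theorem F371569 : act 5 n187807 = n94266 := d12_1 D187807 (iv6 D94266) (iv5 D44068) D44069 (iv5 F139460)
def n187808 : Q := act 3 n90587
theorem D187808 : act 3 n90587 = n187808 := rfl
theorem F371570 : act 2 n187808 = n153785 := d0_1 D187808 (iv3 D153785) (iv2 F110052) (iv3 F110056) (iv2 F139463)
theorem F371571 : act 6 n187808 = n92613 := d7_2 (iv6 F139464) D187808 (iv3 D92613)
def n187809 : Q := act 6 n90588
theorem D187809 : act 6 n90588 = n187809 := rfl
theorem F371572 : act 2 n187809 = n92828 := d3_1 D187809 (iv6 D92828) (iv2 F139465)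
theorem F371573 : act 3 n187809 = n94110 := d7_1 D187809 (iv6 F371550) F371547
theorem F371574 : act 5 n187809 = n187523 := d12_1 D187809 (iv6 D187523) F138891 (iv6 F65496) (iv5 F139466)
theorem F371575 : act 7 n187809 = n92616 := d14_2 D90588 D187809 (iv6 D92616) (iv7 D43325) (iv6 F65493)
theorem F371576 : act 1 n92932 = n187809 := d15_1 D92932 F371575 F142681
theorem F371577 : act 6 n92932 = n115023 := d21_5 (iv5 D43428) (iv1 F65499) (iv5 F139466) D187809 (iv1 F371576) (iv5 D115023) (iv1 F206233) D159505 F251199 (iv1 D92816)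
theorem F371578 : act 3 n115026 = n92932 := d7_3 F371577 F179118 D115026
theorem F371579 : act 1 n187809 = n92931 := d15_0 (iv0 D92931) (iv7 F143194) (iv2 F371572)
def n187810 : Q := act 4 n90589
theorem D187810 : act 4 n90589 = n187810 := rfl
theorem F371580 : act 2 n187810 = n152034 := d1_1 D187810 F366223 (iv2 F139470)
theorem F371581 : act 7 n187810 = n159332 := d11_2 (iv7 F139472) D187810 (iv4 D159332)
theorem F371582 : act 0 n187810 = n118868 := d18_2 (iv1 F139474) D187810 (iv4 D118868) (iv5 D54710) (iv4 D26459) F42268 (iv4 F86425) F86428 D54677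
theorem F371583 : act 1 n187810 = n118858 := d18_6 F106661 F55634 F55631 (iv4 F82996) D90589 D187810 (iv4 D118858) D118857 F186923
theorem F371584 : act 6 n107960 = n187810 := d3_0 F371580 (iv6 D152034) (iv2 F166828)
def n187811 : Q := act 6 n90589
theorem D187811 : act 6 n90589 = n187811 := rfl
theorem F371585 : act 2 n187811 = n107555 := d3_1 D187811 F322883 (iv2 F139470)
theorem F371586 : act 3 n187811 = n90593 := d7_1 D187811 (iv6 D90593) (iv3 F139471)
theorem F371587 : act 4 n187811 = n107960 := d10_1 D187811 F371584 (iv4 D187810)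
theorem F371588 : act 5 n187811 = n107548 := d12_1 D187811 F322880 F97940 F82994 D90589
theorem F371589 : act 7 n107958 = n187811 := d13_0 F371588 F165925 (iv5 F166827)
def n187812 : Q := act 4 n90591
theorem D187812 : act 4 n90591 = n187812 := rfl
theorem F371590 : act 5 n187812 = n153625 := d17_5 (iv1 F83349) (iv5 D46830) (iv1 F82985) D90591 D187812 F242847 F242843 F178151 F178150
theorem F371591 : act 0 n187812 = n154712 := d17_0 (iv5 D154712) F178148 (iv5 D114290) (iv4 D52749) (iv5 D25607) D25606 D52746 (iv0 F139482) D187812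
theorem F371592 : act 1 n187812 = n114438 := d18_6 (iv1 D42404) F31864 D20025 D42409 D90591 D187812 (iv4 D114438) (iv0 F139457) (iv5 D90585)
def n187813 : Q := act 6 n90591
theorem D187813 : act 6 n90591 = n187813 := rfl
theorem F371593 : act 3 n187813 = n152531 := d7_1 D187813 (iv6 D152531) (iv3 F139480)
def n187814 : Q := act 0 n90592
theorem D187814 : act 0 n90592 = n187814 := rfl
theorem F371594 : act 4 n187814 = n113737 := d18_3 (iv1 F114353) D90592 D187814 (iv5 D113737) F82923 F83332 F83330 F69007 D52838
theorem F371595 : act 1 n90596 = n187814 := d15_0 (iv0 D187814) (iv7 F370651) F370650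
theorem F371596 : act 7 n114245 = n187814 := d11_0 F371594 F176976 D114245
def n187815 : Q := act 1 n90592
theorem D187815 : act 1 n90592 = n187815 := rfl
theorem F371597 : act 1 n187815 = n90596 := d15_1 D187815 (iv7 F237965) F237964
theorem F371598 : act 4 n187815 = n105381 := d18_7 F94178 F67740 (iv1 F82985) (iv4 D42409) D42410 D90592 D187815 F161707 F114336
theorem F371599 : act 2 n114245 = n187815 := d1_3 F371598 F161703 D114245
theorem F371600 : act 3 n110987 = n187815 := d5_5 F371598 F161704 D118677 F370680 F370679
def n187816 : Q := act 3 n90592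
theorem D187816 : act 3 n90592 = n187816 := rfl
def n187817 : Q := act 5 n90592
theorem D187817 : act 5 n90592 = n187817 := rfl
theorem F371601 : act 0 n110982 = n187817 := d19_0 (iv5 D187817) (iv4 D90592) (iv3 F139471) F139473 (iv5 D54678) (iv4 F42294) F27651 (iv1 F12443) D12758 D26699 D55256 F331309 F331291 F100123 (iv3 F100077) (iv1 F100081) (iv5 D59127) (iv4 F111182) D110982
def n187818 : Q := act 6 n90592
theorem D187818 : act 6 n90592 = n187818 := rfl
theorem F371602 : act 4 n187818 = n90593 := d10_1 D187818 (iv6 D90593) D90592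
def n187819 : Q := act 0 n90593
theorem D187819 : act 0 n90593 = n187819 := rfl
theorem F371603 : act 5 n187819 = n187183 := d21_0 (iv1 D187183) F292647 (iv6 D42461) (iv1 D20040) (iv6 F31865) (iv5 D20027) D20025 D42410 D90593 D187819
theorem F371604 : act 4 n108537 = n187819 := d16_2 F80917 D108537 F371603 F369399 (iv5 F369170) F369169 (iv5 F361774) (iv7 F329728) F329725
theorem F371605 : act 6 n90640 = n187819 := d21_5 (iv5 D9446) D9444 D20032 D42435 D90640 F371603 (iv1 D187183) F292647 (iv6 D42461) (iv1 D20040)
theorem F371606 : act 3 n187819 = n134998 := d5_1 F371604 (iv4 D134998) F98771 (iv4 F79373) (iv3 F167827)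
def n187820 : Q := act 1 n90593
theorem D187820 : act 1 n90593 = n187820 := rfl
def n187821 : Q := act 5 n90593
theorem D187821 : act 5 n90593 = n187821 := rfl
theorem F371607 : act 2 n187821 = n94272 := d2_1 D187821 (iv5 F237969) F237967
theorem F371608 : act 3 n187821 = n107548 := d6_1 D187821 (iv5 F371588) F371586
theorem F371609 : act 6 n187821 = n90594 := d12_2 D90593 D187821 (iv5 D90594) (iv6 D42411) D42410
theorem F371610 : act 5 n187182 = n187820 := d21_0 (iv1 D187820) D187821 F371609 F139486 F68993 (iv5 D20902) F292980 (iv5 F64587) D89688 D187182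
theorem F371611 : act 7 n151690 = n187821 := d8_0 F371608 F165925 D151690
def n187822 : Q := act 7 n90593
theorem D187822 : act 7 n90593 = n187822 := rfl
theorem F371612 : act 3 n187822 = n107958 := d8_1 D187822 F371589 F371586
theorem F371613 : act 5 n187822 = n151690 := d13_1 D187822 F371611 (iv5 D187821)
def n187823 : Q := act 4 n90594
theorem D187823 : act 4 n90594 = n187823 := rfl
theorem F371614 : act 2 n187823 = n94271 := d1_1 D187823 (iv4 D94271) (iv2 F139483)
theorem F371615 : act 7 n187823 = n94269 := d11_2 (iv7 F139485) D187823 (iv4 D94269)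
theorem F371616 : act 0 n187823 = n158069 := d18_2 F139487 D187823 (iv4 F292218) (iv5 D90104) (iv4 F65295) (iv0 F65296) (iv4 F68990) F68986 (iv5 F69420)
theorem F371617 : act 1 n187823 = n151974 := d18_6 D61276 F95742 (iv1 F77936) (iv4 F82992) D90594 D187823 (iv4 D151974) (iv0 F108148) (iv5 D61277)
def n187824 : Q := act 4 n90595
theorem D187824 : act 4 n90595 = n187824 := rfl
theorem F371618 : act 5 n187824 = n153624 := d17_5 D114252 F178075 (iv1 F139477) D90595 D187824 (iv0 D153624) (iv5 F143191) (iv0 F178080) (iv4 D114253)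
theorem F371619 : act 0 n187824 = n114438 := d18_2 (iv1 F139489) D187824 (iv4 D114438) (iv5 D52817) (iv4 F76684) (iv0 D25646) F20189 D25606 D52746
theorem F371620 : act 1 n187824 = n154712 := d18_6 (iv1 F65497) (iv4 F65155) (iv1 F65157) D42414 D90595 D187824 F242889 F178539 F114196
theorem F371621 : act 4 n187817 = n153624 := d16_2 D90592 D187817 (iv5 F371618) (iv4 D187824) (iv5 D90595) (iv4 D42414) D42415 (iv7 F107772) (iv2 F107773)
def n187825 : Q := act 6 n90595
theorem D187825 : act 6 n90595 = n187825 := rfl
theorem F371622 : act 3 n187825 = n105304 := d7_1 D187825 F161463 (iv3 F139488)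
theorem F371623 : act 5 n187825 = n105301 := d12_1 D187825 (iv6 D105301) (iv5 D48684) (iv6 F82980) D90595
theorem F371624 : act 0 n92976 = n187825 := d21_4 F290825 (iv1 F290811) F69487 D92976 (iv6 D187825) (iv5 D90595) F82978 D46830 F73971 D46832
def n187826 : Q := act 3 n90596
theorem D187826 : act 3 n90596 = n187826 := rfl
theorem F371625 : act 4 n187826 = n141945 := d5_2 D90596 D187826 F362684 (iv4 D106097) (iv3 F83012)
theorem F371626 : act 0 n134723 = n187826 := d20_4 F241262 (iv1 F231728) (iv4 F350049) F220866 (iv3 D187826) (iv4 D90596) F114352 D114476 F241265 (iv1 F241264)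
theorem F371627 : act 6 n141943 = n187826 := d10_0 F371625 (iv6 D141945) D141943
def n187827 : Q := act 5 n90596
theorem D187827 : act 5 n90596 = n187827 := rfl
theorem F371628 : act 4 n187827 = n153625 := d9_1 D187827 (iv5 F371590) (iv4 D187812) (iv5 D90591) (iv4 D42409) D42410 D90592 D187817 F371621 (iv5 F371618) (iv4 D187824) (iv5 D90595) (iv4 D42414) D42415 D90596
def n187828 : Q := act 6 n90596
theorem D187828 : act 6 n90596 = n187828 := rfl
theorem F371629 : act 3 n187828 = n141943 := d7_1 D187828 F371627 (iv3 D187826)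
theorem F371630 : act 4 n187828 = n90597 := d10_1 D187828 (iv6 D90597) D90596
def n187829 : Q := act 0 n90597
theorem D187829 : act 0 n90597 = n187829 := rfl
def n187830 : Q := act 7 n90597
theorem D187830 : act 7 n90597 = n187830 := rfl
theorem F371631 : act 1 n90634 = n187830 := d15_1 (iv0 F370655) (iv7 D187830) (iv2 F370653)
def n187831 : Q := act 1 n90598
theorem D187831 : act 1 n90598 = n187831 := rfl
theorem F371632 : act 1 n187831 = n90600 := d15_1 D187831 F139494 (iv2 F139491)
theorem F371633 : act 7 n187831 = n114482 := d15_2 F239729 D187831 (iv2 F239726)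
theorem F371634 : act 4 n187831 = n92443 := d18_7 D76234 F114222 (iv1 D52732) (iv4 F40541) (iv5 F65502) D90598 D187831 F142202 (iv5 D76236)
theorem F371635 : act 2 n114483 = n187831 := d1_3 F371634 F142199 F178541
theorem F371636 : act 3 n110983 = n187831 := d5_5 F371634 F142200 (iv4 F329721) F139312 (iv4 F339957)
theorem F371637 : act 6 n90685 = n187831 := d10_0 F371634 F142201 (iv4 F139603)
theorem F371638 : act 5 n187831 = n110982 := d6_2 D110983 F371636 (iv3 D110982)
theorem F371639 : act 1 n110982 = n187827 := d17_6 F176977 F114336 F94178 D92443 (iv4 F371634) F371638 (iv5 D187827) F371595 F371594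
theorem F371640 : act 6 n140439 = n187814 := d21_9 D187827 (iv1 F371639) (iv5 F371638) (iv6 F371637) (iv1 D90685) D90688 F336079 (iv1 F181251) F228366 (iv1 F371595)
def n187832 : Q := act 3 n90598
theorem D187832 : act 3 n90598 = n187832 := rfl
theorem F371641 : act 0 n187832 = n184582 := d20_4 (iv4 D42419) D42417 D90598 D187832 (iv3 D184582) F135021 (iv1 D48212) D48213 (iv3 F345165) (iv1 D90603)
def n187833 : Q := act 5 n90598
theorem D187833 : act 5 n90598 = n187833 := rfl
theorem F371642 : act 2 n187833 = n107024 := d2_1 D187833 F361661 (iv2 F139491)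
theorem F371643 : act 0 n144303 = n187833 := d19_0 (iv5 D187833) (iv4 D90598) (iv3 F86422) D118706 F186711 (iv4 F94176) F49959 F24536 F22829 (iv4 F42789) D55245 D120060 F338748 F336643 F169300 (iv1 F82513) F111169 F111176 D144303
theorem F371644 : act 6 n107020 = n187833 := d3_0 F371642 (iv6 D107024) (iv2 F164962)
theorem E103296 : n187827 = n145349 := ((c21_10 (iv5 F371638) (iv1 D187831) D187833 (iv6 F371644) F358709 F78167 D49598 (iv1 F78340) (iv5 F228389) D145349 (iv1 F371639))).symm
theorem F371645 : act 0 n145349 = n110982 := (sb E103296 (iv1 F371639))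
theorem F371646 : act 4 n145349 = n153625 := (sb E103296 F371628)
theorem F371647 : act 5 n145349 = n90596 := (sb E103296 (iv5 D187827))
theorem F371648 : act 5 n187828 = n106441 := d12_3 D145349 F371647 D187828 (iv6 D106441) (iv5 F228389)
theorem F371649 : act 6 n153625 = n140489 := d10_2 D145349 F371646 F223655
theorem F371650 : act 3 n140492 = n153625 := d7_3 F371649 (iv3 D140489) D140492
def n187834 : Q := act 6 n90598
theorem D187834 : act 6 n90598 = n187834 := rfl
theorem F371651 : act 2 n187834 = n108776 := d3_1 D187834 F361651 (iv2 F139491)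
theorem F371652 : act 4 n187834 = n90599 := d10_1 D187834 (iv6 D90599) D90598
theorem F371653 : act 5 n187834 = n108915 := d12_1 D187834 F334613 (iv5 F358711) F371644 (iv5 D187833)
def n187835 : Q := act 0 n90599
theorem D187835 : act 0 n90599 = n187835 := rfl
def n187836 : Q := act 1 n90599
theorem D187836 : act 1 n90599 = n187836 := rfl
theorem F371654 : act 1 n187836 = n114475 := d15_1 D187836 (iv7 D114475) (iv2 F139492)
theorem F371655 : act 5 n187836 = n114829 := d17_7 (iv1 F334744) F104730 D69785 (iv5 F322757) F178473 (iv5 F139493) D187836 (iv0 F353804) F275224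
theorem F371656 : act 2 n114473 = n187836 := d2_3 F371655 (iv2 F352410) F352411
def n187837 : Q := act 7 n90599
theorem D187837 : act 7 n90599 = n187837 := rfl
theorem F371657 : act 2 n187837 = n114475 := d4_1 D187837 (iv7 D114475) (iv2 F139492)
theorem F371658 : act 5 n187837 = n114442 := d13_1 D187837 (iv7 D114442) (iv5 F139493)
theorem F371659 : act 1 n114475 = n187835 := d15_0 (iv0 D187835) D187837 F371657
theorem F371660 : act 1 n114473 = n187837 := d15_1 D114473 (iv7 D187837) F139492
theorem F371661 : act 7 n187835 = n114473 := d15_2 F371654 F371659 F371656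
theorem F371662 : act 3 n142083 = n187835 := d8_3 F371661 F352412 (iv7 F225109)
theorem F371663 : act 5 n142082 = n187835 := d13_3 F371661 (iv5 F352411) (iv7 F225107)
theorem F371664 : act 2 n187835 = n114472 := d15_3 (iv0 D114472) D114473 (iv7 F371661)
theorem F371665 : act 7 n114472 = n187836 := d4_2 (iv7 F371661) F371664 (iv2 F371656)
theorem F371666 : act 1 n187837 = n114472 := d15_1 F371660 F371665 (iv2 F371656)
def n187838 : Q := act 3 n90600
theorem D187838 : act 3 n90600 = n187838 := rfl
theorem F371667 : act 4 n187838 = n114533 := d5_2 D90600 D187838 F178594 F83518 F65505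
theorem F371668 : act 7 n187838 = n108777 := d8_2 (iv7 F139494) D187838 F331534
def n187839 : Q := act 5 n90600
theorem D187839 : act 5 n90600 = n187839 := rfl
theorem F371669 : act 7 n187839 = n107024 := d13_2 (iv7 F139494) D187839 F361661
theorem F371670 : act 1 n144303 = n187839 := d15_1 (iv0 F371643) F371669 (iv2 F371642)
def n187840 : Q := act 6 n90600
theorem D187840 : act 6 n90600 = n187840 := rfl
theorem F371671 : act 4 n187840 = n90601 := d10_1 D187840 (iv6 D90601) D90600
def n187841 : Q := act 0 n90601
theorem D187841 : act 0 n90601 = n187841 := rfl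
def n187842 : Q := act 1 n90601
theorem D187842 : act 1 n90601 = n187842 := rfl
def n187843 : Q := act 7 n90601
theorem D187843 : act 7 n90601 = n187843 := rfl
theorem F371672 : act 3 n187843 = n114514 := d8_1 D187843 F178578 (iv3 F139495)
theorem F371673 : act 6 n187843 = n114475 := d14_1 D187843 (iv7 D114475) F83488 (iv7 F65504) D90601
def n187844 : Q := act 3 n90602
theorem D187844 : act 3 n90602 = n187844 := rfl
theorem F371674 : act 2 n187844 = n184114 := d0_1 D187844 F286057 (iv2 F140429) F370666 (iv2 F370664)
theorem F371675 : act 4 n187844 = n115083 := d5_2 (iv4 F139496) D187844 (iv3 D115083) (iv4 D53103) (iv3 F83811)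
theorem F371676 : act 7 n187844 = n184112 := d8_2 F250910 D187844 F345166
theorem F371677 : act 0 n184110 = n187844 := d20_4 (iv4 F339944) F178372 (iv4 F339926) (iv3 F362354) (iv3 D187844) F139496 D115081 (iv4 F179197) (iv3 F349171) (iv1 F227016)
theorem F371678 : act 5 n187844 = n186950 := d19_1 F371677 (iv4 D186950) F137091 (iv1 F73321) (iv5 D22454) (iv4 D10671) (iv3 F65668) (iv1 D2041) F291972 F14807 D4957 F65657 F292104 D20463 D43334 F176019 (iv5 F94505) (iv4 F339926) (iv3 F362354)
theorem F371679 : act 1 n184111 = n187844 := d15_1 D184111 F371676 (iv2 D184112)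
def n187845 : Q := act 5 n90602
theorem D187845 : act 5 n90602 = n187845 := rfl
theorem F371680 : act 2 n187845 = n103878 := d2_1 D187845 (iv5 F370662) (iv2 F370664)
theorem F371681 : act 3 n187845 = n186950 := d6_1 D187845 (iv5 F371678) (iv3 D187844)
theorem F371682 : act 4 n187845 = n108479 := d16_2 (iv4 F139496) D187845 F371566 (iv4 D187806) F139460 (iv4 F114228) D159370 F250905 F178041
theorem F371683 : act 0 n128386 = n187845 := d19_0 (iv5 D187845) F139496 F83811 (iv1 F83362) F83359 F82831 F46275 (iv1 D15748) (iv5 D7394) F5391 F2613 D1500 F5032 D7095 D14900 (iv1 F54098) (iv5 F86166) (iv4 F94882) D128386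
theorem F371684 : act 6 n108477 = n187845 := d10_0 F371682 (iv6 D108479) D108477
def n187846 : Q := act 6 n90602
theorem D187846 : act 6 n90602 = n187846 := rfl
theorem F371685 : act 4 n187846 = n115082 := d10_1 D187846 (iv6 D115082) (iv4 F139496)
theorem F371686 : act 5 n187846 = n180492 := d21_6 (iv5 F139623) (iv1 D90716) (iv5 D42465) (iv6 F65526) D90602 D187846 (iv1 D180492) D180493 F362676 F139543
def n187847 : Q := act 5 n90603
theorem D187847 : act 5 n90603 = n187847 := rfl
theorem F371687 : act 3 n187847 = n103630 := d6_1 D187847 F294317 (iv3 F345165)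
theorem F371688 : act 7 n187847 = n103878 := d13_2 F370665 D187847 (iv5 F370662)
theorem F371689 : act 1 n128386 = n187847 := d15_1 (iv0 F371683) F371688 (iv2 F371680)
def n187848 : Q := act 6 n90603
theorem D187848 : act 6 n90603 = n187848 := rfl
theorem F371690 : act 3 n187848 = n104187 := d7_1 D187848 F159712 (iv3 F345165)
theorem F371691 : act 0 n120503 = n187848 := d20_4 (iv4 D120499) (iv1 D55470) D55471 D120503 F371690 (iv4 D104187) (iv1 F307400) D124821 F338887 (iv1 F304335)
def n187849 : Q := act 6 n90604
theorem D187849 : act 6 n90604 = n187849 := rfl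
theorem F371692 : act 4 n187849 = n90605 := d10_1 D187849 (iv6 D90605) (iv4 F139497)
theorem F371693 : act 7 n187849 = n90718 := d14_2 D90604 D187849 (iv6 D90718) (iv7 D42466) (iv6 F65526)
def n187850 : Q := act 5 n90608
theorem D187850 : act 5 n90608 = n187850 := rfl
theorem F371694 : act 3 n187850 = n114603 := d6_1 D187850 (iv5 F335351) F159200
theorem F371695 : act 6 n187850 = n139932 := d12_2 F177427 D187850 (iv5 D139932) (iv6 F324611) (iv5 F331248)
def n187851 : Q := act 4 n90609
theorem D187851 : act 4 n90609 = n187851 := rfl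
def n187852 : Q := act 6 n90609
theorem D187852 : act 6 n90609 = n187852 := rfl
def n187853 : Q := act 4 n90616
theorem D187853 : act 4 n90616 = n187853 := rfl
theorem F371696 : act 2 n187853 = n90622 := d1_1 D187853 (iv4 D90622) (iv2 F139503)
theorem F371697 : act 3 n187853 = n134876 := d5_1 D187853 (iv4 F221906) F364950 F335539 F235270
theorem F371698 : act 6 n134874 = n187853 := d7_0 F371697 (iv6 D134876) (iv3 F217058)
def n187854 : Q := act 6 n90616
theorem D187854 : act 6 n90616 = n187854 := rfl
theorem F371699 : act 2 n187854 = n90623 := d3_1 D187854 (iv6 D90623) (iv2 F139503)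
theorem F371700 : act 4 n187854 = n134874 := d10_1 D187854 F371698 (iv4 D187853)
def n187855 : Q := act 1 n90618
theorem D187855 : act 1 n90618 = n187855 := rfl
theorem F371701 : act 1 n187855 = n100397 := d15_1 D187855 F154431 (iv2 F139506)
theorem F371702 : act 7 n187855 = n100439 := d15_2 (iv0 F369255) D187855 (iv2 F369251)
theorem F371703 : act 5 n90827 = n187855 := d21_6 D43308 (iv1 F294359) (iv5 D91011) (iv6 F294850) (iv1 F367362) F367360 (iv1 D187855) (iv5 D90618) F293398 (iv1 D43306)
theorem F371704 : act 2 n187855 = n90828 := d2_1 F371703 (iv5 D90828) D90827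
def n187856 : Q := act 4 n90618
theorem D187856 : act 4 n90618 = n187856 := rfl
theorem F371705 : act 2 n187856 = n100441 := d1_1 D187856 (iv4 D100441) (iv2 F139506)
theorem F371706 : act 7 n187856 = n100445 := d11_2 (iv7 F139508) D187856 (iv4 D100445)
def n187857 : Q := act 6 n90618
theorem D187857 : act 6 n90618 = n187857 := rfl
theorem F371707 : act 2 n187857 = n100442 := d3_1 D187857 (iv6 D100442) (iv2 F139506)
theorem F371708 : act 3 n187857 = n104190 := d7_1 D187857 (iv6 D104190) (iv3 F139507)
theorem F371709 : act 5 n187857 = n98922 := d12_1 D187857 (iv6 D98922) F293396 (iv6 F293398) D90618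
theorem F371710 : act 0 n116257 = n187857 := d21_4 F181704 (iv1 D53582) D53584 D116257 (iv6 D187857) (iv5 D90618) F66350 (iv5 F74091) (iv6 F329671) (iv1 F180565)
def n187858 : Q := act 4 n90620
theorem D187858 : act 4 n90620 = n187858 := rfl
def n187859 : Q := act 6 n90620
theorem D187859 : act 6 n90620 = n187859 := rfl
theorem F371711 : act 2 n187859 = n118753 := d3_1 D187859 F370707 (iv2 F370708)
theorem F371712 : act 5 n187859 = n118702 := d12_1 D187859 (iv6 F251698) (iv5 D159752) (iv6 F288161) F288160
theorem F371713 : act 7 n118757 = n187859 := d13_0 F371712 F283568 D118757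
def n187860 : Q := act 4 n90621
theorem D187860 : act 4 n90621 = n187860 := rfl
def n187861 : Q := act 6 n90621
theorem D187861 : act 6 n90621 = n187861 := rfl
def n187862 : Q := act 0 n90622
theorem D187862 : act 0 n90622 = n187862 := rfl
theorem F371714 : act 4 n187862 = n92971 := d18_3 (iv1 D90621) D90622 D187862 F143381 F142407 (iv0 F142412) F134455 D94295 F370712
def n187863 : Q := act 1 n90622
theorem D187863 : act 1 n90622 = n187863 := rfl
def n187864 : Q := act 3 n90622
theorem D187864 : act 3 n90622 = n187864 := rfl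
theorem F371715 : act 4 n187864 = n90637 := d5_2 D90622 D187864 (iv3 D90637) (iv4 D42434) (iv3 F65531)
def n187865 : Q := act 5 n90622
theorem D187865 : act 5 n90622 = n187865 := rfl
def n187866 : Q := act 6 n90622
theorem D187866 : act 6 n90622 = n187866 := rfl
theorem F371716 : act 2 n187866 = n134874 := d3_1 D187866 F371698 F371696
theorem F371717 : act 4 n187866 = n90623 := d10_1 D187866 (iv6 D90623) D90622
theorem F371718 : act 5 n134873 = n187866 := d2_0 F371716 (iv5 D134874) D134873
def n187867 : Q := act 0 n90623
theorem D187867 : act 0 n90623 = n187867 := rfl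
theorem F371719 : act 5 n187867 = n151710 := d21_0 (iv1 D151710) (iv5 F186827) (iv6 D118775) (iv1 F114574) (iv6 F139318) (iv5 D90518) (iv1 F177383) D42425 D90623 D187867
def n187868 : Q := act 1 n90623
theorem D187868 : act 1 n90623 = n187868 := rfl
def n187869 : Q := act 5 n90623
theorem D187869 : act 5 n90623 = n187869 := rfl
theorem F371720 : act 3 n187869 = n90642 := d6_1 D187869 (iv5 D90642) (iv3 F139516)
theorem F371721 : act 6 n187869 = n90626 := d12_2 D90623 D187869 (iv5 D90626) (iv6 D42426) D42425
theorem F371722 : act 4 n187869 = n159991 := d16_2 F371717 D187869 F252362 (iv4 F329095) F216330 F209315 (iv5 F217302) F217303 (iv2 F371716)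
theorem F371723 : act 5 n151709 = n187868 := d21_0 (iv1 D187868) D187869 F371721 F177434 F145265 (iv5 D62818) F47783 (iv5 F52300) D71491 D151709
theorem F371724 : act 7 n159990 = n187869 := d11_0 F371722 (iv7 D159991) D159990
def n187870 : Q := act 7 n90623
theorem D187870 : act 7 n90623 = n187870 := rfl
theorem F371725 : act 3 n187870 = n90643 := d8_1 D187870 (iv7 D90643) (iv3 F139516)
theorem F371726 : act 5 n187870 = n159990 := d13_1 D187870 F371724 (iv5 D187869)
theorem F371727 : act 6 n187870 = n114883 := d14_1 D187870 F370718 (iv6 D187535) F138923 D90623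
def n187871 : Q := act 4 n90624
theorem D187871 : act 4 n90624 = n187871 := rfl
theorem F371728 : act 2 n187871 = n187469 := d1_1 D187871 F370461 F251606
theorem F371729 : act 3 n187871 = n185626 := d5_1 D187871 (iv4 D185626) (iv3 F158223) (iv4 D102924) (iv3 F293717)
theorem F371730 : act 6 n187871 = n185767 := d10_2 (iv6 F251607) D187871 (iv4 D185767)
theorem F371731 : act 7 n187871 = n187607 := d11_2 (iv7 F288417) D187871 F371003
theorem F371732 : act 0 n187606 = n187871 := d20_10 (iv4 D187871) F293716 (iv4 D92559) D92558 (iv1 F367240) (iv3 F370485) (iv4 F158220) F288645 F288644 (iv3 F370998)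
theorem F371733 : act 1 n187582 = n187871 := d15_0 (iv0 F371732) F371000 F370888
def n187872 : Q := act 4 n90626
theorem D187872 : act 4 n90626 = n187872 := rfl
theorem F371734 : act 6 n187872 = n159991 := d10_2 F371721 D187872 (iv4 F371722)
theorem F371735 : act 7 n187872 = n93953 := d11_2 (iv7 F139518) D187872 (iv4 D93953)
theorem F371736 : act 0 n187872 = n98702 := d18_2 (iv1 F238555) D187872 (iv4 D98702) (iv5 D46139) F34544 D22136 (iv4 F68923) D93805 (iv5 F238554)
def n187873 : Q := act 4 n90630
theorem D187873 : act 4 n90630 = n187873 := rfl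
theorem F371737 : act 0 n187873 = n185157 := d17_0 (iv5 D185157) F337972 (iv5 F362833) (iv4 D92588) (iv5 D43315) D43314 D92584 (iv0 F364371) D187873
def n187874 : Q := act 6 n90630
theorem D187874 : act 6 n90630 = n187874 := rfl
theorem F371738 : act 2 n187874 = n140835 := d3_1 D187874 (iv6 F364352) F143215
theorem F371739 : act 3 n187874 = n90632 := d7_1 D187874 (iv6 D90632) D90630
theorem F371740 : act 5 n187874 = n115858 := d12_1 D187874 F318761 (iv5 D90262) D90263 (iv5 F139542)
theorem F371741 : act 7 n140827 = n187874 := d13_0 F371740 F180372 D140827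
theorem F371742 : act 4 n91191 = n187874 := d5_0 F371739 F362677 F280917 D180509 F365135
theorem F371743 : act 6 n187873 = n91191 := d10_0 F371742 (iv6 D187874) D187873
def n187875 : Q := act 0 n90632
theorem D187875 : act 0 n90632 = n187875 := rfl
theorem F371744 : act 4 n187875 = n108742 := d20_8 (iv4 F98543) F98545 (iv4 F79562) (iv3 F168687) F325593 (iv3 F280917) (iv4 F362677) D187875 F168692 F79567
theorem F371745 : act 5 n187875 = n115024 := d21_2 (iv5 F139545) D187875 (iv6 D115024) (iv1 F206233) (iv6 D76304) (iv5 F76680) (iv1 F37037) D25640 D52819 F138833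
theorem F371746 : act 3 n115027 = n187875 := d6_3 F371745 F179120 D115027
def n187876 : Q := act 1 n90632
theorem D187876 : act 1 n90632 = n187876 := rfl
theorem F371747 : act 5 n159885 = n187876 := d21_6 (iv5 D47737) (iv1 F291872) D41308 F327756 (iv1 F317531) F352414 (iv1 D187876) F139545 (iv6 D90265) (iv1 F292196)
def n187877 : Q := act 3 n90633
theorem D187877 : act 3 n90633 = n187877 := rfl
theorem F371748 : act 5 n187877 = n103847 := d6_2 (iv5 F293726) D187877 (iv3 F351159)
theorem F371749 : act 6 n103767 = n187877 := d12_0 F371748 (iv6 D103847) (iv5 D48072) (iv6 F75500) D103767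
def n187878 : Q := act 6 n90633
theorem D187878 : act 6 n90633 = n187878 := rfl
theorem F371750 : act 3 n187878 = n103767 := d7_1 D187878 F371749 (iv3 D187877)
theorem F371751 : act 4 n187878 = n90634 := d10_1 D187878 (iv6 D90634) D90633
theorem F371752 : act 5 n187878 = n103766 := d12_1 D187878 F159195 D103843 F351158 (iv5 F293726)
def n187879 : Q := act 7 n90634
theorem D187879 : act 7 n90634 = n187879 := rfl
def n187880 : Q := act 6 n90635
theorem D187880 : act 6 n90635 = n187880 := rfl
theorem F371753 : act 4 n187880 = n100679 := d10_1 D187880 (iv6 D100679) (iv4 F291191)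
theorem F371754 : act 5 n187880 = n134818 := d12_1 D187880 (iv6 F358637) (iv5 F354674) (iv6 D100579) (iv5 F291192)
theorem F371755 : act 1 n108742 = n187880 := d17_6 (iv1 D86225) D86226 F325855 F324774 F80458 D108742 F371754 F216949 F323078
def n187881 : Q := act 6 n90636
theorem D187881 : act 6 n90636 = n187881 := rfl
theorem F371756 : act 3 n187881 = n107314 := d7_1 D187881 F339963 (iv3 F329842)
theorem F371757 : act 4 n187881 = n100687 := d10_1 D187881 (iv6 D100687) (iv4 F291188)
theorem F371758 : act 5 n187881 = n157168 := d12_1 D187881 F247339 F363665 (iv6 D100567) (iv5 F291189)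
def n187882 : Q := act 0 n90637
theorem D187882 : act 0 n90637 = n187882 := rfl
def n187883 : Q := act 1 n90637
theorem D187883 : act 1 n90637 = n187883 := rfl
def n187884 : Q := act 2 n90637
theorem D187884 : act 2 n90637 = n187884 := rfl
def n187885 : Q := act 5 n90637
theorem D187885 : act 5 n90637 = n187885 := rfl
theorem F371759 : act 3 n187885 = n90638 := d6_1 D187885 (iv5 D90638) D90637
def n187886 : Q := act 6 n90637
theorem D187886 : act 6 n90637 = n187886 := rfl
theorem F371760 : act 3 n187886 = n90639 := d7_1 D187886 (iv6 D90639) D90637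
def n187887 : Q := act 6 n90638
theorem D187887 : act 6 n90638 = n187887 := rfl
theorem F371761 : act 2 n187887 = n102187 := d3_1 D187887 F157070 (iv2 F293913)
theorem F371762 : act 4 n187887 = n90915 := d10_1 D187887 (iv6 D90915) F139552
theorem F371763 : act 7 n136431 = n187887 := d11_0 F371762 F329287 D136431
def n187888 : Q := act 0 n90639
theorem D187888 : act 0 n90639 = n187888 := rfl
def n187889 : Q := act 1 n90639
theorem D187889 : act 1 n90639 = n187889 := rfl
def n187890 : Q := act 5 n90639
theorem D187890 : act 5 n90639 = n187890 := rfl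
def n187891 : Q := act 7 n90639
theorem D187891 : act 7 n90639 = n187891 := rfl
theorem F371764 : act 4 n187891 = n90643 := d11_1 D187891 (iv7 D90643) (iv4 F139553)
def n187892 : Q := act 2 n90640
theorem D187892 : act 2 n90640 = n187892 := rfl
theorem F371765 : act 7 n90641 = n187892 := d15_2 (iv0 D90640) D90641 (iv2 D187892)
def n187893 : Q := act 3 n90640
theorem D187893 : act 3 n90640 = n187893 := rfl
theorem F371766 : act 6 n187893 = n134998 := d7_2 (iv6 F371605) D187893 (iv3 F371606)
theorem F371767 : act 4 n98101 = n187893 := d10_3 F371766 (iv4 D134998) (iv6 F329072)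
theorem F371768 : act 2 n187893 = n184734 := d1_1 F371767 F287204 (iv2 F151240)
theorem F371769 : act 7 n187893 = n98100 := d11_2 D98101 F371767 (iv4 D98100)
theorem F371770 : act 0 n187893 = n184731 := d18_2 (iv1 F151245) F371767 F287203 (iv5 F283426) F307361 F87799 (iv4 F87750) (iv0 F191865) F304531
theorem F371771 : act 1 n187893 = n184730 := d18_6 D86938 F307011 F190861 F304047 (iv5 F151242) F371767 F364049 (iv0 D182030) (iv5 D86940)
def n187894 : Q := act 4 n90640
theorem D187894 : act 4 n90640 = n187894 := rfl
theorem F371772 : act 3 n187894 = n108539 := d5_1 D187894 F329073 (iv3 F151241) F371767 (iv3 D187893)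
theorem F371773 : act 6 n187894 = n108537 := d10_2 (iv6 F371605) D187894 F371604
theorem F371774 : act 5 n92921 = n187894 := d12_5 F371773 (iv5 D108537) (iv6 F335710) (iv5 D92920) D92921
theorem F371775 : act 0 n90763 = n187894 := d21_4 D42465 D90715 F139619 D90763 F371773 (iv5 D108537) D108534 (iv5 F350373) (iv6 D90710) (iv1 D42463)
theorem F371776 : act 7 n187894 = n170725 := d13_2 (iv7 F354416) F371774 F364225
def n187895 : Q := act 5 n90640
theorem D187895 : act 5 n90640 = n187895 := rfl
theorem F371777 : act 0 n187895 = n133411 := d21_1 D187895 F214518 (iv6 D90601) (iv1 D42418) F31865 (iv5 D9446) D9444 D20032 D42435 D90640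
def n187896 : Q := act 7 n90640
theorem D187896 : act 7 n90640 = n187896 := rfl
theorem F371778 : act 2 n187896 = n90641 := d4_1 D187896 F371765 (iv2 D187892)
theorem F371779 : act 3 n187896 = n98100 := d8_1 D187896 (iv7 F371769) (iv3 D187893)
theorem F371780 : act 4 n187896 = n170725 := d11_1 D187896 (iv7 F371776) (iv4 D187894)
theorem F371781 : act 6 n98104 = n187896 := d7_0 F371779 F151239 D98104
def n187897 : Q := act 3 n90641
theorem D187897 : act 3 n90641 = n187897 := rfl
theorem F371782 : act 2 n187897 = n184732 := d0_1 D187897 (iv3 D184732) (iv2 F151238) (iv3 F371779) F371778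
def n187898 : Q := act 4 n90641
theorem D187898 : act 4 n90641 = n187898 := rfl
theorem F371783 : act 2 n187898 = n170725 := d1_1 D187898 (iv4 F371780) F371778
def n187899 : Q := act 5 n90641
theorem D187899 : act 5 n90641 = n187899 := rfl
theorem F371784 : act 0 n133411 = n187899 := d21_10 (iv5 D187899) (iv1 D90641) D90642 F139555 F65555 (iv6 F68912) (iv5 D43843) F65507 (iv5 F97664) D133411
def n187900 : Q := act 6 n90641
theorem D187900 : act 6 n90641 = n187900 := rfl
theorem F371785 : act 2 n187900 = n98104 := d3_1 D187900 F371781 F371778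
def n187901 : Q := act 0 n90642
theorem D187901 : act 0 n90642 = n187901 := rfl
def n187902 : Q := act 1 n90642
theorem D187902 : act 1 n90642 = n187902 := rfl
theorem F371786 : act 1 n187902 = n93971 := d15_1 D187902 (iv7 D93971) (iv2 F139554)
def n187903 : Q := act 4 n90642
theorem D187903 : act 4 n90642 = n187903 := rfl
theorem F371787 : act 2 n187903 = n93968 := d1_1 D187903 F144783 (iv2 F139554)
theorem F371788 : act 6 n187903 = n90644 := d10_2 (iv6 F139555) D187903 (iv4 D90644)
def n187904 : Q := act 7 n90642
theorem D187904 : act 7 n90642 = n187904 := rfl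
theorem F371789 : act 2 n187904 = n93971 := d4_1 D187904 (iv7 D93971) (iv2 F139554)
theorem F371790 : act 3 n187904 = n159990 := d8_1 D187904 F371724 F371720
theorem F371791 : act 5 n187904 = n90643 := d13_1 D187904 (iv7 D90643) D90642
theorem F371792 : act 6 n187904 = n93961 := d14_1 D187904 (iv7 D93961) (iv6 D43917) (iv7 F65925) (iv6 F139555)
theorem F371793 : act 1 n93971 = n187901 := d15_0 (iv0 D187901) D187904 F371789
theorem F371794 : act 1 n93970 = n187904 := d15_1 D93970 (iv7 D187904) F139554
theorem F371795 : act 1 n187904 = n93969 := d15_0 (iv0 D93969) D93971 (iv2 F371789)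
theorem F371796 : act 5 n187841 = n93969 := d21_0 (iv1 F371795) F371791 (iv6 F370727) (iv1 F370728) (iv6 F178485) (iv5 D114443) (iv1 F83457) F65506 D90601 D187841
def n187905 : Q := act 3 n90644
theorem D187905 : act 3 n90644 = n187905 := rfl
theorem F371797 : act 7 n187905 = n93956 := d8_2 (iv7 F139557) D187905 (iv3 D93956)
def n187906 : Q := act 6 n90653
theorem D187906 : act 6 n90653 = n187906 := rfl
theorem F371798 : act 2 n187906 = n90659 := d3_1 D187906 (iv6 D90659) (iv2 F139561)
theorem F371799 : act 3 n187906 = n103351 := d7_1 D187906 (iv6 D103351) F139564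
theorem F371800 : act 4 n187906 = n90655 := d10_1 D187906 (iv6 D90655) D90653
theorem F371801 : act 7 n187906 = n104298 := d14_2 (iv7 F139562) D187906 F367238 F158541 (iv6 D103304)
theorem F371802 : act 0 n187906 = n104297 := d21_4 F350541 F331318 F350543 D187906 F367171 (iv5 F360348) (iv1 D97424) (iv5 D45495) D45496 D97427
theorem F371803 : act 0 n95317 = n187906 := d21_4 D187201 (iv1 F369468) (iv5 D95316) D95317 (iv6 D187906) (iv5 F350543) (iv1 F331322) F345183 (iv6 F369460) (iv1 D187199)
def n187907 : Q := act 5 n90655
theorem D187907 : act 5 n90655 = n187907 := rfl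
theorem F371804 : act 2 n187907 = n90666 := d2_1 D187907 (iv5 D90666) (iv2 F139567)
theorem F371805 : act 3 n187907 = n127667 := d6_1 D187907 (iv5 F360908) (iv3 F157843)
theorem F371806 : act 0 n187907 = n93857 := d17_2 (iv1 F235288) D187907 (iv5 D93857) (iv4 F138034) D97163 F369887 F369884 (iv0 F178369) F158401
theorem F371807 : act 0 n93854 = n187907 := d21_1 D93854 (iv5 D187907) (iv6 D90655) F157739 (iv6 D34936) (iv5 D16943) (iv1 F27695) F27692 D20781 D43871
theorem F371808 : act 4 n187907 = n127670 := d18_1 F371807 F346185 F353131 (iv5 F178165) F142166 F149557 F149555 F114638 D93854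
theorem F371809 : act 7 n187907 = n164497 := d15_2 (iv0 F369501) (iv0 F371806) (iv2 F369498)
def n187908 : Q := act 7 n90655
theorem D187908 : act 7 n90655 = n187908 := rfl
theorem F371810 : act 2 n187908 = n90667 := d4_1 D187908 (iv7 D90667) (iv2 F139567)
theorem F371811 : act 3 n187908 = n102743 := d8_1 D187908 F291712 (iv3 F157843)
theorem F371812 : act 4 n187908 = n104298 := d11_1 D187908 (iv7 F371801) F371800
theorem F371813 : act 5 n187908 = n164497 := d13_1 D187908 (iv7 F371809) (iv5 D187907)
theorem F371814 : act 6 n187908 = n102957 := d14_1 D187908 F293646 (iv6 D149660) F157727 D90655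
theorem F371815 : act 1 n90665 = n187908 := d15_1 D90665 (iv7 D187908) F139567
theorem F371816 : act 1 n187908 = n90664 := d15_1 F371815 F251675 (iv2 F367162)
theorem F371817 : act 0 n92907 = n159843 := d21_4 (iv5 F331384) F331381 (iv5 D93801) F143279 (iv6 D159843) D159842 (iv1 F369499) (iv5 F371813) F371814 F293643
def n187909 : Q := act 1 n90659
theorem D187909 : act 1 n90659 = n187909 := rfl
theorem F371818 : act 1 n187909 = n104298 := d15_1 D187909 (iv7 F371801) F371798
theorem F371819 : act 7 n187909 = n104297 := d15_2 (iv0 F370168) D187909 (iv2 F370163)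
theorem F371820 : act 4 n92697 = n187909 := d20_0 (iv1 D187909) F139576 F65560 F290739 (iv3 F290751) (iv4 D19441) D19439 D41309 D88501 F161695
theorem F371821 : act 6 n92695 = n187909 := d21_3 (iv5 F369464) F347475 (iv5 F347473) (iv1 D187909) (iv6 D90659) D90658 F331302 (iv5 F370057) F370059 (iv1 F369718)
theorem F371822 : act 2 n187909 = n95317 := d3_1 F371821 (iv6 D95317) (iv2 F160269)
theorem F371823 : act 5 n187909 = n96978 := d21_6 (iv5 F70616) (iv1 F70619) (iv5 D44521) D44522 (iv1 F146954) F371821 (iv1 D96978) (iv5 D45336) (iv6 D21615) D21611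
def n187910 : Q := act 5 n90659
theorem D187910 : act 5 n90659 = n187910 := rfl
theorem F371824 : act 3 n187910 = n95674 := d6_1 D187910 F147364 (iv3 F139575)
theorem F371825 : act 7 n187910 = n104299 := d13_2 (iv7 F291702) D187910 (iv5 D104299)
def n187911 : Q := act 3 n90660
theorem D187911 : act 3 n90660 = n187911 := rfl
theorem F371826 : act 2 n187911 = n151351 := d0_1 D187911 (iv3 D151351) (iv2 F186665) F370680 (iv2 F370681)
def n187912 : Q := act 3 n90664
theorem D187912 : act 3 n90664 = n187912 := rfl
theorem F371827 : act 2 n187912 = n159722 := d0_1 D187912 F251648 (iv2 F251614) (iv3 F369334) F369333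
theorem F371828 : act 5 n187912 = n159720 := d6_2 (iv5 F193571) D187912 F251644
theorem F371829 : act 6 n187912 = n102918 := d7_2 (iv6 F350500) D187912 (iv3 D102918)
theorem F371830 : act 4 n187912 = n187700 := d20_6 (iv4 F68880) (iv1 F68882) F65564 (iv3 F65560) D90664 D187912 (iv1 D187700) (iv4 F290584) F139795 F68163
theorem F371831 : act 0 n187912 = n185052 := d20_10 (iv4 D185052) (iv1 D88204) (iv4 F135138) F135137 (iv1 F65432) D88508 F135505 D103804 F251680 D187912
def n187913 : Q := act 0 n90670
theorem D187913 : act 0 n90670 = n187913 := rfl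
def n187914 : Q := act 5 n90670
theorem D187914 : act 5 n90670 = n187914 := rfl
theorem F371832 : act 3 n187914 = n90671 := d6_1 D187914 (iv5 D90671) D90670
def n187915 : Q := act 6 n90670
theorem D187915 : act 6 n90670 = n187915 := rfl
theorem F371833 : act 3 n187915 = n90672 := d7_1 D187915 (iv6 D90672) D90670
theorem F371834 : act 4 n187915 = n107254 := d10_1 D187915 F165301 (iv4 F335538)
def n187916 : Q := act 6 n90671
theorem D187916 : act 6 n90671 = n187916 := rfl
theorem F371835 : act 4 n187916 = n90913 := d10_1 D187916 (iv6 D90913) (iv4 F139593)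
def n187917 : Q := act 0 n90672
theorem D187917 : act 0 n90672 = n187917 := rfl
theorem F371836 : act 4 n187917 = n187572 := d18_3 (iv1 D90674) (iv4 F139594) D187917 (iv5 F370845) F336778 F289949 D89424 D186963 (iv5 F368688)
theorem F371837 : act 6 n187917 = n140438 := d21_5 F291187 (iv1 F293920) (iv5 D90671) D90672 D187917 F228371 F181254 (iv5 F336079) (iv6 D90688) D90684
def n187918 : Q := act 1 n90672
theorem D187918 : act 1 n90672 = n187918 := rfl
def n187919 : Q := act 5 n90672
theorem D187919 : act 5 n90672 = n187919 := rfl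
def n187920 : Q := act 7 n90672
theorem D187920 : act 7 n90672 = n187920 := rfl
theorem F371838 : act 4 n187920 = n90676 := d11_1 D187920 (iv7 D90676) (iv4 F139594)
def n187921 : Q := act 4 n90673
theorem D187921 : act 4 n90673 = n187921 := rfl
def n187922 : Q := act 6 n90673
theorem D187922 : act 6 n90673 = n187922 := rfl
theorem F371839 : act 5 n187922 = n185880 := d21_6 F65178 (iv1 F31759) D20037 D42447 D90673 D187922 (iv1 D185880) F135578 (iv6 D42456) (iv1 F65181)
theorem F371840 : act 0 n140440 = n187922 := d17_0 F371839 (iv1 D185880) F135578 (iv4 F139606) F336079 (iv0 F181254) (iv5 F228371) (iv0 D140438) D140440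
def n187923 : Q := act 3 n90674
theorem D187923 : act 3 n90674 = n187923 := rfl
theorem F371841 : act 2 n187923 = n128129 := d0_1 D187923 F206225 (iv2 F251197) F251198 F178531
theorem F371842 : act 5 n187923 = n128051 := d6_2 (iv5 F368688) D187923 F368685
def n187924 : Q := act 4 n90674
theorem D187924 : act 4 n90674 = n187924 := rfl
def n187925 : Q := act 4 n90680
theorem D187925 : act 4 n90680 = n187925 := rfl
theorem F371843 : act 2 n187925 = n90681 := d1_1 D187925 (iv4 D90681) D90680
theorem F371844 : act 7 n187925 = n152050 := d11_2 F370748 D187925 (iv4 F370752)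
theorem F371845 : act 0 n100361 = n187925 := d20_7 (iv4 F345182) (iv1 F227016) (iv4 F339944) F144843 F69079 (iv3 F73970) D100361 (iv4 D187925) (iv3 F228242) (iv1 F228244)
theorem F371846 : act 3 n179717 = n187925 := d8_3 F371844 F318520 D179717
def n187926 : Q := act 5 n90680
theorem D187926 : act 5 n90680 = n187926 := rfl
theorem F371847 : act 2 n187926 = n90682 := d2_1 D187926 (iv5 D90682) D90680
theorem F371848 : act 3 n187926 = n159810 := d6_1 D187926 F251843 F228242
theorem F371849 : act 7 n187926 = n94289 := d13_2 F370748 D187926 (iv5 F370747)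
theorem F371850 : act 4 n187926 = n100450 := d17_4 F177369 D92765 (iv1 F157684) D187926 (iv5 D100450) (iv0 D46876) (iv5 D22516) D22515 (iv4 F65164)
theorem F371851 : act 0 n94294 = n187926 := d21_10 (iv5 D187926) F370697 (iv5 D187530) F177384 (iv1 D92600) (iv6 F135475) (iv5 F283734) (iv1 F283737) (iv5 D159752) (iv6 F288161)
theorem F371852 : act 1 n94295 = n187926 := d17_8 (iv1 F292010) F371703 (iv1 D187855) (iv5 D90618) (iv4 D42424) D42425 D90621 (iv5 F370712) F371850
theorem F371853 : act 0 n187861 = n159333 := d21_4 D187926 (iv1 F371852) F370712 D187861 (iv6 D159333) (iv5 F114182) F94172 F86493 (iv6 F143065) (iv1 F157684)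
theorem F371854 : act 1 n90682 = n93847 := d15_0 (iv0 F369307) (iv7 F371849) F371847
def n187927 : Q := act 6 n90680
theorem D187927 : act 6 n90680 = n187927 := rfl
theorem F371855 : act 2 n187927 = n90683 := d3_1 D187927 (iv6 D90683) D90680
def n187928 : Q := act 0 n90681
theorem D187928 : act 0 n90681 = n187928 := rfl
theorem F371856 : act 4 n187928 = n92951 := d18_3 F283726 D90681 D187928 (iv5 D92951) F68347 (iv0 F66350) (iv4 D42424) F177383 D90518
theorem F371857 : act 1 n152050 = n187928 := d15_0 (iv0 D187928) (iv7 F370754) F370753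
theorem F371858 : act 7 n100361 = n187928 := d11_0 F371856 F143359 D100361
def n187929 : Q := act 1 n90681
theorem D187929 : act 1 n90681 = n187929 := rfl
theorem F371859 : act 1 n187929 = n152050 := d15_1 D187929 (iv7 F371844) F371843
theorem F371860 : act 4 n100347 = n187929 := d20_6 (iv4 F138946) (iv1 F138949) F292307 (iv3 F74179) (iv1 F351317) (iv3 F154328) (iv1 D187929) (iv4 D90681) (iv3 D42453) (iv1 F65181)
theorem F371861 : act 2 n187929 = n100361 := d1_1 F371860 (iv4 D100361) (iv2 F154327)
theorem F371862 : act 6 n187929 = n160044 := d10_2 (iv6 F154329) F371860 (iv4 D160044)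
def n187930 : Q := act 3 n90681
theorem D187930 : act 3 n90681 = n187930 := rfl
theorem F371863 : act 2 n187930 = n179751 := d0_1 D187930 F279974 (iv2 F279925) F371846 F371843
theorem F371864 : act 4 n187930 = n90686 := d5_2 D90681 D187930 (iv3 D90686) (iv4 D42454) D42453
theorem F371865 : act 7 n187930 = n179733 := d8_2 F370754 D187930 F370756
theorem F371866 : act 0 n187930 = n179749 := d20_10 (iv4 F365258) (iv1 D100590) (iv4 F154512) (iv3 D100456) D100454 (iv3 F371372) (iv4 D187736) F283726 D90681 D187930
theorem F371867 : act 1 n187930 = n179748 := d15_0 (iv0 D179748) D179751 (iv2 F371863)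
theorem F371868 : act 4 n100589 = n179748 := d20_0 (iv1 F371867) F371864 (iv3 D90686) D90684 F345119 (iv4 D46917) (iv1 D22533) D22534 D46921 D100589
def n187931 : Q := act 5 n90681
theorem D187931 : act 5 n90681 = n187931 := rfl
def n187932 : Q := act 6 n90681
theorem D187932 : act 6 n90681 = n187932 := rfl
theorem F371869 : act 4 n187932 = n90683 := d10_1 D187932 (iv6 D90683) D90681
theorem F371870 : act 7 n187932 = n152052 := d14_2 F370754 D187932 (iv6 D152052) (iv7 F215396) F370757
def n187933 : Q := act 0 n90682
theorem D187933 : act 0 n90682 = n187933 := rfl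
theorem F371871 : act 5 n187933 = n187532 := d17_1 D187933 (iv1 F370704) (iv5 D90616) (iv4 F65530) D46872 (iv0 F292011) (iv5 D90828) D90826 F292005
theorem F371872 : act 6 n187933 = n187745 := d21_5 D92782 (iv1 F287623) (iv5 F283798) F283799 D187933 (iv5 D187745) (iv1 F183756) F183752 F139322 (iv1 F135462)
theorem F371873 : act 2 n94295 = n187933 := d15_3 (iv0 D187933) F371854 (iv7 F288162)
theorem F371874 : act 1 n94289 = n187933 := d15_0 (iv0 D187933) F139597 (iv2 F145423)
theorem F371875 : act 7 n187933 = n94294 := d15_2 (iv0 F369307) F371874 F288158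
def n187934 : Q := act 0 n90683
theorem D187934 : act 0 n90683 = n187934 := rfl
def n187935 : Q := act 1 n90683
theorem D187935 : act 1 n90683 = n187935 := rfl
def n187936 : Q := act 7 n90683
theorem D187936 : act 7 n90683 = n187936 := rfl
theorem F371876 : act 3 n187936 = n90691 := d8_1 D187936 (iv7 D90691) (iv3 F139598)
theorem F371877 : act 4 n187936 = n152052 := d11_1 D187936 (iv7 F371870) F371869
theorem F371878 : act 5 n187936 = n136958 := d13_1 D187936 (iv7 F363976) F288339
theorem F371879 : act 6 n187936 = n151678 := d14_1 D187936 F370762 (iv6 D187546) F138935 D90683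
def n187937 : Q := act 0 n90686
theorem D187937 : act 0 n90686 = n187937 := rfl
theorem F371880 : act 1 n179747 = n187937 := d15_0 (iv0 D187937) (iv7 F370766) F370763
def n187938 : Q := act 1 n90686
theorem D187938 : act 1 n90686 = n187938 := rfl
theorem F371881 : act 1 n187938 = n179747 := d15_1 D187938 F343116 (iv2 F364311)
theorem F371882 : act 3 n108495 = n187938 := d20_3 (iv4 F216938) (iv1 F370524) F370521 (iv1 D187938) (iv3 D90686) (iv4 D42454) (iv1 F65181) (iv4 F138946) F351311 (iv1 D134866)
def n187939 : Q := act 0 n90688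
theorem D187939 : act 0 n90688 = n187939 := rfl
theorem F371883 : act 5 n187939 = n115730 := d17_3 F181254 (iv5 F336079) D187939 (iv4 F228314) F228312 (iv0 F225614) (iv5 D142703) D142701 (iv4 F225602)
theorem F371884 : act 2 n106917 = n187939 := d2_3 F371883 F228317 (iv5 F225650)
theorem F371885 : act 7 n106918 = n187939 := d13_0 F371883 F228318 (iv5 F223615)
theorem F371886 : act 1 n106921 = n187939 := d17_6 (iv1 F165052) F228389 (iv1 D49182) (iv5 F37907) (iv4 F78113) (iv5 F164786) F371883 F180057 (iv4 F165047)
def n187940 : Q := act 1 n90688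
theorem D187940 : act 1 n90688 = n187940 := rfl
theorem F371887 : act 1 n187940 = n106921 := d15_1 D187940 (iv7 D106921) (iv2 F336077)
theorem F371888 : act 7 n187940 = n106917 := d15_2 (iv0 D187939) D187940 F371884
theorem F371889 : act 5 n187940 = n115729 := d17_7 D68145 F228319 (iv1 F78341) (iv5 D49598) (iv4 F78110) (iv5 F336079) D187940 (iv0 D115729) F84191
theorem F371890 : act 2 n106918 = n187940 := d2_3 F371889 F228320 (iv5 F223615)
theorem F371891 : act 3 n114329 = n187940 := d8_3 F371888 (iv3 F363663) (iv7 F205556)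
def n187941 : Q := act 7 n90688
theorem D187941 : act 7 n90688 = n187941 := rfl
theorem F371892 : act 2 n187941 = n106921 := d4_1 D187941 (iv7 D106921) (iv2 F336077)
theorem F371893 : act 3 n187941 = n109202 := d8_1 D187941 (iv7 F216765) (iv3 F336078)
theorem F371894 : act 4 n187941 = n90691 := d11_1 D187941 (iv7 D90691) (iv4 F139606)
theorem F371895 : act 5 n187941 = n106903 := d13_1 D187941 F164773 (iv5 F336079)
theorem F371896 : act 1 n106918 = n187941 := d15_1 D106918 (iv7 D187941) F336077
theorem F371897 : act 1 n187941 = n106917 := d15_1 F371896 (iv7 F371888) (iv2 F371890)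
def n187942 : Q := act 2 n90689
theorem D187942 : act 2 n90689 = n187942 := rfl
theorem F371898 : act 7 n90690 = n187942 := d15_2 (iv0 D90689) D90690 (iv2 D187942)
def n187943 : Q := act 3 n90689
theorem D187943 : act 3 n90689 = n187943 := rfl
def n187944 : Q := act 4 n90689
theorem D187944 : act 4 n90689 = n187944 := rfl
theorem F371899 : act 5 n187944 = n140489 := d18_4 (iv1 D187940) F139606 D90689 D187944 F223655 F165052 F165047 F180052 (iv5 F371889)
theorem F371900 : act 3 n187944 = n120471 := d20_3 F139606 D90689 D187944 (iv1 F349749) F345312 F331525 (iv1 F112700) (iv4 F178303) F371891 (iv1 D187940)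
theorem F371901 : act 4 n187943 = n120437 := d5_2 (iv4 D187944) D187943 F191882 D120471 (iv3 F371900)
theorem F371902 : act 6 n120450 = n187943 := d10_0 F371901 F191883 D120450
theorem F371903 : act 6 n120503 = n187944 := d7_0 F371900 F191913 D120503
def n187945 : Q := act 5 n90689
theorem D187945 : act 5 n90689 = n187945 := rfl
theorem F371904 : act 0 n187945 = n133522 := d17_2 D90689 D187945 F363675 F363673 (iv5 D115732) D115730 (iv5 F371883) (iv0 D187939) F139606
def n187946 : Q := act 6 n90689
theorem D187946 : act 6 n90689 = n187946 := rfl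
theorem F371905 : act 3 n187946 = n120450 := d7_1 D187946 F371902 (iv3 D187943)
theorem F371906 : act 4 n187946 = n120503 := d10_1 D187946 F371903 (iv4 D187944)
theorem F371907 : act 5 n187946 = n93970 := d21_6 (iv5 D46947) (iv1 F293196) (iv5 D42455) D42456 D90689 D187946 (iv1 D93970) (iv5 F138914) (iv6 D90305) F292728
def n187947 : Q := act 7 n90689
theorem D187947 : act 7 n90689 = n187947 := rfl
theorem F371908 : act 2 n187947 = n90690 := d4_1 D187947 F371898 (iv2 D187942)
def n187948 : Q := act 3 n90690
theorem D187948 : act 3 n90690 = n187948 := rfl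
theorem F371909 : act 4 n111605 = n187948 := d19_2 D51474 D111605 (iv3 D187948) (iv1 D90690) (iv5 F135578) (iv4 F336035) F163561 F77624 (iv5 D28239) (iv4 D13481) (iv3 F22615) F41233 F41230 F22222 (iv3 F37117) (iv1 F49310) F49308 (iv4 D25018) D25017
def n187949 : Q := act 4 n90690
theorem D187949 : act 4 n90690 = n187949 := rfl
theorem F371910 : act 5 n187949 = n140555 := d18_4 (iv1 F371886) (iv4 F370740) (iv1 F370744) D187949 F223696 (iv0 D68145) (iv4 F84191) D115730 (iv5 F371883)
theorem F371911 : act 1 n187949 = n140575 := d18_8 (iv1 F336130) F165393 F336124 (iv4 F78110) (iv5 F336079) F139606 D90690 D187949 F223711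
theorem F371912 : act 1 n90707 = n187949 := d15_0 F371911 F370789 F370785
def n187950 : Q := act 5 n90690
theorem D187950 : act 5 n90690 = n187950 := rfl
theorem F371913 : act 1 n187950 = n133522 := d17_8 F336049 (iv5 F323657) (iv1 D106397) D106399 F336035 F135578 D90690 D187950 F214723
theorem F371914 : act 6 n187950 = n133246 := d21_3 (iv5 F370741) (iv1 F370744) D187950 (iv1 F214104) (iv6 F319944) F143123 (iv1 F68254) D90568 (iv6 F288344) (iv1 F288351)
def n187951 : Q := act 6 n90690
theorem D187951 : act 6 n90690 = n187951 := rfl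
def n187952 : Q := act 4 n90694
theorem D187952 : act 4 n90694 = n187952 := rfl
theorem F371915 : act 2 n187952 = n90695 := d1_1 D187952 (iv4 D90695) D90694
theorem F371916 : act 3 n187952 = n153776 := d5_1 D187952 F342486 (iv3 F318520) (iv4 F370752) F370746
theorem F371917 : act 7 n187952 = n106994 := d11_2 F228243 D187952 (iv4 F335541)
theorem F371918 : act 5 n187952 = n106995 := d16_1 D187952 F164910 (iv5 F100078) (iv4 F219902) F345191 F294335 (iv5 F345187) F138929 D90694
theorem F371919 : act 0 n187952 = n107464 := d17_0 (iv5 D107464) F111358 (iv5 F165071) (iv4 F335540) (iv5 D90302) F157742 (iv5 F83506) (iv0 F362340) D187952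
theorem F371920 : act 1 n187952 = n107467 := d18_8 F111356 F45370 D28086 (iv4 F111182) D110983 F339957 (iv0 F362340) D187952 (iv5 D107467)
theorem F371921 : act 6 n179712 = n187952 := d7_0 F371916 F342487 D179712
theorem F371922 : act 6 n145322 = n124154 := d12_4 F371921 F371918 (iv6 F176530) (iv5 F228359) F366892
theorem F371923 : act 3 n124155 = n145322 := d7_3 F371922 (iv3 D124154) D124155
def n187953 : Q := act 5 n90694
theorem D187953 : act 5 n90694 = n187953 := rfl
theorem F371924 : act 2 n187953 = n90696 := d2_1 D187953 (iv5 D90696) D90694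
theorem F371925 : act 3 n187953 = n94289 := d6_1 D187953 (iv5 F370747) F370746
theorem F371926 : act 4 n187953 = n97422 := d9_1 D187953 F331261 F99427 (iv5 F53493) (iv4 F92848) D125496 (iv4 F345193) F345187 (iv4 F294335) (iv5 F345191) F219902 F100078 (iv4 F164910) (iv5 F371918) (iv4 D187952)
theorem F371927 : act 7 n187953 = n159810 := d13_2 F228243 D187953 F251843
theorem F371928 : act 0 n187953 = n94260 := d17_2 (iv1 F362341) D187953 (iv5 F157813) F335544 F165776 (iv0 F345171) F294312 (iv0 F362342) F339954
theorem F371929 : act 1 n187953 = n144264 := d17_6 D107097 (iv5 F201798) F201800 (iv5 F371918) (iv4 D187952) D187953 F350467 (iv0 D90660) (iv4 F335536)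
theorem F371930 : act 6 n187953 = n92330 := d21_3 (iv5 F228246) (iv1 F362341) D187953 F294538 F157581 D93927 F157806 (iv5 F135606) F135607 F157741
def n187954 : Q := act 6 n90694
theorem D187954 : act 6 n90694 = n187954 := rfl
theorem F371931 : act 2 n187954 = n90697 := d3_1 D187954 (iv6 D90697) D90694
theorem F371932 : act 3 n187954 = n151683 := d7_1 D187954 F370751 F370746
theorem F371933 : act 4 n187954 = n179712 := d10_1 D187954 F371921 (iv4 D187952)
theorem F371934 : act 5 n187954 = n151682 := d12_1 D187954 F369392 F369388 (iv6 F371930) (iv5 D187953)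
theorem F371935 : act 0 n114506 = n187954 := d21_4 (iv5 D115027) (iv1 F178563) (iv5 D114505) D114506 (iv6 D187954) D187953 F371928 (iv5 F157813) (iv6 F157811) (iv1 F179127)
def n187955 : Q := act 6 n90695
theorem D187955 : act 6 n90695 = n187955 := rfl
theorem F371936 : act 2 n187955 = n179712 := d3_1 D187955 F371921 F371915
theorem F371937 : act 3 n187955 = n108691 := d7_1 D187955 (iv6 F345417) F351191
theorem F371938 : act 4 n187955 = n90697 := d10_1 D187955 (iv6 D90697) D90695
theorem F371939 : act 7 n187955 = n108683 := d14_2 F345195 D187955 (iv6 D108683) (iv7 F164794) (iv6 F356665)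
def n187956 : Q := act 1 n90696
theorem D187956 : act 1 n90696 = n187956 := rfl
theorem F371940 : act 1 n187956 = n159810 := d15_1 D187956 (iv7 F371927) F371924
theorem F371941 : act 7 n187956 = n94260 := d15_2 (iv0 F345181) D187956 F145389
theorem F371942 : act 5 n187956 = n187524 := d17_7 D126164 F202863 (iv1 F201848) F339955 (iv4 D90695) D90696 D187956 F370677 F335535
theorem F371943 : act 4 n187956 = n144027 := d17_9 (iv1 D144027) (iv5 D67476) F101184 F296079 F75435 (iv5 F104223) F157293 D90696 D187956
theorem F371944 : act 6 n159805 = n187956 := d21_3 (iv5 F76627) D105317 (iv5 F251827) (iv1 D187956) (iv6 F293639) (iv5 F137621) (iv1 F369325) (iv5 D187170) F350505 (iv1 D92797)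
theorem F371945 : act 2 n187956 = n144264 := d3_1 F371944 F350468 F251941
def n187957 : Q := act 0 n90697
theorem D187957 : act 0 n90697 = n187957 := rfl
def n187958 : Q := act 7 n90697
theorem D187958 : act 7 n90697 = n187958 := rfl
theorem F371946 : act 3 n187958 = n90704 := d8_1 D187958 (iv7 D90704) (iv3 F139610)
theorem F371947 : act 4 n187958 = n108683 := d11_1 D187958 (iv7 F371939) F371938
theorem F371948 : act 6 n187958 = n108682 := d14_1 D187958 F370736 (iv6 D187540) F138929 D90697
theorem F371949 : act 1 n114506 = n187958 := d15_1 (iv0 F371935) (iv7 D187958) (iv2 F371931)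
def n187959 : Q := act 6 n90698
theorem D187959 : act 6 n90698 = n187959 := rfl
theorem F371950 : act 2 n187959 = n108874 := d3_1 D187959 F343112 (iv2 F351185)
theorem F371951 : act 3 n187959 = n90700 := d7_1 D187959 (iv6 D90700) D90698
theorem F371952 : act 4 n187959 = n108691 := d10_1 D187959 (iv6 F345417) (iv4 F351186)
theorem F371953 : act 7 n187959 = n106932 := d14_2 (iv7 F351188) D187959 (iv6 D106932) (iv7 D49401) D49400
theorem F371954 : act 0 n108621 = n187959 := d21_4 F79680 F49297 D50153 D108621 (iv6 D187959) F351187 (iv1 F167926) F351283 (iv6 D50328) (iv1 F79678)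
theorem F371955 : act 1 n108877 = n187959 := d15_1 (iv0 F364228) F371953 F164797
def n187960 : Q := act 6 n90699
theorem D187960 : act 6 n90699 = n187960 := rfl
theorem F371956 : act 2 n187960 = n101181 := d3_1 D187960 (iv6 D101181) (iv2 F294246)
theorem F371957 : act 4 n187960 = n90879 := d10_1 D187960 (iv6 D90879) (iv4 F139611)
def n187961 : Q := act 0 n90700
theorem D187961 : act 0 n90700 = n187961 := rfl
def n187962 : Q := act 1 n90700
theorem D187962 : act 1 n90700 = n187962 := rfl
def n187963 : Q := act 5 n90700
theorem D187963 : act 5 n90700 = n187963 := rfl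
def n187964 : Q := act 7 n90700
theorem D187964 : act 7 n90700 = n187964 := rfl
theorem F371958 : act 3 n187964 = n106932 := d8_1 D187964 (iv7 F371953) F371951
theorem F371959 : act 4 n187964 = n90704 := d11_1 D187964 (iv7 D90704) (iv4 F139612)
theorem F371960 : act 6 n187964 = n106921 := d14_1 D187964 (iv7 D106921) (iv6 F332992) F138931 D90700
def n187965 : Q := act 2 n90701
theorem D187965 : act 2 n90701 = n187965 := rfl
theorem F371961 : act 7 n90702 = n187965 := d15_2 (iv0 D90701) D90702 (iv2 D187965)
def n187966 : Q := act 3 n90701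
theorem D187966 : act 3 n90701 = n187966 := rfl
def n187967 : Q := act 4 n90701
theorem D187967 : act 4 n90701 = n187967 := rfl
def n187968 : Q := act 5 n90701
theorem D187968 : act 5 n90701 = n187968 := rfl
theorem F371962 : act 0 n94272 = n187968 := d21_10 (iv5 D187968) (iv1 F370779) F370775 (iv6 F369384) (iv1 F369385) (iv6 F164384) F164382 (iv1 D49297) (iv5 F82966) D94272
theorem F371963 : act 3 n187967 = n156320 := d19_3 F371962 (iv5 D187968) D187967 (iv1 F245658) F222382 F314330 (iv3 F314329) (iv1 F53808) (iv5 F312959) (iv4 F94751) (iv3 F206170) F312939 (iv5 D62373) D62372 F213163 D106833 (iv5 F325496) F164222 (iv3 F145402)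
theorem F371964 : act 2 n108432 = n187967 := d0_5 F371963 F245653 F111571 (iv2 F79257) (iv3 F167643)
theorem F371965 : act 5 n108431 = n187967 := d6_0 F371963 (iv5 D156320) (iv3 F167642)
theorem E103297 : n187965 = n187549 := (c1_4 F370771 F371964 (iv4 D187967) D187965)
theorem F371966 : act 2 n187549 = n90701 := (sb E103297 (iv2 D187965))
theorem F371967 : act 7 n187549 = n90702 := (sb E103297 (iv7 F371961))
theorem F371968 : act 4 n90702 = n108527 := d11_1 F371967 F167797 (iv4 F370771)
theorem F371969 : act 2 n90702 = n187550 := d15_3 F370772 F370777 F371967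
theorem F371970 : act 7 n90701 = n187550 := d4_2 (iv7 F371967) F371966 (iv2 F371969)
theorem F371971 : act 3 n134910 = n90702 := d5_5 F371968 F167796 F79351 (iv3 F98713) D134910
theorem F371972 : act 0 n108527 = n90710 := d18_2 (iv1 F370778) F371968 F293369 F74182 (iv4 F136175) D186426 (iv4 F369399) F369398 (iv5 F370775)
theorem F371973 : act 1 n187967 = n90710 := d15_0 (iv0 F371972) F167797 F371964
theorem F371974 : act 6 n90702 = n187835 := d7_2 F332720 F371971 (iv3 F371662)
theorem F371975 : act 6 n114472 = n187550 := d3_2 F371974 F371664 (iv2 F371969)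
def n187969 : Q := act 6 n90701
theorem D187969 : act 6 n90701 = n187969 := rfl
def n187970 : Q := act 5 n90702
theorem D187970 : act 5 n90702 = n187970 := rfl
theorem F371976 : act 0 n187970 = n94272 := d21_7 (iv5 D114444) (iv1 D52821) (iv5 F65502) D90599 D187835 (iv6 F371974) D187970 (iv5 F237969) (iv6 D151235) (iv1 F178488)
theorem F371977 : act 0 n151690 = n187970 := d19_0 (iv5 D187970) F371968 F167796 F79353 (iv5 D29945) (iv4 D14222) F11026 D12010 F19864 F19191 F18316 (iv1 F18319) D11376 (iv4 F23477) (iv3 F37985) D49683 (iv5 F78513) D71484 D151690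
theorem F371978 : act 6 n94342 = n187970 := d21_5 (iv5 D19717) D19714 (iv5 F291591) D44097 D94342 (iv5 D187970) (iv1 D90702) (iv5 F292647) (iv6 D89688) (iv1 D41887)
def n187971 : Q := act 0 n90705
theorem D187971 : act 0 n90705 = n187971 := rfl
theorem F371979 : act 2 n114348 = n187971 := d15_3 (iv0 D187971) (iv0 F365814) F178589
def n187972 : Q := act 2 n90705
theorem D187972 : act 2 n90705 = n187972 := rfl
theorem F371980 : act 3 n187972 = n140574 := d0_2 D90705 D187972 F370784 (iv3 D187552) (iv2 F139151)
theorem F371981 : act 5 n187972 = n100591 := d2_2 (iv5 F293363) D187972 (iv2 D100591)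
theorem F371982 : act 6 n140572 = n187972 := d7_0 F371980 (iv6 D140574) D140572
def n187973 : Q := act 4 n90705
theorem D187973 : act 4 n90705 = n187973 := rfl
def n187974 : Q := act 6 n90705
theorem D187974 : act 6 n90705 = n187974 := rfl
theorem F371983 : act 2 n187974 = n140572 := d3_1 D187974 F371982 (iv2 D187972)
theorem F371984 : act 3 n187974 = n90707 := d7_1 D187974 (iv6 D90707) D90705
theorem F371985 : act 5 n141872 = n187974 := d2_0 F371983 F223710 D141872
def n187975 : Q := act 0 n90707
theorem D187975 : act 0 n90707 = n187975 := rfl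
def n187976 : Q := act 5 n90707
theorem D187976 : act 5 n90707 = n187976 := rfl
theorem F371986 : act 2 n187976 = n107331 := d2_1 D187976 (iv5 F370788) F370785
theorem F371987 : act 3 n187976 = n141872 := d6_1 D187976 F371985 F371984
theorem F371988 : act 6 n187976 = n100514 := d12_2 D90707 D187976 (iv5 D100514) F74095 F293364
theorem F371989 : act 0 n187976 = n107321 := d20_10 (iv4 D107321) (iv1 F336118) (iv4 F78113) F78112 (iv1 F48052) D63314 F98540 D105591 F224917 (iv3 F371987)
theorem E103298 : n187975 = n187944 := ((c18_8 F371989 (iv4 D107321) (iv1 F336118) (iv4 F78113) (iv5 F164786) (iv4 F370740) F370745 D187944 (iv0 D187975) D187976)).symm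
theorem F371990 : act 1 n187944 = n90707 := (sb E103298 (iv0 D187975))
theorem F371991 : act 1 n187976 = n107335 := d15_1 (iv0 F371989) (iv7 D107335) (iv2 F165381)
theorem F371992 : act 7 n187976 = n107330 := d15_2 (iv0 F336122) (iv0 F371989) (iv2 F165406)
theorem F371993 : act 4 n142702 = n187976 := d11_3 F371992 F165389 (iv7 F225610)
theorem F371994 : act 1 n187634 = n130940 := d18_6 (iv1 F164774) D106911 (iv1 F225611) F371993 (iv5 D187976) (iv4 F371064) F336038 F371896 F371895
def n187977 : Q := act 7 n90707
theorem D187977 : act 7 n90707 = n187977 := rfl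
theorem F371995 : act 2 n187977 = n140575 := d4_1 D187977 F370789 F370785
theorem F371996 : act 5 n187977 = n107330 := d13_1 D187977 (iv7 F371992) (iv5 D187976)
theorem F371997 : act 1 n140575 = n187944 := d15_0 F371990 D187977 F371995
def n187978 : Q := act 0 n90708
theorem D187978 : act 0 n90708 = n187978 := rfl
theorem F371998 : act 3 n187978 = n140606 := d20_5 (iv4 D90736) (iv1 F291451) (iv4 F292307) D90708 D187978 F351126 (iv1 F345205) F164796 (iv3 F332991) (iv1 F139668)
theorem F371999 : act 4 n187978 = n152571 := d20_0 (iv1 D152571) F108454 (iv3 D60024) D60022 (iv3 F327161) (iv4 D90736) (iv1 F291451) (iv4 F292307) D90708 D187978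
theorem F372000 : act 2 n103847 = n187978 := d15_3 (iv0 D187978) (iv0 F362363) (iv7 F351161)
theorem F372001 : act 1 n140574 = n187978 := d15_0 (iv0 D187978) (iv7 F370781) (iv2 F370784)
theorem F372002 : act 6 n99892 = n187978 := d21_3 F345146 F147702 (iv5 F294722) (iv1 F372001) (iv6 D140574) F180140 (iv1 F84425) D116092 F331052 (iv1 F140503)
theorem E103299 : n152571 = n99893 := (c10_2 F372002 F371999 (iv6 D99893) D99892)
theorem F372003 : act 0 n99893 = n71955 := (sb E103299 (iv1 D152571))
theorem F372004 : act 4 n99893 = n187978 := (sb E103299 (iv4 F371999))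
def n187979 : Q := act 2 n90708
theorem D187979 : act 2 n90708 = n187979 := rfl
theorem F372005 : act 5 n187979 = n153786 := d2_2 (iv5 F345137) D187979 (iv2 F345139)
theorem F372006 : act 7 n187979 = n140574 := d4_2 F370781 D187979 F370784
theorem F372007 : act 1 n100586 = n140574 := d15_1 (iv0 F362363) (iv7 F372006) (iv2 D187979)
theorem F372008 : act 1 n103847 = n187979 := d15_1 (iv0 F370782) F372006 F370784
theorem F372009 : act 0 n103767 = n153757 := d21_4 (iv5 F372005) (iv1 F372008) (iv5 F371748) (iv6 F371749) (iv6 D153757) (iv5 D72742) (iv1 D33563) D33565 D72752 D153786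
def n187980 : Q := act 4 n90708
theorem D187980 : act 4 n90708 = n187980 := rfl
theorem F372010 : act 3 n187980 = n100705 := d5_1 D187980 (iv4 D100705) F74179 (iv4 F292307) D90708
theorem F372011 : act 0 n187980 = n104191 := d20_1 D187980 (iv4 F286567) (iv3 F370509) (iv1 F167928) F351189 F139611 F293224 (iv4 F74131) D100586 F362363
theorem F372012 : act 1 n187980 = n184098 := d15_1 (iv0 F372011) (iv7 D184098) (iv2 F159724)
theorem F372013 : act 2 n184097 = n187980 := d0_5 F372010 F367392 F219667 (iv2 F218622) (iv3 F359644)
theorem F372014 : act 4 n187979 = n184097 := d1_0 F372013 (iv4 D187980) D187979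
def n187981 : Q := act 6 n90708
theorem D187981 : act 6 n90708 = n187981 := rfl
theorem F372015 : act 3 n187981 = n90710 := d7_1 D187981 (iv6 D90710) D90708
theorem F372016 : act 5 n187981 = n136549 := d12_1 D187981 F338934 D137670 (iv6 F350372) (iv5 F345137)
theorem F372017 : act 7 n187981 = n140577 := d14_2 F370781 D187981 (iv6 D140577) F180361 (iv6 F370783)
def n187982 : Q := act 7 n90710
theorem D187982 : act 7 n90710 = n187982 := rfl
theorem F372018 : act 3 n187982 = n140577 := d8_1 D187982 (iv7 F372017) F372015
theorem F372019 : act 4 n187982 = n100717 := d11_1 D187982 (iv7 D100717) (iv4 F293369)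
theorem F372020 : act 5 n187982 = n108442 := d13_1 D187982 F364389 (iv5 F350373)
theorem F372021 : act 6 n187982 = n140575 := d14_1 D187982 F370789 (iv6 D187553) F139152 D90710
theorem F372022 : act 0 n108432 = n187982 := d18_2 D187549 F370771 F372019 F154821 (iv4 F289223) F289227 (iv4 F368656) (iv0 D94306) (iv5 F138939)
def n187983 : Q := act 4 n90711
theorem D187983 : act 4 n90711 = n187983 := rfl
theorem F372023 : act 3 n187983 = n111286 := d5_1 D187983 F172638 (iv3 F329788) (iv4 F139616) (iv3 F345136)
theorem F372024 : act 6 n187983 = n111284 := d10_2 (iv6 F350372) D187983 (iv4 F220837)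
theorem F372025 : act 0 n154777 = n187983 := d21_4 (iv5 D128031) (iv1 F185877) F185875 D154777 F372024 (iv5 D111284) D111281 (iv5 F219137) (iv6 F350053) F231727
theorem F372026 : act 3 n101172 = n114365 := d20_5 F74131 (iv1 D22670) D22671 D47121 D101172 F363662 F372025 (iv4 D187983) F345136 F293365
theorem F372027 : act 5 n154752 = n187983 := d6_0 F372023 (iv5 F345068) F366521
theorem F372028 : act 0 n187983 = n128039 := d20_4 (iv4 F345078) (iv1 D139334) (iv4 F172638) (iv3 F372023) F206037 D128042 F206046 (iv4 F185892) F319261 D138773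
theorem F372029 : act 3 n114364 = n134747 := d20_3 D187983 F372028 (iv4 F206038) (iv1 F351184) (iv3 D90698) (iv4 D42459) (iv1 D20040) D20041 D42464 D90711
theorem F372030 : act 6 n170860 = n114364 := d7_0 F372029 F351287 (iv3 F268469)
def n187984 : Q := act 4 n90712
theorem D187984 : act 4 n90712 = n187984 := rfl
theorem F372031 : act 0 n128039 = n187984 := d20_10 (iv4 D187984) (iv1 D90712) (iv4 F68329) (iv3 D43473) D43471 D92916 F339950 (iv1 F206047) (iv4 D128042) (iv3 F206037)
theorem F372032 : act 0 n100591 = n114355 := d20_4 F206038 F372031 (iv4 D187984) (iv3 F362365) (iv3 D114355) (iv4 D52774) (iv1 D25617) D25618 D52778 D114364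
theorem F372033 : act 5 n154751 = n187984 := d19_17 F372032 F178323 F178308 (iv3 D76292) (iv1 F114201) F114200 (iv4 D76223) (iv3 F87370) D119994 F189430 (iv4 D68082) (iv3 F84990) (iv1 F84994) (iv5 F86062) (iv4 F86064) D73387 D154751 (iv4 D187984) (iv3 F362365)
def n187985 : Q := act 1 n90713
theorem D187985 : act 1 n90713 = n187985 := rfl
theorem F372034 : act 1 n187985 = n109088 := d15_1 D187985 (iv7 F331132) F241574
theorem F372035 : act 2 n90816 = n187985 := d15_3 F372034 (iv0 F370819) F370818
def n187986 : Q := act 4 n90713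
theorem D187986 : act 4 n90713 = n187986 := rfl
theorem F372036 : act 3 n187986 = n100641 := d5_1 D187986 (iv4 D100641) F74158 (iv4 F294350) (iv3 F139617)
def n187987 : Q := act 6 n90714
theorem D187987 : act 6 n90714 = n187987 := rfl
theorem F372037 : act 2 n187987 = n109091 := d3_1 D187987 F365129 F241644
theorem F372038 : act 3 n187987 = n90718 := d7_1 D187987 (iv6 D90718) (iv3 F139618)
theorem F372039 : act 5 n187987 = n109084 := d12_1 D187987 (iv6 D109084) D109083 F370866 F370862
def n187988 : Q := act 3 n90715
theorem D187988 : act 3 n90715 = n187988 := rfl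
theorem F372040 : act 5 n187988 = n90762 := d6_2 (iv5 F139619) D187988 (iv3 D90762)
theorem F372041 : act 0 n127801 = n187988 := d20_4 (iv4 D52466) (iv1 F46026) D60015 D127801 (iv3 D187988) F139620 (iv1 F293356) D46902 (iv3 F327160) (iv1 F82837)
def n187989 : Q := act 6 n90715
theorem D187989 : act 6 n90715 = n187989 := rfl
theorem F372042 : act 4 n187989 = n90830 := d10_1 D187989 (iv6 D90830) (iv4 F139620)
def n187990 : Q := act 3 n90716
theorem D187990 : act 3 n90716 = n187990 := rfl
theorem F372043 : act 5 n187990 = n90816 := d6_2 (iv5 F139623) D187990 (iv3 D90816)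
def n187991 : Q := act 6 n90716
theorem D187991 : act 6 n90716 = n187991 := rfl
theorem F372044 : act 4 n187991 = n90786 := d10_1 D187991 (iv6 D90786) (iv4 F139624)
def n187992 : Q := act 0 n90717
theorem D187992 : act 0 n90717 = n187992 := rfl
def n187993 : Q := act 1 n90717
theorem D187993 : act 1 n90717 = n187993 := rfl
theorem F372045 : act 1 n187993 = n109054 := d15_1 D187993 F331082 (iv2 F295004)
def n187994 : Q := act 7 n90717
theorem D187994 : act 7 n90717 = n187994 := rfl
theorem F372046 : act 2 n187994 = n109054 := d4_1 D187994 F331082 (iv2 F295004)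
theorem F372047 : act 4 n187994 = n100649 := d11_1 D187994 (iv7 D100649) (iv4 F295005)
theorem F372048 : act 6 n187994 = n109045 := d14_1 D187994 (iv7 F370871) (iv6 D187578) (iv7 F139065) D90717
theorem F372049 : act 1 n109054 = n187992 := d15_0 (iv0 D187992) D187994 F372046
def n187995 : Q := act 0 n90718
theorem D187995 : act 0 n90718 = n187995 := rfl
def n187996 : Q := act 1 n90718
theorem D187996 : act 1 n90718 = n187996 := rfl
def n187997 : Q := act 5 n90718
theorem D187997 : act 5 n90718 = n187997 := rfl
theorem F372050 : act 2 n187997 = n108662 := d2_1 D187997 (iv5 F370799) F370796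
theorem F372051 : act 3 n187997 = n109084 := d6_1 D187997 (iv5 F372039) F372038
theorem F372052 : act 6 n187997 = n108660 := d12_2 D90718 D187997 F370870 (iv6 D187578) F139064
def n187998 : Q := act 2 n90719
theorem D187998 : act 2 n90719 = n187998 := rfl
theorem F372053 : act 7 n90720 = n187998 := d15_2 (iv0 D90719) D90720 (iv2 D187998)
def n187999 : Q := act 3 n90719
theorem D187999 : act 3 n90719 = n187999 := rfl
def n188000 : Q := act 4 n90719
theorem D188000 : act 4 n90719 = n188000 := rfl
def n188001 : Q := act 5 n90719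
theorem D188001 : act 5 n90719 = n188001 := rfl
def n188002 : Q := act 6 n90719
theorem D188002 : act 6 n90719 = n188002 := rfl
theorem F372054 : act 5 n188002 = n187763 := d21_6 (iv5 D42211) (iv1 F31758) (iv5 F31869) D42467 D90719 D188002 (iv1 D187763) (iv5 F367157) (iv6 D100669) (iv1 F292729)
def n188003 : Q := act 7 n90719
theorem D188003 : act 7 n90719 = n188003 := rfl
theorem F372055 : act 2 n188003 = n90720 := d4_1 D188003 F372053 (iv2 D187998)
def n188004 : Q := act 3 n90720
theorem D188004 : act 3 n90720 = n188004 := rfl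
def n188005 : Q := act 4 n90720
theorem D188005 : act 4 n90720 = n188005 := rfl
def n188006 : Q := act 5 n90720
theorem D188006 : act 5 n90720 = n188006 := rfl
def n188007 : Q := act 6 n90720
theorem D188007 : act 6 n90720 = n188007 := rfl
theorem F372056 : act 5 n188007 = n102006 := d21_6 (iv5 D42410) (iv1 F65158) (iv5 F138891) D187523 (iv1 F370675) D188007 (iv1 F335754) (iv5 F178532) (iv6 D114477) (iv1 F114353)
theorem F372057 : act 7 n186964 = n188007 := d13_0 F372056 F156960 D186964
def n188008 : Q := act 3 n90722
theorem D188008 : act 3 n90722 = n188008 := rfl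
theorem F372058 : act 2 n188008 = n184064 := d0_1 D188008 F286011 (iv2 F158968) F139642 F154624
theorem F372059 : act 4 n188008 = n100435 := d5_2 (iv4 F177341) D188008 F154729 D100543 (iv3 F177337)
theorem F372060 : act 6 n188008 = n100843 := d7_2 (iv6 F295950) D188008 F295947
theorem F372061 : act 7 n188008 = n100720 := d8_2 (iv7 F177343) D188008 F154823
theorem F372062 : act 0 n188008 = n99485 := d20_4 (iv4 F67986) F177347 (iv4 F177341) D188008 F153252 D103025 (iv1 F176027) (iv4 F147980) F147979 (iv1 F176029)
theorem F372063 : act 0 n99480 = n188008 := d20_4 F35140 D22604 D47013 (iv3 F153250) (iv3 D188008) F177341 (iv1 F177350) D92870 F143248 (iv1 D46998)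
theorem F372064 : act 5 n101886 = n188008 := d13_3 F372061 F309544 (iv7 F156829)
theorem F372065 : act 4 n102409 = n186986 := d18_7 F372062 (iv4 D99485) (iv1 D46509) (iv4 F70592) D96210 F352889 D102409 F368759 F372064
theorem F372066 : act 3 n102409 = n136794 := d20_3 (iv4 F156828) (iv1 F368759) (iv4 F372065) F350342 (iv3 D64398) (iv4 D30324) (iv1 F48498) (iv4 F99458) (iv3 F346657) (iv1 F153652)
theorem F372067 : act 3 n103029 = n186986 := d20_5 F293311 (iv1 F158995) F158992 (iv3 F158946) (iv1 F158949) (iv4 F372065) (iv1 D102409) (iv4 F352889) F147965 F294333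
theorem F372068 : act 6 n136791 = n102409 := d7_0 F372066 (iv6 D136794) D136791
theorem F372069 : act 6 n186986 = n137130 := d10_2 F372068 F372065 F220321
def n188009 : Q := act 5 n90722
theorem D188009 : act 5 n90722 = n188009 := rfl
theorem F372070 : act 2 n188009 = n103231 := d2_1 D188009 (iv5 D103231) F154624
theorem F372071 : act 3 n188009 = n101886 := d6_1 D188009 F372064 (iv3 D188008)
theorem F372072 : act 6 n188009 = n101880 := d12_2 (iv6 F295950) D188009 F357170 (iv6 D67569) D67568
theorem F372073 : act 7 n188009 = n102271 := d13_2 (iv7 F177343) D188009 F314178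
theorem F372074 : act 0 n188009 = n103263 := d17_2 D90722 D188009 (iv5 F369975) F369974 F251985 F251984 (iv5 D90740) (iv0 D42492) (iv4 F65623)
theorem F372075 : act 1 n188009 = n103046 := d17_6 F365309 F367180 (iv1 F251923) F251921 (iv4 F177341) D188009 F365264 (iv0 F367217) F149911
theorem F372076 : act 0 n140523 = n144272 := d18_2 F372074 (iv4 F367026) F226958 (iv5 F331283) F70033 D76516 F205431 F139632 D188009
def n188010 : Q := act 5 n90724
theorem D188010 : act 5 n90724 = n188010 := rfl
theorem F372077 : act 2 n188010 = n90725 := d2_1 D188010 (iv5 D90725) D90724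
theorem F372078 : act 3 n188010 = n103207 := d6_1 D188010 (iv5 D103207) (iv3 F139633)
theorem F372079 : act 7 n188010 = n103233 := d13_2 (iv7 F139635) D188010 (iv5 D103233)
theorem F372080 : act 0 n188010 = n103236 := d17_2 (iv1 F177338) D188010 F365602 F149911 F161636 (iv0 F251907) (iv5 D159825) (iv0 D76491) (iv4 F75098)
theorem F372081 : act 6 n188010 = n134854 := d21_3 F314178 (iv1 F177338) D188010 F343133 F324395 (iv5 F331560) (iv1 F178452) (iv5 F367004) (iv6 D103265) (iv1 F314176)
theorem F372082 : act 4 n134856 = n188010 := d10_3 F372081 (iv4 D134854) D134856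
theorem F372083 : act 3 n154728 = n134856 := d20_5 (iv4 D68958) (iv1 F50693) D33753 D73378 D154728 F372082 F372080 F365601 (iv3 D73384) (iv1 F105135)
theorem F372084 : act 6 n134853 = n154728 := d7_0 F372083 (iv6 D134856) D134853
theorem F372085 : act 1 n188010 = n103235 := d15_0 (iv0 D103235) (iv7 F139644) (iv2 F372077)
def n188011 : Q := act 0 n90725
theorem D188011 : act 0 n90725 = n188011 := rfl
theorem F372086 : act 5 n188011 = n187316 := d21_2 D90725 D188011 (iv6 D187316) (iv1 F138025) (iv6 D45408) (iv5 F40474) (iv1 F70325) F70327 D48014 (iv1 F177357)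
theorem F372087 : act 1 n103233 = n188011 := d15_0 (iv0 D188011) F139644 (iv2 F158478)
theorem F372088 : act 2 n103236 = n188011 := d2_3 F372086 F369814 (iv5 F365602)
theorem F372089 : act 4 n188011 = n154743 := d1_2 (iv4 F365601) F372088 (iv2 D154743)
theorem F372090 : act 7 n103235 = n188011 := d15_2 (iv0 F372080) F372085 (iv2 F372088)
theorem F372091 : act 1 n154743 = n103867 := d18_6 (iv1 D96071) F143278 F371817 (iv4 F369815) (iv5 F372086) F372089 (iv4 D103867) D103866 (iv5 F370150)
theorem F372092 : act 1 n103867 = n147922 := d15_1 F372091 F231719 D154743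
def n188012 : Q := act 1 n90725
theorem D188012 : act 1 n90725 = n188012 := rfl
theorem F372093 : act 1 n188012 = n103233 := d15_1 D188012 (iv7 F372079) F372077
theorem F372094 : act 7 n188012 = n103236 := d15_2 (iv0 D188011) D188012 F372088
theorem F372095 : act 3 n118414 = n188012 := d19_19 (iv1 D188012) (iv5 D90725) F65623 (iv3 D20058) D20056 D42486 D90736 F327161 (iv1 F94507) F83377 (iv4 D28498) (iv3 F25581) D33242 D71948 (iv4 F166756) F166761 F182658 F182657 (iv4 F186079)
theorem F372096 : act 5 n187362 = n188012 := d21_6 (iv5 F350525) (iv1 F226702) F306979 D95999 (iv1 F369695) F369972 (iv1 D188012) (iv5 D90725) (iv6 F76244) (iv1 F350522)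
theorem F372097 : act 4 n188012 = n147922 := d5_2 (iv4 F186079) F372095 (iv3 D147922) F105570 F107048
theorem F372098 : act 2 n103235 = n188012 := d4_3 F372094 F372088 (iv7 F372090)
def n188013 : Q := act 4 n90725
theorem D188013 : act 4 n90725 = n188013 := rfl
theorem F372099 : act 2 n188013 = n134856 := d1_1 D188013 F372082 F372077
theorem F372100 : act 7 n188013 = n103237 := d11_2 (iv7 F139644) D188013 (iv4 D103237)
theorem F372101 : act 6 n134852 = n188013 := d3_0 F372099 (iv6 D134856) (iv2 F217040)
def n188014 : Q := act 6 n90725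
theorem D188014 : act 6 n90725 = n188014 := rfl
theorem F372102 : act 2 n188014 = n134854 := d3_1 D188014 (iv6 F372081) F372077
theorem F372103 : act 3 n188014 = n90728 := d7_1 D188014 (iv6 D90728) (iv3 F139643)
theorem F372104 : act 4 n188014 = n134852 := d10_1 D188014 F372101 (iv4 D188013)
theorem F372105 : act 5 n188014 = n96031 := d12_1 D188014 (iv6 D96031) (iv5 F76243) F76244 D90725
theorem F372106 : act 0 n144209 = n188014 := d21_4 (iv5 D127339) (iv1 F168324) D143972 (iv6 F226901) (iv6 D188014) (iv5 D90725) D90722 D188009 F372072 F357168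
theorem F372107 : act 7 n134849 = n188014 := d11_0 F372104 (iv7 D134852) D134849
def n188015 : Q := act 3 n90727
theorem D188015 : act 3 n90727 = n188015 := rfl
theorem F372108 : act 6 n188015 = n108506 := d7_2 (iv6 F350207) D188015 F360547
theorem F372109 : act 7 n188015 = n103243 := d8_2 (iv7 F139650) D188015 (iv3 D103243)
theorem F372110 : act 0 n188015 = n154763 := d20_10 (iv4 D154763) (iv1 F231735) F231733 (iv3 F110849) (iv1 F110851) D120073 F347880 F291898 D90727 D188015
theorem F372111 : act 1 n188015 = n154768 := d15_1 (iv0 F372110) (iv7 F346492) F359337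
def n188016 : Q := act 0 n90728
theorem D188016 : act 0 n90728 = n188016 := rfl
theorem F372112 : act 4 n188016 = n107702 := d18_1 D188016 (iv1 D107702) (iv4 F82433) (iv5 F170570) (iv4 F210444) (iv0 F350220) F355470 (iv0 D96034) (iv5 F139652)
theorem F372113 : act 2 n103225 = n188016 := d15_3 (iv0 D188016) (iv0 F350210) F355179
theorem F372114 : act 7 n188016 = n103226 := d4_2 F355179 F372113 (iv2 F354260)
theorem F372115 : act 3 n110998 = n188016 := d8_3 F372114 F354258 F363575
theorem F372116 : act 1 n103227 = n188016 := d15_1 (iv0 F360549) F372114 (iv2 F354260)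
theorem F372117 : act 0 n179118 = n181796 := d20_4 (iv4 F372112) (iv1 F372116) F360550 D179118 (iv3 D181796) (iv4 F319243) (iv1 F179696) F179694 (iv3 F344829) (iv1 F350217)
theorem F372118 : act 6 n188016 = n126926 := d7_2 F359497 F372115 (iv3 F204182)
theorem F372119 : act 5 n126926 = n97340 := d21_6 (iv5 D22984) F31879 D42477 D90728 D188016 F372118 (iv1 D97340) D97341 F150088 F71715
theorem F372120 : act 3 n97340 = n95987 := d6_1 F372119 F306964 F204182
def n188017 : Q := act 7 n90728
theorem D188017 : act 7 n90728 = n188017 := rfl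
theorem F372121 : act 2 n188017 = n103227 := d4_1 D188017 (iv7 D103227) (iv2 F139651)
theorem F372122 : act 3 n188017 = n134849 := d8_1 D188017 F372107 F372103
theorem F372123 : act 4 n188017 = n125051 := d11_1 D188017 F355156 (iv4 F350209)
theorem F372124 : act 5 n188017 = n96036 := d13_1 D188017 (iv7 D96036) (iv5 F139652)
theorem F372125 : act 6 n188017 = n103249 := d14_1 D188017 (iv7 D103249) (iv6 D47844) (iv7 F65626) D90728
theorem F372126 : act 1 n103226 = n188017 := d15_1 D103226 (iv7 D188017) F139651
theorem F372127 : act 1 n188017 = n103225 := d15_1 F372126 (iv7 F355179) F354260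
theorem F372128 : act 0 n96036 = n106732 := d18_0 F164513 D106734 F348077 (iv5 D103322) (iv4 F158561) F354254 (iv4 F354257) F372126 F372124
theorem F372129 : act 1 n95540 = n106732 := d15_0 (iv0 F372128) (iv7 D96036) (iv2 F147175)
def n188018 : Q := act 5 n90734
theorem D188018 : act 5 n90734 = n188018 := rfl
theorem F372130 : act 2 n188018 = n90735 := d2_1 D188018 (iv5 D90735) D90734
theorem F372131 : act 3 n188018 = n152563 := d6_1 D188018 F239757 F142703
theorem F372132 : act 4 n188018 = n119994 := d9_1 D188018 F189430 (iv4 D68082) (iv5 F52117) F328487 (iv5 D46431) (iv4 F68085) D92680 F329254 F83505 F55287 (iv5 F318249) (iv4 F49141) D65476 (iv4 F328912)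
theorem F372133 : act 7 n188018 = n152557 := d13_2 (iv7 F142818) D188018 F239746
theorem F372134 : act 1 n188018 = n159383 := d17_6 D89570 F328863 (iv1 D65475) D65476 (iv4 F328912) D188018 (iv5 F369125) (iv0 D187113) F137288
def n188019 : Q := act 6 n90735
theorem D188019 : act 6 n90735 = n188019 := rfl
theorem F372135 : act 3 n188019 = n90737 := d7_1 D188019 (iv6 D90737) (iv3 F139664)
theorem F372136 : act 4 n188019 = n145233 := d10_1 D188019 (iv6 D145233) (iv4 F329565)
def n188020 : Q := act 6 n90736
theorem D188020 : act 6 n90736 = n188020 := rfl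
theorem F372137 : act 2 n188020 = n170870 := d3_1 D188020 (iv6 F354717) (iv2 F139665)
theorem F372138 : act 3 n188020 = n127820 := d7_1 D188020 (iv6 D127820) (iv3 F327161)
theorem F372139 : act 4 n188020 = n90737 := d10_1 D188020 (iv6 D90737) D90736
theorem F372140 : act 5 n188020 = n157854 := d21_6 (iv5 D106912) (iv1 D49393) D49395 (iv6 F332992) (iv1 F139668) D188020 (iv1 F248769) D170872 (iv6 F363352) (iv1 F228372)
theorem F372141 : act 7 n170867 = n188020 := d13_0 F372140 (iv7 F262397) D170867
theorem F372142 : act 0 n188019 = n187620 := d19_4 D157854 (iv5 F372140) F372139 (iv3 F372135) (iv5 D187620) (iv4 D90398) F65276 (iv1 F32751) (iv5 D20633) F293713 (iv3 F13915) (iv1 F294772) (iv5 D8990) (iv4 F16811) F16810 (iv1 F13732) D16701 D34435 D75202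
theorem F372143 : act 0 n188005 = n188020 := d20_1 D188005 F372139 (iv3 F372135) F372142 F371025 (iv4 D94101) (iv1 F294837) D91168 (iv3 F370673) (iv1 F370675)
theorem F372144 : act 6 n114482 = n170867 := d14_5 F372141 (iv6 D188020) F139666 F371637 F371633
def n188021 : Q := act 0 n90737
theorem D188021 : act 0 n90737 = n188021 := rfl
def n188022 : Q := act 1 n90737
theorem D188022 : act 1 n90737 = n188022 := rfl
theorem F372145 : act 1 n188022 = n152547 := d15_1 D188022 (iv7 F370808) F370805
theorem F372146 : act 6 n159472 = n188022 := d21_3 (iv5 F251152) F356463 D159472 (iv1 D188022) (iv6 D90737) (iv5 D42486) (iv1 F31887) D20078 D42533 D90818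
theorem F372147 : act 3 n188022 = n159475 := d7_1 F372146 (iv6 D159475) (iv3 F251124)
def n188023 : Q := act 7 n90737
theorem D188023 : act 7 n90737 = n188023 := rfl
theorem F372148 : act 2 n188023 = n152547 := d4_1 D188023 (iv7 F370808) F370805
theorem F372149 : act 4 n188023 = n170867 := d11_1 D188023 F372141 F372139
theorem F372150 : act 5 n188023 = n114285 := d13_1 D188023 F178133 F143364
theorem F372151 : act 6 n188023 = n115081 := d14_1 D188023 F179196 F142201 F68088 D90737
theorem F372152 : act 1 n152547 = n188021 := d15_0 (iv0 D188021) D188023 F372148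
def n188024 : Q := act 3 n90739
theorem D188024 : act 3 n90739 = n188024 := rfl
theorem F372153 : act 2 n188024 = n144290 := d0_1 D188024 F226989 F331298 F139008 (iv2 F205444)
theorem F372154 : act 4 n188024 = n144290 := d5_2 D90739 D188024 F226989 (iv4 F331316) (iv3 F139572)
theorem F372155 : act 6 n188024 = n144290 := d7_2 (iv6 F331317) D188024 F226989
theorem F372156 : act 7 n188024 = n96216 := d8_2 (iv7 F205446) D188024 F147979
theorem F372157 : act 0 n188024 = n103025 := d20_4 F65623 D42492 D90739 D188024 (iv3 F158519) F158518 F177440 F158367 (iv3 F75437) (iv1 F177357)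
theorem F372158 : act 0 n103022 = n188024 := d20_4 F75090 D99515 F157793 (iv3 F158270) (iv3 D188024) (iv4 D90739) F205436 F205431 (iv3 F154104) (iv1 F157769)
theorem F372159 : act 5 n144289 = n188024 := d2_0 F372153 (iv5 D144290) D144289
def n188025 : Q := act 5 n90739
theorem D188025 : act 5 n90739 = n188025 := rfl
theorem F372160 : act 2 n188025 = n103857 := d2_1 D188025 (iv5 D103857) (iv2 F205444)
theorem F372161 : act 3 n188025 = n144289 := d6_1 D188025 F372159 (iv3 D188024)
theorem F372162 : act 6 n188025 = n144296 := d12_2 (iv6 F331317) D188025 (iv5 D144296) (iv6 D67600) D67599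
theorem F372163 : act 7 n188025 = n96219 := d13_2 (iv7 F205446) D188025 (iv5 D96219)
theorem F372164 : act 0 n188025 = n96072 := d17_2 (iv1 F143253) D188025 (iv5 D96072) F143278 (iv5 D92907) (iv0 F177365) (iv5 D92868) F177344 F177331
theorem F372165 : act 0 n100884 = n188025 := d19_0 (iv5 D188025) (iv4 D90739) F139572 (iv1 F142737) (iv5 F339953) (iv4 D110989) (iv3 F302684) F140340 (iv5 F293231) (iv4 D103873) D103872 (iv1 F358520) (iv5 F358515) (iv4 D100861) (iv3 D47017) (iv1 D22605) D22606 D47023 D100884
def n188026 : Q := act 4 n90740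
theorem D188026 : act 4 n90740 = n188026 := rfl
theorem F372166 : act 1 n188026 = n159343 := d18_6 D76491 F177331 (iv1 F143253) (iv4 D90739) D90740 D188026 F365412 (iv0 D159827) (iv5 D76493)
theorem F372167 : act 0 n188026 = n92906 := d20_1 D188026 (iv4 D92906) (iv3 D43467) (iv1 D20548) F15230 D20041 D42462 (iv4 F139146) F251994 (iv1 F251991)
def n188027 : Q := act 6 n90740
theorem D188027 : act 6 n90740 = n188027 := rfl
theorem F372168 : act 2 n188027 = n185518 := d3_1 D188027 F356715 F251989
theorem F372169 : act 3 n188027 = n114352 := d7_1 D188027 (iv6 F205459) F143366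
theorem F372170 : act 5 n188027 = n114352 := d12_1 D188027 (iv6 F205459) (iv5 D92955) (iv6 F205454) D90740
theorem F372171 : act 7 n188027 = n114347 := d14_2 (iv7 F205458) D188027 (iv6 D114347) F83360 (iv6 F142854)
theorem F372172 : act 0 n159475 = n188027 := d21_4 F163410 (iv1 F77607) D76283 D159475 (iv6 D188027) (iv5 D90740) F205436 (iv5 F251133) (iv6 D159476) (iv1 F163413)
def n188028 : Q := act 4 n90747
theorem D188028 : act 4 n90747 = n188028 := rfl
theorem F372173 : act 2 n188028 = n90751 := d1_1 D188028 (iv4 D90751) (iv2 F139676)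
def n188029 : Q := act 6 n90747
theorem D188029 : act 6 n90747 = n188029 := rfl
theorem F372174 : act 2 n188029 = n90752 := d3_1 D188029 (iv6 D90752) (iv2 F139676)
def n188030 : Q := act 5 n90748
theorem D188030 : act 5 n90748 = n188030 := rfl
theorem F372175 : act 2 n188030 = n90755 := d2_1 D188030 (iv5 D90755) (iv2 F139677)
theorem F372176 : act 3 n188030 = n187426 := d6_1 D188030 F370282 F144905
theorem F372177 : act 7 n188030 = n159608 := d13_2 F144870 D188030 (iv5 F251418)
theorem F372178 : act 0 n188030 = n92425 := d17_2 (iv1 F144869) D188030 (iv5 D92425) (iv4 F70188) D95563 F294513 (iv5 D86878) D86876 F293510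
theorem F372179 : act 0 n94002 = n188030 := d21_1 D94002 (iv5 D188030) (iv6 D90748) (iv1 F176032) (iv6 F176016) (iv5 F178325) (iv1 F178326) (iv5 D94017) (iv6 D43941) D43937
theorem F372180 : act 4 n188030 = n131985 := d18_1 F372179 F349624 F211243 (iv5 D76498) (iv4 F71643) (iv0 F157281) (iv4 F178331) F178328 D94002
theorem F372181 : act 6 n131984 = n188030 := d10_0 F372180 (iv6 D131985) D131984
theorem F372182 : act 5 n188029 = n131984 := d12_5 F372181 (iv5 D188030) (iv6 D90748) D90747 D188029
def n188031 : Q := act 4 n90749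
theorem D188031 : act 4 n90749 = n188031 := rfl
theorem F372183 : act 0 n188031 = n92876 := d18_2 D90749 D188031 (iv4 D92876) (iv5 D43456) D43455 (iv0 F139670) (iv4 D90739) (iv0 D42492) D42495
theorem F372184 : act 0 n115053 = n188031 := d20_7 (iv4 D110989) D110987 (iv4 F370679) (iv3 F370680) (iv1 F329798) (iv3 F251905) F360966 (iv4 D188031) F251140 F360287
def n188032 : Q := act 3 n90750
theorem D188032 : act 3 n90750 = n188032 := rfl
def n188033 : Q := act 4 n90750
theorem D188033 : act 4 n90750 = n188033 := rfl
theorem F372185 : act 0 n188033 = n115053 := d18_2 (iv1 F251135) D188033 (iv4 F360966) (iv5 D159825) F177331 F205441 F70033 D76516 (iv5 F251133)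
theorem F372186 : act 0 n187506 = n188032 := d20_4 (iv4 D146331) (iv1 F186661) (iv4 F238415) (iv3 F370624) (iv3 D188032) D188033 F372185 (iv4 F360966) F251905 F329797
def n188034 : Q := act 6 n90750
theorem D188034 : act 6 n90750 = n188034 := rfl
def n188035 : Q := act 0 n90751
theorem D188035 : act 0 n90751 = n188035 := rfl
def n188036 : Q := act 1 n90751
theorem D188036 : act 1 n90751 = n188036 := rfl
def n188037 : Q := act 3 n90751
theorem D188037 : act 3 n90751 = n188037 := rfl
theorem F372187 : act 4 n188037 = n90762 := d5_2 D90751 D188037 (iv3 D90762) (iv4 D42499) (iv3 F65632)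
def n188038 : Q := act 5 n90751
theorem D188038 : act 5 n90751 = n188038 := rfl
def n188039 : Q := act 6 n90751
theorem D188039 : act 6 n90751 = n188039 := rfl
theorem F372188 : act 4 n188039 = n90752 := d10_1 D188039 (iv6 D90752) D90751
def n188040 : Q := act 0 n90752
theorem D188040 : act 0 n90752 = n188040 := rfl
theorem F372189 : act 5 n188040 = n106747 := d21_0 (iv1 D106747) (iv5 F83802) (iv6 D53099) (iv1 F55320) (iv6 F114683) (iv5 D76517) (iv1 F205428) D42495 D90752 D188040
theorem F372190 : act 0 n188039 = n105486 := d17_0 (iv5 D105486) D105483 F333530 F179185 F83802 D106747 (iv5 F372189) (iv0 D188040) (iv4 F372188)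
def n188041 : Q := act 1 n90752
theorem D188041 : act 1 n90752 = n188041 := rfl
theorem F372191 : act 3 n182032 = n188041 := d20_3 F287203 (iv1 D182031) D182032 (iv1 D188041) F139678 (iv4 F139690) F371775 (iv4 D187894) D187893 F371770
theorem F372192 : act 5 n188041 = n106746 := d6_2 F356677 F372191 F356942
theorem F372193 : act 6 n188041 = n182041 := d7_2 (iv6 F283428) F372191 (iv3 D182041)
def n188042 : Q := act 5 n90752
theorem D188042 : act 5 n90752 = n188042 := rfl
theorem F372194 : act 2 n188042 = n131984 := d2_1 D188042 (iv5 F372182) F372174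
theorem F372195 : act 3 n188042 = n90766 := d6_1 D188042 (iv5 D90766) (iv3 F139678)
theorem F372196 : act 6 n188042 = n90755 := d12_2 D90752 D188042 (iv5 D90755) (iv6 D42496) D42495
theorem F372197 : act 7 n188042 = n159600 := d13_2 F251154 D188042 F251394
theorem F372198 : act 5 n129425 = n188039 := d16_5 F247868 (iv5 D106585) F77814 D63756 F207603 F372188 D188042 F372197 F364639
theorem F372199 : act 4 n131980 = n188042 := d16_0 (iv5 D188042) (iv4 F372188) (iv5 F372198) (iv4 F207603) (iv5 D63756) (iv4 F77814) D106585 F164147 (iv2 F211467)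
def n188043 : Q := act 1 n90755
theorem D188043 : act 1 n90755 = n188043 := rfl
theorem F372200 : act 1 n188043 = n159608 := d15_1 D188043 (iv7 F372177) F372175
theorem F372201 : act 7 n188043 = n92425 := d15_2 (iv0 F205526) D188043 F142155
theorem F372202 : act 5 n188043 = n92426 := d17_7 (iv1 F305032) D95996 F177442 (iv5 F76243) F76242 D90755 D188043 F205503 F305030
theorem F372203 : act 3 n185702 = n188043 := d20_3 F367202 (iv1 D185704) (iv4 F287996) (iv1 D188043) F139679 D90770 F139698 (iv4 D43851) (iv3 F68908) D93792
theorem F372204 : act 2 n188043 = n94002 := d0_1 F372203 (iv3 F145552) F292597 D186219 (iv2 F348101)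
theorem F372205 : act 4 n188043 = n185726 := d5_2 (iv4 F287996) F372203 F288006 F135435 (iv3 F135430)
theorem F372206 : act 6 n188043 = n185701 := d7_2 D185702 F372203 (iv3 D185701)
def n188044 : Q := act 4 n90755
theorem D188044 : act 4 n90755 = n188044 := rfl
theorem F372207 : act 2 n188044 = n131985 := d1_1 D188044 (iv4 F372180) F372175
theorem F372208 : act 6 n188044 = n131980 := d10_2 F372196 D188044 F372199
theorem F372209 : act 0 n188044 = n131953 := d18_2 (iv1 D188043) D188044 F211427 F97674 (iv4 F70308) (iv0 F157268) (iv4 F68952) (iv0 F205502) (iv5 F372202)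
theorem F372210 : act 5 n188044 = n186313 := d18_4 F358227 (iv4 F372205) (iv1 D188043) D188044 (iv4 D186313) F158080 (iv4 F257722) F282819 F282818
theorem F372211 : act 1 n188044 = n132142 := d18_6 (iv1 F137499) F350510 (iv1 D104859) F76242 D90755 D188044 (iv4 F343676) (iv0 F293783) (iv5 D102927)
def n188045 : Q := act 6 n90757
theorem D188045 : act 6 n90757 = n188045 := rfl
theorem F372212 : act 2 n188045 = n187880 := d3_1 D188045 (iv6 D187880) (iv2 F139681)
theorem F372213 : act 3 n188045 = n114386 := d7_1 D188045 (iv6 D114386) (iv3 F329912)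
theorem F372214 : act 4 n188045 = n90758 := d10_1 D188045 (iv6 D90758) D90757
theorem F372215 : act 5 n188045 = n108913 := d12_1 D188045 F349856 F354677 (iv6 D101171) (iv5 F291390)
theorem F372216 : act 0 n108941 = n188045 := d21_4 F371883 (iv1 D115730) D115732 F353304 (iv6 D188045) F291390 (iv1 D47120) F293006 D90688 D187939
def n188046 : Q := act 0 n90758
theorem D188046 : act 0 n90758 = n188046 := rfl
def n188047 : Q := act 1 n90758
theorem D188047 : act 1 n90758 = n188047 := rfl
theorem F372217 : act 5 n188047 = n146550 := d17_7 F334745 F298375 (iv1 F345550) F182677 (iv4 F105592) (iv5 F318925) D188047 F252115 F252111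
def n188048 : Q := act 7 n90758
theorem D188048 : act 7 n90758 = n188048 := rfl
theorem F372218 : act 3 n188048 = n117358 := d8_1 D188048 F183796 (iv3 F318924)
theorem F372219 : act 5 n188048 = n117734 := d13_1 D188048 F184396 (iv5 F318925)
def n188049 : Q := act 6 n90759
theorem D188049 : act 6 n90759 = n188049 := rfl
theorem F372220 : act 3 n188049 = n90761 := d7_1 D188049 (iv6 D90761) D90759
theorem F372221 : act 4 n188049 = n100551 := d10_1 D188049 (iv6 D100551) (iv4 F340056)
theorem F372222 : act 5 n188049 = n146889 := d12_1 D188049 (iv6 D146889) (iv5 F144897) (iv6 F145584) F145583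
def n188050 : Q := act 6 n90760
theorem D188050 : act 6 n90760 = n188050 := rfl
theorem F372223 : act 2 n188050 = n187881 := d3_1 D188050 (iv6 D187881) (iv2 F139686)
theorem F372224 : act 3 n188050 = n100556 := d7_1 D188050 (iv6 D100556) (iv3 F340057)
theorem F372225 : act 4 n188050 = n90761 := d10_1 D188050 (iv6 D90761) D90760
theorem F372226 : act 0 n188050 = n187828 := d21_4 (iv5 F293006) D47119 (iv5 F291457) D188050 (iv6 D187828) (iv5 F371647) F371645 (iv5 F371638) (iv6 F371637) (iv1 D90685)
theorem F372227 : act 4 n187993 = n100558 := d20_0 (iv1 D100558) (iv4 F154631) (iv3 F372224) F372226 F371629 (iv4 D141943) (iv1 D66538) (iv4 F79740) (iv3 F169054) (iv1 F372045)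
def n188051 : Q := act 1 n90761
theorem D188051 : act 1 n90761 = n188051 := rfl
def n188052 : Q := act 7 n90761
theorem D188052 : act 7 n90761 = n188052 := rfl
def n188053 : Q := act 0 n90762
theorem D188053 : act 0 n90762 = n188053 := rfl
theorem F372228 : act 2 n127806 = n188053 := d15_3 (iv0 D188053) (iv0 F365267) (iv7 F205607)
def n188054 : Q := act 2 n90762
theorem D188054 : act 2 n90762 = n188054 := rfl
def n188055 : Q := act 6 n90762
theorem D188055 : act 6 n90762 = n188055 := rfl
theorem F372229 : act 3 n188055 = n90763 := d7_1 D188055 (iv6 D90763) D90762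
def n188056 : Q := act 1 n90763
theorem D188056 : act 1 n90763 = n188056 := rfl
def n188057 : Q := act 5 n90763
theorem D188057 : act 5 n90763 = n188057 := rfl
def n188058 : Q := act 7 n90763
theorem D188058 : act 7 n90763 = n188058 := rfl
theorem F372230 : act 4 n188058 = n90767 := d11_1 D188058 (iv7 D90767) (iv4 F139690)
def n188059 : Q := act 2 n90764
theorem D188059 : act 2 n90764 = n188059 := rfl
theorem F372231 : act 7 n90765 = n188059 := d15_2 (iv0 D90764) D90765 (iv2 D188059)
def n188060 : Q := act 3 n90764
theorem D188060 : act 3 n90764 = n188060 := rfl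
def n188061 : Q := act 4 n90764
theorem D188061 : act 4 n90764 = n188061 := rfl
def n188062 : Q := act 5 n90764
theorem D188062 : act 5 n90764 = n188062 := rfl
def n188063 : Q := act 7 n90764
theorem D188063 : act 7 n90764 = n188063 := rfl
theorem F372232 : act 2 n188063 = n90765 := d4_1 D188063 F372231 (iv2 D188059)
def n188064 : Q := act 3 n90765
theorem D188064 : act 3 n90765 = n188064 := rfl
def n188065 : Q := act 4 n90765
theorem D188065 : act 4 n90765 = n188065 := rfl
def n188066 : Q := act 5 n90765
theorem D188066 : act 5 n90765 = n188066 := rfl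
def n188067 : Q := act 6 n90765
theorem D188067 : act 6 n90765 = n188067 := rfl
def n188068 : Q := act 0 n90766
theorem D188068 : act 0 n90766 = n188068 := rfl
def n188069 : Q := act 1 n90766
theorem D188069 : act 1 n90766 = n188069 := rfl
def n188070 : Q := act 4 n90766
theorem D188070 : act 4 n90766 = n188070 := rfl
theorem F372233 : act 2 n188070 = n93975 := d1_1 D188070 (iv4 F144912) F144911
theorem F372234 : act 6 n188070 = n90770 := d10_2 (iv6 F139691) D188070 (iv4 D90770)
def n188071 : Q := act 7 n90766
theorem D188071 : act 7 n90766 = n188071 := rfl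
theorem F372235 : act 3 n188071 = n159600 := d8_1 D188071 (iv7 F372197) F372195
theorem F372236 : act 5 n188071 = n90767 := d13_1 D188071 (iv7 D90767) D90766
theorem F372237 : act 6 n188071 = n159596 := d14_1 D188071 F251384 (iv6 D94038) F69090 (iv6 F139691)
def n188072 : Q := act 3 n90770
theorem D188072 : act 3 n90770 = n188072 := rfl
theorem F372238 : act 7 n188072 = n93972 := d8_2 (iv7 F139697) D188072 (iv3 D93972)
def n188073 : Q := act 0 n90775
theorem D188073 : act 0 n90775 = n188073 := rfl
theorem F372239 : act 6 n188073 = n99016 := d21_5 D99932 F370438 F370436 F367357 D188073 (iv5 F371298) (iv1 F371296) (iv5 D102401) (iv6 F153856) (iv1 F153857)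
theorem F372240 : act 1 n98571 = n188073 := d15_0 (iv0 D188073) F291848 (iv2 F151968)
theorem F372241 : act 7 n188073 = n98576 := d15_2 (iv0 F368970) F372240 (iv2 F371270)
theorem F372242 : act 5 n188073 = n100548 := d17_7 F366993 (iv5 D92622) D92620 (iv5 F239757) F345124 F154644 F372240 (iv0 D100548) (iv4 F340056)
theorem F372243 : act 2 n98577 = n188073 := d4_3 F372241 (iv2 F371270) (iv7 F371269)
theorem F372244 : act 1 n90775 = n186611 := d15_1 (iv0 D188073) (iv7 F371269) F372243
def n188074 : Q := act 2 n90775
theorem D188074 : act 2 n90775 = n188074 := rfl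
theorem F372245 : act 3 n188074 = n182268 := d0_2 D90775 D188074 (iv2 F283712) F154633 F291288
theorem F372246 : act 4 n188074 = n187133 := d1_2 (iv4 F139707) D188074 (iv2 D187133)
theorem F372247 : act 5 n188074 = n152560 := d2_2 (iv5 F291847) D188074 (iv2 F345129)
theorem F372248 : act 7 n188074 = n98571 := d4_2 (iv7 F291848) D188074 F151968
theorem F372249 : act 1 n188074 = n98576 := d15_0 (iv0 D98576) (iv7 F291848) D188074
theorem F372250 : act 1 n98577 = n188074 := d15_0 F372249 (iv7 F372241) (iv2 F372243)
def n188075 : Q := act 3 n90781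
theorem D188075 : act 3 n90781 = n188075 := rfl
theorem F372251 : act 5 n188075 = n139541 := d6_2 (iv5 F343886) D188075 (iv3 D139541)
theorem F372252 : act 6 n188075 = n98398 := d7_2 (iv6 F343887) D188075 (iv3 D98398)
def n188076 : Q := act 5 n90782
theorem D188076 : act 5 n90782 = n188076 := rfl
theorem F372253 : act 2 n188076 = n90783 := d2_1 D188076 (iv5 D90783) D90782
theorem F372254 : act 3 n188076 = n100439 := d6_1 D188076 (iv5 F367614) F367611
theorem F372255 : act 0 n188076 = n99354 := d17_2 (iv1 F345088) D188076 (iv5 D99354) (iv4 F73798) D99978 (iv0 F329531) F335659 (iv0 F335657) (iv4 F329516)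
theorem F372256 : act 1 n188076 = n99350 := d17_6 D41105 (iv5 F329834) F167967 D111165 (iv4 F345089) D188076 (iv5 D99350) (iv0 D46458) F34736
theorem F372257 : act 6 n188076 = n141228 := d21_3 (iv5 D98429) (iv1 F345088) D188076 (iv1 D141228) (iv6 D66242) F49386 (iv1 F40923) D30666 D65396 (iv1 F329821)
theorem F372258 : act 2 n141228 = n139477 := d3_1 F372257 (iv6 F362784) (iv2 F372253)
theorem F372259 : act 7 n139476 = n141228 := d15_2 F224259 F224260 F372258
theorem F372260 : act 7 n141227 = n139477 := d15_2 F224252 F224258 (iv2 F372258)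
theorem F372261 : act 2 n139476 = n141227 := d4_3 F372260 (iv2 F372258) (iv7 F372259)
def n188077 : Q := act 4 n90783
theorem D188077 : act 4 n90783 = n188077 := rfl
theorem F372262 : act 5 n188077 = n139592 := d16_3 F293859 D90783 D188077 F222732 (iv5 F171643) (iv4 F172415) (iv5 F222729) F222728 (iv2 F335387)
def n188078 : Q := act 0 n90786
theorem D188078 : act 0 n90786 = n188078 := rfl
theorem F372263 : act 6 n188078 = n141135 := d21_5 (iv5 F73381) F292066 D42508 D90786 D188078 F350418 (iv1 F172956) (iv5 F329481) (iv6 D46924) (iv1 F73380)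
def n188079 : Q := act 1 n90786
theorem D188079 : act 1 n90786 = n188079 := rfl
def n188080 : Q := act 7 n90786
theorem D188080 : act 7 n90786 = n188080 := rfl
theorem F372264 : act 3 n188080 = n141227 := d8_1 D188080 F372260 F362785
def n188081 : Q := act 5 n90790
theorem D188081 : act 5 n90790 = n188081 := rfl
theorem F372265 : act 2 n188081 = n100140 := d2_1 D188081 (iv5 D100140) (iv2 F143205)
theorem F372266 : act 3 n188081 = n184316 := d6_1 D188081 (iv5 D184316) (iv3 F154219)
theorem F372267 : act 7 n188081 = n99919 := d13_2 (iv7 F157762) D188081 (iv5 D99919)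
theorem F372268 : act 0 n188081 = n99320 := d17_2 (iv1 F139731) D188081 F292909 F74034 D46963 (iv0 F360005) (iv5 D90806) F138963 F138960
theorem F372269 : act 1 n188081 = n100189 := d15_0 F371257 F371255 (iv2 F372265)
theorem F372270 : act 0 n118271 = n184251 := d20_1 F365343 (iv4 D184251) (iv3 F154135) (iv1 F372269) F372266 (iv4 F368782) F368779 (iv4 D100879) D100878 (iv1 F365063)
def n188082 : Q := act 5 n90791
theorem D188082 : act 5 n90791 = n188082 := rfl
theorem F372271 : act 2 n188082 = n90792 := d2_1 D188082 (iv5 D90792) D90791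
theorem F372272 : act 3 n188082 = n100167 := d6_1 D188082 (iv5 D100167) (iv3 F139727)
theorem F372273 : act 7 n188082 = n100145 := d13_2 (iv7 F139729) D188082 (iv5 D100145)
theorem F372274 : act 1 n188082 = n100147 := d17_6 D46960 D100693 (iv1 F362392) (iv5 D90807) (iv4 F139728) D188082 F367144 (iv0 D100375) F74034
theorem F372275 : act 1 n100148 = n188082 := d15_1 D100148 F372273 F154075
def n188083 : Q := act 0 n90792
theorem D188083 : act 0 n90792 = n188083 := rfl
theorem F372276 : act 1 n100145 = n188083 := d15_0 (iv0 D188083) F139734 (iv2 F154075)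
def n188084 : Q := act 1 n90792
theorem D188084 : act 1 n90792 = n188084 := rfl
theorem F372277 : act 1 n188084 = n100145 := d15_1 D188084 (iv7 F372273) F372271
theorem F372278 : act 5 n188084 = n98313 := d17_7 (iv1 F295158) (iv5 F143227) (iv1 D90810) (iv5 D42530) (iv4 F65997) D90792 D188084 (iv0 F367128) F154387
theorem F372279 : act 2 n100147 = n188084 := d2_3 F372278 F367141 (iv5 F367144)
theorem F372280 : act 6 n156958 = n188084 := d12_0 F372278 (iv6 D98313) D98312 F335206 (iv5 F320443)
theorem F372281 : act 7 n100148 = n188084 := d13_0 F372278 (iv7 F367146) F362390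
theorem F372282 : act 2 n100148 = n188083 := d15_3 (iv0 D188083) D188084 (iv7 F372281)
theorem F372283 : act 7 n188083 = n100147 := d4_2 (iv7 F372281) F372282 F372279
theorem F372284 : act 4 n188084 = n156959 := d10_1 F372280 (iv6 D156959) D156958
theorem F372285 : act 0 n156959 = n119628 := d18_2 (iv1 F372277) F372284 (iv4 F349185) (iv5 D101200) (iv4 F138871) F235267 F235265 F139731 D100145
theorem F372286 : act 3 n184320 = n188084 := d20_5 (iv4 D68628) (iv1 F86408) (iv4 F107624) D150783 (iv1 F354450) F372284 F372285 (iv4 F349185) (iv3 F349183) F166784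
def n188085 : Q := act 4 n90792
theorem D188085 : act 4 n90792 = n188085 := rfl
theorem F372287 : act 7 n188085 = n100149 := d11_2 (iv7 F139734) D188085 (iv4 D100149)
theorem F372288 : act 1 n188085 = n156222 := d18_6 (iv1 D93336) F68610 (iv1 D42528) (iv4 F65997) D90792 D188085 (iv4 F359967) (iv0 F349191) F349188
def n188086 : Q := act 6 n90792
theorem D188086 : act 6 n90792 = n188086 := rfl
theorem F372289 : act 3 n188086 = n90795 := d7_1 D188086 (iv6 D90795) (iv3 F139733)
def n188087 : Q := act 1 n90793
theorem D188087 : act 1 n90793 = n188087 := rfl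
theorem F372290 : act 1 n188087 = n187701 := d15_1 D188087 F371241 F287787
theorem F372291 : act 7 n188087 = n187700 := d15_2 (iv0 F370477) D188087 F371236
theorem F372292 : act 2 n99928 = n188087 := d4_3 F372291 F371236 F370475
theorem F372293 : act 6 n99921 = n188087 := d14_5 F372291 (iv6 F371235) F367133 F367071 (iv7 F160548)
theorem F372294 : act 3 n188087 = n184324 := d7_1 F372293 F287659 (iv3 F158400)
theorem F372295 : act 5 n188087 = n186613 := d21_6 (iv5 F129797) F129800 F72632 D46671 D99921 F372293 (iv1 D186613) (iv5 D88916) (iv6 D41519) D41516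
theorem F372296 : act 3 n186613 = n182931 := d6_1 F372295 (iv5 F287658) (iv3 F372294)
def n188088 : Q := act 6 n90794
theorem D188088 : act 6 n90794 = n188088 := rfl
theorem F372297 : act 2 n188088 = n100180 := d3_1 D188088 (iv6 D100180) (iv2 F139737)
theorem F372298 : act 3 n188088 = n108882 := d7_1 D188088 (iv6 F370339) F365329
theorem F372299 : act 4 n188088 = n90795 := d10_1 D188088 (iv6 D90795) D90794
theorem F372300 : act 5 n188088 = n108881 := d12_1 D188088 (iv6 F170746) (iv5 F173046) F370336 F291250
def n188089 : Q := act 0 n90795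
theorem D188089 : act 0 n90795 = n188089 := rfl
def n188090 : Q := act 1 n90795
theorem D188090 : act 1 n90795 = n188090 := rfl
theorem F372301 : act 1 n188090 = n100184 := d15_1 D188090 (iv7 D100184) (iv2 F139740)
theorem F372302 : act 6 n100101 = n188090 := d21_3 (iv5 F343489) F318849 (iv5 F310557) (iv1 D188090) (iv6 D90795) (iv5 D42517) F65666 D22242 (iv6 F73290) D99313
theorem F372303 : act 3 n188090 = n123275 := d7_1 F372302 (iv6 D123275) (iv3 F310556)
def n188091 : Q := act 7 n90795
theorem D188091 : act 7 n90795 = n188091 := rfl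
theorem F372304 : act 2 n188091 = n100184 := d4_1 D188091 (iv7 D100184) (iv2 F139740)
theorem F372305 : act 6 n188091 = n100163 := d14_1 D188091 (iv7 D100163) (iv6 D46748) (iv7 F66000) D90795
theorem F372306 : act 1 n100184 = n188089 := d15_0 (iv0 D188089) D188091 F372304
theorem F372307 : act 1 n100182 = n188091 := d15_1 D100182 (iv7 D188091) F139740
theorem F372308 : act 1 n188091 = n100181 := d15_0 (iv0 D100181) D100184 (iv2 F372304)
def n188092 : Q := act 1 n90800
theorem D188092 : act 1 n90800 = n188092 := rfl
theorem F372309 : act 3 n100683 = n188092 := d20_3 F349214 (iv1 F237314) F349212 (iv1 D188092) (iv3 D90800) (iv4 D42521) (iv1 F291238) F65918 (iv3 F69017) D93907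
def n188093 : Q := act 2 n90800
theorem D188093 : act 2 n90800 = n188093 := rfl
theorem F372310 : act 3 n188093 = n100695 := d0_2 D90800 D188093 F154806 (iv3 F294200) F290812
theorem F372311 : act 4 n188093 = n90827 := d1_2 (iv4 F139767) D188093 (iv2 D90827)
theorem F372312 : act 7 n188093 = n100691 := d4_2 F290653 D188093 (iv2 F362402)
theorem F372313 : act 1 n188092 = n100691 := d15_1 D188092 (iv7 F372312) (iv2 D188093)
def n188094 : Q := act 5 n90800
theorem D188094 : act 5 n90800 = n188094 := rfl
theorem F372314 : act 3 n188094 = n90801 := d6_1 D188094 (iv5 D90801) D90800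
theorem F372315 : act 7 n188094 = n92971 := d13_2 F290653 D188094 F143381
theorem F372316 : act 1 n188094 = n100357 := d17_6 (iv1 F74061) D46874 (iv1 F292012) (iv5 D90828) (iv4 F139767) D188094 (iv5 D100357) F143357 F143352
theorem F372317 : act 0 n188094 = n100352 := d21_7 D186137 (iv1 F367103) (iv5 D98698) D98699 F367373 F367319 D188094 (iv5 D100352) (iv6 F355743) (iv1 F140079)
def n188095 : Q := act 6 n90801
theorem D188095 : act 6 n90801 = n188095 := rfl
theorem F372318 : act 2 n188095 = n92976 := d3_1 D188095 (iv6 D92976) F291251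
theorem F372319 : act 5 n188095 = n92718 := d12_1 D188095 (iv6 D92718) (iv5 F136283) F290830 D90801
def n188096 : Q := act 4 n90806
theorem D188096 : act 4 n90806 = n188096 := rfl
def n188097 : Q := act 6 n90806
theorem D188097 : act 6 n90806 = n188097 := rfl
theorem F372320 : act 5 n188097 = n152555 := d12_1 D188097 F239741 (iv5 D93010) (iv6 F68394) D90806
theorem F372321 : act 7 n188097 = n119216 := d14_2 F142833 D188097 (iv6 D119216) F178139 F178136
def n188098 : Q := act 4 n90807
theorem D188098 : act 4 n90807 = n188098 := rfl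
theorem F372322 : act 2 n188098 = n90811 := d1_1 D188098 (iv4 D90811) (iv2 F139790)
def n188099 : Q := act 3 n90809
theorem D188099 : act 3 n90809 = n188099 := rfl
theorem F372323 : act 2 n188099 = n188094 := d0_1 D188099 F372314 (iv2 F291251) D92974 F143388
theorem F372324 : act 5 n188099 = n188093 := d6_2 (iv5 F362399) D188099 F372310
theorem F372325 : act 4 n188099 = n187863 := d20_6 D90631 F139543 (iv4 D42532) (iv3 F66007) D90809 D188099 (iv1 D187863) (iv4 D90622) F65531 D42432
def n188100 : Q := act 4 n90809
theorem D188100 : act 4 n90809 = n188100 := rfl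
def n188101 : Q := act 6 n90809
theorem D188101 : act 6 n90809 = n188101 := rfl
theorem F372326 : act 5 n188101 = n133450 := d12_1 D188101 (iv6 F326627) (iv5 F145646) (iv6 F362396) (iv5 F362399)
theorem F372327 : act 0 n188101 = n135228 := d21_4 F154815 (iv1 F362398) (iv5 F362399) D188101 (iv6 F352120) F163522 F142211 (iv5 F178135) F178136 F367250
theorem F372328 : act 1 n188101 = n135226 := d15_1 (iv0 F372327) (iv7 F217996) F217995
def n188102 : Q := act 4 n90810
theorem D188102 : act 4 n90810 = n188102 := rfl
theorem F372329 : act 3 n188102 = n108903 := d5_1 D188102 (iv4 F173049) (iv3 F370337) F143224 F143225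
theorem F372330 : act 6 n188102 = n108902 := d10_2 F187579 D188102 (iv4 F354594)
def n188103 : Q := act 0 n90811
theorem D188103 : act 0 n90811 = n188103 := rfl
theorem F372331 : act 4 n188103 = n151351 := d20_2 D90811 D188103 (iv3 D151351) F329796 F68295 D43446 D92853 F143224 F143225 (iv1 D90810)
theorem F372332 : act 3 n119050 = n188103 := d5_5 F372331 (iv3 D151351) (iv4 D71329) (iv3 F86673) D119050
theorem F372333 : act 7 n188103 = n152540 := d8_2 (iv7 F187307) F372332 (iv3 D152540)
def n188104 : Q := act 1 n90811
theorem D188104 : act 1 n90811 = n188104 := rfl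
def n188105 : Q := act 3 n90811
theorem D188105 : act 3 n90811 = n188105 := rfl
theorem F372334 : act 4 n188105 = n90816 := d5_2 D90811 D188105 (iv3 D90816) (iv4 D42532) (iv3 F66007)
theorem F372335 : act 0 n188105 = n185292 := d19_4 (iv1 D42528) D42530 D90811 D188105 (iv5 D185292) F135190 (iv3 F74646) D102288 (iv5 F352863) (iv4 F352866) F158306 (iv1 F294026) (iv5 D87940) F293145 F292024 (iv1 F73962) F73960 F68012 F68014
def n188106 : Q := act 5 n90811
theorem D188106 : act 5 n90811 = n188106 := rfl
def n188107 : Q := act 6 n90811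
theorem D188107 : act 6 n90811 = n188107 := rfl
theorem F372336 : act 4 n188107 = n90812 := d10_1 D188107 (iv6 D90812) D90811
theorem F372337 : act 5 n155489 = n188107 := d18_4 F331648 D123845 F361112 (iv4 F357703) F372336 (iv0 F177559) F355576 F355581 (iv5 D119865)
theorem F372338 : act 1 n146792 = n188107 := d18_6 D114055 F339742 (iv1 F239288) (iv4 F309749) (iv5 F239298) (iv4 F355592) F372336 (iv0 F177559) (iv5 D114057)
def n188108 : Q := act 0 n90812
theorem D188108 : act 0 n90812 = n188108 := rfl
def n188109 : Q := act 5 n90812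
theorem D188109 : act 5 n90812 = n188109 := rfl
theorem F372339 : act 3 n188109 = n90820 := d6_1 D188109 (iv5 D90820) (iv3 F139792)
theorem F372340 : act 6 n188109 = n90814 := d12_2 D90812 D188109 (iv5 D90814) (iv6 D42531) D42530
theorem F372341 : act 7 n188109 = n164220 := d13_2 F239581 D188109 F258846
theorem F372342 : act 4 n188109 = n152213 := d16_6 (iv4 F62351) D88110 (iv4 F357703) F372337 F372336 D188109 (iv5 D152213) F309811 F127912
theorem F372343 : act 0 n148516 = n188107 := d18_2 (iv1 F339357) (iv4 F355593) F372336 D188109 F372342 F339363 F339366 (iv0 D155472) D155475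
theorem E103300 : n188108 = n152396 := (c21_8 D106378 (iv1 F371180) F371178 (iv6 D187487) F139794 (iv6 F372340) (iv5 D188109) D188108 F239584 (iv6 F334812) (iv1 D106375))
theorem F372344 : act 1 n152396 = n90812 := (sb E103300 (iv0 D188108))
theorem F372345 : act 0 n188106 = n185480 := d21_7 (iv5 F335360) (iv1 F140426) D99378 (iv6 F355597) F372343 (iv6 D188107) D188106 (iv5 F361006) (iv6 F349163) F329999
def n188110 : Q := act 4 n90814
theorem D188110 : act 4 n90814 = n188110 := rfl
theorem F372346 : act 6 n188110 = n152213 := d10_2 F372340 D188110 (iv4 F372342)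
def n188111 : Q := act 6 n90816
theorem D188111 : act 6 n90816 = n188111 := rfl
theorem F372347 : act 3 n188111 = n90817 := d7_1 D188111 (iv6 D90817) D90816
def n188112 : Q := act 0 n90817
theorem D188112 : act 0 n90817 = n188112 := rfl
def n188113 : Q := act 1 n90817
theorem D188113 : act 1 n90817 = n188113 := rfl
def n188114 : Q := act 5 n90817
theorem D188114 : act 5 n90817 = n188114 := rfl
def n188115 : Q := act 7 n90817
theorem D188115 : act 7 n90817 = n188115 := rfl
theorem F372348 : act 4 n188115 = n90821 := d11_1 D188115 (iv7 D90821) (iv4 F139796)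
def n188116 : Q := act 4 n90818
theorem D188116 : act 4 n90818 = n188116 := rfl
theorem F372349 : act 2 n188116 = n187917 := d1_1 D188116 F371836 (iv2 F370842)
theorem F372350 : act 1 n188116 = n187537 := d18_6 F368668 (iv4 D186960) (iv1 F156959) F335755 F251152 D188116 F370721 (iv0 F178533) F178532
theorem F372351 : act 0 n188116 = n187920 := d20_1 D188116 F371838 F178408 (iv1 D114381) (iv3 F178400) (iv4 F355593) F372343 F372336 F139792 D90818
theorem F372352 : act 6 n188116 = n106912 := d21_5 F291456 D100531 (iv5 F344198) D187537 (iv1 F372350) (iv5 D106912) (iv1 D49393) D49395 (iv6 F332992) (iv1 F139668)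
theorem F372353 : act 7 n187918 = n188116 := d15_2 (iv0 D187917) D187918 F372349
theorem F372354 : act 4 n114125 = n187918 := d11_3 F372353 (iv4 D188116) F251150
theorem F372355 : act 6 n114245 = n187918 := d14_5 F372353 F372352 (iv7 F228368) F371640 (iv7 F371596)
theorem F372356 : act 3 n127804 = n152537 := d20_3 F346744 (iv1 F172247) F360289 (iv1 D152537) (iv3 F177744) F372354 (iv1 D187918) F139594 (iv3 F139577) (iv1 F205656)
def n188117 : Q := act 6 n90818
theorem D188117 : act 6 n90818 = n188117 := rfl
theorem F372357 : act 4 n188117 = n106912 := d10_1 D188117 (iv6 F372352) (iv4 D188116)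
def n188118 : Q := act 4 n90819
theorem D188118 : act 4 n90819 = n188118 := rfl
theorem F372358 : act 2 n188118 = n187918 := d1_1 D188118 (iv4 F372354) F177743
theorem F372359 : act 6 n188118 = n187815 := d10_2 F161705 D188118 F371598
theorem F372360 : act 7 n188118 = n187917 := d11_2 F370844 D188118 F371836
theorem F372361 : act 0 n188118 = n187537 := d20_1 D188118 F370721 (iv3 F370715) (iv1 F370717) F178961 (iv4 F179007) (iv1 F179138) F179139 D159477 (iv1 F251148)
theorem F372362 : act 1 n188118 = n187920 := d15_1 (iv0 F372361) (iv7 D187920) (iv2 F370720)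
def n188119 : Q := act 0 n90820
theorem D188119 : act 0 n90820 = n188119 := rfl
theorem F372363 : act 4 n188119 = n186568 := d18_1 D188119 (iv1 D186568) D186569 F347695 (iv4 F371838) (iv0 F372351) (iv4 D188116) (iv0 D90818) D90820
theorem F372364 : act 3 n188119 = n144979 := d20_5 (iv4 F339366) (iv1 F339363) (iv4 F372342) F372339 D188119 F227945 (iv1 F319610) D139853 F363834 D155472
theorem F372365 : act 6 n188119 = n164302 := d21_5 (iv5 F67883) F69099 D42536 (iv6 F139797) D188119 (iv5 D164302) (iv1 F352376) F142279 F83263 (iv1 F67882)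
theorem F372366 : act 0 n188119 = n159597 := d21_10 F251386 (iv1 F251148) (iv5 F161593) (iv6 D105371) (iv1 F76666) D52676 D114114 F337871 D164302 (iv6 F372365)
theorem F372367 : act 7 n144973 = n188119 := d8_0 F372364 (iv7 D144979) (iv3 F227939)
theorem F372368 : act 2 n186900 = n188119 := d1_3 F372363 F362404 D186900
theorem F372369 : act 1 n186900 = n187112 := d15_0 F370846 F372367 (iv2 F372368)
def n188120 : Q := act 1 n90820
theorem D188120 : act 1 n90820 = n188120 := rfl
theorem F372370 : act 1 n188120 = n159597 := d15_1 D188120 (iv7 F369124) F369121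
theorem F372371 : act 7 n188120 = n186900 := d15_2 (iv0 D188119) D188120 F372368
theorem F372372 : act 4 n188120 = n186567 := d17_9 (iv1 F289509) (iv5 D89361) (iv1 F136252) (iv5 F335751) F335755 F251152 (iv0 D90818) D90820 D188120
theorem F372373 : act 2 n144973 = n188120 := d1_3 F372372 (iv2 F362407) F347748
theorem F372374 : act 6 n144971 = n188120 := d10_0 F372372 F362411 F355822
def n188121 : Q := act 4 n90820
theorem D188121 : act 4 n90820 = n188121 := rfl
theorem F372375 : act 3 n188121 = n187057 := d5_1 D188121 F368960 F339362 (iv4 F372342) F372339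
theorem F372376 : act 6 n188121 = n90823 := d10_2 (iv6 F139797) D188121 (iv4 D90823)
theorem F372377 : act 5 n188121 = n186668 := d17_5 (iv1 F356462) F161593 (iv1 D90819) D90820 D188121 (iv0 D186668) (iv5 F357338) (iv0 F357337) (iv4 D159471)
theorem F372378 : act 0 n187118 = n188121 := d20_10 (iv4 D188121) D188119 F372363 (iv3 F362406) F356574 D148630 F233386 (iv1 F317433) (iv4 F337122) D187118
theorem F372379 : act 1 n187191 = n188121 := d17_6 F136666 D89363 F158641 (iv5 D103357) F291777 (iv5 F369426) F372377 (iv0 D186668) F136665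
def n188122 : Q := act 7 n90820
theorem D188122 : act 7 n90820 = n188122 := rfl
theorem F372380 : act 2 n188122 = n159597 := d4_1 D188122 (iv7 F369124) F369121
theorem F372381 : act 3 n188122 = n164220 := d8_1 D188122 (iv7 F372341) F372339
theorem F372382 : act 5 n188122 = n90821 := d13_1 D188122 (iv7 D90821) D90820
theorem F372383 : act 6 n188122 = n114099 := d14_1 D188122 F178111 (iv6 F178100) (iv7 D90824) (iv6 F139797)
theorem F372384 : act 1 n144973 = n188122 := d15_1 F370846 (iv7 D188122) (iv2 F369121)
theorem F372385 : act 1 n188122 = n186900 := d15_1 F372384 (iv7 F372371) (iv2 F372373)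
def n188123 : Q := act 3 n90823
theorem D188123 : act 3 n90823 = n188123 := rfl
theorem F372386 : act 5 n188123 = n102357 := d6_2 (iv5 F290684) D188123 (iv3 D102357)
theorem F372387 : act 6 n188123 = n187057 := d7_2 F372376 D188123 (iv3 F372375)
theorem F372388 : act 0 n188123 = n187085 := d20_4 (iv4 D90131) (iv1 F66009) D90823 D188123 (iv3 D187085) (iv4 F362581) (iv1 F368527) F368525 (iv3 F368469) (iv1 F368472)
theorem F372389 : act 6 n99935 = n102357 := d12_4 F372387 (iv5 D187057) F367774 F367773 (iv5 F372386)
theorem F372390 : act 3 n102359 = n99935 := d7_3 F372389 (iv3 D102357) D102359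
def n188124 : Q := act 4 n90828
theorem D188124 : act 4 n90828 = n188124 := rfl
def n188125 : Q := act 6 n90828
theorem D188125 : act 6 n90828 = n188125 := rfl
theorem F372391 : act 3 n188125 = n90830 := d7_1 D188125 (iv6 D90830) (iv3 F139805)
def n188126 : Q := act 0 n90830
theorem D188126 : act 0 n90830 = n188126 := rfl
theorem F372392 : act 6 n188126 = n99368 := d21_5 F291849 (iv1 F65987) D42539 D90830 D188126 (iv5 D99368) (iv1 D46463) D46464 F73365 D46470
theorem F372393 : act 2 n100497 = n188126 := d3_3 F372392 F272806 D100497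
def n188127 : Q := act 1 n90830
theorem D188127 : act 1 n90830 = n188127 := rfl
theorem F372394 : act 7 n188127 = n100497 := d15_2 (iv0 D188126) D188127 F372393
def n188128 : Q := act 7 n90830
theorem D188128 : act 7 n90830 = n188128 := rfl
def n188129 : Q := act 0 n90851
theorem D188129 : act 0 n90851 = n188129 := rfl
theorem F372395 : act 4 n188129 = n96071 := d18_1 D188129 (iv1 D96071) F143278 (iv5 D92907) D92906 (iv0 F372167) (iv4 D188026) F251991 (iv5 F251995)
theorem F372396 : act 3 n188129 = n144267 := d20_5 (iv4 D22577) (iv1 F292049) D42554 D90851 D188129 (iv4 F350548) (iv1 D97428) F139608 F139607 F292208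
theorem F372397 : act 2 n94406 = n188129 := d15_3 (iv0 D188129) (iv0 F360296) (iv7 F251144)
theorem F372398 : act 1 n94400 = n188129 := d15_0 (iv0 D188129) F139844 (iv2 F145562)
theorem F372399 : act 7 n188129 = n94405 := d15_2 (iv0 F367230) F372398 F251142
theorem F372400 : act 6 n187642 = n188129 := d21_3 D42280 D90422 D187642 (iv1 F372398) (iv6 D94400) D94399 (iv1 F331398) (iv5 D186181) (iv6 F292441) (iv1 D42279)
theorem F372401 : act 5 n187567 = n188129 := d21_2 D90343 D187567 (iv6 F372400) (iv1 F371090) F369239 F345177 (iv1 F205637) F178325 F176016 F176031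
def n188130 : Q := act 2 n90851
theorem D188130 : act 2 n90851 = n188130 := rfl
theorem F372402 : act 3 n188130 = n100689 := d0_2 D90851 D188130 (iv2 F154802) F74180 (iv2 F291280)
theorem F372403 : act 7 n188130 = n94400 := d4_2 (iv7 F139844) D188130 F145562
theorem F372404 : act 1 n188130 = n94405 := d15_0 (iv0 D94405) (iv7 F139844) D188130
theorem F372405 : act 1 n94406 = n188130 := d15_0 F372404 (iv7 F372399) (iv2 F372397)
def n188131 : Q := act 4 n90871
theorem D188131 : act 4 n90871 = n188131 := rfl
theorem F372406 : act 2 n188131 = n99485 := d1_1 D188131 (iv4 D99485) (iv2 F294861)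
theorem F372407 : act 3 n188131 = n100784 := d5_1 D188131 (iv4 D100784) F142705 (iv4 F142704) (iv3 F294862)
theorem F372408 : act 6 n188131 = n101996 := d10_2 (iv6 F357143) D188131 (iv4 D101996)
theorem F372409 : act 7 n188131 = n99480 := d11_2 (iv7 F294863) D188131 (iv4 D99480)
theorem F372410 : act 0 n188131 = n100720 := d20_1 D188131 F154824 (iv3 F139249) F177353 (iv3 D46466) (iv4 F62751) (iv1 F291887) (iv4 D42568) D42567 D90871
theorem F372411 : act 0 n184064 = n188131 := d20_10 (iv4 D188131) F294860 F73484 (iv3 F134840) (iv1 F159262) F159266 (iv4 F158521) (iv1 F335368) (iv4 F335367) (iv3 F286011)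
def n188132 : Q := act 5 n90871
theorem D188132 : act 5 n90871 = n188132 := rfl
theorem F372412 : act 2 n188132 = n99486 := d2_1 D188132 (iv5 D99486) (iv2 F294861)
theorem F372413 : act 3 n188132 = n99874 := d6_1 D188132 (iv5 D99874) (iv3 F294862)
theorem F372414 : act 7 n188132 = n99481 := d13_2 (iv7 F294863) D188132 (iv5 D99481)
theorem F372415 : act 0 n90912 = n188132 := d19_0 (iv5 D188132) D188131 F372407 F159077 (iv5 F357204) F222718 (iv3 D65508) F329510 (iv5 D41107) (iv4 F34736) F34735 D22263 D46467 D99377 (iv3 F345135) (iv1 F139549) D90671 F139593 D90912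
theorem F372416 : act 1 n136395 = n188132 := d15_0 (iv0 F372415) F293918 (iv2 F344189)
def n188133 : Q := act 3 n90872
theorem D188133 : act 3 n90872 = n188133 := rfl
theorem F372417 : act 2 n188133 = n99870 := d0_1 D188133 (iv3 D99870) (iv2 F154982) (iv3 F126436) (iv2 F294865)
theorem F372418 : act 4 n188133 = n96205 := d5_2 (iv4 F294866) D188133 (iv3 F158920) (iv4 D103589) D103588
theorem F372419 : act 6 n188133 = n91089 := d7_2 (iv6 F357552) D188133 (iv3 D91089)
theorem F372420 : act 7 n188133 = n99484 := d8_2 (iv7 F294867) D188133 (iv3 D99484)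
theorem F372421 : act 0 n188133 = n103770 := d20_4 (iv4 F154824) F177340 (iv4 F294866) D188133 F159200 (iv4 D90608) (iv1 F138919) F138917 D100396 (iv1 F177362)
theorem F372422 : act 0 n97942 = n188133 := d20_4 (iv4 F153009) (iv1 F177396) F150961 (iv3 F150957) (iv3 D188133) F294866 F286012 (iv4 D184064) (iv3 F285864) (iv1 D183981)
theorem F372423 : act 5 n188133 = n119213 := d17_3 F187586 (iv5 F335350) F372422 (iv4 D119213) (iv5 D54859) F83292 (iv5 F335358) F335355 D119215
def n188134 : Q := act 5 n90872
theorem D188134 : act 5 n90872 = n188134 := rfl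
theorem F372424 : act 2 n188134 = n99481 := d2_1 D188134 (iv5 D99481) (iv2 F294865)
theorem F372425 : act 3 n188134 = n119213 := d6_1 D188134 (iv5 F372423) (iv3 D188133)
theorem F372426 : act 7 n188134 = n99486 := d13_2 (iv7 F294867) D188134 (iv5 D99486)
theorem F372427 : act 0 n188134 = n90912 := d17_2 (iv1 F294864) D188134 F293917 (iv4 F149607) (iv5 F159223) F352882 F352881 (iv0 D95450) (iv4 F73484)
theorem F372428 : act 0 n136395 = n188134 := d21_10 (iv5 D188134) (iv1 D90872) D90875 F357626 (iv1 D139290) (iv6 F356109) (iv5 D136388) (iv1 D64119) D64121 D136395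
def n188135 : Q := act 5 n90873
theorem D188135 : act 5 n90873 = n188135 := rfl
theorem F372429 : act 2 n188135 = n90875 := d2_1 D188135 (iv5 D90875) D90873
theorem F372430 : act 3 n188135 = n101046 := d6_1 D188135 F155706 (iv3 F294870)
theorem F372431 : act 6 n188135 = n133982 := d12_2 (iv6 F294872) D188135 (iv5 F357530) F357522 F154885
theorem F372432 : act 7 n188135 = n99472 := d13_2 (iv7 F294873) D188135 (iv5 D99472)
theorem F372433 : act 1 n99489 = n188135 := d15_1 D99489 F372432 F153234
theorem F372434 : act 1 n188135 = n99488 := d15_0 (iv0 D99488) (iv7 F294243) (iv2 F372429)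
def n188136 : Q := act 0 n90875
theorem D188136 : act 0 n90875 = n188136 := rfl
theorem F372435 : act 3 n188136 = n99877 := d20_5 (iv4 F74359) (iv1 F294245) F139611 (iv3 F139876) D188136 F345057 (iv1 F345061) (iv4 D99358) F73357 D46470
theorem F372436 : act 5 n188136 = n172221 := d21_2 D90875 D188136 (iv6 D172221) (iv1 F294218) (iv6 D93208) D93207 (iv1 F295266) F357554 (iv6 F357552) (iv1 D90872)
theorem F372437 : act 1 n99472 = n188136 := d15_0 (iv0 D188136) F294243 (iv2 F153234)
theorem F372438 : act 2 n99489 = n188136 := d0_5 F372435 (iv2 F345056) (iv3 F349166) F187584 F365230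
theorem F372439 : act 7 n99488 = n188136 := d8_0 F372435 (iv7 F345058) (iv3 F345054)
def n188137 : Q := act 1 n90875
theorem D188137 : act 1 n90875 = n188137 := rfl
theorem F372440 : act 1 n188137 = n99472 := d15_1 D188137 (iv7 F372432) F372429
theorem F372441 : act 7 n188137 = n99489 := d15_2 (iv0 D188136) D188137 F372438
theorem F372442 : act 3 n119217 = n188137 := d20_3 D104169 F335354 D119217 (iv1 D188137) F139876 (iv4 F139611) F294244 F74355 D99383 F153053
theorem F372443 : act 2 n188137 = n99488 := d0_1 F372442 F345054 F345050 F349167 (iv2 F187589)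
theorem F372444 : act 5 n188137 = n186908 := d21_2 D99472 (iv1 F372440) (iv6 D186908) (iv1 D89370) (iv6 D41733) D41732 D89365 F357146 (iv6 F357143) F294860
theorem F372445 : act 0 n186908 = n98658 := d21_1 F372444 (iv5 F159454) F159455 F354507 (iv6 D124002) (iv5 F299248) F195690 D150108 F236248 (iv1 F372440)
theorem F372446 : act 1 n186908 = n184400 := d17_8 D184397 F340530 (iv1 F359412) (iv5 D103349) (iv4 F293986) D90875 D188137 F372444 (iv4 D184400)
def n188138 : Q := act 4 n90875
theorem D188138 : act 4 n90875 = n188138 := rfl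
theorem F372447 : act 7 n188138 = n99490 := d11_2 (iv7 F294243) D188138 (iv4 D99490)
def n188139 : Q := act 0 n90879
theorem D188139 : act 0 n90879 = n188139 := rfl
theorem F372448 : act 6 n188139 = n136521 := d21_5 (iv5 D20099) D20096 D42569 D90879 D188139 (iv5 F352830) (iv1 D99793) (iv5 F293916) (iv6 D90915) (iv1 D42582)
theorem F372449 : act 2 n101182 = n188139 := d3_3 F372448 F352829 (iv6 F157068)
theorem F372450 : act 1 n90879 = n140368 := d15_1 (iv0 D188139) (iv7 F364782) F372449
theorem F372451 : act 7 n101183 = n188139 := d15_2 (iv0 D101182) D101183 (iv2 F372449)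
theorem F372452 : act 5 n141813 = n101183 := d16_7 (iv4 F364780) (iv5 D106865) F78075 D65394 D139327 (iv5 F222515) D141813 F372451 (iv2 F372449)
theorem F372453 : act 4 n101183 = n140364 := d9_1 F372452 (iv5 D140364) (iv4 F172958) F350400 F350395 F350396 D141816 (iv5 F364783) (iv4 F364780) (iv5 D106865) F78075 D65394 D139327 (iv5 F222515) D141813
theorem F372454 : act 6 n93297 = n133977 := d21_9 F372452 (iv1 D101183) (iv5 F294234) (iv6 D93104) (iv1 D43560) D43562 F68450 D43640 D93297 F224824
theorem F372455 : act 3 n133980 = n93297 := d7_3 F372454 (iv3 D133977) D133980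
theorem F372456 : act 5 n93295 = n133980 := d6_0 F372455 (iv5 D93297) D93295
theorem F372457 : act 2 n140368 = n101183 := d1_3 F372453 F223474 D140368
theorem F372458 : act 1 n140368 = n101154 := d15_1 F372450 F155851 (iv2 F294248)
theorem F372459 : act 1 n101154 = n188139 := d15_1 F372458 (iv7 F372451) (iv2 F372457)
def n188140 : Q := act 7 n90879
theorem D188140 : act 7 n90879 = n188140 := rfl
theorem F372460 : act 2 n188140 = n101154 := d4_1 D188140 F155851 (iv2 F294248)
theorem F372461 : act 3 n188140 = n133983 := d8_1 D188140 (iv7 F357520) F357499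
theorem F372462 : act 5 n188140 = n100964 := d13_1 D188140 F155580 (iv5 F294249)
theorem F372463 : act 6 n188140 = n99505 := d14_1 D188140 (iv7 D99505) F73493 (iv7 F293227) D90879
theorem F372464 : act 1 n101183 = n188140 := d15_1 D101183 (iv7 D188140) F294248
theorem F372465 : act 1 n188140 = n101182 := d15_1 F372464 F364782 F372457
theorem F372466 : act 1 n100597 = n140364 := d18_6 F357565 (iv4 D140356) (iv1 F164688) F164686 (iv5 F329481) (iv4 F154662) (iv4 F372453) F372464 F372462
def n188141 : Q := act 2 n90912
theorem D188141 : act 2 n90912 = n188141 := rfl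
theorem F372467 : act 3 n188141 = n101086 := d0_2 D90912 D188141 F362666 (iv3 D104007) F293222
theorem F372468 : act 5 n188141 = n184400 := d2_2 (iv5 F293917) D188141 (iv2 F363550)
theorem F372469 : act 7 n188141 = n136395 := d4_2 (iv7 F293918) D188141 F344189
theorem F372470 : act 1 n188141 = n99481 := d15_0 (iv0 F357540) (iv7 F293918) D188141
theorem F372471 : act 1 n99486 = n188141 := d15_0 F372470 (iv7 F372414) F372412
def n188142 : Q := act 4 n90912
theorem D188142 : act 4 n90912 = n188142 := rfl
def n188143 : Q := act 6 n90912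
theorem D188143 : act 6 n90912 = n188143 := rfl
theorem F372472 : act 3 n188143 = n90913 := d7_1 D188143 (iv6 D90913) D90912
def n188144 : Q := act 0 n90913
theorem D188144 : act 0 n90913 = n188144 := rfl
def n188145 : Q := act 1 n90913
theorem D188145 : act 1 n90913 = n188145 := rfl
theorem F372473 : act 1 n188145 = n136432 := d15_1 D188145 F344188 (iv2 F293923)
def n188146 : Q := act 7 n90913
theorem D188146 : act 7 n90913 = n188146 := rfl
theorem F372474 : act 2 n188146 = n136432 := d4_1 D188146 F344188 (iv2 F293923)
theorem F372475 : act 6 n188146 = n102188 := d14_1 D188146 (iv7 D102188) F75646 (iv7 F292899) D90913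
theorem F372476 : act 1 n136432 = n188144 := d15_0 (iv0 D188144) D188146 F372474
def n188147 : Q := act 0 n90915
theorem D188147 : act 0 n90915 = n188147 := rfl
theorem F372477 : act 6 n188147 = n99500 := d21_5 F291840 (iv1 F291836) (iv5 F292897) D90915 D188147 (iv5 D99500) (iv1 D46513) D46514 F73493 D46516
theorem F372478 : act 5 n188147 = n135882 := d21_8 (iv5 D46586) (iv1 D22320) D22321 F34818 D22330 D46609 (iv5 F293916) D188147 F346674 (iv1 F153510)
theorem F372479 : act 1 n102188 = n188147 := d15_0 (iv0 D188147) F329287 (iv2 F329301)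
theorem F372480 : act 2 n101139 = n188147 := d2_3 F372478 F221980 (iv5 F346672)
theorem F372481 : act 3 n184557 = n188147 := d6_3 F372478 F359931 (iv5 F366838)
theorem F372482 : act 7 n102186 = n188147 := d13_0 F372478 F221981 (iv5 F329869)
def n188148 : Q := act 1 n90915
theorem D188148 : act 1 n90915 = n188148 := rfl
theorem F372483 : act 1 n188148 = n102188 := d15_1 D188148 (iv7 D102188) (iv2 F293915)
theorem F372484 : act 7 n188148 = n101139 := d15_2 (iv0 D188147) D188148 F372480
theorem F372485 : act 5 n188148 = n135883 := d17_7 (iv1 F175775) F352897 (iv1 D133416) F97669 F329285 (iv5 F293916) D188148 F218565 (iv4 F165094)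
theorem F372486 : act 3 n139095 = n188148 := d19_19 (iv1 D188148) F293916 (iv4 F329285) (iv3 D52110) (iv1 F46988) (iv5 F96043) F96044 (iv3 F97537) F175860 F175859 (iv4 F94562) (iv3 D60047) (iv1 D28518) D28519 D60051 (iv3 F307739) F311973 D184548 (iv4 F352969)
theorem F372487 : act 2 n102186 = n188148 := d2_3 F372485 F221977 (iv5 F329869)
def n188149 : Q := act 1 n90916
theorem D188149 : act 1 n90916 = n188149 := rfl
theorem F372488 : act 1 n188149 = n109096 := d15_1 D188149 (iv7 D109096) (iv2 F331072)
theorem F372489 : act 7 n188149 = n109093 := d15_2 F362683 D188149 (iv2 F362687)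
theorem F372490 : act 2 n109094 = n188149 := d4_3 F372489 (iv2 F362687) (iv7 F362686)
def n188150 : Q := act 0 n90917
theorem D188150 : act 0 n90917 = n188150 := rfl
theorem F372491 : act 6 n188150 = n157927 := d21_5 F293364 (iv1 F138950) F138947 D90917 D188150 F258034 (iv1 F132339) (iv5 F345212) (iv6 D100588) (iv1 D46920)
theorem F372492 : act 1 n109045 = n188150 := d15_0 (iv0 D188150) F331086 (iv2 F169046)
theorem F372493 : act 2 n109052 = n188150 := d3_3 F372491 F280791 (iv6 F370873)
theorem F372494 : act 7 n109051 = n188150 := d14_0 F372491 F280787 (iv6 F350366) (iv7 F224838) F370875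
def n188151 : Q := act 1 n90917
theorem D188151 : act 1 n90917 = n188151 := rfl
theorem F372495 : act 1 n188151 = n109045 := d15_1 D188151 (iv7 F370871) F370867
theorem F372496 : act 7 n188151 = n109052 := d15_2 (iv0 D188150) D188151 F372493
theorem F372497 : act 2 n109051 = n188151 := d4_3 F372496 F372493 (iv7 F372494)
theorem F372498 : act 6 n140362 = n188151 := d14_5 F372496 F370873 F280789 F350367 F224845
def n188152 : Q := act 2 n90918
theorem D188152 : act 2 n90918 = n188152 := rfl
theorem F372499 : act 7 n90919 = n188152 := d15_2 (iv0 D90918) D90919 (iv2 D188152)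
def n188153 : Q := act 3 n90918
theorem D188153 : act 3 n90918 = n188153 := rfl
def n188154 : Q := act 4 n90918
theorem D188154 : act 4 n90918 = n188154 := rfl
def n188155 : Q := act 5 n90918
theorem D188155 : act 5 n90918 = n188155 := rfl
theorem F372500 : act 0 n188155 = n186785 := d21_1 D188155 F368007 (iv6 D101148) (iv1 D47113) F35225 (iv5 D10733) F292524 D20099 D42584 D90918
def n188156 : Q := act 6 n90918
theorem D188156 : act 6 n90918 = n188156 := rfl
theorem F372501 : act 5 n188156 = n98656 := d21_6 (iv5 D10733) F292524 D20099 D42584 D90918 D188156 (iv1 D98656) (iv5 F74354) (iv6 D47118) (iv1 D22670)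
theorem F372502 : act 0 n101127 = n188156 := d21_4 (iv5 D22657) D22655 D47105 D101127 (iv6 D188156) D188155 F372500 F368007 (iv6 D101148) (iv1 D47113)
theorem F372503 : act 4 n188156 = n180798 := d18_3 (iv1 D157928) (iv4 F345253) F372502 (iv5 D180798) (iv4 D86352) (iv0 D39971) (iv4 F60820) D86346 (iv5 F248825)
theorem F372504 : act 6 n180798 = n188154 := d10_2 D188156 F372503 (iv4 D188154)
def n188157 : Q := act 7 n90918
theorem D188157 : act 7 n90918 = n188157 := rfl
theorem F372505 : act 2 n188157 = n90919 := d4_1 D188157 F372499 (iv2 D188152)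
def n188158 : Q := act 3 n90919
theorem D188158 : act 3 n90919 = n188158 := rfl
def n188159 : Q := act 4 n90919
theorem D188159 : act 4 n90919 = n188159 := rfl
theorem F372506 : act 3 n108857 = n188159 := d20_5 F79557 (iv1 F98546) F98543 (iv3 F168510) (iv1 F362469) (iv4 D188159) (iv1 D90919) (iv4 F139922) F331084 (iv1 F79559)
theorem F372507 : act 5 n188159 = n108855 := d6_2 D108857 F372506 (iv3 D108855)
def n188160 : Q := act 5 n90919
theorem D188160 : act 5 n90919 = n188160 := rfl
theorem F372508 : act 0 n186785 = n188160 := d21_10 (iv5 D188160) (iv1 D90919) F66418 (iv6 D20150) (iv1 F293944) (iv6 F64262) (iv5 D41641) D41639 D89128 D186785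
theorem F372509 : act 6 n92672 = n188160 := d21_5 (iv5 D19608) F292941 D20470 D43349 D92672 (iv5 D188160) (iv1 D90919) F66418 (iv6 D20150) (iv1 F293944)
def n188161 : Q := act 6 n90919
theorem D188161 : act 6 n90919 = n188161 := rfl
def n188162 : Q := act 4 n90993
theorem D188162 : act 4 n90993 = n188162 := rfl
theorem F372510 : act 7 n188162 = n98702 := d11_2 (iv7 F292423) D188162 (iv4 D98702)
theorem F372511 : act 1 n188162 = n93953 := d18_6 (iv1 F157249) F294675 (iv1 D42633) (iv4 F66451) D90993 D188162 (iv4 D93953) (iv0 F157251) F108014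
def n188163 : Q := act 0 n90995
theorem D188163 : act 0 n90995 = n188163 := rfl
theorem F372512 : act 1 n113018 = n188163 := d15_0 (iv0 D188163) F292427 F238989
def n188164 : Q := act 1 n90995
theorem D188164 : act 1 n90995 = n188164 := rfl
theorem F372513 : act 1 n188164 = n113018 := d15_1 D188164 F344970 (iv2 F140031)
def n188165 : Q := act 5 n91009
theorem D188165 : act 5 n91009 = n188165 := rfl
theorem F372514 : act 2 n188165 = n96105 := d2_1 D188165 (iv5 D96105) F295296
theorem F372515 : act 3 n188165 = n91011 := d6_1 D188165 (iv5 D91011) D91009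
theorem F372516 : act 7 n188165 = n98903 := d13_2 F294923 D188165 (iv5 D98903)
theorem F372517 : act 1 n183120 = n188165 := d15_1 D183120 F372516 F152456
theorem F372518 : act 6 n184071 = n185420 := d21_9 D185422 F353219 (iv5 D182925) D182926 F353217 F331219 D188165 (iv1 F372517) F367241 (iv1 D185420)
theorem F372519 : act 3 n185420 = n187700 := d7_1 F372518 (iv6 F371235) F370485
theorem F372520 : act 7 n185420 = n184324 := d14_2 (iv7 F370484) F372518 F287659 F160533 (iv6 F370480)
theorem F372521 : act 2 n184324 = n185419 := d15_3 (iv0 D185419) D185420 F372520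
theorem F372522 : act 2 n185420 = n184323 := d15_3 (iv0 D184323) D184324 (iv7 F372520)
theorem F372523 : act 7 n184323 = n185419 := d4_2 (iv7 F372520) F372522 (iv2 F372521)
theorem F372524 : act 6 n185419 = n95435 := d3_2 (iv6 F287659) F372521 (iv2 F160535)
theorem F372525 : act 0 n185051 = n159740 := d20_10 (iv4 D159740) (iv1 F251653) (iv4 F287675) F287674 (iv1 F287656) F372519 (iv4 F371830) F371831 (iv4 D185052) D185051
theorem F372526 : act 0 n185047 = n187912 := d20_1 D185047 F371830 (iv3 F372519) (iv1 D185420) (iv3 D88331) F62450 (iv1 F35400) F35391 (iv3 F62359) D88203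
theorem F372527 : act 1 n185051 = n159730 := d15_1 (iv0 F372525) F285528 F285525
theorem F372528 : act 1 n188165 = n183119 := d15_0 (iv0 D183119) (iv7 F147743) (iv2 F372514)
def n188166 : Q := act 5 n91010
theorem D188166 : act 5 n91010 = n188166 := rfl
theorem F372529 : act 2 n188166 = n93807 := d2_1 D188166 (iv5 D93807) F294925
theorem F372530 : act 3 n188166 = n93930 := d6_1 D188166 (iv5 D93930) (iv3 F294849)
theorem F372531 : act 7 n188166 = n93900 := d13_2 F294924 D188166 (iv5 D93900)
theorem F372532 : act 1 n188166 = n93903 := d17_6 (iv1 D43306) D43308 (iv1 F294359) (iv5 D91011) D91010 D188166 F251609 (iv0 D90624) F292718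
theorem F372533 : act 0 n188166 = n93904 := d21_1 D188166 (iv5 F349245) (iv6 F177435) F251567 F292545 (iv5 F292544) (iv1 F331368) (iv5 D94281) (iv6 F157567) (iv1 F294848)
theorem F372534 : act 6 n130631 = n188166 := d7_0 F372530 (iv6 F157671) D130631
theorem F372535 : act 0 n107561 = n130631 := d21_4 F108009 (iv1 F78501) (iv5 F78518) D107561 F372534 (iv5 D188166) F294847 (iv5 F108014) (iv6 D71480) D71478
theorem F372536 : act 0 n130631 = n151694 := d21_4 (iv5 D93893) (iv1 F294848) D188166 (iv6 F372534) (iv6 F349255) F340679 F313231 (iv5 F157311) (iv6 D93954) (iv1 F238552)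
def n188167 : Q := act 4 n91011
theorem D188167 : act 4 n91011 = n188167 := rfl
theorem F372537 : act 2 n188167 = n98913 := d1_1 D188167 (iv4 D98913) F294364
theorem F372538 : act 7 n188167 = n98907 := d11_2 F294360 D188167 (iv4 D98907)
def n188168 : Q := act 6 n91011
theorem D188168 : act 6 n91011 = n188168 := rfl
theorem F372539 : act 2 n188168 = n98914 := d3_1 D188168 (iv6 D98914) F294364
def n188169 : Q := act 4 n91016
theorem D188169 : act 4 n91016 = n188169 := rfl
theorem F372540 : act 2 n188169 = n98907 := d1_1 D188169 (iv4 D98907) (iv2 F294363)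
theorem F372541 : act 7 n188169 = n98913 := d11_2 F294365 D188169 (iv4 D98913)
def n188170 : Q := act 6 n91016
theorem D188170 : act 6 n91016 = n188170 := rfl
theorem F372542 : act 2 n188170 = n98908 := d3_1 D188170 (iv6 D98908) (iv2 F294363)
theorem F372543 : act 3 n188170 = n182035 := d7_1 D188170 (iv6 D182035) F295014
theorem F372544 : act 5 n188170 = n119999 := d12_1 D188170 (iv6 D119999) (iv5 F328867) F294852 D91016
theorem F372545 : act 0 n167926 = n188170 := d17_2 (iv1 D167924) D167926 F372544 F189444 (iv5 F106995) (iv0 F186888) (iv5 F320544) (iv0 F322293) F322185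
def n188171 : Q := act 4 n91018
theorem D188171 : act 4 n91018 = n188171 := rfl
theorem F372546 : act 2 n188171 = n91022 := d1_1 D188171 (iv4 D91022) (iv2 F140066)
theorem F372547 : act 7 n188171 = n98872 := d11_2 F294922 D188171 (iv4 D98872)
theorem F372548 : act 1 n98924 = n188171 := d15_1 D98924 F372547 F152431
theorem F372549 : act 1 n188171 = n141209 := d15_1 F372548 (iv7 D141209) (iv2 F364540)
theorem E103301 : n141209 = n98923 := (c15_1 F372549 (iv0 D98923) F294928 (iv2 F372546))
theorem F372550 : act 0 n98923 = n188171 := (sb E103301 (iv1 F372549))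
theorem F372551 : act 3 n98923 = n66248 := (sb E103301 F224237)
theorem F372552 : act 7 n98923 = n66236 := (sb E103301 (iv7 D141209))
def n188172 : Q := act 3 n91020
theorem D188172 : act 3 n91020 = n188172 := rfl
theorem F372553 : act 2 n188172 = n182038 := d0_1 D188172 (iv3 D182038) (iv2 F133454) (iv3 F139514) (iv2 F294853)
theorem F372554 : act 5 n188172 = n91051 := d6_2 (iv5 F294854) D188172 (iv3 D91051)
theorem F372555 : act 7 n188172 = n98917 := d8_2 (iv7 F294855) D188172 (iv3 D98917)
theorem F372556 : act 4 n188172 = n186781 := d20_6 (iv4 D20149) (iv1 F293944) (iv4 F294823) (iv3 F66469) D91020 D188172 (iv1 D186781) (iv4 D89123) F64258 F293943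
theorem F372557 : act 1 n182917 = n188172 := d17_8 (iv1 D186781) D186782 F371152 (iv5 F371153) (iv4 D183121) (iv5 D87409) (iv0 F157233) D182917 F372556
theorem F372558 : act 0 n183118 = n188172 := d18_0 F372556 (iv1 D186781) (iv4 D89123) (iv5 D41637) (iv4 F64245) (iv0 F145497) F294979 F294846 D183118
theorem E103302 : n183139 = n183118 := ((c15_1 (iv0 F372558) (iv0 D183139) (iv7 F283447) (iv2 F372553))).symm
theorem F372559 : act 1 n183118 = n87419 := (sb E103302 (iv0 D183139))
def n188173 : Q := act 4 n91020
theorem D188173 : act 4 n91020 = n188173 := rfl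
theorem F372560 : act 2 n188173 = n98921 := d1_1 D188173 (iv4 D98921) (iv2 F294853)
theorem F372561 : act 7 n188173 = n98918 := d11_2 (iv7 F294855) D188173 (iv4 D98918)
def n188174 : Q := act 6 n91020
theorem D188174 : act 6 n91020 = n188174 := rfl
theorem F372562 : act 2 n188174 = n98922 := d3_1 D188174 (iv6 D98922) (iv2 F294853)
theorem F372563 : act 5 n188174 = n100442 := d12_1 D188174 (iv6 D100442) (iv5 D46872) F292354 (iv5 F294854)
theorem F372564 : act 7 n188174 = n143247 := d14_2 (iv7 F294855) D188174 (iv6 F361420) (iv7 F359690) (iv6 D98920)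
theorem F372565 : act 4 n139938 = n188174 := d11_3 F372564 (iv4 D143247) F223170
theorem F372566 : act 1 n98922 = n139489 := d15_0 (iv0 F226071) (iv7 F372564) F372562
theorem F372567 : act 1 n139500 = n98922 := d15_0 F372566 (iv7 F224221) F224220
theorem F372568 : act 4 n141384 = n98922 := d18_5 D53581 (iv4 F84533) (iv1 F102944) F102947 D141384 F372566 (iv4 D139489) F181594 (iv5 D53584)
theorem F372569 : act 3 n141384 = n139413 := d20_3 D139489 (iv1 F372566) (iv4 F372568) (iv1 D139413) F101151 (iv4 F81095) F81096 F81012 (iv3 F84540) (iv1 F181594)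
theorem F372570 : act 5 n139413 = n115919 := d6_2 D141384 F372569 (iv3 F180474)
theorem F372571 : act 7 n139413 = n134005 := d8_2 (iv7 F224427) F372569 F223175
theorem F372572 : act 2 n134005 = n139412 := d15_3 (iv0 D139412) D139413 F372571
theorem F372573 : act 5 n139412 = n115918 := d2_2 D134005 F372572 (iv2 F180477)
theorem F372574 : act 7 n134002 = n139412 := d13_0 F372573 (iv7 F180479) D134002
theorem F372575 : act 2 n139413 = n134002 := d4_3 F372574 (iv2 F372572) (iv7 F372571)
theorem F372576 : act 1 n134005 = n139410 := d15_0 F355997 F372574 (iv2 F372572)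
theorem F372577 : act 1 n108902 = n134005 := d15_1 (iv0 F355996) (iv7 F372571) F372575
theorem F372578 : act 6 n139416 = n134974 := d21_5 (iv5 F372570) (iv1 D139413) (iv5 D65434) D65435 D139416 F340092 (iv1 F331630) (iv5 F331639) (iv6 F98208) (iv1 F180480)
theorem F372579 : act 6 n98921 = n141384 := d10_0 F372568 (iv6 D98922) D98921
theorem F372580 : act 4 n187857 = n143255 := d16_2 F372568 (iv5 F371709) (iv5 D143255) (iv4 D67115) (iv5 D31238) D31237 D67111 F223170 (iv2 F224426)
theorem F372581 : act 6 n143255 = n187856 := d10_2 D187857 F372580 (iv4 D187856)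
theorem F372582 : act 6 n139938 = n188173 := d3_2 F372579 F224426 F372560
theorem F372583 : act 0 n188174 = n141197 := d18_2 D139938 F372565 (iv4 D141197) F181569 D115946 (iv0 F180707) (iv4 F101420) (iv0 D65696) D65699
theorem F372584 : act 1 n188174 = n141200 := d18_6 (iv1 F84539) (iv4 F84686) F102935 D67013 (iv5 F223169) F372565 (iv4 D141200) F181208 (iv5 D116252)
def n188175 : Q := act 4 n91021
theorem D188175 : act 4 n91021 = n188175 := rfl
theorem F372585 : act 2 n188175 = n98918 := d1_1 D188175 (iv4 D98918) (iv2 F294856)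
theorem F372586 : act 7 n188175 = n98921 := d11_2 (iv7 F294859) D188175 (iv4 D98921)
def n188176 : Q := act 1 n91022
theorem D188176 : act 1 n91022 = n188176 := rfl
theorem F372587 : act 1 n188176 = n98872 := d15_1 D188176 (iv7 F372547) F372546
theorem F372588 : act 7 n188176 = n98924 := d15_2 (iv0 F338882) D188176 F364540
theorem F372589 : act 2 n98923 = n188176 := d4_3 F372588 F364540 (iv7 F372552)
def n188177 : Q := act 5 n91022
theorem D188177 : act 5 n91022 = n188177 := rfl
theorem F372590 : act 3 n188177 = n186782 := d6_1 D188177 (iv5 D186782) F295267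
theorem F372591 : act 7 n188177 = n98926 := d13_2 F294928 D188177 (iv5 D98926)
def n188178 : Q := act 6 n91022
theorem D188178 : act 6 n91022 = n188178 := rfl
theorem F372592 : act 3 n188178 = n186767 := d7_1 D188178 F367946 F295267
theorem F372593 : act 4 n188178 = n91023 := d10_1 D188178 (iv6 D91023) D91022
def n188179 : Q := act 3 n91028
theorem D188179 : act 3 n91028 = n188179 := rfl
def n188180 : Q := act 5 n91028
theorem D188180 : act 5 n91028 = n188180 := rfl
theorem F372594 : act 2 n188180 = n128657 := d2_1 D188180 F332681 F295424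
theorem F372595 : act 7 n188180 = n128658 := d13_2 F295429 D188180 F333051
theorem F372596 : act 0 n188180 = n108412 := d17_2 D91028 D188180 F167604 (iv4 F317327) F156363 (iv0 F317059) (iv5 F319338) (iv0 D89135) (iv4 F295269)
theorem F372597 : act 1 n188180 = n128659 := d17_8 (iv1 F206833) F339370 (iv1 D128839) (iv5 D60590) (iv4 F95195) F324645 F143656 D188180 F206957
def n188181 : Q := act 6 n91028
theorem D188181 : act 6 n91028 = n188181 := rfl
theorem F372598 : act 4 n188181 = n98977 := d10_1 D188181 (iv6 D98977) (iv4 F295469)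
theorem F372599 : act 5 n188181 = n187706 := d21_6 (iv5 D41425) F31247 D20123 D42637 D91028 D188181 (iv1 D187706) F139245 (iv6 D43833) (iv1 F63877)
def n188182 : Q := act 3 n91029
theorem D188182 : act 3 n91029 = n188182 := rfl
def n188183 : Q := act 5 n91029
theorem D188183 : act 5 n91029 = n188183 := rfl
theorem F372600 : act 2 n188183 = n128658 := d2_1 D188183 F333051 F295427
theorem F372601 : act 7 n188183 = n128657 := d13_2 F295426 D188183 F332681
theorem F372602 : act 1 n188183 = n108412 := d17_6 (iv1 F287033) (iv5 F286903) (iv1 D100106) F73853 (iv4 F295470) D188183 F167604 (iv0 F352563) F332680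
theorem F372603 : act 0 n188183 = n128659 := d18_0 F206957 (iv1 F206833) (iv4 F217104) F345384 F352480 (iv0 D89135) (iv4 F295269) D91029 D188183
def n188184 : Q := act 6 n91029
theorem D188184 : act 6 n91029 = n188184 := rfl
theorem F372604 : act 4 n188184 = n98981 := d10_1 D188184 (iv6 D98981) (iv4 F295470)
def n188185 : Q := act 3 n91046
theorem D188185 : act 3 n91046 = n188185 := rfl
theorem F372605 : act 2 n188185 = n102570 := d0_1 D188185 F367215 (iv2 F355748) F151162 (iv2 F349275)
theorem F372606 : act 4 n188185 = n102110 := d5_2 F370887 D188185 (iv3 D102110) (iv4 F293736) D187582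
theorem F372607 : act 7 n188185 = n102571 := d8_2 (iv7 F349277) D188185 F360979
theorem F372608 : act 0 n188185 = n94032 := d20_4 D187871 (iv1 F371733) F370887 D188185 (iv3 D94032) F69085 F65860 F65548 (iv3 F65532) D90624
theorem F372609 : act 0 n102565 = n188185 := d20_4 F286441 (iv1 F292616) F140194 (iv3 F294481) (iv3 D188185) (iv4 F370887) F370886 (iv4 F293719) (iv3 F370470) F370471
def n188186 : Q := act 6 n91047
theorem D188186 : act 6 n91047 = n188186 := rfl
theorem F372610 : act 2 n188186 = n91048 := d3_1 D188186 (iv6 D91048) D91047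
theorem F372611 : act 3 n188186 = n93017 := d7_1 D188186 F290623 (iv3 F140080)
theorem F372612 : act 4 n188186 = n91059 := d10_1 D188186 (iv6 D91059) (iv4 F140081)
theorem F372613 : act 5 n188186 = n145940 := d12_1 D188186 (iv6 D145940) D145939 (iv6 F355757) F289196
theorem F372614 : act 7 n188186 = n187659 := d14_2 (iv7 F140082) D188186 (iv6 D187659) (iv7 F143005) F290953
theorem F372615 : act 0 n187664 = n188186 := d21_4 (iv5 F139680) F360971 F335915 F371140 (iv6 D188186) (iv5 F289196) (iv1 F289200) F367099 F369133 (iv1 D187114)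
theorem F372616 : act 0 n151406 = n187732 := d21_7 F371141 F372615 F372613 (iv6 D145940) D145936 F357320 D151406 F371352 (iv6 D187434) D187432
theorem F372617 : act 1 n187665 = n188186 := d15_1 D187665 F372614 F371130
theorem F372618 : act 5 n148439 = n187665 := d17_7 F290949 (iv5 F283689) F288569 (iv5 D186007) F135770 D90129 (iv0 F369492) F372617 F372612
theorem F372619 : act 3 n187665 = n102581 := d6_1 F372618 F333313 D148439
theorem F372620 : act 6 n188185 = n187665 := d7_0 F372619 (iv6 F349280) D188185
def n188187 : Q := act 0 n91048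
theorem D188187 : act 0 n91048 = n188187 := rfl
theorem F372621 : act 4 n188187 = n185051 := d18_1 D188187 F372525 (iv4 D159740) (iv5 D76420) D76419 F251650 (iv4 F355774) (iv0 F355775) F355733
theorem F372622 : act 6 n188187 = n102570 := d21_5 D98698 F367102 F136169 D91048 D188187 (iv5 F367586) (iv1 F367585) (iv5 D186360) (iv6 F294658) (iv1 F293121)
theorem F372623 : act 1 n187659 = n188187 := d15_0 (iv0 D188187) (iv7 F290579) (iv2 F371130)
theorem F372624 : act 2 n187665 = n188187 := d3_3 F372622 (iv2 F372605) F372620
theorem F372625 : act 7 n187664 = n188187 := d15_2 F372617 (iv0 F372615) (iv2 F372624)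
def n188188 : Q := act 1 n91048
theorem D188188 : act 1 n91048 = n188188 := rfl
theorem F372626 : act 1 n188188 = n187659 := d15_1 D188188 (iv7 F372614) F372610
theorem F372627 : act 7 n188188 = n187665 := d15_2 (iv0 D188187) D188188 F372624
theorem F372628 : act 6 n92679 = n188188 := d21_3 F237351 (iv1 F237331) (iv5 F335926) (iv1 D188188) (iv6 D91048) (iv5 F136169) (iv1 F349284) (iv5 D98693) D98694 (iv1 F349237)
theorem F372629 : act 2 n188188 = n187664 := d3_1 F372628 (iv6 F371140) (iv2 F155667)
theorem F372630 : act 3 n188188 = n100358 := d7_1 F372628 (iv6 D100358) (iv3 F154347)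
def n188189 : Q := act 1 n91051
theorem D188189 : act 1 n91051 = n188189 := rfl
theorem F372631 : act 1 n188189 = n91992 := d15_1 D188189 F294367 (iv2 F292349)
theorem F372632 : act 7 n188189 = n184070 := d15_2 (iv0 F370481) D188189 (iv2 F370478)
theorem F372633 : act 4 n176940 = n188189 := d20_0 (iv1 D188189) F140144 F293403 F292563 D186185 (iv4 F370171) F370174 (iv4 D187384) D187383 (iv1 F370092)
theorem F372634 : act 3 n187468 = n188189 := d20_3 F65082 D90187 D187468 (iv1 D188189) (iv3 D91051) (iv4 F292351) (iv1 F288419) (iv4 F370461) (iv3 D187469) (iv1 D90188)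
theorem F372635 : act 6 n184323 = n188189 := d21_9 (iv5 F372554) (iv1 F372557) (iv5 D182917) (iv6 D87335) (iv1 D40591) D40593 D87339 D182930 F368863 (iv1 D188189)
theorem F372636 : act 2 n188189 = n184071 := d3_1 F372635 F372518 F372522
theorem F372637 : act 3 n186781 = n136659 := d19_7 D93286 F295018 D187468 F372634 (iv1 D188189) (iv5 F372554) F372556 (iv1 D136659) F100032 (iv4 F100696) (iv3 F221281) F341225 (iv5 D86919) F294760 (iv3 D20632) (iv1 D9779) D9781 D20639 D43638
def n188190 : Q := act 0 n91062
theorem D188190 : act 0 n91062 = n188190 := rfl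
def n188191 : Q := act 1 n91062
theorem D188191 : act 1 n91062 = n188191 := rfl
def n188192 : Q := act 0 n91063
theorem D188192 : act 0 n91063 = n188192 := rfl
theorem F372638 : act 4 n188192 = n99545 := d18_3 (iv1 F154432) F351150 D188192 (iv5 D99545) F73531 (iv0 F177382) F138917 F74056 (iv5 F74091)
theorem F372639 : act 6 n188192 = n177824 := d21_5 F294858 (iv1 D42651) D42653 D91063 D188192 (iv5 D177824) (iv1 D84667) D84668 F129904 F294920
theorem F372640 : act 1 n179801 = n188192 := d15_0 (iv0 D188192) F351147 (iv2 F351145)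
def n188193 : Q := act 1 n91063
theorem D188193 : act 1 n91063 = n188193 := rfl
theorem F372641 : act 1 n188193 = n179801 := d15_1 D188193 F351140 F351149
theorem F372642 : act 4 n187850 = n188193 := d18_5 F73966 (iv4 D42424) D42421 D90608 D187850 F372641 (iv4 F351144) (iv0 D100398) (iv5 D46857)
def n188194 : Q := act 5 n91063
theorem D188194 : act 5 n91063 = n188194 := rfl
theorem F372643 : act 3 n188194 = n91070 := d6_1 D188194 (iv5 D91070) (iv3 F140105)
theorem F372644 : act 6 n188194 = n91066 := d12_2 D91063 D188194 (iv5 D91066) (iv6 D42654) D42653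
theorem F372645 : act 4 n188194 = n187931 := d16_2 F351150 D188194 (iv5 D187931) (iv4 D90681) D90682 (iv4 F292005) F292006 F154440 (iv2 F154434)
def n188195 : Q := act 4 n91066
theorem D188195 : act 4 n91066 = n188195 := rfl
theorem F372646 : act 6 n188195 = n187931 := d10_2 F372644 D188195 (iv4 F372645)
def n188196 : Q := act 3 n91068
theorem D188196 : act 3 n91068 = n188196 := rfl
theorem F372647 : act 6 n188196 = n186633 := d7_2 (iv6 F367221) D188196 F367507
def n188197 : Q := act 5 n91068
theorem D188197 : act 5 n91068 = n188197 := rfl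
theorem F372648 : act 6 n188197 = n186635 := d12_2 (iv6 F367221) D188197 (iv5 D186635) (iv6 D88957) D88956
def n188198 : Q := act 3 n91069
theorem D188198 : act 3 n91069 = n188198 := rfl
def n188199 : Q := act 5 n91069
theorem D188199 : act 5 n91069 = n188199 := rfl
def n188200 : Q := act 6 n91069
theorem D188200 : act 6 n91069 = n188200 := rfl
theorem F372649 : act 7 n188200 = n186632 := d14_2 F367226 D188200 (iv6 D186632) F272714 (iv6 F294629)
def n188201 : Q := act 0 n91070
theorem D188201 : act 0 n91070 = n188201 := rfl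
def n188202 : Q := act 1 n91070
theorem D188202 : act 1 n91070 = n188202 := rfl
theorem F372650 : act 1 n188202 = n187707 := d15_1 D188202 (iv7 D187707) (iv2 F140108)
def n188203 : Q := act 4 n91070
theorem D188203 : act 4 n91070 = n188203 := rfl
theorem F372651 : act 2 n188203 = n187036 := d1_1 D188203 F368878 (iv2 F140108)
theorem F372652 : act 6 n188203 = n91079 := d10_2 (iv6 F140109) D188203 (iv4 D91079)
theorem F372653 : act 0 n188203 = n187021 := d21_4 F368808 (iv1 F143027) (iv5 F140125) (iv6 F372652) (iv6 D187021) (iv5 F291782) D187597 F370961 (iv6 D187142) (iv1 F368810)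
def n188204 : Q := act 7 n91070
theorem D188204 : act 7 n91070 = n188204 := rfl
theorem F372654 : act 2 n188204 = n187707 := d4_1 D188204 (iv7 D187707) (iv2 F140108)
theorem F372655 : act 5 n188204 = n91071 := d13_1 D188204 (iv7 D91071) D91070
theorem F372656 : act 1 n187707 = n188201 := d15_0 (iv0 D188201) D188204 F372654
theorem F372657 : act 1 n187706 = n188204 := d15_1 D187706 (iv7 D188204) F140108
theorem F372658 : act 1 n188204 = n187705 := d15_0 (iv0 D187705) D187707 (iv2 F372654)
def n188205 : Q := act 3 n91079
theorem D188205 : act 3 n91079 = n188205 := rfl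
theorem F372659 : act 5 n188205 = n187692 := d6_2 (iv5 F140125) D188205 F371195
theorem F372660 : act 7 n188205 = n187037 := d8_2 (iv7 F292347) D188205 (iv3 D187037)
def n188206 : Q := act 6 n91084
theorem D188206 : act 6 n91084 = n188206 := rfl
theorem F372661 : act 2 n188206 = n182446 := d3_1 D188206 F356512 (iv2 F295072)
theorem F372662 : act 3 n188206 = n91087 := d7_1 D188206 (iv6 D91087) D91084
theorem F372663 : act 4 n188206 = n102382 := d10_1 D188206 F352773 (iv4 F140137)
theorem F372664 : act 5 n188206 = n120468 := d12_1 D188206 (iv6 D120468) D120467 (iv6 F367969) F367963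
theorem F372665 : act 7 n188206 = n99875 := d14_2 (iv7 F295073) D188206 (iv6 D99875) (iv7 F154983) F289942
theorem F372666 : act 0 n120468 = n186827 := d21_7 (iv5 F290112) (iv1 F157185) (iv5 D88228) D88229 (iv1 F295071) D188206 F372664 (iv5 D186827) F136914 (iv1 F356393)
theorem F372667 : act 0 n188206 = n91379 := d21_10 F140523 F336772 F297097 (iv6 D86395) F60869 D45800 D98075 F367968 F367963 D188206
theorem F372668 : act 0 n182442 = n188206 := d21_4 (iv5 F343089) (iv1 D109030) (iv5 F327617) D182442 (iv6 D188206) (iv5 F367963) (iv1 F367967) F295198 (iv6 F294930) (iv1 F294994)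
def n188207 : Q := act 0 n91085
theorem D188207 : act 0 n91085 = n188207 := rfl
theorem F372669 : act 5 n188207 = n144232 := d17_1 D188207 F365427 (iv5 F335319) (iv4 D93203) (iv5 F356248) (iv0 F370948) (iv5 D187593) F139091 D91085
theorem F372670 : act 4 n188207 = n184071 := d20_2 D91085 D188207 (iv3 F370485) (iv1 D92552) (iv3 D43302) F32495 F31145 F16968 D20136 D42661
theorem F372671 : act 2 n176940 = n188207 := d15_3 (iv0 D188207) (iv0 F370227) F370224
theorem F372672 : act 1 n91090 = n188207 := d15_0 (iv0 D188207) (iv7 F370932) F370929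
theorem F372673 : act 7 n188207 = n176945 := d15_2 F370226 F372672 (iv2 F370221)
theorem F372674 : act 3 n102919 = n188207 := d20_3 F64972 D47729 D102919 (iv1 F372672) (iv3 F140139) D182848 (iv1 F370097) (iv4 F370171) (iv3 D187397) (iv1 D90015)
def n188208 : Q := act 3 n91085
theorem D188208 : act 3 n91085 = n188208 := rfl
theorem F372675 : act 2 n188208 = n182852 := d0_1 D188208 (iv3 D182852) (iv2 F343076) D187383 (iv2 F370091)
theorem F372676 : act 4 n188208 = n99778 := d5_2 D91085 D188208 F295182 (iv4 F140137) (iv3 D91084)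
theorem F372677 : act 7 n188208 = n100846 := d8_2 F370932 D188208 (iv3 F370930)
theorem F372678 : act 0 n188208 = n185649 := d20_4 (iv4 D42664) D42661 D91085 D188208 (iv3 D185649) (iv4 F158245) F293759 F235277 (iv3 F293403) (iv1 D91096)
theorem F372679 : act 1 n182852 = n186059 := d15_0 (iv0 F367057) (iv7 F372677) F372675
theorem F372680 : act 0 n176674 = n188208 := d20_1 (iv4 F360352) F372676 F295182 (iv1 D87105) (iv3 D40472) (iv4 F30736) F31629 (iv4 F33431) D44556 D95396
def n188209 : Q := act 5 n91085
theorem D188209 : act 5 n91085 = n188209 := rfl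
def n188210 : Q := act 6 n91085
theorem D188210 : act 6 n91085 = n188210 := rfl
theorem F372681 : act 2 n188210 = n102001 := d3_1 D188210 (iv6 F370088) (iv2 F370091)
theorem F372682 : act 4 n188210 = n91087 := d10_1 D188210 (iv6 D91087) D91085
theorem F372683 : act 7 n188210 = n101996 := d14_2 F370932 D188210 (iv6 F372408) F372409 (iv6 F370931)
def n188211 : Q := act 4 n91089
theorem D188211 : act 4 n91089 = n188211 := rfl
theorem F372684 : act 2 n188211 = n185459 := d1_1 D188211 (iv4 F370983) F370981
theorem F372685 : act 3 n188211 = n182848 := d5_1 D188211 (iv4 D182848) F140139 (iv4 D91090) D91089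
theorem F372686 : act 6 n188211 = n96205 := d10_2 F372419 D188211 (iv4 F372418)
theorem F372687 : act 7 n188211 = n185458 := d11_2 F370939 D188211 (iv4 F370936)
theorem F372688 : act 0 n188211 = n185453 := d20_1 D188211 F287716 (iv3 F294101) (iv1 F283833) (iv3 F370988) F370987 F370458 (iv4 D187468) (iv3 F287947) (iv1 F370943)
theorem F372689 : act 0 n92032 = n188211 := d20_10 (iv4 D188211) (iv1 F370942) (iv4 D185626) (iv3 F158223) F284060 (iv3 D88447) (iv4 F293035) (iv1 F293954) D43018 D92032
def n188212 : Q := act 5 n91090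
theorem D188212 : act 5 n91090 = n188212 := rfl
theorem F372690 : act 3 n188212 = n95512 := d6_1 D188212 F343046 F140139
def n188213 : Q := act 5 n91093
theorem D188213 : act 5 n91093 = n188213 := rfl
theorem F372691 : act 2 n188213 = n91097 := d2_1 D188213 (iv5 D91097) (iv2 F140140)
theorem F372692 : act 7 n188213 = n96113 := d13_2 F283180 D188213 F356265
theorem F372693 : act 0 n188213 = n96111 := d17_2 (iv1 F293827) D188213 (iv5 D96111) F294979 D188165 F372528 F286016 (iv0 D184070) F134774
theorem F372694 : act 1 n188213 = n95548 := d17_6 D41635 D89114 (iv1 F343088) (iv5 D91094) D91093 D188213 (iv5 D95548) (iv0 F70176) F64245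
theorem F372695 : act 4 n188213 = n176934 := d18_5 (iv1 F370934) (iv4 D187591) (iv1 F139088) D91093 D188213 F276288 (iv4 F270262) F270266 D176940
def n188214 : Q := act 4 n91094
theorem D188214 : act 4 n91094 = n188214 := rfl
theorem F372696 : act 2 n188214 = n91101 := d1_1 D188214 (iv4 D91101) (iv2 F140142)
theorem F372697 : act 1 n188214 = n183121 := d18_6 (iv1 D184071) F134774 (iv1 F293827) (iv4 D91093) D91094 D188214 (iv4 D183121) D183120 F367241
theorem F372698 : act 3 n104193 = n188214 := d0_0 F372696 F140148 (iv2 F351152) F154511 (iv2 F159727)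
theorem F372699 : act 6 n188214 = n104192 := d7_2 D104193 F372698 (iv3 D104192)
def n188215 : Q := act 6 n91094
theorem D188215 : act 6 n91094 = n188215 := rfl
theorem F372700 : act 2 n188215 = n91102 := d3_1 D188215 (iv6 D91102) (iv2 F140142)
theorem F372701 : act 4 n188215 = n104192 := d10_1 D188215 (iv6 F372699) (iv4 D188214)
theorem F372702 : act 7 n184090 = n188215 := d11_0 F372701 F159726 D184090
theorem F372703 : act 0 n188138 = n188215 := d18_2 (iv1 D188137) D188138 F372701 F293880 F134883 D87946 (iv4 F294973) (iv0 F372445) (iv5 F372444)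
def n188216 : Q := act 5 n91095
theorem D188216 : act 5 n91095 = n188216 := rfl
theorem F372704 : act 2 n188216 = n91105 := d2_1 D188216 (iv5 D91105) (iv2 F140143)
theorem F372705 : act 3 n188216 = n101030 := d6_1 D188216 (iv5 D101030) (iv3 F292392)
theorem F372706 : act 7 n188216 = n100734 := d13_2 (iv7 F292394) D188216 (iv5 D100734)
theorem F372707 : act 1 n188216 = n102300 := d17_6 F137038 D97477 (iv1 F160466) (iv5 D104756) (iv4 F292393) D188216 F356204 (iv0 D89369) (iv4 F137037)
theorem F372708 : act 0 n188216 = n102301 := d21_1 D188216 (iv5 F287610) D186908 F372445 F152092 (iv5 D47432) (iv1 F159816) (iv5 D47361) (iv6 F289585) (iv1 F292391)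
def n188217 : Q := act 1 n91097
theorem D188217 : act 1 n91097 = n188217 := rfl
theorem F372709 : act 1 n188217 = n96113 := d15_1 D188217 (iv7 F372692) F372691
theorem F372710 : act 7 n188217 = n96111 := d15_2 (iv0 F293830) D188217 F147760
theorem F372711 : act 5 n188217 = n93209 := d17_7 (iv1 F294965) (iv5 F356248) (iv1 D91100) (iv5 D42665) D42664 D91097 D188217 F295187 F70243
theorem F372712 : act 3 n96064 = n188217 := d19_19 (iv1 D188217) (iv5 D91097) (iv4 D42664) (iv3 D20136) (iv1 F31734) (iv5 F31983) (iv4 D20149) (iv3 F31976) (iv1 F294740) (iv5 D41680) F31392 (iv3 F31334) (iv1 F65822) D21348 F292765 D47745 D102956 F293761 (iv4 F331392)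
theorem F372713 : act 2 n188217 = n95548 := d0_1 F372712 F147197 F70177 (iv3 F70408) (iv2 F147676)
theorem F372714 : act 4 n188217 = n186411 := d5_2 (iv4 F331392) F372712 F366052 (iv4 F229202) F366176
def n188218 : Q := act 6 n91097
theorem D188218 : act 6 n91097 = n188218 := rfl
theorem F372715 : act 3 n188218 = n181932 := d7_1 D188218 (iv6 D181932) (iv3 F140145)
theorem F372716 : act 4 n188218 = n110781 := d10_1 D188218 F361703 F343052
def n188219 : Q := act 4 n91099
theorem D188219 : act 4 n91099 = n188219 := rfl
theorem F372717 : act 2 n188219 = n186773 := d1_1 D188219 (iv4 D186773) F356243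
theorem F372718 : act 7 n188219 = n186770 := d11_2 F356245 D188219 (iv4 D186770)
def n188220 : Q := act 6 n91099
theorem D188220 : act 6 n91099 = n188220 := rfl
theorem F372719 : act 2 n188220 = n186774 := d3_1 D188220 (iv6 D186774) F356243
theorem F372720 : act 5 n188220 = n101979 := d12_1 D188220 (iv6 D101979) (iv5 F335329) (iv6 D93200) (iv5 F356189)
def n188221 : Q := act 3 n91100
theorem D188221 : act 3 n91100 = n188221 := rfl
theorem F372721 : act 5 n188221 = n93202 := d6_2 (iv5 F356248) D188221 (iv3 D93202)
theorem F372722 : act 7 n188221 = n186772 := d8_2 (iv7 F356246) D188221 F367959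
def n188222 : Q := act 4 n91100
theorem D188222 : act 4 n91100 = n188222 := rfl
theorem F372723 : act 2 n188222 = n186770 := d1_1 D188222 (iv4 D186770) (iv2 F356247)
theorem F372724 : act 7 n188222 = n186773 := d11_2 (iv7 F356246) D188222 (iv4 D186773)
theorem F372725 : act 5 n188222 = n104412 := d16_1 D188222 F160071 F293441 (iv4 F126987) (iv5 F364437) (iv4 D93198) (iv5 F356189) (iv7 F356245) (iv2 F356247)
def n188223 : Q := act 6 n91100
theorem D188223 : act 6 n91100 = n188223 := rfl
theorem F372726 : act 2 n188223 = n186771 := d3_1 D188223 (iv6 D186771) (iv2 F356247)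
theorem F372727 : act 5 n188223 = n100881 := d12_1 D188223 (iv6 D100881) (iv5 F357532) F357533 (iv5 F356248)
theorem F372728 : act 0 n188223 = n93295 := d21_7 D62939 D133982 (iv5 F357530) F357522 (iv1 F154887) D100881 (iv5 F372727) F372456 (iv6 D133980) (iv1 D62937)
def n188224 : Q := act 0 n91101
theorem D188224 : act 0 n91101 = n188224 := rfl
theorem F372729 : act 4 n188224 = n96105 := d18_3 (iv1 D91100) D91101 D188224 (iv5 D96105) F70436 F295186 (iv4 D43607) D43605 (iv5 F356248)
theorem F372730 : act 7 n183121 = n188224 := d11_0 F372729 F147743 D183121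
def n188225 : Q := act 1 n91101
theorem D188225 : act 1 n91101 = n188225 := rfl
theorem F372731 : act 4 n98903 = n188225 := d20_6 (iv4 D20639) (iv1 F31971) F31970 (iv3 F66695) (iv1 F292360) (iv3 F152457) (iv1 D188225) (iv4 D91101) F66889 (iv1 F32756)
theorem F372732 : act 2 n188225 = n183121 := d1_1 F372731 (iv4 D183121) (iv2 F152456)
def n188226 : Q := act 5 n91101
theorem D188226 : act 5 n91101 = n188226 := rfl
theorem F372733 : act 3 n188226 = n186680 := d6_1 D188226 F367654 (iv3 F140148)
theorem F372734 : act 4 n188226 = n187186 := d16_2 D91101 D188226 (iv5 D187186) (iv4 F343054) F356265 F283179 D187593 F370946 F140142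
theorem F372735 : act 6 n186678 = n188226 := d7_0 F372733 (iv6 D186680) (iv3 F367644)
def n188227 : Q := act 6 n91101
theorem D188227 : act 6 n91101 = n188227 := rfl
theorem F372736 : act 2 n188227 = n104192 := d3_1 D188227 (iv6 F372699) F372696
theorem F372737 : act 3 n188227 = n100399 := d7_1 D188227 (iv6 F351151) (iv3 F140148)
theorem F372738 : act 4 n188227 = n91102 := d10_1 D188227 (iv6 D91102) D91101
theorem F372739 : act 5 n188227 = n184230 := d12_1 D188227 (iv6 F294757) D186678 F372735 (iv5 D188226)
theorem F372740 : act 0 n184065 = n188227 := d21_7 D183479 F356269 F294500 (iv6 F293905) D104139 F177433 D184065 F372739 (iv6 F294757) (iv1 F136707)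
theorem F372741 : act 0 n188227 = n183921 := d21_7 (iv5 F61730) (iv1 F127862) F127860 D87334 F157627 F294757 (iv5 F372739) (iv5 D183921) (iv6 D87741) (iv1 D40881)
theorem F372742 : act 7 n188227 = n100448 := d15_2 (iv0 F352899) (iv0 F372741) F154509
def n188228 : Q := act 1 n91102
theorem D188228 : act 1 n91102 = n188228 := rfl
theorem F372743 : act 1 n188228 = n184090 := d15_1 D188228 F372702 F372700
theorem F372744 : act 4 n188135 = n188228 := d20_0 (iv1 D188228) (iv4 F372738) F372737 (iv1 D100399) (iv3 F329716) (iv4 F345064) (iv1 F180171) F345049 (iv3 F345054) (iv1 F372434)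
theorem F372745 : act 2 n188228 = n188138 := d1_1 F372744 (iv4 D188138) (iv2 F372429)
theorem F372746 : act 6 n188228 = n148131 := d10_2 (iv6 F372431) F372744 (iv4 F357528)
theorem F372747 : act 3 n148133 = n188228 := d7_3 F372746 (iv3 D148131) D148133
def n188229 : Q := act 5 n91102
theorem D188229 : act 5 n91102 = n188229 := rfl
theorem F372748 : act 3 n188229 = n91109 := d6_1 D188229 (iv5 D91109) (iv3 F140149)
theorem F372749 : act 6 n188229 = n91105 := d12_2 D91102 D188229 (iv5 D91105) (iv6 D42666) D42665
theorem F372750 : act 4 n188229 = n102281 := d16_2 F372738 D188229 (iv5 D102281) D102280 F352902 (iv4 F159353) F293841 (iv7 F159726) (iv2 F372736)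
def n188230 : Q := act 7 n91102
theorem D188230 : act 7 n91102 = n188230 := rfl
theorem F372751 : act 2 n188230 = n184090 := d4_1 D188230 F372702 F372700
theorem F372752 : act 3 n188230 = n91110 := d8_1 D188230 (iv7 D91110) (iv3 F140149)
theorem F372753 : act 4 n188230 = n100448 := d11_1 D188230 (iv7 F372742) F372738
theorem F372754 : act 1 n188138 = n188230 := d15_1 (iv0 F372703) (iv7 D188230) (iv2 F372700)
def n188231 : Q := act 3 n91104
theorem D188231 : act 3 n91104 = n188231 := rfl
theorem F372755 : act 2 n188231 = n102370 := d0_1 D188231 (iv3 D102370) F156219 (iv3 F289635) (iv2 F292386)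
theorem F372756 : act 4 n188231 = n96270 := d5_2 (iv4 F292387) D188231 (iv3 F160507) (iv4 D104770) D104769
theorem F372757 : act 5 n188231 = n156182 := d6_2 F368476 D188231 F368477
theorem F372758 : act 6 n188231 = n99632 := d7_2 (iv6 F292388) D188231 F157389
theorem F372759 : act 7 n188231 = n99464 := d8_2 (iv7 F292389) D188231 F153220
theorem F372760 : act 0 n188231 = n183764 := d20_4 (iv4 F289691) F289689 (iv4 F292387) D188231 (iv3 F288069) (iv4 D185767) (iv1 F135457) (iv4 F73268) (iv3 F147047) (iv1 F147051)
theorem F372761 : act 0 n97956 = n188231 := d20_4 F134719 (iv1 F289757) (iv4 D97957) D97956 (iv3 D188231) F292387 (iv1 F289697) F289700 F135201 F289777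
def n188232 : Q := act 0 n91105
theorem D188232 : act 0 n91105 = n188232 := rfl
theorem F372762 : act 1 n100734 = n188232 := d15_0 (iv0 D188232) F292395 (iv2 F289668)
theorem F372763 : act 5 n188232 = n186893 := d17_7 F147770 (iv5 F287718) (iv1 F287721) (iv5 D95463) F289667 D100734 F372762 F368433 (iv4 F147768)
theorem F372764 : act 2 n102301 = n188232 := d2_3 F372763 (iv2 F368435) F287610
theorem F372765 : act 3 n102378 = n188232 := d6_3 F372763 (iv3 F368436) (iv5 F356392)
theorem F372766 : act 7 n102300 = n188232 := d13_0 F372763 F368434 (iv5 F356204)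
def n188233 : Q := act 1 n91105
theorem D188233 : act 1 n91105 = n188233 := rfl
theorem F372767 : act 1 n188233 = n100734 := d15_1 D188233 (iv7 F372706) F372704
theorem F372768 : act 7 n188233 = n102301 := d15_2 (iv0 D188232) D188233 F372764
theorem F372769 : act 5 n172225 = n188233 := d21_0 (iv1 D188233) (iv5 D91105) (iv6 D42666) D42661 D91087 (iv5 F362409) (iv1 F289509) (iv5 D89361) D89362 F362410
theorem F372770 : act 2 n188233 = n102300 := d2_1 F372769 F356204 F356202
def n188234 : Q := act 4 n91105
theorem D188234 : act 4 n91105 = n188234 := rfl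
theorem F372771 : act 6 n188234 = n102281 := d10_2 F372749 D188234 (iv4 F372750)
theorem F372772 : act 7 n188234 = n102302 := d11_2 (iv7 F292395) D188234 (iv4 D102302)
theorem F372773 : act 0 n154496 = n188234 := d21_4 (iv5 F155044) F338067 (iv5 F310408) D154496 F372771 (iv5 D102281) (iv1 F153543) (iv5 F274880) (iv6 D175537) (iv1 F128843)
def n188235 : Q := act 3 n91107
theorem D188235 : act 3 n91107 = n188235 := rfl
theorem F372774 : act 2 n188235 = n159396 := d0_1 D188235 F370639 F370642 F370912 (iv2 F370911)
theorem F372775 : act 4 n188235 = n159389 := d5_2 F368013 D188235 F250959 F356687 F367122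
theorem F372776 : act 7 n188235 = n159403 := d8_2 F370919 D188235 (iv3 F370921)
theorem F372777 : act 0 n188235 = n118769 := d20_10 (iv4 D118769) (iv1 D54680) D54681 D118772 F351279 F138794 (iv4 F66896) D91133 F368013 D188235
theorem F372778 : act 1 n188235 = n118767 := d15_1 (iv0 F372777) (iv7 F251703) F251702
def n188236 : Q := act 5 n91107
theorem D188236 : act 5 n91107 = n188236 := rfl
def n188237 : Q := act 5 n91108
theorem D188237 : act 5 n91108 = n188237 := rfl
theorem F372779 : act 3 n188237 = n154374 := d6_1 D188237 (iv5 F370632) F370916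
theorem F372780 : act 6 n102354 = n188237 := d21_5 (iv5 D90158) (iv1 F291149) F63932 D47494 D102354 (iv5 D188237) (iv1 D91108) D91109 F140152 (iv1 F138611)
def n188238 : Q := act 6 n91108
theorem D188238 : act 6 n91108 = n188238 := rfl
theorem F372781 : act 3 n188238 = n154378 := d7_1 D188238 F370634 F370916
theorem F372782 : act 5 n188238 = n154363 := d12_1 D188238 (iv6 D154363) (iv5 F368546) F372780 (iv5 D188237)
def n188239 : Q := act 0 n91109
theorem D188239 : act 0 n91109 = n188239 := rfl
def n188240 : Q := act 1 n91109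
theorem D188240 : act 1 n91109 = n188240 := rfl
theorem F372783 : act 1 n188240 = n102333 := d15_1 D188240 (iv7 D102333) (iv2 F292396)
theorem F372784 : act 6 n101909 = n188240 := d21_3 D175526 F274900 F156852 (iv1 D188240) F140152 (iv5 D42668) (iv1 F291055) D21860 (iv6 F59428) D83809
theorem F372785 : act 5 n101580 = n188240 := d21_6 F293447 (iv1 F293711) D20633 (iv6 F295147) D47251 D101580 (iv1 D188240) (iv5 D91109) (iv6 D42667) (iv1 F32756)
theorem F372786 : act 2 n188240 = n102332 := d2_1 F372785 (iv5 F368021) F368019
theorem F372787 : act 3 n188240 = n153862 := d7_1 F372784 (iv6 D153862) (iv3 F308376)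
theorem F372788 : act 7 n188240 = n185155 := d14_2 F310409 F372784 (iv6 F358570) (iv7 F353729) (iv6 D154496)
theorem F372789 : act 2 n185155 = n188239 := d15_3 (iv0 D188239) D188240 F372788
theorem F372790 : act 7 n102332 = n188239 := d4_2 (iv7 F372788) F372786 (iv2 F372789)
theorem E103303 : n185155 = n102331 := (c15_4 (iv0 D102331) D102332 F372790 (iv2 F372789))
theorem F372791 : act 2 n102331 = n188239 := (sb E103303 F372789)
theorem F372792 : act 3 n102331 = n88240 := (sb E103303 (iv3 D185155))
theorem F372793 : act 6 n102331 = n154521 := (sb E103303 (iv6 F358570))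
theorem F372794 : act 7 n102331 = n188240 := (sb E103303 (iv7 F372788))
theorem F372795 : act 1 n102333 = n188239 := d15_1 F372783 (iv7 F372790) (iv2 F372786)
def n188241 : Q := act 4 n91109
theorem D188241 : act 4 n91109 = n188241 := rfl
theorem F372796 : act 2 n188241 = n102330 := d1_1 D188241 F157146 (iv2 F292396)
theorem F372797 : act 6 n188241 = n91111 := d10_2 (iv6 F140152) D188241 (iv4 D91111)
def n188242 : Q := act 7 n91109
theorem D188242 : act 7 n91109 = n188242 := rfl
theorem F372798 : act 2 n188242 = n102333 := d4_1 D188242 (iv7 D102333) (iv2 F292396)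
theorem F372799 : act 5 n188242 = n91110 := d13_1 D188242 (iv7 D91110) D91109
theorem F372800 : act 6 n188242 = n102318 := d14_1 D188242 (iv7 D102318) (iv6 D47479) F291723 (iv6 F140152)
theorem F372801 : act 1 n102332 = n188242 := d15_1 D102332 (iv7 D188242) F292396
theorem F372802 : act 1 n188242 = n102331 := d15_1 F372801 F372794 F372786
def n188243 : Q := act 3 n91111
theorem D188243 : act 3 n91111 = n188243 := rfl
theorem F372803 : act 5 n188243 = n154358 := d6_2 F144688 D188243 (iv3 F368361)
theorem F372804 : act 7 n188243 = n101911 := d8_2 (iv7 F292344) D188243 F346077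
theorem F372805 : act 0 n188243 = n186928 := d20_4 (iv4 D96168) (iv1 F291508) D91111 D188243 F368536 (iv4 D154508) (iv1 F338139) F338147 F193445 F290885
def n188244 : Q := act 5 n91114
theorem D188244 : act 5 n91114 = n188244 := rfl
theorem F372806 : act 2 n188244 = n141205 := d2_1 D188244 F371001 (iv2 F370997)
theorem F372807 : act 3 n188244 = n91116 := d6_1 D188244 (iv5 D91116) D91114
theorem F372808 : act 4 n188244 = n98924 := d18_5 (iv1 F67961) (iv4 F140081) (iv1 F140085) (iv4 F140157) D188244 F372548 (iv4 D188171) (iv0 F294926) F293386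
theorem F372809 : act 6 n141190 = n188244 := d10_0 F372808 F364541 D141190
def n188245 : Q := act 3 n91115
theorem D188245 : act 3 n91115 = n188245 := rfl
theorem F372810 : act 2 n188245 = n182411 := d0_1 D188245 (iv3 D182411) (iv2 F361046) F289988 (iv2 F338424)
theorem F372811 : act 4 n188245 = n102571 := d5_2 D91115 D188245 F360979 (iv4 F140157) (iv3 D91114)
theorem F372812 : act 6 n188245 = n99427 := d7_2 (iv6 F338425) D188245 (iv3 D99427)
theorem F372813 : act 7 n188245 = n102110 := d8_2 (iv7 F338426) D188245 (iv3 D102110)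
theorem F372814 : act 0 n188245 = n99656 := d20_4 F33435 D42670 D91115 D188245 F153481 (iv4 F153483) F370491 F370488 (iv3 D95414) (iv1 D44563)
theorem F372815 : act 1 n188245 = n187165 := d15_1 (iv0 F372814) F369298 (iv2 F367151)
def n188246 : Q := act 4 n91116
theorem D188246 : act 4 n91116 = n188246 := rfl
theorem F372816 : act 2 n188246 = n183046 := d1_1 D188246 (iv4 F295440) (iv2 F338429)
theorem F372817 : act 7 n188246 = n183045 := d11_2 F338448 D188246 F338450
theorem F372818 : act 0 n188246 = n183008 := d18_2 (iv1 F338428) D188246 (iv4 D183008) (iv5 D87365) (iv4 F64276) D89157 (iv4 F294777) (iv0 D91000) (iv5 F66917)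
theorem F372819 : act 5 n188246 = n180787 := d18_4 (iv1 F333850) (iv4 D91209) (iv1 F338428) D188246 F281415 (iv0 F365733) F168978 (iv0 F327609) D157867
theorem F372820 : act 1 n188246 = n183049 := d18_6 F294917 F135285 (iv1 F295365) (iv4 D91115) D91116 D188246 F284680 F284618 (iv5 F294918)
theorem F372821 : act 3 n188246 = n157928 := d19_3 D42670 D91116 D188246 (iv1 D157928) (iv5 D75232) F54648 (iv3 D16708) (iv1 F21426) F21424 (iv4 D8121) (iv3 F12886) D17339 F30319 D17581 F28561 (iv1 F14567) D9766 F16850 D20139
def n188247 : Q := act 6 n91116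
theorem D188247 : act 6 n91116 = n188247 := rfl
theorem F372822 : act 3 n188247 = n141190 := d7_1 D188247 F372809 F372807
theorem F372823 : act 5 n188247 = n101089 := d12_1 D188247 (iv6 D101089) (iv5 D47091) F338430 D91116
theorem F372824 : act 0 n188247 = n136492 := d21_4 (iv5 D42673) D42670 D91116 D188247 F219605 (iv5 D64165) D64163 D136495 (iv6 F356801) (iv1 D91126)
theorem F372825 : act 1 n188247 = n91229 := d15_1 (iv0 F372824) (iv7 F371033) F371032
def n188248 : Q := act 2 n91119
theorem D188248 : act 2 n91119 = n188248 := rfl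
theorem F372826 : act 3 n188248 = n186130 := d0_2 D91119 D188248 F370888 (iv3 D187582) F338431
theorem F372827 : act 7 n188248 = n91146 := d4_2 (iv7 F338439) D188248 F362648
theorem F372828 : act 1 n188248 = n91147 := d15_0 F292616 (iv7 F338439) D188248
theorem F372829 : act 1 n91150 = n188248 := d15_0 F372828 (iv7 F158169) F158168
theorem F372830 : act 4 n188248 = n98034 := d20_2 (iv4 F140194) (iv1 F372828) (iv3 D98034) (iv1 D45755) (iv3 D21875) (iv4 D10433) F14256 D19477 D41361 D88617
theorem F372831 : act 6 n188248 = n101382 := d21_5 F339542 (iv1 F285659) (iv5 D183850) (iv6 F292618) (iv1 F372828) (iv5 F368195) (iv1 D186835) (iv5 D89233) D89234 (iv1 F339555)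
def n188249 : Q := act 4 n91119
theorem D188249 : act 4 n91119 = n188249 := rfl
theorem F372832 : act 2 n188249 = n98034 := d1_1 D188249 (iv4 F372830) (iv2 D188248)
theorem F372833 : act 3 n188249 = n182407 := d5_1 D188249 (iv4 D182407) F140159 (iv4 D91120) D91119
theorem F372834 : act 7 n188249 = n184495 := d11_2 (iv7 F338439) D188249 F286441
theorem F372835 : act 0 n188249 = n102918 := d20_1 D188249 F158220 F370485 (iv1 D184071) F134773 F66269 F294003 (iv4 D42681) D42680 (iv1 F362647)
def n188250 : Q := act 6 n91119
theorem D188250 : act 6 n91119 = n188250 := rfl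
theorem F372836 : act 2 n188250 = n101382 := d3_1 D188250 (iv6 F372831) (iv2 D188248)
theorem F372837 : act 3 n188250 = n91122 := d7_1 D188250 (iv6 D91122) D91119
theorem F372838 : act 7 n188250 = n101096 := d14_2 (iv7 F338439) D188250 (iv6 D101096) F155662 D87987
theorem F372839 : act 0 n188250 = n101376 := d21_4 D89202 D186823 F368137 D188250 (iv6 D101376) D101375 (iv1 F365617) (iv5 F368134) (iv6 D186822) (iv1 D89201)
theorem F372840 : act 5 n188250 = n175272 := d21_6 (iv5 F344318) (iv1 D183853) (iv5 D87703) F292620 (iv1 F362647) D188250 (iv1 F368173) (iv5 D186832) D186833 (iv1 F368181)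
theorem F372841 : act 0 n91377 = n188250 := d21_4 D182056 (iv1 F344367) F292473 (iv6 F290625) (iv6 D188250) (iv5 F368137) (iv1 F368136) F364231 (iv6 F294657) F294194
theorem F372842 : act 4 n188250 = n159792 := d18_1 F372841 (iv1 D159792) (iv4 F161656) F161657 (iv4 F339756) (iv0 F339755) (iv4 F368168) F368171 (iv5 F140515)
theorem F372843 : act 6 n159792 = n188249 := d10_2 D188250 F372842 (iv4 D188249)
def n188251 : Q := act 6 n91120
theorem D188251 : act 6 n91120 = n188251 := rfl
theorem F372844 : act 2 n188251 = n91129 := d3_1 D188251 F356799 (iv2 F338440)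
theorem F372845 : act 3 n188251 = n182409 := d7_1 D188251 (iv6 D182409) F140159
theorem F372846 : act 4 n188251 = n91122 := d10_1 D188251 (iv6 D91122) D91120
theorem F372847 : act 7 n188251 = n91130 := d14_2 (iv7 F338441) D188251 F344229 (iv7 F155656) F289985
theorem F372848 : act 0 n188251 = n91132 := d21_10 F292283 F367242 (iv5 D153539) (iv6 D72595) F52829 D41651 D89158 D186795 F368036 D188251
theorem F372849 : act 0 n91124 = n188251 := d21_4 (iv5 F370894) (iv1 F370895) (iv5 D91123) D91124 (iv6 D188251) (iv5 F368036) (iv1 F368038) F136878 (iv6 F293931) D91000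
def n188252 : Q := act 4 n91121
theorem D188252 : act 4 n91121 = n188252 := rfl
theorem F372850 : act 2 n188252 = n183045 := d1_1 D188252 F338450 (iv2 F338446)
theorem F372851 : act 7 n188252 = n183046 := d11_2 (iv7 F338442) D188252 (iv4 F295440)
theorem F372852 : act 0 n188252 = n183049 := d18_2 (iv1 F338445) D188252 F284680 F134154 (iv4 F64282) F136860 (iv4 F294779) F140049 D93238
theorem F372853 : act 1 n188252 = n183008 := d18_6 F294602 F294102 (iv1 F344359) (iv4 D91120) D91121 D188252 (iv4 D183008) D183007 (iv5 F284612)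
def n188253 : Q := act 6 n91121
theorem D188253 : act 6 n91121 = n188253 := rfl
theorem F372854 : act 2 n188253 = n148051 := d3_1 D188253 (iv6 F338452) (iv2 F338446)
theorem F372855 : act 5 n188253 = n117548 := d12_1 D188253 (iv6 F346004) F346006 (iv6 D91122) D91121
def n188254 : Q := act 4 n91123
theorem D188254 : act 4 n91123 = n188254 := rfl
theorem F372856 : act 2 n188254 = n91127 := d1_1 D188254 (iv4 D91127) (iv2 F140160)
theorem F372857 : act 5 n188254 = n108996 := d16_1 D188254 F327612 (iv5 F328565) F203778 F328161 (iv4 F65257) D90374 F139081 (iv2 F140160)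
theorem F372858 : act 0 n188254 = n157874 := d17_0 (iv5 D157874) (iv1 F327454) F327456 (iv4 D91209) F66917 D91001 (iv5 F370900) F370898 D188254
theorem F372859 : act 1 n188254 = n183029 := d18_6 (iv1 F283833) (iv4 D182297) (iv1 F133634) F70080 D91123 D188254 (iv4 D183029) F284643 (iv5 F294103)
theorem F372860 : act 6 n187937 = n188254 := d21_5 (iv5 D140328) (iv1 F101515) D134738 F364310 D187937 F372857 F327610 D122328 F341400 (iv1 F350889)
def n188255 : Q := act 6 n91123
theorem D188255 : act 6 n91123 = n188255 := rfl
theorem F372861 : act 2 n188255 = n91128 := d3_1 D188255 (iv6 D91128) (iv2 F140160)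
theorem F372862 : act 4 n188255 = n187937 := d10_1 D188255 F372860 (iv4 D188254)
def n188256 : Q := act 1 n91124
theorem D188256 : act 1 n91124 = n188256 := rfl
theorem F372863 : act 1 n188256 = n91132 := d15_1 D188256 (iv7 D91132) (iv2 F140161)
theorem F372864 : act 7 n188256 = n91129 := d15_2 (iv0 F372849) D188256 (iv2 F372844)
theorem F372865 : act 4 n188256 = n99752 := d18_7 (iv1 F329751) (iv4 D68756) (iv1 F183509) (iv4 F183951) (iv5 F343877) F147017 D188256 (iv0 D99752) (iv5 F73588)
theorem F372866 : act 6 n99423 = n188256 := d21_3 D89412 F364323 F364320 (iv1 D188256) (iv6 D91124) D91123 (iv1 F370898) F370900 (iv6 F349309) (iv1 D89411)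
theorem F372867 : act 2 n188256 = n91130 := d3_1 F372866 F344229 (iv2 F155659)
def n188257 : Q := act 5 n91124
theorem D188257 : act 5 n91124 = n188257 := rfl
theorem F372868 : act 2 n188257 = n91131 := d2_1 D188257 (iv5 D91131) (iv2 F140161)
theorem F372869 : act 3 n188257 = n186749 := d6_1 D188257 F370955 F370950
theorem F372870 : act 4 n188257 = n117260 := d9_1 D188257 (iv5 D117260) F85272 D54046 (iv4 F321341) (iv5 D104240) F292498 F292283 D187028 F368869 F340879 F183458 (iv4 F183951) (iv5 F343877) F147017
theorem F372871 : act 7 n188257 = n187027 := d16_8 D187028 F368869 F340879 F183458 (iv4 F183951) (iv5 F343877) F147017 D188257 (iv2 D187027)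
theorem F372872 : act 0 n188257 = n186794 := d17_2 (iv1 D188256) D188257 F368034 F337239 D89397 F337251 (iv5 F337255) F287569 (iv4 F372865)
theorem F372873 : act 1 n188257 = n153539 := d17_6 (iv1 D70664) (iv5 F304452) (iv1 F321344) (iv5 F343877) F147017 D188257 (iv5 D153539) (iv0 F337234) F335688
theorem E103304 : n187027 = n186792 := ((c15_2 F344210 D186792 (iv7 F372871) F372868)).symm
theorem F372874 : act 2 n186792 = n89478 := (sb E103304 (iv2 D187027))
theorem F372875 : act 7 n186792 = n188257 := (sb E103304 (iv7 F372871))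
def n188258 : Q := act 7 n91124
theorem D188258 : act 7 n91124 = n188258 := rfl
theorem F372876 : act 2 n188258 = n91132 := d4_1 D188258 (iv7 D91132) (iv2 F140161)
theorem F372877 : act 3 n188258 = n100735 := d8_1 D188258 (iv7 F370952) F370950
theorem F372878 : act 4 n188258 = n104235 := d11_1 D188258 (iv7 F362385) F147017
theorem F372879 : act 5 n188258 = n186792 := d13_1 D188258 F372875 (iv5 D188257)
theorem F372880 : act 6 n188258 = n97970 := d14_1 D188258 F290182 (iv6 F293738) F139076 D91124
theorem F372881 : act 1 n91130 = n188258 := d15_1 D91130 (iv7 D188258) F140161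
theorem F372882 : act 1 n188258 = n91129 := d15_1 F372881 (iv7 F372864) F372867
def n188259 : Q := act 3 n91125
theorem D188259 : act 3 n91125 = n188259 := rfl
theorem F372883 : act 5 n188259 = n93229 := d6_2 (iv5 F357623) D188259 (iv3 D93229)
def n188260 : Q := act 4 n91125
theorem D188260 : act 4 n91125 = n188260 := rfl
theorem F372884 : act 5 n188260 = n166736 := d16_1 D188260 F262464 (iv5 F344354) (iv4 F344355) (iv5 D89171) (iv4 F295160) (iv5 F356800) (iv7 F370899) (iv2 F370901)
theorem F372885 : act 3 n188260 = n166737 := d19_3 D43615 (iv5 F357623) D188260 F262468 (iv5 D86348) F60820 (iv3 D18903) F13801 (iv5 F12889) (iv4 D8124) D8123 F28055 (iv5 D17118) (iv4 F14265) (iv3 F15058) (iv1 F17391) (iv5 F293113) (iv4 F293713) D20632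
def n188261 : Q := act 6 n91125
theorem D188261 : act 6 n91125 = n188261 := rfl
def n188262 : Q := act 3 n91126
theorem D188262 : act 3 n91126 = n188262 := rfl
theorem F372886 : act 5 n188262 = n93234 := d6_2 (iv5 F356800) D188262 (iv3 D93234)
theorem F372887 : act 7 n188262 = n186818 := d8_2 F370899 D188262 F370902
theorem F372888 : act 2 n186821 = n188262 := d2_3 F372886 (iv2 F344290) D186821
def n188263 : Q := act 4 n91126
theorem D188263 : act 4 n91126 = n188263 := rfl
def n188264 : Q := act 0 n91127
theorem D188264 : act 0 n91127 = n188264 := rfl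
theorem F372889 : act 5 n188264 = n157873 := d17_3 F327609 (iv5 F327615) D188264 (iv4 F256391) (iv5 F336496) (iv0 D126945) D126947 F353955 F192512
theorem F372890 : act 4 n188264 = n183002 := d18_3 (iv1 D91126) D91127 D188264 (iv5 D183002) (iv4 F134134) (iv0 F72625) F294760 D43616 (iv5 F356800)
theorem F372891 : act 2 n157874 = n188264 := d15_3 (iv0 D188264) (iv0 F333858) F301271
theorem F372892 : act 7 n188264 = n183029 := d4_2 F301271 F372891 F333853
def n188265 : Q := act 6 n91127
theorem D188265 : act 6 n91127 = n188265 := rfl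
theorem F372893 : act 2 n188265 = n187937 := d3_1 D188265 F372860 F372856
theorem F372894 : act 3 n188265 = n108590 := d7_1 D188265 F351284 (iv3 F327614)
theorem F372895 : act 4 n188265 = n91128 := d10_1 D188265 (iv6 D91128) D91127
theorem F372896 : act 5 n188265 = n109000 := d12_1 D188265 (iv6 D109000) (iv5 D50326) D50327 (iv5 F327615)
theorem F372897 : act 0 n134742 = n188265 := d20_10 F372895 F338893 F154512 (iv3 D46921) D46919 D100583 (iv4 F351130) (iv1 D109220) (iv4 F98564) (iv3 F216772)
theorem F372898 : act 6 n108864 = n108578 := d21_3 F359825 (iv1 F167981) D108864 (iv1 D108578) (iv6 F364314) F364313 F372897 F372896 (iv6 D109000) D108997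
theorem F372899 : act 1 n187547 = n188265 := d15_0 (iv0 F372897) (iv7 F343116) (iv2 F370763)
theorem F372900 : act 2 n108578 = n108869 := d3_1 F372898 (iv6 D108869) (iv2 F168866)
theorem F372901 : act 5 n139624 = n108578 := d2_0 F372900 (iv5 F361294) (iv2 F366689)
theorem F372902 : act 3 n108578 = n178901 := d6_1 F372901 (iv5 D178901) (iv3 F366690)
theorem F372903 : act 7 n187938 = n188265 := d8_0 F372894 (iv7 F351300) F371882
def n188266 : Q := act 1 n91128
theorem D188266 : act 1 n91128 = n188266 := rfl
def n188267 : Q := act 5 n91128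
theorem D188267 : act 5 n91128 = n188267 := rfl
theorem F372904 : act 3 n188267 = n91135 := d6_1 D188267 (iv5 D91135) (iv3 F140163)
theorem F372905 : act 6 n188267 = n91131 := d12_2 D91128 D188267 (iv5 D91131) (iv6 D42674) D42673
def n188268 : Q := act 7 n91128
theorem D188268 : act 7 n91128 = n188268 := rfl
theorem F372906 : act 3 n188268 = n91136 := d8_1 D188268 (iv7 D91136) (iv3 F140163)
theorem F372907 : act 4 n188268 = n187938 := d11_1 D188268 F372903 F372895
def n188269 : Q := act 3 n91129
theorem D188269 : act 3 n91129 = n188269 := rfl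
theorem F372908 : act 2 n188269 = n185051 := d0_1 D188269 (iv3 D185051) (iv2 F361044) (iv3 F372845) F372844
theorem F372909 : act 6 n188269 = n102110 := d7_2 (iv6 F356799) D188269 (iv3 D102110)
theorem F372910 : act 0 n188269 = n183755 := d20_4 (iv4 F135191) D185303 F356791 D188269 F285526 (iv4 F285531) F289868 F289867 (iv3 D185434) (iv1 D88337)
theorem F372911 : act 4 n188269 = n187665 := d20_6 (iv4 F66071) F290901 F32689 (iv3 F66895) D91129 D188269 (iv1 D187665) (iv4 F290614) F140107 (iv1 F290939)
def n188270 : Q := act 0 n91131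
theorem D188270 : act 0 n91131 = n188270 := rfl
theorem F372912 : act 5 n188270 = n153540 := d17_3 (iv1 D91130) D91131 D188270 F337263 (iv5 F337264) F337258 F136266 F344226 (iv4 F344228)
theorem F372913 : act 2 n186794 = n188270 := d15_3 (iv0 D188270) F344210 D186794
theorem F372914 : act 1 n186792 = n188270 := d15_0 (iv0 D188270) F292657 (iv2 F372874)
theorem F372915 : act 7 n188270 = n153539 := d15_2 D186792 F372914 F241328
def n188271 : Q := act 4 n91131
theorem D188271 : act 4 n91131 = n188271 := rfl
theorem F372916 : act 2 n188271 = n117260 := d1_1 D188271 (iv4 F372870) F372868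
theorem F372917 : act 7 n188271 = n187028 := d11_2 (iv7 F292657) D188271 (iv4 D187028)
theorem F372918 : act 5 n188271 = n117240 := d16_1 D188271 F183451 F85260 (iv4 F85436) (iv5 F321343) (iv4 F372878) F372879 F372875 F372868
theorem F372919 : act 1 n188271 = n182981 := d18_6 D88309 (iv4 F289896) F293413 F70069 D91131 D188271 (iv4 D182981) F289845 (iv5 D88311)
def n188272 : Q := act 5 n91133
theorem D188272 : act 5 n91133 = n188272 := rfl
theorem F372920 : act 6 n188272 = n186787 := d12_2 (iv6 F367120) D188272 (iv5 D186787) (iv6 D89134) D89133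
def n188273 : Q := act 3 n91134
theorem D188273 : act 3 n91134 = n188273 := rfl
theorem F372921 : act 7 n188273 = n151960 := d8_2 (iv7 F367123) D188273 F366585
theorem F372922 : act 0 n188273 = n187851 := d20_10 (iv4 D187851) (iv1 F370749) F370752 F318520 D179714 (iv3 F351143) (iv4 F370924) (iv1 F370927) (iv4 F370917) D188273
theorem F372923 : act 4 n100359 = n188273 := d20_2 (iv4 D100361) D100359 (iv3 D188273) (iv1 D91134) (iv3 F140163) (iv4 F372895) (iv1 F372899) F370764 F370756 F370755
def n188274 : Q := act 5 n91134
theorem D188274 : act 5 n91134 = n188274 := rfl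
def n188275 : Q := act 6 n91134
theorem D188275 : act 6 n91134 = n188275 := rfl
theorem F372924 : act 4 n188275 = n188238 := d10_1 D188275 (iv6 D188238) (iv4 F370917)
theorem F372925 : act 7 n188275 = n186785 := d14_2 (iv7 F367123) D188275 (iv6 D186785) F156433 D101573
def n188276 : Q := act 0 n91135
theorem D188276 : act 0 n91135 = n188276 := rfl
theorem F372926 : act 6 n188276 = n187020 := d21_5 F292187 (iv1 F66707) D42676 (iv6 F140166) D188276 F368848 (iv1 D99804) (iv5 F137135) (iv6 D89466) D89463
theorem F372927 : act 2 n187024 = n188276 := d3_3 F372926 (iv2 F368849) (iv6 F368868)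
theorem F372928 : act 4 n187021 = n188276 := d10_3 F372926 (iv4 D187020) D187021
theorem F372929 : act 7 n187025 = n188276 := d15_2 (iv0 D187024) D187025 (iv2 F372927)
def n188277 : Q := act 1 n91135
theorem D188277 : act 1 n91135 = n188277 := rfl
theorem F372930 : act 1 n188277 = n187026 := d15_1 D188277 (iv7 D187026) (iv2 F292660)
theorem F372931 : act 7 n188277 = n187024 := d15_2 (iv0 D188276) D188277 F372927
theorem F372932 : act 2 n187025 = n188277 := d4_3 F372931 F372927 (iv7 F372929)
theorem F372933 : act 1 n187026 = n188276 := d15_1 F372930 (iv7 F372929) F372932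
def n188278 : Q := act 4 n91135
theorem D188278 : act 4 n91135 = n188278 := rfl
theorem F372934 : act 2 n188278 = n187023 := d1_1 D188278 F368867 (iv2 F292660)
theorem F372935 : act 6 n188278 = n91138 := d10_2 (iv6 F140166) D188278 (iv4 D91138)
def n188279 : Q := act 7 n91135
theorem D188279 : act 7 n91135 = n188279 := rfl
theorem F372936 : act 2 n188279 = n187026 := d4_1 D188279 (iv7 D187026) (iv2 F292660)
theorem F372937 : act 5 n188279 = n91136 := d13_1 D188279 (iv7 D91136) D91135
theorem F372938 : act 6 n188279 = n187034 := d14_1 D188279 (iv7 D187034) (iv6 D89480) F292286 (iv6 F140166)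
theorem F372939 : act 1 n187025 = n188279 := d15_1 D187025 (iv7 D188279) F292660
theorem F372940 : act 1 n188279 = n187024 := d15_1 F372939 (iv7 F372931) (iv2 F372932)
def n188280 : Q := act 3 n91138
theorem D188280 : act 3 n91138 = n188280 := rfl
theorem F372941 : act 5 n188280 = n187773 := d6_2 (iv5 F140171) D188280 F371451
theorem F372942 : act 7 n188280 = n187030 := d8_2 F293347 D188280 (iv3 D187030)
def n188281 : Q := act 5 n91147
theorem D188281 : act 5 n91147 = n188281 := rfl
theorem F372943 : act 2 n188281 = n91148 := d2_1 D188281 (iv5 D91148) D91147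
theorem F372944 : act 3 n188281 = n109099 := d6_1 D188281 F336759 (iv3 F292617)
theorem F372945 : act 1 n188281 = n186818 := d17_6 (iv1 D41447) D41449 D88784 (iv5 F295032) (iv4 F140194) D188281 (iv5 D186818) (iv0 D89200) F294390
theorem F372946 : act 1 n186821 = n188281 := d15_0 F372945 (iv7 F372887) (iv2 F372888)
theorem F372947 : act 0 n186822 = n94119 := d21_4 D188281 (iv1 F372946) (iv5 D186821) D186822 F349307 F340060 F340062 (iv5 D87986) D87987 (iv1 F292616)
def n188282 : Q := act 0 n91148
theorem D188282 : act 0 n91148 = n188282 := rfl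
def n188283 : Q := act 1 n91148
theorem D188283 : act 1 n91148 = n188283 := rfl
theorem F372948 : act 5 n188283 = n93257 := d17_7 (iv1 F293481) D88783 (iv1 F291647) F291610 (iv4 F74984) D91148 D188283 F294590 F136907
theorem F372949 : act 2 n186818 = n188283 := d2_3 F372948 F344288 D186818
theorem F372950 : act 7 n186821 = n188283 := d13_0 F372948 (iv7 F344289) D186821
theorem E103305 : n188282 = n188262 := ((c15_4 (iv0 D188282) D188283 (iv7 F372950) F372888)).symm
theorem F372951 : act 1 n188262 = n91148 := (sb E103305 (iv0 D188282))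
def n188284 : Q := act 4 n91148
theorem D188284 : act 4 n91148 = n188284 := rfl
theorem F372952 : act 0 n188284 = n99014 := d18_2 (iv1 D188283) D188284 (iv4 D99014) (iv5 D46320) F63030 D44139 (iv4 F293698) D93257 (iv5 F372948)
def n188285 : Q := act 6 n91148
theorem D188285 : act 6 n91148 = n188285 := rfl
theorem F372953 : act 3 n188285 = n91154 := d7_1 D188285 (iv6 D91154) (iv3 F140195)
theorem F372954 : act 5 n188285 = n183855 := d12_1 D188285 (iv6 D183855) (iv5 D87703) F292620 D91148
def n188286 : Q := act 5 n91161
theorem D188286 : act 5 n91161 = n188286 := rfl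
theorem F372955 : act 2 n188286 = n98084 := d2_1 D188286 (iv5 F289937) (iv2 F294419)
theorem F372956 : act 4 n188286 = n111422 := d9_1 D188286 F172905 F171919 (iv5 F167630) (iv4 F172931) F328769 (iv4 F140137) (iv5 F367963) F367965 F172901 F327423 (iv5 F326948) (iv4 F172925) (iv5 F327636) (iv4 F140213)
theorem F372957 : act 7 n188286 = n98083 := d13_2 (iv7 F294421) D188286 F343095
theorem F372958 : act 0 n188286 = n98075 := d17_2 D91161 D188286 (iv5 D98075) F72303 D46033 F325944 (iv5 F325947) (iv0 F289828) (iv4 F294493)
theorem F372959 : act 1 n188286 = n91181 := d17_6 F294993 F327945 D111430 (iv5 F327636) (iv4 F140213) D188286 F295198 (iv0 F136830) F136829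
def n188287 : Q := act 5 n91163
theorem D188287 : act 5 n91163 = n188287 := rfl
theorem F372960 : act 2 n188287 = n91165 := d2_1 D188287 (iv5 D91165) D91163
theorem F372961 : act 4 n188287 = n109100 := d9_1 D188287 F169088 (iv4 F163204) F163205 (iv4 F325975) (iv5 D99853) F73671 D88236 (iv4 F362810) (iv5 D108664) (iv4 F98658) F98659 (iv4 F171507) F336764 (iv4 F295076)
theorem F372962 : act 7 n188287 = n109099 := d13_2 (iv7 F295078) D188287 F336759
theorem F372963 : act 0 n188287 = n185145 := d17_2 (iv1 F295075) D188287 (iv5 F289707) F136829 (iv5 F327601) (iv0 D109029) (iv5 F327617) F138486 F294259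
theorem F372964 : act 1 n188287 = n185144 := d17_6 (iv1 F72614) F325981 F171508 F336764 (iv4 F295076) D188287 (iv5 F362817) (iv0 D94104) F69204
def n188288 : Q := act 4 n91165
theorem D188288 : act 4 n91165 = n188288 := rfl
theorem F372965 : act 2 n188288 = n109100 := d1_1 D188288 (iv4 F372961) F372960
theorem F372966 : act 5 n188288 = n108665 := d9_2 D91165 D188288 (iv4 F216958) F216959 (iv4 F325953) (iv5 F289739) F153739 (iv5 F336759) (iv4 D109099) (iv5 D50367) (iv4 F77456) F77457 (iv4 F96400) (iv5 F326766) (iv4 F294493)
theorem F372967 : act 7 n188288 = n108664 := d11_2 (iv7 F295081) D188288 F362810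
theorem F372968 : act 0 n188288 = n109098 := d17_0 (iv5 F169087) D111425 F336678 F111766 (iv5 F328112) F145031 D98078 (iv0 F295079) D188288
theorem F372969 : act 1 n188288 = n109097 := d18_6 D42170 D90220 F294268 (iv4 F294493) D91165 D188288 F326775 (iv0 D90229) (iv5 D42173)
def n188289 : Q := act 6 n91165
theorem D188289 : act 6 n91165 = n188289 := rfl
theorem F372970 : act 3 n188289 = n91169 := d7_1 D188289 (iv6 D91169) (iv3 F140219)
theorem F372971 : act 0 n188289 = n120497 := d21_4 F367963 F288890 D91165 D188289 (iv6 D120497) F300098 F117198 D56655 (iv6 F151224) F367968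
def n188290 : Q := act 1 n91169
theorem D188290 : act 1 n91169 = n188290 := rfl
theorem F372972 : act 1 n188290 = n187802 := d15_1 D188290 (iv7 F371545) (iv2 F295286)
theorem F372973 : act 4 n188290 = n105907 := d18_7 F164484 F164482 (iv1 F139447) F139443 (iv5 F370595) F370594 D188290 (iv0 F162646) F83365
theorem F372974 : act 2 n106302 = n188290 := d1_3 F372973 F162644 D106302
def n188291 : Q := act 0 n91175
theorem D188291 : act 0 n91175 = n188291 := rfl
theorem F372975 : act 5 n188291 = n140579 := d17_1 D188291 (iv1 D140579) D140580 F366487 (iv5 D106299) (iv0 F319136) D140842 F223915 (iv4 F356695)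
theorem F372976 : act 4 n188291 = n140827 := d18_3 F321180 (iv4 F356695) D188291 (iv5 D140827) (iv4 D66074) (iv0 D30902) D30904 (iv0 F319133) D127773
theorem F372977 : act 3 n109124 = n188291 := d5_5 F372976 F366475 (iv4 F359837) F169105 D109124
theorem F372978 : act 7 n91191 = n188291 := d11_0 F372976 F371741 (iv4 F371742)
theorem F372979 : act 2 n188291 = n91190 := d15_3 (iv0 D91190) D91191 F372978
theorem F372980 : act 0 n188291 = n91192 := d19_4 D24557 D50373 D109124 F372977 F356696 (iv4 D66527) F49458 D31054 F49461 F40855 D50193 F79549 (iv5 D24503) (iv4 D11593) (iv3 D5390) (iv1 D2217) D2218 D5396 D11617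
def n188292 : Q := act 1 n91175
theorem D188292 : act 1 n91175 = n188292 := rfl
theorem F372981 : act 1 n188292 = n91192 := d15_1 D188292 (iv7 D91192) (iv2 F140225)
theorem F372982 : act 7 n188292 = n91190 := d15_2 (iv0 D188291) D188292 (iv2 F372979)
theorem F372983 : act 5 n188292 = n140578 := d17_7 D65971 F180140 (iv1 F84425) D116092 F331051 (iv5 F295238) D188292 (iv0 D140578) (iv4 D65973)
theorem F372984 : act 4 n188292 = n140835 := d17_9 F358477 F358475 (iv1 D142081) D142083 (iv4 F332719) (iv5 F332714) F331067 (iv5 F295238) D188292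
theorem F372985 : act 5 n182188 = n140581 := d21_8 (iv5 F372983) (iv1 D188292) F295238 (iv6 D87825) (iv1 F66999) D91367 F140500 D182188 (iv6 D140581) D140578
theorem F372986 : act 2 n91191 = n188292 := d1_3 F372984 (iv2 F371738) (iv4 F371742)
theorem F372987 : act 3 n139500 = n99044 := d20_5 F372984 F358477 F284752 (iv3 F152469) (iv1 F372567) F367575 (iv1 F140269) F140260 (iv3 F140238) (iv1 F372981)
theorem E103306 : n186650 = n91230 := (c20_2 F367569 (iv1 F367551) (iv4 D91230) D91229 (iv1 F372825) F372822 (iv4 D141190) (iv1 F181591) D139500 F372987 (iv1 F367574))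
theorem F372988 : act 0 n91230 = n88977 := (sb E103306 (iv1 D186650))
theorem F372989 : act 1 n91230 = n99034 := (sb E103306 F367551)
theorem F372990 : act 3 n141203 = n187623 := d20_3 (iv4 D143247) F181557 (iv4 F224232) (iv1 D187623) F139107 (iv4 F66923) D91234 (iv4 F367575) (iv3 F372987) (iv1 F226072)
theorem F372991 : act 4 n187623 = n152772 := d5_2 (iv4 F224232) F372990 F239984 (iv4 F239986) (iv3 F363774)
theorem F372992 : act 6 n152771 = n187623 := d10_0 F372991 (iv6 D152772) D152771
theorem E103307 : n186649 = n91225 := (c15_2 F372989 F367555 (iv7 F371056) F371055)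
theorem F372993 : act 0 n91225 = n99034 := (sb E103307 (iv1 F367555))
theorem F372994 : act 1 n91225 = n88977 := (sb E103307 (iv0 D186649))
theorem F372995 : act 3 n152527 = n188292 := d6_3 F372983 F340008 D152527
def n188293 : Q := act 7 n91175
theorem D188293 : act 7 n91175 = n188293 := rfl
theorem F372996 : act 2 n188293 = n91192 := d4_1 D188293 (iv7 D91192) (iv2 F140225)
theorem F372997 : act 4 n188293 = n116163 := d11_1 D188293 F180977 (iv4 F356695)
theorem F372998 : act 5 n188293 = n141884 := d13_1 D188293 F331065 (iv5 F295238)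
theorem F372999 : act 1 n91191 = n188293 := d15_1 D91191 (iv7 D188293) F140225
theorem F373000 : act 1 n188293 = n91190 := d15_1 F372999 (iv7 F372982) (iv2 F372986)
def n188294 : Q := act 3 n91182
theorem D188294 : act 3 n91182 = n188294 := rfl
theorem F373001 : act 5 n188294 = n186826 := d6_2 F295203 D188294 (iv3 D186826)
theorem F373002 : act 7 n188294 = n98104 := d8_2 (iv7 F295202) D188294 (iv3 D98104)
def n188295 : Q := act 6 n91182
theorem D188295 : act 6 n91182 = n188295 := rfl
theorem F373003 : act 4 n188295 = n91183 := d10_1 D188295 (iv6 D91183) D91182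
theorem F373004 : act 7 n188295 = n134998 := d14_2 (iv7 F295202) D188295 (iv6 F371766) F371769 F151239
def n188296 : Q := act 0 n91186
theorem D188296 : act 0 n91186 = n188296 := rfl
theorem F373005 : act 1 n187613 = n188296 := d15_0 (iv0 D188296) (iv7 F140231) (iv2 F371014)
def n188297 : Q := act 1 n91186
theorem D188297 : act 1 n91186 = n188297 := rfl
def n188298 : Q := act 2 n91186
theorem D188298 : act 2 n91186 = n188298 := rfl
theorem F373006 : act 3 n188298 = n146403 := d0_2 D91186 D188298 F229725 (iv3 F356651) F140223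
theorem F373007 : act 4 n188298 = n91217 := d1_2 (iv4 F140230) D188298 (iv2 D91217)
theorem F373008 : act 7 n188298 = n187613 := d4_2 F140231 D188298 F371014
theorem F373009 : act 1 n188298 = n187618 := d15_0 (iv0 D187618) F140231 D188298
theorem F373010 : act 1 n188297 = n187613 := d15_1 D188297 (iv7 F373008) (iv2 D188298)
theorem F373011 : act 1 n187619 = n188298 := d15_1 D187619 F373008 F371014
theorem F373012 : act 5 n146565 = n187619 := d17_7 (iv1 F140257) F295171 (iv1 D46340) (iv5 F294373) (iv4 F143861) F356645 D146565 F373011 F373007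
theorem F373013 : act 6 n146401 = n188298 := d7_0 F373006 (iv6 D146403) (iv3 F229723)
def n188299 : Q := act 6 n91186
theorem D188299 : act 6 n91186 = n188299 := rfl
theorem F373014 : act 2 n188299 = n146401 := d3_1 D188299 F373013 (iv2 D188298)
theorem F373015 : act 3 n188299 = n91188 := d7_1 D188299 (iv6 D91188) D91186
theorem F373016 : act 4 n188299 = n91218 := d10_1 D188299 (iv6 D91218) (iv4 F140230)
theorem F373017 : act 5 n188299 = n142058 := d12_1 D188299 F348664 D151341 F356761 (iv5 F295290)
def n188300 : Q := act 1 n91188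
theorem D188300 : act 1 n91188 = n188300 := rfl
theorem F373018 : act 1 n188300 = n116163 := d15_1 D188300 F180977 (iv2 F356666)
theorem F373019 : act 7 n188300 = n140842 := d15_2 (iv0 F356662) D188300 (iv2 F366366)
theorem F373020 : act 5 n188300 = n115866 := d17_7 D53417 F180352 (iv1 F40983) D31081 D66619 (iv5 F356667) D188300 (iv0 D115866) (iv4 D53419)
theorem F373021 : act 2 n127773 = n188300 := d2_3 F373020 (iv2 F319134) D127773
theorem F373022 : act 4 n183152 = n188300 := d18_7 D116161 (iv4 F223691) (iv1 F223693) (iv4 F225105) (iv5 F358475) F284752 D183152 F373018 (iv5 D116163)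
def n188301 : Q := act 7 n91188
theorem D188301 : act 7 n91188 = n188301 := rfl
theorem F373023 : act 2 n188301 = n116163 := d4_1 D188301 F180977 (iv2 F356666)
theorem F373024 : act 4 n188301 = n91192 := d11_1 D188301 (iv7 D91192) (iv4 F140235)
theorem F373025 : act 5 n188301 = n116145 := d13_1 D188301 F180949 (iv5 F356667)
theorem F373026 : act 1 n127773 = n188301 := d15_1 (iv0 F321180) (iv7 D188301) F356666
theorem F373027 : act 1 n188301 = n140842 := d15_1 F373026 (iv7 F373019) (iv2 F373021)
def n188302 : Q := act 6 n91189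
theorem D188302 : act 6 n91189 = n188302 := rfl
theorem F373028 : act 2 n188302 = n183155 := d3_1 D188302 (iv6 D183155) (iv2 F294670)
theorem F373029 : act 3 n188302 = n187621 := d7_1 D188302 (iv6 D187621) (iv3 F140236)
theorem F373030 : act 4 n188302 = n91193 := d10_1 D188302 (iv6 D91193) (iv4 F140237)
def n188303 : Q := act 3 n91190
theorem D188303 : act 3 n91190 = n188303 := rfl
theorem F373031 : act 7 n188303 = n152527 := d8_2 F372982 D188303 F372995
theorem F373032 : act 5 n152528 = n188303 := d13_3 F373031 (iv5 D152527) D152528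
def n188304 : Q := act 4 n91190
theorem D188304 : act 4 n91190 = n188304 := rfl
theorem F373033 : act 2 n188304 = n140827 := d1_1 D188304 (iv4 F372976) F372979
theorem F373034 : act 7 n188304 = n140835 := d11_2 F372982 D188304 (iv4 F372984)
theorem F373035 : act 5 n188304 = n115863 := d18_4 (iv1 D188300) F140235 D91190 D188304 (iv4 D115863) F84272 D66066 F180348 (iv5 F373020)
def n188305 : Q := act 5 n91190
theorem D188305 : act 5 n91190 = n188305 := rfl
theorem F373036 : act 2 n188305 = n140579 := d2_1 D188305 (iv5 F372975) F372979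
theorem F373037 : act 3 n188305 = n152528 := d6_1 D188305 F373032 (iv3 D188303)
theorem F373038 : act 7 n188305 = n140578 := d13_2 F372982 D188305 (iv5 F372983)
theorem F373039 : act 4 n188305 = n116132 := d16_2 (iv4 D188304) D188305 (iv5 D116132) (iv4 D53527) (iv5 F180352) D115858 (iv5 F371740) (iv7 F371741) (iv2 F373033)
theorem F373040 : act 1 n188305 = n115772 := d17_8 D115770 F180363 (iv1 F84420) D66523 D141884 (iv5 F372998) F373000 D188305 (iv4 D115772)
theorem F373041 : act 1 n140566 = n188305 := d15_0 F373040 F180146 (iv2 F223700)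
def n188306 : Q := act 6 n91190
theorem D188306 : act 6 n91190 = n188306 := rfl
def n188307 : Q := act 5 n91191
theorem D188307 : act 5 n91191 = n188307 := rfl
theorem F373042 : act 2 n188307 = n140578 := d2_1 D188307 (iv5 F372983) (iv2 F372986)
theorem F373043 : act 3 n188307 = n111713 := d6_1 D188307 F366010 F365135
theorem F373044 : act 4 n188307 = n116139 := d9_1 D188307 (iv5 D116139) (iv4 D53532) F180357 D115863 (iv5 F373035) (iv4 D188304) D188305 F373039 (iv5 D116132) (iv4 D53527) (iv5 F180352) D115858 (iv5 F371740) (iv4 F371742)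
theorem F373045 : act 7 n188307 = n140579 := d13_2 (iv7 F372978) D188307 (iv5 F372975)
theorem F373046 : act 1 n188307 = n140566 := d17_8 (iv1 F180145) F180359 (iv1 D53506) D53508 (iv4 F331053) F295007 D91191 D188307 (iv4 D140566)
theorem F373047 : act 0 n188307 = n115772 := d18_0 (iv4 D115772) D115770 F358531 F358534 F358479 (iv0 F356662) F140235 D91191 D188307
theorem F373048 : act 6 n152572 = n188307 := d21_5 F293840 (iv1 F75410) (iv5 F292866) D88018 (iv1 F351170) (iv5 D188307) (iv1 D91191) (iv5 F295007) (iv6 D42724) D42721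
def n188308 : Q := act 6 n91192
theorem D188308 : act 6 n91192 = n188308 := rfl
theorem F373049 : act 3 n188308 = n91233 := d7_1 D188308 (iv6 D91233) (iv3 F140238)
theorem F373050 : act 7 n188308 = n91193 := d14_2 D91192 D188308 (iv6 D91193) (iv7 D42696) D42695
theorem F373051 : act 5 n120435 = n188308 := d13_3 F373050 F356633 F356631
def n188309 : Q := act 0 n91193
theorem D188309 : act 0 n91193 = n188309 := rfl
def n188310 : Q := act 1 n91193
theorem D188310 : act 1 n91193 = n188310 := rfl
def n188311 : Q := act 4 n91208
theorem D188311 : act 4 n91208 = n188311 := rfl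
theorem F373052 : act 2 n188311 = n91209 := d1_1 D188311 (iv4 D91209) D91208
theorem F373053 : act 6 n188311 = n135357 := d10_2 (iv6 F339514) D188311 (iv4 D135357)
theorem F373054 : act 5 n188311 = n163969 := d16_1 D188311 F301265 (iv5 F295103) (iv4 D181983) (iv5 D86919) F294760 D43618 F68561 D91208
theorem F373055 : act 0 n188311 = n122328 := d17_0 (iv5 D122328) (iv1 F327463) (iv5 F370905) (iv4 D187586) (iv5 D90374) D90372 F338436 F143819 D188311
def n188312 : Q := act 6 n91209
theorem D188312 : act 6 n91209 = n188312 := rfl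
theorem F373056 : act 2 n188312 = n135357 := d3_1 D188312 (iv6 F373053) F373052
theorem F373057 : act 3 n188312 = n124344 := d7_1 D188312 F198881 F295142
theorem F373058 : act 4 n188312 = n91210 := d10_1 D188312 (iv6 D91210) D91209
theorem F373059 : act 7 n188312 = n135302 := d14_2 F143821 D188312 F347399 (iv7 F343124) (iv6 F295442)
def n188313 : Q := act 0 n91210
theorem D188313 : act 0 n91210 = n188313 := rfl
theorem F373060 : act 5 n188313 = n133532 := d17_3 (iv1 F217265) (iv5 F347394) D188313 (iv4 D133532) F317522 (iv0 F300672) F317519 F213377 (iv4 F217261)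
theorem F373061 : act 2 n135301 = n188313 := d15_3 (iv0 D188313) (iv0 F347401) (iv7 F365163)
theorem F373062 : act 1 n135275 = n188313 := d15_0 (iv0 D188313) F347395 (iv2 F217489)
theorem F373063 : act 7 n188313 = n135300 := d15_2 (iv0 F338471) F373062 F330935
theorem F373064 : act 6 n154632 = n137393 := d21_3 (iv5 F346157) (iv1 F242774) F242747 (iv1 F220601) (iv6 F330938) (iv5 F373060) (iv1 F373062) (iv5 D135275) (iv6 F332703) (iv1 F346160)
def n188314 : Q := act 6 n91211
theorem D188314 : act 6 n91211 = n188314 := rfl
theorem F373065 : act 4 n188314 = n186788 := d10_1 D188314 (iv6 D186788) (iv4 F352480)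
theorem F373066 : act 5 n188314 = n187025 := d21_6 (iv5 D20470) (iv1 F31950) (iv5 F31981) D42701 D91211 D188314 (iv1 D187025) (iv5 F293826) (iv6 D90383) F65270
def n188315 : Q := act 3 n91212
theorem D188315 : act 3 n91212 = n188315 := rfl
theorem F373067 : act 5 n188315 = n143097 := d6_2 F352555 D188315 F225953
def n188316 : Q := act 3 n91215
theorem D188316 : act 3 n91215 = n188316 := rfl
theorem F373068 : act 5 n188316 = n92658 := d6_2 (iv5 F294991) D188316 (iv3 D92658)
theorem F373069 : act 7 n188316 = n186441 := d8_2 (iv7 F294807) D188316 F289241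
def n188317 : Q := act 4 n91215
theorem D188317 : act 4 n91215 = n188317 := rfl
theorem F373070 : act 2 n188317 = n187616 := d1_1 D188317 (iv4 D187616) (iv2 F294806)
theorem F373071 : act 7 n188317 = n186444 := d11_2 (iv7 F294807) D188317 (iv4 D186444)
def n188318 : Q := act 6 n91215
theorem D188318 : act 6 n91215 = n188318 := rfl
theorem F373072 : act 2 n188318 = n187617 := d3_1 D188318 (iv6 D187617) (iv2 F294806)
theorem F373073 : act 5 n188318 = n134061 := d12_1 D188318 (iv6 F357345) (iv5 D98641) F294808 (iv5 F294991)
theorem F373074 : act 0 n188315 = n188318 := d21_7 (iv5 D87055) (iv1 F293499) (iv5 F334885) (iv6 D67125) (iv1 F103038) D143097 (iv5 F373067) F373073 (iv6 F357345) F294438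
theorem F373075 : act 0 n134060 = n158966 := d19_4 F373074 F373073 (iv4 D134061) D134060 (iv5 D158966) F113791 (iv3 D34711) D34709 F54950 (iv4 D18803) (iv3 F30042) D39759 F312666 D107982 (iv3 F315126) F153525 F153173 (iv4 F352554) D188315
def n188319 : Q := act 3 n91216
theorem D188319 : act 3 n91216 = n188319 := rfl
theorem F373076 : act 5 n188319 = n92663 := d6_2 (iv5 F294992) D188319 (iv3 D92663)
theorem F373077 : act 7 n188319 = n187615 := d8_2 (iv7 F294819) D188319 (iv3 D187615)
theorem F373078 : act 0 n188244 = n188319 := d17_2 (iv1 F371005) D188244 F373076 F294814 (iv5 F108014) D151680 (iv5 F238549) F288411 (iv4 F371003)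
def n188320 : Q := act 4 n91216
theorem D188320 : act 4 n91216 = n188320 := rfl
theorem F373079 : act 2 n188320 = n186444 := d1_1 D188320 (iv4 D186444) (iv2 F294817)
theorem F373080 : act 7 n188320 = n187616 := d11_2 (iv7 F294819) D188320 (iv4 D187616)
def n188321 : Q := act 6 n91217
theorem D188321 : act 6 n91217 = n188321 := rfl
theorem F373081 : act 2 n188321 = n91218 := d3_1 D188321 (iv6 D91218) D91217
theorem F373082 : act 3 n188321 = n183181 := d7_1 D188321 (iv6 D183181) (iv3 F294989)
theorem F373083 : act 4 n188321 = n146401 := d10_1 D188321 F373013 F373007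
def n188322 : Q := act 0 n91218
theorem D188322 : act 0 n91218 = n188322 := rfl
def n188323 : Q := act 1 n91218
theorem D188323 : act 1 n91218 = n188323 := rfl
def n188324 : Q := act 7 n91218
theorem D188324 : act 7 n91218 = n188324 := rfl
theorem F373084 : act 3 n188324 = n91222 := d8_1 D188324 (iv7 D91222) (iv3 F140258)
theorem F373085 : act 6 n188324 = n187624 := d14_1 D188324 (iv7 D187624) (iv6 D90399) (iv7 F66920) D91218
def n188325 : Q := act 2 n91219
theorem D188325 : act 2 n91219 = n188325 := rfl
theorem F373086 : act 7 n91220 = n188325 := d15_2 (iv0 D91219) D91220 (iv2 D188325)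
def n188326 : Q := act 3 n91219
theorem D188326 : act 3 n91219 = n188326 := rfl
def n188327 : Q := act 4 n91219
theorem D188327 : act 4 n91219 = n188327 := rfl
def n188328 : Q := act 5 n91219
theorem D188328 : act 5 n91219 = n188328 := rfl
theorem F373087 : act 0 n188328 = n154363 := d21_1 D188328 (iv5 F372782) (iv6 D188238) (iv1 D91108) (iv6 D42667) (iv5 D20137) (iv1 F31734) (iv5 F31983) D42703 D91219
def n188329 : Q := act 6 n91219
theorem D188329 : act 6 n91219 = n188329 := rfl
theorem F373088 : act 5 n188329 = n93108 := d21_6 (iv5 D20137) (iv1 F31734) (iv5 F31983) D42703 D91219 D188329 (iv1 D93108) F68450 (iv6 D20640) (iv1 F31971)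
def n188330 : Q := act 7 n91219
theorem D188330 : act 7 n91219 = n188330 := rfl
theorem F373089 : act 2 n188330 = n91220 := d4_1 D188330 F373086 (iv2 D188325)
def n188331 : Q := act 3 n91220
theorem D188331 : act 3 n91220 = n188331 := rfl
def n188332 : Q := act 4 n91220
theorem D188332 : act 4 n91220 = n188332 := rfl
def n188333 : Q := act 6 n91220
theorem D188333 : act 6 n91220 = n188333 := rfl
def n188334 : Q := act 1 n91221
theorem D188334 : act 1 n91221 = n188334 := rfl
theorem F373090 : act 1 n188334 = n186862 := d15_1 D188334 (iv7 F368337) (iv2 F294959)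
theorem F373091 : act 7 n188334 = n154188 := d15_2 (iv0 F294958) D188334 (iv2 F307585)
theorem F373092 : act 2 n186864 = n188334 := d4_3 F373091 (iv2 F307585) D186864
theorem F373093 : act 6 n186857 = n188334 := d14_5 F373091 (iv6 D154188) (iv7 F304277) D89301 D186857
def n188335 : Q := act 4 n91221
theorem D188335 : act 4 n91221 = n188335 := rfl
theorem F373094 : act 2 n188335 = n109049 := d1_1 D188335 F353331 (iv2 F294959)
theorem F373095 : act 5 n188335 = n109044 := d9_2 D91221 D188335 (iv4 D109044) D109045 (iv4 F370879) F370880 (iv4 F140265) F368338 F368335 (iv5 D155957) F110929 (iv5 F331085) F139922 F66418 (iv4 F66921)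
theorem F373096 : act 6 n188335 = n102018 := d10_2 (iv6 F294960) D188335 F156971
def n188336 : Q := act 7 n91221
theorem D188336 : act 7 n91221 = n188336 := rfl
theorem F373097 : act 2 n188336 = n186862 := d4_1 D188336 (iv7 F368337) (iv2 F294959)
theorem F373098 : act 5 n188336 = n91222 := d13_1 D188336 (iv7 D91222) D91221
theorem F373099 : act 6 n188336 = n186916 := d14_1 D188336 (iv7 D186916) (iv6 D89377) (iv7 F74759) (iv6 F294960)
theorem F373100 : act 1 n186864 = n188336 := d15_1 F368343 (iv7 D188336) F294959
theorem F373101 : act 1 n188336 = n154188 := d15_1 F373100 (iv7 F373091) (iv2 F373092)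
theorem F373102 : act 4 n91235 = n99045 := d18_1 (iv1 F140270) (iv1 D99045) (iv4 F294578) (iv5 F157483) (iv4 F368506) (iv0 F368508) (iv4 F368341) F373100 F373098
def n188337 : Q := act 0 n91224
theorem D188337 : act 0 n91224 = n188337 := rfl
def n188338 : Q := act 1 n91224
theorem D188338 : act 1 n91224 = n188338 := rfl
def n188339 : Q := act 2 n91224
theorem D188339 : act 2 n91224 = n188339 := rfl
theorem F373103 : act 3 n188339 = n136492 := d0_2 D91224 D188339 (iv2 F371032) (iv3 D187626) (iv2 F371037)
theorem F373104 : act 5 n136481 = n188339 := d6_0 F373103 (iv5 D136492) (iv3 F219594)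
theorem F373105 : act 6 n136484 = n188339 := d7_0 F373103 F219605 (iv3 F219595)
def n188340 : Q := act 4 n91224
theorem D188340 : act 4 n91224 = n188340 := rfl
def n188341 : Q := act 5 n91224
theorem D188341 : act 5 n91224 = n188341 := rfl
theorem F373106 : act 2 n188341 = n136481 := d2_1 D188341 F373104 (iv2 D188339)
theorem F373107 : act 3 n188341 = n91226 := d6_1 D188341 (iv5 D91226) D91224
theorem F373108 : act 6 n136476 = n188341 := d3_0 F373106 (iv6 D136481) (iv2 F219590)
theorem F373109 : act 4 n188341 = n175772 := d10_1 F373108 (iv6 D175772) (iv4 F366168)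
def n188342 : Q := act 6 n91224
theorem D188342 : act 6 n91224 = n188342 := rfl
theorem F373110 : act 2 n188342 = n136484 := d3_1 D188342 F373105 (iv2 D188339)
theorem F373111 : act 3 n188342 = n91227 := d7_1 D188342 (iv6 D91227) D91224
theorem F373112 : act 5 n188342 = n136477 := d12_1 D188342 (iv6 D136477) D136476 F373108 (iv5 D188341)
theorem E103308 : n188338 = n186780 := ((c21_4 (iv5 D187593) (iv1 F139093) (iv5 F357554) D186780 (iv1 D188338) D188342 F373112 F357406 (iv5 F372720) (iv6 D188220) (iv1 F370947))).symm
theorem F373113 : act 0 n186780 = n91224 := (sb E103308 (iv1 D188338))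
def n188343 : Q := act 3 n91225
theorem D188343 : act 3 n91225 = n188343 := rfl
def n188344 : Q := act 5 n91225
theorem D188344 : act 5 n91225 = n188344 := rfl
theorem F373114 : act 0 n188344 = n117244 := d21_1 D188344 F370527 (iv6 D187484) (iv1 D90238) (iv6 D42176) (iv5 D19898) D19895 (iv5 F292625) D88977 (iv1 F372994)
theorem F373115 : act 3 n141459 = n188344 := d20_3 F323724 (iv1 F323720) F225269 F373114 (iv3 D117244) (iv4 D54038) (iv1 D26143) D26144 (iv3 F84570) D116320
theorem F373116 : act 7 n188344 = n146912 := d15_2 (iv0 F360247) (iv0 F373114) (iv2 F343196)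
theorem F373117 : act 2 n146911 = n188344 := d4_3 F373116 (iv2 F343196) F343210
theorem F373118 : act 5 n146912 = n187631 := d13_1 F373116 F371056 D188344
theorem F373119 : act 5 n91230 = n134436 := d2_2 F373118 F371055 F343196
theorem F373120 : act 3 n134438 = n91230 := d6_3 F373119 (iv3 D134436) D134438
theorem E103309 : n187627 = n99032 := ((c13_4 F371041 F373119 F343210 (iv5 F366644))).symm
theorem F373121 : act 2 n99032 = n91225 := (sb E103309 F371040)
theorem F373122 : act 4 n99032 = n90400 := (sb E103309 (iv4 D187627))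
theorem F373123 : act 7 n99032 = n91230 := (sb E103309 F371041)
theorem E103310 : n187631 = n99033 := (c15_4 F367556 F367557 F373123 (iv2 F371055))
theorem F373124 : act 2 n99033 = n91230 := (sb E103310 F371055)
theorem F373125 : act 4 n99033 = n90401 := (sb E103310 (iv4 D187631))
theorem F373126 : act 5 n99033 = n146912 := (sb E103310 (iv5 F373118))
theorem F373127 : act 7 n99033 = n91225 := (sb E103310 F371056)
theorem F373128 : act 6 n187065 = n146912 := d21_5 (iv5 D19670) D19667 D41795 D89503 D187065 (iv5 F373126) (iv1 D99033) F346311 F346308 (iv1 D41802)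
theorem F373129 : act 1 n188344 = n146913 := d15_0 F360248 F343210 F373117
theorem F373130 : act 5 n188343 = n141459 := d6_0 F373115 (iv5 D188344) D188343
theorem F373131 : act 0 n140044 = n188343 := d17_2 (iv1 F181270) D140044 F373130 (iv4 F225269) (iv5 D142350) F102944 D67105 F181669 D67187
theorem F373132 : act 1 n140035 = n188343 := d17_6 (iv1 D30993) (iv5 D14665) D14662 F105775 D65735 D140035 F373130 F224497 (iv4 D66372)
def n188345 : Q := act 6 n91225
theorem D188345 : act 6 n91225 = n188345 := rfl
theorem F373133 : act 4 n188345 = n91227 := d10_1 D188345 (iv6 D91227) D91225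
theorem F373134 : act 5 n188345 = n100206 := d21_6 (iv5 D19898) D19895 (iv5 F292625) D88977 (iv1 F372994) D188345 (iv1 D100206) F73883 (iv6 D46315) F293267
def n188346 : Q := act 0 n91226
theorem D188346 : act 0 n91226 = n188346 := rfl
theorem F373135 : act 5 n188346 = n188275 := d17_3 D42704 D91226 D188346 F372924 F372782 (iv0 F373087) (iv5 D188328) (iv0 D91219) F66921
theorem F373136 : act 1 n91231 = n188346 := d15_0 (iv0 D188346) (iv7 F371058) F371057
theorem F373137 : act 7 n101148 = n188346 := d13_0 F373135 F372925 F368007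
theorem F373138 : act 4 n109184 = n188346 := d16_0 F373135 F372924 F372782 F361977 (iv5 D137271) (iv4 F101531) (iv5 F168619) F168620 D109184
theorem F373139 : act 2 n188346 = n109185 := d1_1 F373138 (iv4 D109185) D109184
theorem F373140 : act 1 n109185 = n187628 := d15_0 (iv0 F371046) F373137 F373139
theorem F373141 : act 1 n187632 = n109185 := d15_0 F373140 F371044 (iv2 F371057)
theorem E103311 : n109182 = n109037 := (c17_1 D109182 (iv5 D109037) (iv1 F168590) F370870 F370869 F139067 D90401 D187632 F373141 (iv4 D109185))
theorem F373142 : act 1 n109037 = n50389 := (sb E103311 (iv0 D109182))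
def n188347 : Q := act 1 n91226
theorem D188347 : act 1 n91226 = n188347 := rfl
theorem F373143 : act 1 n188347 = n91231 := d15_1 D188347 (iv7 F371044) F371042
theorem F373144 : act 7 n188347 = n109185 := d15_2 (iv0 D188346) D188347 (iv2 F373139)
theorem F373145 : act 5 n101562 = n188347 := d21_6 (iv5 D137150) (iv1 F352559) (iv5 F295175) F295176 (iv1 D101560) D101562 (iv1 D188347) (iv5 D91226) D91227 F371053
theorem F373146 : act 6 n99503 = n188347 := d21_9 (iv5 D91226) (iv1 F139112) (iv5 F370880) F370881 (iv1 F159478) (iv6 F274859) (iv5 F274810) (iv1 D101564) F153259 (iv1 D188347)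
theorem F373147 : act 2 n188347 = n101148 := d3_1 F373146 (iv6 D101148) (iv2 F156421)
theorem F373148 : act 3 n188347 = n115772 := d7_1 F373146 F331050 (iv3 F306667)
theorem F373149 : act 4 n108687 = n188347 := d5_0 F373148 (iv4 D115772) F84235 F79526 D108687
theorem F373150 : act 0 n186788 = n91232 := d21_4 F156361 F319335 (iv5 F319338) D186788 (iv6 D91232) D91231 (iv1 F373143) (iv5 F373145) (iv6 D101562) D101559
def n188348 : Q := act 4 n91226
theorem D188348 : act 4 n91226 = n188348 := rfl
def n188349 : Q := act 6 n91226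
theorem D188349 : act 6 n91226 = n188349 := rfl
theorem F373151 : act 2 n188349 = n135885 := d3_1 D188349 (iv6 F371045) F371042
theorem F373152 : act 3 n188349 = n136476 := d7_1 D188349 F373108 F373107
theorem F373153 : act 5 n188349 = n135884 := d12_1 D188349 (iv6 F371052) (iv5 F366997) (iv6 D91227) D91226
theorem F373154 : act 0 n188349 = n136521 := d21_10 (iv5 F352830) (iv1 D99793) (iv5 F293916) (iv6 D90915) (iv1 D42582) D42584 F66418 D42704 D91226 D188349
theorem F373155 : act 1 n188349 = n136520 := d15_1 (iv0 F373154) (iv7 F352827) (iv2 F352829)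
theorem F373156 : act 7 n188349 = n136518 := d15_2 D136521 (iv0 F373154) F219624
def n188350 : Q := act 1 n91227
theorem D188350 : act 1 n91227 = n188350 := rfl
def n188351 : Q := act 7 n91227
theorem D188351 : act 7 n91227 = n188351 := rfl
def n188352 : Q := act 1 n91229
theorem D188352 : act 1 n91229 = n188352 := rfl
def n188353 : Q := act 2 n91229
theorem D188353 : act 2 n91229 = n188353 := rfl
theorem F373157 : act 4 n188353 = n140330 := d1_2 F331087 D188353 F223440
theorem F373158 : act 7 n188353 = n136492 := d4_2 F371033 D188353 (iv2 F371032)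
theorem F373159 : act 1 n188352 = n136492 := d15_1 D188352 (iv7 F373158) (iv2 D188353)
theorem F373160 : act 5 n136493 = n188353 := d13_3 F373158 (iv5 D136492) D136493
def n188354 : Q := act 5 n91229
theorem D188354 : act 5 n91229 = n188354 := rfl
theorem F373161 : act 2 n188354 = n136493 := d2_1 D188354 F373160 (iv2 D188353)
theorem F373162 : act 3 n188354 = n91231 := d6_1 D188354 (iv5 D91231) D91229
theorem F373163 : act 4 n188354 = n129476 := d9_1 D188354 (iv5 D129476) F95401 D60872 (iv4 F324049) D134736 F361152 (iv5 D136492) F99880 D129847 F361149 (iv5 F350845) F204235 D134734 F331087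
theorem F373164 : act 7 n188354 = n135887 := d13_2 F371033 D188354 (iv5 F371034)
theorem F373165 : act 4 n129845 = n136564 := d18_7 F358543 (iv4 D140467) (iv1 F354212) F331087 D188354 F373163 F361181 (iv0 D136564) D136566
theorem F373166 : act 6 n136531 = n188354 := d14_5 F373164 (iv6 D135887) F99374 D64181 D136531
theorem F373167 : act 1 n136491 = n188354 := d15_1 D136491 F373164 F218571
theorem F373168 : act 1 n188354 = n136490 := d15_0 (iv0 D136490) D136493 (iv2 F373161)
def n188355 : Q := act 6 n91229
theorem D188355 : act 6 n91229 = n188355 := rfl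
theorem F373169 : act 3 n188355 = n91232 := d7_1 D188355 (iv6 D91232) D91229
def n188356 : Q := act 6 n91230
theorem D188356 : act 6 n91230 = n188356 := rfl
theorem F373170 : act 4 n188356 = n91232 := d10_1 D188356 (iv6 D91232) D91230
def n188357 : Q := act 4 n91231
theorem D188357 : act 4 n91231 = n188357 := rfl
theorem F373171 : act 3 n188357 = n129486 := d5_1 D188357 (iv4 D129486) (iv3 F207633) (iv4 F373163) F373162
theorem F373172 : act 0 n108607 = n129486 := d20_4 (iv4 F78126) (iv1 F98558) (iv4 F98562) (iv3 F167987) (iv3 F373171) (iv4 D188357) (iv1 F373143) (iv4 F373149) (iv3 D108687) (iv1 D50182)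
theorem F373173 : act 1 n108864 = n129486 := d15_0 (iv0 F373172) F167988 (iv2 F168866)
def n188358 : Q := act 6 n91231
theorem D188358 : act 6 n91231 = n188358 := rfl
theorem F373174 : act 2 n188358 = n101155 := d3_1 D188358 F371060 F371057
theorem F373175 : act 3 n188358 = n136531 := d7_1 D188358 F373166 F373162
theorem F373176 : act 7 n188358 = n101156 := d14_2 F371044 D188358 F361947 (iv7 F218568) (iv6 F371045)
theorem F373177 : act 0 n188358 = n101158 := d21_4 F370880 (iv1 F139111) D91231 D188358 (iv6 F345219) F345223 (iv1 F152086) (iv5 F372501) (iv6 D188156) (iv1 F370884)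
theorem F373178 : act 0 n99507 = n188358 := d21_4 F292898 F291838 (iv5 F291840) D99507 (iv6 D188358) (iv5 D91231) (iv1 D42705) (iv5 F66418) (iv6 D42584) D42581
def n188359 : Q := act 0 n91232
theorem D188359 : act 0 n91232 = n188359 := rfl
theorem F373179 : act 5 n188359 = n102331 := d21_0 (iv1 F372802) F372799 (iv6 F370975) (iv1 F370976) D188275 (iv5 F373135) (iv1 F373136) (iv5 D91231) D91232 D188359
theorem F373180 : act 3 n185157 = n188359 := d6_3 F373179 F372792 D185157
theorem F373181 : act 7 n101580 = n188359 := d13_0 F373179 F372794 (iv5 F372785)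
def n188360 : Q := act 5 n91232
theorem D188360 : act 5 n91232 = n188360 := rfl
theorem F373182 : act 0 n188236 = n188360 := d21_1 D188236 (iv5 D188360) (iv6 D91232) (iv1 D42705) (iv6 D20150) (iv5 D9505) D9502 D20137 D42667 D91107
def n188361 : Q := act 7 n91232
theorem D188361 : act 7 n91232 = n188361 := rfl
theorem F373183 : act 1 n101580 = n188361 := d15_1 (iv0 F371062) (iv7 D188361) (iv2 F371061)
def n188362 : Q := act 2 n91234
theorem D188362 : act 2 n91234 = n188362 := rfl
theorem F373184 : act 7 n91235 = n188362 := d15_2 (iv0 D91234) D91235 (iv2 D188362)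
def n188363 : Q := act 3 n91234
theorem D188363 : act 3 n91234 = n188363 := rfl
theorem F373185 : act 4 n188363 = n139498 := d5_2 F367575 D188363 F222681 D139500 F372987
theorem F373186 : act 5 n146931 = n188363 := d19_1 D146931 F373185 F222681 F181590 (iv5 D53584) F41011 (iv3 D12312) F8996 D11168 F18125 (iv3 F22733) (iv1 F45977) (iv5 F50947) D31547 F85116 (iv1 D53963) F50407 F50665 D68877
def n188364 : Q := act 5 n91234
theorem D188364 : act 5 n91234 = n188364 := rfl
theorem F373187 : act 3 n188364 = n146931 := d6_1 D188364 F373186 (iv3 D188363)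
def n188365 : Q := act 6 n91234
theorem D188365 : act 6 n91234 = n188365 := rfl
def n188366 : Q := act 7 n91234
theorem D188366 : act 7 n91234 = n188366 := rfl
theorem F373188 : act 2 n188366 = n91235 := d4_1 D188366 F373184 (iv2 D188362)
def n188367 : Q := act 3 n91235
theorem D188367 : act 3 n91235 = n188367 := rfl
theorem F373189 : act 4 n110216 = n188367 := d19_2 F101570 D110216 (iv3 D188367) (iv1 D91235) F294661 (iv4 F353331) F169050 F314294 (iv5 F314295) (iv4 D24620) D24619 (iv1 F39134) (iv5 D24952) (iv4 F36932) F36931 F18481 D14603 D30834 D65892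
theorem F373190 : act 3 n99045 = n110218 := d5_3 F373189 (iv3 D188367) F373102 (iv4 D110218) (iv3 F170385)
def n188368 : Q := act 5 n91235
theorem D188368 : act 5 n91235 = n188368 := rfl
theorem F373191 : act 6 n188368 = n186582 := d21_3 F373098 (iv1 F140270) D188368 (iv1 F367315) (iv6 D89336) F64357 (iv1 F63919) (iv5 F303370) D154188 (iv1 F373101)
def n188369 : Q := act 6 n91235
theorem D188369 : act 6 n91235 = n188369 := rfl
def n188370 : Q := act 6 n91270
theorem D188370 : act 6 n91270 = n188370 := rfl
theorem F373192 : act 3 n188370 = n91272 := d7_1 D188370 (iv6 D91272) D91270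
def n188371 : Q := act 0 n91272
theorem D188371 : act 0 n91272 = n188371 := rfl
def n188372 : Q := act 7 n91272
theorem D188372 : act 7 n91272 = n188372 := rfl
theorem F373193 : act 4 n188372 = n142821 := d11_1 D188372 (iv7 D142821) (iv4 F345152)
def n188373 : Q := act 2 n91273
theorem D188373 : act 2 n91273 = n188373 := rfl
theorem F373194 : act 4 n188373 = n106869 := d1_2 (iv4 F345046) D188373 F164700
theorem F373195 : act 5 n188373 = n103957 := d2_2 (iv5 F292868) D188373 (iv2 D103957)
theorem F373196 : act 1 n188373 = n123884 := d15_0 F355602 F140495 D188373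
theorem F373197 : act 1 n171101 = n188373 := d15_0 F373196 F355606 (iv2 F268820)
theorem F373198 : act 6 n188373 = n124006 := d21_3 F345055 (iv1 F357135) (iv5 F373195) (iv1 D124006) (iv6 D57771) F299250 (iv1 D56679) D56680 F89641 D99876
theorem F373199 : act 4 n124006 = n109211 := d10_1 F373198 F351227 (iv4 F373194)
def n188374 : Q := act 6 n91273
theorem D188374 : act 6 n91273 = n188374 := rfl
theorem F373200 : act 2 n188374 = n124006 := d3_1 D188374 (iv6 F373198) (iv2 D188373)
theorem F373201 : act 3 n188374 = n91275 := d7_1 D188374 (iv6 D91275) D91273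
theorem F373202 : act 4 n188374 = n115784 := d10_1 D188374 F180161 (iv4 F345046)
theorem F373203 : act 0 n188374 = n123153 := d21_4 (iv5 F345044) (iv1 D103956) (iv5 F292868) D188374 (iv6 D123153) F301452 (iv1 D37571) D37572 (iv6 F126428) D171106
theorem F373204 : act 0 n124008 = n188374 := d21_4 (iv5 D63089) D63087 D134290 F331014 (iv6 D188374) F292868 D103955 F343848 F343846 (iv1 D134295)
def n188375 : Q := act 6 n91274
theorem D188375 : act 6 n91274 = n188375 := rfl
theorem F373205 : act 3 n188375 = n124881 := d7_1 D188375 F350066 F345142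
theorem F373206 : act 4 n188375 = n91275 := d10_1 D188375 (iv6 D91275) D91274
theorem F373207 : act 5 n188375 = n134834 := d12_1 D188375 F365811 F359486 (iv6 D103820) (iv5 F292871)
def n188376 : Q := act 1 n91275
theorem D188376 : act 1 n91275 = n188376 := rfl
theorem F373208 : act 7 n188376 = n123768 := d15_2 (iv0 F286535) D188376 F366839
theorem F373209 : act 5 n181759 = n188376 := d21_6 F35286 (iv1 F35251) D47147 D101244 (iv1 F345445) F366309 (iv1 D188376) (iv5 F155985) (iv6 D101247) (iv1 F74416)
theorem F373210 : act 3 n188376 = n181760 := d6_1 F373209 (iv5 D181760) D181759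
def n188377 : Q := act 7 n91275
theorem D188377 : act 7 n91275 = n188377 := rfl
def n188378 : Q := act 3 n91276
theorem D188378 : act 3 n91276 = n188378 := rfl
theorem F373211 : act 5 n188378 = n103837 := d6_2 (iv5 F294499) D188378 (iv3 D103837)
def n188379 : Q := act 3 n91277
theorem D188379 : act 3 n91277 = n188379 := rfl
theorem F373212 : act 4 n188379 = n92814 := d5_2 (iv4 F294496) D188379 (iv3 F177976) (iv4 F352762) F159386
theorem F373213 : act 5 n188379 = n103834 := d6_2 (iv5 F294497) D188379 (iv3 D103834)
theorem F373214 : act 1 n103834 = n153520 := d17_6 (iv1 F142202) (iv5 D92443) F94979 D92814 (iv4 F373212) F373213 F241278 (iv0 F250911) (iv4 D159371)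
def n188380 : Q := act 6 n91277
theorem D188380 : act 6 n91277 = n188380 := rfl
theorem F373215 : act 2 n188380 = n136666 := d3_1 D188380 (iv6 F362783) F146086
theorem F373216 : act 4 n188380 = n103942 := d10_1 D188380 (iv6 D103942) (iv4 F294496)
def n188381 : Q := act 3 n91281
theorem D188381 : act 3 n91281 = n188381 := rfl
def n188382 : Q := act 5 n91281
theorem D188382 : act 5 n91281 = n188382 := rfl
theorem F373217 : act 2 n188382 = n134911 := d2_1 D188382 (iv5 F332714) (iv2 F331055)
theorem F373218 : act 4 n188382 = n140782 := d16_2 (iv4 F331056) D188382 (iv5 D140782) (iv4 D66060) (iv5 D30898) D30897 D66058 (iv7 F180321) F180320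
theorem F373219 : act 1 n188382 = n140580 := d17_6 (iv1 F223825) (iv5 D140727) (iv1 D66036) D66038 (iv4 F331056) D188382 (iv5 D140580) D140579 (iv4 F223821)
theorem F373220 : act 1 n140849 = n188382 := d18_6 (iv1 F180374) (iv4 D66079) (iv1 D30903) D30904 D66084 D140849 F373218 (iv0 F232065) (iv5 D148234)
theorem F373221 : act 6 n134906 = n188382 := d21_3 F349690 (iv1 F216825) D134906 (iv1 F373220) F356690 (iv5 D88079) (iv1 F72318) (iv5 F151242) F329072 D134996
def n188383 : Q := act 6 n91281
theorem D188383 : act 6 n91281 = n188383 := rfl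
theorem F373222 : act 2 n188383 = n134914 := d3_1 D188383 F332718 (iv2 F331055)
theorem F373223 : act 4 n188383 = n140735 := d10_1 D188383 (iv6 D140735) (iv4 F331056)
theorem F373224 : act 5 n188383 = n134907 := d12_1 D188383 (iv6 D134907) D134906 F373221 (iv5 D188382)
theorem F373225 : act 7 n182777 = n188383 := d13_0 F373224 F332725 D182777
theorem F373226 : act 0 n123763 = n188383 := d21_10 F373224 F332743 (iv5 F294454) (iv6 D99896) (iv1 D46650) (iv6 F73702) (iv5 D46647) D46645 (iv5 F302082) D123763
def n188384 : Q := act 5 n91282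
theorem D188384 : act 5 n91282 = n188384 := rfl
theorem F373227 : act 3 n188384 = n109161 := d6_1 D188384 F343823 F343835
theorem F373228 : act 4 n188384 = n140742 := d9_1 D188384 (iv5 D140742) (iv4 D66043) (iv5 D30893) D30892 D66038 (iv4 F331056) D188382 F373218 (iv5 D140782) (iv4 D66060) (iv5 D30898) D30897 D66058 (iv4 F331059)
theorem F373229 : act 6 n188384 = n183174 := d12_2 F345623 D188384 F345609 (iv6 D126877) D126876
theorem F373230 : act 7 n188384 = n134911 := d13_2 (iv7 F331060) D188384 (iv5 F332714)
theorem F373231 : act 0 n188384 = n140580 := d17_2 F331063 D188384 (iv5 D140580) (iv4 D65973) (iv5 D30868) D30866 D65967 F180973 D141884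
theorem F373232 : act 1 n188384 = n140849 := d17_8 D140847 F223917 (iv1 F180965) (iv5 F356667) F140235 (iv5 F295007) D91282 D188384 (iv4 D140849)
def n188385 : Q := act 0 n91286
theorem D188385 : act 0 n91286 = n188385 := rfl
theorem F373233 : act 3 n188385 = n187375 := d20_5 (iv4 D20174) D20172 D42726 D91286 D188385 F370058 (iv1 D94016) F299846 (iv3 F299843) (iv1 D42730)
theorem F373234 : act 4 n188385 = n94406 := d20_0 (iv1 D94406) (iv4 F138090) (iv3 D89923) (iv1 D42015) F290894 (iv4 D20174) D20172 D42726 D91286 D188385
theorem F373235 : act 6 n188385 = n187364 := d21_5 D95320 (iv1 F369467) (iv5 D187201) (iv6 F140350) D188385 F369979 (iv1 F160243) (iv5 D104588) (iv6 F146953) (iv1 F146955)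
theorem F373236 : act 2 n96071 = n188385 := d15_3 (iv0 D188385) (iv0 F367119) (iv7 F360297)
theorem F373237 : act 1 n96065 = n188385 := d15_0 (iv0 D188385) F293309 (iv2 F147677)
theorem F373238 : act 0 n92876 = n188033 := d18_2 (iv1 D92875) D92876 (iv4 D188033) F369985 (iv4 F373234) (iv0 D188385) (iv4 F154234) (iv0 F365309) F161636
theorem F373239 : act 7 n188385 = n96070 := d15_2 (iv0 F367233) F373237 F360292
def n188386 : Q := act 2 n91286
theorem D188386 : act 2 n91286 = n188386 := rfl
theorem F373240 : act 3 n188386 = n100885 := d0_2 D91286 D188386 (iv2 F357427) (iv3 D91385) F67023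
theorem F373241 : act 6 n188386 = n187200 := d3_2 (iv6 F140350) D188386 (iv2 D187200)
theorem F373242 : act 7 n188386 = n96065 := d4_2 (iv7 F293309) D188386 F147677
theorem F373243 : act 1 n188386 = n96070 := d15_0 (iv0 D96070) (iv7 F293309) D188386
theorem F373244 : act 1 n96071 = n188386 := d15_0 F373243 (iv7 F373239) (iv2 F373236)
theorem F373245 : act 5 n100884 = n188386 := d17_7 F360296 F251995 (iv1 F251991) (iv5 D90740) D90739 D188025 (iv0 F372165) F373243 F360293
def n188387 : Q := act 5 n91286
theorem D188387 : act 5 n91286 = n188387 := rfl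
theorem F373246 : act 2 n188387 = n100884 := d2_1 D188387 F373245 (iv2 D188386)
theorem F373247 : act 3 n188387 = n91287 := d6_1 D188387 (iv5 D91287) D91286
theorem F373248 : act 7 n188387 = n96072 := d13_2 (iv7 F293309) D188387 (iv5 D96072)
theorem F373249 : act 1 n188387 = n96219 := d17_6 F177349 D90553 F251773 (iv5 F367180) F154234 D188387 (iv5 D96219) (iv0 F176028) (iv4 D92870)
theorem F373250 : act 4 n188387 = n100984 := d18_5 F369977 F149911 F365309 F154234 D188387 F365477 (iv4 F365236) (iv0 F369978) (iv5 F369975)
theorem F373251 : act 0 n188387 = n103857 := d18_0 F331287 F359401 (iv4 D103264) (iv5 F138091) F138090 D94406 (iv4 F373234) (iv0 D188385) D188387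
theorem F373252 : act 6 n145407 = n188387 := d10_0 F373250 F364960 D145407
def n188388 : Q := act 6 n91287
theorem D188388 : act 6 n91287 = n188388 := rfl
theorem F373253 : act 2 n188388 = n162985 := d3_1 D188388 F357426 (iv2 F293310)
theorem F373254 : act 3 n188388 = n145407 := d7_1 D188388 F373252 F373247
theorem F373255 : act 4 n188388 = n103836 := d10_1 D188388 (iv6 D103836) (iv4 F293311)
theorem F373256 : act 5 n188388 = n162984 := d12_1 D188388 (iv6 F328300) (iv5 D89719) (iv6 F66933) D91287
def n188389 : Q := act 5 n91289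
theorem D188389 : act 5 n91289 = n188389 := rfl
theorem F373257 : act 2 n188389 = n100801 := d2_1 D188389 F357432 F357436
theorem F373258 : act 3 n188389 = n91290 := d6_1 D188389 (iv5 D91290) D91289
theorem F373259 : act 7 n188389 = n100789 := d13_2 F140539 D188389 (iv5 F357428)
theorem F373260 : act 4 n188389 = n100790 := d16_6 (iv4 F35140) D46999 (iv4 F329991) F134917 (iv4 F293317) D188389 F154885 (iv7 D46994) F35137
theorem F373261 : act 0 n188389 = n96350 := d17_2 (iv1 F293316) D188389 (iv5 D96350) F70743 D46993 F329810 (iv5 F329814) (iv0 F292891) (iv4 F293559)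
theorem F373262 : act 1 n188389 = n100803 := d17_6 (iv1 F152890) D184316 F286278 F134917 (iv4 F293317) D188389 F154899 F148293 (iv4 F152888)
theorem F373263 : act 6 n144500 = n188389 := d10_0 F373260 (iv6 F357522) F227342
def n188390 : Q := act 6 n91290
theorem D188390 : act 6 n91290 = n188390 := rfl
theorem F373264 : act 2 n188390 = n96084 := d3_1 D188390 F147695 (iv2 F293318)
theorem F373265 : act 3 n188390 = n144500 := d7_1 D188390 F373263 F373258
theorem F373266 : act 4 n188390 = n103839 := d10_1 D188390 (iv6 D103839) (iv4 F293319)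
theorem F373267 : act 5 n188390 = n95553 := d12_1 D188390 (iv6 D95553) (iv5 D44631) F293047 D91290
theorem F373268 : act 0 n107492 = n188390 := d18_2 D49657 D107492 F373266 F363556 F102753 F102824 (iv4 F102825) (iv0 D49568) (iv5 F37961)
theorem F373269 : act 1 n107497 = n188390 := d18_6 (iv1 F172277) F172278 (iv1 D65691) F50034 F166900 D107497 F373266 F363553 F180735
def n188391 : Q := act 0 n91303
theorem D188391 : act 0 n91303 = n188391 := rfl
def n188392 : Q := act 1 n91303
theorem D188392 : act 1 n91303 = n188392 := rfl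
def n188393 : Q := act 7 n91303
theorem D188393 : act 7 n91303 = n188393 := rfl
theorem F373270 : act 3 n188393 = n174569 := d8_1 D188393 (iv7 F340389) (iv3 F352784)
theorem F373271 : act 4 n188393 = n174571 := d11_1 D188393 (iv7 F273924) F352783
theorem F373272 : act 5 n188393 = n187333 := d13_1 D188393 (iv7 D187333) F352785
def n188394 : Q := act 6 n91343
theorem D188394 : act 6 n91343 = n188394 := rfl
theorem F373273 : act 2 n188394 = n119211 := d3_1 D188394 F187580 (iv2 F329995)
theorem F373274 : act 3 n188394 = n91345 := d7_1 D188394 (iv6 D91345) (iv3 F140427)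
theorem F373275 : act 4 n188394 = n119097 := d10_1 D188394 F187363 (iv4 F329996)
theorem F373276 : act 5 n188394 = n184259 := d12_1 D188394 (iv6 D184259) F134897 (iv6 F66958) D91343
theorem F373277 : act 7 n188394 = n157475 := d14_2 (iv7 F140428) D188394 (iv6 D157475) (iv7 F307759) F159693
theorem F373278 : act 0 n91345 = n139512 := d19_4 F315232 D119097 (iv4 F373275) F373274 F222693 F101822 F320657 (iv1 D62678) (iv5 D29634) F23505 (iv3 F23500) D29626 F83875 (iv4 F48833) (iv3 F100518) (iv1 F220563) F349949 (iv4 D114273) F320841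
def n188395 : Q := act 1 n91345
theorem D188395 : act 1 n91345 = n188395 := rfl
theorem F373279 : act 1 n188395 = n184063 := d15_1 D188395 F286009 (iv2 F140435)
theorem F373280 : act 7 n188395 = n184117 := d15_2 (iv0 F373278) D188395 (iv2 F369486)
theorem F373281 : act 2 n184118 = n188395 := d4_3 F373280 (iv2 F369486) (iv7 F369485)
theorem F373282 : act 5 n126882 = n188395 := d13_3 F373280 F369487 F224197
theorem F373283 : act 1 n184063 = n139512 := d15_1 F373279 (iv7 F369485) F373281
theorem F373284 : act 0 n154123 = n141177 := d21_4 (iv5 F307393) (iv1 F92131) D72978 D154123 (iv6 D141177) (iv5 F222693) (iv1 F373283) F331757 F331758 F306633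
def n188396 : Q := act 7 n91345
theorem D188396 : act 7 n91345 = n188396 := rfl
theorem F373285 : act 2 n188396 = n184063 := d4_1 D188396 F286009 (iv2 F140435)
theorem F373286 : act 3 n188396 = n157475 := d8_1 D188396 (iv7 F373277) F373274
theorem F373287 : act 5 n188396 = n184303 := d13_1 D188396 F286247 (iv5 F140436)
theorem F373288 : act 6 n188396 = n104188 := d14_1 D188396 (iv7 D104188) F75767 (iv7 F66962) D91345
theorem F373289 : act 1 n184118 = n188396 := d15_1 D184118 (iv7 D188396) F140435
theorem F373290 : act 1 n188396 = n184117 := d15_1 F373289 (iv7 F373280) (iv2 F373281)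
def n188397 : Q := act 4 n91350
theorem D188397 : act 4 n91350 = n188397 := rfl
theorem F373291 : act 2 n188397 = n100641 := d1_1 D188397 (iv4 D100641) (iv2 F140446)
theorem F373292 : act 7 n188397 = n184119 := d11_2 (iv7 F140448) D188397 (iv4 D184119)
def n188398 : Q := act 6 n91350
theorem D188398 : act 6 n91350 = n188398 := rfl
theorem F373293 : act 2 n188398 = n100642 := d3_1 D188398 (iv6 D100642) (iv2 F140446)
theorem F373294 : act 3 n188398 = n91353 := d7_1 D188398 (iv6 D91353) (iv3 F140447)
def n188399 : Q := act 3 n91352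
theorem D188399 : act 3 n91352 = n188399 := rfl
theorem F373295 : act 5 n188399 = n128388 := d6_2 (iv5 F140454) D188399 F352780
theorem F373296 : act 7 n188399 = n184123 := d8_2 (iv7 F140453) D188399 (iv3 D184123)
theorem F373297 : act 0 n153755 = n188399 := d20_4 F206496 (iv1 F241501) F241498 (iv3 F241616) (iv3 D188399) (iv4 D91352) (iv1 F66978) D91274 (iv3 F345142) F237668
def n188400 : Q := act 6 n91352
theorem D188400 : act 6 n91352 = n188400 := rfl
theorem F373298 : act 2 n188400 = n91372 := d3_1 D188400 (iv6 D91372) (iv2 F140452)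
theorem F373299 : act 4 n188400 = n91353 := d10_1 D188400 (iv6 D91353) D91352
theorem F373300 : act 7 n188400 = n141885 := d14_2 (iv7 F140453) D188400 (iv6 D141885) (iv7 F180880) F331052
theorem F373301 : act 1 n141901 = n188400 := d15_1 D141901 F373300 F224923
theorem F373302 : act 1 n188400 = n141900 := d15_0 (iv0 D141900) (iv7 F331078) (iv2 F373298)
def n188401 : Q := act 5 n91355
theorem D188401 : act 5 n91355 = n188401 := rfl
theorem F373303 : act 2 n188401 = n184379 := d2_1 D188401 (iv5 D184379) (iv2 F294328)
theorem F373304 : act 3 n188401 = n91356 := d6_1 D188401 (iv5 D91356) D91355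
theorem F373305 : act 7 n188401 = n103784 := d13_2 (iv7 F140465) D188401 F292221
theorem F373306 : act 0 n188401 = n103590 := d21_1 D188401 (iv5 D103590) F343047 F293075 (iv6 D48444) D48443 F343039 D176551 (iv6 F369782) (iv1 F369785)
theorem F373307 : act 0 n103593 = n188401 := d21_1 D103593 (iv5 D188401) F343025 (iv1 F350171) (iv6 F369782) F369783 (iv1 F158950) F158947 F75359 (iv1 F75352)
def n188402 : Q := act 6 n91356
theorem D188402 : act 6 n91356 = n188402 := rfl
theorem F373308 : act 2 n188402 = n91399 := d3_1 D188402 (iv6 D91399) (iv2 F140466)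
theorem F373309 : act 4 n188402 = n116100 := d10_1 D188402 F365134 (iv4 F140467)
theorem F373310 : act 5 n188402 = n103662 := d12_1 D188402 (iv6 D103662) F75423 (iv6 F291407) D91356
theorem F373311 : act 0 n188402 = n103750 := d21_4 F291424 (iv1 F66985) D91356 D188402 (iv6 D103750) (iv5 D48040) (iv1 D23180) D23181 F36291 D23189
theorem F373312 : act 0 n142435 = n188402 := d21_4 D144004 F226667 (iv5 D142434) D142435 (iv6 D188402) (iv5 D91356) (iv1 F66984) (iv5 F291425) (iv6 F299844) D67469
def n188403 : Q := act 6 n91359
theorem D188403 : act 6 n91359 = n188403 := rfl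
theorem F373313 : act 2 n188403 = n184593 := d3_1 D188403 (iv6 D184593) (iv2 F140478)
theorem F373314 : act 3 n188403 = n108768 := d7_1 D188403 F354398 F345167
theorem F373315 : act 4 n188403 = n91360 := d10_1 D188403 (iv6 D91360) D91359
theorem F373316 : act 5 n108922 = n188403 := d21_8 (iv5 F294758) (iv1 F159239) (iv5 F294724) F302685 D142818 (iv6 F358851) (iv5 D110157) F168938 (iv6 D188403) F140480
theorem F373317 : act 0 n91360 = n109194 := d20_7 D24564 (iv1 F78117) (iv4 F78119) (iv3 F79572) D108768 (iv3 F373314) F373315 (iv4 D109194) (iv3 D50391) (iv1 D24563)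
theorem E103312 : n109191 = n109076 := (c20_2 (iv4 D109194) D109191 (iv4 F359812) (iv3 F338282) (iv1 D110901) F80659 D51140 F80669 F80618 (iv3 F329620) F373317)
theorem F373318 : act 1 n109076 = n50391 := (sb E103312 (iv0 D109191))
theorem F373319 : act 1 n184570 = n109194 := d15_0 (iv0 F373317) F329622 F355068
def n188404 : Q := act 1 n91360
theorem D188404 : act 1 n91360 = n188404 := rfl
theorem F373320 : act 1 n188404 = n184570 := d15_1 D188404 F286559 (iv2 F140482)
theorem F373321 : act 7 n188404 = n184594 := d15_2 (iv0 F373317) D188404 (iv2 F345619)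
theorem F373322 : act 5 n188404 = n110854 := d17_7 (iv1 F321555) F322390 F336302 (iv5 D126625) F93750 (iv5 F329621) D188404 F204119 F204115
theorem F373323 : act 6 n123723 = n188404 := d21_3 F359719 (iv1 F198123) D123723 (iv1 D188404) (iv6 D91360) (iv5 D42756) (iv1 D20200) D20201 D42760 D91373
theorem F373324 : act 6 n111152 = n110854 := d21_5 (iv5 D43557) D43554 (iv5 F294636) D93344 F335392 (iv5 F373322) (iv1 D188404) F329621 F329372 F294649
theorem F373325 : act 2 n111232 = n111152 := d3_3 F373324 F220441 (iv6 F345615)
theorem F373326 : act 7 n111151 = n111232 := d15_2 (iv0 F335392) F335393 F373325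
theorem F373327 : act 7 n111233 = n111152 := d15_2 (iv0 D111232) D111233 (iv2 F373325)
theorem F373328 : act 2 n111151 = n111233 := d4_3 F373327 (iv2 F373325) (iv7 F373326)
theorem F373329 : act 2 n184595 = n188404 := d2_3 F373322 F220441 F345612
def n188405 : Q := act 2 n91361
theorem D188405 : act 2 n91361 = n188405 := rfl
theorem F373330 : act 3 n188405 = n188373 := d0_2 D91361 D188405 (iv2 D188373) (iv3 D91273) (iv2 F69664)
theorem F373331 : act 7 n188405 = n93015 := d4_2 (iv7 F140484) D188405 (iv2 F340053)
theorem F373332 : act 1 n188405 = n101095 := d15_0 F362361 (iv7 F140484) D188405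
theorem F373333 : act 4 n188405 = n92622 := d16_0 (iv5 D92622) (iv4 F73372) D99376 (iv4 F340054) (iv5 F291329) (iv4 F75619) (iv5 F293198) (iv7 F140484) D188405
theorem F373334 : act 1 n184466 = n188405 := d15_0 F373332 F155766 (iv2 F286360)
def n188406 : Q := act 4 n91361
theorem D188406 : act 4 n91361 = n188406 := rfl
theorem F373335 : act 2 n188406 = n92622 := d1_1 D188406 (iv4 F373333) (iv2 D188405)
theorem F373336 : act 3 n188406 = n92961 := d5_1 D188406 (iv4 F339936) (iv3 F345141) (iv4 D91362) D91361
theorem F373337 : act 7 n188406 = n93011 := d11_2 (iv7 F140484) D188406 F340052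
theorem F373338 : act 5 n188406 = n92621 := d16_7 (iv4 F62993) D46908 (iv4 F340056) (iv5 F145583) F292094 F340060 D188406 F142707 (iv2 D43519)
theorem F373339 : act 0 n188406 = n93014 := d17_0 (iv5 F291329) (iv1 F295344) F349150 F349151 F286368 F134960 D87986 (iv0 F340062) D188406
theorem F373340 : act 0 n184506 = n184508 := d18_0 (iv4 D184508) (iv1 F340063) D188406 F373338 (iv4 F153035) F177387 (iv4 F139317) F177352 D184506
theorem F373341 : act 0 n93013 = n188406 := d20_7 D87824 (iv1 F140503) F140504 F154573 F325478 (iv3 F365305) (iv4 F340055) (iv4 D188406) (iv3 D91361) (iv1 F66998)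
theorem F373342 : act 1 n184494 = n184508 := d15_0 (iv0 F373340) (iv7 F370608) F370606
def n188407 : Q := act 6 n91361
theorem D188407 : act 6 n91361 = n188407 := rfl
theorem F373343 : act 3 n188407 = n91364 := d7_1 D188407 (iv6 D91364) D91361
theorem F373344 : act 5 n188407 = n101421 := d12_1 D188407 (iv6 D101421) (iv5 F145059) F349307 F340060
def n188408 : Q := act 6 n91362
theorem D188408 : act 6 n91362 = n188408 := rfl
theorem F373345 : act 2 n188408 = n188375 := d3_1 D188408 (iv6 D188375) (iv2 F140485)
theorem F373346 : act 4 n188408 = n91364 := d10_1 D188408 (iv6 D91364) D91362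
def n188409 : Q := act 1 n91364
theorem D188409 : act 1 n91364 = n188409 := rfl
theorem F373347 : act 1 n188409 = n188377 := d15_1 D188409 (iv7 D188377) (iv2 F140492)
theorem F373348 : act 7 n188409 = n184557 := d15_2 (iv0 F351894) D188409 (iv2 F366839)
theorem F373349 : act 5 n136509 = n188409 := d21_6 F74419 (iv1 F35257) D22705 D47200 (iv1 F345470) (iv6 F326613) (iv1 D188409) F140493 (iv6 D47203) (iv1 F74421)
theorem F373350 : act 2 n188409 = n188376 := d2_1 F373349 (iv5 F373209) F366310
theorem F373351 : act 3 n188409 = n102186 := d6_1 F373349 F329869 D136509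
theorem F373352 : act 1 n188377 = n123768 := d15_1 F373347 (iv7 F373208) (iv2 F373350)
def n188410 : Q := act 7 n91364
theorem D188410 : act 7 n91364 = n188410 := rfl
theorem F373353 : act 2 n188410 = n188377 := d4_1 D188410 (iv7 D188377) (iv2 F140492)
theorem F373354 : act 5 n188410 = n101428 := d13_1 D188410 (iv7 D101428) (iv5 F140493)
theorem F373355 : act 6 n188410 = n188372 := d14_1 D188410 (iv7 D188372) (iv6 D91272) (iv7 F69662) D91364
theorem F373356 : act 1 n188376 = n188410 := d15_1 D188376 (iv7 D188410) F140492
theorem F373357 : act 1 n188410 = n184557 := d15_1 F373356 (iv7 F373348) F373350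
def n188411 : Q := act 2 n91365
theorem D188411 : act 2 n91365 = n188411 := rfl
theorem F373358 : act 3 n188411 = n93015 := d0_2 D91365 D188411 (iv2 F340053) (iv3 D91270) F69661
theorem F373359 : act 4 n188411 = n93019 := d1_2 F345164 D188411 F339905
theorem F373360 : act 5 n188411 = n156711 := d2_2 (iv5 F140494) D188411 F340073
theorem F373361 : act 7 n188411 = n188373 := d4_2 (iv7 F140495) D188411 (iv2 D188373)
theorem F373362 : act 1 n188411 = n99871 := d15_0 (iv0 F345045) (iv7 F140495) D188411
theorem F373363 : act 1 n99874 = n188411 := d15_0 F373362 (iv7 F355606) F355603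
def n188412 : Q := act 0 n91367
theorem D188412 : act 0 n91367 = n188412 := rfl
theorem F373364 : act 5 n188412 = n153424 := d17_3 (iv1 D182189) (iv5 F140500) D188412 (iv4 D153424) (iv5 D72482) D72481 D153421 (iv0 F240988) (iv4 F364080)
theorem F373365 : act 2 n153678 = n188412 := d2_3 F373364 F240998 D153678
theorem F373366 : act 7 n153704 = n188412 := d13_0 F373364 (iv7 F345159) F345157
theorem F373367 : act 4 n153706 = n188412 := d16_2 (iv4 F109215) (iv5 F241576) F373364 (iv4 D153424) (iv5 D72482) F52745 D33474 (iv7 F190117) F190115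
theorem F373368 : act 0 n188412 = n188372 := d20_7 F339962 F157812 F335534 (iv3 F165300) F331114 F331092 F373367 F373193 F225713 (iv1 F172246)
theorem E103313 : n188371 = n153678 := ((c15_4 (iv0 D188371) (iv0 F345156) F373366 (iv2 F373365))).symm
theorem F373369 : act 1 n153678 = n91272 := (sb E103313 (iv0 D188371))
def n188413 : Q := act 1 n91367
theorem D188413 : act 1 n91367 = n188413 := rfl
theorem F373370 : act 1 n188413 = n188372 := d15_1 D188413 (iv7 D188372) (iv2 F140499)
theorem F373371 : act 7 n188413 = n153678 := d15_2 (iv0 D188412) D188413 F373365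
theorem F373372 : act 5 n153679 = n188413 := d21_6 (iv5 D48554) (iv1 F293440) D41171 (iv6 F135157) (iv1 F337954) (iv6 F306629) (iv1 D188413) F140500 (iv6 D86990) F293874
theorem F373373 : act 2 n188413 = n153704 := d2_1 F373372 (iv5 F345157) (iv2 F306628)
theorem F373374 : act 4 n188413 = n153458 := d9_1 F373372 (iv5 D153458) (iv4 D72551) (iv5 D33474) (iv4 F52745) D72482 D153424 (iv5 F373364) (iv4 F373367) F241576 F109215 F52853 (iv4 F52849) (iv5 F109185) (iv4 F241551)
theorem F373375 : act 6 n187986 = n188413 := d10_0 F373374 F241048 D187986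
theorem F373376 : act 5 n185315 = n187986 := d12_5 F373375 (iv5 F373372) F306629 F283293 D185315
theorem F373377 : act 0 n152573 = n185315 := d21_1 D152573 F373376 F373375 (iv1 D188413) (iv6 D91367) F67000 (iv1 F292828) (iv5 F293838) D99893 F372003
theorem F373378 : act 1 n152573 = n185200 := d15_1 (iv0 F373377) F364096 (iv2 F287578)
theorem F373379 : act 0 n187986 = n123774 := d21_7 (iv5 F191887) F237040 (iv5 F109640) (iv6 F337937) (iv1 F135207) D185315 F373376 F198253 (iv6 D73196) (iv1 F109256)
theorem E103314 : n185300 = n152573 := ((c17_9 (iv1 D88285) (iv5 F74485) D101457 F357264 F242556 (iv5 F198253) (iv0 F373379) (iv5 F373376) (iv0 F373377) (iv4 D185300))).symm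
theorem F373380 : act 4 n152573 = n88285 := (sb E103314 (iv4 D185300))
theorem F373381 : act 4 n185293 = n185297 := d11_3 F351165 F373380 F287559
theorem F373382 : act 0 n159410 = n185301 := d19_0 (iv5 D185301) (iv4 F373380) F239763 (iv1 F178884) (iv5 D114812) (iv4 D52978) F40633 D25751 (iv5 F46282) (iv4 D28706) F22830 F21338 (iv5 D12860) (iv4 F11588) (iv3 F24975) D32581 (iv5 F55715) D76255 D159410
theorem F373383 : act 2 n185297 = n185295 := d1_1 F373381 (iv4 D185295) D185293
theorem F373384 : act 6 n185295 = n185293 := d10_0 F373381 (iv6 D185297) D185295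
theorem F373385 : act 1 n185295 = n185315 := d15_0 (iv0 F373377) (iv7 F351165) F373383
theorem F373386 : act 1 n185200 = n185295 := d15_0 F373385 F359651 F364097
def n188414 : Q := act 7 n91367
theorem D188414 : act 7 n91367 = n188414 := rfl
theorem F373387 : act 2 n188414 = n188372 := d4_1 D188414 (iv7 D188372) (iv2 F140499)
theorem F373388 : act 4 n188414 = n153687 := d11_1 D188414 F330105 (iv4 F345151)
theorem F373389 : act 5 n188414 = n152897 := d13_1 D188414 F364079 (iv5 F140500)
theorem F373390 : act 6 n188414 = n188377 := d14_1 D188414 (iv7 D188377) (iv6 D91275) F69663 D91367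
theorem F373391 : act 1 n153704 = n188414 := d15_1 (iv0 F345156) (iv7 D188414) F140499
theorem F373392 : act 1 n188414 = n153678 := d15_1 F373391 (iv7 F373371) F373373
def n188415 : Q := act 3 n91368
theorem D188415 : act 3 n91368 = n188415 := rfl
theorem F373393 : act 7 n188415 = n188378 := d8_2 F146085 D188415 (iv3 D188378)
def n188416 : Q := act 3 n91369
theorem D188416 : act 3 n91369 = n188416 := rfl
theorem F373394 : act 4 n188416 = n114244 := d5_2 (iv4 F140504) D188416 F178050 (iv4 F325479) (iv3 F154573)
theorem F373395 : act 5 n188416 = n153519 := d6_2 (iv5 F345146) D188416 (iv3 F335345)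
theorem F373396 : act 7 n188416 = n188379 := d8_2 (iv7 F146087) D188416 (iv3 D188379)
theorem F373397 : act 0 n188416 = n114476 := d19_4 (iv1 F292875) D87032 (iv4 F140504) D188416 (iv5 F241266) F237849 (iv3 D73370) F52989 D71118 D150847 F345167 F140480 (iv5 F294758) F159238 (iv3 F158625) F359410 (iv5 D87948) (iv4 F134883) (iv3 D87873)
theorem F373398 : act 0 n187816 = n184074 := d20_4 (iv4 D114476) (iv1 F114353) D90592 D187816 (iv3 D184074) (iv4 D87803) (iv1 F133588) (iv4 F140504) D188416 F373397
theorem F373399 : act 0 n114480 = n188416 := d17_0 F373395 (iv1 D153519) F109100 (iv4 D42419) (iv5 D20027) D20026 D42415 (iv0 F106584) D114480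
theorem F373400 : act 2 n159486 = n188416 := d1_3 F373394 F178049 D159486
def n188417 : Q := act 6 n91369
theorem D188417 : act 6 n91369 = n188417 := rfl
theorem F373401 : act 2 n188417 = n153702 := d3_1 D188417 (iv6 F364623) F146084
theorem F373402 : act 4 n188417 = n182273 := d10_1 D188417 F283718 (iv4 F140504)
theorem F373403 : act 5 n188417 = n127206 := d12_1 D188417 (iv6 D127206) D127205 F340512 (iv5 F345146)
theorem F373404 : act 0 n188417 = n153706 := d21_4 F294719 (iv1 F147703) (iv5 F345146) D188417 (iv6 F331134) (iv5 D108653) D108650 F345102 (iv6 D184116) (iv1 F153815)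
theorem F373405 : act 0 n153458 = n188417 := d21_4 (iv5 F345109) (iv1 D90712) D90713 (iv6 F241048) (iv6 D188417) F345146 F147702 (iv5 F294722) F372002 (iv1 F372001)
theorem F373406 : act 7 n153703 = n188417 := d13_0 F373403 (iv7 F342510) F322373
def n188418 : Q := act 0 n91370
theorem D188418 : act 0 n91370 = n188418 := rfl
theorem F373407 : act 2 n116103 = n188418 := d15_3 (iv0 D188418) (iv0 F345140) (iv7 F351294)
theorem F373408 : act 1 n106876 = n188418 := d15_0 (iv0 D188418) F331076 (iv2 F164717)
theorem F373409 : act 7 n188418 = n116102 := d15_2 (iv0 F351318) F373408 (iv2 F351296)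
theorem F373410 : act 6 n138453 = n188418 := d21_3 D109198 F364776 D138453 (iv1 F373408) (iv6 D106876) (iv5 D49381) F37759 (iv5 F49327) D65982 (iv1 F351208)
theorem F373411 : act 3 n188418 = n138455 := d7_1 F373410 (iv6 D138455) (iv3 F221647)
theorem F373412 : act 5 n188418 = n153763 := d21_6 (iv5 D86156) (iv1 F60677) D75205 D157863 F364774 F373410 (iv1 F365891) (iv5 F345410) (iv6 D86349) (iv1 F132115)
theorem F373413 : act 0 n138453 = n157939 := d21_4 F351133 (iv1 F365890) (iv5 F373412) (iv6 F373410) (iv6 F345271) (iv5 D111750) (iv1 F172808) F172805 (iv6 F345417) F351192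
def n188419 : Q := act 2 n91370
theorem D188419 : act 2 n91370 = n188419 := rfl
theorem F373414 : act 4 n188419 = n109096 := d1_2 F159469 D188419 (iv2 F331131)
theorem F373415 : act 6 n188419 = n141832 := d3_2 (iv6 F331075) D188419 F224857
theorem F373416 : act 7 n188419 = n106876 := d4_2 (iv7 F331076) D188419 F164717
theorem F373417 : act 1 n188419 = n116102 := d15_0 (iv0 D116102) (iv7 F331076) D188419
theorem F373418 : act 1 n116103 = n188419 := d15_0 F373417 (iv7 F373409) (iv2 F373407)
def n188420 : Q := act 5 n91370
theorem D188420 : act 5 n91370 = n188420 := rfl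
theorem F373419 : act 3 n188420 = n91371 := d6_1 D188420 (iv5 D91371) D91370
theorem F373420 : act 7 n188420 = n116104 := d13_2 (iv7 F331076) D188420 (iv5 D116104)
theorem F373421 : act 1 n188420 = n125494 := d17_6 (iv1 D140606) (iv5 F216808) (iv1 F351315) (iv5 F342493) F159469 D188420 (iv5 F362343) F345205 (iv4 F351126)
def n188421 : Q := act 6 n91371
theorem D188421 : act 6 n91371 = n188421 := rfl
theorem F373422 : act 2 n188421 = n175021 := d3_1 D188421 (iv6 F352778) (iv2 F140506)
theorem F373423 : act 4 n188421 = n103786 := d10_1 D188421 (iv6 D103786) (iv4 F292227)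
def n188422 : Q := act 0 n91372
theorem D188422 : act 0 n91372 = n188422 := rfl
theorem F373424 : act 1 n141885 = n188422 := d15_0 (iv0 D188422) F331078 (iv2 F224923)
def n188423 : Q := act 1 n91372
theorem D188423 : act 1 n91372 = n188423 := rfl
theorem F373425 : act 1 n188423 = n141885 := d15_1 D188423 (iv7 F373300) F373298
theorem F373426 : act 3 n188115 = n188423 := d20_3 F371836 (iv1 F370843) (iv4 F372348) (iv1 D188423) F331077 (iv4 F169071) (iv1 F331116) (iv4 F371834) F371833 D187917
theorem F373427 : act 7 n188423 = n188111 := d8_2 D188115 F373426 F372347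
theorem F373428 : act 2 n188111 = n188422 := d15_3 (iv0 D188422) D188423 F373427
theorem F373429 : act 6 n188422 = n187985 := d3_2 D188111 F373428 (iv2 F372035)
theorem F373430 : act 4 n153367 = n188423 := d18_5 (iv1 F198123) D123722 F355764 F240701 D153367 F373425 (iv4 F359725) F359723 F359719
theorem F373431 : act 6 n188423 = n153938 := d10_2 (iv6 F240937) F373430 (iv4 D153938)
def n188424 : Q := act 5 n91372
theorem D188424 : act 5 n91372 = n188424 := rfl
theorem F373432 : act 3 n188424 = n141949 := d6_1 D188424 F224995 (iv3 F331077)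
theorem F373433 : act 7 n188424 = n141902 := d13_2 (iv7 F331078) D188424 (iv5 D141902)
def n188425 : Q := act 3 n91373
theorem D188425 : act 3 n91373 = n188425 := rfl
def n188426 : Q := act 4 n91373
theorem D188426 : act 4 n91373 = n188426 := rfl
def n188427 : Q := act 6 n91373
theorem D188427 : act 6 n91373 = n188427 := rfl
def n188428 : Q := act 0 n91375
theorem D188428 : act 0 n91375 = n188428 := rfl
def n188429 : Q := act 7 n91375
theorem D188429 : act 7 n91375 = n188429 := rfl
theorem F373434 : act 5 n188429 = n91376 := d13_1 D188429 (iv7 D91376) D91375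
theorem F373435 : act 6 n188429 = n120435 := d14_1 D188429 (iv7 F356631) (iv6 D104897) F292055 (iv6 F140512)
def n188430 : Q := act 2 n91377
theorem D188430 : act 2 n91377 = n188430 := rfl
theorem F373436 : act 3 n188430 = n182442 := d0_2 D91377 D188430 F283986 F133710 F291002
theorem F373437 : act 4 n188430 = n93017 := d1_2 (iv4 F290624) D188430 F290622
theorem F373438 : act 5 n188430 = n186842 := d2_2 (iv5 F140515) D188430 (iv2 D186842)
theorem F373439 : act 6 n188430 = n105042 := d3_2 (iv6 F290625) D188430 (iv2 D105042)
theorem F373440 : act 7 n188430 = n101376 := d4_2 (iv7 F140516) D188430 F156172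
theorem F373441 : act 1 n188430 = n101096 := d15_0 F344235 (iv7 F140516) D188430
theorem F373442 : act 1 n101382 = n188430 := d15_0 F373441 (iv7 F372838) F372836
def n188431 : Q := act 3 n91380
theorem D188431 : act 3 n91380 = n188431 := rfl
theorem F373443 : act 5 n188431 = n166381 := d6_2 (iv5 F323552) D188431 (iv3 D166381)
theorem F373444 : act 7 n188431 = n113376 := d8_2 (iv7 F292466) D188431 (iv3 F350800)
def n188432 : Q := act 0 n91385
theorem D188432 : act 0 n91385 = n188432 := rfl
theorem F373445 : act 5 n188432 = n103903 := d17_3 (iv1 F329987) (iv5 F357428) D188432 F354452 (iv5 F354446) (iv0 F157773) D183920 (iv0 F285784) F329991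
theorem F373446 : act 3 n188432 = n151261 := d20_5 (iv4 D40940) (iv1 F66095) D42769 D91385 D188432 F326521 (iv1 F352760) F136737 F70363 F291401
theorem F373447 : act 6 n188432 = n97476 := d21_5 (iv5 F325914) F300738 D79827 (iv6 F357429) D188432 F150258 F160470 (iv5 D104757) (iv6 F148086) (iv1 D96276)
theorem F373448 : act 2 n97442 = n188432 := d15_3 (iv0 D188432) F295352 F294157
theorem F373449 : act 1 n184384 = n188432 := d15_0 (iv0 D188432) F140539 (iv2 F357436)
theorem F373450 : act 7 n188432 = n184385 := d15_2 D184384 F373449 (iv2 D184385)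
def n188433 : Q := act 3 n91398
theorem D188433 : act 3 n91398 = n188433 := rfl
theorem F373451 : act 5 n188433 = n184123 := d6_2 (iv5 F140573) D188433 (iv3 D184123)
theorem F373452 : act 7 n188433 = n128388 := d8_2 (iv7 F140574) D188433 F352780
theorem F373453 : act 0 n188433 = n128390 := d20_10 F206508 (iv1 F205394) F346507 (iv3 D144301) (iv1 F345172) (iv3 D103806) (iv4 D48061) F292225 D91398 D188433
theorem F373454 : act 0 n127694 = n188433 := d20_4 F186223 (iv1 D59950) D59951 D127694 (iv3 D188433) (iv4 D91398) (iv1 F292226) D48053 (iv3 F324321) (iv1 F186221)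
theorem F373455 : act 2 n128389 = n188433 := d15_3 (iv0 F373454) (iv0 F347868) F347892
def n188434 : Q := act 6 n91398
theorem D188434 : act 6 n91398 = n188434 := rfl
theorem F373456 : act 2 n188434 = n116100 := d3_1 D188434 F365134 (iv2 F140572)
theorem F373457 : act 4 n188434 = n91399 := d10_1 D188434 (iv6 D91399) D91398
theorem F373458 : act 5 n188434 = n116093 := d12_1 D188434 (iv6 D116093) D116092 F331052 (iv5 F140573)
theorem F373459 : act 0 n111006 = n91399 := d18_2 (iv1 D111024) (iv4 F172127) (iv4 F373457) F373458 F180886 F319220 D170375 (iv0 F344475) (iv5 F363393)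
def n188435 : Q := act 0 n91399
theorem D188435 : act 0 n91399 = n188435 := rfl
theorem F373460 : act 6 n188435 = n103606 := d21_5 F292223 (iv1 D42771) D42773 D91399 D188435 (iv5 D103606) (iv1 D47986) D47987 F75365 D47991
theorem F373461 : act 2 n103750 = n188435 := d15_3 (iv0 D188435) (iv0 F373459) (iv7 F356938)
theorem F373462 : act 3 n188435 = n142441 := d0_2 (iv3 F356937) F373461 F225350 (iv3 F162257) (iv2 F172134)
theorem F373463 : act 7 n188435 = n142435 := d4_2 (iv7 F356938) F373461 F225332
def n188436 : Q := act 7 n91399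
theorem D188436 : act 7 n91399 = n188436 := rfl
theorem F373464 : act 5 n188436 = n187288 := d13_1 D188436 (iv7 D187288) (iv5 F292256)
theorem F373465 : act 6 n188436 = n188393 := d14_1 D188436 (iv7 D188393) (iv6 D91303) (iv7 F67029) D91399
theorem F373466 : act 1 n142435 = n188436 := d15_1 (iv0 F373312) (iv7 D188436) (iv2 F373308)
theorem F373467 : act 1 n188436 = n103750 := d15_1 F373466 F356938 (iv2 F225332)
def n188437 : Q := act 0 n91673
theorem D188437 : act 0 n91673 = n188437 := rfl
theorem F373468 : act 3 n188437 = n112661 := d20_5 (iv4 D35782) (iv1 F32117) D42862 D91673 D188437 (iv4 D112661) (iv1 D51991) D51993 (iv3 F326754) (iv1 F116031)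
theorem F373469 : act 1 n163424 = n188437 := d15_0 (iv0 D188437) F140913 D163424
theorem F373470 : act 6 n125687 = n188437 := d7_0 F373468 F175320 (iv3 F202167)
theorem F373471 : act 7 n125526 = n188437 := d8_0 F373468 F175321 (iv3 F201891)
theorem F373472 : act 5 n187417 = n188437 := d21_2 (iv5 F138384) D187417 (iv6 F373470) (iv1 F356015) F356011 D113654 (iv1 F176847) (iv5 D113451) D113452 F358160
theorem F373473 : act 7 n185723 = n187417 := d13_0 F373472 (iv7 F373471) F347544
theorem F373474 : act 2 n187417 = n185724 := d15_3 (iv0 F358224) F363245 F373473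
theorem F373475 : act 2 n185723 = n187418 := d15_3 F370266 F370265 (iv7 F373473)
theorem F373476 : act 7 n187418 = n185724 := d4_2 (iv7 F373473) F373475 (iv2 F373474)
theorem F373477 : act 2 n163423 = n188437 := d2_3 (iv5 F373472) F373474 F358378
def n188438 : Q := act 1 n91673
theorem D188438 : act 1 n91673 = n188438 := rfl
theorem F373478 : act 7 n188438 = n163423 := d15_2 (iv0 D188437) D188438 F373477
theorem F373479 : act 2 n125526 = n188438 := d4_3 F373478 F373477 (iv7 F373471)
theorem F373480 : act 5 n187418 = n188438 := d13_3 F373478 (iv5 F358378) (iv7 F373476)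
theorem F373481 : act 6 n188438 = n125524 := d21_3 (iv5 F288005) (iv1 F370266) F373480 (iv1 F201888) (iv6 F349539) (iv5 D58920) (iv1 F100283) D125745 F332900 F327624
theorem F373482 : act 3 n125622 = n188438 := d7_3 F373481 F201885 D125622
theorem F373483 : act 1 n188438 = n163424 := d15_0 F373469 (iv7 F373471) F373479
def n188439 : Q := act 2 n91673
theorem D188439 : act 2 n91673 = n188439 := rfl
theorem F373484 : act 3 n188439 = n91690 := d0_2 D91673 D188439 (iv2 D91690) (iv3 D42869) (iv2 F67158)
theorem F373485 : act 4 n188439 = n163237 := d1_2 (iv4 F140912) D188439 (iv2 D163237)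
theorem F373486 : act 6 n188439 = n182330 := d3_2 (iv6 F296040) D188439 (iv2 D182330)
theorem F373487 : act 7 n188439 = n163424 := d4_2 (iv7 F140913) D188439 (iv2 D163424)
theorem F373488 : act 1 n188439 = n125526 := d15_0 F365832 (iv7 F140913) D188439
theorem F373489 : act 1 n163423 = n188439 := d15_0 F373488 F373471 (iv2 F373477)
def n188440 : Q := act 3 n91689
theorem D188440 : act 3 n91689 = n188440 := rfl
theorem F373490 : act 2 n188440 = n129070 := d0_1 D188440 (iv3 D129070) (iv2 F358305) F358306 (iv2 F254430)
theorem F373491 : act 4 n188440 = n164130 := d5_2 F140955 D188440 (iv3 D164130) (iv4 D78850) D78849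
theorem F373492 : act 7 n188440 = n163457 := d8_2 F254429 D188440 (iv3 D163457)
theorem F373493 : act 0 n188440 = n125637 := d20_4 F258255 F258191 F140955 D188440 (iv3 D125637) F165632 (iv1 F92965) (iv4 F171114) F327078 (iv1 F257785)
def n188441 : Q := act 6 n91689
theorem D188441 : act 6 n91689 = n188441 := rfl
theorem F373494 : act 2 n188441 = n163456 := d3_1 D188441 (iv6 D163456) (iv2 F254430)
theorem F373495 : act 4 n188441 = n164128 := d10_1 D188441 (iv6 D164128) F140955
theorem F373496 : act 0 n125671 = n188441 := d20_1 (iv4 F202157) F373495 F258681 (iv1 F351014) F346328 (iv4 F359826) (iv1 F167981) (iv4 F168808) (iv3 F341858) (iv1 F324600)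
theorem F373497 : act 0 n188441 = n162910 := d20_7 F60237 (iv1 F45075) (iv4 F321470) D110414 F351015 (iv3 F258681) (iv4 F373495) F257227 F119571 F60239
def n188442 : Q := act 4 n91691
theorem D188442 : act 4 n91691 = n188442 := rfl
theorem F373498 : act 2 n188442 = n187424 := d1_1 D188442 F370275 F347522
theorem F373499 : act 6 n188442 = n187390 := d10_2 (iv6 F347526) D188442 (iv4 F370134)
theorem F373500 : act 7 n188442 = n163464 := d11_2 (iv7 F140962) D188442 (iv4 D163464)
theorem F373501 : act 0 n187275 = n188442 := d20_7 F294083 (iv1 F294079) D96954 (iv3 F359021) F176599 (iv3 F365683) (iv4 F369682) (iv4 D188442) F140961 (iv1 F294081)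
def n188443 : Q := act 0 n91693
theorem D188443 : act 0 n91693 = n188443 := rfl
theorem F373502 : act 5 n188443 = n131829 := d17_3 F217214 (iv5 F359026) D188443 F216826 F352493 F349717 F294739 F328744 D134986
theorem F373503 : act 3 n131831 = n188443 := d6_3 F373502 (iv3 D131829) D131831
def n188444 : Q := act 1 n91693
theorem D188444 : act 1 n91693 = n188444 := rfl
def n188445 : Q := act 4 n91842
theorem D188445 : act 4 n91842 = n188445 := rfl
theorem F373504 : act 3 n188445 = n188442 := d5_1 D188445 (iv4 D188442) F140961 (iv4 F67268) (iv3 F141179)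
theorem F373505 : act 7 n188445 = n96547 := d11_2 F293337 D188445 (iv4 D96547)
def n188446 : Q := act 6 n91842
theorem D188446 : act 6 n91842 = n188446 := rfl
theorem F373506 : act 3 n188446 = n91844 := d7_1 D188446 (iv6 D91844) (iv3 F141179)
def n188447 : Q := act 0 n91844
theorem D188447 : act 0 n91844 = n188447 := rfl
def n188448 : Q := act 1 n91844
theorem D188448 : act 1 n91844 = n188448 := rfl
theorem F373507 : act 1 n188448 = n91876 := d15_1 D188448 (iv7 D91876) (iv2 F141183)
theorem F373508 : act 4 n188448 = n132048 := d18_7 (iv1 F164216) D132042 F363954 (iv4 F213565) (iv5 F359026) (iv4 F141184) D188448 F349649 F349648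
def n188449 : Q := act 7 n91844
theorem D188449 : act 7 n91844 = n188449 := rfl
theorem F373509 : act 2 n188449 = n91876 := d4_1 D188449 (iv7 D91876) (iv2 F141183)
theorem F373510 : act 4 n188449 = n132940 := d11_1 D188449 F359027 (iv4 F141184)
theorem F373511 : act 6 n188449 = n96562 := d14_1 D188449 (iv7 D96562) F70984 F292279 D91844
theorem F373512 : act 1 n91876 = n188447 := d15_0 (iv0 D188447) D188449 F373509
theorem F373513 : act 1 n91874 = n188449 := d15_1 D91874 (iv7 D188449) F141183
theorem F373514 : act 1 n188449 = n91873 := d15_0 (iv0 D91873) D91876 (iv2 F373509)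
def n188450 : Q := act 1 n91871
theorem D188450 : act 1 n91871 = n188450 := rfl
theorem F373515 : act 5 n166554 = n188450 := d21_0 (iv1 D188450) F141242 F296040 D182328 (iv6 F359045) (iv5 F358168) (iv1 D131803) (iv5 F207166) (iv6 F358153) F358149
theorem F373516 : act 6 n113406 = n188450 := d21_3 F203019 (iv1 F93389) D113406 (iv1 D188450) (iv6 F359022) (iv5 D106841) (iv1 D49365) D49367 D106848 F343616
theorem F373517 : act 2 n188450 = n97395 := d3_1 F373516 F362869 F202939
theorem F373518 : act 7 n97396 = n188450 := d15_2 (iv0 D97395) D97396 F373517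
theorem F373519 : act 2 n97396 = n113463 := d4_3 F362867 (iv2 F373517) (iv7 F373518)
theorem F373520 : act 1 n188450 = n97397 := d15_0 F359023 F362867 (iv2 F373517)
theorem F373521 : act 4 n107572 = n97396 := d1_0 F373519 F358220 F171480
theorem F373522 : act 5 n113452 = n97396 := d2_0 F373519 (iv5 D113463) (iv2 F176638)
theorem F373523 : act 6 n106534 = n97396 := d3_0 F373519 (iv6 F358218) F177801
def n188451 : Q := act 2 n91871
theorem D188451 : act 2 n91871 = n188451 := rfl
theorem F373524 : act 3 n188451 = n132998 := d0_2 D91871 D188451 F347522 F140961 (iv2 F67301)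
theorem F373525 : act 5 n188451 = n188439 := d2_2 (iv5 F141242) D188451 (iv2 D188439)
theorem F373526 : act 6 n188451 = n132995 := d3_2 F359022 D188451 F213647
theorem F373527 : act 7 n188451 = n97397 := d4_2 (iv7 F294890) D188451 (iv2 D97397)
theorem F373528 : act 1 n188451 = n97395 := d15_0 (iv0 D97395) (iv7 F294890) D188451
theorem F373529 : act 1 n97396 = n188451 := d15_0 F373528 (iv7 F362867) (iv2 F373519)
def n188452 : Q := act 0 n91872
theorem D188452 : act 0 n91872 = n188452 := rfl
theorem F373530 : act 5 n188452 = n134898 := d17_3 (iv1 F213566) F359025 D188452 (iv4 D134898) D134899 F332735 F328749 D111436 (iv4 F211414)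
theorem F373531 : act 2 n188443 = n188452 := d2_3 F373530 F352542 (iv5 F373502)
theorem F373532 : act 7 n188444 = n188452 := d15_2 (iv0 D188443) D188444 (iv2 F373531)
def n188453 : Q := act 1 n91872
theorem D188453 : act 1 n91872 = n188453 := rfl
theorem F373533 : act 1 n188453 = n132940 := d15_1 D188453 F359027 (iv2 F141244)
theorem F373534 : act 7 n188453 = n188443 := d15_2 (iv0 D188452) D188453 F373531
theorem F373535 : act 5 n134903 = n188453 := d21_6 F70736 (iv1 D44986) D44988 D96348 F329351 F352475 (iv1 D188453) (iv5 F359025) F337807 (iv1 F112731)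
theorem F373536 : act 3 n188453 = n131944 := d6_1 F373535 F362894 F217106
theorem F373537 : act 6 n188453 = n132119 := d12_2 F352475 F373535 (iv5 F348769) (iv6 D113497) D113496
theorem F373538 : act 2 n188444 = n188453 := d4_3 F373534 F373531 (iv7 F373532)
theorem F373539 : act 3 n163473 = n188444 := d0_0 F373538 F373536 (iv2 F362890) (iv3 F352534) F294899
theorem F373540 : act 6 n163472 = n188444 := d3_0 F373538 F373537 F348770
theorem F373541 : act 1 n132940 = n188452 := d15_1 F373533 (iv7 F373532) F373538
def n188454 : Q := act 7 n91872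
theorem D188454 : act 7 n91872 = n188454 := rfl
theorem F373542 : act 2 n188454 = n132940 := d4_1 D188454 F359027 (iv2 F141244)
theorem F373543 : act 4 n188454 = n91876 := d11_1 D188454 (iv7 D91876) (iv4 F141245)
theorem F373544 : act 5 n188454 = n132939 := d13_1 D188454 (iv7 F213559) F359025
theorem F373545 : act 6 n188454 = n97309 := d14_1 D188454 (iv7 D97309) F71706 (iv7 F294042) D91872
theorem F373546 : act 1 n188444 = n188454 := d15_1 D188444 (iv7 D188454) F141244
theorem F373547 : act 1 n188454 = n188443 := d15_1 F373546 (iv7 F373534) (iv2 F373538)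
theorem F373548 : act 4 n132047 = n188447 := d18_1 D132047 (iv1 F373512) (iv4 F373543) F373544 (iv4 F362904) (iv0 F337797) (iv4 D132037) (iv0 D61959) D61962
def n188455 : Q := act 2 n91873
theorem D188455 : act 2 n91873 = n188455 := rfl
theorem F373549 : act 7 n91874 = n188455 := d15_2 (iv0 D91873) D91874 (iv2 D188455)
def n188456 : Q := act 3 n91873
theorem D188456 : act 3 n91873 = n188456 := rfl
def n188457 : Q := act 4 n91873
theorem D188457 : act 4 n91873 = n188457 := rfl
theorem F373550 : act 1 n188457 = n132045 := d18_8 (iv1 F164215) (iv4 F363958) (iv1 F337803) F213538 D132940 (iv4 F373510) F373514 D188457 (iv5 D132045)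
theorem F373551 : act 1 n106615 = n188457 := d15_0 F373550 F349646 F349647
theorem F373552 : act 5 n188457 = n106474 := d17_7 (iv1 F216831) F352493 (iv1 D134997) (iv5 D63441) (iv4 F77845) D106615 F373551 F164298 F164294
theorem F373553 : act 2 n132047 = n188457 := d2_3 F373552 (iv2 F364689) (iv5 F360832)
theorem F373554 : act 7 n132048 = n188457 := d13_0 F373552 (iv7 F364690) (iv5 F349650)
theorem F373555 : act 0 n132136 = n163435 := d21_4 F373552 (iv1 D106474) (iv5 F96581) D132136 (iv6 D163435) (iv5 D78543) (iv1 F116033) (iv5 F294048) F349643 (iv1 F373550)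
theorem F373556 : act 4 n97439 = n132136 := d18_1 (iv1 F294704) F373555 F257726 F291961 (iv4 F158505) (iv0 F355178) F219894 F220246 F331275
theorem F373557 : act 6 n132135 = n97439 := d10_0 F373556 (iv6 D132136) D132135
theorem F373558 : act 7 n91873 = n188448 := d11_2 F373554 (iv4 D188457) F373508
theorem F373559 : act 2 n188448 = n91874 := d4_1 F373558 F373549 (iv2 D188455)
theorem E103315 : n188455 = n188447 := (c15_4 (iv0 D188447) D188448 (iv7 F373558) D188455)
theorem F373560 : act 2 n188447 = n91873 := (sb E103315 (iv2 D188455))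
theorem F373561 : act 7 n188447 = n91874 := (sb E103315 (iv7 F373549))
def n188458 : Q := act 5 n91873
theorem D188458 : act 5 n91873 = n188458 := rfl
def n188459 : Q := act 6 n91873
theorem D188459 : act 6 n91873 = n188459 := rfl
def n188460 : Q := act 3 n91874
theorem D188460 : act 3 n91874 = n188460 := rfl
def n188461 : Q := act 4 n91874
theorem D188461 : act 4 n91874 = n188461 := rfl
theorem F373562 : act 2 n188461 = n132048 := d1_1 D188461 (iv4 F373508) F373559
theorem F373563 : act 7 n188461 = n132047 := d11_2 F373561 D188461 F373548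
theorem F373564 : act 1 n188461 = n106615 := d18_8 D106612 (iv4 F363971) (iv1 D182393) (iv4 F337806) F359025 F141245 D91874 D188461 (iv5 D106615)
theorem F373565 : act 0 n106841 = n131954 := d20_4 (iv4 D188461) (iv1 D91874) (iv4 F141245) F359024 (iv3 D131954) F96518 F77691 (iv4 F77849) (iv3 F164217) (iv1 F373564)
theorem F373566 : act 1 n129841 = n136337 := d17_6 (iv1 F164641) D106841 F373565 F211428 F97625 (iv5 F208193) (iv5 D136337) F212748 F212745
theorem F373567 : act 1 n132045 = n188461 := d15_0 F373564 F164218 (iv2 F211531)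
theorem F373568 : act 5 n188461 = n106473 := d21_2 D106615 (iv1 F373564) F364687 (iv1 F219100) (iv6 F349677) (iv5 F207291) F349822 (iv5 F354995) F354996 (iv1 D106613)
theorem F373569 : act 3 n126237 = n188461 := d6_3 F373568 F364686 D126237
theorem F373570 : act 6 n126233 = n188461 := d12_0 F373568 F364687 (iv5 D59175) D59176 D126233
def n188462 : Q := act 5 n91874
theorem D188462 : act 5 n91874 = n188462 := rfl
def n188463 : Q := act 6 n91874
theorem D188463 : act 6 n91874 = n188463 := rfl
theorem F373571 : act 4 n188463 = n126233 := d10_1 D188463 F373570 (iv4 D188461)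
theorem F373572 : act 0 n188463 = n132117 := d20_7 (iv4 F341789) (iv1 F171498) F165963 (iv3 F343622) F328931 (iv3 F203005) (iv4 F373571) F211646 F96574 D61992
def n188464 : Q := act 4 n91999
theorem D188464 : act 4 n91999 = n188464 := rfl
def n188465 : Q := act 6 n91999
theorem D188465 : act 6 n91999 = n188465 := rfl
theorem F373573 : act 3 n188465 = n92005 := d7_1 D188465 (iv6 D92005) (iv3 F141497)
theorem F373574 : act 5 n188465 = n102086 := d12_1 D188465 (iv6 D102086) (iv5 D47411) F295226 D91999
theorem F373575 : act 0 n188465 = n135158 := d21_4 (iv5 F295150) (iv1 D91997) D91999 D188465 (iv6 D135158) F98830 (iv1 F213167) (iv5 F217339) F337820 (iv1 F284619)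
def n188466 : Q := act 6 n92004
theorem D188466 : act 6 n92004 = n188466 := rfl
theorem F373576 : act 2 n188466 = n185516 := d3_1 D188466 F287782 (iv2 F295230)
theorem F373577 : act 3 n188466 = n114359 := d7_1 D188466 (iv6 F205632) (iv3 F356721)
theorem F373578 : act 4 n188466 = n92005 := d10_1 D188466 (iv6 D92005) D92004
theorem F373579 : act 5 n188466 = n187502 := d12_1 D188466 (iv6 F370614) F356699 F287782 (iv5 F295231)
theorem F373580 : act 7 n188466 = n114354 := d14_2 (iv7 F295232) D188466 (iv6 D114354) (iv7 F94502) (iv6 F356658)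
def n188467 : Q := act 0 n92005
theorem D188467 : act 0 n92005 = n188467 := rfl
theorem F373581 : act 4 n188467 = n92587 := d18_1 D188467 (iv1 D92587) D92588 F362833 F135170 F312616 (iv4 F242551) F353749 (iv5 F295234)
theorem F373582 : act 2 n185514 = n188467 := d1_3 F373581 (iv2 F344308) (iv4 F362834)
theorem F373583 : act 7 n185515 = n188467 := d11_0 F373581 (iv7 F344310) F356716
theorem F373584 : act 1 n185503 = n188467 := d18_6 (iv1 F67976) D92583 (iv1 F205440) F142863 D159844 F356698 F373581 F142614 F138873
def n188468 : Q := act 1 n92005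
theorem D188468 : act 1 n92005 = n188468 := rfl
theorem F373585 : act 1 n188468 = n185503 := d15_1 D188468 F329983 (iv2 F295233)
theorem F373586 : act 7 n188468 = n185514 := d15_2 (iv0 D188467) D188468 F373582
theorem F373587 : act 4 n188468 = n92586 := d18_7 D43313 D92579 (iv1 F251982) (iv4 F370609) (iv5 F373579) F373578 D188468 (iv0 D92586) (iv5 D43315)
theorem F373588 : act 2 n185515 = n188468 := d1_3 F373587 F344311 F356716
def n188469 : Q := act 7 n92005
theorem D188469 : act 7 n92005 = n188469 := rfl
theorem F373589 : act 2 n188469 = n185503 := d4_1 D188469 F329983 (iv2 F295233)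
theorem F373590 : act 4 n188469 = n114354 := d11_1 D188469 (iv7 F373580) F373578
theorem F373591 : act 5 n188469 = n183907 := d13_1 D188469 F329954 (iv5 F295234)
theorem F373592 : act 6 n188469 = n114353 := d14_1 D188469 (iv7 F205626) F356706 (iv7 F294765) D92005
theorem F373593 : act 1 n185515 = n188469 := d15_1 D185515 (iv7 D188469) F295233
theorem F373594 : act 1 n188469 = n185514 := d15_1 F373593 (iv7 F373586) (iv2 F373588)
theorem F373595 : act 0 n187509 = n184521 := d20_10 (iv4 D184521) (iv1 D87994) D87995 (iv3 F345132) (iv1 D114358) (iv3 F178321) (iv4 F373590) (iv1 F373593) (iv4 F356716) D187509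
def n188470 : Q := act 1 n92032
theorem D188470 : act 1 n92032 = n188470 := rfl
theorem F373596 : act 1 n188470 = n185453 := d15_1 D188470 (iv7 F357375) F287915
theorem F373597 : act 7 n188470 = n185459 := d15_2 (iv0 F372689) D188470 (iv2 F372684)
theorem F373598 : act 4 n185136 = n188470 := d20_0 (iv1 D188470) F141527 (iv3 D43021) (iv1 F67366) F133972 (iv4 F292718) D90624 D187871 F371729 (iv1 F370206)
theorem F373599 : act 2 n188470 = n185458 := d1_1 F373598 (iv4 F370936) F370935
theorem F373600 : act 3 n188470 = n96295 := d5_1 F373598 (iv4 F370278) (iv3 D187425) F294259 D185136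
def n188471 : Q := act 5 n92032
theorem D188471 : act 5 n92032 = n188471 := rfl
theorem F373601 : act 3 n188471 = n92033 := d6_1 D188471 (iv5 D92033) D92032
theorem F373602 : act 7 n188471 = n96074 := d13_2 F294574 D188471 F147681
def n188472 : Q := act 6 n92033
theorem D188472 : act 6 n92033 = n188472 := rfl
theorem F373603 : act 2 n188472 = n96079 := d3_1 D188472 (iv6 D96079) F295301
theorem F373604 : act 4 n188472 = n92316 := d10_1 D188472 (iv6 F363531) (iv4 F295130)
theorem F373605 : act 5 n188472 = n95627 := d12_1 D188472 (iv6 D95627) (iv5 F76126) F295131 D92033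
theorem F373606 : act 0 n133369 = n188472 := d21_4 (iv5 D133362) (iv1 D62592) D62594 D133369 (iv6 D188472) (iv5 D92033) F294541 D44861 D96131 F355169
theorem F373607 : act 1 n133369 = n93794 := d15_1 (iv0 F373606) F363537 (iv2 F373603)
theorem F373608 : act 7 n94142 = n188472 := d11_0 F373604 (iv7 F293655) D94142
def n188473 : Q := act 4 n92040
theorem D188473 : act 4 n92040 = n188473 := rfl
theorem F373609 : act 7 n188473 = n185495 := d11_2 (iv7 F294099) D188473 (iv4 D185495)
def n188474 : Q := act 6 n92040
theorem D188474 : act 6 n92040 = n188474 := rfl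
theorem F373610 : act 3 n188474 = n92043 := d7_1 D188474 (iv6 D92043) (iv3 F141533)
def n188475 : Q := act 1 n92043
theorem D188475 : act 1 n92043 = n188475 := rfl
theorem F373611 : act 1 n188475 = n114353 := d15_1 D188475 (iv7 F205626) F356703
theorem F373612 : act 4 n188475 = n187496 := d18_7 D90276 (iv4 F164482) (iv1 F164485) F114680 (iv5 F205622) (iv4 F356660) D188475 (iv0 D187496) (iv5 D90278)
def n188476 : Q := act 6 n92174
theorem D188476 : act 6 n92174 = n188476 := rfl
theorem F373613 : act 2 n188476 = n164093 := d3_1 D188476 (iv6 D164093) F257972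
theorem F373614 : act 4 n188476 = n178333 := d10_1 D188476 F353484 F248858
theorem F373615 : act 7 n188476 = n166411 := d14_2 F257974 D188476 (iv6 F364238) F224603 F353240
theorem F373616 : act 1 n166408 = n188476 := d15_1 (iv0 F369709) F373615 (iv2 F369708)
theorem F373617 : act 1 n188476 = n121722 := d15_1 F373616 F194284 (iv2 F261979)
def n188477 : Q := act 3 n92175
theorem D188477 : act 3 n92175 = n188477 := rfl
theorem F373618 : act 4 n188477 = n187374 := d5_2 F193227 D188477 F370050 (iv4 D121158) D121157
theorem F373619 : act 5 n188477 = n97363 := d6_2 (iv5 F250817) D188477 F370244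
theorem F373620 : act 7 n188477 = n164092 := d8_2 F257970 D188477 (iv3 D164092)
theorem F373621 : act 6 n97204 = n188477 := d14_5 F373620 F340638 F138110 F358002 (iv7 F358009)
def n188478 : Q := act 6 n92175
theorem D188478 : act 6 n92175 = n188478 := rfl
theorem F373622 : act 2 n188478 = n139835 := d3_1 D188478 F353240 (iv2 F257975)
theorem F373623 : act 3 n188478 = n97204 := d7_1 D188478 F373621 (iv3 D188477)
theorem F373624 : act 4 n188478 = n112717 := d10_1 D188478 F340645 F193227
theorem F373625 : act 0 n188478 = n111897 := d21_4 D158902 (iv1 F250193) (iv5 F250817) D188478 F325303 (iv5 F338788) (iv1 F349872) (iv5 D176883) (iv6 D84321) (iv1 F113712)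
theorem F373626 : act 5 n139816 = n188478 := d21_8 D92177 (iv1 F254240) (iv5 D158896) D158897 (iv1 F349847) (iv6 F353239) (iv5 F224601) (iv1 F224599) (iv6 D188478) (iv1 D92175)
theorem F373627 : act 5 n176902 = n141598 := d12_5 F358017 F373626 (iv6 D188478) F250817 D176902
def n188479 : Q := act 6 n92176
theorem D188479 : act 6 n92176 = n188479 := rfl
theorem F373628 : act 2 n188479 = n92178 := d3_1 D188479 (iv6 D92178) D92176
theorem F373629 : act 4 n188479 = n92199 := d10_1 D188479 (iv6 D92199) (iv4 F141767)
theorem F373630 : act 0 n188479 = n165880 := d21_4 D84320 D176878 F276252 D188479 F369680 F158405 F343018 (iv5 D84242) F59862 D38880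
theorem F373631 : act 7 n188479 = n165877 := d15_2 D165880 (iv0 F373630) F261248
theorem F373632 : act 0 n163338 = n188479 := d20_7 D135382 (iv1 F344360) F262464 (iv3 D80040) D80038 D166743 F262473 F373629 F141805 (iv1 F339517)
def n188480 : Q := act 4 n92177
theorem D188480 : act 4 n92177 = n188480 := rfl
theorem F373633 : act 3 n188480 = n188472 := d5_1 D188480 F373604 F141956 F67599 (iv3 F141772)
theorem F373634 : act 7 n188480 = n164096 := d11_2 (iv7 F141773) D188480 (iv4 D164096)
theorem F373635 : act 6 n188471 = n188480 := d7_0 F373633 (iv6 D188472) (iv3 F373601)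
def n188481 : Q := act 6 n92177
theorem D188481 : act 6 n92177 = n188481 := rfl
theorem F373636 : act 3 n188481 = n92179 := d7_1 D188481 (iv6 D92179) (iv3 F141772)
theorem F373637 : act 4 n188481 = n188471 := d10_1 D188481 F373635 (iv4 D188480)
theorem F373638 : act 0 n187410 = n188481 := d18_2 F370231 D187410 F373637 (iv5 D188471) F141527 (iv0 F67941) F67939 D90032 D187408
def n188482 : Q := act 0 n92178
theorem D188482 : act 0 n92178 = n188482 := rfl
theorem F373639 : act 4 n188482 = n138182 := d18_3 (iv1 D92201) (iv4 F141775) D188482 (iv5 D138182) (iv4 D64909) F99637 F325106 F340129 (iv5 F340143)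
theorem F373640 : act 3 n188482 = n103683 := d20_5 F79827 (iv1 F326965) (iv4 F67478) (iv3 F141774) D188482 F340619 (iv1 D55905) (iv4 F88440) (iv3 D55898) F327202
theorem F373641 : act 6 n188482 = n103682 := d21_5 D158900 F250821 (iv5 D92177) D92178 D188482 F159120 (iv1 F360564) F335313 F129302 (iv1 F113713)
theorem F373642 : act 1 n165877 = n188482 := d15_0 (iv0 D188482) F296203 (iv2 F261248)
theorem F373643 : act 2 n165880 = n188482 := d3_3 F373641 F159119 (iv6 F369680)
theorem F373644 : act 5 n187226 = n188482 := d12_5 F373641 F159120 (iv6 D89825) D89824 D187226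
theorem F373645 : act 7 n163338 = n188482 := d15_2 (iv0 F373630) (iv0 F373632) (iv2 F373643)
def n188483 : Q := act 1 n92178
theorem D188483 : act 1 n92178 = n188483 := rfl
theorem F373646 : act 1 n188483 = n165877 := d15_1 D188483 (iv7 F373631) F373628
theorem F373647 : act 7 n188483 = n165880 := d15_2 (iv0 D188482) D188483 F373643
theorem F373648 : act 4 n138162 = n188483 := d20_6 (iv4 D17457) F21390 D26922 D55788 D120957 F334277 (iv1 D188483) F141775 F67490 (iv1 F296841)
theorem F373649 : act 2 n188483 = n163338 := d1_1 F373648 (iv4 F262473) F359629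
def n188484 : Q := act 5 n92178
theorem D188484 : act 5 n92178 = n188484 := rfl
theorem F373650 : act 3 n188484 = n92182 := d6_1 D188484 (iv5 D92182) (iv3 F141774)
theorem F373651 : act 7 n188484 = n165881 := d13_2 (iv7 F296203) D188484 (iv5 D165881)
def n188485 : Q := act 0 n92179
theorem D188485 : act 0 n92179 = n188485 := rfl
def n188486 : Q := act 1 n92179
theorem D188486 : act 1 n92179 = n188486 := rfl
theorem F373652 : act 4 n188164 = n188486 := d20_0 (iv1 D188486) (iv4 F141961) F363538 (iv1 D95983) D95984 F333584 (iv1 F218428) (iv4 F344967) F187364 (iv1 F372513)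
theorem F373653 : act 3 n113014 = n188164 := d20_5 (iv4 D44792) D44790 D95978 F348072 D113014 F373652 (iv1 D188486) (iv4 F141961) F363538 (iv1 D95983)
theorem F373654 : act 7 n188164 = n186248 := d8_2 (iv7 F176053) F373653 F364666
theorem F373655 : act 2 n186248 = n188163 := d15_3 (iv0 D188163) D188164 F373654
theorem F373656 : act 2 n188164 = n186249 := d15_3 F367236 F344971 (iv7 F373654)
theorem F373657 : act 7 n186249 = n188163 := d4_2 (iv7 F373654) F373656 (iv2 F373655)
def n188487 : Q := act 5 n92179
theorem D188487 : act 5 n92179 = n188487 := rfl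
theorem F373658 : act 6 n188487 = n92182 := d12_2 D92179 D188487 (iv5 D92182) (iv6 D43102) D43101
def n188488 : Q := act 7 n92179
theorem D188488 : act 7 n92179 = n188488 := rfl
theorem F373659 : act 6 n188488 = n164105 := d14_1 D188488 (iv7 D164105) (iv6 D78837) (iv7 F67477) D92179
def n188489 : Q := act 6 n92190
theorem D188489 : act 6 n92190 = n188489 := rfl
theorem F373660 : act 2 n188489 = n147439 := d3_1 D188489 F344729 F254424
theorem F373661 : act 3 n188489 = n92193 := d7_1 D188489 (iv6 D92193) D92190
theorem F373662 : act 4 n188489 = n163459 := d10_1 D188489 (iv6 D163459) (iv4 F141802)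
theorem F373663 : act 5 n188489 = n147317 := d12_1 D188489 (iv6 D147317) (iv5 F202647) F336509 (iv5 F250804)
theorem F373664 : act 0 n166489 = n188489 := d21_4 (iv5 D157619) F112566 (iv5 F300887) (iv6 F358925) (iv6 D188489) F250804 (iv1 F254421) D78674 D163755 F344879
theorem E103316 : n166319 = n163459 := ((c20_1 F373662 (iv1 D166319) F122615 (iv3 D36385) F30470 (iv3 F60226) (iv4 F130010) (iv1 F358916) F272933 (iv3 F358924) F373664)).symm
theorem F373665 : act 0 n163459 = n79865 := (sb E103316 (iv1 D166319))
theorem F373666 : act 1 n163459 = n178284 := (sb E103316 F277835)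
theorem F373667 : act 7 n166318 = n178287 := d15_2 F373666 F277836 F362483
theorem F373668 : act 2 n178288 = n166318 := d4_3 F373667 F362483 (iv7 F362485)
theorem F373669 : act 7 n166399 = n188489 := d11_0 F373662 (iv7 F362485) (iv4 F277850)
def n188490 : Q := act 3 n92191
theorem D188490 : act 3 n92191 = n188490 := rfl
theorem F373670 : act 4 n188490 = n163457 := d5_2 D92191 D188490 (iv3 D163457) (iv4 F141802) (iv3 D92190)
theorem F373671 : act 7 n188490 = n164130 := d8_2 (iv7 F254439) D188490 (iv3 D164130)
theorem F373672 : act 0 n188490 = n176724 := d19_4 D35168 F250805 D92191 D188490 F283197 (iv4 D181900) F133286 (iv1 F293596) (iv5 D40699) F30854 F14108 F293893 (iv5 D4018) (iv4 F5866) (iv3 D3933) (iv1 F2872) D3615 D7987 D17074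
def n188491 : Q := act 5 n92191
theorem D188491 : act 5 n92191 = n188491 := rfl
theorem F373673 : act 2 n188491 = n164140 := d2_1 D188491 (iv5 D164140) (iv2 F254447)
theorem F373674 : act 7 n188491 = n164131 := d13_2 (iv7 F254439) D188491 (iv5 D164131)
theorem F373675 : act 0 n188491 = n180630 := d17_2 F258622 D188491 (iv5 D180630) F132250 (iv5 F248720) (iv0 F257952) (iv5 F254081) (iv0 F327243) F327246
theorem F373676 : act 1 n188491 = n180632 := d17_6 (iv1 D18883) (iv5 F28014) D35168 F250805 D92191 D188491 (iv5 D180632) F132251 (iv4 D39932)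
theorem F373677 : act 4 n188491 = n176903 := d18_5 (iv1 D92175) F67475 D43106 D92191 D188491 (iv0 D176903) (iv4 D84329) D84328 (iv5 F250817)
def n188492 : Q := act 6 n92191
theorem D188492 : act 6 n92191 = n188492 := rfl
theorem F373678 : act 2 n188492 = n164141 := d3_1 D188492 (iv6 D164141) (iv2 F254447)
theorem F373679 : act 4 n188492 = n92193 := d10_1 D188492 (iv6 D92193) D92191
theorem F373680 : act 7 n188492 = n166400 := d14_2 (iv7 F254439) D188492 (iv6 F360149) (iv7 F228564) F351017
def n188493 : Q := act 0 n92195
theorem D188493 : act 0 n92195 = n188493 := rfl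
theorem F373681 : act 5 n188493 = n163801 := d17_3 F254319 (iv5 F250816) D188493 (iv4 F258230) D180405 F280776 (iv5 D86348) D86346 (iv4 F248737)
theorem F373682 : act 4 n188493 = n104965 := d18_1 D188493 (iv1 F160839) F132098 (iv5 F60713) (iv4 F132153) F132339 F330708 (iv0 F330705) (iv5 F250816)
theorem F373683 : act 3 n188493 = n121781 := d20_5 D180446 F280849 (iv4 D92196) D92195 D188493 (iv4 F258254) (iv1 D163325) (iv4 D78493) D78492 (iv1 F258469)
theorem F373684 : act 5 n113186 = n112739 := d21_8 F373681 (iv1 F258233) (iv5 F254313) (iv6 F330676) (iv1 D113141) F82572 D52243 D113186 F360147 D188493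
theorem F373685 : act 2 n110435 = n188493 := d15_3 (iv0 D188493) F280682 (iv7 F325694)
theorem F373686 : act 1 n121758 = n188493 := d15_0 (iv0 D188493) (iv7 F254445) F254075
theorem F373687 : act 7 n188493 = n121759 := d15_2 D121758 F373686 (iv2 D121759)
def n188494 : Q := act 2 n92195
theorem D188494 : act 2 n92195 = n188494 := rfl
theorem F373688 : act 3 n188494 = n163454 := d0_2 D92195 D188494 F257738 (iv3 D78849) F254334
theorem F373689 : act 5 n188494 = n121188 := d2_2 (iv5 F250816) D188494 F254351
theorem F373690 : act 7 n188494 = n121758 := d4_2 F254445 D188494 (iv2 F254075)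
theorem F373691 : act 1 n188494 = n121759 := d15_0 F258235 F254445 D188494
theorem F373692 : act 1 n110435 = n188494 := d15_0 F373691 (iv7 F373687) (iv2 F373685)
theorem F373693 : act 6 n110395 = n188494 := d21_5 (iv5 D18166) D18164 D37906 D82580 (iv1 F328789) F373689 (iv1 D121188) (iv5 F254373) F330685 (iv1 D37914)
theorem F373694 : act 2 n112739 = n110395 := d3_3 F373693 (iv2 D188494) (iv6 F360147)
theorem F373695 : act 7 n110394 = n112739 := d15_2 F328789 (iv0 F328790) F373694
theorem F373696 : act 7 n112740 = n110395 := d15_2 (iv0 D112739) D112740 (iv2 F373694)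
theorem F373697 : act 2 n110394 = n112740 := d4_3 F373696 (iv2 F373694) (iv7 F373695)
def n188495 : Q := act 5 n92196
theorem D188495 : act 5 n92196 = n188495 := rfl
theorem F373698 : act 2 n188495 = n164131 := d2_1 D188495 (iv5 D164131) (iv2 F254440)
theorem F373699 : act 7 n188495 = n164140 := d13_2 F254446 D188495 (iv5 D164140)
theorem F373700 : act 0 n188495 = n180632 := d17_2 F280849 D188495 (iv5 D180632) (iv4 F326800) F326801 F262230 (iv5 F258618) F258619 D180446
theorem F373701 : act 1 n188495 = n180630 := d17_6 (iv1 F55015) F55013 (iv1 F55915) F250815 D92196 D188495 (iv5 D180630) (iv0 D86284) (iv4 D39927)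
theorem F373702 : act 4 n176904 = n188495 := d18_7 (iv1 F132255) (iv4 D39932) (iv1 D18883) (iv4 F29656) D38883 D84329 D176904 F373701 (iv5 D180630)
def n188496 : Q := act 1 n92198
theorem D188496 : act 1 n92198 = n188496 := rfl
theorem F373703 : act 1 n188496 = n163863 := d15_1 D188496 F340166 (iv2 F254441)
theorem F373704 : act 7 n188496 = n163865 := d15_2 (iv0 F338779) D188496 (iv2 D163865)
theorem F373705 : act 3 n108856 = n188496 := d20_9 (iv4 F360145) (iv1 D109540) (iv4 F80297) (iv3 D50895) F38752 D50251 F79627 D50266 D108856 (iv1 D188496)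
theorem F373706 : act 6 n165635 = n188496 := d21_3 (iv5 F323207) F301539 (iv5 F322457) (iv1 D188496) (iv6 D92198) (iv5 F250815) (iv1 D35169) F28014 (iv6 F30101) D39858
theorem F373707 : act 2 n188496 = n110414 := d3_1 F373706 F323140 D165635
theorem F373708 : act 5 n188496 = n137313 := d12_1 F373706 (iv6 F346331) (iv5 F303502) (iv6 D172155) (iv5 F322457)
def n188497 : Q := act 5 n92198
theorem D188497 : act 5 n92198 = n188497 := rfl
theorem F373709 : act 2 n188497 = n164135 := d2_1 D188497 (iv5 D164135) (iv2 F254441)
theorem F373710 : act 3 n188497 = n113186 := d6_1 D188497 F373684 (iv3 F360146)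
theorem F373711 : act 6 n188497 = n160588 := d12_2 D92198 D188497 (iv5 D160588) (iv6 D76989) F250815
theorem F373712 : act 1 n188497 = n143034 := d17_8 (iv1 F173692) (iv5 D67679) D67676 (iv5 F205122) (iv4 F346332) F318522 (iv0 F338779) D188497 (iv4 D143034)
theorem F373713 : act 0 n188497 = n163223 := d21_1 D188497 (iv5 F324003) (iv6 F323212) F345373 (iv6 D86110) (iv5 F323207) F301539 (iv5 F322457) F373706 (iv1 D188496)
def n188498 : Q := act 7 n92198
theorem D188498 : act 7 n92198 = n188498 := rfl
theorem F373714 : act 2 n188498 = n163863 := d4_1 D188498 F340166 (iv2 F254441)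
theorem F373715 : act 3 n188498 = n110394 := d8_1 D188498 F373695 (iv3 F360146)
theorem F373716 : act 4 n188498 = n111827 := d11_1 D188498 (iv7 F228566) F360145
theorem F373717 : act 6 n188498 = n121720 := d14_1 D188498 F340159 (iv6 D78857) (iv7 F254330) D92198
theorem F373718 : act 1 n110414 = n188498 := d15_1 (iv0 F351015) (iv7 D188498) F254441
theorem F373719 : act 1 n188498 = n163865 := d15_1 F373718 (iv7 F373704) F373707
def n188499 : Q := act 3 n92200
theorem D188499 : act 3 n92200 = n188499 := rfl
theorem F373720 : act 2 n188499 = n165948 := d0_1 D188499 F334347 (iv2 F321672) F216576 (iv2 F340138)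
theorem F373721 : act 5 n188499 = n132096 := d6_2 (iv5 F340139) D188499 F211636
theorem F373722 : act 7 n188499 = n165868 := d8_2 (iv7 F340141) D188499 (iv3 D165868)
theorem F373723 : act 4 n188499 = n165784 := d20_6 F92679 (iv1 D20340) (iv4 F32274) (iv3 F67490) D92200 D188499 (iv1 D165784) F122335 (iv3 D36264) (iv1 F296935)
theorem F373724 : act 2 n165784 = n180343 := d1_1 F373723 (iv4 F280652) (iv2 F373720)
theorem F373725 : act 7 n165784 = n180344 := d11_2 (iv7 F373722) F373723 (iv4 F280653)
theorem F373726 : act 2 n180344 = n165783 := d15_3 (iv0 D165783) D165784 F373725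
theorem F373727 : act 7 n180343 = n165783 := d4_2 (iv7 F373725) F373724 (iv2 F373726)
theorem E103317 : n165949 = n165868 := (c15_2 (iv0 D165948) D165949 (iv7 F373722) F373720)
theorem F373728 : act 0 n165868 = n79685 := (sb E103317 (iv1 D165949))
def n188500 : Q := act 4 n92200
theorem D188500 : act 4 n92200 = n188500 := rfl
theorem F373729 : act 2 n188500 = n134624 := d1_1 D188500 (iv4 D134624) (iv2 F340138)
theorem F373730 : act 7 n188500 = n165869 := d11_2 (iv7 F340141) D188500 (iv4 D165869)
def n188501 : Q := act 4 n92201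
theorem D188501 : act 4 n92201 = n188501 := rfl
theorem F373731 : act 2 n188501 = n165869 := d1_1 D188501 (iv4 D165869) (iv2 F340142)
theorem F373732 : act 7 n188501 = n134624 := d11_2 (iv7 F340144) D188501 (iv4 D134624)
def n188502 : Q := act 6 n92201
theorem D188502 : act 6 n92201 = n188502 := rfl
theorem F373733 : act 2 n188502 = n148209 := d3_1 D188502 F357450 (iv2 F340142)
theorem F373734 : act 3 n188502 = n110618 := d7_1 D188502 (iv6 F362992) F340145
theorem F373735 : act 7 n188502 = n148210 := d14_2 (iv7 F340144) D188502 (iv6 F340172) (iv7 F321670) F216582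
theorem F373736 : act 0 n188502 = n110635 := d21_4 (iv5 D64900) F340130 (iv5 F340143) D188502 F321853 (iv5 F315533) F351950 (iv5 F330171) (iv6 F359072) (iv1 D138143)
theorem F373737 : act 0 n116681 = n188502 := d21_4 D178182 F352062 F321799 (iv6 F321850) (iv6 D188502) F340143 (iv1 F340129) F321964 (iv6 F303308) D84812
theorem F373738 : act 4 n188502 = n111996 := d18_1 F373737 (iv1 D111996) (iv4 F81989) (iv5 F81995) D69201 F223257 F330663 (iv0 F330661) D116681
theorem F373739 : act 2 n111996 = n109315 := d1_1 F373738 (iv4 F232047) (iv2 F373733)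
theorem F373740 : act 6 n111996 = n188501 := d10_2 D188502 F373738 (iv4 D188501)
theorem F373741 : act 7 n111996 = n109316 := d11_2 (iv7 F373735) F373738 F232052
theorem F373742 : act 2 n109316 = n111995 := d15_3 (iv0 D111995) D111996 F373741
theorem F373743 : act 7 n109315 = n111995 := d4_2 (iv7 F373741) F373739 (iv2 F373742)
def n188503 : Q := act 6 n92311
theorem D188503 : act 6 n92311 = n188503 := rfl
theorem F373744 : act 2 n188503 = n109998 := d3_1 D188503 (iv6 D109998) (iv2 F323958)
theorem F373745 : act 3 n188503 = n163491 := d7_1 D188503 (iv6 F296058) (iv3 F255023)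
theorem F373746 : act 4 n188503 = n109713 := d10_1 D188503 (iv6 D109713) F325234
theorem F373747 : act 5 n188503 = n162655 := d12_1 D188503 F256894 (iv5 F323968) (iv6 F325235) (iv5 F323959)
theorem F373748 : act 7 n188503 = n162655 := d14_2 F323969 D188503 F256894 F323058 F325235
theorem F373749 : act 0 n188503 = n121155 := d21_4 F324441 D51894 (iv5 F323959) D188503 F193225 (iv5 F298274) F298273 F297258 (iv6 F296606) F121379
theorem F373750 : act 0 n110304 = n188503 := d21_4 F28771 D36735 F121403 (iv6 F358812) (iv6 D188503) F323959 (iv1 F323054) F122795 (iv6 F120809) (iv1 F121316)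
def n188504 : Q := act 0 n92318
theorem D188504 : act 0 n92318 = n188504 := rfl
theorem F373751 : act 3 n188504 = n133664 := d20_5 (iv4 D95557) F295304 F295130 (iv3 F363538) D188504 (iv4 F370267) (iv1 D187418) (iv4 F348090) (iv3 D104861) (iv1 F147229)
def n188505 : Q := act 1 n92318
theorem D188505 : act 1 n92318 = n188505 := rfl
theorem F373752 : act 1 n188505 = n92350 := d15_1 D188505 (iv7 D92350) (iv2 F141960)
def n188506 : Q := act 7 n92318
theorem D188506 : act 7 n92318 = n188506 := rfl
theorem F373753 : act 2 n188506 = n92350 := d4_1 D188506 (iv7 D92350) (iv2 F141960)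
theorem F373754 : act 3 n188506 = n96075 := d8_1 D188506 F147683 (iv3 F363538)
theorem F373755 : act 4 n188506 = n188488 := d11_1 D188506 (iv7 D188488) (iv4 F141961)
theorem F373756 : act 6 n188506 = n93872 := d14_1 D188506 (iv7 D93872) F68993 F292612 D92318
theorem F373757 : act 1 n92350 = n188504 := d15_0 (iv0 D188504) D188506 F373753
theorem F373758 : act 1 n92348 = n188506 := d15_1 D92348 (iv7 D188506) F141960
theorem F373759 : act 1 n188506 = n92347 := d15_0 (iv0 D92347) D92350 (iv2 F373753)
def n188507 : Q := act 6 n92324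
theorem D188507 : act 6 n92324 = n188507 := rfl
theorem F373760 : act 2 n188507 = n92325 := d3_1 D188507 (iv6 D92325) D92324
theorem F373761 : act 3 n188507 = n94318 := d7_1 D188507 (iv6 D94318) (iv3 F294242)
theorem F373762 : act 4 n188507 = n186586 := d10_1 D188507 F367328 F294940
theorem F373763 : act 5 n188507 = n185778 := d21_6 F135603 (iv1 F238552) (iv5 D93893) F157567 F294681 D188507 (iv1 F288109) (iv5 D92782) D92783 (iv1 F288420)
theorem F373764 : act 0 n94234 = n188507 := d21_4 D102744 F314437 (iv5 F321217) D94234 (iv6 D188507) (iv5 F369341) (iv1 F369344) F293771 (iv6 F293772) (iv1 D102742)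
theorem F373765 : act 6 n185778 = n135614 := d21_3 F177036 F373764 F373763 (iv1 D135614) (iv6 D63767) D63766 D135609 F218087 F317738 F177037
theorem F373766 : act 2 n135614 = n185780 := d3_1 F373765 (iv6 D185780) D185778
def n188508 : Q := act 0 n92325
theorem D188508 : act 0 n92325 = n188508 := rfl
theorem F373767 : act 3 n188508 = n159805 := d20_5 (iv4 D41823) D41821 (iv4 F291352) (iv3 F141979) D188508 (iv4 F370028) (iv1 D187370) (iv4 F283790) (iv3 D182290) F133602
theorem F373768 : act 5 n188508 = n92784 := d21_0 (iv1 F288086) (iv5 D185770) (iv6 F139322) (iv1 F139324) (iv6 F292541) D187168 F369316 F137617 D92325 D188508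
theorem F373769 : act 7 n94234 = n188508 := d13_0 F373768 (iv7 F204767) F177036
def n188509 : Q := act 1 n92325
theorem D188509 : act 1 n92325 = n188509 := rfl
theorem F373770 : act 5 n188509 = n92785 := d18_9 (iv1 D92785) D92786 F371164 (iv4 D187674) F367259 F154799 (iv0 F365473) F293164 D188509
theorem F373771 : act 2 n94234 = n188509 := d2_3 F373770 (iv2 F288087) F177036
theorem F373772 : act 6 n94228 = n188509 := d21_5 F32598 F27779 (iv5 F33089) D44049 D94228 F373770 (iv1 D92785) (iv5 D43407) (iv6 D20520) D20516
def n188510 : Q := act 0 n92345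
theorem D188510 : act 0 n92345 = n188510 := rfl
theorem F373773 : act 1 n94365 = n188510 := d15_0 (iv0 D188510) (iv7 F293460) D94365
def n188511 : Q := act 1 n92345
theorem D188511 : act 1 n92345 = n188511 := rfl
def n188512 : Q := act 2 n92345
theorem D188512 : act 2 n92345 = n188512 := rfl
theorem F373774 : act 3 n188512 = n176878 := d0_2 D92345 D188512 (iv2 F276253) F141772 (iv2 F67636)
theorem F373775 : act 5 n188512 = n158033 := d2_2 (iv5 F142018) D188512 (iv2 D158033)
theorem F373776 : act 7 n188512 = n94365 := d4_2 F293460 D188512 (iv2 D94365)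
theorem F373777 : act 1 n188512 = n94363 := d15_0 (iv0 D94363) F293460 D188512
theorem F373778 : act 1 n188511 = n94365 := d15_1 D188511 (iv7 F373776) (iv2 D188512)
theorem F373779 : act 1 n94364 = n188512 := d15_1 D94364 F373776 (iv2 D94365)
def n188513 : Q := act 6 n92345
theorem D188513 : act 6 n92345 = n188513 := rfl
theorem F373780 : act 3 n188513 = n92346 := d7_1 D188513 (iv6 D92346) D92345
def n188514 : Q := act 0 n92346
theorem D188514 : act 0 n92346 = n188514 := rfl
theorem F373781 : act 6 n188514 = n117000 := d21_5 F63900 (iv1 F56550) (iv5 F67637) D92346 D188514 (iv5 D117000) D116997 F357478 (iv6 D75820) (iv1 F63902)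
theorem F373782 : act 3 n117002 = n188514 := d7_3 F373781 F182919 D117002
theorem F373783 : act 4 n188514 = n186248 := d5_2 (iv4 F182924) F373782 F364666 F364663 F331462
theorem F373784 : act 7 n188486 = n188514 := d11_0 F373783 (iv7 F373654) F373652
theorem F373785 : act 0 n188514 = n188488 := d20_1 (iv4 F373783) (iv4 F373755) F373754 F147685 F364662 F364661 F209279 D135809 F344968 D186248
theorem F373786 : act 2 n188514 = n188485 := d15_3 (iv0 D188485) D188486 F373784
theorem F373787 : act 4 n188485 = n188163 := d1_2 (iv4 F373783) F373786 (iv2 F373655)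
def n188515 : Q := act 1 n92346
theorem D188515 : act 1 n92346 = n188515 := rfl
theorem F373788 : act 1 n188515 = n188488 := d15_1 D188515 (iv7 D188488) (iv2 F142020)
theorem F373789 : act 7 n188515 = n188485 := d15_2 (iv0 D188514) D188515 (iv2 F373786)
theorem F373790 : act 2 n188486 = n188515 := d4_3 F373789 (iv2 F373786) (iv7 F373784)
theorem F373791 : act 4 n186249 = n188515 := d11_3 F373789 F373787 (iv7 F373657)
def n188516 : Q := act 5 n92346
theorem D188516 : act 5 n92346 = n188516 := rfl
theorem F373792 : act 2 n188516 = n188487 := d2_1 D188516 (iv5 D188487) (iv2 F142020)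
theorem F373793 : act 6 n188516 = n157883 := d12_2 D92346 D188516 (iv5 D157883) (iv6 F296122) (iv5 F67637)
def n188517 : Q := act 7 n92346
theorem D188517 : act 7 n92346 = n188517 := rfl
theorem F373794 : act 2 n188517 = n188488 := d4_1 D188517 (iv7 D188488) (iv2 F142020)
theorem F373795 : act 4 n188517 = n92350 := d11_1 D188517 (iv7 D92350) (iv4 F142021)
theorem F373796 : act 6 n188517 = n94277 := d14_1 D188517 (iv7 D94277) F69418 F292429 D92346
theorem F373797 : act 1 n188486 = n188517 := d15_1 D188486 (iv7 D188517) F142020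
theorem F373798 : act 1 n188517 = n188485 := d15_1 F373797 (iv7 F373789) (iv2 F373790)
def n188518 : Q := act 2 n92347
theorem D188518 : act 2 n92347 = n188518 := rfl
theorem F373799 : act 7 n92348 = n188518 := d15_2 (iv0 D92347) D92348 (iv2 D188518)
def n188519 : Q := act 3 n92347
theorem D188519 : act 3 n92347 = n188519 := rfl
def n188520 : Q := act 4 n92347
theorem D188520 : act 4 n92347 = n188520 := rfl
def n188521 : Q := act 5 n92347
theorem D188521 : act 5 n92347 = n188521 := rfl
def n188522 : Q := act 6 n92347
theorem D188522 : act 6 n92347 = n188522 := rfl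
def n188523 : Q := act 7 n92347
theorem D188523 : act 7 n92347 = n188523 := rfl
theorem F373800 : act 2 n188523 = n92348 := d4_1 D188523 F373799 (iv2 D188518)
def n188524 : Q := act 3 n92348
theorem D188524 : act 3 n92348 = n188524 := rfl
theorem F373801 : act 4 n188524 = n185724 := d20_6 (iv4 D44831) D44829 D96075 (iv3 F373754) (iv1 F373758) D188524 (iv1 D185724) (iv4 F287995) (iv3 D185701) (iv1 F294019)
theorem F373802 : act 7 n133664 = n188524 := d11_0 F373801 (iv7 F373476) F370267
theorem F373803 : act 1 n133665 = n188524 := d17_8 (iv1 D185724) F135433 F358155 D113463 F358220 F171481 F170573 (iv5 F215071) F373801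
theorem F373804 : act 0 n106469 = n188524 := d20_10 F373801 (iv1 D185724) (iv4 F287995) (iv3 D185701) (iv1 F294019) D96080 (iv4 F369306) F369304 F360285 (iv3 F163717)
theorem E103318 : n188518 = n188504 := (c8_3 F373802 (iv3 D188524) F373799 F373751)
theorem F373805 : act 2 n188504 = n92347 := (sb E103318 (iv2 D188518))
theorem F373806 : act 7 n188504 = n92348 := (sb E103318 (iv7 F373799))
theorem F373807 : act 2 n188524 = n133663 := d15_3 (iv0 D133663) D133664 F373802
theorem F373808 : act 4 n133663 = n187417 := d1_2 (iv4 F373801) F373807 F373474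
theorem E103319 : n188523 = n188505 := (c15_4 F373752 F373757 F373806 (iv2 F373800))
theorem F373809 : act 2 n188505 = n92348 := (sb E103319 F373800)
theorem F373810 : act 7 n188505 = n92347 := (sb E103319 (iv7 D188523))
def n188525 : Q := act 4 n92348
theorem D188525 : act 4 n92348 = n188525 := rfl
theorem F373811 : act 0 n188525 = n158067 := d20_1 D188525 F249013 F292425 (iv1 F364665) (iv3 D96080) (iv4 D44831) D44829 D96075 (iv3 F373754) (iv1 F373758)
def n188526 : Q := act 5 n92348
theorem D188526 : act 5 n92348 = n188526 := rfl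
def n188527 : Q := act 6 n92348
theorem D188527 : act 6 n92348 = n188527 := rfl
theorem F373812 : act 5 n188527 = n130814 := d21_6 (iv5 D44068) (iv1 F68998) (iv5 F144703) (iv6 F373756) (iv1 F373758) D188527 F371501 F371500 (iv6 F369367) (iv1 D94264)
def n188528 : Q := act 3 n92418
theorem D188528 : act 3 n92418 = n188528 := rfl
def n188529 : Q := act 5 n92422
theorem D188529 : act 5 n92422 = n188529 := rfl
theorem F373813 : act 2 n188529 = n112915 := d2_1 D188529 F175847 (iv2 F142151)
theorem F373814 : act 3 n188529 = n92425 := d6_1 D188529 (iv5 D92425) (iv3 F142152)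
theorem F373815 : act 6 n188529 = n106292 := d12_2 D92422 D188529 (iv5 D106292) (iv6 F94271) F94270
theorem F373816 : act 4 n188529 = n185705 := d18_5 (iv1 F69255) D94137 (iv1 F178359) (iv4 F142153) D188529 (iv0 F363598) F364062 F145093 F144571
theorem F373817 : act 7 n185702 = n188529 := d11_0 F373816 (iv7 D185705) (iv4 F287996)
def n188530 : Q := act 7 n92422
theorem D188530 : act 7 n92422 = n188530 := rfl
theorem F373818 : act 2 n188530 = n187160 := d4_1 D188530 F369260 (iv2 F142151)
theorem F373819 : act 3 n188530 = n92426 := d8_1 D188530 (iv7 D92426) (iv3 F142152)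
theorem F373820 : act 4 n188530 = n187160 := d11_1 D188530 F369260 (iv4 F142153)
theorem F373821 : act 5 n188530 = n185702 := d13_1 D188530 F373817 (iv5 D188529)
theorem F373822 : act 6 n188530 = n187160 := d14_1 D188530 F369260 (iv6 D90113) (iv7 F67727) D92422
theorem F373823 : act 1 n94137 = n188530 := d15_1 F178359 (iv7 D188530) F142151
theorem F373824 : act 1 n188530 = n94132 := d15_1 F373823 F344274 F344283
def n188531 : Q := act 5 n92424
theorem D188531 : act 5 n92424 = n188531 := rfl
theorem F373825 : act 2 n188531 = n93825 := d2_1 D188531 (iv5 D93825) (iv2 F178329)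
theorem F373826 : act 3 n188531 = n94041 := d6_1 D188531 (iv5 D94041) (iv3 F178330)
theorem F373827 : act 7 n188531 = n94009 := d13_2 (iv7 F178332) D188531 (iv5 D94009)
theorem F373828 : act 0 n188531 = n94012 := d17_2 (iv1 F178328) D188531 (iv5 F251425) F293509 (iv5 F289094) F350533 (iv5 D90004) D90002 F294583
theorem F373829 : act 1 n188531 = n94011 := d17_6 (iv1 F350522) (iv5 F350525) (iv1 F226702) F306979 (iv4 F178331) D188531 F292558 (iv0 F292481) (iv4 F76242)
theorem F373830 : act 6 n188531 = n106545 := d21_3 (iv5 D94002) (iv1 F178328) D188531 (iv1 F164573) (iv6 D106763) F78003 (iv1 F83150) D114048 (iv6 F177535) F331421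
def n188532 : Q := act 6 n92424
theorem D188532 : act 6 n92424 = n188532 := rfl
theorem F373831 : act 2 n188532 = n93826 := d3_1 D188532 (iv6 D93826) (iv2 F178329)
theorem F373832 : act 3 n188532 = n94042 := d7_1 D188532 (iv6 D94042) (iv3 F178330)
theorem F373833 : act 4 n188532 = n95999 := d10_1 D188532 (iv6 D95999) (iv4 F178331)
theorem F373834 : act 5 n188532 = n187637 := d12_1 D188532 (iv6 F371076) F365945 (iv6 F373830) (iv5 D188531)
theorem F373835 : act 7 n188532 = n187147 := d14_2 (iv7 F178332) D188532 F369239 (iv7 D144270) (iv6 F305031)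
theorem F373836 : act 0 n188532 = n187146 := d21_4 (iv5 F292558) (iv1 F373829) (iv5 D188531) D188532 F369984 (iv5 F369985) (iv1 D90750) (iv5 D42495) D42496 F292481
theorem F373837 : act 0 n92433 = n188532 := d21_4 D185824 F288137 (iv5 D92432) D92433 (iv6 D188532) D188531 F373828 (iv5 F251425) (iv6 F259223) (iv1 F288037)
def n188533 : Q := act 3 n92427
theorem D188533 : act 3 n92427 = n188533 := rfl
theorem F373838 : act 2 n188533 = n114091 := d0_1 D188533 (iv3 D114091) (iv2 F178245) (iv3 F114626) (iv2 F178268)
theorem F373839 : act 4 n188533 = n114091 := d5_2 (iv4 F142162) D188533 (iv3 D114091) (iv4 F83215) (iv3 F83216)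
theorem F373840 : act 7 n188533 = n92435 := d8_2 (iv7 F178269) D188533 (iv3 D92435)
theorem F373841 : act 0 n188533 = n187428 := d20_4 (iv4 F34026) D45334 (iv4 F142162) D188533 F370296 D187430 F370300 (iv4 D159751) F138035 (iv1 D43872)
theorem F373842 : act 0 n94126 = n188533 := d20_4 (iv4 F136206) (iv1 F306700) F317606 (iv3 F317599) (iv3 D188533) F142162 F149558 F149555 (iv3 F145286) (iv1 F145290)
theorem F373843 : act 5 n188533 = n148449 := d17_3 F342993 (iv5 F145081) F373842 F366303 F242061 (iv0 F112584) (iv5 F112534) (iv0 F322650) (iv4 F342994)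
def n188534 : Q := act 5 n92427
theorem D188534 : act 5 n92427 = n188534 := rfl
theorem F373844 : act 2 n188534 = n92432 := d2_1 D188534 (iv5 D92432) (iv2 F178268)
theorem F373845 : act 3 n188534 = n148449 := d6_1 D188534 (iv5 F373843) (iv3 D188533)
theorem F373846 : act 7 n188534 = n92437 := d13_2 (iv7 F178269) D188534 (iv5 D92437)
theorem F373847 : act 0 n188534 = n185834 := d17_2 D92427 D188534 (iv5 D185834) F135505 (iv5 F138060) (iv0 F369820) (iv5 D187317) (iv0 F138028) F71646
theorem F373848 : act 1 n188534 = n164461 := d17_6 (iv1 D104297) D104299 F370149 (iv5 D96971) (iv4 F142162) D188534 (iv5 F288171) F288169 (iv4 F367170)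
def n188535 : Q := act 3 n92431
theorem D188535 : act 3 n92431 = n188535 := rfl
theorem F373849 : act 2 n188535 = n159813 := d0_1 D188535 (iv3 D159813) F178251 (iv3 F83216) (iv2 F178270)
theorem F373850 : act 4 n188535 = n159813 := d5_2 D92431 D188535 (iv3 D159813) (iv4 F114625) (iv3 F114626)
theorem F373851 : act 7 n188535 = n96974 := d8_2 (iv7 F178271) D188535 (iv3 D96974)
theorem F373852 : act 0 n188535 = n187303 := d20_10 (iv4 D187303) (iv1 D89888) F64806 (iv3 D42000) F35863 (iv3 F34118) F34119 D43231 D92431 D188535
theorem F373853 : act 0 n95490 = n188535 := d20_4 D95754 (iv1 F289524) F136802 (iv3 F147121) (iv3 D188535) (iv4 D92431) F142173 F142169 F138030 (iv1 F137897)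
def n188536 : Q := act 5 n92431
theorem D188536 : act 5 n92431 = n188536 := rfl
theorem F373854 : act 2 n188536 = n96971 := d2_1 D188536 (iv5 D96971) (iv2 F178270)
theorem F373855 : act 7 n188536 = n96975 := d13_2 (iv7 F178271) D188536 (iv5 D96975)
theorem F373856 : act 0 n188536 = n187910 := d17_2 F147483 D188536 (iv5 D187910) F139576 D90666 (iv0 F251968) (iv5 D159838) (iv0 D76505) (iv4 F71429)
def n188537 : Q := act 0 n92432
theorem D188537 : act 0 n92432 = n188537 := rfl
theorem F373857 : act 5 n188537 = n185833 := d17_3 D43231 D92432 D188537 F288211 (iv5 F369884) F369886 (iv5 D97160) (iv0 D45409) F34119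
theorem F373858 : act 2 n185834 = n188537 := d15_3 (iv0 D188537) (iv0 F288137) (iv7 F288217)
theorem F373859 : act 1 n92437 = n188537 := d15_0 (iv0 D188537) (iv7 F178257) (iv2 F178284)
theorem F373860 : act 7 n188537 = n164461 := d15_2 (iv0 F367228) F373859 F288172
theorem F373861 : act 6 n164384 = n188537 := d21_9 (iv5 D92437) (iv1 D43232) D43233 F67734 (iv1 F40477) D34841 (iv5 F83357) (iv1 F350596) F350597 (iv1 F373859)
theorem F373862 : act 3 n188537 = n187440 := d0_2 (iv3 F288216) F373858 (iv2 F370329) F143464 (iv2 F135508)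
def n188538 : Q := act 4 n92432
theorem D188538 : act 4 n92432 = n188538 := rfl
theorem F373863 : act 3 n188538 = n114154 := d5_1 D188538 (iv4 D114154) (iv3 F177766) F290508 (iv3 F142177)
theorem F373864 : act 7 n188538 = n164412 := d11_2 F178257 D188538 F353131
theorem F373865 : act 0 n188538 = n186921 := d18_2 F288137 D188538 F368512 (iv5 D90666) (iv4 F139576) D187909 (iv4 F371820) (iv0 F161695) D185824
def n188539 : Q := act 6 n92432
theorem D188539 : act 6 n92432 = n188539 := rfl
theorem F373866 : act 3 n188539 = n127785 := d7_1 D188539 F205540 (iv3 F142177)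
theorem F373867 : act 7 n188539 = n127782 := d14_2 F178257 D188539 (iv6 D127782) F178212 D114303
theorem F373868 : act 0 n188539 = n159527 := d21_10 (iv5 F332614) F332611 (iv5 D78989) (iv6 D35950) (iv1 F40478) (iv6 F67734) (iv5 D43233) D43231 D92432 D188539
theorem F373869 : act 0 n164375 = n188539 := d21_4 (iv5 F83309) F178010 (iv5 F120132) D164375 (iv6 D188539) (iv5 D92432) F142173 F142170 (iv6 D78980) (iv1 F83270)
def n188540 : Q := act 5 n92435
theorem D188540 : act 5 n92435 = n188540 := rfl
theorem F373870 : act 2 n188540 = n127774 := d2_1 D188540 (iv5 F205407) (iv2 F142181)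
theorem F373871 : act 3 n188540 = n92437 := d6_1 D188540 (iv5 D92437) D92435
theorem F373872 : act 7 n188540 = n148449 := d13_2 F373840 D188540 (iv5 F373843)
theorem F373873 : act 4 n188540 = n143676 := d16_2 (iv4 F142183) D188540 F346201 F209982 (iv5 F242061) (iv4 F366303) (iv5 F373843) F373840 F142181
theorem F373874 : act 1 n188540 = n117873 := d17_8 (iv1 F318763) F317799 (iv1 D127931) F317610 (iv4 F317598) F163380 (iv0 F364730) D188540 F184844
theorem F373875 : act 0 n188540 = n148451 := d18_0 F232199 (iv1 F184861) F317793 (iv5 D90153) F65054 (iv0 F333358) (iv4 F144545) (iv0 F364730) D188540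
theorem F373876 : act 6 n188540 = n115866 := d21_9 D140803 (iv1 F324162) F324164 (iv6 F324165) D78938 (iv6 F290277) (iv5 F370383) F370386 D188540 (iv1 F180348)
def n188541 : Q := act 6 n92435
theorem D188541 : act 6 n92435 = n188541 := rfl
theorem F373877 : act 2 n188541 = n187429 := d3_1 D188541 (iv6 D187429) (iv2 F142181)
theorem F373878 : act 3 n188541 = n92438 := d7_1 D188541 (iv6 D92438) D92435
theorem F373879 : act 4 n188541 = n187429 := d10_1 D188541 (iv6 D187429) (iv4 F142183)
def n188542 : Q := act 5 n92436
theorem D188542 : act 5 n92436 = n188542 := rfl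
theorem F373880 : act 2 n188542 = n96975 := d2_1 D188542 (iv5 D96975) (iv2 F178247)
theorem F373881 : act 3 n188542 = n159816 := d6_1 D188542 (iv5 D159816) (iv3 F142182)
theorem F373882 : act 7 n188542 = n96971 := d13_2 (iv7 F178248) D188542 (iv5 D96971)
theorem F373883 : act 1 n188542 = n187910 := d17_6 (iv1 F288214) (iv5 F373857) (iv1 F373859) (iv5 D92437) D92436 D188542 (iv5 D187910) D187909 (iv4 F371820)
def n188543 : Q := act 4 n92437
theorem D188543 : act 4 n92437 = n188543 := rfl
theorem F373884 : act 2 n188543 = n164412 := d1_1 D188543 F353131 (iv2 F178284)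
theorem F373885 : act 1 n188543 = n186921 := d18_6 (iv1 F114671) (iv4 F71434) F142184 (iv4 D92436) D92437 D188543 F368512 (iv0 F251968) (iv5 D159838)
def n188544 : Q := act 6 n92439
theorem D188544 : act 6 n92439 = n188544 := rfl
theorem F373886 : act 2 n188544 = n142835 := d3_1 D188544 F331577 (iv2 F161698)
theorem F373887 : act 3 n188544 = n105376 := d7_1 D188544 (iv6 D105376) (iv3 F142186)
theorem F373888 : act 5 n188544 = n106523 := d21_6 (iv5 D17401) (iv1 F20158) (iv5 F40476) (iv6 F67734) D92439 D188544 (iv1 D106523) F77748 (iv6 D49054) F37389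
theorem F373889 : act 0 n188544 = n145915 := d20_4 (iv4 F177892) (iv1 D114157) (iv4 F161605) (iv3 F373887) (iv3 D145915) F104604 F50729 (iv4 F85207) (iv3 F323346) (iv1 F161763)
def n188545 : Q := act 3 n92440
theorem D188545 : act 3 n92440 = n188545 := rfl
theorem F373890 : act 2 n188545 = n105378 := d0_1 D188545 (iv3 D105378) F161661 D52658 F161699
theorem F373891 : act 7 n188545 = n106308 := d8_2 (iv7 F161700) D188545 F331573
theorem F373892 : act 0 n188545 = n106304 := d20_4 (iv4 F251962) (iv1 F251964) F147238 D188545 F163379 (iv4 F238044) (iv1 F354956) (iv4 D159696) (iv3 F251677) (iv1 F193578)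
theorem F373893 : act 4 n188545 = n120688 := d20_6 F315223 D144907 F233197 F317457 (iv1 F142187) D188545 (iv1 D120688) F88000 F83644 D52933
theorem F373894 : act 0 n106310 = n188545 := d20_4 (iv4 F323670) (iv1 D55201) D55202 (iv3 F317600) (iv3 D188545) (iv4 F147238) (iv1 D95571) (iv4 F88601) F88600 (iv1 F153469)
def n188546 : Q := act 6 n92440
theorem D188546 : act 6 n92440 = n188546 := rfl
theorem F373895 : act 2 n188546 = n114085 := d3_1 D188546 (iv6 D114085) F161699
theorem F373896 : act 0 n188546 = n175822 := d21_10 (iv5 F355241) (iv1 F176939) F176781 (iv6 F177528) (iv1 F177530) D164461 (iv5 F288171) (iv1 F288134) F288036 D188546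
def n188547 : Q := act 0 n92441
theorem D188547 : act 0 n92441 = n188547 := rfl
theorem F373897 : act 4 n188547 = n93859 := d18_3 (iv1 D92440) D92441 D188547 (iv5 F193571) (iv4 F251680) (iv0 D103804) (iv4 F135505) (iv0 F288038) F288036
theorem F373898 : act 6 n188547 = n137284 := d21_5 F56638 (iv1 F34096) D44733 (iv6 F142189) D188547 (iv5 D137284) (iv1 F318863) (iv5 D97211) (iv6 D45426) (iv1 F56639)
theorem F373899 : act 2 n95794 = n188547 := d15_3 (iv0 D188547) (iv0 F251659) F251658
theorem F373900 : act 7 n188547 = n95795 := d4_2 F251658 F373899 (iv2 F251682)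
theorem F373901 : act 1 n95797 = n188547 := d15_1 (iv0 F251660) F373900 (iv2 F251682)
theorem F373902 : act 3 n95746 = n188547 := d20_5 (iv4 F320363) (iv1 D73246) (iv4 F312407) (iv3 F70300) D95746 F373897 (iv1 F193570) F193566 F147241 (iv1 F71524)
def n188548 : Q := act 5 n92441
theorem D188548 : act 5 n92441 = n188548 := rfl
theorem F373903 : act 2 n188548 = n95796 := d2_1 D188548 (iv5 D95796) (iv2 F142188)
theorem F373904 : act 6 n188548 = n95789 := d12_2 (iv6 F142189) D188548 (iv5 D95789) (iv6 D44734) D44733
def n188549 : Q := act 7 n92441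
theorem D188549 : act 7 n92441 = n188549 := rfl
theorem F373905 : act 2 n188549 = n95797 := d4_1 D188549 (iv7 D95797) (iv2 F142188)
theorem F373906 : act 4 n188549 = n92442 := d11_1 D188549 (iv7 D92442) D92441
theorem F373907 : act 6 n188549 = n114178 := d14_1 D188549 (iv7 D114178) F83272 (iv7 F70316) (iv6 F142189)
theorem F373908 : act 1 n95795 = n188549 := d15_1 D95795 (iv7 D188549) F142188
theorem F373909 : act 1 n188549 = n95794 := d15_1 F373908 (iv7 F251658) F251682
def n188550 : Q := act 6 n92446
theorem D188550 : act 6 n92446 = n188550 := rfl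
theorem F373910 : act 2 n188550 = n114053 := d3_1 D188550 (iv6 D114053) F142216
theorem F373911 : act 3 n188550 = n105863 := d7_1 D188550 (iv6 D105863) (iv3 F142215)
theorem F373912 : act 4 n188550 = n146729 := d10_1 D188550 F334692 (iv4 F142214)
theorem F373913 : act 5 n188550 = n93022 := d12_1 D188550 (iv6 F143467) (iv5 D52745) (iv6 F77183) (iv5 F142213)
theorem F373914 : act 7 n188550 = n146572 := d14_2 (iv7 F142218) D188550 F321089 (iv7 F311746) (iv6 D114145)
theorem F373915 : act 0 n188550 = n175825 := d21_4 (iv5 D54787) F76702 (iv5 F142213) D188550 (iv6 D175825) F317508 (iv1 D62643) D62645 F322824 F86683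
theorem F373916 : act 1 n188550 = n159454 := d15_1 (iv0 F373915) (iv7 F358940) F275658
def n188551 : Q := act 4 n92448
theorem D188551 : act 4 n92448 = n188551 := rfl
theorem F373917 : act 2 n188551 = n154967 := d1_1 D188551 (iv4 F349330) (iv2 F349333)
theorem F373918 : act 3 n188551 = n186815 := d5_1 D188551 F368109 (iv3 F333354) D187450 F370387
theorem F373919 : act 5 n188551 = n143317 := d9_2 (iv5 F337216) D188551 (iv4 D143317) (iv5 F312310) (iv4 F305565) D33890 (iv4 F312492) F106192 F306705 (iv5 D73504) (iv4 D33790) (iv5 D16327) (iv4 F301352) D26673 D55202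
theorem F373920 : act 6 n188551 = n187430 := d10_2 (iv6 F349340) D188551 (iv4 D187430)
theorem F373921 : act 7 n188551 = n154811 := d11_2 (iv7 F337217) D188551 F317606
theorem F373922 : act 0 n188551 = n151383 := d18_2 D92448 D188551 F356578 (iv5 F316821) F183661 (iv0 F232245) D54294 (iv0 F318928) (iv5 D92451)
theorem F373923 : act 1 n188551 = n154963 := d18_6 (iv1 F153469) (iv4 F323670) (iv1 D55201) D55202 (iv5 F337216) D188551 F337220 (iv0 D94228) (iv5 F76771)
def n188552 : Q := act 6 n92450
theorem D188552 : act 6 n92450 = n188552 := rfl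
theorem F373924 : act 2 n188552 = n92452 := d3_1 D188552 (iv6 D92452) D92450
theorem F373925 : act 3 n188552 = n92490 := d7_1 D188552 (iv6 D92490) (iv3 F142228)
theorem F373926 : act 4 n188552 = n171168 := d10_1 D188552 (iv6 D171168) (iv4 F335665)
theorem F373927 : act 5 n188552 = n146890 := d21_6 D22483 F55351 (iv5 F64147) F317607 (iv1 F317602) D188552 (iv1 F371161) (iv5 D100345) (iv6 D46822) (iv1 D22481)
def n188553 : Q := act 0 n92452
theorem D188553 : act 0 n92452 = n188553 := rfl
theorem F373928 : act 5 n188553 = n187660 := d19_1 D188553 F371133 F365708 (iv1 D181992) (iv5 D86922) (iv4 F74436) (iv3 F86374) D118653 F307088 F333330 F137309 (iv1 F134110) (iv5 D48243) F36517 (iv3 F36514) F73907 (iv5 F290904) (iv4 F67764) (iv3 F142235)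
theorem F373929 : act 6 n188553 = n93994 := d21_3 D90433 D187660 (iv5 F373928) (iv1 F144818) (iv6 D89015) (iv5 F85370) F85372 F72752 D46822 (iv1 F290210)
theorem F373930 : act 2 n186662 = n188553 := d3_3 F373929 (iv2 F344273) D186662
def n188554 : Q := act 1 n92452
theorem D188554 : act 1 n92452 = n188554 := rfl
theorem F373931 : act 7 n188554 = n186662 := d15_2 (iv0 D188553) D188554 F373930
theorem F373932 : act 3 n187116 = n188554 := d8_3 F373931 F367584 (iv7 F369137)
theorem F373933 : act 6 n188554 = n188092 := d7_2 F369136 F373932 (iv3 F372309)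
def n188555 : Q := act 3 n92459
theorem D188555 : act 3 n92459 = n188555 := rfl
theorem F373934 : act 5 n188555 = n133538 := d6_2 (iv5 F142259) D188555 (iv3 F334645)
theorem F373935 : act 7 n188555 = n187489 := d8_2 (iv7 F142260) D188555 (iv3 D187489)
theorem F373936 : act 1 n132807 = n188555 := d17_6 (iv1 D187790) (iv5 F143223) F371560 F371559 (iv4 D132806) D132807 F373934 F214816 F371513
theorem F373937 : act 0 n132802 = n188555 := d21_10 F373934 (iv1 D133538) (iv5 F319755) (iv6 D122333) F89593 D80085 (iv5 F320070) D166159 F334607 F364315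
def n188556 : Q := act 6 n92460
theorem D188556 : act 6 n92460 = n188556 := rfl
theorem F373938 : act 2 n188556 = n155325 := d3_1 D188556 (iv6 D155325) (iv2 F333296)
theorem F373939 : act 3 n188556 = n92462 := d7_1 D188556 (iv6 D92462) D92460
theorem F373940 : act 4 n188556 = n179642 := d10_1 D188556 F279755 (iv4 F333297)
theorem F373941 : act 7 n188556 = n175930 := d14_2 F333300 D188556 (iv6 D175930) (iv7 F323490) F244274
theorem F373942 : act 0 n143212 = n188556 := d21_4 (iv5 F334828) (iv1 F215192) F215190 (iv6 F226046) (iv6 D188556) (iv5 F153655) F333298 (iv5 D69564) D69565 F309826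
theorem F373943 : act 1 n142671 = n188556 := d18_6 F279561 F353552 (iv1 F355816) F220380 (iv5 F102727) D142671 F373940 (iv0 F279757) (iv5 F279560)
def n188557 : Q := act 5 n92462
theorem D188557 : act 5 n92462 = n188557 := rfl
theorem F373944 : act 2 n188557 = n94023 := d2_1 D188557 F144857 (iv2 F142266)
theorem F373945 : act 6 n188557 = n93818 := d12_2 D92462 D188557 F144626 (iv6 F73628) F73630
theorem F373946 : act 7 n188557 = n175933 := d13_2 (iv7 F342081) D188557 (iv5 D175933)
theorem F373947 : act 0 n188557 = n119062 := d17_2 F342090 D188557 (iv5 D119062) F310813 D69152 F171206 F343348 F230553 (iv4 F230824)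
def n188558 : Q := act 0 n92467
theorem D188558 : act 0 n92467 = n188558 := rfl
theorem F373948 : act 3 n188558 = n146557 := d20_5 (iv4 F177935) (iv1 F177937) F177928 (iv3 F142278) D188558 F229863 F317066 F129555 F83725 D55981
theorem F373949 : act 2 n114143 = n188558 := d15_3 (iv0 D188558) F352376 (iv7 F353812)
theorem F373950 : act 1 n114114 = n188558 := d15_0 (iv0 D188558) F142280 (iv2 F177721)
theorem F373951 : act 7 n188558 = n114142 := d15_2 (iv0 F337871) F373950 F353806
def n188559 : Q := act 3 n92468
theorem D188559 : act 3 n92468 = n188559 := rfl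
theorem F373952 : act 2 n188559 = n182143 := d0_1 D188559 F283524 (iv2 F343007) (iv3 F333354) F333353
theorem F373953 : act 4 n188559 = n181965 := d5_2 (iv4 F370295) D188559 (iv3 F370301) (iv4 D187430) (iv3 F370296)
theorem F373954 : act 6 n188559 = n114696 := d7_2 F333356 D188559 (iv3 F333354)
theorem F373955 : act 7 n188559 = n93773 := d8_2 (iv7 F290321) D188559 F144541
theorem F373956 : act 0 n188559 = n93844 := d20_4 (iv4 F373839) F373841 (iv4 F370295) D188559 (iv3 D93844) D93845 (iv1 F333366) F152155 (iv3 F144544) F364729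
theorem F373957 : act 0 n93853 = n188559 := d20_4 (iv4 F34119) D45409 (iv4 F142174) D93853 (iv3 D188559) F370295 (iv1 D187428) (iv4 F142183) (iv3 D92435) (iv1 D43232)
theorem F373958 : act 5 n152186 = n188559 := d18_9 F373956 F367432 (iv1 D186605) F136438 F67852 (iv4 F83195) (iv0 F335483) (iv4 F179382) (iv0 F363827)
def n188560 : Q := act 5 n92468
theorem D188560 : act 5 n92468 = n188560 := rfl
theorem F373959 : act 2 n188560 = n114676 := d2_1 D188560 (iv5 F333355) F333353
theorem F373960 : act 3 n188560 = n152186 := d6_1 D188560 F373958 (iv3 D188559)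
theorem F373961 : act 6 n188560 = n167879 := d12_2 F333356 D188560 (iv5 F318182) F318183 (iv5 F333355)
theorem F373962 : act 7 n188560 = n93777 := d13_2 (iv7 F290321) D188560 (iv5 D93777)
theorem F373963 : act 4 n188560 = n131256 := d16_2 (iv4 F370295) D188560 (iv5 D131256) F96141 F315375 (iv4 F315372) (iv5 F145081) (iv7 F370385) F370382
theorem F373964 : act 1 n188560 = n93848 := d17_8 (iv1 F189384) F363049 (iv1 F314586) F321795 (iv4 F321793) (iv5 D92518) F142281 D188560 F343009
theorem F373965 : act 0 n188560 = n93863 := d18_0 F317611 (iv1 D73864) (iv4 F315372) (iv5 F145081) F145080 (iv0 F290316) F67892 F142281 D188560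
def n188561 : Q := act 1 n92470
theorem D188561 : act 1 n92470 = n188561 := rfl
theorem F373966 : act 1 n188561 = n92518 := d15_1 D188561 F142468 (iv2 F142283)
theorem F373967 : act 7 n188561 = n187451 := d15_2 (iv0 F317795) D188561 (iv2 F370392)
theorem F373968 : act 5 n98018 = n188561 := d21_0 (iv1 D188561) (iv5 D92470) D92471 (iv1 F364365) (iv6 D94139) D94138 F335776 (iv5 D45757) (iv6 F72205) D98018
theorem F373969 : act 2 n188561 = n187452 := d2_1 F373968 (iv5 F370397) (iv2 F335772)
def n188562 : Q := act 6 n92470
theorem D188562 : act 6 n92470 = n188562 := rfl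
theorem F373970 : act 2 n188562 = n154038 := d3_1 D188562 F290415 (iv2 F142283)
theorem F373971 : act 3 n188562 = n92473 := d7_1 D188562 (iv6 D92473) (iv3 F142284)
theorem F373972 : act 4 n188562 = n140832 := d10_1 D188562 F363057 (iv4 F317796)
theorem F373973 : act 7 n188562 = n140828 := d14_2 (iv7 F142285) D188562 (iv6 D140828) (iv7 F180372) F318761
theorem F373974 : act 0 n188562 = n115217 := d21_4 F83645 (iv1 F290315) D92470 D188562 (iv6 D115217) (iv5 D53157) D53154 D115204 F335809 F290244
theorem F373975 : act 0 n119722 = n188562 := d21_4 D167881 (iv1 F317883) F317884 (iv6 F306888) (iv6 D188562) (iv5 D92470) D92468 D188560 F373961 (iv1 D167879)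
def n188563 : Q := act 1 n92471
theorem D188563 : act 1 n92471 = n188563 := rfl
theorem F373976 : act 1 n188563 = n92475 := d15_1 D188563 F142299 (iv2 F142286)
theorem F373977 : act 7 n188563 = n93791 := d15_2 F364365 D188563 F344295
theorem F373978 : act 3 n134483 = n188563 := d20_3 (iv4 F287508) (iv1 F339549) (iv4 F339546) (iv1 D188563) F142287 F67789 F35811 (iv4 F32995) (iv3 F69114) D94047
theorem F373979 : act 6 n187491 = n188563 := d21_3 D42204 D90290 (iv5 F370556) (iv1 D188563) (iv6 D92471) D92470 F317795 (iv5 F364343) (iv6 D90289) (iv1 D42203)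
theorem F373980 : act 2 n188563 = n187453 := d3_1 F373979 (iv6 F370401) F370557
theorem F373981 : act 5 n188563 = n134482 := d21_6 (iv5 F370389) (iv1 F370391) (iv5 D90262) D90263 D187491 F373979 F349142 (iv5 D90456) D90457 (iv1 F349303)
def n188564 : Q := act 6 n92472
theorem D188564 : act 6 n92472 = n188564 := rfl
theorem F373982 : act 2 n188564 = n172415 := d3_1 D188564 F326544 (iv2 F142289)
theorem F373983 : act 3 n188564 = n119670 := d7_1 D188564 (iv6 F352082) (iv3 F352108)
theorem F373984 : act 4 n188564 = n92473 := d10_1 D188564 (iv6 D92473) D92472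
theorem F373985 : act 5 n188564 = n174017 := d12_1 D188564 (iv6 D174017) D174016 F339469 (iv5 F142946)
theorem F373986 : act 7 n188564 = n172414 := d14_2 (iv7 F142290) D188564 F359838 (iv7 F370571) (iv6 D187493)
theorem F373987 : act 0 n188564 = n98151 := d21_4 (iv5 F135543) (iv1 F142942) (iv5 F142946) D188564 F151377 (iv5 D45848) F59721 D38232 D83074 (iv1 F328225)
theorem F373988 : act 1 n188564 = n172417 := d15_1 (iv0 F373987) (iv7 D172417) (iv2 F151376)
def n188565 : Q := act 4 n92487
theorem D188565 : act 4 n92487 = n188565 := rfl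
theorem F373989 : act 2 n188565 = n187427 := d1_1 D188565 (iv4 D187427) (iv2 F142361)
theorem F373990 : act 6 n188565 = n119098 := d10_2 (iv6 F142363) D188565 (iv4 D119098)
theorem F373991 : act 7 n188565 = n135619 := d11_2 (iv7 F345005) D188565 (iv4 F344974)
theorem F373992 : act 5 n135620 = n188565 := d13_3 F373991 (iv5 D135619) D135620
theorem F373993 : act 1 n188565 = n131114 := d15_0 (iv0 F363754) (iv7 F370287) (iv2 F373989)
def n188566 : Q := act 4 n92489
theorem D188566 : act 4 n92489 = n188566 := rfl
theorem F373994 : act 2 n188566 = n187486 := d1_1 D188566 (iv4 D187486) (iv2 F142368)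
theorem F373995 : act 3 n188566 = n147406 := d5_1 D188566 F231485 (iv3 F232196) (iv4 D148447) (iv3 F363381)
theorem F373996 : act 6 n188566 = n166401 := d10_2 F239690 D188566 F340162
theorem F373997 : act 7 n188566 = n147443 := d11_2 (iv7 F239334) D188566 (iv4 F363649)
theorem F373998 : act 1 n148312 = n188566 := d15_1 (iv0 F363832) F373997 F363650
def n188567 : Q := act 4 n92491
theorem D188567 : act 4 n92491 = n188567 := rfl
theorem F373999 : act 2 n188567 = n114071 := d1_1 D188567 (iv4 D114071) F142455
theorem F374000 : act 3 n188567 = n153888 := d5_1 D188567 (iv4 F242479) (iv3 F244258) (iv4 D155323) (iv3 F349316)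
theorem F374001 : act 7 n188567 = n114074 := d11_2 (iv7 F142459) D188567 (iv4 D114074)
theorem F374002 : act 0 n152356 = n188567 := d20_7 (iv4 D119923) (iv1 F87323) D73797 (iv3 F322019) F321657 (iv3 F178749) (iv4 F239557) (iv4 D188567) F349316 (iv1 F189341)
theorem F374003 : act 6 n188567 = n143602 := d21_5 F56581 D38250 F108368 D152356 F374002 F226286 (iv1 F181812) D142443 F314390 F108236
def n188568 : Q := act 6 n92491
theorem D188568 : act 6 n92491 = n188568 := rfl
theorem F374004 : act 2 n188568 = n114072 := d3_1 D188568 (iv6 D114072) F142455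
theorem F374005 : act 3 n188568 = n155325 := d7_1 D188568 (iv6 D155325) (iv3 F349316)
theorem F374006 : act 4 n188568 = n143602 := d10_1 D188568 (iv6 F374003) (iv4 D188567)
theorem F374007 : act 5 n188568 = n112934 := d12_1 D188568 F359559 F293472 (iv6 F293459) F143228
theorem F374008 : act 7 n188568 = n115177 := d14_2 (iv7 F142459) D188568 (iv6 D115177) F83891 F323566
theorem F374009 : act 0 n188568 = n106379 := d21_4 (iv5 D90814) D90813 F143228 D188568 (iv6 D106379) D106378 (iv1 F371180) F371178 (iv6 D187487) F139794
theorem F374010 : act 1 n188568 = n135254 := d15_0 (iv0 D135254) (iv7 F323568) (iv2 F374004)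
def n188569 : Q := act 1 n92492
theorem D188569 : act 1 n92492 = n188569 := rfl
theorem F374011 : act 1 n188569 = n114070 := d15_1 D188569 (iv7 D114070) (iv2 F142377)
theorem F374012 : act 7 n188569 = n114067 := d15_2 (iv0 F251641) D188569 (iv2 F251642)
theorem F374013 : act 4 n188569 = n115125 := d18_7 F283527 F251975 (iv1 D88915) F64050 D43274 D92492 D188569 F343003 F342999
theorem F374014 : act 6 n105555 = n188569 := d21_3 F176269 (iv1 F82564) D105555 (iv1 D188569) F142378 F83168 F53190 (iv5 F56673) D79025 (iv1 F329173)
theorem F374015 : act 2 n188569 = n107693 := d3_1 F374014 (iv6 D107693) (iv2 F162123)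
def n188570 : Q := act 3 n92492
theorem D188570 : act 3 n92492 = n188570 := rfl
theorem F374016 : act 4 n188570 = n92514 := d5_2 D92492 D188570 (iv3 D92514) (iv4 D43285) (iv3 F67855)
theorem F374017 : act 6 n188570 = n114052 := d7_2 (iv6 F142378) D188570 (iv3 D114052)
def n188571 : Q := act 5 n92492
theorem D188571 : act 5 n92492 = n188571 := rfl
theorem F374018 : act 2 n188571 = n114069 := d2_1 D188571 (iv5 D114069) (iv2 F142377)
theorem F374019 : act 6 n188571 = n155096 := d12_2 (iv6 F142378) D188571 (iv5 D155096) (iv6 D73620) (iv5 F83168)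
def n188572 : Q := act 7 n92492
theorem D188572 : act 7 n92492 = n188572 := rfl
theorem F374020 : act 2 n188572 = n114070 := d4_1 D188572 (iv7 D114070) (iv2 F142377)
theorem F374021 : act 4 n188572 = n92493 := d11_1 D188572 (iv7 D92493) D92492
theorem F374022 : act 6 n188572 = n164265 := d14_1 D188572 (iv7 D164265) (iv6 D78909) (iv7 F83169) (iv6 F142378)
theorem F374023 : act 1 n107693 = n188572 := d15_1 (iv0 F335483) (iv7 D188572) F142377
theorem F374024 : act 1 n188572 = n114067 := d15_1 F374023 (iv7 F374012) F374015
def n188573 : Q := act 1 n92494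
theorem D188573 : act 1 n92494 = n188573 := rfl
theorem F374025 : act 1 n188573 = n145079 := d15_1 D188573 (iv7 F339566) (iv2 F142386)
theorem F374026 : act 7 n188573 = n187440 := d15_2 (iv0 F143465) D188573 (iv2 F370329)
theorem F374027 : act 5 n188573 = n102863 := d17_7 (iv1 F373442) (iv5 F368195) (iv1 D186835) (iv5 D89233) (iv4 F67866) D92494 D188573 F291621 (iv4 F373437)
theorem F374028 : act 4 n188573 = n175223 := d17_9 (iv1 D175223) (iv5 D83684) F314405 (iv5 F308534) (iv4 F315230) F138810 (iv0 F67868) D92494 D188573
theorem F374029 : act 2 n102870 = n188573 := d1_3 F374028 F359667 F344374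
theorem F374030 : act 3 n164461 = n188573 := d5_5 F374028 (iv3 F359666) F150037 (iv3 F150036) (iv4 F259112)
theorem F374031 : act 6 n164345 = n188573 := d10_0 F374028 F359665 (iv4 F258973)
def n188574 : Q := act 4 n92494
theorem D188574 : act 4 n92494 = n188574 := rfl
theorem F374032 : act 2 n188574 = n145084 := d1_1 D188574 F338694 (iv2 F142386)
theorem F374033 : act 7 n188574 = n144963 := d11_2 (iv7 F142388) D188574 (iv4 F333656)
theorem F374034 : act 5 n188574 = n149842 := d16_7 F333714 D161651 (iv4 F339570) (iv5 D89233) (iv4 F67866) D92494 D188574 (iv7 F333730) F333655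
theorem F374035 : act 0 n188574 = n144984 := d17_0 (iv5 F278611) (iv1 F278612) F96269 (iv4 F104627) (iv5 F317465) (iv0 D93017) D93018 (iv0 F143465) D188574
theorem F374036 : act 0 n133841 = n188574 := d20_10 (iv4 D188574) F143465 F339573 F339574 F241176 (iv3 F242924) (iv4 F110642) F182314 F182311 (iv3 F215495)
theorem F374037 : act 3 n177028 = n188574 := d20_5 (iv4 F231290) (iv1 F341975) (iv4 D170483) (iv3 F267907) F344909 (iv4 D188574) F143465 F339573 F339574 F241176
theorem F374038 : act 6 n188574 = n127745 := d21_5 D117203 F363629 D146279 F339769 F374036 (iv5 F205363) (iv1 F104591) (iv5 F104590) (iv6 F183344) (iv1 F183346)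
def n188575 : Q := act 6 n92494
theorem D188575 : act 6 n92494 = n188575 := rfl
theorem F374039 : act 2 n188575 = n146007 := d3_1 D188575 (iv6 F338692) (iv2 F142386)
theorem F374040 : act 3 n188575 = n92497 := d7_1 D188575 (iv6 D92497) (iv3 F142387)
theorem F374041 : act 4 n188575 = n127745 := d10_1 D188575 (iv6 F374038) (iv4 D188574)
theorem F374042 : act 5 n188575 = n134716 := d12_1 D188575 (iv6 F326624) F142932 (iv6 D92495) D92494
theorem F374043 : act 7 n188575 = n145063 := d14_2 (iv7 F142388) D188575 (iv6 D145063) F318692 F138584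
theorem F374044 : act 0 n188575 = n135220 := d21_4 F106107 F136300 D92494 D188575 (iv6 F347597) F347600 F371306 F371305 (iv6 F229178) F316440
theorem F374045 : act 0 n135251 = n188575 := d21_4 D164342 (iv1 F346156) (iv5 F346151) (iv6 F346153) (iv6 D188575) (iv5 D92494) F67868 (iv5 F138810) (iv6 F316648) (iv1 F319014)
def n188576 : Q := act 3 n92496
theorem D188576 : act 3 n92496 = n188576 := rfl
theorem F374046 : act 4 n188576 = n177028 := d5_2 D92496 D188576 F374037 (iv4 D188574) F142387
theorem F374047 : act 7 n188576 = n187441 := d8_2 (iv7 F142394) D188576 (iv3 D187441)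
def n188577 : Q := act 6 n92496
theorem D188577 : act 6 n92496 = n188577 := rfl
theorem F374048 : act 2 n188577 = n187436 := d3_1 D188577 (iv6 D187436) (iv2 F142393)
theorem F374049 : act 4 n188577 = n92497 := d10_1 D188577 (iv6 D92497) D92496
theorem F374050 : act 0 n188577 = n186888 := d21_10 (iv5 D186888) D186885 (iv5 F368413) (iv6 D114116) (iv1 F139427) F139423 D94246 F292335 F347706 D188577
def n188578 : Q := act 0 n92497
theorem D188578 : act 0 n92497 = n188578 := rfl
theorem F374051 : act 5 n188578 = n106120 := d17_1 D188578 F339456 F176870 (iv4 F177731) F368413 (iv0 D186885) D186888 (iv0 F374050) F374049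
theorem F374052 : act 3 n188578 = n106122 := d20_5 F338538 D127745 (iv4 F374041) F374040 D188578 F177782 (iv1 F178447) F161750 (iv3 F338633) (iv1 F328635)
theorem F374053 : act 6 n188578 = n114024 := d21_5 (iv5 D20431) D20429 D43278 D92497 D188578 F336942 (iv1 F336944) (iv5 F142438) (iv6 D92511) (iv1 D43284)
theorem F374054 : act 1 n187439 = n188578 := d15_0 (iv0 D188578) (iv7 F178121) (iv2 F370325)
theorem F374055 : act 2 n187437 = n188578 := d3_3 F374053 (iv2 F336955) (iv6 F370318)
theorem F374056 : act 7 n187438 = n188578 := d15_2 (iv0 D187437) D187438 (iv2 F374055)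
def n188579 : Q := act 1 n92497
theorem D188579 : act 1 n92497 = n188579 := rfl
theorem F374057 : act 1 n188579 = n187439 := d15_1 D188579 (iv7 D187439) (iv2 F142396)
theorem F374058 : act 7 n188579 = n187437 := d15_2 (iv0 D188578) D188579 F374055
theorem F374059 : act 5 n188579 = n132865 := d17_7 (iv1 F322816) (iv5 F317551) (iv1 F304688) D80365 (iv4 F340912) F142936 D188579 (iv0 F337567) (iv4 F337563)
theorem F374060 : act 2 n187438 = n188579 := d2_3 F374059 (iv2 F339451) (iv5 F370323)
def n188580 : Q := act 4 n92499
theorem D188580 : act 4 n92499 = n188580 := rfl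
theorem F374061 : act 2 n188580 = n187430 := d1_1 D188580 (iv4 D187430) F349337
theorem F374062 : act 3 n188580 = n153540 := d5_1 D188580 F337263 (iv3 F349329) (iv4 F349330) F289377
theorem F374063 : act 6 n188580 = n154967 := d10_2 (iv6 F349335) D188580 (iv4 F349330)
theorem F374064 : act 7 n188580 = n153532 := d11_2 F349334 D188580 F241322
theorem F374065 : act 0 n188580 = n93845 := d20_1 D188580 (iv4 D93845) D93844 (iv1 F364170) F251899 (iv4 F178755) (iv1 F337266) F136951 (iv3 F138571) (iv1 F142402)
theorem F374066 : act 0 n93840 = n188580 := d20_10 (iv4 D188580) (iv1 D92499) F67874 (iv3 D41852) F63705 (iv3 F34492) F34493 D45393 D97115 F149853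
def n188581 : Q := act 5 n92499
theorem D188581 : act 5 n92499 = n188581 := rfl
theorem F374067 : act 2 n188581 = n151327 := d2_1 D188581 (iv5 F349338) F349337
theorem F374068 : act 3 n188581 = n119923 := d6_1 D188581 (iv5 F349331) F289377
theorem F374069 : act 6 n188581 = n151323 := d12_2 (iv6 F349335) D188581 (iv5 F252037) (iv6 F314943) (iv5 F349331)
theorem F374070 : act 7 n188581 = n118646 := d13_2 F349334 D188581 F186609
theorem F374071 : act 0 n188581 = n92509 := d17_2 (iv1 F142402) D188581 F142430 (iv4 F290614) F290615 (iv0 F287637) F287635 F136688 (iv4 F138572)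
theorem F374072 : act 4 n188581 = n155453 := d18_5 D43865 D93840 F374066 (iv4 D188580) D188581 F355763 (iv4 D159696) (iv0 D76403) F55257
theorem F374073 : act 0 n145940 = n188581 := d21_1 F372613 (iv5 D188581) F349335 (iv1 D89553) D89556 (iv5 F139680) F360971 F335915 F371140 F372615
def n188582 : Q := act 5 n92500
theorem D188582 : act 5 n92500 = n188582 := rfl
theorem F374074 : act 2 n188582 = n92501 := d2_1 D188582 (iv5 D92501) D92500
theorem F374075 : act 3 n188582 = n145079 := d6_1 D188582 F339569 (iv3 F142398)
theorem F374076 : act 7 n188582 = n187431 := d13_2 (iv7 F142400) D188582 (iv5 D187431)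
theorem F374077 : act 0 n188582 = n148439 := d21_1 D188582 F372618 (iv6 F372620) F372608 (iv6 F153656) F153655 F333294 (iv5 F337216) F349340 (iv1 F142401)
theorem F374078 : act 6 n145077 = n188582 := d21_5 (iv5 D26426) (iv1 F37450) (iv5 F55415) D76550 (iv1 F347729) (iv5 D188582) (iv1 F337230) (iv5 F186609) (iv6 D118646) (iv1 F86357)
theorem F374079 : act 1 n188582 = n187432 := d15_0 (iv0 D187432) (iv7 F142405) (iv2 F374074)
theorem F374080 : act 5 n188554 = n187661 := d21_6 (iv5 F371141) (iv1 F374079) (iv5 D188582) (iv6 F362394) (iv1 F372313) (iv6 F373933) (iv1 D187661) (iv5 D90433) D90434 D187664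
def n188583 : Q := act 0 n92501
theorem D188583 : act 0 n92501 = n188583 := rfl
theorem F374081 : act 3 n188583 = n148451 := d20_5 (iv4 F347700) F347698 (iv4 D92503) (iv3 F142404) D188583 F232199 (iv1 F184861) F317793 F138604 F65565
theorem F374082 : act 5 n188583 = n188187 := d21_2 D92501 D188583 F372622 F367216 F349315 (iv5 D155324) (iv1 F189341) (iv5 F349331) (iv6 F349335) (iv1 D92499)
theorem F374083 : act 1 n187431 = n188583 := d15_0 (iv0 D188583) F142405 (iv2 F370302)
theorem F374084 : act 2 n148439 = n188583 := d2_3 F374082 (iv2 F372624) (iv5 F372618)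
theorem F374085 : act 7 n187432 = n188583 := d13_0 F374082 (iv7 F372625) (iv5 F371141)
theorem F374086 : act 6 n188583 = n121360 := d21_3 F355733 D188187 (iv5 F374082) (iv1 D121360) (iv6 D55987) (iv5 D26999) D26997 (iv5 F86354) D118646 F355738
def n188584 : Q := act 1 n92501
theorem D188584 : act 1 n92501 = n188584 := rfl
theorem F374087 : act 1 n188584 = n187431 := d15_1 D188584 (iv7 F374076) F374074
theorem F374088 : act 7 n188584 = n148439 := d15_2 (iv0 D188583) D188584 F374084
theorem F374089 : act 5 n188584 = n188188 := d17_7 F289803 D185428 F287690 (iv5 D89611) (iv4 F67874) D92501 D188584 F372626 F371132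
theorem F374090 : act 3 n117868 = n188584 := d20_3 (iv4 D69550) (iv1 F85674) D117868 (iv1 D188584) F142404 D92503 F347713 F157155 (iv3 F158008) F314437
theorem F374091 : act 4 n188584 = n148517 := d5_2 D117868 F374090 (iv3 D148517) (iv4 D69602) (iv3 F85672)
theorem F374092 : act 0 n186911 = n148517 := d20_1 (iv4 F368491) (iv4 F374091) (iv3 F374090) (iv1 F184821) (iv3 F318926) D89557 (iv1 F283812) (iv4 D182292) (iv3 F251565) (iv1 F283584)
theorem F374093 : act 2 n187432 = n188584 := d2_3 F374089 F372629 (iv5 F371141)
def n188585 : Q := act 4 n92501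
theorem D188585 : act 4 n92501 = n188585 := rfl
theorem F374094 : act 7 n188585 = n187433 := d11_2 (iv7 F142405) D188585 (iv4 D187433)
def n188586 : Q := act 0 n92502
theorem D188586 : act 0 n92502 = n188586 := rfl
theorem F374095 : act 1 n188093 = n188586 := d15_0 (iv0 D188586) F290653 D188093
def n188587 : Q := act 1 n92502
theorem D188587 : act 1 n92502 = n188587 := rfl
theorem F374096 : act 1 n188587 = n188093 := d15_1 D188587 F372312 (iv2 F362402)
theorem F374097 : act 5 n188587 = n100360 := d18_9 (iv1 D100360) D100361 F371845 (iv4 D187925) D187926 F371850 F283725 (iv4 F142407) D188587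
theorem F374098 : act 4 n186797 = n188587 := d20_6 (iv4 F127131) (iv1 F291289) (iv4 F291837) D96154 (iv1 F343883) (iv3 F368044) (iv1 D188587) F142407 F137394 (iv1 F74124)
theorem F374099 : act 3 n188587 = n187114 := d5_1 F374098 F369132 (iv3 F357580) F357581 (iv3 F368044)
theorem F374100 : act 6 n188587 = n93995 := d10_2 D186797 F374098 (iv4 F144819)
theorem F374101 : act 2 n186660 = n188587 := d3_3 F374100 (iv2 F344270) D186660
theorem F374102 : act 7 n188092 = n188587 := d14_0 F374100 (iv7 F344263) D186662 (iv7 F373931) F373933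
theorem F374103 : act 2 n188092 = n188586 := d15_3 (iv0 D188586) D188587 (iv7 F374102)
theorem F374104 : act 7 n188586 = n186660 := d4_2 (iv7 F374102) F374103 F374101
def n188588 : Q := act 3 n92503
theorem D188588 : act 3 n92503 = n188588 := rfl
theorem F374105 : act 5 n188588 = n123908 := d6_2 F347707 D188588 (iv3 F358595)
theorem F374106 : act 6 n188588 = n120455 := d7_2 F178119 D188588 (iv3 F355543)
theorem F374107 : act 7 n188588 = n187435 := d8_2 (iv7 F142409) D188588 (iv3 D187435)
theorem F374108 : act 4 n188588 = n134350 := d20_6 F368522 (iv1 D186923) F137069 (iv3 F137039) F347698 D188588 (iv1 D134350) (iv4 F172373) F363020 (iv1 F367345)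
theorem F374109 : act 3 n188585 = n134350 := d5_5 (iv4 F374108) (iv3 D188588) (iv4 D92503) (iv3 F142404) D188585
theorem F374110 : act 6 n134350 = n123250 := d10_2 (iv6 F374106) F374108 F355551
theorem F374111 : act 1 n111156 = n188588 := d17_8 (iv1 D134350) (iv5 F357705) (iv1 D110911) (iv5 F171649) F341483 D123830 (iv0 F353711) (iv5 F353707) F374108
theorem F374112 : act 2 n188588 = n160300 := d15_3 (iv0 F363293) (iv0 F370307) (iv7 F374107)
def n188589 : Q := act 2 n92509
theorem D188589 : act 2 n92509 = n188589 := rfl
theorem F374113 : act 3 n188589 = n145945 := d0_2 D92509 D188589 F316442 (iv3 D90144) F68162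
theorem F374114 : act 4 n188589 = n159691 := d1_2 (iv4 F142432) D188589 (iv2 F251587)
theorem F374115 : act 5 n188589 = n187659 := d2_2 (iv5 F142430) D188589 F371130
theorem F374116 : act 7 n188589 = n145940 := d4_2 (iv7 F142431) D188589 F317463
theorem F374117 : act 1 n188589 = n151327 := d15_0 (iv0 F355775) (iv7 F142431) D188589
theorem F374118 : act 1 n118646 = n188589 := d15_0 F374117 (iv7 D151327) (iv2 F186607)
def n188590 : Q := act 6 n92509
theorem D188590 : act 6 n92509 = n188590 := rfl
theorem F374119 : act 3 n188590 = n92511 := d7_1 D188590 (iv6 D92511) D92509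
theorem F374120 : act 4 n188590 = n156484 := d10_1 D188590 F360941 (iv4 F142432)
theorem F374121 : act 5 n188590 = n187663 := d12_1 D188590 (iv6 D187663) (iv5 D90433) D90434 (iv5 F142430)
def n188591 : Q := act 7 n92511
theorem D188591 : act 7 n92511 = n188591 := rfl
theorem F374122 : act 2 n188591 = n145921 := d4_1 D188591 F355301 (iv2 F142437)
theorem F374123 : act 4 n188591 = n110808 := d11_1 D188591 (iv7 F368696) (iv4 F368694)
theorem F374124 : act 5 n188591 = n135245 := d13_1 D188591 F332262 (iv5 F142438)
theorem F374125 : act 6 n188591 = n145919 := d14_1 D188591 (iv7 F322606) (iv6 D90143) F68166 D92511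
theorem F374126 : act 1 n130664 = n188591 := d15_1 (iv0 F355356) (iv7 D188591) F142437
theorem F374127 : act 1 n188591 = n187446 := d15_1 F374126 F370364 F357123
def n188592 : Q := act 0 n92514
theorem D188592 : act 0 n92514 = n188592 := rfl
def n188593 : Q := act 1 n92514
theorem D188593 : act 1 n92514 = n188593 := rfl
theorem F374128 : act 3 n146908 = n188593 := d20_3 F110738 (iv1 F131041) (iv4 F230292) (iv1 D188593) (iv3 D92514) (iv4 D43285) D43283 D92507 F346097 F184663
theorem F374129 : act 4 n188593 = n125098 := d5_2 (iv4 F230292) F374128 F200969 F92374 (iv3 F105056)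
theorem F374130 : act 6 n188593 = n125097 := d7_2 (iv6 F230293) F374128 F200967
theorem F374131 : act 7 n188593 = n146901 := d8_2 D146908 F374128 F230282
theorem F374132 : act 2 n146901 = n188592 := d15_3 (iv0 D188592) D188593 F374131
theorem F374133 : act 6 n188592 = n146899 := d3_2 D146901 F374132 (iv2 D146899)
def n188594 : Q := act 2 n92514
theorem D188594 : act 2 n92514 = n188594 := rfl
theorem F374134 : act 3 n188594 = n121308 := d0_2 D92514 D188594 F193435 F88583 (iv2 F67884)
theorem F374135 : act 6 n188594 = n121307 := d3_2 F240914 D188594 (iv2 F240911)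
theorem F374136 : act 0 n188594 = n146901 := d20_4 (iv4 F354911) (iv1 D121310) (iv4 F193436) (iv3 F374134) F230282 F105055 D68866 D146909 (iv3 F354933) (iv1 D154382)
def n188595 : Q := act 7 n92514
theorem D188595 : act 7 n92514 = n188595 := rfl
theorem F374137 : act 3 n188595 = n92516 := d8_1 D188595 (iv7 D92516) D92514
theorem F374138 : act 5 n188595 = n187463 := d13_1 D188595 F370441 (iv5 F367266)
theorem F374139 : act 0 n146901 = n188595 := d20_4 (iv4 D146685) F130732 (iv4 F105055) (iv3 F230282) F374137 F142451 (iv1 F67888) D90145 D187444 F370350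
def n188596 : Q := act 6 n92516
theorem D188596 : act 6 n92516 = n188596 := rfl
theorem F374140 : act 2 n188596 = n114131 := d3_1 D188596 F177750 (iv2 F142450)
theorem F374141 : act 4 n188596 = n92517 := d10_1 D188596 (iv6 D92517) (iv4 F142451)
theorem F374142 : act 7 n188596 = n114111 := d14_2 D92516 D188596 (iv6 D114111) (iv7 F108972) F108976
theorem F374143 : act 1 n114129 = n188596 := d15_1 D114129 F374142 F177717
theorem F374144 : act 0 n114128 = n188596 := d18_2 F337889 (iv4 F347667) F374141 F142462 F319017 D154671 (iv4 F352405) (iv0 D114815) (iv5 F161825)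
def n188597 : Q := act 0 n92521
theorem D188597 : act 0 n92521 = n188597 := rfl
theorem F374145 : act 4 n188597 = n117583 := d20_2 F361673 D188597 (iv3 F368308) (iv1 F368310) F360851 (iv4 D71470) (iv1 D33065) (iv4 F52286) (iv3 F83338) D114266
theorem F374146 : act 6 n188597 = n103015 := d21_5 F69374 (iv1 F63423) D43288 D92521 D188597 (iv5 D103015) (iv1 D47760) (iv5 F74939) (iv6 D47666) (iv1 F291098)
theorem F374147 : act 2 n117584 = n188597 := d15_3 (iv0 D188597) (iv0 F161810) F314508
theorem F374148 : act 3 n188597 = n150000 := d0_2 (iv3 F184183) F374147 (iv2 F316760) (iv3 D159871) F114743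
theorem F374149 : act 7 n188597 = n149997 := d4_2 F314508 F374147 F235976
theorem F374150 : act 1 n187214 = n188597 := d15_1 F369539 F374149 F235976
def n188598 : Q := act 7 n92521
theorem D188598 : act 7 n92521 = n188598 := rfl
theorem F374151 : act 2 n188598 = n187214 := d4_1 D188598 (iv7 D187214) (iv2 F142474)
theorem F374152 : act 3 n188598 = n115863 := d8_1 D188598 (iv7 F180368) (iv3 F316824)
theorem F374153 : act 6 n188598 = n187458 := d14_1 D188598 (iv7 D187458) (iv6 D90156) (iv7 F67895) D92521
theorem F374154 : act 1 n149997 = n188598 := d15_1 (iv0 F235980) (iv7 D188598) F142474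
theorem F374155 : act 1 n188598 = n117584 := d15_1 F374154 (iv7 F314508) (iv2 F235976)
def n188599 : Q := act 4 n92551
theorem D188599 : act 4 n92551 = n188599 := rfl
theorem F374156 : act 2 n188599 = n187169 := d1_1 D188599 F369321 F367131
theorem F374157 : act 3 n188599 = n92783 := d5_1 D188599 (iv4 F370461) (iv3 D187469) D187470 F370467
theorem F374158 : act 6 n188599 = n92780 := d10_2 (iv6 F367130) D188599 F153849
theorem F374159 : act 7 n188599 = n187471 := d11_2 F367134 D188599 (iv4 D187471)
theorem F374160 : act 0 n188599 = n188249 := d20_1 D188599 (iv4 D188249) (iv3 D91119) (iv1 D42671) (iv3 D20139) (iv4 F16850) F31146 (iv4 F32495) D43302 D92551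
theorem F374161 : act 0 n186041 = n188599 := d20_10 (iv4 D188599) (iv1 F142558) F138766 (iv3 F136040) (iv1 F136043) D88701 (iv4 F288975) F288977 (iv4 D186042) D186041
def n188600 : Q := act 6 n92558
theorem D188600 : act 6 n92558 = n188600 := rfl
theorem F374162 : act 2 n188600 = n95381 := d3_1 D188600 (iv6 F367063) (iv2 F142576)
theorem F374163 : act 3 n188600 = n92561 := d7_1 D188600 (iv6 D92561) D92558
theorem F374164 : act 4 n188600 = n101973 := d10_1 D188600 (iv6 F367062) (iv4 F283173)
theorem F374165 : act 7 n188600 = n102637 := d14_2 (iv7 F142577) D188600 F157840 F154426 (iv6 F292350)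
theorem F374166 : act 5 n187118 = n188600 := d6_0 F374163 F293392 D187118
def n188601 : Q := act 4 n92564
theorem D188601 : act 4 n92564 = n188601 := rfl
theorem F374167 : act 2 n188601 = n92567 := d1_1 D188601 (iv4 D92567) (iv2 F142588)
theorem F374168 : act 7 n188601 = n100453 := d11_2 (iv7 F142590) D188601 (iv4 F351153)
theorem F374169 : act 3 n184104 = n188601 := d8_3 F374168 F154511 D184104
theorem F374170 : act 1 n188191 = n188601 := d15_1 D188191 F374168 F351152
theorem F374171 : act 1 n188601 = n188190 := d15_0 (iv0 D188190) (iv7 F142595) (iv2 F374167)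
def n188602 : Q := act 6 n92564
theorem D188602 : act 6 n92564 = n188602 := rfl
theorem F374172 : act 2 n188602 = n92568 := d3_1 D188602 (iv6 D92568) (iv2 F142588)
theorem F374173 : act 3 n188602 = n187476 := d7_1 D188602 (iv6 D187476) (iv3 F142589)
def n188603 : Q := act 0 n92567
theorem D188603 : act 0 n92567 = n188603 := rfl
theorem F374174 : act 1 n100453 = n188603 := d15_0 (iv0 D188603) F142595 (iv2 F351152)
def n188604 : Q := act 1 n92567
theorem D188604 : act 1 n92567 = n188604 := rfl
theorem F374175 : act 1 n188604 = n100453 := d15_1 D188604 (iv7 F374168) F374167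
theorem F374176 : act 3 n100580 = n188604 := d20_3 (iv4 F154653) F345209 (iv4 F354687) (iv1 D188604) (iv3 F370956) (iv4 D187595) F343086 D186770 F367956 (iv1 D101164)
theorem F374177 : act 4 n188259 = n188604 := d20_6 (iv4 F294374) F293267 (iv4 F31973) (iv3 F66894) D91125 D188259 (iv1 D188604) (iv4 D92567) F67967 (iv1 F293451)
def n188605 : Q := act 5 n92567
theorem D188605 : act 5 n92567 = n188605 := rfl
theorem F374178 : act 7 n188605 = n186680 := d13_2 (iv7 F142595) D188605 F367654
def n188606 : Q := act 6 n92567
theorem D188606 : act 6 n92567 = n188606 := rfl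
theorem F374179 : act 4 n188606 = n92568 := d10_1 D188606 (iv6 D92568) D92567
theorem F374180 : act 7 n188606 = n100451 := d14_2 (iv7 F142595) D188606 (iv6 D100451) F154443 (iv6 F351151)
def n188607 : Q := act 0 n92568
theorem D188607 : act 0 n92568 = n188607 := rfl
def n188608 : Q := act 1 n92568
theorem D188608 : act 1 n92568 = n188608 := rfl
theorem F374181 : act 3 n188468 = n188608 := d20_3 (iv4 D92588) D92586 (iv4 F373587) (iv1 D188608) F142596 (iv4 F139098) F293825 F370913 (iv3 F370912) (iv1 F362832)
def n188609 : Q := act 7 n92568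
theorem D188609 : act 7 n92568 = n188609 := rfl
theorem F374182 : act 3 n188609 = n92571 := d8_1 D188609 (iv7 D92571) (iv3 F142596)
theorem F374183 : act 4 n188609 = n100451 := d11_1 D188609 (iv7 F374180) F374179
theorem F374184 : act 6 n188609 = n100449 := d14_1 D188609 (iv7 F351147) (iv6 D91063) (iv7 F67968) D92568
def n188610 : Q := act 3 n92569
theorem D188610 : act 3 n92569 = n188610 := rfl
theorem F374185 : act 7 n188610 = n187482 := d8_2 F366188 D188610 (iv3 D187482)
def n188611 : Q := act 5 n92569
theorem D188611 : act 5 n92569 = n188611 := rfl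
theorem F374186 : act 2 n188611 = n187481 := d2_1 D188611 (iv5 D187481) F366186
theorem F374187 : act 7 n188611 = n187483 := d13_2 F366188 D188611 (iv5 D187483)
def n188612 : Q := act 3 n92570
theorem D188612 : act 3 n92570 = n188612 := rfl
theorem F374188 : act 7 n188612 = n187480 := d8_2 (iv7 F366187) D188612 (iv3 D187480)
def n188613 : Q := act 5 n92570
theorem D188613 : act 5 n92570 = n188613 := rfl
theorem F374189 : act 2 n188613 = n187483 := d2_1 D188613 (iv5 D187483) (iv2 F366189)
theorem F374190 : act 7 n188613 = n187481 := d13_2 (iv7 F366187) D188613 (iv5 D187481)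
theorem F374191 : act 6 n187091 = n188613 := d21_5 (iv5 F74880) (iv1 D41806) D41807 (iv6 F137246) D187091 (iv5 D188613) (iv1 D92570) F292206 (iv6 D47638) (iv1 F74878)
def n188614 : Q := act 6 n92570
theorem D188614 : act 6 n92570 = n188614 := rfl
theorem F374192 : act 2 n188614 = n187484 := d3_1 D188614 (iv6 D187484) (iv2 F366189)
theorem F374193 : act 4 n188614 = n188200 := d10_1 D188614 (iv6 D188200) F367227
def n188615 : Q := act 5 n92572
theorem D188615 : act 5 n92572 = n188615 := rfl
theorem F374194 : act 2 n188615 = n106238 := d2_1 D188615 F163263 (iv2 F142603)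
theorem F374195 : act 3 n188615 = n105764 := d6_1 D188615 F162427 F142809
theorem F374196 : act 6 n188615 = n105762 := d12_2 D92572 D188615 (iv5 D105762) (iv6 F138857) F138854
def n188616 : Q := act 4 n92575
theorem D188616 : act 4 n92575 = n188616 := rfl
theorem F374197 : act 2 n188616 = n187495 := d1_1 D188616 (iv4 D187495) (iv2 F142606)
theorem F374198 : act 3 n188616 = n128701 := d5_1 D188616 F206990 F163728 (iv4 F327040) F177075
theorem F374199 : act 7 n188616 = n128697 := d11_2 F335789 D188616 (iv4 F209517)
def n188617 : Q := act 5 n92578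
theorem D188617 : act 5 n92578 = n188617 := rfl
theorem F374200 : act 3 n188617 = n92580 := d6_1 D188617 (iv5 D92580) D92578
theorem F374201 : act 7 n188617 = n187504 := d13_2 (iv7 F155684) D188617 (iv5 D187504)
theorem F374202 : act 0 n187911 = n188617 := d19_0 (iv5 D188617) F143943 F349190 (iv1 F331246) F331248 (iv4 D74018) (iv3 F104124) F104127 (iv5 D33506) F25721 F11785 (iv1 F50793) D15877 D32974 (iv3 F317410) D67610 (iv5 F165775) (iv4 F335542) D187911
def n188618 : Q := act 5 n92579
theorem D188618 : act 5 n92579 = n188618 := rfl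
theorem F374203 : act 2 n188618 = n187503 := d2_1 D188618 (iv5 D187503) (iv2 F155675)
theorem F374204 : act 3 n188618 = n150764 := d6_1 D188618 (iv5 F340078) F142820
theorem F374205 : act 7 n188618 = n187506 := d13_2 (iv7 F155670) D188618 (iv5 D187506)
theorem F374206 : act 6 n188618 = n183111 := d21_9 (iv5 D95955) D95952 F356682 F356685 (iv1 F163377) D114354 F178322 F205439 D188618 F356683
theorem F374207 : act 4 n154515 = n188618 := d10_3 F374206 F356684 (iv6 F312621)
theorem F374208 : act 0 n154515 = n187873 := d20_7 D42446 (iv1 F139550) F291188 F329719 D150764 (iv3 F374204) (iv4 F374207) (iv4 D187873) (iv3 D90630) (iv1 F65551)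
theorem F374209 : act 1 n187503 = n188032 := d15_0 (iv0 F372186) (iv7 F374205) F374203
def n188619 : Q := act 1 n92580
theorem D188619 : act 1 n92580 = n188619 := rfl
theorem F374210 : act 1 n188619 = n92584 := d15_1 D188619 (iv7 F155678) F155686
theorem F374211 : act 7 n188619 = n92848 := d15_2 F364373 D188619 F143215
theorem F374212 : act 3 n92595 = n188619 := d19_19 (iv1 D188619) (iv5 D92580) D92579 (iv3 F142820) (iv1 F142821) D188018 F372132 (iv3 F189434) (iv1 F178582) F83616 (iv4 F83605) F83604 F50832 D28595 D60155 (iv3 F329720) F292694 D103451 (iv4 F292122)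
theorem F374213 : act 5 n99332 = n188619 := d21_0 (iv1 D188619) (iv5 D92580) F295517 F294555 (iv6 D88521) D88520 (iv1 F349143) (iv5 F373981) (iv6 F373979) (iv1 F370558)
theorem F374214 : act 2 n188619 = n100667 := d2_1 F374213 (iv5 D100667) (iv2 F295272)
def n188620 : Q := act 4 n92580
theorem D188620 : act 4 n92580 = n188620 := rfl
theorem F374215 : act 2 n188620 = n183107 := d1_1 D188620 (iv4 F364060) F155686
theorem F374216 : act 6 n188620 = n182030 := d10_2 F362826 D188620 (iv4 F364049)
theorem F374217 : act 7 n188620 = n185508 := d11_2 (iv7 F155685) D188620 F356717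
theorem F374218 : act 5 n188620 = n183909 := d16_7 F242551 D154515 F374207 (iv5 D188618) (iv4 D92579) D92580 D188620 F338019 (iv2 F353750)
def n188621 : Q := act 5 n92583
theorem D188621 : act 5 n92583 = n188621 := rfl
theorem F374219 : act 2 n188621 = n187506 := d2_1 D188621 (iv5 D187506) F155668
theorem F374220 : act 7 n188621 = n187503 := d13_2 F155676 D188621 (iv5 D187503)
theorem F374221 : act 4 n188621 = n185157 := d16_2 D92583 D188621 (iv5 D185157) (iv4 F353735) (iv5 F374218) (iv4 D188620) (iv5 D92580) (iv7 F155672) (iv2 F155673)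
theorem F374222 : act 6 n149294 = n188621 := d21_5 (iv5 D105907) F77248 D49141 (iv6 F163397) (iv1 F234663) (iv5 D188621) (iv1 F205440) (iv5 F178322) (iv6 D114354) F162646
def n188622 : Q := act 6 n92583
theorem D188622 : act 6 n92583 = n188622 := rfl
theorem F374223 : act 2 n188622 = n187507 := d3_1 D188622 (iv6 D187507) F155668
theorem F374224 : act 3 n188622 = n102580 := d7_1 D188622 F349289 F143348
theorem F374225 : act 4 n188622 = n92585 := d10_1 D188622 (iv6 D92585) D92583
theorem F374226 : act 5 n188622 = n117873 := d12_1 D188622 F317823 D149294 F374222 (iv5 D188621)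
theorem F374227 : act 7 n188622 = n148452 := d14_2 F155676 D188622 (iv6 F335774) F355745 (iv6 F355750)
def n188623 : Q := act 4 n92584
theorem D188623 : act 4 n92584 = n188623 := rfl
theorem F374228 : act 2 n188623 = n185508 := d1_1 D188623 F356717 F155682
theorem F374229 : act 5 n188623 = n154512 := d9_2 D92584 D188623 F242551 D154515 F374207 (iv5 D188618) (iv4 D92579) D92580 D188620 F374218 F353735 D185157 (iv4 F374221) (iv5 D188621) (iv4 D92583)
theorem F374230 : act 7 n188623 = n183107 := d11_2 F155678 D188623 (iv4 F364060)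
def n188624 : Q := act 6 n92584
theorem D188624 : act 6 n92584 = n188624 := rfl
theorem F374231 : act 2 n188624 = n187508 := d3_1 D188624 (iv6 D187508) F155682
theorem F374232 : act 3 n188624 = n114799 := d7_1 D188624 F371370 F286447
theorem F374233 : act 5 n188624 = n116772 := d12_1 D188624 F370393 F370389 (iv6 D92585) D92584
theorem F374234 : act 7 n143763 = n188624 := d13_0 F374233 F182291 D143763
theorem F374235 : act 0 n187923 = n188624 := d17_2 (iv1 F339353) (iv5 F371842) F374233 (iv4 D116772) F308898 (iv0 D72820) (iv5 F106783) (iv0 F322156) (iv4 F339234)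
theorem F374236 : act 6 n184731 = n143763 := d14_5 F374234 (iv6 D188624) (iv7 F155678) (iv6 F364059) (iv7 F364063)
def n188625 : Q := act 3 n92586
theorem D188625 : act 3 n92586 = n188625 := rfl
theorem F374237 : act 7 n188625 = n187511 := d8_2 (iv7 F344309) D188625 (iv3 D187511)
theorem F374238 : act 0 n145257 = n188625 := d20_4 F339944 (iv1 F227015) F339959 (iv3 F228239) (iv3 D188625) (iv4 F373587) (iv1 D188468) (iv4 F373578) F373577 (iv1 F178326)
def n188626 : Q := act 6 n92586
theorem D188626 : act 6 n92586 = n188626 := rfl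
theorem F374239 : act 2 n188626 = n187510 := d3_1 D188626 (iv6 D187510) (iv2 F344311)
def n188627 : Q := act 3 n92587
theorem D188627 : act 3 n92587 = n188627 := rfl
theorem F374240 : act 7 n188627 = n187509 := d8_2 F344310 D188627 (iv3 D187509)
theorem F374241 : act 4 n188627 = n187709 := d20_6 F139146 (iv1 F138950) F138946 (iv3 F138872) (iv1 F142614) D188627 F371261 F345130 F134962 D90410
theorem F374242 : act 0 n188627 = n187735 := d20_10 F371369 F361038 (iv4 F345123) F239755 (iv1 F205637) (iv3 F373577) F373578 D188467 F373581 D188627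
def n188628 : Q := act 6 n92587
theorem D188628 : act 6 n92587 = n188628 := rfl
theorem F374243 : act 2 n188628 = n187512 := d3_1 D188628 (iv6 D187512) F344308
theorem F374244 : act 0 n134910 = n188628 := d21_4 F358475 (iv1 D142081) D142083 F332720 (iv6 D188628) (iv5 F145090) F364350 (iv5 F292119) F364352 F358477
def n188629 : Q := act 3 n92588
theorem D188629 : act 3 n92588 = n188629 := rfl
theorem F374245 : act 4 n188629 = n92613 := d5_2 D92588 D188629 (iv3 D92613) (iv4 D43324) (iv3 F67978)
theorem F374246 : act 5 n188629 = n185150 := d6_2 (iv5 F362833) D188629 F287501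
theorem F374247 : act 7 n188629 = n188285 := d8_2 F362829 D188629 F372953
def n188630 : Q := act 0 n92593
theorem D188630 : act 0 n92593 = n188630 := rfl
theorem F374248 : act 5 n188630 = n159843 := d17_3 (iv1 F177348) D92593 D188630 (iv4 F369815) (iv5 F372086) (iv0 D188011) (iv5 D90725) F177357 F75438
theorem F374249 : act 3 n188630 = n184498 := d20_5 D92975 F143391 (iv4 D92596) (iv3 F142630) D188630 (iv4 D184498) (iv1 F340065) (iv4 D93015) F68396 (iv1 F68355)
theorem F374250 : act 1 n92871 = n188630 := d15_0 (iv0 D188630) F142631 (iv2 F143254)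
theorem F374251 : act 4 n188035 = n188630 := d20_0 (iv1 F374250) (iv4 F360964) (iv3 D159355) F114207 D76292 (iv4 F178308) F365267 (iv4 F372187) (iv3 D188037) D188035
theorem F374252 : act 0 n184498 = n184506 := d20_10 F364372 (iv1 D100549) (iv4 F340056) (iv3 D90759) (iv1 D42498) (iv3 F65632) D90751 D188035 F374251 F374249
theorem F374253 : act 2 n92875 = n188630 := d2_3 F374248 (iv2 F283545) F161636
theorem F374254 : act 7 n92874 = n188630 := d15_2 (iv0 F251907) F251908 (iv2 F374253)
def n188631 : Q := act 1 n92593
theorem D188631 : act 1 n92593 = n188631 := rfl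
theorem F374255 : act 1 n188631 = n92871 := d15_1 D188631 (iv7 F251906) F251904
theorem F374256 : act 7 n188631 = n92875 := d15_2 (iv0 D188630) D188631 F374253
theorem F374257 : act 2 n92874 = n188631 := d4_3 F374256 F374253 (iv7 F374254)
theorem F374258 : act 3 n187532 = n188631 := d8_3 F374256 F251701 (iv7 F370709)
theorem F374259 : act 4 n188631 = n188036 := d20_6 D90757 F139683 (iv4 D90311) (iv3 F138922) D187532 F374258 (iv1 D188036) (iv4 D90751) F65632 D42497
def n188632 : Q := act 4 n92593
theorem D188632 : act 4 n92593 = n188632 := rfl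
theorem F374260 : act 2 n188632 = n115053 := d1_1 D188632 (iv4 F360966) F251904
theorem F374261 : act 7 n188632 = n92876 := d11_2 (iv7 F142631) D188632 (iv4 D92876)
def n188633 : Q := act 6 n92593
theorem D188633 : act 6 n92593 = n188633 := rfl
theorem F374262 : act 3 n188633 = n92597 := d7_1 D188633 (iv6 D92597) (iv3 F142630)
theorem F374263 : act 5 n188633 = n94350 := d12_1 D188633 (iv6 D94350) F292529 (iv6 F292530) D92593
theorem F374264 : act 7 n188633 = n115031 := d14_2 (iv7 F142631) D188633 (iv6 D115031) (iv7 F177454) F177453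
def n188634 : Q := act 6 n92595
theorem D188634 : act 6 n92595 = n188634 := rfl
theorem F374265 : act 2 n188634 = n92852 := d3_1 D188634 (iv6 D92852) F142638
theorem F374266 : act 5 n188634 = n92793 := d12_1 D188634 (iv6 D92793) F68256 F292078 (iv5 F292123)
theorem F374267 : act 0 n188634 = n92821 := d21_4 D43464 (iv1 F291339) (iv5 F292123) D188634 (iv6 D92821) (iv5 D43433) (iv1 D20534) D20535 F32638 D20547
def n188635 : Q := act 3 n92596
theorem D188635 : act 3 n92596 = n188635 := rfl
theorem F374268 : act 5 n188635 = n100986 := d6_2 (iv5 F291272) D188635 F155600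
theorem F374269 : act 7 n188635 = n92881 := d8_2 (iv7 F142640) D188635 (iv3 D92881)
theorem F374270 : act 0 n188635 = n154744 := d19_4 D20452 D43318 D92596 D188635 (iv5 D154744) (iv4 F365601) F365600 (iv1 D71289) D71291 (iv4 F323337) F140417 (iv1 F177354) D187709 (iv4 F374241) (iv3 D188627) (iv1 D92587) (iv5 D43315) F32503 F32502
def n188636 : Q := act 6 n92596
theorem D188636 : act 6 n92596 = n188636 := rfl
theorem F374271 : act 2 n188636 = n92857 := d3_1 D188636 (iv6 D92857) (iv2 F142639)
theorem F374272 : act 4 n188636 = n92597 := d10_1 D188636 (iv6 D92597) D92596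
def n188637 : Q := act 0 n92597
theorem D188637 : act 0 n92597 = n188637 := rfl
def n188638 : Q := act 1 n92597
theorem D188638 : act 1 n92597 = n188638 := rfl
theorem F374273 : act 1 n188638 = n92861 := d15_1 D188638 (iv7 D92861) (iv2 F142641)
def n188639 : Q := act 7 n92597
theorem D188639 : act 7 n92597 = n188639 := rfl
theorem F374274 : act 2 n188639 = n92861 := d4_1 D188639 (iv7 D92861) (iv2 F142641)
theorem F374275 : act 3 n188639 = n115031 := d8_1 D188639 (iv7 F374264) F374262
theorem F374276 : act 5 n188639 = n94356 := d13_1 D188639 (iv7 D94356) (iv5 F142642)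
theorem F374277 : act 6 n188639 = n92887 := d14_1 D188639 (iv7 D92887) (iv6 D43459) (iv7 F67989) D92597
theorem F374278 : act 1 n92861 = n188637 := d15_0 (iv0 D188637) D188639 F374274
theorem F374279 : act 1 n92859 = n188639 := d15_1 D92859 (iv7 D188639) F142641
theorem F374280 : act 1 n188639 = n92858 := d15_0 (iv0 D92858) D92861 (iv2 F374274)
def n188640 : Q := act 5 n92600
theorem D188640 : act 5 n92600 = n188640 := rfl
theorem F374281 : act 2 n188640 = n92831 := d2_1 D188640 (iv5 D92831) (iv2 F154063)
theorem F374282 : act 4 n188640 = n105913 := d9_1 D188640 (iv5 F166768) F166769 F94967 (iv4 F162677) F335917 F139311 D90513 F329721 (iv5 D76650) F55648 D35040 D76657 D160071 (iv4 F335919)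
theorem F374283 : act 7 n188640 = n92772 := d13_2 (iv7 F157715) D188640 (iv5 D92772)
theorem F374284 : act 0 n188640 = n92608 := d17_2 (iv1 F142652) D188640 F142663 F137316 F328867 F322097 D65476 (iv0 F328870) F73282
theorem F374285 : act 1 n188640 = n92891 := d17_6 (iv1 F237314) (iv5 D150754) (iv1 F114987) D160071 (iv4 F335919) D188640 (iv5 F369153) F369156 F349214
def n188641 : Q := act 6 n92603
theorem D188641 : act 6 n92603 = n188641 := rfl
theorem F374286 : act 2 n188641 = n92883 := d3_1 D188641 (iv6 D92883) (iv2 F142656)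
theorem F374287 : act 4 n188641 = n92604 := d10_1 D188641 (iv6 D92604) D92603
def n188642 : Q := act 0 n92604
theorem D188642 : act 0 n92604 = n188642 := rfl
theorem F374288 : act 5 n188642 = n114437 := d19_1 D188642 (iv4 F346726) F346725 F337714 F319972 (iv4 F353062) F353061 (iv1 F326114) F341282 F98667 (iv3 F98665) D134832 F216987 F203336 (iv3 F218366) F342163 F251541 F360960 F238395
theorem F374289 : act 2 n92884 = n188642 := d15_3 (iv0 D188642) (iv0 F251200) F364519
theorem F374290 : act 7 n188642 = n92885 := d4_2 F364519 F374289 (iv2 F251197)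
theorem F374291 : act 1 n92887 = n188642 := d15_1 F251201 F374290 (iv2 F251197)
def n188643 : Q := act 7 n92604
theorem D188643 : act 7 n92604 = n188643 := rfl
theorem F374292 : act 2 n188643 = n92887 := d4_1 D188643 (iv7 D92887) (iv2 F142658)
theorem F374293 : act 3 n188643 = n150770 := d8_1 D188643 (iv7 F238459) F238395
theorem F374294 : act 6 n188643 = n92861 := d14_1 D188643 (iv7 D92861) (iv6 D43447) (iv7 F67996) D92604
theorem F374295 : act 1 n92885 = n188643 := d15_1 D92885 (iv7 D188643) F142658
theorem F374296 : act 1 n188643 = n92884 := d15_1 F374295 (iv7 F364519) F251197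
def n188644 : Q := act 4 n92605
theorem D188644 : act 4 n92605 = n188644 := rfl
theorem F374297 : act 2 n188644 = n159343 := d1_1 D188644 F365412 (iv2 F251914)
theorem F374298 : act 7 n188644 = n92906 := d11_2 (iv7 F142659) D188644 (iv4 D92906)
theorem F374299 : act 1 n159343 = n159849 := d15_0 F251988 (iv7 F374298) F374297
def n188645 : Q := act 3 n92606
theorem D188645 : act 3 n92606 = n188645 := rfl
theorem F374300 : act 7 n188645 = n92909 := d8_2 (iv7 F142661) D188645 (iv3 D92909)
def n188646 : Q := act 6 n92606
theorem D188646 : act 6 n92606 = n188646 := rfl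
theorem F374301 : act 2 n188646 = n92898 := d3_1 D188646 (iv6 D92898) (iv2 F142660)
theorem F374302 : act 4 n188646 = n92607 := d10_1 D188646 (iv6 D92607) D92606
def n188647 : Q := act 0 n92607
theorem D188647 : act 0 n92607 = n188647 := rfl
def n188648 : Q := act 1 n92607
theorem D188648 : act 1 n92607 = n188648 := rfl
theorem F374303 : act 1 n188648 = n92902 := d15_1 D188648 (iv7 D92902) (iv2 F142662)
def n188649 : Q := act 7 n92607
theorem D188649 : act 7 n92607 = n188649 := rfl
theorem F374304 : act 2 n188649 = n92902 := d4_1 D188649 (iv7 D92902) (iv2 F142662)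
theorem F374305 : act 6 n188649 = n92915 := d14_1 D188649 (iv7 D92915) (iv6 D43470) (iv7 F68328) D92607
theorem F374306 : act 1 n92902 = n188647 := d15_0 (iv0 D188647) D188649 F374304
theorem F374307 : act 1 n92900 = n188649 := d15_1 D92900 (iv7 D188649) F142662
theorem F374308 : act 1 n188649 = n92899 := d15_0 (iv0 D92899) D92902 (iv2 F374304)
def n188650 : Q := act 6 n92608
theorem D188650 : act 6 n92608 = n188650 := rfl
theorem F374309 : act 2 n188650 = n155577 := d3_1 D188650 (iv6 D155577) (iv2 F329558)
theorem F374310 : act 3 n188650 = n92610 := d7_1 D188650 (iv6 D92610) D92608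
theorem F374311 : act 4 n188650 = n151366 := d10_1 D188650 (iv6 D151366) (iv4 F329559)
theorem F374312 : act 5 n188650 = n93906 := d12_1 D188650 (iv6 D93906) (iv5 D43896) D43897 (iv5 F142663)
def n188651 : Q := act 6 n92609
theorem D188651 : act 6 n92609 = n188651 := rfl
theorem F374313 : act 2 n188651 = n92911 := d3_1 D188651 (iv6 D92911) (iv2 F142665)
theorem F374314 : act 4 n188651 = n92610 := d10_1 D188651 (iv6 D92610) D92609
def n188652 : Q := act 0 n92610
theorem D188652 : act 0 n92610 = n188652 := rfl
def n188653 : Q := act 1 n92610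
theorem D188653 : act 1 n92610 = n188653 := rfl
theorem F374315 : act 1 n188653 = n92915 := d15_1 D188653 (iv7 D92915) (iv2 F142667)
def n188654 : Q := act 7 n92610
theorem D188654 : act 7 n92610 = n188654 := rfl
theorem F374316 : act 2 n188654 = n92915 := d4_1 D188654 (iv7 D92915) (iv2 F142667)
theorem F374317 : act 5 n188654 = n93920 := d13_1 D188654 (iv7 D93920) (iv5 F142668)
theorem F374318 : act 6 n188654 = n92902 := d14_1 D188654 (iv7 D92902) (iv6 D43465) (iv7 F68325) D92610
theorem F374319 : act 1 n92915 = n188652 := d15_0 (iv0 D188652) D188654 F374316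
theorem F374320 : act 1 n92913 = n188654 := d15_1 D92913 (iv7 D188654) F142667
theorem F374321 : act 1 n188654 = n92912 := d15_0 (iv0 D92912) D92915 (iv2 F374316)
def n188655 : Q := act 6 n92612
theorem D188655 : act 6 n92612 = n188655 := rfl
theorem F374322 : act 2 n188655 = n92921 := d3_1 D188655 (iv6 D92921) (iv2 F142840)
theorem F374323 : act 4 n188655 = n94028 := d10_1 D188655 F144860 F142672
def n188656 : Q := act 0 n92613
theorem D188656 : act 0 n92613 = n188656 := rfl
theorem F374324 : act 4 n188656 = n188612 := d20_8 (iv4 F139098) F293825 F370913 (iv3 F370912) (iv1 F362832) D188629 F374245 D188656 (iv3 D188612) (iv1 D92570)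
def n188657 : Q := act 1 n92613
theorem D188657 : act 1 n92613 = n188657 := rfl
def n188658 : Q := act 2 n92613
theorem D188658 : act 2 n92613 = n188658 := rfl
theorem F374325 : act 3 n188658 = n92924 := d0_2 D92613 D188658 (iv2 D92924) (iv3 D43473) (iv2 F67999)
theorem F374326 : act 6 n188658 = n153785 := d3_2 F371571 D188658 (iv2 F371570)
def n188659 : Q := act 5 n92613
theorem D188659 : act 5 n92613 = n188659 := rfl
theorem F374327 : act 3 n188659 = n92614 := d6_1 D188659 (iv5 D92614) D92613
theorem F374328 : act 4 n120075 = n188659 := d5_0 F374327 F142674 (iv3 F292956) (iv4 F134920) (iv3 F354185)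
theorem F374329 : act 7 n93105 = n188659 := d8_0 F374327 (iv7 F142675) D93105
theorem F374330 : act 6 n188659 = n163181 := d10_2 (iv6 F347901) F374328 (iv4 D163181)
def n188660 : Q := act 7 n92613
theorem D188660 : act 7 n92613 = n188660 := rfl
theorem F374331 : act 3 n188660 = n92615 := d8_1 D188660 (iv7 D92615) D92613
theorem F374332 : act 4 n188660 = n188285 := d11_1 D188660 (iv7 F374247) F374245
theorem F374333 : act 5 n188660 = n93105 := d13_1 D188660 F374329 (iv5 D188659)
theorem F374334 : act 6 n188284 = n188660 := d10_0 F374332 (iv6 D188285) D188284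
theorem F374335 : act 0 n188285 = n154774 := d20_7 (iv4 F205966) F205967 (iv4 F339950) (iv3 D92916) (iv1 F142680) (iv3 F374331) F374332 (iv4 D154774) F110086 D73394
theorem F374336 : act 6 n154774 = n135031 := d21_5 F368141 (iv1 D91146) D91148 D188285 F374335 (iv5 D135031) (iv1 D63463) D63465 D135038 (iv1 F368140)
theorem F374337 : act 4 n135031 = n154775 := d10_1 F374336 (iv6 D154775) D154774
def n188661 : Q := act 6 n92614
theorem D188661 : act 6 n92614 = n188661 := rfl
theorem F374338 : act 2 n188661 = n92929 := d3_1 D188661 (iv6 D92929) (iv2 F142673)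
theorem F374339 : act 3 n188661 = n163181 := d7_1 D188661 (iv6 F374330) F374327
theorem F374340 : act 4 n188661 = n93110 := d10_1 D188661 (iv6 D93110) (iv4 F142674)
def n188662 : Q := act 6 n92615
theorem D188662 : act 6 n92615 = n188662 := rfl
theorem F374341 : act 2 n188662 = n92930 := d3_1 D188662 (iv6 D92930) (iv2 F142676)
theorem F374342 : act 3 n188662 = n188284 := d7_1 D188662 F374334 F374331
theorem F374343 : act 4 n188662 = n92616 := d10_1 D188662 (iv6 D92616) (iv4 F142677)
def n188663 : Q := act 0 n92616
theorem D188663 : act 0 n92616 = n188663 := rfl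
theorem F374344 : act 5 n188663 = n170875 := d19_1 D188663 (iv4 D170875) F126259 D81917 F126260 (iv4 D47667) F36001 (iv1 F31936) (iv5 D20116) (iv4 D9491) (iv3 D4293) (iv1 D1818) D1819 D4299 D9504 D20142 D42682 D91153 F362827
theorem F374345 : act 1 n92828 = n188663 := d15_0 (iv0 D188663) (iv7 F371575) F371572
def n188664 : Q := act 1 n92616
theorem D188664 : act 1 n92616 = n188664 := rfl
theorem F374346 : act 1 n188664 = n92828 := d15_1 D188664 F143194 (iv2 F142681)
def n188665 : Q := act 6 n92619
theorem D188665 : act 6 n92619 = n188665 := rfl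
theorem F374347 : act 2 n188665 = n92953 := d3_1 D188665 (iv6 D92953) (iv2 F142693)
theorem F374348 : act 3 n188665 = n188097 := d7_1 D188665 (iv6 D188097) (iv3 F142694)
theorem F374349 : act 5 n188665 = n187559 := d12_1 D188665 (iv6 D187559) (iv5 D90325) (iv6 F68013) D92619
def n188666 : Q := act 0 n92622
theorem D188666 : act 0 n92622 = n188666 := rfl
theorem F374350 : act 5 n188666 = n100673 := d17_1 D188666 (iv1 F369203) F369200 F345123 F134999 F134958 D184466 F373334 F373333
theorem F374351 : act 3 n188666 = n146428 := d20_5 F292122 (iv1 F291998) (iv4 D92625) (iv3 F142710) D188666 (iv4 D146428) (iv1 F107619) (iv4 F329486) F142654 (iv1 F142635)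
theorem F374352 : act 2 n93014 = n188666 := d15_3 (iv0 D188666) (iv0 F366993) (iv7 F143456)
theorem F374353 : act 1 n93011 = n188666 := d15_0 (iv0 D188666) F142711 (iv2 F143450)
theorem F374354 : act 7 n188666 = n93013 := d15_2 (iv0 F159978) F374353 (iv2 F143457)
theorem F374355 : act 6 n152273 = n188666 := d21_9 (iv5 D93011) F140421 D87972 F134963 (iv1 D71846) (iv6 F108283) (iv5 D71841) D71839 D152273 (iv1 F374353)
def n188667 : Q := act 6 n92622
theorem D188667 : act 6 n92622 = n188667 := rfl
theorem F374356 : act 3 n188667 = n92626 := d7_1 D188667 (iv6 D92626) (iv3 F142710)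
theorem F374357 : act 5 n188667 = n186054 := d12_1 D188667 (iv6 D186054) (iv5 D88620) (iv6 F291524) D92622
def n188668 : Q := act 6 n92625
theorem D188668 : act 6 n92625 = n188668 := rfl
theorem F374358 : act 2 n188668 = n92978 := d3_1 D188668 (iv6 D92978) (iv2 F142718)
theorem F374359 : act 3 n188668 = n109211 := d7_1 D188668 F351227 (iv3 F362358)
theorem F374360 : act 4 n188668 = n92626 := d10_1 D188668 (iv6 D92626) D92625
theorem F374361 : act 5 n188668 = n109209 := d12_1 D188668 F351226 (iv5 D106865) F329668 (iv5 F291999)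
def n188669 : Q := act 0 n92626
theorem D188669 : act 0 n92626 = n188669 := rfl
theorem F374362 : act 5 n188669 = n130617 := d17_3 (iv1 D186056) (iv5 F292000) D188669 F209195 F95778 (iv0 F329288) (iv5 F352910) (iv0 F352912) (iv4 F353353)
theorem F374363 : act 3 n130618 = n188669 := d6_3 F374362 (iv3 D130617) D130618
def n188670 : Q := act 1 n92626
theorem D188670 : act 1 n92626 = n188670 := rfl
theorem F374364 : act 1 n188670 = n92982 := d15_1 D188670 (iv7 D92982) (iv2 F142720)
def n188671 : Q := act 7 n92626
theorem D188671 : act 7 n92626 = n188671 := rfl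
theorem F374365 : act 2 n188671 = n92982 := d4_1 D188671 (iv7 D92982) (iv2 F142720)
theorem F374366 : act 5 n188671 = n186057 := d13_1 D188671 (iv7 D186057) (iv5 F292000)
theorem F374367 : act 6 n188671 = n93024 := d14_1 D188671 (iv7 D93024) (iv6 D43523) (iv7 F68018) D92626
theorem F374368 : act 1 n92982 = n188669 := d15_0 (iv0 D188669) D188671 F374365
theorem F374369 : act 1 n92980 = n188671 := d15_1 D92980 (iv7 D188671) F142720
theorem E103320 : n186433 = n133404 := ((c17_5 (iv1 F215064) F352832 (iv1 D112902) (iv5 F97669) (iv4 F214503) (iv5 F292044) F374369 F374366 F288672 (iv4 F352837))).symm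
theorem F374370 : act 5 n133404 = n92980 := (sb E103320 (iv5 F292044))
theorem F374371 : act 6 n133404 = n88794 := (sb E103320 (iv6 D186433))
theorem E103321 : n186430 = n133406 := (c7_2 F374371 D186430 (iv6 D133406) D133404)
theorem F374372 : act 3 n133406 = n88794 := (sb E103321 (iv3 D186430))
theorem E103322 : n186431 = n133418 := (c10_2 F374371 D186431 (iv6 D133418) (iv4 F214503))
theorem F374373 : act 4 n133418 = n88794 := (sb E103322 (iv4 D186431))
theorem F374374 : act 4 n186429 = n186953 := d1_2 F374373 D186429 F368645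
theorem E103323 : n186436 = n176762 := ((c11_3 F289228 F374374 (iv7 F368648) (iv4 D186436))).symm
theorem F374375 : act 4 n176762 = n88795 := (sb E103323 (iv4 D186436))
theorem F374376 : act 0 n151942 = n186435 := d20_4 (iv4 D107915) F78823 D71638 D151942 (iv3 D186435) (iv4 F374375) (iv1 D176762) (iv4 F292787) (iv3 F145425) F360280
theorem F374377 : act 3 n92980 = n123986 := d6_1 F374370 F314242 D133404
theorem F374378 : act 7 n92980 = n188669 := d13_2 (iv7 F214504) F374370 F374362
theorem F374379 : act 2 n188669 = n92979 := d15_3 (iv0 D92979) D92980 F374378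
theorem F374380 : act 2 n92980 = n188670 := d15_3 F374364 F374368 (iv7 F374378)
theorem F374381 : act 7 n188670 = n92979 := d4_2 (iv7 F374378) F374380 (iv2 F374379)
theorem F374382 : act 1 n188671 = n92979 := d15_1 F374369 (iv7 F374381) (iv2 F374380)
theorem F374383 : act 4 n123991 = n92980 := d5_0 F374377 (iv4 D123986) (iv3 D57763) D57764 D123991
theorem F374384 : act 1 n188636 = n123991 := d18_6 (iv1 F288671) F352833 (iv1 F352939) F145481 (iv5 F142642) (iv4 F374272) F374383 F374369 F374366
def n188672 : Q := act 0 n92633
theorem D188672 : act 0 n92633 = n188672 := rfl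
theorem F374385 : act 5 n188672 = n144267 := d17_1 D188672 (iv1 D144267) (iv5 F305029) F345133 (iv5 F294312) F345172 (iv5 F165775) (iv0 D107459) (iv4 F339907)
theorem F374386 : act 4 n188672 = n126164 := d18_1 D188672 (iv1 F202866) (iv4 F335540) (iv5 D90302) F65159 F176021 F70039 (iv0 F176019) D92633
theorem F374387 : act 2 n92964 = n188672 := d15_3 (iv0 D188672) (iv0 F205421) (iv7 F205483)
theorem F374388 : act 1 n92961 = n188672 := d15_0 (iv0 D188672) F142741 (iv2 F143375)
theorem F374389 : act 7 n188672 = n92963 := d15_2 (iv0 F205422) F374388 F205463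
theorem F374390 : act 3 n187567 = n188672 := d8_3 F374389 (iv3 F251140) (iv7 F370835)
theorem F374391 : act 6 n113638 = n188672 := d14_5 F374389 F205465 (iv7 F178214) D127784 (iv7 F205536)
def n188673 : Q := act 6 n92634
theorem D188673 : act 6 n92634 = n188673 := rfl
theorem F374392 : act 2 n188673 = n93020 := d3_1 D188673 (iv6 D93020) (iv2 F142742)
theorem F374393 : act 4 n188673 = n92635 := d10_1 D188673 (iv6 D92635) D92634
def n188674 : Q := act 0 n92635
theorem D188674 : act 0 n92635 = n188674 := rfl
theorem F374394 : act 5 n188674 = n146572 := d19_1 D188674 F321088 F318962 (iv1 F317217) (iv5 D39256) F41786 D27098 F121292 (iv5 D56183) (iv4 F298923) D38692 F331856 (iv5 F273570) F364906 (iv3 D107275) F104356 D49583 D107315 F339910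
theorem F374395 : act 1 n185835 = n178360 := d17_8 D178358 (iv5 F345525) (iv1 D166153) F320068 (iv4 F321088) (iv5 F374394) (iv0 D188674) (iv5 F288221) (iv4 D178360)
theorem F374396 : act 3 n146573 = n188674 := d6_3 F374394 (iv3 D146572) D146573
theorem F374397 : act 7 n93022 = n188674 := d13_0 F374394 (iv7 F373914) F373913
theorem F374398 : act 2 n188674 = n93021 := d15_3 (iv0 D93021) D93022 F374397
def n188675 : Q := act 1 n92635
theorem D188675 : act 1 n92635 = n188675 := rfl
theorem F374399 : act 1 n188675 = n93024 := d15_1 D188675 (iv7 D93024) (iv2 F142744)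
theorem F374400 : act 7 n188675 = n93021 := d15_2 (iv0 D188674) D188675 (iv2 F374398)
theorem F374401 : act 3 n114057 = n188675 := d19_19 (iv1 D188675) (iv5 F288221) (iv4 F354322) (iv3 D166516) (iv1 F262014) (iv5 D166457) F324252 F326952 F169526 F326951 (iv4 F301938) (iv3 D150626) (iv1 F123871) F315621 (iv4 F184790) (iv3 D117846) D117845 (iv5 F355573) (iv4 F355576)
theorem F374402 : act 6 n114188 = n188675 := d21_3 (iv5 D52733) F83288 D114188 (iv1 D188675) (iv6 D92635) (iv5 D43335) F63000 D22488 (iv6 F73971) (iv1 F83327)
theorem F374403 : act 5 n114053 = n188675 := d21_6 (iv5 D41819) F35822 D19912 (iv6 F65115) F83174 D114053 (iv1 D188675) (iv5 F288221) (iv6 D185835) F135510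
theorem F374404 : act 2 n188675 = n93022 := d2_1 F374403 (iv5 F373913) F373910
theorem F374405 : act 1 n93024 = n188674 := d15_1 F374399 (iv7 F374397) (iv2 F374404)
def n188676 : Q := act 7 n92635
theorem D188676 : act 7 n92635 = n188676 := rfl
theorem F374406 : act 2 n188676 = n93024 := d4_1 D188676 (iv7 D93024) (iv2 F142744)
theorem F374407 : act 3 n188676 = n114337 := d8_1 D188676 (iv7 F350589) F339910
theorem F374408 : act 6 n188676 = n92982 := d14_1 D188676 (iv7 D92982) (iv6 D43497) (iv7 F68031) D92635
theorem F374409 : act 1 n93022 = n188676 := d15_1 D93022 (iv7 D188676) F142744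
theorem F374410 : act 1 n188676 = n93021 := d15_1 F374409 (iv7 F374400) F374404
def n188677 : Q := act 1 n92646
theorem D188677 : act 1 n92646 = n188677 := rfl
theorem F374411 : act 7 n188677 = n93065 := d15_2 (iv0 F292891) D188677 F357531
theorem F374412 : act 5 n188677 = n100787 := d18_9 (iv1 F154886) (iv4 F329989) (iv1 D100801) (iv4 F329991) F134917 (iv4 F293317) F293316 F293559 D188677
theorem F374413 : act 4 n176552 = n188677 := d20_6 F34161 (iv1 F63360) (iv4 F64813) (iv3 F137996) D187309 (iv3 F369787) (iv1 D188677) (iv4 F293559) (iv3 D97442) (iv1 D45501)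
theorem F374414 : act 6 n101983 = n188677 := d21_3 F328242 (iv1 F327923) D101983 (iv1 D188677) F292893 F137043 (iv1 F357248) F154840 F289585 (iv1 F73600)
theorem F374415 : act 2 n188677 = n93064 := d3_1 F374414 F345036 (iv2 F328324)
theorem F374416 : act 0 n93066 = n188677 := d21_4 (iv5 F357146) (iv1 F289506) (iv5 D186565) (iv6 F294161) (iv6 F374414) (iv5 D101983) (iv1 D47373) (iv5 D22756) D22757 D47376
def n188678 : Q := act 2 n92646
theorem D188678 : act 2 n92646 = n188678 := rfl
theorem F374417 : act 3 n188678 = n93076 := d0_2 D92646 D188678 (iv2 D93076) (iv3 D43551) F68054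
theorem F374418 : act 4 n188678 = n188432 := d1_2 F293559 D188678 (iv2 F373448)
theorem F374419 : act 5 n188678 = n103905 := d2_2 (iv5 F292892) D188678 F349161
theorem F374420 : act 6 n188678 = n186895 := d3_2 (iv6 F292893) D188678 F368444
theorem F374421 : act 7 n188678 = n93066 := d4_2 (iv7 F142773) D188678 (iv2 D93066)
theorem F374422 : act 1 n188678 = n93064 := d15_0 (iv0 D93064) (iv7 F142773) D188678
theorem F374423 : act 1 n93065 = n188678 := d15_0 F374422 F345037 (iv2 F357531)
def n188679 : Q := act 3 n92648
theorem D188679 : act 3 n92648 = n188679 := rfl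
theorem F374424 : act 2 n188679 = n151381 := d0_1 D188679 F238098 (iv2 F186693) F335908 (iv2 F292922)
theorem F374425 : act 5 n188679 = n151380 := d6_2 (iv5 F292923) D188679 (iv3 F359359)
theorem F374426 : act 6 n188679 = n95754 := d7_2 (iv6 F292924) D188679 F147449
theorem F374427 : act 4 n188679 = n95756 := d20_6 (iv4 D43339) (iv1 D20466) D20467 D43342 D92648 D188679 F369641 F138086 (iv3 D89580) F291164
def n188680 : Q := act 4 n92648
theorem D188680 : act 4 n92648 = n188680 := rfl
theorem F374428 : act 2 n188680 = n186500 := d1_1 D188680 F289386 (iv2 F292922)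
theorem F374429 : act 6 n188680 = n182984 := d10_2 (iv6 F292924) D188680 F349053
theorem F374430 : act 3 n188680 = n183123 := d20_9 F369149 F356185 F293559 (iv3 D92646) (iv1 D43341) D43342 F68044 D92648 D188680 (iv1 F369151)
theorem F374431 : act 0 n139557 = n188680 := d20_10 (iv4 D188680) F292921 F158569 (iv3 D103325) (iv1 F293708) D93089 F294640 F336646 F329516 (iv3 F222709)
theorem F374432 : act 6 n183123 = n186669 := d7_2 (iv6 F374429) F374430 (iv3 F367603)
def n188681 : Q := act 3 n92649
theorem D188681 : act 3 n92649 = n188681 := rfl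
theorem F374433 : act 5 n188681 = n117320 := d6_2 (iv5 F292928) D188681 (iv3 F352997)
theorem F374434 : act 7 n188681 = n118699 := d8_2 (iv7 F292930) D188681 F335908
theorem F374435 : act 4 n188681 = n93908 := d20_6 (iv4 D23046) D23044 D47875 D103325 (iv1 F292926) D188681 (iv1 D93908) F137316 F293199 (iv1 D47878)
theorem F374436 : act 2 n146361 = n188681 := d16_9 F374435 F360969 (iv4 D71329) (iv5 D33005) F25376 D15911 D33016 D71355 (iv7 F229689)
theorem F374437 : act 1 n105941 = n188681 := d17_8 (iv1 D93908) (iv5 F142663) F157313 (iv5 D90513) (iv4 F139311) (iv5 F335917) (iv0 D105939) D105941 F374435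
theorem F374438 : act 0 n150754 = n188681 := d18_0 F374435 (iv1 D93908) F137316 F328867 (iv4 D55222) (iv0 F55653) D76657 F114987 D150754
def n188682 : Q := act 4 n92649
theorem D188682 : act 4 n92649 = n188682 := rfl
theorem F374439 : act 7 n188682 = n186500 := d11_2 (iv7 F292930) D188682 F289386
theorem F374440 : act 0 n188682 = n139557 := d17_0 (iv5 D139557) (iv1 F365275) (iv5 D99521) F73522 D46528 (iv0 F292932) (iv5 D92651) D92649 D188682
def n188683 : Q := act 3 n92654
theorem D188683 : act 3 n92654 = n188683 := rfl
theorem F374441 : act 5 n188683 = n92926 := d6_2 (iv5 F142787) D188683 F143290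
theorem F374442 : act 7 n188683 = n92925 := d8_2 F142788 D188683 F143289
def n188684 : Q := act 6 n92654
theorem D188684 : act 6 n92654 = n188684 := rfl
theorem F374443 : act 2 n188684 = n93106 := d3_1 D188684 (iv6 D93106) (iv2 F142786)
theorem F374444 : act 4 n188684 = n92655 := d10_1 D188684 (iv6 D92655) D92654
theorem F374445 : act 3 n101422 = n188684 := d5_5 F374444 (iv3 F356754) (iv4 D102584) (iv3 F292403) F292404
theorem F374446 : act 6 n188683 = n101422 := d7_0 F374445 (iv6 D188684) D188683
theorem F374447 : act 0 n108433 = n188684 := d20_4 (iv4 D108440) (iv1 D50071) (iv4 F79259) (iv3 F167644) (iv3 F374445) (iv4 F292404) F292401 F156000 F352706 (iv1 F223637)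
theorem F374448 : act 0 n100207 = n111130 := d18_0 F172343 F374447 F374444 F142790 (iv4 F68574) D93306 (iv4 F359434) F359436 (iv5 F154150)
theorem F374449 : act 0 n187555 = n108432 := d21_1 (iv5 F370795) (iv5 D108432) D108433 F374447 (iv6 D188684) F142787 (iv1 F142671) F349182 (iv6 F364386) (iv1 F167826)
theorem F374450 : act 5 n146975 = n111139 := d17_7 (iv1 F167826) (iv5 F370795) F374449 (iv5 D108432) (iv4 F80849) D111129 (iv0 F364976) (iv0 F329723) F329727
theorem F374451 : act 3 n111139 = n146976 := d6_1 F374450 (iv5 D146976) D146975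
theorem F374452 : act 0 n111130 = n99321 := d21_4 (iv5 F374450) F364976 (iv5 D111129) D111130 (iv6 D99321) F291851 (iv1 F291691) D41837 (iv6 F137324) F329723
theorem F374453 : act 6 n146976 = n141129 := d7_2 (iv6 F350416) F374451 (iv3 D141129)
def n188685 : Q := act 0 n92655
theorem D188685 : act 0 n92655 = n188685 := rfl
def n188686 : Q := act 1 n92655
theorem D188686 : act 1 n92655 = n188686 := rfl
theorem F374454 : act 1 n188686 = n93109 := d15_1 D188686 (iv7 D93109) (iv2 F142789)
theorem F374455 : act 5 n188365 = n188686 := d21_6 (iv5 D42250) (iv1 F31777) (iv5 F31989) D42707 D91234 D188365 (iv1 D188686) F142790 (iv6 D43349) (iv1 F65263)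
theorem F374456 : act 0 n188365 = n101583 := d21_1 (iv5 F374455) F156492 (iv6 D100931) F74546 (iv6 F156792) (iv5 D101832) D101831 F346652 (iv6 F346650) (iv1 F374454)
def n188687 : Q := act 7 n92655
theorem D188687 : act 7 n92655 = n188687 := rfl
theorem F374457 : act 2 n188687 = n93109 := d4_1 D188687 (iv7 D93109) (iv2 F142789)
theorem F374458 : act 3 n188687 = n187739 := d8_1 D188687 F371381 F356754
theorem F374459 : act 5 n188687 = n92674 := d13_1 D188687 (iv7 D92674) (iv5 F142790)
theorem F374460 : act 6 n188687 = n100972 := d14_1 D188687 (iv7 D100972) (iv6 D47051) F292712 D92655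
theorem F374461 : act 1 n93109 = n188685 := d15_0 (iv0 D188685) D188687 F374457
theorem F374462 : act 1 n93108 = n188687 := d15_1 D93108 (iv7 D188687) F142789
theorem F374463 : act 1 n188687 = n93107 := d15_0 (iv0 D93107) D93109 (iv2 F374457)
def n188688 : Q := act 5 n92659
theorem D188688 : act 5 n92659 = n188688 := rfl
theorem F374464 : act 3 n188688 = n183118 := d6_1 D188688 (iv5 D183118) (iv3 F294803)
theorem F374465 : act 7 n188688 = n186443 := d13_2 (iv7 F294805) D188688 (iv5 D186443)
theorem F374466 : act 4 n188688 = n188296 := d18_5 (iv1 D43346) F32527 D43345 D92659 D188688 (iv0 D188296) F140230 D91216 F294992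
theorem F374467 : act 0 n188688 = n183041 := d21_1 D188688 (iv5 F370493) F370494 F285827 F157800 F357355 F365277 D139557 (iv6 F365276) F143850
theorem F374468 : act 7 n188296 = n187618 := d11_2 (iv7 F374465) F374466 F371024
theorem F374469 : act 2 n187618 = n188297 := d15_3 F373010 F373005 F374468
theorem F374470 : act 2 n188296 = n187619 := d15_3 F373011 F373009 (iv7 F374468)
theorem F374471 : act 7 n187619 = n188297 := d4_2 (iv7 F374468) F374470 (iv2 F374469)
def n188689 : Q := act 5 n92664
theorem D188689 : act 5 n92664 = n188689 := rfl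
theorem F374472 : act 2 n188689 = n186443 := d2_1 D188689 (iv5 D186443) (iv2 F294598)
theorem F374473 : act 3 n188689 = n98288 := d6_1 D188689 (iv5 D98288) (iv3 F294599)
theorem F374474 : act 6 n188689 = n107956 := d12_2 (iv6 F294600) D188689 F166824 F314867 F91683
theorem F374475 : act 1 n188689 = n183041 := d17_6 (iv1 F138651) D90395 (iv1 F140256) F294992 D92664 D188689 (iv5 F370493) F370495 (iv4 D187468)
theorem F374476 : act 4 n188689 = n188297 := d18_5 (iv1 F294793) F69186 F294792 D92664 D188689 F373010 (iv4 D187613) F140251 F294991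
def n188690 : Q := act 0 n92670
theorem D188690 : act 0 n92670 = n188690 := rfl
theorem F374477 : act 4 n188690 = n187603 := d18_3 F366975 D92670 D188690 (iv5 D187603) (iv4 D90387) (iv0 D42255) F31784 D42256 D90393
def n188691 : Q := act 1 n92670
theorem D188691 : act 1 n92670 = n188691 := rfl
theorem F374478 : act 4 n188691 = n187609 := d18_7 (iv1 F294597) (iv4 D92664) (iv1 D43346) F32527 D43348 D92670 D188691 F371008 (iv5 D183025)
def n188692 : Q := act 6 n92670
theorem D188692 : act 6 n92670 = n188692 := rfl
theorem F374479 : act 2 n188692 = n187753 := d3_1 D188692 F371406 (iv2 F356763)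
theorem F374480 : act 3 n188692 = n94114 := d7_1 D188692 (iv6 D94114) (iv3 F295369)
theorem F374481 : act 4 n188692 = n92671 := d10_1 D188692 (iv6 D92671) D92670
theorem F374482 : act 5 n188692 = n117338 := d12_1 D188692 (iv6 D117338) D117337 (iv6 F356644) F356643
theorem F374483 : act 1 n135555 = n188692 := d17_6 (iv1 F349112) (iv5 D100341) (iv1 F290204) (iv5 F349113) F179256 D135555 F374482 (iv0 F371350) (iv4 D187731)
def n188693 : Q := act 0 n92671
theorem D188693 : act 0 n92671 = n188693 := rfl
def n188694 : Q := act 1 n92671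
theorem D188694 : act 1 n92671 = n188694 := rfl
def n188695 : Q := act 7 n92671
theorem D188695 : act 7 n92671 = n188695 := rfl
theorem F374484 : act 3 n188695 = n92674 := d8_1 D188695 (iv7 D92674) (iv3 F142802)
theorem F374485 : act 5 n188695 = n187739 := d13_1 D188695 F371381 F356755
def n188696 : Q := act 2 n92672
theorem D188696 : act 2 n92672 = n188696 := rfl
def n188697 : Q := act 3 n92672
theorem D188697 : act 3 n92672 = n188697 := rfl
def n188698 : Q := act 4 n92672
theorem D188698 : act 4 n92672 = n188698 := rfl
def n188699 : Q := act 5 n92672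
theorem D188699 : act 5 n92672 = n188699 := rfl
def n188700 : Q := act 7 n92672
theorem D188700 : act 7 n92672 = n188700 := rfl
def n188701 : Q := act 3 n92673
theorem D188701 : act 3 n92673 = n188701 := rfl
def n188702 : Q := act 4 n92673
theorem D188702 : act 4 n92673 = n188702 := rfl
def n188703 : Q := act 5 n92673
theorem D188703 : act 5 n92673 = n188703 := rfl
theorem F374488 : act 6 n188703 = n103453 := d21_9 (iv5 F352465) F352461 D137174 F220344 D137186 (iv6 F346650) F143588 (iv1 F142803) D188703 (iv1 F158765)
def n188704 : Q := act 6 n92673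
theorem D188704 : act 6 n92673 = n188704 := rfl
def n188705 : Q := act 6 n92678
theorem D188705 : act 6 n92678 = n188705 := rfl
theorem F374489 : act 2 n188705 = n102571 := d3_1 D188705 F360980 F155666
theorem F374490 : act 3 n188705 = n98030 := d7_1 D188705 F355751 (iv3 F142820)
theorem F374491 : act 4 n188705 = n182411 := d10_1 D188705 F361054 (iv4 F335929)
theorem F374492 : act 7 n188705 = n102570 := d14_2 F155669 D188705 (iv6 F372622) (iv7 F372625) (iv6 F371140)
theorem F374493 : act 0 n94032 = n188705 := d21_4 (iv5 F106192) (iv1 F333295) (iv5 F153655) F153656 (iv6 D188705) F340078 (iv1 F237330) (iv5 F237351) F340076 F337228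
theorem F374494 : act 1 n102565 = n188705 := d15_0 (iv0 F374493) F144868 (iv2 F157528)
def n188706 : Q := act 1 n92680
theorem D188706 : act 1 n92680 = n188706 := rfl
theorem F374495 : act 1 n188706 = n188018 := d15_1 D188706 F372133 F239744
theorem F374496 : act 7 n188706 = n105914 := d15_2 (iv0 F329253) D188706 (iv2 F250942)
theorem F374497 : act 5 n188706 = n187114 := d17_7 F329245 F328867 F328486 (iv5 D46431) (iv4 F68085) D92680 D188706 F369130 F154796
theorem F374498 : act 4 n188706 = n105915 := d17_9 (iv1 F162655) F114925 (iv1 F115158) F115156 (iv4 F237329) (iv5 F340078) (iv0 D92678) D92680 D188706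
theorem F374499 : act 2 n150751 = n188706 := d1_3 F374498 F162652 D150751
theorem F374500 : act 3 n188706 = n100360 := d19_3 (iv1 F77259) (iv5 F162653) (iv4 F374498) (iv1 D100360) (iv5 D46827) F35049 F17232 D10692 D22525 D46902 (iv3 F327160) (iv1 F82837) (iv5 F161471) (iv4 D105306) (iv3 F139488) F139490 (iv5 D52745) F77182 F76704
def n188707 : Q := act 4 n92682
theorem D188707 : act 4 n92682 = n188707 := rfl
theorem F374501 : act 2 n188707 = n187717 := d1_1 D188707 (iv4 D187717) (iv2 F142831)
theorem F374502 : act 6 n188707 = n114646 := d10_2 F178136 D188707 F178746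
theorem F374503 : act 7 n188707 = n188096 := d11_2 (iv7 F142833) D188707 (iv4 D188096)
def n188708 : Q := act 6 n92683
theorem D188708 : act 6 n92683 = n188708 := rfl
theorem F374504 : act 2 n188708 = n100365 := d3_1 D188708 (iv6 D100365) F142837
theorem F374505 : act 4 n188708 = n92918 := d10_1 D188708 (iv6 D92918) (iv4 F142835)
theorem F374506 : act 5 n188708 = n187149 := d12_1 D188708 (iv6 D187149) (iv5 D89607) F290988 (iv5 F142834)
def n188709 : Q := act 6 n92684
theorem D188709 : act 6 n92684 = n188709 := rfl
theorem F374507 : act 2 n188709 = n94028 := d3_1 D188709 F144860 F142846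
theorem F374508 : act 3 n188709 = n171100 := d7_1 D188709 (iv6 F345122) F239751
theorem F374509 : act 4 n188709 = n92921 := d10_1 D188709 (iv6 D92921) F142847
theorem F374510 : act 5 n188709 = n93820 := d12_1 D188709 (iv6 D93820) (iv5 D43854) (iv6 F68444) (iv5 F142845)
def n188710 : Q := act 3 n92685
theorem D188710 : act 3 n92685 = n188710 := rfl
theorem F374511 : act 5 n188710 = n100193 := d6_2 (iv5 F292615) D188710 (iv3 D100193)
theorem F374512 : act 6 n188710 = n111475 := d7_2 F178142 D188710 (iv3 F349168)
theorem F374513 : act 0 n153178 = n188710 := d20_4 (iv4 F237830) F237832 (iv4 F109233) (iv3 F240477) (iv3 D188710) (iv4 D92685) D92683 F142835 D92916 F339947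
def n188711 : Q := act 0 n92688
theorem D188711 : act 0 n92688 = n188711 := rfl
theorem F374514 : act 2 n159847 = n188711 := d15_3 (iv0 D188711) (iv0 F178363) (iv7 F251993)
theorem F374515 : act 1 n159850 = n188711 := d15_0 (iv0 D188711) (iv7 F205458) (iv2 F251989)
theorem F374516 : act 7 n188711 = n159848 := d15_2 F251992 F374515 F251986
theorem F374517 : act 5 n188711 = n188130 := d17_7 F367119 D188387 F373251 (iv5 D103857) (iv4 F176033) (iv5 F251990) F374515 F372404 F251143
theorem F374518 : act 3 n187716 = n188711 := d6_3 F374517 F372402 (iv5 F371300)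
theorem E103324 : n188034 = n159489 := (c21_4 F374517 (iv1 F372405) (iv5 F369985) D188034 (iv1 D159489) (iv6 D76291) (iv5 F55110) F40687 D52665 (iv6 F142854) D188711)
theorem F374519 : act 6 n159489 = n90750 := (sb E103324 (iv6 D188034))
def n188712 : Q := act 4 n92688
theorem D188712 : act 4 n92688 = n188712 := rfl
theorem F374520 : act 2 n188712 = n159849 := d1_1 D188712 (iv4 D159849) (iv2 F142852)
theorem F374521 : act 6 n188712 = n114095 := d10_2 (iv6 F142854) D188712 (iv4 D114095)
theorem F374522 : act 7 n188712 = n188026 := d11_2 F205458 D188712 (iv4 D188026)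
theorem F374523 : act 0 n188712 = n188644 := d18_2 F178363 D188712 (iv4 D188644) (iv5 F367180) F154234 (iv0 F367119) (iv4 F251143) (iv0 D94405) D94407
theorem F374524 : act 1 n188712 = n115039 := d18_6 (iv1 F177350) D92870 F176028 F70606 D92688 D188712 (iv4 F365410) F251922 F251921
def n188713 : Q := act 0 n92696
theorem D188713 : act 0 n92696 = n188713 := rfl
theorem F374525 : act 5 n188713 = n187161 := d17_3 D43361 D92696 D188713 F369265 (iv5 F160661) (iv0 F160664) (iv5 D103114) (iv0 D47803) F36070
theorem F374526 : act 1 n92701 = n188713 := d15_0 (iv0 D188713) F176892 (iv2 F176891)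
theorem F374527 : act 2 n102574 = n188713 := d2_3 F374525 F369263 F290838
theorem F374528 : act 3 n187666 = n188713 := d6_3 F374525 F369264 F371143
def n188714 : Q := act 1 n92696
theorem D188714 : act 1 n92696 = n188714 := rfl
theorem F374529 : act 1 n188714 = n92701 := d15_1 D188714 (iv7 F288020) F288019
theorem F374530 : act 7 n188714 = n102574 := d15_2 (iv0 D188713) D188714 F374527
theorem F374531 : act 5 n188714 = n182290 := d17_7 (iv1 F369718) (iv5 F369464) F347475 (iv5 F347473) (iv4 D92695) D92696 D188714 F283796 (iv4 F369716)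
theorem F374532 : act 3 n92707 = n188714 := d20_3 D41329 D88536 (iv4 F142896) (iv1 D188714) F142872 D187638 F371080 (iv4 D185883) (iv3 D88533) (iv1 D41328)
theorem F374533 : act 6 n106126 = n188714 := d21_5 (iv5 D49064) (iv1 F37467) (iv5 F77530) D106276 (iv1 F163317) F374531 F283793 F138557 (iv6 F178298) (iv1 D106169)
def n188715 : Q := act 4 n92696
theorem D188715 : act 4 n92696 = n188715 := rfl
def n188716 : Q := act 6 n92696
theorem D188716 : act 6 n92696 = n188716 := rfl
theorem F374534 : act 3 n188716 = n114088 := d7_1 D188716 F177665 (iv3 F142872)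
theorem F374535 : act 5 n188716 = n114085 := d12_1 D188716 (iv6 D114085) (iv5 F142874) (iv6 D92697) D92696
theorem F374536 : act 7 n188716 = n127400 := d14_2 (iv7 F176892) D188716 (iv6 D127400) (iv7 F176896) D113689
theorem F374537 : act 0 n188716 = n106118 := d21_4 F40314 D43361 D92696 D188716 (iv6 D106118) D106117 F178207 (iv5 F178205) F178206 (iv1 D52520)
theorem F374538 : act 0 n132860 = n188716 := d21_4 (iv5 F364674) (iv1 F216443) F216441 (iv6 F342930) (iv6 D188716) (iv5 D92696) (iv1 F135443) F135441 F94264 (iv1 F161479)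
def n188717 : Q := act 5 n92699
theorem D188717 : act 5 n92699 = n188717 := rfl
theorem F374539 : act 2 n188717 = n187639 := d2_1 D188717 (iv5 D187639) (iv2 F142877)
theorem F374540 : act 3 n188717 = n92701 := d6_1 D188717 (iv5 D92701) D92699
theorem F374541 : act 6 n127394 = n188717 := d7_0 F374540 (iv6 F142882) D127394
theorem F374542 : act 0 n106247 = n127394 := d21_4 (iv5 D106738) (iv1 F94162) F94167 D106247 F374541 (iv5 D188717) (iv1 F290231) D188615 F374196 F164523
def n188718 : Q := act 6 n92699
theorem D188718 : act 6 n92699 = n188718 := rfl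
theorem F374543 : act 2 n188718 = n186179 := d3_1 D188718 F367235 (iv2 F142877)
theorem F374544 : act 3 n188718 = n92702 := d7_1 D188718 (iv6 D92702) D92699
theorem F374545 : act 4 n188718 = n186179 := d10_1 D188718 F367235 (iv4 F142880)
theorem F374546 : act 7 n186198 = n188718 := d11_0 F374545 F288931 (iv4 F288975)
theorem F374547 : act 0 n98030 = n188718 := d20_10 F374545 F288957 (iv4 D186037) D186036 F339781 (iv3 D102897) D102898 F361063 (iv4 F374491) F374490
theorem F374548 : act 0 n188718 = n98035 := d20_1 (iv4 F374545) (iv4 D98035) D98034 (iv1 F370472) F370470 F293719 D187606 F370996 (iv3 F288646) (iv1 F355749)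
def n188719 : Q := act 5 n92700
theorem D188719 : act 5 n92700 = n188719 := rfl
theorem F374549 : act 2 n188719 = n95320 := d2_1 D188719 (iv5 D95320) (iv2 F160265)
theorem F374550 : act 3 n188719 = n104582 := d6_1 D188719 (iv5 D104582) F142879
theorem F374551 : act 7 n188719 = n95316 := d13_2 (iv7 F160266) D188719 (iv5 D95316)
theorem F374552 : act 1 n188719 = n187291 := d17_6 F369267 (iv5 F374525) (iv1 F374526) (iv5 D92701) D92700 D188719 (iv5 D187291) (iv0 F283795) F251851
theorem F374553 : act 0 n188719 = n166207 := d18_0 (iv4 F299705) F362275 F362282 (iv5 D104788) (iv4 F143096) (iv0 F143097) (iv4 F70043) F142881 D188719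
theorem F374554 : act 4 n172542 = n188719 := d16_0 (iv5 D188719) (iv4 D92700) D92701 (iv4 F341623) (iv5 D128968) F95250 D128852 F325916 D172542
theorem F374555 : act 1 n104658 = n172542 := d18_6 D187289 F369716 (iv1 F283796) F283790 F138106 D104658 F374554 F374552 (iv5 D187291)
def n188720 : Q := act 5 n92702
theorem D188720 : act 5 n92702 = n188720 := rfl
theorem F374556 : act 2 n188720 = n94011 := d2_1 D188720 F292558 (iv2 F292478)
theorem F374557 : act 6 n188720 = n127396 := d12_2 D92702 D188720 (iv5 D127396) F142882 (iv5 D92701)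
theorem F374558 : act 7 n188720 = n94012 := d13_2 F205481 D188720 (iv5 F251425)
theorem F374559 : act 0 n188720 = n93825 := d17_2 (iv1 F251871) D188720 (iv5 D93825) F68952 D44799 (iv0 F306981) (iv5 F350471) F350514 F160711
theorem F374560 : act 1 n188720 = n94009 := d17_6 (iv1 F205500) D45495 D97423 F293681 F293463 D188720 (iv5 D94009) F205495 (iv4 F71420)
def n188721 : Q := act 4 n92703
theorem D188721 : act 4 n92703 = n188721 := rfl
theorem F374561 : act 2 n188721 = n99653 := d1_1 D188721 F153404 F156148
theorem F374562 : act 3 n188721 = n101189 := d5_1 D188721 F290170 (iv3 D185850) D185851 F288278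
theorem F374563 : act 6 n188721 = n183753 := d10_2 (iv6 F290241) D188721 F285521
theorem F374564 : act 7 n188721 = n99541 := d11_2 (iv7 F290209) D188721 F153294
theorem F374565 : act 0 n188721 = n99654 := d20_1 D188721 (iv4 F153434) F151059 (iv1 D42391) F31845 (iv4 F15491) (iv1 F63130) (iv4 F35635) D43363 D92703
theorem F374566 : act 0 n99576 = n188721 := d20_10 (iv4 D188721) (iv1 F142883) F74811 (iv3 F73662) F289718 (iv3 F73795) (iv4 F153893) F289731 (iv4 D99577) D99576
def n188722 : Q := act 0 n92706
theorem D188722 : act 0 n92706 = n188722 := rfl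
theorem F374567 : act 4 n188722 = n113900 := d20_8 F362906 (iv1 D127369) F94224 (iv3 F161460) (iv1 F362103) (iv3 F217975) F359570 D188722 F177201 (iv1 F161540)
theorem F374568 : act 5 n188722 = n187115 := d21_2 D92706 D188722 F369139 (iv1 F293117) (iv6 D46134) (iv5 F55483) (iv1 F94339) (iv5 F94337) D92676 F290150
theorem F374569 : act 1 n102564 = n188722 := d15_0 (iv0 D188722) F142892 (iv2 F157527)
theorem F374570 : act 2 n102567 = n188722 := d2_3 F374568 (iv2 F369138) (iv5 F361067)
theorem F374571 : act 6 n188722 = n135755 := d21_3 F139295 D187115 (iv5 F374568) (iv1 D135755) (iv6 D63829) D63828 (iv1 F218363) F359574 (iv6 F349110) F157526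
theorem F374572 : act 7 n102566 = n188722 := d15_2 F361066 (iv0 F349119) (iv2 F374570)
def n188723 : Q := act 1 n92706
theorem D188723 : act 1 n92706 = n188723 := rfl
theorem F374573 : act 1 n188723 = n102564 := d15_1 D188723 F349115 (iv2 F349114)
theorem F374574 : act 7 n188723 = n102567 := d15_2 (iv0 D188722) D188723 F374570
theorem F374575 : act 3 n187661 = n188723 := d20_3 (iv4 F332657) (iv1 F332667) (iv4 F371134) (iv1 D188723) F142891 F319814 (iv1 F319811) (iv4 D88483) D88482 (iv1 F288079)
theorem F374576 : act 6 n113893 = n188723 := d21_3 D135715 F327876 F184401 (iv1 D188723) F349017 (iv5 F323489) (iv1 D117362) F335877 (iv6 D68666) F327872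
theorem F374577 : act 5 n187116 = n188723 := d21_6 F333309 (iv1 F205250) (iv5 F340077) (iv6 F340076) (iv1 F349215) F369136 (iv1 D188723) (iv5 D92706) (iv6 F74828) D102580
theorem F374578 : act 2 n188723 = n102566 := d3_1 F374576 F349121 (iv2 F177196)
theorem F374579 : act 4 n188723 = n113894 := d10_1 F374576 (iv6 D113894) D113893
def n188724 : Q := act 6 n92707
theorem D188724 : act 6 n92707 = n188724 := rfl
theorem F374580 : act 2 n188724 = n102573 := d3_1 D188724 (iv6 D102573) F142897
theorem F374581 : act 3 n188724 = n106126 := d7_1 D188724 F374533 (iv3 F374532)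
theorem F374582 : act 4 n188724 = n185891 := d10_1 D188724 (iv6 D185891) (iv4 F142896)
theorem F374583 : act 5 n188724 = n187634 := d12_1 D188724 (iv6 D187634) F139145 (iv6 F133600) (iv5 F142895)
theorem F374584 : act 0 n188724 = n187727 := d21_4 (iv5 F69483) (iv1 F133603) (iv5 F142895) D188724 (iv6 D187727) (iv5 D90495) (iv1 D42353) D42354 F65422 D42358
theorem F374585 : act 4 n105264 = n106126 := d20_2 F161580 (iv1 F161216) (iv3 F374581) F374584 F371333 (iv4 D117311) (iv1 F114758) (iv4 F335963) (iv3 D114004) (iv1 F161583)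
def n188725 : Q := act 5 n92715
theorem D188725 : act 5 n92715 = n188725 := rfl
theorem F374586 : act 2 n188725 = n94020 := d2_1 D188725 F144850 (iv2 F142925)
theorem F374587 : act 3 n188725 = n135264 := d6_1 D188725 F217469 (iv3 F321703)
theorem F374588 : act 6 n188725 = n92716 := d12_2 D92715 D188725 (iv5 D92716) (iv6 D43367) D43366
theorem F374589 : act 7 n188725 = n132870 := d13_2 F323389 D188725 (iv5 D132870)
def n188726 : Q := act 2 n92717
theorem D188726 : act 2 n92717 = n188726 := rfl
theorem F374590 : act 3 n188726 = n92729 := d0_2 D92717 D188726 (iv2 F142964) (iv3 D90500) F68128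
theorem F374591 : act 7 n188726 = n187730 := d4_2 (iv7 F142930) D188726 (iv2 D187730)
theorem F374592 : act 1 n188726 = n100341 := d15_0 F349112 (iv7 F142930) D188726
theorem F374593 : act 1 n102562 = n188726 := d15_0 F374592 F349107 (iv2 F349109)
def n188727 : Q := act 1 n92718
theorem D188727 : act 1 n92718 = n188727 := rfl
theorem F374594 : act 1 n188727 = n187729 := d15_1 D188727 (iv7 D187729) (iv2 F142931)
theorem F374595 : act 7 n188727 = n130680 := d15_2 F362466 D188727 (iv2 F214646)
theorem F374596 : act 2 n187728 = n188727 := d4_3 F374595 (iv2 F214646) (iv7 F371336)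
theorem F374597 : act 4 n180749 = n188727 := d11_3 F374595 F318981 D180749
theorem F374598 : act 6 n130938 = n188727 := d14_5 F374595 (iv6 D130680) (iv7 F209661) D133467 (iv7 F365180)
def n188728 : Q := act 7 n92718
theorem D188728 : act 7 n92718 = n188728 := rfl
theorem F374599 : act 2 n188728 = n187729 := d4_1 D188728 (iv7 D187729) (iv2 F142931)
theorem F374600 : act 3 n188728 = n187731 := d8_1 D188728 F371399 (iv3 F371398)
theorem F374601 : act 4 n188728 = n130788 := d11_1 D188728 F336055 F334642
theorem F374602 : act 6 n188728 = n187734 := d14_1 D188728 (iv7 D187734) (iv6 D90505) (iv7 F68127) D92718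
theorem F374603 : act 1 n187728 = n188728 := d15_1 D187728 (iv7 D188728) F142931
theorem F374604 : act 1 n188728 = n130680 := d15_1 F374603 (iv7 F374595) (iv2 F374596)
def n188729 : Q := act 1 n92720
theorem D188729 : act 1 n92720 = n188729 := rfl
theorem F374605 : act 1 n188729 = n187734 := d15_1 D188729 (iv7 D187734) (iv2 F142935)
theorem F374606 : act 7 n188729 = n187733 := d15_2 (iv0 F357306) D188729 (iv2 F371356)
theorem F374607 : act 5 n106179 = n188729 := d21_0 (iv1 D188729) F142936 (iv6 D92497) F290603 D187112 F369123 D187572 (iv5 F370845) (iv6 F356350) (iv1 F163503)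
theorem F374608 : act 2 n188729 = n106181 := d2_1 F374607 (iv5 D106181) D106179
theorem F374609 : act 6 n188729 = n130692 := d21_3 (iv5 F356349) (iv1 F163503) F374607 (iv1 D130692) (iv6 D61317) (iv5 F316623) D83970 F318983 (iv6 F339453) F339449
def n188730 : Q := act 3 n92721
theorem D188730 : act 3 n92721 = n188730 := rfl
theorem F374610 : act 2 n188730 = n154349 := d0_1 D188730 (iv3 F361751) (iv2 F352089) (iv3 F348576) F142940
theorem F374611 : act 5 n188730 = n182294 := d6_2 (iv5 F142937) D188730 (iv3 D182294)
theorem F374612 : act 7 n188730 = n154348 := d8_2 F142941 D188730 (iv3 F369517)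
theorem F374613 : act 0 n188730 = n128223 := d20_4 (iv4 D43414) D43412 (iv4 F142938) D188730 F206356 (iv4 F318981) (iv1 F374604) F374601 F336054 F139297
theorem F374614 : act 1 n188730 = n154351 := d15_1 (iv0 F374613) (iv7 D154351) (iv2 F206355)
def n188731 : Q := act 6 n92721
theorem D188731 : act 6 n92721 = n188731 := rfl
theorem F374615 : act 2 n188731 = n180747 := d3_1 D188731 (iv6 F365712) F142940
theorem F374616 : act 4 n188731 = n92793 := d10_1 D188731 (iv6 D92793) (iv4 F142938)
theorem F374617 : act 5 n188731 = n167576 := d12_1 D188731 (iv6 D167576) (iv5 F359839) F178523 (iv5 F142937)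
theorem F374618 : act 7 n188731 = n180746 := d14_2 F142941 D188731 F366570 F366703 F362735
theorem F374619 : act 0 n188731 = n132302 := d21_4 (iv5 F143478) F143479 (iv5 F142937) D188731 (iv6 D132302) F312898 F59133 D38719 (iv6 F327755) D88488
theorem F374620 : act 1 n188731 = n180749 := d15_1 (iv0 F374619) (iv7 D180749) (iv2 F315272)
theorem F374621 : act 5 n180746 = n124560 := d13_1 F374618 (iv7 F361189) (iv5 F374617)
theorem F374622 : act 3 n124561 = n180746 := d6_3 F374621 (iv3 D124560) D124561
def n188732 : Q := act 2 n92723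
theorem D188732 : act 2 n92723 = n188732 := rfl
theorem F374623 : act 3 n188732 = n132457 := d0_2 D92723 D188732 (iv2 F324318) (iv3 D90508) (iv2 F68129)
theorem F374624 : act 4 n188732 = n177400 := d1_2 F176620 D188732 (iv2 F331163)
theorem F374625 : act 5 n188732 = n146679 := d2_2 (iv5 F331165) D188732 F229999
theorem F374626 : act 7 n188732 = n132451 := d4_2 F288040 D188732 F348872
def n188733 : Q := act 6 n92732
theorem D188733 : act 6 n92732 = n188733 := rfl
theorem F374627 : act 2 n188733 = n187655 := d3_1 D188733 (iv6 D187655) (iv2 F142967)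
theorem F374628 : act 4 n188733 = n138001 := d10_1 D188733 (iv6 D138001) (iv4 F142970)
theorem F374629 : act 0 n187149 = n188733 := d21_4 (iv5 F69116) (iv1 F290986) D89607 D187149 (iv6 D188733) (iv5 D92732) (iv1 D43380) D43381 F68153 D43388
def n188734 : Q := act 1 n92734
theorem D188734 : act 1 n92734 = n188734 := rfl
theorem F374630 : act 1 n188734 = n185839 := d15_1 D188734 F288236 (iv2 F142976)
theorem F374631 : act 7 n188734 = n187666 := d15_2 (iv0 F145634) D188734 F371144
theorem F374632 : act 5 n187488 = n188734 := d21_0 (iv1 D188734) (iv5 D92734) D92735 F142988 (iv6 D43521) D43520 D93013 (iv5 F369198) F369194 (iv1 F370542)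
theorem F374633 : act 2 n188734 = n102572 := d2_1 F374632 F157531 F370545
def n188735 : Q := act 4 n92734
theorem D188735 : act 4 n92734 = n188735 := rfl
theorem F374634 : act 2 n188735 = n187718 := d1_1 D188735 (iv4 D187718) (iv2 F142976)
theorem F374635 : act 7 n188735 = n187667 := d11_2 (iv7 F142978) D188735 (iv4 D187667)
theorem F374636 : act 6 n129820 = n188735 := d3_0 F374634 (iv6 F371313) F355368
def n188736 : Q := act 6 n92734
theorem D188736 : act 6 n92734 = n188736 := rfl
theorem F374637 : act 2 n188736 = n187719 := d3_1 D188736 (iv6 D187719) (iv2 F142976)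
theorem F374638 : act 3 n188736 = n92739 := d7_1 D188736 (iv6 D92739) (iv3 F142977)
theorem F374639 : act 4 n188736 = n129820 := d10_1 D188736 F374636 (iv4 D188735)
theorem F374640 : act 5 n188736 = n145928 := d12_1 D188736 (iv6 F315229) F142984 (iv6 D92735) D92734
theorem F374641 : act 0 n188736 = n132863 := d21_10 F347613 (iv1 D159896) F114783 (iv6 D68851) (iv1 D32025) D32027 (iv5 F65398) (iv1 F135528) D92734 D188736
theorem F374642 : act 0 n126531 = n188736 := d21_4 (iv5 D30079) (iv1 F48019) (iv5 F93638) D126531 (iv6 D188736) (iv5 D92734) F68156 D88515 F324312 F97445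
theorem F374643 : act 7 n188736 = n145927 := d15_2 (iv0 F347617) (iv0 F374641) F229129
def n188737 : Q := act 3 n92736
theorem D188737 : act 3 n92736 = n188737 := rfl
theorem F374644 : act 2 n188737 = n187637 := d0_1 D188737 F371077 F203391 (iv3 F325802) F142991
theorem F374645 : act 5 n188737 = n93826 := d6_2 (iv5 F142989) D188737 F144648
theorem F374646 : act 7 n188737 = n187148 := d8_2 (iv7 F290983) D188737 F369243
theorem F374647 : act 1 n186194 = n188737 := d15_1 (iv0 F369241) F374646 F369242
theorem F374648 : act 1 n188737 = n187636 := d15_1 F374647 F371072 F331435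
theorem F374649 : act 0 n187643 = n133462 := d21_4 F374645 F371091 (iv5 D187642) D187643 (iv6 D133462) (iv5 F333208) (iv1 F177674) (iv5 F332578) (iv6 F371071) (iv1 F374648)
def n188738 : Q := act 6 n92736
theorem D188738 : act 6 n92736 = n188738 := rfl
theorem F374650 : act 2 n188738 = n94054 := d3_1 D188738 F144896 F142991
theorem F374651 : act 5 n188738 = n93828 := d12_1 D188738 (iv6 D93828) (iv5 D43858) D43859 (iv5 F142989)
def n188739 : Q := act 6 n92737
theorem D188739 : act 6 n92737 = n188739 := rfl
theorem F374652 : act 2 n188739 = n187149 := d3_1 D188739 (iv6 D187149) (iv2 F290984)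
theorem F374653 : act 5 n188739 = n100365 := d12_1 D188739 (iv6 D100365) F290825 (iv6 F290826) (iv5 F142995)
theorem F374654 : act 0 n188739 = n187655 := d21_4 (iv5 F291075) F291072 (iv5 F142995) D188739 (iv6 D187655) (iv5 D90428) (iv1 D42285) D42286 F65307 D42298
def n188740 : Q := act 3 n92738
theorem D188740 : act 3 n92738 = n188740 := rfl
theorem F374655 : act 5 n188740 = n186616 := d6_2 F365792 D188740 (iv3 D186616)
theorem F374656 : act 7 n188740 = n187668 := d8_2 (iv7 F142998) D188740 (iv3 D187668)
def n188741 : Q := act 6 n92738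
theorem D188741 : act 6 n92738 = n188741 := rfl
theorem F374657 : act 2 n188741 = n134055 := d3_1 D188741 F336946 (iv2 F142997)
theorem F374658 : act 4 n188741 = n92739 := d10_1 D188741 (iv6 D92739) D92738
theorem F374659 : act 0 n134307 = n188741 := d18_2 (iv1 F371212) (iv4 F371214) F374658 F143000 (iv4 F370355) (iv0 F370358) (iv4 F368674) (iv0 D176506) (iv5 F326537)
def n188742 : Q := act 4 n92741
theorem D188742 : act 4 n92741 = n188742 := rfl
theorem F374660 : act 2 n188742 = n183753 := d1_1 D188742 F285521 (iv2 F156151)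
theorem F374661 : act 3 n188742 = n97968 := d5_1 D188742 F150994 F153403 F153404 F153408
theorem F374662 : act 6 n188742 = n99653 := d10_2 (iv6 F290242) D188742 F153404
theorem F374663 : act 7 n188742 = n99413 := d11_2 (iv7 F290215) D188742 F153122
theorem F374664 : act 0 n188742 = n92781 := d20_1 D188742 (iv4 D92781) D92780 (iv1 F290191) F155620 F134948 (iv1 F290140) F74467 (iv3 F139190) (iv1 F143007)
theorem F374665 : act 0 n92777 = n188742 := d20_10 (iv4 D188742) (iv1 D92741) F68169 (iv3 D22927) (iv1 F66634) (iv3 F73261) F73262 D47793 D103089 F158382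
def n188743 : Q := act 5 n92741
theorem D188743 : act 5 n92741 = n188743 := rfl
theorem F374666 : act 2 n188743 = n187657 := d2_1 D188743 (iv5 D187657) (iv2 F156151)
theorem F374667 : act 3 n188743 = n102562 := d6_1 D188743 (iv5 D102562) F153408
theorem F374668 : act 6 n188743 = n135502 := d12_2 (iv6 F290242) D188743 F359574 (iv6 F349110) (iv5 D102562)
theorem F374669 : act 7 n188743 = n100345 := d13_2 (iv7 F290215) D188743 (iv5 D100345)
theorem F374670 : act 0 n188743 = n92748 := d17_2 (iv1 F143007) D188743 F143020 F142236 D186587 (iv0 F367334) F154410 F289799 (iv4 F289802)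
theorem F374671 : act 1 n188743 = n187673 := d15_1 (iv0 F374670) F371159 F230273
def n188744 : Q := act 5 n92742
theorem D188744 : act 5 n92742 = n188744 := rfl
theorem F374672 : act 2 n188744 = n92743 := d2_1 D188744 (iv5 D92743) D92742
theorem F374673 : act 3 n188744 = n185839 := d6_1 D188744 (iv5 D185839) (iv3 F143003)
theorem F374674 : act 7 n188744 = n187658 := d13_2 (iv7 F143005) D188744 (iv5 D187658)
theorem F374675 : act 1 n188744 = n187660 := d17_8 (iv1 F365767) (iv5 D89032) D89030 D186677 (iv4 F367641) (iv5 D100345) (iv0 F290211) D188744 F371133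
theorem F374676 : act 0 n188744 = n187661 := d18_0 F371134 (iv1 D135074) (iv4 F179380) F332653 (iv4 F135458) (iv0 F290158) F153122 (iv0 F290211) D188744
def n188745 : Q := act 0 n92743
theorem D188745 : act 0 n92743 = n188745 := rfl
theorem F374677 : act 4 n188745 = n183451 := d18_1 D188745 F349513 F332661 (iv5 D92778) D92777 F290216 (iv4 F142810) F290213 D92743
theorem F374678 : act 1 n187658 = n188745 := d15_0 (iv0 D188745) F143012 (iv2 F371128)
theorem F374679 : act 2 n187661 = n188745 := d1_3 F374677 F365768 (iv4 F371134)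
theorem F374680 : act 7 n187660 = n188745 := d11_0 F374677 F365709 (iv4 F371133)
def n188746 : Q := act 1 n92743
theorem D188746 : act 1 n92743 = n188746 := rfl
theorem F374681 : act 1 n188746 = n187658 := d15_1 D188746 (iv7 F374674) F374672
theorem F374682 : act 7 n188746 = n187661 := d15_2 (iv0 D188745) D188746 F374679
theorem F374683 : act 5 n186662 = n188746 := d21_6 (iv5 F355754) (iv1 F238938) (iv5 F292999) F294658 (iv1 F295033) D186662 (iv1 D188746) (iv5 D92743) (iv6 F290954) D88678
theorem F374684 : act 2 n188746 = n187660 := d2_1 F374683 (iv5 F373928) (iv2 F373930)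
theorem F374685 : act 3 n188746 = n102567 := d6_1 F374683 F361067 (iv3 F367584)
theorem F374686 : act 0 n188552 = n186662 := d17_0 F374683 (iv1 D188746) (iv5 D92743) F68169 D47635 D102699 (iv5 F157956) (iv0 F356432) (iv4 F373926)
def n188747 : Q := act 4 n92743
theorem D188747 : act 4 n92743 = n188747 := rfl
theorem F374687 : act 7 n188747 = n187662 := d11_2 (iv7 F143012) D188747 (iv4 D187662)
theorem F374688 : act 1 n188747 = n185779 := d18_6 (iv1 D88477) (iv4 F74044) F74046 (iv4 F68169) D92743 D188747 (iv4 D185779) (iv0 F332650) F332653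
theorem F374689 : act 5 n154061 = n188747 := d16_1 F252682 (iv4 D188747) (iv5 D92743) F68169 D47635 D102700 (iv5 F348236) (iv7 F361521) (iv2 F252680)
theorem F374690 : act 3 n175477 = n188747 := d20_5 (iv4 F362900) F362885 F285211 D184748 (iv1 F349704) (iv4 D188747) D188745 F374677 (iv3 D183451) F310388
theorem F374691 : act 6 n188747 = n186449 := d7_2 (iv6 F274738) F374690 F289262
def n188748 : Q := act 6 n92743
theorem D188748 : act 6 n92743 = n188748 := rfl
theorem F374692 : act 3 n188748 = n92746 := d7_1 D188748 (iv6 D92746) (iv3 F143011)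
theorem F374693 : act 4 n188748 = n186449 := d10_1 D188748 (iv6 F374691) (iv4 D188747)
theorem F374694 : act 5 n188748 = n186142 := d12_1 D188748 (iv6 D186142) (iv5 D88681) F290954 D92743
theorem F374695 : act 0 n188748 = n183494 := d20_7 (iv4 F132093) F132095 F92779 (iv3 F133643) (iv1 F294437) (iv3 F289262) (iv4 F374693) (iv4 D183494) (iv3 D87584) (iv1 F293622)
def n188749 : Q := act 3 n92745
theorem D188749 : act 3 n92745 = n188749 := rfl
theorem F374696 : act 4 n188749 = n175477 := d5_2 D92745 D188749 F374690 (iv4 D188747) F143011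
theorem F374697 : act 7 n188749 = n134058 := d8_2 (iv7 F143016) D188749 (iv3 F336947)
theorem F374698 : act 0 n134255 = n188749 := d20_4 F47997 D29831 D63068 D134255 (iv3 D188749) (iv4 D92745) (iv1 F142993) (iv4 F159993) F349135 (iv1 D63063)
theorem F374699 : act 6 n137985 = n188749 := d14_5 F374697 (iv6 D134058) D134059 F355791 (iv7 F357341)
theorem F374700 : act 2 n188749 = n138037 := d3_1 F374699 (iv6 D138037) (iv2 F357340)
theorem F374701 : act 0 n188749 = n138032 := d20_1 (iv4 F374696) F221293 F100699 D64913 (iv3 F338401) (iv4 F362900) F362885 F285211 D184748 (iv1 F349704)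
theorem F374702 : act 1 n140008 = n184549 := d18_8 (iv1 F349704) (iv4 F374696) F374701 F221293 D138046 F339043 F342392 D140008 (iv5 F287225)
def n188750 : Q := act 6 n92745
theorem D188750 : act 6 n92745 = n188750 := rfl
theorem F374703 : act 2 n188750 = n187669 := d3_1 D188750 (iv6 D187669) (iv2 F143015)
theorem F374704 : act 3 n188750 = n137985 := d7_1 D188750 F374699 (iv3 D188749)
theorem F374705 : act 4 n188750 = n92746 := d10_1 D188750 (iv6 D92746) D92745
theorem F374706 : act 5 n188750 = n188225 := d21_6 (iv5 F367052) (iv1 D96463) D96465 (iv6 F364703) F144771 D188750 (iv1 D188225) D188226 (iv6 F372735) F367646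
theorem F374707 : act 0 n113920 = n188750 := d21_4 (iv5 D137940) F177269 (iv5 D113919) D113920 (iv6 D188750) F290990 (iv1 F151802) F293346 (iv6 F139357) (iv1 F221199)
theorem F374708 : act 7 n138039 = n188750 := d8_0 F374704 F357341 D138039
def n188751 : Q := act 0 n92746
theorem D188751 : act 0 n92746 = n188751 := rfl
def n188752 : Q := act 7 n92746
theorem D188752 : act 7 n92746 = n188752 := rfl
theorem F374709 : act 2 n188752 = n187671 := d4_1 D188752 (iv7 D187671) (iv2 F143017)
theorem F374710 : act 4 n188752 = n138039 := d11_1 D188752 F374708 F374705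
theorem F374711 : act 5 n188752 = n186150 := d13_1 D188752 (iv7 D186150) F291523
theorem F374712 : act 6 n188752 = n135245 := d14_1 D188752 F332262 (iv6 D90437) (iv7 F68172) D92746
theorem F374713 : act 1 n187671 = n188751 := d15_0 (iv0 D188751) D188752 F374709
theorem F374714 : act 1 n135258 = n188752 := d15_1 (iv0 F364212) (iv7 D188752) F143017
theorem F374715 : act 7 n188751 = n135258 := d15_2 F371156 F374713 F364211
theorem F374716 : act 3 n115179 = n188751 := d8_3 F374715 (iv3 D135258) (iv7 F202539)
theorem F374717 : act 6 n135225 = n188751 := d14_5 F374715 (iv6 F364210) (iv7 F251998) F345493 F217994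
theorem F374718 : act 2 n188751 = n187670 := d15_3 (iv0 D187670) (iv0 F364212) (iv7 F374715)
theorem F374719 : act 3 n187670 = n148781 := d0_2 F374716 F374718 (iv2 F328782) (iv3 D135260) (iv2 F202540)
theorem F374720 : act 7 n187670 = n148776 := d4_2 (iv7 F374715) F374718 (iv2 F364211)
theorem F374721 : act 1 n188752 = n187670 := d15_1 F374714 F374720 (iv2 F364211)
theorem F374722 : act 5 n135225 = n188051 := d21_6 F65314 (iv1 F32585) D43386 D92746 D188751 (iv6 F374717) (iv1 D188051) (iv5 F143019) (iv6 D92747) (iv1 F68182)
theorem F374723 : act 3 n188051 = n135226 := d6_1 F374722 (iv5 D135226) D135225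
def n188753 : Q := act 0 n92747
theorem D188753 : act 0 n92747 = n188753 := rfl
theorem F374724 : act 6 n188753 = n130662 := d21_5 (iv5 D43967) D43965 F69116 D92747 D188753 F333215 (iv1 F355355) F142438 (iv6 D90437) (iv1 F69118)
theorem F374725 : act 2 n123621 = n188753 := d3_3 F374724 (iv2 D130662) (iv6 F365365)
theorem F374726 : act 3 n159552 = n188753 := d7_3 F374724 F333214 D159552
theorem F374727 : act 4 n188753 = n101479 := d1_2 D123621 F374725 F304602
theorem F374728 : act 7 n187678 = n188753 := d15_2 F365363 D187678 (iv2 F374725)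
def n188754 : Q := act 1 n92747
theorem D188754 : act 1 n92747 = n188754 := rfl
theorem F374729 : act 1 n188754 = n187679 := d15_1 D188754 (iv7 D187679) (iv2 F143018)
theorem F374730 : act 7 n188754 = n123621 := d15_2 (iv0 D188753) D188754 F374725
theorem F374731 : act 2 n187678 = n188754 := d4_3 F374730 F374725 (iv7 F374728)
theorem F374732 : act 3 n130669 = n188754 := d8_3 F374730 F365364 D130669
theorem F374733 : act 4 n101474 = n188754 := d11_3 F374730 (iv4 D123621) (iv7 F304180)
theorem F374734 : act 6 n130946 = n188754 := d14_5 F374730 F365365 (iv7 F97698) D133455 (iv7 F214613)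
theorem F374735 : act 4 n187679 = n153969 := d18_7 D72861 F331866 F331861 F184748 D101474 F374733 F374729 (iv0 D153969) (iv5 D72863)
theorem F374736 : act 7 n153969 = n187677 := d11_2 D187679 F374735 F371169
theorem F374737 : act 1 n187679 = n188753 := d15_1 F374729 (iv7 F374728) F374731
def n188755 : Q := act 7 n92747
theorem D188755 : act 7 n92747 = n188755 := rfl
theorem F374738 : act 2 n188755 = n187679 := d4_1 D188755 (iv7 D187679) (iv2 F143018)
theorem F374739 : act 5 n188755 = n188052 := d13_1 D188755 (iv7 D188052) (iv5 F143019)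
theorem F374740 : act 6 n188755 = n175647 := d14_1 D188755 F366115 (iv6 D90449) (iv7 F68184) D92747
theorem F374741 : act 1 n187678 = n188755 := d15_1 D187678 (iv7 D188755) F143018
theorem F374742 : act 1 n188755 = n123621 := d15_1 F374741 (iv7 F374730) (iv2 F374731)
def n188756 : Q := act 4 n92748
theorem D188756 : act 4 n92748 = n188756 := rfl
theorem F374743 : act 7 n188756 = n187674 := d11_2 (iv7 F143021) D188756 (iv4 D187674)
theorem F374744 : act 1 n188756 = n154629 := d18_8 (iv1 F332405) (iv4 F252682) F332406 F304373 D183423 (iv4 F360921) (iv0 F364171) D188756 (iv5 D154629)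
def n188757 : Q := act 6 n92748
theorem D188757 : act 6 n92748 = n188757 := rfl
theorem F374745 : act 3 n188757 = n92749 := d7_1 D188757 (iv6 D92749) D92748
theorem F374746 : act 5 n188757 = n138698 := d12_1 D188757 (iv6 F339594) (iv5 D92451) D92452 (iv5 F143020)
def n188758 : Q := act 0 n92749
theorem D188758 : act 0 n92749 = n188758 := rfl
theorem F374747 : act 6 n188758 = n135525 := d21_5 (iv5 D89607) F290985 F68177 D92749 D188758 F367060 (iv1 D186409) (iv5 F291469) (iv6 D90441) F290938
theorem F374748 : act 3 n135526 = n188758 := d7_3 F374747 (iv3 D135525) D135526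
def n188759 : Q := act 1 n92749
theorem D188759 : act 1 n92749 = n188759 := rfl
theorem F374749 : act 1 n188759 = n175647 := d15_1 D188759 F366115 (iv2 F143022)
theorem F374750 : act 5 n188759 = n106145 := d17_7 F334791 D114984 F334792 (iv5 F308605) D83864 (iv5 F324796) D188759 F359208 F314196
theorem F374751 : act 2 n187685 = n188759 := d2_3 F374750 F364251 (iv5 F371183)
theorem F374752 : act 3 n106147 = n188759 := d6_3 F374750 (iv3 D106145) D106147
def n188760 : Q := act 7 n92749
theorem D188760 : act 7 n92749 = n188760 := rfl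
theorem F374753 : act 2 n188760 = n175647 := d4_1 D188760 F366115 (iv2 F143022)
theorem F374754 : act 5 n188760 = n173582 := d13_1 D188760 F273749 (iv5 F324796)
theorem F374755 : act 6 n188760 = n187679 := d14_1 D188760 (iv7 D187679) (iv6 D90446) F68186 D92749
theorem F374756 : act 1 n175647 = n188758 := d15_0 (iv0 D188758) D188760 F374753
theorem F374757 : act 1 n187685 = n188760 := d15_1 D187685 (iv7 D188760) F143022
theorem F374758 : act 7 n188758 = n187685 := d15_2 F374749 F374756 F374751
theorem F374759 : act 2 n188758 = n187684 := d15_3 (iv0 D187684) D187685 (iv7 F374758)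
theorem F374760 : act 3 n187684 = n164469 := d0_2 F374748 F374759 F366118 (iv3 F338687) (iv2 F217934)
theorem F374761 : act 7 n187684 = n188759 := d4_2 (iv7 F374758) F374759 (iv2 F374751)
theorem F374762 : act 5 n152353 = n187684 := d13_3 F374761 F374750 F364250
theorem F374763 : act 1 n188760 = n187684 := d15_1 F374757 F374761 (iv2 F374751)
def n188761 : Q := act 6 n92750
theorem D188761 : act 6 n92750 = n188761 := rfl
theorem F374764 : act 2 n188761 = n123620 := d3_1 D188761 (iv6 F365801) F143025
theorem F374765 : act 4 n188761 = n92806 := d10_1 D188761 (iv6 D92806) (iv4 F143024)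
theorem F374766 : act 0 n188761 = n101479 := d21_10 (iv5 D101479) (iv1 D47219) D47220 (iv6 F127124) D172226 F361757 F365797 (iv1 F368810) F368808 D188761
theorem F374767 : act 1 n188761 = n101474 := d15_1 (iv0 F374766) F304180 (iv2 F304602)
def n188762 : Q := act 3 n92751
theorem D188762 : act 3 n92751 = n188762 := rfl
theorem F374768 : act 7 n188762 = n187686 := d8_2 (iv7 F143029) D188762 (iv3 D187686)
def n188763 : Q := act 6 n92751
theorem D188763 : act 6 n92751 = n188763 := rfl
theorem F374769 : act 2 n188763 = n187688 := d3_1 D188763 (iv6 D187688) F143031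
theorem F374770 : act 4 n188763 = n92808 := d10_1 D188763 (iv6 D92808) (iv4 F143030)
theorem F374771 : act 5 n101931 = n188763 := d21_2 F368482 F338093 (iv6 D188763) (iv1 D92751) (iv6 F106590) (iv5 D64359) (iv1 D30311) D30313 D64365 D136929
def n188764 : Q := act 4 n92756
theorem D188764 : act 4 n92756 = n188764 := rfl
theorem F374772 : act 2 n188764 = n185856 := d1_1 D188764 (iv4 D185856) (iv2 F143043)
theorem F374773 : act 7 n188764 = n187694 := d11_2 (iv7 F143045) D188764 (iv4 D187694)
theorem F374774 : act 1 n113310 = n188764 := d15_1 F354357 F374773 F371204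
def n188765 : Q := act 6 n92756
theorem D188765 : act 6 n92756 = n188765 := rfl
theorem F374775 : act 2 n188765 = n185857 := d3_1 D188765 (iv6 D185857) (iv2 F143043)
theorem F374776 : act 3 n188765 = n92759 := d7_1 D188765 (iv6 D92759) (iv3 F143044)
theorem F374777 : act 5 n188765 = n176932 := d12_1 D188765 (iv6 D176932) F129395 F292601 D92756
def n188766 : Q := act 3 n92758
theorem D188766 : act 3 n92758 = n188766 := rfl
theorem F374778 : act 5 n188766 = n186999 := d6_2 F293262 D188766 (iv3 D186999)
theorem F374779 : act 7 n188766 = n187042 := d8_2 (iv7 F292730) D188766 F368887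
def n188767 : Q := act 6 n92758
theorem D188767 : act 6 n92758 = n188767 := rfl
theorem F374780 : act 2 n188767 = n104412 := d3_1 D188767 (iv6 D104412) (iv2 F143049)
theorem F374781 : act 4 n188767 = n92759 := d10_1 D188767 (iv6 D92759) D92758
theorem F374782 : act 5 n186770 = n188767 := d9_0 F374781 (iv5 F293652) F129398 (iv5 F129304) (iv4 F335318) D89119 D186773 F367960 (iv4 F364206) F355648 (iv4 F270262) (iv5 F364442) (iv4 D89113) D89114 D186770
def n188768 : Q := act 5 n92762
theorem D188768 : act 5 n92762 = n188768 := rfl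
theorem F374783 : act 2 n188768 = n99545 := d2_1 D188768 (iv5 D99545) (iv2 F143060)
theorem F374784 : act 7 n188768 = n187850 := d13_2 (iv7 F177372) D188768 (iv5 D187850)
def n188769 : Q := act 4 n92765
theorem D188769 : act 4 n92765 = n188769 := rfl
theorem F374785 : act 2 n188769 = n187736 := d1_1 D188769 (iv4 D187736) (iv2 F143063)
theorem F374786 : act 6 n188769 = n118769 := d10_2 (iv6 F143065) D188769 (iv4 D118769)
theorem F374787 : act 7 n188769 = n187851 := d11_2 (iv7 F177439) D188769 (iv4 D187851)
theorem F374788 : act 0 n151960 = n188769 := d20_10 (iv4 D188769) (iv1 F157684) D187925 (iv3 F371846) (iv1 F279927) F294627 (iv4 F139085) D187588 (iv4 F370913) (iv3 F366585)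
theorem F374789 : act 7 n187612 = n187736 := d15_2 (iv0 F374788) (iv0 F371013) (iv2 F374785)
theorem F374790 : act 2 n187851 = n187612 := d4_3 F374789 (iv2 F374785) F374787
theorem F374791 : act 4 n187530 = n187612 := d11_3 F374789 (iv4 D187736) (iv7 F370695)
theorem F374792 : act 6 n118767 = n93287 := d14_3 F374789 F371371 F251703 (iv7 F366978) D187612
theorem F374793 : act 1 n188273 = n187736 := d15_1 (iv0 F372922) (iv7 F374789) (iv2 F374790)
theorem F374794 : act 2 n187605 = n118767 := d3_3 F374792 (iv2 F294821) D187605
theorem F374795 : act 4 n93287 = n118768 := d10_1 F374792 (iv6 D118768) D118767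
theorem F374796 : act 2 n118768 = n187604 := d1_1 F374795 (iv4 D187604) F294821
theorem F374797 : act 7 n118768 = n187611 := d11_2 F366978 F374795 (iv4 D187611)
theorem F374798 : act 6 n187611 = n187530 := d14_1 F374797 F370695 F139318 F114581 D118768
theorem F374799 : act 2 n187852 = n187611 := d3_3 F374798 F370693 D187852
theorem F374800 : act 4 n93286 = n187852 := d1_0 F374799 (iv4 D187611) (iv2 F366977)
theorem F374801 : act 7 n187604 = n187852 := d4_0 F374799 (iv7 F374797) F374796
theorem F374802 : act 6 n118706 = n187604 := d14_5 F374801 (iv6 D187852) (iv7 F177439) F143065 (iv7 F186713)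
theorem F374803 : act 3 n187604 = n157740 := d7_1 F374802 F248614 F186714
theorem F374804 : act 4 n187605 = n118706 := d10_3 F374802 (iv4 D187604) D187605
theorem F374805 : act 5 n187604 = n145233 := d12_1 F374802 (iv6 D145233) (iv5 D68084) (iv6 F94177) (iv5 F186711)
theorem F374806 : act 5 n188019 = n188691 := d16_3 D187604 F374805 (iv4 F372136) F374478 (iv5 D187609) (iv4 D90392) D90393 F366978 (iv2 F294821)
theorem F374807 : act 3 n188691 = n92953 := d6_1 F374806 F143364 (iv3 F372135)
theorem F374808 : act 6 n188691 = n92951 := d12_2 D188019 F374806 (iv5 D92951) F68348 D90735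
theorem F374809 : act 6 n187928 = n187609 := d10_2 F374808 (iv4 F371856) (iv4 F374478)
theorem F374810 : act 7 n118769 = n187605 := d11_0 F374804 F186713 D118769
theorem F374811 : act 0 n159403 = n187605 := d18_2 F154339 D159403 F374804 F186711 (iv4 F94176) (iv0 F93551) (iv4 F154331) (iv0 D100348) D100349
theorem F374812 : act 1 n159396 = n187605 := d18_6 F42250 F27611 D16883 D34828 D76248 D159396 F374804 (iv0 D118706) (iv5 D54654)
theorem F374813 : act 6 n93286 = n187851 := d14_3 F374810 (iv6 D187605) F294822 (iv7 F374787) F374786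
def n188770 : Q := act 6 n92768
theorem D188770 : act 6 n92768 = n188770 := rfl
theorem F374814 : act 2 n188770 = n153530 := d3_1 D188770 (iv6 D153530) (iv2 F143075)
theorem F374815 : act 3 n188770 = n97950 := d7_1 D188770 (iv6 D97950) (iv3 F143076)
theorem F374816 : act 4 n188770 = n149470 := d10_1 D188770 (iv6 D149470) (iv4 F143078)
theorem F374817 : act 5 n188770 = n155589 := d12_1 D188770 (iv6 D155589) (iv5 F349194) (iv6 D92769) D92768
theorem F374818 : act 0 n149014 = n188770 := d17_0 F374817 F356809 F351773 F152439 D98878 (iv0 F349510) F349509 F196516 (iv4 F234295)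
theorem F374819 : act 0 n171132 = n149470 := d18_2 (iv1 F152885) D171132 (iv4 F374816) F374817 F244608 (iv0 F352795) F352798 (iv0 F320755) (iv5 F334424)
def n188771 : Q := act 4 n92774
theorem D188771 : act 4 n92774 = n188771 := rfl
theorem F374820 : act 2 n188771 = n92786 := d1_1 D188771 (iv4 D92786) (iv2 F143092)
theorem F374821 : act 6 n188771 = n144861 := d10_2 (iv6 F143094) D188771 (iv4 D144861)
theorem F374822 : act 5 n188771 = n170757 := d16_7 F109813 D73333 (iv4 F349322) (iv5 D99286) F73268 D92774 D188771 F268350 (iv2 D154628)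
theorem F374823 : act 1 n188771 = n188756 := d18_6 (iv1 D92741) F68169 (iv1 F74047) F73268 D92774 D188771 (iv4 D188756) (iv0 F374670) (iv5 D188743)
theorem F374824 : act 3 n170758 = n188771 := d6_3 F374822 (iv3 D170757) D170758
theorem F374825 : act 3 n148748 = n129667 := d5_5 (iv4 F332393) F374824 (iv4 D188771) F143093 (iv4 F233524)
theorem F374826 : act 6 n134949 = n170758 := d7_0 F374824 F374821 (iv3 F365493)
theorem F374827 : act 6 n129667 = n148747 := d10_2 F374826 F332393 F365494
theorem F374828 : act 5 n129666 = n148748 := d6_0 F374825 (iv5 D129667) D129666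
theorem F374829 : act 2 n187785 = n129666 := d2_3 F374828 F233523 D187785
def n188772 : Q := act 5 n92776
theorem D188772 : act 5 n92776 = n188772 := rfl
theorem F374830 : act 2 n188772 = n92801 := d2_1 D188772 (iv5 D92801) (iv2 F160558)
theorem F374831 : act 3 n188772 = n92778 := d6_1 D188772 (iv5 D92778) D92776
theorem F374832 : act 6 n188772 = n115122 := d12_2 F367166 D188772 (iv5 F342954) (iv6 D159736) (iv5 F367165)
theorem F374833 : act 7 n188772 = n92804 := d13_2 (iv7 F160559) D188772 (iv5 D92804)
theorem F374834 : act 0 n188772 = n93941 := d17_2 F143097 D188772 (iv5 D93941) (iv4 F137955) D187291 (iv0 F369731) (iv5 F347473) F146954 F70043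
def n188773 : Q := act 5 n92781
theorem D188773 : act 5 n92781 = n188773 := rfl
theorem F374835 : act 3 n188773 = n97962 := d6_1 D188773 (iv5 D97962) F143102
theorem F374836 : act 7 n188773 = n183754 := d13_2 (iv7 F160566) D188773 (iv5 D183754)
def n188774 : Q := act 5 n92783
theorem D188774 : act 5 n92783 = n188774 := rfl
theorem F374837 : act 2 n188774 = n93903 := d2_1 D188774 F251609 (iv2 F251606)
theorem F374838 : act 7 n188774 = n93904 := d13_2 (iv7 F251605) D188774 (iv5 F349245)
theorem F374839 : act 0 n188774 = n93807 := d17_2 (iv1 F288419) D188774 (iv5 D93807) F68923 D46286 (iv0 F293379) (iv5 D92564) F67964 (iv4 F292351)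
theorem F374840 : act 0 n93900 = n188774 := d19_0 (iv5 D188774) (iv4 F370461) (iv3 D187469) (iv1 D90188) (iv5 F66919) (iv4 F140230) (iv3 D91186) (iv1 F295288) D87428 F134181 (iv3 F145002) (iv1 F367561) F367559 F138778 (iv3 F135857) (iv1 F135862) (iv5 F293468) (iv4 F331389) F251933
def n188775 : Q := act 4 n92784
theorem D188775 : act 4 n92784 = n188775 := rfl
theorem F374841 : act 3 n188775 = n98524 := d19_3 D188508 F373768 D188775 (iv1 F151925) (iv5 D46072) D46071 D98540 (iv1 F151932) (iv5 F335214) (iv4 D98316) F72579 D46006 F72581 (iv4 D22343) (iv3 F34861) (iv1 F291033) (iv5 F291266) (iv4 F291352) (iv3 F141979)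
theorem F374842 : act 0 n183423 = n188775 := d20_1 F360921 (iv4 D188775) F204766 (iv1 F161502) F83015 (iv4 F143164) (iv1 F143165) F139359 D92748 F364171
theorem F374843 : act 0 n113749 = n188615 := d20_4 (iv4 F176551) (iv1 F177002) (iv4 D113750) D113749 F374195 F360921 F374842 (iv4 D188775) F204766 (iv1 F161502)
theorem F374844 : act 5 n188775 = n153633 := d21_2 D183423 F374842 (iv6 D153633) F304489 (iv6 D46262) (iv5 D22126) (iv1 F31357) (iv5 F44590) (iv6 F298964) (iv1 F301612)
def n188776 : Q := act 6 n92784
theorem D188776 : act 6 n92784 = n188776 := rfl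
def n188777 : Q := act 6 n92785
theorem D188777 : act 6 n92785 = n188777 := rfl
theorem F374845 : act 3 n188777 = n145985 := d7_1 D188777 F338665 F363886
def n188778 : Q := act 1 n92786
theorem D188778 : act 1 n92786 = n188778 := rfl
theorem F374846 : act 4 n188778 = n146890 := d18_7 (iv1 F143006) (iv4 F143010) (iv1 D46851) F35060 D43407 D92786 D188778 (iv0 F371162) (iv5 D187657)
theorem F374847 : act 2 n188756 = n188778 := d1_3 F374846 F230273 D188756
def n188779 : Q := act 6 n92789
theorem D188779 : act 6 n92789 = n188779 := rfl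
theorem F374848 : act 2 n188779 = n187788 := d3_1 D188779 (iv6 D187788) F143114
theorem F374849 : act 4 n188779 = n158798 := d10_1 D188779 F365896 F176994
theorem F374850 : act 5 n188779 = n94331 := d12_1 D188779 (iv6 F164384) F164382 F114371 (iv5 F143112)
theorem F374851 : act 7 n188779 = n158794 := d14_2 (iv7 F143115) D188779 (iv6 D158794) (iv7 F319736) F365895
def n188780 : Q := act 3 n92790
theorem D188780 : act 3 n92790 = n188780 := rfl
theorem F374852 : act 5 n188780 = n136901 := d6_2 (iv5 F143120) D188780 (iv3 D136901)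
theorem F374853 : act 6 n188780 = n92795 := d7_2 (iv6 F143119) D188780 (iv3 D92795)
theorem F374854 : act 7 n188780 = n133258 := d8_2 (iv7 F319949) D188780 F214216
def n188781 : Q := act 4 n92792
theorem D188781 : act 4 n92792 = n188781 := rfl
theorem F374855 : act 2 n188781 = n187760 := d1_1 D188781 (iv4 D187760) (iv2 F143126)
theorem F374856 : act 7 n188781 = n187792 := d11_2 (iv7 F143128) D188781 (iv4 D187792)
def n188782 : Q := act 6 n92792
theorem D188782 : act 6 n92792 = n188782 := rfl
theorem F374857 : act 2 n188782 = n187761 := d3_1 D188782 (iv6 D187761) (iv2 F143126)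
theorem F374858 : act 3 n188782 = n92793 := d7_1 D188782 (iv6 D92793) D92792
theorem F374859 : act 0 n188782 = n133444 := d21_4 F290245 F335793 (iv5 F143127) D188782 (iv6 D133444) D133443 F348979 (iv5 D115204) (iv6 F335807) (iv1 F288283)
def n188783 : Q := act 1 n92793
theorem D188783 : act 1 n92793 = n188783 := rfl
theorem F374860 : act 1 n188783 = n187791 := d15_1 D188783 (iv7 D187791) (iv2 F143129)
theorem F374861 : act 7 n188783 = n133536 := d15_2 (iv0 F365773) D188783 F214814
theorem F374862 : act 2 n187790 = n188783 := d4_3 F374861 F214814 (iv7 F371512)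
theorem F374863 : act 4 n133540 = n188783 := d11_3 F374861 F214815 D133540
theorem F374864 : act 1 n187791 = n130781 := d15_1 F374860 (iv7 F371512) F374862
def n188784 : Q := act 7 n92793
theorem D188784 : act 7 n92793 = n188784 := rfl
theorem F374865 : act 2 n188784 = n187791 := d4_1 D188784 (iv7 D187791) (iv2 F143129)
theorem F374866 : act 4 n188784 = n180746 := d11_1 D188784 (iv7 F374618) F374616
theorem F374867 : act 6 n188784 = n187796 := d14_1 D188784 (iv7 D187796) (iv6 D90574) F68259 D92793
theorem F374868 : act 1 n187790 = n188784 := d15_1 D187790 (iv7 D188784) F143129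
theorem F374869 : act 1 n188784 = n133536 := d15_1 F374868 (iv7 F374861) (iv2 F374862)
def n188785 : Q := act 0 n92794
theorem D188785 : act 0 n92794 = n188785 := rfl
def n188786 : Q := act 1 n92794
theorem D188786 : act 1 n92794 = n188786 := rfl
theorem F374870 : act 1 n188786 = n187796 := d15_1 D188786 (iv7 D187796) (iv2 F143130)
theorem F374871 : act 4 n188786 = n158517 := d17_9 (iv1 D158517) (iv5 D75617) (iv1 F112951) F322822 (iv4 F208633) (iv5 F369519) (iv0 D187210) (iv5 F143132) D188786
theorem F374872 : act 2 n187795 = n188786 := d1_3 F374871 F331834 (iv4 F371518)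
def n188787 : Q := act 7 n92794
theorem D188787 : act 7 n92794 = n188787 := rfl
theorem F374873 : act 2 n188787 = n187796 := d4_1 D188787 (iv7 D187796) (iv2 F143130)
theorem F374874 : act 3 n188787 = n187766 := d8_1 D188787 (iv7 D187766) (iv3 F143131)
theorem F374875 : act 4 n188787 = n152679 := d11_1 D188787 F352110 (iv4 F339468)
theorem F374876 : act 5 n188787 = n187211 := d13_1 D188787 (iv7 D187211) (iv5 F143132)
theorem F374877 : act 6 n188787 = n187791 := d14_1 D188787 (iv7 D187791) (iv6 D90572) (iv7 F68261) D92794
theorem F374878 : act 1 n187796 = n188785 := d15_0 (iv0 D188785) D188787 F374873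
theorem F374879 : act 1 n187795 = n188787 := d15_1 D187795 (iv7 D188787) F143130
theorem F374880 : act 7 n188785 = n187795 := d15_2 F374870 F374878 F374872
theorem F374881 : act 4 n188785 = n133279 := d17_9 F334626 (iv5 D75622) (iv1 D34586) D34587 D75626 D158549 F370425 (iv5 F371524) F374878
theorem F374882 : act 6 n133277 = n188785 := d10_0 F374881 (iv6 D133279) D133277
theorem F374883 : act 2 n188785 = n187794 := d15_3 (iv0 D187794) D187795 (iv7 F374880)
theorem F374884 : act 4 n187794 = n167465 := d1_2 (iv4 F374881) F374883 (iv2 F334628)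
theorem F374885 : act 7 n187794 = n188786 := d4_2 (iv7 F374880) F374883 (iv2 F374872)
theorem F374886 : act 1 n188787 = n187794 := d15_1 F374879 F374885 (iv2 F374872)
def n188788 : Q := act 0 n92795
theorem D188788 : act 0 n92795 = n188788 := rfl
theorem F374887 : act 2 n164290 = n188788 := d15_3 (iv0 D188788) (iv0 F347081) (iv7 F347112)
theorem F374888 : act 1 n164264 = n188788 := d15_0 (iv0 D188788) F143133 (iv2 F258905)
theorem F374889 : act 7 n188788 = n164289 := d15_2 (iv0 F349326) F374888 (iv2 F347111)
def n188789 : Q := act 2 n92795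
theorem D188789 : act 2 n92795 = n188789 := rfl
theorem F374890 : act 3 n188789 = n187799 := d0_2 D92795 D188789 (iv2 D187799) (iv3 D90577) (iv2 F68265)
theorem F374891 : act 4 n188789 = n149083 := d1_2 F349323 D188789 (iv2 F241760)
theorem F374892 : act 5 n188789 = n164265 := d2_2 F143134 D188789 F258906
theorem F374893 : act 7 n188789 = n164264 := d4_2 (iv7 F143133) D188789 F258905
theorem F374894 : act 1 n188789 = n164289 := d15_0 (iv0 D164289) (iv7 F143133) D188789
theorem F374895 : act 1 n164290 = n188789 := d15_0 F374894 (iv7 F374889) (iv2 F374887)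
theorem F374896 : act 4 n164289 = n123407 := d18_7 (iv1 F304381) F85892 D72583 F232289 D149083 (iv4 F374891) F374894 (iv0 D123407) (iv5 D57484)
def n188790 : Q := act 6 n92800
theorem D188790 : act 6 n92800 = n188790 := rfl
theorem F374897 : act 3 n188790 = n92802 := d7_1 D188790 (iv6 D92802) D92800
theorem F374898 : act 4 n188790 = n188087 := d10_1 D188790 (iv6 F372293) F153846
theorem F374899 : act 5 n188790 = n115125 := d12_1 D188790 (iv6 D115125) (iv5 D53123) D53124 (iv5 F335800)
theorem F374900 : act 7 n188790 = n187912 := d14_2 F160549 D188790 F371829 (iv7 F369319) F369318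
theorem F374901 : act 1 n187505 = n188790 := d15_1 F370623 F374900 F371827
def n188791 : Q := act 0 n92801
theorem D188791 : act 0 n92801 = n188791 := rfl
theorem F374902 : act 5 n188791 = n93931 := d17_3 D43416 D92801 D188791 (iv4 F369721) (iv5 F369726) (iv0 F369727) (iv5 D95316) (iv0 D44524) F33423
theorem F374903 : act 2 n93941 = n188791 := d15_3 (iv0 D188791) (iv0 F364725) F159982
theorem F374904 : act 1 n92804 = n188791 := d15_0 (iv0 D188791) F177289 (iv2 F177288)
theorem F374905 : act 6 n130633 = n188791 := d21_9 (iv5 D92804) (iv1 D43417) (iv5 F40335) (iv6 D25503) (iv1 F24513) D31519 F49860 D61294 D130633 (iv1 F374904)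
theorem F374906 : act 3 n188791 = n187740 := d0_2 (iv3 F144767) F374903 (iv2 F371383) (iv3 D104356) (iv2 F75905)
def n188792 : Q := act 0 n92806
theorem D188792 : act 0 n92806 = n188792 := rfl
theorem F374907 : act 4 n188792 = n153953 := d18_3 (iv1 F374767) F374765 D188792 (iv5 D153953) (iv4 F306405) F188542 F188538 F156285 D101474
theorem F374908 : act 2 n153971 = n188792 := d1_3 F374907 F241970 D153971
def n188793 : Q := act 1 n92806
theorem D188793 : act 1 n92806 = n188793 := rfl
theorem F374909 : act 1 n188793 = n187764 := d15_1 D188793 (iv7 D187764) (iv2 F143153)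
theorem F374910 : act 7 n188793 = n153971 := d15_2 (iv0 D188792) D188793 F374908
theorem F374911 : act 4 n153972 = n188793 := d11_3 F374910 (iv4 D153971) D153972
def n188794 : Q := act 7 n92806
theorem D188794 : act 7 n92806 = n188794 := rfl
theorem F374912 : act 2 n188794 = n187764 := d4_1 D188794 (iv7 D187764) (iv2 F143153)
theorem F374913 : act 3 n188794 = n187791 := d8_1 D188794 (iv7 D187791) (iv3 F143154)
theorem F374914 : act 5 n188794 = n187879 := d13_1 D188794 (iv7 D187879) (iv5 F143155)
theorem F374915 : act 6 n188794 = n187766 := d14_1 D188794 (iv7 D187766) (iv6 D90544) (iv7 F68278) D92806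
theorem F374916 : act 1 n187764 = n188792 := d15_0 (iv0 D188792) D188794 F374912
theorem F374917 : act 1 n187763 = n188794 := d15_1 D187763 (iv7 D188794) F143153
theorem E103325 : n187879 = n187829 := ((c21_11 (iv5 F374914) (iv1 F374917) (iv5 F372054) (iv6 D188002) (iv1 F370676) (iv6 D187523) F138891 (iv1 F65157) D42415 D90597 D187829)).symm
theorem F374918 : act 5 n187829 = n188794 := (sb E103325 (iv5 F374914))
theorem F374919 : act 7 n187829 = n90634 := (sb E103325 (iv7 D187879))
theorem F374920 : act 4 n123619 = n188794 := d20_8 (iv4 F374863) (iv1 F352106) (iv4 F334643) (iv3 F334644) F209224 (iv3 F365364) (iv4 D123621) D123619 F374913 (iv1 F374860)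
theorem F374921 : act 7 n188761 = n123619 := d11_0 F374920 (iv7 D188794) (iv4 F374765)
theorem F374922 : act 0 n153971 = n188794 := d20_7 (iv4 F374891) (iv1 F374895) F338555 F242347 (iv1 D72883) (iv3 F109357) D153971 (iv4 F374920) F338732 (iv1 F242745)
theorem E103326 : n187762 = n153971 := ((c15_1 (iv0 F374922) (iv0 D187762) D187764 (iv2 F374912))).symm
theorem F374923 : act 1 n153971 = n90543 := (sb E103326 (iv0 D187762))
theorem F374924 : act 2 n188793 = n187763 := d15_3 F374917 (iv0 F374922) (iv7 F374910)
theorem F374925 : act 7 n187763 = n188792 := d4_2 (iv7 F374910) F374924 (iv2 F374908)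
theorem F374926 : act 3 n186803 = n123620 := d20_5 D154015 (iv1 F242346) F242344 (iv3 F306918) D186803 F365802 (iv1 F374923) (iv4 D153971) F109357 D72882
theorem F374927 : act 6 n187686 = n186803 := d7_0 F374926 (iv6 F365801) D187686
theorem F374928 : act 6 n96164 = n188762 := d14_5 F374768 F374927 (iv7 F368061) (iv6 F368067) (iv7 F367868)
theorem F374929 : act 0 n137138 = n187686 := d21_4 (iv5 D30359) D30356 D64469 D137138 F374927 F368058 F338117 (iv5 D101529) F329870 (iv1 D64479)
theorem F374930 : act 3 n188763 = n96164 := d7_3 F374928 (iv3 D188762) D188763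
def n188795 : Q := act 4 n92807
theorem D188795 : act 4 n92807 = n188795 := rfl
theorem F374931 : act 2 n188795 = n187792 := d1_1 D188795 (iv4 D187792) (iv2 F143156)
theorem F374932 : act 7 n188795 = n187760 := d11_2 (iv7 F143158) D188795 (iv4 D187760)
def n188796 : Q := act 6 n92807
theorem D188796 : act 6 n92807 = n188796 := rfl
theorem F374933 : act 2 n188796 = n187793 := d3_1 D188796 (iv6 D187793) (iv2 F143156)
theorem F374934 : act 3 n188796 = n92808 := d7_1 D188796 (iv6 D92808) D92807
theorem F374935 : act 5 n188796 = n188562 := d12_1 D188796 (iv6 D188562) (iv5 D92470) D92471 (iv5 F143157)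
theorem F374936 : act 1 n154053 = n188796 := d17_6 D119720 (iv5 F190815) F190123 (iv5 D72932) D72931 D154053 F374935 (iv0 F373975) (iv4 D119722)
theorem F374937 : act 0 n142854 = n188796 := d21_7 (iv5 F364343) F364341 (iv5 F291662) F333376 (iv1 D66954) D66956 D142854 F374935 (iv6 D188562) F317795
theorem F374938 : act 0 n135837 = n142851 := d21_1 D135837 F365568 F365567 F374937 (iv6 D188796) F143157 (iv1 F364365) (iv5 F290245) F364366 (iv1 D135836)
def n188797 : Q := act 0 n92809
theorem D188797 : act 0 n92809 = n188797 := rfl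
theorem F374939 : act 6 n188797 = n124724 := d21_5 (iv5 F168836) F220872 (iv5 D137697) (iv6 F143161) D188797 (iv5 F240981) (iv1 F242044) (iv5 F310389) (iv6 F345942) (iv1 F219111)
theorem F374940 : act 2 n154020 = n188797 := d3_3 F374939 F240982 D154020
def n188798 : Q := act 1 n92809
theorem D188798 : act 1 n92809 = n188798 := rfl
theorem F374941 : act 7 n188798 = n154020 := d15_2 (iv0 D188797) D188798 F374940
def n188799 : Q := act 2 n92809
theorem D188799 : act 2 n92809 = n188799 := rfl
theorem F374942 : act 3 n188799 = n187772 := d0_2 D92809 D188799 (iv2 D187772) (iv3 D90547) (iv2 F68273)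
theorem F374943 : act 6 n188799 = n136124 := d3_2 (iv6 F143161) D188799 (iv2 F219144)
def n188800 : Q := act 5 n92809
theorem D188800 : act 5 n92809 = n188800 := rfl
theorem F374944 : act 3 n188800 = n92810 := d6_1 D188800 (iv5 D92810) D92809
theorem F374945 : act 7 n187022 = n188800 := d8_0 F374944 F292656 D187022
def n188801 : Q := act 7 n92809
theorem D188801 : act 7 n92809 = n188801 := rfl
theorem F374946 : act 3 n188801 = n92811 := d8_1 D188801 (iv7 D92811) D92809
theorem F374947 : act 5 n188801 = n187022 := d13_1 D188801 F374945 (iv5 D188800)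
def n188802 : Q := act 6 n92810
theorem D188802 : act 6 n92810 = n188802 := rfl
theorem F374948 : act 2 n188802 = n187031 := d3_1 D188802 (iv6 D187031) F293345
theorem F374949 : act 4 n188802 = n102317 := d10_1 D188802 F157138 (iv4 F292655)
def n188803 : Q := act 6 n92811
theorem D188803 : act 6 n92811 = n188803 := rfl
theorem F374950 : act 2 n188803 = n187774 := d3_1 D188803 (iv6 D187774) (iv2 F143163)
theorem F374951 : act 4 n188803 = n92812 := d10_1 D188803 (iv6 D92812) (iv4 F143164)
theorem F374952 : act 0 n130137 = n188803 := d18_2 F95923 D130137 F374951 F319151 (iv4 D62533) (iv0 D29554) (iv4 F47390) D62507 (iv5 F97465)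
def n188804 : Q := act 0 n92812
theorem D188804 : act 0 n92812 = n188804 := rfl
theorem F374953 : act 5 n188804 = n130099 := d17_3 (iv1 D133247) (iv5 F319151) D188804 F208578 D135273 (iv0 F357807) (iv5 F319008) D129296 F214106
theorem F374954 : act 3 n188804 = n133246 := d20_5 (iv4 F343647) (iv1 F203016) F203012 F161491 D188804 F214103 F214128 (iv4 D130931) (iv3 F324650) D105309
theorem F374955 : act 2 n187775 = n188804 := d15_3 (iv0 D188804) F319150 (iv7 F371457)
theorem F374956 : act 1 n133260 = n188804 := d15_0 (iv0 D188804) (iv7 F161488) F321199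
theorem F374957 : act 7 n188804 = n135345 := d15_2 F218475 F374956 (iv2 F218472)
def n188805 : Q := act 6 n92813
theorem D188805 : act 6 n92813 = n188805 := rfl
theorem F374958 : act 2 n188805 = n159502 := d3_1 D188805 (iv6 D159502) (iv2 F143169)
theorem F374959 : act 3 n188805 = n149423 := d7_1 D188805 (iv6 D149423) (iv3 F143170)
theorem F374960 : act 0 n188805 = n164490 := d21_4 F76772 (iv1 F68283) D92813 D188805 (iv6 F347690) F347695 (iv1 F178534) F178532 (iv6 D114433) F83453
theorem F374961 : act 0 n93960 = n188805 := d21_4 (iv5 D22945) D22942 D47655 (iv6 F291716) (iv6 D188805) (iv5 D92813) (iv1 D43423) D43424 F68287 F291097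
def n188806 : Q := act 6 n92814
theorem D188806 : act 6 n92814 = n188806 := rfl
def n188807 : Q := act 3 n92815
theorem D188807 : act 3 n92815 = n188807 := rfl
theorem F374962 : act 2 n188807 = n114478 := d0_1 D188807 F178535 (iv2 F178486) (iv3 F178537) F178536
theorem F374963 : act 5 n188807 = n106294 := d6_2 (iv5 F143175) D188807 (iv3 F163363)
theorem F374964 : act 7 n188807 = n114432 := d8_2 F143177 D188807 F178467
theorem F374965 : act 0 n114805 = n188807 := d17_2 D90276 (iv5 F178879) F374963 (iv4 F163364) D114478 (iv0 F371535) (iv5 D187800) (iv0 D90581) F65490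
theorem F374966 : act 1 n151222 = n188807 := d17_6 (iv1 F94487) D106258 (iv1 F205583) (iv5 F205585) F164493 (iv5 F237950) F374963 F163361 (iv4 F94483)
def n188808 : Q := act 4 n92815
theorem D188808 : act 4 n92815 = n188808 := rfl
theorem F374967 : act 2 n188808 = n154712 := d1_1 D188808 F242889 F178536
theorem F374968 : act 7 n188808 = n114438 := d11_2 F143177 D188808 (iv4 D114438)
theorem F374969 : act 5 n154711 = n188808 := d2_0 F374967 (iv5 D154712) D154711
def n188809 : Q := act 6 n92815
theorem D188809 : act 6 n92815 = n188809 := rfl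
theorem F374970 : act 5 n188809 = n113774 := d12_1 D188809 (iv6 D113774) (iv5 D52533) D52534 (iv5 F143175)
def n188810 : Q := act 4 n92816
theorem D188810 : act 4 n92816 = n188810 := rfl
theorem F374971 : act 2 n188810 = n114438 := d1_1 D188810 (iv4 D114438) (iv2 F143180)
theorem F374972 : act 3 n188810 = n147915 := d5_1 D188810 (iv4 F237853) (iv3 F241265) (iv4 D114476) (iv3 F143181)
theorem F374973 : act 7 n188810 = n154712 := d11_2 F178538 D188810 F242889
theorem F374974 : act 5 n147914 = n188810 := d13_3 F374973 (iv5 D154712) (iv7 F231699)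
def n188811 : Q := act 5 n92817
theorem D188811 : act 5 n92817 = n188811 := rfl
theorem F374975 : act 2 n188811 = n140431 := d2_1 D188811 F363561 F250861
theorem F374976 : act 3 n188811 = n92856 := d6_1 D188811 (iv5 D92856) (iv3 F365302)
theorem F374977 : act 7 n188811 = n99454 := d13_2 F371555 D188811 F371556
theorem F374978 : act 0 n188811 = n115795 := d18_0 F180169 F371601 F371621 (iv5 F371618) (iv4 D187824) F139489 D114281 F178128 D188811
theorem F374979 : act 6 n115730 = n188811 := d3_0 F374975 (iv6 D140431) (iv2 F228317)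
def n188812 : Q := act 6 n92817
theorem D188812 : act 6 n92817 = n188812 := rfl
theorem F374980 : act 3 n188812 = n92857 := d7_1 D188812 (iv6 D92857) (iv3 F365302)
theorem F374981 : act 4 n188812 = n92818 := d10_1 D188812 (iv6 D92818) D92817
def n188813 : Q := act 0 n92818
theorem D188813 : act 0 n92818 = n188813 := rfl
def n188814 : Q := act 1 n92818
theorem D188814 : act 1 n92818 = n188814 := rfl
def n188815 : Q := act 5 n92818
theorem D188815 : act 5 n92818 = n188815 := rfl
theorem F374982 : act 2 n188815 = n93883 := d2_1 D188815 (iv5 F250865) F250863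
theorem F374983 : act 3 n188815 = n107547 := d6_1 D188815 (iv5 F238405) F238404
theorem F374984 : act 6 n188815 = n92819 := d12_2 D92818 D188815 (iv5 D92819) (iv6 D43429) D43428
def n188816 : Q := act 7 n92818
theorem D188816 : act 7 n92818 = n188816 := rfl
def n188817 : Q := act 4 n92819
theorem D188817 : act 4 n92819 = n188817 := rfl
theorem F374985 : act 2 n188817 = n93882 := d1_1 D188817 (iv4 D93882) (iv2 F143182)
theorem F374986 : act 7 n188817 = n93880 := d11_2 (iv7 F143184) D188817 (iv4 D93880)
theorem F374987 : act 0 n188817 = n187653 := d18_2 F143186 D188817 (iv4 D187653) (iv5 D90426) F65295 F65043 (iv4 F52212) F65520 (iv5 F69010)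
def n188818 : Q := act 3 n92820
theorem D188818 : act 3 n92820 = n188818 := rfl
theorem F374988 : act 2 n188818 = n92881 := d0_1 D188818 (iv3 D92881) (iv2 F142656) (iv3 F371554) F371553
theorem F374989 : act 4 n188818 = n115058 := d5_2 D92820 D188818 (iv3 D115058) (iv4 D53091) (iv3 F83013)
theorem F374990 : act 0 n154744 = n188818 := d20_4 D150956 F237668 F206496 (iv3 F243416) (iv3 D188818) (iv4 D92820) (iv1 F143178) D188810 F374972 F231702
theorem F374991 : act 5 n188818 = n100984 := d19_1 F374990 (iv4 F373250) F373247 (iv1 F294332) (iv5 D48081) F62533 F30959 F62486 (iv5 F293743) (iv4 F17655) (iv3 F17733) (iv1 F36227) D47990 (iv4 F324322) (iv3 D72725) (iv1 F94880) D128378 F206496 (iv3 F243416)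
theorem F374992 : act 0 n145405 = n154745 := d21_4 F165855 (iv1 F78444) D68170 D145405 (iv6 D154745) D154744 F374990 F374991 F364960 (iv1 F165858)
def n188819 : Q := act 5 n92820
theorem D188819 : act 5 n92820 = n188819 := rfl
theorem F374993 : act 2 n188819 = n99454 := d2_1 D188819 F371556 F371553
theorem F374994 : act 3 n188819 = n100984 := d6_1 D188819 (iv5 F374991) (iv3 D188818)
theorem F374995 : act 7 n188819 = n140431 := d13_2 F250862 D188819 F363561
theorem F374996 : act 4 n188819 = n103834 := d16_2 D92820 D188819 (iv5 F373213) F373212 (iv5 D92814) (iv4 D43427) D43428 (iv7 F139456) F139454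
theorem F374997 : act 0 n115795 = n188819 := d19_0 (iv5 D188819) (iv4 D92820) F83013 (iv1 D25752) (iv5 D12223) F8914 F3814 D2539 D6031 D12756 F26691 (iv1 F12014) (iv5 F12083) (iv4 F318335) (iv3 F24192) (iv1 F49122) (iv5 F49123) D53395 D115795
theorem F374998 : act 6 n140664 = n188819 := d7_0 F374994 F364960 (iv3 F362760)
def n188820 : Q := act 6 n92820
theorem D188820 : act 6 n92820 = n188820 := rfl
theorem F374999 : act 4 n188820 = n92821 := d10_1 D188820 (iv6 D92821) D92820
def n188821 : Q := act 0 n92821
theorem D188821 : act 0 n92821 = n188821 := rfl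
theorem F375000 : act 5 n188821 = n187791 := d21_8 (iv5 F371519) F371522 (iv5 F339464) (iv6 F339462) F143105 D159575 F251338 D188821 (iv6 F374877) (iv1 F374879)
theorem F375001 : act 3 n187829 = n188821 := d6_3 F375000 (iv3 F374913) (iv5 F374918)
theorem F375002 : act 7 n92852 = n188821 := d13_0 F375000 (iv7 D187791) (iv5 F143223)
def n188822 : Q := act 7 n92821
theorem D188822 : act 7 n92821 = n188822 := rfl
theorem F375003 : act 3 n188822 = n115062 := d8_1 D188822 (iv7 D115062) (iv3 F143187)
theorem F375004 : act 5 n188822 = n132801 := d13_1 D188822 F363185 F251338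
theorem F375005 : act 1 n92852 = n188822 := d15_1 (iv0 F371560) (iv7 D188822) (iv2 F371557)
def n188823 : Q := act 0 n92822
theorem D188823 : act 0 n92822 = n188823 := rfl
theorem F375006 : act 5 n188823 = n115795 := d17_1 D188823 F374997 (iv5 D188819) (iv4 D92820) (iv5 D43433) F65498 (iv5 F139466) F139468 D92822
theorem F375007 : act 4 n188823 = n114252 := d18_3 D43435 D92822 D188823 F178075 F139475 F138570 (iv4 D43427) (iv0 D20533) D20535
theorem F375008 : act 3 n188823 = n115796 := d20_5 (iv4 D20549) D20547 D43463 (iv3 F349184) D188823 (iv4 F343858) (iv1 D171107) (iv4 F349178) (iv3 D92919) (iv1 D43472)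
theorem F375009 : act 2 n114284 = n188823 := d15_3 (iv0 D188823) (iv0 F154350) (iv7 F178132)
theorem F375010 : act 1 n92824 = n188823 := d15_0 (iv0 D188823) (iv7 F371563) F371561
theorem F375011 : act 7 n188823 = n114287 := d15_2 F154351 F375010 F178141
def n188824 : Q := act 5 n92822
theorem D188824 : act 5 n92822 = n188824 := rfl
theorem F375012 : act 3 n188824 = n92897 := d6_1 D188824 (iv5 D92897) (iv3 F349184)
theorem F375013 : act 7 n188824 = n108479 := d13_2 F371563 D188824 F371566
def n188825 : Q := act 6 n92822
theorem D188825 : act 6 n92822 = n188825 := rfl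
theorem F375014 : act 3 n188825 = n92898 := d7_1 D188825 (iv6 D92898) (iv3 F349184)
theorem F375015 : act 4 n188825 = n92823 := d10_1 D188825 (iv6 D92823) D92822
def n188826 : Q := act 0 n92823
theorem D188826 : act 0 n92823 = n188826 := rfl
theorem F375016 : act 3 n188826 = n140782 := d20_5 D147967 F335955 (iv4 F335954) F161813 D188826 (iv4 F373218) (iv1 F373220) (iv4 D140849) F101740 D69318
theorem F375017 : act 5 n140781 = n188826 := d6_0 F375016 (iv5 D140782) D140781
def n188827 : Q := act 1 n92823
theorem D188827 : act 1 n92823 = n188827 := rfl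
def n188828 : Q := act 7 n92823
theorem D188828 : act 7 n92823 = n188828 := rfl
theorem F375018 : act 3 n188828 = n146332 := d8_1 D188828 (iv7 F314511) F161813
theorem F375019 : act 5 n188828 = n117584 := d13_1 D188828 (iv7 F314508) F161809
def n188829 : Q := act 3 n92824
theorem D188829 : act 3 n92824 = n188829 := rfl
theorem F375020 : act 2 n188829 = n92909 := d0_1 D188829 (iv3 D92909) (iv2 F142665) (iv3 F371562) F371561
theorem F375021 : act 4 n188829 = n159338 := d5_2 D92824 D188829 (iv3 D159338) (iv4 D76221) (iv3 F68291)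
theorem F375022 : act 5 n103867 = n188829 := d16_3 F67986 D48085 D103867 F375021 (iv5 F250877) F360964 (iv5 D92871) (iv7 F177332) F177329
theorem F375023 : act 2 n154742 = n103867 := d2_3 F375022 F375020 (iv5 F365331)
theorem F375024 : act 4 n103863 = n154742 := d1_0 F375023 (iv4 D103867) (iv2 F159283)
def n188830 : Q := act 5 n92824
theorem D188830 : act 5 n92824 = n188830 := rfl
theorem F375025 : act 2 n188830 = n108479 := d2_1 D188830 F371566 F371561
theorem F375026 : act 3 n188830 = n103867 := d6_1 D188830 F375022 (iv3 D188829)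
theorem F375027 : act 4 n188830 = n103878 := d16_2 D92824 D188830 (iv5 F370662) F370663 (iv5 D114243) (iv4 F83312) (iv5 F83441) (iv7 F139459) (iv2 F139461)
theorem F375028 : act 6 n188830 = n108475 := d21_3 (iv5 F375006) (iv1 F375010) D188830 F357646 F79281 (iv5 F336079) D187939 F371883 F374979 F374978
def n188831 : Q := act 6 n92824
theorem D188831 : act 6 n92824 = n188831 := rfl
theorem F375029 : act 4 n188831 = n92825 := d10_1 D188831 (iv6 D92825) D92824
def n188832 : Q := act 0 n92825
theorem D188832 : act 0 n92825 = n188832 := rfl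
theorem F375030 : act 5 n188832 = n94354 := d21_0 (iv1 F352920) F367190 (iv6 F374294) (iv1 F374295) (iv6 F143262) (iv5 D52817) F76683 F68290 D92825 D188832
def n188833 : Q := act 1 n92825
theorem D188833 : act 1 n92825 = n188833 := rfl
theorem F375031 : act 5 n188833 = n94355 := d17_7 (iv1 D131138) F96053 D107115 F352892 F349635 F164389 D188833 F367207 (iv4 F352931)
theorem F375032 : act 6 n92899 = n188833 := d21_5 (iv5 D47942) F291317 (iv5 D43464) D43465 D92899 F375031 (iv1 D94355) (iv5 F142642) (iv6 D92597) (iv1 F292101)
def n188834 : Q := act 7 n92825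
theorem D188834 : act 7 n92825 = n188834 := rfl
theorem F375033 : act 3 n188834 = n159342 := d8_1 D188834 (iv7 D159342) (iv3 F143188)
theorem F375034 : act 5 n188834 = n103016 := d13_1 D188834 (iv7 F356095) F164389
def n188835 : Q := act 3 n92826
theorem D188835 : act 3 n92826 = n188835 := rfl
def n188836 : Q := act 6 n92826
theorem D188836 : act 6 n92826 = n188836 := rfl
def n188837 : Q := act 6 n92827
theorem D188837 : act 6 n92827 = n188837 := rfl
theorem F375035 : act 3 n188837 = n153627 := d7_1 D188837 (iv6 D153627) (iv3 F143189)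
theorem F375036 : act 4 n188837 = n92828 := d10_1 D188837 (iv6 D92828) (iv4 F143190)
theorem F375037 : act 7 n188837 = n92930 := d14_2 D92827 D188837 (iv6 D92930) (iv7 D43475) (iv6 F68292)
def n188838 : Q := act 6 n92831
theorem D188838 : act 6 n92831 = n188838 := rfl
theorem F375038 : act 3 n188838 = n157741 := d7_1 D188838 F248617 (iv3 F143196)
theorem F375039 : act 5 n188838 = n187852 := d12_1 D188838 (iv6 D187852) (iv5 D90609) (iv6 F177386) D92831
theorem F375040 : act 7 n188838 = n145233 := d14_2 F157814 D188838 (iv6 D145233) F104209 (iv6 F139313)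
def n188839 : Q := act 6 n92838
theorem D188839 : act 6 n92838 = n188839 := rfl
theorem F375041 : act 2 n188839 = n92843 := d3_1 D188839 (iv6 D92843) (iv2 F143207)
theorem F375042 : act 4 n188839 = n115052 := d10_1 D188839 (iv6 D115052) (iv4 F329799)
def n188840 : Q := act 0 n92843
theorem D188840 : act 0 n92843 = n188840 := rfl
def n188841 : Q := act 1 n92843
theorem D188841 : act 1 n92843 = n188841 := rfl
def n188842 : Q := act 7 n92843
theorem D188842 : act 7 n92843 = n188842 := rfl
theorem F375043 : act 3 n188842 = n92861 := d8_1 D188842 (iv7 D92861) (iv3 F143209)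
theorem F375044 : act 6 n188842 = n150770 := d14_1 D188842 (iv7 F238459) F238393 F142655 D92843
def n188843 : Q := act 4 n92848
theorem D188843 : act 4 n92848 = n188843 := rfl
theorem F375045 : act 2 n188843 = n187873 := d1_1 D188843 (iv4 D187873) (iv2 F143215)
theorem F375046 : act 6 n188843 = n188292 := d10_2 (iv6 F364352) D188843 F372984
def n188844 : Q := act 3 n92849
theorem D188844 : act 3 n92849 = n188844 := rfl
theorem F375047 : act 5 n188844 = n100262 := d6_2 (iv5 F292037) D188844 (iv3 D100262)
theorem F375048 : act 7 n188844 = n155856 := d8_2 (iv7 F292038) D188844 (iv3 F365266)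
theorem F375049 : act 2 n155836 = n188844 := d2_3 F375047 F329943 D155836
def n188845 : Q := act 6 n92849
theorem D188845 : act 6 n92849 = n188845 := rfl
theorem F375050 : act 4 n188845 = n92850 := d10_1 D188845 (iv6 D92850) D92849
def n188846 : Q := act 0 n92850
theorem D188846 : act 0 n92850 = n188846 := rfl
theorem F375051 : act 6 n188846 = n188006 := d21_5 (iv5 F67998) F291336 (iv5 F291337) D92850 D188846 (iv5 D188006) (iv1 D90720) (iv5 F68332) (iv6 D43476) (iv1 F67997)
def n188847 : Q := act 1 n92850
theorem D188847 : act 1 n92850 = n188847 := rfl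
def n188848 : Q := act 7 n92850
theorem D188848 : act 7 n92850 = n188848 := rfl
theorem F375052 : act 3 n188848 = n188304 := d8_1 D188848 F373034 F364374
theorem F375053 : act 5 n188848 = n188598 := d13_1 D188848 (iv7 D188598) (iv5 F143219)
def n188849 : Q := act 3 n92851
theorem D188849 : act 3 n92851 = n188849 := rfl
theorem F375054 : act 4 n188849 = n187877 := d5_2 D92851 D188849 (iv3 D187877) (iv4 D90633) F69435
theorem F375055 : act 5 n188849 = n100243 := d6_2 (iv5 F292034) D188849 (iv3 D100243)
def n188850 : Q := act 6 n92851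
theorem D188850 : act 6 n92851 = n188850 := rfl
theorem F375056 : act 4 n188850 = n92852 := d10_1 D188850 (iv6 D92852) D92851
def n188851 : Q := act 3 n92854
theorem D188851 : act 3 n92854 = n188851 := rfl
def n188852 : Q := act 6 n92854
theorem D188852 : act 6 n92854 = n188852 := rfl
theorem F375057 : act 4 n188852 = n188095 := d10_1 D188852 (iv6 D188095) (iv4 F291273)
def n188853 : Q := act 6 n92856
theorem D188853 : act 6 n92856 = n188853 := rfl
theorem F375058 : act 2 n188853 = n100991 := d3_1 D188853 (iv6 D100991) (iv2 F293130)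
theorem F375059 : act 3 n188853 = n115730 := d7_1 D188853 F374979 F374976
theorem F375060 : act 4 n188853 = n93104 := d10_1 D188853 (iv6 D93104) (iv4 F143232)
theorem F375061 : act 0 n139320 = n188853 := d20_1 D139320 F375060 (iv3 F357569) (iv1 D139934) (iv3 D65698) (iv4 D30768) (iv1 F40943) (iv4 F84356) (iv3 F172957) (iv1 F172962)
theorem F375062 : act 7 n140433 = n188853 := d8_0 F375059 F228318 D140433
theorem F375063 : act 0 n188853 = n139315 := d20_10 (iv4 D139315) (iv1 F172960) F172958 F101547 F84230 D115765 F180134 F228315 F228314 (iv3 F375059)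
def n188854 : Q := act 0 n92857
theorem D188854 : act 0 n92857 = n188854 := rfl
def n188855 : Q := act 1 n92857
theorem D188855 : act 1 n92857 = n188855 := rfl
theorem F375064 : act 4 n188855 = n188670 := d18_7 (iv1 F288667) F353353 F352912 F129358 (iv5 F293200) (iv4 F143233) D188855 F374364 F292045
theorem F375065 : act 2 n123991 = n188855 := d1_3 F375064 (iv2 F374380) (iv4 F374383)
theorem F375066 : act 5 n188855 = n136431 := d16_1 (iv4 F375064) (iv4 D136431) (iv5 D64140) (iv4 F82446) (iv5 F95778) (iv4 F209195) (iv5 F374362) (iv7 F374378) F374380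
def n188856 : Q := act 5 n92857
theorem D188856 : act 5 n92857 = n188856 := rfl
def n188857 : Q := act 7 n92857
theorem D188857 : act 7 n92857 = n188857 := rfl
theorem F375067 : act 4 n188857 = n92861 := d11_1 D188857 (iv7 D92861) (iv4 F143233)
theorem F375068 : act 1 n123991 = n188857 := d15_1 F374384 (iv7 D188857) (iv2 F374271)
def n188858 : Q := act 2 n92858
theorem D188858 : act 2 n92858 = n188858 := rfl
theorem F375069 : act 7 n92859 = n188858 := d15_2 (iv0 D92858) D92859 (iv2 D188858)
def n188859 : Q := act 3 n92858
theorem D188859 : act 3 n92858 = n188859 := rfl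
def n188860 : Q := act 4 n92858
theorem D188860 : act 4 n92858 = n188860 := rfl
def n188861 : Q := act 5 n92858
theorem D188861 : act 5 n92858 = n188861 := rfl
theorem F375070 : act 0 n188861 = n106684 := d21_1 D188861 F164389 (iv6 D92825) (iv1 D43436) F32638 (iv5 D9748) D9746 D20540 D43447 D92858
theorem F375071 : act 6 n188813 = n92858 := d21_5 (iv5 D20535) D20533 D43428 D92818 D188813 D188861 F375070 F164389 (iv6 D92825) (iv1 D43436)
def n188862 : Q := act 7 n92858
theorem D188862 : act 7 n92858 = n188862 := rfl
theorem F375072 : act 2 n188862 = n92859 := d4_1 D188862 F375069 (iv2 D188858)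
def n188863 : Q := act 3 n92859
theorem D188863 : act 3 n92859 = n188863 := rfl
def n188864 : Q := act 4 n92859
theorem D188864 : act 4 n92859 = n188864 := rfl
def n188865 : Q := act 5 n92859
theorem D188865 : act 5 n92859 = n188865 := rfl
theorem F375073 : act 1 n188865 = n106684 := d17_8 (iv1 F329292) (iv5 D102174) D102172 (iv5 F352910) F129358 (iv5 F293200) D92859 D188865 (iv4 F349635)
theorem F375074 : act 6 n188865 = n187182 := d21_9 (iv5 F370775) (iv1 F370778) D187970 (iv6 F371978) (iv1 F293799) F293803 (iv5 F374276) (iv1 F374279) D188865 (iv1 F369407)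
def n188866 : Q := act 6 n92859
theorem D188866 : act 6 n92859 = n188866 := rfl
theorem F375075 : act 0 n188866 = n188001 := d21_10 (iv5 D188001) (iv1 F370676) (iv5 F371574) (iv6 D187809) (iv1 F139467) D92825 (iv5 F164389) (iv1 F375073) (iv5 D188865) D188866
def n188867 : Q := act 4 n92868
theorem D188867 : act 4 n92868 = n188867 := rfl
theorem F375076 : act 7 n188867 = n187776 := d11_2 (iv7 F177366) D188867 (iv4 D187776)
def n188868 : Q := act 6 n92868
theorem D188868 : act 6 n92868 = n188868 := rfl
theorem F375077 : act 3 n188868 = n187852 := d7_1 D188868 (iv6 D187852) (iv3 F143244)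
theorem F375078 : act 5 n188868 = n157741 := d12_1 D188868 F248617 (iv5 D90651) F177367 D92868
theorem F375079 : act 7 n188868 = n157740 := d14_2 (iv7 F177366) D188868 F248614 F114185 (iv6 F139371)
theorem F375080 : act 0 n114904 = n188868 := d21_4 (iv5 D53067) (iv1 F40663) D53018 D114904 (iv6 D188868) (iv5 D92868) (iv1 D43453) D43456 (iv6 F177453) (iv1 F83770)
def n188869 : Q := act 5 n92870
theorem D188869 : act 5 n92870 = n188869 := rfl
theorem F375081 : act 2 n188869 = n92873 := d2_1 D188869 (iv5 D92873) (iv2 F143246)
theorem F375082 : act 3 n188869 = n100798 := d6_1 D188869 (iv5 D100798) (iv3 F143248)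
theorem F375083 : act 7 n188869 = n103863 := d13_2 (iv7 F143247) D188869 (iv5 D103863)
theorem F375084 : act 0 n188869 = n103866 := d17_2 F143249 D188869 (iv5 F370150) (iv4 F372395) (iv5 F372401) (iv0 D187567) (iv5 D90343) (iv0 F176031) F176033
theorem F375085 : act 1 n188869 = n103865 := d17_6 F371817 (iv5 F374248) (iv1 F374250) (iv5 D92871) D92870 D188869 F360294 (iv0 D96070) F143278
def n188870 : Q := act 0 n92873
theorem D188870 : act 0 n92873 = n188870 := rfl
theorem F375086 : act 5 n188870 = n188385 := d17_3 F139670 D92873 D188870 F373234 (iv5 F369985) F251135 F251133 (iv0 F205436) D90739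
theorem F375087 : act 4 n188870 = n138772 := d20_2 F365603 D188870 (iv3 D138772) (iv1 D65161) F318404 (iv4 D54491) D54489 (iv4 F86059) D73384 D154741
theorem F375088 : act 3 n188870 = n107111 := d20_5 D91302 (iv1 F294316) (iv4 D103630) (iv3 F143256) D188870 F165085 (iv1 D51181) D51182 F295629 F291427
theorem F375089 : act 0 n138772 = n188013 := d20_1 F375087 (iv4 D188013) F139643 F65627 F291408 D91302 (iv1 F294316) (iv4 D103630) (iv3 F143256) D188870
theorem F375090 : act 1 n103863 = n188870 := d15_0 (iv0 D188870) F143257 (iv2 F159283)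
theorem F375091 : act 7 n103865 = n188870 := d8_0 F375088 (iv7 F331321) F360295
theorem F375092 : act 2 n188870 = n103866 := d15_3 (iv0 F375084) F375085 F375091
def n188871 : Q := act 1 n92873
theorem D188871 : act 1 n92873 = n188871 := rfl
theorem F375093 : act 1 n188871 = n103863 := d15_1 D188871 (iv7 F375083) F375081
theorem F375094 : act 7 n188871 = n103866 := d15_2 (iv0 D188870) D188871 (iv2 F375092)
theorem F375095 : act 5 n188871 = n96976 := d17_7 F251956 F161636 (iv1 D92875) (iv5 D43456) D43455 D92873 D188871 (iv0 F367233) (iv4 F251954)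
theorem F375096 : act 2 n103865 = n188871 := d2_3 F375095 (iv2 F360292) (iv5 F360294)
def n188872 : Q := act 6 n92873
theorem D188872 : act 6 n92873 = n188872 := rfl
theorem F375097 : act 3 n188872 = n103631 := d7_1 D188872 (iv6 D103631) (iv3 F143256)
def n188873 : Q := act 3 n92874
theorem D188873 : act 3 n92874 = n188873 := rfl
theorem F375098 : act 2 n188873 = n184508 := d0_1 D188873 F363652 (iv2 F370711) F374258 (iv2 F374257)
theorem F375099 : act 7 n188873 = n184498 := d8_2 (iv7 F374254) D188873 (iv3 F374249)
theorem F375100 : act 4 n188873 = n101095 := d20_6 (iv4 F143224) (iv1 F143226) (iv4 D43458) (iv3 F68313) D92874 D188873 (iv1 F373332) F373333 F142710 (iv1 F138593)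
def n188874 : Q := act 4 n92874
theorem D188874 : act 4 n92874 = n188874 := rfl
theorem F375101 : act 2 n188874 = n188036 := d1_1 D188874 (iv4 F374259) (iv2 F374257)
theorem F375102 : act 3 n188874 = n101097 := d5_1 D188874 (iv4 D101097) (iv3 F155765) (iv4 F375100) (iv3 D188873)
theorem F375103 : act 7 n188874 = n188035 := d11_2 (iv7 F374254) D188874 F374251
theorem F375104 : act 0 n188874 = n188028 := d18_2 D92874 D188874 (iv4 D188028) (iv5 D90747) (iv4 F139634) F177338 F75098 (iv0 F177333) D43456
theorem F375105 : act 1 n188874 = n187569 := d15_1 (iv0 F375104) F370837 (iv2 F372173)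
def n188875 : Q := act 5 n92874
theorem D188875 : act 5 n92874 = n188875 := rfl
theorem F375106 : act 6 n188875 = n94324 := d12_2 (iv6 F371471) D188875 (iv5 F353200) D187780 F371470
theorem F375107 : act 7 n188875 = n159843 := d13_2 (iv7 F374254) D188875 (iv5 F374248)
theorem F375108 : act 1 n188875 = n100250 := d17_8 D188385 (iv5 F375086) (iv1 F375090) (iv5 D103863) (iv4 F177331) D159825 F251908 D188875 F154234
theorem F375109 : act 0 n188875 = n159834 := d18_0 F251954 F367233 (iv4 F251143) F251137 D188031 (iv0 F372184) (iv4 F360966) F251908 D188875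
def n188876 : Q := act 4 n92875
theorem D188876 : act 4 n92875 = n188876 := rfl
theorem F375110 : act 2 n188876 = n188035 := d1_1 D188876 F374251 (iv2 F374253)
theorem F375111 : act 7 n188876 = n188036 := d11_2 F374256 D188876 (iv4 F374259)
theorem F375112 : act 0 n188876 = n187569 := d18_2 F251907 D188876 (iv4 D187569) (iv5 D90343) F65227 D47839 (iv4 F139641) F177344 D159825
theorem F375113 : act 1 n188876 = n188028 := d18_6 (iv1 F372398) (iv4 F369974) F369977 F149911 F161636 D188876 (iv4 D188028) F370829 F372401
def n188877 : Q := act 6 n92875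
theorem D188877 : act 6 n92875 = n188877 := rfl
theorem F375114 : act 3 n188877 = n187859 := d7_1 D188877 (iv6 D187859) (iv3 F251701)
theorem F375115 : act 5 n188877 = n164617 := d12_1 D188877 F259546 (iv5 D93857) D93858 F161636
theorem F375116 : act 4 n146881 = n188877 := d16_2 (iv4 F105042) D146881 F375115 (iv4 F259549) F354591 (iv4 D113450) D113451 (iv7 F204749) (iv2 D127403)
theorem F375117 : act 6 n188876 = n146881 := d10_0 F375116 (iv6 D188877) D188876
theorem F375118 : act 3 n146883 = n188876 := d7_3 F375117 F230268 D146883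
def n188878 : Q := act 3 n92876
theorem D188878 : act 3 n92876 = n188878 := rfl
theorem F375119 : act 2 n188878 = n115058 := d0_1 D188878 (iv3 D115058) (iv2 F114204) D159355 F360963
theorem F375120 : act 4 n188878 = n92881 := d5_2 D92876 D188878 (iv3 D92881) (iv4 D43458) (iv3 F68313)
theorem F375121 : act 5 n92906 = n188878 := d16_3 F143278 (iv5 D92907) D92906 F375120 F293127 (iv4 F155009) F373245 F373242 F147677
def n188879 : Q := act 5 n92876
theorem D188879 : act 5 n92876 = n188879 := rfl
theorem F375122 : act 2 n188879 = n159338 := d2_1 D188879 (iv5 F250877) F360963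
theorem F375123 : act 3 n188879 = n92906 := d6_1 D188879 F375121 (iv3 D188878)
theorem F375124 : act 4 n188879 = n92909 := d16_2 D92876 D188879 (iv5 F365331) (iv4 F375024) (iv5 D103863) (iv4 F177331) D159825 F251906 F143254
def n188880 : Q := act 0 n92881
theorem D188880 : act 0 n92881 = n188880 := rfl
theorem F375125 : act 5 n188880 = n147922 := d19_1 D188880 (iv4 F372097) (iv3 F372095) (iv1 D118414) (iv5 F319715) F75503 (iv3 F153034) (iv1 F153038) D100544 (iv4 F370630) (iv3 D187509) (iv1 F142621) F142618 F67981 F67980 (iv1 F32510) D20545 D43458 D92881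
theorem F375126 : act 3 n188880 = n147923 := d20_5 (iv4 D92849) (iv1 F68298) D43458 D92881 D188880 (iv4 F240281) (iv1 D152992) (iv4 F339901) (iv3 D92977) (iv1 F143218)
theorem F375127 : act 7 n154744 = n188880 := d8_0 F375126 F231721 (iv3 F243416)
def n188881 : Q := act 1 n92881
theorem D188881 : act 1 n92881 = n188881 := rfl
theorem F375128 : act 5 n188881 = n154743 := d17_7 D103865 F360294 (iv1 F373243) (iv5 F373245) F155009 (iv5 F293127) D188881 F372091 (iv4 D103867)
theorem F375129 : act 2 n154744 = n188881 := d2_3 F375128 (iv2 D154743) D154744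
def n188882 : Q := act 6 n92881
theorem D188882 : act 6 n92881 = n188882 := rfl
theorem F375130 : act 3 n188882 = n92883 := d7_1 D188882 (iv6 D92883) D92881
def n188883 : Q := act 0 n92883
theorem D188883 : act 0 n92883 = n188883 := rfl
theorem F375131 : act 4 n188883 = n188674 := d18_3 (iv1 D92885) (iv4 F143261) D188883 F374394 F321088 (iv0 F334695) (iv4 F334717) (iv0 F190359) (iv5 F143263)
def n188884 : Q := act 1 n92883
theorem D188884 : act 1 n92883 = n188884 := rfl
def n188885 : Q := act 5 n92883
theorem D188885 : act 5 n92883 = n188885 := rfl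
theorem F375132 : act 6 n188885 = n100962 := d12_2 D92883 D188885 (iv5 D100962) F74292 F293128
def n188886 : Q := act 7 n92883
theorem D188886 : act 7 n92883 = n188886 := rfl
theorem F375133 : act 4 n188886 = n92887 := d11_1 D188886 (iv7 D92887) (iv4 F143261)
def n188887 : Q := act 4 n92884
theorem D188887 : act 4 n92884 = n188887 := rfl
def n188888 : Q := act 6 n92884
theorem D188888 : act 6 n92884 = n188888 := rfl
theorem F375134 : act 3 n188888 = n187922 := d7_1 D188888 (iv6 D187922) F368681
def n188889 : Q := act 4 n92885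
theorem D188889 : act 4 n92885 = n188889 := rfl
theorem F375135 : act 6 n188889 = n114438 := d10_2 F143262 D188889 (iv4 D114438)
def n188890 : Q := act 0 n92886
theorem D188890 : act 0 n92886 = n188890 := rfl
def n188891 : Q := act 1 n92886
theorem D188891 : act 1 n92886 = n188891 := rfl
theorem F375136 : act 3 n143656 = n188891 := d20_3 (iv4 D79847) D79845 (iv4 F333389) (iv1 D188891) (iv3 F178996) F178999 F178207 (iv4 F251397) (iv3 F353110) (iv1 D166279)
theorem F375137 : act 4 n188891 = n147553 := d5_2 (iv4 F333389) F375136 F358890 (iv4 F261794) (iv3 D166273)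
theorem F375138 : act 6 n188891 = n105399 := d7_2 D143656 F375136 F347782
theorem F375139 : act 0 n188882 = n144406 := d19_8 (iv1 F310797) F310798 (iv4 F333389) F375136 (iv1 D188891) (iv5 D92886) (iv4 F143261) (iv3 F375130) (iv5 D144406) (iv4 D67664) (iv3 D31425) (iv1 F39913) F39909 (iv4 F324814) F21557 D12981 (iv5 F28830) (iv4 F51612) (iv3 F106522)
theorem F375140 : act 5 n106985 = n188882 := d17_1 (iv1 F171990) F375139 (iv5 D144406) (iv4 D67664) (iv5 F100156) (iv0 F100276) F93418 F80705 (iv4 F171988)
theorem F375141 : act 3 n188885 = n106985 := d6_3 F375140 F375130 D188885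
theorem F375142 : act 1 n188882 = n145326 := d17_6 (iv1 F82125) (iv5 F82733) F161235 F161233 D106985 F375140 (iv5 D145326) F165039 F165037
def n188892 : Q := act 3 n92888
theorem D188892 : act 3 n92888 = n188892 := rfl
theorem F375143 : act 5 n188892 = n132928 := d6_2 (iv5 F143265) D188892 F338549
theorem F375144 : act 7 n188892 = n113135 := d8_2 F293282 D188892 (iv3 F342191)
def n188893 : Q := act 6 n92891
theorem D188893 : act 6 n92891 = n188893 := rfl
theorem F375145 : act 2 n188893 = n92894 := d3_1 D188893 (iv6 D92894) D92891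
theorem F375146 : act 4 n188893 = n119996 := d10_1 D188893 (iv6 D119996) (iv4 F329555)
theorem F375147 : act 5 n188893 = n146321 := d21_6 (iv5 F114522) F114521 (iv5 F83505) (iv6 F139313) (iv1 F157314) D188893 F335943 D146426 F229761 (iv1 F107619)
theorem F375148 : act 0 n146440 = n188893 := d17_0 F375147 F335943 D146426 F335934 F183791 (iv0 D54236) D54238 (iv0 F104897) (iv4 F229783)
theorem F375149 : act 1 n146446 = n188893 := d17_6 F85333 F83100 (iv1 F55212) F55209 D68660 D146446 F375147 F229659 (iv4 D117328)
def n188894 : Q := act 0 n92893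
theorem D188894 : act 0 n92893 = n188894 := rfl
theorem F375150 : act 5 n188894 = n118677 := d17_1 D188894 (iv1 F329798) (iv5 D92838) (iv4 F73282) (iv5 F329202) F110811 F329249 F328901 (iv4 F328903)
theorem F375151 : act 4 n188894 = n146361 := d18_1 D188894 (iv1 F323746) (iv4 F369132) (iv5 F374497) F374498 F250939 (iv4 F329845) F329844 D92893
theorem F375152 : act 3 n188894 = n187956 := d20_5 (iv4 F290655) (iv1 F290823) F74022 (iv3 F143268) D188894 F371943 (iv1 D144027) (iv4 F299846) F69073 F67881
theorem F375153 : act 6 n188894 = n188508 := d21_5 D90531 F359589 (iv5 F369181) F369179 D188894 F373768 (iv1 F288086) (iv5 D185770) (iv6 F139322) (iv1 F139324)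
theorem F375154 : act 2 n93908 = n188894 := d15_3 (iv0 D188894) (iv0 F289385) (iv7 F360970)
theorem F375155 : act 1 n93901 = n188894 := d15_0 (iv0 D188894) F143269 (iv2 F144727)
theorem F375156 : act 7 n188894 = n93907 := d15_2 (iv0 F288414) F375155 F360968
def n188895 : Q := act 7 n92894
theorem D188895 : act 7 n92894 = n188895 := rfl
theorem F375157 : act 3 n188895 = n92902 := d8_1 D188895 (iv7 D92902) (iv3 F143270)
theorem F375158 : act 4 n188895 = n146332 := d11_1 D188895 (iv7 F314511) F335954
theorem F375159 : act 5 n188895 = n146319 := d13_1 D188895 (iv7 F229754) (iv5 F335952)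
theorem F375160 : act 1 n146440 = n188895 := d15_1 (iv0 F375148) (iv7 D188895) (iv2 F375145)
theorem F375161 : act 1 n188895 = n146446 := d15_1 F375160 (iv7 F231782) F231781
def n188896 : Q := act 3 n92895
theorem D188896 : act 3 n92895 = n188896 := rfl
theorem F375162 : act 5 n188896 = n100979 := d6_2 F292911 D188896 (iv3 D100979)
theorem F375163 : act 7 n188896 = n188710 := d8_2 (iv7 F143273) D188896 (iv3 D188710)
def n188897 : Q := act 6 n92895
theorem D188897 : act 6 n92895 = n188897 := rfl
theorem F375164 : act 4 n188897 = n188665 := d10_1 D188897 (iv6 D188665) (iv4 F143271)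
def n188898 : Q := act 6 n92897
theorem D188898 : act 6 n92897 = n188898 := rfl
theorem F375165 : act 4 n188898 = n93080 := d10_1 D188898 (iv6 D93080) (iv4 F143274)
theorem F375166 : act 5 n178115 = n188898 := d16_1 F359243 F375165 F293436 F368443 (iv5 D186894) (iv4 F147352) F160477 F160476 (iv2 F148369)
def n188899 : Q := act 0 n92898
theorem D188899 : act 0 n92898 = n188899 := rfl
def n188900 : Q := act 1 n92898
theorem D188900 : act 1 n92898 = n188900 := rfl
def n188901 : Q := act 5 n92898
theorem D188901 : act 5 n92898 = n188901 := rfl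
theorem F375167 : act 6 n188901 = n178115 := d12_2 D92898 D188901 F375166 (iv6 D188898) (iv5 D92897)
def n188902 : Q := act 7 n92898
theorem D188902 : act 7 n92898 = n188902 := rfl
theorem F375168 : act 4 n188902 = n92902 := d11_1 D188902 (iv7 D92902) (iv4 F143275)
def n188903 : Q := act 2 n92899
theorem D188903 : act 2 n92899 = n188903 := rfl
theorem F375169 : act 7 n92900 = n188903 := d15_2 (iv0 D92899) D92900 (iv2 D188903)
def n188904 : Q := act 3 n92899
theorem D188904 : act 3 n92899 = n188904 := rfl
def n188905 : Q := act 5 n92899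
theorem D188905 : act 5 n92899 = n188905 := rfl
def n188906 : Q := act 7 n92899
theorem D188906 : act 7 n92899 = n188906 := rfl
theorem F375170 : act 2 n188906 = n92900 := d4_1 D188906 F375169 (iv2 D188903)
def n188907 : Q := act 3 n92900
theorem D188907 : act 3 n92900 = n188907 := rfl
def n188908 : Q := act 4 n92900
theorem D188908 : act 4 n92900 = n188908 := rfl
def n188909 : Q := act 5 n92900
theorem D188909 : act 5 n92900 = n188909 := rfl
theorem F375171 : act 6 n188804 = n188909 := d21_5 (iv5 D42317) F66787 (iv5 F68275) D92812 D188804 (iv5 D188909) (iv1 D92900) D92901 F143276 (iv1 F75933)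
theorem F375172 : act 3 n188909 = n187950 := d7_1 F375171 F371914 (iv3 F374954)
theorem E103327 : n187948 = n92900 := (c6_4 D188909 F375172 (iv5 D187950) D187948)
theorem E103328 : n188907 = n90690 := ((D188907).symm.trans (sb E103327 (iv3 D187948)))
theorem E103329 : n188908 = n111605 := ((D188908).symm.trans (sb E103327 (iv4 F371909)))
theorem F375173 : act 3 n90690 = n92900 := (sb E103328 (iv3 D188907))
theorem F375174 : act 4 n111605 = n92900 := (sb E103329 (iv4 D188908))
theorem F375175 : act 3 n188903 = n187942 := d8_3 (iv7 F371898) F375173 F375169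
theorem F375176 : act 2 n187943 = n188904 := d0_3 F375175 (iv2 D187942) D187943 (iv3 D188904) D188903
theorem F375177 : act 4 n188904 = n154213 := d1_2 (iv4 F371901) F375176 F242324
def n188910 : Q := act 6 n92900
theorem D188910 : act 6 n92900 = n188910 := rfl
theorem F375178 : act 3 n188910 = n187951 := d7_1 D188910 (iv6 D187951) F375173
def n188911 : Q := act 1 n92901
theorem D188911 : act 1 n92901 = n188911 := rfl
theorem F375179 : act 7 n188911 = n187756 := d15_2 (iv0 F177030) D188911 F371417
theorem F375180 : act 6 n175680 = n188911 := d21_3 (iv5 D105453) D105449 (iv5 F334806) (iv1 D188911) F143276 (iv5 F142296) (iv1 D92474) F68271 D92808 F334805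
theorem F375181 : act 5 n188888 = n188911 := d21_6 F68001 (iv1 F32510) D20545 D43459 D92884 D188888 (iv1 D188911) (iv5 D92901) (iv6 D43465) (iv1 F68004)
theorem F375182 : act 3 n188911 = n185880 := d6_1 F375181 (iv5 F371839) (iv3 F375134)
def n188912 : Q := act 4 n92901
theorem D188912 : act 4 n92901 = n188912 := rfl
theorem F375183 : act 3 n188912 = n105328 := d5_1 D188912 F161519 (iv3 F114734) (iv4 F229755) F335953
theorem F375184 : act 6 n188912 = n104408 := d10_2 (iv6 F143276) D188912 (iv4 D104408)
theorem F375185 : act 5 n141216 = n188912 := d6_0 F375183 F363446 D141216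
def n188913 : Q := act 7 n92901
theorem D188913 : act 7 n92901 = n188913 := rfl
theorem F375186 : act 3 n188913 = n146319 := d8_1 D188913 (iv7 F229754) F335953
theorem F375187 : act 5 n188913 = n92902 := d13_1 D188913 (iv7 D92902) D92901
theorem F375188 : act 0 n187756 = n188913 := d20_4 (iv4 F288117) F288118 F288115 (iv3 F371418) F375186 (iv4 D146319) (iv1 F104818) D68632 D146370 F364114
def n188914 : Q := act 6 n92905
theorem D188914 : act 6 n92905 = n188914 := rfl
theorem F375189 : act 2 n188914 = n92908 := d3_1 D188914 (iv6 D92908) D92905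
theorem F375190 : act 3 n188914 = n155577 := d7_1 D188914 (iv6 D155577) (iv3 F365409)
def n188915 : Q := act 6 n92906
theorem D188915 : act 6 n92906 = n188915 := rfl
theorem F375191 : act 4 n188915 = n92908 := d10_1 D188915 (iv6 D92908) D92906
def n188916 : Q := act 1 n92907
theorem D188916 : act 1 n92907 = n188916 := rfl
theorem F375192 : act 7 n188916 = n93858 := d15_2 (iv0 F371817) D188916 F283545
theorem F375193 : act 4 n188916 = n187362 := d17_9 (iv1 D187362) F138091 (iv1 F314176) F314178 F75098 D76493 F157675 D92907 D188916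
theorem F375194 : act 5 n188631 = n188916 := d17_3 (iv1 F177350) D92871 (iv1 F374255) F375193 F372096 F372093 (iv5 D103233) F139632 F177341
theorem F375195 : act 3 n187933 = n188916 := d20_5 F64485 D41824 (iv4 F71740) (iv3 F139596) D187933 F375193 (iv1 D187362) F138090 F69461 F64486
theorem F375196 : act 2 n188916 = n188875 := d2_1 F375194 (iv5 D188875) F374257
def n188917 : Q := act 0 n92908
theorem D188917 : act 0 n92908 = n188917 := rfl
theorem F375197 : act 6 n188917 = n114411 := d21_5 F375194 (iv1 D188916) (iv5 D92907) D92908 D188917 (iv5 D114411) D114409 F178436 F177444 (iv1 F374255)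
theorem F375198 : act 5 n114408 = n188917 := d12_5 F375197 (iv5 D114411) (iv6 D52798) D52797 D114408
theorem F375199 : act 6 n115061 = n188631 := d21_5 (iv5 F375198) (iv1 F210029) F209181 (iv6 F250884) (iv1 F250886) F375194 (iv1 D188916) (iv5 D92907) D92908 D188917
theorem F375200 : act 2 n159358 = n115061 := d3_3 F375199 (iv2 F374257) F371471
theorem F375201 : act 7 n115060 = n159358 := d15_2 F250886 F250887 F375200
theorem F375202 : act 7 n159357 = n115061 := d15_2 F250881 F250885 (iv2 F375200)
theorem F375203 : act 2 n115060 = n159357 := d4_3 F375202 (iv2 F375200) (iv7 F375201)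
def n188918 : Q := act 1 n92908
theorem D188918 : act 1 n92908 = n188918 := rfl
def n188919 : Q := act 5 n92908
theorem D188919 : act 5 n92908 = n188919 := rfl
theorem F375204 : act 3 n188919 = n92914 := d6_1 D188919 (iv5 D92914) (iv3 F143280)
theorem F375205 : act 6 n188919 = n93801 := d12_2 D92908 D188919 (iv5 D93801) F143279 (iv5 D92907)
theorem F375206 : act 7 n130636 = n188919 := d14_0 F375205 F144589 D93938 (iv7 F157673) D130636
def n188920 : Q := act 7 n92908
theorem D188920 : act 7 n92908 = n188920 := rfl
theorem F375207 : act 3 n188920 = n92915 := d8_1 D188920 (iv7 D92915) (iv3 F143280)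
theorem F375208 : act 5 n188920 = n130636 := d13_1 D188920 F375206 (iv5 D188919)
def n188921 : Q := act 1 n92909
theorem D188921 : act 1 n92909 = n188921 := rfl
def n188922 : Q := act 6 n92909
theorem D188922 : act 6 n92909 = n188922 := rfl
theorem F375209 : act 3 n188922 = n92911 := d7_1 D188922 (iv6 D92911) D92909
def n188923 : Q := act 6 n92910
theorem D188923 : act 6 n92910 = n188923 := rfl
theorem F375210 : act 2 n188923 = n108476 := d3_1 D188923 F364765 (iv2 F294166)
theorem F375211 : act 4 n188923 = n93071 := d10_1 D188923 (iv6 D93071) (iv4 F143281)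
def n188924 : Q := act 0 n92911
theorem D188924 : act 0 n92911 = n188924 := rfl
def n188925 : Q := act 1 n92911
theorem D188925 : act 1 n92911 = n188925 := rfl
def n188926 : Q := act 5 n92911
theorem D188926 : act 5 n92911 = n188926 := rfl
def n188927 : Q := act 7 n92911
theorem D188927 : act 7 n92911 = n188927 := rfl
theorem F375212 : act 4 n188927 = n92915 := d11_1 D188927 (iv7 D92915) (iv4 F143282)
def n188928 : Q := act 2 n92912
theorem D188928 : act 2 n92912 = n188928 := rfl
theorem F375213 : act 7 n92913 = n188928 := d15_2 (iv0 D92912) D92913 (iv2 D188928)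
def n188929 : Q := act 3 n92912
theorem D188929 : act 3 n92912 = n188929 := rfl
def n188930 : Q := act 4 n92912
theorem D188930 : act 4 n92912 = n188930 := rfl
def n188931 : Q := act 5 n92912
theorem D188931 : act 5 n92912 = n188931 := rfl
def n188932 : Q := act 6 n92912
theorem D188932 : act 6 n92912 = n188932 := rfl
def n188933 : Q := act 7 n92912
theorem D188933 : act 7 n92912 = n188933 := rfl
theorem F375214 : act 2 n188933 = n92913 := d4_1 D188933 F375213 (iv2 D188928)
def n188934 : Q := act 3 n92913
theorem D188934 : act 3 n92913 = n188934 := rfl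
def n188935 : Q := act 4 n92913
theorem D188935 : act 4 n92913 = n188935 := rfl
def n188936 : Q := act 5 n92913
theorem D188936 : act 5 n92913 = n188936 := rfl
theorem F375215 : act 6 n93958 = n188936 := d21_5 (iv5 D41333) D41331 F65920 D43917 D93958 (iv5 D188936) (iv1 D92913) D92914 F143284 F68922
def n188937 : Q := act 6 n92913
theorem D188937 : act 6 n92913 = n188937 := rfl
def n188938 : Q := act 0 n92914
theorem D188938 : act 0 n92914 = n188938 := rfl
theorem F375216 : act 6 n188938 = n187899 := d21_5 (iv5 D20764) D20762 D43846 (iv6 F143284) D188938 (iv5 D187899) (iv1 D90641) D90642 F139555 F65555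
theorem F375217 : act 5 n188938 = n188814 := d21_0 (iv1 D188814) D188815 F374984 F143185 F68912 (iv5 D20764) D20762 D43846 (iv6 F143284) D188938
def n188939 : Q := act 1 n92914
theorem D188939 : act 1 n92914 = n188939 := rfl
theorem F375218 : act 1 n188939 = n93920 := d15_1 D188939 (iv7 D93920) (iv2 F143283)
theorem F375219 : act 5 n188813 = n188939 := d21_0 (iv1 D188939) (iv5 D92914) (iv6 D43470) (iv1 D20548) (iv6 F32638) (iv5 D20535) D20533 D43428 D92818 D188813
def n188940 : Q := act 4 n92914
theorem D188940 : act 4 n92914 = n188940 := rfl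
theorem F375220 : act 2 n188940 = n93917 := d1_1 D188940 F144748 (iv2 F143283)
theorem F375221 : act 6 n188940 = n93803 := d10_2 (iv6 F143284) D188940 (iv4 D93803)
def n188941 : Q := act 7 n92914
theorem D188941 : act 7 n92914 = n188941 := rfl
theorem F375222 : act 2 n188941 = n93920 := d4_1 D188941 (iv7 D93920) (iv2 F143283)
theorem F375223 : act 3 n188941 = n130636 := d8_1 D188941 F375206 F375204
theorem F375224 : act 5 n188941 = n92915 := d13_1 D188941 (iv7 D92915) D92914
theorem F375225 : act 6 n188941 = n93948 := d14_1 D188941 (iv7 D93948) (iv6 D43910) (iv7 F68921) (iv6 F143284)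
theorem F375226 : act 1 n93920 = n188938 := d15_0 (iv0 D188938) D188941 F375222
theorem F375227 : act 1 n93919 = n188941 := d15_1 D93919 (iv7 D188941) F143283
theorem F375228 : act 1 n188941 = n93918 := d15_0 (iv0 D93918) D93920 (iv2 F375222)
def n188942 : Q := act 6 n92917
theorem D188942 : act 6 n92917 = n188942 := rfl
theorem F375229 : act 3 n188942 = n128020 := d7_1 D188942 (iv6 D128020) (iv3 F329720)
theorem F375230 : act 4 n188942 = n93061 := d10_1 D188942 (iv6 D93061) (iv4 F143285)
def n188943 : Q := act 0 n92921
theorem D188943 : act 0 n92921 = n188943 := rfl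
theorem F375231 : act 5 n188943 = n187848 := d21_2 (iv5 F371774) D188943 (iv6 D187848) (iv1 D90603) F65526 D42465 D90715 F139619 D90763 F371775
def n188944 : Q := act 1 n92921
theorem D188944 : act 1 n92921 = n188944 := rfl
def n188945 : Q := act 0 n92922
theorem D188945 : act 0 n92922 = n188945 := rfl
theorem F375232 : act 4 n188945 = n153788 := d20_8 F216807 D135199 F370505 F370509 F358528 F205646 (iv4 F365818) D188945 F331128 (iv1 F349734)
theorem F375233 : act 2 n92926 = n188945 := d15_3 (iv0 D188945) (iv0 D92922) D92926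
theorem F375234 : act 7 n188945 = n92924 := d4_2 D92926 F375233 (iv2 D92924)
theorem F375235 : act 1 n92923 = n188945 := d15_1 D92923 F375234 (iv2 D92924)
def n188946 : Q := act 3 n92922
theorem D188946 : act 3 n92922 = n188946 := rfl
def n188947 : Q := act 5 n92922
theorem D188947 : act 5 n92922 = n188947 := rfl
theorem F375236 : act 4 n188947 = n185301 := d16_2 (iv4 F365818) D188947 (iv5 D185301) (iv4 F373380) (iv5 D152573) F108454 (iv5 F178379) (iv7 D114368) D114366
def n188948 : Q := act 6 n92922
theorem D188948 : act 6 n92922 = n188948 := rfl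
def n188949 : Q := act 7 n92922
theorem D188949 : act 7 n92922 = n188949 := rfl
theorem F375237 : act 2 n188949 = n92923 := d4_1 D188949 F365816 F365817
theorem F375238 : act 1 n92924 = n188949 := d15_1 (iv0 F362364) (iv7 D188949) (iv2 F365817)
theorem F375239 : act 1 n188949 = n92926 := d15_1 F375238 (iv7 D92926) D92924
def n188950 : Q := act 5 n92923
theorem D188950 : act 5 n92923 = n188950 := rfl
theorem F375240 : act 4 n188950 = n185296 := d16_6 (iv4 F373380) (iv5 D152573) F108454 (iv5 F178379) F365813 D188950 (iv5 D185296) D185298 F287561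
def n188951 : Q := act 6 n92923
theorem D188951 : act 6 n92923 = n188951 := rfl
theorem F375241 : act 4 n188951 = n124868 := d10_1 D188951 F340012 F365813
theorem F375242 : act 5 n123766 = n188951 := d9_0 F375241 (iv5 D124868) F312319 F222374 (iv4 F310573) (iv5 F302082) D123761 (iv5 F362328) (iv4 F362332) (iv5 D124873) F312322 F222380 (iv4 F310574) (iv5 F302085) D123766
theorem F375243 : act 0 n138476 = n188951 := d18_2 (iv1 D138475) D138476 F375241 (iv5 D124868) F312319 (iv0 D30596) (iv4 F49037) D65153 (iv5 F222382)
def n188952 : Q := act 5 n92924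
theorem D188952 : act 5 n92924 = n188952 := rfl
theorem F375244 : act 2 n188952 = n92925 := d2_1 D188952 (iv5 D92925) D92924
theorem F375245 : act 6 n188952 = n154596 := d12_2 (iv6 F143288) D188952 F242670 (iv6 D147910) (iv5 F109234)
theorem F375246 : act 4 n154590 = n188952 := d10_3 F375245 (iv4 D154596) (iv6 F242659)
def n188953 : Q := act 0 n92925
theorem D188953 : act 0 n92925 = n188953 := rfl
theorem F375247 : act 4 n188953 = n101458 := d20_0 (iv1 D101458) (iv4 F156276) (iv3 F365233) (iv1 D100983) (iv3 D47055) (iv4 D22630) D22628 (iv4 F293157) (iv3 F143289) D188953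
def n188954 : Q := act 1 n92925
theorem D188954 : act 1 n92925 = n188954 := rfl
theorem F375248 : act 4 n188954 = n101457 := d17_9 F357265 F248364 F310371 D185301 (iv4 F375236) (iv5 D188947) (iv0 D92922) D92925 D188954
theorem F375249 : act 3 n153624 = n188954 := d19_19 (iv1 D188954) (iv5 D92925) F68329 (iv3 D42464) D42462 (iv5 F293364) (iv4 D22534) (iv3 F35078) D46876 D100450 (iv4 F371850) F371848 (iv1 F371940) F371942 F370679 F371600 (iv1 D187815) D187817 F371621
def n188955 : Q := act 4 n92925
theorem D188955 : act 4 n92925 = n188955 := rfl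
theorem F375250 : act 2 n188955 = n154590 := d1_1 D188955 F375246 F375244
theorem F375251 : act 3 n188955 = n100968 := d5_1 D188955 (iv4 D100968) (iv3 D47050) (iv4 F293157) (iv3 F143289)
theorem F375252 : act 6 n188955 = n153886 := d10_2 F242857 D188955 (iv4 F242858)
theorem F375253 : act 5 n188955 = n153884 := d16_7 (iv4 F287579) F373376 (iv4 D187986) (iv5 D90713) (iv4 F68329) D92925 D188955 (iv7 F359647) F285715
theorem F375254 : act 0 n188955 = n126695 := d20_1 D188955 (iv4 F352724) F352723 F167968 D115795 F180169 F371601 F371621 F375249 (iv1 D188954)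
def n188956 : Q := act 6 n92926
theorem D188956 : act 6 n92926 = n188956 := rfl
theorem F375255 : act 3 n188956 = n92930 := d7_1 D188956 (iv6 D92930) (iv3 F143290)
theorem F375256 : act 4 n188956 = n187987 := d10_1 D188956 (iv6 D187987) (iv4 F143291)
theorem F375257 : act 7 n188956 = n153627 := d14_2 D92926 D188956 (iv6 D153627) (iv7 F110053) F110058
def n188957 : Q := act 0 n92929
theorem D188957 : act 0 n92929 = n188957 := rfl
def n188958 : Q := act 1 n92929
theorem D188958 : act 1 n92929 = n188958 := rfl
def n188959 : Q := act 7 n92929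
theorem D188959 : act 7 n92929 = n188959 := rfl
theorem F375258 : act 4 n188959 = n100972 := d11_1 D188959 (iv7 D100972) (iv4 F294172)
def n188960 : Q := act 0 n92930
theorem D188960 : act 0 n92930 = n188960 := rfl
def n188961 : Q := act 1 n92930
theorem D188961 : act 1 n92930 = n188961 := rfl
def n188962 : Q := act 5 n92930
theorem D188962 : act 5 n92930 = n188962 := rfl
def n188963 : Q := act 2 n92931
theorem D188963 : act 2 n92931 = n188963 := rfl
theorem F375259 : act 7 n92932 = n188963 := d15_2 (iv0 D92931) D92932 (iv2 D188963)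
def n188964 : Q := act 3 n92931
theorem D188964 : act 3 n92931 = n188964 := rfl
def n188965 : Q := act 4 n92931
theorem D188965 : act 4 n92931 = n188965 := rfl
def n188966 : Q := act 5 n92931
theorem D188966 : act 5 n92931 = n188966 := rfl
theorem F375260 : act 4 n188966 = n170872 := d17_4 (iv1 D90720) (iv5 F68332) D92931 D188966 (iv5 D170872) F248769 (iv5 F372140) (iv0 F372143) (iv4 D188005)
theorem F375261 : act 0 n187900 = n188966 := d21_10 (iv5 D188966) (iv1 F371579) F371574 (iv6 D187523) (iv1 F138892) D90601 (iv5 F214518) F371784 (iv5 D187899) D187900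
theorem F375262 : act 2 n170875 = n188966 := d1_3 F375260 F268481 D170875
theorem E103330 : n188963 = n188663 := (c2_4 F374344 F375262 (iv5 D188966) D188963)
theorem F375263 : act 2 n188663 = n92931 := (sb E103330 (iv2 D188963))
theorem F375264 : act 7 n188663 = n92932 := (sb E103330 (iv7 F375259))
theorem F375265 : act 2 n92932 = n188664 := d15_3 F374346 F374345 F375264
theorem F375266 : act 7 n92931 = n188664 := d4_2 (iv7 F375264) F375263 (iv2 F375265)
def n188967 : Q := act 6 n92931
theorem D188967 : act 6 n92931 = n188967 := rfl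
theorem F375267 : act 5 n188967 = n188783 := d21_6 (iv5 D43318) (iv1 F32509) (iv5 F32645) D43476 D92931 D188967 (iv1 D188783) (iv5 F374266) (iv6 D188634) (iv1 D92595)
def n188968 : Q := act 4 n92932
theorem D188968 : act 4 n92932 = n188968 := rfl
def n188969 : Q := act 5 n92932
theorem D188969 : act 5 n92932 = n188969 := rfl
theorem F375268 : act 6 n188969 = n187875 := d12_2 (iv6 F371577) D188969 F371745 (iv6 D115024) D115023
theorem F375269 : act 7 n188969 = n170875 := d13_2 F375264 D188969 (iv5 F374344)
theorem F375270 : act 4 n188969 = n157857 := d19_2 (iv1 F371576) D188969 F248774 (iv1 F195618) F195620 (iv4 D77908) (iv3 F56221) F31458 (iv5 D19498) F17568 (iv3 D9405) (iv1 F6177) (iv5 F6189) (iv4 F14760) (iv3 F31977) (iv1 F135695) (iv5 F294380) D94110 (iv3 F371573)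
theorem F375271 : act 1 n187900 = n188969 := d15_1 (iv0 F375261) F375269 F375262
theorem F375272 : act 1 n188969 = n188294 := d15_1 F375271 F373002 (iv2 F371785)
def n188970 : Q := act 5 n92948
theorem D188970 : act 5 n92948 = n188970 := rfl
theorem F375273 : act 2 n188970 = n100357 := d2_1 D188970 (iv5 D100357) (iv2 F155648)
theorem F375274 : act 3 n188970 = n188621 := d6_1 D188970 (iv5 D188621) (iv3 F143348)
theorem F375275 : act 7 n188970 = n100352 := d13_2 (iv7 F155649) D188970 (iv5 D100352)
theorem F375276 : act 0 n188970 = n188099 := d17_2 D92948 D188970 F372324 F372311 F371703 F371701 (iv5 D100397) F74056 (iv4 F68347)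
theorem F375277 : act 0 n92971 = n188970 := d19_0 (iv5 D188970) F143347 (iv3 D87989) (iv1 D41078) D41079 D87995 (iv3 F345132) (iv1 D114358) F83368 (iv4 F70601) F70600 (iv1 F205441) D103863 F375024 (iv3 F365330) F294164 (iv5 F290827) (iv4 D92972) D92971
def n188971 : Q := act 5 n92949
theorem D188971 : act 5 n92949 = n188971 := rfl
theorem F375278 : act 2 n188971 = n100352 := d2_1 D188971 (iv5 D100352) (iv2 F155663)
theorem F375279 : act 3 n188971 = n151535 := d6_1 D188971 F335916 (iv3 F153165)
theorem F375280 : act 7 n188971 = n100357 := d13_2 (iv7 F155664) D188971 (iv5 D100357)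
theorem F375281 : act 0 n188971 = n92971 := d17_2 (iv1 F143356) D188971 F143381 F142407 D187153 (iv0 F369255) (iv5 D90618) (iv0 F73966) (iv4 F73965)
theorem F375282 : act 1 n188971 = n188099 := d15_0 (iv0 F375276) F375275 (iv2 F375278)
def n188972 : Q := act 5 n92950
theorem D188972 : act 5 n92950 = n188972 := rfl
theorem F375283 : act 2 n188972 = n92951 := d2_1 D188972 (iv5 D92951) D92950
theorem F375284 : act 3 n188972 = n187560 := d6_1 D188972 (iv5 D187560) (iv3 F143351)
theorem F375285 : act 7 n188972 = n100347 := d13_2 (iv7 F143354) D188972 (iv5 D100347)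
theorem F375286 : act 0 n188972 = n100360 := d21_1 D188972 (iv5 F374097) F374100 (iv1 D93995) (iv6 F291883) D90993 F292419 (iv5 F355742) F355743 (iv1 F143355)
theorem F375287 : act 1 n188972 = n100359 := d15_0 (iv0 D100359) (iv7 F143359) (iv2 F375283)
theorem F375288 : act 5 n100359 = n188586 := d17_7 (iv1 F283725) (iv5 D100450) F329567 F329255 (iv4 F143352) D188972 F375287 (iv0 D188586) F142407
def n188973 : Q := act 0 n92951
theorem D188973 : act 0 n92951 = n188973 := rfl
theorem F375289 : act 4 n188973 = n151960 := d18_1 D188973 F374788 (iv4 D188769) (iv5 D92765) (iv4 F143061) F177371 (iv4 F143347) (iv0 D92948) D92951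
theorem F375290 : act 5 n188973 = n186660 := d21_2 D92951 D188973 (iv6 D186660) F295034 (iv6 F294658) F292999 (iv1 F238937) F349266 (iv6 F349267) (iv1 D92949)
theorem F375291 : act 1 n100347 = n188973 := d15_0 (iv0 D188973) F143359 (iv2 F154327)
theorem F375292 : act 2 n100360 = n188973 := d2_3 F375290 F374101 F374097
theorem F375293 : act 7 n100359 = n188973 := d13_0 F375290 (iv7 F374104) (iv5 F375288)
theorem F375294 : act 6 n151706 = n188973 := d10_0 F375289 (iv6 D151960) F238586
theorem E103331 : n186659 = n151977 := (c12_4 F375294 F375290 (iv6 D186660) D186659 (iv6 D151977) (iv5 F238585))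
theorem F375295 : act 0 n151977 = n186387 := (sb E103331 F367580)
theorem F375296 : act 5 n151977 = n89016 := (sb E103331 (iv5 D186659))
theorem F375297 : act 4 n94291 = n151979 := d18_1 (iv1 F369344) (iv1 D151979) (iv4 F238992) F375296 F295035 F294955 F136186 F294682 (iv5 F369341)
theorem F375298 : act 2 n151979 = n96080 := d1_1 F375297 (iv4 F369306) F369300
theorem F375299 : act 0 n151972 = n96119 := d17_2 (iv1 D151979) (iv5 F238983) F147765 F331359 (iv5 D94281) (iv0 D44076) D44079 D94291 F375297
def n188974 : Q := act 1 n92951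
theorem D188974 : act 1 n92951 = n188974 := rfl
theorem F375300 : act 1 n188974 = n100347 := d15_1 D188974 (iv7 F375285) F375283
theorem F375301 : act 7 n188974 = n100360 := d15_2 (iv0 D188973) D188974 F375292
theorem F375302 : act 5 n188974 = n188092 := d17_7 (iv1 F367616) F292006 (iv1 F154438) F74091 (iv4 F68347) D92951 D188974 F372313 (iv4 F367612)
theorem F375303 : act 3 n105914 = n188974 := d19_19 (iv1 D188974) (iv5 D92951) F68347 F35079 (iv1 F34739) D46469 D99379 F327163 (iv1 F164451) F164448 F107778 (iv3 F163773) F178074 (iv5 D114251) (iv4 F114222) F114221 (iv1 D48966) D48967 D105914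
theorem F375304 : act 2 n100359 = n188974 := d2_3 F375302 F374103 (iv5 F375288)
def n188975 : Q := act 3 n92952
theorem D188975 : act 3 n92952 = n188975 := rfl
theorem F375305 : act 5 n188975 = n100202 := d6_2 (iv5 F292328) D188975 (iv3 D100202)
theorem F375306 : act 7 n188975 = n100366 := d8_2 (iv7 F143361) D188975 (iv3 D100366)
theorem F375307 : act 0 n111469 = n188975 := d20_4 F345077 (iv1 D65479) (iv4 F81183) (iv3 F172981) (iv3 D188975) (iv4 D92952) (iv1 F142843) (iv4 F142847) D92919 F349175
def n188976 : Q := act 6 n92952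
theorem D188976 : act 6 n92952 = n188976 := rfl
theorem F375308 : act 2 n188976 = n188897 := d3_1 D188976 (iv6 D188897) (iv2 F143360)
theorem F375309 : act 4 n188976 = n92953 := d10_1 D188976 (iv6 D92953) D92952
theorem F375310 : act 0 n188968 = n188976 := d18_2 (iv1 F371576) D188968 F375309 F143364 (iv4 F372139) (iv0 F372143) (iv4 D188005) F370675 (iv5 F371574)
def n188977 : Q := act 0 n92953
theorem D188977 : act 0 n92953 = n188977 := rfl
def n188978 : Q := act 1 n92953
theorem D188978 : act 1 n92953 = n188978 := rfl
def n188979 : Q := act 6 n92961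
theorem D188979 : act 6 n92961 = n188979 := rfl
theorem F375311 : act 2 n188979 = n92966 := d3_1 D188979 (iv6 D92966) (iv2 F143375)
theorem F375312 : act 5 n188979 = n186212 := d12_1 D188979 (iv6 D186212) (iv5 D88707) (iv6 F291602) D92961
def n188980 : Q := act 3 n92964
theorem D188980 : act 3 n92964 = n188980 := rfl
theorem F375313 : act 2 n188980 = n188032 := d0_1 D188980 (iv3 D188032) F370834 F374390 (iv2 F374387)
theorem F375314 : act 0 n188980 = n188618 := d20_4 (iv4 F335536) D107097 F339935 D188980 F374204 F237329 (iv1 F162651) F335928 F349239 (iv1 D90661)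
theorem F375315 : act 1 n188980 = n188621 := d15_1 (iv0 F375314) F374220 (iv2 F374203)
def n188981 : Q := act 6 n92964
theorem D188981 : act 6 n92964 = n188981 := rfl
theorem F375316 : act 2 n188981 = n113638 := d3_1 D188981 F374391 (iv2 F374387)
theorem F375317 : act 5 n188981 = n127411 := d12_1 D188981 (iv6 D127411) D127410 F204778 F205484
theorem F375318 : act 7 n188981 = n113637 := d14_2 (iv7 F205483) D188981 F176814 (iv7 F178224) D127778
theorem F375319 : act 0 n188981 = n105304 := d21_4 (iv5 F345177) (iv1 F345180) F205484 D188981 F161463 (iv5 D48687) F36958 (iv5 F46036) D60021 D127818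
theorem F375320 : act 1 n188981 = n113640 := d15_1 (iv0 F375319) (iv7 D113640) (iv2 F161462)
theorem F375321 : act 1 n113640 = n127784 := d15_1 F375320 (iv7 F205536) (iv2 F375316)
def n188982 : Q := act 6 n92965
theorem D188982 : act 6 n92965 = n188982 := rfl
theorem F375322 : act 3 n188982 = n138509 := d7_1 D188982 F331042 (iv3 F339940)
theorem F375323 : act 4 n188982 = n92966 := d10_1 D188982 (iv6 D92966) D92965
theorem F375324 : act 5 n188982 = n138508 := d12_1 D188982 F363392 F104320 (iv6 F78407) (iv5 F339941)
def n188983 : Q := act 0 n92966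
theorem D188983 : act 0 n92966 = n188983 := rfl
theorem F375325 : act 5 n188983 = n112958 := d21_0 (iv1 D112958) (iv5 F94516) (iv6 D60025) (iv1 F46041) D52775 F83368 (iv1 F205450) D43492 D92966 D188983
theorem F375326 : act 3 n188040 = n188983 := d6_3 F375325 F364989 (iv5 F372189)
def n188984 : Q := act 7 n92966
theorem D188984 : act 7 n92966 = n188984 := rfl
theorem F375327 : act 3 n188984 = n92982 := d8_1 D188984 (iv7 D92982) (iv3 F143377)
theorem F375328 : act 5 n188984 = n186229 := d13_1 D188984 (iv7 D186229) (iv5 F292041)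
theorem F375329 : act 6 n188984 = n114337 := d14_1 D188984 (iv7 F350589) F339911 F142741 D92966
def n188985 : Q := act 2 n92971
theorem D188985 : act 2 n92971 = n188985 := rfl
theorem F375330 : act 3 n188985 = n100693 := d0_2 D92971 D188985 (iv2 F362391) (iv3 F143225) F138590
theorem F375331 : act 5 n188985 = n100691 := d2_2 (iv5 F143381) D188985 (iv2 F362402)
theorem F375332 : act 7 n188985 = n188099 := d4_2 F372315 D188985 F372323
theorem F375333 : act 1 n188985 = n100352 := d15_0 (iv0 F372317) F372315 D188985
theorem F375334 : act 1 n100357 = n188985 := d15_0 F375333 (iv7 F375275) F375273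
def n188986 : Q := act 6 n92971
theorem D188986 : act 6 n92971 = n188986 := rfl
theorem F375335 : act 3 n188986 = n92973 := d7_1 D188986 (iv6 D92973) D92971
theorem F375336 : act 5 n188986 = n114270 := d12_1 D188986 F178118 (iv5 D92501) D92502 (iv5 F143381)
theorem F375337 : act 0 n188986 = n188299 := d21_1 (iv5 F375336) F373017 F348664 (iv1 D71324) (iv6 D33004) (iv5 D15901) F22797 D28566 D60115 (iv1 F349954)
def n188987 : Q := act 3 n92972
theorem D188987 : act 3 n92972 = n188987 := rfl
theorem F375338 : act 5 n188987 = n100178 := d6_2 (iv5 F290827) D188987 (iv3 D100178)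
theorem F375339 : act 7 n188987 = n188851 := d8_2 (iv7 F143383) D188987 (iv3 D188851)
def n188988 : Q := act 6 n92972
theorem D188988 : act 6 n92972 = n188988 := rfl
theorem F375340 : act 2 n188988 = n111521 := d3_1 D188988 F370336 (iv2 F143382)
theorem F375341 : act 4 n188988 = n92973 := d10_1 D188988 (iv6 D92973) D92972
theorem F375342 : act 5 n180462 = n188988 := d9_0 F375341 F143386 D114271 (iv5 F349939) F344624 (iv5 D112730) F82227 D111380 F349941 (iv5 D114274) D114273 (iv5 F349949) F349936 F344937 D180462
def n188989 : Q := act 0 n92973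
theorem D188989 : act 0 n92973 = n188989 := rfl
def n188990 : Q := act 1 n92973
theorem D188990 : act 1 n92973 = n188990 := rfl
theorem F375343 : act 1 n188990 = n114274 := d15_1 D188990 (iv7 F370334) F370331
def n188991 : Q := act 7 n92973
theorem D188991 : act 7 n92973 = n188991 := rfl
theorem F375344 : act 2 n188991 = n114274 := d4_1 D188991 (iv7 F370334) F370331
theorem F375345 : act 5 n188991 = n114248 := d13_1 D188991 F178061 (iv5 F143386)
theorem F375346 : act 1 n114274 = n188989 := d15_0 (iv0 D188989) D188991 F375344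
def n188992 : Q := act 4 n92974
theorem D188992 : act 4 n92974 = n188992 := rfl
theorem F375347 : act 2 n188992 = n188100 := d1_1 D188992 (iv4 D188100) (iv2 F143388)
theorem F375348 : act 7 n188992 = n188102 := d11_2 (iv7 F143387) D188992 (iv4 D188102)
theorem F375349 : act 0 n155510 = n188992 := d20_7 D43496 (iv1 F143218) (iv4 D92849) D92848 F364349 (iv3 F370616) F370618 (iv4 D188992) (iv3 D92974) (iv1 D43495)
def n188993 : Q := act 6 n92974
theorem D188993 : act 6 n92974 = n188993 := rfl
theorem F375350 : act 2 n188993 = n188101 := d3_1 D188993 (iv6 D188101) (iv2 F143388)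
theorem F375351 : act 3 n188993 = n92976 := d7_1 D188993 (iv6 D92976) D92974
theorem F375352 : act 5 n188993 = n130651 := d12_1 D188993 (iv6 F326340) (iv5 F145639) F294202 (iv5 F294201)
theorem F375353 : act 0 n188993 = n135564 := d21_4 F371300 (iv1 F154804) (iv5 F294201) D188993 F352119 (iv5 F177547) F177546 F86802 (iv6 F139261) D187716
theorem F375354 : act 0 n135562 = n188993 := d21_4 (iv5 D151704) D151701 F238578 F362775 (iv6 D188993) F294201 (iv1 D46961) D46963 D100706 F350374
def n188994 : Q := act 3 n92975
theorem D188994 : act 3 n92975 = n188994 := rfl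
theorem F375355 : act 5 n188994 = n100158 := d6_2 (iv5 F292001) D188994 (iv3 D100158)
theorem F375356 : act 7 n188994 = n111522 := d8_2 (iv7 F143390) D188994 (iv3 F370337)
def n188995 : Q := act 6 n92975
theorem D188995 : act 6 n92975 = n188995 := rfl
theorem F375357 : act 2 n188995 = n188852 := d3_1 D188995 (iv6 D188852) (iv2 F143389)
theorem F375358 : act 4 n188995 = n92976 := d10_1 D188995 (iv6 D92976) D92975
def n188996 : Q := act 1 n92976
theorem D188996 : act 1 n92976 = n188996 := rfl
def n188997 : Q := act 7 n92976
theorem D188997 : act 7 n92976 = n188997 := rfl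
theorem F375359 : act 5 n188997 = n187729 := d13_1 D188997 (iv7 D187729) (iv5 F143393)
theorem F375360 : act 6 n188997 = n114274 := d14_1 D188997 (iv7 F370334) F370333 F138591 D92976
def n188998 : Q := act 6 n92977
theorem D188998 : act 6 n92977 = n188998 := rfl
theorem F375361 : act 2 n188998 = n150957 := d3_1 D188998 (iv6 D150957) (iv2 F339900)
theorem F375362 : act 3 n188998 = n92978 := d7_1 D188998 (iv6 D92978) D92977
theorem F375363 : act 4 n188998 = n138509 := d10_1 D188998 F331042 (iv4 F339901)
theorem F375364 : act 0 n156581 = n188998 := d18_2 F312828 D156581 F375363 (iv5 D138509) (iv4 D65052) (iv0 D30555) (iv4 F48969) (iv0 F310577) D124795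
def n188999 : Q := act 0 n92978
theorem D188999 : act 0 n92978 = n188999 := rfl
theorem F375365 : act 6 n188999 = n188057 := d21_5 D43474 D92927 F143292 D92978 D188999 (iv5 D188057) F371775 (iv5 F371774) (iv6 D92921) (iv1 D43472)
theorem F375366 : act 5 n187989 = n188999 := d12_5 F375365 (iv5 D188057) (iv6 D90763) (iv5 F139619) D187989
def n189000 : Q := act 1 n92978
theorem D189000 : act 1 n92978 = n189000 := rfl
def n189001 : Q := act 5 n92978
theorem D189001 : act 5 n92978 = n189001 := rfl
theorem F375367 : act 2 n189001 = n109209 := d2_1 D189001 (iv5 F374361) F374358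
theorem F375368 : act 4 n189001 = n136521 := d16_6 F352817 (iv5 D176867) F129384 (iv5 F291270) (iv4 F143394) D189001 (iv5 F352830) F329283 (iv2 F329280)
def n189002 : Q := act 7 n92978
theorem D189002 : act 7 n92978 = n189002 := rfl
theorem F375369 : act 4 n189002 = n92982 := d11_1 D189002 (iv7 D92982) (iv4 F143394)
def n189003 : Q := act 3 n92979
theorem D189003 : act 3 n92979 = n189003 := rfl
def n189004 : Q := act 4 n92979
theorem D189004 : act 4 n92979 = n189004 := rfl
theorem F375370 : act 7 n189004 = n188855 := d11_2 F374381 D189004 F375064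
theorem F375371 : act 5 n189004 = n187887 := d16_1 D189004 F371762 F293916 (iv4 F329285) (iv5 F97669) (iv4 F214503) F374370 F374378 F374379
theorem F375372 : act 0 n189004 = n188857 := d18_2 D92979 D189004 F375067 (iv5 F367190) (iv4 F352931) F215064 F352837 (iv0 D88718) (iv5 F291270)
theorem F375373 : act 6 n187890 = n189004 := d12_0 F375371 (iv6 D187887) (iv5 D90638) D90639 D187890
theorem F375374 : act 2 n189004 = n188854 := d15_3 (iv0 D188854) D188855 (iv7 F375370)
theorem F375375 : act 4 n188854 = n188669 := d16_0 F374362 F209195 F95778 F82446 D64140 D136431 (iv5 F375066) (iv7 F375370) F375374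
theorem F375376 : act 3 n123152 = n188854 := d5_5 F375375 (iv3 F374363) F209196 F309772 D123152
theorem F375377 : act 7 n123991 = n188854 := d11_0 F375375 (iv7 F374378) (iv4 F374383)
theorem F375378 : act 5 n102187 = n188854 := d16_1 D102187 F375375 F374362 F209195 F95778 F82446 D64140 (iv7 F329287) F293915
theorem F375379 : act 1 n189004 = n188636 := d15_0 F374384 F375377 (iv2 F375374)
theorem F375380 : act 5 n187888 = n188651 := d21_8 F292615 (iv1 F74304) (iv5 F291272) D188636 (iv1 F375379) (iv6 F375373) (iv5 D187890) D187888 (iv6 D188651) (iv1 F142850)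
theorem F375381 : act 2 n188926 = n187888 := d2_3 F375380 F374313 D188926
theorem F375382 : act 7 n187889 = n188926 := d15_2 (iv0 D187888) D187889 F375381
theorem F375383 : act 5 n188927 = n187889 := d13_3 F375382 (iv5 D188926) D188927
def n189005 : Q := act 5 n92979
theorem D189005 : act 5 n92979 = n189005 := rfl
theorem F375384 : act 2 n189005 = n130617 := d2_1 D189005 (iv5 F374362) F374379
theorem F375385 : act 4 n189005 = n130625 := d16_4 (iv4 F371762) (iv5 F375371) (iv4 D189004) D189005 (iv5 F329300) F157064 (iv5 F157071) (iv7 D102188) (iv2 F293915)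
def n189006 : Q := act 6 n92979
theorem D189006 : act 6 n92979 = n189006 := rfl
theorem F375386 : act 4 n189006 = n187890 := d10_1 D189006 F375373 (iv4 D189004)
def n189007 : Q := act 6 n92980
theorem D189007 : act 6 n92980 = n189007 := rfl
def n189008 : Q := act 6 n93011
theorem D189008 : act 6 n93011 = n189008 := rfl
theorem F375387 : act 2 n189008 = n93016 := d3_1 D189008 (iv6 D93016) (iv2 F143450)
theorem F375388 : act 3 n189008 = n111050 := d7_1 D189008 F172243 F340051
theorem F375389 : act 4 n189008 = n188370 := d10_1 D189008 (iv6 D188370) (iv4 F340052)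
theorem F375390 : act 0 n119048 = n189008 := d21_4 (iv5 D33204) F42410 D54784 (iv6 F187304) (iv6 D189008) (iv5 D93011) F140421 D87972 F134963 (iv1 D71846)
theorem F375391 : act 7 n152537 = n189008 := d8_0 F375388 (iv7 F339915) F372356
theorem F375392 : act 0 n189008 = n152538 := d20_4 (iv4 F339964) (iv1 D111049) D111050 (iv3 F375388) F251151 D188116 F372351 F371838 F178408 (iv1 D114381)
def n189009 : Q := act 6 n93013
theorem D189009 : act 6 n93013 = n189009 := rfl
theorem F375393 : act 2 n189009 = n188049 := d3_1 D189009 (iv6 D188049) F143457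
theorem F375394 : act 3 n189009 = n151531 := d7_1 D189009 F238397 (iv3 F365304)
theorem F375395 : act 5 n189009 = n187721 := d12_1 D189009 (iv6 D187721) (iv5 F145629) (iv6 F369194) F369198
theorem F375396 : act 7 n189009 = n152509 := d14_2 F374354 D189009 (iv6 D152509) F239342 F374355
theorem F375397 : act 0 n189009 = n113624 := d21_4 (iv5 F349150) D187132 F369198 D189009 F176808 (iv5 D52459) D52457 (iv5 F108302) (iv6 F134963) F154353
def n189010 : Q := act 6 n93015
theorem D189010 : act 6 n93015 = n189010 := rfl
theorem F375398 : act 2 n189010 = n188370 := d3_1 D189010 (iv6 D188370) F340053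
theorem F375399 : act 4 n189010 = n93016 := d10_1 D189010 (iv6 D93016) D93015
theorem F375400 : act 0 n114801 = n189010 := d18_2 (iv1 D114800) D114801 F375399 (iv5 F355317) (iv4 F334437) (iv0 D146313) (iv4 F318223) (iv0 F334434) F334442
def n189011 : Q := act 0 n93016
theorem D189011 : act 0 n93016 = n189011 := rfl
theorem F375401 : act 5 n189011 = n119049 := d17_3 D144976 F355317 D189011 F319324 (iv5 F318731) F223015 (iv5 F317365) (iv0 D67970) (iv4 F104081)
theorem F375402 : act 6 n189011 = n152545 := d21_5 (iv5 D93010) (iv1 D43518) D43520 D93016 D189011 F354444 (iv1 F218542) (iv5 F218228) F354421 (iv1 F239758)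
theorem F375403 : act 2 n152538 = n189011 := d15_3 (iv0 D189011) (iv0 F143459) D152538
theorem F375404 : act 7 n189011 = n119048 := d4_2 D152538 F375403 F187302
theorem F375405 : act 3 n151346 = n189011 := d8_3 F375404 F187303 D151346
theorem F375406 : act 1 n152537 = n189011 := d15_1 D152537 F375404 F187302
def n189012 : Q := act 7 n93016
theorem D189012 : act 7 n93016 = n189012 := rfl
theorem F375407 : act 2 n189012 = n152537 := d4_1 D189012 F375391 F375387
theorem F375408 : act 3 n189012 = n93024 := d8_1 D189012 (iv7 D93024) (iv3 F143458)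
theorem F375409 : act 5 n189012 = n147889 := d13_1 D189012 F278626 F355317
theorem F375410 : act 1 n119048 = n189012 := d15_1 (iv0 F375390) (iv7 D189012) (iv2 F375387)
theorem F375411 : act 1 n189012 = n152538 := d15_1 F375410 (iv7 D152538) (iv2 F187302)
def n189013 : Q := act 6 n93019
theorem D189013 : act 6 n93019 = n189013 := rfl
theorem F375412 : act 2 n189013 = n140711 := d3_1 D189013 F363144 (iv2 F339905)
theorem F375413 : act 3 n189013 = n93020 := d7_1 D189013 (iv6 D93020) D93019
theorem F375414 : act 0 n189013 = n111365 := d21_4 F337425 F329685 (iv5 F292039) D189013 (iv6 D111365) (iv5 D51360) (iv1 F80626) F80624 D51518 D111735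
theorem F375415 : act 1 n189013 = n140712 := d15_1 (iv0 F375414) (iv7 D140712) (iv2 F172818)
def n189014 : Q := act 0 n93020
theorem D189014 : act 0 n93020 = n189014 := rfl
def n189015 : Q := act 1 n93020
theorem D189015 : act 1 n93020 = n189015 := rfl
def n189016 : Q := act 5 n93020
theorem D189016 : act 5 n93020 = n189016 := rfl
theorem F375416 : act 6 n189016 = n100136 := d12_2 D93020 D189016 (iv5 D100136) F73855 F292040
def n189017 : Q := act 7 n93020
theorem D189017 : act 7 n93020 = n189017 := rfl
theorem F375417 : act 4 n189017 = n93024 := d11_1 D189017 (iv7 D93024) (iv4 F143466)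
def n189018 : Q := act 3 n93021
theorem D189018 : act 3 n93021 = n189018 := rfl
theorem F375418 : act 7 n189018 = n114057 := d8_2 F374400 D189018 F374401
theorem F375419 : act 4 n148119 = n189018 := d20_2 (iv4 D155509) F231932 (iv3 D189018) (iv1 F374410) F374407 F350588 (iv1 F172238) F339964 (iv3 F178400) (iv1 F355590)
theorem F375420 : act 5 n189018 = n114058 := d9_2 D148119 F375419 F348528 (iv5 D73935) D73934 (iv5 F233284) (iv4 D148523) D148524 F353537 (iv5 D71892) (iv4 F108385) (iv5 F303499) (iv4 F108363) (iv5 F230221) F230220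
theorem F375421 : act 2 n152396 = n189018 := d16_9 (iv4 F375419) (iv5 D148119) (iv4 F230220) F230221 F108363 F303499 F108385 D71892 D152396
theorem F375422 : act 1 n189018 = n152393 := d15_0 (iv0 D152393) D152396 F375421
theorem F375423 : act 1 n152394 = n189018 := d17_6 F339218 (iv5 D119839) F309810 D173443 (iv4 F346135) F258846 F375420 F177564 (iv4 F335506)
def n189019 : Q := act 4 n93021
theorem D189019 : act 4 n93021 = n189019 := rfl
theorem F375424 : act 2 n189019 = n188883 := d1_1 D189019 F375131 F374398
theorem F375425 : act 0 n189019 = n188886 := d20_1 D189019 F375133 F177447 (iv1 D53079) (iv3 F83695) D114801 F375400 F375399 F143458 D93021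
theorem F375426 : act 7 n188884 = n189019 := d15_2 (iv0 D188883) D188884 F375424
theorem F375427 : act 4 n188675 = n188884 := d11_3 F375426 (iv4 D189019) (iv7 F374400)
theorem F375428 : act 3 n188884 = n123882 := d5_1 F375427 (iv4 D123882) D123881 (iv4 F355576) F374401
def n189020 : Q := act 5 n93021
theorem D189020 : act 5 n93021 = n189020 := rfl
theorem F375429 : act 2 n189020 = n146572 := d2_1 D189020 (iv5 F374394) F374398
theorem F375430 : act 3 n189020 = n114058 := d6_1 D189020 (iv5 F375420) (iv3 D189018)
theorem F375431 : act 7 n189020 = n114053 := d13_2 F374400 D189020 F374403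
theorem F375432 : act 6 n189020 = n152355 := d21_9 (iv5 F374750) (iv1 D188759) F324796 F323483 (iv1 F68402) (iv6 F143468) (iv5 D93023) D93021 D189020 (iv1 F359208)
theorem F375433 : act 4 n173576 = n189020 := d10_3 F375432 F314196 D173576
theorem E103332 : n178372 = n93023 := ((c17_8 D84867 (iv5 F336010) (iv1 F277729) (iv5 F336004) F375433 (iv5 D189020) (iv0 D93021) D93023 (iv0 D178372) (iv4 D84869))).symm
theorem F375434 : act 1 n93023 = n84869 := (sb E103332 (iv0 D178372))
theorem F375435 : act 0 n189020 = n159454 := d18_2 F272007 F375433 F358938 (iv5 D166468) D166467 (iv0 F262024) F130006 F328595 F334698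
theorem F375436 : act 1 n189019 = n188641 := d18_6 F206232 F335494 F272007 F375433 (iv5 D189020) D189019 F374287 (iv0 F251200) (iv5 D159505)
theorem F375437 : act 0 n175825 = n189020 := d20_1 F301481 (iv4 F375433) (iv3 F336005) (iv1 F336428) F346401 (iv4 F278236) (iv1 D128089) D128090 F206158 (iv1 F358939)
theorem F375438 : act 7 n178373 = n185835 := d15_2 F375434 D178373 F288220
theorem F375439 : act 5 n188676 = n178373 := d13_3 F375438 F288221 D188676
theorem F375440 : act 6 n164209 = n178373 := d14_5 F375438 (iv6 D185835) F135509 (iv6 F326300) F326301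
theorem F375441 : act 3 n178373 = n164383 := d7_1 F375440 (iv6 F259037) (iv3 F283775)
def n189021 : Q := act 6 n93021
theorem D189021 : act 6 n93021 = n189021 := rfl
theorem F375442 : act 7 n189021 = n114282 := d14_2 F374400 D189021 (iv6 D114282) (iv7 F177966) F374402
def n189022 : Q := act 3 n93022
theorem D189022 : act 3 n93022 = n189022 := rfl
theorem F375443 : act 2 n189022 = n118859 := d0_1 D189022 F186924 (iv2 F177557) F374401 F374404
theorem F375444 : act 5 n189022 = n105863 := d6_2 F373913 D189022 (iv3 F373911)
theorem F375445 : act 6 n189022 = n105864 := d7_2 F143467 D189022 F162583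
theorem F375446 : act 7 n189022 = n146573 := d8_2 (iv7 F374397) D189022 F374396
def n189023 : Q := act 4 n93022
theorem D189023 : act 4 n93022 = n189023 := rfl
theorem F375447 : act 2 n189023 = n188884 := d1_1 D189023 (iv4 F375427) F374404
theorem F375448 : act 6 n189023 = n114280 := d10_2 F143467 D189023 (iv4 D114280)
theorem F375449 : act 7 n189023 = n188883 := d11_2 (iv7 F374397) D189023 F375131
theorem F375450 : act 0 n189023 = n188641 := d18_2 (iv1 F374409) D189023 F374287 (iv5 F336013) (iv4 D178364) (iv0 D84867) D84869 D178373 (iv5 F375439)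
theorem F375451 : act 1 n189023 = n188886 := d18_6 F206230 D115022 (iv1 F334722) (iv4 F373912) F373913 D189023 F375133 F374291 F374288
def n189024 : Q := act 0 n93023
theorem D189024 : act 0 n93023 = n189024 := rfl
theorem F375452 : act 4 n189024 = n176088 := d18_1 D189024 F334702 (iv4 F335995) F258808 (iv4 F375133) (iv0 F375425) (iv4 D189019) (iv0 D93021) D93023
theorem F375453 : act 3 n189024 = n155470 := d20_5 F318223 D146313 F334437 F355315 D189024 (iv4 D155470) (iv1 D73943) D73944 (iv3 F363834) F334434
theorem F375454 : act 6 n189024 = n176086 := d21_5 F65117 F62999 D43525 (iv6 F143468) D189024 F347659 (iv1 F177719) (iv5 F142279) (iv6 D92467) (iv1 F67778)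
theorem F375455 : act 2 n178377 = n189024 := d15_3 (iv0 D189024) F375434 D178377
theorem F375456 : act 7 n189024 = n178360 := d4_2 D178377 F375455 F277921
theorem F375457 : act 1 n178373 = n189024 := d15_1 D178373 F375456 F277921
def n189025 : Q := act 4 n93023
theorem D189025 : act 4 n93023 = n189025 := rfl
theorem F375458 : act 2 n189025 = n166516 := d1_1 D189025 F354322 F288220
theorem F375459 : act 3 n189025 = n147058 := d5_1 D189025 (iv4 D147058) (iv3 F334436) F334437 F355315
theorem F375460 : act 6 n189025 = n93026 := d10_2 (iv6 F143468) D189025 (iv4 D93026)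
theorem F375461 : act 1 n189025 = n147553 := d18_8 F358881 F358892 D178142 F277702 (iv5 F334705) (iv4 F375452) (iv0 D189024) D189025 (iv5 F358889)
theorem F375462 : act 7 n147892 = n189025 := d8_0 F375459 F241165 D147892
def n189026 : Q := act 7 n93023
theorem D189026 : act 7 n93023 = n189026 := rfl
theorem F375463 : act 2 n189026 = n178373 := d4_1 D189026 F375438 F288220
theorem F375464 : act 3 n189026 = n147889 := d8_1 D189026 F278626 F355315
theorem F375465 : act 4 n189026 = n147892 := d11_1 D189026 F375462 (iv4 D189025)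
theorem F375466 : act 5 n189026 = n93024 := d13_1 D189026 (iv7 D93024) D93023
theorem F375467 : act 6 n189026 = n175979 := d14_1 D189026 F355322 F158180 (iv7 F291332) (iv6 F143468)
theorem F375468 : act 1 n178360 = n189026 := d15_1 F374395 (iv7 D189026) (iv2 F288220)
theorem F375469 : act 1 n189026 = n178377 := d15_1 F375468 (iv7 D178377) (iv2 F277921)
def n189027 : Q := act 0 n93039
theorem D189027 : act 0 n93039 = n189027 := rfl
theorem F375470 : act 5 n189027 = n188083 := d17_1 D189027 (iv1 F372276) (iv5 D100145) (iv4 F138960) D187561 (iv0 F370817) F362399 F362398 (iv4 F143503)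
theorem F375471 : act 3 n189027 = n188682 := d20_5 F291856 (iv1 F73958) (iv4 F68415) D93039 D189027 (iv4 D188682) (iv1 D92649) F68044 (iv3 D43342) (iv1 F291855)
theorem F375472 : act 2 n100376 = n189027 := d15_3 (iv0 D189027) (iv0 F345184) (iv7 F367146)
theorem F375473 : act 1 n100377 = n189027 := d15_0 (iv0 D189027) F143504 D100377
theorem F375474 : act 7 n189027 = n100375 := d15_2 (iv0 F367128) F375473 (iv2 F367141)
theorem F375475 : act 6 n186714 = n189027 := d21_5 (iv5 F371292) (iv1 D186711) (iv5 D89064) D89065 D186714 F375470 (iv1 F372276) (iv5 D100145) (iv6 F291555) (iv1 F371293)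
theorem F375476 : act 7 n98310 = n186714 := d14_0 F375475 F375474 F367140 (iv7 F145300) D98310
theorem F375477 : act 5 n99934 = n186714 := d21_2 D46674 D99934 F375475 (iv1 F375473) F154388 D186287 (iv1 F367068) (iv5 F367070) F367071 (iv1 D46673)
def n189028 : Q := act 2 n93039
theorem D189028 : act 2 n93039 = n189028 := rfl
theorem F375478 : act 3 n189028 = n184252 := d0_2 D93039 D189028 F286179 (iv3 D89580) (iv2 F291688)
theorem F375479 : act 4 n189028 = n100689 := d1_2 (iv4 F143503) D189028 (iv2 F154802)
theorem F375480 : act 5 n189028 = n100189 := d2_2 (iv5 F292681) D189028 (iv2 D100189)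
theorem F375481 : act 6 n189028 = n187103 := d3_2 (iv6 F292682) D189028 (iv2 D187103)
theorem F375482 : act 7 n189028 = n100377 := d4_2 (iv7 F143504) D189028 (iv2 D100377)
theorem F375483 : act 1 n189028 = n100375 := d15_0 (iv0 D100375) (iv7 F143504) D189028
theorem F375484 : act 1 n100376 = n189028 := d15_0 F375483 (iv7 F375474) (iv2 F375472)
def n189029 : Q := act 6 n93058
theorem D189029 : act 6 n93058 = n189029 := rfl
theorem F375485 : act 2 n189029 = n93060 := d3_1 D189029 (iv6 D93060) D93058
theorem F375486 : act 3 n189029 = n171184 := d7_1 D189029 F343241 F357138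
theorem F375487 : act 5 n189029 = n177888 := d12_1 D189029 (iv6 F363386) (iv5 F363385) (iv6 D118332) (iv5 F329247)
theorem F375488 : act 7 n189029 = n171168 := d14_2 (iv7 F329248) D189029 (iv6 D171168) F335621 F329250
theorem F375489 : act 0 n189029 = n185382 := d21_4 F328509 F107847 (iv5 F329247) D189029 (iv6 F292007) F292006 (iv1 F154438) F74091 F292326 D93027
theorem F375490 : act 0 n186586 = n189029 := d21_4 D47591 D102609 F157818 (iv6 F367328) (iv6 D189029) F329247 F87409 F328908 F293584 (iv1 F293542)
def n189030 : Q := act 0 n93060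
theorem D189030 : act 0 n93060 = n189030 := rfl
theorem F375491 : act 6 n189030 = n100450 := d21_5 (iv5 F329203) D74059 F329249 D93060 D189030 (iv5 D100450) F329567 F329255 F328913 (iv1 F328871)
theorem F375492 : act 5 n189030 = n102698 := d21_0 (iv1 F290094) (iv5 D177856) D177857 F289803 F135271 (iv5 F329203) D74059 F329249 D93060 D189030
theorem F375493 : act 2 n185382 = n189030 := d15_3 (iv0 D189030) (iv0 F365473) (iv7 F287618)
theorem F375494 : act 1 n171168 = n189030 := d15_0 (iv0 D189030) (iv7 F291440) (iv2 F364409)
theorem F375495 : act 7 n189030 = n186586 := d15_2 (iv0 F356432) F375494 (iv2 F367329)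
def n189031 : Q := act 1 n93061
theorem D189031 : act 1 n93061 = n189031 := rfl
theorem F375496 : act 1 n189031 = n111142 := d15_1 D189031 (iv7 F335715) (iv2 F365414)
def n189032 : Q := act 7 n93061
theorem D189032 : act 7 n93061 = n189032 := rfl
theorem F375497 : act 2 n189032 = n111142 := d4_1 D189032 (iv7 F335715) (iv2 F365414)
theorem F375498 : act 3 n189032 = n138617 := d8_1 D189032 (iv7 F353415) F365413
theorem F375499 : act 6 n189032 = n111140 := d14_1 D189032 (iv7 F329728) F137324 F292699 D93061
def n189033 : Q := act 4 n93064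
theorem D189033 : act 4 n93064 = n189033 := rfl
theorem F375500 : act 2 n189033 = n176552 := d1_1 D189033 F374413 F374415
theorem F375501 : act 6 n189033 = n172094 := d10_2 (iv6 F345036) D189033 F270243
theorem F375502 : act 7 n189033 = n186769 := d11_2 (iv7 F345037) D189033 F367955
theorem F375503 : act 5 n189033 = n144251 := d16_1 D189033 (iv4 F365274) (iv5 D183920) (iv4 F154826) (iv5 F365283) (iv4 D100879) (iv5 F357532) (iv7 F374411) F374415
theorem F375504 : act 1 n144263 = n189033 := d17_6 (iv1 D47022) (iv5 D22606) D22604 D47014 D100850 F349157 F375503 F365279 (iv4 D100879)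
theorem F375505 : act 3 n183124 = n100376 := d20_3 D189033 (iv1 F375504) F366944 (iv1 D100376) (iv3 D46846) (iv4 D22502) D22500 (iv4 F68056) D43548 D93064
def n189034 : Q := act 3 n93065
theorem D189034 : act 3 n93065 = n189034 := rfl
theorem F375506 : act 5 n189034 = n100878 := d6_2 (iv5 F357532) D189034 (iv3 D100878)
theorem F375507 : act 6 n189034 = n93202 := d7_2 (iv6 F357533) D189034 (iv3 D93202)
theorem F375508 : act 1 n151381 = n189034 := d18_8 (iv1 F365063) F365343 F372270 (iv4 D184251) D184252 (iv4 F369964) F369968 F349216 F375506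
def n189035 : Q := act 4 n93065
theorem D189035 : act 4 n93065 = n189035 := rfl
theorem F375509 : act 2 n189035 = n186769 := d1_1 D189035 F367955 (iv2 F357531)
theorem F375510 : act 5 n189035 = n144140 := d9_2 (iv5 F357532) D189035 F368782 (iv5 D184316) (iv4 F154944) F295948 F329867 (iv5 F345035) D189033 F375503 (iv4 F365274) (iv5 D183920) (iv4 F154826) (iv5 F365283) (iv4 D100879)
theorem F375511 : act 6 n189035 = n93203 := d10_2 (iv6 F357533) D189035 (iv4 D93203)
theorem F375512 : act 7 n189035 = n176552 := d11_2 F374411 D189035 F374413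
theorem F375513 : act 1 n189035 = n144263 := d18_6 F365345 (iv4 F368782) F368779 (iv4 D100879) (iv5 F357532) D189035 F366944 F369150 F369146
theorem F375514 : act 3 n189035 = n96539 := d20_3 (iv4 F374418) (iv1 F374423) D189035 F343057 (iv3 D87826) (iv4 D40940) (iv1 F66095) D42769 D91385 D188432
def n189036 : Q := act 4 n93067
theorem D189036 : act 4 n93067 = n189036 := rfl
theorem F375515 : act 2 n189036 = n100797 := d1_1 D189036 (iv4 F349153) (iv2 F294162)
theorem F375516 : act 3 n189036 = n103863 := d5_1 D189036 F375024 (iv3 F365330) F143281 (iv3 F143548)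
theorem F375517 : act 5 n189036 = n96349 := d9_2 D93067 D189036 (iv4 F152888) F354446 (iv4 F354452) (iv5 F373445) (iv4 F374418) F374419 (iv4 D103905) (iv5 D48104) (iv4 F63055) D87913 (iv4 F349159) F294884 F134937
theorem F375518 : act 6 n189036 = n111175 := d10_2 (iv6 F347691) D189036 (iv4 D111175)
theorem F375519 : act 7 n189036 = n100798 := d11_2 (iv7 F294163) D189036 (iv4 F349160)
theorem F375520 : act 0 n189036 = n103904 := d17_0 F294884 (iv1 F295352) F357428 (iv4 D100789) (iv5 D46993) D46992 D100785 (iv0 F335721) D189036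
theorem F375521 : act 0 n103903 = n189036 := d20_7 D99330 (iv1 F292695) F143285 F329549 (iv1 F110811) D150783 (iv4 F354452) (iv4 D189036) F143548 (iv1 F293216)
def n189037 : Q := act 0 n93071
theorem D189037 : act 0 n93071 = n189037 := rfl
theorem F375522 : act 4 n189037 = n108534 := d20_0 (iv1 F167821) (iv4 F172368) F172367 (iv1 F111902) D156694 F246468 F222060 (iv4 D111175) (iv3 F347693) D189037
theorem F375523 : act 6 n189037 = n141813 := d21_5 (iv5 D20606) D20603 D43549 D93071 D189037 F372452 (iv1 D101183) (iv5 F294234) (iv6 D93104) (iv1 D43560)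
theorem F375524 : act 2 n186957 = n189037 := d1_3 F375522 F364388 (iv4 F368660)
theorem F375525 : act 7 n186958 = n189037 := d11_0 F375522 (iv7 F364389) F368662
def n189038 : Q := act 1 n93071
theorem D189038 : act 1 n93071 = n189038 := rfl
theorem F375526 : act 1 n189038 = n186959 := d15_1 D189038 (iv7 D186959) (iv2 F294168)
theorem F375527 : act 7 n189038 = n186957 := d15_2 (iv0 D189037) D189038 F375524
theorem F375528 : act 6 n137179 = n189038 := d21_3 (iv5 D64484) D64482 D137179 (iv1 D189038) (iv6 D93071) (iv5 D43549) (iv1 F68058) (iv5 F292711) D47051 (iv1 F346637)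
theorem F375529 : act 5 n186978 = n189038 := d21_6 (iv5 D47554) F35424 F34829 D41764 D89440 D186978 (iv1 D189038) F294169 (iv6 D88862) (iv1 F74761)
theorem F375530 : act 4 n108535 = n189038 := d16_0 (iv5 F375529) F368734 (iv5 D186427) F136175 (iv5 F74182) (iv4 F293369) F350373 (iv7 F364389) F364391
theorem F375531 : act 2 n189038 = n186958 := d1_1 F375530 (iv4 F368662) F364391
theorem F375532 : act 3 n189038 = n111151 := d5_1 F375530 F350807 (iv3 D125088) D125089 F366474
theorem F375533 : act 1 n186959 = n189037 := d15_1 F375526 (iv7 F375525) (iv2 F375531)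
def n189039 : Q := act 7 n93071
theorem D189039 : act 7 n93071 = n189039 := rfl
theorem F375534 : act 2 n189039 = n186959 := d4_1 D189039 (iv7 D186959) (iv2 F294168)
theorem F375535 : act 3 n189039 = n111168 := d8_1 D189039 (iv7 F172420) (iv3 F347693)
theorem F375536 : act 5 n189039 = n186576 := d13_1 D189039 (iv7 D186576) (iv5 F294169)
theorem F375537 : act 1 n186958 = n189039 := d15_1 D186958 (iv7 D189039) F294168
theorem F375538 : act 1 n189039 = n186957 := d15_1 F375537 (iv7 F375527) F375531
def n189040 : Q := act 3 n93075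
theorem D189040 : act 3 n93075 = n189040 := rfl
theorem F375539 : act 5 n189040 = n101202 := d6_2 F357587 D189040 F363688
theorem F375540 : act 7 n189040 = n186819 := d8_2 (iv7 F357585) D189040 F368123
theorem F375541 : act 0 n93084 = n189040 := d17_0 F375539 (iv1 F363690) (iv5 F339894) F143947 D187560 (iv0 F370812) F154815 (iv0 F295157) F295159
def n189041 : Q := act 4 n93075
theorem D189041 : act 4 n93075 = n189041 := rfl
theorem F375542 : act 2 n189041 = n101106 := d1_1 D189041 (iv4 F344245) F357586
theorem F375543 : act 6 n189041 = n186549 := d10_2 F357594 D189041 F357615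
theorem F375544 : act 7 n189041 = n101111 := d11_2 (iv7 F357585) D189041 F349306
theorem F375545 : act 5 n189041 = n101043 := d17_5 (iv1 D99423) D99424 (iv1 F357578) F357587 D189041 (iv0 D101043) (iv5 D47075) D47074 F153148
theorem F375546 : act 0 n189041 = n96154 := d17_0 (iv5 F293909) F344237 (iv5 D47091) (iv4 F143903) D99428 (iv0 F357589) (iv5 D93078) D93075 D189041
theorem F375547 : act 1 n189041 = n186791 := d18_8 (iv1 F155759) D101097 F362362 F216191 (iv5 F343906) (iv4 D93077) D93075 D189041 F368030
theorem F375548 : act 3 n103945 = n189041 := d20_5 (iv4 D40996) D40994 (iv4 F68411) D48124 D103945 (iv4 D189041) (iv1 D93075) D93077 F143566 F70435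
def n189042 : Q := act 4 n93076
theorem D189042 : act 4 n93076 = n189042 := rfl
theorem F375549 : act 2 n189042 = n93077 := d1_1 D189042 (iv4 D93077) D93076
theorem F375550 : act 3 n189042 = n103939 := d5_1 D189042 (iv4 F326521) (iv3 F373446) (iv4 F374418) F374417
theorem F375551 : act 7 n189042 = n103926 := d11_2 F357620 D189042 (iv4 F362781)
theorem F375552 : act 5 n189042 = n135930 := d16_1 D189042 (iv4 F343920) (iv5 F179200) (iv4 F371675) F371678 (iv4 D186950) (iv5 D89412) F292919 D93076
theorem F375553 : act 0 n189042 = n103925 := d17_0 F343880 (iv1 D87771) (iv5 D40897) (iv4 F34771) D46490 D99434 (iv5 F349310) F357621 D189042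
theorem F375554 : act 1 n189042 = n103924 := d18_8 (iv1 F335362) (iv4 F206683) F349165 (iv4 D101110) D101111 F349306 F357621 D189042 F343867
theorem F375555 : act 6 n189042 = n137623 := d21_5 D47411 D102083 F346041 (iv6 F346042) (iv1 F375554) F220777 F166990 (iv5 F327682) F289783 (iv1 D47410)
theorem F375556 : act 0 n135906 = n183994 := d21_4 F48639 (iv1 F48453) D63906 D135906 (iv6 D183994) (iv5 F343867) (iv1 F375554) F375552 (iv6 D135930) (iv1 F99408)
theorem F375557 : act 0 n183997 = n134379 := d21_10 (iv5 D134379) F359623 (iv5 F99414) (iv6 D63915) D63913 D135930 (iv5 F375552) F375553 F343880 D183997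
theorem F375558 : act 1 n183997 = n136232 := d15_1 (iv0 F375557) F359620 (iv2 F333884)
def n189043 : Q := act 5 n93076
theorem D189043 : act 5 n93076 = n189043 := rfl
theorem F375559 : act 2 n189043 = n93078 := d2_1 D189043 (iv5 D93078) D93076
theorem F375560 : act 3 n189043 = n103905 := d6_1 D189043 (iv5 F374419) F374417
theorem F375561 : act 7 n189043 = n186939 := d13_2 F357620 D189043 (iv5 D186939)
theorem F375562 : act 4 n189043 = n103909 := d16_6 F371675 F179200 F343920 (iv5 F375552) (iv4 D189042) D189043 F294318 D184114 (iv2 F371674)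
theorem F375563 : act 0 n189043 = n186949 := d17_2 (iv1 F357622) D189043 F368631 (iv4 F153143) D101038 F344194 D136406 (iv0 F344180) (iv4 F344245)
theorem F375564 : act 1 n189043 = n150772 := d17_6 (iv1 F134728) D183967 (iv1 F345095) (iv5 F375552) (iv4 D189042) D189043 F364320 F153147 F73442
def n189044 : Q := act 6 n93076
theorem D189044 : act 6 n93076 = n189044 := rfl
theorem F375565 : act 2 n189044 = n93079 := d3_1 D189044 (iv6 D93079) D93076
theorem F375566 : act 3 n189044 = n186895 := d7_1 D189044 (iv6 F374420) F374417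
theorem F375567 : act 4 n189044 = n137623 := d10_1 D189044 (iv6 F375555) (iv4 D189042)
theorem F375568 : act 7 n189044 = n186543 := d14_2 F357620 D189044 (iv6 D186543) F136223 D89401
theorem F375569 : act 0 n189044 = n186549 := d21_4 (iv5 F364320) (iv1 F375564) (iv5 D189043) D189044 (iv6 F375543) F375545 (iv1 F155707) F74348 (iv6 F73443) (iv1 F153147)
theorem F375570 : act 0 n186548 = n189044 := d21_4 (iv5 F329339) D64664 (iv5 F344342) (iv6 F346010) (iv6 D189044) D189043 F375563 F368631 F289985 (iv1 D47418)
def n189045 : Q := act 1 n93077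
theorem D189045 : act 1 n93077 = n189045 := rfl
theorem F375571 : act 1 n189045 = n103926 := d15_1 D189045 (iv7 F375551) F375549
theorem F375572 : act 7 n189045 = n103925 := d15_2 (iv0 F343905) D189045 F343878
theorem F375573 : act 4 n103332 = n189045 := d20_0 (iv1 D189045) (iv4 D93077) (iv3 D43551) (iv1 D20604) D20605 F32681 (iv1 F294205) D23046 D47879 D103332
theorem F375574 : act 5 n183969 = n189045 := d21_0 (iv1 D189045) F343906 (iv6 D64234) (iv1 F99419) F321114 (iv5 D76085) F232454 D118189 F185731 D183969
theorem F375575 : act 6 n185349 = n189045 := d21_3 D102068 (iv1 F157011) D185349 (iv1 D189045) F343907 F335570 F201735 (iv5 F327130) F289784 (iv1 F74614)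
theorem F375576 : act 6 n136591 = n183969 := d21_5 F99417 (iv1 F48465) D30250 D64208 D136591 F375574 (iv1 D189045) F343906 (iv6 D64234) (iv1 F99419)
theorem F375577 : act 2 n183994 = n136591 := d3_3 F375576 F285848 D183994
theorem F375578 : act 7 n136592 = n183994 := d15_2 (iv0 D136591) D136592 F375577
theorem F375579 : act 2 n189045 = n103924 := d3_1 F375575 F346042 (iv2 F346045)
def n189046 : Q := act 4 n93078
theorem D189046 : act 4 n93078 = n189046 := rfl
theorem F375580 : act 2 n189046 = n103909 := d1_1 D189046 (iv4 F375562) F375559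
theorem F375581 : act 7 n189046 = n186950 := d11_2 (iv7 F293429) D189046 (iv4 D186950)
theorem F375582 : act 5 n189046 = n184112 := d16_1 D189046 (iv4 F361003) F250915 (iv4 F343919) F343915 (iv4 F362781) D186939 (iv7 F375561) F375559
theorem F375583 : act 1 n189046 = n144298 := d18_6 D103332 F375573 (iv1 D189045) (iv4 D93077) D93078 D189046 (iv4 F363680) F343918 (iv5 D103335)
def n189047 : Q := act 6 n93078
theorem D189047 : act 6 n93078 = n189047 := rfl
theorem F375584 : act 3 n189047 = n93080 := d7_1 D189047 (iv6 D93080) (iv3 F143568)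
def n189048 : Q := act 1 n93080
theorem D189048 : act 1 n93080 = n189048 := rfl
def n189049 : Q := act 7 n93080
theorem D189049 : act 7 n93080 = n189049 := rfl
theorem F375585 : act 6 n189049 = n186959 := d14_1 D189049 (iv7 D186959) F137095 F292920 D93080
def n189050 : Q := act 1 n93084
theorem D189050 : act 1 n93084 = n189050 := rfl
theorem F375586 : act 5 n189050 = n101203 := d18_9 (iv1 D101203) D101204 F155911 (iv4 D100190) (iv5 F292681) F143503 (iv0 F295157) F295159 D189050
theorem F375587 : act 3 n105941 = n189050 := d20_3 (iv4 F74176) (iv1 F349234) F349235 (iv1 D189050) (iv3 D93084) (iv4 F294635) (iv1 F291262) F137194 F328898 (iv1 F328901)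
theorem F375588 : act 2 n189050 = n186819 := d0_1 F375587 F368123 (iv2 F357579) F357580 F323747
theorem F375589 : act 6 n189050 = n93257 := d7_2 (iv6 F349205) F375587 F294591
def n189051 : Q := act 0 n93099
theorem D189051 : act 0 n93099 = n189051 := rfl
theorem F375590 : act 4 n189051 = n119497 := d18_3 D128176 F356655 D189051 (iv5 D119497) (iv4 F305018) (iv0 F188425) D60211 F190372 D60258
theorem F375591 : act 2 n184690 = n189051 := d15_3 (iv0 D189051) (iv0 F356741) F362974
theorem F375592 : act 7 n189051 = n184691 := d4_2 F362974 F375591 F345608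
theorem F375593 : act 1 n184692 = n189051 := d15_1 F356742 F375592 F345608
def n189052 : Q := act 7 n93099
theorem D189052 : act 7 n93099 = n189052 := rfl
theorem F375594 : act 2 n189052 = n184692 := d4_1 D189052 (iv7 D184692) (iv2 F294654)
theorem F375595 : act 3 n189052 = n93109 := d8_1 D189052 (iv7 D93109) (iv3 F143583)
theorem F375596 : act 4 n189052 = n153920 := d11_1 D189052 F241917 F356655
theorem F375597 : act 5 n189052 = n93285 := d13_1 D189052 (iv7 D93285) (iv5 F143584)
theorem F375598 : act 6 n189052 = n184687 := d14_1 D189052 (iv7 D184687) (iv6 D88065) (iv7 F293710) D93099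
theorem F375599 : act 1 n184691 = n189052 := d15_1 D184691 (iv7 D189052) F294654
theorem F375600 : act 1 n189052 = n184690 := d15_1 F375599 (iv7 F362974) (iv2 F345608)
def n189053 : Q := act 2 n93103
theorem D189053 : act 2 n93103 = n189053 := rfl
theorem F375601 : act 3 n189053 = n100790 := d0_2 D93103 D189053 F154884 F74257 (iv2 F293211)
theorem F375602 : act 4 n189053 = n103837 := d1_2 F357572 D189053 F363579
theorem F375603 : act 5 n189053 = n99425 := d2_2 (iv5 F294231) D189053 F153152
theorem F375604 : act 7 n189053 = n99424 := d4_2 (iv7 F294232) D189053 F153149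
theorem F375605 : act 1 n189053 = n99433 := d15_0 (iv0 D99433) (iv7 F294232) D189053
theorem F375606 : act 4 n188378 = n184000 := d16_2 F375602 (iv5 F373211) (iv5 D184000) (iv4 D87772) (iv5 D40897) (iv4 F34771) D46490 (iv7 F294232) D189053
theorem F375607 : act 1 n99434 = n189053 := d15_0 F375605 F349210 (iv2 F349311)
def n189054 : Q := act 7 n93104
theorem D189054 : act 7 n93104 = n189054 := rfl
theorem F375608 : act 2 n189054 = n100964 := d4_1 D189054 F155580 (iv2 F294233)
theorem F375609 : act 4 n189054 = n140433 := d11_1 D189054 F375062 F375060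
theorem F375610 : act 5 n189054 = n101154 := d13_1 D189054 F155851 (iv5 F294234)
theorem F375611 : act 6 n189054 = n99450 := d14_1 D189054 (iv7 D99450) F73446 (iv7 F293213) D93104
theorem F375612 : act 1 n100993 = n189054 := d15_1 D100993 (iv7 D189054) F294233
theorem F375613 : act 1 n189054 = n100992 := d15_1 F375612 (iv7 F357503) (iv2 F357506)
def n189055 : Q := act 0 n93105
theorem D189055 : act 0 n93105 = n189055 := rfl
def n189056 : Q := act 1 n93105
theorem D189056 : act 1 n93105 = n189056 := rfl
theorem F375614 : act 3 n103264 = n189056 := d20_3 F365237 F177374 D103264 (iv1 D189056) (iv3 D93105) (iv4 D43561) (iv1 F293214) D22630 D47055 D100982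
theorem F375615 : act 4 n103266 = n189056 := d20_6 (iv4 D48197) D48195 F328897 (iv3 F329847) (iv1 F158499) D103266 (iv1 D189056) F357084 F357015 F294650
def n189057 : Q := act 2 n93105
theorem D189057 : act 2 n93105 = n189057 := rfl
theorem F375616 : act 4 n189057 = n120070 := d1_2 (iv4 F357084) D189057 F357013
def n189058 : Q := act 6 n93105
theorem D189058 : act 6 n93105 = n189058 := rfl
theorem F375617 : act 3 n189058 = n93106 := d7_1 D189058 (iv6 D93106) D93105
def n189059 : Q := act 0 n93106
theorem D189059 : act 0 n93106 = n189059 := rfl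
def n189060 : Q := act 1 n93106
theorem D189060 : act 1 n93106 = n189060 := rfl
theorem F375618 : act 6 n108431 = n189060 := d21_3 (iv5 F350373) (iv1 F371973) (iv5 F371965) (iv1 D189060) (iv6 D93106) (iv5 F142678) (iv1 F142679) D92920 F335710 D108534
theorem F375619 : act 2 n189060 = n108433 := d3_1 F375618 (iv6 D108433) D108431
theorem F375620 : act 3 n189060 = n128010 := d7_1 F375618 F312932 (iv3 F167642)
def n189061 : Q := act 5 n93106
theorem D189061 : act 5 n93106 = n189061 := rfl
theorem F375621 : act 0 n189061 = n141827 := d21_1 D189061 (iv5 D141827) (iv6 D66493) D66489 (iv6 F338935) (iv5 F350373) (iv1 F371973) (iv5 F371965) F375618 (iv1 D189060)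
theorem F375622 : act 4 n189060 = n100206 := d17_9 (iv1 D100206) F73883 D99001 F350403 F171789 D141827 (iv0 F375621) (iv5 D189061) D189060
theorem F375623 : act 2 n100206 = n111130 := d1_1 F375622 F172343 (iv2 F375619)
theorem F375624 : act 3 n100206 = n138309 := d5_1 F375622 F221508 (iv3 F310665) D128010 (iv3 F375620)
theorem F375625 : act 6 n100206 = n111128 := d10_2 F375618 F375622 F172340
def n189062 : Q := act 7 n93106
theorem D189062 : act 7 n93106 = n189062 := rfl
theorem F375626 : act 4 n189062 = n93109 := d11_1 D189062 (iv7 D93109) (iv4 F143587)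
theorem F375627 : act 1 n108433 = n189062 := d15_1 (iv0 F374447) (iv7 D189062) (iv2 F374443)
def n189063 : Q := act 2 n93107
theorem D189063 : act 2 n93107 = n189063 := rfl
theorem F375628 : act 7 n93108 = n189063 := d15_2 (iv0 D93107) D93108 (iv2 D189063)
def n189064 : Q := act 3 n93107
theorem D189064 : act 3 n93107 = n189064 := rfl
def n189065 : Q := act 4 n93107
theorem D189065 : act 4 n93107 = n189065 := rfl
def n189066 : Q := act 5 n93107
theorem D189066 : act 5 n93107 = n189066 := rfl
theorem F375629 : act 0 n186789 = n189066 := d21_10 (iv5 D189066) (iv1 F374463) F374459 (iv6 F143875) (iv1 F143884) F295176 F156363 F153525 F153173 D186789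
def n189067 : Q := act 6 n93107
theorem D189067 : act 6 n93107 = n189067 := rfl
def n189068 : Q := act 7 n93107
theorem D189068 : act 7 n93107 = n189068 := rfl
theorem F375630 : act 2 n189068 = n93108 := d4_1 D189068 F375628 (iv2 D189063)
def n189069 : Q := act 3 n93108
theorem D189069 : act 3 n93108 = n189069 := rfl
def n189070 : Q := act 4 n93108
theorem D189070 : act 4 n93108 = n189070 := rfl
theorem F375631 : act 0 n189070 = n100981 := d18_2 (iv1 F374462) D189070 F155598 (iv5 F293939) F294987 (iv0 F367993) (iv4 D93301) F142806 (iv5 F374459)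
def n189071 : Q := act 6 n93108
theorem D189071 : act 6 n93108 = n189071 := rfl
def n189072 : Q := act 6 n93138
theorem D189072 : act 6 n93138 = n189072 := rfl
theorem F375632 : act 2 n189072 = n186623 := d3_1 D189072 (iv6 D186623) (iv2 F294612)
theorem F375633 : act 4 n189072 = n109063 := d10_1 D189072 F360006 F326855
theorem F375634 : act 0 n110218 = n189072 := d18_2 (iv1 F170316) D110218 F375633 F169067 F81421 F170929 D51903 (iv0 F173875) F173874
theorem F375635 : act 1 n110162 = n189072 := d18_6 (iv1 D24558) F18957 D11696 D24719 D50800 D110162 F375633 F169608 (iv5 D50378)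
theorem F375636 : act 0 n108751 = n110216 := d20_4 F38546 D31054 (iv4 F79569) (iv3 F168697) F170385 D110218 F375634 F375633 (iv3 D109063) (iv1 D50353)
def n189073 : Q := act 3 n93139
theorem D189073 : act 3 n93139 = n189073 := rfl
theorem F375637 : act 5 n189073 = n93761 := d6_2 (iv5 F295156) D189073 (iv3 D93761)
theorem F375638 : act 7 n189073 = n186622 := d8_2 (iv7 F294621) D189073 (iv3 D186622)
theorem F375639 : act 0 n189073 = n188688 := d20_10 F374466 (iv1 F373005) (iv4 D187613) F139106 F294767 (iv3 F72304) D98085 F360785 F360787 D189073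
theorem F375640 : act 0 n188689 = n189073 := d21_1 D188689 F375637 F367073 (iv1 F290048) (iv6 D99640) (iv5 F331211) (iv1 F342514) (iv5 F356218) (iv6 D183026) (iv1 F294597)
def n189074 : Q := act 6 n93139
theorem D189074 : act 6 n93139 = n189074 := rfl
theorem F375641 : act 2 n189074 = n140502 := d3_1 D189074 (iv6 F341408) (iv2 F294620)
theorem F375642 : act 4 n189074 = n140498 := d10_1 D189074 F360782 F360787
theorem F375643 : act 5 n189074 = n122641 := d12_1 D189074 (iv6 F335633) F335632 F294622 (iv5 F295156)
theorem F375644 : act 0 n187477 = n135192 := d21_4 (iv5 D43580) D43577 (iv5 F294984) D187477 (iv6 D135192) (iv5 F360238) (iv1 F197547) (iv5 F375643) (iv6 D189074) (iv1 D93139)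
def n189075 : Q := act 3 n93146
theorem D189075 : act 3 n93146 = n189075 := rfl
theorem F375645 : act 7 n189075 = n188182 := d8_2 (iv7 F295426) D189075 (iv3 D188182)
def n189076 : Q := act 6 n93146
theorem D189076 : act 6 n93146 = n189076 := rfl
theorem F375646 : act 2 n189076 = n188181 := d3_1 D189076 (iv6 D188181) (iv2 F295424)
theorem F375647 : act 4 n189076 = n186636 := d10_1 D189076 (iv6 D186636) (iv4 F295425)
theorem F375648 : act 5 n189076 = n188202 := d21_6 (iv5 D22146) (iv1 F293138) D20616 D43582 D93146 D189076 (iv1 D188202) (iv5 D91070) (iv6 D42655) (iv1 F293268)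
theorem F375649 : act 2 n188202 = n187706 := d2_1 F375648 (iv5 F372599) (iv2 F375646)
theorem F375650 : act 7 n187705 = n188202 := d15_2 F372657 F372658 F375649
theorem F375651 : act 7 n188201 = n187706 := d15_2 F372650 F372656 (iv2 F375649)
theorem F375652 : act 2 n187705 = n188201 := d4_3 F375651 (iv2 F375649) (iv7 F375650)
def n189077 : Q := act 3 n93147
theorem D189077 : act 3 n93147 = n189077 := rfl
theorem F375653 : act 5 n189077 = n137816 := d6_2 F333051 D189077 F347282
theorem F375654 : act 7 n189077 = n188179 := d8_2 (iv7 F295429) D189077 (iv3 D188179)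
theorem F375655 : act 0 n135115 = n189077 := d21_1 D135115 F375653 (iv6 D137816) (iv1 F219055) F360627 (iv5 D158961) (iv1 D75880) D75882 (iv6 F363953) (iv1 D135113)
def n189078 : Q := act 6 n93147
theorem D189078 : act 6 n93147 = n189078 := rfl
theorem F375656 : act 2 n189078 = n188184 := d3_1 D189078 (iv6 D188184) (iv2 F295427)
theorem F375657 : act 4 n189078 = n186638 := d10_1 D189078 (iv6 D186638) (iv4 F295428)
def n189079 : Q := act 3 n93198
theorem D189079 : act 3 n93198 = n189079 := rfl
theorem F375658 : act 2 n189079 = n96541 := d0_1 D189079 (iv3 D96541) F270451 (iv3 F335315) (iv2 F364436)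
theorem F375659 : act 4 n189079 = n93216 := d5_2 D93198 D189079 F295445 (iv4 F295334) F295333
theorem F375660 : act 5 n189079 = n172109 := d6_2 (iv5 F364437) D189079 F270259
theorem F375661 : act 6 n189079 = n172088 := d7_2 (iv6 F364438) D189079 F270227
theorem F375662 : act 7 n189079 = n172219 := d8_2 (iv7 F364441) D189079 F270429
theorem F375663 : act 0 n189079 = n97148 := d20_4 (iv4 D43607) D43604 D93198 D189079 F149884 F71640 D76501 F157578 (iv3 F295189) (iv1 D93209)
def n189080 : Q := act 5 n93206
theorem D189080 : act 5 n93206 = n189080 := rfl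
theorem F375664 : act 2 n189080 = n93210 := d2_1 D189080 (iv5 D93210) (iv2 F143777)
theorem F375665 : act 7 n189080 = n95643 := d13_2 (iv7 F295195) D189080 (iv5 D95643)
theorem F375666 : act 4 n189080 = n94270 := d16_2 D93206 D189080 (iv5 F177212) F367979 (iv5 D186782) (iv4 D89123) (iv5 D41637) (iv7 F294224) D43606
theorem F375667 : act 0 n189080 = n131140 := d17_2 (iv1 F295193) D189080 (iv5 F352885) (iv4 F140144) (iv5 F372554) (iv0 F372558) (iv5 D183118) (iv0 D87407) (iv4 F70174)
theorem F375668 : act 1 n189080 = n185956 := d17_6 D42661 (iv5 F357558) F295265 (iv5 D93207) D93206 D189080 (iv5 D185956) (iv0 F135733) (iv4 D42664)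
theorem F375669 : act 6 n94269 = n189080 := d21_5 (iv5 D38859) D38856 F292606 (iv6 F152168) F152169 (iv5 D189080) F295192 D96111 F329424 F72390
def n189081 : Q := act 4 n93207
theorem D189081 : act 4 n93207 = n189081 := rfl
theorem F375670 : act 2 n189081 = n93214 := d1_1 D189081 (iv4 D93214) (iv2 F143779)
theorem F375671 : act 6 n189081 = n184035 := d10_2 F347396 D189081 (iv4 F338858)
theorem F375672 : act 7 n189081 = n186757 := d11_2 F295264 D189081 (iv4 D186757)
theorem F375673 : act 0 n189081 = n186781 := d18_2 F295265 D189081 (iv4 F372556) F372554 F140144 F283182 F283179 F139091 (iv5 F357558)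
theorem F375674 : act 1 n189081 = n183141 := d18_6 F157233 (iv4 F70174) (iv1 F295193) (iv4 D93206) D93207 D189081 (iv4 D183141) (iv0 F366996) (iv5 D182917)
theorem F375675 : act 3 n184041 = n189081 := d7_3 F375671 F285985 D184041
def n189082 : Q := act 1 n93210
theorem D189082 : act 1 n93210 = n189082 := rfl
theorem F375676 : act 1 n189082 = n95643 := d15_1 D189082 (iv7 F375665) F375664
theorem F375677 : act 7 n189082 = n131140 := d15_2 (iv0 F294514) D189082 F356253
theorem F375678 : act 5 n189082 = n181884 := d17_7 (iv1 F139092) (iv5 F347752) (iv1 D93213) (iv5 D43608) D43607 D93210 D189082 (iv0 F283176) (iv4 D91093)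
theorem F375679 : act 3 n131144 = n189082 := d19_19 (iv1 D189082) (iv5 D93210) (iv4 D43607) (iv3 D20629) F293204 (iv5 F293447) (iv4 D20639) (iv3 F32753) (iv1 F140190) (iv5 D42682) D42681 F293526 (iv1 F65924) (iv5 D21348) F32926 D43845 F157582 F114668 (iv4 F210047)
theorem F375680 : act 2 n189082 = n185956 := d0_1 F375679 F288461 F294877 (iv3 F147720) F331361
def n189083 : Q := act 4 n93212
theorem D189083 : act 4 n93212 = n189083 := rfl
theorem F375681 : act 2 n189083 = n186779 := d1_1 D189083 (iv4 D186779) F357557
theorem F375682 : act 3 n189083 = n188156 := d5_1 D189083 F372503 (iv3 F365751) F336755 F357535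
theorem F375683 : act 7 n189083 = n186776 := d11_2 F357559 D189083 (iv4 D186776)
theorem F375684 : act 6 n188153 = n189083 := d7_0 F375682 (iv6 D188156) D188153
def n189084 : Q := act 6 n93212
theorem D189084 : act 6 n93212 = n189084 := rfl
theorem F375685 : act 2 n189084 = n186780 := d3_1 D189084 (iv6 D186780) F357557
theorem F375686 : act 4 n189084 = n188153 := d10_1 D189084 F375684 (iv4 D189083)
theorem F375687 : act 0 n189084 = n188339 := d21_4 (iv5 D90381) D90378 F357537 D189084 (iv6 F373105) (iv5 D136484) D136482 (iv5 F367962) (iv6 D186774) (iv1 F356249)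
theorem F375688 : act 1 n189084 = n187630 := d15_1 (iv0 F375687) F371054 D188339
def n189085 : Q := act 4 n93213
theorem D189085 : act 4 n93213 = n189085 := rfl
theorem F375689 : act 2 n189085 = n186776 := d1_1 D189085 (iv4 D186776) (iv2 F357556)
theorem F375690 : act 6 n189085 = n133975 := d10_2 (iv6 F347753) D189085 F230338
theorem F375691 : act 7 n189085 = n186779 := d11_2 F357555 D189085 (iv4 D186779)
def n189086 : Q := act 0 n93214
theorem D189086 : act 0 n93214 = n189086 := rfl
theorem F375692 : act 4 n189086 = n182038 := d18_3 (iv1 D93213) D93214 D189086 F283446 F134774 F292815 F133281 D90379 (iv5 F347752)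
theorem F375693 : act 1 n186757 = n189086 := d15_0 (iv0 D189086) (iv7 F295268) (iv2 F367899)
theorem F375694 : act 2 n186781 = n189086 := d1_3 F375692 (iv2 F372553) F372556
theorem F375695 : act 7 n183141 = n189086 := d11_0 F375692 F283447 D183141
def n189087 : Q := act 1 n93214
theorem D189087 : act 1 n93214 = n189087 := rfl
theorem F375696 : act 1 n189087 = n186757 := d15_1 D189087 (iv7 F375672) F375670
theorem F375697 : act 7 n189087 = n186781 := d15_2 (iv0 D189086) D189087 F375694
theorem F375698 : act 4 n98917 = n189087 := d20_6 (iv4 F31988) (iv1 F32746) F295031 (iv3 F34604) D46288 D98917 (iv1 D189087) (iv4 D93214) F68553 F32745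
theorem F375699 : act 2 n189087 = n183141 := d1_1 F375698 (iv4 D183141) (iv2 F152465)
def n189088 : Q := act 5 n93214
theorem D189088 : act 5 n93214 = n189088 := rfl
theorem F375700 : act 3 n189088 = n98926 := d6_1 D189088 (iv5 D98926) (iv3 F295308)
theorem F375701 : act 7 n189088 = n186782 := d13_2 F295268 D189088 (iv5 D186782)
theorem F375702 : act 4 n104413 = n189088 := d16_0 (iv5 D189088) (iv4 D93214) (iv5 D43608) D43607 D93210 (iv4 F360836) F163738 D113922 F177282
theorem F375703 : act 0 n188750 = n189088 := d19_0 (iv5 D189088) (iv4 D93214) F68553 F32745 (iv5 D19947) (iv4 D9414) F6173 F16824 (iv5 D4383) (iv4 F6316) F6315 (iv1 F16771) (iv5 F294155) D19240 D40807 F157592 D88808 (iv4 F356318) (iv3 F374704)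
theorem F375704 : act 0 n98926 = n134049 := d20_4 F160071 D104413 F375702 F375700 F216055 F98263 D110803 F171562 D134289 F364208
def n189089 : Q := act 6 n93214
theorem D189089 : act 6 n93214 = n189089 := rfl
theorem F375705 : act 2 n189089 = n184035 := d3_1 D189089 (iv6 F375671) F375670
theorem F375706 : act 3 n189089 = n98901 := d7_1 D189089 F152453 (iv3 F295308)
theorem F375707 : act 4 n189089 = n93215 := d10_1 D189089 (iv6 D93215) D93214
theorem F375708 : act 5 n100422 = n189089 := d16_1 (iv4 F338854) F375707 (iv5 F347391) (iv4 F218448) F218449 (iv4 F214106) (iv5 F239237) F239238 (iv2 D135400)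
theorem F375709 : act 0 n153944 = n189089 := d18_0 F375707 F358067 F357924 (iv5 D123959) D123958 (iv0 F354627) (iv4 F354629) F354628 D153944
def n189090 : Q := act 1 n93215
theorem D189090 : act 1 n93215 = n189090 := rfl
theorem F375710 : act 4 n189090 = n123583 := d18_7 F195690 F315097 (iv1 F217575) (iv4 F338854) F375708 F375707 D189090 F354488 (iv5 F299248)
theorem F375711 : act 5 n134891 = n189090 := d21_6 (iv5 D100855) (iv1 F289944) (iv5 F361761) (iv6 D136069) (iv1 F106599) (iv6 F325766) (iv1 D189090) (iv5 F347391) (iv6 F347388) F294222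
theorem F375712 : act 2 n189090 = n134892 := d2_1 F375711 (iv5 D134892) D134891
theorem F375713 : act 6 n189090 = n136906 := d12_2 (iv6 F325766) F375711 (iv5 D136906) (iv6 D64355) D64354
def n189091 : Q := act 7 n93215
theorem D189091 : act 7 n93215 = n189091 := rfl
theorem F375714 : act 3 n189091 = n93223 := d8_1 D189091 (iv7 D93223) (iv3 F143793)
theorem F375715 : act 5 n189091 = n135813 := d13_1 D189091 (iv7 F218442) F347391
theorem F375716 : act 6 n189091 = n186768 := d14_1 D189091 (iv7 D186768) F136825 (iv7 F294966) D93215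
theorem F375717 : act 1 n134892 = n189091 := d15_1 (iv0 F361760) (iv7 D189091) F347392
def n189092 : Q := act 5 n93217
theorem D189092 : act 5 n93217 = n189092 := rfl
theorem F375718 : act 2 n189092 = n172220 := d2_1 D189092 (iv5 D172220) (iv2 F294213)
theorem F375719 : act 7 n189092 = n172224 := d13_2 (iv7 F294216) D189092 (iv5 D172224)
theorem F375720 : act 0 n189092 = n96139 := d17_2 (iv1 F294212) D189092 F147796 F294695 (iv5 F294696) F294710 (iv5 D181927) F295219 (iv4 F127122)
def n189093 : Q := act 6 n93217
theorem D189093 : act 6 n93217 = n189093 := rfl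
theorem F375721 : act 2 n189093 = n172221 := d3_1 D189093 (iv6 D172221) (iv2 F294213)
theorem F375722 : act 7 n189093 = n186908 := d14_2 (iv7 F294216) D189093 (iv6 D186908) F356206 (iv6 D172225)
theorem F375723 : act 5 n189093 = n99489 := d21_6 F34781 (iv1 F35288) (iv5 F58709) D82486 (iv1 F294212) D189093 (iv1 D99489) (iv5 D46510) (iv6 D22293) D22289
theorem F375724 : act 1 n96153 = n189093 := d18_8 (iv1 D99489) D99490 F286042 (iv4 D184090) (iv5 F293841) F159353 (iv0 F295205) F149607 F375723
def n189094 : Q := act 1 n93218
theorem D189094 : act 1 n93218 = n189094 := rfl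
theorem F375725 : act 1 n189094 = n172217 := d15_1 D189094 (iv7 F357392) F347389
theorem F375726 : act 7 n189094 = n172227 := d15_2 (iv0 F294222) D189094 F270494
theorem F375727 : act 6 n104362 = n189094 := d21_3 D187687 F371187 F365796 (iv1 D189094) F347388 F347391 F358067 F217230 (iv6 F352103) (iv1 F143038)
theorem F375728 : act 2 n189094 = n172226 := d3_1 F375727 F361757 F159990
theorem F375729 : act 4 n189094 = n188738 := d10_1 F375727 (iv6 D188738) (iv4 F159988)
def n189095 : Q := act 4 n93218
theorem D189095 : act 4 n93218 = n189095 := rfl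
theorem F375730 : act 3 n189095 = n135828 := d5_1 D189095 F368101 F368097 F294225 (iv3 F143794)
theorem F375731 : act 6 n189095 = n135815 := d10_2 (iv6 F347388) D189095 F218448
theorem F375732 : act 7 n189095 = n172228 := d11_2 (iv7 F294223) D189095 (iv4 D172228)
theorem F375733 : act 1 n189095 = n104358 := d18_6 F157627 (iv4 F295221) F295218 F293844 D93218 D189095 (iv4 F367665) (iv0 F367664) (iv5 D182916)
theorem F375734 : act 0 n189095 = n183504 := d20_7 D40771 F294440 (iv4 D48550) (iv3 F293502) F293272 (iv3 F143794) D189095 (iv4 D183504) (iv3 D87587) (iv1 D40770)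
def n189096 : Q := act 3 n93220
theorem D189096 : act 3 n93220 = n189096 := rfl
theorem F375735 : act 7 n189096 = n188315 := d8_2 (iv7 F352556) D189096 (iv3 D188315)
def n189097 : Q := act 6 n93220
theorem D189097 : act 6 n93220 = n189097 := rfl
theorem F375736 : act 2 n189097 = n188314 := d3_1 D189097 (iv6 D188314) (iv2 F352481)
theorem F375737 : act 4 n189097 = n101580 := d10_1 D189097 (iv6 D101580) (iv4 F295481)
theorem F375738 : act 5 n189097 = n188277 := d21_6 (iv5 D9781) D9778 D20630 D43610 D93220 D189097 (iv1 D188277) (iv5 D91135) (iv6 D42675) F31974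
def n189098 : Q := act 6 n93221
theorem D189098 : act 6 n93221 = n189098 := rfl
theorem F375739 : act 2 n189098 = n137150 := d3_1 D189098 (iv6 F352558) (iv2 F352553)
theorem F375740 : act 4 n189098 = n101583 := d10_1 D189098 (iv6 D101583) (iv4 F295482)
theorem F375741 : act 5 n189098 = n101851 := d12_1 D189098 F365271 (iv5 F220886) (iv6 F333060) (iv5 F333058)
theorem F375742 : act 0 n187629 = n189098 := d21_10 F375741 (iv1 D101851) (iv5 F295028) F367986 (iv1 D186783) D186785 F368007 F371046 (iv5 D187628) D187629
theorem F375743 : act 7 n188350 = n189098 := d15_2 (iv0 F371053) D188350 F375739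
def n189099 : Q := act 4 n93234
theorem D189099 : act 4 n93234 = n189099 := rfl
theorem F375744 : act 2 n189099 = n94136 := d1_1 D189099 F145092 F344290
theorem F375745 : act 3 n189099 = n159831 := d5_1 D189099 F294953 (iv3 F294952) (iv4 F295160) D93234
theorem F375746 : act 7 n189099 = n186817 := d11_2 (iv7 F344256) D189099 (iv4 D186817)
theorem F375747 : act 0 n189099 = n94249 := d20_1 D189099 F294789 (iv3 F294788) F157233 (iv3 D40621) (iv4 F66226) (iv1 F34358) F294660 D43624 (iv1 F295435)
theorem F375748 : act 0 n186279 = n189099 := d20_10 (iv4 D189099) F295434 F136907 (iv3 F136653) F144820 (iv3 F292998) (iv4 F143809) F293984 F152588 (iv3 F367043)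
def n189100 : Q := act 4 n93238
theorem D189100 : act 4 n93238 = n189100 := rfl
theorem F375749 : act 2 n189100 = n93242 := d1_1 D189100 (iv4 D93242) (iv2 F143812)
theorem F375750 : act 7 n189100 = n188311 := d11_2 (iv7 F143814) D189100 (iv4 D188311)
theorem F375751 : act 5 n189100 = n157872 := d17_5 D187584 F370894 (iv1 F140044) D93238 D189100 (iv0 F301267) F333851 (iv0 F370906) (iv4 D187586)
theorem F375752 : act 0 n189100 = n157867 := d17_0 (iv5 D157867) F327609 (iv5 F327615) (iv4 D91127) (iv5 D42673) D42671 D91121 F338445 D189100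
theorem F375753 : act 1 n189100 = n183042 := d18_6 (iv1 F134133) F295455 F295247 F295223 D93238 D189100 (iv4 D183042) F284619 F284617
def n189101 : Q := act 3 n93240
theorem D189101 : act 3 n93240 = n189101 := rfl
theorem F375754 : act 5 n189101 = n187582 := d6_2 (iv5 F338447) D189101 (iv3 D187582)
theorem F375755 : act 7 n189101 = n188244 := d8_2 (iv7 F338448) D189101 F372807
theorem F375756 : act 4 n189101 = n188176 := d20_6 F294576 (iv1 F294149) (iv4 F32748) (iv3 F68560) D93240 D189101 (iv1 D188176) (iv4 D91022) F66469 F293673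
theorem F375757 : act 1 n187615 = n189101 := d15_1 F371022 F375755 F372806
def n189102 : Q := act 6 n93241
theorem D189102 : act 6 n93241 = n189102 := rfl
theorem F375758 : act 2 n189102 = n188247 := d3_1 D189102 (iv6 D188247) F338429
theorem F375759 : act 7 n188352 = n189102 := d15_2 F372825 D188352 F375758
def n189103 : Q := act 0 n93242
theorem D189103 : act 0 n93242 = n189103 := rfl
theorem F375760 : act 5 n189103 = n157866 := d17_1 D189103 (iv1 F327611) (iv5 F372857) (iv4 D188254) (iv5 D91123) F139073 (iv5 F338447) (iv0 D93240) D93242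
theorem F375761 : act 4 n189103 = n183006 := d18_1 D189103 (iv1 F284618) (iv4 F284680) (iv5 F348604) (iv4 D164028) (iv0 F302618) F256391 (iv0 F301258) F301261
theorem F375762 : act 2 n157867 = n189103 := d15_3 (iv0 D189103) (iv0 F363991) (iv7 F248788)
theorem F375763 : act 1 n188311 = n189103 := d15_0 (iv0 D189103) F143821 (iv2 F373052)
theorem F375764 : act 7 n189103 = n183042 := d15_2 (iv0 F373055) F375763 (iv2 F363800)
def n189104 : Q := act 1 n93258
theorem D189104 : act 1 n93258 = n189104 := rfl
theorem F375765 : act 1 n189104 = n186816 := d15_1 D189104 F368117 F364230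
theorem F375766 : act 7 n189104 = n186824 := d15_2 (iv0 F294595) D189104 (iv2 F368145)
theorem F375767 : act 5 n189104 = n188248 := d17_7 (iv1 F135817) D102862 (iv1 F340449) (iv5 D94442) (iv4 F293698) D93258 D189104 F372828 F140194
theorem F375768 : act 2 n186823 = n189104 := d2_3 F375767 (iv2 D188248) (iv5 F368137)
def n189105 : Q := act 4 n93258
theorem D189105 : act 4 n93258 = n189105 := rfl
theorem F375769 : act 7 n189105 = n186825 := d11_2 F295040 D189105 (iv4 D186825)
theorem F375770 : act 0 n189105 = n99038 := d18_2 (iv1 D189104) D189105 (iv4 D99038) F292416 F67949 D88618 (iv4 F140198) F372829 (iv5 F375767)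
def n189106 : Q := act 3 n93261
theorem D189106 : act 3 n93261 = n189106 := rfl
theorem F375771 : act 5 n189106 = n98104 := d6_2 F295179 D189106 (iv3 D98104)
theorem F375772 : act 7 n189106 = n186826 := d8_2 F295204 D189106 (iv3 D186826)
def n189107 : Q := act 6 n93261
theorem D189107 : act 6 n93261 = n189107 := rfl
theorem F375773 : act 2 n189107 = n188295 := d3_1 D189107 (iv6 D188295) (iv2 F143842)
theorem F375774 : act 4 n189107 = n93262 := d10_1 D189107 (iv6 D93262) D93261
def n189108 : Q := act 0 n93281
theorem D189108 : act 0 n93281 = n189108 := rfl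
theorem F375775 : act 1 n183167 = n189108 := d15_0 (iv0 D189108) F143862 F356763
def n189109 : Q := act 1 n93281
theorem D189109 : act 1 n93281 = n189109 := rfl
theorem F375776 : act 6 n114283 = n189109 := d21_3 F186919 F106658 (iv5 F178129) (iv1 D189109) F356646 (iv5 D68701) D68699 (iv5 F338204) (iv6 D118859) D118856
theorem F375777 : act 3 n189109 = n114285 := d7_1 F375776 (iv6 D114285) D114283
theorem F375778 : act 7 n189109 = n188691 := d14_2 (iv7 F178130) F375776 F374808 F143359 (iv6 F154338)
theorem F375779 : act 2 n188691 = n189108 := d15_3 (iv0 D189108) D189109 F375778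
theorem F375780 : act 2 n189109 = n188690 := d15_3 (iv0 D188690) D188691 (iv7 F375778)
theorem F375781 : act 6 n188690 = n159395 := d3_2 F375776 F375780 F250987
theorem F375782 : act 7 n188690 = n189108 := d4_2 (iv7 F375778) F375780 (iv2 F375779)
theorem F375783 : act 1 n189109 = n183167 := d15_0 F375775 (iv7 F375782) (iv2 F375780)
theorem F375784 : act 6 n189108 = n188972 := d14_1 F375782 F375285 F154329 (iv7 F250984) (iv6 F375781)
theorem F375785 : act 6 n118770 = n187603 := d10_2 F375781 (iv4 F250988) (iv4 F374477)
def n189110 : Q := act 2 n93281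
theorem D189110 : act 2 n93281 = n189110 := rfl
theorem F375786 : act 4 n189110 = n93288 := d1_2 (iv4 F143861) D189110 (iv2 D93288)
theorem F375787 : act 5 n189110 = n146403 := d2_2 (iv5 F356645) D189110 F229725
theorem F375788 : act 6 n189110 = n146406 := d3_2 (iv6 F356646) D189110 F229734
theorem F375789 : act 7 n189110 = n183167 := d4_2 (iv7 F143862) D189110 (iv2 F356763)
theorem F375790 : act 1 n189110 = n188690 := d15_0 (iv0 D188690) (iv7 F143862) D189110
theorem F375791 : act 1 n188691 = n189110 := d15_0 F375790 F375782 (iv2 F375779)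
def n189111 : Q := act 0 n93282
theorem D189111 : act 0 n93282 = n189111 := rfl
theorem F375792 : act 5 n189111 = n143755 := d17_3 F320183 (iv5 F356648) D189111 (iv4 D143755) (iv5 F315706) F313932 (iv5 F322159) F322157 (iv4 F163394)
theorem F375793 : act 6 n189111 = n114325 := d21_5 (iv5 F134186) (iv1 F295236) F140224 D93282 D189111 F324164 (iv1 D66636) D66637 (iv6 F356652) F295235
theorem F375794 : act 3 n114327 = n189111 := d7_3 F375793 (iv3 D114325) D114327
def n189112 : Q := act 1 n93282
theorem D189112 : act 1 n93282 = n189112 := rfl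
theorem F375795 : act 5 n189112 = n142714 := d17_7 (iv1 F122584) (iv5 F206212) (iv1 D80543) F317999 (iv4 F102568) (iv5 F356648) D189112 F317994 (iv4 D166272)
theorem F375796 : act 3 n159464 = n189112 := d6_3 F375795 F317995 (iv5 F251103)
def n189113 : Q := act 3 n93283
theorem D189113 : act 3 n93283 = n189113 := rfl
def n189114 : Q := act 4 n93283
theorem D189114 : act 4 n93283 = n189114 := rfl
theorem F375797 : act 5 n189114 = n149287 := d18_4 (iv1 D189112) F143863 D93283 D189114 (iv4 D149287) (iv0 D70086) D70088 (iv0 F317993) (iv5 F375795)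
theorem F375798 : act 6 n142091 = n189114 := d12_0 F375797 F316531 F125653 F324176 D142091
theorem F375799 : act 0 n183129 = n189114 := d17_2 F320166 F358474 F375797 (iv4 D149287) (iv5 F201146) (iv0 D80542) F317999 D66640 D142116
def n189115 : Q := act 5 n93283
theorem D189115 : act 5 n93283 = n189115 := rfl
theorem F375800 : act 2 n189115 = n126877 := d2_1 D189115 (iv5 F345609) F352540
theorem F375801 : act 4 n189115 = n126888 := d16_4 D149287 (iv5 F375797) (iv4 D189114) D189115 F329421 F313049 F206212 (iv7 F234266) (iv2 F234264)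
theorem F375802 : act 6 n189115 = n126875 := d21_3 F143584 D93283 D189115 (iv1 F204119) (iv6 F373324) F336362 F354233 F172432 (iv6 F356744) F356741
theorem F375803 : act 1 n149281 = n189115 := d18_6 (iv1 F188818) F94716 F188409 D32521 D70084 D149281 F375801 (iv0 F336323) (iv5 F339302)
def n189116 : Q := act 6 n93283
theorem D189116 : act 6 n93283 = n189116 := rfl
theorem F375804 : act 2 n189116 = n188384 := d3_1 D189116 F373229 F352540
theorem F375805 : act 4 n189116 = n142091 := d10_1 D189116 F375798 (iv4 D189114)
theorem F375806 : act 5 n189116 = n141896 := d21_6 (iv5 D21905) F294330 D20638 D43637 D93283 D189116 F331066 (iv5 F295238) (iv6 D91175) F294767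
theorem F375807 : act 7 n188382 = n189116 := d13_0 F375806 (iv7 F331057) D188382
def n189117 : Q := act 4 n93284
theorem D189117 : act 4 n93284 = n189117 := rfl
theorem F375808 : act 5 n189117 = n149290 := d16_1 D189117 (iv4 D149290) (iv5 F206212) (iv4 F313049) (iv5 F329421) (iv4 F375801) (iv5 D189115) F352541 (iv2 F352539)
theorem F375809 : act 0 n189117 = n183129 := d18_2 (iv1 F295356) D189117 F284742 (iv5 F134919) (iv4 F336305) (iv0 D128116) D128118 F356742 F286691
def n189118 : Q := act 5 n93284
theorem D189118 : act 5 n93284 = n189118 := rfl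
theorem F375810 : act 3 n189118 = n116275 := d6_1 D189118 (iv5 F343813) (iv3 F352537)
theorem F375811 : act 4 n189118 = n126895 := d9_1 D189118 (iv5 F353100) F311948 F201146 D149287 (iv5 F375797) (iv4 D189114) D189115 F375801 F329421 F313049 F206212 D149290 (iv5 F375808) (iv4 D189117)
theorem F375812 : act 6 n189118 = n141286 := d12_2 F352536 D189118 (iv5 F365358) (iv6 D134766) D134765
theorem F375813 : act 7 n189118 = n126877 := d13_2 F352538 D189118 (iv5 F345609)
theorem F375814 : act 0 n149281 = n189118 := d21_10 (iv5 D189118) (iv1 D93284) (iv5 F143584) (iv6 D93099) (iv1 F294648) (iv6 F74381) (iv5 D47136) D47134 D101210 (iv6 F362980)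
def n189119 : Q := act 3 n93286
theorem D189119 : act 3 n93286 = n189119 := rfl
theorem F375815 : act 5 n189119 = n185631 := d6_2 (iv5 F295018) D189119 F287947
theorem F375816 : act 7 n189119 = n187601 := d8_2 F294822 D189119 F370986
def n189120 : Q := act 3 n93287
theorem D189120 : act 3 n93287 = n189120 := rfl
theorem F375817 : act 5 n189120 = n187469 := d6_2 (iv5 F295020) D189120 (iv3 D187469)
theorem F375818 : act 7 n189120 = n187608 := d8_2 F366978 D189120 F371006
theorem F375819 : act 0 n188259 = n189120 := d17_2 (iv1 F293985) (iv5 F372883) F375817 F370461 D188774 (iv0 F374840) (iv5 D93900) F157265 (iv4 F145261)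
def n189121 : Q := act 6 n93288
theorem D189121 : act 6 n93288 = n189121 := rfl
theorem F375820 : act 2 n189121 = n93289 := d3_1 D189121 (iv6 D93289) D93288
theorem F375821 : act 3 n189121 = n94102 := d7_1 D189121 (iv6 D94102) (iv3 F295021)
theorem F375822 : act 4 n189121 = n146406 := d10_1 D189121 (iv6 F375788) F375786
theorem F375823 : act 5 n189121 = n139107 := d12_1 D189121 F363418 (iv5 F334876) (iv6 D94100) (iv5 F295022)
theorem F375824 : act 6 n187622 = n139109 := d21_5 (iv5 D90393) (iv1 D42256) D42258 D90399 D187622 (iv5 D139109) D139107 (iv5 F375823) (iv6 D189121) (iv1 F366976)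
theorem F375825 : act 5 n139105 = n187622 := d12_5 F375824 (iv5 D139109) (iv6 D65292) D65291 D139105
def n189122 : Q := act 0 n93289
theorem D189122 : act 0 n93289 = n189122 := rfl
def n189123 : Q := act 1 n93289
theorem D189123 : act 1 n93289 = n189123 := rfl
theorem F375826 : act 6 n107942 = n189123 := d21_3 (iv5 D151502) F107939 D107942 (iv1 D189123) (iv6 D93289) F294373 F157260 D88801 (iv6 F309781) (iv1 F238359)
def n189124 : Q := act 7 n93289
theorem D189124 : act 7 n93289 = n189124 := rfl
theorem F375827 : act 3 n189124 = n93293 := d8_1 D189124 (iv7 D93293) (iv3 F143872)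
theorem F375828 : act 4 n189124 = n146578 := d11_1 D189124 (iv7 D146578) (iv4 F356649)
theorem F375829 : act 5 n189124 = n139108 := d13_1 D189124 F363442 (iv5 F295024)
theorem F375830 : act 6 n189124 = n188695 := d14_1 D189124 (iv7 D188695) (iv6 D92671) (iv7 F68571) D93289
def n189125 : Q := act 3 n93290
theorem D189125 : act 3 n93290 = n189125 := rfl
theorem F375831 : act 7 n189125 = n136818 := d8_2 (iv7 F295026) D189125 F365827
theorem F375832 : act 5 n109585 = n189125 := d13_3 F375831 (iv5 D136818) (iv7 F169550)
theorem F375833 : act 2 n189125 = n136820 := d2_1 F375832 (iv5 D136820) (iv2 F169549)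
theorem F375834 : act 1 n189125 = n136495 := d17_6 D30237 D64170 F169558 (iv5 D109586) D109585 F375832 (iv5 D136495) (iv0 D64163) F48629
def n189126 : Q := act 5 n93290
theorem D189126 : act 5 n93290 = n189126 := rfl
theorem F375835 : act 2 n189126 = n101852 := d2_1 D189126 (iv5 F295174) (iv2 F295025)
theorem F375836 : act 3 n189126 = n109585 := d6_1 D189126 F375832 (iv3 D189125)
theorem F375837 : act 7 n189126 = n99728 := d13_2 (iv7 F295026) D189126 (iv5 F295175)
theorem F375838 : act 0 n189126 = n101851 := d17_2 D93290 D189126 (iv5 F375741) F375740 F156492 (iv0 F366980) (iv5 D93297) (iv0 D43640) (iv4 F68572)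
theorem F375839 : act 6 n189126 = n101866 := d21_3 F294977 D93290 D189126 (iv1 F352822) F352815 (iv5 F352825) (iv1 F373155) F373153 (iv6 F371052) (iv1 D102015)
theorem F375840 : act 1 n189126 = n101850 := d15_1 (iv0 F375838) F368865 (iv2 F365270)
def n189127 : Q := act 6 n93290
theorem D189127 : act 6 n93290 = n189127 := rfl
theorem F375841 : act 5 n189127 = n186864 := d12_1 D189127 F368342 F359477 (iv6 F375839) (iv5 D189126)
theorem F375842 : act 7 n189127 = n186863 := d14_2 (iv7 F295026) D189127 F368339 F156366 (iv6 F295176)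
theorem F375843 : act 0 n189127 = n188238 := d21_1 (iv5 F375841) F372782 (iv6 D154363) D154358 F368362 F368352 (iv1 F159482) (iv5 F368494) (iv6 F373099) (iv1 F373100)
def n189128 : Q := act 3 n93291
theorem D189128 : act 3 n93291 = n189128 := rfl
theorem F375844 : act 5 n189128 = n101843 := d6_2 (iv5 F295028) D189128 F156802
theorem F375845 : act 6 n189128 = n175770 := d7_2 (iv6 F367986) D189128 (iv3 F367987)
theorem F375846 : act 1 n188220 = n189128 := d17_6 F347644 (iv5 D176092) (iv1 D84004) D84005 (iv4 F328319) (iv5 F372720) F375844 F345508 (iv4 F220079)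
def n189129 : Q := act 0 n93294
theorem D189129 : act 0 n93294 = n189129 := rfl
theorem F375847 : act 1 n93299 = n189129 := d15_0 (iv0 D189129) (iv7 F143876) (iv2 F143877)
def n189131 : Q := act 3 n93294
theorem D189131 : act 3 n93294 = n189131 := rfl
theorem F375849 : act 7 n189131 = n93300 := d8_2 F143876 D189131 (iv3 D93300)
def n189132 : Q := act 5 n93294
theorem D189132 : act 5 n93294 = n189132 := rfl
theorem F375850 : act 2 n189132 = n93297 := d2_1 D189132 (iv5 D93297) D93294
theorem F375851 : act 7 n189132 = n93302 := d13_2 F143876 D189132 (iv5 D93302)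
def n189133 : Q := act 6 n93294
theorem D189133 : act 6 n93294 = n189133 := rfl
theorem F375852 : act 2 n189133 = n93298 := d3_1 D189133 (iv6 D93298) D93294
def n189134 : Q := act 0 n93295
theorem D189134 : act 0 n93295 = n189134 := rfl
def n189135 : Q := act 2 n93295
theorem D189135 : act 2 n93295 = n189135 := rfl
theorem F375853 : act 5 n189135 = n139283 := d2_2 (iv5 F372456) D189135 F222478
theorem F375854 : act 0 n186771 = n189135 := d21_7 D133981 (iv1 F222491) F357488 F357497 F329811 (iv6 F221531) (iv5 F367958) F375853 (iv6 D139283) (iv1 F101070)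
def n189136 : Q := act 4 n93295
theorem D189136 : act 4 n93295 = n189136 := rfl
def n189137 : Q := act 6 n93295
theorem D189137 : act 6 n93295 = n189137 := rfl
theorem F375855 : act 3 n189137 = n93298 := d7_1 D189137 (iv6 D93298) D93295
def n189138 : Q := act 7 n93295
theorem D189138 : act 7 n93295 = n189138 := rfl
theorem F375856 : act 3 n189138 = n93299 := d8_1 D189138 (iv7 D93299) D93295
theorem F375857 : act 1 n186771 = n189138 := d15_1 (iv0 F375854) (iv7 D189138) D189135
def n189139 : Q := act 3 n93296
theorem D189139 : act 3 n93296 = n189139 := rfl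
def n189140 : Q := act 5 n93296
theorem D189140 : act 5 n93296 = n189140 := rfl
def n189141 : Q := act 6 n93296
theorem D189141 : act 6 n93296 = n189141 := rfl
theorem F375858 : act 4 n189141 = n93298 := d10_1 D189141 (iv6 D93298) D93296
theorem F375859 : act 5 n189141 = n146802 := d21_6 (iv5 D20616) F293137 D22151 D46323 (iv1 F368002) D189141 (iv1 D146802) (iv5 F346311) (iv6 D46328) (iv1 F294149)
def n189142 : Q := act 1 n93297
theorem D189142 : act 1 n93297 = n189142 := rfl
theorem F375860 : act 1 n189142 = n93302 := d15_1 D189142 (iv7 F375851) F375850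
theorem F375861 : act 4 n141826 = n189142 := d18_7 (iv1 D43641) (iv4 F68572) D93290 (iv4 F359435) F350403 F171789 D141826 F375860 (iv5 D93302)
def n189143 : Q := act 4 n93297
theorem D189143 : act 4 n93297 = n189143 := rfl
def n189144 : Q := act 7 n93297
theorem D189144 : act 7 n93297 = n189144 := rfl
theorem F375862 : act 2 n189144 = n93302 := d4_1 D189144 (iv7 F375851) F375850
theorem F375863 : act 5 n189144 = n93299 := d13_1 D189144 (iv7 D93299) D93297
def n189145 : Q := act 0 n93298
theorem D189145 : act 0 n93298 = n189145 := rfl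
def n189146 : Q := act 7 n93298
theorem D189146 : act 7 n93298 = n189146 := rfl
def n189147 : Q := act 6 n93299
theorem D189147 : act 6 n93299 = n189147 := rfl
theorem F375864 : act 2 n189147 = n93303 := d3_1 D189147 (iv6 D93303) (iv2 F143877)
theorem F375865 : act 4 n189147 = n98949 := d10_1 D189147 F367532 F368005
theorem F375866 : act 1 n101561 = n189147 := d17_8 (iv1 D98949) (iv5 D46295) (iv1 F91585) D85842 (iv4 F295402) F332695 D135296 (iv5 F352564) F375865
theorem F375867 : act 0 n101572 = n189147 := d18_2 (iv1 F156417) D101572 F375865 F338820 F273614 F128621 (iv4 F317060) (iv0 F319335) (iv5 F156361)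
def n189148 : Q := act 0 n93300
theorem D189148 : act 0 n93300 = n189148 := rfl
def n189149 : Q := act 1 n93300
theorem D189149 : act 1 n93300 = n189149 := rfl
def n189150 : Q := act 2 n93300
theorem D189150 : act 2 n93300 = n189150 := rfl
def n189151 : Q := act 4 n93300
theorem D189151 : act 4 n93300 = n189151 := rfl
def n189152 : Q := act 5 n93300
theorem D189152 : act 5 n93300 = n189152 := rfl
theorem F375868 : act 3 n189152 = n93302 := d6_1 D189152 (iv5 D93302) D93300
def n189153 : Q := act 6 n93300
theorem D189153 : act 6 n93300 = n189153 := rfl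
theorem F375869 : act 3 n189153 = n93303 := d7_1 D189153 (iv6 D93303) D93300
def n189154 : Q := act 5 n93301
theorem D189154 : act 5 n93301 = n189154 := rfl
theorem F375870 : act 6 n189154 = n98501 := d12_2 (iv6 F367997) D189154 F338818 (iv6 F301811) F286903
theorem F375871 : act 4 n101870 = n189154 := d10_3 F375870 F156575 D101870
def n189155 : Q := act 4 n93302
theorem D189155 : act 4 n93302 = n189155 := rfl
def n189156 : Q := act 5 n93303
theorem D189156 : act 5 n93303 = n189156 := rfl
theorem F375872 : act 0 n189156 = n128716 := d17_2 F368011 D189156 (iv5 F333058) F295482 (iv5 F74505) D100934 (iv5 F367983) F367981 D186786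
theorem F375873 : act 1 n189156 = n128711 := d17_6 D46302 D98976 (iv1 F154042) F286903 (iv4 F367992) D189156 (iv5 F333049) (iv0 D93220) F295367
theorem F375874 : act 3 n130732 = n189156 := d19_19 F375872 (iv5 F333058) F295482 D101582 F320823 (iv5 D107904) (iv4 D49839) (iv3 F54261) (iv1 D29719) (iv5 D14113) F10936 (iv3 D6597) F4892 D3418 D7484 D15997 D33172 (iv5 F211937) D130732
theorem F375875 : act 5 n189153 = n130732 := d6_0 F375874 (iv5 D189156) (iv3 F375869)
theorem E103333 : n189148 = n188261 := (c21_5 F217536 F217158 (iv5 F375875) (iv6 D189153) D189148 (iv6 D188261) F357623 (iv1 F140048) (iv5 F140246) F339514 (iv1 F217535))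
theorem F375876 : act 1 n188261 = n93300 := (sb E103333 (iv0 D189148))
def n189157 : Q := act 5 n93304
theorem D189157 : act 5 n93304 = n189157 := rfl
theorem F375877 : act 2 n189157 = n102016 := d2_1 D189157 (iv5 F295030) (iv2 F143878)
theorem F375878 : act 6 n189157 = n101831 := d12_2 D93304 D189157 F346652 (iv6 F346650) F143588
theorem F375879 : act 7 n189157 = n93307 := d13_2 (iv7 F143880) D189157 (iv5 D93307)
theorem F375880 : act 0 n189157 = n102015 := d21_1 D189157 (iv5 F366997) (iv6 D91227) (iv1 F139112) (iv6 F140261) (iv5 F373098) (iv1 F373100) (iv5 F375841) (iv6 D189127) (iv1 F143882)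
theorem F375881 : act 0 n102014 = n189157 := d21_10 (iv5 D189157) (iv1 F143881) F295028 (iv6 D47332) (iv1 F73576) D99738 (iv5 F274880) (iv1 F274882) (iv5 F359415) (iv6 F359416)
def n189158 : Q := act 3 n93305
theorem D189158 : act 3 n93305 = n189158 := rfl
theorem F375882 : act 7 n189158 = n189128 := d8_2 F295029 D189158 (iv3 D189128)
def n189159 : Q := act 6 n93305
theorem D189159 : act 6 n93305 = n189159 := rfl
theorem F375883 : act 2 n189159 = n189127 := d3_1 D189159 (iv6 D189127) F295025
theorem F375884 : act 5 n189159 = n188334 := d21_6 F31981 F31949 (iv5 F32760) D43643 D93305 D189159 (iv1 D188334) (iv5 D91221) (iv6 D42703) F31984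
def n189160 : Q := act 0 n93307
theorem D189160 : act 0 n93307 = n189160 := rfl
theorem F375885 : act 2 n102014 = n189160 := d15_3 (iv0 D189160) (iv0 F352853) F359418
theorem F375886 : act 1 n102016 = n189160 := d15_0 (iv0 D189160) (iv7 F375879) F375877
theorem F375887 : act 7 n189160 = n102015 := d15_2 F359431 F375886 (iv2 F371050)
theorem F375888 : act 5 n188351 = n189160 := d13_3 F375887 (iv5 F366997) D188351
theorem F375889 : act 6 n103354 = n189160 := d14_5 F375887 F371052 F218563 D136519 F352869
theorem F375890 : act 4 n189160 = n103355 := d10_1 F375889 (iv6 D103355) D103354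
theorem F375891 : act 0 n189098 = n188351 := d21_1 (iv5 F375741) F375888 (iv6 F375889) (iv1 F352871) F352874 (iv5 F368287) (iv1 F368291) F359477 (iv6 F375839) F375838
def n189161 : Q := act 4 n93307
theorem D189161 : act 4 n93307 = n189161 := rfl
theorem F375892 : act 2 n189161 = n102013 := d1_1 D189161 F156968 F294976
theorem F375893 : act 6 n189161 = n93314 := d10_2 (iv6 F143886) D189161 (iv4 D93314)
def n189162 : Q := act 3 n93314
theorem D189162 : act 3 n93314 = n189162 := rfl
theorem F375894 : act 5 n189162 = n186912 := d6_2 (iv5 F294830) D189162 (iv3 D186912)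
theorem F375895 : act 7 n189162 = n102017 := d8_2 (iv7 F294831) D189162 (iv3 D102017)
def n189163 : Q := act 4 n93321
theorem D189163 : act 4 n93321 = n189163 := rfl
theorem F375896 : act 6 n189163 = n145328 := d10_2 (iv6 F362367) D189163 F228374
theorem F375897 : act 7 n189163 = n101059 := d11_2 (iv7 F143905) D189163 (iv4 D101059)
theorem F375898 : act 0 n189163 = n127983 := d18_2 F364423 D189163 (iv4 F323743) (iv5 F357582) F357581 F343883 (iv4 F294029) (iv0 F343894) F364422
theorem F375899 : act 3 n145330 = n189163 := d7_3 F375896 (iv3 D145328) D145330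
theorem F375900 : act 0 n110984 = n145330 := d20_4 F78219 (iv1 F45371) (iv4 F111189) D110984 F375899 (iv4 D189163) (iv1 F328892) F222526 (iv3 D107463) F111358
def n189164 : Q := act 3 n93322
theorem D189164 : act 3 n93322 = n189164 := rfl
theorem F375901 : act 2 n189164 = n103279 := d0_1 D189164 F365290 (iv2 F100121) F331268 (iv2 F143906)
theorem F375902 : act 4 n189164 = n145330 := d5_2 D93322 D189164 F375899 (iv4 D189163) F143904
theorem F375903 : act 5 n189164 = n103275 := d6_2 (iv5 F294120) D189164 (iv3 D103275)
theorem F375904 : act 7 n189164 = n103278 := d8_2 (iv7 F143907) D189164 F365288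
theorem F375905 : act 0 n189164 = n103280 := d20_10 (iv4 F159249) (iv1 F349907) F241258 (iv3 D74031) (iv1 D33976) D33977 (iv4 F328505) (iv1 F68587) D93322 D189164
theorem F375906 : act 0 n103282 = n189164 := d20_4 F293990 (iv1 F75041) (iv4 F75131) (iv3 F158509) (iv3 D189164) (iv4 D93322) (iv1 F68586) D87922 (iv3 F329370) F329892
theorem F375907 : act 1 n103282 = n155912 := d15_1 (iv0 F375906) (iv7 F365289) (iv2 F375901)
theorem F375908 : act 1 n155912 = n103280 := d15_0 (iv0 F375905) F375904 F365287
theorem F375909 : act 0 n128240 = n155831 := d21_4 (iv5 F368279) (iv1 D186853) D186854 F368282 (iv6 D155831) (iv5 F349917) (iv1 F375908) F365294 (iv6 D101823) (iv1 F156633)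
theorem F375910 : act 6 n145329 = n189164 := d21_5 F127806 (iv1 F59019) D38426 D83418 (iv1 F343456) F375903 F353019 (iv5 D174564) (iv6 D83422) (iv1 F127813)
def n189165 : Q := act 6 n93322
theorem D189165 : act 6 n93322 = n189165 := rfl
theorem F375911 : act 2 n189165 = n184361 := d3_1 D189165 (iv6 D184361) (iv2 F143906)
theorem F375912 : act 3 n189165 = n145329 := d7_1 D189165 F375910 (iv3 D189164)
theorem F375913 : act 4 n189165 = n93323 := d10_1 D189165 (iv6 D93323) D93322
theorem F375914 : act 0 n189165 = n136706 := d21_4 D93351 (iv1 F293111) (iv5 F294120) D189165 F352356 (iv5 D73342) (iv1 F109788) D154608 F353764 (iv1 D93349)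
theorem F375915 : act 0 n174443 = n189165 := d21_4 F273268 (iv1 F128484) D83381 D174443 (iv6 D189165) F294120 (iv1 D47855) D47857 F358742 (iv1 F273271)
def n189166 : Q := act 1 n93328
theorem D189166 : act 1 n93328 = n189166 := rfl
theorem F375916 : act 1 n189166 = n99328 := d15_1 D189166 F152955 (iv2 F143921)
theorem F375917 : act 7 n189166 = n100234 := d15_2 F352991 D189166 (iv2 F352992)
theorem F375918 : act 5 n183170 = n189166 := d21_0 (iv1 D189166) (iv5 D93328) F293501 (iv1 F293499) (iv6 D46573) F334883 D67126 (iv5 F334878) (iv6 F292709) F292705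
theorem F375919 : act 2 n189166 = n100235 := d2_1 F375918 (iv5 F292928) F292927
def n189167 : Q := act 4 n93328
theorem D189167 : act 4 n93328 = n189167 := rfl
theorem F375920 : act 2 n189167 = n100236 := d1_1 D189167 (iv4 D100236) (iv2 F143921)
theorem F375921 : act 7 n189167 = n184364 := d11_2 (iv7 F143923) D189167 (iv4 D184364)
def n189168 : Q := act 6 n93328
theorem D189168 : act 6 n93328 = n189168 := rfl
theorem F375922 : act 2 n189168 = n100237 := d3_1 D189168 (iv6 D100237) (iv2 F143921)
theorem F375923 : act 3 n189168 = n93331 := d7_1 D189168 (iv6 D93331) (iv3 F143922)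
theorem F375924 : act 5 n189168 = n143074 := d12_1 D189168 F352440 (iv5 D87055) (iv6 F293501) D93328
theorem F375925 : act 4 n143141 = n189168 := d16_2 F103126 (iv5 F226001) F375924 (iv4 D143074) (iv5 D67049) (iv4 F102542) (iv5 F320903) (iv7 F318767) F320910
theorem F375926 : act 6 n189167 = n143141 := d10_0 F375925 (iv6 D189168) D189167
def n189169 : Q := act 3 n93330
theorem D189169 : act 3 n93330 = n189169 := rfl
theorem F375927 : act 2 n189169 = n148669 := d0_1 D189169 (iv3 D148669) (iv2 F353026) (iv3 F329961) (iv2 F143927)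
theorem F375928 : act 5 n189169 = n103282 := d6_2 (iv5 F293998) D189169 F158509
theorem F375929 : act 7 n189169 = n103281 := d8_2 (iv7 F293999) D189169 F158508
theorem F375930 : act 0 n189169 = n155827 := d20_4 (iv4 D93435) (iv1 F68682) D93330 D189169 (iv3 F365595) (iv4 D103056) (iv1 F294026) (iv4 F294885) F328602 F329790
theorem F375931 : act 0 n155807 = n189169 := d20_4 (iv4 F175797) (iv1 F169298) (iv4 F321636) D155807 (iv3 D189169) (iv4 D93330) (iv1 F68683) D93437 F335389 D107694
theorem F375932 : act 6 n137304 = n189169 := d21_5 F139279 F139278 (iv5 D64534) D64535 D137304 F375928 F375906 F375903 F331265 (iv1 F100384)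
def n189170 : Q := act 6 n93330
theorem D189170 : act 6 n93330 = n189170 := rfl
theorem F375933 : act 2 n189170 = n93352 := d3_1 D189170 (iv6 D93352) (iv2 F143927)
theorem F375934 : act 3 n189170 = n137304 := d7_1 D189170 F375932 (iv3 D189169)
theorem F375935 : act 4 n189170 = n93331 := d10_1 D189170 (iv6 D93331) D93330
def n189171 : Q := act 1 n93331
theorem D189171 : act 1 n93331 = n189171 := rfl
theorem F375936 : act 1 n189171 = n93356 := d15_1 D189171 (iv7 D93356) (iv2 F143929)
theorem F375937 : act 7 n189171 = n93353 := d15_2 (iv0 F365360) D189171 (iv2 F360200)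
theorem F375938 : act 5 n182778 = n189171 := d21_0 (iv1 D189171) F294442 (iv6 D87056) (iv1 F61657) (iv6 F294439) (iv5 D41135) (iv1 F302512) (iv5 F109592) D154237 F367095
theorem F375939 : act 2 n93354 = n189171 := d4_3 F375937 (iv2 F360200) (iv7 F360199)
theorem F375940 : act 6 n189171 = n110855 := d3_2 (iv6 F360198) F375939 (iv2 D110855)
def n189172 : Q := act 7 n93331
theorem D189172 : act 7 n93331 = n189172 := rfl
theorem F375941 : act 2 n189172 = n93356 := d4_1 D189172 (iv7 D93356) (iv2 F143929)
theorem F375942 : act 5 n189172 = n182327 := d13_1 D189172 (iv7 D182327) (iv5 F294442)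
theorem F375943 : act 6 n189172 = n184370 := d14_1 D189172 (iv7 D184370) (iv6 D87933) (iv7 F68597) D93331
theorem F375944 : act 1 n93354 = n189172 := d15_1 D93354 (iv7 D189172) F143929
theorem F375945 : act 1 n189172 = n93353 := d15_1 F375944 (iv7 F375937) (iv2 F375939)
def n189173 : Q := act 5 n93335
theorem D189173 : act 5 n93335 = n189173 := rfl
theorem F375946 : act 2 n189173 = n101200 := d2_1 D189173 (iv5 D101200) F155689
theorem F375947 : act 3 n189173 = n99431 := d6_1 D189173 (iv5 D99431) F153157
theorem F375948 : act 7 n189173 = n101197 := d13_2 (iv7 F155690) D189173 (iv5 D101197)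
theorem F375949 : act 0 n93342 = n189173 := d19_0 (iv5 D189173) F235260 (iv3 F235261) (iv1 F177335) D159824 F361036 (iv3 F362664) (iv1 F155707) F74348 (iv4 F68581) (iv3 D43651) (iv1 F62547) D41019 (iv4 F329792) (iv3 F328602) (iv1 F158470) F329903 (iv4 F329902) D93342
def n189174 : Q := act 0 n93338
theorem D189174 : act 0 n93338 = n189174 := rfl
theorem F375950 : act 5 n189174 = n186819 := d21_2 D93338 D189174 (iv6 D186819) F295038 (iv6 F294657) F328109 D135039 F361056 (iv6 F361053) (iv1 D93336)
theorem F375951 : act 2 n101203 = n189174 := d15_3 (iv0 D189174) (iv0 F339912) F339897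
theorem F375952 : act 1 n101190 = n189174 := d15_0 (iv0 D189174) F143953 (iv2 F155899)
theorem F375953 : act 7 n189174 = n101202 := d15_2 F339913 F375952 (iv2 F363687)
theorem F375954 : act 3 n99434 = n189174 := d8_3 F375953 F363688 (iv7 F344244)
def n189175 : Q := act 4 n93338
theorem D189175 : act 4 n93338 = n189175 := rfl
theorem F375955 : act 6 n189175 = n141723 := d10_2 (iv6 F354435) D189175 (iv4 F330570)
theorem F375956 : act 7 n189175 = n101204 := d11_2 (iv7 F143953) D189175 (iv4 D101204)
def n189176 : Q := act 1 n93347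
theorem D189176 : act 1 n93347 = n189176 := rfl
theorem F375957 : act 1 n189176 = n185203 := d15_1 D189176 (iv7 D185203) (iv2 F143966)
theorem F375958 : act 7 n189176 = n147848 := d15_2 F353744 D189176 (iv2 F353740)
theorem F375959 : act 5 n189176 = n153864 := d17_7 (iv1 F109256) (iv5 F191887) F237040 (iv5 F109640) F337934 (iv5 F143967) D189176 F241756 F109657
theorem F375960 : act 4 n189176 = n147408 := d17_9 F242705 (iv5 D154608) (iv1 D73288) D73290 (iv4 F231519) (iv5 F231520) F337931 (iv5 F143967) D189176
theorem F375961 : act 2 n147816 = n189176 := d1_3 F375960 F231140 D147816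
theorem F375962 : act 6 n166218 = n189176 := d10_0 F375960 F340235 D166218
def n189177 : Q := act 6 n93348
theorem D189177 : act 6 n93348 = n189177 := rfl
theorem F375963 : act 2 n189177 = n179221 := d3_1 D189177 F338754 (iv2 F144136)
theorem F375964 : act 3 n189177 = n179252 := d7_1 D189177 (iv6 F365297) (iv3 F347869)
theorem F375965 : act 4 n189177 = n103338 := d10_1 D189177 (iv6 D103338) (iv4 F294126)
theorem F375966 : act 5 n189177 = n128215 := d12_1 D189177 (iv6 D128215) (iv5 F347138) (iv6 D103360) (iv5 F294127)
theorem F375967 : act 0 n125088 = n189177 := d21_1 F353925 F375966 (iv6 D128215) (iv1 D60274) (iv6 D28640) (iv5 D13655) D13653 D28633 D60255 D128172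
def n189178 : Q := act 6 n93351
theorem D189178 : act 6 n93351 = n189178 := rfl
theorem F375968 : act 2 n189178 = n103286 := d3_1 D189178 (iv6 D103286) F293012
theorem F375969 : act 3 n189178 = n110432 := d7_1 D189178 F359976 (iv3 F329972)
theorem F375970 : act 4 n189178 = n103053 := d10_1 D189178 (iv6 D103053) (iv4 F291976)
def n189179 : Q := act 0 n93352
theorem D189179 : act 0 n93352 = n189179 := rfl
theorem F375971 : act 6 n189179 = n166217 := d21_5 F294119 F293110 (iv5 D93351) D93352 D189179 F261707 F239788 (iv5 F241912) F343442 (iv1 D87925)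
def n189180 : Q := act 1 n93352
theorem D189180 : act 1 n93352 = n189180 := rfl
def n189181 : Q := act 5 n93352
theorem D189181 : act 5 n93352 = n189181 := rfl
theorem F375972 : act 3 n189181 = n110352 := d6_1 D189181 F350824 (iv3 F329973)
theorem F375973 : act 7 n189181 = n163846 := d13_2 (iv7 F358755) D189181 F358757
theorem F375974 : act 4 n189181 = n113200 := d18_5 F348159 (iv4 F360197) (iv1 D93354) (iv4 F143975) D189181 F202011 F329024 (iv0 F329023) D180476
theorem F375975 : act 7 n113200 = n125582 := d11_2 (iv7 F375973) F375974 F363243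
theorem F375976 : act 0 n164128 = n189181 := d20_10 F375974 (iv1 D113200) (iv4 F168774) (iv3 D108819) F79611 D52028 F82214 D111826 F351016 (iv3 F258681)
theorem F375977 : act 2 n125582 = n113199 := d15_3 (iv0 D113199) D113200 F375975
theorem F375978 : act 2 n113200 = n125581 := d15_3 (iv0 D125581) D125582 (iv7 F375975)
theorem F375979 : act 7 n125581 = n113199 := d4_2 (iv7 F375975) F375978 (iv2 F375977)
def n189182 : Q := act 5 n93353
theorem D189182 : act 5 n93353 = n189182 := rfl
theorem F375980 : act 2 n189182 = n134766 := d2_1 D189182 F365358 F360200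
theorem F375981 : act 3 n189182 = n134944 := d6_1 D189182 F360203 F354215
theorem F375982 : act 7 n189182 = n182778 := d13_2 F375937 D189182 F375938
theorem F375983 : act 6 n189182 = n134764 := d21_3 (iv5 F294771) D93353 D189182 (iv1 F216832) D134905 F349662 (iv1 F223847) F360192 (iv6 D182526) (iv1 D87132)
theorem F375984 : act 1 n134127 = n182778 := d15_1 (iv0 F352550) (iv7 F375982) F375980
def n189183 : Q := act 6 n93353
theorem D189183 : act 6 n93353 = n189183 := rfl
theorem F375985 : act 2 n189183 = n189118 := d3_1 D189183 F375812 F360200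
theorem F375986 : act 4 n189183 = n119526 := d10_1 D189183 F360177 (iv4 F354214)
theorem F375987 : act 7 n189183 = n189115 := d14_2 F375937 D189183 F375802 F204116 (iv6 F375940)
theorem F375988 : act 5 n189183 = n183175 := d21_6 (iv5 D19348) (iv1 F62728) D20660 D43665 D93353 D189183 (iv1 D183175) (iv5 F135059) (iv6 D88067) (iv1 D41124)
theorem F375989 : act 0 n184665 = n189183 := d17_0 F375988 (iv1 D183175) (iv5 F135059) (iv4 F343441) F241912 (iv0 F239788) (iv5 F261707) F261706 F343435
theorem F375990 : act 1 n166218 = n189183 := d15_1 F362981 F375987 F375800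
def n189184 : Q := act 5 n93354
theorem D189184 : act 5 n93354 = n189184 := rfl
theorem F375991 : act 2 n189184 = n182778 := d2_1 D189184 F375938 (iv2 F375939)
theorem F375992 : act 3 n189184 = n110859 := d6_1 D189184 (iv5 D110859) (iv3 F360196)
theorem F375993 : act 7 n189184 = n134766 := d13_2 (iv7 F360199) D189184 F365358
theorem F375994 : act 6 n189184 = n134915 := d21_3 (iv5 F375942) (iv1 F375944) D189184 F332741 F295050 F358590 (iv1 D154407) D154409 F358596 (iv1 F283862)
def n189185 : Q := act 2 n93434
theorem D189185 : act 2 n93434 = n189185 := rfl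
theorem F375995 : act 3 n189185 = n111166 := d0_2 D93434 D189185 (iv2 F335380) (iv3 D93345) (iv2 F69143)
theorem F375996 : act 7 n189185 = n111163 := d4_2 (iv7 F144120) D189185 F359968
theorem F375997 : act 1 n189185 = n189173 := d15_0 (iv0 F375949) (iv7 F144120) D189185
theorem F375998 : act 1 n150779 = n189185 := d15_0 F375997 F375948 (iv2 F349189)
def n189186 : Q := act 4 n93434
theorem D189186 : act 4 n93434 = n189186 := rfl
theorem F375999 : act 7 n189186 = n156222 := d11_2 (iv7 F144120) D189186 (iv4 F359967)
theorem F376000 : act 0 n189186 = n100149 := d18_2 (iv1 F349149) D189186 (iv4 D100149) (iv5 D46744) F65950 (iv0 F68092) F68091 D47131 D101200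
def n189187 : Q := act 3 n93435
theorem D189187 : act 3 n93435 = n189187 := rfl
theorem F376001 : act 5 n189187 = n188015 := d6_2 (iv5 F336625) D189187 (iv3 D188015)
theorem F376002 : act 7 n189187 = n155701 := d8_2 (iv7 F329897) D189187 (iv3 D155701)
theorem F376003 : act 0 n189187 = n110374 := d20_10 (iv4 F179771) F354573 F188675 F87427 (iv1 F106023) (iv3 F353037) (iv4 D43700) D43698 D93435 D189187
theorem F376004 : act 1 n189187 = n159433 := d15_1 (iv0 F376003) F349890 F175488
def n189188 : Q := act 3 n93439
theorem D189188 : act 3 n93439 = n189188 := rfl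
theorem F376005 : act 2 n189188 = n174562 := d0_1 D189188 (iv3 F353016) F325771 (iv3 F336637) F144138
theorem F376006 : act 5 n189188 = n155827 := d6_2 F336626 D189188 (iv3 F365595)
theorem F376007 : act 7 n189188 = n174563 := d8_2 (iv7 F144139) D189188 (iv3 F347869)
theorem F376008 : act 0 n189188 = n155867 := d20_4 F329672 (iv1 F294031) F294032 D189188 (iv3 D155867) (iv4 F347895) F359959 F359960 (iv3 D155701) (iv1 D74067)
theorem F376009 : act 0 n173303 = n189188 := d20_4 (iv4 D90727) F65627 D89924 (iv3 F343451) (iv3 D189188) (iv4 F294032) F294030 D104143 F329732 (iv1 F328598)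
theorem F376010 : act 1 n173303 = n155783 := d15_1 (iv0 F376009) (iv7 F353020) (iv2 F376005)
theorem F376011 : act 1 n155783 = n155867 := d15_1 F376010 F347891 (iv2 F271709)
def n189189 : Q := act 5 n93443
theorem D189189 : act 5 n93443 = n189189 := rfl
theorem F376012 : act 2 n189189 = n174449 := d2_1 D189189 (iv5 D174449) F358740
theorem F376013 : act 3 n189189 = n178514 := d6_1 D189189 (iv5 D178514) (iv3 F358738)
theorem F376014 : act 7 n189189 = n174454 := d13_2 (iv7 F358739) D189189 (iv5 D174454)
theorem F376015 : act 1 n167590 = n189189 := d15_1 (iv0 F347334) F376014 (iv2 F273323)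
def n189190 : Q := act 3 n93444
theorem D189190 : act 3 n93444 = n189190 := rfl
def n189191 : Q := act 4 n93444
theorem D189191 : act 4 n93444 = n189191 := rfl
theorem F376016 : act 2 n189191 = n155706 := d1_1 D189191 F358749 F358792
theorem F376017 : act 7 n189191 = n155707 := d11_2 F358793 D189191 F358754
theorem F376018 : act 1 n155709 = n189191 := d15_1 (iv0 F358767) F376017 F358470
theorem F376019 : act 6 n163004 = n189191 := d21_3 (iv5 D162821) (iv1 F193077) F362183 (iv1 F376018) F358790 (iv5 D180476) F329023 D163508 (iv6 F334026) F333976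
theorem F376020 : act 0 n155705 = n189191 := d21_4 (iv5 F329041) (iv1 F329893) (iv5 F110816) D155705 (iv6 F376019) (iv5 F362183) (iv1 D121063) F313860 (iv6 D74036) D74033
def n189192 : Q := act 5 n93444
theorem D189192 : act 5 n93444 = n189192 := rfl
theorem F376021 : act 7 n189192 = n182131 := d13_2 F358793 D189192 F286295
theorem F376022 : act 4 n189192 = n154326 := d16_2 (iv4 D189191) D189192 (iv5 F242414) (iv4 F347343) (iv5 D172783) (iv4 F127909) D173416 F354058 (iv2 F376016)
theorem F376023 : act 0 n189192 = n153650 := d18_0 (iv4 D153650) D153648 F358779 F358776 (iv4 D174399) D174398 F358748 F286299 D189192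
def n189193 : Q := act 6 n93444
theorem D189193 : act 6 n93444 = n189193 := rfl
theorem F376024 : act 2 n189193 = n139300 := d3_1 D189193 (iv6 F358751) F358792
theorem F376025 : act 4 n189193 = n163004 := d10_1 D189193 F376019 (iv4 D189191)
theorem F376026 : act 7 n189193 = n154149 := d14_2 F358793 D189193 (iv6 D154149) (iv7 F198073) (iv6 F358761)
def n189194 : Q := act 5 n93445
theorem D189194 : act 5 n93445 = n189194 := rfl
theorem F376027 : act 2 n189194 = n182131 := d2_1 D189194 F286295 (iv2 F358762)
theorem F376028 : act 3 n189194 = n177486 := d6_1 D189194 (iv5 D177486) (iv3 F358763)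
theorem F376029 : act 6 n189194 = n154142 := d12_2 (iv6 F358765) D189194 (iv5 D154142) (iv6 D73001) D73000
theorem F376030 : act 0 n153650 = n189194 := d21_10 (iv5 D189194) (iv1 D93445) D93446 F144145 (iv1 F133345) (iv6 F345155) F345154 (iv1 F373369) (iv5 D153678) (iv6 F241525)
def n189195 : Q := act 0 n93446
theorem D189195 : act 0 n93446 = n189195 := rfl
def n189196 : Q := act 1 n93446
theorem D189196 : act 1 n93446 = n189196 := rfl
theorem F376031 : act 5 n139424 = n189196 := d21_6 (iv5 F134198) (iv1 D87435) F66321 D88067 D184690 F362976 (iv1 D189196) (iv5 D93446) (iv6 D43701) D43698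
theorem F376032 : act 3 n189196 = n139425 := d6_1 F376031 (iv5 D139425) D139424
theorem F376033 : act 0 n174436 = n139424 := d21_10 F376031 (iv1 D189196) (iv5 D93446) (iv6 D43701) D43698 (iv6 F135182) (iv5 D88257) D88255 D185194 (iv6 F354166)
def n189197 : Q := act 4 n93446
theorem D189197 : act 4 n93446 = n189197 := rfl
theorem F376034 : act 6 n189197 = n93448 := d10_2 (iv6 F144145) D189197 (iv4 D93448)
def n189198 : Q := act 7 n93446
theorem D189198 : act 7 n93446 = n189198 := rfl
theorem F376035 : act 5 n189198 = n93447 := d13_1 D189198 (iv7 D93447) D93446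
def n189199 : Q := act 3 n93448
theorem D189199 : act 3 n93448 = n189199 := rfl
theorem F376036 : act 5 n189199 = n185059 := d6_2 (iv5 F144147) D189199 (iv3 D185059)
def n189200 : Q := act 0 n93521
theorem D189200 : act 0 n93521 = n189200 := rfl
theorem F376037 : act 5 n189200 = n103235 := d17_1 D189200 (iv1 F372085) (iv5 D188010) F139634 D90747 F370829 F372401 (iv0 D188129) F292051
theorem F376038 : act 4 n189200 = n188875 := d18_3 F360296 F292051 D189200 (iv5 D188875) D188874 F375105 (iv4 D187569) D187568 F370831
theorem F376039 : act 6 n103235 = n136301 := d21_3 F365264 D189200 F376037 (iv1 D136301) D136303 (iv5 F325807) F314179 F366707 F366708 F365263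
theorem F376040 : act 6 n145413 = n103046 := d21_5 (iv5 D64079) D64076 (iv5 F342889) F172202 D145413 F365264 D189200 F376037 F376039 (iv1 D136301)
theorem F376041 : act 2 n187362 = n189200 := d15_3 (iv0 D189200) (iv0 F367217) (iv7 F369970)
theorem F376042 : act 1 n187363 = n189200 := d15_0 (iv0 D189200) (iv7 F292212) D187363
theorem F376043 : act 7 n189200 = n187316 := d15_2 (iv0 F369977) F376042 F369814
theorem F376044 : act 6 n96004 = n189200 := d21_3 D48018 D103677 F353191 (iv1 F376042) F369976 (iv5 F288984) (iv1 F294056) F293468 (iv6 F293469) (iv1 D48017)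
theorem F376045 : act 3 n103048 = n145413 := d7_3 F376040 (iv3 D103046) D103048
theorem F376046 : act 5 n104659 = n145413 := d12_5 F376040 F365264 F365265 F138106 D104659
theorem F376047 : act 4 n145440 = n104659 := d16_2 D68188 D145440 F376046 (iv4 F228464) (iv5 F228463) (iv4 D145438) (iv5 D68185) F166399 F166396
theorem F376048 : act 6 n104658 = n145440 := d10_0 F376047 (iv6 D104659) D104658
def n189201 : Q := act 2 n93521
theorem D189201 : act 2 n93521 = n189201 := rfl
theorem F376049 : act 3 n189201 = n187361 := d0_2 D93521 D189201 (iv2 D187361) (iv3 D89922) (iv2 F292236)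
theorem F376050 : act 4 n189201 = n188130 := d1_2 F292051 D189201 (iv2 D188130)
theorem F376051 : act 6 n189201 = n187371 := d3_2 (iv6 F365265) D189201 (iv2 D187371)
theorem F376052 : act 7 n189201 = n187363 := d4_2 F292212 D189201 (iv2 D187363)
theorem F376053 : act 1 n189201 = n187316 := d15_0 (iv0 F369816) F292212 D189201
theorem F376054 : act 1 n187362 = n189201 := d15_0 F376053 (iv7 F376043) (iv2 F376041)
def n189202 : Q := act 3 n93527
theorem D189202 : act 3 n93527 = n189202 := rfl
theorem F376055 : act 2 n189202 = n155867 := d0_1 D189202 (iv3 D155867) F347889 D120073 F347879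
theorem F376056 : act 4 n189202 = n188433 := d5_2 D93527 D189202 (iv3 D188433) (iv4 D91398) (iv3 F292245)
theorem F376057 : act 7 n189202 = n173303 := d8_2 F292275 D189202 F343451
theorem F376058 : act 0 n189202 = n174563 := d20_4 (iv4 D47843) (iv1 F291226) D93527 D189202 (iv3 F347869) F294126 (iv1 F294688) (iv4 F329792) (iv3 F328602) (iv1 F158470)
theorem F376059 : act 1 n189202 = n174562 := d15_1 (iv0 F376058) F353020 (iv2 F347870)
theorem F376060 : act 6 n189202 = n174576 := d21_5 (iv5 F366952) (iv1 F256747) D162582 F353017 (iv1 F376059) (iv5 F328796) (iv1 F175519) (iv5 F352468) (iv6 F352469) (iv1 F366954)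
def n189203 : Q := act 6 n93527
theorem D189203 : act 6 n93527 = n189203 := rfl
theorem F376061 : act 2 n189203 = n112749 := d3_1 D189203 F347900 F347879
theorem F376062 : act 3 n189203 = n174576 := d7_1 D189203 (iv6 F376060) (iv3 D189202)
theorem F376063 : act 4 n189203 = n93528 := d10_1 D189203 (iv6 D93528) D93527
theorem F376064 : act 7 n189203 = n126940 := d14_2 F292275 D189203 F347146 (iv7 F304226) (iv6 F340388)
theorem F376065 : act 0 n126931 = n189203 := d21_4 D136755 (iv1 F333078) (iv5 D126930) D126931 (iv6 D189203) (iv5 F155934) F155935 F331256 (iv6 D64291) D64288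
theorem F376066 : act 5 n112748 = n189203 := d13_3 F376064 F347145 (iv7 F175531)
theorem F376067 : act 1 n126942 = n189203 := d15_1 (iv0 F344622) F376064 F347143
def n189204 : Q := act 1 n93528
theorem D189204 : act 1 n93528 = n189204 := rfl
theorem F376068 : act 1 n189204 = n136280 := d15_1 D189204 (iv7 F353517) F286311
theorem F376069 : act 7 n189204 = n103185 := d15_2 (iv0 F366473) D189204 F322988
theorem F376070 : act 5 n109246 = n189204 := d21_0 (iv1 D189204) F291980 (iv6 D103681) F75449 D103105 F158392 D104630 (iv5 F340607) (iv6 D136273) (iv1 F169201)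
theorem F376071 : act 2 n189204 = n105642 := d2_1 F376070 F162239 D109246
theorem F376072 : act 4 n155757 = n189204 := d18_5 (iv1 D126001) F93219 D109244 F351984 F345785 F376068 (iv4 F222811) (iv0 F344622) F354126
def n189205 : Q := act 7 n93528
theorem D189205 : act 7 n93528 = n189205 := rfl
theorem F376073 : act 2 n189205 = n136280 := d4_1 D189205 (iv7 F353517) F286311
theorem F376074 : act 3 n189205 = n188436 := d8_1 D189205 (iv7 D188436) (iv3 F291979)
theorem F376075 : act 4 n189205 = n126940 := d11_1 D189205 (iv7 F376064) F376063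
theorem F376076 : act 5 n189205 = n109284 := d13_1 D189205 F352014 (iv5 F291980)
theorem F376077 : act 6 n189205 = n174569 := d14_1 D189205 (iv7 F340389) F138084 (iv7 F292246) D93528
theorem F376078 : act 1 n105642 = n189205 := d15_1 F352019 (iv7 D189205) (iv2 F286311)
theorem F376079 : act 1 n189205 = n103185 := d15_1 F376078 (iv7 F376069) F376071
def n189206 : Q := act 3 n93757
theorem D189206 : act 3 n93757 = n189206 := rfl
theorem F376080 : act 2 n189206 = n138030 := d0_1 D189206 F356320 F254756 F294980 (iv2 F294608)
theorem F376081 : act 4 n189206 = n138030 := d5_2 D93757 D189206 F356320 (iv4 F294604) F294603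
theorem F376082 : act 5 n189206 = n98451 := d6_2 (iv5 F294609) D189206 (iv3 D98451)
theorem F376083 : act 6 n189206 = n99975 := d7_2 (iv6 F294610) D189206 (iv3 D99975)
theorem F376084 : act 7 n189206 = n187474 := d8_2 F254764 D189206 (iv3 D187474)
theorem F376085 : act 0 n189206 = n137960 := d20_4 F61571 D43829 D93757 D189206 (iv3 F350434) (iv4 F360352) F372680 F372676 F295182 (iv1 D87105)
theorem F376086 : act 1 n98435 = n137919 := d17_6 F376085 (iv5 D137960) (iv1 F356279) F356281 (iv4 F151856) D98435 (iv5 F357367) (iv0 F356319) (iv4 F376081)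
def n189207 : Q := act 4 n93765
theorem D189207 : act 4 n93765 = n189207 := rfl
theorem F376087 : act 2 n189207 = n93768 := d1_1 D189207 (iv4 D93768) (iv2 F144526)
theorem F376088 : act 3 n189207 = n184101 := d5_1 D189207 F286050 (iv3 F154511) (iv4 F351153) (iv3 F144527)
theorem F376089 : act 5 n189207 = n108647 := d9_2 D93765 D189207 F168549 F79494 (iv4 F98324) (iv5 F327603) F65027 D42173 F327616 (iv5 D50331) F38538 D24548 D50343 (iv5 F327617) F133708
theorem F376090 : act 6 n189207 = n184099 := d10_2 (iv6 F351155) D189207 (iv4 F351134)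
theorem F376091 : act 7 n189207 = n108646 := d11_2 (iv7 F144528) D189207 F336762
theorem F376092 : act 0 n189207 = n109018 := d17_0 F169012 (iv1 F172620) F343102 (iv4 D93140) (iv5 D43580) D43578 (iv5 F294985) F144529 D189207
theorem F376093 : act 1 n189207 = n109017 := d18_6 D88234 (iv4 F294259) (iv1 F138486) F133708 D93765 D189207 (iv4 F362812) (iv0 D185144) (iv5 D88236)
def n189208 : Q := act 0 n93768
theorem D189208 : act 0 n93768 = n189208 := rfl
theorem F376094 : act 5 n189208 = n111277 := d17_1 D189208 (iv1 F172611) (iv5 F343098) (iv4 F325748) (iv5 D93136) F294842 D88926 F294624 D93768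
theorem F376095 : act 4 n189208 = n98078 := d18_1 D189208 (iv1 F336757) (iv4 D109099) (iv5 D50367) (iv4 F77456) D106203 (iv4 F171919) F168546 (iv5 F327465)
theorem F376096 : act 1 n108646 = n189208 := d15_0 (iv0 D189208) F327466 (iv2 F168547)
theorem F376097 : act 2 n109018 = n189208 := d1_3 F376095 (iv2 F289709) F343087
theorem F376098 : act 7 n109017 = n189208 := d11_0 F376095 (iv7 F362819) F362812
def n189209 : Q := act 1 n93768
theorem D189209 : act 1 n93768 = n189209 := rfl
theorem F376099 : act 1 n189209 = n108646 := d15_1 D189209 (iv7 F376091) F376087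
theorem F376100 : act 7 n189209 = n109018 := d15_2 (iv0 D189208) D189209 F376097
theorem F376101 : act 5 n189209 = n110454 := d17_7 (iv1 F80976) (iv5 F80977) (iv1 F79725) F79721 (iv4 F79710) (iv5 F327465) D189209 F170839 F81111
theorem F376102 : act 4 n189209 = n98081 := d17_9 (iv1 F295080) (iv5 D91165) D91161 D188286 F372956 F172905 F168546 (iv5 F327465) D189209
theorem F376103 : act 2 n109017 = n189209 := d1_3 F376102 F362818 F362812
theorem F376104 : act 3 n157955 = n189209 := d6_3 F376101 F327419 D157955
def n189210 : Q := act 3 n93770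
theorem D189210 : act 3 n93770 = n189210 := rfl
theorem F376105 : act 6 n189210 = n98962 := d7_2 (iv6 F294629) D189210 F152499
theorem F376106 : act 7 n189210 = n188198 := d8_2 (iv7 F367226) D189210 (iv3 D188198)
def n189211 : Q := act 5 n93770
theorem D189211 : act 5 n93770 = n189211 := rfl
theorem F376107 : act 2 n189211 = n188197 := d2_1 D189211 (iv5 D188197) (iv2 F367222)
theorem F376108 : act 6 n189211 = n98971 := d12_2 (iv6 F294629) D189211 (iv5 D98971) (iv6 D46301) D46300
theorem F376109 : act 7 n189211 = n188199 := d13_2 (iv7 F367226) D189211 (iv5 D188199)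
def n189212 : Q := act 3 n93771
theorem D189212 : act 3 n93771 = n189212 := rfl
theorem F376110 : act 7 n189212 = n188196 := d8_2 F367224 D189212 (iv3 D188196)
theorem F376111 : act 0 n189212 = n188474 := d20_4 F370973 (iv1 F142601) (iv4 F351148) D189212 F373610 F356660 (iv1 F205625) F356687 F367122 (iv1 F370977)
def n189213 : Q := act 5 n93771
theorem D189213 : act 5 n93771 = n189213 := rfl
theorem F376112 : act 2 n189213 = n188199 := d2_1 D189213 (iv5 D188199) (iv2 F367225)
theorem F376113 : act 7 n189213 = n188197 := d13_2 F367224 D189213 (iv5 D188197)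
theorem F376114 : act 6 n187156 = n189213 := d21_5 F136469 (iv1 F64055) D41853 D89614 D187156 (iv5 D189213) (iv1 D93771) (iv5 F139245) (iv6 D90481) F291673
def n189214 : Q := act 6 n93771
theorem D189214 : act 6 n93771 = n189214 := rfl
theorem F376115 : act 2 n189214 = n188200 := d3_1 D189214 (iv6 D188200) (iv2 F367225)
theorem F376116 : act 4 n189214 = n187484 := d10_1 D189214 (iv6 D187484) (iv4 F351148)
theorem F376117 : act 7 n189214 = n98951 := d14_2 F367224 D189214 (iv6 D98951) (iv7 F272719) (iv6 F367221)
def n189215 : Q := act 5 n93779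
theorem D189215 : act 5 n93779 = n189215 := rfl
theorem F376118 : act 2 n189215 = n114559 := d2_1 D189215 F178637 F144552
theorem F376119 : act 3 n189215 = n110753 := d6_1 D189215 F171439 (iv3 F144551)
theorem F376120 : act 4 n189215 = n104849 := d9_1 D189215 (iv5 D104849) D104848 F356902 (iv4 D106724) F77977 F77560 D52879 (iv4 F340324) (iv5 D104844) D104843 (iv5 F363530) (iv4 D106726) (iv5 F77980) (iv4 F144550)
theorem F376121 : act 7 n189215 = n106287 := d13_2 (iv7 F144553) D189215 (iv5 D106287)
theorem F376122 : act 0 n189215 = n114558 := d21_1 D189215 F178634 (iv6 D76300) F55174 F65486 (iv5 F68080) (iv1 F32914) D20759 D43838 D93779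
theorem F376123 : act 1 n189215 = n114557 := d15_0 (iv0 D114557) D114559 (iv2 F376118)
theorem F376124 : act 5 n114557 = n106709 := d17_7 (iv1 F77409) (iv5 F82408) (iv1 F82410) (iv5 F77980) (iv4 F144550) D189215 F376123 (iv0 D106709) (iv4 D49310)
theorem F376125 : act 3 n133401 = n114557 := d6_3 F376124 F164463 D133401
def n189216 : Q := act 4 n93780
theorem D189216 : act 4 n93780 = n189216 := rfl
theorem F376126 : act 6 n189216 = n93794 := d10_2 (iv6 F144557) D189216 (iv4 D93794)
theorem F376127 : act 0 n189216 = n106712 := d18_2 F209190 D189216 (iv4 D106712) (iv5 D49311) D49310 (iv0 F114393) F171419 F171417 D130612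
theorem F376128 : act 1 n189216 = n106718 := d18_6 F54247 (iv4 F77570) F77571 F68985 D93780 D189216 (iv4 D106718) F163360 (iv5 D52164)
def n189217 : Q := act 7 n93780
theorem D189217 : act 7 n93780 = n189217 := rfl
theorem F376129 : act 2 n189217 = n114556 := d4_1 D189217 F178632 F144694
theorem F376130 : act 3 n189217 = n93797 := d8_1 D189217 (iv7 D93797) (iv3 F144556)
theorem F376131 : act 5 n189217 = n93781 := d13_1 D189217 (iv7 D93781) D93780
theorem F376132 : act 6 n189217 = n95982 := d14_1 D189217 (iv7 F147690) (iv6 F363533) (iv7 D93795) (iv6 F144557)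
theorem F376133 : act 1 n106717 = n189217 := d15_1 (iv0 F164490) (iv7 D189217) (iv2 F144694)
theorem F376134 : act 1 n189217 = n106710 := d15_1 F376133 (iv7 F209189) F209187
def n189218 : Q := act 5 n93783
theorem D189218 : act 5 n93783 = n189218 := rfl
theorem F376135 : act 3 n189218 = n93785 := d6_1 D189218 (iv5 D93785) D93783
def n189219 : Q := act 6 n93783
theorem D189219 : act 6 n93783 = n189219 := rfl
theorem F376136 : act 3 n189219 = n93786 := d7_1 D189219 (iv6 D93786) D93783
theorem F376137 : act 4 n189219 = n189050 := d10_1 D189219 F375589 F294592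
theorem F376138 : act 5 n187511 = n189219 := d6_0 F376136 F144566 D187511
theorem F376139 : act 0 n187511 = n114644 := d21_7 F74311 F82943 F82940 D94249 F157236 D189219 (iv5 F376138) F178745 (iv6 D92767) (iv1 F74310)
def n189220 : Q := act 5 n93784
theorem D189220 : act 5 n93784 = n189220 := rfl
theorem F376140 : act 3 n189220 = n98693 := d6_1 D189220 (iv5 D98693) F144565
def n189221 : Q := act 6 n93784
theorem D189221 : act 6 n93784 = n189221 := rfl
theorem F376141 : act 3 n189221 = n98694 := d7_1 D189221 (iv6 D98694) F144565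
theorem F376142 : act 4 n189221 = n93786 := d10_1 D189221 (iv6 D93786) D93784
theorem F376143 : act 0 n189221 = n188541 := d20_1 (iv4 F376142) F373879 F370297 F205514 (iv3 D93054) (iv4 D43539) F291169 D46446 D99332 F364369
def n189222 : Q := act 4 n93785
theorem D189222 : act 4 n93785 = n189222 := rfl
theorem F376144 : act 3 n144130 = n189222 := d20_5 (iv4 F373677) F373675 F365096 F226842 D144130 (iv4 D189222) F344301 (iv4 F276263) (iv3 D176905) D176903
def n189223 : Q := act 6 n93785
theorem D189223 : act 6 n93785 = n189223 := rfl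
theorem F376145 : act 5 n189223 = n187512 := d12_1 D189223 (iv6 D187512) (iv5 F144566) (iv6 D93786) D93785
def n189224 : Q := act 5 n93788
theorem D189224 : act 5 n93788 = n189224 := rfl
theorem F376146 : act 3 n189224 = n93790 := d6_1 D189224 (iv5 D93790) D93788
theorem F376147 : act 6 n130620 = n189224 := d21_5 (iv5 D61289) (iv1 D29015) D29017 D61291 D130620 (iv5 D189224) (iv1 F157563) (iv5 F178682) (iv6 D114595) F95776
theorem F376148 : act 0 n189224 = n145023 := d21_4 F218426 (iv1 F168433) (iv5 F363786) F376147 (iv6 D145023) F104094 (iv1 F85202) D68413 (iv6 F329186) (iv1 F218428)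
def n189225 : Q := act 6 n93788
theorem D189225 : act 6 n93788 = n189225 := rfl
theorem F376149 : act 2 n189225 = n134480 := d3_1 D189225 (iv6 F363797) (iv2 F344304)
theorem F376150 : act 3 n189225 = n93791 := d7_1 D189225 (iv6 D93791) D93788
theorem F376151 : act 4 n189225 = n182057 := d10_1 D189225 (iv6 D182057) (iv4 F144568)
theorem F376152 : act 5 n189225 = n115116 := d12_1 D189225 F179268 (iv5 F363786) F376147 (iv5 D189224)
theorem F376153 : act 7 n134483 = n189225 := d13_0 F376152 F179269 D134483
def n189226 : Q := act 5 n93789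
theorem D189226 : act 5 n93789 = n189226 := rfl
def n189227 : Q := act 6 n93789
theorem D189227 : act 6 n93789 = n189227 := rfl
theorem F376154 : act 3 n189227 = n188553 := d7_1 D189227 F373929 F144817
theorem F376155 : act 4 n189227 = n93791 := d10_1 D189227 (iv6 D93791) D93789
def n189228 : Q := act 4 n93790
theorem D189228 : act 4 n93790 = n189228 := rfl
theorem F376156 : act 5 n189228 = n104712 := d17_5 (iv1 F293601) (iv5 D92316) (iv1 F293965) D93790 D189228 (iv0 D104712) (iv5 F293032) D185704 (iv4 F367202)
def n189229 : Q := act 6 n93790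
theorem D189229 : act 6 n93790 = n189229 := rfl
theorem F376157 : act 3 n189229 = n130620 := d7_1 D189229 F376147 F376146
theorem F376158 : act 5 n189229 = n134509 := d12_1 D189229 (iv6 F349141) (iv5 F335769) (iv6 D93791) D93790
def n189230 : Q := act 3 n93792
theorem D189230 : act 3 n93792 = n189230 := rfl
theorem F376159 : act 5 n189230 = n98034 := d6_2 (iv5 F295139) D189230 (iv3 D98034)
theorem F376160 : act 0 n118533 = n189230 := d20_4 D188044 F372209 F211427 (iv3 F186437) (iv3 D189230) F367202 (iv1 D185704) (iv4 F287996) F372203 (iv1 D188043)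
def n189231 : Q := act 6 n93792
theorem D189231 : act 6 n93792 = n189231 := rfl
def n189232 : Q := act 3 n93793
theorem D189232 : act 3 n93793 = n189232 := rfl
theorem F376161 : act 5 n189232 = n98029 := d6_2 (iv5 F295516) D189232 (iv3 D98029)
theorem F376162 : act 7 n189232 = n131121 := d8_2 F155694 D189232 (iv3 F363798)
theorem F376163 : act 4 n189232 = n130616 := d20_6 (iv4 F291533) (iv1 F292431) (iv4 F67599) (iv3 F141956) F293600 D189232 F370293 (iv4 D187427) F138530 F291392
theorem F376164 : act 6 n130615 = n189232 := d10_0 F376163 (iv6 D130616) D130615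
theorem F376165 : act 0 n131123 = n189232 := d18_0 F376163 F370293 (iv4 D187427) (iv5 D90103) F65039 D86950 (iv4 F144568) F251931 F251929
theorem F376166 : act 1 n114595 = n189232 := d15_0 (iv0 F376165) (iv7 D131123) (iv2 F178680)
def n189233 : Q := act 6 n93793
theorem D189233 : act 6 n93793 = n189233 := rfl
theorem F376167 : act 2 n189233 = n95936 := d3_1 D189233 (iv6 F364061) F155692
theorem F376168 : act 3 n189233 = n130615 := d7_1 D189233 F376164 (iv3 D189232)
theorem F376169 : act 4 n189233 = n95523 := d10_1 D189233 (iv6 F367198) F367200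
theorem F376170 : act 5 n189233 = n184730 := d12_1 D189233 F362826 (iv5 D92580) F295517 (iv5 F295516)
theorem F376171 : act 7 n95919 = n189233 := d13_0 F376170 (iv7 F364051) F364048
def n189234 : Q := act 1 n93794
theorem D189234 : act 1 n93794 = n189234 := rfl
theorem F376172 : act 1 n189234 = n188472 := d15_1 D189234 (iv7 F373608) F145095
def n189235 : Q := act 3 n93794
theorem D189235 : act 3 n93794 = n189235 := rfl
theorem F376173 : act 4 n189235 = n93815 := d5_2 D93794 D189235 (iv3 D93815) (iv4 D43851) (iv3 F68908)
def n189236 : Q := act 5 n93794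
theorem D189236 : act 5 n93794 = n189236 := rfl
theorem F376174 : act 7 n189236 = n97079 := d13_2 (iv7 F363537) D189236 F149764
theorem F376175 : act 4 n189236 = n95627 := d16_2 D93794 D189236 (iv5 F373605) F373604 (iv5 D92316) F67596 D92316 (iv7 F293655) F69256
theorem F376176 : act 6 n95626 = n189236 := d10_0 F376175 (iv6 D95627) D95626
theorem F376177 : act 0 n163281 = n189236 := d21_4 (iv5 D163276) (iv1 D78472) D78474 D163281 (iv6 F376176) (iv5 F148096) F148098 (iv5 F138057) F348738 (iv1 F257589)
def n189237 : Q := act 0 n93796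
theorem D189237 : act 0 n93796 = n189237 := rfl
theorem F376178 : act 4 n189237 = n106696 := d18_3 F143185 D93796 D189237 (iv5 D106696) F77939 (iv0 F114358) F114361 (iv0 F95757) D92819
theorem F376179 : act 2 n93884 = n189237 := d15_3 (iv0 D189237) (iv0 F163769) F163768
theorem F376180 : act 7 n189237 = n93885 := d4_2 F163768 F376179 (iv2 F164428)
theorem F376181 : act 1 n93888 = n189237 := d15_1 F163770 F376180 (iv2 F164428)
theorem F376182 : act 3 n93975 = n189237 := d5_5 F376178 F164419 (iv4 F210006) F345019 F144912
theorem F376183 : act 6 n189237 = n93974 := d7_2 D93975 F376182 (iv3 D93974)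
def n189238 : Q := act 3 n93796
theorem D189238 : act 3 n93796 = n189238 := rfl
theorem F376184 : act 6 n189238 = n93815 := d7_2 (iv6 F144573) D189238 (iv3 D93815)
def n189239 : Q := act 5 n93796
theorem D189239 : act 5 n93796 = n189239 := rfl
theorem F376185 : act 2 n189239 = n93887 := d2_1 D189239 (iv5 D93887) (iv2 F144572)
def n189240 : Q := act 7 n93796
theorem D189240 : act 7 n93796 = n189240 := rfl
theorem F376186 : act 2 n189240 = n93888 := d4_1 D189240 (iv7 D93888) (iv2 F144572)
theorem F376187 : act 4 n189240 = n93797 := d11_1 D189240 (iv7 D93797) D93796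
theorem F376188 : act 1 n93885 = n189240 := d15_1 D93885 (iv7 D189240) F144572
theorem F376189 : act 1 n189240 = n93884 := d15_1 F376188 (iv7 F163768) F164428
def n189241 : Q := act 6 n93797
theorem D189241 : act 6 n93797 = n189241 := rfl
theorem F376190 : act 2 n189241 = n93889 := d3_1 D189241 (iv6 D93889) (iv2 F144574)
theorem F376191 : act 3 n189241 = n95982 := d7_1 D189241 (iv6 F376132) F376130
theorem F376192 : act 5 n189241 = n188506 := d12_1 D189241 F373756 F144703 F68996 (iv5 F144575)
theorem F376193 : act 7 n189241 = n93816 := d14_2 D93797 D189241 (iv6 D93816) (iv7 D43852) (iv6 F68912)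
theorem F376194 : act 1 n93984 = n189241 := d15_1 D93984 F376193 F144621
theorem F376195 : act 1 n189241 = n93983 := d15_0 (iv0 D93983) (iv7 F144720) (iv2 F376190)
def n189242 : Q := act 0 n93801
theorem D189242 : act 0 n93801 = n189242 := rfl
theorem F376196 : act 5 n189242 = n185867 := d17_1 D189242 F294544 F293645 (iv4 F331365) (iv5 D95787) (iv0 F157607) D97351 F331403 F331406
theorem F376197 : act 2 n93936 = n189242 := d15_3 (iv0 D189242) (iv0 F331381) F331386
theorem F376198 : act 1 n93930 = n189242 := d15_0 (iv0 D189242) F144589 (iv2 F144757)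
theorem F376199 : act 7 n189242 = n93935 := d15_2 F331382 F376198 (iv2 F331383)
def n189243 : Q := act 3 n93803
theorem D189243 : act 3 n93803 = n189243 := rfl
theorem F376200 : act 5 n189243 = n187905 := d6_2 (iv5 F144596) D189243 (iv3 D187905)
theorem F376201 : act 7 n189243 = n93943 := d8_2 (iv7 F144595) D189243 (iv3 D93943)
def n189244 : Q := act 4 n93807
theorem D189244 : act 4 n93807 = n189244 := rfl
theorem F376202 : act 7 n189244 = n93905 := d11_2 (iv7 F144605) D189244 (iv4 D93905)
theorem F376203 : act 0 n189244 = n186415 := d18_2 F374839 D189244 (iv4 D186415) F136169 F66477 D42651 (iv4 F292356) F288420 D188774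
def n189245 : Q := act 3 n93809
theorem D189245 : act 3 n93809 = n189245 := rfl
theorem F376204 : act 7 n189245 = n93916 := d8_2 (iv7 F144609) D189245 (iv3 D93916)
def n189246 : Q := act 6 n93809
theorem D189246 : act 6 n93809 = n189246 := rfl
theorem F376205 : act 2 n189246 = n93944 := d3_1 D189246 (iv6 D93944) (iv2 F144608)
theorem F376206 : act 4 n189246 = n93810 := d10_1 D189246 (iv6 D93810) D93809
theorem F376207 : act 5 n187378 = n189246 := d16_1 D187378 F376206 (iv5 F159980) (iv4 F367665) F367660 F148555 D185599 (iv7 F370073) F370071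
theorem F376208 : act 0 n93956 = n189246 := d19_0 (iv5 F376207) (iv4 D187378) F138237 (iv1 F294079) (iv5 D45327) F34011 (iv3 F293250) (iv1 F31241) (iv5 D19509) F14327 F6054 (iv1 F7112) D4184 D9253 (iv3 F291748) D41331 F65920 D43916 D93956
def n189247 : Q := act 0 n93810
theorem D189247 : act 0 n93810 = n189247 := rfl
def n189248 : Q := act 1 n93810
theorem D189248 : act 1 n93810 = n189248 := rfl
theorem F376209 : act 1 n189248 = n93948 := d15_1 D189248 (iv7 D93948) (iv2 F144610)
theorem F376210 : act 5 n189248 = n113775 := d17_7 (iv1 F356273) F350435 (iv1 F148557) (iv5 F367660) F367665 F159980 D189248 (iv0 F364806) (iv4 F364804)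
theorem F376211 : act 6 n93875 = n189248 := d21_3 (iv5 D61284) D61281 (iv5 F144713) (iv1 D189248) (iv6 D93810) (iv5 D43848) (iv1 D20763) D20764 (iv6 F68912) F95763
theorem F376212 : act 2 n189248 = n93946 := d3_1 F376211 (iv6 F214495) F214491
theorem F376213 : act 3 n189248 = n187177 := d7_1 F376211 (iv6 F369367) F145400
def n189249 : Q := act 7 n93810
theorem D189249 : act 7 n93810 = n189249 := rfl
theorem F376214 : act 2 n189249 = n93948 := d4_1 D189249 (iv7 D93948) (iv2 F144610)
theorem F376215 : act 6 n189249 = n93920 := d14_1 D189249 (iv7 D93920) (iv6 D43901) (iv7 F68926) D93810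
theorem F376216 : act 1 n93948 = n189247 := d15_0 (iv0 D189247) D189249 F376214
theorem F376217 : act 1 n93946 = n189249 := d15_1 D93946 (iv7 D189249) F144610
theorem F376218 : act 0 n93883 = n188931 := d21_10 (iv5 D188931) (iv1 F374321) F374317 (iv6 F376215) (iv1 F376217) (iv6 F214495) (iv5 D133401) (iv1 D62614) F83010 D93883
theorem F376219 : act 7 n189247 = n93946 := d15_2 F376209 F376216 (iv2 F376212)
theorem F376220 : act 2 n189247 = n93945 := d15_3 (iv0 D93945) D93946 (iv7 F376219)
theorem F376221 : act 7 n93945 = n189248 := d4_2 (iv7 F376219) F376220 F376212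
theorem F376222 : act 3 n94330 = n93945 := d8_3 F376221 F376213 F369366
theorem F376223 : act 1 n189249 = n93945 := d15_1 F376217 F376221 F376212
def n189250 : Q := act 6 n93811
theorem D189250 : act 6 n93811 = n189250 := rfl
theorem F376224 : act 2 n189250 = n131147 := d3_1 D189250 (iv6 D131147) (iv2 F157808)
theorem F376225 : act 3 n189250 = n93813 := d7_1 D189250 (iv6 D93813) D93811
theorem F376226 : act 4 n189250 = n164487 := d10_1 D189250 F259228 (iv4 F331362)
theorem F376227 : act 5 n189250 = n114186 := d12_1 D189250 F369497 F369495 F293765 (iv5 F293764)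
theorem F376228 : act 0 n114398 = n189250 := d21_4 (iv5 D25626) D25624 D52792 D114398 (iv6 D189250) F293764 D102956 F293761 F251939 (iv1 D52800)
theorem F376229 : act 7 n164492 = n189250 := d13_0 F376227 F352661 D164492
def n189251 : Q := act 3 n93812
theorem D189251 : act 3 n93812 = n189251 := rfl
theorem F376230 : act 5 n189251 = n189245 := d6_2 (iv5 F144613) D189251 (iv3 D189245)
theorem F376231 : act 7 n189251 = n93967 := d8_2 (iv7 F144614) D189251 (iv3 D93967)
def n189252 : Q := act 6 n93812
theorem D189252 : act 6 n93812 = n189252 := rfl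
theorem F376232 : act 2 n189252 = n93957 := d3_1 D189252 (iv6 D93957) (iv2 F144612)
theorem F376233 : act 4 n189252 = n93813 := d10_1 D189252 (iv6 D93813) D93812
def n189253 : Q := act 0 n93813
theorem D189253 : act 0 n93813 = n189253 := rfl
def n189254 : Q := act 1 n93813
theorem D189254 : act 1 n93813 = n189254 := rfl
theorem F376234 : act 1 n189254 = n93961 := d15_1 D189254 (iv7 D93961) (iv2 F144616)
def n189255 : Q := act 7 n93813
theorem D189255 : act 7 n93813 = n189255 := rfl
theorem F376235 : act 2 n189255 = n93961 := d4_1 D189255 (iv7 D93961) (iv2 F144616)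
theorem F376236 : act 3 n189255 = n164492 := d8_1 D189255 F376229 F376225
theorem F376237 : act 5 n189255 = n164490 := d13_1 D189255 (iv7 F369506) F369505
theorem F376238 : act 6 n189255 = n93971 := d14_1 D189255 (iv7 D93971) (iv6 D43920) (iv7 F68930) D93813
theorem F376239 : act 1 n93961 = n189253 := d15_0 (iv0 D189253) D189255 F376235
theorem F376240 : act 1 n93959 = n189255 := d15_1 D93959 (iv7 D189255) F144616
theorem F376241 : act 0 n93958 = n189255 := d21_4 (iv5 F374317) (iv1 F374320) D188936 (iv6 F375215) F376238 (iv5 F370688) (iv1 F370691) D187899 (iv6 F375216) (iv1 F375226)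
def n189256 : Q := act 3 n93814
theorem D189256 : act 3 n93814 = n189256 := rfl
theorem F376242 : act 7 n189256 = n93974 := d8_2 (iv7 F144620) D189256 (iv3 D93974)
def n189257 : Q := act 6 n93814
theorem D189257 : act 6 n93814 = n189257 := rfl
theorem F376243 : act 2 n189257 = n93973 := d3_1 D189257 (iv6 D93973) F144618
theorem F376244 : act 4 n189257 = n105150 := d10_1 D189257 (iv6 D105150) (iv4 F293541)
def n189258 : Q := act 0 n93815
theorem D189258 : act 0 n93815 = n189258 := rfl
def n189259 : Q := act 1 n93815
theorem D189259 : act 1 n93815 = n189259 := rfl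
def n189260 : Q := act 2 n93815
theorem D189260 : act 2 n93815 = n189260 := rfl
theorem F376245 : act 3 n189260 = n93978 := d0_2 D93815 D189260 (iv2 D93978) (iv3 D43923) (iv2 F68932)
def n189261 : Q := act 0 n93816
theorem D189261 : act 0 n93816 = n189261 := rfl
theorem F376246 : act 1 n93889 = n189261 := d15_0 (iv0 D189261) (iv7 F376193) F376190
def n189262 : Q := act 1 n93816
theorem D189262 : act 1 n93816 = n189262 := rfl
theorem F376247 : act 1 n189262 = n93889 := d15_1 D189262 F144720 (iv2 F144621)
theorem F376248 : act 5 n187187 = n189262 := d21_6 F291586 (iv1 D19715) D19717 D41888 D89689 D187187 (iv1 D189262) (iv5 F293603) (iv6 D92318) F292531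
def n189263 : Q := act 4 n93817
theorem D189263 : act 4 n93817 = n189263 := rfl
theorem F376249 : act 7 n189263 = n94045 := d11_2 (iv7 F144623) D189263 (iv4 D94045)
theorem F376250 : act 5 n189263 = n135759 := d17_5 (iv1 D187426) (iv5 D90103) F68939 D93817 D189263 F218294 (iv5 F345003) (iv0 F367911) F370284
theorem F376251 : act 0 n145924 = n189263 := d20_7 (iv4 F144744) (iv1 F144745) (iv4 D43909) (iv3 F69031) D93935 (iv3 F366176) F229202 (iv4 D189263) F144622 (iv1 F142929)
theorem F376252 : act 6 n189263 = n152450 := d21_5 F227942 (iv1 D68420) D68422 D145924 F376251 (iv5 F239639) F362421 (iv5 F319882) (iv6 D144998) (iv1 F227940)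
def n189264 : Q := act 6 n93817
theorem D189264 : act 6 n93817 = n189264 := rfl
theorem F376253 : act 3 n189264 = n93820 := d7_1 D189264 (iv6 D93820) (iv3 F144622)
theorem F376254 : act 4 n189264 = n152450 := d10_1 D189264 (iv6 F376252) (iv4 D189263)
theorem F376255 : act 5 n189264 = n171100 := d12_1 D189264 (iv6 F345122) (iv5 F239750) F143547 D93817
def n189265 : Q := act 3 n93818
theorem D189265 : act 3 n93818 = n189265 := rfl
theorem F376256 : act 5 n189265 = n94032 := d6_2 (iv5 F144626) D189265 (iv3 D94032)
theorem F376257 : act 7 n189265 = n94018 := d8_2 (iv7 F144625) D189265 (iv3 D94018)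
theorem F376258 : act 4 n151686 = n189265 := d20_8 D93819 F144631 (iv4 D88547) F292770 D41886 D89685 D187174 (iv1 F369352) (iv3 D189265) (iv1 D93818)
theorem F376259 : act 1 n189265 = n186661 := d18_8 (iv1 D89017) F64163 D41584 (iv4 F69421) D94288 F360285 D151686 F376258 (iv5 D186661)
theorem F376260 : act 1 n151977 = n189265 := d15_1 (iv0 F375295) F376257 F366994
theorem F376261 : act 4 n94290 = n151978 := d18_5 F374493 F374491 (iv1 F367152) (iv4 D102893) (iv5 F293769) (iv0 D151978) (iv4 F238992) F376260 F376256
theorem F376262 : act 3 n93983 = n151686 := d20_5 F373791 (iv1 D188515) F142021 (iv3 F294561) D93983 F376258 (iv1 F376260) F238992 (iv3 F238990) (iv1 F367236)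
theorem F376263 : act 3 n151978 = n95557 := d5_1 F376261 (iv4 D95557) (iv3 F144764) (iv4 F331388) F251949
theorem F376264 : act 7 n151978 = n96080 := d11_2 F369303 F376261 (iv4 F369306)
def n189266 : Q := act 3 n93819
theorem D189266 : act 3 n93819 = n189266 := rfl
theorem F376265 : act 5 n189266 = n188072 := d6_2 (iv5 F144630) D189266 (iv3 D188072)
theorem F376266 : act 7 n189266 = n94050 := d8_2 (iv7 F144629) D189266 (iv3 D94050)
def n189267 : Q := act 6 n93819
theorem D189267 : act 6 n93819 = n189267 := rfl
theorem F376267 : act 2 n189267 = n94025 := d3_1 D189267 (iv6 D94025) (iv2 F144628)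
theorem F376268 : act 4 n189267 = n93820 := d10_1 D189267 (iv6 D93820) D93819
def n189268 : Q := act 0 n93820
theorem D189268 : act 0 n93820 = n189268 := rfl
theorem F376269 : act 6 n189268 = n188066 := d21_5 (iv5 D41568) (iv1 F65962) D43854 D93820 D189268 (iv5 D188066) (iv1 D90765) D90766 F139691 F65984
def n189269 : Q := act 1 n93820
theorem D189269 : act 1 n93820 = n189269 := rfl
theorem F376270 : act 1 n189269 = n94029 := d15_1 D189269 (iv7 D94029) (iv2 F144632)
theorem F376271 : act 3 n151673 = n189269 := d19_19 (iv1 D189269) (iv5 F374510) F374509 F354417 (iv1 F302063) (iv5 F304352) (iv4 D85836) F318519 (iv1 F166816) (iv5 D107949) F78850 (iv3 F86249) (iv1 F86251) (iv5 F42153) (iv4 F38879) F38878 (iv1 F78500) (iv5 F108009) D151673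
theorem F376272 : act 5 n189006 = n189269 := d21_6 (iv5 D43356) F62744 D20567 D43497 D92979 D189006 (iv1 D189269) (iv5 F374510) (iv6 D188709) (iv1 D92684)
def n189270 : Q := act 7 n93820
theorem D189270 : act 7 n93820 = n189270 := rfl
theorem F376273 : act 2 n189270 = n94029 := d4_1 D189270 (iv7 D94029) (iv2 F144632)
theorem F376274 : act 6 n189270 = n94055 := d14_1 D189270 (iv7 D94055) (iv6 D43964) (iv7 F68941) D93820
theorem F376275 : act 1 n94029 = n189268 := d15_0 (iv0 D189268) D189270 F376273
theorem F376276 : act 1 n94027 = n189270 := d15_1 D94027 (iv7 D189270) F144632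
theorem F376277 : act 1 n189270 = n94026 := d15_0 (iv0 D94026) D94029 (iv2 F376273)
def n189271 : Q := act 0 n93825
theorem D189271 : act 0 n93825 = n189271 := rfl
theorem F376278 : act 5 n189271 = n94033 := d17_3 F205502 D93825 D189271 (iv4 F293510) (iv5 F360348) (iv0 F370148) (iv5 D187393) F294944 (iv4 F205504)
theorem F376279 : act 3 n189271 = n112955 := d20_5 D88547 (iv1 F144653) (iv4 D93827) (iv3 F144646) D189271 F292577 (iv1 F331404) F331406 F144588 F68922
theorem F376280 : act 2 n94012 = n189271 := d15_3 (iv0 D189271) (iv0 F374559) F374558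
theorem F376281 : act 1 n94009 = n189271 := d15_0 (iv0 D189271) F144647 (iv2 F144840)
theorem F376282 : act 7 n189271 = n94011 := d15_2 F374560 F376281 (iv2 F374556)
theorem F376283 : act 4 n163433 = n189271 := d11_3 F376282 (iv4 F294061) F294063
theorem F376284 : act 6 n106523 = n189271 := d14_5 F376282 (iv6 F205480) (iv7 F204739) (iv6 F204740) (iv7 F204743)
theorem F376285 : act 1 n187180 = n163433 := d17_8 (iv1 F376281) (iv5 D94009) (iv1 F205503) (iv5 F372202) F372205 F358223 F262090 (iv5 F369394) F376283
def n189272 : Q := act 4 n93825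
theorem D189272 : act 4 n93825 = n189272 := rfl
theorem F376286 : act 6 n189272 = n106850 := d10_2 F205518 D189272 F365956
theorem F376287 : act 7 n189272 = n94013 := d11_2 (iv7 F144647) D189272 (iv4 D94013)
theorem F376288 : act 5 n189272 = n176852 := d16_1 D189272 (iv4 D176852) F346852 F103451 D67562 (iv4 F305030) D94009 (iv7 F373827) F373825
def n189273 : Q := act 3 n93827
theorem D189273 : act 3 n93827 = n189273 := rfl
theorem F376289 : act 5 n189273 = n189256 := d6_2 (iv5 F144651) D189273 (iv3 D189256)
theorem F376290 : act 7 n189273 = n94024 := d8_2 (iv7 F144652) D189273 (iv3 D94024)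
def n189274 : Q := act 6 n93827
theorem D189274 : act 6 n93827 = n189274 := rfl
theorem F376291 : act 2 n189274 = n94051 := d3_1 D189274 (iv6 D94051) (iv2 F144650)
theorem F376292 : act 4 n189274 = n93828 := d10_1 D189274 (iv6 D93828) D93827
def n189275 : Q := act 0 n93828
theorem D189275 : act 0 n93828 = n189275 := rfl
def n189276 : Q := act 1 n93828
theorem D189276 : act 1 n93828 = n189276 := rfl
theorem F376293 : act 1 n189276 = n94055 := d15_1 D189276 (iv7 D94055) (iv2 F144654)
theorem F376294 : act 5 n146857 = n189276 := d21_0 (iv1 D189276) (iv5 F374651) (iv6 D188738) (iv1 F142990) D92746 (iv5 F291523) (iv1 F365435) F367058 F214060 F367056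
theorem F376295 : act 6 n106505 = n189276 := d21_3 (iv5 D106696) (iv1 F77943) D106505 (iv1 D189276) (iv6 D93828) (iv5 D43858) F65958 D41568 (iv6 F136656) (iv1 F164422)
theorem F376296 : act 2 n189276 = n94053 := d3_1 F376295 (iv6 F164417) F164412
theorem F376297 : act 3 n189276 = n112927 := d7_1 F376295 (iv6 D112927) (iv3 F163759)
def n189277 : Q := act 7 n93828
theorem D189277 : act 7 n93828 = n189277 := rfl
theorem F376298 : act 2 n189277 = n94055 := d4_1 D189277 (iv7 D94055) (iv2 F144654)
theorem F376299 : act 3 n189277 = n106546 := d8_1 D189277 F365946 (iv3 F205519)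
theorem F376300 : act 6 n189277 = n94029 := d14_1 D189277 (iv7 D94029) (iv6 D43945) (iv7 F68955) D93828
theorem F376301 : act 1 n94055 = n189275 := d15_0 (iv0 D189275) D189277 F376298
theorem F376302 : act 1 n94053 = n189277 := d15_1 D94053 (iv7 D189277) F144654
theorem F376303 : act 7 n189275 = n94053 := d15_2 F376293 F376301 (iv2 F376296)
theorem F376304 : act 3 n187872 = n189275 := d19_19 (iv1 F376301) F365737 (iv4 F361232) F361231 F327638 (iv5 D87226) F294747 F31298 F292912 D41425 F294282 (iv3 F72974) D99012 F367127 D187471 F370470 (iv1 D90625) D90626 D187872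
theorem F376305 : act 4 n189275 = n187905 := d5_2 D187872 F376304 (iv3 D187905) (iv4 D90644) (iv3 F139517)
theorem F376306 : act 0 n93944 = n187905 := d20_7 (iv4 D98702) D98700 F355758 F175834 F157670 F144766 (iv4 F144769) (iv4 F376305) (iv3 F376304) F371736
theorem F376307 : act 2 n189275 = n94052 := d15_3 (iv0 D94052) D94053 (iv7 F376303)
theorem F376308 : act 7 n94052 = n189276 := d4_2 (iv7 F376303) F376307 F376296
theorem F376309 : act 1 n189277 = n94052 := d15_1 F376302 F376308 F376296
def n189278 : Q := act 6 n93829
theorem D189278 : act 6 n93829 = n189278 := rfl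
theorem F376310 : act 2 n189278 = n154061 := d3_1 D189278 (iv6 D154061) (iv2 F144655)
theorem F376311 : act 3 n189278 = n181149 := d7_1 D189278 (iv6 D181149) (iv3 F144656)
theorem F376312 : act 4 n189278 = n154238 := d10_1 D189278 (iv6 D154238) (iv4 F144657)
theorem F376313 : act 0 n154628 = n189278 := d21_4 F321924 (iv1 F321922) (iv5 F129895) (iv6 F306375) (iv6 D189278) (iv5 D93829) F68959 (iv5 F74336) (iv6 F301661) D76679
theorem F376314 : act 1 n153867 = n189278 := d15_0 (iv0 F376313) (iv7 F268350) F268348
theorem F376315 : act 7 n154627 = n189278 := d11_0 F376312 F361521 F348239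
def n189279 : Q := act 5 n93830
theorem D189279 : act 5 n93830 = n189279 := rfl
theorem F376316 : act 2 n189279 = n186449 := d2_1 D189279 (iv5 D186449) (iv2 F144661)
theorem F376317 : act 0 n189279 = n186800 := d18_0 F368047 F364605 F347561 F136719 (iv4 F69069) D93995 (iv4 F144819) (iv0 F157630) D189279
def n189280 : Q := act 5 n93840
theorem D189280 : act 5 n93840 = n189280 := rfl
def n189281 : Q := act 6 n93840
theorem D189281 : act 6 n93840 = n189281 := rfl
theorem F376318 : act 4 n189281 = n93842 := d10_1 D189281 (iv6 D93842) D93840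
def n189282 : Q := act 0 n93841
theorem D189282 : act 0 n93841 = n189282 := rfl
theorem F376319 : act 5 n189282 = n159729 := d21_2 D93841 D189282 F251656 F157713 (iv6 D43400) (iv5 F55260) (iv1 D34912) (iv5 F27767) D20776 D43865
theorem F376320 : act 6 n189282 = n151651 := d21_5 D151553 (iv1 F259190) (iv5 F368485) (iv6 F368489) D189282 F238512 F238460 F238399 F259150 F259136
theorem F376321 : act 2 n182279 = n189282 := d15_3 (iv0 D189282) F283584 (iv7 F283735)
theorem F376322 : act 1 n93846 = n189282 := d15_0 (iv0 D189282) (iv7 F283552) (iv2 F283565)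
theorem F376323 : act 7 n189282 = n151570 := d15_2 (iv0 F251745) F376322 (iv2 F251564)
theorem F376324 : act 3 n157721 = n189282 := d8_3 F376323 F238463 (iv7 F248568)
def n189283 : Q := act 5 n93844
theorem D189283 : act 5 n93844 = n189283 := rfl
theorem F376325 : act 3 n189283 = n93846 := d6_1 D189283 (iv5 D93846) D93844
theorem F376326 : act 6 n118751 = n189283 := d21_5 (iv5 D26377) F37293 (iv5 F56641) D79001 (iv1 F290484) (iv5 D189283) (iv1 F364170) F251901 (iv6 D114651) (iv1 F83621)
def n189284 : Q := act 6 n93844
theorem D189284 : act 6 n93844 = n189284 := rfl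
theorem F376327 : act 3 n189284 = n93847 := d7_1 D189284 (iv6 D93847) D93844
theorem F376328 : act 4 n189284 = n98576 := d10_1 D189284 F371271 (iv4 F367432)
def n189285 : Q := act 5 n93845
theorem D189285 : act 5 n93845 = n189285 := rfl
theorem F376329 : act 3 n189285 = n185984 := d6_1 D189285 (iv5 D185984) (iv3 F144669)
def n189286 : Q := act 6 n93845
theorem D189286 : act 6 n93845 = n189286 := rfl
theorem F376330 : act 3 n189286 = n103637 := d7_1 D189286 F335414 (iv3 F144669)
theorem F376331 : act 4 n189286 = n93847 := d10_1 D189286 (iv6 D93847) D93845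
theorem F376332 : act 0 n186797 = n189286 := d20_10 F376331 (iv1 F371854) (iv4 F292005) F292004 (iv1 F292375) (iv3 F143566) (iv4 D93077) D93074 F357581 (iv3 F368044)
def n189287 : Q := act 4 n93846
theorem D189287 : act 4 n93846 = n189287 := rfl
theorem F376333 : act 6 n189287 = n118752 := d10_2 F144670 D189287 (iv4 D118752)
theorem F376334 : act 1 n189287 = n148517 := d18_6 (iv1 F142402) D188580 F374065 (iv4 D93845) D93846 D189287 (iv4 F374091) F374087 (iv5 D187431)
theorem F376335 : act 0 n189283 = n164515 := d20_4 F374091 (iv1 F376334) (iv4 D189287) (iv3 F376325) F259287 F339764 F333604 F338694 (iv3 F370303) (iv1 F374087)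
def n189288 : Q := act 5 n93853
theorem D189288 : act 5 n93853 = n189288 := rfl
theorem F376336 : act 3 n189288 = n93854 := d6_1 D189288 (iv5 D93854) D93853
theorem F376337 : act 6 n189288 = n115227 := d21_3 (iv5 F251901) F364169 D189288 (iv1 D115227) (iv6 D53162) (iv5 D25783) D25780 D53149 D115189 (iv1 F363829)
def n189289 : Q := act 6 n93853
theorem D189289 : act 6 n93853 = n189289 := rfl
theorem F376338 : act 3 n189289 = n93855 := d7_1 D189289 (iv6 D93855) D93853
theorem F376339 : act 4 n189289 = n99017 := d10_1 D189289 (iv6 F367424) F367423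
def n189290 : Q := act 4 n93854
theorem D189290 : act 4 n93854 = n189290 := rfl
def n189291 : Q := act 6 n93854
theorem D189291 : act 6 n93854 = n189291 := rfl
theorem F376340 : act 3 n189291 = n115227 := d7_1 D189291 (iv6 F376337) F376336
theorem F376341 : act 0 n189291 = n150007 := d21_4 (iv5 D43873) D43871 D93854 D189291 (iv6 D150007) (iv5 F193503) F333234 (iv5 F342954) (iv6 D159736) F251646
def n189292 : Q := act 4 n93857
theorem D189292 : act 4 n93857 = n189292 := rfl
theorem F376342 : act 6 n189292 = n95855 := d10_2 F259546 D189292 F259549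
def n189293 : Q := act 6 n93859
theorem D189293 : act 6 n93859 = n189293 := rfl
theorem F376343 : act 4 n189293 = n137284 := d10_1 D189293 (iv6 F373898) F373897
theorem F376344 : act 5 n189293 = n106672 := d12_1 D189293 (iv6 F360345) F350498 (iv6 F350500) F193571
def n189294 : Q := act 0 n93868
theorem D189294 : act 0 n93868 = n189294 := rfl
theorem F376345 : act 4 n189294 = n114129 := d18_1 D189294 (iv1 D114129) F83259 D52687 D114144 (iv0 F354097) F354100 F178889 (iv5 F144692)
theorem F376346 : act 3 n189294 = n114816 := d20_5 (iv4 F290504) (iv1 F178939) F178936 (iv3 F144691) D189294 (iv4 F354100) F354097 (iv4 D114144) F83260 F290502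
theorem F376347 : act 5 n189294 = n176082 := d21_0 (iv1 D176082) D176083 (iv6 F370422) (iv1 D187457) (iv6 D90156) (iv5 D42138) F63356 (iv5 F68981) D93868 D189294
theorem F376348 : act 2 n114836 = n189294 := d15_3 (iv0 D189294) (iv0 F364024) (iv7 F352421)
theorem F376349 : act 1 n105428 = n189294 := d15_0 (iv0 D189294) F144693 (iv2 F161823)
theorem F376350 : act 7 n189294 = n114826 := d15_2 (iv0 F337889) F376349 F352408
theorem F376351 : act 6 n105398 = n176082 := d21_5 (iv5 F65468) (iv1 D23765) D23766 D48733 D105398 (iv5 F376347) (iv1 F376349) F161825 (iv6 D52980) (iv1 F55132)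
theorem F376352 : act 4 n176082 = n147551 := d10_1 F376351 (iv6 D147551) (iv4 F347787)
theorem E103334 : n175409 = n147380 := (c20_5 (iv4 F376352) (iv1 D176082) F128967 (iv3 F128795) D175409 F231096 F105397 (iv1 F51107) D32204 D69275 (iv1 F360144))
theorem F376353 : act 1 n147380 = n83758 := (sb E103334 (iv0 D175409))
def n189295 : Q := act 4 n93869
theorem D189295 : act 4 n93869 = n189295 := rfl
theorem F376354 : act 2 n189295 = n189216 := d1_1 D189295 (iv4 D189216) (iv2 F144694)
theorem F376355 : act 6 n189295 = n94142 := d10_2 (iv6 F144696) D189295 (iv4 D94142)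
theorem F376356 : act 7 n189295 = n96076 := d11_2 F178632 D189295 F363517
theorem F376357 : act 5 n189295 = n185465 := d16_1 D189295 F287730 (iv5 F147687) F363517 (iv5 D114556) (iv4 F144560) (iv5 F376131) (iv7 D189217) (iv2 F144694)
def n189296 : Q := act 4 n93870
theorem D189296 : act 4 n93870 = n189296 := rfl
theorem F376358 : act 2 n189296 = n94267 := d1_1 D189296 (iv4 D94267) (iv2 F144697)
theorem F376359 : act 6 n189296 = n103009 := d10_2 (iv6 F355639) D189296 (iv4 D103009)
theorem F376360 : act 7 n189296 = n94265 := d11_2 (iv7 F144699) D189296 (iv4 D94265)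
def n189297 : Q := act 4 n93873
theorem D189297 : act 4 n93873 = n189297 := rfl
theorem F376361 : act 2 n189297 = n113031 := d1_1 D189297 F176085 (iv2 F144706)
theorem F376362 : act 7 n189297 = n113021 := d11_2 (iv7 F144707) D189297 (iv4 D113021)
theorem F376363 : act 0 n189297 = n113027 := d18_2 F144709 D189297 F176080 (iv5 D106280) F114361 (iv0 F95757) (iv4 F97629) F97631 (iv5 F139270)
theorem F376364 : act 1 n189297 = n113026 := d18_6 (iv1 D43881) F32956 D20788 D43884 D93873 D189297 F176079 F164380 (iv5 D93870)
def n189298 : Q := act 6 n93873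
theorem D189298 : act 6 n93873 = n189298 := rfl
theorem F376365 : act 2 n189298 = n113034 := d3_1 D189298 (iv6 D113034) (iv2 F144706)
theorem F376366 : act 0 n189298 = n133404 := d21_10 F374370 (iv1 D92980) F291270 (iv6 D41418) (iv1 F291039) (iv6 F72755) (iv5 D46140) F69001 D93873 D189298
def n189299 : Q := act 3 n93874
theorem D189299 : act 3 n93874 = n189299 := rfl
theorem F376367 : act 2 n189299 = n114558 := d0_1 D189299 (iv3 F178635) (iv2 F163323) (iv3 F214487) F214486
theorem F376368 : act 5 n189299 = n110745 := d6_2 (iv5 F144710) D189299 (iv3 F171420)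
theorem F376369 : act 7 n189299 = n114557 := d8_2 F214492 D189299 (iv3 F376125)
theorem F376370 : act 0 n114559 = n189299 := d17_2 F83554 (iv5 F178637) F376368 (iv4 F171419) (iv5 F178634) (iv0 F376122) (iv5 D189215) (iv0 D93779) (iv4 F68985)
theorem F376371 : act 1 n106287 = n189299 := d17_6 (iv1 F77966) D49318 F77976 (iv5 D49126) (iv4 F77570) D106287 F376368 F171417 F95767
def n189300 : Q := act 4 n93874
theorem D189300 : act 4 n93874 = n189300 := rfl
theorem F376372 : act 0 n189300 = n119065 := d18_2 D93874 D189300 (iv4 D119065) (iv5 D54792) (iv4 F68990) F68986 (iv4 F68914) F68916 D43885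
theorem F376373 : act 1 n189300 = n106525 := d18_6 (iv1 D49217) (iv4 F37656) (iv1 F114359) F114361 (iv5 F144710) D189300 (iv4 D106525) (iv0 F163761) (iv5 D106505)
def n189301 : Q := act 6 n93874
theorem D189301 : act 6 n93874 = n189301 := rfl
theorem F376374 : act 5 n189301 = n188805 := d12_1 D189301 (iv6 D188805) (iv5 D92813) (iv6 F114363) (iv5 F144710)
def n189302 : Q := act 4 n93875
theorem D189302 : act 4 n93875 = n189302 := rfl
theorem F376375 : act 0 n189302 = n106525 := d18_2 (iv1 F144712) D189302 (iv4 D106525) F77749 F38876 (iv0 F65523) F32956 D20789 D43887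
theorem F376376 : act 1 n189302 = n119065 := d18_6 (iv1 F77942) F77939 (iv1 F77926) (iv4 F95753) (iv5 F144713) D189302 (iv4 D119065) (iv0 F86697) (iv5 D52670)
def n189303 : Q := act 0 n93876
theorem D189303 : act 0 n93876 = n189303 := rfl
theorem F376377 : act 4 n189303 = n105370 := d18_3 (iv1 D93875) D93876 D189303 (iv5 D105370) F76662 F97632 F97629 F95754 (iv5 F144713)
theorem F376378 : act 1 n93878 = n189303 := d15_0 (iv0 D189303) (iv7 F238156) F238155
theorem F376379 : act 2 n114102 = n189303 := d1_3 F376377 F161586 D114102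
def n189304 : Q := act 1 n93876
theorem D189304 : act 1 n93876 = n189304 := rfl
theorem F376380 : act 1 n189304 = n93878 := d15_1 D189304 (iv7 F214514) F214512
theorem F376381 : act 7 n189304 = n114102 := d15_2 (iv0 D189303) D189304 F376379
theorem F376382 : act 4 n189304 = n106695 := d18_7 F69002 F64164 F69001 (iv4 D43884) D43885 D93876 D189304 F164416 F77989
theorem F376383 : act 3 n93957 = n189304 := d5_5 F376382 F164413 (iv4 F334841) F144773 (iv4 F144779)
theorem F376384 : act 6 n93956 = n189304 := d10_0 F376382 F164417 F364515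
def n189305 : Q := act 3 n93876
theorem D189305 : act 3 n93876 = n189305 := rfl
def n189306 : Q := act 5 n93876
theorem D189306 : act 5 n93876 = n189306 := rfl
theorem F376385 : act 4 n189306 = n113029 := d16_2 D93876 D189306 (iv5 D113029) (iv4 D52170) (iv5 D25338) (iv4 F65513) D43887 (iv7 F97665) F97663
theorem F376386 : act 6 n113080 = n189306 := d10_0 F376385 F331491 D113080
def n189307 : Q := act 6 n93876
theorem D189307 : act 6 n93876 = n189307 := rfl
theorem F376387 : act 4 n189307 = n93877 := d10_1 D189307 (iv6 D93877) D93876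
def n189308 : Q := act 0 n93877
theorem D189308 : act 0 n93877 = n189308 := rfl
theorem F376388 : act 5 n189308 = n187528 := d21_0 (iv1 D187528) F138914 (iv6 D43920) (iv1 D20803) (iv6 F32957) (iv5 D20790) D20788 D43885 D93877 D189308
theorem F376389 : act 6 n93918 = n189308 := d21_5 (iv5 D9881) D9879 D20795 D43901 D93918 F376388 (iv1 D187528) F138914 (iv6 D43920) (iv1 D20803)
def n189309 : Q := act 1 n93877
theorem D189309 : act 1 n93877 = n189309 := rfl
theorem F376390 : act 5 n187527 = n189309 := d21_0 (iv1 D189309) (iv5 F370661) (iv6 D187520) (iv1 D90296) F65152 (iv5 D19929) D19927 D42211 D90305 D187527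
def n189310 : Q := act 7 n93877
theorem D189310 : act 7 n93877 = n189310 := rfl
theorem F376391 : act 1 n187895 = n189310 := d15_1 (iv0 F371777) (iv7 D189310) (iv2 F214516)
def n189311 : Q := act 3 n93878
theorem D189311 : act 3 n93878 = n189311 := rfl
theorem F376392 : act 4 n189311 = n105410 := d5_2 D93878 D189311 (iv3 D105410) (iv4 D48738) (iv3 F69008)
theorem F376393 : act 7 n189311 = n113080 := d8_2 F214514 D189311 (iv3 F214513)
def n189312 : Q := act 5 n93878
theorem D189312 : act 5 n93878 = n189312 := rfl
def n189313 : Q := act 6 n93878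
theorem D189313 : act 6 n93878 = n189313 := rfl
theorem F376394 : act 4 n189313 = n93879 := d10_1 D189313 (iv6 D93879) D93878
def n189314 : Q := act 0 n93880
theorem D189314 : act 0 n93880 = n189314 := rfl
theorem F376395 : act 4 n189314 = n106507 := d18_3 D43888 D93880 D189314 F163767 (iv4 F78490) F69003 (iv4 D43884) (iv0 D20788) D20790
theorem F376396 : act 1 n93882 = n189314 := d15_0 (iv0 D189314) (iv7 F374986) F374985
theorem F376397 : act 7 n189314 = n187653 := d15_2 F367595 F376396 F371111
def n189315 : Q := act 3 n93880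
theorem D189315 : act 3 n93880 = n189315 := rfl
theorem F376398 : act 4 n189315 = n189269 := d5_2 D93880 D189315 (iv3 F376271) (iv4 D151673) F108013
def n189316 : Q := act 5 n93880
theorem D189316 : act 5 n93880 = n189316 := rfl
def n189317 : Q := act 6 n93880
theorem D189317 : act 6 n93880 = n189317 := rfl
theorem F376399 : act 4 n189317 = n93881 := d10_1 D189317 (iv6 D93881) D93880
def n189318 : Q := act 0 n93881
theorem D189318 : act 0 n93881 = n189318 := rfl
def n189319 : Q := act 1 n93881
theorem D189319 : act 1 n93881 = n189319 := rfl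
def n189320 : Q := act 3 n93882
theorem D189320 : act 3 n93882 = n189320 := rfl
theorem F376400 : act 4 n189320 = n131129 := d5_2 D93882 D189320 (iv3 D131129) (iv4 D61518) (iv3 F83011)
def n189321 : Q := act 5 n93882
theorem D189321 : act 5 n93882 = n189321 := rfl
def n189322 : Q := act 6 n93882
theorem D189322 : act 6 n93882 = n189322 := rfl
theorem F376401 : act 4 n189322 = n93883 := d10_1 D189322 (iv6 D93883) D93882
def n189323 : Q := act 1 n93883
theorem D189323 : act 1 n93883 = n189323 := rfl
def n189324 : Q := act 7 n93883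
theorem D189324 : act 7 n93883 = n189324 := rfl
theorem F376402 : act 3 n189324 = n131132 := d8_1 D189324 (iv7 D131132) (iv3 F144716)
def n189325 : Q := act 3 n93884
theorem D189325 : act 3 n93884 = n189325 := rfl
theorem F376403 : act 4 n189325 = n106600 := d5_2 (iv4 F144717) D189325 F164181 F77833 (iv3 F77944)
theorem F376404 : act 7 n189325 = n131946 := d8_2 F163768 D189325 F211420
def n189326 : Q := act 5 n93884
theorem D189326 : act 5 n93884 = n189326 := rfl
def n189327 : Q := act 6 n93884
theorem D189327 : act 6 n93884 = n189327 := rfl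
theorem F376405 : act 2 n189327 = n93974 := d3_1 D189327 (iv6 F376183) (iv2 F376179)
theorem F376406 : act 4 n189327 = n106698 := d10_1 D189327 (iv6 D106698) (iv4 F144717)
def n189328 : Q := act 3 n93885
theorem D189328 : act 3 n93885 = n189328 := rfl
theorem F376407 : act 7 n189328 = n93975 := d8_2 F376180 D189328 F376182
def n189329 : Q := act 5 n93885
theorem D189329 : act 5 n93885 = n189329 := rfl
def n189330 : Q := act 6 n93885
theorem D189330 : act 6 n93885 = n189330 := rfl
def n189331 : Q := act 0 n93886
theorem D189331 : act 0 n93886 = n189331 := rfl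
theorem F376408 : act 5 n189331 = n106508 := d19_1 D189331 (iv4 D106508) F77734 (iv1 F77725) F77727 (iv4 D24052) (iv3 F18394) F10726 (iv5 D3496) (iv4 F10282) D2964 F10080 D5128 (iv4 F18075) (iv3 F65512) (iv1 D20789) D20790 D43890 D93886
theorem F376409 : act 5 n93886 = n189302 := d17_7 F163762 (iv5 D106505) (iv1 D49217) D49219 D106508 (iv5 F376408) (iv0 D189331) F376376 (iv4 D119065)
theorem F376410 : act 3 n189302 = n93887 := d6_1 F376409 (iv5 D93887) D93886
theorem F376411 : act 5 n113027 = n94275 := d16_1 (iv4 F176080) F145404 F376409 (iv4 D189302) F144713 F95753 (iv5 F164382) F164381 (iv2 F163323)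
theorem F376412 : act 3 n94276 = n113027 := d6_3 F376411 (iv3 D94275) D94276
theorem F376413 : act 2 n189329 = n189331 := d2_3 F376408 F164428 D189329
theorem F376414 : act 7 n189326 = n189331 := d13_0 F376408 F163768 D189326
def n189332 : Q := act 1 n93886
theorem D189332 : act 1 n93886 = n189332 := rfl
theorem F376415 : act 7 n189332 = n189329 := d15_2 (iv0 D189331) D189332 F376413
theorem F376416 : act 5 n189332 = n189237 := d17_7 F95763 (iv5 D61284) D61281 (iv5 F144713) D189302 (iv5 F376409) D189332 (iv0 D189237) (iv4 D93796)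
theorem F376417 : act 2 n189326 = n189332 := d2_3 F376416 (iv2 F376179) D189326
def n189333 : Q := act 2 n93886
theorem D189333 : act 2 n93886 = n189333 := rfl
theorem F376418 : act 6 n189333 = n93978 := d3_2 (iv6 F144718) D189333 (iv2 D93978)
def n189334 : Q := act 7 n93886
theorem D189334 : act 7 n93886 = n189334 := rfl
theorem F376419 : act 3 n189334 = n93888 := d8_1 D189334 (iv7 D93888) D93886
theorem F376420 : act 0 n189334 = n189326 := d19_4 (iv1 F65522) (iv5 F69010) (iv4 F144719) (iv3 F376419) (iv5 D189326) F144717 F77944 (iv1 F77688) (iv5 D49193) (iv4 D24004) F26385 F10737 (iv5 F26324) (iv4 F10283) (iv3 F10085) (iv1 F7655) (iv5 F18182) (iv4 F23548) D29666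
theorem F376421 : act 1 n189334 = n189329 := d15_1 (iv0 F376420) (iv7 F376415) (iv2 F376417)
theorem F376422 : act 1 n189333 = n189326 := d15_0 (iv0 F376420) (iv7 D189334) D189333
theorem F376423 : act 1 n189329 = n189333 := d15_0 F376422 F376414 (iv2 F376413)
def n189335 : Q := act 0 n93887
theorem D189335 : act 0 n93887 = n189335 := rfl
theorem F376424 : act 5 n189335 = n106525 := d17_3 (iv1 D93885) D93887 D189335 (iv4 D106525) F77749 (iv0 F65297) D90426 (iv0 F163765) (iv4 F164427)
def n189336 : Q := act 1 n93887
theorem D189336 : act 1 n93887 = n189336 := rfl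
theorem F376425 : act 5 n189336 = n119065 := d17_7 (iv1 F144711) (iv5 D43887) (iv1 D20789) D20790 D43890 D93887 D189336 (iv0 F376372) (iv4 D189300)
def n189337 : Q := act 4 n93887
theorem D189337 : act 4 n93887 = n189337 := rfl
theorem F376426 : act 5 n189337 = n94277 := d16_3 D43890 D93887 D189337 F145406 F69420 (iv4 F68914) (iv5 F144575) (iv7 D93797) F68911
theorem F376427 : act 0 n189337 = n113029 := d18_2 (iv1 D189336) D189337 (iv4 F376385) (iv5 D189306) (iv4 D93876) D93875 D189302 F376376 (iv5 F376425)
theorem F376428 : act 7 n189337 = n94276 := d15_2 (iv0 F355625) (iv0 F376427) (iv2 F367172)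
def n189338 : Q := act 6 n93887
theorem D189338 : act 6 n93887 = n189338 := rfl
theorem F376429 : act 5 n189338 = n93981 := d12_1 D189338 (iv6 D93981) (iv5 D43924) (iv6 F69009) D93887
def n189339 : Q := act 7 n93887
theorem D189339 : act 7 n93887 = n189339 := rfl
theorem F376430 : act 4 n189339 = n94276 := d11_1 D189339 (iv7 F376428) (iv4 D189337)
theorem F376431 : act 5 n189339 = n93888 := d13_1 D189339 (iv7 D93888) D93887
def n189340 : Q := act 6 n93888
theorem D189340 : act 6 n93888 = n189340 := rfl
theorem F376432 : act 4 n189340 = n93889 := d10_1 D189340 (iv6 D93889) (iv4 F144719)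
theorem F376433 : act 7 n189340 = n93982 := d14_2 D93888 D189340 (iv6 D93982) (iv7 D43925) (iv6 F69009)
def n189341 : Q := act 5 n93892
theorem D189341 : act 5 n93892 = n189341 := rfl
theorem F376434 : act 2 n189341 = n187615 := d2_1 D189341 F371021 (iv2 F152589)
theorem F376435 : act 0 n189341 = n188244 := d17_2 F152158 D189341 (iv5 D188244) F140157 (iv5 F349266) F238937 (iv5 F292999) (iv0 F293120) D98692
def n189342 : Q := act 4 n93893
theorem D189342 : act 4 n93893 = n189342 := rfl
theorem F376436 : act 2 n189342 = n187175 := d1_1 D189342 F369354 F238553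
theorem F376437 : act 3 n189342 = n110785 := d5_1 D189342 F341789 D132142 (iv4 F343676) F145454
theorem F376438 : act 6 n189342 = n187173 := d10_2 F238561 D189342 (iv4 F369345)
theorem F376439 : act 1 n189342 = n112909 := d18_6 D46137 D98692 F152158 (iv4 D93892) D93893 D189342 (iv4 F355758) (iv0 D98700) (iv5 D46139)
theorem F376440 : act 5 n189342 = n135614 := d21_8 (iv5 D92782) (iv1 D43406) D43407 (iv6 F76629) (iv1 F82182) D112697 (iv5 F175835) (iv1 F376439) (iv6 F373765) (iv1 F288109)
theorem F376441 : act 4 n135615 = n98698 := d17_4 (iv1 F376439) F376440 (iv1 D135614) D135615 (iv5 D98698) F293121 F292999 F238938 F355758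
def n189343 : Q := act 4 n93900
theorem D189343 : act 4 n93900 = n189343 := rfl
theorem F376442 : act 2 n189343 = n93905 := d1_1 D189343 (iv4 D93905) (iv2 F144726)
theorem F376443 : act 1 n189343 = n186415 := d18_6 (iv1 D46138) F34544 D22135 F69014 D93900 D189343 (iv4 D186415) (iv0 F367102) (iv5 D98698)
def n189344 : Q := act 6 n93900
theorem D189344 : act 6 n93900 = n189344 := rfl
theorem F376444 : act 2 n189344 = n93906 := d3_1 D189344 (iv6 D93906) (iv2 F144726)
theorem F376445 : act 5 n189344 = n155577 := d12_1 D189344 (iv6 D155577) (iv5 F328907) (iv6 D93901) D93900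
def n189345 : Q := act 4 n93903
theorem D189345 : act 4 n93903 = n189345 := rfl
theorem F376446 : act 0 n189345 = n135615 := d17_0 (iv5 D135615) D135613 (iv5 F369358) F238546 F108014 (iv0 F294847) D188166 F372532 D189345
def n189346 : Q := act 3 n93904
theorem D189346 : act 3 n93904 = n189346 := rfl
theorem F376447 : act 5 n189346 = n187471 := d6_2 F349245 D189346 F370470
theorem F376448 : act 6 n189346 = n142485 := d7_2 (iv6 F349247) D189346 (iv3 F342986)
def n189347 : Q := act 4 n93904
theorem D189347 : act 4 n93904 = n189347 := rfl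
theorem F376449 : act 1 n189347 = n135615 := d18_6 (iv1 F140084) (iv4 F370887) F370886 (iv4 F293719) F349245 D189347 F376441 F367103 (iv5 D186137)
def n189348 : Q := act 1 n93905
theorem D189348 : act 1 n93905 = n189348 := rfl
theorem F376450 : act 4 n189348 = n186414 := d18_7 (iv1 F293117) F72748 F294132 (iv4 F294675) D43896 D93905 D189348 F289198 F367105
theorem F376451 : act 2 n186415 = n189348 := d1_3 F376450 (iv2 D186414) D186415
def n189349 : Q := act 3 n93905
theorem D189349 : act 3 n93905 = n189349 := rfl
theorem F376452 : act 4 n189349 = n93916 := d5_2 D93905 D189349 (iv3 D93916) (iv4 D43900) (iv3 F69016)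
def n189350 : Q := act 5 n93905
theorem D189350 : act 5 n93905 = n189350 := rfl
def n189351 : Q := act 6 n93905
theorem D189351 : act 6 n93905 = n189351 := rfl
theorem F376453 : act 4 n189351 = n93906 := d10_1 D189351 (iv6 D93906) D93905
def n189352 : Q := act 0 n93906
theorem D189352 : act 0 n93906 = n189352 := rfl
def n189353 : Q := act 1 n93906
theorem D189353 : act 1 n93906 = n189353 := rfl
def n189354 : Q := act 7 n93906
theorem D189354 : act 7 n93906 = n189354 := rfl
theorem F376454 : act 3 n189354 = n93920 := d8_1 D189354 (iv7 D93920) (iv3 F144732)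
def n189355 : Q := act 3 n93908
theorem D189355 : act 3 n93908 = n189355 := rfl
theorem F376455 : act 4 n189355 = n189027 := d5_2 F374435 D189355 F375471 (iv4 D188682) D188681
theorem F376456 : act 5 n189355 = n151351 := d6_2 (iv5 F360969) D189355 (iv3 D151351)
theorem F376457 : act 1 n151351 = n187504 := d17_6 (iv1 D90790) D90792 D188083 (iv5 F375470) (iv4 F376455) F376456 (iv5 D187504) F235267 F235265
def n189356 : Q := act 6 n93908
theorem D189356 : act 6 n93908 = n189356 := rfl
theorem F376458 : act 2 n189356 = n188508 := d3_1 D189356 (iv6 F375153) (iv2 F375154)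
theorem F376459 : act 7 n189356 = n188509 := d14_2 (iv7 F360970) D189356 (iv6 F373772) F145358 D94238
theorem F376460 : act 0 n189356 = n182291 := d21_4 F349244 (iv1 D151350) (iv5 F360969) D189356 F283799 (iv5 D90682) (iv1 F335352) (iv5 D90609) (iv6 F177386) (iv1 F142651)
theorem F376461 : act 5 n185771 = n189356 := d21_2 D92774 (iv1 F288088) (iv6 D189356) (iv1 D93908) (iv6 D43897) D43896 D93903 F251609 F251607 (iv1 F135457)
theorem F376462 : act 0 n188507 = n189356 := d21_4 (iv5 F293769) (iv1 F369343) F369341 D188507 (iv6 D189356) F360969 F329796 (iv5 D43442) F292773 D47721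
def n189357 : Q := act 4 n93909
theorem D189357 : act 4 n93909 = n189357 := rfl
theorem F376463 : act 2 n189357 = n176905 := d1_1 D189357 F276263 (iv2 F294557)
def n189358 : Q := act 6 n93909
theorem D189358 : act 6 n93909 = n189358 := rfl
theorem F376464 : act 2 n189358 = n176932 := d3_1 D189358 (iv6 D176932) (iv2 F294557)
theorem F376465 : act 3 n189358 = n93911 := d7_1 D189358 (iv6 D93911) D93909
theorem F376466 : act 5 n189358 = n185857 := d12_1 D189358 (iv6 D185857) (iv5 D88520) D88521 (iv5 F144733)
def n189359 : Q := act 3 n93910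
theorem D189359 : act 3 n93910 = n189359 := rfl
theorem F376467 : act 5 n189359 = n172108 := d6_2 (iv5 F144735) D189359 F294677
def n189360 : Q := act 6 n93910
theorem D189360 : act 6 n93910 = n189360 := rfl
theorem F376468 : act 2 n189360 = n185911 := d3_1 D189360 F288407 (iv2 F144734)
theorem F376469 : act 4 n189360 = n93911 := d10_1 D189360 (iv6 D93911) D93910
def n189361 : Q := act 0 n93911
theorem D189361 : act 0 n93911 = n189361 := rfl
theorem F376470 : act 5 n189361 = n133272 := d17_3 (iv1 D185863) (iv5 F144739) D189361 (iv4 D133272) (iv5 F324228) F299413 F323673 F213415 F347566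
theorem F376471 : act 6 n189361 = n188526 := d21_5 (iv5 D42436) (iv1 F65552) (iv5 F69018) D93911 D189361 (iv5 D188526) (iv1 D92348) F293659 (iv6 D43926) (iv1 F65556)
theorem F376472 : act 0 n189361 = n185912 := d21_10 F288408 (iv1 F288291) (iv5 F288293) (iv6 D93881) (iv1 F144577) D189241 F376192 (iv1 F373758) D188526 (iv6 F376471)
def n189362 : Q := act 1 n93911
theorem D189362 : act 1 n93911 = n189362 := rfl
theorem F376473 : act 1 n189362 = n185912 := d15_1 D189362 (iv7 D185912) (iv2 F144738)
theorem F376474 : act 5 n133277 = n189362 := d21_6 (iv5 F69441) (iv1 F69442) F68262 D92794 D188785 (iv6 F374882) (iv1 D189362) F144739 (iv6 D88523) (iv1 F63669)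
def n189363 : Q := act 7 n93911
theorem D189363 : act 7 n93911 = n189363 := rfl
theorem F376475 : act 2 n189363 = n185912 := d4_1 D189363 (iv7 D185912) (iv2 F144738)
theorem F376476 : act 5 n189363 = n185864 := d13_1 D189363 (iv7 D185864) (iv5 F144739)
theorem F376477 : act 1 n185910 = n189363 := d15_1 D185910 (iv7 D189363) F144738
theorem F376478 : act 1 n189363 = n185909 := d15_0 (iv0 D185909) D185912 (iv2 F376475)
def n189364 : Q := act 3 n93914
theorem D189364 : act 3 n93914 = n189364 := rfl
def n189365 : Q := act 6 n93914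
theorem D189365 : act 6 n93914 = n189365 := rfl
theorem F376479 : act 4 n189365 = n188725 := d10_1 D189365 F374588 (iv4 F144744)
def n189366 : Q := act 3 n93915
theorem D189366 : act 3 n93915 = n189366 := rfl
theorem F376480 : act 4 n189366 = n93983 := d5_2 (iv4 F144747) D189366 F376262 F376258 (iv3 D189265)
def n189367 : Q := act 6 n93915
theorem D189367 : act 6 n93915 = n189367 := rfl
theorem F376481 : act 4 n189367 = n188557 := d10_1 D189367 F373945 (iv4 F144747)
def n189368 : Q := act 0 n93916
theorem D189368 : act 0 n93916 = n189368 := rfl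
theorem F376482 : act 5 n189368 = n97474 := d19_1 D189368 (iv4 D97474) F71796 (iv1 F71750) F291788 (iv4 F61360) (iv3 F31174) (iv1 F32372) (iv5 D20386) F15059 F14248 F17449 F292205 (iv4 F6604) F6603 D9879 D20795 D43900 D93916
def n189369 : Q := act 1 n93916
theorem D189369 : act 1 n93916 = n189369 := rfl
def n189370 : Q := act 2 n93916
theorem D189370 : act 2 n93916 = n189370 := rfl
def n189371 : Q := act 6 n93916
theorem D189371 : act 6 n93916 = n189371 := rfl
theorem F376483 : act 3 n189371 = n93917 := d7_1 D189371 (iv6 D93917) D93916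
def n189372 : Q := act 0 n93917
theorem D189372 : act 0 n93917 = n189372 := rfl
def n189373 : Q := act 1 n93917
theorem D189373 : act 1 n93917 = n189373 := rfl
def n189374 : Q := act 5 n93917
theorem D189374 : act 5 n93917 = n189374 := rfl
def n189375 : Q := act 7 n93917
theorem D189375 : act 7 n93917 = n189375 := rfl
theorem F376484 : act 4 n189375 = n93920 := d11_1 D189375 (iv7 D93920) (iv4 F144748)
def n189376 : Q := act 2 n93918
theorem D189376 : act 2 n93918 = n189376 := rfl
theorem F376485 : act 7 n93919 = n189376 := d15_2 (iv0 D93918) D93919 (iv2 D189376)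
def n189377 : Q := act 3 n93918
theorem D189377 : act 3 n93918 = n189377 := rfl
def n189378 : Q := act 4 n93918
theorem D189378 : act 4 n93918 = n189378 := rfl
def n189379 : Q := act 5 n93918
theorem D189379 : act 5 n93918 = n189379 := rfl
theorem F376486 : act 0 n189379 = n159349 := d21_1 D189379 F250865 (iv6 D93883) (iv1 D43889) F32957 (iv5 D9881) D9879 D20795 D43901 D93918
theorem F376487 : act 1 n189379 = n188816 := d15_1 (iv0 F376486) (iv7 D188816) (iv2 F250863)
def n189380 : Q := act 7 n93918
theorem D189380 : act 7 n93918 = n189380 := rfl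
theorem F376488 : act 2 n189380 = n93919 := d4_1 D189380 F376485 (iv2 D189376)
def n189381 : Q := act 3 n93919
theorem D189381 : act 3 n93919 = n189381 := rfl
def n189382 : Q := act 4 n93919
theorem D189382 : act 4 n93919 = n189382 := rfl
def n189383 : Q := act 5 n93919
theorem D189383 : act 5 n93919 = n189383 := rfl
theorem F376489 : act 6 n189383 = n188637 := d21_9 (iv5 F367190) (iv1 F367207) (iv5 F375031) (iv6 F375032) (iv1 F374308) F374305 (iv5 F375224) (iv1 F375227) D189383 (iv1 F374278)
theorem F376490 : act 0 n159349 = n189383 := d21_10 (iv5 D189383) (iv1 D93919) (iv5 F142668) (iv6 D92610) (iv1 D43323) (iv6 F65493) (iv5 D42405) D42403 (iv5 F114196) D159349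
def n189384 : Q := act 6 n93919
theorem D189384 : act 6 n93919 = n189384 := rfl
theorem F376491 : act 0 n189384 = n188521 := d21_10 (iv5 D188521) (iv1 F373759) (iv5 F376192) (iv6 D189241) (iv1 F144576) D93883 (iv5 F250865) F376490 (iv5 D189383) D189384
def n189385 : Q := act 5 n93929
theorem D189385 : act 5 n93929 = n189385 := rfl
theorem F376492 : act 2 n189385 = n93934 := d2_1 D189385 (iv5 D93934) (iv2 F144752)
theorem F376493 : act 3 n189385 = n96111 := d6_1 D189385 (iv5 D96111) F144755
theorem F376494 : act 4 n189385 = n189242 := d9_1 D189385 F376196 F294545 D186061 F331406 (iv5 D93801) F68918 D44827 D96068 F331384 F292586 D186066 (iv4 F331411) (iv5 D93930) D93929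
theorem F376495 : act 6 n189385 = n98135 := d12_2 F369722 D189385 (iv5 D98135) (iv6 F151325) F369726
theorem F376496 : act 7 n189385 = n96064 := d13_2 (iv7 F144753) D189385 (iv5 D96064)
theorem F376497 : act 0 n189385 = n96067 := d17_2 (iv1 F144756) D189385 F251775 F292568 (iv5 F292578) F331397 (iv5 D89650) D89648 (iv4 F293176)
theorem F376498 : act 1 n189385 = n94403 := d17_6 (iv1 F288316) (iv5 F376196) (iv1 F376198) (iv5 D93930) D93929 D189385 F292631 (iv0 D103309) (iv4 F135605)
def n189386 : Q := act 3 n93933
theorem D189386 : act 3 n93933 = n189386 := rfl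
theorem F376499 : act 2 n189386 = n187392 := d0_1 D189386 (iv3 D187392) F294582 (iv3 F144639) (iv2 F205493)
theorem F376500 : act 4 n189386 = n187392 := d5_2 F144762 D189386 (iv3 D187392) F294583 F144763
theorem F376501 : act 6 n189386 = n187392 := d7_2 F294584 D189386 (iv3 D187392)
theorem F376502 : act 7 n189386 = n95565 := d8_2 (iv7 F178346) D189386 F147235
theorem F376503 : act 0 n189386 = n96542 := d20_4 F292636 D44117 F144762 D189386 (iv3 F150141) (iv4 F270436) F270439 F149771 F71567 F293690
theorem F376504 : act 0 n96537 = n189386 := d20_4 (iv4 F136177) (iv1 F295338) F295340 F149508 (iv3 D189386) (iv4 F144762) F292632 (iv4 F293175) (iv3 F294111) (iv1 F294892)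
def n189387 : Q := act 6 n93934
theorem D189387 : act 6 n93934 = n189387 := rfl
theorem F376505 : act 2 n189387 = n98135 := d3_1 D189387 (iv6 F376495) F376492
theorem F376506 : act 3 n189387 = n95558 := d7_1 D189387 (iv6 D95558) (iv3 F144764)
theorem F376507 : act 5 n189387 = n98134 := d12_1 D189387 F369732 (iv5 D187291) F137956 D93934
def n189388 : Q := act 6 n93936
theorem D189388 : act 6 n93936 = n189388 := rfl
theorem F376508 : act 4 n189388 = n189387 := d10_1 D189388 (iv6 D189387) (iv4 F331388)
theorem F376509 : act 5 n189388 = n159583 := d12_1 D189388 F251355 (iv5 D90561) D90562 F251948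
theorem F376510 : act 7 n189388 = n114414 := d14_2 F331386 D189388 (iv6 D114414) F161796 (iv6 F331385)
def n189389 : Q := act 3 n93937
theorem D189389 : act 3 n93937 = n189389 := rfl
theorem F376511 : act 4 n189389 = n93943 := d5_2 D93937 D189389 (iv3 D93943) (iv4 D43909) (iv3 F69031)
theorem F376512 : act 5 n189389 = n185649 := d6_2 (iv5 F294676) D189389 (iv3 D185649)
theorem F376513 : act 0 n93943 = n181930 := d20_7 (iv4 F134053) F293833 (iv4 D45469) (iv3 F71719) (iv1 F331395) D189389 F376511 (iv4 D181930) F133319 D86896
theorem F376514 : act 0 n172109 = n189389 := d20_4 (iv4 F343052) (iv1 D89690) (iv4 F126987) (iv3 F270259) (iv3 D189389) (iv4 D93937) D93935 (iv4 F331392) F372712 (iv1 D188217)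
def n189390 : Q := act 6 n93937
theorem D189390 : act 6 n93937 = n189390 := rfl
theorem F376515 : act 2 n189390 = n130632 := d3_1 D189390 (iv6 F331412) (iv2 F331410)
theorem F376516 : act 4 n189390 = n93938 := d10_1 D189390 (iv6 D93938) D93937
theorem F376517 : act 0 n112972 = n189390 := d21_4 F96033 F47509 D52145 D112972 (iv6 D189390) F294676 (iv1 F135860) (iv5 F292594) F294549 (iv1 F96035)
theorem F376518 : act 7 n130634 = n189390 := d11_0 F376516 (iv7 F157673) D130634
theorem E103335 : n157238 = n130634 := (c15_2 F331413 D157238 F376518 F376515)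
theorem F376519 : act 0 n130634 = n74768 := (sb E103335 (iv1 D157238))
theorem F376520 : act 1 n107541 = n144786 := d18_6 (iv1 F175842) D130634 F376519 F112210 F82413 (iv4 F165921) (iv4 D144786) F175396 (iv5 F175841)
theorem F376521 : act 1 n144783 = n107541 := d15_0 F376520 F227665 (iv2 F227659)
def n189391 : Q := act 3 n93939
theorem D189391 : act 3 n93939 = n189391 := rfl
theorem F376522 : act 5 n189391 = n113780 := d6_2 (iv5 F251942) D189391 (iv3 D113780)
theorem F376523 : act 0 n189391 = n134483 := d20_10 F339546 F287431 (iv4 F142391) F142390 (iv1 F290659) (iv3 F137447) (iv4 F291300) D97357 F288024 D189391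
theorem F376524 : act 0 n134480 = n189391 := d17_0 F376522 F363888 D130914 F335796 D183848 F285652 D185167 F344332 (iv4 F339543)
def n189392 : Q := act 4 n93941
theorem D189392 : act 4 n93941 = n189392 := rfl
theorem F376525 : act 3 n189392 = n169915 := d5_1 D189392 F267339 F364715 (iv4 D93949) (iv3 F144767)
theorem F376526 : act 6 n189392 = n169913 := d10_2 F364699 D189392 (iv4 F364701)
theorem F376527 : act 0 n189392 = n128968 := d17_0 (iv5 D128968) (iv1 F363268) (iv5 D126212) F93363 F76627 D92797 (iv5 F177287) (iv0 F283807) D189392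
theorem F376528 : act 1 n189392 = n188715 := d18_6 F283793 (iv4 F251851) F283795 F137955 D93941 D189392 (iv4 D188715) D188714 F374531
def n189393 : Q := act 1 n93943
theorem D189393 : act 1 n93943 = n189393 := rfl
theorem F376529 : act 4 n189393 = n97470 := d17_9 F294711 (iv5 F294075) (iv1 D89989) D89991 D187378 F376207 (iv0 F376208) F144778 D189393
theorem F376530 : act 2 n97474 = n189393 := d1_3 F376529 F150249 D97474
def n189394 : Q := act 2 n93943
theorem D189394 : act 2 n93943 = n189394 := rfl
def n189395 : Q := act 6 n93943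
theorem D189395 : act 6 n93943 = n189395 := rfl
theorem F376531 : act 3 n189395 = n93944 := d7_1 D189395 (iv6 D93944) D93943
def n189396 : Q := act 1 n93944
theorem D189396 : act 1 n93944 = n189396 := rfl
def n189397 : Q := act 5 n93944
theorem D189397 : act 5 n93944 = n189397 := rfl
theorem F376532 : act 2 n189397 = n187378 := d2_1 D189397 F376207 F376205
theorem F376533 : act 4 n189397 = n187377 := d16_4 F364702 (iv5 D93947) (iv4 F144769) D189397 (iv5 D187377) (iv4 F147026) F367080 (iv7 F367661) F367659
def n189398 : Q := act 7 n93944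
theorem D189398 : act 7 n93944 = n189398 := rfl
theorem F376534 : act 4 n189398 = n93948 := d11_1 D189398 (iv7 D93948) (iv4 F144769)
theorem F376535 : act 1 n93956 = n189398 := d15_1 (iv0 F376208) (iv7 D189398) (iv2 F376205)
def n189399 : Q := act 4 n93945
theorem D189399 : act 4 n93945 = n189399 := rfl
theorem F376536 : act 0 n94051 = n189399 := d20_1 (iv4 F144895) (iv4 D189399) (iv3 F376222) (iv1 F369386) F369381 F238546 F157251 D93953 F334837 (iv1 D94053)
def n189400 : Q := act 5 n93945
theorem D189400 : act 5 n93945 = n189400 := rfl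
theorem F376537 : act 7 n189400 = n113775 := d13_2 (iv7 F376221) D189400 (iv5 F376210)
def n189401 : Q := act 6 n93945
theorem D189401 : act 6 n93945 = n189401 := rfl
def n189402 : Q := act 3 n93946
theorem D189402 : act 3 n93946 = n189402 := rfl
theorem F376538 : act 6 n189402 = n114557 := d7_2 F214495 D189402 (iv3 F376125)
def n189403 : Q := act 4 n93946
theorem D189403 : act 4 n93946 = n189403 := rfl
def n189404 : Q := act 0 n93947
theorem D189404 : act 0 n93947 = n189404 := rfl
theorem F376539 : act 4 n189404 = n135356 := d20_8 D186801 F368051 (iv4 D181983) F133373 F293585 (iv3 F148560) F364702 D189404 F217605 (iv1 F339516)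
theorem F376540 : act 6 n189404 = n135344 := d21_5 (iv5 F68271) F69040 D43913 (iv6 F144770) D189404 (iv5 F217584) (iv1 F209680) (iv5 F317740) (iv6 D90550) (iv1 F68270)
theorem F376541 : act 2 n189095 = n189404 := d15_3 (iv0 D189404) F364705 (iv7 F375732)
theorem F376542 : act 3 n189404 = n135346 := d0_2 (iv3 F375730) F376541 (iv2 F218476) F218477 (iv2 F218471)
def n189405 : Q := act 5 n93953
theorem D189405 : act 5 n93953 = n189405 := rfl
theorem F376543 : act 2 n189405 = n159928 := d2_1 D189405 F252196 (iv2 F334836)
theorem F376544 : act 3 n189405 = n187656 := d6_1 D189405 F371124 (iv3 F334837)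
theorem F376545 : act 6 n189405 = n121372 := d12_2 (iv6 F334838) D189405 F193612 F88622 (iv5 F114874)
def n189406 : Q := act 3 n93955
theorem D189406 : act 3 n93955 = n189406 := rfl
theorem F376546 : act 5 n189406 = n186667 := d6_2 (iv5 F144774) D189406 (iv3 D186667)
theorem F376547 : act 7 n189406 = n188528 := d8_2 (iv7 F144777) D189406 (iv3 D188528)
def n189407 : Q := act 6 n93955
theorem D189407 : act 6 n93955 = n189407 := rfl
theorem F376548 : act 4 n189407 = n186250 := d10_1 D189407 F289010 (iv4 F291089)
def n189408 : Q := act 2 n93956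
theorem D189408 : act 2 n93956 = n189408 := rfl
theorem F376549 : act 4 n189408 = n189276 := d1_2 F364515 D189408 F376296
theorem F376550 : act 5 n189408 = n189394 := d2_2 (iv5 F144778) D189408 (iv2 D189394)
def n189409 : Q := act 0 n93957
theorem D189409 : act 0 n93957 = n189409 := rfl
theorem F376551 : act 5 n189409 = n113080 := d19_1 D189409 (iv4 D113080) F82517 (iv1 F79015) (iv5 D49958) (iv4 D24359) F18754 (iv1 F10613) (iv5 D6551) (iv4 F5105) (iv3 F8771) (iv1 F18032) F18029 (iv4 F18437) D24064 D49302 D106695 (iv4 F376382) (iv3 F376383)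
def n189410 : Q := act 1 n93957
theorem D189410 : act 1 n93957 = n189410 := rfl
def n189411 : Q := act 5 n93957
theorem D189411 : act 5 n93957 = n189411 := rfl
theorem F376552 : act 6 n189411 = n189397 := d12_2 D93957 D189411 (iv5 D189397) (iv6 D93944) (iv5 F69041)
def n189412 : Q := act 7 n93957
theorem D189412 : act 7 n93957 = n189412 := rfl
theorem F376553 : act 3 n189412 = n114102 := d8_1 D189412 (iv7 F376381) (iv3 F376383)
theorem F376554 : act 4 n189412 = n93961 := d11_1 D189412 (iv7 D93961) (iv4 F144779)
def n189413 : Q := act 2 n93958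
theorem D189413 : act 2 n93958 = n189413 := rfl
theorem F376555 : act 7 n93959 = n189413 := d15_2 (iv0 D93958) D93959 (iv2 D189413)
def n189414 : Q := act 3 n93958
theorem D189414 : act 3 n93958 = n189414 := rfl
theorem F376556 : act 4 n189414 = n130573 := d20_6 (iv4 D105874) (iv1 F114876) (iv4 F334841) F144773 D93958 D189414 (iv1 D130573) D130574 F209150 (iv1 F162602)
theorem F376557 : act 5 n140783 = n189414 := d16_1 (iv4 F223871) F376556 F355413 F319051 (iv5 F250340) F350201 (iv5 D170481) (iv7 F326373) F180313
def n189415 : Q := act 4 n93958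
theorem D189415 : act 4 n93958 = n189415 := rfl
def n189416 : Q := act 5 n93958
theorem D189416 : act 5 n93958 = n189416 := rfl
theorem F376558 : act 3 n189416 = n140783 := d6_1 D189416 F376557 (iv3 D189414)
theorem F376559 : act 6 n140781 = n189416 := d7_0 F376558 (iv6 D140783) D140781
theorem E103336 : n188937 = n188826 := (c12_5 F376559 (iv5 D189416) F375215 (iv5 D188936) D188937 (iv5 F375017))
theorem F376560 : act 6 n188826 = n92913 := (sb E103336 (iv6 D188937))
theorem F376561 : act 6 n188934 = n140782 := d7_2 F376560 D188934 (iv3 F375016)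
theorem E103337 : n189323 = n188936 := ((c21_7 (iv5 D114479) (iv1 F83496) (iv5 F83441) D92823 D188826 F376560 D188936 (iv1 D189323) (iv5 F250865) (iv6 D159349) (iv1 F178539))).symm
theorem F376562 : act 0 n188936 = n93883 := (sb E103337 (iv1 D189323))
theorem F376563 : act 2 n134910 = n188934 := d3_3 F376561 (iv2 F225108) F332720
theorem F376564 : act 4 n134906 = n188934 := d10_3 F376561 (iv4 F373218) (iv6 F373221)
theorem F376565 : act 3 n188933 = n187550 := d0_4 (iv3 F371971) F376563 (iv3 D188934) (iv2 F375214) (iv2 F371969)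
theorem E103338 : n187966 = n92912 := (c8_4 D188933 F376565 (iv7 F371970) D187966)
theorem E103339 : n188929 = n90701 := ((D188929).symm.trans (sb E103338 (iv3 D187966)))
theorem F376566 : act 3 n90701 = n92912 := (sb E103339 (iv3 D188929))
theorem F376567 : act 3 n188931 = n187968 := d6_3 (iv5 D187968) F376566 D188931
theorem F376568 : act 3 n188932 = n187969 := d7_3 (iv6 D187969) F376566 D188932
def n189417 : Q := act 7 n93958
theorem D189417 : act 7 n93958 = n189417 := rfl
theorem F376569 : act 2 n189417 = n93959 := d4_1 D189417 F376555 (iv2 D189413)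
def n189418 : Q := act 3 n93959
theorem D189418 : act 3 n93959 = n189418 := rfl
def n189419 : Q := act 4 n93959
theorem D189419 : act 4 n93959 = n189419 := rfl
def n189420 : Q := act 5 n93959
theorem D189420 : act 5 n93959 = n189420 := rfl
theorem F376570 : act 6 n189420 = n189294 := d21_3 (iv5 F376237) (iv1 F376240) D189420 (iv1 F376349) (iv6 D105428) F76772 (iv1 F68283) D92813 D188805 F374960
def n189421 : Q := act 6 n93959
theorem D189421 : act 6 n93959 = n189421 := rfl
theorem F376571 : act 5 n189421 = n105398 := d12_1 D189421 F376351 (iv5 F376347) (iv6 F376570) (iv5 D189420)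
def n189422 : Q := act 1 n93960
theorem D189422 : act 1 n93960 = n189422 := rfl
theorem F376572 : act 1 n189422 = n164490 := d15_1 D189422 (iv7 F369506) F369503
theorem F376573 : act 7 n189422 = n159502 := d15_2 (iv0 F374961) D189422 (iv2 F374958)
theorem F376574 : act 5 n189401 = n189422 := d21_6 F68934 (iv1 F32925) D20800 D43910 D93945 D189401 (iv1 D189422) (iv5 D93960) (iv6 D43917) (iv1 F68936)
theorem F376575 : act 3 n164200 = n189422 := d8_3 F376573 F251184 (iv7 F258796)
theorem F376576 : act 6 n173672 = n189422 := d14_5 F376573 (iv6 D159502) F114396 F324638 (iv7 F272171)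
def n189423 : Q := act 7 n93960
theorem D189423 : act 7 n93960 = n189423 := rfl
theorem F376577 : act 2 n189423 = n164490 := d4_1 D189423 (iv7 F369506) F369503
theorem F376578 : act 3 n189423 = n148890 := d8_1 D189423 F359661 F157312
theorem F376579 : act 5 n189423 = n93961 := d13_1 D189423 (iv7 D93961) D93960
theorem F376580 : act 1 n189423 = n159502 := d15_0 (iv0 F369507) F369506 (iv2 F376577)
def n189424 : Q := act 6 n93964
theorem D189424 : act 6 n93964 = n189424 := rfl
theorem F376581 : act 2 n189424 = n93966 := d3_1 D189424 (iv6 D93966) D93964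
def n189425 : Q := act 3 n93965
theorem D189425 : act 3 n93965 = n189425 := rfl
theorem F376582 : act 4 n189425 = n93967 := d5_2 D93965 D189425 (iv3 D93967) (iv4 D43919) D43918
theorem F376583 : act 5 n189425 = n183478 := d6_2 F331367 D189425 (iv3 F293686)
theorem F376584 : act 0 n93967 = n187378 := d20_7 D96954 F294043 F116025 (iv3 F135424) (iv1 F295133) D189425 F376582 (iv4 D187378) F138237 (iv1 F294079)
theorem F376585 : act 0 n93968 = n189371 := d21_4 F144853 (iv1 D93915) (iv5 F69042) D93968 (iv6 D189371) (iv5 F144782) F376584 F376207 (iv6 D189246) (iv1 F144856)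
def n189426 : Q := act 6 n93965
theorem D189426 : act 6 n93965 = n189426 := rfl
theorem F376586 : act 4 n189426 = n93966 := d10_1 D189426 (iv6 D93966) D93965
def n189427 : Q := act 0 n93966
theorem D189427 : act 0 n93966 = n189427 := rfl
theorem F376587 : act 5 n189427 = n114536 := d21_0 (iv1 F248611) F248608 (iv6 D114420) F114604 (iv6 F331385) F331384 F157810 F135606 D93966 D189427
def n189428 : Q := act 1 n93966
theorem D189428 : act 1 n93966 = n189428 := rfl
theorem F376588 : act 5 n114537 = n189428 := d21_0 (iv1 D189428) (iv5 F370683) (iv6 D187525) (iv1 F178557) (iv6 D114495) (iv5 D52847) (iv1 F54604) (iv5 F112698) D157737 (iv1 F248610)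
theorem F376589 : act 6 n131126 = n189428 := d21_5 (iv5 D14066) D14063 (iv5 F46787) D61517 D131126 (iv5 F376588) (iv1 D114537) (iv5 F97668) (iv6 D62621) (iv1 D29613)
def n189429 : Q := act 7 n93966
theorem D189429 : act 7 n93966 = n189429 := rfl
theorem F376590 : act 3 n189429 = n93971 := d8_1 D189429 (iv7 D93971) (iv3 F144781)
theorem F376591 : act 6 n189429 = n164492 := d14_1 D189429 F376229 (iv6 D189250) F144611 D93966
def n189430 : Q := act 1 n93967
theorem D189430 : act 1 n93967 = n189430 := rfl
theorem F376592 : act 7 n189430 = n189397 := d15_2 (iv0 F376584) D189430 F376532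
theorem F376593 : act 4 n189430 = n185599 := d17_9 F356264 (iv5 D97469) (iv1 D45518) D45520 D97474 (iv5 F376482) (iv0 D189368) (iv5 F144782) D189430
theorem F376594 : act 2 n185603 = n189430 := d1_3 F376593 F287923 D185603
theorem F376595 : act 5 n189398 = n189430 := d9_0 F376593 (iv5 D185599) (iv4 F148555) (iv5 F367660) F367665 F159980 (iv4 F376206) (iv5 F376207) (iv4 D187378) (iv5 D89991) (iv4 F70072) (iv5 F294500) D183504 F364707 (iv4 F376534)
def n189431 : Q := act 2 n93967
theorem D189431 : act 2 n93967 = n189431 := rfl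
theorem F376596 : act 5 n189431 = n189370 := d2_2 (iv5 F144782) D189431 (iv2 D189370)
def n189432 : Q := act 6 n93967
theorem D189432 : act 6 n93967 = n189432 := rfl
theorem F376597 : act 3 n189432 = n93968 := d7_1 D189432 (iv6 D93968) D93967
def n189433 : Q := act 1 n93968
theorem D189433 : act 1 n93968 = n189433 := rfl
def n189434 : Q := act 5 n93968
theorem D189434 : act 5 n93968 = n189434 := rfl
theorem F376598 : act 6 n189434 = n189374 := d12_2 D93968 D189434 (iv5 D189374) (iv6 D93917) (iv5 F69042)
def n189435 : Q := act 7 n93968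
theorem D189435 : act 7 n93968 = n189435 := rfl
theorem F376599 : act 4 n189435 = n93971 := d11_1 D189435 (iv7 D93971) (iv4 F144783)
theorem F376600 : act 5 n189315 = n189435 := d16_7 (iv4 D187903) (iv5 D90642) (iv4 F139553) D187890 (iv4 F375386) F376272 (iv4 F376398) (iv7 D189435) (iv2 F371787)
theorem F376601 : act 3 n189435 = n189316 := d6_1 F376600 (iv5 D189316) D189315
theorem F376602 : act 7 n189434 = n189315 := d13_0 F376600 (iv7 D189435) D189434
theorem F376603 : act 3 n188817 = n189434 := d8_3 F376602 (iv3 D189315) (iv7 F374986)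
theorem F376604 : act 5 n189432 = n188817 := d6_0 F376603 (iv5 D189434) (iv3 F376597)
theorem F376605 : act 2 n189321 = n189432 := d2_3 F376604 F374985 D189321
theorem F376606 : act 7 n189316 = n189432 := d13_0 F376604 F374986 D189316
theorem F376607 : act 6 n189431 = n189321 := d3_0 F376605 (iv6 D189432) D189431
def n189436 : Q := act 2 n93969
theorem D189436 : act 2 n93969 = n189436 := rfl
theorem F376608 : act 7 n93970 = n189436 := d15_2 (iv0 D93969) D93970 (iv2 D189436)
def n189437 : Q := act 3 n93969
theorem D189437 : act 3 n93969 = n189437 := rfl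
def n189438 : Q := act 4 n93969
theorem D189438 : act 4 n93969 = n189438 := rfl
def n189439 : Q := act 6 n93969
theorem D189439 : act 6 n93969 = n189439 := rfl
def n189440 : Q := act 7 n93969
theorem D189440 : act 7 n93969 = n189440 := rfl
theorem F376609 : act 2 n189440 = n93970 := d4_1 D189440 F376608 (iv2 D189436)
def n189441 : Q := act 3 n93970
theorem D189441 : act 3 n93970 = n189441 := rfl
theorem F376610 : act 5 n189441 = n120450 := d6_2 F371907 D189441 (iv3 F371905)
theorem F376611 : act 0 n95919 = n189441 := d17_2 (iv1 F287205) F364048 F376610 (iv4 D120450) (iv5 D55451) D55450 (iv5 F304537) F151237 (iv4 F287204)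
theorem F376612 : act 1 n95936 = n189441 := d15_0 (iv0 F376611) F376171 F376167
theorem F376613 : act 0 n188626 = n187943 := d21_4 F292119 D100254 F364346 D188626 (iv6 F371902) (iv5 F376610) (iv1 F376612) (iv5 F364047) F364059 (iv1 F364351)
def n189442 : Q := act 4 n93970
theorem D189442 : act 4 n93970 = n189442 := rfl
theorem F376614 : act 0 n189442 = n93975 := d20_7 (iv4 D133639) (iv1 F97854) D131115 F361789 F376611 (iv3 D189441) D189442 (iv4 F144912) (iv3 F345019) (iv1 F215039)
def n189443 : Q := act 6 n93970
theorem D189443 : act 6 n93970 = n189443 := rfl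
def n189444 : Q := act 0 n93972
theorem D189444 : act 0 n93972 = n189444 := rfl
theorem F376615 : act 3 n189444 = n189274 := d20_5 (iv4 D92418) (iv1 F69092) F69093 D93972 D189444 F376292 D189275 F376305 (iv3 D187905) (iv1 F142143)
theorem F376616 : act 6 n189273 = n189444 := d7_0 F376615 (iv6 D189274) D189273
def n189445 : Q := act 1 n93972
theorem D189445 : act 1 n93972 = n189445 := rfl
def n189446 : Q := act 2 n93972
theorem D189446 : act 2 n93972 = n189446 := rfl
def n189447 : Q := act 4 n93972
theorem D189447 : act 4 n93972 = n189447 := rfl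
theorem F376617 : act 5 n185529 = n189447 := d19_1 D185529 (iv4 D189447) (iv3 D93972) (iv1 F69049) (iv5 D43924) (iv4 D20804) (iv3 F15689) D20947 F291591 (iv4 F32433) F32897 (iv1 D20746) (iv5 D9832) (iv4 F6771) (iv3 F16319) (iv1 F16926) D19409 D41261 D88378
def n189448 : Q := act 6 n93972
theorem D189448 : act 6 n93972 = n189448 := rfl
theorem F376618 : act 3 n189448 = n93973 := d7_1 D189448 (iv6 D93973) D93972
def n189449 : Q := act 0 n93973
theorem D189449 : act 0 n93973 = n189449 := rfl
def n189450 : Q := act 1 n93973
theorem D189450 : act 1 n93973 = n189450 := rfl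
def n189451 : Q := act 5 n93973
theorem D189451 : act 5 n93973 = n189451 := rfl
def n189452 : Q := act 7 n93973
theorem D189452 : act 7 n93973 = n189452 := rfl
theorem F376619 : act 4 n189452 = n159596 := d11_1 D189452 F251384 F144878
def n189453 : Q := act 0 n93974
theorem D189453 : act 0 n93974 = n189453 := rfl
def n189454 : Q := act 1 n93974
theorem D189454 : act 1 n93974 = n189454 := rfl
def n189455 : Q := act 4 n93974
theorem D189455 : act 4 n93974 = n189455 := rfl
theorem F376620 : act 2 n189455 = n106698 := d1_1 D189455 (iv4 F376406) F376405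
theorem F376621 : act 3 n189455 = n133581 := d5_1 D189455 F345020 F144907 F69127 D93974
theorem F376622 : act 6 n189455 = n106696 := d10_2 F376183 D189455 (iv4 F376178)
theorem F376623 : act 5 n113675 = n189455 := d12_5 F376622 (iv5 D106696) F77940 D52487 D113675
def n189456 : Q := act 0 n93975
theorem D189456 : act 0 n93975 = n189456 := rfl
def n189457 : Q := act 5 n93975
theorem D189457 : act 5 n93975 = n189457 := rfl
theorem F376624 : act 3 n189457 = n189332 := d6_1 D189457 F376416 (iv3 F376182)
def n189458 : Q := act 0 n93976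
theorem D189458 : act 0 n93976 = n189458 := rfl
theorem F376625 : act 2 n93980 = n189458 := d15_3 (iv0 D189458) (iv0 D93976) D93980
theorem F376626 : act 4 n189458 = n188512 := d1_2 F292613 F376625 (iv2 D188512)
theorem F376627 : act 5 n189458 = n189260 := d2_2 (iv5 F144787) F376625 (iv2 D189260)
theorem F376628 : act 7 n189458 = n93978 := d4_2 D93980 F376625 (iv2 D93978)
theorem F376629 : act 1 n93977 = n189458 := d15_1 D93977 F376628 (iv2 D93978)
def n189459 : Q := act 2 n93976
theorem D189459 : act 2 n93976 = n189459 := rfl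
theorem F376630 : act 7 n93977 = n189459 := d15_2 (iv0 D93976) D93977 (iv2 D189459)
def n189460 : Q := act 3 n93976
theorem D189460 : act 3 n93976 = n189460 := rfl
def n189461 : Q := act 4 n93976
theorem D189461 : act 4 n93976 = n189461 := rfl
def n189462 : Q := act 5 n93976
theorem D189462 : act 5 n93976 = n189462 := rfl
def n189463 : Q := act 6 n93976
theorem D189463 : act 6 n93976 = n189463 := rfl
def n189464 : Q := act 7 n93976
theorem D189464 : act 7 n93976 = n189464 := rfl
theorem F376631 : act 2 n189464 = n93977 := d4_1 D189464 F376630 (iv2 D189459)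
def n189465 : Q := act 3 n93977
theorem D189465 : act 3 n93977 = n189465 := rfl
theorem F376632 : act 4 n189247 = n189465 := d20_2 F376206 D189247 (iv3 D189465) (iv1 D93977) (iv3 D43923) (iv4 D20804) D20802 D43916 D93956 F376208
theorem F376633 : act 2 n189465 = n189399 := d1_1 F376632 (iv4 D189399) (iv2 F376220)
theorem F376634 : act 7 n189465 = n189403 := d11_2 (iv7 F376219) F376632 (iv4 D189403)
theorem F376635 : act 3 n189403 = n189459 := d8_1 F376634 (iv7 F376630) D189465
theorem F376636 : act 1 n94051 = n189403 := d15_1 (iv0 F376536) (iv7 F376634) F376633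
def n189466 : Q := act 4 n93977
theorem D189466 : act 4 n93977 = n189466 := rfl
def n189467 : Q := act 5 n93977
theorem D189467 : act 5 n93977 = n189467 := rfl
def n189468 : Q := act 6 n93977
theorem D189468 : act 6 n93977 = n189468 := rfl
def n189469 : Q := act 0 n93978
theorem D189469 : act 0 n93978 = n189469 := rfl
theorem F376637 : act 1 n93980 = n189469 := d15_0 (iv0 D189469) (iv7 F376628) (iv2 F376625)
def n189470 : Q := act 1 n93978
theorem D189470 : act 1 n93978 = n189470 := rfl
theorem F376638 : act 1 n189470 = n93980 := d15_1 D189470 (iv7 D93980) D93978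
def n189471 : Q := act 5 n93978
theorem D189471 : act 5 n93978 = n189471 := rfl
theorem F376639 : act 2 n189471 = n93979 := d2_1 D189471 (iv5 D93979) D93978
theorem F376640 : act 3 n189471 = n189458 := d6_1 D189471 F376627 F376245
theorem F376641 : act 7 n189471 = n189260 := d13_2 F376628 D189471 (iv5 F376627)
theorem F376642 : act 1 n189259 = n189471 := d15_1 D189259 F376641 (iv2 D189260)
theorem F376643 : act 1 n189471 = n189258 := d15_0 (iv0 D189258) F144785 (iv2 F376639)
def n189472 : Q := act 0 n93979
theorem D189472 : act 0 n93979 = n189472 := rfl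
theorem F376644 : act 1 n189260 = n189472 := d15_0 (iv0 D189472) (iv7 F144785) D189260
def n189473 : Q := act 1 n93979
theorem D189473 : act 1 n93979 = n189473 := rfl
theorem F376645 : act 1 n189473 = n189260 := d15_1 D189473 (iv7 F376641) F376639
def n189474 : Q := act 4 n93979
theorem D189474 : act 4 n93979 = n189474 := rfl
theorem F376646 : act 3 n189474 = n96079 := d5_1 D189474 F363535 F144570 (iv4 F69043) (iv3 F144784)
theorem F376647 : act 7 n189474 = n189235 := d11_2 F144785 D189474 F376173
theorem F376648 : act 6 n96077 = n189474 := d7_0 F376646 (iv6 D96079) D96077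
def n189475 : Q := act 6 n93979
theorem D189475 : act 6 n93979 = n189475 := rfl
theorem F376649 : act 3 n189475 = n93981 := d7_1 D189475 (iv6 D93981) (iv3 F144784)
theorem F376650 : act 4 n189475 = n96077 := d10_1 D189475 F376648 (iv4 D189474)
def n189476 : Q := act 6 n93980
theorem D189476 : act 6 n93980 = n189476 := rfl
theorem F376651 : act 3 n189476 = n93982 := d7_1 D189476 (iv6 D93982) (iv3 F144786)
theorem F376652 : act 4 n189476 = n188513 := d10_1 D189476 (iv6 D188513) F292613
theorem F376653 : act 0 n189359 = n189476 := d20_4 (iv4 D43900) D43898 D93910 D189359 F376651 F144790 D93983 (iv4 F376480) (iv3 D189366) (iv1 D93915)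
def n189477 : Q := act 0 n93981
theorem D189477 : act 0 n93981 = n189477 := rfl
def n189478 : Q := act 1 n93981
theorem D189478 : act 1 n93981 = n189478 := rfl
theorem F376654 : act 1 n189478 = n189340 := d15_1 D189478 F376433 F144789
def n189479 : Q := act 7 n93981
theorem D189479 : act 7 n93981 = n189479 := rfl
theorem F376655 : act 2 n189479 = n189340 := d4_1 D189479 F376433 F144789
theorem F376656 : act 4 n189479 = n189241 := d11_1 D189479 F376193 (iv4 F144788)
theorem F376657 : act 6 n189479 = n189240 := d14_1 D189479 (iv7 D189240) F144573 (iv7 F69044) D93981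
theorem F376658 : act 1 n189340 = n189477 := d15_0 (iv0 D189477) D189479 F376655
def n189480 : Q := act 0 n93982
theorem D189480 : act 0 n93982 = n189480 := rfl
theorem F376659 : act 1 n189479 = n189480 := d15_0 (iv0 D189480) (iv7 F376433) (iv2 F376655)
def n189481 : Q := act 1 n93982
theorem D189481 : act 1 n93982 = n189481 := rfl
theorem F376660 : act 1 n189481 = n189479 := d15_1 D189481 (iv7 D189479) (iv2 F144789)
def n189482 : Q := act 5 n93982
theorem D189482 : act 5 n93982 = n189482 := rfl
theorem F376661 : act 2 n189482 = n189338 := d2_1 D189482 F376429 (iv2 F144789)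
theorem F376662 : act 6 n189482 = n189239 := d12_2 D93982 D189482 (iv5 D189239) F144573 (iv5 F69048)
def n189483 : Q := act 2 n93983
theorem D189483 : act 2 n93983 = n189483 := rfl
theorem F376663 : act 7 n93984 = n189483 := d15_2 (iv0 D93983) D93984 (iv2 D189483)
def n189484 : Q := act 5 n93983
theorem D189484 : act 5 n93983 = n189484 := rfl
def n189485 : Q := act 6 n93983
theorem D189485 : act 6 n93983 = n189485 := rfl
theorem F376664 : act 5 n189485 = n175936 := d21_6 (iv5 D43846) (iv1 F32924) (iv5 F32961) D43926 D93983 D189485 (iv1 F353837) F363541 (iv6 D102967) (iv1 F293753)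
def n189486 : Q := act 7 n93983
theorem D189486 : act 7 n93983 = n189486 := rfl
theorem F376665 : act 2 n189486 = n93984 := d4_1 D189486 F376663 (iv2 D189483)
def n189487 : Q := act 3 n93984
theorem D189487 : act 3 n93984 = n189487 := rfl
def n189488 : Q := act 4 n93984
theorem D189488 : act 4 n93984 = n189488 := rfl
def n189489 : Q := act 5 n93984
theorem D189489 : act 5 n93984 = n189489 := rfl
theorem F376666 : act 6 n189489 = n176933 := d21_9 (iv5 F355648) (iv1 F177214) F177212 (iv6 D94270) (iv1 F144705) (iv6 F373756) (iv5 F376192) (iv1 F376194) D189489 (iv1 F276294)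
theorem F376667 : act 2 n187187 = n189489 := d3_3 F376666 (iv2 F364457) D187187
theorem E103340 : n189486 = n189262 := (c2_4 (iv5 F376248) F376667 (iv5 D189489) (iv2 F376665))
theorem F376668 : act 2 n189262 = n93984 := (sb E103340 F376665)
theorem F376669 : act 7 n189262 = n93983 := (sb E103340 (iv7 D189486))
theorem F376670 : act 7 n189484 = n187187 := d13_2 F376669 D189484 F376248
theorem E103341 : n189483 = n189261 := (c15_4 (iv0 D189261) D189262 F376669 D189483)
theorem F376671 : act 2 n189261 = n93983 := (sb E103341 (iv2 D189483))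
theorem F376672 : act 7 n189261 = n93984 := (sb E103341 (iv7 F376663))
def n189490 : Q := act 6 n93984
theorem D189490 : act 6 n93984 = n189490 := rfl
theorem F376673 : act 5 n189490 = n144785 := d21_6 (iv5 D43885) (iv1 F68916) (iv5 F144575) D189241 (iv1 F376194) D189490 F364806 (iv5 F376210) (iv6 F376211) (iv1 D93875)
theorem F376674 : act 3 n144787 = n189490 := d6_3 F376673 (iv3 D144785) D144787
theorem E103342 : n189487 = n110335 := (c7_4 (iv6 F227668) F376674 (iv6 D189490) D189487)
theorem F376675 : act 3 n110335 = n93984 := (sb E103342 (iv3 D189487))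
theorem E103343 : n189261 = n133661 := (c8_3 (iv7 F171484) F376675 (iv7 F376672) (iv3 D133661))
theorem F376676 : act 0 n133661 = n93889 := (sb E103343 (iv1 F376246))
theorem F376677 : act 1 n133661 = n93816 := (sb E103343 (iv0 D189261))
theorem F376678 : act 2 n133661 = n93983 := (sb E103343 F376671)
theorem F376679 : act 7 n133661 = n93984 := (sb E103343 F376672)
theorem F376680 : act 0 n133662 = n108217 := d20_7 (iv4 D44855) (iv1 F70412) D96078 F363534 (iv1 F376677) (iv3 D133661) D133662 F167331 (iv3 F348072) F147608
theorem F376681 : act 1 n133662 = n185660 := d15_1 (iv0 F376680) F361220 (iv2 F167330)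
def n189491 : Q := act 5 n93985
theorem D189491 : act 5 n93985 = n189491 := rfl
theorem F376682 : act 2 n189491 = n95996 := d2_1 D189491 (iv5 D95996) (iv2 F152531)
theorem F376683 : act 7 n189491 = n95782 := d13_2 (iv7 F157270) D189491 (iv5 D95782)
theorem F376684 : act 0 n189491 = n96029 := d17_2 D93985 D189491 (iv5 F160712) F160711 D188030 (iv0 F372179) (iv5 D94002) (iv0 D43937) (iv4 F69053)
theorem F376685 : act 1 n189491 = n95535 := d17_6 (iv1 D47730) D47732 D102929 F293779 F294534 D189491 F294017 (iv0 F284060) (iv4 D102924)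
def n189492 : Q := act 3 n93991
theorem D189492 : act 3 n93991 = n189492 := rfl
theorem F376686 : act 4 n189492 = n112271 := d5_2 D93991 D189492 F346895 (iv4 F103329) (iv3 F305027)
theorem F376687 : act 6 n189492 = n117011 := d7_2 F363532 D189492 (iv3 F226687)
theorem F376688 : act 7 n189492 = n96007 := d8_2 (iv7 F144812) D189492 (iv3 D96007)
theorem F376689 : act 0 n189492 = n111859 := d20_4 (iv4 D185691) (iv1 F294000) D93991 D189492 F327740 (iv4 D94292) D94290 F376261 F376263 (iv1 F348100)
def n189493 : Q := act 5 n93994
theorem D189493 : act 5 n93994 = n189493 := rfl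
theorem F376690 : act 2 n189493 = n186661 := d2_1 D189493 (iv5 D186661) F344273
theorem F376691 : act 3 n189493 = n189226 := d6_1 D189493 (iv5 D189226) (iv3 F144817)
theorem F376692 : act 7 n189493 = n151977 := d13_2 (iv7 F344272) D189493 F375296
theorem F376693 : act 6 n188162 = n189493 := d21_5 (iv5 D107896) F78792 (iv5 F114874) (iv6 F334838) (iv1 F372511) (iv5 D189493) (iv1 F144818) D186658 F367578 F167453
theorem F376694 : act 4 n189493 = n151980 := d10_1 F376693 (iv6 F292422) D188162
theorem F376695 : act 0 n94018 = n189493 := d20_10 F376694 (iv1 F364665) (iv4 F369306) F369301 F331381 F144588 D93803 (iv1 F144849) (iv4 D94019) D94018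
theorem F376696 : act 1 n186661 = n186387 := d15_0 (iv0 F375295) (iv7 F376692) F376690
theorem F376697 : act 0 n186662 = n100686 := d21_4 (iv5 F366992) (iv1 F376696) (iv5 D186661) D186662 (iv6 D100686) (iv5 F329548) D150764 (iv5 F340078) D188705 (iv1 F374494)
def n189494 : Q := act 5 n93995
theorem D189494 : act 5 n93995 = n189494 := rfl
theorem F376698 : act 2 n189494 = n151977 := d2_1 D189494 F375296 F344270
theorem F376699 : act 3 n189494 = n186140 := d6_1 D189494 F367099 F292998
theorem F376700 : act 7 n189494 = n186661 := d13_2 F344263 D189494 (iv5 D186661)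
theorem F376701 : act 0 n189494 = n94018 := d17_2 F144820 D189494 F144844 F74814 D47591 (iv0 F135033) (iv5 D87571) (iv0 F135032) (iv4 F136654)
theorem F376702 : act 4 n189494 = n151497 := d18_5 (iv1 F294237) (iv4 F144662) F157630 F144819 D189494 (iv0 F364664) (iv4 F369306) (iv0 F369308) F137617
theorem F376703 : act 6 n151496 = n189494 := d10_0 F376702 (iv6 D151497) D151496
def n189495 : Q := act 0 n93997
theorem D189495 : act 0 n93997 = n189495 := rfl
theorem F376704 : act 5 n189495 = n188705 := d21_2 D93997 D189495 (iv6 D188705) (iv1 F142821) (iv6 F143353) D188972 F375286 (iv5 F374097) F374100 (iv1 D93995)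
theorem F376705 : act 1 n186658 = n189495 := d15_0 (iv0 D189495) F144827 (iv2 F367576)
theorem F376706 : act 2 n186664 = n189495 := d2_3 F376704 F374489 (iv5 F367588)
theorem F376707 : act 7 n186663 = n189495 := d13_0 F376704 F374492 (iv5 F367586)
def n189496 : Q := act 1 n93997
theorem D189496 : act 1 n93997 = n189496 := rfl
theorem F376708 : act 1 n189496 = n186658 := d15_1 D189496 F367579 F366991
theorem F376709 : act 7 n189496 = n186664 := d15_2 (iv0 D189495) D189496 F376706
theorem F376710 : act 5 n189496 = n188185 := d17_7 F293611 (iv5 F293619) F143986 F136719 (iv4 F69069) D93997 D189496 (iv0 F372609) F157529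
theorem F376711 : act 2 n186663 = n189496 := d2_3 F376710 F372605 (iv5 F367586)
theorem F376712 : act 3 n151944 = n189496 := d6_3 F376710 (iv3 D188185) F349276
theorem F376713 : act 6 n159986 = n189496 := d12_0 F376710 F372620 (iv5 F372618) F366754 D159986
def n189497 : Q := act 4 n93997
theorem D189497 : act 4 n93997 = n189497 := rfl
theorem F376714 : act 7 n189497 = n186665 := d11_2 (iv7 F144827) D189497 (iv4 D186665)
theorem F376715 : act 1 n189497 = n94336 := d18_6 (iv1 F157561) F62855 F65969 (iv4 F69069) D93997 D189497 (iv4 D94336) (iv0 F151791) (iv5 D94226)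
def n189498 : Q := act 6 n93997
theorem D189498 : act 6 n93997 = n189498 := rfl
theorem F376716 : act 3 n189498 = n93999 := d7_1 D189498 (iv6 D93999) (iv3 F144826)
theorem F376717 : act 5 n189498 = n151980 := d12_1 D189498 (iv6 F292422) (iv5 D90993) F291883 D93997
theorem F376718 : act 7 n189498 = n151972 := d14_2 (iv7 F144827) D189498 (iv6 D151972) (iv7 F162595) F162594
def n189499 : Q := act 3 n93998
theorem D189499 : act 3 n93998 = n189499 := rfl
theorem F376719 : act 5 n189499 = n188528 := d6_2 (iv5 F144830) D189499 (iv3 D188528)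
theorem F376720 : act 7 n189499 = n186667 := d8_2 (iv7 F144829) D189499 (iv3 D186667)
def n189500 : Q := act 6 n93998
theorem D189500 : act 6 n93998 = n189500 := rfl
theorem F376721 : act 2 n189500 = n189407 := d3_1 D189500 (iv6 D189407) (iv2 F144828)
theorem F376722 : act 4 n189500 = n93999 := d10_1 D189500 (iv6 D93999) D93998
theorem F376723 : act 0 n189488 = n189500 := d18_2 (iv1 F376194) D189488 F376722 (iv5 F292426) (iv4 F249013) (iv0 F373811) (iv4 D188525) F373758 (iv5 F376192)
def n189501 : Q := act 0 n93999
theorem D189501 : act 0 n93999 = n189501 := rfl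
theorem F376724 : act 4 n189501 = n189477 := d18_1 D189501 (iv1 F376658) F376432 (iv5 F294563) (iv4 F373795) F373798 F373787 (iv0 D188163) F292426
theorem F376725 : act 6 n189501 = n147236 := d21_5 (iv5 D20822) D20819 D43936 D93999 D189501 (iv5 D147236) (iv1 F330316) (iv5 F144857) (iv6 D94023) (iv1 D43943)
theorem F376726 : act 3 n147238 = n189501 := d7_3 F376725 F230825 D147238
def n189502 : Q := act 1 n93999
theorem D189502 : act 1 n93999 = n189502 := rfl
def n189503 : Q := act 7 n93999
theorem D189503 : act 7 n93999 = n189503 := rfl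
theorem F376727 : act 3 n189503 = n151972 := d8_1 D189503 (iv7 F376718) F376716
theorem F376728 : act 5 n189503 = n151975 := d13_1 D189503 (iv7 F292427) F292426
theorem F376729 : act 6 n189503 = n106697 := d14_1 D189503 F164426 F136656 (iv7 F69071) D93999
def n189504 : Q := act 6 n94002
theorem D189504 : act 6 n94002 = n189504 := rfl
theorem F376730 : act 2 n189504 = n185701 := d3_1 D189504 (iv6 F372206) F372204
theorem F376731 : act 3 n189504 = n107481 := d7_1 D189504 (iv6 F178350) F145552
theorem F376732 : act 4 n189504 = n185725 := d10_1 D189504 F358244 (iv4 F343690)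
theorem F376733 : act 5 n189504 = n107481 := d12_1 D189504 (iv6 F178350) (iv5 D94393) (iv6 F178327) D94002
theorem F376734 : act 7 n189504 = n106468 := d14_2 F178364 D189504 (iv6 D106468) (iv7 F77726) (iv6 F138554)
theorem F376735 : act 5 n113014 = n96041 := d17_7 D97395 (iv5 F362866) F327624 (iv5 F288005) (iv4 F376732) F376733 F176051 (iv0 D96041) (iv4 F71724)
theorem F376736 : act 1 n185660 = n133658 := d18_6 D133663 F373808 (iv1 F370265) (iv4 F376732) F376733 F361221 (iv4 D133658) (iv0 D62734) D62736
theorem F376737 : act 3 n186388 = n133658 := d19_19 (iv1 F376736) (iv5 F369656) F369655 (iv3 D160911) F115974 F115969 (iv4 D38854) F29642 (iv1 F28329) (iv5 D17375) F12904 F6247 F17461 D9150 D19477 D41361 D88617 F295032 D186388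
theorem E103344 : n186397 = n144549 := ((c20_10 (iv4 D88786) D88784 D186388 F376737 (iv1 F376736) F287968 (iv4 F254509) F324245 (iv4 F370189) (iv3 F370191) (iv1 D186397))).symm
theorem F376738 : act 0 n144549 = n88786 := (sb E103344 (iv1 D186397))
theorem F376739 : act 0 n186399 = n174702 := d21_1 D186399 F273550 (iv6 D158120) D158117 (iv6 F365720) F225287 (iv1 F103769) D67745 D144549 F376738
theorem E103345 : n151685 = n133657 := ((c5_4 D186388 F376737 (iv4 D133658) D133657 F369305 (iv3 D186387))).symm
theorem F376740 : act 0 n133657 = n187174 := (sb E103345 (iv1 F369349))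
theorem F376741 : act 1 n133657 = n71482 := (sb E103345 (iv0 D151685))
theorem F376742 : act 4 n133657 = n186387 := (sb E103345 F369305)
theorem F376743 : act 0 n108217 = n133658 := d20_7 (iv4 D187174) F369308 F369306 (iv3 D96080) (iv1 F147609) F348072 (iv4 F167331) (iv4 D133658) D133657 F376740
theorem E103346 : n106540 = n96042 := ((c18_9 (iv1 D113015) (iv4 F167331) F376743 (iv4 D133658) D133659 (iv4 F362868) (iv0 D97395) F71724 D96042 F176047)).symm
theorem F376744 : act 2 n96042 = n106759 := (sb E103346 (iv2 F164562))
theorem F376745 : act 5 n96042 = n113015 := (sb E103346 F176047)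
theorem F376746 : act 6 n96042 = n49231 := (sb E103346 (iv6 D106540))
theorem F376747 : act 7 n96041 = n106759 := d13_2 (iv7 F176053) F376735 F165812
def n189505 : Q := act 4 n94009
theorem D189505 : act 4 n94009 = n189505 := rfl
theorem F376748 : act 2 n189505 = n94013 := d1_1 D189505 (iv4 D94013) (iv2 F144840)
theorem F376749 : act 5 n189505 = n176847 := d9_2 D94009 D189505 (iv4 D176847) (iv5 F294880) (iv4 D96002) (iv5 D44799) (iv4 F68952) D93825 D189272 F376288 (iv4 D176852) F346852 F103451 D67562 (iv4 F305030)
theorem F376750 : act 3 n125640 = n189505 := d6_3 F376749 (iv3 F346870) (iv5 F202083)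
def n189506 : Q := act 6 n94009
theorem D189506 : act 6 n94009 = n189506 := rfl
theorem F376751 : act 2 n189506 = n94014 := d3_1 D189506 (iv6 D94014) (iv2 F144840)
def n189507 : Q := act 3 n94012
theorem D189507 : act 3 n94012 = n189507 := rfl
theorem F376752 : act 2 n189507 = n186199 := d0_1 D189507 F288978 (iv2 F292576) (iv3 F376279) (iv2 F376280)
theorem F376753 : act 5 n189507 = n186198 := d6_2 F251425 D189507 (iv3 F293508)
theorem F376754 : act 6 n189507 = n142836 := d7_2 (iv6 F251426) D189507 F331453
theorem F376755 : act 1 n189220 = n189507 := d17_6 (iv1 F135810) D98038 (iv1 F344302) (iv5 D93785) D93784 D189220 F376753 F288974 (iv4 D186037)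
def n189508 : Q := act 4 n94012
theorem D189508 : act 4 n94012 = n189508 := rfl
theorem F376756 : act 2 n189508 = n163433 := d1_1 D189508 F376283 (iv2 F376280)
theorem F376757 : act 5 n189508 = n163432 := d9_2 F251425 D189508 F257722 (iv5 F350530) (iv4 F370155) F370154 (iv4 F138304) (iv5 F292558) (iv4 F294061) F294062 F133001 D88757 D186319 F289094 (iv4 F293509)
theorem F376758 : act 1 n189508 = n94322 := d18_6 (iv1 D47730) (iv4 F64972) D90014 (iv4 F293509) F251425 D189508 (iv4 D94322) D94321 F353201
def n189509 : Q := act 0 n94013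
theorem D189509 : act 0 n94013 = n189509 := rfl
theorem F376759 : act 4 n189509 = n187170 := d18_3 (iv1 D94012) D94013 D189509 (iv5 D187170) F350504 F350522 F76242 D90754 F251425
theorem F376760 : act 6 n125643 = n189509 := d10_0 F376759 F369323 (iv4 F332834)
theorem F376761 : act 3 n189509 = n163458 := d19_3 D89668 D187170 (iv4 F376759) F257742 (iv5 D79960) F57188 (iv3 D17588) (iv1 F13743) F13741 (iv4 D8833) (iv3 F13724) D18863 F30102 F31669 (iv3 F31670) (iv1 F27429) D19046 (iv4 F31468) D41880
theorem F376762 : act 5 n163457 = n189509 := d6_0 F376761 (iv5 D163458) D163457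
theorem F376763 : act 0 n186313 = n163457 := d17_2 (iv1 F372211) F372210 F376762 F376759 (iv5 D187170) (iv0 D89668) (iv5 F292529) (iv0 F177449) F343676
theorem F376764 : act 0 n146022 = n186312 := d20_4 (iv4 D180446) (iv1 F258619) (iv4 D164090) (iv3 F334280) (iv3 D186312) D186313 F376763 (iv4 F373670) (iv3 D188490) (iv1 F280850)
theorem F376765 : act 1 n163351 = n186312 := d15_0 (iv0 F376764) F363509 (iv2 F364488)
def n189510 : Q := act 1 n94013
theorem D189510 : act 1 n94013 = n189510 := rfl
theorem F376766 : act 4 n189510 = n187171 := d18_7 F157273 (iv4 F71643) (iv1 F157280) F69053 D43940 D94013 D189510 F369331 (iv5 D94317)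
theorem F376767 : act 5 n189510 = n129070 := d18_9 F343672 (iv4 D186313) (iv1 D88755) (iv4 F133001) (iv5 F294062) F294061 (iv0 D94011) D94013 D189510
theorem F376768 : act 3 n129072 = n189510 := d6_3 F376767 (iv3 D129070) D129072
def n189511 : Q := act 3 n94013
theorem D189511 : act 3 n94013 = n189511 := rfl
theorem F376769 : act 4 n189511 = n94024 := d5_2 D94013 D189511 (iv3 D94024) (iv4 D43944) (iv3 F69072)
theorem F376770 : act 0 n163442 = n189511 := d20_4 (iv4 D96298) F70692 (iv4 F119729) (iv3 F257729) (iv3 D189511) (iv4 D94013) D94011 (iv4 F294061) (iv3 D97359) (iv1 F293820)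
theorem F376771 : act 5 n166583 = n189511 := d19_1 D166583 F376769 (iv3 D94024) (iv1 F144737) F144735 (iv4 D88547) F292770 D41886 F64580 F32324 (iv3 F292064) (iv1 D19545) F292878 D9471 (iv3 F30875) (iv1 F30878) D20248 (iv4 F57180) D79952
def n189512 : Q := act 5 n94013
theorem D189512 : act 5 n94013 = n189512 := rfl
theorem F376772 : act 2 n189512 = n176847 := d2_1 D189512 (iv5 F376749) F376748
theorem F376773 : act 3 n189512 = n166583 := d6_1 D189512 F376771 (iv3 D189511)
theorem F376774 : act 7 n189512 = n176852 := d13_2 F376287 D189512 (iv5 F376288)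
theorem F376775 : act 4 n189512 = n158887 := d16_2 D94013 D189512 F360303 F306989 F306979 (iv4 F178331) D188531 F373827 F144840
theorem F376776 : act 0 n189512 = n166599 := d18_0 F262188 F254195 F262091 (iv5 F341786) (iv4 F341787) F369326 (iv4 F376759) (iv0 D189509) D189512
def n189513 : Q := act 6 n94013
theorem D189513 : act 6 n94013 = n189513 := rfl
theorem F376777 : act 4 n189513 = n94014 := d10_1 D189513 (iv6 D94014) D94013
def n189514 : Q := act 0 n94014
theorem D189514 : act 0 n94014 = n189514 := rfl
def n189515 : Q := act 1 n94014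
theorem D189515 : act 1 n94014 = n189515 := rfl
def n189516 : Q := act 5 n94014
theorem D189516 : act 5 n94014 = n189516 := rfl
theorem F376778 : act 3 n189516 = n94028 := d6_1 D189516 (iv5 D94028) (iv3 F144842)
theorem F376779 : act 6 n189516 = n94017 := d12_2 D94014 D189516 (iv5 D94017) (iv6 D43941) D43940
theorem F376780 : act 0 n127787 = n189516 := d21_1 (iv5 F205545) (iv5 D189516) (iv6 D94014) D94011 (iv6 F205480) (iv5 D113688) (iv1 F94256) (iv5 F163758) (iv6 F164443) (iv1 F164445)
def n189517 : Q := act 7 n94014
theorem D189517 : act 7 n94014 = n189517 := rfl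
theorem F376781 : act 3 n189517 = n94029 := d8_1 D189517 (iv7 D94029) (iv3 F144842)
theorem F376782 : act 6 n189517 = n106546 := d14_1 D189517 F365946 F205518 F144647 D94014
def n189518 : Q := act 3 n94016
theorem D189518 : act 3 n94016 = n189518 := rfl
theorem F376783 : act 5 n189518 = n188980 := d6_2 (iv5 F205484) D189518 (iv3 D188980)
theorem F376784 : act 7 n189518 = n187429 := d8_2 (iv7 F204779) D189518 F370297
theorem F376785 : act 0 n189518 = n189221 := d20_4 (iv4 F294335) D187375 F370058 D189518 F376141 F349235 F162681 (iv4 F349214) (iv3 F349229) F345196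
def n189519 : Q := act 4 n94018
theorem D189519 : act 4 n94018 = n189519 := rfl
theorem F376786 : act 2 n189519 = n133657 := d1_1 D189519 F376742 (iv2 F366994)
theorem F376787 : act 7 n189519 = n151686 := d11_2 F376257 D189519 F376258
theorem F376788 : act 0 n189519 = n151687 := d18_2 F376701 D189519 F369345 F369341 (iv4 F294940) F136689 (iv4 F69069) D93995 D189494
theorem F376789 : act 1 n189519 = n94292 := d18_6 (iv1 D47722) (iv4 F70880) (iv1 F293542) (iv4 F74814) (iv5 F144844) D189519 (iv4 D94292) D94291 F293771
theorem F376790 : act 3 n189519 = n189262 := d20_3 (iv4 F376702) F376701 D189519 (iv1 D189262) (iv3 F363534) (iv4 D96078) (iv1 D44830) D44831 D96080 F364664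
def n189520 : Q := act 6 n94018
theorem D189520 : act 6 n94018 = n189520 := rfl
theorem F376791 : act 3 n189520 = n94020 := d7_1 D189520 (iv6 D94020) D94018
theorem F376792 : act 5 n189520 = n102569 := d12_1 D189520 (iv6 D102569) (iv5 D47572) D47573 (iv5 F144844)
def n189521 : Q := act 3 n94019
theorem D189521 : act 3 n94019 = n189521 := rfl
theorem F376793 : act 4 n189521 = n189262 := d5_2 D94019 D189521 (iv3 F376790) (iv4 D189519) (iv3 D94018)
theorem F376794 : act 5 n189521 = n189364 := d6_2 (iv5 F144847) D189521 (iv3 D189364)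
theorem F376795 : act 7 n189521 = n189366 := d8_2 (iv7 F144846) D189521 (iv3 D189366)
theorem F376796 : act 2 n189488 = n189521 := d1_3 F376793 F376668 D189488
def n189522 : Q := act 6 n94019
theorem D189522 : act 6 n94019 = n189522 := rfl
theorem F376797 : act 2 n189522 = n189365 := d3_1 D189522 (iv6 D189365) (iv2 F144845)
theorem F376798 : act 4 n189522 = n94020 := d10_1 D189522 (iv6 D94020) D94019
def n189523 : Q := act 0 n94020
theorem D189523 : act 0 n94020 = n189523 := rfl
def n189524 : Q := act 1 n94020
theorem D189524 : act 1 n94020 = n189524 := rfl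
theorem F376799 : act 1 n189524 = n132870 := d15_1 D189524 (iv7 F374589) F374586
def n189525 : Q := act 7 n94020
theorem D189525 : act 7 n94020 = n189525 := rfl
theorem F376800 : act 2 n189525 = n132870 := d4_1 D189525 (iv7 F374589) F374586
theorem F376801 : act 5 n189525 = n102579 := d13_1 D189525 (iv7 D102579) (iv5 F144850)
theorem F376802 : act 6 n189525 = n175933 := d14_1 D189525 (iv7 F373946) F373945 F144625 D94020
theorem F376803 : act 1 n132870 = n189523 := d15_0 (iv0 D189523) D189525 F376800
theorem F376804 : act 3 n94045 = n189523 := d19_19 (iv1 F376803) (iv5 D132870) F97233 F47304 (iv1 F79854) F320969 (iv4 D17507) (iv3 F28484) (iv1 F33412) F33413 F33406 F31678 (iv1 F27438) D20115 F31932 D41442 (iv1 F292497) D43961 D94045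
theorem F376805 : act 4 n189523 = n94050 := d5_2 D94045 F376804 (iv3 D94050) (iv4 D43963) (iv3 F69113)
theorem F376806 : act 3 n189368 = n189522 := d20_5 (iv4 D47751) (iv1 F292768) D43900 D93916 D189368 F376798 D189523 F376805 (iv3 D94050) F293543
theorem F376807 : act 6 n189521 = n189368 := d7_0 F376806 (iv6 D189522) D189521
def n189526 : Q := act 3 n94022
theorem D189526 : act 3 n94022 = n189526 := rfl
theorem F376808 : act 5 n189526 = n189366 := d6_2 (iv5 F144853) D189526 (iv3 D189366)
theorem F376809 : act 7 n189526 = n189364 := d8_2 (iv7 F144854) D189526 (iv3 D189364)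
def n189527 : Q := act 6 n94022
theorem D189527 : act 6 n94022 = n189527 := rfl
theorem F376810 : act 2 n189527 = n189367 := d3_1 D189527 (iv6 D189367) (iv2 F144852)
theorem F376811 : act 4 n189527 = n94023 := d10_1 D189527 (iv6 D94023) D94022
theorem F376812 : act 0 n189527 = n189313 := d20_7 (iv4 F176123) (iv1 F176120) F175891 (iv3 F175877) F330333 F330319 (iv4 F376811) F376394 F144714 D105407
def n189528 : Q := act 1 n94023
theorem D189528 : act 1 n94023 = n189528 := rfl
theorem F376813 : act 1 n189528 = n175933 := d15_1 D189528 (iv7 F373946) F373944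
theorem F376814 : act 7 n189528 = n119062 := d15_2 (iv0 F164526) D189528 F187329
theorem F376815 : act 3 n119092 = n189528 := d20_3 (iv4 F104097) F317675 D119092 (iv1 D189528) (iv3 F330319) (iv4 D142480) (iv1 F181768) (iv4 F227976) (iv3 D145026) F104101
theorem F376816 : act 5 n119063 = n189528 := d21_0 (iv1 D189528) F144857 (iv6 D90255) (iv1 F67782) D92467 F142279 (iv1 F177720) F352378 F347775 F347777
theorem F376817 : act 6 n189528 = n119104 := d7_2 (iv6 F187353) F376815 (iv3 D119104)
def n189529 : Q := act 7 n94023
theorem D189529 : act 7 n94023 = n189529 := rfl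
theorem F376818 : act 2 n189529 = n175933 := d4_1 D189529 (iv7 F373946) F373944
theorem F376819 : act 3 n189529 = n112933 := d8_1 D189529 F359851 F330319
theorem F376820 : act 5 n189529 = n132867 := d13_1 D189529 F342082 (iv5 F144857)
theorem F376821 : act 6 n189529 = n132870 := d14_1 D189529 (iv7 F374589) F374588 F142927 D94023
theorem F376822 : act 0 n119062 = n189529 := d21_4 F164423 (iv1 F80509) D54792 (iv6 F187331) F376821 (iv5 D132870) (iv1 F324729) (iv5 F164431) (iv6 D106698) D106697
def n189530 : Q := act 0 n94024
theorem D189530 : act 0 n94024 = n189530 := rfl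
theorem F376823 : act 5 n189530 = n185911 := d19_1 D189530 (iv4 D185911) F293768 D89689 D187186 (iv4 F372734) F372733 F367655 (iv5 D141208) (iv4 F224234) F368142 (iv1 D186824) (iv5 D89202) F294390 (iv3 F293540) F65889 D20822 D43944 D94024
def n189531 : Q := act 1 n94024
theorem D189531 : act 1 n94024 = n189531 := rfl
def n189532 : Q := act 2 n94024
theorem D189532 : act 2 n94024 = n189532 := rfl
theorem F376824 : act 5 n189532 = n189327 := d2_2 (iv5 F144858) D189532 F376405
def n189533 : Q := act 6 n94024
theorem D189533 : act 6 n94024 = n189533 := rfl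
theorem F376825 : act 3 n189533 = n94025 := d7_1 D189533 (iv6 D94025) D94024
def n189534 : Q := act 0 n94025
theorem D189534 : act 0 n94025 = n189534 := rfl
def n189535 : Q := act 1 n94025
theorem D189535 : act 1 n94025 = n189535 := rfl
def n189536 : Q := act 5 n94025
theorem D189536 : act 5 n94025 = n189536 := rfl
theorem F376826 : act 6 n189536 = n189457 := d12_2 D94025 D189536 (iv5 D189457) (iv6 D93975) (iv5 F69128)
def n189537 : Q := act 7 n94025
theorem D189537 : act 7 n94025 = n189537 := rfl
theorem F376827 : act 4 n189537 = n94029 := d11_1 D189537 (iv7 D94029) (iv4 F144859)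
def n189538 : Q := act 2 n94026
theorem D189538 : act 2 n94026 = n189538 := rfl
theorem F376828 : act 7 n94027 = n189538 := d15_2 (iv0 D94026) D94027 (iv2 D189538)
def n189539 : Q := act 3 n94026
theorem D189539 : act 3 n94026 = n189539 := rfl
def n189540 : Q := act 4 n94026
theorem D189540 : act 4 n94026 = n189540 := rfl
def n189541 : Q := act 5 n94026
theorem D189541 : act 5 n94026 = n189541 := rfl
def n189542 : Q := act 6 n94026
theorem D189542 : act 6 n94026 = n189542 := rfl
theorem F376829 : act 5 n189542 = n187565 := d21_6 (iv5 D43225) F65889 D20822 D43945 D94026 D189542 (iv1 D187565) (iv5 F144913) (iv6 D94061) F69125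
theorem F376830 : act 0 n106526 = n189542 := d21_10 F376829 (iv1 D187565) (iv5 F144913) (iv6 D94061) F69125 (iv6 F139175) (iv5 D90426) F65297 (iv5 F77749) D106526
def n189543 : Q := act 7 n94026
theorem D189543 : act 7 n94026 = n189543 := rfl
theorem F376831 : act 2 n189543 = n94027 := d4_1 D189543 F376828 (iv2 D189538)
def n189544 : Q := act 3 n94027
theorem D189544 : act 3 n94027 = n189544 := rfl
def n189545 : Q := act 4 n94027
theorem D189545 : act 4 n94027 = n189545 := rfl
def n189546 : Q := act 5 n94027
theorem D189546 : act 5 n94027 = n189546 := rfl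
theorem F376832 : act 0 n187813 = n189546 := d21_10 (iv5 D189546) (iv1 D94027) D94028 F144860 F69079 (iv6 F73971) (iv5 D46830) (iv1 F82985) D90591 D187813
theorem F376833 : act 6 n188669 = n189546 := d21_5 (iv5 D22488) (iv1 F63001) D43330 D92626 D188669 (iv5 D189546) (iv1 D94027) D94028 F144860 F69079
theorem F376834 : act 2 n189546 = n189006 := d3_1 F376833 (iv6 D189006) (iv2 F374379)
theorem E103347 : n189543 = n189269 := ((c2_3 D189546 F376834 F376272 F376831)).symm
theorem F376835 : act 2 n189269 = n94027 := (sb E103347 F376831)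
theorem F376836 : act 7 n189269 = n94026 := (sb E103347 (iv7 D189543))
theorem E103348 : n189539 = n107546 := (c8_2 F376836 D189539 (iv7 F238531) F376271)
theorem F376837 : act 3 n107546 = n94026 := (sb E103348 (iv3 D189539))
theorem E103349 : n189540 = n189434 := (c11_2 F376836 D189540 F376602 F376398)
theorem F376838 : act 4 n189434 = n94026 := (sb E103349 (iv4 D189540))
theorem F376839 : act 7 n189541 = n189006 := d13_2 F376836 D189541 F376272
theorem E103350 : n189538 = n189268 := (c15_4 (iv0 D189268) D189269 F376836 D189538)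
theorem F376840 : act 2 n189268 = n94026 := (sb E103350 (iv2 D189538))
theorem F376841 : act 7 n189268 = n94027 := (sb E103350 (iv7 F376828))
theorem F376842 : act 2 n189542 = n188066 := d3_3 (iv6 F376269) F376840 D189542
theorem E103351 : n188063 = n187565 := (c2_4 (iv5 F376829) F376842 (iv5 D188066) (iv2 F372232))
theorem F376843 : act 2 n187565 = n90765 := (sb E103351 F372232)
theorem F376844 : act 7 n187565 = n90764 := (sb E103351 (iv7 D188063))
theorem F376845 : act 7 n188062 = n189542 := d13_2 F376844 D188062 F376829
theorem E103352 : n188059 = n187564 := (c15_4 (iv0 D187564) D187565 F376844 D188059)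
theorem F376846 : act 2 n187564 = n90764 := (sb E103352 (iv2 D188059))
theorem F376847 : act 7 n187564 = n90765 := (sb E103352 (iv7 F372231))
theorem F376848 : act 1 n187813 = n189541 := d15_1 (iv0 F376832) F376839 (iv2 F376834)
theorem F376849 : act 4 n189542 = n189374 := d10_3 (iv6 F376598) F376838 D189542
theorem F376850 : act 0 n189325 = n189533 := d20_4 (iv4 D187653) F139176 (iv4 F144717) D189325 F376825 F144859 D94026 (iv4 F376838) (iv3 F376603) F374987
theorem F376851 : act 4 n187889 = n187565 := d16_2 (iv4 F375212) F375383 (iv5 F376829) F376849 (iv5 D189374) F144748 (iv5 F142668) D188654 F374316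
theorem F376852 : act 4 n187564 = n187888 := d16_0 F375380 F374314 F142668 (iv4 F144748) D189374 (iv4 F376849) F376829 F376844 (iv2 F376846)
theorem E103353 : n188926 = n188061 := (c1_2 F376852 (iv2 F375381) (iv4 D188061) (iv2 F376846))
theorem F376853 : act 2 n188061 = n187888 := (sb E103353 F375381)
theorem F376854 : act 5 n188061 = n92911 := (sb E103353 (iv5 D188926))
theorem F376855 : act 7 n188061 = n187889 := (sb E103353 (iv7 F375382))
theorem F376856 : act 7 n187888 = n188065 := d11_2 (iv7 F376847) F376852 (iv4 D188065)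
theorem F376857 : act 2 n188065 = n187889 := d4_1 F376856 (iv7 F376855) F376853
theorem F376858 : act 2 n189545 = n189315 := d1_3 F376398 F376835 D189545
def n189547 : Q := act 6 n94027
theorem D189547 : act 6 n94027 = n189547 := rfl
def n189548 : Q := act 0 n94028
theorem D189548 : act 0 n94028 = n189548 := rfl
theorem F376859 : act 6 n189548 = n178375 := d21_5 (iv5 F69487) (iv1 D43946) D43947 (iv6 F144860) D189548 (iv5 D178375) (iv1 F375434) (iv5 D93023) (iv6 D43523) (iv1 F68355)
theorem F376860 : act 3 n151453 = n189548 := d7_3 F376859 F366567 F355806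
theorem F376861 : act 5 n189548 = n151452 := d6_2 D151453 F376860 (iv3 D151452)
theorem F376862 : act 7 n189548 = n152053 := d8_2 (iv7 F238206) F376860 (iv3 D152053)
def n189549 : Q := act 1 n94028
theorem D189549 : act 1 n94028 = n189549 := rfl
def n189550 : Q := act 7 n94028
theorem D189550 : act 7 n94028 = n189550 := rfl
theorem F376863 : act 5 n189550 = n94029 := d13_1 D189550 (iv7 D94029) D94028
def n189551 : Q := act 4 n94036
theorem D189551 : act 4 n94036 = n189551 := rfl
theorem F376864 : act 3 n189551 = n189447 := d5_1 D189551 (iv4 D189447) (iv3 D93972) (iv4 F69093) (iv3 F144874)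
theorem F376865 : act 7 n189551 = n188044 := d11_2 (iv7 F144875) D189551 (iv4 D188044)
theorem F376866 : act 1 n189551 = n131826 := d18_6 (iv1 F137500) D102924 F284060 (iv4 F293507) D94036 D189551 F211243 F214551 (iv5 F292528)
theorem F376867 : act 0 n97392 = n189447 := d20_4 (iv4 D97412) F293896 (iv4 F294083) D97392 (iv3 F376864) (iv4 D189551) F331421 F343690 F254500 (iv1 F294047)
def n189552 : Q := act 0 n94038
theorem D189552 : act 0 n94038 = n189552 := rfl
def n189553 : Q := act 1 n94038
theorem D189553 : act 1 n94038 = n189553 := rfl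
theorem F376868 : act 5 n114141 = n189553 := d21_6 (iv5 D42129) (iv1 F32475) (iv5 F67886) D92517 (iv1 F142464) D114141 (iv1 D189553) (iv5 F290595) (iv6 D102730) (iv1 F290589)
def n189554 : Q := act 4 n94041
theorem D189554 : act 4 n94041 = n189554 := rfl
theorem F376869 : act 2 n189554 = n94045 := d1_1 D189554 (iv4 D94045) (iv2 F144888)
theorem F376870 : act 0 n189554 = n145924 := d20_7 F331389 (iv1 D97354) (iv4 F294059) (iv3 F292556) (iv1 F373829) F373826 D189554 (iv4 F229202) F366176 F251936
theorem F376871 : act 5 n135758 = n189554 := d2_0 F376869 (iv5 F361696) F364871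
def n189555 : Q := act 6 n94045
theorem D189555 : act 6 n94045 = n189555 := rfl
theorem F376872 : act 4 n189555 = n94046 := d10_1 D189555 (iv6 D94046) D94045
theorem F376873 : act 0 n130619 = n189555 := d18_2 (iv1 D130621) (iv4 F209197) F376872 F327569 (iv4 F203490) F203485 (iv4 F99325) (iv0 F168418) (iv5 F363783)
def n189556 : Q := act 3 n94047
theorem D189556 : act 3 n94047 = n189556 := rfl
theorem F376874 : act 2 n189556 = n186584 := d0_1 D189556 (iv3 D186584) F136281 D94457 F145645
theorem F376875 : act 4 n189556 = n186594 := d5_2 F287508 D189556 F367359 (iv4 F368952) F368951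
theorem F376876 : act 5 n189556 = n188726 := d6_2 (iv5 F145646) D189556 F374590
theorem F376877 : act 6 n189556 = n188093 := d7_2 F362396 D189556 F372310
theorem F376878 : act 7 n189556 = n187117 := d8_2 (iv7 F145647) D189556 F369140
theorem F376879 : act 1 n187116 = n189556 := d15_1 D187116 F376878 (iv2 D187117)
theorem F376880 : act 0 n187115 = n189556 := d21_4 D88681 D186139 F367105 (iv6 F369139) F376877 (iv5 F372324) (iv1 F375282) (iv5 D188971) F349267 (iv1 D88679)
def n189557 : Q := act 0 n94050
theorem D189557 : act 0 n94050 = n189557 := rfl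
theorem F376881 : act 4 n189557 = n185912 := d18_3 D189523 F376805 D189557 F288408 (iv4 F327295) D134593 F363987 (iv0 D102578) (iv5 F144850)
theorem F376882 : act 7 n185911 = n189557 := d11_0 F376881 (iv7 D185912) D185911
def n189558 : Q := act 1 n94050
theorem D189558 : act 1 n94050 = n189558 := rfl
def n189559 : Q := act 2 n94050
theorem D189559 : act 2 n94050 = n189559 := rfl
theorem F376883 : act 5 n189559 = n189446 := d2_2 (iv5 F144894) D189559 (iv2 D189446)
def n189560 : Q := act 6 n94050
theorem D189560 : act 6 n94050 = n189560 := rfl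
theorem F376884 : act 3 n189560 = n94051 := d7_1 D189560 (iv6 D94051) D94050
def n189561 : Q := act 5 n94051
theorem D189561 : act 5 n94051 = n189561 := rfl
theorem F376885 : act 6 n189561 = n189451 := d12_2 D94051 D189561 (iv5 D189451) (iv6 D93973) (iv5 F69115)
def n189562 : Q := act 7 n94051
theorem D189562 : act 7 n94051 = n189562 := rfl
theorem F376886 : act 4 n189562 = n94055 := d11_1 D189562 (iv7 D94055) (iv4 F144895)
theorem F376887 : act 0 n189465 = n189562 := d18_2 D189247 F376632 F376886 F365737 (iv4 F361232) (iv0 F294222) D189095 F375733 F159980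
def n189563 : Q := act 3 n94052
theorem D189563 : act 3 n94052 = n189563 := rfl
theorem F376888 : act 7 n189563 = n112927 := d8_2 (iv7 F376308) D189563 (iv3 F376297)
theorem F376889 : act 5 n146865 = n189563 := d13_3 F376888 F175870 D146865
def n189564 : Q := act 4 n94052
theorem D189564 : act 4 n94052 = n189564 := rfl
theorem F376890 : act 2 n189564 = n187905 := d1_1 D189564 (iv4 F376305) F376307
theorem F376891 : act 7 n189564 = n189408 := d11_2 (iv7 F376308) D189564 F376549
theorem F376892 : act 0 n189564 = n189398 := d18_2 D94052 D189564 F376534 (iv5 F364707) (iv4 D183504) (iv0 F356269) (iv4 F366183) (iv0 F366182) (iv5 D94054)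
theorem E103354 : n189408 = n189396 := ((c15_2 (iv0 F376306) D189396 (iv7 F376891) F376890)).symm
theorem F376893 : act 2 n189396 = n93956 := (sb E103354 (iv2 D189408))
theorem F376894 : act 4 n189396 = n189276 := (sb E103354 F376549)
theorem F376895 : act 5 n189396 = n189394 := (sb E103354 F376550)
theorem F376896 : act 7 n189396 = n189564 := (sb E103354 (iv7 F376891))
theorem F376897 : act 1 n189394 = n97474 := d17_8 D97472 F356257 (iv1 F138234) D187377 (iv4 F376533) (iv5 D189397) D189396 F376895 (iv4 D97474)
theorem F376898 : act 1 n97474 = n189243 := d15_1 F376897 F376201 D189394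
theorem F376899 : act 0 n189521 = n189407 := d21_4 (iv5 F376200) (iv1 F376898) (iv5 F376482) (iv6 F376807) (iv6 D189407) F144774 F136661 F69041 D93944 F376306
theorem F376900 : act 3 n189431 = n189564 := d0_0 F376890 (iv3 D187905) F139556 D93967 D189431
theorem F376901 : act 1 n189564 = n189246 := d15_0 (iv0 F376208) (iv7 F371797) (iv2 F376890)
def n189565 : Q := act 5 n94052
theorem D189565 : act 5 n94052 = n189565 := rfl
theorem F376902 : act 3 n189565 = n146865 := d6_1 D189565 F376889 (iv3 D189563)
theorem F376903 : act 7 n189565 = n146857 := d13_2 (iv7 F376308) D189565 F376294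
theorem F376904 : act 6 n189565 = n133451 := d21_9 F333215 (iv1 F355355) F142438 (iv6 D90437) (iv1 F69118) (iv6 F144896) (iv5 D94054) D94052 D189565 (iv1 F214604)
def n189566 : Q := act 6 n94052
theorem D189566 : act 6 n94052 = n189566 := rfl
theorem F376905 : act 5 n189566 = n114263 := d12_1 D189566 F178105 F355685 (iv6 F376904) (iv5 D189565)
theorem F376906 : act 7 n189566 = n114262 := d14_2 (iv7 F376308) D189566 F178103 (iv7 F163760) F376295
theorem F376907 : act 1 n106541 = n189566 := d15_1 (iv0 F357305) F376906 F178102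
def n189567 : Q := act 1 n94054
theorem D189567 : act 1 n94054 = n189567 := rfl
theorem F376908 : act 4 n189567 = n182916 := d18_7 D95396 (iv4 F360352) F372680 F372676 (iv5 F361754) F361756 D189567 (iv0 F284504) F294500
theorem F376909 : act 5 n189349 = n189567 := d16_5 D183478 (iv5 F376583) F376582 F144782 (iv4 F376452) F376908 (iv5 D182916) (iv7 F294754) F294751
theorem F376910 : act 3 n189567 = n189350 := d6_1 F376909 (iv5 D189350) D189349
theorem F376911 : act 6 n188068 = n189349 := d21_5 F69077 (iv1 D42501) D42502 (iv6 F139691) D188068 F376909 (iv1 D189567) (iv5 D94054) (iv6 D43964) (iv1 F69076)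
theorem F376912 : act 3 n189351 = n188068 := d7_3 F376911 (iv3 D189349) D189351
theorem F376913 : act 4 n189371 = n188068 := d10_3 F376911 F376452 D189371
def n189568 : Q := act 0 n94061
theorem D189568 : act 0 n94061 = n189568 := rfl
def n189569 : Q := act 1 n94061
theorem D189569 : act 1 n94061 = n189569 := rfl
theorem F376914 : act 1 n189569 = n188071 := d15_1 D189569 (iv7 D188071) (iv2 F144911)
def n189570 : Q := act 7 n94061
theorem D189570 : act 7 n94061 = n189570 := rfl
theorem F376915 : act 2 n189570 = n188071 := d4_1 D189570 (iv7 D188071) (iv2 F144911)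
theorem F376916 : act 3 n189570 = n130859 := d8_1 D189570 (iv7 F210008) F345019
theorem F376917 : act 4 n189570 = n189328 := d11_1 D189570 F376407 (iv4 F144912)
theorem F376918 : act 5 n189570 = n187566 := d13_1 D189570 (iv7 D187566) (iv5 F144913)
theorem F376919 : act 1 n188071 = n189568 := d15_0 (iv0 D189568) D189570 F376915
theorem F376920 : act 1 n188069 = n189570 := d15_1 D188069 (iv7 D189570) F144911
theorem F376921 : act 1 n189570 = n188068 := d15_0 (iv0 D188068) D188071 (iv2 F376915)
theorem E103355 : n189373 = n189315 := ((c20_4 (iv4 D43890) D43888 D93880 D189315 (iv1 D189373) (iv3 F376483) F376913 (iv1 F376921) F376917 (iv3 D189328) (iv1 D93885))).symm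
theorem F376922 : act 0 n189315 = n93917 := (sb E103355 (iv1 D189373))
theorem E103356 : n189457 = n189378 := ((c20_3 F144748 D93918 D189378 F376624 (iv1 D189332) (iv3 D93886) (iv4 D43890) D43888 D93880 D189315 F376922)).symm
theorem F376923 : act 3 n189378 = n189332 := (sb E103356 F376624)
theorem F376924 : act 5 n189378 = n93975 := (sb E103356 (iv5 D189457))
theorem F376925 : act 6 n189378 = n189536 := (sb E103356 (iv6 F376826))
theorem F376926 : act 2 n189434 = n189372 := d15_3 (iv0 D189372) (iv0 F376922) (iv7 F376602)
theorem F376927 : act 4 n189372 = n189268 := d1_2 (iv4 F376838) F376926 F376840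
theorem F376928 : act 5 n189372 = n187903 := d2_2 D189434 F376926 F371787
theorem F376929 : act 7 n189372 = n189545 := d4_2 (iv7 F376602) F376926 F376858
theorem F376930 : act 0 n188940 = n189434 := d21_4 (iv5 F144830) F144831 (iv5 F144596) (iv6 F375221) F376598 (iv5 D189374) D189372 F376928 F371788 (iv1 F142143)
theorem F376931 : act 1 n188940 = n189545 := d15_1 (iv0 F376930) (iv7 F376929) (iv2 F376926)
theorem F376932 : act 1 n189545 = n189375 := d15_1 F376931 (iv7 D189375) (iv2 F375220)
theorem F376933 : act 1 n189375 = n189434 := d15_1 F376932 F376602 (iv2 F376858)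
theorem F376934 : act 4 n189536 = n189308 := d10_1 F376925 (iv6 F376389) D189378
theorem E103357 : n187896 = n187528 := ((c16_6 F374323 (iv5 D94028) (iv4 F144859) D189536 F376934 F376388 F371780 F364225 (iv7 F354416) (iv2 F374322))).symm
theorem F376935 : act 2 n187528 = n90641 := (sb E103357 F371778)
theorem F376936 : act 3 n187528 = n98100 := (sb E103357 F371779)
theorem F376937 : act 4 n187528 = n170725 := (sb E103357 F371780)
theorem F376938 : act 6 n187528 = n98104 := (sb E103357 (iv6 F371781))
theorem F376939 : act 7 n187528 = n90640 := (sb E103357 (iv7 D187896))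
theorem F376940 : act 7 n187895 = n189308 := d13_2 F376939 D187895 F376388
theorem E103358 : n187892 = n187527 := (c15_4 (iv0 D187527) D187528 F376939 D187892)
theorem F376941 : act 2 n187527 = n90640 := (sb E103358 (iv2 D187892))
theorem F376942 : act 7 n187527 = n90641 := (sb E103358 (iv7 F371765))
theorem F376943 : act 7 n187899 = n189309 := d13_2 F376942 D187899 (iv5 F376390)
theorem F376944 : act 2 n187899 = n189308 := d15_3 (iv0 D189308) D189309 (iv7 F376943)
theorem E103359 : n189376 = n188938 := (c3_4 F375216 F376944 (iv6 F376389) D189376)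
theorem F376945 : act 2 n188938 = n93918 := (sb E103359 (iv2 D189376))
theorem F376946 : act 7 n188938 = n93919 := (sb E103359 (iv7 F376485))
theorem F376947 : act 2 n187895 = n189309 := d4_3 (iv7 F376943) F376944 (iv7 F376940)
theorem F376948 : act 1 n189310 = n187899 := d15_1 F376391 F376943 (iv2 F376947)
theorem F376949 : act 7 n189383 = n188814 := d13_2 F376946 D189383 (iv5 F375217)
theorem E103360 : n189380 = n188939 := (c15_4 F375218 F375226 F376946 (iv2 F376488))
theorem F376950 : act 2 n188939 = n93919 := (sb E103360 F376488)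
theorem F376951 : act 7 n188939 = n93918 := (sb E103360 (iv7 D189380))
theorem F376952 : act 7 n189379 = n188813 := d13_2 F376951 D189379 F375219
theorem F376953 : act 2 n188813 = n189383 := d15_3 (iv0 F376490) (iv0 F376486) F376952
theorem F376954 : act 2 n189379 = n188814 := d4_1 (iv7 F376952) (iv7 F376949) (iv2 F376953)
theorem F376955 : act 1 n188816 = n189383 := d15_1 F376487 F376949 (iv2 F376954)
theorem E103361 : n188858 = n188637 := ((c3_3 (iv6 F375071) F376953 F376489 (iv2 D188858))).symm
theorem F376956 : act 2 n188637 = n92858 := (sb E103361 (iv2 D188858))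
theorem F376957 : act 7 n188637 = n92859 := (sb E103361 (iv7 F375069))
theorem E103362 : n188862 = n188638 := (c15_4 F374273 F374278 F376957 (iv2 F375072))
theorem F376958 : act 2 n188638 = n92859 := (sb E103362 F375072)
theorem F376959 : act 7 n188638 = n92858 := (sb E103362 (iv7 D188862))
theorem F376960 : act 6 n189106 = n189379 := d12_2 F376938 (iv5 F375771) (iv5 D189379) F376389 F376388
theorem F376961 : act 0 n98104 = n170875 := d21_10 (iv5 F374344) (iv1 F374345) F143193 (iv6 D90605) (iv1 F138883) D187520 F370661 D189308 F376388 F376938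
theorem F376962 : act 0 n188001 = n189106 := d21_1 D188001 F375771 (iv6 F376938) (iv1 D187528) (iv6 D90305) (iv5 D42211) (iv1 F31758) (iv5 F31869) D42467 D90719
theorem F376963 : act 3 n189379 = n189107 := d7_1 F376960 (iv6 D189107) D189106
theorem E103363 : n188638 = n184732 := (c14_5 (iv7 F375772) F376960 F376952 F375071 (iv7 F376959) (iv6 F368148))
theorem F376964 : act 0 n184732 = n92597 := (sb E103363 (iv1 D188638))
theorem F376965 : act 1 n184732 = n92861 := (sb E103363 F374273)
theorem E103364 : n187897 = n92859 := (((iv2 F371782)).symm.trans (sb E103363 F376958))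
theorem F376966 : act 7 n184732 = n92858 := (sb E103363 F376959)
theorem F376967 : act 2 n92859 = n184732 := (sb E103364 F371782)
theorem E103365 : n188863 = n90641 := ((D188863).symm.trans (sb E103364 (iv3 D187897)))
theorem F376968 : act 3 n90641 = n92859 := (sb E103365 (iv3 D188863))
theorem F376969 : act 0 n189106 = n188006 := d21_10 (iv5 D188006) (iv1 D90720) (iv5 F68332) (iv6 D43476) (iv1 F67997) D92610 F142668 D93918 D189379 (iv6 F376960)
theorem E103366 : n188005 = n157891 := (c19_3 F376969 (iv5 D188006) D188005 F248805 (iv1 F327007) (iv5 D110222) F80190 F326166 (iv1 F31226) (iv5 D10458) F16778 (iv3 D4415) (iv1 D1853) D1854 D4421 D9780 D20635 D43626 D93261 D189106)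
theorem F376970 : act 0 n157891 = n188020 := (sb E103366 F372143)
theorem F376971 : act 4 n157891 = n90720 := (sb E103366 (iv4 D188005))
theorem F376972 : act 4 n188004 = n157902 := d5_2 F376971 D188004 F248810 F112771 (iv3 F248805)
theorem E103367 : n187998 = n187557 := (c11_3 F280715 F376971 F372053 F370800)
theorem F376973 : act 2 n187557 = n90719 := (sb E103367 (iv2 D187998))
theorem F376974 : act 7 n187557 = n90720 := (sb E103367 (iv7 F372053))
theorem F376975 : act 7 n188004 = n114519 := d8_2 F376974 D188004 F370802
theorem E103368 : n188003 = n187558 := (c15_4 F370804 F370801 F376974 (iv2 F372055))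
theorem F376976 : act 2 n187558 = n90720 := (sb E103368 F372055)
theorem F376977 : act 7 n187558 = n90719 := (sb E103368 (iv7 D188003))
theorem F376978 : act 2 n188004 = n114518 := d15_3 (iv0 D114518) D114519 (iv7 F376975)
theorem F376979 : act 2 n188000 = n180385 := d1_3 (iv4 F370800) F376973 D188000
theorem F376980 : act 3 n188264 = n188000 := d0_0 F376979 F280714 F132104 (iv3 F248793) F372891
theorem F376981 : act 5 n180384 = n188000 := d2_0 F376979 (iv5 D180385) D180384
theorem F376982 : act 1 n188000 = n188020 := d15_0 (iv0 F376970) (iv7 F280715) (iv2 F376979)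
theorem E103369 : n188004 = n157738 := ((c20_8 (iv4 D86198) (iv1 F112772) F112771 (iv3 F248805) F376970 F372138 F205642 D157738 F376972 F248810 (iv1 F132161))).symm
theorem F376983 : act 2 n157738 = n114518 := (sb E103369 F376978)
theorem F376984 : act 3 n157738 = n90720 := (sb E103369 (iv3 D188004))
theorem F376985 : act 4 n157738 = n157902 := (sb E103369 F376972)
theorem F376986 : act 7 n157738 = n114519 := (sb E103369 F376975)
theorem F376987 : act 2 n114519 = n157739 := d15_3 F248612 F248618 F376986
theorem F376988 : act 7 n114518 = n157739 := d4_2 (iv7 F376986) F376983 (iv2 F376987)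
theorem F376989 : act 3 n188865 = n187899 := d6_3 (iv5 D187899) F376968 D188865
theorem F376990 : act 3 n188866 = n187900 := d7_3 (iv6 D187900) F376968 D188866
theorem F376991 : act 3 n188637 = n187527 := d8_3 F376942 F376968 (iv7 F376957)
theorem E103370 : n188859 = n184734 := ((c0_4 F376991 F376941 D187893 F371768 (iv3 D188859) (iv2 F376956))).symm
theorem F376992 : act 3 n184734 = n92858 := (sb E103370 (iv3 D188859))
theorem E103371 : n188999 = n188860 := (c20_8 (iv4 D183109) (iv1 D87404) D87405 D183113 F364999 F143377 (iv4 F143394) D188999 (iv4 D188860) (iv3 F376992) (iv1 F287205))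
theorem F376993 : act 1 n188860 = n92978 := (sb E103371 (iv0 D188999))
theorem F376994 : act 5 n188860 = n187989 := (sb E103371 (iv5 F375366))
theorem F376995 : act 6 n188860 = n188057 := (sb E103371 F375365)
theorem F376996 : act 4 n188057 = n188813 := d10_1 F376995 F375071 D188860
theorem F376997 : act 2 n186826 = n188866 := d0_5 F376990 F371785 (iv3 D98104) (iv2 F136911) D186826
theorem F376998 : act 1 n188866 = n188006 := d15_0 (iv0 F376969) F375772 F376997
theorem F376999 : act 3 n188938 = n187182 := d7_3 (iv6 F375074) F376989 (iv6 F375216)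
theorem F377000 : act 3 n187820 = n188814 := d6_3 (iv5 F375217) F376999 F371610
theorem E103372 : n189381 = n94307 := ((c8_3 (iv7 F376946) F376999 (iv7 F369404) (iv3 D189381))).symm
theorem F377001 : act 3 n94307 = n93919 := (sb E103372 (iv3 D189381))
theorem E103373 : n189544 = n186402 := (c20_4 (iv4 F376484) (iv1 F376932) (iv4 D189545) D189544 (iv1 D186402) F136165 (iv4 F136175) D186425 (iv4 F369403) (iv3 F376999) (iv1 F375226))
theorem F377002 : act 3 n186402 = n94027 := (sb E103373 (iv3 D189544))
theorem F377003 : act 0 n188966 = n188294 := d21_1 D188966 F373001 F368148 F376964 (iv6 D92597) (iv5 D43318) (iv1 F32509) (iv5 F32645) D43476 D92931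
theorem F377004 : act 5 n189107 = n189377 := d6_2 D189379 F376963 (iv3 D189377)
theorem F377005 : act 0 n170725 = n187563 := d18_2 (iv1 F370686) F376937 F370822 (iv5 F144913) F144912 (iv0 F376614) (iv4 D189442) F371794 F371791
theorem F377006 : act 1 n170725 = n188058 := d15_1 (iv0 F377005) (iv7 D188058) (iv2 F370821)
def n189571 : Q := act 4 n94097
theorem D189571 : act 4 n94097 = n189571 := rfl
theorem F377007 : act 7 n189571 = n182025 := d11_2 (iv7 F145003) D189571 (iv4 D182025)
def n189572 : Q := act 6 n94097
theorem D189572 : act 6 n94097 = n189572 := rfl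
theorem F377008 : act 3 n189572 = n94098 := d7_1 D189572 (iv6 D94098) (iv3 F145002)
theorem F377009 : act 5 n189572 = n182387 := d12_1 D189572 (iv6 D182387) (iv5 D87087) F294734 D94097
theorem F377010 : act 0 n189077 = n189572 := d21_7 (iv5 D96473) (iv1 F133784) (iv5 F328975) (iv6 D64770) D64767 D137816 (iv5 F375653) F377009 (iv6 D182387) (iv1 F295108)
def n189573 : Q := act 0 n94098
theorem D189573 : act 0 n94098 = n189573 := rfl
def n189574 : Q := act 1 n94098
theorem D189574 : act 1 n94098 = n189574 := rfl
theorem F377011 : act 1 n189574 = n183116 := d15_1 D189574 F284732 (iv2 F145005)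
def n189575 : Q := act 7 n94098
theorem D189575 : act 7 n94098 = n189575 := rfl
theorem F377012 : act 2 n189575 = n183116 := d4_1 D189575 F284732 (iv2 F145005)
theorem F377013 : act 5 n189575 = n182395 := d13_1 D189575 (iv7 D182395) (iv5 F294735)
theorem F377014 : act 6 n189575 = n182033 := d14_1 D189575 (iv7 D182033) F133430 (iv7 F69182) D94098
theorem F377015 : act 1 n183116 = n189573 := d15_0 (iv0 D189573) D189575 F377012
theorem F377016 : act 1 n183166 = n189575 := d15_1 D183166 (iv7 D189575) F145005
theorem F377017 : act 1 n189575 = n183165 := d15_0 (iv0 D183165) (iv7 F284732) (iv2 F377012)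
def n189576 : Q := act 6 n94101
theorem D189576 : act 6 n94101 = n189576 := rfl
theorem F377018 : act 2 n189576 = n94114 := d3_1 D189576 (iv6 D94114) (iv2 F145013)
theorem F377019 : act 4 n189576 = n94102 := d10_1 D189576 (iv6 D94102) D94101
def n189577 : Q := act 0 n94102
theorem D189577 : act 0 n94102 = n189577 := rfl
def n189578 : Q := act 1 n94102
theorem D189578 : act 1 n94102 = n189578 := rfl
theorem F377020 : act 1 n189578 = n94118 := d15_1 D189578 (iv7 D94118) (iv2 F145018)
theorem F377021 : act 6 n184717 = n189578 := d21_3 F304535 (iv1 F191874) (iv5 F365663) (iv1 D189578) (iv6 D94102) (iv5 D43991) F65812 D21905 (iv6 F72312) D98098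
theorem F377022 : act 5 n101355 = n189578 := d21_6 (iv5 D22705) (iv1 D10744) D10745 (iv6 F35280) D47179 D101355 (iv1 D189578) (iv5 F156183) (iv6 D101386) (iv1 F74471)
theorem F377023 : act 2 n189578 = n94116 := d2_1 F377022 (iv5 F366865) F366848
def n189579 : Q := act 7 n94102
theorem D189579 : act 7 n94102 = n189579 := rfl
theorem F377024 : act 2 n189579 = n94118 := d4_1 D189579 (iv7 D94118) (iv2 F145018)
theorem F377025 : act 6 n189579 = n183176 := d14_1 D189579 (iv7 D183176) (iv6 D87434) (iv7 F69189) D94102
theorem F377026 : act 1 n94118 = n189577 := d15_0 (iv0 D189577) D189579 F377024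
theorem F377027 : act 1 n94116 = n189579 := d15_1 D94116 (iv7 D189579) F145018
theorem F377028 : act 7 n189577 = n94116 := d15_2 F377020 F377026 (iv2 F377023)
theorem F377029 : act 2 n189577 = n94115 := d15_3 (iv0 D94115) D94116 (iv7 F377028)
theorem F377030 : act 7 n94115 = n189578 := d4_2 (iv7 F377028) F377029 F377023
theorem F377031 : act 1 n189579 = n94115 := d15_1 F377027 F377030 F377023
def n189580 : Q := act 2 n94109
theorem D189580 : act 2 n94109 = n189580 := rfl
theorem F377032 : act 3 n189580 = n188287 := d0_2 D94109 D189580 F372960 F140219 F294838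
theorem F377033 : act 5 n189580 = n102857 := d2_2 F292413 D189580 F158168
theorem F377034 : act 7 n189580 = n188281 := d4_2 F292619 D189580 F372943
theorem F377035 : act 1 n189580 = n188262 := d15_0 F372951 F292619 D189580
theorem F377036 : act 1 n188283 = n189580 := d15_0 F377035 F372887 F372949
def n189581 : Q := act 4 n94109
theorem D189581 : act 4 n94109 = n189581 := rfl
theorem F377037 : act 7 n189581 = n188284 := d11_2 F292619 D189581 (iv4 D188284)
theorem F377038 : act 0 n189581 = n186290 := d18_2 F368132 D189581 (iv4 D186290) (iv5 D88738) F63875 D41447 (iv4 F294390) D89201 D186821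
def n189582 : Q := act 6 n94109
theorem D189582 : act 6 n94109 = n189582 := rfl
theorem F377039 : act 3 n189582 = n94111 := d7_1 D189582 (iv6 D94111) D94109
theorem F377040 : act 5 n189582 = n182194 := d12_1 D189582 (iv6 D182194) (iv5 F135144) (iv6 F292414) F292413
def n189583 : Q := act 0 n94111
theorem D189583 : act 0 n94111 = n189583 := rfl
theorem F377041 : act 4 n189583 = n127796 := d18_3 (iv1 F371552) F371548 D189583 (iv5 D127796) F94483 (iv0 F163348) F163345 (iv0 F162626) (iv5 F370578)
theorem F377042 : act 6 n189583 = n98096 := d21_5 F66912 (iv1 F135695) (iv5 F294380) D94111 D189583 (iv5 D98096) (iv1 D45806) D45807 F72312 F294669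
theorem F377043 : act 2 n184722 = n189583 := d15_3 (iv0 D189583) F370592 (iv7 F356688)
theorem F377044 : act 1 n187498 = n189583 := d15_0 (iv0 D189583) F371545 F371541
theorem F377045 : act 4 n182198 = n185446 := d18_1 D182198 (iv1 D185446) (iv4 F283652) (iv5 F356701) (iv4 D159846) (iv0 F205576) (iv4 F377041) (iv0 D189583) F145048
theorem F377046 : act 7 n189583 = n188290 := d15_2 (iv0 F370590) F377044 (iv2 F372974)
def n189584 : Q := act 0 n94114
theorem D189584 : act 0 n94114 = n189584 := rfl
def n189585 : Q := act 1 n94114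
theorem D189585 : act 1 n94114 = n189585 := rfl
def n189586 : Q := act 5 n94114
theorem D189586 : act 5 n94114 = n189586 := rfl
theorem F377047 : act 3 n189586 = n117338 := d6_1 D189586 (iv5 F374482) F374480
theorem F377048 : act 6 n189586 = n117336 := d12_2 D94114 D189586 (iv5 F356634) (iv6 D183155) (iv5 F134210)
theorem F377049 : act 4 n126207 = n189586 := d10_3 F377048 F183741 D126207
def n189587 : Q := act 7 n94114
theorem D189587 : act 7 n94114 = n189587 := rfl
theorem F377050 : act 4 n189587 = n94118 := d11_1 D189587 (iv7 D94118) (iv4 F145055)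
theorem F377051 : act 6 n189587 = n149367 := d14_1 D189587 F356653 (iv6 D93282) (iv7 F295172) D94114
def n189588 : Q := act 3 n94115
theorem D189588 : act 3 n94115 = n189588 := rfl
def n189589 : Q := act 4 n94115
theorem D189589 : act 4 n94115 = n189589 := rfl
def n189590 : Q := act 5 n94115
theorem D189590 : act 5 n94115 = n189590 := rfl
theorem F377052 : act 7 n189590 = n101355 := d13_2 (iv7 F377030) D189590 F377022
def n189591 : Q := act 6 n94115
theorem D189591 : act 6 n94115 = n189591 := rfl
theorem F377053 : act 7 n189591 = n154213 := d14_2 (iv7 F377030) D189591 F242325 F365665 F377021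
theorem F377054 : act 5 n189591 = n154214 := d21_6 F294737 (iv1 D20885) D20886 D43999 D94115 D189591 (iv1 F242330) F356632 (iv6 D183181) (iv1 F294736)
def n189592 : Q := act 4 n94116
theorem D189592 : act 4 n94116 = n189592 := rfl
def n189593 : Q := act 0 n94117
theorem D189593 : act 0 n94117 = n189593 := rfl
def n189594 : Q := act 1 n94117
theorem D189594 : act 1 n94117 = n189594 := rfl
def n189595 : Q := act 4 n94117
theorem D189595 : act 4 n94117 = n189595 := rfl
theorem F377055 : act 6 n189595 = n94120 := d10_2 (iv6 F145056) D189595 (iv4 D94120)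
def n189596 : Q := act 7 n94117
theorem D189596 : act 7 n94117 = n189596 := rfl
theorem F377056 : act 3 n189596 = n189157 := d8_1 D189596 F375879 F294832
theorem F377057 : act 5 n189596 = n94118 := d13_1 D189596 (iv7 D94118) D94117
def n189597 : Q := act 0 n94119
theorem D189597 : act 0 n94119 = n189597 := rfl
theorem F377058 : act 5 n189597 = n136078 := d17_1 D189597 (iv1 F365616) (iv5 D101375) F74467 D90490 F159977 F157531 (iv0 F144899) (iv4 F145058)
theorem F377059 : act 3 n189597 = n102208 := d20_5 F70442 D44847 (iv4 F72337) D94119 D189597 (iv4 F357615) (iv1 D186549) F136230 F133544 F70443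
theorem F377060 : act 6 n189597 = n189040 := d21_5 D87991 (iv1 F340063) (iv5 F340060) (iv6 F349307) D189597 F375539 (iv1 F363690) (iv5 F339894) F143948 (iv1 F134959)
theorem F377061 : act 2 n182158 = n189597 := d15_3 (iv0 D189597) (iv0 F372947) (iv7 F368135)
theorem F377062 : act 1 n182152 = n189597 := d15_0 (iv0 D189597) F145060 (iv2 F283606)
theorem F377063 : act 7 n189597 = n137602 := d15_2 F371145 F377062 (iv2 F368133)
def n189598 : Q := act 2 n94119
theorem D189598 : act 2 n94119 = n189598 := rfl
theorem F377064 : act 4 n189598 = n94449 := d1_2 (iv4 F145058) D189598 (iv2 F145630)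
theorem F377065 : act 5 n189598 = n101419 := d2_2 (iv5 F145059) D189598 (iv2 D101419)
theorem F377066 : act 7 n189598 = n182152 := d4_2 (iv7 F145060) D189598 F283606
theorem F377067 : act 1 n189598 = n137602 := d15_0 F335761 (iv7 F145060) D189598
theorem F377068 : act 1 n182158 = n189598 := d15_0 F377067 (iv7 F377063) (iv2 F377061)
def n189599 : Q := act 3 n94120
theorem D189599 : act 3 n94120 = n189599 := rfl
theorem F377069 : act 4 n189599 = n189162 := d5_2 D94120 D189599 (iv3 D189162) (iv4 D93314) (iv3 F294824)
def n189600 : Q := act 5 n94123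
theorem D189600 : act 5 n94123 = n189600 := rfl
theorem F377070 : act 2 n189600 = n99952 := d2_1 D189600 (iv5 F367529) F367528
theorem F377071 : act 3 n189600 = n94124 := d6_1 D189600 (iv5 D94124) D94123
theorem F377072 : act 7 n189600 = n99951 := d13_2 (iv7 F292843) D189600 (iv5 F361849)
theorem F377073 : act 0 n189600 = n99946 := d17_2 F157431 D189600 (iv5 D99946) (iv4 F75421) D103651 F160324 (iv5 F160325) (iv0 F160326) F157428
theorem F377074 : act 1 n189600 = n99818 := d17_6 (iv1 F148355) F354565 F366492 F148375 F147283 D189600 (iv5 D99818) D99816 (iv4 F153660)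
def n189601 : Q := act 6 n94124
theorem D189601 : act 6 n94124 = n189601 := rfl
theorem F377075 : act 2 n189601 = n182255 := d3_1 D189601 F283698 (iv2 F145068)
theorem F377076 : act 4 n189601 = n101445 := d10_1 D189601 (iv6 D101445) F145072
theorem F377077 : act 5 n189601 = n181974 := d12_1 D189601 (iv6 D181974) (iv5 D86913) (iv6 F69224) D94124
def n189602 : Q := act 5 n94131
theorem D189602 : act 5 n94131 = n189602 := rfl
theorem F377078 : act 3 n189602 = n94133 := d6_1 D189602 (iv5 D94133) D94131
theorem F377079 : act 7 n189602 = n189224 := d13_2 (iv7 F344303) D189602 (iv5 D189224)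
def n189603 : Q := act 6 n94131
theorem D189603 : act 6 n94131 = n189603 := rfl
theorem F377080 : act 3 n189603 = n94134 := d7_1 D189603 (iv6 D94134) D94131
theorem F377081 : act 4 n189603 = n103946 := d10_1 D189603 F361035 (iv4 F294956)
theorem F377082 : act 5 n189603 = n188627 := d21_6 F83058 F83060 (iv5 F55308) D76500 F157571 D189603 F374242 (iv5 D187735) (iv6 D90515) (iv1 F65440)
theorem F377083 : act 1 n189284 = n189603 := d18_8 F374242 F371369 F361038 (iv4 F345123) (iv5 F369200) (iv4 F372246) F372249 (iv4 F376328) F377082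
def n189604 : Q := act 5 n94132
theorem D189604 : act 5 n94132 = n189604 := rfl
theorem F377084 : act 2 n189604 = n189220 := d2_1 D189604 (iv5 D189220) (iv2 F344279)
theorem F377085 : act 3 n189604 = n151977 := d6_1 D189604 F375296 (iv3 F145089)
theorem F377086 : act 7 n189604 = n189226 := d13_2 (iv7 F344274) D189604 (iv5 D189226)
theorem F377087 : act 1 n189604 = n186199 := d17_6 (iv1 D45755) D45757 (iv1 F295140) (iv5 D94133) D94132 D189604 (iv5 D186199) (iv0 F288976) (iv4 D98035)
theorem F377088 : act 1 n189507 = n189226 := d15_1 F376755 (iv7 F377086) F377084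
theorem F377089 : act 6 n151976 = n189604 := d7_0 F377085 (iv6 D151977) D151976
theorem F377090 : act 0 n96046 = n151976 := d21_4 F70461 (iv1 D44812) D44814 D96046 F377089 (iv5 D189604) (iv1 F373824) F373821 (iv6 D185702) (iv1 F294019)
def n189605 : Q := act 6 n94132
theorem D189605 : act 6 n94132 = n189605 := rfl
theorem F377091 : act 2 n189605 = n189221 := d3_1 D189605 (iv6 D189221) (iv2 F344279)
theorem F377092 : act 3 n189605 = n186660 := d7_1 D189605 (iv6 D186660) (iv3 F145089)
theorem F377093 : act 4 n189605 = n94134 := d10_1 D189605 (iv6 D94134) D94132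
theorem F377094 : act 0 n189605 = n187429 := d21_4 D186199 (iv1 F377087) (iv5 D189604) D189605 (iv6 D187429) F205407 F359301 D148452 (iv6 F335774) F288976
def n189606 : Q := act 4 n94133
theorem D189606 : act 4 n94133 = n189606 := rfl
theorem F377095 : act 2 n189606 = n189222 := d1_1 D189606 (iv4 D189222) F344293
theorem F377096 : act 7 n189606 = n189228 := d11_2 (iv7 F344300) D189606 (iv4 D189228)
def n189607 : Q := act 6 n94133
theorem D189607 : act 6 n94133 = n189607 := rfl
theorem F377097 : act 2 n189607 = n189223 := d3_1 D189607 (iv6 D189223) F344293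
theorem F377098 : act 5 n189607 = n188628 := d12_1 D189607 (iv6 D188628) (iv5 F145090) (iv6 D94134) D94133
theorem F377099 : act 1 n189377 = n189607 := d17_6 D134908 F332713 (iv1 F328744) (iv5 F294739) (iv4 F375774) F377004 F377098 (iv0 F374244) (iv4 D134910)
def n189608 : Q := act 5 n94136
theorem D189608 : act 5 n94136 = n189608 := rfl
theorem F377100 : act 3 n189608 = n94138 := d6_1 D189608 (iv5 D94138) D94136
theorem F377101 : act 7 n189608 = n189218 := d13_2 F344291 D189608 (iv5 D189218)
theorem F377102 : act 0 n189608 = n189346 := d17_2 F152533 D189608 F376447 (iv4 D187471) (iv5 F367127) (iv0 D99012) (iv5 D46320) D46318 D99007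
def n189609 : Q := act 6 n94136
theorem D189609 : act 6 n94136 = n189609 := rfl
theorem F377103 : act 3 n189609 = n94139 := d7_1 D189609 (iv6 D94139) D94136
theorem F377104 : act 4 n189609 = n186822 := d10_1 D189609 (iv6 D186822) (iv4 F145092)
theorem F377105 : act 0 n189289 = n189609 := d20_10 F377104 F372947 F145058 (iv3 D94056) (iv1 F290986) D89606 (iv4 F350464) F353183 F149908 (iv3 F376338)
def n189610 : Q := act 5 n94137
theorem D189610 : act 5 n94137 = n189610 := rfl
theorem F377106 : act 2 n189610 = n189226 := d2_1 D189610 (iv5 D189226) F344283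
theorem F377107 : act 3 n189610 = n186139 := d6_1 D189610 F367105 (iv3 F293983)
theorem F377108 : act 7 n189610 = n189220 := d13_2 (iv7 F344282) D189610 (iv5 D189220)
theorem F377109 : act 0 n189610 = n186199 := d17_2 (iv1 F373823) D189610 (iv5 D186199) (iv4 F288975) (iv5 F376753) F377088 (iv5 D189226) (iv0 F369261) (iv4 F373820)
def n189611 : Q := act 6 n94137
theorem D189611 : act 6 n94137 = n189611 := rfl
theorem F377110 : act 2 n189611 = n189227 := d3_1 D189611 (iv6 D189227) F344283
theorem F377111 : act 3 n189611 = n187115 := d7_1 D189611 F369139 (iv3 F293983)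
theorem F377112 : act 4 n189611 = n94139 := d10_1 D189611 (iv6 D94139) D94137
def n189612 : Q := act 4 n94138
theorem D189612 : act 4 n94138 = n189612 := rfl
theorem F377113 : act 2 n189612 = n189228 := d1_1 D189612 (iv4 D189228) F344294
theorem F377114 : act 7 n189612 = n189222 := d11_2 F344292 D189612 (iv4 D189222)
def n189613 : Q := act 6 n94138
theorem D189613 : act 6 n94138 = n189613 := rfl
theorem F377115 : act 2 n189613 = n189229 := d3_1 D189613 (iv6 D189229) F344294
theorem F377116 : act 5 n189613 = n135836 := d12_1 D189613 (iv6 F364366) F290245 (iv6 D94139) D94138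
theorem F377117 : act 0 n189402 = n189613 := d21_4 (iv5 D106710) D106709 (iv5 F376124) (iv6 F376538) (iv6 D189613) (iv5 D94138) (iv1 D44015) D44016 (iv6 F144696) (iv1 F164468)
def n189614 : Q := act 4 n94140
theorem D189614 : act 4 n94140 = n189614 := rfl
theorem F377118 : act 2 n189614 = n185704 := d1_1 D189614 (iv4 F367202) F155695
theorem F377119 : act 7 n189614 = n185703 := d11_2 (iv7 F155694) D189614 F367200
theorem F377120 : act 0 n189614 = n185692 := d18_2 D94140 D189614 F348102 (iv5 F369259) (iv4 F373820) F373824 (iv4 D94132) (iv0 D44014) D44016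
theorem F377121 : act 5 n187356 = n189614 := d21_6 (iv5 D42007) (iv1 D19804) D19806 D42013 D89918 D187356 F377120 (iv5 F367203) (iv6 D95775) (iv1 F70305)
theorem F377122 : act 1 n189614 = n185705 := d15_1 (iv0 F377120) (iv7 D185705) (iv2 F287990)
def n189615 : Q := act 6 n94140
theorem D189615 : act 6 n94140 = n189615 := rfl
theorem F377123 : act 2 n189615 = n189231 := d3_1 D189615 (iv6 D189231) F155695
theorem F377124 : act 5 n189615 = n147296 := d12_1 D189615 (iv6 F370398) (iv5 F370397) F335765 (iv5 F335768)
theorem F377125 : act 1 n189414 = n189615 := d18_8 F235006 F235005 F188479 (iv4 F190446) (iv5 F335872) (iv4 D130574) D130573 (iv4 F376556) F377124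
def n189616 : Q := act 3 n94141
theorem D189616 : act 3 n94141 = n189616 := rfl
theorem F377126 : act 5 n189616 = n186041 := d6_2 (iv5 F294552) D189616 (iv3 D186041)
theorem F377127 : act 7 n189616 = n189230 := d8_2 F155693 D189616 (iv3 D189230)
theorem F377128 : act 1 n151672 = n189616 := d17_6 (iv1 D92552) (iv5 F292416) (iv1 F177443) (iv5 D98288) (iv4 F144664) (iv5 F238529) F377126 (iv0 F288645) F158220
def n189617 : Q := act 0 n94142
theorem D189617 : act 0 n94142 = n189617 := rfl
theorem F377129 : act 1 n96079 = n189617 := d15_0 (iv0 D189617) F373608 F373603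
theorem F377130 : act 6 n133364 = n189617 := d21_3 (iv5 D130563) (iv1 F97605) D133364 (iv1 F377129) (iv6 D96079) F75151 (iv1 D47873) D47874 (iv6 F158563) (iv1 F354248)
theorem F377131 : act 2 n189617 = n133369 := d3_1 F377130 (iv6 D133369) (iv2 F214414)
theorem F377132 : act 7 n189234 = n189617 := d15_2 F373607 D189234 F377131
def n189618 : Q := act 1 n94142
theorem D189618 : act 1 n94142 = n189618 := rfl
theorem F377133 : act 1 n189618 = n96079 := d15_1 D189618 (iv7 F363537) (iv2 F145095)
theorem F377134 : act 7 n189618 = n133369 := d15_2 (iv0 D189617) D189618 (iv2 F377131)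
theorem F377135 : act 3 n133377 = n189618 := d20_3 (iv4 D130632) (iv1 F175843) (iv4 F214432) (iv1 D189618) F294559 (iv4 D164096) (iv1 F254241) (iv4 F356904) F247449 (iv1 F331413)
theorem F377136 : act 2 n189234 = n189618 := d4_3 F377134 (iv2 F377131) (iv7 F377132)
def n189619 : Q := act 5 n94142
theorem D189619 : act 5 n94142 = n189619 := rfl
theorem F377137 : act 2 n189619 = n189236 := d2_1 D189619 (iv5 D189236) (iv2 F145095)
theorem F377138 : act 6 n189619 = n95776 := d12_2 F376355 D189619 F147461 D185465 (iv5 F376357)
theorem F377139 : act 7 n189619 = n95627 := d13_2 (iv7 F373608) D189619 (iv5 F373605)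
theorem F377140 : act 4 n189619 = n97079 := d16_2 D94142 D189619 F149764 F363535 F144571 F68910 (iv5 F144571) (iv7 D93795) (iv2 F69256)
def n189620 : Q := act 5 n94218
theorem D189620 : act 5 n94218 = n189620 := rfl
theorem F377141 : act 2 n189620 = n188319 := d2_1 D189620 F373076 F294813
theorem F377142 : act 7 n189620 = n189341 := d13_2 F157291 D189620 (iv5 D189341)
theorem F377143 : act 0 n189620 = n189101 := d17_2 F368130 D189620 F375754 F370887 F349276 (iv0 D151944) F108129 F293117 (iv4 F368128)
theorem F377144 : act 1 n189620 = n141205 := d17_6 (iv1 D90625) D90626 F177434 (iv5 D94221) (iv4 F145261) D189620 F371001 (iv0 D187606) (iv4 F293719)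
def n189621 : Q := act 4 n94221
theorem D189621 : act 4 n94221 = n189621 := rfl
theorem F377145 : act 2 n189621 = n151679 := d1_1 D189621 F238546 (iv2 F145263)
theorem F377146 : act 3 n189621 = n107577 := d5_1 D189621 (iv4 F358288) F358287 F211243 (iv3 F145264)
theorem F377147 : act 6 n189621 = n133772 := d10_2 (iv6 F145265) D189621 (iv4 D133772)
theorem F377148 : act 7 n189621 = n189342 := d11_2 F157297 D189621 (iv4 D189342)
theorem F377149 : act 0 n189621 = n157356 := d18_2 F177434 D189621 F355759 (iv5 F349276) (iv4 F370887) F371733 (iv4 D187871) (iv0 D90624) D90626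
def n189622 : Q := act 4 n94226
theorem D189622 : act 4 n94226 = n189622 := rfl
theorem F377150 : act 2 n189622 = n133719 := d1_1 D189622 F215226 (iv2 F145276)
theorem F377151 : act 6 n189622 = n133707 := d10_2 (iv6 F145277) D189622 (iv4 D133707)
def n189623 : Q := act 6 n94232
theorem D189623 : act 6 n94232 = n189623 := rfl
theorem F377152 : act 4 n189623 = n94234 := d10_1 D189623 (iv6 D94234) D94232
def n189624 : Q := act 6 n94236
theorem D189624 : act 6 n94236 = n189624 := rfl
theorem F377153 : act 2 n189624 = n159806 := d3_1 D189624 (iv6 D159806) (iv2 F145297)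
theorem F377154 : act 3 n189624 = n94238 := d7_1 D189624 (iv6 D94238) D94236
theorem F377155 : act 4 n189624 = n100375 := d10_1 D189624 F367140 (iv4 F145298)
theorem F377156 : act 7 n189355 = n189624 := d11_0 F377155 (iv7 F375474) (iv4 F376455)
def n189625 : Q := act 0 n94243
theorem D189625 : act 0 n94243 = n189625 := rfl
def n189626 : Q := act 1 n94243
theorem D189626 : act 1 n94243 = n189626 := rfl
theorem F377157 : act 1 n189626 = n102779 := d15_1 D189626 (iv7 D102779) (iv2 F291663)
theorem F377158 : act 5 n188522 = n189626 := d21_6 F64587 (iv1 D20365) D20367 D43183 D92347 D188522 (iv1 D189626) F291664 (iv6 D45758) (iv1 F64585)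
theorem F377159 : act 4 n188522 = n144502 := d19_2 (iv1 F377157) (iv5 F377158) F227345 D144504 F227347 F181709 (iv3 D66304) (iv1 D30973) F24344 (iv4 F45985) (iv3 D28461) D28459 D59916 F94394 (iv3 F105448) F355838 (iv5 D84164) (iv4 F129198) (iv3 F355650)
theorem F377160 : act 3 n151657 = n188522 := d5_5 F377159 F227345 D144506 F342984 D151657
theorem F377161 : act 6 n144502 = n188520 := d10_2 D188522 F377159 (iv4 D188520)
theorem F377162 : act 3 n188520 = n144507 := d7_1 F377161 (iv6 D144507) (iv3 F227345)
theorem F377163 : act 0 n158067 = n188520 := d21_4 (iv5 D75805) F54909 (iv5 F112885) D158067 (iv6 F377161) (iv5 D144502) F226758 (iv5 F357460) (iv6 D158122) (iv1 F113676)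
theorem E103374 : n188519 = n131308 := ((c5_5 D188520 F377162 F363063 (iv3 F363062) (iv4 F355829) (iv3 D188519))).symm
theorem F377164 : act 3 n131308 = n92347 := (sb E103374 (iv3 D188519))
theorem F377165 : act 3 n188521 = n186665 := d6_3 F367591 F377164 D188521
theorem F377166 : act 4 n186667 = n188521 := d5_0 F377165 (iv4 D186665) F136655 D89021 D186667
theorem F377167 : act 3 n189626 = n145949 := d6_3 (iv5 F355700) F377160 F377158
theorem F377168 : act 7 n102777 = n189626 := d8_0 F377167 (iv7 F361631) F365209
theorem F377169 : act 2 n102777 = n189625 := d15_3 (iv0 D189625) D189626 (iv7 F377168)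
theorem F377170 : act 7 n102778 = n189625 := d15_2 (iv0 D102777) D102778 (iv2 F377169)
theorem F377171 : act 2 n189626 = n102778 := d4_3 F377170 (iv2 F377169) F377168
theorem F377172 : act 1 n102779 = n189625 := d15_1 F377157 (iv7 F377170) (iv2 F377171)
def n189627 : Q := act 7 n94243
theorem D189627 : act 7 n94243 = n189627 := rfl
theorem F377173 : act 2 n189627 = n102779 := d4_1 D189627 (iv7 D102779) (iv2 F291663)
theorem F377174 : act 3 n189627 = n116414 := d8_1 D189627 F181608 (iv3 F333378)
theorem F377175 : act 4 n189627 = n139948 := d11_1 D189627 (iv7 F224500) (iv4 F333379)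
theorem F377176 : act 5 n189627 = n98045 := d13_1 D189627 (iv7 D98045) (iv5 F291664)
theorem F377177 : act 6 n189627 = n176508 := d14_1 D189627 F365715 (iv6 D93864) F69370 D94243
theorem F377178 : act 1 n102778 = n189627 := d15_1 D102778 (iv7 D189627) F291663
theorem F377179 : act 1 n189627 = n102777 := d15_1 F377178 F377168 F377171
theorem F377180 : act 4 n146931 = n102778 := d18_7 (iv1 F151169) D103014 (iv1 F356091) F248997 (iv5 F290703) (iv4 F370342) F370345 F377178 F377176
def n189628 : Q := act 0 n94244
theorem D189628 : act 0 n94244 = n189628 := rfl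
theorem F377181 : act 4 n189628 = n137374 := d20_8 (iv4 F330250) (iv1 F183818) (iv4 F183979) (iv3 F339704) (iv1 F360620) (iv3 F370373) F370374 D189628 F220581 (iv1 F352617)
theorem F377182 : act 2 n176507 = n189628 := d15_3 (iv0 D189628) (iv0 F368698) (iv7 F368691)
theorem F377183 : act 1 n176508 = n189628 := d15_0 (iv0 D189628) F327753 D176508
theorem F377184 : act 7 n189628 = n176506 := d15_2 F368699 F377183 (iv2 F368689)
theorem F377185 : act 6 n137388 = n189628 := d14_5 F377184 (iv6 F368675) F368666 F363411 (iv7 F356504)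
theorem F377186 : act 5 n137388 = n188847 := d21_6 F137752 (iv1 F290722) (iv5 F291047) D94244 D189628 (iv6 F377185) (iv1 D188847) F143219 (iv6 D92521) (iv1 F137750)
def n189629 : Q := act 6 n94246
theorem D189629 : act 6 n94246 = n189629 := rfl
theorem F377187 : act 2 n189629 = n101899 := d3_1 D189629 F314163 (iv2 F292337)
theorem F377188 : act 3 n189629 = n149055 := d7_1 D189629 F346071 (iv3 F346070)
theorem F377189 : act 4 n189629 = n97975 := d10_1 D189629 (iv6 D97975) (iv4 F292338)
theorem F377190 : act 5 n189629 = n100727 := d12_1 D189629 F309794 (iv5 F139425) F139423 D94246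
theorem F377191 : act 7 n149192 = n189629 := d13_0 F377190 (iv7 F155238) D149192
def n189630 : Q := act 6 n94247
theorem D189630 : act 6 n94247 = n189630 := rfl
theorem F377192 : act 2 n189630 = n123866 := d3_1 D189630 F352390 (iv2 F145321)
theorem F377193 : act 3 n189630 = n144801 := d7_1 D189630 F346083 F346084
theorem F377194 : act 4 n189630 = n94248 := d10_1 D189630 (iv6 D94248) (iv4 F145322)
theorem F377195 : act 7 n189630 = n123580 := d14_2 D94247 D189630 (iv6 D123580) (iv7 F139424) F139423
theorem F377196 : act 1 n114139 = n189630 := d15_1 F353814 F377195 F197998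
theorem F377197 : act 1 n189630 = n114134 := d15_1 F377196 F352382 (iv2 F352385)
theorem E103375 : n151321 = n114133 := (c20_5 D114852 F314143 (iv4 F314147) F114716 D151321 (iv3 D114133) D114134 (iv1 F377197) F377194 (iv3 F161830) (iv1 F324270))
theorem F377198 : act 1 n114133 = n71318 := (sb E103375 (iv0 D151321))
def n189631 : Q := act 6 n94257
theorem D189631 : act 6 n94257 = n189631 := rfl
theorem F377199 : act 3 n189631 = n94259 := d7_1 D189631 (iv6 D94259) D94257
theorem F377200 : act 4 n189631 = n186715 := d10_1 D189631 (iv6 F367774) (iv4 F145349)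
theorem F377201 : act 5 n189631 = n133185 := d12_1 D189631 (iv6 F338658) (iv5 F338655) F338653 F339577
theorem F377202 : act 0 n189631 = n189225 := d21_4 F339763 F339765 F339577 D189631 (iv6 D189225) D189224 F376148 (iv5 F339779) (iv6 F339778) (iv1 F339762)
theorem F377203 : act 7 n189391 = n189631 := d13_0 F377201 (iv7 F363893) (iv5 F376522)
def n189632 : Q := act 4 n94263
theorem D189632 : act 4 n94263 = n189632 := rfl
theorem F377204 : act 2 n189632 = n106525 := d1_1 D189632 (iv4 D106525) (iv2 F145395)
theorem F377205 : act 7 n189632 = n119065 := d11_2 (iv7 F145397) D189632 (iv4 D119065)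
def n189633 : Q := act 6 n94263
theorem D189633 : act 6 n94263 = n189633 := rfl
theorem F377206 : act 2 n189633 = n106526 := d3_1 D189633 (iv6 D106526) (iv2 F145395)
theorem F377207 : act 3 n189633 = n119106 := d7_1 D189633 F333551 (iv3 F145396)
theorem F377208 : act 7 n189633 = n119104 := d14_2 (iv7 F145397) D189633 (iv6 F376817) F376814 F187331
theorem F377209 : act 0 n189633 = n188066 := d21_10 (iv5 D188066) (iv1 D90765) D90766 F139691 F65984 (iv6 F136656) (iv5 D89019) F69409 D94263 D189633
theorem F377210 : act 1 n189633 = n188062 := d15_1 (iv0 F377209) F376845 F376842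
def n189634 : Q := act 4 n94264
theorem D189634 : act 4 n94264 = n189634 := rfl
theorem F377211 : act 2 n189634 = n113026 := d1_1 D189634 F176079 (iv2 F164383)
theorem F377212 : act 3 n189634 = n189337 := d5_1 D189634 (iv4 D189337) (iv3 F376410) (iv4 D189302) (iv3 F145400)
theorem F377213 : act 6 n189634 = n186322 := d10_2 (iv6 F369367) D189634 F369372
theorem F377214 : act 7 n189634 = n113027 := d11_2 F163324 D189634 F176080
theorem F377215 : act 0 n189634 = n113031 := d18_2 (iv1 F145398) D189634 F176085 F82487 (iv4 F47671) (iv0 F65507) F32919 D20934 D44070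
theorem F377216 : act 1 n189634 = n113021 := d18_6 F87480 (iv4 F95759) (iv1 F97646) (iv4 F97647) F145399 D189634 (iv4 D113021) D113020 (iv5 F176066)
def n189635 : Q := act 3 n94265
theorem D189635 : act 3 n94265 = n189635 := rfl
def n189636 : Q := act 5 n94265
theorem D189636 : act 5 n94265 = n189636 := rfl
def n189637 : Q := act 0 n94266
theorem D189637 : act 0 n94266 = n189637 := rfl
theorem F377217 : act 5 n189637 = n184732 := d17_1 D189637 F376964 F142642 (iv4 F145481) (iv5 F352935) (iv0 D112901) (iv5 F97669) D133416 (iv4 F352954)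
theorem F377218 : act 2 n188865 = n189637 := d2_3 F377217 (iv2 F376967) D188865
theorem F377219 : act 3 n184733 = n189637 := d6_3 F377217 (iv3 D184732) D184733
theorem F377220 : act 7 n188861 = n189637 := d13_0 F377217 F376966 D188861
theorem F377221 : act 1 n103016 = n189637 := d18_8 F376964 (iv4 F374272) (iv1 F375379) (iv4 D189004) D189005 F375385 F214527 (iv4 F356094) F377217
theorem F377222 : act 6 n94306 = n189637 := d21_5 (iv5 D9951) D9949 D20940 D44084 D94306 F377217 F376964 F142642 (iv6 D44100) (iv1 D20948)
theorem F377223 : act 4 n189637 = n102242 := d10_1 F377222 F353343 (iv4 F368656)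
theorem F377224 : act 4 n187108 = n112902 := d18_7 (iv1 F214532) (iv4 F352954) D189637 F377223 (iv5 D102242) (iv4 F137270) D187108 (iv0 F329296) F329300
def n189638 : Q := act 1 n94266
theorem D189638 : act 1 n94266 = n189638 := rfl
theorem F377225 : act 1 n189638 = n103016 := d15_1 D189638 (iv7 F356095) F164387
theorem F377226 : act 7 n189638 = n188865 := d15_2 (iv0 D189637) D189638 F377218
theorem F377227 : act 5 n189638 = n188637 := d18_9 (iv1 F374278) (iv4 F375067) (iv1 F375068) F374383 (iv5 F374370) F214503 D133416 (iv4 F352954) D189638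
theorem F377228 : act 2 n188861 = n189638 := d2_3 F377227 F376956 D188861
theorem F377229 : act 3 n189309 = n189638 := d6_3 F377227 F376991 F376390
def n189639 : Q := act 7 n94266
theorem D189639 : act 7 n94266 = n189639 := rfl
theorem F377230 : act 2 n189639 = n103016 := d4_1 D189639 (iv7 F356095) F164387
theorem F377231 : act 4 n189639 = n130624 := d11_1 D189639 F352956 (iv4 F352954)
theorem F377232 : act 6 n189639 = n98044 := d14_1 D189639 F355656 (iv6 F355639) F144699 D94266
theorem F377233 : act 1 n188861 = n189639 := d15_1 (iv0 F375070) (iv7 D189639) (iv2 F164387)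
theorem F377234 : act 1 n189639 = n188865 := d15_1 F377233 (iv7 F377226) (iv2 F377228)
def n189640 : Q := act 5 n94267
theorem D189640 : act 5 n94267 = n189640 := rfl
def n189641 : Q := act 6 n94267
theorem D189641 : act 6 n94267 = n189641 := rfl
theorem F377235 : act 2 n189641 = n103009 := d3_1 D189641 (iv6 F376359) F376358
theorem F377236 : act 3 n189641 = n97439 := d7_1 D189641 (iv6 F373557) F211659
theorem F377237 : act 4 n189641 = n94268 := d10_1 D189641 (iv6 D94268) D94267
theorem F377238 : act 7 n189641 = n103014 := d14_2 F164386 D189641 (iv6 F356092) F352957 (iv6 F349638)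
theorem F377239 : act 0 n158122 = n189641 := d18_2 (iv1 D186170) (iv4 F249060) F377237 (iv5 F259536) (iv4 F347741) (iv0 D148120) F105680 D144970 F343305
def n189642 : Q := act 3 n94269
theorem D189642 : act 3 n94269 = n189642 := rfl
def n189643 : Q := act 5 n94269
theorem D189643 : act 5 n94269 = n189643 := rfl
theorem F377240 : act 6 n189643 = n181923 := d12_2 (iv6 F375669) D189643 (iv5 D181923) (iv6 F295444) D189080
theorem F377241 : act 4 n189643 = n189331 := d16_2 D94269 D189643 F376408 (iv4 D106508) (iv5 D49219) (iv4 F37656) (iv5 F82966) F82967 F82964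
def n189644 : Q := act 0 n94270
theorem D189644 : act 0 n94270 = n189644 := rfl
theorem F377242 : act 4 n189644 = n188212 := d18_3 (iv1 F375668) F375666 D189644 (iv5 D188212) (iv4 D91090) F139093 (iv4 F283179) F283181 D185956
theorem F377243 : act 6 n189644 = n94355 := d21_5 (iv5 D106280) F114358 (iv5 F82956) D94270 D189644 (iv5 F375031) (iv1 D188833) (iv5 F164389) (iv6 D106684) (iv1 F163326)
theorem F377244 : act 0 n189644 = n186761 := d20_7 (iv4 F294089) F294087 (iv4 F67268) (iv3 F141179) F293078 (iv3 F372690) (iv4 F377242) (iv4 D186761) F136821 F294078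
def n189645 : Q := act 1 n94270
theorem D189645 : act 1 n94270 = n189645 := rfl
theorem F377245 : act 1 n189645 = n186761 := d15_1 D189645 F367910 F163736
theorem F377246 : act 4 n188209 = n189645 := d18_5 (iv1 D91096) (iv4 D42664) D42661 D91085 D188209 F377245 (iv4 D186761) (iv0 F357561) (iv5 F352885)
def n189646 : Q := act 7 n94270
theorem D189646 : act 7 n94270 = n189646 := rfl
theorem F377247 : act 2 n189646 = n186761 := d4_1 D189646 F367910 F163736
theorem F377248 : act 3 n189646 = n151691 := d8_1 D189646 F349262 F210441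
theorem F377249 : act 4 n189646 = n95643 := d11_1 D189646 (iv7 F375665) F375666
theorem F377250 : act 5 n189646 = n104413 := d13_1 D189646 F177281 F177212
theorem F377251 : act 6 n189646 = n151690 := d14_1 D189646 F371611 F371609 F139485 D94270
def n189647 : Q := act 3 n94271
theorem D189647 : act 3 n94271 = n189647 := rfl
theorem F377252 : act 4 n189647 = n106615 := d5_2 D94271 D189647 F164217 F77849 (iv3 F82965)
theorem F377253 : act 7 n189647 = n132049 := d8_2 F163735 D189647 F211533
def n189648 : Q := act 5 n94271
theorem D189648 : act 5 n94271 = n189648 := rfl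
theorem F377254 : act 4 n189648 = n189332 := d9_1 D189648 F376416 F376178 (iv5 D106696) F77939 (iv5 F82956) D94269 D189643 F377241 F376408 (iv4 D106508) (iv5 D49219) (iv4 F37656) (iv5 F82966) D94271
def n189649 : Q := act 6 n94271
theorem D189649 : act 6 n94271 = n189649 := rfl
theorem F377255 : act 4 n189649 = n94272 := d10_1 D189649 (iv6 D94272) D94271
theorem F377256 : act 7 n189649 = n186759 := d14_2 F163735 D189649 F367905 F294895 F360835
theorem F377257 : act 5 n186760 = n189649 := d21_2 (iv5 F367281) F367908 (iv6 D189649) (iv1 F152170) F152168 (iv5 F292606) (iv1 F59875) D38864 D84272 (iv1 F359399)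
def n189650 : Q := act 7 n94272
theorem D189650 : act 7 n94272 = n189650 := rfl
theorem F377258 : act 2 n189650 = n151690 := d4_1 D189650 F371611 F371607
theorem F377259 : act 3 n189650 = n106694 := d8_1 D189650 (iv7 D106694) (iv3 F145402)
theorem F377260 : act 4 n189650 = n186759 := d11_1 D189650 (iv7 F377256) F377255
theorem F377261 : act 6 n189650 = n186761 := d14_1 D189650 F367910 (iv6 D106487) (iv7 F82967) D94272
theorem F377262 : act 1 n151690 = n187968 := d15_0 (iv0 F371962) D189650 F377258
def n189651 : Q := act 3 n94273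
theorem D189651 : act 3 n94273 = n189651 := rfl
theorem F377263 : act 4 n189651 = n130551 := d5_2 (iv4 F145403) D189651 F209136 F95728 (iv3 F95746)
def n189652 : Q := act 5 n94273
theorem D189652 : act 5 n94273 = n189652 := rfl
theorem F377264 : act 4 n189652 = n189432 := d16_2 (iv4 F145403) D189652 F376604 (iv4 D188817) (iv5 D92819) (iv4 F97629) D133395 F214469 (iv2 F152165)
theorem F377265 : act 1 n189652 = n94275 := d17_6 F144708 (iv5 F82482) F56578 D61277 (iv4 F145403) D189652 (iv5 F376411) (iv0 F376363) (iv4 D189297)
theorem F377266 : act 3 n189426 = n189652 := d5_5 F377264 F376597 F144783 (iv3 F144781) (iv4 F376586)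
theorem F377267 : act 6 n189425 = n189652 := d10_0 F377264 (iv6 D189432) (iv4 F376582)
theorem F377268 : act 5 n189651 = n189426 := d6_0 F377266 (iv5 D189652) D189651
theorem F377269 : act 6 n189491 = n189651 := d12_0 F377268 (iv6 D189426) (iv5 F331367) F293688 D189491
theorem F377270 : act 0 n188460 = n189426 := d19_0 (iv5 F377268) F377263 F209136 F95729 F47691 F39948 F23905 (iv1 F23906) F11115 (iv4 F11108) F11107 (iv1 F10238) D11263 D24009 D49196 D106473 (iv5 F373568) (iv4 D188461) D188460
def n189653 : Q := act 6 n94273
theorem D189653 : act 6 n94273 = n189653 := rfl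
theorem F377271 : act 3 n189653 = n189491 := d7_1 D189653 F377269 (iv3 D189651)
theorem F377272 : act 4 n189653 = n130598 := d10_1 D189653 (iv6 D130598) (iv4 F145403)
theorem F377273 : act 5 n189653 = n176705 := d12_1 D189653 (iv6 F364447) (iv5 F376583) F377267 (iv5 D189652)
theorem F377274 : act 0 n188209 = n189653 := d17_0 F377273 (iv1 D176705) F129304 (iv4 F129398) F293652 (iv0 F177213) F177212 D189645 (iv4 F377246)
theorem F377275 : act 1 n188212 = n189653 := d17_6 (iv1 F294962) D93207 (iv1 F295266) F357554 D91090 D188212 F377273 F364443 (iv4 D89113)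
theorem F377276 : act 3 n130599 = n106699 := d20_5 (iv4 F377246) F377274 F377272 F209170 D130599 F332825 (iv1 F175331) F328935 (iv3 F367909) (iv1 F377245)
def n189654 : Q := act 3 n94274
theorem D189654 : act 3 n94274 = n189654 := rfl
def n189655 : Q := act 5 n94274
theorem D189655 : act 5 n94274 = n189655 := rfl
theorem F377277 : act 0 n189655 = n94275 := d17_2 F340680 D189655 (iv5 F376411) F176080 (iv5 D106280) F114359 (iv5 F82966) F144704 F294560
def n189656 : Q := act 6 n94274
theorem D189656 : act 6 n94274 = n189656 := rfl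
theorem F377278 : act 5 n186955 = n189656 := d21_2 F353334 F368657 (iv6 D189656) (iv1 D94274) F69418 (iv5 F292639) F56544 (iv5 F59914) D84334 D176925
def n189657 : Q := act 2 n94275
theorem D189657 : act 2 n94275 = n189657 := rfl
theorem F377279 : act 4 n189657 = n189333 := d1_2 (iv4 F145404) D189657 (iv2 D189333)
theorem F377280 : act 5 n189657 = n159503 := d2_2 F376411 D189657 F251186
theorem F377281 : act 6 n189657 = n94365 := d3_2 (iv6 F145405) D189657 (iv2 D94365)
def n189658 : Q := act 7 n94275
theorem D189658 : act 7 n94275 = n189658 := rfl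
theorem F377282 : act 3 n189658 = n94277 := d8_1 D189658 (iv7 D94277) D94275
theorem F377283 : act 4 n189658 = n189334 := d11_1 D189658 (iv7 D189334) (iv4 F145404)
theorem F377284 : act 5 n189658 = n189634 := d13_1 D189658 F377214 F376411
def n189659 : Q := act 0 n94276
theorem D189659 : act 0 n94276 = n189659 := rfl
theorem F377285 : act 5 n189659 = n113031 := d17_3 (iv1 D94274) D94276 D189659 F176085 F82487 F65045 D90104 (iv0 F214470) (iv4 F214472)
theorem F377286 : act 3 n113085 = n189659 := d6_3 F377285 F176084 F331506
theorem F377287 : act 7 n113029 = n189659 := d13_0 F377285 (iv7 D113031) D113029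
def n189660 : Q := act 1 n94276
theorem D189660 : act 1 n94276 = n189660 := rfl
theorem F377288 : act 5 n189660 = n113021 := d17_7 F114399 (iv5 D44070) (iv1 D20934) D20935 D44074 D94276 D189660 (iv0 F251188) (iv4 D159503)
theorem F377289 : act 2 n113029 = n189660 := d2_3 F377288 F176069 D113029
theorem F377290 : act 6 n113077 = n189660 := d12_0 F377288 F356090 F226903 F176146 D113077
def n189661 : Q := act 5 n94280
theorem D189661 : act 5 n94280 = n189661 := rfl
theorem F377291 : act 7 n189661 = n189279 := d13_2 (iv7 F157635) D189661 (iv5 D189279)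
def n189662 : Q := act 6 n94290
theorem D189662 : act 6 n94290 = n189662 := rfl
theorem F377292 : act 3 n189662 = n189388 := d7_1 D189662 (iv6 D189388) F251949
def n189663 : Q := act 1 n94292
theorem D189663 : act 1 n94292 = n189663 := rfl
theorem F377293 : act 1 n189663 = n151687 := d15_1 D189663 (iv7 D151687) (iv2 F333571)
theorem F377294 : act 7 n189663 = n133657 := d15_2 F376789 D189663 (iv2 F376786)
theorem F377295 : act 2 n151686 = n189663 := d4_3 F377294 (iv2 F376786) F376787
theorem F377296 : act 3 n110336 = n189663 := d8_3 F377294 (iv3 D133657) F171483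
theorem F377297 : act 6 n189663 = n151632 := d7_2 F178425 F377296 F355728
def n189664 : Q := act 4 n94294
theorem D189664 : act 4 n94294 = n189664 := rfl
theorem F377298 : act 2 n189664 = n189286 := d1_1 D189664 F376331 (iv2 F288158)
theorem F377299 : act 6 n189664 = n159751 := d10_2 (iv6 F288161) D189664 (iv4 D159751)
def n189665 : Q := act 3 n94295
theorem D189665 : act 3 n94295 = n189665 := rfl
theorem F377300 : act 5 n189665 = n184508 := d6_2 (iv5 F370712) D189665 F363652
theorem F377301 : act 7 n189665 = n189284 := d8_2 (iv7 F288162) D189665 F376327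
theorem F377302 : act 4 n189665 = n188073 := d20_6 (iv4 F350540) (iv1 F345192) (iv4 F345188) (iv3 F371848) (iv1 F371852) D189665 (iv1 F372240) F345033 F345032 (iv1 F350544)
def n189666 : Q := act 4 n94295
theorem D189666 : act 4 n94295 = n189666 := rfl
theorem F377303 : act 7 n189666 = n189286 := d11_2 (iv7 F288162) D189666 F376331
theorem F377304 : act 3 n189666 = n98651 := d20_3 (iv4 F371850) (iv1 F371852) D189666 (iv1 D98651) F72694 F34517 (iv1 F63007) (iv4 F64523) (iv3 F137394) (iv1 F283725)
def n189667 : Q := act 6 n94295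
theorem D189667 : act 6 n94295 = n189667 := rfl
theorem F377305 : act 2 n189667 = n187745 := d3_1 D189667 (iv6 F371872) (iv2 F371873)
theorem F377306 : act 7 n189667 = n159749 := d14_2 (iv7 F288162) D189667 (iv6 D159749) (iv7 F283532) D93847
theorem F377307 : act 0 n189667 = n187125 := d21_4 D187531 (iv1 F370703) (iv5 F370712) D189667 F369179 (iv5 D92893) (iv1 F329844) (iv5 D92831) F177386 (iv1 F138919)
theorem F377308 : act 5 n117339 = n189667 := d21_2 (iv5 F85347) D117339 (iv6 D189667) (iv1 D94295) (iv6 D44080) D44079 D94290 F293769 (iv6 F293770) (iv1 D90521)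
theorem F377309 : act 0 n187124 = n189667 := d21_4 (iv5 F251609) (iv1 F372532) (iv5 D188166) (iv6 F369176) (iv6 D189667) F370712 (iv1 D90621) (iv5 D42425) D42426 D90624
def n189668 : Q := act 3 n94306
theorem D189668 : act 3 n94306 = n189668 := rfl
theorem F377310 : act 2 n189668 = n189377 := d0_1 D189668 (iv3 D189377) (iv2 F376945) F376999 (iv2 F369402)
theorem F377311 : act 6 n189668 = n184733 := d7_2 (iv6 F377222) D189668 F377219
theorem F377312 : act 5 n188295 = n189668 := d12_5 F377311 (iv5 D184733) (iv6 F136912) F295203 D188295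
theorem F377313 : act 0 n189223 = n189668 := d21_4 (iv5 D43841) D43839 D93785 D189223 F377311 (iv5 D184733) D184730 (iv5 F376170) (iv6 D189233) (iv1 D93793)
def n189669 : Q := act 5 n94306
theorem D189669 : act 5 n94306 = n189669 := rfl
theorem F377314 : act 2 n189669 = n187820 := d2_1 D189669 (iv5 F371610) (iv2 F369402)
theorem F377315 : act 3 n189669 = n188295 := d6_1 D189669 F377312 (iv3 D189668)
theorem F377316 : act 6 n189669 = n188294 := d12_2 (iv6 F377222) D189669 F373001 F368148 (iv5 F377217)
theorem F377317 : act 7 n189669 = n187819 := d13_2 (iv7 F369400) D189669 F371603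
theorem F377318 : act 4 n189669 = n108445 := d16_4 (iv4 F137323) (iv5 F353334) (iv4 F368656) D189669 (iv5 D108445) (iv4 F80866) D111141 (iv7 F335714) F136365
theorem F377319 : act 0 n189669 = n151235 := d17_2 D94306 D189669 F237969 (iv4 F377255) (iv5 F377257) (iv0 F367908) F367281 F359399 (iv4 F292787)
theorem F377320 : act 1 n189669 = n187822 := d15_1 (iv0 F377319) (iv7 D187822) (iv2 F237967)
def n189670 : Q := act 5 n94307
theorem D189670 : act 5 n94307 = n189670 := rfl
theorem F377321 : act 2 n189670 = n187819 := d2_1 D189670 F371603 F369405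
theorem F377322 : act 3 n189670 = n189383 := d6_1 D189670 (iv5 D189383) (iv3 F377001)
theorem F377323 : act 7 n189670 = n187820 := d13_2 (iv7 F369404) D189670 (iv5 F371610)
theorem F377324 : act 6 n189670 = n187527 := d21_9 (iv5 F371791) (iv1 F371794) (iv5 F371907) (iv6 D187946) (iv1 F370745) F370742 (iv5 F369409) (iv1 F369411) D189670 (iv1 F370690)
theorem F377325 : act 0 n151235 = n189670 := d21_10 (iv5 D189670) (iv1 D94307) (iv5 F138939) (iv6 D90318) (iv1 D42217) (iv6 F65152) (iv5 D42208) D42206 (iv5 F107771) D151235
theorem F377326 : act 1 n187822 = n189670 := d15_1 F377320 F377323 (iv2 F377314)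
def n189671 : Q := act 6 n94307
theorem D189671 : act 6 n94307 = n189671 := rfl
theorem F377327 : act 3 n189671 = n189384 := d7_1 D189671 (iv6 D189384) (iv3 F377001)
theorem F377328 : act 0 n189671 = n189484 := d21_10 (iv5 D189484) (iv1 F376195) F376192 F373756 (iv1 F144704) D94272 (iv5 F237969) F377325 (iv5 D189670) D189671
def n189672 : Q := act 6 n94314
theorem D189672 : act 6 n94314 = n189672 := rfl
theorem F377329 : act 2 n189672 = n133665 := d3_1 D189672 (iv6 F293780) F293778
theorem F377330 : act 3 n189672 = n151687 := d7_1 D189672 F238561 (iv3 F145454)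
theorem F377331 : act 5 n189672 = n110337 := d12_1 D189672 F170575 (iv5 D93927) (iv6 F157581) D94314
theorem F377332 : act 7 n189672 = n106469 := d14_2 F157296 D189672 (iv6 D106469) (iv7 F77701) (iv6 F114664)
theorem F377333 : act 1 n133664 = n189672 := d15_1 D133664 F377332 F163716
theorem F377334 : act 0 n133663 = n189672 := d17_0 F377331 (iv1 F170577) (iv5 F165960) F373521 (iv5 F373522) F358161 (iv5 F288005) F370265 (iv4 F373808)
def n189673 : Q := act 0 n94318
theorem D189673 : act 0 n94318 = n189673 := rfl
theorem F377335 : act 5 n189673 = n148749 := d17_1 D189673 (iv1 F233530) (iv5 D88527) F63673 D48371 D104590 F369999 F370006 F370002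
theorem F377336 : act 4 n189673 = n187281 := d20_0 (iv1 D187281) F350464 (iv3 D89606) F290985 (iv3 F142235) F142236 D186586 (iv4 F373762) F373761 D189673
theorem F377337 : act 6 n189673 = n188916 := d21_5 D187170 (iv1 F369326) (iv5 D94317) D94318 D189673 (iv5 F375194) (iv1 D188631) (iv5 D92593) F292530 D89668
theorem F377338 : act 2 n94324 = n189673 := d15_3 (iv0 D189673) F288032 F353199
theorem F377339 : act 7 n189673 = n94325 := d4_2 F353199 F377338 F350452
theorem F377340 : act 3 n187745 = n189673 := d8_3 F377339 F350453 (iv7 F371387)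
theorem F377341 : act 1 n94326 = n189673 := d15_1 F288031 F377339 F350452
def n189674 : Q := act 7 n94318
theorem D189674 : act 7 n94318 = n189674 := rfl
theorem F377342 : act 2 n189674 = n94326 := d4_1 D189674 (iv7 D94326) (iv2 F145462)
theorem F377343 : act 4 n189674 = n187283 := d11_1 D189674 (iv7 F370004) F370002
theorem F377344 : act 5 n189674 = n185788 := d13_1 D189674 (iv7 F288359) F288358
theorem F377345 : act 6 n189674 = n159810 := d14_1 D189674 (iv7 F371927) F371930 F294540 D94318
theorem F377346 : act 1 n94325 = n189674 := d15_1 D94325 (iv7 D189674) F145462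
theorem F377347 : act 1 n189674 = n94324 := d15_1 F377346 (iv7 F353199) (iv2 F350452)
def n189675 : Q := act 3 n94320
theorem D189675 : act 3 n94320 = n189675 := rfl
theorem F377348 : act 2 n189675 = n189346 := d0_1 D189675 (iv3 D189346) F349246 (iv3 F369328) F369327
theorem F377349 : act 5 n189675 = n102918 := d6_2 (iv5 F350498) D189675 (iv3 D102918)
theorem F377350 : act 6 n189675 = n144548 := d7_2 (iv6 F360345) D189675 F338515
theorem F377351 : act 4 n189675 = n144549 := d20_6 (iv4 F72389) F72390 (iv4 F291763) (iv3 F69438) D94320 D189675 F376738 (iv4 D88786) F63891 D41450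
theorem F377352 : act 1 n189218 = n189675 := d17_6 F362646 (iv5 F377033) (iv1 F377036) F372948 F294592 D189218 F377349 (iv0 F372835) (iv4 D188249)
theorem F377353 : act 0 n189219 = n189624 := d21_4 (iv5 F377349) (iv1 F377352) (iv5 D189218) D189219 (iv6 D189624) F339774 F339776 (iv5 F339763) F372843 F372835
def n189676 : Q := act 4 n94320
theorem D189676 : act 4 n94320 = n189676 := rfl
theorem F377354 : act 2 n189676 = n189510 := d1_1 D189676 F376766 F369327
theorem F377355 : act 3 n189676 = n163607 := d5_1 D189676 (iv4 F370189) (iv3 F370191) (iv4 F377351) (iv3 D189675)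
theorem F377356 : act 6 n189676 = n131894 := d10_2 (iv6 F360345) D189676 F338514
theorem F377357 : act 7 n189676 = n189509 := d11_2 F369324 D189676 F376759
theorem F377358 : act 0 n189676 = n189505 := d18_2 D94320 D189676 (iv4 D189505) (iv5 D94009) F305030 (iv0 F305033) F70308 (iv0 F157256) D44090
theorem F377359 : act 1 n189676 = n189272 := d18_6 F251870 F293507 F158221 (iv4 D102919) (iv5 F350498) D189676 (iv4 D189272) (iv0 F374559) (iv5 D188720)
theorem F377360 : act 5 n188440 = n189676 := d17_7 D189271 F376278 (iv1 F144869) D188030 F372180 (iv5 F364796) (iv0 F373493) F377359 (iv4 D189272)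
theorem F377361 : act 5 n137092 = n164130 := d16_1 (iv4 F350535) (iv4 F373491) F377360 (iv4 D189676) F350498 D102919 F350496 (iv7 F350526) F350524
theorem F377362 : act 3 n164131 = n137092 := d6_3 F377361 (iv3 D164130) D164131
def n189677 : Q := act 4 n94321
theorem D189677 : act 4 n94321 = n189677 := rfl
theorem F377363 : act 2 n189677 = n189509 := d1_1 D189677 F376759 F369322
theorem F377364 : act 7 n189677 = n189510 := d11_2 F369329 D189677 F376766
theorem F377365 : act 0 n189677 = n189272 := d17_0 F376288 F361884 F342869 F211427 F97674 (iv0 F157256) D44090 D94321 D189677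
theorem F377366 : act 1 n189677 = n189505 := d18_6 (iv1 F144869) (iv4 F160711) (iv1 F350514) (iv4 D102924) (iv5 F353201) D189677 (iv4 D189505) F376281 F376278
def n189678 : Q := act 6 n94321
theorem D189678 : act 6 n94321 = n189678 := rfl
theorem F377367 : act 2 n189678 = n113926 := d3_1 D189678 (iv6 F369323) F369322
theorem F377368 : act 3 n189678 = n186687 := d7_1 D189678 F367678 F353202
theorem F377369 : act 5 n189678 = n105347 := d12_1 D189678 F161552 (iv5 D92804) F294515 (iv5 F353201)
theorem F377370 : act 7 n189678 = n113930 := d14_2 F369329 D189678 (iv6 F177294) (iv7 F342972) (iv6 F369332)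
theorem F377371 : act 0 n107575 = n189678 := d21_4 (iv5 D114967) (iv1 D53049) F78524 D107575 (iv6 D189678) F353201 (iv1 D47730) D47732 (iv6 F293789) F179059
def n189679 : Q := act 3 n94324
theorem D189679 : act 3 n94324 = n189679 := rfl
theorem F377372 : act 5 n189679 = n187779 := d6_2 F353200 D189679 (iv3 D187779)
theorem F377373 : act 7 n189679 = n189289 := d8_2 F353199 D189679 F376338
theorem F377374 : act 4 n189679 = n187102 := d20_6 F67873 F64481 F62871 (iv3 F69439) D94324 D189679 (iv1 D187102) (iv4 F143482) (iv3 D93032) F68405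
def n189680 : Q := act 5 n94330
theorem D189680 : act 5 n94330 = n189680 := rfl
theorem F377375 : act 2 n189680 = n158794 := d2_1 D189680 (iv5 F369362) F369364
theorem F377376 : act 3 n189680 = n189400 := d6_1 D189680 (iv5 D189400) (iv3 F376222)
theorem F377377 : act 7 n189680 = n187788 := d13_2 F369366 D189680 F371500
theorem F377378 : act 6 n189680 = n133518 := d21_9 (iv5 F319751) F128913 (iv5 F113537) (iv6 F326533) (iv1 F63678) D88535 F135586 D94330 D189680 (iv1 F214726)
theorem F377379 : act 4 n158220 = n189680 := d10_3 F377378 F319739 D158220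
theorem F377380 : act 0 n165939 = n158220 := d18_2 (iv1 F366057) (iv4 F366058) F377379 (iv5 D189680) (iv4 F369295) (iv0 D176916) F291652 D94454 (iv5 F176983)
theorem F377381 : act 1 n165939 = n158798 := d15_1 (iv0 F377380) (iv7 D158798) (iv2 F249249)
def n189681 : Q := act 6 n94330
theorem D189681 : act 6 n94330 = n189681 := rfl
theorem F377382 : act 2 n189681 = n176048 := d3_1 D189681 (iv6 F369361) F369364
theorem F377383 : act 3 n189681 = n189401 := d7_1 D189681 (iv6 D189401) (iv3 F376222)
theorem F377384 : act 5 n189681 = n164200 := d12_1 D189681 F324640 (iv5 F319740) (iv6 F377378) (iv5 D189680)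
def n189682 : Q := act 3 n94331
theorem D189682 : act 3 n94331 = n189682 := rfl
theorem F377385 : act 2 n189682 = n189402 := d0_1 D189682 (iv3 D189402) (iv2 F376212) F376213 F369368
def n189683 : Q := act 4 n94335
theorem D189683 : act 4 n94335 = n189683 := rfl
theorem F377386 : act 2 n189683 = n94336 := d1_1 D189683 (iv4 D94336) D94335
theorem F377387 : act 6 n189683 = n151710 := d10_2 (iv6 F238439) D189683 (iv4 F363066)
theorem F377388 : act 1 n189683 = n186665 := d18_6 (iv1 D102571) F74814 D47589 F293617 F292542 D189683 (iv4 D186665) D186664 F367588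
def n189684 : Q := act 1 n94336
theorem D189684 : act 1 n94336 = n189684 := rfl
theorem F377389 : act 4 n189684 = n186658 := d18_7 (iv1 F374494) F157529 F293611 F70076 (iv5 F292544) D94336 D189684 F376705 F376704
theorem F377390 : act 2 n186665 = n189684 := d1_3 F377389 F367576 D186665
theorem F377391 : act 6 n107558 = n189684 := d10_0 F377389 F367578 (iv4 F340670)
theorem F377392 : act 3 n189684 = n133427 := d7_1 F377391 (iv6 D133427) (iv3 F350609)
def n189685 : Q := act 3 n94336
theorem D189685 : act 3 n94336 = n189685 := rfl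
theorem F377393 : act 4 n189685 = n94339 := d5_2 D94336 D189685 (iv3 D94339) (iv4 D44096) D44095
theorem F377394 : act 7 n189685 = n112262 := d8_2 (iv7 F367209) D189685 F326848
theorem F377395 : act 0 n96032 = n189685 := d20_4 F70382 (iv1 F70168) D44809 D96032 (iv3 D189685) (iv4 D94336) (iv1 F331368) (iv4 F331359) (iv3 D96037) (iv1 F70388)
def n189686 : Q := act 5 n94336
theorem D189686 : act 5 n94336 = n189686 := rfl
def n189687 : Q := act 6 n94336
theorem D189687 : act 6 n94336 = n189687 := rfl
theorem F377396 : act 2 n189687 = n151710 := d3_1 D189687 (iv6 F377387) F377386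
theorem F377397 : act 4 n189687 = n94337 := d10_1 D189687 (iv6 D94337) D94336
def n189688 : Q := act 0 n94337
theorem D189688 : act 0 n94337 = n189688 := rfl
theorem F377398 : act 1 n120116 = n189688 := d15_0 (iv0 D189688) F238449 F238450
def n189689 : Q := act 1 n94337
theorem D189689 : act 1 n94337 = n189689 := rfl
theorem F377399 : act 1 n189689 = n120116 := d15_1 D189689 F238447 F238440
theorem F377400 : act 5 n114940 = n189689 := d21_0 (iv1 D189689) F151792 D159683 (iv1 F283584) F368489 F368485 (iv1 D114937) (iv5 D53034) D53035 D114940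
theorem F377401 : act 6 n148028 = n189689 := d21_3 (iv5 D105413) (iv1 F314501) D148028 (iv1 D189689) (iv6 D94337) F292544 D89658 D187166 F369302 F251728
theorem F377402 : act 6 n121310 = n114940 := d21_5 (iv5 D93841) (iv1 F114571) F114568 (iv6 F88586) (iv1 F193437) F377400 (iv1 D189689) F151792 D159683 (iv1 F283584)
theorem F377403 : act 2 n114940 = n121325 := d3_1 F377402 (iv6 D121325) (iv2 F354916)
theorem F377404 : act 4 n114940 = n154386 := d10_1 F377402 (iv6 D154386) (iv4 F354911)
theorem E103376 : n134067 = n114935 := (c20_11 F179019 D114940 F377404 F242457 (iv1 F361708) F216002 F98237 (iv1 F80950) F80897 (iv3 F98265) D134067)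
theorem F377405 : act 1 n114935 = n62973 := (sb E103376 (iv0 D134067))
theorem F377406 : act 7 n114941 = n121325 := d15_2 (iv0 D114940) D114941 (iv2 F377403)
def n189690 : Q := act 2 n94339
theorem D189690 : act 2 n94339 = n189690 := rfl
theorem F377407 : act 3 n189690 = n158059 := d0_2 D94339 D189690 F249006 F112883 F292778
theorem F377408 : act 5 n189690 = n112229 := d2_2 (iv5 F326852) D189690 F174528
theorem F377409 : act 7 n189690 = n112228 := d4_2 (iv7 F326853) D189690 F174526
theorem F377410 : act 1 n189690 = n112260 := d15_0 (iv0 D112260) (iv7 F326853) D189690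
theorem F377411 : act 1 n112261 = n189690 := d15_0 F377410 F174608 F174604
def n189691 : Q := act 6 n94339
theorem D189691 : act 6 n94339 = n189691 := rfl
theorem F377412 : act 3 n189691 = n94341 := d7_1 D189691 (iv6 D94341) D94339
theorem F377413 : act 5 n189691 = n125514 := d12_1 D189691 F361568 F169731 (iv6 F81777) (iv5 F326852)
def n189692 : Q := act 0 n94341
theorem D189692 : act 0 n94341 = n189692 := rfl
def n189693 : Q := act 1 n94341
theorem D189693 : act 1 n94341 = n189693 := rfl
theorem F377414 : act 1 n189693 = n158072 := d15_1 D189693 (iv7 D158072) (iv2 F293636)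
theorem F377415 : act 4 n189693 = n102873 := d18_7 (iv1 F355329) F272145 D173658 F355330 (iv5 D94344) (iv4 F145476) D189693 F289015 F331428
theorem F377416 : act 3 n106293 = n189693 := d19_19 (iv1 D189693) F293637 F346355 (iv3 D125520) F92865 F78170 (iv4 D27931) F22141 (iv1 F37941) (iv5 D24210) (iv4 F18561) (iv3 F18312) (iv1 D11253) F10425 (iv4 F19912) D25333 F54247 D49126 D106293
theorem F377417 : act 3 n102873 = n133702 := d5_3 D106293 F377416 F377415 (iv4 D133702) F97919
theorem F377418 : act 7 n189693 = n158070 := d8_2 F164509 F377416 (iv3 F355121)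
theorem F377419 : act 7 n186263 = n102873 := d11_2 F377418 F355120 (iv4 F377415)
theorem F377420 : act 2 n158070 = n189692 := d15_3 (iv0 D189692) D189693 F377418
theorem F377421 : act 7 n158071 = n189692 := d15_2 (iv0 D158070) D158071 (iv2 F377420)
theorem F377422 : act 2 n189693 = n158071 := d4_3 F377421 (iv2 F377420) (iv7 F377418)
theorem F377423 : act 1 n158072 = n189692 := d15_1 F377414 (iv7 F377421) (iv2 F377422)
theorem F377424 : act 4 n189692 = n102872 := d18_7 F291388 F324706 (iv1 F324705) (iv4 D164201) (iv5 F293802) (iv4 F249016) F377423 (iv0 D102872) D102874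
theorem F377425 : act 2 n102872 = n186263 := d1_1 F377424 (iv4 F355120) F377420
theorem F377426 : act 7 n102872 = n186264 := d11_2 F377421 F377424 (iv4 F355324)
theorem F377427 : act 2 n186264 = n102873 := d4_1 F377426 (iv7 F377419) (iv2 F377425)
def n189694 : Q := act 7 n94341
theorem D189694 : act 7 n94341 = n189694 := rfl
theorem F377428 : act 2 n189694 = n158072 := d4_1 D189694 (iv7 D158072) (iv2 F293636)
theorem F377429 : act 4 n189694 = n94345 := d11_1 D189694 (iv7 D94345) (iv4 F145476)
theorem F377430 : act 6 n189694 = n131138 := d14_1 D189694 F352932 (iv6 D84285) F292775 D94341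
theorem F377431 : act 1 n158071 = n189694 := d15_1 D158071 (iv7 D189694) F293636
theorem F377432 : act 1 n189694 = n158070 := d15_1 F377431 (iv7 F377418) F377422
def n189695 : Q := act 2 n94342
theorem D189695 : act 2 n94342 = n189695 := rfl
theorem F377433 : act 7 n94343 = n189695 := d15_2 (iv0 D94342) D94343 (iv2 D189695)
def n189696 : Q := act 3 n94342
theorem D189696 : act 3 n94342 = n189696 := rfl
theorem F377434 : act 4 n133366 = n189696 := d19_2 (iv1 F331330) (iv5 F339718) (iv3 D189696) (iv1 F293799) F293802 D164201 (iv3 F332574) (iv1 F176270) (iv5 D107599) (iv4 D49707) (iv3 F38163) (iv1 F78416) (iv5 D49649) F37934 (iv3 F23982) (iv1 D13395) F19924 (iv4 F39950) (iv3 F331329)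
theorem F377435 : act 2 n189696 = n189414 := d1_1 F377434 F376556 (iv2 F355411)
theorem F377436 : act 5 n189696 = n142084 := d16_5 F350198 F113820 (iv4 F130680) (iv5 F339718) F377434 F225111 D142087 F350200 F267927
theorem F377437 : act 3 n189413 = n189695 := d0_4 D189696 F377435 (iv3 D189414) D189413 (iv2 D189695)
theorem E103377 : n189418 = n94343 := ((c8_3 F376555 F377437 (iv7 F377433) (iv3 D189418))).symm
theorem F377438 : act 3 n94343 = n93959 := (sb E103377 (iv3 D189418))
def n189697 : Q := act 4 n94342
theorem D189697 : act 4 n94342 = n189697 := rfl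
theorem F377439 : act 3 n189697 = n179101 := d5_1 D189697 (iv4 D179101) (iv3 F339717) F377434 (iv3 D189696)
def n189698 : Q := act 5 n94342
theorem D189698 : act 5 n94342 = n189698 := rfl
theorem F377440 : act 3 n189698 = n142084 := d6_1 D189698 (iv5 F377436) (iv3 D189696)
theorem F377441 : act 6 n189698 = n142082 := d12_2 (iv6 F371978) D189698 F371663 (iv6 F371974) D187970
theorem F377442 : act 0 n189698 = n105454 := d21_1 D189698 (iv5 F171486) F361703 (iv1 D89690) (iv6 D41888) (iv5 D19717) D19714 (iv5 F291591) D44097 D94342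
theorem F377443 : act 7 n114834 = n189698 := d14_0 F377441 F225107 (iv6 F352409) F352406 D114834
theorem F377444 : act 7 n94342 = n102938 := d13_2 F377443 (iv5 D189698) (iv5 F367181)
theorem F377445 : act 2 n102938 = n94343 := d4_1 F377444 F377433 (iv2 D189695)
theorem E103378 : n189695 = n102937 := (c15_4 (iv0 D102937) D102938 (iv7 F377444) D189695)
theorem F377446 : act 2 n102937 = n94342 := (sb E103378 (iv2 D189695))
theorem F377447 : act 3 n102937 = n189413 := (sb E103378 (iv3 F377437))
theorem F377448 : act 7 n102937 = n94343 := (sb E103378 (iv7 F377433))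
def n189699 : Q := act 4 n94343
theorem D189699 : act 4 n94343 = n189699 := rfl
theorem F377449 : act 0 n189699 = n94359 := d18_2 F293798 D189699 F292459 (iv5 F326299) F350628 F355847 F355846 (iv0 D164200) (iv5 F293802)
theorem F377450 : act 0 n176842 = n189699 := d20_1 (iv4 F276213) (iv4 D189699) F377438 (iv1 D93959) (iv3 F144773) F334841 (iv1 F114875) D131286 F355119 (iv1 F289017)
def n189700 : Q := act 5 n94343
theorem D189700 : act 5 n94343 = n189700 := rfl
theorem F377451 : act 2 n189700 = n114834 := d2_1 D189700 F367181 F377445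
theorem F377452 : act 3 n189700 = n189420 := d6_1 D189700 (iv5 D189420) (iv3 F377438)
theorem F377453 : act 1 n189700 = n105454 := d17_8 F339214 (iv5 D128484) (iv1 F319235) (iv5 F334746) F355330 (iv5 D94344) D94343 D189700 (iv4 F334804)
theorem F377454 : act 6 n189700 = n114816 := d21_3 (iv5 F293802) F293798 D189700 (iv1 D114816) (iv6 D52980) F40634 (iv1 F37427) (iv5 F46143) D52829 (iv1 F235012)
def n189701 : Q := act 6 n94343
theorem D189701 : act 6 n94343 = n189701 := rfl
theorem F377455 : act 3 n189701 = n189421 := d7_1 D189701 (iv6 D189421) (iv3 F377438)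
def n189702 : Q := act 4 n94348
theorem D189702 : act 4 n94348 = n189702 := rfl
theorem F377456 : act 2 n189702 = n94349 := d1_1 D189702 (iv4 D94349) D94348
theorem F377457 : act 5 n189702 = n181695 := d17_5 D94320 F350498 (iv1 F137498) F292528 D189702 F282824 (iv5 F376757) F376758 (iv4 D94322)
theorem F377458 : act 0 n189702 = n97383 := d17_0 F293082 D166562 (iv5 F369394) (iv4 D187180) F137621 (iv0 F294537) D76498 F214551 D189702
theorem F377459 : act 1 n189702 = n185726 := d18_6 (iv1 F144873) F293509 (iv1 F138303) (iv4 F137496) F292528 D189702 (iv4 F372205) F372200 (iv5 F251418)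
def n189703 : Q := act 6 n94348
theorem D189703 : act 6 n94348 = n189703 := rfl
theorem F377460 : act 2 n189703 = n94350 := d3_1 D189703 (iv6 D94350) D94348
theorem F377461 : act 7 n189703 = n120119 := d14_2 F293787 D189703 (iv6 D120119) F177476 (iv6 F293786)
def n189704 : Q := act 3 n94349
theorem D189704 : act 3 n94349 = n189704 := rfl
theorem F377462 : act 4 n189704 = n94351 := d5_2 D94349 D189704 (iv3 D94351) (iv4 D44099) D44098
theorem F377463 : act 7 n189704 = n158062 := d8_2 (iv7 F367206) D189704 F249007
theorem F377464 : act 0 n189704 = n126233 := d20_10 (iv4 F373571) F373572 F211646 F96574 D61992 D132142 (iv4 F343676) F177449 D94349 D189704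
theorem F377465 : act 6 n106637 = n189704 := d10_0 F377462 (iv6 F370078) F370080
def n189705 : Q := act 6 n94349
theorem D189705 : act 6 n94349 = n189705 := rfl
theorem F377466 : act 3 n189705 = n106637 := d7_1 D189705 F377465 (iv3 D189704)
theorem F377467 : act 4 n189705 = n94350 := d10_1 D189705 (iv6 D94350) D94349
theorem F377468 : act 5 n106635 = n189705 := d6_0 F377466 (iv5 D106637) D106635
theorem F377469 : act 0 n113996 = n106635 := d21_1 F363064 F377468 (iv6 D189705) F211228 (iv6 D131813) (iv5 D61852) F46953 (iv5 F47009) D61989 D132128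
theorem F377470 : act 0 n106635 = n135793 := d21_7 (iv5 F362866) F327624 (iv5 F288005) F358244 F343689 D189705 (iv5 F377468) F356954 F150045 D97395
theorem F377471 : act 0 n126237 = n189705 := d21_10 (iv5 F377468) F377470 F356954 F150045 D97395 F362869 (iv5 D126189) F163886 D59180 (iv6 F203010)
def n189706 : Q := act 0 n94350
theorem D189706 : act 0 n94350 = n189706 := rfl
theorem F377472 : act 4 n189706 = n131881 := d18_3 F377471 F377467 D189706 (iv5 D131881) (iv4 F323238) F161485 D113718 F343631 D126237
theorem F377473 : act 5 n189706 = n159340 := d21_0 (iv1 F250842) F179157 (iv6 F164354) (iv1 F164356) (iv6 F369332) (iv5 D187171) (iv1 D89669) (iv5 F292529) D94350 D189706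
theorem F377474 : act 1 n120119 = n189706 := d15_0 (iv0 D189706) (iv7 F258820) F258817
theorem F377475 : act 4 n159340 = n129427 := d16_2 (iv4 F377472) F377473 (iv5 D129427) F327335 (iv5 D52508) (iv4 F82743) D113467 F327334 (iv2 F211471)
theorem F377476 : act 0 n129841 = n136332 := d20_4 F98386 D64198 F100014 D129841 F343649 F250837 D159340 F377475 F207604 (iv1 F98388)
def n189707 : Q := act 1 n94350
theorem D189707 : act 1 n94350 = n189707 := rfl
theorem F377477 : act 1 n189707 = n120119 := d15_1 D189707 (iv7 F377461) F377460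
theorem F377478 : act 4 n113467 = n189707 := d20_0 (iv1 D189707) (iv4 F377467) F377466 (iv1 F358315) F211173 F96404 F77687 (iv4 F77818) (iv3 F164146) (iv1 F327332)
theorem F377479 : act 6 n189707 = n106688 := d10_2 (iv6 F176648) F377478 F332812
theorem F377480 : act 5 n189707 = n159341 := d17_5 F349622 (iv5 D61886) F327329 D113467 F377478 F250838 F179157 F164393 F343654
def n189708 : Q := act 2 n94351
theorem D189708 : act 2 n94351 = n189708 := rfl
theorem F377481 : act 3 n189708 = n112228 := d0_2 D94351 D189708 F174526 (iv3 F326180) F292774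
theorem F377482 : act 5 n189708 = n112224 := d2_2 (iv5 F293604) D189708 F326841
theorem F377483 : act 7 n189708 = n158059 := d4_2 (iv7 F293605) D189708 F249006
theorem F377484 : act 1 n189708 = n158060 := d15_0 (iv0 D158060) (iv7 F293605) D189708
theorem F377485 : act 1 n158061 = n189708 := d15_0 F377484 F348784 F348773
theorem F377486 : act 6 n181905 = n189708 := d21_5 F291788 (iv1 D40303) D40305 D86881 D181905 F377482 F326839 (iv5 F358097) (iv6 D45523) (iv1 F71750)
theorem F377487 : act 2 n187380 = n181905 := d3_3 F377486 (iv2 D189708) (iv6 F370078)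
theorem F377488 : act 7 n181906 = n187380 := d15_2 (iv0 D181905) D181906 F377487
theorem F377489 : act 7 n187381 = n181905 := d15_2 (iv0 D187380) D187381 (iv2 F377487)
theorem F377490 : act 2 n181906 = n187381 := d4_3 F377489 (iv2 F377487) (iv7 F377488)
theorem F377491 : act 3 n133649 = n181906 := d8_3 F377488 (iv3 F370079) (iv7 F352913)
def n189709 : Q := act 2 n94354
theorem D189709 : act 2 n94354 = n189709 := rfl
theorem F377492 : act 7 n94355 = n189709 := d15_2 (iv0 D94354) D94355 (iv2 D189709)
def n189710 : Q := act 3 n94354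
theorem D189710 : act 3 n94354 = n189710 := rfl
theorem F377493 : act 4 n189456 = n189710 := d20_8 (iv4 F352931) (iv1 D131138) (iv4 F352833) (iv3 F352834) D131117 F345019 F144912 D189456 (iv3 D189710) (iv1 F352920)
def n189711 : Q := act 4 n94354
theorem D189711 : act 4 n94354 = n189711 := rfl
theorem F377494 : act 0 n189711 = n176868 := d17_0 F353357 F343228 D102242 (iv4 F377223) F377217 F376965 (iv5 F367190) F352920 D189711
def n189712 : Q := act 6 n94354
theorem D189712 : act 6 n94354 = n189712 := rfl
theorem F377495 : act 5 n189712 = n185784 := d21_6 (iv5 D21876) (iv1 F31467) (iv5 F291586) D44100 D94354 D189712 (iv1 D185784) (iv5 F292648) (iv6 D89686) (iv1 F64582)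
def n189713 : Q := act 7 n94354
theorem D189713 : act 7 n94354 = n189713 := rfl
theorem F377496 : act 2 n189713 = n94355 := d4_1 D189713 F377492 (iv2 D189709)
def n189714 : Q := act 3 n94355
theorem D189714 : act 3 n94355 = n189714 := rfl
def n189715 : Q := act 4 n94355
theorem D189715 : act 4 n94355 = n189715 := rfl
theorem F377497 : act 6 n189715 = n188212 := d10_2 F377243 D189715 (iv4 F377242)
theorem F377498 : act 0 n189715 = n94362 := d21_4 (iv5 F372669) (iv1 F372672) D188212 (iv6 F377497) (iv6 D94362) (iv5 F292434) (iv1 F54914) D37807 D82424 (iv1 F365428)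
theorem F377499 : act 1 n189715 = n176868 := d15_1 (iv0 F377498) (iv7 D176868) (iv2 F292435)
theorem F377500 : act 4 n187107 = n112901 := d18_3 F343228 (iv4 F137270) D187107 F352935 F145481 D94355 D189715 F377499 F353357
theorem F377501 : act 0 n189714 = n189233 := d20_4 (iv4 F276238) (iv1 F377499) (iv4 D189715) D189714 F376168 (iv4 D130615) F95775 D62729 D133641 F353355
def n189716 : Q := act 0 n94357
theorem D189716 : act 0 n94357 = n189716 := rfl
theorem F377502 : act 5 n189716 = n102813 := d17_1 D189716 (iv1 F158076) (iv5 F350477) (iv4 F360347) F360348 F138311 D187398 F370180 (iv4 F343691)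
theorem F377503 : act 4 n189716 = n95535 := d18_3 (iv1 F294513) (iv4 F343691) D189716 F294017 (iv4 F293507) (iv0 F251870) (iv4 F293463) (iv0 D86875) D86878
theorem F377504 : act 1 n176855 = n189716 := d15_0 (iv0 D189716) F292456 (iv2 F276229)
theorem F377505 : act 7 n96030 = n189716 := d11_0 F377503 F147165 D96030
theorem F377506 : act 2 n176858 = n189716 := d2_3 F377502 F364545 (iv5 F364555)
theorem F377507 : act 6 n189716 = n144131 := d21_3 F129393 D102813 (iv5 F377502) (iv1 D144131) (iv6 D67525) (iv5 D31374) (iv1 F37950) (iv5 F49654) D67559 (iv1 F350480)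
theorem F377508 : act 4 n144131 = n144155 := d10_1 F377507 (iv6 F350481) (iv4 F377503)
def n189717 : Q := act 1 n94357
theorem D189717 : act 1 n94357 = n189717 := rfl
theorem F377509 : act 7 n189717 = n176858 := d15_2 (iv0 D189716) D189717 F377506
theorem F377510 : act 4 n189717 = n96029 := d17_9 F177450 (iv5 D97155) (iv1 F157280) (iv5 F302691) F103329 (iv5 F346866) F360323 (iv5 F292455) D189717
theorem F377511 : act 2 n96030 = n189717 := d1_3 F377510 (iv2 D96029) D96030
theorem F377512 : act 5 n102814 = n189717 := d17_3 F306982 F350477 (iv1 F158079) F377510 (iv5 F160712) (iv0 F350495) F350496 F306980 D96002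
theorem F377513 : act 0 n176855 = n189717 := d18_0 F377510 F177450 F366983 (iv5 D180636) (iv4 F262188) (iv0 F376776) F376775 F250176 D176855
def n189718 : Q := act 2 n94357
theorem D189718 : act 2 n94357 = n189718 := rfl
theorem F377514 : act 3 n189718 = n176829 := d0_2 D94357 D189718 F276206 F129373 (iv2 F291532)
theorem F377515 : act 4 n189718 = n96962 := d1_2 (iv4 F343691) D189718 F149544
theorem F377516 : act 5 n189718 = n158888 := d2_2 (iv5 F292455) D189718 (iv2 D158888)
theorem F377517 : act 7 n189718 = n176855 := d4_2 (iv7 F292456) D189718 F276229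
theorem F377518 : act 1 n189718 = n96030 := d15_0 F365032 (iv7 F292456) D189718
theorem F377519 : act 1 n176858 = n189718 := d15_0 F377518 F377505 (iv2 F377506)
def n189719 : Q := act 6 n94357
theorem D189719 : act 6 n94357 = n189719 := rfl
theorem F377520 : act 3 n189719 = n94359 := d7_1 D189719 (iv6 D94359) D94357
theorem F377521 : act 4 n189719 = n159522 := d10_1 D189719 F251260 (iv4 F343691)
theorem F377522 : act 0 n111007 = n189719 := d21_4 (iv5 D52203) F40077 D51187 D111007 (iv6 D189719) F292455 (iv1 F360323) F346866 (iv6 D53930) (iv1 F82542)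
def n189720 : Q := act 0 n94359
theorem D189720 : act 0 n94359 = n189720 := rfl
def n189721 : Q := act 5 n94359
theorem D189721 : act 5 n94359 = n189721 := rfl
theorem F377523 : act 2 n189721 = n176841 := d2_1 D189721 (iv5 D176841) (iv2 F292458)
theorem F377524 : act 6 n189721 = n158892 := d12_2 D94359 D189721 (iv5 D158892) (iv6 D75815) F292457
def n189722 : Q := act 7 n94359
theorem D189722 : act 7 n94359 = n189722 := rfl
theorem F377525 : act 2 n189722 = n176842 := d4_1 D189722 (iv7 D176842) (iv2 F292458)
theorem F377526 : act 4 n189722 = n186262 := d11_1 D189722 F289014 (iv4 F292459)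
theorem F377527 : act 6 n189722 = n176868 := d14_1 D189722 (iv7 D176868) (iv6 D84312) (iv7 F291534) D94359
theorem F377528 : act 1 n176842 = n189720 := d15_0 (iv0 D189720) D189722 F377525
theorem F377529 : act 1 n176840 = n189722 := d15_1 D176840 (iv7 D189722) F292458
theorem F377530 : act 1 n189722 = n176839 := d15_0 (iv0 D176839) D176842 (iv2 F377525)
theorem F377531 : act 4 n102937 = n176839 := d20_0 (iv1 F377530) F377526 (iv3 F331426) (iv1 F290528) F259049 D164416 F259060 (iv4 D120121) F293788 D102937
theorem E103379 : n189413 = n189253 := ((c20_5 F358374 F358375 (iv4 F376226) F376225 D189253 (iv3 F377447) F377531 (iv1 F377530) F377526 (iv3 F331426) (iv1 F290528))).symm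
theorem F377532 : act 2 n189253 = n93958 := (sb E103379 (iv2 D189413))
theorem F377533 : act 3 n189253 = n102937 := (sb E103379 (iv3 F377447))
theorem F377534 : act 7 n189253 = n93959 := (sb E103379 (iv7 F376555))
theorem E103380 : n189417 = n189254 := (c15_4 F376234 F376239 F377534 (iv2 F376569))
theorem F377535 : act 2 n189254 = n93959 := (sb E103380 F376569)
theorem F377536 : act 7 n189254 = n93958 := (sb E103380 (iv7 D189417))
theorem F377537 : act 2 n176839 = n189697 := d1_1 F377531 (iv4 D189697) (iv2 F377446)
theorem F377538 : act 7 n176839 = n189699 := d11_2 (iv7 F377448) F377531 (iv4 D189699)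
theorem F377539 : act 2 n189699 = n176840 := d15_3 F377529 F377530 F377538
theorem F377540 : act 7 n189697 = n176840 := d4_2 (iv7 F377538) F377537 (iv2 F377539)
theorem E103381 : n189720 = n189697 := ((c15_4 (iv0 D189720) (iv0 F377449) (iv7 F377538) F377537)).symm
theorem F377541 : act 0 n189697 = n176842 := (sb E103381 (iv1 F377528))
theorem F377542 : act 1 n189697 = n94359 := (sb E103381 (iv0 D189720))
theorem F377543 : act 4 n176840 = n102938 := d11_1 F377540 (iv7 F377444) D189697
def n189723 : Q := act 0 n94360
theorem D189723 : act 0 n94360 = n189723 := rfl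
theorem F377544 : act 1 n176829 = n189723 := d15_0 (iv0 D189723) F292433 (iv2 F276206)
def n189724 : Q := act 1 n94360
theorem D189724 : act 1 n94360 = n189724 := rfl
def n189725 : Q := act 2 n94360
theorem D189725 : act 2 n94360 = n189725 := rfl
theorem F377545 : act 3 n189725 = n176855 := d0_2 D94360 D189725 F276229 F129382 (iv2 F291528)
theorem F377546 : act 5 n189725 = n158879 := d2_2 (iv5 F292432) D189725 (iv2 D158879)
theorem F377547 : act 6 n189725 = n138938 := d3_2 F353359 D189725 F246894
theorem F377548 : act 7 n189725 = n176829 := d4_2 (iv7 F292433) D189725 F276206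
theorem F377549 : act 1 n189725 = n176831 := d15_0 (iv0 D176831) (iv7 F292433) D189725
theorem F377550 : act 1 n189724 = n176829 := d15_1 D189724 (iv7 F377548) (iv2 D189725)
theorem F377551 : act 1 n176832 = n189725 := d15_1 D176832 F377548 F276206
def n189726 : Q := act 4 n94360
theorem D189726 : act 4 n94360 = n189726 := rfl
theorem F377552 : act 3 n189726 = n186053 := d5_1 D189726 (iv4 D186053) F135823 (iv4 F291529) D94360
theorem F377553 : act 7 n189726 = n176833 := d11_2 (iv7 F292433) D189726 (iv4 D176833)
def n189727 : Q := act 0 n94362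
theorem D189727 : act 0 n94362 = n189727 := rfl
def n189728 : Q := act 7 n94362
theorem D189728 : act 7 n94362 = n189728 := rfl
theorem F377554 : act 2 n189728 = n176868 := d4_1 D189728 (iv7 D176868) (iv2 F292435)
theorem F377555 : act 3 n189728 = n138937 := d8_1 D189728 F246895 (iv3 F353351)
theorem F377556 : act 4 n189728 = n186057 := d11_1 D189728 (iv7 D186057) (iv4 F292436)
theorem F377557 : act 5 n189728 = n157225 := d13_1 D189728 (iv7 F329276) F353349
theorem F377558 : act 6 n189728 = n176842 := d14_1 D189728 (iv7 D176842) (iv6 D84304) (iv7 F291530) D94362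
theorem E103382 : n189727 = n189711 := ((c15_1 (iv0 F377494) (iv0 D189727) D189728 F377554)).symm
theorem F377559 : act 1 n189711 = n94362 := (sb E103382 (iv0 D189727))
theorem F377560 : act 1 n176866 = n189728 := d15_1 D176866 (iv7 D189728) F292435
theorem F377561 : act 1 n189728 = n176865 := d15_0 (iv0 D176865) D176868 (iv2 F377554)
def n189729 : Q := act 2 n94363
theorem D189729 : act 2 n94363 = n189729 := rfl
theorem F377562 : act 7 n94364 = n189729 := d15_2 (iv0 D94363) D94364 (iv2 D189729)
def n189730 : Q := act 3 n94363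
theorem D189730 : act 3 n94363 = n189730 := rfl
theorem F377563 : act 4 n189730 = n130611 := d20_6 (iv4 D44099) (iv1 D20948) D20949 D44103 D94363 D189730 (iv1 F210016) F364720 F276097 (iv1 F292533)
theorem F377564 : act 7 n130532 = n189730 := d11_0 F377563 (iv7 D130611) (iv4 F209108)
def n189731 : Q := act 4 n94363
theorem D189731 : act 4 n94363 = n189731 := rfl
def n189732 : Q := act 5 n94363
theorem D189732 : act 5 n94363 = n189732 := rfl
def n189733 : Q := act 6 n94363
theorem D189733 : act 6 n94363 = n189733 := rfl
def n189734 : Q := act 7 n94363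
theorem D189734 : act 7 n94363 = n189734 := rfl
theorem F377565 : act 2 n189734 = n94364 := d4_1 D189734 F377562 (iv2 D189729)
theorem F377566 : act 3 n189734 = n130532 := d8_1 D189734 F377564 (iv3 D189730)
theorem E103383 : n172103 = n94364 := (c0_5 F377566 (iv2 F210014) F362512 (iv2 F219332) (iv3 F365635) (iv2 F377565))
theorem F377567 : act 3 n94364 = n136269 := (sb E103383 F365635)
theorem F377568 : act 5 n94364 = n82421 := (sb E103383 (iv5 D172103))
theorem F377569 : act 6 n130530 = n189734 := d7_0 F377566 (iv6 D130532) (iv3 F209106)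
theorem F377570 : act 5 n189734 = n158003 := d12_1 F377569 F365631 F349530 (iv6 D130531) D130530
theorem E103384 : n172098 = n94363 := (c13_4 D189734 F377570 F365632 D172098)
theorem E103385 : n189732 = n82420 := ((D189732).symm.trans (sb E103384 (iv5 D172098)))
theorem E103386 : n189733 = n164110 := ((D189733).symm.trans (sb E103384 F365633))
theorem F377571 : act 5 n82420 = n94363 := (sb E103385 (iv5 D189732))
theorem F377572 : act 6 n164110 = n94363 := (sb E103386 (iv6 D189733))
theorem F377573 : act 5 n189729 = n158004 := d2_2 F377571 D189729 F365626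
theorem F377574 : act 5 n189730 = n172096 := d6_2 F377571 D189730 (iv3 D172096)
theorem F377575 : act 0 n176841 = n164077 := d21_4 (iv5 D83282) (iv1 F119073) D84305 (iv6 F276212) (iv6 D164077) F293691 D94363 (iv5 F377571) (iv6 F365624) F300933
theorem F377576 : act 1 n189359 = n189467 := d17_6 (iv1 F373779) F377568 (iv1 D82421) D82423 D172108 (iv5 F376467) (iv5 D189467) F376629 F376626
def n189735 : Q := act 4 n94364
theorem D189735 : act 4 n94364 = n189735 := rfl
def n189736 : Q := act 6 n94364
theorem D189736 : act 6 n94364 = n189736 := rfl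
theorem F377577 : act 2 n189736 = n130530 := d3_1 D189736 F377569 F377565
theorem F377578 : act 5 n189736 = n130529 := d12_1 D189736 (iv6 F349536) (iv5 D136266) F365621 (iv5 F377568)
theorem F377579 : act 5 n113078 = n133339 := d21_0 (iv1 F214372) (iv5 F377578) (iv6 D189736) (iv1 D94364) (iv6 F145405) (iv5 F376411) (iv1 D113027) D113029 F331491 D113078
def n189737 : Q := act 6 n94399
theorem D189737 : act 6 n94399 = n189737 := rfl
theorem F377580 : act 2 n189737 = n94404 := d3_1 D189737 (iv6 D94404) (iv2 F145561)
theorem F377581 : act 3 n189737 = n186385 := d7_1 D189737 (iv6 D186385) (iv3 F291629)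
def n189738 : Q := act 6 n94403
theorem D189738 : act 6 n94403 = n189738 := rfl
theorem F377582 : act 4 n189738 = n94404 := d10_1 D189738 (iv6 D94404) D94403
def n189739 : Q := act 0 n94404
theorem D189739 : act 0 n94404 = n189739 := rfl
theorem F377583 : act 5 n189739 = n159484 := d21_0 (iv1 D159484) F114335 (iv6 D61275) F46639 D52120 F82389 F178357 D44120 D94404 D189739
theorem F377584 : act 6 n113056 = n189739 := d21_5 (iv5 D25306) (iv1 F19919) (iv5 F40051) D52180 D113056 F377583 (iv1 D159484) F114335 (iv6 D61275) F46639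
def n189740 : Q := act 1 n94404
theorem D189740 : act 1 n94404 = n189740 := rfl
theorem F377585 : act 6 n96044 = n189740 := d21_3 (iv5 F376745) (iv1 D96042) D96044 (iv1 D189740) (iv6 D94404) (iv5 D44120) D44117 D94393 F178350 (iv1 F176046)
theorem F377586 : act 3 n189740 = n96046 := d7_1 F377585 (iv6 D96046) (iv3 F147653)
def n189741 : Q := act 5 n94404
theorem D189741 : act 5 n94404 = n189741 := rfl
theorem F377587 : act 3 n189741 = n94418 := d6_1 D189741 (iv5 D94418) (iv3 F145563)
theorem F377588 : act 6 n189741 = n94407 := d12_2 D94404 D189741 (iv5 D94407) (iv6 D44121) D44120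
theorem F377589 : act 5 n159483 = n189740 := d21_0 (iv1 D189740) D189741 F377588 F178363 F142854 (iv5 D52665) (iv1 F40683) (iv5 F55109) D76289 D159483
def n189742 : Q := act 7 n94404
theorem D189742 : act 7 n94404 = n189742 := rfl
theorem F377590 : act 3 n189742 = n94419 := d8_1 D189742 (iv7 D94419) (iv3 F145563)
theorem F377591 : act 6 n189742 = n113036 := d14_1 D189742 F331430 (iv6 F291540) F291541 D94404
def n189743 : Q := act 3 n94406
theorem D189743 : act 3 n94406 = n189743 := rfl
theorem F377592 : act 2 n189743 = n189518 := d0_1 D189743 (iv3 D189518) F350547 (iv3 F372396) (iv2 F372397)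
theorem F377593 : act 4 n189743 = n189518 := d5_2 F373234 D189743 (iv3 D189518) (iv4 F370058) (iv3 F373233)
theorem F377594 : act 5 n189743 = n188032 := d6_2 F369985 D189743 (iv3 D188032)
theorem F377595 : act 7 n189743 = n188541 := d8_2 (iv7 F251144) D189743 F373878
theorem F377596 : act 0 n189743 = n189605 := d20_10 F377093 F364350 F73897 (iv3 D46783) D46781 D100250 F154234 D188385 F373234 D189743
def n189744 : Q := act 4 n94407
theorem D189744 : act 4 n94407 = n189744 := rfl
theorem F377597 : act 0 n189744 = n159828 := d18_2 (iv1 F251992) D189744 (iv4 D159828) (iv5 D76493) (iv4 F75098) (iv0 F177339) (iv4 F65227) (iv0 F176031) (iv5 F251990)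
theorem F377598 : act 0 n188867 = n189744 := d20_1 D188867 (iv4 D189744) F145564 F69469 (iv3 F142823) F329254 F87372 (iv4 F329555) (iv3 F251915) (iv1 F251918)
def n189745 : Q := act 2 n94416
theorem D189745 : act 2 n94416 = n189745 := rfl
theorem F377599 : act 7 n94417 = n189745 := d15_2 (iv0 D94416) D94417 (iv2 D189745)
def n189746 : Q := act 3 n94416
theorem D189746 : act 3 n94416 = n189746 := rfl
def n189747 : Q := act 4 n94416
theorem D189747 : act 4 n94416 = n189747 := rfl
def n189748 : Q := act 5 n94416
theorem D189748 : act 5 n94416 = n189748 := rfl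
def n189749 : Q := act 6 n94416
theorem D189749 : act 6 n94416 = n189749 := rfl
theorem F377600 : act 5 n189749 = n188670 := d21_6 (iv5 D42119) F62850 D20967 D44125 D94416 D189749 (iv1 D188670) F292000 (iv6 D88621) (iv1 F291393)
theorem F377601 : act 2 n133404 = n189749 := d2_3 F377600 (iv2 F374380) (iv5 F374370)
theorem F377602 : act 4 n102174 = n189749 := d9_15 F377600 (iv4 F375064) F375066 (iv4 D136431) (iv5 D64140) (iv4 F82446) (iv5 F95778) (iv4 F209195) (iv5 F374362) (iv4 F375375) (iv5 F375378) (iv4 D102187) (iv5 D47440) (iv4 F74637) D102174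
theorem F377603 : act 7 n189005 = n189749 := d13_0 F377600 F374381 D189005
theorem F377604 : act 0 n113034 = n189749 := d21_10 F377600 (iv1 D188670) F292000 (iv6 D88621) (iv1 F291393) (iv6 F138534) (iv5 D90104) (iv1 F65045) (iv5 F82487) D113034
theorem F377605 : act 1 n189298 = n189005 := d15_1 (iv0 F376366) F377603 (iv2 F377601)
theorem E103387 : n189747 = n186953 := (c10_4 F368646 F377602 (iv6 D189749) D189747)
theorem E103388 : n186429 = n94416 := (((iv4 F374374)).symm.trans (sb E103387 (iv4 D189747)))
theorem E103389 : n189745 = n88794 := ((D189745).symm.trans (sb E103388 (iv2 D186429)))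
theorem F377606 : act 4 n94416 = n186953 := (sb E103388 F374374)
theorem F377607 : act 7 n94416 = n88795 := (sb E103388 (iv7 F289228))
theorem F377608 : act 2 n88794 = n94416 := (sb E103389 (iv2 D189745))
theorem E103390 : n186434 = n94417 := ((D186434).symm.trans (sb E103389 (iv7 F377599)))
theorem F377609 : act 2 n94417 = n88795 := (sb E103390 F289230)
theorem F377610 : act 7 n94417 = n88794 := (sb E103390 (iv7 D186434))
theorem F377611 : act 2 n189748 = n186432 := d2_3 (iv5 D186432) F377608 D189748
theorem F377612 : act 7 n186435 = n189746 := d8_2 F377607 D186435 (iv3 D189746)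
theorem F377613 : act 7 n186437 = n189748 := d13_2 F377607 D186437 (iv5 D189748)
def n189750 : Q := act 3 n94417
theorem D189750 : act 3 n94417 = n189750 := rfl
theorem F377614 : act 7 n189750 = n133406 := d8_2 (iv7 F377610) D189750 F374372
theorem F377615 : act 4 n133409 = n189750 := d11_3 F377614 F214508 D133409
def n189751 : Q := act 4 n94417
theorem D189751 : act 4 n94417 = n189751 := rfl
theorem F377616 : act 2 n189751 = n176762 := d1_1 D189751 F374375 (iv2 F377609)
theorem F377617 : act 3 n189751 = n133422 := d5_1 D189751 F214539 (iv3 F214509) F377615 (iv3 D189750)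
theorem F377618 : act 7 n189751 = n133418 := d11_2 (iv7 F377610) D189751 F374373
theorem F377619 : act 5 n189751 = n186758 := d18_4 (iv1 F289227) F289223 (iv1 F291640) D189751 (iv4 F367903) F367290 D186955 (iv0 F368657) (iv5 F353334)
theorem F377620 : act 1 n158873 = n189751 := d18_8 (iv1 D186758) (iv4 F367408) (iv1 D186600) (iv4 F367380) (iv5 F367381) (iv4 F369403) (iv0 D187182) (iv4 F250137) F377619
theorem F377621 : act 1 n189751 = n176764 := d15_1 F377620 (iv7 D176764) (iv2 F250136)
theorem F377622 : act 0 n189750 = n189264 := d20_10 F376254 (iv1 D152450) D152451 F364516 (iv1 D151676) (iv3 F360279) F293806 (iv1 F377621) (iv4 D189751) D189750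
def n189752 : Q := act 5 n94417
theorem D189752 : act 5 n94417 = n189752 := rfl
theorem F377623 : act 2 n189752 = n186437 := d2_1 D189752 (iv5 D186437) (iv2 F377609)
theorem F377624 : act 7 n189752 = n186432 := d13_2 (iv7 F377610) D189752 (iv5 D186432)
theorem F377625 : act 0 n188806 = n189752 := d21_10 (iv5 D189752) (iv1 D94417) D94418 F145582 F69469 (iv6 F142201) (iv5 D92443) F94979 D92814 D188806
theorem F377626 : act 6 n187564 = n189752 := d21_5 (iv5 D43354) F65691 D42228 D90332 D187564 (iv5 D189752) (iv1 D94417) D94418 F145582 F69469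
theorem F377627 : act 1 n188806 = n189748 := d15_1 (iv0 F377625) (iv7 F377613) (iv2 F377623)
def n189753 : Q := act 6 n94417
theorem D189753 : act 6 n94417 = n189753 := rfl
theorem F377628 : act 2 n189753 = n186438 := d3_1 D189753 (iv6 D186438) (iv2 F377609)
def n189754 : Q := act 0 n94418
theorem D189754 : act 0 n94418 = n189754 := rfl
def n189755 : Q := act 1 n94418
theorem D189755 : act 1 n94418 = n189755 := rfl
theorem F377629 : act 1 n189755 = n100717 := d15_1 D189755 (iv7 D100717) (iv2 F291641)
theorem F377630 : act 4 n187962 = n189755 := d18_7 (iv1 F291640) D189751 (iv1 F377620) F250137 F292647 (iv4 F139612) D187962 F377629 F154821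
theorem F377631 : act 3 n187962 = n100509 := d20_3 F372019 (iv1 F377629) (iv4 F377630) F332984 F79282 D50092 (iv1 F98591) F98588 (iv3 F167643) F372022
theorem F377632 : act 4 n187963 = n111214 := d19_6 (iv1 F310434) F136527 D100509 (iv3 F377631) (iv1 D187962) D187963 (iv3 F245438) (iv1 F247120) F320449 F128794 F59409 (iv1 F59080) (iv5 F113550) F296752 (iv3 F91464) (iv1 D35348) (iv5 F28149) (iv4 F56143) (iv3 F116502)
theorem F377633 : act 0 n108476 = n187963 := d20_10 F377632 (iv1 F172477) F172368 F167675 (iv1 F111761) D138749 (iv4 F246676) F246678 (iv4 D108477) D108476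
def n189756 : Q := act 7 n94418
theorem D189756 : act 7 n94418 = n189756 := rfl
theorem F377634 : act 2 n189756 = n100717 := d4_1 D189756 (iv7 D100717) (iv2 F291641)
theorem F377635 : act 5 n189756 = n94419 := d13_1 D189756 (iv7 D94419) D94418
theorem F377636 : act 1 n100717 = n189754 := d15_0 (iv0 D189754) D189756 F377634
theorem F377637 : act 1 n100716 = n189756 := d15_1 D100716 (iv7 D189756) F291641
theorem F377638 : act 4 n187961 = n189754 := d20_0 (iv1 F377636) (iv4 F372019) F372018 F352252 F169164 F351223 (iv1 F168627) (iv4 F371952) F371951 D187961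
theorem F377639 : act 1 n189756 = n100715 := d15_0 (iv0 D100715) D100717 (iv2 F377634)
def n189757 : Q := act 4 n94442
theorem D189757 : act 4 n94442 = n189757 := rfl
theorem F377640 : act 2 n189757 = n186369 := d1_1 D189757 (iv4 D186369) (iv2 F293699)
theorem F377641 : act 7 n189757 = n186378 := d11_2 (iv7 F293700) D189757 (iv4 D186378)
def n189758 : Q := act 6 n94442
theorem D189758 : act 6 n94442 = n189758 := rfl
theorem F377642 : act 2 n189758 = n186370 := d3_1 D189758 (iv6 D186370) (iv2 F293699)
theorem F377643 : act 3 n189758 = n186250 := d7_1 D189758 F289010 (iv3 F291088)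
theorem F377644 : act 5 n189758 = n135809 := d12_1 D189758 F344969 F136056 F292088 D94442
def n189759 : Q := act 4 n94443
theorem D189759 : act 4 n94443 = n189759 := rfl
theorem F377645 : act 2 n189759 = n94447 := d1_1 D189759 (iv4 D94447) (iv2 F145621)
theorem F377646 : act 7 n189759 = n186384 := d11_2 (iv7 F291649) D189759 (iv4 D186384)
theorem F377647 : act 0 n189759 = n144549 := d18_2 (iv1 F291648) D189759 (iv4 F377351) F377349 F158220 F142563 F138766 F135817 F295032
theorem F377648 : act 1 n189759 = n186396 := d15_0 (iv0 D186396) (iv7 F291651) (iv2 F377645)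
def n189760 : Q := act 6 n94443
theorem D189760 : act 6 n94443 = n189760 := rfl
theorem F377649 : act 2 n189760 = n94448 := d3_1 D189760 (iv6 D94448) (iv2 F145621)
theorem F377650 : act 3 n189760 = n113035 := d7_1 D189760 F331420 (iv3 F331415)
theorem F377651 : act 5 n189760 = n133216 := d12_1 D189760 (iv6 F371146) (iv5 F371143) (iv6 D94444) D94443
theorem F377652 : act 0 n189760 = n189563 := d20_4 (iv4 F95779) D130627 (iv4 F365039) (iv3 F377650) (iv3 D189563) D189564 F376892 F376534 F157674 (iv1 D61295)
def n189761 : Q := act 3 n94445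
theorem D189761 : act 3 n94445 = n189761 := rfl
theorem F377653 : act 2 n189761 = n189265 := d0_1 D189761 (iv3 D189265) (iv2 F144627) F293457 (iv2 F293455)
theorem F377654 : act 5 n189761 = n102856 := d6_2 (iv5 F293472) D189761 (iv3 D102856)
theorem F377655 : act 6 n189761 = n147990 := d7_2 F359559 D189761 (iv3 F355698)
theorem F377656 : act 7 n189761 = n186387 := d8_2 (iv7 F293456) D189761 (iv3 D186387)
theorem F377657 : act 4 n189761 = n189663 := d20_6 (iv4 D38886) D38884 F291043 (iv3 F69481) D94445 D189761 (iv1 D189663) (iv4 D94292) F69422 (iv1 F292603)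
theorem F377658 : act 0 n189493 = n189761 := d18_0 F377657 (iv1 D189663) (iv4 D94292) (iv5 D44079) F62855 (iv0 F135032) (iv4 F136654) F144818 D189493
theorem F377659 : act 1 n189494 = n189761 := d15_0 (iv0 F377658) F376692 (iv2 F376698)
def n189762 : Q := act 4 n94446
theorem D189762 : act 4 n94446 = n189762 := rfl
theorem F377660 : act 2 n189762 = n186388 := d1_1 D189762 (iv4 D186388) F294387
theorem F377661 : act 7 n189762 = n142481 := d11_2 (iv7 F293473) D189762 F359561
theorem F377662 : act 1 n96018 = n189762 := d15_1 (iv0 F360334) F377661 (iv2 F226876)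
def n189763 : Q := act 0 n94447
theorem D189763 : act 0 n94447 = n189763 := rfl
theorem F377663 : act 4 n189763 = n189346 := d18_3 (iv1 D94446) D94447 D189763 F376447 (iv4 D187471) (iv0 D90201) F65094 D47703 (iv5 F291610)
theorem F377664 : act 1 n186384 = n189763 := d15_0 (iv0 D189763) F291651 (iv2 F289170)
theorem F377665 : act 2 n144549 = n189763 := d1_3 F377663 (iv2 F377348) F377351
theorem F377666 : act 6 n117048 = n189763 := d10_0 F377663 F376448 F225393
theorem F377667 : act 7 n186396 = n189763 := d15_2 (iv0 F377647) F377648 (iv2 F377665)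
def n189764 : Q := act 1 n94447
theorem D189764 : act 1 n94447 = n189764 := rfl
theorem F377668 : act 1 n189764 = n186384 := d15_1 D189764 (iv7 F377646) F377645
theorem F377669 : act 7 n189764 = n144549 := d15_2 (iv0 D189763) D189764 F377665
theorem F377670 : act 2 n186396 = n189764 := d4_3 F377669 F377665 (iv7 F377667)
theorem F377671 : act 3 n185610 = n189764 := d8_3 F377669 F370191 (iv7 F370192)
def n189765 : Q := act 5 n94447
theorem D189765 : act 5 n94447 = n189765 := rfl
theorem F377672 : act 7 n189765 = n186399 := d13_2 (iv7 F291651) D189765 (iv5 D186399)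
def n189766 : Q := act 0 n94448
theorem D189766 : act 0 n94448 = n189766 := rfl
theorem F377673 : act 4 n189766 = n95960 := d18_3 D183236 F363173 D189766 (iv5 D95960) D95959 (iv0 F284881) (iv4 D183231) (iv0 D87466) D87468
theorem F377674 : act 2 n189563 = n189766 := d15_3 (iv0 D189766) (iv0 F175871) (iv7 F376888)
def n189767 : Q := act 7 n94448
theorem D189767 : act 7 n94448 = n189767 := rfl
theorem F377675 : act 3 n189767 = n94456 := d8_1 D189767 (iv7 D94456) (iv3 F145628)
theorem F377676 : act 5 n189767 = n133215 := d13_1 D189767 F371149 (iv5 F359564)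
theorem F377677 : act 6 n189767 = n186403 := d14_1 D189767 (iv7 D186403) (iv6 D88787) F291535 D94448
theorem F377678 : act 0 n189563 = n189767 := d20_4 (iv4 F376206) (iv1 F376901) (iv4 D189564) D189563 F377675 F291656 (iv1 F289098) F369372 (iv3 F376213) (iv1 D189248)
def n189768 : Q := act 3 n94449
theorem D189768 : act 3 n94449 = n189768 := rfl
theorem F377679 : act 2 n189768 = n100686 := d0_1 D189768 F154798 F291074 D94056 F145630
theorem F377680 : act 5 n189768 = n187673 := d6_2 (iv5 F145629) D189768 F371158
theorem F377681 : act 6 n189768 = n100684 := d7_2 F369194 D189768 (iv3 F369193)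
theorem F377682 : act 7 n189768 = n188552 := d8_2 (iv7 F145631) D189768 F373925
theorem F377683 : act 4 n189768 = n189029 := d20_6 F65057 F35809 (iv4 F33160) (iv3 F69482) D94449 D189768 F375489 (iv4 F287619) (iv3 D182291) (iv1 F133608)
theorem F377684 : act 1 n188554 = n189768 := d17_8 F375489 (iv5 D185382) F151078 (iv5 D97993) F72171 D90433 D187661 (iv5 F374080) F377683
theorem F377685 : act 0 n188553 = n189768 := d20_10 F377683 F375489 (iv4 F287619) (iv3 D182291) (iv1 F133608) (iv3 F138605) F138606 (iv1 F364360) (iv4 F376155) F376154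
def n189769 : Q := act 4 n94450
theorem D189769 : act 4 n94450 = n189769 := rfl
theorem F377686 : act 3 n189769 = n132600 := d5_1 D189769 (iv4 D132600) F354295 F135589 (iv3 F145633)
def n189770 : Q := act 3 n94454
theorem D189770 : act 3 n94454 = n189770 := rfl
theorem F377687 : act 6 n189770 = n107894 := d7_2 F145636 D189770 F166717
def n189771 : Q := act 1 n94455
theorem D189771 : act 1 n94455 = n189771 := rfl
theorem F377688 : act 1 n189771 = n130139 := d15_1 D189771 F369293 F157534
theorem F377689 : act 7 n189771 = n130125 := d15_2 (iv0 F354338) D189771 F208635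
theorem F377690 : act 4 n189771 = n130131 := d17_9 (iv1 F208643) D130167 F345531 (iv5 D61366) (iv4 F95802) (iv5 F365939) (iv0 D94453) D94455 D189771
theorem F377691 : act 5 n186256 = n189771 := d21_6 (iv5 D41409) (iv1 D19504) D19506 D41418 D88718 D186256 (iv1 D189771) (iv5 D94455) (iv6 D44144) F290718
theorem F377692 : act 2 n130142 = n189771 := d1_3 F377690 F208641 (iv4 F208661)
def n189772 : Q := act 7 n94455
theorem D189772 : act 7 n94455 = n189772 := rfl
theorem F377693 : act 2 n189772 = n130139 := d4_1 D189772 F369293 F157534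
theorem F377694 : act 3 n189772 = n133215 := d8_1 D189772 F371149 F359565
theorem F377695 : act 4 n189772 = n132711 := d11_1 D189772 (iv7 F366465) F366462
theorem F377696 : act 5 n189772 = n94456 := d13_1 D189772 (iv7 D94456) D94455
theorem F377697 : act 1 n130142 = n189772 := d15_1 F366226 (iv7 D189772) (iv2 F157534)
theorem F377698 : act 1 n189772 = n130125 := d15_1 F377697 (iv7 F377689) (iv2 F377692)
theorem F377699 : act 5 n135343 = n165937 := d18_9 (iv1 D165937) F198742 (iv1 D124243) F299011 (iv5 F324233) (iv4 F208661) F377697 F377695 F366468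
theorem F377700 : act 2 n165937 = n135352 := d2_1 F377699 (iv5 D135352) (iv2 F217581)
def n189773 : Q := act 4 n94801
theorem D189773 : act 4 n94801 = n189773 := rfl
theorem F377701 : act 7 n189773 = n182421 := d11_2 (iv7 F292474) D189773 (iv4 D182421)
theorem F377702 : act 0 n189773 = n98574 := d18_2 (iv1 F344367) D189773 (iv4 D98574) (iv5 D46081) (iv4 F68937) (iv0 F68939) F65039 D86950 D182056
def n189774 : Q := act 0 n94809
theorem D189774 : act 0 n94809 = n189774 := rfl
theorem F377703 : act 1 n182768 = n189774 := d15_0 (iv0 D189774) (iv7 F295049) D182768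
def n189775 : Q := act 1 n94809
theorem D189775 : act 1 n94809 = n189775 := rfl
def n189776 : Q := act 2 n94809
theorem D189776 : act 2 n94809 = n189776 := rfl
theorem F377704 : act 3 n189776 = n128726 := d0_2 D94809 D189776 F345225 F132099 F294430
theorem F377705 : act 5 n189776 = n169909 := d2_2 (iv5 F294455) D189776 (iv2 D169909)
theorem F377706 : act 7 n189776 = n182768 := d4_2 F295049 D189776 (iv2 D182768)
theorem F377707 : act 1 n189776 = n182766 := d15_0 (iv0 D182766) F295049 D189776
theorem F377708 : act 1 n189775 = n182768 := d15_1 D189775 (iv7 F377706) (iv2 D189776)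
theorem F377709 : act 1 n182767 = n189776 := d15_1 D182767 F377706 (iv2 D182768)
def n189777 : Q := act 6 n94809
theorem D189777 : act 6 n94809 = n189777 := rfl
theorem F377710 : act 3 n189777 = n94811 := d7_1 D189777 (iv6 D94811) D94809
def n189778 : Q := act 0 n94811
theorem D189778 : act 0 n94811 = n189778 := rfl
def n189779 : Q := act 1 n94811
theorem D189779 : act 1 n94811 = n189779 := rfl
theorem F377711 : act 1 n189779 = n180361 := d15_1 D189779 (iv7 D180361) F295051
def n189780 : Q := act 5 n94811
theorem D189780 : act 5 n94811 = n189780 := rfl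
theorem F377712 : act 2 n189780 = n124623 := d2_1 D189780 F199312 F295051
theorem F377713 : act 6 n189780 = n124520 := d12_2 D94811 D189780 (iv5 D124520) F91918 F294456
theorem F377714 : act 5 n129792 = n189779 := d21_0 (iv1 D189779) D189780 F377713 F301895 (iv6 F340305) F340304 (iv1 F357665) (iv5 D132066) D132067 F363253
theorem F377715 : act 4 n188730 = n189780 := d17_4 D134530 F359718 F368157 (iv5 F374611) (iv5 D189780) D189779 (iv5 F377714) (iv0 F363253) (iv4 F211606)
theorem F377716 : act 3 n189780 = n188781 := d5_1 F377715 (iv4 D188781) (iv3 D92792) (iv4 F142938) D188730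
theorem F377717 : act 5 n188781 = n189777 := d6_2 D189780 F377716 F377710
theorem F377718 : act 2 n189779 = n180360 := d2_1 F377714 (iv5 F341760) F354353
theorem F377719 : act 3 n189779 = n129793 := d6_1 F377714 (iv5 D129793) D129792
theorem F377720 : act 7 n189779 = n180359 := d13_2 F211451 F377714 F359031
theorem F377721 : act 4 n189779 = n154017 := d16_6 F369450 (iv5 D187197) (iv4 F346000) (iv5 D129798) (iv4 F208143) F377714 (iv5 F364039) (iv7 D185267) (iv2 F285711)
theorem F377722 : act 6 n154015 = n189779 := d10_0 F377721 (iv6 D154017) D154015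
theorem F377723 : act 2 n180359 = n189778 := d15_3 (iv0 D189778) D189779 F377720
theorem F377724 : act 7 n180360 = n189778 := d4_2 (iv7 F377720) F377718 (iv2 F377723)
theorem F377725 : act 1 n180361 = n189778 := d15_1 F377711 (iv7 F377724) (iv2 F377718)
def n189781 : Q := act 7 n94811
theorem D189781 : act 7 n94811 = n189781 := rfl
theorem F377726 : act 2 n189781 = n180361 := d4_1 D189781 (iv7 D180361) F295051
theorem F377727 : act 4 n189781 = n94815 := d11_1 D189781 (iv7 D94815) (iv4 F146158)
theorem F377728 : act 6 n189781 = n182773 := d14_1 D189781 (iv7 D182773) (iv6 D87245) F294428 D94811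
theorem F377729 : act 1 n180360 = n189781 := d15_1 D180360 (iv7 D189781) (iv2 F295051)
theorem F377730 : act 1 n189781 = n180359 := d15_1 F377729 (iv7 F377720) F377718
def n189782 : Q := act 3 n94812
theorem D189782 : act 3 n94812 = n189782 := rfl
theorem F377731 : act 5 n189782 = n185231 := d6_2 (iv5 F337939) D189782 F287540
def n189783 : Q := act 4 n94812
theorem D189783 : act 4 n94812 = n189783 := rfl
theorem F377732 : act 5 n189783 = n127363 := d18_4 (iv1 D189779) F146158 D94812 D189783 F362098 F362094 (iv4 F354361) (iv0 F354362) F377714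
theorem F377733 : act 3 n127370 = n189783 := d6_3 F377732 F204668 D127370
theorem F377734 : act 6 n127366 = n189783 := d12_0 F377732 (iv6 D127363) (iv5 D59823) D59824 D127366
theorem F377735 : act 0 n115001 = n189783 := d21_10 F377732 F362097 (iv5 F347515) (iv6 D132044) (iv1 D61960) D61963 F328125 (iv1 F70724) (iv5 F125362) (iv6 F364818)
theorem E103391 : n185265 = n154390 := ((c18_8 (iv1 D183492) (iv4 F364817) F377735 (iv4 D189783) F337939 F135185 F352353 D154390 F364043 (iv5 F365547))).symm
theorem F377736 : act 0 n154390 = n88276 := (sb E103391 (iv1 D185265))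
theorem F377737 : act 1 n154390 = n154585 := (sb E103391 F364043)
def n189784 : Q := act 6 n94812
theorem D189784 : act 6 n94812 = n189784 := rfl
theorem F377738 : act 4 n189784 = n127366 := d10_1 D189784 F377734 (iv4 D189783)
theorem F377739 : act 5 n189784 = n182167 := d12_1 D189784 (iv6 D182167) F133501 D88266 (iv5 F337939)
theorem F377740 : act 0 n134900 = n189784 := d21_10 F377739 F364081 (iv5 F294414) (iv6 D96446) F70868 (iv6 F328343) (iv5 F328749) (iv1 F332735) (iv5 D134899) D134900
theorem F377741 : act 4 n140415 = n101439 := d16_6 (iv4 F283629) (iv5 F377739) F377738 (iv5 D127366) (iv4 F101596) D140415 (iv5 F368947) (iv7 D187055) F137173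
theorem F377742 : act 7 n101436 = n140415 := d11_0 F377741 (iv7 D101439) (iv4 F156255)
theorem F377743 : act 3 n140420 = n101436 := d8_3 F377742 F223568 D140420
theorem F377744 : act 5 n140416 = n101436 := d13_3 F377742 (iv5 D140415) D140416
theorem F377745 : act 6 n101434 = n140420 := d7_0 F377743 (iv6 D101436) D101434
def n189785 : Q := act 4 n94813
theorem D189785 : act 4 n94813 = n189785 := rfl
theorem F377746 : act 0 n189785 = n115001 := d18_2 (iv1 F285261) D189785 F364817 (iv5 F135224) (iv4 F337986) (iv0 D153829) D153831 F352432 F287447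
def n189786 : Q := act 4 n94814
theorem D189786 : act 4 n94814 = n189786 := rfl
theorem F377747 : act 2 n189786 = n185060 := d1_1 D189786 F287446 (iv2 F146159)
theorem F377748 : act 6 n189786 = n94816 := d10_2 (iv6 F146160) D189786 (iv4 D94816)
theorem F377749 : act 5 n189786 = n187196 := d21_6 (iv5 D44579) F63095 D40863 F329948 (iv1 F146165) (iv6 F377748) (iv1 D187196) D187197 F369449 F137686
def n189787 : Q := act 3 n94816
theorem D189787 : act 3 n94816 = n189787 := rfl
theorem F377750 : act 7 n189787 = n185064 := d8_2 (iv7 F146163) D189787 (iv3 D185064)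
def n189788 : Q := act 3 n95261
theorem D189788 : act 3 n95261 = n189788 := rfl
theorem F377751 : act 4 n189788 = n124216 := d5_2 D95261 D189788 (iv3 D124216) F148258 (iv3 F133775)
theorem F377752 : act 7 n189788 = n166082 := d8_2 (iv7 F299567) D189788 (iv3 D166082)
theorem F377753 : act 0 n189788 = n172536 := d19_4 F118546 (iv5 F297419) D95261 D189788 (iv5 F355918) (iv4 D166490) (iv3 D79919) (iv1 D36403) D36405 D79928 (iv3 F339836) (iv1 F346797) F289480 F337131 F270145 F127202 (iv5 D82590) F298879 (iv3 F118874)
def n189789 : Q := act 5 n95261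
theorem D189789 : act 5 n95261 = n189789 := rfl
theorem F377754 : act 2 n189789 = n166080 := d2_1 D189789 (iv5 D166080) (iv2 F299566)
theorem F377755 : act 7 n189789 = n130239 := d13_2 (iv7 F299567) D189789 F354346
theorem F377756 : act 0 n189789 = n181222 := d17_2 (iv1 F146878) D189789 (iv5 D181222) F325285 (iv5 F325288) F113872 F54967 F116794 D45158
theorem F377757 : act 1 n189789 = n170642 := d17_6 (iv1 F118518) (iv5 F61004) F118546 (iv5 F297419) D95261 D189789 (iv5 D170642) (iv0 F298486) (iv4 D79713)
def n189790 : Q := act 3 n95264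
theorem D189790 : act 3 n95264 = n189790 := rfl
theorem F377758 : act 4 n189790 = n162657 := d5_2 D95264 D189790 (iv3 D162657) (iv4 D78137) (iv3 F120372)
theorem F377759 : act 6 n189790 = n176680 := d7_2 (iv6 F299569) D189790 F276055
theorem F377760 : act 7 n189790 = n166079 := d8_2 (iv7 F299570) D189790 (iv3 D166079)
theorem F377761 : act 0 n189790 = n110501 := d19_4 (iv1 F119033) (iv5 F297423) D95264 D189790 (iv5 D110501) F80394 F38788 F19087 (iv5 F11309) (iv4 F24477) (iv3 F49697) D67655 (iv5 F322416) (iv4 D54348) F41718 D26270 (iv5 F52077) F52076 (iv3 F57136)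
theorem F377762 : act 5 n113566 = n189790 := d17_1 F362935 F377761 (iv5 D110501) F80394 F38789 D49982 (iv5 F93175) (iv0 F182898) F326906
def n189791 : Q := act 5 n95264
theorem D189791 : act 5 n95264 = n189791 := rfl
theorem F377763 : act 2 n189791 = n130239 := d2_1 D189791 F354346 (iv2 F299568)
theorem F377764 : act 3 n189791 = n113566 := d6_1 D189791 F377762 (iv3 D189790)
theorem F377765 : act 6 n189791 = n113564 := d12_2 (iv6 F299569) D189791 F343565 D130199 F341973
theorem F377766 : act 7 n189791 = n166080 := d13_2 (iv7 F299570) D189791 (iv5 D166080)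
theorem F377767 : act 0 n189791 = n170642 := d17_2 F146877 D189791 (iv5 D170642) (iv4 D81797) (iv5 D37401) (iv0 F116834) (iv5 F116701) F71151 (iv4 F125352)
theorem F377768 : act 1 n189791 = n181222 := d17_6 (iv1 F118847) D36383 (iv1 F119033) (iv5 F297423) D95264 D189791 (iv5 D181222) (iv0 D86540) (iv4 D40115)
def n189792 : Q := act 0 n95266
theorem D189792 : act 0 n95266 = n189792 := rfl
theorem F377769 : act 4 n189792 = n103117 := d18_3 F369727 F151324 D189792 (iv5 D103117) (iv4 F143148) F143147 (iv4 F146952) (iv0 F146956) D95316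
theorem F377770 : act 5 n189792 = n128941 := d19_1 D189792 F207165 F362273 (iv1 F214452) (iv5 D133388) (iv4 D62605) (iv3 F97579) D133337 F214355 F332385 (iv3 D83584) (iv1 D38542) (iv5 D18358) (iv4 F14330) (iv3 F30222) F296243 D21162 D44503 D95266
theorem F377771 : act 3 n189792 = n125948 := d20_5 (iv4 D95264) (iv1 D44502) D44503 D95266 D189792 F202447 F103480 (iv4 F202905) F326219 F146877
theorem F377772 : act 6 n125946 = n189792 := d7_0 F377771 (iv6 D125948) D125946
theorem F377773 : act 7 n189792 = n128940 := d14_2 (iv7 F202443) F377772 F207164 D128945 (iv6 F352202)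
def n189793 : Q := act 1 n95266
theorem D189793 : act 1 n95266 = n189793 := rfl
theorem F377774 : act 4 n189793 = n103114 := d18_7 (iv1 F283794) F147495 F251767 (iv4 F369721) (iv5 F369726) F151324 D189793 F160665 (iv5 F138106)
theorem F377775 : act 6 n128615 = n189793 := d21_3 (iv5 F358187) F206869 D128615 (iv1 D189793) F146886 D95289 F363218 (iv5 F359046) (iv6 F359045) (iv1 F358185)
theorem F377776 : act 2 n189793 = n128940 := d3_1 F377775 F207164 (iv2 F206890)
theorem F377777 : act 5 n189793 = n128614 := d12_1 F377775 (iv6 D128614) (iv5 D60490) D60491 D128615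
def n189794 : Q := act 2 n95266
theorem D189794 : act 2 n95266 = n189794 := rfl
theorem F377778 : act 3 n189794 = n166092 := d0_2 D95266 D189794 (iv2 D166092) (iv3 D79740) (iv2 F296378)
theorem F377779 : act 4 n189794 = n187291 := d1_2 F151324 D189794 F369728
theorem F377780 : act 6 n189794 = n95288 := d3_2 (iv6 F146886) D189794 (iv2 D95288)
theorem F377781 : act 1 n189794 = n128940 := d15_0 (iv0 F362275) F280494 D189794
def n189795 : Q := act 5 n95266
theorem D189795 : act 5 n95266 = n189795 := rfl
theorem F377782 : act 3 n189795 = n95267 := d6_1 D189795 (iv5 D95267) D95266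
theorem F377783 : act 0 n189795 = n125686 := d17_2 (iv1 D189793) D189795 (iv5 D125686) (iv4 F355932) (iv5 F370032) (iv0 F370033) (iv5 F160661) (iv0 F160664) (iv4 F377774)
theorem F377784 : act 0 n129078 = n189795 := d19_0 (iv5 D189795) (iv4 F151324) (iv3 D98129) (iv1 F126963) F325914 F70650 (iv3 D22326) (iv1 D10630) D10631 D22332 D46615 D99810 F337158 F346949 (iv3 F354262) F237421 D147439 F339608 F362484
def n189796 : Q := act 4 n95267
theorem D189796 : act 4 n95267 = n189796 := rfl
theorem F377785 : act 2 n189796 = n111399 := d1_1 D189796 F350056 (iv2 F297528)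
theorem F377786 : act 5 n189796 = n121687 := d9_2 D95267 D189796 (iv4 D121687) (iv5 D56226) (iv4 D27093) D27094 D56230 D121696 F350071 (iv5 D177059) (iv4 D84385) (iv5 D38913) F29667 D21162 D44503
theorem F377787 : act 7 n189796 = n166068 := d11_2 (iv7 F280417) D189796 (iv4 F299709)
theorem F377788 : act 6 n111281 = n189796 := d12_0 F377786 F312231 D147925 F350053 F219137
def n189797 : Q := act 6 n95267
theorem D189797 : act 6 n95267 = n189797 := rfl
theorem F377789 : act 2 n189797 = n111397 := d3_1 D189797 F350087 (iv2 F297528)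
theorem F377790 : act 4 n189797 = n111281 := d10_1 D189797 F377788 (iv4 D189796)
theorem F377791 : act 5 n189797 = n95290 := d12_1 D189797 (iv6 D95290) (iv5 D44513) (iv6 F70009) D95267
theorem F377792 : act 7 n111392 = n189797 := d13_0 F377791 F349687 F220845
theorem F377793 : act 1 n126054 = n111392 := d15_1 (iv0 F202758) F377792 F377789
def n189798 : Q := act 0 n95268
theorem D189798 : act 0 n95268 = n189798 := rfl
theorem F377794 : act 3 n189798 = n125370 := d20_5 (iv4 D40451) (iv1 F33400) D44505 D95268 D189798 (iv4 D125370) (iv1 D58706) (iv4 F76343) (iv3 D48512) (iv1 F61548)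
theorem F377795 : act 7 n180375 = n189798 := d8_0 F377794 (iv7 F261366) D180375
def n189799 : Q := act 1 n95268
theorem D189799 : act 1 n95268 = n189799 := rfl
def n189800 : Q := act 2 n95268
theorem D189800 : act 2 n95268 = n189800 := rfl
theorem F377796 : act 4 n189800 = n163951 := d1_2 (iv4 F146887) D189800 (iv2 D163951)
theorem F377797 : act 6 n189800 = n177462 := d3_2 (iv6 F366965) D189800 (iv2 F361745)
theorem F377798 : act 1 n189800 = n180375 := d15_0 (iv0 F280703) F148261 D189800
def n189801 : Q := act 5 n95268
theorem D189801 : act 5 n95268 = n189801 := rfl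
theorem F377799 : act 3 n189801 = n95269 := d6_1 D189801 (iv5 D95269) D95268
theorem F377800 : act 7 n189801 = n169936 := d13_2 F148261 D189801 F267356
def n189802 : Q := act 6 n95269
theorem D189802 : act 6 n95269 = n189802 := rfl
theorem F377801 : act 2 n189802 = n115001 := d3_1 D189802 F364818 (iv2 F146888)
theorem F377802 : act 4 n189802 = n95425 := d10_1 D189802 (iv6 D95425) (iv4 F146890)
def n189803 : Q := act 0 n95270
theorem D189803 : act 0 n95270 = n189803 := rfl
def n189804 : Q := act 1 n95270
theorem D189804 : act 1 n95270 = n189804 := rfl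
def n189805 : Q := act 2 n95270
theorem D189805 : act 2 n95270 = n189805 := rfl
theorem F377803 : act 4 n189805 = n163248 := d1_2 (iv4 F146893) D189805 (iv2 D163248)
def n189806 : Q := act 6 n95270
theorem D189806 : act 6 n95270 = n189806 := rfl
theorem F377804 : act 3 n189806 = n95272 := d7_1 D189806 (iv6 D95272) D95270
theorem F377805 : act 4 n189806 = n111979 := d10_1 D189806 F326099 (iv4 F146893)
theorem F377806 : act 7 n145453 = n189806 := d11_0 F377805 (iv7 F175601) (iv4 F228488)
theorem F377807 : act 1 n128765 = n189806 := d17_8 (iv1 D111979) D111981 (iv1 F363071) F342889 (iv4 F203022) F342874 (iv0 F95184) D128765 F377805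
theorem F377808 : act 5 n126264 = n189806 := d18_4 (iv1 F161209) F329142 (iv1 F328772) (iv4 F203032) F377805 F174031 (iv4 F204592) F204594 F329450
theorem F377809 : act 6 n189803 = n163430 := d21_5 F342895 (iv1 F360386) F377808 (iv6 D189806) D189803 F367210 F211228 F343692 F358232 (iv1 F342887)
def n189807 : Q := act 6 n95271
theorem D189807 : act 6 n95271 = n189807 := rfl
theorem F377810 : act 2 n189807 = n169937 := d3_1 D189807 (iv6 D169937) (iv2 F146894)
theorem F377811 : act 4 n189807 = n95423 := d10_1 D189807 (iv6 D95423) (iv4 F146895)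
theorem F377812 : act 5 n189807 = n126266 := d12_1 D189807 (iv6 D126266) (iv5 F323908) (iv6 D95272) D95271
theorem F377813 : act 0 n106661 = n189807 := d21_4 F349640 F349639 F164267 D106661 (iv6 D189807) (iv5 D95271) F70013 D86129 (iv6 F328938) (iv1 F164215)
def n189808 : Q := act 0 n95276
theorem D189808 : act 0 n95276 = n189808 := rfl
theorem F377814 : act 3 n189808 = n125400 := d20_5 (iv4 D21169) D21167 D44508 D95276 D189808 (iv4 D125400) (iv1 D58716) (iv4 F92776) (iv3 D58710) F45081
theorem F377815 : act 1 n169918 = n189808 := d15_0 (iv0 D189808) F146908 D169918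
theorem F377816 : act 6 n177334 = n189808 := d7_0 F377814 F355910 (iv3 F334681)
theorem F377817 : act 7 n157843 = n189808 := d8_0 F377814 F256547 D157843
def n189809 : Q := act 1 n95276
theorem D189809 : act 1 n95276 = n189809 := rfl
def n189810 : Q := act 2 n95276
theorem D189810 : act 2 n95276 = n189810 := rfl
theorem F377818 : act 3 n189810 = n169912 := d0_2 D95276 D189810 (iv2 D169912) (iv3 D81503) (iv2 F70016)
theorem F377819 : act 4 n189810 = n124276 := d1_2 (iv4 F146907) D189810 (iv2 D124276)
theorem F377820 : act 7 n189810 = n169918 := d4_2 (iv7 F146908) D189810 (iv2 D169918)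
theorem F377821 : act 1 n189810 = n157843 := d15_0 (iv0 F248748) (iv7 F146908) D189810
theorem F377822 : act 1 n189809 = n169918 := d15_1 D189809 (iv7 F377820) (iv2 D189810)
theorem F377823 : act 2 n157843 = n189809 := d15_3 F377822 F377815 (iv7 F377817)
theorem F377824 : act 7 n169917 = n189809 := d15_2 (iv0 F248748) D169917 (iv2 F377823)
theorem F377825 : act 2 n189808 = n169917 := d4_3 F377824 (iv2 F377823) F377817
theorem F377826 : act 6 n169917 = n166620 := d3_2 F377816 F377825 F299625
theorem F377827 : act 1 n169917 = n189810 := d15_0 F377821 F377817 F377825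
theorem F377828 : act 4 n169917 = n111660 := d20_0 (iv1 D111660) (iv4 F173222) F173221 D125547 (iv3 F364819) (iv4 F364820) (iv1 F262323) (iv4 F267335) (iv3 F377818) (iv1 F377827)
theorem F377829 : act 3 n160263 = n111660 := d20_5 (iv4 D27314) F27963 D35108 D76806 D160263 (iv4 F377828) (iv1 D169917) F125357 (iv3 D76904) (iv1 F55841)
def n189811 : Q := act 0 n95280
theorem D189811 : act 0 n95280 = n189811 := rfl
theorem F377830 : act 1 n169912 = n189811 := d15_0 (iv0 D189811) F146926 D169912
def n189812 : Q := act 1 n95280
theorem D189812 : act 1 n95280 = n189812 := rfl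
def n189813 : Q := act 2 n95280
theorem D189813 : act 2 n95280 = n189813 := rfl
theorem F377831 : act 3 n189813 = n169918 := d0_2 D95280 D189813 (iv2 D169918) (iv3 D81506) (iv2 F70022)
theorem F377832 : act 4 n189813 = n166680 := d1_2 (iv4 F146925) D189813 (iv2 D166680)
theorem F377833 : act 7 n189813 = n169912 := d4_2 (iv7 F146926) D189813 (iv2 D169912)
theorem F377834 : act 1 n189813 = n169910 := d15_0 (iv0 D169910) (iv7 F146926) D189813
theorem F377835 : act 1 n189812 = n169912 := d15_1 D189812 (iv7 F377833) (iv2 D189813)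
theorem F377836 : act 1 n169911 = n189813 := d15_1 D169911 F377833 (iv2 D169912)
theorem F377837 : act 5 n126297 = n189813 := d21_6 (iv5 D28107) (iv1 D13417) D13419 D28115 D59200 D126297 (iv1 F377836) F364823 (iv6 D113248) F82652
theorem F377838 : act 2 n183506 = n126297 := d2_3 F377837 (iv2 D189813) F364714
theorem F377839 : act 4 n126297 = n114007 := d1_2 F364708 F377838 (iv2 F209204)
theorem F377840 : act 6 n126293 = n183506 := d3_0 F377838 (iv6 D126297) D126293
theorem F377841 : act 3 n183508 = n126293 := d7_3 F377840 (iv3 D183506) D183508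
theorem F377842 : act 4 n105368 = n126293 := d10_3 F377840 (iv4 F364708) F209205
theorem F377843 : act 7 n189392 = n126302 := d14_4 F203072 F377840 F364709 (iv6 F376526) (iv6 D126302)
theorem F377844 : act 4 n126302 = n104359 := d11_1 F377843 F159982 D189392
theorem E103392 : n114010 = n59201 := (c10_4 D126302 F377844 F251769 D114010)
theorem E103393 : n126300 = n52618 := ((D126300).symm.trans (sb E103392 (iv4 D114010)))
theorem F377845 : act 4 n52618 = n59201 := (sb E103393 (iv4 D126300))
theorem F377846 : act 4 n126298 = n105369 := d1_2 F377845 (iv2 F203073) F209208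
theorem F377847 : act 0 n125928 = n125632 := d18_2 (iv1 F201987) D125928 F202078 F161095 F76556 D52618 F377845 F163236 (iv5 F201985)
theorem E103394 : n114005 = n59200 := (c11_4 D126298 F377846 F209209 D114005)
theorem E103395 : n126294 = n106246 := ((D126294).symm.trans (sb E103394 (iv3 F335965)))
theorem E103396 : n126295 = n52617 := ((D126295).symm.trans (sb E103394 (iv4 D114005)))
theorem F377848 : act 3 n106246 = n59200 := (sb E103395 (iv3 D126294))
theorem F377849 : act 4 n52617 = n59200 := (sb E103396 (iv4 D126295))
theorem F377850 : act 0 n113309 = n106257 := d20_4 (iv4 D68655) (iv1 F50545) D52584 (iv3 F176514) F163290 F77535 D59200 (iv4 F377849) D114004 F335960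
theorem F377851 : act 7 n126299 = n183508 := d8_0 F377841 (iv7 F203072) D126299
theorem F377852 : act 4 n183511 = n126299 := d11_3 F377851 F285247 D183511
def n189814 : Q := act 4 n95286
theorem D189814 : act 4 n95286 = n189814 := rfl
theorem F377853 : act 2 n189814 = n172096 := d1_1 D189814 F270248 (iv2 F363216)
theorem F377854 : act 3 n189814 = n112266 := d5_1 D189814 F174621 F93115 (iv4 F93118) (iv3 F341939)
theorem F377855 : act 7 n189814 = n125755 := d11_2 (iv7 F341940) D189814 F202256
def n189815 : Q := act 6 n95286
theorem D189815 : act 6 n95286 = n189815 := rfl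
theorem F377856 : act 3 n189815 = n107515 := d7_1 D189815 F165878 (iv3 F341939)
theorem F377857 : act 7 n189815 = n125542 := d14_2 (iv7 F341940) D189815 (iv6 D125542) F92909 D58897
theorem F377858 : act 0 n166556 = n189815 := d21_4 (iv5 F358378) (iv1 D185724) F135433 D166556 (iv6 D189815) (iv5 F359007) (iv1 F359005) (iv5 F359000) (iv6 F373486) (iv1 F373489)
theorem F377859 : act 1 n177423 = n189815 := d15_0 (iv0 F377858) F297570 D177423
theorem F377860 : act 2 n189815 = n177422 := d15_3 F358239 F358242 (iv7 F377857)
theorem F377861 : act 6 n177422 = n157786 := d3_2 D189815 F377860 (iv2 F363216)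
def n189816 : Q := act 3 n95287
theorem D189816 : act 3 n95287 = n189816 := rfl
theorem F377862 : act 2 n189816 = n111655 := d0_1 D189816 F173221 F92920 (iv3 F93117) (iv2 F363213)
theorem F377863 : act 6 n189816 = n111649 := d7_2 (iv6 F363215) D189816 (iv3 F173211)
theorem F377864 : act 4 n111651 = n189816 := d10_3 F377863 (iv4 D111649) D111651
def n189817 : Q := act 4 n95287
theorem D189817 : act 4 n95287 = n189817 := rfl
theorem F377865 : act 2 n189817 = n125755 := d1_1 D189817 F202256 (iv2 F363213)
theorem F377866 : act 6 n189817 = n125753 := d10_2 (iv6 F363215) D189817 F202253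
theorem F377867 : act 7 n189817 = n172096 := d11_2 F363217 D189817 F270248
theorem F377868 : act 3 n189817 = n158003 := d20_3 F288742 (iv1 F248681) D189817 (iv1 F248915) F126983 F59908 (iv1 F55016) D76214 (iv3 F151333) (iv1 F288744)
theorem F377869 : act 5 n130532 = n189817 := d6_0 F377868 (iv5 F377570) F377566
theorem F377870 : act 0 n189817 = n176825 := d21_4 F349594 (iv1 D130534) (iv5 F344595) (iv6 F377866) F362559 F160661 F370033 F370032 F355933 D125658
theorem F377871 : act 1 n189814 = n176825 := d15_0 (iv0 F377870) F377867 (iv2 F377853)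
def n189818 : Q := act 5 n95288
theorem D189818 : act 5 n95288 = n189818 := rfl
theorem F377872 : act 2 n189818 = n95289 := d2_1 D189818 (iv5 D95289) D95288
def n189819 : Q := act 1 n95289
theorem D189819 : act 1 n95289 = n189819 := rfl
def n189820 : Q := act 4 n95289
theorem D189820 : act 4 n95289 = n189820 := rfl
theorem F377873 : act 3 n189820 = n182599 := d5_1 D189820 (iv4 D182599) F133787 (iv4 F70028) (iv3 F146937)
def n189821 : Q := act 6 n95289
theorem D189821 : act 6 n95289 = n189821 := rfl
theorem F377874 : act 3 n189821 = n95290 := d7_1 D189821 (iv6 D95290) (iv3 F146937)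
theorem F377875 : act 0 n189821 = n131825 := d21_4 (iv5 F363214) (iv1 D95287) D95289 D189821 (iv6 D131825) D131824 F361707 (iv5 D132995) D132996 (iv1 F359011)
def n189822 : Q := act 6 n95296
theorem D189822 : act 6 n95296 = n189822 := rfl
theorem F377876 : act 2 n189822 = n103295 := d3_1 D189822 (iv6 D103295) (iv2 F146940)
theorem F377877 : act 4 n189822 = n162957 := d10_1 D189822 (iv6 F355173) F158498
def n189823 : Q := act 0 n95307
theorem D189823 : act 0 n95307 = n189823 := rfl
theorem F377878 : act 4 n189823 = n114300 := d20_8 (iv4 D66066) (iv1 F84272) D115863 (iv3 F374152) (iv1 F374154) F235977 (iv4 F146949) D189823 (iv3 F316765) (iv1 F180348)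
theorem F377879 : act 2 n95311 = n189823 := d15_3 (iv0 D189823) F259561 (iv7 F248558)
theorem F377880 : act 6 n189823 = n188543 := d3_2 (iv6 F353130) F377879 F373884
theorem F377881 : act 7 n189823 = n95312 := d4_2 (iv7 F248558) F377879 F359247
theorem F377882 : act 3 n127698 = n189823 := d8_3 F377881 F318875 F225887
theorem F377883 : act 1 n95314 = n189823 := d15_1 (iv0 F259558) F377881 F359247
def n189824 : Q := act 7 n95307
theorem D189824 : act 7 n95307 = n189824 := rfl
theorem F377884 : act 2 n189824 = n95314 := d4_1 D189824 (iv7 D95314) (iv2 F146948)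
theorem F377885 : act 3 n189824 = n109885 := d8_1 D189824 (iv7 F320051) F148306
theorem F377886 : act 4 n189824 = n150000 := d11_1 D189824 (iv7 D150000) (iv4 F146949)
theorem F377887 : act 5 n189824 = n111831 := d13_1 D189824 F173635 (iv5 F318877)
theorem F377888 : act 1 n95312 = n189824 := d15_1 D95312 (iv7 D189824) F146948
theorem F377889 : act 1 n189824 = n95311 := d15_1 F377888 F248558 (iv2 F359247)
def n189825 : Q := act 0 n95309
theorem D189825 : act 0 n95309 = n189825 := rfl
theorem F377890 : act 5 n189825 = n187199 := d17_3 (iv1 F142881) D95309 D189825 (iv4 F369459) (iv5 D113746) (iv0 D52519) F40314 D43362 D92700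
theorem F377891 : act 1 n95325 = n189825 := d15_0 (iv0 D189825) (iv7 F356001) F355929
theorem F377892 : act 2 n95322 = n189825 := d2_3 F377890 F369717 F369715
theorem F377893 : act 7 n95323 = n189825 := d13_0 F377890 F369458 F251852
def n189826 : Q := act 1 n95309
theorem D189826 : act 1 n95309 = n189826 := rfl
theorem F377894 : act 1 n189826 = n95325 := d15_1 D189826 (iv7 D95325) (iv2 F146950)
theorem F377895 : act 7 n189826 = n95322 := d15_2 (iv0 D189825) D189826 F377892
theorem F377896 : act 5 n189826 = n95576 := d17_7 (iv1 F251768) F161497 (iv1 D105318) F76627 (iv4 F70043) D95309 D189826 F367178 F367176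
theorem F377897 : act 2 n95323 = n189826 := d2_3 F377896 (iv2 F251850) F251852
theorem F377898 : act 3 n104589 = n189826 := d6_3 F377896 (iv3 F149569) F160245
def n189827 : Q := act 5 n95311
theorem D189827 : act 5 n95311 = n189827 := rfl
theorem F377899 : act 1 n189827 = n127488 := d17_8 (iv1 F161159) D113451 (iv1 F357984) (iv5 D113657) (iv4 F173636) (iv5 F377887) F377889 D189827 (iv4 F204916)
theorem F377900 : act 0 n189827 = n109879 := d18_0 F169881 (iv1 D105228) (iv4 F110921) (iv5 F354588) (iv4 F290482) F259550 (iv4 F377886) F377889 D189827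
theorem F377901 : act 4 n189827 = n106213 := d19_2 D95311 D189827 (iv3 D106213) (iv1 D49081) D49083 D106222 F163227 (iv1 F163128) (iv5 F106075) (iv4 D69713) (iv3 F103979) (iv1 F114529) F114527 F55240 F39934 (iv1 F41189) F50886 (iv4 F314107) (iv3 F70044)
theorem F377902 : act 0 n113333 = n106213 := d20_10 (iv4 F377901) F377900 F169881 (iv3 F170482) (iv1 D59288) D59289 (iv4 F170516) F176538 (iv4 D113334) D113333
def n189828 : Q := act 5 n95312
theorem D189828 : act 5 n95312 = n189828 := rfl
theorem F377903 : act 3 n189828 = n109875 := d6_1 D189828 (iv5 F225888) (iv3 F318875)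
theorem F377904 : act 1 n189828 = n109879 := d17_8 (iv1 D105228) (iv5 F94258) F176846 (iv5 D113654) (iv4 F318879) (iv5 D95313) D95312 D189828 F169881
theorem F377905 : act 0 n189828 = n127488 := d18_0 (iv4 F204916) (iv1 F161159) D113450 (iv5 F354591) F259549 (iv0 D164617) F120349 D95312 D189828
def n189829 : Q := act 6 n95312
theorem D189829 : act 6 n95312 = n189829 := rfl
def n189830 : Q := act 0 n95313
theorem D189830 : act 0 n95313 = n189830 := rfl
def n189831 : Q := act 1 n95313
theorem D189831 : act 1 n95313 = n189831 := rfl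
theorem F377906 : act 1 n189831 = n111831 := d15_1 D189831 F173635 (iv2 F318878)
theorem F377907 : act 3 n111827 = n189831 := d20_3 F346326 (iv1 F373719) F373716 (iv1 D189831) F146957 (iv4 F318909) D69180 F105463 (iv3 F223043) F223044
theorem F377908 : act 5 n164426 = n189831 := d21_6 F55142 (iv1 F34019) D45331 (iv6 F83722) (iv1 F178264) D164426 (iv1 D189831) (iv5 D95313) (iv6 D44523) (iv1 F55143)
theorem F377909 : act 1 n127420 = n164426 := d17_6 (iv1 D52475) (iv5 F82759) (iv1 F230612) (iv5 D113445) D113444 (iv5 F204811) F377908 F377906 F173636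
def n189832 : Q := act 7 n95313
theorem D189832 : act 7 n95313 = n189832 := rfl
theorem F377910 : act 2 n189832 = n111831 := d4_1 D189832 F173635 (iv2 F318878)
theorem F377911 : act 3 n189832 = n95345 := d8_1 D189832 (iv7 D95345) (iv3 F146957)
theorem F377912 : act 4 n189832 = n105284 := d11_1 D189832 F173640 (iv4 F318879)
theorem F377913 : act 5 n189832 = n95314 := d13_1 D189832 (iv7 D95314) D95313
theorem F377914 : act 1 n111831 = n189830 := d15_0 (iv0 D189830) D189832 F377910
def n189833 : Q := act 4 n95316
theorem D189833 : act 4 n95316 = n189833 := rfl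
theorem F377915 : act 2 n189833 = n128852 := d1_1 D189833 (iv4 F347471) F347476
theorem F377916 : act 7 n189833 = n172542 := d11_2 F374551 D189833 F374554
theorem F377917 : act 0 n189833 = n104820 := d18_2 (iv1 F369468) D189833 (iv4 D104820) F76222 F291300 F290837 (iv4 F177004) F367178 D187201
theorem F377918 : act 1 n189833 = n172540 := d18_6 (iv1 F76195) F75101 (iv1 F135444) (iv4 F135438) D95316 D189833 F361713 F160590 (iv5 D104786)
theorem F377919 : act 5 n189833 = n128602 := d21_2 F361715 (iv1 F377918) (iv6 D128602) (iv1 F95149) (iv6 F343572) (iv5 F93159) D125913 F361381 (iv6 F356084) F361382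
theorem F377920 : act 6 n128605 = n189833 := d12_0 F377919 (iv6 D128602) (iv5 D60484) D60485 D128605
theorem F377921 : act 0 n128893 = n113554 := d17_2 (iv1 D128892) D128893 F366362 F176856 F356067 (iv0 F377917) F377919 F362305 F362300
theorem F377922 : act 5 n113243 = n106220 := d21_0 (iv1 F163225) (iv5 F163213) F343595 F95146 D128602 (iv5 F377919) F377917 (iv5 F356067) (iv6 D113247) D113243
theorem F377923 : act 6 n180329 = n113243 := d21_5 (iv5 D60484) (iv1 F78032) (iv5 F164621) (iv6 F358304) F327651 F377922 (iv1 F163225) (iv5 F163213) F343595 F95146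
def n189834 : Q := act 6 n95316
theorem D189834 : act 6 n95316 = n189834 := rfl
theorem F377924 : act 2 n189834 = n128861 := d3_1 D189834 F347469 F347476
theorem F377925 : act 4 n189834 = n128605 := d10_1 D189834 F377920 (iv4 D189833)
theorem F377926 : act 0 n189834 = n162554 := d20_7 (iv4 D124206) F297593 D58173 (iv3 F331142) (iv1 F362307) F362273 (iv4 F377925) (iv4 F341770) F341769 F198699
def n189835 : Q := act 5 n95317
theorem D189835 : act 5 n95317 = n189835 := rfl
theorem F377927 : act 2 n189835 = n96978 := d2_1 D189835 (iv5 F371823) F371822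
theorem F377928 : act 3 n189835 = n159819 := d6_1 D189835 F251884 F148011
theorem F377929 : act 7 n189835 = n96977 := d13_2 F370166 D189835 F370169
theorem F377930 : act 0 n189835 = n96964 := d17_2 (iv1 F292373) D189835 (iv5 D96964) F71429 (iv5 F88602) D121358 (iv5 F193580) (iv0 F235287) (iv4 F291491)
theorem F377931 : act 1 n189835 = n96980 := d17_6 F142173 F142170 (iv1 F142187) (iv5 F288036) F288034 D189835 F149575 (iv0 F142176) (iv4 D92431)
def n189836 : Q := act 6 n95320
theorem D189836 : act 6 n95320 = n189836 := rfl
theorem F377932 : act 3 n189836 = n155086 := d7_1 D189836 F243903 (iv3 F347478)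
theorem F377933 : act 4 n189836 = n172461 := d10_1 D189836 F270670 (iv4 F347479)
def n189837 : Q := act 4 n95322
theorem D189837 : act 4 n95322 = n189837 := rfl
theorem F377934 : act 0 n189837 = n104793 := d18_2 D95322 D189837 (iv4 D104793) (iv5 D48450) (iv4 F63613) D88465 (iv4 F135438) (iv0 D44524) D44526
def n189838 : Q := act 6 n95322
theorem D189838 : act 6 n95322 = n189838 := rfl
theorem F377935 : act 5 n189838 = n105664 := d12_1 D189838 F165086 (iv5 F370057) F370059 F369715
theorem F377936 : act 0 n189838 = n112001 := d21_10 (iv5 F349529) (iv1 D131912) D131914 F332881 (iv1 F151335) F369732 (iv5 D187291) D187289 F369715 D189838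
def n189839 : Q := act 3 n95323
theorem D189839 : act 3 n95323 = n189839 := rfl
theorem F377937 : act 4 n189839 = n134610 := d20_6 (iv4 D121650) (iv1 F121291) D79880 D166360 F356002 D189839 F340177 (iv4 F331193) F331192 F298054
theorem F377938 : act 6 n134624 = n189839 := d10_0 F377937 F216582 D134624
theorem F377939 : act 1 n111829 = n189839 := d17_8 F340177 F320694 F301542 F324613 D179997 F348565 (iv0 F289643) (iv5 F348563) F377937
theorem F377940 : act 6 n95323 = n163235 := d7_2 F377938 (iv3 D189839) (iv3 F338710)
def n189840 : Q := act 4 n95323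
theorem D189840 : act 4 n95323 = n189840 := rfl
theorem F377941 : act 3 n189840 = n170681 := d5_1 D189840 F268189 (iv3 F321669) (iv4 F377937) (iv3 D189839)
theorem F377942 : act 1 n189840 = n104793 := d18_6 (iv1 D187370) (iv4 F283790) F283793 (iv4 F251851) F251852 D189840 (iv4 D104793) D104792 (iv5 F370032)
def n189841 : Q := act 5 n95324
theorem D189841 : act 5 n95324 = n189841 := rfl
theorem F377943 : act 2 n189841 = n128939 := d2_1 D189841 (iv5 F358176) F356005
theorem F377944 : act 7 n189841 = n128938 := d13_2 F355930 D189841 F362281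
theorem F377945 : act 0 n189841 = n128614 := d17_2 (iv1 F356015) D189841 (iv5 F377777) F377774 (iv5 D103114) (iv0 D47803) D47805 D103120 (iv4 F356017)
theorem F377946 : act 1 n189841 = n128941 := d17_6 F347482 (iv5 D95320) (iv1 D44525) D44526 D95324 D189841 (iv5 F377770) (iv0 D189792) (iv4 F151324)
theorem F377947 : act 5 n182329 = n189819 := d21_6 F377770 (iv1 F377946) (iv5 D189841) F356011 (iv1 F161405) F359016 (iv1 D189819) (iv5 D95289) (iv6 F146886) D189792
theorem F377948 : act 0 n113449 = n125946 := d21_4 (iv5 F204715) (iv1 F230614) (iv5 D113448) D113449 F377772 F377770 (iv1 F377946) (iv5 D189841) F356011 (iv1 F161405)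
def n189842 : Q := act 6 n95325
theorem D189842 : act 6 n95325 = n189842 := rfl
theorem F377949 : act 2 n189842 = n186087 := d3_1 D189842 (iv6 F366940) F355929
theorem F377950 : act 3 n189842 = n95370 := d7_1 D189842 (iv6 D95370) (iv3 F146962)
theorem F377951 : act 5 n189842 = n104592 := d12_1 D189842 (iv6 D104592) (iv5 D48371) (iv6 F70048) (iv5 F146963)
def n189843 : Q := act 6 n95326
theorem D189843 : act 6 n95326 = n189843 := rfl
theorem F377952 : act 3 n189843 = n148167 := d7_1 D189843 (iv6 D148167) (iv3 F309424)
theorem F377953 : act 4 n189843 = n95327 := d10_1 D189843 (iv6 D95327) D95326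
theorem F377954 : act 5 n189843 = n98544 := d12_1 D189843 (iv6 D98544) (iv5 D46072) D46073 F304511
theorem F377955 : act 7 n189843 = n134342 := d14_2 (iv7 F146964) D189843 (iv6 F361770) (iv7 F367405) (iv6 F367406)
theorem F377956 : act 2 n189843 = n134341 := d15_3 (iv0 D134341) D134342 (iv7 F377955)
theorem F377957 : act 4 n134341 = n96356 := d1_2 (iv4 F377953) F377956 F148315
theorem F377958 : act 5 n134341 = n131788 := d2_2 (iv5 F377954) F377956 F354695
theorem F377959 : act 6 n134341 = n96355 := d3_2 D189843 F377956 F148309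
theorem F377960 : act 3 n173418 = n134341 := d7_3 F377959 (iv3 F148314) D173418
theorem E103397 : n134346 = n98557 := ((c21_4 (iv5 F367689) (iv1 D100484) F74093 D98557 (iv1 D134346) (iv6 D63113) D63112 D134341 F377958 (iv6 F354694) (iv1 F367687))).symm
theorem F377961 : act 0 n98557 = n63113 := (sb E103397 (iv1 D134346))
theorem F377962 : act 0 n134347 = n100582 := d21_1 D134347 F154649 (iv6 F367781) (iv1 F367783) (iv6 F367690) (iv5 F367689) (iv1 D100484) F74093 D98557 F377961
theorem F377963 : act 1 n131922 = n189843 := d17_6 (iv1 F163840) F362887 (iv1 D131945) (iv5 D61910) (iv4 F96498) D131922 F377954 (iv0 F157839) F327935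
theorem E103398 : n131923 = n98612 := (c21_4 (iv5 F377954) (iv1 F377963) (iv5 D131922) D131923 (iv1 D98612) (iv6 D46100) D46099 (iv1 F72668) (iv5 F74854) D102636 F157839)
theorem F377964 : act 2 n98612 = n186726 := (sb E103398 F367806)
theorem F377965 : act 3 n98612 = n61903 := (sb E103398 F211387)
theorem F377966 : act 4 n98612 = n61911 := (sb E103398 F211388)
theorem F377967 : act 6 n98612 = n61901 := (sb E103398 (iv6 D131923))
theorem F377968 : act 7 n98612 = n186725 := (sb E103398 F367796)
theorem F377969 : act 2 n186725 = n98611 := d15_3 (iv0 D98611) D98612 F377968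
theorem F377970 : act 7 n186726 = n98611 := d4_2 (iv7 F377968) F377964 (iv2 F377969)
def n189844 : Q := act 1 n95327
theorem D189844 : act 1 n95327 = n189844 := rfl
theorem F377971 : act 3 n150009 = n189844 := d20_3 F259569 (iv1 F120364) D150009 (iv1 D189844) F146968 (iv4 F296545) (iv1 F317856) (iv4 D95517) D95516 F342956
def n189845 : Q := act 5 n95327
theorem D189845 : act 5 n95327 = n189845 := rfl
theorem F377972 : act 3 n189845 = n95330 := d6_1 D189845 (iv5 D95330) (iv3 F146968)
theorem F377973 : act 6 n189845 = n95559 := d12_2 D95327 D189845 (iv5 D95559) (iv6 D44635) (iv5 F70049)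
theorem F377974 : act 1 n189845 = n137495 := d17_6 F354721 (iv5 F157838) F157839 (iv5 F377954) F377953 D189845 F365325 D186970 (iv4 F368714)
def n189846 : Q := act 7 n95327
theorem D189846 : act 7 n95327 = n189846 := rfl
theorem F377975 : act 3 n189846 = n95331 := d8_1 D189846 (iv7 D95331) (iv3 F146968)
theorem F377976 : act 4 n189846 = n134342 := d11_1 D189846 (iv7 F377955) F377953
theorem F377977 : act 6 n189846 = n186760 := d14_1 D189846 (iv7 D186760) (iv6 D89103) (iv7 F70050) D95327
def n189847 : Q := act 5 n95329
theorem D189847 : act 5 n95329 = n189847 := rfl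
theorem F377978 : act 3 n189847 = n176762 := d6_1 D189847 (iv5 F368652) F368650
theorem F377979 : act 6 n189234 = n189847 := d21_5 (iv5 D44840) (iv1 F294542) D92033 D188472 (iv1 F376172) (iv5 D189847) (iv1 D95329) D95330 F146969 (iv1 F70429)
def n189848 : Q := act 0 n95330
theorem D189848 : act 0 n95330 = n189848 := rfl
theorem F377980 : act 5 n189848 = n120582 := d17_3 (iv1 D95329) D95330 D189848 (iv4 F200382) F305229 (iv0 D86606) F297811 D44768 (iv4 F310158)
theorem F377981 : act 4 n189848 = n95952 := d18_1 D189848 F356686 (iv4 F356674) F147147 (iv4 F71300) F71304 (iv4 F352646) (iv0 D95328) D95330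
def n189849 : Q := act 1 n95330
theorem D189849 : act 1 n95330 = n189849 := rfl
theorem F377982 : act 5 n189849 = n120581 := d17_7 D55529 F190702 F305634 D86407 F296545 D95330 D189849 (iv0 D120581) (iv4 D55531)
theorem F377983 : act 4 n95953 = n189849 := d9_15 F377982 F259443 F302873 F232509 D88084 D184721 (iv5 F356682) (iv4 F377981) F377980 (iv4 F200382) F305229 F232506 D88079 (iv4 F356671) F350239
def n189850 : Q := act 4 n95330
theorem D189850 : act 4 n95330 = n189850 := rfl
theorem F377984 : act 6 n189850 = n95560 := d10_2 (iv6 F146969) D189850 (iv4 D95560)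
theorem F377985 : act 5 n189850 = n187893 := d16_3 F296545 D95330 D189850 (iv4 F371767) F151242 (iv4 F304047) D72927 F306151 (iv2 F296544)
theorem F377986 : act 1 n189850 = n143662 := d18_6 (iv1 F70144) F315580 F307407 F296545 D95330 D189850 F356912 F147142 F70360
theorem F377987 : act 3 n189850 = n187895 := d20_3 F377983 (iv1 D189849) D189850 F371777 F214517 F97667 D113083 F364996 (iv3 F364982) F356670
def n189851 : Q := act 7 n95330
theorem D189851 : act 7 n95330 = n189851 := rfl
theorem F377988 : act 5 n189851 = n95331 := d13_1 D189851 (iv7 D95331) D95330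
def n189852 : Q := act 2 n95333
theorem D189852 : act 2 n95333 = n189852 := rfl
theorem F377989 : act 3 n189852 = n95459 := d0_2 D95333 D189852 (iv2 F348022) (iv3 D96368) (iv2 F320992)
theorem F377990 : act 4 n189852 = n145778 := d1_2 (iv4 F318882) D189852 (iv2 D145778)
theorem F377991 : act 5 n189852 = n109872 := d2_2 (iv5 F318883) D189852 (iv2 F230603)
theorem F377992 : act 1 n189852 = n127708 := d15_0 (iv0 F320033) (iv7 F318884) D189852
theorem F377993 : act 1 n109893 = n189852 := d15_0 F377992 F354566 (iv2 F354554)
def n189853 : Q := act 6 n95333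
theorem D189853 : act 6 n95333 = n189853 := rfl
theorem F377994 : act 3 n189853 = n95336 := d7_1 D189853 (iv6 D95336) D95333
theorem F377995 : act 4 n189853 = n145779 := d10_1 D189853 (iv6 D145779) (iv4 F318882)
def n189854 : Q := act 7 n95336
theorem D189854 : act 7 n95336 = n189854 := rfl
theorem F377996 : act 2 n189854 = n127650 := d4_1 D189854 (iv7 F320032) (iv2 F318894)
theorem F377997 : act 4 n189854 = n146190 := d11_1 D189854 (iv7 D146190) (iv4 F318895)
theorem F377998 : act 5 n189854 = n95607 := d13_1 D189854 F361125 (iv5 F149725)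
theorem F377999 : act 6 n189854 = n156826 := d14_1 D189854 F366428 (iv6 D96376) (iv7 F320993) D95336
theorem F378000 : act 1 n127534 = n189854 := d15_1 F320030 (iv7 D189854) F318894
theorem F378001 : act 1 n189854 = n127530 := d15_1 F378000 F233725 (iv2 F233731)
def n189855 : Q := act 1 n95338
theorem D189855 : act 1 n95338 = n189855 := rfl
theorem F378002 : act 1 n189855 = n95459 := d15_1 D189855 (iv7 F368509) F368505
theorem F378003 : act 7 n189855 = n95453 := d15_2 (iv0 F348020) D189855 F147096
theorem F378004 : act 4 n188334 = n189855 := d20_0 (iv1 D189855) F318896 (iv3 D68826) (iv1 F105009) F314297 F311879 F202963 F353597 F368336 (iv1 F373090)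
theorem F378005 : act 6 n109885 = n189855 := d21_3 (iv5 D51569) D51566 F171323 (iv1 D189855) (iv6 F348021) F137239 (iv1 D47388) (iv5 F64403) F329864 F94317
theorem F378006 : act 2 n189855 = n95462 := d3_1 F378005 (iv6 F320054) F169895
theorem F378007 : act 5 n189855 = n174271 := d12_1 F378005 (iv6 D174271) (iv5 F325193) (iv6 D111832) F171323
theorem E103399 : n188332 = n186656 := ((c18_7 (iv1 F373090) F378004 (iv1 D189855) F318896 (iv5 F346311) (iv4 F294986) D186656 (iv4 D188332) F140267 F368338)).symm
theorem F378008 : act 4 n186656 = n91220 := (sb E103399 (iv4 D188332))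
def n189856 : Q := act 5 n95338
theorem D189856 : act 5 n95338 = n189856 := rfl
theorem F378009 : act 3 n189856 = n95340 := d6_1 D189856 (iv5 D95340) D95338
def n189857 : Q := act 0 n95341
theorem D189857 : act 0 n95341 = n189857 := rfl
theorem F378010 : act 4 n189857 = n127415 := d20_0 (iv1 F204798) (iv4 F205194) F353138 F337136 (iv3 D89574) (iv4 D41833) (iv1 F64461) D89528 (iv3 F348023) D189857
theorem F378011 : act 2 n127680 = n189857 := d15_3 (iv0 D189857) (iv0 F346814) F364214
theorem F378012 : act 1 n156826 = n189857 := d15_0 (iv0 D189857) (iv7 F368497) (iv2 F368501)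
theorem F378013 : act 7 n189857 = n127685 := d15_2 F366429 F378012 (iv2 F350622)
def n189858 : Q := act 3 n95343
theorem D189858 : act 3 n95343 = n189858 := rfl
theorem F378014 : act 5 n189858 = n147114 := d6_2 F320996 D189858 (iv3 D147114)
theorem F378015 : act 0 n189858 = n95461 := d21_7 F70121 (iv1 F34059) D45363 D97043 F366341 F366381 (iv5 F378014) (iv5 D95461) (iv6 D44596) D44594
def n189859 : Q := act 6 n95343
theorem D189859 : act 6 n95343 = n189859 := rfl
theorem F378016 : act 2 n189859 = n174679 := d3_1 D189859 (iv6 F362492) (iv2 F318906)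
theorem F378017 : act 4 n189859 = n147156 := d10_1 D189859 (iv6 D147156) (iv4 F318907)
theorem F378018 : act 7 n174678 = n189859 := d11_0 F378017 F344686 (iv4 F364236)
theorem F378019 : act 0 n173322 = n189859 := d18_2 F330129 F302236 F378017 F344685 (iv4 F268175) (iv0 F268178) F318946 F340264 D130312
theorem F378020 : act 1 n174680 = n189859 := d18_6 F190176 F52840 D33521 D72631 D153598 F323497 F378017 F344684 F344631
theorem F378021 : act 6 n158100 = n174678 := d14_5 F378018 (iv6 D189859) F318908 (iv6 F348603) (iv7 F363847)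
def n189860 : Q := act 6 n95345
theorem D189860 : act 6 n95345 = n189860 := rfl
theorem F378022 : act 2 n189860 = n127546 := d3_1 D189860 (iv6 D127546) F320064
theorem F378023 : act 4 n189860 = n147358 := d10_1 D189860 (iv6 D147358) (iv4 F318910)
theorem F378024 : act 5 n189860 = n104597 := d12_1 D189860 F160252 F148063 F70642 (iv5 F146973)
theorem F378025 : act 7 n189860 = n95370 := d14_2 D95345 D189860 (iv6 D95370) (iv7 D44543) (iv6 F70052)
theorem F378026 : act 0 n189860 = n174261 := d21_10 (iv5 D174261) (iv1 F343696) F343699 F115936 D77208 (iv6 F336507) (iv5 D96370) (iv1 F70768) (iv5 F146973) D189860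
theorem F378027 : act 1 n189860 = n174266 := d15_1 (iv0 F378026) (iv7 D174266) (iv2 F273057)
def n189861 : Q := act 5 n95346
theorem D189861 : act 5 n95346 = n189861 := rfl
theorem F378028 : act 2 n189861 = n112026 := d2_1 D189861 (iv5 F354565) F156208
theorem F378029 : act 6 n189861 = n109745 := d12_2 (iv6 F289685) D189861 (iv5 F169730) (iv6 F171260) (iv5 F340581)
theorem F378030 : act 0 n95360 = n189861 := d19_0 (iv5 D189861) (iv4 F157390) F157389 (iv1 D46601) D46603 (iv4 F327397) D166222 F365702 (iv5 D172789) F127500 F58863 D38033 D82752 D172846 F339571 (iv1 F286027) F348704 (iv4 D95361) D95360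
def n189862 : Q := act 5 n95348
theorem D189862 : act 5 n95348 = n189862 := rfl
theorem F378031 : act 2 n189862 = n95349 := d2_1 D189862 (iv5 D95349) D95348
theorem F378032 : act 3 n189862 = n95463 := d6_1 D189862 (iv5 D95463) (iv3 F146974)
def n189863 : Q := act 6 n95348
theorem D189863 : act 6 n95348 = n189863 := rfl
theorem F378033 : act 2 n189863 = n95350 := d3_1 D189863 (iv6 D95350) D95348
theorem F378034 : act 3 n189863 = n95464 := d7_1 D189863 (iv6 D95464) (iv3 F146974)
theorem F378035 : act 4 n189863 = n102534 := d10_1 D189863 F157494 (iv4 F153660)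
def n189864 : Q := act 0 n95349
theorem D189864 : act 0 n95349 = n189864 := rfl
theorem F378036 : act 3 n189864 = n172390 := d20_5 D104637 F160343 (iv4 D95352) (iv3 F146975) D189864 F348561 F348554 F335292 (iv3 F335302) (iv1 F76064)
def n189865 : Q := act 1 n95349
theorem D189865 : act 1 n95349 = n189865 := rfl
def n189866 : Q := act 4 n95349
theorem D189866 : act 4 n95349 = n189866 := rfl
theorem F378037 : act 3 n189866 = n178230 := d5_1 D189866 (iv4 D178230) (iv3 F344671) (iv4 D95352) (iv3 F146975)
theorem F378038 : act 1 n189866 = n104812 := d18_6 (iv1 D48008) F36255 D46682 F73785 D95349 D189866 (iv4 D104812) F331200 F331194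
def n189867 : Q := act 6 n95349
theorem D189867 : act 6 n95349 = n189867 := rfl
theorem F378039 : act 3 n189867 = n95353 := d7_1 D189867 (iv6 D95353) (iv3 F146975)
def n189868 : Q := act 0 n95350
theorem D189868 : act 0 n95350 = n189868 := rfl
def n189869 : Q := act 1 n95350
theorem D189869 : act 1 n95350 = n189869 := rfl
def n189870 : Q := act 1 n95353
theorem D189870 : act 1 n95353 = n189870 := rfl
theorem F378040 : act 1 n189870 = n162664 := d15_1 D189870 (iv7 F358795) F148348
theorem F378041 : act 7 n189870 = n162666 := d15_2 (iv0 F344666) D189870 (iv2 D162666)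
theorem F378042 : act 4 n189870 = n128003 := d18_7 (iv1 F188366) F188367 (iv1 F190160) (iv4 F107187) D150242 F344667 D189870 F333984 (iv5 F333990)
theorem F378043 : act 0 n95690 = n174681 := d17_2 (iv1 D189870) (iv5 F147380) (iv5 D174681) (iv4 F302658) F321786 (iv0 D60137) D60139 D128003 (iv4 F378042)
theorem F378044 : act 6 n174233 = n189870 := d21_3 F273061 (iv1 F343705) (iv5 F362530) (iv1 D189870) (iv6 D95353) (iv5 D44535) (iv1 F33792) (iv5 F70790) D96403 F357673
theorem F378045 : act 6 n162756 = n174266 := d21_5 (iv5 F147380) F378043 (iv5 D174681) (iv6 F304731) D162756 F273061 (iv1 F343705) (iv5 F362530) F378044 (iv1 D189870)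
theorem F378046 : act 3 n174277 = n162756 := d7_3 F378045 F273060 D174277
theorem F378047 : act 2 n189870 = n162668 := d3_1 F378044 F303297 D174233
def n189871 : Q := act 7 n95353
theorem D189871 : act 7 n95353 = n189871 := rfl
theorem F378048 : act 2 n189871 = n162664 := d4_1 D189871 (iv7 F358795) F148348
theorem F378049 : act 4 n189871 = n125348 := d11_1 D189871 F353897 F344667
theorem F378050 : act 1 n162668 = n189871 := d15_1 F358724 (iv7 D189871) (iv2 F148348)
theorem F378051 : act 1 n189871 = n162666 := d15_1 F378050 (iv7 F378041) F378047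
def n189872 : Q := act 1 n95355
theorem D189872 : act 1 n95355 = n189872 := rfl
theorem F378052 : act 1 n189872 = n95463 := d15_1 D189872 (iv7 F160465) F160464
theorem F378053 : act 5 n189872 = n97471 := d17_7 F362410 F372769 (iv1 D188233) (iv5 D91105) (iv4 F292383) D95355 D189872 F150251 F147352
theorem F378054 : act 2 n97477 = n189872 := d2_3 F378053 F150250 D97477
def n189873 : Q := act 6 n95355
theorem D189873 : act 6 n95355 = n189873 := rfl
theorem F378055 : act 3 n189873 = n95358 := d7_1 D189873 (iv6 D95358) (iv3 F146988)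
theorem F378056 : act 5 n189873 = n188218 := d12_1 D189873 (iv6 D188218) (iv5 D91097) F292817 D95355
def n189874 : Q := act 3 n95357
theorem D189874 : act 3 n95357 = n189874 := rfl
theorem F378057 : act 2 n189874 = n178234 := d0_1 D189874 (iv3 D178234) (iv2 F353912) (iv3 F341259) F148363

end Cfsg.Agent.Helper17.ONTC
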