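import Cfsg.Agent.Helper17.ONTC.Facts45

set_option autoImplicit false
set_option linter.all false

noncomputable section

namespace Cfsg.Agent.Helper17.ONTC

theorem F378058 : act 6 n189874 = n174037 := d7_2 F348706 D189874 (iv3 F348709)
def n189875 : Q := act 0 n95358
theorem D189875 : act 0 n95358 = n189875 := rfl
theorem F378059 : act 4 n189875 = n131534 := d18_3 D147176 (iv4 F348707) D189875 (iv5 D131534) (iv4 F98492) (iv0 F216502) F216503 F213702 (iv5 F333676)
theorem F378060 : act 7 n127490 = n189875 := d11_0 F378059 F325581 (iv4 F204925)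
def n189876 : Q := act 1 n95358
theorem D189876 : act 1 n95358 = n189876 := rfl
theorem F378061 : act 4 n189876 = n131530 := d18_7 (iv1 F274205) F299931 D84169 D176535 F348708 (iv4 F348707) D189876 (iv0 F340278) (iv5 D175175)
theorem F378062 : act 6 n109881 = n189876 := d21_3 (iv5 D75069) F94324 (iv5 F169883) (iv1 D189876) (iv6 D95358) (iv5 D44538) (iv1 D21180) D21181 (iv6 F70052) (iv1 F318905)
theorem F378063 : act 2 n189876 = n127490 := d3_1 F378062 (iv6 D127490) (iv2 F169885)
theorem F378064 : act 3 n189876 = n109882 := d7_1 F378062 (iv6 D109882) D109881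
def n189877 : Q := act 7 n95358
theorem D189877 : act 7 n95358 = n189877 := rfl
theorem F378065 : act 6 n189877 = n162664 := d14_1 D189877 (iv7 F358795) (iv6 D96384) F70776 D95358
theorem F378066 : act 1 n127490 = n189877 := d15_1 (iv0 F363611) (iv7 D189877) (iv2 F148366)
def n189878 : Q := act 2 n95360
theorem D189878 : act 2 n95360 = n189878 := rfl
theorem F378067 : act 3 n189878 = n95465 := d0_2 D95360 D189878 (iv2 F148369) (iv3 D96392) F71541
theorem F378068 : act 6 n189878 = n111991 := d3_2 (iv6 F344650) D189878 (iv2 F344712)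
def n189879 : Q := act 4 n95360
theorem D189879 : act 4 n95360 = n189879 := rfl
theorem F378069 : act 1 n189879 = n103660 := d18_6 (iv1 D187368) F138102 F352787 (iv4 F326524) F361846 D189879 (iv4 D103660) D103659 F370015
def n189880 : Q := act 1 n95362
theorem D189880 : act 1 n95362 = n189880 := rfl
theorem F378070 : act 4 n189880 = n180467 := d17_9 (iv1 F352001) F352003 (iv1 D178940) F322506 (iv4 F325238) (iv5 F362587) (iv0 F362588) F361845 D189880
theorem F378071 : act 2 n112004 = n189880 := d1_3 F378070 (iv2 D180467) (iv4 F324595)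
def n189881 : Q := act 4 n95363
theorem D189881 : act 4 n95363 = n189881 := rfl
theorem F378072 : act 3 n189881 = n178318 := d5_1 D189881 (iv4 F358931) (iv3 F358930) (iv4 D95364) D95363
theorem F378073 : act 6 n189881 = n180383 := d10_2 F344664 D189881 (iv4 F280708)
theorem F378074 : act 7 n189881 = n178115 := d11_2 F148368 D189881 (iv4 F359243)
theorem F378075 : act 0 n189881 = n177786 := d18_2 (iv1 F160471) D189881 F359241 (iv5 D100725) F74192 F292384 (iv4 F292383) F76175 D104757
theorem F378076 : act 2 n189881 = n178114 := d15_3 (iv0 D178114) D178115 (iv7 F378074)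
theorem F378077 : act 4 n178114 = n104758 := d16_0 (iv5 F160477) F147352 D186894 (iv4 F368443) (iv5 F293436) (iv4 F375165) (iv5 F375166) (iv7 F378074) F378076
theorem F378078 : act 6 n178114 = n157888 := d3_2 (iv6 F378073) F378076 (iv2 F280825)
def n189882 : Q := act 0 n95370
theorem D189882 : act 0 n95370 = n189882 := rfl
theorem F378079 : act 5 n189882 = n109694 := d21_0 F337340 F337353 (iv6 F303297) (iv1 F358724) (iv6 D96384) (iv5 D45003) (iv1 F33790) (iv5 F70056) D95370 D189882
theorem F378080 : act 2 n174266 = n189882 := d15_3 (iv0 D189882) F358101 D174266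
theorem F378081 : act 1 n127546 = n189882 := d15_0 (iv0 D189882) (iv7 F378025) F378022
theorem F378082 : act 7 n189882 = n174261 := d15_2 (iv0 F337360) F378081 F273057
theorem F378083 : act 3 n189882 = n109698 := d0_2 (iv3 F273060) F378080 F169684 (iv3 F169711) F326421
def n189883 : Q := act 4 n95371
theorem D189883 : act 4 n95371 = n189883 := rfl
theorem F378084 : act 2 n189883 = n104606 := d1_1 D189883 (iv4 D104606) (iv2 F147001)
theorem F378085 : act 3 n189883 = n152923 := d5_1 D189883 (iv4 F368261) F368259 F293497 (iv3 F147002)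
theorem F378086 : act 6 n189883 = n152191 := d10_2 F352050 D189883 F352038
theorem F378087 : act 7 n189883 = n158443 := d11_2 (iv7 F335304) D189883 F335292
theorem F378088 : act 5 n189883 = n152188 := d16_1 D189883 F239274 (iv5 F335307) (iv4 D104775) (iv5 D48443) F36731 D48443 F76186 (iv2 F147001)
theorem F378089 : act 1 n189883 = n180182 := d18_6 (iv1 F289624) F158892 (iv1 F289626) F70058 D95371 D189883 (iv4 F280583) (iv0 D180259) (iv5 F348569)
def n189884 : Q := act 0 n95374
theorem D189884 : act 0 n95374 = n189884 := rfl
theorem F378090 : act 5 n189884 = n187349 := d17_1 D189884 (iv1 D187349) D187351 F369924 F333981 (iv0 D162693) (iv5 D78151) (iv0 F333983) (iv4 F352717)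
theorem F378091 : act 4 n189884 = n153594 := d18_3 (iv1 D128003) (iv4 F352717) D189884 F241418 F123782 (iv0 F201233) F314468 D130311 F330128
theorem F378092 : act 6 n189884 = n127621 := d21_5 (iv5 D23003) (iv1 F66715) D44545 D95374 D189884 F358136 (iv1 D89855) F340624 (iv6 F340625) F64762
theorem F378093 : act 2 n104644 = n189884 := d3_3 F378092 F333997 (iv6 F340616)
theorem F378094 : act 0 n189884 = n104646 := d21_10 F340350 (iv1 F359854) F344637 (iv6 D111974) D111970 F353515 D163339 (iv1 F358134) (iv5 F358136) (iv6 F378092)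
theorem F378095 : act 2 n187349 = n187269 := d2_3 (iv5 F369666) F378093 F378090
theorem F378096 : act 7 n104645 = n189884 := d15_2 (iv0 D104644) D104645 (iv2 F378093)
theorem F378097 : act 7 n187349 = n187270 := d13_2 F378096 F378090 (iv5 F369919)
theorem F378098 : act 2 n187270 = n187348 := d15_3 (iv0 D187348) D187349 F378097
theorem F378099 : act 7 n187269 = n187348 := d4_2 (iv7 F378097) F378095 (iv2 F378098)
def n189885 : Q := act 1 n95374
theorem D189885 : act 1 n95374 = n189885 := rfl
theorem F378100 : act 1 n189885 = n104646 := d15_1 D189885 (iv7 D104646) (iv2 F147007)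
theorem F378101 : act 7 n189885 = n104644 := d15_2 (iv0 D189884) D189885 F378093
theorem F378102 : act 4 n189885 = n153595 := d18_7 (iv1 F188333) (iv4 D60148) (iv1 D28584) (iv4 F46157) D60139 (iv4 F352717) D189885 (iv0 F353893) F353896
theorem F378103 : act 5 n187348 = n189885 := d21_0 (iv1 D189885) (iv5 F147505) (iv6 D95823) (iv1 D44747) (iv6 F70336) (iv5 D44744) D44742 D95810 (iv6 F363592) D187348
theorem F378104 : act 6 n187252 = n187348 := d21_5 (iv5 D21314) (iv1 F35802) D41970 D89842 D187252 F378103 (iv1 D189885) (iv5 F147505) (iv6 D95823) (iv1 D44747)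
theorem F378105 : act 2 n189885 = n104645 := d2_1 F378103 F369919 F378098
def n189886 : Q := act 7 n95374
theorem D189886 : act 7 n95374 = n189886 := rfl
theorem F378106 : act 2 n189886 = n104646 := d4_1 D189886 (iv7 D104646) (iv2 F147007)
theorem F378107 : act 3 n189886 = n104833 := d8_1 D189886 F160687 (iv3 F352051)
theorem F378108 : act 4 n189886 = n128005 := d11_1 D189886 (iv7 D128005) (iv4 F352717)
theorem F378109 : act 1 n104645 = n189886 := d15_1 D104645 (iv7 D189886) F147007
theorem F378110 : act 1 n189886 = n104644 := d15_1 F378109 (iv7 F378101) F378105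
def n189887 : Q := act 5 n95378
theorem D189887 : act 5 n95378 = n189887 := rfl
theorem F378111 : act 2 n189887 = n102523 := d2_1 D189887 (iv5 D102523) (iv2 F291547)
theorem F378112 : act 3 n189887 = n95379 := d6_1 D189887 (iv5 D95379) D95378
theorem F378113 : act 7 n189887 = n186489 := d13_2 F292329 D189887 F289355
theorem F378114 : act 0 n189887 = n186456 := d21_1 D189887 (iv5 D186456) D186457 (iv1 F289297) (iv6 D89081) D89080 (iv1 F335417) (iv5 D182318) (iv6 F294435) (iv1 F291546)
theorem F378115 : act 0 n186459 = n189887 := d19_0 (iv5 D189887) F147012 (iv3 D95378) (iv1 F291368) F67005 D89250 F321395 (iv1 F358631) F318786 (iv4 F326028) F166515 F78641 F45323 (iv4 F49196) D65579 F321510 D67735 D144533 F356602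
def n189888 : Q := act 1 n95381
theorem D189888 : act 1 n95381 = n189888 := rfl
theorem F378116 : act 1 n189888 = n102637 := d15_1 D189888 (iv7 F374165) F374162
def n189889 : Q := act 5 n95381
theorem D189889 : act 5 n95381 = n189889 := rfl
theorem F378117 : act 2 n189889 = n187118 := d2_1 D189889 F374166 F374162
theorem F378118 : act 3 n189889 = n95382 := d6_1 D189889 (iv5 D95382) D95381
theorem F378119 : act 7 n189889 = n187191 := d13_2 F148427 D189889 F369426
def n189890 : Q := act 5 n95386
theorem D189890 : act 5 n95386 = n189890 := rfl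
theorem F378120 : act 2 n189890 = n187190 := d2_1 D189890 (iv5 F369424) (iv2 F293408)
theorem F378121 : act 3 n189890 = n102541 := d6_1 D189890 (iv5 D102541) (iv3 F293409)
theorem F378122 : act 7 n189890 = n187067 := d13_2 (iv7 F293412) D189890 F369007
theorem F378123 : act 1 n189890 = n148546 := d17_6 (iv1 F137081) D186936 F368575 F346008 (iv4 F293410) D189890 F345989 F134124 (iv4 F335673)
theorem F378124 : act 0 n189890 = n150139 := d18_0 (iv4 F339709) (iv1 F233317) (iv4 F344224) (iv5 F344225) (iv4 F344228) F372881 F372878 (iv0 F293407) D189890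
def n189891 : Q := act 5 n95397
theorem D189891 : act 5 n95397 = n189891 := rfl
theorem F378125 : act 2 n189891 = n183482 := d2_1 D189891 F367649 F350439
theorem F378126 : act 3 n189891 = n98573 := d6_1 D189891 F367255 F371294
theorem F378127 : act 7 n189891 = n183483 := d13_2 (iv7 F350440) D189891 (iv5 F367052)
theorem F378128 : act 4 n189891 = n189565 := d16_6 F364515 F144778 (iv4 F376511) F376512 F287961 D189891 (iv5 D189565) F376308 F376296
theorem F378129 : act 0 n189891 = n95422 := d17_2 (iv1 F148559) D189891 F147039 F133291 D86895 (iv0 F295180) (iv5 F294075) F138235 (iv4 F148555)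
theorem F378130 : act 1 n189891 = n183480 := d15_1 (iv0 F378129) (iv7 F367645) F367643
theorem F378131 : act 6 n95397 = n189888 := d21_3 D183480 (iv1 F378130) (iv5 D189891) (iv1 D189888) (iv6 F367063) F294366 (iv1 F372559) (iv5 D183118) (iv6 F294753) (iv1 F295113)
theorem F378132 : act 3 n189888 = n102528 := d7_1 F378131 (iv6 F367759) F371294
def n189892 : Q := act 0 n95414
theorem D189892 : act 0 n95414 = n189892 := rfl
theorem F378133 : act 4 n189892 = n96441 := d20_2 F370488 D189892 (iv3 F158202) F361063 (iv3 D182411) (iv4 F151159) F369312 F369309 F251754 F370491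
theorem F378134 : act 2 n182317 = n189892 := d15_3 (iv0 D189892) (iv0 F370104) (iv7 F350432)
theorem F378135 : act 1 n189206 = n189892 := d15_0 (iv0 D189892) (iv7 F356321) (iv2 F376080)
theorem F378136 : act 7 n189892 = n99658 := d15_2 (iv0 F376085) F378135 F350431
def n189893 : Q := act 5 n95420
theorem D189893 : act 5 n95420 = n189893 := rfl
theorem F378137 : act 3 n189893 = n121796 := d6_1 D189893 F341928 (iv3 F351673)
theorem F378138 : act 6 n189893 = n166653 := d12_2 F351672 D189893 F365220 (iv6 D130341) (iv5 F327912)
theorem F378139 : act 7 n189893 = n165723 := d13_2 F328566 D189893 (iv5 F328565)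
theorem F378140 : act 4 n189893 = n157865 := d18_5 D126945 F336495 F328976 D95420 D189893 (iv0 F327604) F327607 (iv0 F353954) (iv5 D126947)
theorem F378141 : act 0 n163724 = n189893 := d19_0 (iv5 D189893) (iv4 D95420) F70081 D44566 F70082 (iv4 D40306) F30578 F17548 (iv5 D4325) (iv4 F5677) (iv3 D3656) (iv1 D1604) D1605 D3659 D8126 D17355 D35828 D78662 D163724
theorem F378142 : act 1 n177633 = n189893 := d15_0 (iv0 F378141) F258082 (iv2 F362465)
theorem F378143 : act 1 n108975 = n177633 := d15_0 F378142 F378139 F360221
def n189894 : Q := act 6 n95422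
theorem D189894 : act 6 n95422 = n189894 := rfl
theorem F378144 : act 2 n189894 = n188226 := d3_1 D189894 (iv6 F372735) F367643
theorem F378145 : act 3 n189894 = n95423 := d7_1 D189894 (iv6 D95423) D95422
theorem F378146 : act 5 n189894 = n188214 := d12_1 D189894 F372699 F293880 F134884 (iv5 F147039)
def n189895 : Q := act 0 n95423
theorem D189895 : act 0 n95423 = n189895 := rfl
def n189896 : Q := act 1 n95423
theorem D189896 : act 1 n95423 = n189896 := rfl
theorem F378147 : act 1 n189896 = n183477 := d15_1 D189896 (iv7 D183477) F295059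
def n189897 : Q := act 7 n95423
theorem D189897 : act 7 n95423 = n189897 := rfl
theorem F378148 : act 2 n189897 = n183477 := d4_1 D189897 (iv7 D183477) F295059
theorem F378149 : act 6 n189897 = n183493 := d14_1 D189897 (iv7 D183493) (iv6 D87583) F294466 D95423
theorem F378150 : act 1 n183477 = n189895 := d15_0 (iv0 D189895) D189897 F378148
theorem F378151 : act 1 n183476 = n189897 := d15_1 D183476 (iv7 D189897) (iv2 F295059)
theorem F378152 : act 1 n189897 = n183475 := d15_0 (iv0 D183475) D183477 (iv2 F378148)
def n189898 : Q := act 0 n95425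
theorem D189898 : act 0 n95425 = n189898 := rfl
theorem F378153 : act 5 n189898 = n183884 := d21_8 (iv5 F133522) (iv1 F135245) F135243 (iv6 F329948) D87721 (iv6 F353696) F353695 D189898 (iv6 D183884) (iv1 D87714)
theorem F378154 : act 2 n183491 = n189898 := d15_3 (iv0 D189898) (iv0 F345938) F364040
theorem F378155 : act 4 n189898 = n189778 := d1_2 F358614 F378154 (iv2 F377723)
theorem F378156 : act 7 n189898 = n183492 := d4_2 F364040 F378154 F365546
theorem F378157 : act 6 n188798 = n189898 := d14_5 F378156 (iv6 F365545) F240984 D154020 (iv7 F374941)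
theorem F378158 : act 1 n183493 = n189898 := d15_1 F345940 F378156 F365546
def n189899 : Q := act 7 n95425
theorem D189899 : act 7 n95425 = n189899 := rfl
theorem F378159 : act 2 n189899 = n183493 := d4_1 D189899 (iv7 D183493) F295062
theorem F378160 : act 6 n189899 = n183477 := d14_1 D189899 (iv7 D183477) (iv6 D87576) F294461 D95425
theorem F378161 : act 1 n183492 = n189899 := d15_1 D183492 (iv7 D189899) (iv2 F295062)
theorem F378162 : act 1 n189899 = n183491 := d15_1 F378161 (iv7 F364040) (iv2 F365546)
def n189900 : Q := act 0 n95426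
theorem D189900 : act 0 n95426 = n189900 := rfl
theorem F378163 : act 5 n189900 = n165783 := d17_1 D189900 (iv1 F358991) (iv5 D133001) F97293 D62411 (iv0 F338348) F358986 (iv0 F341924) (iv4 F341943)
theorem F378164 : act 4 n189900 = n165952 := d18_3 (iv1 F341925) (iv4 F341943) D189900 (iv5 D165952) (iv4 F358973) F358971 (iv4 D165800) (iv0 D79631) F322746
def n189901 : Q := act 1 n95426
theorem D189901 : act 1 n95426 = n189901 := rfl
theorem F378165 : act 5 n189901 = n165784 := d17_7 F338348 (iv5 D62411) F338366 F322724 (iv4 F122203) (iv5 F147041) D189901 (iv0 F358990) F358994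
def n189902 : Q := act 2 n95426
theorem D189902 : act 2 n95426 = n189902 := rfl
theorem F378166 : act 4 n189902 = n132282 := d1_2 (iv4 F341943) D189902 F212066
theorem F378167 : act 5 n189902 = n165686 := d2_2 (iv5 F147041) D189902 (iv2 D165686)
theorem F378168 : act 6 n189902 = n132281 := d3_2 (iv6 F359784) D189902 F212063
def n189903 : Q := act 1 n95427
theorem D189903 : act 1 n95427 = n189903 := rfl
theorem F378169 : act 7 n189903 = n134120 := d15_2 F347356 D189903 (iv2 F359792)
theorem F378170 : act 4 n134027 = n189903 := d20_0 (iv1 D189903) F147042 F329357 (iv1 F328667) F95349 (iv4 D29547) (iv1 F23651) D29782 D62958 D134027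
theorem F378171 : act 5 n125798 = n189903 := d21_6 (iv5 D159216) (iv1 F301856) (iv5 F330149) (iv6 D58916) D58912 D125798 (iv1 D189903) (iv5 F359799) (iv6 D163026) (iv1 F299712)
theorem F378172 : act 0 n126303 = n125798 := d17_0 F378171 (iv1 D189903) (iv5 F359799) F359800 (iv5 F323679) (iv0 F130931) (iv5 F303678) (iv0 F275744) F349817
theorem F378173 : act 2 n189903 = n134125 := d1_1 F378170 (iv4 D134125) (iv2 F347330)
def n189904 : Q := act 3 n95429
theorem D189904 : act 3 n95429 = n189904 := rfl
theorem F378174 : act 5 n189904 = n134313 := d6_2 F345949 D189904 F359708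
theorem F378175 : act 4 n189904 = n135509 := d20_6 F98310 F208828 F360631 F360629 (iv1 F148595) D189904 F359571 D135752 F218288 F207834
theorem F378176 : act 0 n110799 = n189904 := d20_4 F47965 (iv1 F46938) D51082 D110799 (iv3 D189904) (iv4 F347326) (iv1 D134079) F98275 (iv3 D29805) D29803
theorem F378177 : act 6 n141220 = n189904 := d10_0 F378175 F335892 (iv4 F324057)
def n189905 : Q := act 6 n95429
theorem D189905 : act 6 n95429 = n189905 := rfl
theorem F378178 : act 3 n189905 = n141220 := d7_1 D189905 F378177 (iv3 D189904)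
theorem F378179 : act 7 n189905 = n183433 := d14_2 (iv7 F345947) D189905 (iv6 D183433) (iv7 F308301) (iv6 F339696)
def n189906 : Q := act 5 n95431
theorem D189906 : act 5 n95431 = n189906 := rfl
theorem F378180 : act 2 n189906 = n183921 := d2_1 D189906 (iv5 D183921) (iv2 F147043)
theorem F378181 : act 7 n189906 = n184065 := d13_2 (iv7 F177381) D189906 (iv5 D184065)
theorem F378182 : act 0 n189906 = n100448 := d18_0 (iv4 F372753) (iv1 F372754) (iv4 D188138) (iv5 D90875) F293986 F147092 F147090 (iv0 F177379) D189906
theorem F378183 : act 0 n104192 = n189906 := d19_0 (iv5 D189906) (iv4 F159045) F159044 (iv1 F177392) F321143 (iv4 D33200) (iv3 F52143) (iv1 F54465) (iv5 D34317) (iv4 F47459) (iv3 F54454) F54458 (iv5 F52573) D72211 F325992 D103817 F294758 F135021 D104192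
def n189907 : Q := act 5 n95432
theorem D189907 : act 5 n95432 = n189907 := rfl
theorem F378184 : act 2 n189907 = n183920 := d2_1 D189907 (iv5 D183920) (iv2 F147044)
theorem F378185 : act 3 n189907 = n99919 := d6_1 D189907 (iv5 D99919) (iv3 F147045)
theorem F378186 : act 7 n189907 = n184316 := d13_2 (iv7 F157761) D189907 (iv5 D184316)
theorem F378187 : act 0 n189907 = n104147 := d17_2 F159079 D189907 (iv5 F292850) F158577 F357428 F329987 (iv5 D46999) D46998 F143251
theorem F378188 : act 1 n189907 = n150897 := d17_8 F329984 D100885 F356185 (iv5 F158555) (iv4 F349155) (iv5 D104140) (iv0 F159078) D189907 (iv4 F329986)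
def n189908 : Q := act 5 n95433
theorem D189908 : act 5 n95433 = n189908 := rfl
theorem F378189 : act 2 n189908 = n95437 := d2_1 D189908 (iv5 D95437) (iv2 F147046)
theorem F378190 : act 3 n189908 = n99286 := d6_1 D189908 (iv5 D99286) (iv3 F147047)
theorem F378191 : act 7 n189908 = n185309 := d13_2 F147049 D189908 (iv5 D185309)
theorem F378192 : act 4 n189908 = n154660 := d18_5 (iv1 F292391) F292393 (iv1 F76169) (iv4 F147048) D189908 F368569 F368443 F368440 F154840
theorem F378193 : act 1 n185311 = n189908 := d15_1 D185311 F378191 F287574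
theorem F378194 : act 1 n102359 = n185309 := d15_1 (iv0 F370380) (iv7 F378191) F378189
theorem F378195 : act 1 n189908 = n185310 := d15_0 (iv0 D185310) (iv7 F147056) (iv2 F378189)
def n189909 : Q := act 4 n95435
theorem D189909 : act 4 n95435 = n189909 := rfl
theorem F378196 : act 2 n189909 = n100723 := d1_1 D189909 F289691 F160535
theorem F378197 : act 3 n189909 = n103084 := d5_1 D189909 F158371 (iv3 D97956) D97957 F150984
theorem F378198 : act 7 n189909 = n100724 := d11_2 (iv7 F160534) D189909 F289700
theorem F378199 : act 0 n189909 = n100726 := d20_1 D189909 F154827 F289635 (iv1 D41174) (iv3 D19362) (iv4 F17181) F63109 (iv4 F33446) (iv3 F70106) D95435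
theorem F378200 : act 0 n99465 = n189909 := d20_10 (iv4 D189909) (iv1 F147053) F135202 F76172 (iv1 F76033) D96234 F148015 (iv1 F289644) F158269 (iv3 F153223)
theorem F378201 : act 5 n189909 = n172086 := d17_1 F378200 (iv1 D172086) D172088 F356199 (iv5 F356204) (iv0 D102300) (iv5 D47474) F289673 (iv4 F153224)
def n189910 : Q := act 5 n95435
theorem D189910 : act 5 n95435 = n189910 := rfl
theorem F378202 : act 2 n189910 = n185307 := d2_1 D189910 (iv5 D185307) F160535
theorem F378203 : act 7 n189910 = n185306 := d13_2 (iv7 F160534) D189910 (iv5 D185306)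
theorem F378204 : act 0 n189910 = n185372 := d17_2 D95435 D189910 F287608 F285237 (iv5 F378053) F378052 (iv5 D95463) (iv0 D44597) (iv4 F70107)
theorem F378205 : act 1 n189910 = n183897 := d15_1 (iv0 F378204) F285733 D185372
def n189911 : Q := act 5 n95436
theorem D189911 : act 5 n95436 = n189911 := rfl
theorem F378206 : act 2 n189911 = n185306 := d2_1 D189911 (iv5 D185306) (iv2 F160532)
theorem F378207 : act 3 n189911 = n99932 := d6_1 D189911 (iv5 D99932) (iv3 F153865)
theorem F378208 : act 7 n189911 = n185307 := d13_2 F160533 D189911 (iv5 D185307)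
theorem F378209 : act 0 n189911 = n183897 := d17_2 (iv1 F147054) D189911 F285732 F283702 (iv5 F287718) (iv0 F287720) (iv5 D95355) F76175 (iv4 F135202)
theorem F378210 : act 0 n185372 = n189911 := d21_7 F294366 (iv1 F372559) (iv5 D183118) (iv6 F294753) (iv1 F295113) D183481 (iv5 F287608) (iv5 D189911) (iv6 F370480) F370482
theorem E103400 : n185371 = n185306 := ((c15_4 (iv0 D185371) (iv0 F287572) (iv7 F378208) F378206)).symm
theorem F378211 : act 1 n185306 = n88312 := (sb E103400 (iv0 D185371))
theorem F378212 : act 6 n186668 = n183487 := d21_9 (iv5 F135219) (iv1 F378211) (iv5 D185306) F286015 F367035 D188600 (iv5 F374166) F372378 F372377 (iv1 D183487)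
theorem F378213 : act 3 n183487 = n186715 := d7_1 F378212 (iv6 F367774) F367598
theorem F378214 : act 5 n183487 = n102359 := d12_1 F378212 (iv6 D102359) (iv5 F290684) (iv6 F372376) F372377
def n189912 : Q := act 0 n95437
theorem D189912 : act 0 n95437 = n189912 := rfl
theorem F378215 : act 1 n185309 = n189912 := d15_0 (iv0 D189912) F147056 (iv2 F287574)
theorem F378216 : act 5 n189912 = n183486 := d17_7 D97476 F150258 F160470 (iv5 D104757) (iv4 F135202) D185309 F378215 (iv0 D183486) F134465
def n189913 : Q := act 3 n95442
theorem D189913 : act 3 n95442 = n189913 := rfl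
theorem F378217 : act 2 n189913 = n184234 := d0_1 D189913 F346018 (iv2 F346019) F283706 F147067
theorem F378218 : act 5 n189913 = n98593 := d6_2 (iv5 F294189) D189913 F294187
theorem F378219 : act 6 n189913 = n184983 := d7_2 (iv6 F353755) D189913 (iv3 D184983)
theorem F378220 : act 7 n189913 = n139656 := d8_2 (iv7 F147069) D189913 F340569
theorem F378221 : act 4 n189913 = n139657 := d20_6 F347703 D102343 F361676 F147055 D95442 D189913 (iv1 F222823) D156182 F368477 (iv1 D186909)
theorem F378222 : act 0 n189913 = n156126 := d20_10 (iv4 D156126) (iv1 F179618) F369580 (iv3 D183778) (iv1 D87683) F61943 D40858 D87713 (iv4 F147066) D189913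
theorem F378223 : act 0 n99284 = n189913 := d20_4 D89388 (iv1 F152856) (iv4 D99285) (iv3 F152852) (iv3 D189913) F147066 (iv1 F134627) F62386 (iv3 F35347) F64383
def n189914 : Q := act 7 n95451
theorem D189914 : act 7 n95451 = n189914 := rfl
theorem F378224 : act 2 n189914 = n103349 := d4_1 D189914 F158626 F147964
theorem F378225 : act 5 n189914 = n95452 := d13_1 D189914 (iv7 D95452) D95451
theorem F378226 : act 6 n189914 = n101844 := d14_1 D189914 (iv7 F156805) F151903 F74633 (iv6 F352888)
theorem F378227 : act 1 n102285 = n189914 := d15_1 (iv0 F346620) (iv7 D189914) (iv2 F147964)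
theorem F378228 : act 1 n189914 = n102280 := d15_1 F378227 F352903 (iv2 F346621)
def n189915 : Q := act 5 n95453
theorem D189915 : act 5 n95453 = n189915 := rfl
theorem F378229 : act 2 n189915 = n95461 := d2_1 D189915 (iv5 D95461) (iv2 F147096)
theorem F378230 : act 6 n189915 = n95454 := d12_2 D95453 D189915 (iv5 D95454) (iv6 D44593) D44592
theorem F378231 : act 7 n189915 = n174271 := d13_2 F378003 D189915 (iv5 F378007)
theorem F378232 : act 4 n189915 = n140348 := d18_5 F225649 F353331 (iv1 F305561) F242305 D189915 (iv0 D140348) F101531 D137269 F351020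
theorem F378233 : act 1 n189858 = n174271 := d15_1 (iv0 F378015) (iv7 F378231) F378229
def n189916 : Q := act 4 n95454
theorem D189916 : act 4 n95454 = n189916 := rfl
theorem F378234 : act 2 n189916 = n95466 := d1_1 D189916 (iv4 D95466) (iv2 F147097)
theorem F378235 : act 6 n189916 = n140348 := d10_2 F378230 D189916 (iv4 F378232)
def n189917 : Q := act 5 n95456
theorem D189917 : act 5 n95456 = n189917 := rfl
theorem F378236 : act 2 n189917 = n186759 := d2_1 D189917 (iv5 D186759) (iv2 F147102)
theorem F378237 : act 3 n189917 = n151688 := d6_1 D189917 F238564 F363166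
theorem F378238 : act 6 n189917 = n95643 := d12_2 D95456 D189917 (iv5 D95643) (iv6 D44673) (iv5 F70121)
theorem F378239 : act 4 n151690 = n189917 := d10_3 F378238 (iv4 F377249) F377251
def n189918 : Q := act 4 n95459
theorem D189918 : act 4 n95459 = n189918 := rfl
theorem F378240 : act 2 n189918 = n117235 := d1_1 D189918 (iv4 F320024) F348022
theorem F378241 : act 7 n189918 = n102532 := d11_2 F368509 D189918 (iv4 F368506)
theorem F378242 : act 0 n189918 = n146802 := d20_1 D189918 (iv4 F230162) (iv3 D127606) (iv1 F317352) (iv3 D95865) F314854 F315261 F58275 (iv3 F70123) D95459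
theorem F378243 : act 1 n187484 = n189141 := d17_6 (iv1 F378002) F378007 (iv1 F378233) F378014 F230656 F370527 F375859 (iv0 F378242) (iv4 D189918)
theorem F378244 : act 0 n122636 = n189918 := d20_1 (iv4 F196499) (iv4 D189918) (iv3 F377989) (iv1 F377993) (iv3 D109893) (iv4 F82006) (iv1 F82718) (iv4 F100461) (iv3 F169050) F353328
theorem F378245 : act 5 n189918 = n186651 := d21_0 (iv1 F367556) F373126 (iv6 F373128) F369003 (iv6 D100792) F301799 F299048 D56965 D122636 F378244
theorem E103401 : n188327 = n186655 := ((c18_7 F294958 F307587 D95459 D189918 F378245 F367553 F367572 (iv4 D188327) (iv0 D91219) D91221)).symm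
theorem F378246 : act 4 n186655 = n91219 := (sb E103401 (iv4 D188327))
theorem F378247 : act 4 n188150 = n100536 := d18_7 D186655 F378246 (iv1 F140268) F140265 (iv5 F370880) F370879 F372492 (iv0 D100536) (iv5 F136575)
theorem E103402 : n189145 = n188275 := (c17_1 D189145 (iv5 F373135) (iv1 F373136) (iv5 D91231) D91230 F373119 (iv0 F360247) F370527 F378243 F375858)
theorem F378248 : act 1 n188275 = n93298 := (sb E103402 (iv0 D189145))
theorem F378249 : act 6 n187078 = n189918 := d14_5 F378241 (iv6 D102532) F74779 D89526 D187078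
theorem F378250 : act 3 n146783 = n189918 := d0_0 F378240 (iv3 D117235) F85250 D68817 D146783
def n189919 : Q := act 5 n95459
theorem D189919 : act 5 n95459 = n189919 := rfl
theorem F378251 : act 3 n189919 = n109872 := d6_1 D189919 (iv5 F377991) F377989
def n189920 : Q := act 6 n95459
theorem D189920 : act 6 n95459 = n189920 := rfl
theorem F378252 : act 4 n189920 = n187078 := d10_1 D189920 F378249 (iv4 D189918)
theorem F378253 : act 7 n189920 = n187076 := d14_2 F368509 D189920 (iv6 D187076) F137232 D186920
def n189921 : Q := act 0 n95461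
theorem D189921 : act 0 n95461 = n189921 := rfl
def n189922 : Q := act 4 n95461
theorem D189922 : act 4 n95461 = n189922 := rfl
theorem F378254 : act 2 n189922 = n140348 := d1_1 D189922 (iv4 F378232) F378229
theorem F378255 : act 6 n189922 = n95466 := d10_2 (iv6 F147109) D189922 (iv4 D95466)
theorem F378256 : act 0 n189922 = n106857 := d20_1 D189922 (iv4 F173532) (iv3 D111797) (iv1 D51549) D51550 F81342 (iv1 F105204) (iv4 F318907) D189858 F378015
theorem F378257 : act 0 n140350 = n189922 := d20_1 (iv4 F223458) (iv4 D189922) F147108 D95477 F340708 F81390 (iv1 F39360) D50567 D109621 (iv1 F220412)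
theorem F378258 : act 7 n140349 = n189922 := d15_2 (iv0 D140348) D140349 F378254
theorem F378259 : act 6 n174906 = n140349 := d14_5 F378258 F378255 (iv7 F160478) (iv6 F358400) F273806
theorem F378260 : act 5 n140349 = n109052 := d12_1 F378259 F370873 F280790 (iv6 F330714) (iv5 F273803)
theorem F378261 : act 5 n188151 = n189922 := d13_3 (iv7 F378258) F378260 (iv7 F372496)
theorem F378262 : act 5 n140348 = n109051 := d2_2 F378261 F378254 F372497
theorem F378263 : act 5 n95466 = n140363 := d12_3 F372498 F378261 F378255 (iv6 D140363) D140362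
def n189923 : Q := act 7 n95461
theorem D189923 : act 7 n95461 = n189923 := rfl
theorem F378264 : act 2 n189923 = n174271 := d4_1 D189923 (iv7 F378231) F378229
theorem F378265 : act 3 n189923 = n95480 := d8_1 D189923 (iv7 D95480) (iv3 F147108)
theorem F378266 : act 4 n189923 = n140349 := d11_1 D189923 F378258 (iv4 D189922)
theorem F378267 : act 5 n189923 = n95462 := d13_1 D189923 (iv7 D95462) D95461
theorem F378268 : act 6 n189923 = n173265 := d14_1 D189923 F271625 (iv6 F358395) F76177 (iv6 F147109)
theorem F378269 : act 1 n174271 = n189921 := d15_0 (iv0 D189921) D189923 F378264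
def n189924 : Q := act 4 n95463
theorem D189924 : act 4 n95463 = n189924 := rfl
def n189925 : Q := act 6 n95463
theorem D189925 : act 6 n95463 = n189925 := rfl
theorem F378270 : act 0 n104814 = n189925 := d21_4 F128373 F298328 D77183 (iv6 F348743) (iv6 D189925) (iv5 D95463) (iv1 F76174) D104757 (iv6 F358399) (iv1 F271623)
def n189926 : Q := act 4 n95465
theorem D189926 : act 4 n95465 = n189926 := rfl
theorem F378271 : act 2 n189926 = n178115 := d1_1 D189926 (iv4 F359243) F148369
theorem F378272 : act 7 n189926 = n178114 := d11_2 F160476 D189926 F378077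
theorem F378273 : act 1 n189926 = n177786 := d15_0 (iv0 F378075) F378074 (iv2 F378271)
theorem F378274 : act 1 n178116 = n189926 := d15_0 F378273 F277275 D178116
theorem F378275 : act 1 n189881 = n178116 := d15_0 F378274 F378272 (iv2 F378076)
def n189927 : Q := act 6 n95465
theorem D189927 : act 6 n95465 = n189927 := rfl
theorem F378276 : act 3 n189927 = n111991 := d7_1 D189927 (iv6 F378068) F378067
theorem F378277 : act 5 n189927 = n142565 := d12_1 D189927 F354456 (iv5 F373445) F373447 F150258
def n189928 : Q := act 0 n95466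
theorem D189928 : act 0 n95466 = n189928 := rfl
def n189929 : Q := act 1 n95466
theorem D189929 : act 1 n95466 = n189929 := rfl
def n189930 : Q := act 3 n95466
theorem D189930 : act 3 n95466 = n189930 := rfl
theorem F378278 : act 4 n189930 = n95489 := d5_2 D95466 D189930 (iv3 D95489) (iv4 D44607) (iv3 F70124)
theorem E103403 : n189928 = n140701 := (c20_5 F277633 F365880 (iv4 F378278) (iv3 D189930) D189928 F223790 F101700 F172993 (iv4 D111479) D111478 F365965)
theorem F378279 : act 1 n140701 = n95466 := (sb E103403 (iv0 D189928))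
def n189931 : Q := act 6 n95469
theorem D189931 : act 6 n95469 = n189931 := rfl
theorem F378280 : act 2 n189931 = n147429 := d3_1 D189931 (iv6 D147429) (iv2 F337296)
theorem F378281 : act 3 n189931 = n117705 := d7_1 D189931 (iv6 D117705) (iv3 F337297)
theorem F378282 : act 4 n189931 = n95471 := d10_1 D189931 (iv6 D95471) D95469
theorem F378283 : act 5 n189931 = n157426 := d12_1 D189931 (iv6 F247951) (iv5 D154696) F231178 (iv5 F337298)
theorem F378284 : act 7 n189931 = n147209 := d14_2 (iv7 F337299) D189931 (iv6 D147209) (iv7 F243005) F243004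
theorem F378285 : act 0 n189931 = n97288 := d21_4 (iv5 D124799) D124797 (iv5 F337298) D189931 (iv6 D97288) D97287 (iv1 F335122) F335124 (iv6 F250379) (iv1 F250381)
theorem F378286 : act 1 n189931 = n147871 := d15_1 (iv0 F378285) (iv7 F248101) F334468
theorem F378287 : act 0 n95471 = n170429 := d20_1 F378282 F267893 (iv3 F267892) F338079 F199147 D124511 (iv1 F354282) F231653 (iv3 F231650) (iv1 F378286)
def n189932 : Q := act 1 n95471
theorem D189932 : act 1 n95471 = n189932 := rfl
theorem F378288 : act 4 n189932 = n127682 := d17_9 (iv1 F341004) F341006 F341001 (iv5 D84411) F59965 D45340 D96992 (iv5 F149580) D189932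
theorem F378289 : act 6 n127680 = n189932 := d21_3 D87862 D184216 (iv5 F361888) (iv1 D189932) (iv6 D95471) D95470 F337328 (iv5 F346803) (iv6 D177165) (iv1 F346804)
def n189933 : Q := act 7 n95471
theorem D189933 : act 7 n95471 = n189933 := rfl
theorem F378290 : act 3 n189933 = n187088 := d8_1 D189933 F369056 (iv3 F368516)
theorem F378291 : act 4 n189933 = n147209 := d11_1 D189933 (iv7 F378284) F378282
theorem F378292 : act 5 n189933 = n95668 := d13_1 D189933 F364158 (iv5 F149580)
theorem F378293 : act 6 n189933 = n147208 := d14_1 D189933 F360230 (iv6 D96265) F337303 D95471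
def n189934 : Q := act 5 n95477
theorem D189934 : act 5 n95477 = n189934 := rfl
theorem F378294 : act 2 n189934 = n110647 := d2_1 D189934 F171253 (iv2 F340707)
theorem F378295 : act 3 n189934 = n111835 := d6_1 D189934 (iv5 D111835) (iv3 F340708)
theorem F378296 : act 7 n189934 = n97059 := d13_2 F340725 D189934 F149722
theorem F378297 : act 4 n189934 = n147262 := d16_2 (iv4 F340709) D189934 F230861 (iv4 F322388) F358488 F358492 (iv5 D111963) F81514 D109256
theorem F378298 : act 6 n189934 = n147260 := d21_3 D44601 D95477 D189934 (iv1 F230867) F332541 F339720 (iv1 F339833) (iv5 F339838) (iv6 D95476) (iv1 D44600)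
def n189935 : Q := act 0 n95479
theorem D189935 : act 0 n95479 = n189935 := rfl
theorem F378299 : act 4 n189935 = n95869 := d20_2 D95479 D189935 (iv3 F357999) F318868 (iv3 D51550) (iv4 D25043) (iv1 F19588) D24617 D50527 (iv1 F340712)
theorem F378300 : act 2 n187288 = n189935 := d15_3 (iv0 D189935) (iv0 F358003) D187288
theorem F378301 : act 7 n189935 = n103662 := d4_2 D187288 F378300 F159072
theorem F378302 : act 1 n187287 = n189935 := d15_1 D187287 F378301 F159072
def n189936 : Q := act 3 n95479
theorem D189936 : act 3 n95479 = n189936 := rfl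
theorem F378303 : act 6 n189936 = n95489 := d7_2 (iv6 F147113) D189936 (iv3 D95489)
theorem F378304 : act 0 n189936 = n142502 := d19_4 (iv1 D44600) D44601 D95479 D189936 (iv5 D142502) D142501 F319221 (iv1 F319220) D116149 (iv4 F350022) F350021 F94308 F81305 F81302 F51038 (iv1 D28136) D28137 (iv4 F81613) F337309
theorem F378305 : act 0 n142497 = n189936 := d20_4 (iv4 F81558) (iv1 F323923) (iv4 F325205) F344501 (iv3 D189936) (iv4 D95479) D95477 F340709 F169219 (iv1 F81562)
theorem F378306 : act 5 n189936 = n178885 := d17_3 D66807 D142497 F378305 (iv4 D178885) F200239 (iv0 D54159) F320554 (iv0 D31146) (iv4 F49494)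
theorem F378307 : act 0 n178885 = n157228 := d18_0 F247442 F362625 F347168 (iv5 D109309) (iv4 F101589) D140397 (iv4 F362619) (iv0 F378304) F378306
def n189937 : Q := act 5 n95479
theorem D189937 : act 5 n95479 = n189937 := rfl
theorem F378308 : act 3 n189937 = n178885 := d6_1 D189937 (iv5 F378306) (iv3 D189936)
theorem F378309 : act 4 n189937 = n154760 := d16_2 D95479 D189937 (iv5 D154760) (iv4 F316876) F316877 (iv4 F316809) (iv5 F148063) (iv7 D96269) F70639
def n189938 : Q := act 7 n95479
theorem D189938 : act 7 n95479 = n189938 := rfl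
theorem F378310 : act 2 n189938 = n187287 := d4_1 D189938 F369710 F148060
theorem F378311 : act 4 n189938 = n95480 := d11_1 D189938 (iv7 D95480) D95479
theorem F378312 : act 1 n103662 = n189938 := d15_1 (iv0 F340378) (iv7 D189938) (iv2 F148060)
theorem F378313 : act 1 n189938 = n187288 := d15_1 F378312 (iv7 D187288) (iv2 F159072)
def n189939 : Q := act 0 n95489
theorem D189939 : act 0 n95489 = n189939 := rfl
theorem F378314 : act 2 n162635 = n189939 := d15_3 (iv0 D189939) (iv0 F365880) (iv7 F302204)
theorem F378315 : act 3 n189939 = n137285 := d0_2 D162635 F378314 F356052 F289066 (iv2 F299331)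
theorem F378316 : act 6 n137282 = n189939 := d7_0 F378315 (iv6 D137285) D137282
def n189940 : Q := act 2 n95489
theorem D189940 : act 2 n95489 = n189940 := rfl
def n189941 : Q := act 5 n95490
theorem D189941 : act 5 n95490 = n189941 := rfl
theorem F378317 : act 3 n189941 = n183216 := d6_1 D189941 (iv5 D183216) (iv3 F147121)
def n189942 : Q := act 5 n95491
theorem D189942 : act 5 n95491 = n189942 := rfl
theorem F378318 : act 2 n189942 = n149277 := d2_1 D189942 (iv5 D149277) (iv2 F147123)
theorem F378319 : act 6 n189942 = n95494 := d12_2 D95491 D189942 (iv5 D95494) (iv6 D44611) D44610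
theorem F378320 : act 1 n189942 = n127617 := d17_6 F346223 F321823 (iv1 F316655) (iv5 F114989) (iv4 F147124) D189942 (iv5 D127617) D127616 F359292
def n189943 : Q := act 7 n95491
theorem D189943 : act 7 n95491 = n189943 := rfl
theorem F378321 : act 2 n189943 = n149278 := d4_1 D189943 (iv7 D149278) (iv2 F147123)
theorem F378322 : act 4 n189943 = n160074 := d11_1 D189943 (iv7 D160074) (iv4 F147124)
theorem F378323 : act 6 n189943 = n149278 := d14_1 D189943 (iv7 D149278) (iv6 D70068) (iv7 F70957) D95491
theorem F378324 : act 1 n95813 = n189943 := d15_1 (iv0 F362078) (iv7 D189943) F147123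
theorem F378325 : act 1 n189943 = n95761 := d15_1 F378324 (iv7 F362074) F362080
def n189944 : Q := act 4 n95494
theorem D189944 : act 4 n95494 = n189944 := rfl
def n189945 : Q := act 6 n95496
theorem D189945 : act 6 n95496 = n189945 := rfl
theorem F378326 : act 2 n189945 = n100722 := d3_1 D189945 (iv6 D100722) (iv2 F147128)
theorem F378327 : act 3 n189945 = n95497 := d7_1 D189945 (iv6 D95497) D95496
theorem F378328 : act 4 n189945 = n174785 := d10_1 D189945 (iv6 D174785) (iv4 F147125)
theorem F378329 : act 7 n189945 = n127606 := d14_2 (iv7 F147127) D189945 F346320 (iv7 F321617) (iv6 D100750)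
theorem F378330 : act 0 n188335 = n189945 := d21_4 (iv5 F64405) (iv1 F74596) D102018 (iv6 F373096) (iv6 D189945) F147126 F75417 F308367 F64356 D41765
theorem F378331 : act 1 n155957 = n189945 := d18_6 (iv1 F372994) (iv4 D91225) (iv1 F139112) (iv4 F140265) F368338 F368335 F378328 (iv0 F366935) F157483
def n189946 : Q := act 5 n95497
theorem D189946 : act 5 n95497 = n189946 := rfl
theorem F378332 : act 2 n189946 = n109607 := d2_1 D189946 F182588 F319626
theorem F378333 : act 4 n189946 = n188496 := d9_1 D189946 F373708 F364300 (iv5 F162345) (iv4 F169673) F169672 F162365 F205110 F325302 (iv5 F318522) F346332 F205122 (iv4 F182487) (iv5 F205119) F319643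
theorem F378334 : act 6 n189946 = n103020 := d12_2 D95497 D189946 (iv5 D103020) (iv6 D47763) (iv5 F70137)
theorem F378335 : act 7 n189946 = n127608 := d13_2 (iv7 F317382) D189946 (iv5 D127608)
theorem F378336 : act 0 n189946 = n188478 := d17_2 (iv1 F317381) D189946 (iv5 F373626) (iv4 D139816) (iv5 D65633) F49735 F317380 F315170 D48874
theorem F378337 : act 1 n189946 = n141566 := d17_6 (iv1 F225634) (iv5 F180720) D116865 (iv5 F205119) F319643 D189946 (iv5 D141566) (iv0 F103086) (iv4 D67038)
theorem F378338 : act 0 n141598 = n149232 := d21_4 D189946 F378336 (iv5 F373626) (iv6 F358017) (iv6 D149232) D149231 (iv1 F353159) (iv5 F353157) (iv6 D105727) (iv1 F317381)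
def n189947 : Q := act 3 n95498
theorem D189947 : act 3 n95498 = n189947 := rfl
def n189948 : Q := act 4 n95498
theorem D189948 : act 4 n95498 = n189948 := rfl
theorem F378339 : act 2 n189948 = n147253 := d1_1 D189948 F234575 F369164
theorem F378340 : act 6 n189948 = n143387 := d10_2 (iv6 F369163) D189948 (iv4 F369158)
theorem F378341 : act 7 n189948 = n120102 := d11_2 F369166 D189948 F359663
theorem F378342 : act 5 n189948 = n120103 := d18_4 (iv1 F234581) F106444 D95498 D189948 F189724 F178657 (iv4 F334445) (iv0 F333615) F311523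
theorem F378343 : act 1 n189948 = n147231 := d18_8 (iv1 F242773) (iv4 F331599) (iv1 D114770) F318646 (iv5 F183362) F183361 F148702 D189948 (iv5 D147231)
theorem F378344 : act 3 n117375 = n189948 := d20_5 F315213 (iv1 F314014) (iv4 D54102) (iv3 F85362) D117375 (iv4 D189948) (iv1 F148702) (iv4 F183361) F183360 (iv1 F85238)
theorem F378345 : act 0 n189948 = n147256 := d20_4 (iv4 F199531) (iv1 F336887) F359680 F378344 F230850 (iv4 F230929) (iv1 F230930) (iv4 F313179) F313178 (iv1 D160202)
def n189949 : Q := act 5 n95498
theorem D189949 : act 5 n95498 = n189949 := rfl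
def n189950 : Q := act 4 n95499
theorem D189950 : act 4 n95499 = n189950 := rfl
theorem F378346 : act 2 n189950 = n120102 := d1_1 D189950 F359663 (iv2 F369167)
theorem F378347 : act 3 n189950 = n117808 := d5_1 D189950 (iv4 F356808) F361773 (iv4 F369169) F369168
theorem F378348 : act 7 n189950 = n147253 := d11_2 (iv7 F369165) D189950 F234575
theorem F378349 : act 5 n189950 = n114565 := d18_4 F234419 F183361 (iv1 F148701) D189950 F178654 D114567 (iv4 F317837) (iv0 F339770) F280336
theorem F378350 : act 1 n189950 = n147256 := d18_8 (iv1 F230813) (iv4 F363910) (iv1 F363909) F183339 (iv5 F106445) F106444 D95499 D189950 F230851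
theorem F378351 : act 1 n147231 = n189950 := d15_0 F378350 (iv7 D147256) (iv2 F230814)
theorem F378352 : act 6 n117805 = n189950 := d21_3 (iv5 F334996) (iv1 D158458) (iv5 F346218) (iv1 F378351) F230816 (iv5 D69022) F54352 (iv5 F55660) D76658 (iv1 F334999)
def n189951 : Q := act 5 n95499
theorem D189951 : act 5 n95499 = n189951 := rfl
theorem F378353 : act 3 n189951 = n186426 := d6_1 D189951 (iv5 F369170) F369168
def n189952 : Q := act 6 n95499
theorem D189952 : act 6 n95499 = n189952 := rfl
theorem F378354 : act 4 n189952 = n117805 := d10_1 D189952 F378352 (iv4 D189950)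
theorem F378355 : act 7 n189952 = n127616 := d14_2 (iv7 F369165) D189952 (iv6 F353154) (iv7 F353150) (iv6 F337137)
theorem F378356 : act 2 n189952 = n127615 := d15_3 (iv0 D127615) D127616 (iv7 F378355)
theorem F378357 : act 6 n127615 = n96532 := d3_2 D189952 F378356 (iv2 F369167)
theorem F378358 : act 0 n127612 = n189952 := d18_2 F317383 (iv4 F205180) F378354 F346218 F113454 D75597 (iv4 F307280) (iv0 F307873) F210713
theorem F378359 : act 0 n189952 = n127618 := d20_7 (iv4 D26249) (iv1 D12443) (iv4 F20711) (iv3 F41651) D54264 D117805 (iv4 F378354) F205185 F94446 (iv1 F46001)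
def n189953 : Q := act 0 n95500
theorem D189953 : act 0 n95500 = n189953 := rfl
theorem F378360 : act 5 n189953 = n143042 := d17_3 (iv1 D95499) D95500 D189953 F225906 (iv5 F319178) F242773 D147231 F378351 (iv4 D189950)
def n189954 : Q := act 1 n95500
theorem D189954 : act 1 n95500 = n189954 := rfl
theorem F378361 : act 5 n189954 = n149232 := d17_7 (iv1 F320023) F183341 (iv1 D117184) (iv5 F106445) F106444 D95500 D189954 (iv0 F378338) (iv4 D141598)
def n189955 : Q := act 4 n95500
theorem D189955 : act 4 n95500 = n189955 := rfl
theorem F378362 : act 3 n189955 = n113124 := d5_1 D189955 F351258 (iv3 F356941) (iv4 D95527) (iv3 F147131)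
theorem F378363 : act 6 n189955 = n95513 := d10_2 (iv6 F147132) D189955 (iv4 D95513)
def n189956 : Q := act 7 n95500
theorem D189956 : act 7 n95500 = n189956 := rfl
theorem F378364 : act 3 n189956 = n95528 := d8_1 D189956 (iv7 D95528) (iv3 F147131)
theorem F378365 : act 5 n189956 = n95501 := d13_1 D189956 (iv7 D95501) D95500
def n189957 : Q := act 0 n95503
theorem D189957 : act 0 n95503 = n189957 := rfl
theorem F378366 : act 4 n189957 = n181908 := d20_2 F294215 D189957 F294752 F152040 F151855 (iv4 F134128) (iv1 D87364) (iv4 F64276) (iv3 F127121) (iv1 F294212)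
theorem F378367 : act 3 n189957 = n95530 := d20_5 F149542 F205497 (iv4 D95504) D95503 D189957 (iv4 F152031) F270438 F270436 F150141 (iv1 F205508)
theorem F378368 : act 2 n183478 = n189957 := d15_3 (iv0 D189957) (iv0 F157621) (iv7 F285231)
theorem F378369 : act 1 n189079 = n189957 := d15_0 (iv0 D189957) F270455 (iv2 F375658)
theorem F378370 : act 7 n189957 = n95730 := d15_2 (iv0 F375663) F378369 (iv2 F149883)
theorem F378371 : act 6 n183117 = n189957 := d14_5 F378370 (iv6 D95730) (iv7 F71570) D97090 (iv7 F284733)
def n189958 : Q := act 5 n95503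
theorem D189958 : act 5 n95503 = n189958 := rfl
theorem F378372 : act 3 n189958 = n95505 := d6_1 D189958 (iv5 D95505) D95503
def n189959 : Q := act 6 n95503
theorem D189959 : act 6 n95503 = n189959 := rfl
theorem F378373 : act 3 n189959 = n95506 := d7_1 D189959 (iv6 D95506) D95503
theorem F378374 : act 4 n189959 = n189093 := d10_1 D189959 (iv6 D189093) F294215
theorem F378375 : act 5 n189959 = n186986 := d21_6 D99458 F153204 F120176 D97148 F157621 D189959 (iv1 D186986) F359411 (iv6 D103646) F75416
def n189960 : Q := act 5 n95504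
theorem D189960 : act 5 n95504 = n189960 := rfl
theorem F378376 : act 3 n189960 = n183232 := d6_1 D189960 (iv5 D183232) F147135
def n189961 : Q := act 6 n95504
theorem D189961 : act 6 n95504 = n189961 := rfl
theorem F378377 : act 3 n189961 = n155734 := d7_1 D189961 F330006 F147135
theorem F378378 : act 4 n189961 = n95506 := d10_1 D189961 (iv6 D95506) D95504
def n189962 : Q := act 4 n95505
theorem D189962 : act 4 n95505 = n189962 := rfl
def n189963 : Q := act 6 n95505
theorem D189963 : act 6 n95505 = n189963 := rfl
def n189964 : Q := act 5 n95508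
theorem D189964 : act 5 n95508 = n189964 := rfl
def n189965 : Q := act 3 n95511
theorem D189965 : act 3 n95511 = n189965 := rfl
theorem F378379 : act 5 n189965 = n182852 := d6_2 (iv5 F343042) D189965 (iv3 D182852)
def n189966 : Q := act 4 n95511
theorem D189966 : act 4 n95511 = n189966 := rfl
def n189967 : Q := act 6 n95511
theorem D189967 : act 6 n95511 = n189967 := rfl
def n189968 : Q := act 4 n95512
theorem D189968 : act 4 n95512 = n189968 := rfl
def n189969 : Q := act 6 n95512
theorem D189969 : act 6 n95512 = n189969 := rfl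
theorem F378380 : act 3 n189969 = n189715 := d7_1 D189969 F377497 F372690
def n189970 : Q := act 0 n95513
theorem D189970 : act 0 n95513 = n189970 := rfl
def n189971 : Q := act 1 n95513
theorem D189971 : act 1 n95513 = n189971 := rfl
theorem F378381 : act 1 n189971 = n188445 := d15_1 D189971 F373505 F148709
def n189972 : Q := act 3 n95513
theorem D189972 : act 3 n95513 = n189972 := rfl
theorem F378382 : act 4 n189972 = n95543 := d5_2 D95513 D189972 (iv3 D95543) (iv4 D44627) (iv3 F70141)
theorem F378383 : act 6 n189972 = n113124 := d7_2 F378363 D189972 (iv3 F378362)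
def n189973 : Q := act 5 n95513
theorem D189973 : act 5 n95513 = n189973 := rfl
def n189974 : Q := act 7 n95513
theorem D189974 : act 7 n95513 = n189974 := rfl
theorem F378384 : act 2 n189974 = n188445 := d4_1 D189974 F373505 F148709
theorem F378385 : act 4 n189974 = n95514 := d11_1 D189974 (iv7 D95514) D95513
theorem F378386 : act 1 n188445 = n189970 := d15_0 (iv0 D189970) D189974 F378384
def n189975 : Q := act 6 n95514
theorem D189975 : act 6 n95514 = n189975 := rfl
theorem F378387 : act 2 n189975 = n188446 := d3_1 D189975 (iv6 D188446) F293080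
theorem F378388 : act 3 n189975 = n95544 := d7_1 D189975 (iv6 D95544) (iv3 F147137)
theorem F378389 : act 5 n189975 = n188446 := d12_1 D189975 (iv6 D188446) (iv5 D91842) F293334 (iv5 F147138)
theorem F378390 : act 0 n164097 = n189975 := d21_4 (iv5 F254079) (iv1 D78833) D78835 D164097 (iv6 D189975) F147138 (iv1 F70972) D96543 F335323 (iv1 F250196)
def n189976 : Q := act 5 n95516
theorem D189976 : act 5 n95516 = n189976 := rfl
theorem F378391 : act 3 n189976 = n95518 := d6_1 D189976 (iv5 D95518) D95516
theorem F378392 : act 7 n189976 = n95931 := d13_2 (iv7 F317854) D189976 (iv5 D95931)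
def n189977 : Q := act 6 n95516
theorem D189977 : act 6 n95516 = n189977 := rfl
theorem F378393 : act 2 n189977 = n102257 := d3_1 D189977 (iv6 F366709) F332628
theorem F378394 : act 3 n189977 = n95519 := d7_1 D189977 (iv6 D95519) D95516
theorem F378395 : act 4 n189977 = n159527 := d10_1 D189977 (iv6 D159527) (iv4 F261858)
theorem F378396 : act 5 n189977 = n102264 := d21_6 (iv5 D44733) F34103 (iv5 F51820) D70566 (iv1 F342957) D189977 (iv1 F157095) F311739 (iv6 D78992) (iv1 F70318)
theorem E103404 : n102264 = n102254 := (c2_1 F378396 (iv2 D102254) D102257 (iv2 F378393))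
theorem F378397 : act 0 n102254 = n47464 := (sb E103404 (iv1 F157095))
theorem F378398 : act 1 n102254 = n47462 := (sb E103404 (iv0 D102264))
theorem F378399 : act 5 n102254 = n189977 := (sb E103404 (iv5 F378396))
theorem E103405 : n103196 = n102254 := ((c6_1 (iv5 F378399) (iv3 D103196) (iv5 F147140) (iv3 F378394))).symm
theorem F378400 : act 3 n102254 = n47826 := (sb E103405 (iv3 D103196))
theorem F378401 : act 7 n102262 = n189977 := d13_0 (iv5 F378399) (iv7 F157093) D102262
theorem E103406 : n103041 = n102260 := (c8_3 F157093 F378400 (iv7 F364527) (iv3 D102260))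
theorem F378402 : act 0 n102260 = n47828 := (sb E103406 (iv1 F158281))
theorem F378403 : act 1 n102260 = n47770 := (sb E103406 (iv0 D103041))
theorem F378404 : act 2 n102260 = n47825 := (sb E103406 F364526)
theorem F378405 : act 6 n102260 = n187359 := (sb E103406 F369956)
theorem F378406 : act 7 n102260 = n47826 := (sb E103406 F364527)
theorem F378407 : act 3 n187359 = n102263 := d7_1 F378405 (iv6 D102263) D102260
theorem F378408 : act 5 n102263 = n187357 := d6_2 D187359 F378407 (iv3 D187357)
theorem E103407 : n102265 = n102259 := (c15_2 F378398 D102265 (iv7 D102259) D102254)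
theorem F378409 : act 0 n102259 = n47462 := (sb E103407 (iv1 D102265))
theorem F378410 : act 1 n102259 = n47464 := (sb E103407 F157096)
def n189978 : Q := act 0 n95518
theorem D189978 : act 0 n95518 = n189978 := rfl
theorem F378411 : act 5 n189978 = n97136 := d17_3 D44618 D95518 D189978 (iv4 F363396) (iv5 F235618) F235621 F310948 (iv0 D45227) F33982
theorem F378412 : act 2 n95917 = n189978 := d15_3 (iv0 D189978) F363587 F366090
theorem F378413 : act 1 n95523 = n189978 := d15_0 (iv0 D189978) F317863 (iv2 F317852)
theorem F378414 : act 7 n189978 = n95918 := d15_2 (iv0 F363586) F378413 (iv2 F366091)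
def n189979 : Q := act 4 n95518
theorem D189979 : act 4 n95518 = n189979 := rfl
theorem F378415 : act 2 n189979 = n95919 := d1_1 D189979 (iv4 D95919) (iv2 F317862)
theorem F378416 : act 5 n189979 = n184731 := d9_2 D95518 D189979 F287203 (iv5 F283426) F307361 (iv5 F130787) (iv4 F315580) D95523 (iv4 F376169) F376170 F364049 F364045 (iv4 D120553) (iv5 F317859) (iv4 D95517)
theorem F378417 : act 7 n189979 = n95936 := d11_2 (iv7 F317863) D189979 (iv4 D95936)
theorem F378418 : act 1 n189714 = n189979 := d15_1 (iv0 F377501) F378417 (iv2 F376167)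
def n189980 : Q := act 6 n95518
theorem D189980 : act 6 n95518 = n189980 := rfl
theorem F378419 : act 2 n189980 = n95920 := d3_1 D189980 (iv6 D95920) (iv2 F317862)
theorem F378420 : act 5 n189980 = n103198 := d12_1 D189980 (iv6 D103198) (iv5 F147140) (iv6 D95519) D95518
def n189981 : Q := act 1 n95519
theorem D189981 : act 1 n95519 = n189981 := rfl
theorem F378421 : act 1 n189981 = n95925 := d15_1 D189981 (iv7 D95925) (iv2 F317864)
theorem F378422 : act 7 n189981 = n95868 := d15_2 F334512 D189981 F290442
theorem F378423 : act 4 n189981 = n127674 := d17_9 (iv1 F345664) F158415 (iv1 D103144) (iv5 D47813) F36071 D23014 D47826 (iv5 F147140) D189981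
theorem F378424 : act 3 n166129 = n189981 := d20_9 F334510 F243019 (iv4 F339837) F339836 D166525 (iv3 F363702) (iv4 D149057) F155490 D166129 (iv1 D189981)
theorem F378425 : act 2 n189981 = n95923 := d0_1 F378424 (iv3 F353134) (iv2 F334497) F353138 (iv2 F261595)
def n189982 : Q := act 7 n95519
theorem D189982 : act 7 n95519 = n189982 := rfl
theorem F378426 : act 2 n189982 = n95925 := d4_1 D189982 (iv7 D95925) (iv2 F317864)
theorem F378427 : act 3 n189982 = n102262 := d8_1 D189982 F378401 F378394
theorem F378428 : act 4 n189982 = n147859 := d11_1 D189982 (iv7 D147859) (iv4 F334510)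
theorem F378429 : act 5 n189982 = n102260 := d13_1 D189982 F378406 (iv5 F147140)
theorem F378430 : act 6 n189982 = n95941 := d14_1 D189982 (iv7 D95941) (iv6 D44780) (iv7 F315583) D95519
theorem F378431 : act 1 n95923 = n189982 := d15_1 D95923 (iv7 D189982) F317864
theorem F378432 : act 1 n189982 = n95868 := d15_1 F378431 (iv7 F378422) F378425
theorem F378433 : act 0 n102262 = n186912 := d20_4 F360232 F243002 (iv4 F378428) F378427 (iv3 D186912) (iv4 D89376) (iv1 F64375) D41753 D89414 F360234
theorem F378434 : act 1 n102257 = n186912 := d15_0 (iv0 F378433) F378401 F378393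
def n189983 : Q := act 1 n95521
theorem D189983 : act 1 n95521 = n189983 := rfl
theorem F378435 : act 7 n189983 = n95732 := d15_2 F342250 D189983 (iv2 F149772)
theorem F378436 : act 4 n189983 = n131455 := d18_7 D120125 F189741 (iv1 F97954) (iv4 F215109) (iv5 F342240) (iv4 F342244) D189983 F210721 (iv5 D120128)
theorem F378437 : act 2 n95904 = n189983 := d1_3 F378436 F210718 (iv4 F342256)
theorem F378438 : act 5 n164348 = n189983 := d16_1 D164348 F378436 (iv5 D131455) (iv4 D61697) (iv5 F50559) (iv4 F87471) (iv5 F175861) F175864 (iv2 F120119)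
theorem F378439 : act 0 n95906 = n189983 := d18_2 F336916 (iv4 F342253) F378436 (iv5 D131455) (iv4 D61697) (iv0 F96293) (iv4 F308480) (iv0 F310582) D118554
def n189984 : Q := act 2 n95521
theorem D189984 : act 2 n95521 = n189984 := rfl
theorem F378440 : act 3 n189984 = n95929 := d0_2 D95521 D189984 (iv2 D95929) (iv3 D44777) (iv2 F315579)
theorem F378441 : act 4 n189984 = n120153 := d1_2 (iv4 F342244) D189984 (iv2 F342254)
theorem F378442 : act 7 n189984 = n95906 := d4_2 (iv7 F317851) D189984 (iv2 D95906)
theorem F378443 : act 1 n189984 = n95904 := d15_0 (iv0 D95904) (iv7 F317851) D189984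
theorem F378444 : act 1 n95732 = n189984 := d15_0 F378443 (iv7 F342259) F149772
theorem F378445 : act 5 n110747 = n189984 := d17_5 (iv1 D51064) (iv5 D24839) D24836 D51058 D110747 F378443 (iv5 F342258) (iv0 F356948) F356950
def n189985 : Q := act 5 n95521
theorem D189985 : act 5 n95521 = n189985 := rfl
theorem F378446 : act 2 n189985 = n110747 := d2_1 D189985 F378445 (iv2 D189984)
theorem F378447 : act 3 n189985 = n95523 := d6_1 D189985 (iv5 D95523) D95521
theorem F378448 : act 7 n189985 = n95908 := d13_2 (iv7 F317851) D189985 (iv5 D95908)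
theorem F378449 : act 4 n189985 = n108300 := d16_2 (iv4 F342244) D189985 (iv5 D108300) (iv4 D50013) F311338 F70570 D83161 (iv7 F312215) (iv2 F342254)
theorem F378450 : act 0 n189985 = n112922 := d17_2 (iv1 D189983) D189985 (iv5 F344961) F220427 F344956 F189744 D120137 (iv0 F210720) (iv4 F378436)
theorem F378451 : act 0 n155959 = n147799 := d21_4 (iv5 D50525) (iv1 F53375) D74177 D155959 F342245 D189985 F378450 (iv5 F344961) (iv6 D137280) F100453
theorem F378452 : act 0 n112920 = n189985 := d18_2 F87495 D112920 F378449 (iv5 D108300) (iv4 D50013) (iv0 F56576) (iv4 F56622) (iv0 F76663) D55283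
def n189986 : Q := act 3 n95525
theorem D189986 : act 3 n95525 = n189986 := rfl
theorem F378453 : act 7 n189986 = n95948 := d8_2 (iv7 F335106) D189986 (iv3 D95948)
theorem F378454 : act 2 n127112 = n189986 := d4_3 F378453 F356961 D127112
theorem F378455 : act 1 n127110 = n189986 := d15_1 D127110 F378453 F356961
theorem F378456 : act 1 n127112 = n164623 := d15_0 (iv0 F356964) (iv7 F378453) (iv2 F378454)
theorem F378457 : act 1 n189986 = n127109 := d15_0 (iv0 D127109) D127112 F378454
def n189987 : Q := act 4 n95525
theorem D189987 : act 4 n95525 = n189987 := rfl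
theorem F378458 : act 2 n189987 = n95944 := d1_1 D189987 (iv4 D95944) (iv2 F335104)
theorem F378459 : act 6 n189987 = n189215 := d10_2 (iv6 F160700) D189987 F376120
theorem F378460 : act 7 n189987 = n95949 := d11_2 (iv7 F335106) D189987 (iv4 D95949)
theorem F378461 : act 0 n189987 = n184733 := d17_0 (iv5 D184733) D184730 (iv5 F376170) F376169 (iv5 D95523) F70144 (iv5 F70360) F147148 D189987
theorem F378462 : act 1 n189987 = n189850 := d18_6 (iv1 F347839) F338159 (iv1 F192116) D120579 (iv5 F335105) D189987 (iv4 D189850) D189849 F377982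
def n189988 : Q := act 3 n95526
theorem D189988 : act 3 n95526 = n189988 := rfl
theorem F378463 : act 2 n189988 = n110756 := d0_1 D189988 F355228 (iv2 F356961) (iv3 D95948) (iv2 F335101)
theorem F378464 : act 4 n189988 = n110752 := d5_2 F356912 D189988 (iv3 F171435) (iv4 F319095) (iv3 F226349)
theorem F378465 : act 5 n189988 = n103723 := d6_2 F147143 D189988 F159172
theorem F378466 : act 6 n189988 = n116478 := d7_2 (iv6 F356890) D189988 F226348
theorem F378467 : act 7 n189988 = n95943 := d8_2 (iv7 F335102) D189988 (iv3 D95943)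
theorem F378468 : act 0 n164348 = n189988 := d17_2 F378439 (iv5 F378438) F378465 F346912 F330752 (iv0 D118547) D118548 F342261 (iv4 F342253)
def n189989 : Q := act 1 n95527
theorem D189989 : act 1 n95527 = n189989 := rfl
theorem F378469 : act 1 n189989 = n95956 := d15_1 D189989 (iv7 D95956) (iv2 F147144)
theorem F378470 : act 7 n189989 = n95952 := d15_2 (iv0 F363605) D189989 (iv2 F348081)
theorem F378471 : act 2 n95953 = n189989 := d4_3 F378470 (iv2 F348081) (iv7 F348082)
def n189990 : Q := act 6 n95528
theorem D189990 : act 6 n95528 = n189990 := rfl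
theorem F378472 : act 2 n189990 = n95957 := d3_1 D189990 (iv6 D95957) (iv2 F147146)
theorem F378473 : act 5 n189990 = n188449 := d12_1 D189990 F373511 F148724 F70987 (iv5 F147147)
theorem F378474 : act 7 n189990 = n95544 := d14_2 D95528 D189990 (iv6 D95544) (iv7 D44628) (iv6 F70146)
theorem F378475 : act 1 n96049 = n189990 := d15_1 D96049 F378474 F147184
theorem F378476 : act 1 n189990 = n96048 := d15_0 (iv0 D96048) (iv7 F147591) (iv2 F378472)
def n189991 : Q := act 5 n95530
theorem D189991 : act 5 n95530 = n189991 := rfl
theorem F378477 : act 2 n189991 = n95960 := d2_1 D189991 (iv5 D95960) (iv2 F151954)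
theorem F378478 : act 7 n189991 = n95735 := d13_2 F157626 D189991 (iv5 D95735)
theorem F378479 : act 0 n189991 = n95538 := d17_2 (iv1 F147157) D189991 F147170 (iv4 F293513) (iv5 F294473) F151977 (iv5 D98586) F72654 (iv4 F70361)
theorem F378480 : act 0 n96016 = n189991 := d21_1 F160705 (iv5 D189991) (iv6 F294109) (iv1 D91849) F293100 F138103 (iv1 F160315) (iv5 D104619) (iv6 F251254) (iv1 F160707)
theorem F378481 : act 4 n189563 = n189991 := d11_3 F378478 F364263 (iv7 F376888)
def n189992 : Q := act 4 n95532
theorem D189992 : act 4 n95532 = n189992 := rfl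
theorem F378482 : act 3 n189992 = n130713 := d5_1 D189992 (iv4 F364661) (iv3 F364662) (iv4 D95533) (iv3 F147159)
theorem F378483 : act 7 n189992 = n95971 := d11_2 (iv7 F147160) D189992 (iv4 D95971)
theorem F378484 : act 0 n189992 = n135643 := d18_2 (iv1 F360331) D189992 F365384 (iv5 D96297) F70691 D45044 F294468 (iv0 F251762) (iv5 F360332)
theorem F378485 : act 5 n130712 = n189992 := d21_6 F48354 (iv1 F23887) D30089 D63768 (iv1 F370290) F214071 F378484 (iv5 D135643) (iv6 D63778) (iv1 F48357)
def n189993 : Q := act 6 n95533
theorem D189993 : act 6 n95533 = n189993 := rfl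
theorem F378486 : act 2 n189993 = n96008 := d3_1 D189993 (iv6 D96008) (iv2 F147161)
theorem F378487 : act 3 n189993 = n135622 := d7_1 D189993 F364667 (iv3 F364662)
theorem F378488 : act 4 n189993 = n95534 := d10_1 D189993 (iv6 D95534) D95533
theorem F378489 : act 7 n189993 = n142851 := d14_2 (iv7 F147162) D189993 (iv6 D142851) (iv7 F306970) (iv6 D95985)
def n189994 : Q := act 1 n95534
theorem D189994 : act 1 n95534 = n189994 := rfl
theorem F378490 : act 1 n189994 = n96012 := d15_1 D189994 (iv7 D96012) (iv2 F147163)
theorem F378491 : act 7 n189994 = n96009 := d15_2 (iv0 F363510) D189994 (iv2 F364487)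
theorem F378492 : act 6 n95918 = n189994 := d21_3 F335105 (iv1 F317726) F290443 (iv1 D189994) (iv6 D95534) (iv5 D44623) (iv1 D21234) D21235 (iv6 F70146) D95525
theorem F378493 : act 2 n189994 = n96010 := d3_1 F378492 (iv6 F364483) F366091
theorem F378494 : act 3 n189994 = n187412 := d7_1 F378492 (iv6 F370248) (iv3 F358020)
theorem F378495 : act 1 n96012 = n176897 := d15_1 F378490 F364486 (iv2 F378493)
def n189995 : Q := act 7 n95534
theorem D189995 : act 7 n95534 = n189995 := rfl
theorem F378496 : act 2 n189995 = n96012 := d4_1 D189995 (iv7 D96012) (iv2 F147163)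
theorem F378497 : act 4 n189995 = n142851 := d11_1 D189995 (iv7 F378489) F378488
theorem F378498 : act 6 n189995 = n95989 := d14_1 D189995 (iv7 D95989) (iv6 D44793) (iv7 F70154) D95534
theorem F378499 : act 1 n96010 = n189995 := d15_1 D96010 (iv7 D189995) F147163
theorem F378500 : act 1 n189995 = n96009 := d15_1 F378499 (iv7 F378491) F378493
def n189996 : Q := act 2 n95535
theorem D189996 : act 2 n95535 = n189996 := rfl
theorem F378501 : act 3 n189996 = n96016 := d0_2 D95535 D189996 (iv2 D96016) (iv3 D44805) F70158
theorem F378502 : act 4 n189996 = n176858 := d1_2 F377503 D189996 F377506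
theorem F378503 : act 5 n189996 = n185682 := d2_2 (iv5 F294017) D189996 (iv2 D185682)
theorem F378504 : act 7 n189996 = n96029 := d4_2 (iv7 F147165) D189996 (iv2 D96029)
theorem F378505 : act 1 n189996 = n95782 := d15_0 F177441 (iv7 F147165) D189996
theorem F378506 : act 1 n95996 = n189996 := d15_0 F378505 (iv7 F376683) F376682
def n189997 : Q := act 3 n95536
theorem D189997 : act 3 n95536 = n189997 := rfl
theorem F378507 : act 5 n189997 = n133644 := d6_2 (iv5 F147168) D189997 (iv3 F364662)
theorem F378508 : act 7 n189997 = n96032 := d8_2 (iv7 F147167) D189997 (iv3 D96032)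
theorem F378509 : act 0 n189997 = n112262 := d20_4 (iv4 D44627) D44625 D95536 D189997 F326848 (iv4 D102905) (iv1 F293774) (iv4 F215226) (iv3 F331354) (iv1 D95542)
theorem F378510 : act 6 n135533 = n189997 := d14_5 F378508 (iv6 F333590) (iv7 F333592) F365418 (iv7 F217956)
def n189998 : Q := act 6 n95536
theorem D189998 : act 6 n95536 = n189998 := rfl
theorem F378511 : act 2 n189998 = n96022 := d3_1 D189998 (iv6 D96022) (iv2 F147166)
theorem F378512 : act 3 n189998 = n135533 := d7_1 D189998 F378510 (iv3 D189997)
theorem F378513 : act 4 n189998 = n95537 := d10_1 D189998 (iv6 D95537) D95536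
theorem F378514 : act 0 n189358 = n189998 := d21_4 F295516 F294555 (iv5 F144733) D189358 (iv6 D189998) F147168 (iv1 F147692) F147689 F363531 F293600
theorem F378515 : act 5 n135532 = n189998 := d6_0 F378512 (iv5 D135533) D135532
def n189999 : Q := act 0 n95537
theorem D189999 : act 0 n95537 = n189999 := rfl
def n190000 : Q := act 1 n95537
theorem D190000 : act 1 n95537 = n190000 := rfl
theorem F378516 : act 1 n190000 = n96026 := d15_1 D190000 (iv7 D96026) (iv2 F147169)
def n190001 : Q := act 7 n95537
theorem D190001 : act 7 n95537 = n190001 := rfl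
theorem F378517 : act 2 n190001 = n96026 := d4_1 D190001 (iv7 D96026) (iv2 F147169)
theorem F378518 : act 6 n190001 = n96036 := d14_1 D190001 (iv7 D96036) (iv6 D44810) F70159 D95537
theorem F378519 : act 1 n96026 = n189999 := d15_0 (iv0 D189999) D190001 F378517
theorem F378520 : act 1 n96024 = n190001 := d15_1 D96024 (iv7 D190001) F147169
theorem F378521 : act 1 n190001 = n96023 := d15_0 (iv0 D96023) D96026 (iv2 F378517)
def n190002 : Q := act 2 n95538
theorem D190002 : act 2 n95538 = n190002 := rfl
theorem F378522 : act 3 n190002 = n96029 := d0_2 D95538 D190002 (iv2 D96029) (iv3 D44808) F70164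
theorem F378523 : act 5 n190002 = n96472 := d2_2 (iv5 F147170) D190002 F293516
theorem F378524 : act 7 n190002 = n96016 := d4_2 (iv7 F147171) D190002 (iv2 D96016)
theorem F378525 : act 1 n190002 = n95960 := d15_0 F365036 (iv7 F147171) D190002
theorem F378526 : act 1 n95735 = n190002 := d15_0 F378525 F157641 F149775
def n190003 : Q := act 4 n95538
theorem D190003 : act 4 n95538 = n190003 := rfl
theorem F378527 : act 7 n190003 = n96017 := d11_2 (iv7 F147171) D190003 (iv4 D96017)
theorem F378528 : act 0 n190003 = n110769 := d18_2 F378479 D190003 F363170 (iv5 D87468) F61810 (iv0 F66245) (iv4 F70151) D95530 D189991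
theorem F378529 : act 3 n190003 = n130621 := d20_3 F378481 F378479 D190003 (iv1 D130621) F95777 (iv4 F95779) D130627 (iv4 F365039) (iv3 F377650) F377652
theorem F378530 : act 5 n134506 = n190003 := d6_0 F378529 F363783 D134506
theorem E103408 : n135635 = n134506 := (c21_11 F378530 F378528 (iv5 F233474) (iv6 D148704) (iv1 F106061) (iv6 F328043) (iv5 D62498) (iv1 F93594) F93592 D63776 D135635)
theorem F378531 : act 0 n134506 = n135644 := (sb E103408 (iv1 F218133))
theorem F378532 : act 1 n134506 = n63776 := (sb E103408 (iv0 D135635))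
theorem F378533 : act 7 n135636 = n135641 := d15_2 F378532 D135636 (iv2 F365390)
theorem F378534 : act 2 n135642 = n135636 := d4_3 F378533 (iv2 F365390) (iv7 F365389)
theorem F378535 : act 3 n135636 = n135836 := d0_2 (iv3 F365385) F378534 F364367 (iv3 D134509) (iv2 F99287)
def n190004 : Q := act 3 n95539
theorem D190004 : act 3 n95539 = n190004 := rfl
theorem F378536 : act 4 n190004 = n130621 := d5_2 D95539 D190004 (iv3 F378529) (iv4 D190003) (iv3 D95538)
theorem F378537 : act 5 n190004 = n189492 := d6_2 (iv5 F147173) D190004 (iv3 D189492)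
theorem F378538 : act 7 n190004 = n96021 := d8_2 (iv7 F147174) D190004 (iv3 D96021)
theorem F378539 : act 0 n130708 = n190004 := d17_0 F378537 F376689 F333569 F333575 F218328 F99241 (iv5 F209267) (iv0 D130706) D130708
theorem F378540 : act 6 n133407 = n190004 := d21_5 F96023 (iv1 D29611) D29612 D62619 D133407 F378537 F376689 F333569 (iv6 D133640) (iv1 F97854)
def n190005 : Q := act 6 n95539
theorem D190005 : act 6 n95539 = n190005 := rfl
theorem F378541 : act 2 n190005 = n96033 := d3_1 D190005 (iv6 D96033) (iv2 F147172)
theorem F378542 : act 3 n190005 = n133407 := d7_1 D190005 F378540 (iv3 D190004)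
theorem F378543 : act 4 n190005 = n95540 := d10_1 D190005 (iv6 D95540) D95539
def n190006 : Q := act 0 n95540
theorem D190006 : act 0 n95540 = n190006 := rfl
theorem F378544 : act 2 n96034 = n190006 := d15_3 (iv0 D190006) F372129 (iv7 F355502)
theorem F378545 : act 7 n190006 = n96035 := d4_2 (iv7 F355502) F378544 (iv2 F356825)
theorem F378546 : act 1 n96036 = n190006 := d15_1 (iv0 F372128) F378545 (iv2 F356825)
def n190007 : Q := act 7 n95540
theorem D190007 : act 7 n95540 = n190007 := rfl
theorem F378547 : act 2 n190007 = n96036 := d4_1 D190007 (iv7 D96036) (iv2 F147175)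
theorem F378548 : act 5 n190007 = n103227 := d13_1 D190007 (iv7 D103227) (iv5 F147176)
theorem F378549 : act 6 n190007 = n96026 := d14_1 D190007 (iv7 D96026) (iv6 D44807) (iv7 F70162) D95540
theorem F378550 : act 1 n96035 = n190007 := d15_1 D96035 (iv7 D190007) F147175
theorem F378551 : act 1 n190007 = n96034 := d15_1 F378550 F355502 F356825
def n190008 : Q := act 3 n95541
theorem D190008 : act 3 n95541 = n190008 := rfl
theorem F378552 : act 5 n190008 = n151978 := d6_2 F147227 D190008 F376263
theorem F378553 : act 7 n190008 = n96039 := d8_2 F147183 D190008 (iv3 D96039)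
def n190009 : Q := act 6 n95541
theorem D190009 : act 6 n95541 = n190009 := rfl
theorem F378554 : act 2 n190009 = n96038 := d3_1 D190009 (iv6 D96038) F147182
theorem F378555 : act 4 n190009 = n185959 := d10_1 D190009 (iv6 D185959) (iv4 F295305)
def n190010 : Q := act 0 n95543
theorem D190010 : act 0 n95543 = n190010 := rfl
def n190011 : Q := act 1 n95543
theorem D190011 : act 1 n95543 = n190011 := rfl
def n190012 : Q := act 2 n95543
theorem D190012 : act 2 n95543 = n190012 := rfl
theorem F378556 : act 3 n190012 = n96043 := d0_2 D95543 D190012 (iv2 D96043) (iv3 D44813) (iv2 F70165)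
theorem F378557 : act 6 n190012 = n112958 := d3_2 F356946 D190012 (iv2 F364985)
def n190013 : Q := act 0 n95544
theorem D190013 : act 0 n95544 = n190013 := rfl
theorem F378558 : act 1 n95957 = n190013 := d15_0 (iv0 D190013) (iv7 F378474) F378472
def n190014 : Q := act 1 n95544
theorem D190014 : act 1 n95544 = n190014 := rfl
theorem F378559 : act 1 n190014 = n95957 := d15_1 D190014 F147591 (iv2 F147184)
theorem F378560 : act 5 n187421 = n190014 := d21_6 F291223 F31176 D19844 D42087 D90058 D187421 (iv1 D190014) (iv5 F293081) (iv6 D91844) F291950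
def n190015 : Q := act 6 n95545
theorem D190015 : act 6 n95545 = n190015 := rfl
theorem F378561 : act 2 n190015 = n96056 := d3_1 D190015 (iv6 D96056) (iv2 F147185)
theorem F378562 : act 5 n190015 = n132049 := d12_1 D190015 F360834 F133290 F293846 D95545
def n190016 : Q := act 6 n95548
theorem D190016 : act 6 n95548 = n190016 := rfl
theorem F378563 : act 3 n190016 = n95553 := d7_1 D190016 (iv6 D95553) (iv3 F147197)
theorem F378564 : act 4 n190016 = n113032 := d10_1 D190016 F291599 (iv4 F365425)
theorem F378565 : act 5 n190016 = n144500 := d12_1 D190016 F373263 (iv5 D188389) (iv6 F294034) D95548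
theorem F378566 : act 7 n190016 = n158045 := d14_2 (iv7 F147198) D190016 (iv6 D158045) (iv7 F112913) (iv6 F329089)
theorem F378567 : act 0 n190016 = n142363 := d21_4 (iv5 D89105) F70176 D95548 D190016 F356093 F352960 (iv1 D107116) (iv5 F96053) D131140 F357561
theorem F378568 : act 1 n190016 = n189641 := d15_1 (iv0 F378567) F377238 (iv2 F355617)
def n190017 : Q := act 6 n95550
theorem D190017 : act 6 n95550 = n190017 := rfl
theorem F378569 : act 2 n190017 = n96076 := d3_1 D190017 (iv6 D96076) F147203
theorem F378570 : act 3 n190017 = n176660 := d7_1 D190017 (iv6 F365996) (iv3 F150252)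
theorem F378571 : act 4 n190017 = n189217 := d10_1 D190017 F376132 F147616
theorem F378572 : act 5 n190017 = n96280 := d12_1 D190017 (iv6 D96280) (iv5 D44946) F70427 (iv5 F147201)
theorem F378573 : act 7 n190017 = n189216 := d14_2 F147204 D190017 F376126 F363537 (iv6 D96079)
def n190018 : Q := act 3 n95552
theorem D190018 : act 3 n95552 = n190018 := rfl
theorem F378574 : act 5 n190018 = n133719 := d6_2 (iv5 F147211) D190018 (iv3 F331354)
theorem F378575 : act 7 n190018 = n96119 := d8_2 (iv7 F147210) D190018 (iv3 D96119)
theorem F378576 : act 0 n189498 = n190018 := d20_4 D189488 F376723 F376722 (iv3 F376716) (iv3 D190018) (iv4 D95552) D95550 (iv4 F147616) (iv3 F376191) (iv1 F376194)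
def n190019 : Q := act 6 n95552
theorem D190019 : act 6 n95552 = n190019 := rfl
theorem F378577 : act 2 n190019 = n96081 := d3_1 D190019 (iv6 D96081) (iv2 F147209)
theorem F378578 : act 4 n190019 = n95553 := d10_1 D190019 (iv6 D95553) D95552
theorem F378579 : act 5 n190019 = n142823 := d21_6 (iv5 D189220) F369262 F369259 F348096 (iv1 F348099) D190019 (iv1 F225717) D142836 (iv6 F376754) (iv1 F376755)
theorem F378580 : act 0 n142713 = n190019 := d17_0 F378579 (iv1 F225717) D142836 (iv4 F226666) (iv5 D144004) (iv0 D67469) D67472 D144012 (iv4 F226685)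
theorem F378581 : act 1 n142752 = n190019 := d17_6 (iv1 F84652) (iv5 D53655) (iv1 F41050) D31170 D66920 D142752 F378579 (iv0 D142823) (iv4 D66945)
def n190020 : Q := act 0 n95553
theorem D190020 : act 0 n95553 = n190020 := rfl
theorem F378582 : act 5 n190020 = n107300 := d17_3 F373268 F373267 D190020 (iv4 D107300) (iv5 F172102) F78321 (iv5 F80715) F80717 D107492
theorem F378583 : act 6 n190020 = n133367 := d21_5 (iv5 D45326) (iv1 F66333) D44631 D95553 D190020 (iv5 F354256) (iv1 D103321) D103322 F158563 F75154
theorem F378584 : act 2 n96082 = n190020 := d3_3 F378583 (iv2 F355407) (iv6 F355410)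
theorem F378585 : act 7 n96083 = n190020 := d15_2 (iv0 D96082) D96083 (iv2 F378584)
def n190021 : Q := act 1 n95553
theorem D190021 : act 1 n95553 = n190021 := rfl
theorem F378586 : act 1 n190021 = n96085 := d15_1 D190021 (iv7 D96085) (iv2 F147213)
theorem F378587 : act 7 n190021 = n96082 := d15_2 (iv0 D190020) D190021 F378584
theorem F378588 : act 5 n190021 = n107295 := d17_7 (iv1 F180293) (iv5 D66918) (iv1 F102752) (iv5 F363556) (iv4 F373266) F373267 D190021 (iv0 F206759) (iv4 F206757)
theorem F378589 : act 2 n96083 = n190021 := d2_3 F378588 (iv2 F172175) F340514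
theorem F378590 : act 1 n96085 = n190020 := d15_1 F378586 (iv7 F378585) F378589
def n190022 : Q := act 7 n95553
theorem D190022 : act 7 n95553 = n190022 := rfl
theorem F378591 : act 2 n190022 = n96085 := d4_1 D190022 (iv7 D96085) (iv2 F147213)
theorem F378592 : act 3 n190022 = n158045 := d8_1 D190022 (iv7 F378566) F378563
theorem F378593 : act 6 n190022 = n96124 := d14_1 D190022 (iv7 D96124) (iv6 D44856) (iv7 F70178) D95553
theorem F378594 : act 1 n96083 = n190022 := d15_1 D96083 (iv7 D190022) F147213
theorem F378595 : act 1 n190022 = n96082 := d15_1 F378594 (iv7 F378587) (iv2 F378589)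
def n190023 : Q := act 6 n95557
theorem D190023 : act 6 n95557 = n190023 := rfl
theorem F378596 : act 2 n190023 = n96120 := d3_1 D190023 (iv6 D96120) (iv2 F147226)
theorem F378597 : act 4 n190023 = n95558 := d10_1 D190023 (iv6 D95558) D95557
def n190024 : Q := act 0 n95558
theorem D190024 : act 0 n95558 = n190024 := rfl
def n190025 : Q := act 1 n95558
theorem D190025 : act 1 n95558 = n190025 := rfl
theorem F378598 : act 1 n190025 = n96124 := d15_1 D190025 (iv7 D96124) (iv2 F147230)
theorem F378599 : act 5 n190025 = n176710 := d17_7 D120957 F334278 (iv1 F333898) (iv5 F333902) (iv4 F261154) (iv5 F364274) D190025 (iv0 D176710) F129315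
theorem F378600 : act 2 n96122 = n190025 := d2_3 F378599 (iv2 F348601) F363845
def n190026 : Q := act 7 n95558
theorem D190026 : act 7 n95558 = n190026 := rfl
theorem F378601 : act 2 n190026 = n96124 := d4_1 D190026 (iv7 D96124) (iv2 F147230)
theorem F378602 : act 5 n190026 = n158043 := d13_1 D190026 (iv7 F261155) (iv5 F364274)
theorem F378603 : act 6 n190026 = n96085 := d14_1 D190026 (iv7 D96085) (iv6 D44832) (iv7 F70185) D95558
theorem F378604 : act 1 n96124 = n190024 := d15_0 (iv0 D190024) D190026 F378601
theorem F378605 : act 1 n96122 = n190026 := d15_1 D96122 (iv7 D190026) F147230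
theorem F378606 : act 7 n190024 = n96122 := d15_2 F378598 F378604 F378600
theorem F378607 : act 5 n190024 = n176711 := d17_7 F334289 (iv5 D61158) F333899 F321981 (iv4 F112879) (iv5 F328695) F378604 (iv0 F276075) (iv4 F299313)
theorem F378608 : act 4 n135837 = n190024 := d16_2 F218482 D135837 F378607 (iv4 F304018) F348596 F207266 D129016 (iv7 F368099) F368096
theorem F378609 : act 2 n190024 = n96121 := d15_3 (iv0 D96121) D96122 (iv7 F378606)
theorem F378610 : act 5 n96121 = n158100 := d2_2 (iv5 F378607) F378609 (iv2 F363848)
theorem F378611 : act 7 n96121 = n190025 := d4_2 (iv7 F378606) F378609 (iv2 F378600)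
theorem F378612 : act 1 n190026 = n96121 := d15_1 F378605 F378611 (iv2 F378600)
def n190027 : Q := act 4 n95559
theorem D190027 : act 4 n95559 = n190027 := rfl
def n190028 : Q := act 3 n95560
theorem D190028 : act 3 n95560 = n190028 := rfl
theorem F378613 : act 6 n190028 = n187895 := d7_2 F377984 D190028 (iv3 F377987)
theorem F378614 : act 0 n190028 = n188526 := d21_10 (iv5 D188526) (iv1 D92348) F293659 (iv6 D43926) (iv1 F65556) (iv6 F139555) (iv5 D90642) D90640 D187895 (iv6 F378613)
def n190029 : Q := act 5 n95565
theorem D190029 : act 5 n95565 = n190029 := rfl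
theorem F378615 : act 3 n190029 = n95568 := d6_1 D190029 (iv5 D95568) (iv3 F147235)
def n190030 : Q := act 5 n95570
theorem D190030 : act 5 n95570 = n190030 := rfl
def n190031 : Q := act 6 n95570
theorem D190031 : act 6 n95570 = n190031 := rfl
theorem F378616 : act 3 n190031 = n127485 := d7_1 D190031 F366049 F290503
theorem F378617 : act 4 n190031 = n188544 := d10_1 D190031 (iv6 D188544) (iv4 F147237)
def n190032 : Q := act 3 n95571
theorem D190032 : act 3 n95571 = n190032 := rfl
theorem F378618 : act 2 n190032 = n149265 := d0_1 D190032 F362068 (iv2 F290511) (iv3 F177601) F177600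
theorem F378619 : act 4 n190032 = n170568 := d5_2 (iv4 F147238) D190032 (iv3 F364491) (iv4 F373893) (iv3 D188545)
theorem F378620 : act 7 n190032 = n149264 := d8_2 F251959 D190032 (iv3 F362062)
theorem F378621 : act 0 n190032 = n131396 := d20_10 (iv4 D131396) F318755 (iv4 F317682) (iv3 D97128) (iv1 F71612) (iv3 F147492) F147493 (iv1 F142187) (iv4 F147238) D190032
theorem F378622 : act 1 n190032 = n149267 := d15_1 (iv0 F378621) (iv7 D149267) (iv2 F210604)
def n190033 : Q := act 5 n95571
theorem D190033 : act 5 n95571 = n190033 := rfl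
def n190034 : Q := act 6 n95571
theorem D190034 : act 6 n95571 = n190034 := rfl
theorem F378623 : act 4 n190034 = n188546 := d10_1 D190034 (iv6 D188546) (iv4 F147238)
def n190035 : Q := act 0 n95572
theorem D190035 : act 0 n95572 = n190035 := rfl
theorem F378624 : act 5 n190035 = n188538 := d17_3 (iv1 D95571) D95572 D190035 (iv4 D188538) (iv5 D92432) (iv0 D43231) D43233 D92440 (iv4 F147238)
def n190036 : Q := act 1 n95572
theorem D190036 : act 1 n95572 = n190036 := rfl
theorem F378625 : act 5 n190036 = n188543 := d17_7 (iv1 F283553) (iv5 D159842) (iv1 D76506) (iv5 F88602) F88601 D95572 D190036 F373885 F368512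
def n190037 : Q := act 4 n95572
theorem D190037 : act 4 n95572 = n190037 := rfl
theorem F378626 : act 6 n190037 = n95583 := d10_2 (iv6 F147240) D190037 (iv4 D95583)
def n190038 : Q := act 7 n95572
theorem D190038 : act 7 n95572 = n190038 := rfl
theorem F378627 : act 3 n190038 = n95610 := d8_1 D190038 (iv7 D95610) (iv3 F147239)
theorem F378628 : act 5 n190038 = n95573 := d13_1 D190038 (iv7 D95573) D95572
def n190039 : Q := act 0 n95575
theorem D190039 : act 0 n95575 = n190039 := rfl
theorem F378629 : act 5 n190039 = n104718 := d17_3 D44641 D95575 D190039 (iv4 F161621) (iv5 F248569) F248567 (iv5 D94258) (iv0 D44061) (iv4 F33479)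
theorem F378630 : act 2 n104719 = n190039 := d15_3 (iv0 D190039) (iv0 F251424) (iv7 F160415)
theorem F378631 : act 1 n95579 = n190039 := d15_0 (iv0 D190039) (iv7 F251854) F251853
def n190040 : Q := act 6 n95575
theorem D190040 : act 6 n95575 = n190040 := rfl
def n190041 : Q := act 5 n95578
theorem D190041 : act 5 n95578 = n190041 := rfl
theorem F378632 : act 3 n190041 = n95579 := d6_1 D190041 (iv5 D95579) D95578
def n190042 : Q := act 6 n95578
theorem D190042 : act 6 n95578 = n190042 := rfl
theorem F378633 : act 3 n190042 = n95580 := d7_1 D190042 (iv6 D95580) D95578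
def n190043 : Q := act 6 n95579
theorem D190043 : act 6 n95579 = n190043 := rfl
def n190044 : Q := act 6 n95581
theorem D190044 : act 6 n95581 = n190044 := rfl
theorem F378634 : act 5 n190044 = n133374 := d12_1 D190044 (iv6 F340441) (iv5 D186201) (iv6 F292575) (iv5 F161631)
theorem E103409 : n190043 = n133381 := (c21_4 F251894 (iv1 F114624) D95579 D190043 (iv1 D133381) (iv6 F214430) (iv5 D133376) D133374 (iv5 F378634) (iv6 D190044) (iv1 F251896))
theorem F378635 : act 6 n133381 = n95579 := (sb E103409 (iv6 D190043))
def n190045 : Q := act 3 n95582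
theorem D190045 : act 3 n95582 = n190045 := rfl
def n190046 : Q := act 6 n95582
theorem D190046 : act 6 n95582 = n190046 := rfl
def n190047 : Q := act 3 n95583
theorem D190047 : act 3 n95583 = n190047 := rfl
theorem F378636 : act 4 n190047 = n95631 := d5_2 D95583 D190047 (iv3 D95631) (iv4 D44660) (iv3 F70192)
def n190048 : Q := act 6 n95584
theorem D190048 : act 6 n95584 = n190048 := rfl
theorem F378637 : act 2 n190048 = n95586 := d3_1 D190048 (iv6 D95586) D95584
theorem F378638 : act 3 n190048 = n95647 := d7_1 D190048 (iv6 D95647) (iv3 F147244)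
theorem F378639 : act 4 n190048 = n166477 := d10_1 D190048 (iv6 F330759) F147437
theorem F378640 : act 5 n190048 = n119158 := d12_1 D190048 F187490 (iv5 F329977) (iv6 D96204) (iv5 F147245)
theorem F378641 : act 0 n149222 = n190048 := d17_2 D178713 (iv5 F366579) F378640 (iv4 D119158) (iv5 D54836) F110797 D33319 F130474 D85144
def n190049 : Q := act 0 n95586
theorem D190049 : act 0 n95586 = n190049 := rfl
theorem F378642 : act 3 n190049 = n149063 := d20_5 F319339 D68981 (iv4 F312494) (iv3 F147252) D190049 (iv4 D149063) (iv1 F106354) (iv4 F106432) F106431 (iv1 F75032)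
theorem F378643 : act 4 n190049 = n186848 := d20_8 F130353 F317983 (iv4 F181820) F181819 F317768 (iv3 F261632) (iv4 F350699) D190049 (iv3 F368254) (iv1 F188018)
theorem F378644 : act 7 n149222 = n190049 := d11_0 F378643 F368255 F278238
def n190050 : Q := act 1 n95586
theorem D190050 : act 1 n95586 = n190050 := rfl
theorem F378645 : act 3 n109564 = n190050 := d20_3 F335518 F361283 F171155 (iv1 D190050) F147252 F312494 F315411 (iv4 D47817) D47816 D103153
theorem F378646 : act 4 n186849 = n190050 := d20_6 F317770 (iv1 F85173) (iv4 F181016) D146732 (iv1 F336448) F368257 (iv1 D190050) F350699 F261632 F122481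
theorem F378647 : act 6 n109563 = n190050 := d21_3 F377991 (iv1 D109872) (iv5 F169515) (iv1 D190050) (iv6 D95586) F70193 D44915 D96200 F354563 (iv1 F377992)
theorem F378648 : act 2 n190050 = n149222 := d1_1 F378646 (iv4 F278238) (iv2 F368258)
def n190051 : Q := act 7 n95586
theorem D190051 : act 7 n95586 = n190051 := rfl
theorem F378649 : act 3 n190051 = n95590 := d8_1 D190051 (iv7 D95590) (iv3 F147252)
theorem F378650 : act 4 n190051 = n146143 := d11_1 D190051 F318784 (iv4 F350699)
theorem F378651 : act 5 n190051 = n119248 := d13_1 D190051 (iv7 D119248) (iv5 F350700)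
theorem F378652 : act 6 n190051 = n184198 := d14_1 D190051 (iv7 D184198) (iv6 D87856) (iv7 F70194) D95586
theorem F378653 : act 1 n149222 = n190051 := d15_1 (iv0 F378641) (iv7 D190051) (iv2 F378637)
def n190052 : Q := act 6 n95587
theorem D190052 : act 6 n95587 = n190052 := rfl
theorem F378654 : act 2 n190052 = n127494 := d3_1 D190052 F332541 (iv2 F332540)
theorem F378655 : act 3 n190052 = n186577 := d7_1 D190052 (iv6 D186577) (iv3 F339725)
theorem F378656 : act 4 n190052 = n117207 := d10_1 D190052 (iv6 F313237) (iv4 F315634)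
theorem F378657 : act 7 n190052 = n127458 := d14_2 (iv7 F314949) D190052 (iv6 D127458) (iv7 D59864) D59863
theorem F378658 : act 1 n95606 = n190052 := d15_1 (iv0 F348969) F378657 F204883
theorem F378659 : act 1 n190052 = n127491 := d15_1 F378658 (iv7 F361088) (iv2 F348970)
def n190053 : Q := act 5 n95593
theorem D190053 : act 5 n95593 = n190053 := rfl
theorem F378660 : act 2 n190053 = n177147 := d2_1 D190053 (iv5 D177147) (iv2 F340927)
theorem F378661 : act 3 n190053 = n128547 := d6_1 D190053 (iv5 F355727) (iv3 F340928)
theorem F378662 : act 7 n190053 = n177164 := d13_2 (iv7 F340930) D190053 (iv5 D177164)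
theorem F378663 : act 6 n190053 = n128544 := d21_9 (iv5 F378588) (iv1 D190021) (iv5 F373267) (iv6 D188390) (iv1 F294334) (iv6 F147269) (iv5 D95595) D95593 D190053 F206759
def n190054 : Q := act 6 n95593
theorem D190054 : act 6 n95593 = n190054 := rfl
theorem F378664 : act 2 n190054 = n120581 := d3_1 D190054 F307166 (iv2 F340927)
theorem F378665 : act 4 n190054 = n103702 := d10_1 D190054 (iv6 D103702) (iv4 F340929)
theorem F378666 : act 7 n120582 = n190054 := d11_0 F378665 F307164 F200382
theorem F378667 : act 0 n120557 = n190054 := d18_2 F92211 D120557 F378665 F159152 F299907 F72309 (iv4 F306141) (iv0 F190780) D58350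
theorem F378668 : act 1 n95667 = n190054 := d18_6 F191867 F191866 F191865 F87750 (iv5 F87813) (iv4 F347835) F378665 F307161 (iv5 F106857)
def n190055 : Q := act 3 n95594
theorem D190055 : act 3 n95594 = n190055 := rfl
theorem F378669 : act 2 n190055 = n100794 := d0_1 D190055 (iv3 F346748) (iv2 F355726) (iv3 F190336) (iv2 F340932)
theorem F378670 : act 7 n190055 = n100793 := d8_2 (iv7 F340934) D190055 F357197
theorem F378671 : act 0 n190055 = n95647 := d20_4 F75367 (iv1 F75489) (iv4 F340933) D190055 (iv3 F378638) F378639 (iv1 F262037) (iv4 F346920) (iv3 D48033) (iv1 F75371)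
theorem F378672 : act 4 n186582 = n190055 := d20_2 (iv4 F136280) D186582 (iv3 D190055) (iv1 D95594) (iv3 F307544) (iv4 D88924) F64061 (iv4 F64404) D89443 F357210
theorem F378673 : act 0 n100796 = n190055 := d20_4 D47817 (iv1 F314948) (iv4 F317104) (iv3 F154893) (iv3 D190055) F340933 (iv1 D48029) F36289 F17731 D23012
theorem E103410 : n186989 = n186582 := (c1_4 F378672 F378669 F357192 D186989)
theorem F378674 : act 2 n186582 = n89454 := (sb E103410 (iv2 D186989))
theorem F378675 : act 7 n186582 = n89455 := (sb E103410 (iv7 F368786))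
theorem E103411 : n186993 = n186583 := (c15_4 F367316 F367315 F378675 (iv2 F368789))
theorem F378676 : act 2 n186583 = n89455 := (sb E103411 F368789)
theorem F378677 : act 7 n186583 = n89454 := (sb E103411 (iv7 D186993))
theorem F378678 : act 2 n186992 = n188368 := d3_3 F373191 F378674 D186992
theorem E103412 : n188366 = n91220 := (c2_4 (iv5 F368787) F378678 (iv5 D188368) (iv2 F373188))
theorem E103413 : n188330 = n91235 := (((iv2 F373089)).symm.trans (sb E103412 F373188))
theorem E103414 : n188325 = n91234 := ((F373086).symm.trans (sb E103412 (iv7 D188366)))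
theorem F378679 : act 2 n91235 = n91220 := (sb E103413 F373089)
theorem E103415 : n188362 = n91219 := ((F373184).symm.trans (sb E103413 (iv7 D188330)))
theorem F378680 : act 7 n91234 = n91220 := (sb E103414 (iv7 F373086))
theorem F378681 : act 2 n91219 = n91234 := (sb E103415 (iv2 D188362))
theorem F378682 : act 7 n91219 = n91235 := (sb E103415 (iv7 F373184))
theorem F378683 : act 7 n188328 = n188368 := d15_2 (iv0 F368788) (iv0 F373087) (iv2 F378678)
theorem F378684 : act 7 n188367 = n188326 := d8_2 F378682 D188367 (iv3 D188326)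
theorem F378685 : act 7 n99045 = n186655 := d11_2 F378682 F373102 F378246
theorem F378686 : act 2 n186655 = n99044 := d15_3 (iv0 D99044) D99045 F378685
theorem F378687 : act 2 n99045 = n186656 := d15_3 F367567 F367572 (iv7 F378685)
theorem F378688 : act 7 n186656 = n99044 := d4_2 (iv7 F378685) F378687 (iv2 F378686)
theorem F378689 : act 3 n141200 = n186656 := d8_3 F378688 (iv3 F372987) (iv7 F224226)
theorem F378690 : act 4 n188331 = n141199 := d5_4 D141200 F378689 F378008 D188331 (iv3 D141199)
theorem F378691 : act 7 n188363 = n188331 := d11_0 F378690 F224224 (iv4 F373185)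
theorem F378692 : act 2 n188364 = n188328 := d2_3 (iv5 D188328) F378681 D188364
theorem F378693 : act 2 n188365 = n188329 := d3_3 (iv6 D188329) F378681 D188365
theorem E103416 : n189068 = n188686 := (c2_4 (iv5 F374455) F378693 F373088 (iv2 F375630))
theorem F378694 : act 2 n188686 = n93108 := (sb E103416 F375630)
theorem F378695 : act 7 n188686 = n93107 := (sb E103416 (iv7 D189068))
theorem F378696 : act 7 n189066 = n188365 := d13_2 F378695 D189066 F374455
theorem E103417 : n189063 = n188685 := (c15_4 (iv0 D188685) D188686 F378695 D189063)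
theorem F378697 : act 2 n188685 = n93107 := (sb E103417 (iv2 D189063))
theorem F378698 : act 7 n188685 = n93108 := (sb E103417 (iv7 F375628))
theorem F378699 : act 7 n186992 = n188364 := d4_0 F378692 F378683 (iv2 F378678)
theorem F378700 : act 2 n188333 = n188369 := d3_3 (iv6 D188369) F378679 D188333
def n190056 : Q := act 5 n95594
theorem D190056 : act 5 n95594 = n190056 := rfl
theorem F378701 : act 2 n190056 = n177164 := d2_1 D190056 (iv5 D177164) (iv2 F340932)
theorem F378702 : act 7 n190056 = n177147 := d13_2 (iv7 F340934) D190056 (iv5 D177147)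
theorem F378703 : act 0 n190056 = n102477 := d17_2 (iv1 F147267) D190056 (iv5 F368496) F368495 F323819 F186235 F335074 F342448 F314955
theorem F378704 : act 1 n190053 = n102477 := d15_0 (iv0 F378703) F378702 (iv2 F378660)
def n190057 : Q := act 6 n95594
theorem D190057 : act 6 n95594 = n190057 := rfl
theorem F378705 : act 2 n190057 = n177165 := d3_1 D190057 (iv6 D177165) (iv2 F340932)
theorem F378706 : act 4 n190057 = n103707 := d10_1 D190057 (iv6 D103707) (iv4 F340933)
theorem F378707 : act 5 n190057 = n109860 := d21_6 (iv5 F346786) F346766 F346767 F147257 (iv1 F147267) D190057 (iv1 F337322) (iv5 D96264) D96265 (iv1 F360233)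
theorem F378708 : act 0 n95601 = n190057 := d21_4 D127671 F364589 (iv5 D95600) D95601 (iv6 D190057) D190056 F378703 (iv5 F368496) (iv6 F368499) (iv1 F205218)
theorem F378709 : act 1 n111025 = n178949 := d18_6 F243415 F340717 F378708 F378706 F341061 (iv4 F331029) (iv4 D178949) F243052 F199619
theorem F378710 : act 6 n109860 = n112220 := d21_3 (iv5 F340714) F378708 F378707 (iv1 F174510) F325259 (iv5 F273061) (iv1 F378027) F378024 F160252 (iv1 F340706)
theorem F378711 : act 1 n189934 = n190057 := d15_0 (iv0 F378708) F340715 (iv2 F378294)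
theorem F378712 : act 2 n112088 = n109860 := d3_3 F378710 F358441 F348788
theorem F378713 : act 6 n111609 = n109041 := d7_2 F378710 F174509 (iv3 F169851)
theorem E103418 : n109043 = n51475 := (c10_3 F378713 (iv4 D109041) D109043 D111609)
theorem E103419 : n111611 = n50346 := ((D111611).symm.trans (sb E103418 (iv6 D109043)))
theorem F378714 : act 6 n50346 = n51475 := (sb E103419 (iv6 D111611))
theorem F378715 : act 6 n111326 = n109039 := d3_2 F378714 (iv2 F355964) F169044
theorem F378716 : act 6 n111608 = n109040 := d7_2 F378714 D111608 (iv3 D109040)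
theorem F378717 : act 7 n109038 = n111606 := d14_4 (iv7 F355965) F378715 (iv7 D109039) D109038 (iv6 D111606)
theorem F378718 : act 5 n111606 = n179115 := d13_1 F378717 F279069 (iv5 F355980)
theorem F378719 : act 7 n109861 = n112088 := d15_2 (iv0 D109860) D109861 F378712
theorem F378720 : act 7 n112087 = n109860 := d15_2 (iv0 F337328) F337329 (iv2 F378712)
theorem F378721 : act 2 n109861 = n112087 := d4_3 F378720 (iv2 F378712) (iv7 F378719)
theorem F378722 : act 6 n104843 = n112087 := d14_5 F378720 F378710 F358440 (iv6 F363523) (iv7 F363527)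
theorem F378723 : act 6 n109861 = n185467 := d3_2 F378722 (iv2 F378721) F363526
theorem F378724 : act 4 n112087 = n104845 := d10_1 F378722 (iv6 D104845) D104843
theorem F378725 : act 0 n104845 = n176888 := d18_2 D112087 F378724 F358424 (iv5 D95862) F318670 (iv0 D81693) F58275 D44600 (iv5 F337310)
def n190058 : Q := act 0 n95595
theorem D190058 : act 0 n95595 = n190058 := rfl
theorem F378726 : act 5 n190058 = n189857 := d17_3 (iv1 D95594) D95595 D190058 F378010 (iv5 F341052) (iv0 D103708) (iv5 D48030) D48029 (iv4 F340933)
theorem F378727 : act 1 n184219 = n190058 := d15_0 (iv0 D190058) F352896 F353235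
theorem F378728 : act 2 n184216 = n190058 := d2_3 F378726 (iv2 F378011) F361888
theorem F378729 : act 7 n184217 = n190058 := d13_0 F378726 F378013 F350623
theorem F378730 : act 4 n103764 = n190058 := d18_3 (iv1 D48043) D48044 D103764 F378726 F378010 (iv0 D127415) (iv4 F317119) F341046 F148717
def n190059 : Q := act 1 n95595
theorem D190059 : act 1 n95595 = n190059 := rfl
theorem F378731 : act 1 n190059 = n184219 := d15_1 D190059 (iv7 D184219) (iv2 F147268)
theorem F378732 : act 7 n190059 = n184216 := d15_2 (iv0 D190058) D190059 F378728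
theorem F378733 : act 5 n190059 = n170411 := d17_7 (iv1 F334483) F334486 D116860 F342457 F125269 D95595 D190059 F366429 (iv4 D156826)
theorem F378734 : act 2 n184217 = n190059 := d2_3 F378733 F350622 F350623
theorem F378735 : act 4 n103765 = n190059 := d18_7 (iv1 F147267) F340933 (iv1 D48029) F36289 D23181 D48044 D103765 F378731 F286130
def n190060 : Q := act 4 n95595
theorem D190060 : act 4 n95595 = n190060 := rfl
theorem F378736 : act 2 n190060 = n184218 := d1_1 D190060 (iv4 D184218) (iv2 F147268)
theorem F378737 : act 3 n190060 = n102404 := d5_1 D190060 (iv4 D102404) F74713 D47516 (iv3 F352895)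
theorem F378738 : act 6 n190060 = n96211 := d10_2 (iv6 F147269) D190060 (iv4 D96211)
theorem F378739 : act 1 n190060 = n153688 := d18_6 (iv1 F75363) D103605 F342447 F125269 D95595 D190060 F337157 (iv0 F150033) F75502
def n190061 : Q := act 0 n95598
theorem D190061 : act 0 n95598 = n190061 := rfl
theorem F378740 : act 3 n190061 = n149267 := d20_5 (iv4 F71180) (iv1 F334069) (iv4 D95599) D95598 D190061 F234652 F317619 (iv4 F319353) (iv3 D97174) (iv1 D45413)
theorem F378741 : act 2 n109568 = n190061 := d15_3 (iv0 D190061) F361183 (iv7 F362086)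
theorem F378742 : act 1 n109571 = n190061 := d15_0 (iv0 D190061) F348954 (iv2 F348953)
theorem F378743 : act 7 n190061 = n109569 := d15_2 (iv0 F361182) F378742 F362075
def n190062 : Q := act 5 n95598
theorem D190062 : act 5 n95598 = n190062 := rfl
theorem F378744 : act 2 n190062 = n109570 := d2_1 D190062 (iv5 D109570) (iv2 F348886)
theorem F378745 : act 3 n190062 = n95600 := d6_1 D190062 (iv5 D95600) D95598
theorem F378746 : act 6 n190062 = n109525 := d12_2 (iv6 F348888) D190062 (iv5 D109525) (iv6 D50529) D50528
def n190063 : Q := act 1 n95601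
theorem D190063 : act 1 n95601 = n190063 := rfl
theorem F378747 : act 1 n190063 = n189934 := d15_1 D190063 F378296 (iv2 F361113)
theorem F378748 : act 7 n190063 = n177165 := d15_2 (iv0 F378708) D190063 (iv2 F378705)
theorem F378749 : act 4 n190063 = n138534 := d17_9 (iv1 F315940) F180987 F319118 (iv5 D81695) F58275 D44601 F340712 (iv5 F340714) D190063
theorem F378750 : act 6 n120582 = n190063 := d21_3 D95330 D189848 F377980 (iv1 D190063) (iv6 D95601) D95600 (iv1 F361119) (iv5 D127652) (iv6 F308811) (iv1 D95329)
theorem F378751 : act 5 n109861 = n190063 := d21_2 D96264 F337321 (iv6 F378750) (iv1 D120582) F87811 D75069 F112590 (iv5 D59900) F317869 (iv1 F70638)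
def n190064 : Q := act 1 n95603
theorem D190064 : act 1 n95603 = n190064 := rfl
theorem F378752 : act 7 n190064 = n95644 := d15_2 (iv0 F361105) D190064 F147338
theorem F378753 : act 3 n114864 = n190064 := d20_3 F177935 (iv1 F88593) (iv4 F178936) (iv1 D190064) (iv3 D95603) D95604 F348961 F71180 F56626 D78976
theorem F378754 : act 2 n190064 = n95652 := d0_1 F378753 F147349 (iv2 F71439) (iv3 F149562) (iv2 F178935)
theorem F378755 : act 4 n190064 = n186867 := d5_2 (iv4 F178936) F378753 F368351 (iv4 F352389) F144691
theorem F378756 : act 0 n95649 = n190064 := d20_4 F149812 F348893 F169520 (iv3 F348932) (iv3 F378753) F178936 (iv1 F88590) (iv4 F136678) D164446 (iv1 F361974)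
def n190065 : Q := act 2 n95603
theorem D190065 : act 2 n95603 = n190065 := rfl
theorem F378757 : act 3 n190065 = n109571 := d0_2 D95603 D190065 F348953 (iv3 D97061) (iv2 F348957)
theorem F378758 : act 7 n190065 = n95649 := d4_2 F348960 D190065 (iv2 F361106)
theorem F378759 : act 1 n190065 = n95652 := d15_0 (iv0 F366367) F348960 D190065
theorem F378760 : act 1 n95644 = n190065 := d15_0 F378759 (iv7 D95652) (iv2 F147338)
def n190066 : Q := act 4 n95603
theorem D190066 : act 4 n95603 = n190066 := rfl
theorem F378761 : act 3 n190066 = n119861 := d5_1 D190066 (iv4 D119861) (iv3 F348964) (iv4 D95604) D95603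
theorem F378762 : act 7 n190066 = n155493 := d11_2 F348960 D190066 (iv4 F361109)
theorem F378763 : act 6 n146975 = n190066 := d7_0 F378761 F189199 D146975
theorem F378764 : act 0 n190066 = n161571 := d20_4 (iv4 D73921) (iv1 F87259) D119861 (iv3 F378761) F255567 F116506 F341417 (iv4 D57714) D57713 (iv1 F331647)
theorem F378765 : act 0 n186745 = n164443 := d20_4 D190066 F378764 (iv4 F368384) F368383 (iv3 D164443) F177935 (iv1 F88593) (iv4 F178936) F378753 (iv1 D190064)
def n190067 : Q := act 5 n95603
theorem D190067 : act 5 n95603 = n190067 := rfl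
theorem F378766 : act 3 n190067 = n95605 := d6_1 D190067 (iv5 D95605) D95603
def n190068 : Q := act 6 n95603
theorem D190068 : act 6 n95603 = n190068 := rfl
theorem F378767 : act 3 n190068 = n95606 := d7_1 D190068 (iv6 D95606) D95603
theorem F378768 : act 4 n190068 = n146975 := d10_1 D190068 F378763 (iv4 D190066)
def n190069 : Q := act 4 n95605
theorem D190069 : act 4 n95605 = n190069 := rfl
theorem F378769 : act 7 n190069 = n97077 := d11_2 F348968 D190069 (iv4 F361121)
theorem F378770 : act 1 n190069 = n133372 := d18_6 (iv1 F71653) F314847 (iv1 F348962) (iv4 D95604) D95605 D190069 F358455 (iv0 F340381) F340382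
theorem F378771 : act 6 n163276 = n190069 := d14_5 F378769 (iv6 D97077) F71546 D95617 F344658
def n190070 : Q := act 6 n95605
theorem D190070 : act 6 n95605 = n190070 := rfl
theorem F378772 : act 4 n190070 = n163276 := d10_1 D190070 F378771 (iv4 D190069)
theorem F378773 : act 0 n104724 = n190070 := d21_4 (iv5 F76126) (iv1 F76129) D48422 D104724 (iv6 D190070) (iv5 D95605) (iv1 D44649) D44650 F70201 D44658
def n190071 : Q := act 5 n95606
theorem D190071 : act 5 n95606 = n190071 := rfl
theorem F378774 : act 0 n190071 = n170428 := d17_2 (iv1 F378658) D190071 (iv5 D170428) (iv4 D81709) D81710 (iv0 F319121) (iv5 D127503) (iv0 F204931) (iv4 F378656)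
theorem F378775 : act 1 n190071 = n170410 := d17_6 (iv1 F334457) (iv5 F334481) D142828 F348976 (iv4 F348971) D190071 (iv5 D170410) F332548 (iv4 F134288)
def n190072 : Q := act 3 n95607
theorem D190072 : act 3 n95607 = n190072 := rfl
def n190073 : Q := act 4 n95607
theorem D190073 : act 4 n95607 = n190073 := rfl
theorem F378776 : act 1 n190073 = n97180 := d18_6 F317844 F315578 (iv1 F229484) (iv4 F377997) F377998 D190073 (iv4 D97180) (iv0 F319357) (iv5 D59930)
def n190074 : Q := act 6 n95607
theorem D190074 : act 6 n95607 = n190074 := rfl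
theorem F378777 : act 0 n190074 = n187324 := d21_4 F369938 (iv1 F378001) F377998 D190074 (iv6 D187324) F138039 (iv1 F147118) (iv5 F149755) F361120 (iv1 F369939)
theorem F378778 : act 5 n190074 = n103912 := d21_6 (iv5 D44656) (iv1 D21255) D21256 (iv6 F70201) D95607 D190074 (iv1 D103912) D103913 F159345 (iv1 F75587)
def n190075 : Q := act 3 n95608
theorem D190075 : act 3 n95608 = n190075 := rfl
def n190076 : Q := act 4 n95608
theorem D190076 : act 4 n95608 = n190076 := rfl
theorem F378779 : act 5 n190076 = n144547 := d16_1 D190076 F354134 (iv5 D174954) (iv4 F306740) (iv5 F229482) (iv4 F377997) F377998 F361125 F361124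
theorem F378780 : act 0 n190076 = n97180 := d17_0 F364595 (iv1 F364593) F364592 F361147 (iv5 D95600) (iv0 D44648) D44650 D95608 D190076
theorem F378781 : act 3 n144552 = n190076 := d6_3 F378779 F227408 D144552
def n190077 : Q := act 0 n95609
theorem D190077 : act 0 n95609 = n190077 := rfl
theorem F378782 : act 5 n190077 = n128067 := d17_1 D190077 (iv1 F369954) (iv5 D187359) D187358 F369949 F378000 F377998 (iv0 D95607) D95609
theorem F378783 : act 4 n190077 = n95770 := d18_3 (iv1 D95608) D95609 D190077 F317111 F94413 F94374 D127530 (iv0 F320029) F148328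
theorem F378784 : act 2 n128261 = n190077 := d1_3 F378783 F366329 F366330
theorem F378785 : act 7 n127633 = n190077 := d11_0 F378783 F317112 D127633
theorem F378786 : act 6 n187326 = n190077 := d21_5 F340382 (iv1 F71653) (iv5 F147458) (iv6 F369602) (iv1 F369841) F378782 (iv1 F369954) (iv5 D187359) (iv6 F369931) (iv1 D187352)
theorem F378787 : act 2 n187241 = n187326 := d3_3 F378786 (iv2 F378784) F369792
theorem F378788 : act 7 n187325 = n187241 := d15_2 F369841 F369844 F378787
theorem F378789 : act 7 n187240 = n187326 := d15_2 F369845 F369846 (iv2 F378787)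
theorem F378790 : act 2 n187325 = n187240 := d4_3 F378789 (iv2 F378787) (iv7 F378788)
def n190078 : Q := act 1 n95609
theorem D190078 : act 1 n95609 = n190078 := rfl
theorem F378791 : act 7 n190078 = n128261 := d15_2 (iv0 D190077) D190078 F378784
theorem F378792 : act 4 n190078 = n95771 := d18_7 (iv1 F71654) (iv4 F319120) (iv1 D81683) F58272 D44650 D95609 D190078 F149922 F149920
theorem F378793 : act 2 n127633 = n190078 := d1_3 F378792 F317113 D127633
theorem F378794 : act 5 n128262 = n190078 := d9_0 F378792 (iv5 F318859) F94370 F45981 (iv4 F46175) D60181 D128067 (iv5 F378782) F378783 F317111 F94413 F45989 (iv4 F46212) (iv5 F94836) (iv4 F206383)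
def n190079 : Q := act 3 n95609
theorem D190079 : act 3 n95609 = n190079 := rfl
theorem F378795 : act 6 n190079 = n95631 := d7_2 (iv6 F147278) D190079 (iv3 D95631)
def n190080 : Q := act 5 n95609
theorem D190080 : act 5 n95609 = n190080 := rfl
theorem F378796 : act 2 n190080 = n128325 := d2_1 D190080 (iv5 F340393) F149726
theorem F378797 : act 4 n190080 = n128079 := d16_2 D95609 D190080 (iv5 D128079) (iv4 D60189) D60190 (iv4 F318176) (iv5 F149729) (iv7 D97068) F71525
theorem F378798 : act 0 n190080 = n103217 := d17_2 (iv1 D190078) D190080 F158465 F358005 (iv5 D95763) (iv0 D44723) D44725 D95771 (iv4 F378792)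
theorem F378799 : act 1 n190080 = n174569 := d17_6 F361095 (iv5 D95605) (iv1 D44649) D44650 D95609 D190080 F358006 F369793 F369791
theorem F378800 : act 7 n128290 = n190080 := d11_0 F378797 F206123 D128290
def n190081 : Q := act 7 n95609
theorem D190081 : act 7 n95609 = n190081 := rfl
theorem F378801 : act 4 n190081 = n95610 := d11_1 D190081 (iv7 D95610) D95609
theorem F378802 : act 5 n190081 = n128290 := d13_1 D190081 F378800 (iv5 D190080)
theorem F378803 : act 1 n127633 = n190081 := d15_1 F340394 (iv7 D190081) (iv2 F149726)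
theorem F378804 : act 1 n190081 = n128261 := d15_1 F378803 (iv7 F378791) (iv2 F378793)
def n190082 : Q := act 4 n95611
theorem D190082 : act 4 n95611 = n190082 := rfl
theorem F378805 : act 2 n190082 = n187044 := d1_1 D190082 F368904 F367271
theorem F378806 : act 3 n190082 = n172216 := d5_1 D190082 (iv4 F369760) (iv3 D187302) D187303 F369767
theorem F378807 : act 6 n190082 = n186482 := d10_2 F344217 D190082 F344215
theorem F378808 : act 7 n190082 = n172212 := d11_2 (iv7 F289559) D190082 F270416
theorem F378809 : act 0 n185980 = n190082 := d20_10 (iv4 D190082) (iv1 F149744) (iv4 F149749) F149748 F335691 (iv3 F151808) F151809 D98379 F364401 D185980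
def n190083 : Q := act 5 n95611
theorem D190083 : act 5 n95611 = n190083 := rfl
def n190084 : Q := act 5 n95613
theorem D190084 : act 5 n95613 = n190084 := rfl
theorem F378810 : act 2 n190084 = n95614 := d2_1 D190084 (iv5 D95614) D95613
theorem F378811 : act 3 n190084 = n95653 := d6_1 D190084 (iv5 D95653) (iv3 F147280)
def n190085 : Q := act 6 n95613
theorem D190085 : act 6 n95613 = n190085 := rfl
theorem F378812 : act 2 n190085 = n95615 := d3_1 D190085 (iv6 D95615) D95613
theorem F378813 : act 3 n190085 = n95654 := d7_1 D190085 (iv6 D95654) (iv3 F147280)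
theorem F378814 : act 4 n190085 = n186642 := d10_1 D190085 F367530 F151744
def n190086 : Q := act 0 n95614
theorem D190086 : act 0 n95614 = n190086 := rfl
theorem F378815 : act 5 n190086 = n185469 := d21_2 D95614 D190086 (iv6 F363038) F154962 (iv6 D87853) D87852 F134837 (iv5 D87459) D87460 (iv1 F289556)
def n190087 : Q := act 1 n95614
theorem D190087 : act 1 n95614 = n190087 := rfl
def n190088 : Q := act 4 n95614
theorem D190088 : act 4 n95614 = n190088 := rfl
theorem F378816 : act 3 n190088 = n173334 := d5_1 D190088 (iv4 D173334) (iv3 F326714) (iv4 D95616) (iv3 F147281)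
theorem F378817 : act 7 n190088 = n174586 := d11_2 F149751 D190088 (iv4 F364880)
theorem F378818 : act 5 n174587 = n190088 := d13_3 F378817 (iv5 D174586) D174587
def n190089 : Q := act 6 n95614
theorem D190089 : act 6 n95614 = n190089 := rfl
theorem F378819 : act 3 n190089 = n95617 := d7_1 D190089 (iv6 D95617) (iv3 F147281)
def n190090 : Q := act 0 n95615
theorem D190090 : act 0 n95615 = n190090 := rfl
theorem F378820 : act 4 n190090 = n176702 := d20_2 (iv4 F147283) D190090 (iv3 D176702) F327384 F74628 (iv4 F64371) (iv1 F127437) F127434 (iv3 F157426) F157431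
theorem F378821 : act 3 n190090 = n176696 := d20_5 F292056 F291281 (iv4 F70202) (iv3 F147282) D190090 (iv4 D176696) D176694 F343022 F343021 F292798
theorem F378822 : act 5 n189864 = n190090 := d6_0 F378821 F348560 (iv3 F378036)
theorem F378823 : act 6 n96051 = n190090 := d7_0 F378821 F348572 (iv3 F147665)
def n190091 : Q := act 1 n95615
theorem D190091 : act 1 n95615 = n190091 := rfl
def n190092 : Q := act 6 n95616
theorem D190092 : act 6 n95616 = n190092 := rfl
theorem F378824 : act 3 n190092 = n173335 := d7_1 D190092 (iv6 D173335) (iv3 F326714)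
theorem F378825 : act 4 n190092 = n95617 := d10_1 D190092 (iv6 D95617) D95616
theorem F378826 : act 5 n190092 = n176737 := d12_1 D190092 (iv6 D176737) (iv5 D84259) (iv6 F127834) (iv5 F326715)
theorem F378827 : act 7 n190092 = n190070 := d14_2 F149756 D190092 (iv6 D190070) (iv7 F348968) (iv6 F361120)
theorem F378828 : act 0 n190092 = n104705 := d21_4 (iv5 F76056) F326710 (iv5 F326715) D190092 (iv6 D104705) (iv5 D48411) (iv1 F63083) (iv5 F71552) (iv6 F328706) F147308
theorem F378829 : act 1 n190092 = n187278 := d15_1 (iv0 F378828) F369688 F160427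
def n190093 : Q := act 5 n95618
theorem D190093 : act 5 n95618 = n190093 := rfl
theorem F378830 : act 2 n190093 = n95657 := d2_1 D190093 F147354 F147287
theorem F378831 : act 7 n190093 = n95645 := d13_2 (iv7 F147286) D190093 (iv5 D95645)
theorem F378832 : act 0 n190093 = n95628 := d17_2 (iv1 F147289) D190093 F147306 F74565 D47378 D102005 F335751 F136252 (iv4 F70253)
theorem F378833 : act 0 n95655 = n190093 := d21_1 F158635 (iv5 D190093) (iv6 F147288) (iv1 F137981) D97003 (iv5 F159223) (iv1 D103353) (iv5 D47894) D47895 D103356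
def n190094 : Q := act 5 n95619
theorem D190094 : act 5 n95619 = n190094 := rfl
theorem F378834 : act 2 n190094 = n95620 := d2_1 D190094 (iv5 D95620) D95619
theorem F378835 : act 7 n190094 = n95653 := d13_2 (iv7 F147291) D190094 (iv5 D95653)
theorem F378836 : act 4 n190094 = n187919 := d16_2 (iv4 F147290) D190094 (iv5 D187919) F139594 (iv5 F347696) (iv4 D89367) (iv5 D41732) (iv7 F63933) D88858
theorem F378837 : act 1 n190094 = n103357 := d17_6 D47376 (iv5 F357146) (iv1 F289506) (iv5 D186565) (iv4 F147290) D190094 (iv5 D103357) (iv0 F76114) F74565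
theorem F378838 : act 0 n190094 = n186896 := d21_1 D190094 F368449 (iv6 F367062) (iv1 D181884) F291787 F158650 F147377 (iv5 D89884) (iv6 F70256) (iv1 F147292)
def n190095 : Q := act 0 n95620
theorem D190095 : act 0 n95620 = n190095 := rfl
theorem F378839 : act 3 n190095 = n95675 := d20_5 D89844 (iv1 F147299) (iv4 D95622) (iv3 F147294) D190095 (iv4 F369631) (iv1 D187250) (iv4 D89841) F64759 D41971
theorem F378840 : act 5 n190095 = n103358 := d21_2 D95620 D190095 F294694 (iv1 F283181) (iv6 F352884) F159339 F369740 (iv5 D187293) F147288 (iv1 D95618)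
theorem F378841 : act 1 n95653 = n190095 := d15_0 (iv0 D190095) F147295 (iv2 F147350)
theorem F378842 : act 2 n186896 = n190095 := d2_3 F378840 F158642 (iv5 F368449)
theorem F378843 : act 7 n103357 = n190095 := d13_0 F378840 (iv7 D103358) D103357
def n190096 : Q := act 1 n95620
theorem D190096 : act 1 n95620 = n190096 := rfl
theorem F378844 : act 1 n190096 = n95653 := d15_1 D190096 (iv7 F378835) F378834
theorem F378845 : act 7 n190096 = n186896 := d15_2 (iv0 D190095) D190096 F378842
theorem F378846 : act 5 n190096 = n103351 := d17_7 (iv1 F335342) F362403 (iv1 D186568) (iv5 D88859) (iv4 F70203) D95620 D190096 F158637 F148323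
theorem F378847 : act 2 n103357 = n190096 := d2_3 F378846 F158628 D103357
def n190097 : Q := act 4 n95620
theorem D190097 : act 4 n95620 = n190097 := rfl
theorem F378848 : act 2 n190097 = n187919 := d1_1 D190097 (iv4 F378836) F378834
theorem F378849 : act 7 n190097 = n186897 := d11_2 (iv7 F147295) D190097 (iv4 D186897)
theorem F378850 : act 5 n190097 = n187537 := d16_1 D190097 F370721 (iv5 F368424) (iv4 D186891) (iv5 D89361) (iv4 F70253) D95653 (iv7 F378835) F378834
def n190098 : Q := act 6 n95620
theorem D190098 : act 6 n95620 = n190098 := rfl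
theorem F378851 : act 3 n190098 = n95623 := d7_1 D190098 (iv6 D95623) (iv3 F147294)
def n190099 : Q := act 1 n95623
theorem D190099 : act 1 n95623 = n190099 := rfl
theorem F378852 : act 1 n190099 = n190069 := d15_1 D190099 F378769 F149759
theorem F378853 : act 4 n190099 = n187352 := d18_7 (iv1 D45413) (iv4 F71180) (iv1 F334069) (iv4 D95599) D95600 (iv4 F361147) D190099 F369927 (iv5 D97176)
theorem F378854 : act 6 n187358 = n190099 := d21_3 (iv5 F377998) (iv1 F378000) (iv5 F369949) (iv1 D190099) (iv6 D95623) (iv5 D44656) (iv1 D21255) D21256 (iv6 F70201) D95607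
def n190100 : Q := act 7 n95623
theorem D190100 : act 7 n95623 = n190100 := rfl
theorem F378855 : act 2 n190100 = n190069 := d4_1 D190100 F378769 F149759
theorem F378856 : act 4 n190100 = n97063 := d11_1 D190100 (iv7 F361117) (iv4 F361147)
theorem F378857 : act 6 n190100 = n160903 := d14_1 D190100 (iv7 F344662) (iv6 D97070) F71533 D95623
def n190101 : Q := act 0 n95625
theorem D190101 : act 0 n95625 = n190101 := rfl
def n190102 : Q := act 2 n95625
theorem D190102 : act 2 n95625 = n190102 := rfl
theorem F378858 : act 3 n190102 = n95655 := d0_2 D95625 D190102 (iv2 F149762) (iv3 D97078) F71556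
def n190103 : Q := act 4 n95625
theorem D190103 : act 4 n95625 = n190103 := rfl
theorem F378859 : act 0 n97125 = n190103 := d20_7 D89885 F340376 (iv4 F340377) (iv3 F71618) (iv1 D45402) (iv3 F71604) D97125 (iv4 D190103) (iv3 D95625) (iv1 F70207)
def n190104 : Q := act 6 n95625
theorem D190104 : act 6 n95625 = n190104 := rfl
theorem F378860 : act 3 n190104 = n95627 := d7_1 D190104 (iv6 D95627) D95625
theorem F378861 : act 5 n190104 = n188480 := d12_1 D190104 (iv6 F373635) (iv5 D188471) F294096 F160403
def n190105 : Q := act 1 n95627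
theorem D190105 : act 1 n95627 = n190105 := rfl
theorem F378862 : act 1 n190105 = n189236 := d15_1 D190105 F376174 F149763
theorem F378863 : act 4 n190105 = n104712 := d18_7 D185703 F367200 (iv1 D93793) D93794 D189236 F376175 D190105 (iv0 D104712) (iv5 F293032)
def n190106 : Q := act 2 n95628
theorem D190106 : act 2 n95628 = n190106 := rfl
theorem F378864 : act 5 n190106 = n96363 := d2_2 (iv5 F147306) D190106 F148322
theorem F378865 : act 6 n190106 = n174608 := d3_2 F348937 D190106 (iv2 F301428)
theorem F378866 : act 7 n190106 = n95655 := d4_2 F149760 D190106 (iv2 F149762)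
theorem F378867 : act 1 n190106 = n95657 := d15_0 (iv0 F149761) F149760 D190106
theorem F378868 : act 1 n95645 = n190106 := d15_0 F378867 (iv7 D95657) (iv2 F147340)
def n190107 : Q := act 4 n95628
theorem D190107 : act 4 n95628 = n190107 := rfl
def n190108 : Q := act 3 n95629
theorem D190108 : act 3 n95629 = n190108 := rfl
theorem F378869 : act 5 n190108 = n136504 := d6_2 F148079 D190108 F340608
theorem F378870 : act 6 n190108 = n97080 := d7_2 (iv6 F328706) D190108 (iv3 D97080)
theorem F378871 : act 0 n111994 = n190108 := d17_2 (iv1 F326039) D111994 F378869 (iv4 D136504) (iv5 D64170) (iv0 D30237) (iv5 F39422) F39424 (iv4 F325064)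
theorem F378872 : act 1 n174694 = n190108 := d15_0 (iv0 F378871) F174071 (iv2 F365862)
def n190109 : Q := act 0 n95631
theorem D190109 : act 0 n95631 = n190109 := rfl
def n190110 : Q := act 1 n95631
theorem D190110 : act 1 n95631 = n190110 := rfl
def n190111 : Q := act 2 n95631
theorem D190111 : act 2 n95631 = n190111 := rfl
def n190112 : Q := act 5 n95632
theorem D190112 : act 5 n95632 = n190112 := rfl
theorem F378873 : act 2 n190112 = n182917 := d2_1 D190112 (iv5 D182917) (iv2 F147311)
theorem F378874 : act 3 n190112 = n186443 := d6_1 D190112 (iv5 D186443) (iv3 F147312)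
theorem F378875 : act 6 n190112 = n174746 := d12_2 D95632 D190112 (iv5 D174746) (iv6 D83490) F71577
theorem F378876 : act 7 n190112 = n183118 := d13_2 (iv7 F157244) D190112 (iv5 D183118)
theorem F378877 : act 0 n190112 = n98917 := d17_2 (iv1 F157243) D190112 F367098 F283173 (iv5 F375678) F375676 (iv5 D95643) F70453 (iv4 F70436)
theorem F378878 : act 1 n190112 = n182038 := d17_8 (iv1 F375693) F367900 F374707 F374706 (iv4 F372731) (iv5 D98903) (iv0 F157242) D190112 (iv4 F375692)
def n190113 : Q := act 5 n95633
theorem D190113 : act 5 n95633 = n190113 := rfl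
theorem F378879 : act 2 n190113 = n182916 := d2_1 D190113 (iv5 D182916) (iv2 F147313)
theorem F378880 : act 3 n190113 = n98294 := d6_1 D190113 (iv5 D98294) (iv3 F147314)
theorem F378881 : act 6 n190113 = n174722 := d12_2 D95633 D190113 (iv5 D174722) (iv6 D83482) F71633
theorem F378882 : act 7 n190113 = n183479 := d13_2 (iv7 F157613) D190113 (iv5 D183479)
theorem F378883 : act 0 n190113 = n96465 := d17_2 (iv1 F157612) D190113 (iv5 D96465) F70889 D88411 (iv0 F294698) (iv5 D95559) (iv0 F136693) (iv4 F134462)
theorem F378884 : act 0 n183503 = n190113 := d21_7 F304610 F302021 (iv5 F72915) D87740 F157773 (iv6 F367038) F367080 (iv5 D190113) (iv6 D95633) (iv1 D44662)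
theorem E103420 : n129663 = n129161 := ((c19_16 F378883 (iv5 D96465) F70889 (iv3 D41274) (iv1 F61359) (iv5 F291788) D97434 (iv3 F327063) (iv1 F202016) (iv5 D125585) F92955 F45204 (iv1 F163881) F163882 F163879 D129161 (iv1 D129663) D129664 (iv4 F345002) (iv3 F378880))).symm
theorem F378885 : act 0 n129161 = n60906 := (sb E103420 (iv1 D129663))
def n190114 : Q := act 5 n95634
theorem D190114 : act 5 n95634 = n190114 := rfl
theorem F378886 : act 2 n190114 = n188121 := d2_1 D190114 F372377 F367599
theorem F378887 : act 3 n190114 = n186487 := d6_1 D190114 (iv5 D186487) (iv3 F147315)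
theorem F378888 : act 4 n190114 = n187112 := d17_4 (iv1 D153342) (iv5 F306631) D95634 D190114 F369123 (iv0 F178045) (iv5 D114125) D114124 F355679
theorem F378889 : act 6 n190114 = n187111 := d21_9 (iv5 F347712) F157130 F290981 (iv6 F108976) (iv1 D72449) D72450 (iv5 F306631) D95634 D190114 F369119
theorem F378890 : act 0 n189889 = n190114 := d20_10 F378888 (iv1 F372369) (iv4 D186900) F368216 (iv1 D186841) F136965 D89244 (iv1 F368201) F368203 (iv3 F378118)
def n190115 : Q := act 6 n95634
theorem D190115 : act 6 n95634 = n190115 := rfl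
theorem F378891 : act 2 n190115 = n183487 := d3_1 D190115 (iv6 F378212) F367599
theorem F378892 : act 3 n190115 = n186488 := d7_1 D190115 (iv6 D186488) (iv3 F147315)
theorem F378893 : act 0 n190115 = n183481 := d21_4 D189889 F378890 (iv5 D190114) D190115 (iv6 D183481) D183480 (iv1 F378130) (iv5 D189891) F378131 (iv1 D189888)
theorem F378894 : act 5 n190115 = n185310 := d21_6 F72500 F302142 (iv5 F304610) D44663 D95634 D190115 (iv1 F378195) (iv5 D189908) (iv6 D95433) (iv1 F70102)
theorem F378895 : act 6 n97986 = n185310 := d12_4 (iv6 D190115) D190114 F378889 F369117 (iv5 F378894)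
theorem F378896 : act 2 n185310 = n102359 := d3_1 F378895 (iv6 D102359) F151038
theorem F378897 : act 4 n185310 = n99939 := d10_1 F378895 (iv6 D99939) (iv4 F151037)
theorem F378898 : act 0 n99939 = n100743 := d18_2 D185310 F378897 (iv4 D100743) (iv5 D46978) (iv4 F74192) D100724 F289700 (iv0 D88288) D88291
theorem F378899 : act 7 n189912 = n185310 := d15_2 F378194 F378215 F378896
theorem F378900 : act 7 n185311 = n102359 := d15_2 (iv0 D185310) D185311 (iv2 F378896)
theorem F378901 : act 2 n189912 = n185311 := d4_3 F378900 (iv2 F378896) (iv7 F378899)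
theorem F378902 : act 7 n190115 = n183486 := d13_2 F378899 (iv5 F378894) (iv5 F378216)
theorem F378903 : act 0 n182258 = n190115 := d17_0 F378894 (iv1 F378195) (iv5 D189908) F147048 D95454 F160475 (iv5 F160477) F147771 (iv4 F283702)
def n190116 : Q := act 5 n95635
theorem D190116 : act 5 n95635 = n190116 := rfl
theorem F378904 : act 3 n190116 = n98312 := d6_1 D190116 (iv5 D98312) (iv3 F251783)
theorem F378905 : act 7 n190116 = n188121 := d13_2 F367600 D190116 F372377
theorem F378906 : act 0 n190116 = n189889 := d17_2 F367325 D190116 (iv5 D189889) (iv4 F291918) (iv5 F378840) (iv0 D190095) (iv5 D95620) D95618 (iv4 F367322)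
theorem F378907 : act 4 n190116 = n188122 := d18_5 D41728 D89353 F251837 F251834 D190116 F372385 (iv4 D186900) (iv0 D89365) (iv5 D41732)
theorem F378908 : act 6 n175167 = n190116 := d10_0 F378907 F372383 F349787
def n190117 : Q := act 6 n95635
theorem D190117 : act 6 n95635 = n190117 := rfl
theorem F378909 : act 2 n190117 = n183123 := d3_1 D190117 F374432 F367605
theorem F378910 : act 3 n190117 = n98313 := d7_1 D190117 (iv6 D98313) (iv3 F251783)
theorem F378911 : act 5 n184320 = n190117 := d21_2 F354446 (iv1 F354450) (iv6 D190117) (iv1 D95635) (iv6 D44663) F304610 F302021 (iv5 F72915) D87740 F157773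
theorem F378912 : act 0 n190117 = n103328 := d17_2 (iv1 F354450) F378911 F292850 (iv4 F329993) F154899 F148293 (iv5 F375517) (iv0 F375521) F354452
theorem F378913 : act 1 n190117 = n98904 := d17_8 (iv1 D184384) (iv5 F294884) (iv1 D103904) (iv5 D48104) (iv4 F63055) D87913 D184320 F378911 (iv4 F357433)
theorem F378914 : act 7 n183124 = n190117 := d8_0 F378910 (iv7 F367146) (iv3 F375505)
def n190118 : Q := act 5 n95644
theorem D190118 : act 5 n95644 = n190118 := rfl
theorem F378915 : act 2 n190118 = n95651 := d2_1 D190118 (iv5 D95651) (iv2 F147338)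
theorem F378916 : act 3 n190118 = n114863 := d6_1 D190118 (iv5 D114863) (iv3 F147339)
theorem F378917 : act 6 n190118 = n95645 := d12_2 D95644 D190118 (iv5 D95645) (iv6 D44675) D44674
def n190119 : Q := act 4 n95645
theorem D190119 : act 4 n95645 = n190119 := rfl
theorem F378918 : act 2 n190119 = n95656 := d1_1 D190119 (iv4 D95656) (iv2 F147340)
theorem F378919 : act 5 n190119 = n187921 := d16_1 D190119 (iv4 D187921) F368679 F368676 (iv5 F357339) F137664 (iv5 F147354) (iv7 D95657) (iv2 F147340)
def n190120 : Q := act 0 n95647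
theorem D190120 : act 0 n95647 = n190120 := rfl
theorem F378920 : act 3 n190120 = n106135 := d20_5 F352747 D166477 (iv4 F378639) F378638 D190120 (iv4 F259181) (iv1 F235295) (iv4 F314186) (iv3 F352737) (iv1 F352744)
theorem F378921 : act 4 n190120 = n186583 := d20_0 (iv1 D186583) F136280 (iv3 F157098) F357185 (iv3 F352746) F352747 D166477 (iv4 F378639) F378638 D190120
theorem F378922 : act 2 n100793 = n190120 := d15_3 (iv0 D190120) (iv0 F378671) F378670
theorem F378923 : act 1 n100796 = n190120 := d15_0 (iv0 D190120) (iv7 F368998) F368996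
theorem F378924 : act 7 n190120 = n100794 := d15_2 (iv0 F378673) F378923 (iv2 F378669)
def n190121 : Q := act 5 n95647
theorem D190121 : act 5 n95647 = n190121 := rfl
theorem F378925 : act 2 n190121 = n100795 := d2_1 D190121 (iv5 D100795) (iv2 F147345)
theorem F378926 : act 3 n190121 = n119158 := d6_1 D190121 (iv5 F378640) F378638
theorem F378927 : act 6 n190121 = n96350 := d12_2 D95647 D190121 (iv5 D96350) (iv6 D44989) (iv5 F70248)
def n190122 : Q := act 7 n95648
theorem D190122 : act 7 n95648 = n190122 := rfl
theorem F378928 : act 2 n190122 = n186867 := d4_1 D190122 (iv7 D186867) F308359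
theorem F378929 : act 4 n190122 = n95652 := d11_1 D190122 (iv7 D95652) (iv4 F147346)
theorem F378930 : act 5 n190122 = n100647 := d13_1 D190122 F289426 (iv5 F307497)
theorem F378931 : act 6 n190122 = n186869 := d14_1 D190122 (iv7 D186869) (iv6 D89330) F306545 D95648
theorem F378932 : act 1 n186866 = n190122 := d15_1 D186866 (iv7 D190122) (iv2 F308359)
theorem F378933 : act 1 n190122 = n186865 := d15_1 F378932 (iv7 F368347) F368349
def n190123 : Q := act 4 n95649
theorem D190123 : act 4 n95649 = n190123 := rfl
theorem F378934 : act 2 n190123 = n155493 := d1_1 D190123 (iv4 F361109) F361106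
theorem F378935 : act 6 n190123 = n102645 := d10_2 (iv6 F348933) D190123 F322923
theorem F378936 : act 0 n161571 = n190123 := d20_10 (iv4 D190123) F378756 F378755 F368351 (iv1 D123866) (iv3 D57718) D57719 F341418 (iv4 F116506) (iv3 F255567)
def n190124 : Q := act 0 n95651
theorem D190124 : act 0 n95651 = n190124 := rfl
theorem F378937 : act 5 n190124 = n187076 := d17_3 F361105 D95651 D190124 F369044 F137236 D100558 F366787 (iv0 F378764) (iv4 D190066)
def n190125 : Q := act 1 n95651
theorem D190125 : act 1 n95651 = n190125 := rfl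
def n190126 : Q := act 4 n95651
theorem D190126 : act 4 n95651 = n190126 := rfl
theorem F378938 : act 6 n190126 = n95656 := d10_2 (iv6 F147348) D190126 (iv4 D95656)
def n190127 : Q := act 7 n95651
theorem D190127 : act 7 n95651 = n190127 := rfl
theorem F378939 : act 3 n190127 = n95671 := d8_1 D190127 (iv7 D95671) (iv3 F147347)
theorem F378940 : act 5 n190127 = n95652 := d13_1 D190127 (iv7 D95652) D95651
def n190128 : Q := act 4 n95653
theorem D190128 : act 4 n95653 = n190128 := rfl
theorem F378941 : act 2 n190128 = n186897 := d1_1 D190128 (iv4 D186897) (iv2 F147350)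
theorem F378942 : act 5 n190128 = n187920 := d9_2 D95653 D190128 F371838 (iv5 F347695) (iv4 D186569) (iv5 D88859) (iv4 F70203) D95620 D190097 F378850 F370721 (iv5 F368424) (iv4 D186891) (iv5 D89361) (iv4 F70253)
theorem F378943 : act 7 n190128 = n187919 := d11_2 F378835 D190128 (iv4 F378836)
def n190129 : Q := act 6 n95653
theorem D190129 : act 6 n95653 = n190129 := rfl
theorem F378944 : act 2 n190129 = n186898 := d3_1 D190129 (iv6 D186898) (iv2 F147350)
def n190130 : Q := act 4 n95655
theorem D190130 : act 4 n95655 = n190130 := rfl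
def n190131 : Q := act 6 n95655
theorem D190131 : act 6 n95655 = n190131 := rfl
def n190132 : Q := act 0 n95656
theorem D190132 : act 0 n95656 = n190132 := rfl
def n190133 : Q := act 1 n95656
theorem D190133 : act 1 n95656 = n190133 := rfl
def n190134 : Q := act 3 n95656
theorem D190134 : act 3 n95656 = n190134 := rfl
theorem F378945 : act 4 n190134 = n95693 := d5_2 D95656 D190134 (iv3 D95693) (iv4 D44694) (iv3 F70254)
theorem F378946 : act 0 n141968 = n190134 := d18_2 D66551 D141968 F378945 (iv5 F365369) F360800 F206710 (iv4 D66543) (iv0 D31057) D31059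
theorem F378947 : act 1 n141971 = n190134 := d18_6 (iv1 F352678) F352680 F111421 (iv4 F167648) F167646 D141971 F378945 F365373 (iv5 D156341)
def n190135 : Q := act 5 n95656
theorem D190135 : act 5 n95656 = n190135 := rfl
theorem F378948 : act 2 n190135 = n187921 := d2_1 D190135 (iv5 F378919) F378918
theorem F378949 : act 4 n187538 = n190135 := d16_0 (iv5 D190135) (iv4 D95656) (iv5 D44680) (iv4 F70214) F306631 (iv4 F178469) (iv5 F178532) F368682 F370722
theorem F378950 : act 7 n190135 = n187924 := d11_2 (iv7 F370723) F378949 (iv4 D187924)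
def n190136 : Q := act 7 n95656
theorem D190136 : act 7 n95656 = n190136 := rfl
theorem F378951 : act 4 n190136 = n95657 := d11_1 D190136 (iv7 D95657) D95656
theorem F378952 : act 5 n190136 = n187924 := d13_1 D190136 (iv7 F378950) (iv5 D190135)
def n190137 : Q := act 6 n95657
theorem D190137 : act 6 n95657 = n190137 := rfl
theorem F378953 : act 3 n190137 = n95696 := d7_1 D190137 (iv6 D95696) (iv3 F147353)
theorem F378954 : act 5 n190137 = n187296 := d12_1 D190137 (iv6 D187296) (iv5 D89884) (iv6 F70256) (iv5 F147354)
def n190138 : Q := act 4 n95659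
theorem D190138 : act 4 n95659 = n190138 := rfl
theorem F378955 : act 3 n190138 = n117246 := d5_1 D190138 F183467 (iv3 F105184) F321366 D95659
theorem F378956 : act 6 n190138 = n117244 := d10_2 (iv6 F366381) D190138 (iv4 F230656)
def n190139 : Q := act 5 n95659
theorem D190139 : act 5 n95659 = n190139 := rfl
theorem F378957 : act 3 n190139 = n95661 := d6_1 D190139 (iv5 D95661) D95659
def n190140 : Q := act 0 n95661
theorem D190140 : act 0 n95661 = n190140 := rfl
theorem F378958 : act 5 n190140 = n170429 := d17_3 D44682 D95661 D190140 F267893 (iv5 F319723) (iv0 D127936) (iv5 F103942) F315254 F58266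
theorem F378959 : act 1 n95666 = n190140 := d15_0 (iv0 D190140) F366337 F366195
def n190141 : Q := act 1 n95661
theorem D190141 : act 1 n95661 = n190141 := rfl
theorem F378960 : act 1 n190141 = n95666 := d15_1 D190141 (iv7 F366194) F366338
theorem F378961 : act 5 n189932 = n190141 := d21_6 D127421 (iv1 F320039) (iv5 D96375) D96376 (iv1 F361891) F378289 (iv1 D190141) (iv5 D95661) (iv6 F320997) F105181
theorem F378962 : act 4 n145364 = n190141 := d16_2 F228407 D145364 (iv5 F378961) F378288 F205882 (iv4 F340992) F363148 F363151 (iv2 F228405)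
def n190142 : Q := act 4 n95661
theorem D190142 : act 4 n95661 = n190142 := rfl
theorem F378963 : act 2 n190142 = n175030 := d1_1 D190142 F338161 F366338
theorem F378964 : act 5 n175029 = n190142 := d2_0 F378963 (iv5 D175030) D175029
def n190143 : Q := act 6 n95661
theorem D190143 : act 6 n95661 = n190143 := rfl
theorem F378965 : act 5 n190143 = n189859 := d12_1 D190143 (iv6 D189859) (iv5 F320996) F320997 D95661
theorem F378966 : act 4 n141907 = n190143 := d16_2 F322936 D141907 F378965 F378017 F344685 (iv4 F268175) (iv5 F322142) F322371 (iv2 F322369)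
theorem F378967 : act 0 n162667 = n190143 := d17_2 F344666 D162667 F378965 F378017 F344685 (iv0 F344677) (iv5 D163758) (iv0 F344676) F344667
theorem F378968 : act 6 n190142 = n141907 := d10_0 F378966 (iv6 D190143) D190142
theorem F378969 : act 3 n190143 = n160914 := d20_3 F369665 F351591 F378966 (iv1 D160914) (iv3 F348739) (iv4 D89847) (iv1 D41972) D41973 D89851 D187269
theorem F378970 : act 6 n160914 = n190139 := d7_2 D190143 F378969 F378957
def n190144 : Q := act 1 n95664
theorem D190144 : act 1 n95664 = n190144 := rfl
theorem F378971 : act 7 n190144 = n184193 := d15_2 (iv0 F364028) D190144 F286121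
theorem F378972 : act 3 n109568 = n190144 := d8_3 F378971 F286122 (iv7 F362086)
theorem F378973 : act 6 n109568 = n190144 := d14_5 F378971 (iv6 D184193) F134842 D183218 (iv7 F362086)
def n190145 : Q := act 2 n95664
theorem D190145 : act 2 n95664 = n190145 := rfl
theorem F378974 : act 4 n190145 = n154610 := d1_2 (iv4 F347831) D190145 F359973
theorem F378975 : act 6 n190145 = n179299 := d3_2 (iv6 F347832) D190145 F279198
def n190146 : Q := act 5 n95664
theorem D190146 : act 5 n95664 = n190146 := rfl
theorem F378976 : act 3 n190146 = n95666 := d6_1 D190146 (iv5 D95666) D95664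
def n190147 : Q := act 4 n95666
theorem D190147 : act 4 n95666 = n190147 := rfl
theorem F378977 : act 7 n190147 = n175030 := d11_2 F366194 D190147 F338161
theorem F378978 : act 5 n190147 = n175031 := d16_1 D190147 F360018 (iv5 F311175) F311174 F108806 F321366 D95661 F366337 F366195
theorem F378979 : act 3 n190147 = n175035 := d19_3 (iv1 F71442) D95666 D190147 (iv1 F273948) (iv5 D174548) (iv4 D83417) (iv3 F303388) (iv1 F206078) (iv5 F233863) (iv4 F240749) F240748 F242764 (iv5 F240735) (iv4 F317609) (iv3 F325987) (iv1 F43583) (iv5 F88592) (iv4 F149563) F149562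
def n190148 : Q := act 6 n95666
theorem D190148 : act 6 n95666 = n190148 := rfl
theorem F378980 : act 0 n104303 = n190148 := d21_4 (iv5 F75216) (iv1 F290958) D48271 D104303 (iv6 D190148) (iv5 D95666) (iv1 D44683) D44684 F70258 D44692
def n190149 : Q := act 0 n95667
theorem D190149 : act 0 n95667 = n190149 := rfl
theorem F378981 : act 4 n190149 = n127443 := d18_3 (iv1 F192110) (iv4 F347835) D190149 (iv5 F305226) F299903 (iv0 D45805) F301566 D85796 (iv5 F192107)
theorem F378982 : act 2 n120582 = n190149 := d15_3 (iv0 D190149) F378668 (iv7 F378666)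
theorem F378983 : act 1 n120557 = n190149 := d15_0 (iv0 D190149) F347836 (iv2 F192111)
theorem F378984 : act 7 n190149 = n120581 := d15_2 (iv0 F378667) F378983 (iv2 F378664)
def n190150 : Q := act 5 n95667
theorem D190150 : act 5 n95667 = n190150 := rfl
theorem F378985 : act 3 n190150 = n179313 := d6_1 D190150 (iv5 D179313) (iv3 F347834)
theorem F378986 : act 7 n190150 = n120584 := d13_2 (iv7 F347836) D190150 (iv5 D120584)
theorem F378987 : act 0 n190150 = n189847 := d17_2 (iv1 F378668) D190150 (iv5 D189847) F310158 D95892 F306435 F106863 (iv0 F307160) (iv4 F378665)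
theorem F378988 : act 1 n190150 = n130575 := d17_6 (iv1 F317856) F317859 F87798 (iv5 F87813) (iv4 F347835) D190150 F352652 (iv0 D95328) (iv4 F296545)
theorem F378989 : act 4 n190150 = n189714 := d18_5 (iv1 F335090) F335092 (iv1 F192110) (iv4 F347835) D190150 F378418 (iv4 D189979) F363587 (iv5 D146024)
theorem F378990 : act 4 n189969 = n179313 := d5_4 F378989 (iv3 D189714) D189715 (iv3 F378380) (iv3 F378985)
theorem F378991 : act 6 n179313 = n189968 := d10_2 D189969 F378990 (iv4 D189968)
def n190151 : Q := act 3 n95668
theorem D190151 : act 3 n95668 = n190151 := rfl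
theorem F378992 : act 5 n190151 = n187088 := d6_2 F378292 D190151 (iv3 F378290)
theorem F378993 : act 7 n190151 = n166701 := d8_2 (iv7 F364158) D190151 (iv3 F364153)
def n190152 : Q := act 4 n95668
theorem D190152 : act 4 n95668 = n190152 := rfl
theorem F378994 : act 1 n190152 = n97139 := d18_6 (iv1 F364480) (iv4 F364479) F248102 (iv4 F378291) F378292 D190152 (iv4 D97139) D97138 (iv5 F149862)
def n190153 : Q := act 6 n95668
theorem D190153 : act 6 n95668 = n190153 := rfl
def n190154 : Q := act 3 n95669
theorem D190154 : act 3 n95669 = n190154 := rfl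
theorem F378995 : act 2 n190154 = n109900 := d0_1 D190154 F365914 (iv2 F262384) (iv3 F364153) (iv2 F364156)
theorem F378996 : act 5 n190154 = n109865 := d6_2 F148057 D190154 (iv3 F344000)
theorem F378997 : act 6 n109868 = n190154 := d12_0 F378996 (iv6 D109865) (iv5 D50667) D50668 D109868
def n190155 : Q := act 4 n95669
theorem D190155 : act 4 n95669 = n190155 := rfl
theorem F378998 : act 5 n190155 = n145477 := d16_1 D190155 F341147 F304901 (iv4 F148947) F304897 (iv4 F378291) F378292 F364158 (iv2 F364156)
theorem F378999 : act 0 n190155 = n97139 := d18_2 (iv1 F149586) D190155 (iv4 D97139) (iv5 D45399) (iv4 F71229) (iv0 F338152) (iv4 D95665) F71442 (iv5 F149584)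
def n190156 : Q := act 6 n95669
theorem D190156 : act 6 n95669 = n190156 := rfl
theorem F379000 : act 2 n190156 = n166699 := d3_1 D190156 F364152 (iv2 F364156)
theorem F379001 : act 3 n190156 = n109868 := d7_1 D190156 F378997 (iv3 D190154)
theorem F379002 : act 5 n190156 = n109864 := d12_1 D190156 (iv6 D109864) F337312 D96260 F148057
def n190157 : Q := act 0 n95670
theorem D190157 : act 0 n95670 = n190157 := rfl
def n190158 : Q := act 1 n95670
theorem D190158 : act 1 n95670 = n190158 := rfl
theorem F379003 : act 4 n190158 = n95818 := d18_7 (iv1 F71613) (iv4 F324997) F315256 F58266 D44684 D95670 D190158 F149868 F149866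
theorem F379004 : act 5 n108198 = n190158 := d16_1 (iv4 F167317) F379003 (iv5 F149949) F341011 (iv5 F247958) (iv4 D157428) (iv5 F340810) F340812 (iv2 F324904)
theorem F379005 : act 3 n190158 = n108200 := d6_1 F379004 (iv5 D108200) (iv3 F167316)
def n190159 : Q := act 3 n95670
theorem D190159 : act 3 n95670 = n190159 := rfl
theorem F379006 : act 6 n190159 = n95693 := d7_2 (iv6 F147358) D190159 (iv3 D95693)
def n190160 : Q := act 5 n95670
theorem D190160 : act 5 n95670 = n190160 := rfl
theorem F379007 : act 4 n190160 = n128376 := d16_2 D95670 D190160 (iv5 F215345) F215344 (iv5 D128334) (iv4 F317069) (iv5 F149584) (iv7 D96994) F71437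
theorem F379008 : act 7 n128373 = n190160 := d11_0 F379007 (iv7 D128376) (iv4 F206494)
def n190161 : Q := act 7 n95670
theorem D190161 : act 7 n95670 = n190161 := rfl
theorem F379009 : act 4 n190161 = n95671 := d11_1 D190161 (iv7 D95671) D95670
theorem F379010 : act 5 n190161 = n128373 := d13_1 D190161 F379008 (iv5 D190160)
def n190162 : Q := act 6 n95671
theorem D190162 : act 6 n95671 = n190162 := rfl
theorem F379011 : act 5 n190162 = n187301 := d12_1 D190162 F369753 F149729 F71528 (iv5 F147359)
theorem F379012 : act 7 n190162 = n95696 := d14_2 D95671 D190162 (iv6 D95696) (iv7 D44695) (iv6 F70258)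
def n190163 : Q := act 1 n95672
theorem D190163 : act 1 n95672 = n190163 := rfl
theorem F379013 : act 1 n190163 = n187292 := d15_1 D190163 F369734 F149718
theorem F379014 : act 5 n190163 = n104721 := d17_7 F370953 F368798 (iv1 D187001) (iv5 D89461) (iv4 F70259) D95672 D190163 F160420 (iv4 F370951)
theorem F379015 : act 2 n104722 = n190163 := d2_3 F379014 (iv2 D104721) D104722
def n190164 : Q := act 6 n95674
theorem D190164 : act 6 n95674 = n190164 := rfl
theorem F379016 : act 2 n190164 = n103363 := d3_1 D190164 F158648 F147366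
theorem F379017 : act 5 n190164 = n103062 := d12_1 D190164 (iv6 D103062) (iv5 D47781) D47782 (iv5 F147364)
def n190165 : Q := act 6 n95675
theorem D190165 : act 6 n95675 = n190165 := rfl
theorem F379018 : act 2 n190165 = n104303 := d3_1 D190165 (iv6 D104303) (iv2 F291919)
theorem F379019 : act 4 n190165 = n124305 := d10_1 D190165 F369634 F369631
theorem F379020 : act 5 n190165 = n185959 := d12_1 D190165 (iv6 D185959) (iv5 D88581) (iv6 F294879) (iv5 F147369)
def n190166 : Q := act 3 n95676
theorem D190166 : act 3 n95676 = n190166 := rfl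
def n190167 : Q := act 6 n95676
theorem D190167 : act 6 n95676 = n190167 := rfl
theorem F379021 : act 4 n190167 = n95677 := d10_1 D190167 (iv6 D95677) D95676
theorem F379022 : act 5 n160415 = n190167 := d19_1 D160415 F379021 F326723 (iv1 D77213) (iv5 D35244) (iv4 D17102) F12780 (iv1 F9511) F9509 F4116 F2238 (iv1 F2234) (iv5 F2235) D1609 D3662 D8131 (iv5 F27991) D35138 D76899
def n190168 : Q := act 0 n95677
theorem D190168 : act 0 n95677 = n190168 := rfl
theorem F379023 : act 5 n190168 = n158024 := d21_2 (iv5 F326724) D190168 (iv6 F361141) F343704 F128369 D158059 (iv1 F348785) (iv5 D176731) (iv6 F354479) (iv1 D176708)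
def n190169 : Q := act 1 n95677
theorem D190169 : act 1 n95677 = n190169 := rfl
theorem F379024 : act 5 n190169 = n104651 := d17_7 F326839 (iv5 F358097) F358103 (iv5 D84259) (iv4 F129308) (iv5 F326724) D190169 F361130 (iv4 F174520)
theorem F379025 : act 4 n108774 = n190169 := d16_2 F168635 D108774 F379024 F160362 (iv5 F291965) (iv4 F254524) (iv5 F282296) (iv7 F356038) F341841
def n190170 : Q := act 4 n95679
theorem D190170 : act 4 n95679 = n190170 := rfl
theorem F379026 : act 2 n190170 = n186482 := d1_1 D190170 F344215 F344219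
theorem F379027 : act 3 n190170 = n180886 := d5_1 D190170 (iv4 F335738) D187044 F368904 F367272
theorem F379028 : act 6 n190170 = n187044 := d10_2 F367273 D190170 F368904
theorem F379029 : act 7 n190170 = n180879 := d11_2 (iv7 F344221) D190170 F281616
theorem F379030 : act 0 n190170 = n95754 := d20_1 D190170 (iv4 D95754) D95753 (iv1 F364382) F270402 F136800 D89086 F335743 (iv3 F149589) (iv1 F149594)
theorem F379031 : act 0 n95750 = n190170 := d20_10 (iv4 D190170) (iv1 D95679) F70264 (iv3 D41908) F63711 (iv3 F34599) F34600 D44050 D94232 (iv3 F147446)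
def n190171 : Q := act 5 n95679
theorem D190171 : act 5 n95679 = n190171 := rfl
theorem F379032 : act 0 n190171 = n95688 := d17_2 (iv1 F149594) D190171 F147378 F146977 (iv5 F284556) (iv0 F284557) F157444 F136302 (iv4 F149590)
def n190172 : Q := act 5 n95680
theorem D190172 : act 5 n95680 = n190172 := rfl
theorem F379033 : act 2 n190172 = n95681 := d2_1 D190172 (iv5 D95681) D95680
theorem F379034 : act 3 n190172 = n187292 := d6_1 D190172 (iv5 D187292) (iv3 F147371)
def n190173 : Q := act 0 n95681
theorem D190173 : act 0 n95681 = n190173 := rfl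
def n190174 : Q := act 1 n95681
theorem D190174 : act 1 n95681 = n190174 := rfl
def n190175 : Q := act 4 n95681
theorem D190175 : act 4 n95681 = n190175 := rfl
theorem F379035 : act 7 n190175 = n144166 := d11_2 F149596 D190175 F366205
theorem F379036 : act 5 n190175 = n144167 := d16_7 F182943 F330013 F346301 (iv5 D89723) (iv4 F70264) D95681 D190175 (iv7 D144167) (iv2 F182942)
theorem F379037 : act 1 n190175 = n151279 := d18_6 (iv1 D89834) (iv4 F136295) F136298 (iv4 F70264) D95681 D190175 F362036 (iv0 F369576) (iv5 D187231)
def n190176 : Q := act 6 n95681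
theorem D190176 : act 6 n95681 = n190176 := rfl
theorem F379038 : act 3 n190176 = n95684 := d7_1 D190176 (iv6 D95684) (iv3 F147373)
def n190177 : Q := act 0 n95682
theorem D190177 : act 0 n95682 = n190177 := rfl
theorem F379039 : act 1 n112024 = n190177 := d15_0 (iv0 D190177) F292163 (iv2 F340554)
theorem F379040 : act 5 n184203 = n190177 := d21_0 (iv1 F379039) (iv5 D112024) (iv6 D51663) D51660 D112017 F174120 F361285 D184197 F286125 D184203
def n190178 : Q := act 1 n95682
theorem D190178 : act 1 n95682 = n190178 := rfl
theorem F379041 : act 1 n190178 = n112024 := d15_1 D190178 (iv7 F340552) F340551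
theorem F379042 : act 5 n119266 = n190178 := d17_7 (iv1 D98993) (iv5 F73881) F134921 (iv5 D41005) (iv4 F62126) D87859 (iv0 F365408) F379041 (iv4 F340564)
theorem F379043 : act 3 n190178 = n119267 := d6_1 F379042 (iv5 D119267) D119266
theorem F379044 : act 6 n96052 = n190178 := d21_5 (iv5 F106446) (iv1 F148019) F148017 D96948 (iv1 F149507) (iv5 F379042) F365408 (iv5 D87859) (iv6 D40978) D40974
def n190179 : Q := act 3 n95683
theorem D190179 : act 3 n95683 = n190179 := rfl
theorem F379045 : act 5 n190179 = n141825 := d6_2 (iv5 F360811) D190179 F360817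
def n190180 : Q := act 6 n95683
theorem D190180 : act 6 n95683 = n190180 := rfl
theorem F379046 : act 4 n190180 = n95684 := d10_1 D190180 (iv6 D95684) D95683
def n190181 : Q := act 0 n95684
theorem D190181 : act 0 n95684 = n190181 := rfl
def n190182 : Q := act 1 n95684
theorem D190182 : act 1 n95684 = n190182 := rfl
def n190183 : Q := act 7 n95684
theorem D190183 : act 7 n95684 = n190183 := rfl
def n190184 : Q := act 4 n95685
theorem D190184 : act 4 n95685 = n190184 := rfl
def n190185 : Q := act 6 n95685
theorem D190185 : act 6 n95685 = n190185 := rfl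
theorem F379047 : act 3 n190185 = n95687 := d7_1 D190185 (iv6 D95687) D95685
def n190186 : Q := act 3 n95686
theorem D190186 : act 3 n95686 = n190186 := rfl
def n190187 : Q := act 6 n95686
theorem D190187 : act 6 n95686 = n190187 := rfl
theorem F379048 : act 4 n190187 = n95687 := d10_1 D190187 (iv6 D95687) D95686
def n190188 : Q := act 0 n95687
theorem D190188 : act 0 n95687 = n190188 := rfl
def n190189 : Q := act 1 n95687
theorem D190189 : act 1 n95687 = n190189 := rfl
def n190190 : Q := act 7 n95687
theorem D190190 : act 7 n95687 = n190190 := rfl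
def n190191 : Q := act 2 n95688
theorem D190191 : act 2 n95688 = n190191 := rfl
theorem F379049 : act 3 n190191 = n187294 := d0_2 D95688 D190191 (iv2 F369742) (iv3 D97009) F71469
theorem F379050 : act 5 n190191 = n189863 := d2_2 (iv5 F147378) D190191 F378033
def n190192 : Q := act 4 n95688
theorem D190192 : act 4 n95688 = n190192 := rfl
theorem F379051 : act 1 n190192 = n187236 := d18_6 (iv1 D104707) (iv4 F76107) F140607 (iv4 F146977) (iv5 F147378) D190192 (iv4 D187236) D187235 F369595
theorem F379052 : act 5 n138941 = n190192 := d19_1 D138941 (iv4 D190192) (iv3 D95688) (iv1 D44693) (iv5 D21281) F16005 (iv3 F16004) D21270 D44665 (iv4 F291284) (iv3 F369064) F369068 F356020 (iv4 F173602) F93045 (iv1 F45257) F38789 (iv4 F79063) (iv3 F100980)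
def n190193 : Q := act 6 n95688
theorem D190193 : act 6 n95688 = n190193 := rfl
theorem F379053 : act 3 n190193 = n95690 := d7_1 D190193 (iv6 D95690) D95688
theorem F379054 : act 5 n190193 = n189867 := d12_1 D190193 (iv6 D189867) (iv5 D95349) D95350 (iv5 F147378)
def n190194 : Q := act 3 n95689
theorem D190194 : act 3 n95689 = n190194 := rfl
def n190195 : Q := act 6 n95689
theorem D190195 : act 6 n95689 = n190195 := rfl
theorem F379055 : act 2 n190195 = n141914 := d3_1 D190195 F366255 (iv2 F147511)
theorem F379056 : act 4 n190195 = n95690 := d10_1 D190195 (iv6 D95690) D95689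
theorem F379057 : act 5 n150708 = n190195 := d16_1 F237266 F379056 F147380 (iv4 F344667) (iv5 D150242) F107187 (iv5 F52988) D73368 F110068
theorem F379058 : act 7 n190195 = n141915 := d13_2 (iv7 F237265) F379057 F322942
theorem F379059 : act 0 n190195 = n141917 := d17_2 (iv1 F242875) F379057 F224957 F102400 F316882 (iv0 F188309) (iv5 F94702) F190971 (iv4 F242873)
theorem F379060 : act 1 n190195 = n141888 := d17_6 (iv1 F322132) F322134 (iv1 F108902) (iv5 F109167) F237266 F379057 (iv5 D141888) D141887 F319313
def n190196 : Q := act 1 n95690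
theorem D190196 : act 1 n95690 = n190196 := rfl
def n190197 : Q := act 7 n95690
theorem D190197 : act 7 n95690 = n190197 := rfl
theorem F379061 : act 4 n190197 = n141915 := d11_1 D190197 (iv7 F379058) F379056
theorem F379062 : act 5 n190197 = n189871 := d13_1 D190197 (iv7 D189871) (iv5 F147380)
def n190198 : Q := act 6 n95695
theorem D190198 : act 6 n95695 = n190198 := rfl
theorem F379063 : act 4 n190198 = n95696 := d10_1 D190198 (iv6 D95696) (iv4 F147383)
def n190199 : Q := act 0 n95696
theorem D190199 : act 0 n95696 = n190199 := rfl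
def n190200 : Q := act 1 n95696
theorem D190200 : act 1 n95696 = n190200 := rfl
def n190201 : Q := act 4 n95697
theorem D190201 : act 4 n95697 = n190201 := rfl
theorem F379064 : act 2 n190201 = n187307 := d1_1 D190201 (iv4 D187307) (iv2 F147385)
def n190202 : Q := act 6 n95697
theorem D190202 : act 6 n95697 = n190202 := rfl
theorem F379065 : act 2 n190202 = n187308 := d3_1 D190202 (iv6 D187308) (iv2 F147385)
theorem F379066 : act 3 n190202 = n95700 := d7_1 D190202 (iv6 D95700) (iv3 F147386)
def n190203 : Q := act 3 n95699
theorem D190203 : act 3 n95699 = n190203 := rfl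
def n190204 : Q := act 6 n95699
theorem D190204 : act 6 n95699 = n190204 := rfl
theorem F379067 : act 2 n190204 = n187330 := d3_1 D190204 (iv6 D187330) (iv2 F147390)
theorem F379068 : act 4 n190204 = n95700 := d10_1 D190204 (iv6 D95700) D95699
def n190205 : Q := act 0 n95700
theorem D190205 : act 0 n95700 = n190205 := rfl
theorem F379069 : act 6 n190205 = n185739 := d21_5 F71625 (iv1 F63262) D44697 D95700 D190205 (iv5 D185739) (iv1 D88462) (iv5 F75899) (iv6 D48291) F290787
theorem F379070 : act 5 n190205 = n112971 := d21_8 F358248 (iv1 D185644) (iv5 F293296) (iv6 D48054) D48051 D103786 F159215 D190205 (iv6 D112971) D112968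
theorem F379071 : act 3 n112973 = n190205 := d6_3 F379070 F175924 D112973
theorem F379072 : act 7 n187332 = n190205 := d13_0 F379070 (iv7 F226821) F369858
theorem F379073 : act 2 n190205 = n187331 := d15_3 (iv0 D187331) D187332 F379072
def n190206 : Q := act 1 n95700
theorem D190206 : act 1 n95700 = n190206 := rfl
theorem F379074 : act 1 n190206 = n187333 := d15_1 D190206 (iv7 D187333) (iv2 F147391)
theorem F379075 : act 7 n190206 = n187331 := d15_2 (iv0 D190205) D190206 (iv2 F379073)
theorem F379076 : act 5 n103759 = n190206 := d21_6 (iv5 D23187) (iv1 D10915) D10916 (iv6 F36291) D48042 D103759 (iv1 D190206) (iv5 F159215) (iv6 D103786) (iv1 F75508)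
theorem F379077 : act 2 n190206 = n187332 := d2_1 F379076 (iv5 F369858) F361616
theorem F379078 : act 1 n187333 = n190205 := d15_1 F379074 (iv7 F379072) (iv2 F379077)
theorem F379079 : act 0 n144008 = n112971 := d21_10 (iv5 F379070) (iv1 F379078) (iv5 F373272) (iv6 F373465) (iv1 F373466) (iv6 D142435) D142434 (iv1 F226671) (iv5 D144007) D144008
def n190207 : Q := act 7 n95700
theorem D190207 : act 7 n95700 = n190207 := rfl
theorem F379080 : act 2 n190207 = n187333 := d4_1 D190207 (iv7 D187333) (iv2 F147391)
theorem F379081 : act 1 n187332 = n190207 := d15_1 D187332 (iv7 D190207) F147391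
theorem F379082 : act 1 n190207 = n187331 := d15_1 F379081 (iv7 F379075) F379077
def n190208 : Q := act 5 n95724
theorem D190208 : act 5 n95724 = n190208 := rfl
theorem F379083 : act 2 n190208 = n186441 := d2_1 D190208 (iv5 D186441) (iv2 F147418)
theorem F379084 : act 3 n190208 = n189620 := d6_1 D190208 (iv5 D189620) (iv3 F147419)
theorem F379085 : act 1 n190208 = n186778 := d17_6 (iv1 D88428) D88430 (iv1 F294041) (iv5 D95728) (iv4 F147420) D190208 F367975 F370943 (iv4 D185631)
theorem F379086 : act 1 n186778 = n188316 := d15_1 F379085 F373069 (iv2 F379083)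
def n190209 : Q := act 5 n95725
theorem D190209 : act 5 n95725 = n190209 := rfl
theorem F379087 : act 3 n190209 = n127109 := d6_1 D190209 F355232 (iv3 F147421)
theorem F379088 : act 6 n190209 = n95728 := d12_2 D95725 D190209 (iv5 D95728) (iv6 D44709) D44708
theorem F379089 : act 4 n190209 = n112992 := d16_6 F245132 F245130 F166055 D107642 F328856 D190209 (iv5 F245141) F245142 (iv2 F245139)
def n190210 : Q := act 4 n95728
theorem D190210 : act 4 n95728 = n190210 := rfl
theorem F379090 : act 3 n190210 = n180640 := d5_1 D190210 (iv4 D180640) (iv3 F281168) (iv4 F366983) F149896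
theorem F379091 : act 6 n190210 = n112992 := d10_2 F379088 D190210 (iv4 F379089)
def n190211 : Q := act 5 n95730
theorem D190211 : act 5 n95730 = n190211 := rfl
theorem F379092 : act 3 n190211 = n95735 := d6_1 D190211 (iv5 D95735) (iv3 F147422)
def n190212 : Q := act 5 n95731
theorem D190212 : act 5 n95731 = n190212 := rfl
theorem F379093 : act 3 n190212 = n138035 := d6_1 D190212 F357349 (iv3 F295389)
def n190213 : Q := act 0 n95738
theorem D190213 : act 0 n95738 = n190213 := rfl
def n190214 : Q := act 1 n95738
theorem D190214 : act 1 n95738 = n190214 := rfl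
theorem F379094 : act 1 n190214 = n95749 := d15_1 D190214 (iv7 D95749) (iv2 F147429)
theorem F379095 : act 3 n95795 = n190214 := d20_3 F251962 (iv1 F193579) (iv4 F193581) (iv1 D190214) F147430 (iv4 D52703) F290502 (iv4 F290504) F290503 (iv1 F251965)
theorem F379096 : act 7 n190214 = n95746 := d8_2 F373900 F379095 F373902
theorem F379097 : act 2 n95746 = n190213 := d15_3 (iv0 D190213) D190214 F379096
theorem F379098 : act 7 n95747 = n190213 := d15_2 (iv0 D95746) D95747 (iv2 F379097)
theorem F379099 : act 2 n190214 = n95747 := d4_3 F379098 (iv2 F379097) (iv7 F379096)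
theorem F379100 : act 1 n95749 = n190213 := d15_1 F379094 (iv7 F379098) (iv2 F379099)
def n190215 : Q := act 5 n95738
theorem D190215 : act 5 n95738 = n190215 := rfl
theorem F379101 : act 2 n190215 = n95748 := d2_1 D190215 (iv5 D95748) (iv2 F147429)
theorem F379102 : act 3 n190215 = n114177 := d6_1 D190215 (iv5 D114177) (iv3 F147430)
theorem F379103 : act 6 n190215 = n95739 := d12_2 D95738 D190215 (iv5 D95739) (iv6 D44715) D44714
theorem F379104 : act 4 n190215 = n187216 := d19_2 (iv1 D190214) D190215 (iv3 D187216) F137860 (iv5 D48400) (iv4 D23532) (iv3 F36648) D48387 (iv5 F76060) F291989 F291232 (iv1 F74588) F69219 (iv4 F290695) (iv3 F139579) F235287 F193580 (iv4 F193581) F379095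
theorem F379105 : act 7 n190047 = n190215 := d11_0 F379104 F369544 (iv4 F378636)
def n190216 : Q := act 7 n95738
theorem D190216 : act 7 n95738 = n190216 := rfl
theorem F379106 : act 2 n190216 = n95749 := d4_1 D190216 (iv7 D95749) (iv2 F147429)
theorem F379107 : act 3 n190216 = n114178 := d8_1 D190216 (iv7 D114178) (iv3 F147430)
theorem F379108 : act 5 n190216 = n190047 := d13_1 D190216 F379105 (iv5 D190215)
theorem F379109 : act 1 n95747 = n190216 := d15_1 D95747 (iv7 D190216) F147429
theorem F379110 : act 1 n190216 = n95746 := d15_1 F379109 (iv7 F379096) F379099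
def n190217 : Q := act 4 n95739
theorem D190217 : act 4 n95739 = n190217 := rfl
theorem F379111 : act 2 n190217 = n95759 := d1_1 D190217 (iv4 D95759) (iv2 F147431)
theorem F379112 : act 3 n190217 = n187217 := d5_1 D190217 F369545 (iv3 F369541) F369542 F149905
theorem F379113 : act 6 n190217 = n187216 := d10_2 F379103 D190217 (iv4 F379104)
theorem F379114 : act 1 n190217 = n190192 := d18_6 (iv1 D95679) F70264 F136299 (iv4 F70297) D95739 D190217 (iv4 D190192) (iv0 F379032) (iv5 D190171)
def n190218 : Q := act 4 n95746
theorem D190218 : act 4 n95746 = n190218 := rfl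
theorem F379115 : act 3 n190218 = n114067 := d5_1 D190218 F251643 F251644 (iv4 F373897) (iv3 F373902)
def n190219 : Q := act 5 n95746
theorem D190219 : act 5 n95746 = n190219 := rfl
def n190220 : Q := act 6 n95746
theorem D190220 : act 6 n95746 = n190220 := rfl
theorem F379116 : act 3 n190220 = n137284 := d7_1 D190220 (iv6 F373898) (iv3 F373902)
theorem F379117 : act 5 n137282 = n190220 := d6_0 F379116 (iv5 D137284) D137282
def n190221 : Q := act 3 n95747
theorem D190221 : act 3 n95747 = n190221 := rfl
theorem F379118 : act 4 n190221 = n186866 := d20_6 (iv4 D78968) (iv1 F83277) (iv4 F177928) (iv3 F379107) (iv1 F379109) D190221 (iv1 D186866) F308361 F147339 (iv1 F178264)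
theorem F379119 : act 1 n186870 = n190221 := d18_6 (iv1 F159484) F331083 (iv1 F372045) F372227 F366787 (iv4 F368384) F379118 F378932 F378930
def n190222 : Q := act 4 n95747
theorem D190222 : act 4 n95747 = n190222 := rfl
def n190223 : Q := act 5 n95747
theorem D190223 : act 5 n95747 = n190223 := rfl
def n190224 : Q := act 6 n95747
theorem D190224 : act 6 n95747 = n190224 := rfl
def n190225 : Q := act 0 n95748
theorem D190225 : act 0 n95748 = n190225 := rfl
def n190226 : Q := act 1 n95748
theorem D190226 : act 1 n95748 = n190226 := rfl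
theorem F379120 : act 1 n190226 = n190047 := d15_1 D190226 F379105 F379101
theorem F379121 : act 5 n155959 = n190226 := d21_6 (iv5 F70299) (iv1 F36247) (iv5 F70341) (iv6 F314292) (iv1 F110934) D155959 (iv1 D190226) (iv5 D95748) (iv6 D44719) D44716
theorem F379122 : act 6 n190226 = n155960 := d12_2 D155959 F379121 (iv5 D155960) (iv6 D74178) D74177
def n190227 : Q := act 4 n95748
theorem D190227 : act 4 n95748 = n190227 := rfl
theorem F379123 : act 2 n190227 = n187216 := d1_1 D190227 (iv4 F379104) F379101
theorem F379124 : act 6 n190227 = n95759 := d10_2 (iv6 F147443) D190227 (iv4 D95759)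
theorem F379125 : act 5 n189940 = n190227 := d2_0 F379123 F369543 D189940
theorem F379126 : act 7 n190111 = n190227 := d4_0 F379123 F369544 D190111
theorem F379127 : act 1 n190227 = n190109 := d15_0 (iv0 D190109) (iv7 F369544) (iv2 F379123)
theorem F379128 : act 1 n190110 = n190227 := d15_1 D190110 (iv7 F379126) (iv2 D190111)
def n190228 : Q := act 7 n95748
theorem D190228 : act 7 n95748 = n190228 := rfl
theorem F379129 : act 2 n190228 = n190047 := d4_1 D190228 F379105 F379101
theorem F379130 : act 3 n190228 = n95773 := d8_1 D190228 (iv7 D95773) (iv3 F147442)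
theorem F379131 : act 4 n190228 = n190111 := d11_1 D190228 F379126 (iv4 D190227)
theorem F379132 : act 5 n190228 = n95749 := d13_1 D190228 (iv7 D95749) D95748
theorem F379133 : act 1 n190047 = n190225 := d15_0 (iv0 D190225) D190228 F379129
def n190229 : Q := act 6 n95750
theorem D190229 : act 6 n95750 = n190229 := rfl
theorem F379134 : act 2 n190229 = n186485 := d3_1 D190229 (iv6 D186485) (iv2 F147445)
theorem F379135 : act 3 n190229 = n189623 := d7_1 D190229 (iv6 D189623) (iv3 F147446)
theorem F379136 : act 4 n190229 = n95752 := d10_1 D190229 (iv6 D95752) D95750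
def n190230 : Q := act 6 n95751
theorem D190230 : act 6 n95751 = n190230 := rfl
theorem F379137 : act 5 n190230 = n109365 := d12_1 D190230 (iv6 F174004) (iv5 F356020) (iv6 D95752) D95751
theorem F379138 : act 0 n190230 = n109921 := d21_10 (iv5 D109921) (iv1 F169929) D155960 (iv6 F379122) (iv1 D190226) F147443 (iv5 D44722) D44720 D95751 D190230
theorem F379139 : act 1 n190230 = n109917 := d15_1 (iv0 F379138) (iv7 F369684) (iv2 F369685)
def n190231 : Q := act 5 n95753
theorem D190231 : act 5 n95753 = n190231 := rfl
theorem F379140 : act 3 n190231 = n95755 := d6_1 D190231 (iv5 D95755) D95753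
theorem F379141 : act 4 n190231 = n188114 := d16_2 (iv4 F367604) D190231 (iv5 D188114) F139796 D90820 D188121 F372377 F367600 (iv2 F367605)
def n190232 : Q := act 6 n95753
theorem D190232 : act 6 n95753 = n190232 := rfl
theorem F379142 : act 3 n190232 = n95756 := d7_1 D190232 (iv6 D95756) D95753
theorem F379143 : act 4 n190232 = n183123 := d10_1 D190232 F374432 (iv4 F367604)
theorem F379144 : act 1 n189033 = n190232 := d17_8 (iv1 F369151) F369146 F365345 (iv5 D184316) (iv4 F154944) F295948 D144251 (iv5 F375503) F379143
theorem F379145 : act 0 n189035 = n190232 := d18_0 F379143 (iv1 F369151) F369149 (iv5 D100885) (iv4 D47023) D47022 D100879 (iv0 F368779) (iv5 F375510)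
theorem F379146 : act 5 n100866 = n190232 := d18_4 F356263 (iv4 F349153) (iv1 F154956) D100866 F379143 (iv0 D183123) (iv4 F293317) F293316 (iv5 F158555)
def n190233 : Q := act 4 n95755
theorem D190233 : act 4 n95755 = n190233 := rfl
def n190234 : Q := act 6 n95755
theorem D190234 : act 6 n95755 = n190234 := rfl
def n190235 : Q := act 5 n95756
theorem D190235 : act 5 n95756 = n190235 := rfl
theorem F379147 : act 2 n190235 = n103209 := d2_1 D190235 F349217 (iv2 F349227)
theorem F379148 : act 3 n190235 = n100866 := d6_1 D190235 F379146 F379142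
theorem F379149 : act 7 n190235 = n103210 := d13_2 F360981 D190235 F367031
theorem F379150 : act 0 n190235 = n100170 := d17_2 (iv1 F369963) D190235 (iv5 D100170) (iv4 D46751) D46752 D100173 F367461 (iv0 F367462) F152510
theorem F379151 : act 1 n190235 = n103207 := d17_6 F157771 (iv5 F329911) (iv1 F365255) (iv5 F374425) F374427 D190235 (iv5 D103207) (iv0 F157756) (iv4 F153283)
def n190236 : Q := act 4 n95757
theorem D190236 : act 4 n95757 = n190236 := rfl
def n190237 : Q := act 6 n95757
theorem D190237 : act 6 n95757 = n190237 := rfl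
theorem F379152 : act 5 n190237 = n135529 := d12_1 D190237 (iv6 F364266) F360341 (iv6 F251759) (iv5 F369586)
theorem F379153 : act 4 n109912 = n190237 := d16_2 (iv4 F80048) (iv5 F169917) F379152 (iv4 D135529) (iv5 D63723) F48330 (iv5 F38671) D50671 F80029
theorem F379154 : act 6 n190236 = n109912 := d10_0 F379153 (iv6 D190237) D190236
theorem F379155 : act 7 n190237 = n109911 := d11_2 D109912 F379153 (iv4 D109911)
theorem F379156 : act 3 n166694 = n190236 := d7_3 F379154 F326916 D166694
theorem F379157 : act 5 n151281 = n190236 := d12_5 F379154 F169917 (iv6 F81650) (iv5 F174337) F363692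
def n190238 : Q := act 3 n95758
theorem D190238 : act 3 n95758 = n190238 := rfl
def n190239 : Q := act 4 n95758
theorem D190239 : act 4 n95758 = n190239 := rfl
def n190240 : Q := act 6 n95758
theorem D190240 : act 6 n95758 = n190240 := rfl
def n190241 : Q := act 0 n95759
theorem D190241 : act 0 n95759 = n190241 := rfl
theorem F379158 : act 4 n190241 = n97007 := d18_3 (iv1 D95758) D95759 D190241 (iv5 F367252) F148138 (iv0 F293555) (iv4 F76072) (iv0 F161649) F160319
theorem F379159 : act 7 n190192 = n190241 := d11_0 F379158 F149616 D190192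
theorem F379160 : act 5 n151277 = n190241 := d19_1 D151277 F379158 (iv3 D97007) (iv1 F71473) F70268 F33503 (iv3 F33498) (iv1 F34375) D45791 (iv4 F291989) D89858 F346839 (iv5 D125664) F93040 F45238 (iv1 F50047) (iv5 F79065) (iv4 F167334) F319664
def n190242 : Q := act 1 n95759
theorem D190242 : act 1 n95759 = n190242 := rfl
theorem F379161 : act 5 n190242 = n151278 := d17_7 (iv1 F318258) (iv5 F229964) (iv1 F345711) (iv5 D139725) D139724 F361796 D190242 F366533 F222110
theorem F379162 : act 4 n190191 = n190242 := d20_6 (iv4 F76233) (iv1 F137989) (iv4 D89885) (iv3 F137983) D187294 (iv3 F379049) (iv1 D190242) (iv4 D95759) F70301 D44727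
theorem F379163 : act 2 n190242 = n190192 := d1_1 F379162 (iv4 D190192) D190191
theorem F379164 : act 6 n190225 = n190242 := d21_5 (iv5 D95755) (iv1 D44721) D44722 (iv6 F147443) D190225 F379161 (iv1 D151278) D151279 F369642 (iv1 F369640)
def n190243 : Q := act 5 n95761
theorem D190243 : act 5 n95761 = n190243 := rfl
theorem F379165 : act 3 n190243 = n95763 := d6_1 D190243 (iv5 D95763) D95761
theorem F379166 : act 6 n187310 = n190243 := d7_0 F379165 F358004 D187310
def n190244 : Q := act 1 n95764
theorem D190244 : act 1 n95764 = n190244 := rfl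
theorem F379167 : act 1 n190244 = n103751 := d15_1 D190244 F350023 (iv2 F340731)
theorem F379168 : act 7 n190244 = n103607 := d15_2 (iv0 F340730) D190244 F335081
theorem F379169 : act 4 n190244 = n124799 := d17_9 F242596 F242594 (iv1 F231207) F310611 F58162 D44761 D95870 (iv5 F147542) D190244
theorem F379170 : act 6 n95945 = n190244 := d21_3 D21324 D44781 D95945 (iv1 D190244) (iv6 D95764) D95763 F147585 (iv5 D95940) (iv6 D44780) (iv1 D21323)
theorem F379171 : act 5 n147701 = n190244 := d21_6 F76037 (iv1 F76125) F340351 (iv6 F76238) (iv1 F160519) (iv6 F358439) (iv1 D190244) F147542 (iv6 F358002) F137943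
theorem F379172 : act 2 n190244 = n103754 := d2_1 F379171 F335107 F358437
def n190245 : Q := act 5 n95769
theorem D190245 : act 5 n95769 = n190245 := rfl
theorem F379173 : act 2 n190245 = n97270 := d2_1 D190245 F321371 (iv2 F317109)
theorem F379174 : act 3 n190245 = n189978 := d6_1 D190245 F378411 (iv3 F363400)
theorem F379175 : act 7 n190245 = n97271 := d13_2 (iv7 F360645) D190245 F340414
theorem F379176 : act 0 n190245 = n96557 := d17_2 (iv1 F340411) D190245 (iv5 D96557) D96556 (iv5 F335139) (iv0 F335137) F315691 F230690 F340410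
theorem F379177 : act 1 n190245 = n96552 := d17_6 D37343 D81705 (iv1 F319122) (iv5 D127503) (iv4 F317110) D190245 (iv5 D96552) (iv0 D45082) F33858
def n190246 : Q := act 3 n95770
theorem D190246 : act 3 n95770 = n190246 := rfl
theorem F379178 : act 5 n190246 = n127618 := d6_2 (iv5 F317111) D190246 F205184
theorem F379179 : act 7 n190246 = n127617 := d8_2 (iv7 F317112) D190246 F205183
theorem F379180 : act 0 n149277 = n190246 := d17_2 F362078 D149277 F379178 F205185 (iv5 F315911) (iv0 F155496) F96213 D70065 (iv4 F362079)
def n190247 : Q := act 6 n95770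
theorem D190247 : act 6 n95770 = n190247 := rfl
theorem F379181 : act 4 n190247 = n187326 := d10_1 D190247 F378786 F378783
theorem F379182 : act 0 n190247 = n187298 := d21_4 (iv5 D147800) F105519 (iv5 F317111) D190247 (iv6 D187298) F137986 (iv1 F138082) (iv5 D89916) D89917 F340381
theorem F379183 : act 5 n190247 = n103810 := d21_6 (iv5 D19806) (iv1 F35816) D21304 (iv6 F70302) D95770 D190247 (iv1 D103810) (iv5 F138066) (iv6 D89912) (iv1 D42011)
def n190248 : Q := act 0 n95772
theorem D190248 : act 0 n95772 = n190248 := rfl
theorem F379184 : act 4 n190248 = n97065 := d18_3 (iv1 D95771) D95772 D190248 (iv5 F361128) (iv4 F229477) (iv0 D69246) D69249 (iv0 F162456) F318859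
theorem F379185 : act 2 n190073 = n190248 := d1_3 F379184 (iv2 F361127) D190073
theorem F379186 : act 7 n190076 = n190248 := d11_0 F379184 F361126 D190076
theorem F379187 : act 5 n133370 = n190248 := d16_1 F354111 F379184 (iv5 F361128) (iv4 F229477) F229478 F110589 D128282 (iv7 F240703) F240702
theorem F379188 : act 6 n190248 = n187300 := d21_3 (iv5 D133372) D133370 F379187 (iv1 D187300) (iv6 D89886) (iv5 D41999) F63200 D44656 D95623 F364590
def n190249 : Q := act 1 n95772
theorem D190249 : act 1 n95772 = n190249 := rfl
theorem F379189 : act 7 n190249 = n190073 := d15_2 (iv0 D190248) D190249 F379185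
theorem F379190 : act 4 n190249 = n97066 := d18_7 (iv1 F71524) (iv4 F320363) (iv1 D73246) (iv4 F312407) D44725 D95772 D190249 F149724 F147279
theorem F379191 : act 5 n190249 = n133371 := d18_9 (iv1 D133371) (iv4 F354114) (iv1 D128066) D128067 (iv5 F378782) F378783 (iv0 D95770) D95772 D190249
theorem F379192 : act 4 n133371 = n128282 := d9_1 F379191 (iv5 D128282) (iv4 F110589) (iv5 F229478) F229477 F361128 (iv4 F379184) (iv5 F379187) (iv4 F354111) (iv5 D128096) F94754 (iv5 F104751) (iv4 F318895) F149725 (iv4 F379190)
theorem F379193 : act 2 n144547 = n133371 := d1_3 F379192 F354137 (iv4 F354134)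
theorem F379194 : act 6 n136733 = n133371 := d10_0 F379192 F354109 F219894
theorem F379195 : act 2 n190249 = n190076 := d2_3 F378779 F379193 (iv5 F379191)
def n190250 : Q := act 3 n95772
theorem D190250 : act 3 n95772 = n190250 := rfl
theorem F379196 : act 6 n190250 = n95778 := d7_2 (iv6 F147457) D190250 (iv3 D95778)
def n190251 : Q := act 5 n95772
theorem D190251 : act 5 n95772 = n190251 := rfl
theorem F379197 : act 2 n190251 = n128242 := d2_1 D190251 (iv5 F364595) F149917
theorem F379198 : act 4 n190251 = n128063 := d16_2 D95772 D190251 (iv5 D128063) (iv4 F130771) (iv5 F314793) F149014 (iv5 F149920) (iv7 D97181) F71649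
theorem F379199 : act 7 n190251 = n128231 := d16_8 (iv4 D154540) (iv5 D73242) (iv4 D33708) D33709 (iv4 F312407) D44725 D95772 D190251 (iv2 F242581)
theorem F379200 : act 0 n190251 = n103314 := d17_2 (iv1 D190249) D190251 F158554 (iv4 F361121) (iv5 D97058) (iv0 D45369) D45371 D97066 (iv4 F379190)
def n190252 : Q := act 7 n95772
theorem D190252 : act 7 n95772 = n190252 := rfl
theorem F379201 : act 4 n190252 = n95773 := d11_1 D190252 (iv7 D95773) D95772
theorem F379202 : act 5 n190252 = n128231 := d13_1 D190252 (iv7 F379199) (iv5 D190251)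
theorem F379203 : act 1 n190076 = n190252 := d15_1 (iv0 F378780) (iv7 D190252) (iv2 F149917)
theorem F379204 : act 1 n190252 = n190073 := d15_1 F379203 (iv7 F379189) F379195
def n190253 : Q := act 4 n95774
theorem D190253 : act 4 n95774 = n190253 := rfl
def n190254 : Q := act 6 n95774
theorem D190254 : act 6 n95774 = n190254 := rfl
theorem F379205 : act 3 n190254 = n95775 := d7_1 D190254 (iv6 D95775) D95774
def n190255 : Q := act 0 n95775
theorem D190255 : act 0 n95775 = n190255 := rfl
theorem F379206 : act 5 n190255 = n189612 := d17_3 F377120 (iv5 F367203) D190255 (iv4 D189612) (iv5 D94138) F69255 (iv5 F144571) F145099 D189614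
theorem F379207 : act 1 n104711 = n190255 := d15_0 (iv0 D190255) (iv7 F363600) F160694
theorem F379208 : act 2 n104712 = n190255 := d2_3 F379206 F377113 F376156
theorem F379209 : act 7 n104713 = n190255 := d15_2 (iv0 D104712) D104713 (iv2 F379208)
theorem F379210 : act 5 n189222 = n104713 := d13_3 F379209 F379206 F377114
theorem F379211 : act 6 n190013 = n189222 := d21_5 (iv5 D21329) (iv1 F33466) (iv5 F70167) D95544 D190013 F379210 (iv1 D104713) (iv5 F293032) (iv6 D88454) (iv1 F293038)
theorem F379212 : act 4 n189223 = n190013 := d10_3 F379211 (iv4 D189222) D189223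
def n190256 : Q := act 1 n95775
theorem D190256 : act 1 n95775 = n190256 := rfl
theorem F379213 : act 1 n190256 = n104711 := d15_1 D190256 F340369 (iv2 F147460)
theorem F379214 : act 7 n190256 = n104712 := d15_2 (iv0 D190255) D190256 F379208
theorem F379215 : act 2 n104713 = n190256 := d4_3 F379214 F379208 (iv7 F379209)
theorem F379216 : act 5 n189606 = n190256 := d13_3 F379214 (iv5 F376156) (iv7 F377096)
theorem F379217 : act 6 n96048 = n189606 := d21_5 (iv5 D43929) F32970 (iv5 F33527) D44816 D96048 F379216 (iv1 D190256) F367203 (iv6 D185692) (iv1 F294000)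
theorem F379218 : act 2 n190013 = n96048 := d3_3 F379217 F377095 (iv6 F379211)
theorem F379219 : act 4 n189607 = n96048 := d10_3 F379217 (iv4 D189606) D189607
theorem F379220 : act 7 n96049 = n190013 := d15_2 (iv0 D96048) D96049 F379218
theorem F379221 : act 7 n190014 = n96048 := d15_2 (iv0 D190013) D190014 (iv2 F379218)
theorem F379222 : act 2 n96049 = n190014 := d4_3 F379221 (iv2 F379218) (iv7 F379220)
def n190257 : Q := act 3 n95776
theorem D190257 : act 3 n95776 = n190257 := rfl
theorem F379223 : act 5 n190257 = n185464 := d6_2 (iv5 F147461) D190257 (iv3 D185464)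
theorem F379224 : act 7 n190257 = n190108 := d8_2 F147465 D190257 (iv3 D190108)
theorem F379225 : act 0 n109573 = n190257 := d17_2 D50549 D109573 F379223 (iv4 F340611) F169215 F99379 F79817 (iv0 D24627) (iv4 F38626)
theorem F379226 : act 0 n190257 = n109321 := d21_1 (iv5 F379223) (iv5 D109321) (iv6 D50448) (iv1 D24588) D24591 D50459 D109360 F173734 D109905 (iv1 F363543)
def n190258 : Q := act 0 n95778
theorem D190258 : act 0 n95778 = n190258 := rfl
def n190259 : Q := act 1 n95778
theorem D190259 : act 1 n95778 = n190259 := rfl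
def n190260 : Q := act 2 n95778
theorem D190260 : act 2 n95778 = n190260 := rfl
def n190261 : Q := act 5 n95779
theorem D190261 : act 5 n95779 = n190261 := rfl
theorem F379227 : act 3 n190261 = n95782 := d6_1 D190261 (iv5 D95782) (iv3 F147471)
theorem F379228 : act 7 n190261 = n189653 := d13_2 (iv7 F364448) D190261 F377273
def n190262 : Q := act 4 n95782
theorem D190262 : act 4 n95782 = n190262 := rfl
theorem F379229 : act 2 n190262 = n180636 := d1_1 D190262 (iv4 F366983) F149895
theorem F379230 : act 1 n190262 = n181900 := d18_6 (iv1 D90002) F294185 F157256 (iv4 F70308) D95782 D190262 (iv4 D181900) D181899 (iv5 F365108)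
theorem F379231 : act 5 n180635 = n190262 := d2_0 F379229 (iv5 D180636) D180635
theorem F379232 : act 1 n137094 = n180635 := d17_6 (iv1 F294513) (iv5 D95563) F178355 D97421 F331311 D137094 F379231 F379230 (iv4 D181900)
def n190263 : Q := act 5 n95784
theorem D190263 : act 5 n95784 = n190263 := rfl
theorem F379233 : act 2 n190263 = n164487 := d2_1 D190263 (iv5 D164487) (iv2 F147474)
theorem F379234 : act 6 n190263 = n95787 := d12_2 D95784 D190263 (iv5 D95787) (iv6 D44732) D44731
theorem F379235 : act 4 n190263 = n131147 := d16_2 (iv4 F147475) D190263 F210050 D164496 (iv5 F350607) F209155 F176001 (iv7 D79000) (iv2 F83281)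
def n190264 : Q := act 4 n95789
theorem D190264 : act 4 n95789 = n190264 := rfl
theorem F379236 : act 2 n190264 = n95805 := d1_1 D190264 (iv4 D95805) (iv2 F147477)
theorem F379237 : act 5 n190264 = n96969 := d9_2 D95789 D190264 F149563 F88592 (iv4 F76692) F76693 (iv4 F70334) (iv5 F147498) (iv4 F178933) (iv5 D114863) (iv4 D53001) (iv5 D25723) F20211 D25558 (iv4 F70320)
theorem F379238 : act 0 n190264 = n164413 := d18_2 F251809 D190264 F259051 F161631 F161630 D114082 (iv4 F177595) F161627 D159798
theorem F379239 : act 1 n190264 = n164381 := d18_6 (iv1 F114624) (iv4 F83204) (iv1 D52663) (iv4 F70320) D95789 D190264 F259033 F251895 F251894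
theorem F379240 : act 7 n190264 = n96968 := d15_2 (iv0 F259052) (iv0 F379238) (iv2 F178931)
theorem F379241 : act 3 n96994 = n190264 := d8_3 F379240 F149560 D96994
def n190265 : Q := act 7 n95789
theorem D190265 : act 7 n95789 = n190265 := rfl
theorem F379242 : act 2 n190265 = n95806 := d4_1 D190265 (iv7 D95806) (iv2 F147477)
theorem F379243 : act 4 n190265 = n96968 := d11_1 D190265 (iv7 F379240) (iv4 D190264)
theorem F379244 : act 5 n190265 = n95790 := d13_1 D190265 (iv7 D95790) D95789
theorem F379245 : act 1 n95804 = n190265 := d15_1 D95804 (iv7 D190265) F147477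
theorem F379246 : act 1 n190265 = n95803 := d15_1 F379245 (iv7 F251808) F251807
theorem F379247 : act 6 n96979 = n190265 := d10_0 F379243 F149561 D96979
def n190266 : Q := act 3 n95794
theorem D190266 : act 3 n95794 = n190266 := rfl
theorem F379248 : act 4 n190266 = n186865 := d5_2 F251678 D190266 F368346 (iv4 D159696) (iv3 F251677)
theorem F379249 : act 6 n190266 = n186980 := d7_2 (iv6 F364564) D190266 F368743
theorem F379250 : act 0 n186870 = n190266 := d21_4 F109577 (iv1 F127110) (iv5 F307542) D186870 F379249 F368739 (iv1 F324537) (iv5 F321616) (iv6 D100750) (iv1 F109578)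
def n190267 : Q := act 5 n95794
theorem D190267 : act 5 n95794 = n190267 := rfl
def n190268 : Q := act 5 n95795
theorem D190268 : act 5 n95795 = n190268 := rfl
def n190269 : Q := act 6 n95795
theorem D190269 : act 6 n95795 = n190269 := rfl
theorem F379251 : act 4 n190269 = n115123 := d10_1 D190269 F333518 (iv4 F193581)
theorem F379252 : act 0 n127111 = n190269 := d20_7 (iv4 F166224) F166225 (iv4 D63570) (iv3 F97230) (iv1 F315832) D176362 (iv4 F346743) F379251 F179286 (iv1 F95789)
def n190270 : Q := act 0 n95796
theorem D190270 : act 0 n95796 = n190270 := rfl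
def n190271 : Q := act 1 n95796
theorem D190271 : act 1 n95796 = n190271 := rfl
def n190272 : Q := act 4 n95796
theorem D190272 : act 4 n95796 = n190272 := rfl
theorem F379253 : act 6 n190272 = n95805 := d10_2 (iv6 F147491) D190272 (iv4 D95805)
theorem F379254 : act 5 n190272 = n187321 := d16_3 (iv4 F70331) D95796 D190272 (iv4 D187321) (iv5 D89900) (iv4 F67736) (iv5 F142192) (iv7 D92442) F67732
def n190273 : Q := act 7 n95796
theorem D190273 : act 7 n95796 = n190273 := rfl
theorem F379255 : act 3 n190273 = n95820 := d8_1 D190273 (iv7 D95820) (iv3 F147490)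
theorem F379256 : act 5 n190273 = n95797 := d13_1 D190273 (iv7 D95797) D95796
def n190274 : Q := act 5 n95798
theorem D190274 : act 5 n95798 = n190274 := rfl
theorem F379257 : act 3 n190274 = n95799 := d6_1 D190274 (iv5 D95799) D95798
def n190275 : Q := act 6 n95798
theorem D190275 : act 6 n95798 = n190275 := rfl
theorem F379258 : act 3 n190275 = n95800 := d7_1 D190275 (iv6 D95800) D95798
theorem F379259 : act 4 n190275 = n183487 := d10_1 D190275 (iv6 F378212) F367596
def n190276 : Q := act 0 n95799
theorem D190276 : act 0 n95799 = n190276 := rfl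
theorem F379260 : act 5 n190276 = n103234 := d17_3 D44738 D95799 D190276 F177595 (iv5 F205427) F205423 (iv5 D90118) (iv0 D42124) (iv4 F33519)
theorem F379261 : act 2 n103241 = n190276 := d15_3 (iv0 D190276) F369615 F369613
theorem F379262 : act 1 n95801 = n190276 := d15_0 (iv0 D190276) (iv7 F251839) F251838
def n190277 : Q := act 6 n95799
theorem D190277 : act 6 n95799 = n190277 := rfl
def n190278 : Q := act 6 n95801
theorem D190278 : act 6 n95801 = n190278 := rfl
def n190279 : Q := act 3 n95803
theorem D190279 : act 3 n95803 = n190279 := rfl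
def n190280 : Q := act 6 n95803
theorem D190280 : act 6 n95803 = n190280 := rfl
theorem F379263 : act 5 n190280 = n189390 := d12_1 D190280 (iv6 D189390) F294676 (iv6 F350446) (iv5 F158487)
def n190281 : Q := act 6 n95804
theorem D190281 : act 6 n95804 = n190281 := rfl
def n190282 : Q := act 0 n95805
theorem D190282 : act 0 n95805 = n190282 := rfl
theorem F379264 : act 5 n190282 = n114165 := d17_3 (iv1 F178939) F178937 D190282 (iv4 D114165) (iv5 D52699) F40459 (iv5 F56627) F290501 (iv4 F290504)
theorem F379265 : act 4 n190282 = n159818 := d18_1 D190282 (iv1 F251881) (iv4 F177925) (iv5 D114177) (iv4 D52703) D52702 (iv4 F149559) F178938 F178937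
theorem F379266 : act 1 n96968 = n190282 := d15_0 (iv0 D190282) F178934 F178931
theorem F379267 : act 2 n164413 = n190282 := d1_3 F379265 (iv2 F251879) (iv4 F259051)
theorem F379268 : act 7 n164381 = n190282 := d11_0 F379265 (iv7 F251880) (iv4 F259033)
def n190283 : Q := act 1 n95805
theorem D190283 : act 1 n95805 = n190283 := rfl
theorem F379269 : act 1 n190283 = n96968 := d15_1 D190283 (iv7 F379240) F379236
theorem F379270 : act 7 n190283 = n164413 := d15_2 (iv0 D190282) D190283 F379267
theorem F379271 : act 4 n190283 = n159819 := d18_7 (iv1 F114617) F114618 (iv1 D42125) (iv4 F33519) D44740 D95805 D190283 F251882 (iv5 D89819)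
theorem F379272 : act 2 n164381 = n190283 := d1_3 F379271 (iv2 F251885) (iv4 F259033)
theorem F379273 : act 5 n114154 = n190283 := d9_0 F379271 F251884 F161612 (iv5 D105379) F114619 D52699 D114165 (iv5 F379264) F379265 F251859 F161623 (iv5 D105375) F114627 D52694 D114154
theorem F379274 : act 3 n190035 = n190283 := d20_5 (iv4 F378792) (iv1 D190078) (iv4 D95609) (iv3 F147239) D190035 F379271 (iv1 D159819) D159820 (iv3 F251888) (iv1 F149922)
def n190284 : Q := act 3 n95805
theorem D190284 : act 3 n95805 = n190284 := rfl
theorem F379275 : act 2 n190284 = n190127 := d0_1 D190284 F378939 (iv2 F149583) F379241 F379236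
theorem F379276 : act 4 n190284 = n95826 := d5_2 D95805 D190284 (iv3 D95826) (iv4 D44748) (iv3 F70332)
theorem F379277 : act 5 n190284 = n190064 := d6_2 F178937 D190284 (iv3 F378753)
theorem F379278 : act 7 n190284 = n190118 := d8_2 (iv7 F178934) D190284 F378916
theorem F379279 : act 0 n190284 = n190075 := d20_4 F259090 (iv1 D95804) D95805 D190284 (iv3 D190075) D190076 F378780 (iv4 D97180) (iv3 F120148) D164449
theorem E103421 : n190125 = n190075 := (c15_1 D190125 (iv0 F379279) F379278 F378915)
theorem F379280 : act 0 n190075 = n95651 := (sb E103421 (iv1 D190125))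
theorem F379281 : act 4 n190157 = n95817 := d20_8 (iv4 F379201) (iv1 F379203) (iv4 D190076) D190075 F379280 F147347 D95670 D190157 (iv3 F353133) (iv1 F149921)
theorem F379282 : act 1 n190284 = n190124 := d15_0 (iv0 D190124) D190127 (iv2 F379275)
def n190285 : Q := act 6 n95806
theorem D190285 : act 6 n95806 = n190285 := rfl
theorem F379283 : act 2 n190285 = n96979 := d3_1 D190285 F379247 F379242
theorem F379284 : act 3 n190285 = n95829 := d7_1 D190285 (iv6 D95829) (iv3 F147497)
theorem F379285 : act 4 n190285 = n96964 := d10_1 D190285 (iv6 F178932) F178933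
theorem F379286 : act 5 n190285 = n187322 := d12_1 D190285 (iv6 D187322) (iv5 D89900) (iv6 F70335) (iv5 F147498)
def n190286 : Q := act 0 n95810
theorem D190286 : act 0 n95810 = n190286 := rfl
theorem F379287 : act 5 n190286 = n96558 := d17_3 D44742 D95810 D190286 (iv4 F364479) (iv5 D157465) (iv0 D74918) (iv5 F104996) F313017 F58240
theorem F379288 : act 1 n95815 = n190286 := d15_0 (iv0 D190286) F366291 (iv2 F366167)
theorem F379289 : act 6 n185734 = n190286 := d21_9 (iv5 D95815) (iv1 D44743) D44744 F70336 (iv1 F290788) D48291 F75899 D88461 D185734 (iv1 F379288)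
theorem F379290 : act 2 n97293 = n190286 := d2_3 F379287 F288195 D97293
def n190287 : Q := act 1 n95810
theorem D190287 : act 1 n95810 = n190287 := rfl
theorem F379291 : act 1 n190287 = n95815 := d15_1 D190287 (iv7 F366166) F366292
theorem F379292 : act 7 n190287 = n97293 := d15_2 (iv0 D190286) D190287 F379290
theorem F379293 : act 5 n97294 = n190287 := d21_6 (iv5 F53381) F94412 F94411 D59932 D127636 (iv6 F334495) (iv1 D190287) (iv5 D95810) F320369 F103940
theorem F379294 : act 6 n190287 = n187332 := d12_2 (iv6 F334495) F379293 (iv5 F369858) (iv6 F361618) (iv5 F334492)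
theorem F379295 : act 4 n190287 = n145479 := d16_2 (iv4 F364482) F379293 (iv5 D145479) F104383 D68225 (iv4 F324909) D157465 F248101 (iv2 F248116)
def n190288 : Q := act 4 n95810
theorem D190288 : act 4 n95810 = n190288 := rfl
theorem F379296 : act 3 n190288 = n187330 := d5_1 D190288 F369857 F138047 (iv4 F138083) (iv3 F340384)
theorem F379297 : act 6 n190288 = n187328 := d10_2 F363592 D190288 F369847
theorem F379298 : act 1 n190288 = n145364 := d18_6 (iv1 D44683) (iv4 F58266) (iv1 F315254) F322039 D95810 D190288 F378962 F378960 (iv5 D95666)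
def n190289 : Q := act 5 n95813
theorem D190289 : act 5 n95813 = n190289 := rfl
theorem F379299 : act 3 n190289 = n95815 := d6_1 D190289 (iv5 D95815) D95813
def n190290 : Q := act 6 n95813
theorem D190290 : act 6 n95813 = n190290 := rfl
theorem F379300 : act 2 n190290 = n146271 := d3_1 D190290 (iv6 F319354) F362080
theorem F379301 : act 3 n190290 = n95816 := d7_1 D190290 (iv6 D95816) D95813
theorem F379302 : act 4 n190290 = n139840 := d10_1 D190290 (iv6 F322660) (iv4 F362079)
theorem F379303 : act 7 n190290 = n139836 := d14_2 F362081 D190290 (iv6 D139836) (iv7 F102291) (iv6 F317683)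
theorem F379304 : act 1 n143042 = n190290 := d15_1 F364506 F379303 F358018
theorem F379305 : act 1 n190290 = n149232 := d15_0 (iv0 F378338) (iv7 F229596) (iv2 F379300)
def n190291 : Q := act 4 n95815
theorem D190291 : act 4 n95815 = n190291 := rfl
def n190292 : Q := act 6 n95815
theorem D190292 : act 6 n95815 = n190292 := rfl
theorem F379306 : act 0 n96025 = n190292 := d21_4 (iv5 D23432) D23429 D48279 (iv6 F290799) (iv6 D190292) (iv5 D95815) (iv1 D44743) D44744 F70336 (iv1 F290788)
def n190293 : Q := act 6 n95817
theorem D190293 : act 6 n95817 = n190293 := rfl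
def n190294 : Q := act 3 n95818
theorem D190294 : act 3 n95818 = n190294 := rfl
theorem F379307 : act 2 n190294 = n127617 := d0_1 D190294 F205183 (iv2 F317113) F366327 (iv2 F290434)
theorem F379308 : act 5 n190294 = n127612 := d6_2 F149949 D190294 F363404
theorem F379309 : act 0 n190294 = n149277 := d21_7 (iv5 F26946) D22980 (iv5 F70137) D95497 (iv1 F318769) D127612 (iv5 F379308) (iv5 D149277) (iv6 D70068) (iv1 F51595)
def n190295 : Q := act 6 n95818
theorem D190295 : act 6 n95818 = n190295 := rfl
def n190296 : Q := act 0 n95819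
theorem D190296 : act 0 n95819 = n190296 := rfl
theorem F379310 : act 4 n190296 = n96991 := d18_1 D190296 (iv1 F149585) (iv4 F379009) F379010 F206494 D128375 F322782 D175028 F366096
theorem F379311 : act 2 n190152 = n190296 := d1_3 F379310 F364159 D190152
theorem F379312 : act 7 n190155 = n190296 := d11_0 F379310 F364157 D190155
def n190297 : Q := act 1 n95819
theorem D190297 : act 1 n95819 = n190297 := rfl
theorem F379313 : act 7 n190297 = n190152 := d15_2 (iv0 D190296) D190297 F379311
theorem F379314 : act 4 n190297 = n96992 := d17_9 (iv1 D96992) (iv5 D45340) D45338 D96984 (iv4 F338161) (iv5 D175030) D175028 F366096 D190297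
theorem F379315 : act 2 n190155 = n190297 := d1_3 F379314 (iv2 F364156) D190155
def n190298 : Q := act 3 n95819
theorem D190298 : act 3 n95819 = n190298 := rfl
theorem F379316 : act 6 n190298 = n95826 := d7_2 (iv6 F147501) D190298 (iv3 D95826)
def n190299 : Q := act 7 n95819
theorem D190299 : act 7 n95819 = n190299 := rfl
theorem F379317 : act 4 n190299 = n95820 := d11_1 D190299 (iv7 D95820) D95819
theorem F379318 : act 5 n190299 = n151164 := d13_1 D190299 (iv7 F366095) F366096
theorem F379319 : act 1 n190155 = n190299 := d15_1 (iv0 F378999) (iv7 D190299) (iv2 F149863)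
theorem F379320 : act 1 n190299 = n190152 := d15_1 F379319 (iv7 F379313) (iv2 F379315)
theorem F379321 : act 5 n145478 = n190152 := d21_6 (iv5 F109232) (iv1 D72750) (iv5 D33565) (iv6 F52852) D72719 (iv6 F360599) (iv1 F379320) F379318 (iv6 D151164) F107732
def n190300 : Q := act 6 n95820
theorem D190300 : act 6 n95820 = n190300 := rfl
theorem F379322 : act 5 n190300 = n187327 := d12_1 D190300 F369843 F149920 F71652 (iv5 F147502)
theorem F379323 : act 7 n190300 = n95829 := d14_2 D95820 D190300 (iv6 D95829) (iv7 D44749) (iv6 F70336)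
def n190301 : Q := act 4 n95822
theorem D190301 : act 4 n95822 = n190301 := rfl
def n190302 : Q := act 6 n95822
theorem D190302 : act 6 n95822 = n190302 := rfl
theorem F379324 : act 2 n190302 = n104672 := d3_1 D190302 F363599 F149925
theorem F379325 : act 3 n190302 = n95823 := d7_1 D190302 (iv6 D95823) D95822
theorem F379326 : act 5 n190302 = n104671 := d12_1 D190302 F352050 (iv5 D95371) D95372 (iv5 F147504)
theorem F379327 : act 0 n166413 = n190302 := d17_2 F340634 D166413 F379326 (iv4 F352038) (iv5 D152191) (iv0 F340922) F346412 F340641 (iv4 F258625)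
def n190303 : Q := act 0 n95823
theorem D190303 : act 0 n95823 = n190303 := rfl
theorem F379328 : act 5 n190303 = n167764 := d17_3 (iv1 D189885) (iv5 F147505) D190303 (iv4 D167764) (iv5 D80505) F190175 D72627 D153595 (iv4 F378102)
theorem F379329 : act 0 n187273 = n96025 := d21_4 F379328 (iv1 F369669) (iv5 D187272) D187273 F290799 (iv5 D48279) (iv1 F290643) F70339 D95823 D190303
theorem F379330 : act 1 n104710 = n190303 := d17_6 F336614 F321786 (iv1 F188373) F333990 (iv4 F340309) F340350 F379328 (iv0 F354854) (iv4 F230704)
def n190304 : Q := act 7 n95823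
theorem D190304 : act 7 n95823 = n190304 := rfl
theorem F379331 : act 2 n190304 = n104710 := d4_1 D190304 (iv7 F340374) F149873
theorem F379332 : act 5 n190304 = n189886 := d13_1 D190304 (iv7 D189886) (iv5 F147505)
def n190305 : Q := act 3 n95824
theorem D190305 : act 3 n95824 = n190305 := rfl
theorem F379333 : act 5 n190305 = n188684 := d6_2 F367195 D190305 (iv3 F374445)
theorem F379334 : act 7 n190305 = n190194 := d8_2 F147508 D190305 (iv3 D190194)
theorem F379335 : act 2 n189061 = n190305 := d2_3 F379333 F374443 D189061
theorem F379336 : act 6 n188962 = n190305 := d12_0 F379333 (iv6 D188684) F142787 D92930 D188962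
def n190306 : Q := act 6 n95824
theorem D190306 : act 6 n95824 = n190306 := rfl
theorem F379337 : act 2 n190306 = n190187 := d3_1 D190306 (iv6 D190187) F147507
theorem F379338 : act 3 n190306 = n188962 := d7_1 D190306 F379336 (iv3 D190305)
theorem F379339 : act 4 n190306 = n97008 := d10_1 D190306 (iv6 D97008) (iv4 F147506)
theorem F379340 : act 5 n190306 = n188956 := d12_1 D190306 (iv6 D188956) (iv5 F374441) F374446 F367195
def n190307 : Q := act 3 n95825
theorem D190307 : act 3 n95825 = n190307 := rfl
theorem F379341 : act 5 n190307 = n183930 := d6_2 (iv5 F291432) D190307 (iv3 D183930)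
theorem F379342 : act 7 n190307 = n190186 := d8_2 (iv7 F147509) D190307 (iv3 D190186)
def n190308 : Q := act 0 n95826
theorem D190308 : act 0 n95826 = n190308 := rfl
def n190309 : Q := act 1 n95826
theorem D190309 : act 1 n95826 = n190309 := rfl
def n190310 : Q := act 2 n95826
theorem D190310 : act 2 n95826 = n190310 := rfl
theorem F379343 : act 4 n190310 = n190127 := d1_2 F379276 D190310 (iv2 F379275)
theorem F379344 : act 7 n190126 = n190310 := d11_0 F379343 (iv7 D190127) D190126
theorem F379345 : act 1 n190309 = n190126 := d15_1 D190309 F379344 (iv2 D190310)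
def n190311 : Q := act 7 n95826
theorem D190311 : act 7 n95826 = n190311 := rfl
theorem F379346 : act 2 n190311 = n190126 := d4_1 D190311 F379344 (iv2 D190310)
theorem F379347 : act 3 n190311 = n95828 := d8_1 D190311 (iv7 D95828) D95826
theorem F379348 : act 4 n190311 = n190118 := d11_1 D190311 (iv7 F379278) F379276
theorem F379349 : act 1 n190126 = n190308 := d15_0 (iv0 D190308) D190311 F379346
theorem F379350 : act 6 n190119 = n190311 := d10_0 F379348 F378917 D190119
def n190312 : Q := act 6 n95828
theorem D190312 : act 6 n95828 = n190312 := rfl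
theorem F379351 : act 3 n190312 = n190119 := d7_1 D190312 F379350 F379347
theorem F379352 : act 4 n190312 = n95829 := d10_1 D190312 (iv6 D95829) (iv4 F147512)
def n190313 : Q := act 0 n95829
theorem D190313 : act 0 n95829 = n190313 := rfl
def n190314 : Q := act 1 n95829
theorem D190314 : act 1 n95829 = n190314 := rfl
def n190315 : Q := act 5 n95849
theorem D190315 : act 5 n95849 = n190315 := rfl
theorem F379353 : act 2 n190315 = n103731 := d2_1 D190315 F320990 (iv2 F317118)
theorem F379354 : act 6 n190315 = n147707 := d12_2 D95849 D190315 (iv5 D147707) (iv6 D69216) F317117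
theorem F379355 : act 7 n190315 = n103732 := d13_2 (iv7 F341048) D190315 F334498
theorem F379356 : act 0 n190315 = n103606 := d17_2 (iv1 F341046) D190315 (iv5 D103606) D103605 (iv5 F335074) (iv0 D118431) (iv5 F105162) F324918 (iv4 F334494)
theorem F379357 : act 1 n190315 = n103602 := d17_6 D38924 D84416 (iv1 F319124) (iv5 D127417) (iv4 F317119) D190315 (iv5 D103602) (iv0 D47985) F36226
theorem F379358 : act 0 n103759 = n144008 := d21_4 (iv5 D190315) (iv1 F341047) F288198 D103759 (iv6 D144008) D144007 (iv1 F356906) F356910 (iv6 F350560) (iv1 F379357)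
def n190316 : Q := act 1 n95854
theorem D190316 : act 1 n95854 = n190316 := rfl
theorem F379359 : act 1 n190316 = n95858 := d15_1 D190316 (iv7 D95858) (iv2 F147535)
theorem F379360 : act 7 n190316 = n95855 := d15_2 (iv0 F347818) D190316 (iv2 F354590)
theorem F379361 : act 5 n190316 = n155950 := d18_9 (iv1 F244969) (iv4 F176639) F377902 (iv4 F377901) (iv5 D189827) F248557 (iv0 F178166) (iv4 F147536) D190316
theorem F379362 : act 4 n118755 = n190316 := d20_0 (iv1 D190316) F147536 (iv3 F163148) F318922 (iv3 D69316) (iv4 F51167) F79158 D76533 D159871 F316758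
theorem F379363 : act 3 n188335 = n190316 := d20_3 (iv4 F378004) (iv1 D188334) D188335 (iv1 D190316) (iv3 F149935) (iv4 F347819) (iv1 F248416) (iv4 F377990) F377989 (iv1 F378002)
theorem F379364 : act 2 n190316 = n95856 := d0_1 F379363 F354587 F110923 (iv3 F169050) (iv2 F373094)
def n190317 : Q := act 3 n95855
theorem D190317 : act 3 n95855 = n190317 := rfl
theorem F379365 : act 2 n190317 = n155957 := d0_1 D190317 F244988 F110931 (iv3 F176640) F354590
theorem F379366 : act 5 n190317 = n155956 := d6_2 (iv5 F354591) D190317 F244977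
theorem F379367 : act 7 n190317 = n188335 := d8_2 F379360 D190317 F379363
theorem F379368 : act 0 n190317 = n127606 := d20_4 (iv4 F120349) D164617 (iv4 F259549) D190317 (iv3 D127606) (iv4 F205105) F205102 D143021 (iv3 F318875) (iv1 D95312)
theorem F379369 : act 4 n190317 = n188336 := d20_6 (iv4 F321661) F312417 F58162 (iv3 F70348) D95855 D190317 (iv1 F373100) F368341 F147110 (iv1 F70638)
theorem F379370 : act 0 n100722 = n190317 := d18_2 (iv1 F346309) F196499 F379369 F373098 F140260 F139110 (iv4 F373122) (iv0 D99032) F346311
def n190318 : Q := act 6 n95856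
theorem D190318 : act 6 n95856 = n190318 := rfl
theorem F379371 : act 3 n190318 = n155953 := d7_1 D190318 (iv6 D155953) (iv3 F354587)
def n190319 : Q := act 4 n95857
theorem D190319 : act 4 n95857 = n190319 := rfl
theorem F379372 : act 6 n190319 = n103121 := d10_2 (iv6 F147538) D190319 (iv4 D103121)
def n190320 : Q := act 0 n95862
theorem D190320 : act 0 n95862 = n190320 := rfl
theorem F379373 : act 4 n190320 = n112220 := d18_1 D190320 (iv1 F174510) (iv4 F337325) (iv5 D96264) (iv4 F321661) (iv0 D69110) (iv4 F315275) F71675 D95862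
theorem F379374 : act 5 n190320 = n103607 := d21_2 D95862 D190320 (iv6 D103607) (iv1 D47986) (iv6 D23150) (iv5 D10902) F7387 (iv5 F16012) D21319 D44759
theorem F379375 : act 2 n103753 = n190320 := d15_3 (iv0 D190320) F335115 (iv7 F358435)
theorem F379376 : act 1 n95867 = n190320 := d15_0 (iv0 D190320) F321392 (iv2 F321388)
theorem F379377 : act 7 n190320 = n147701 := d15_2 F335114 F379376 (iv2 F358437)
def n190321 : Q := act 5 n95865
theorem D190321 : act 5 n95865 = n190321 := rfl
theorem F379378 : act 2 n190321 = n105726 := d2_1 D190321 (iv5 D105726) (iv2 F317353)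
theorem F379379 : act 3 n190321 = n95867 := d6_1 D190321 (iv5 D95867) D95865
theorem F379380 : act 7 n190321 = n127611 := d13_2 F318770 D190321 (iv5 D127611)
theorem F379381 : act 4 n190321 = n107584 := d16_2 (iv4 F317354) D190321 (iv5 F224406) (iv4 D141356) (iv5 D66311) (iv4 D30975) F24344 (iv7 F37155) (iv2 F76979)
theorem F379382 : act 0 n190321 = n112149 := d17_2 (iv1 F317352) D190321 (iv5 F174377) (iv4 D67038) (iv5 D31215) D31212 D67029 (iv0 F205102) F205105
theorem F379383 : act 1 n190321 = n127613 := d17_6 (iv1 F173672) (iv5 D66301) (iv1 F49398) D48871 (iv4 F317354) D190321 (iv5 F224601) (iv0 D141565) (iv4 D66400)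
theorem F379384 : act 6 n190321 = n158859 := d21_3 (iv5 D127608) (iv1 F317352) D190321 (iv1 D158859) F113668 D75819 D158903 (iv5 F254080) (iv6 F353240) F223044
theorem F379385 : act 3 n158859 = n104816 := d7_1 F379384 F160652 (iv3 F379379)
def n190322 : Q := act 4 n95867
theorem D190322 : act 4 n95867 = n190322 := rfl
theorem F379386 : act 2 n190322 = n147671 := d1_1 D190322 F231436 (iv2 F321388)
theorem F379387 : act 3 n190322 = n109245 := d5_1 D190322 (iv4 F351989) (iv3 F351990) (iv4 F379381) F379379
theorem F379388 : act 7 n190322 = n136275 := d11_2 (iv7 F290430) D190322 (iv4 F359863)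
theorem F379389 : act 0 n190322 = n104845 := d17_0 F356889 F373312 F373310 (iv4 F340379) (iv5 F149952) (iv0 F335108) F335107 F335114 D190322
def n190323 : Q := act 6 n95869
theorem D190323 : act 6 n95869 = n190323 := rfl
theorem F379390 : act 2 n190323 = n188477 := d3_1 D190323 (iv6 F373621) (iv2 F358010)
theorem F379391 : act 5 n190323 = n187412 := d12_1 D190323 (iv6 F370248) F340414 (iv6 F159190) F159189
theorem F379392 : act 7 n190323 = n187274 := d14_2 (iv7 F358008) D190323 (iv6 D187274) (iv7 F138079) F340380
def n190324 : Q := act 3 n95870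
theorem D190324 : act 3 n95870 = n190324 := rfl
theorem F379393 : act 2 n190324 = n141566 := d0_1 D190324 F224602 (iv2 F317121) F340698 F358001
theorem F379394 : act 4 n190324 = n110369 := d5_2 (iv4 F358000) D190324 F353507 (iv4 F352009) F159117
theorem F379395 : act 5 n190324 = n141563 := d6_2 F147542 D190324 (iv3 F340732)
theorem F379396 : act 6 n190324 = n187286 := d7_2 F358002 D190324 (iv3 D187286)
theorem F379397 : act 7 n190324 = n188478 := d8_2 F358009 D190324 F373623
theorem F379398 : act 0 n190324 = n109607 := d19_4 F373459 F292256 (iv4 F358000) D190324 F182588 (iv4 F94395) (iv3 D31262) (iv1 F41648) F41646 (iv4 F48880) (iv3 F99619) (iv1 F99621) D64032 (iv4 F330993) F111651 (iv1 F77809) F46982 (iv4 F80757) (iv3 F172126)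
theorem F379399 : act 1 n190324 = n127608 := d15_1 (iv0 F379398) (iv7 F378335) F378332
def n190325 : Q := act 3 n95871
theorem D190325 : act 3 n95871 = n190325 := rfl
theorem F379400 : act 6 n190325 = n103124 := d7_2 (iv6 F147543) D190325 (iv3 D103124)
def n190326 : Q := act 5 n95871
theorem D190326 : act 5 n95871 = n190326 := rfl
theorem F379401 : act 0 n190326 = n112223 := d17_2 (iv1 F354596) D190326 (iv5 D112223) F81735 F337312 (iv0 D44939) D44941 D96267 F340724
def n190327 : Q := act 2 n95876
theorem D190327 : act 2 n95876 = n190327 := rfl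
theorem F379402 : act 3 n190327 = n123506 := d0_2 D95876 D190327 F197928 (iv3 D97227) F74240
theorem F379403 : act 4 n190327 = n128102 := d1_2 (iv4 F307296) D190327 (iv2 F305678)
theorem F379404 : act 5 n190327 = n123505 := d2_2 F153345 D190327 F197925
theorem F379405 : act 6 n190327 = n147607 := d3_2 (iv6 F359052) D190327 F350040
theorem F379406 : act 7 n190327 = n131248 := d4_2 (iv7 F307297) D190327 F210317
theorem F379407 : act 1 n190327 = n145748 := d15_0 F231358 (iv7 F307297) D190327
theorem F379408 : act 1 n145811 = n190327 := d15_0 F379407 F228882 D145811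
def n190328 : Q := act 4 n95880
theorem D190328 : act 4 n95880 = n190328 := rfl
theorem F379409 : act 2 n190328 = n142627 := d1_1 D190328 F334931 F337011
theorem F379410 : act 3 n190328 = n134363 := d5_1 D190328 (iv4 D134363) (iv3 F216364) (iv4 F337006) (iv3 F337010)
theorem F379411 : act 5 n190328 = n142538 := d16_1 D190328 (iv4 F348300) (iv5 D156726) (iv4 D74535) F311109 (iv4 F233059) (iv5 F306304) F306306 F337011
theorem F379412 : act 0 n190328 = n154930 := d17_0 (iv5 D154930) F235358 (iv5 F321734) (iv4 D144891) F307632 F232402 D85364 (iv0 F301289) D190328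
theorem F379413 : act 6 n139132 = n190328 := d21_3 F353442 (iv1 F353446) (iv5 F222316) F379412 F243620 (iv5 D73489) F304126 D39444 D85393 (iv1 F353441)
def n190329 : Q := act 6 n95880
theorem D190329 : act 6 n95880 = n190329 := rfl
theorem F379414 : act 4 n190329 = n139132 := d10_1 D190329 F379413 (iv4 D190328)
theorem F379415 : act 7 n190329 = n105831 := d14_2 (iv7 F337013) D190329 (iv6 D105831) (iv7 F233792) (iv6 F236766)
theorem F379416 : act 0 n190329 = n105821 := d21_4 F103968 D127958 F337012 D190329 (iv6 D105821) (iv5 F162521) F322619 F323526 D141551 F323409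
def n190330 : Q := act 4 n95881
theorem D190330 : act 4 n95881 = n190330 := rfl
theorem F379417 : act 3 n190330 = n142636 := d5_1 D190330 F336914 (iv3 F334046) F231108 (iv3 F306303)
theorem F379418 : act 5 n190330 = n142628 := d9_2 (iv5 F306304) D190330 (iv4 F338223) (iv5 D156719) (iv4 D74530) F311104 F233076 F337012 D190328 F379411 (iv4 F348300) (iv5 D156726) (iv4 D74535) F311109 (iv4 F233059)
theorem F379419 : act 6 n190330 = n105824 := d10_2 (iv6 F306305) D190330 (iv4 D105824)
theorem F379420 : act 7 n190330 = n142627 := d11_2 (iv7 F306306) D190330 F334931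
theorem F379421 : act 1 n190330 = n154930 := d18_6 (iv1 F232398) F311501 F309282 (iv4 F233059) (iv5 F306304) D190330 (iv4 F334946) (iv0 D120599) (iv5 D55537)
def n190331 : Q := act 1 n95888
theorem D190331 : act 1 n95888 = n190331 := rfl
theorem F379422 : act 1 n190331 = n127535 := d15_1 D190331 F356803 (iv2 F345667)
theorem F379423 : act 7 n190331 = n127555 := d15_2 (iv0 F308815) D190331 F243157
theorem F379424 : act 5 n190331 = n127437 := d17_7 F240602 (iv5 F334574) (iv1 F315771) (iv5 F334575) (iv4 F310998) (iv5 F199193) D190331 (iv0 D127437) (iv4 F204838)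
theorem F379425 : act 4 n190331 = n95923 := d17_9 (iv1 D95923) D95924 F147579 (iv5 D47770) (iv4 F44724) D58122 D124533 (iv5 F199193) D190331
theorem F379426 : act 2 n127674 = n190331 := d1_3 F379425 (iv2 F378425) F378423
def n190332 : Q := act 1 n95890
theorem D190332 : act 1 n95890 = n190332 := rfl
theorem F379427 : act 1 n190332 = n148984 := d15_1 D190332 (iv7 F236542) (iv2 F308808)
theorem F379428 : act 4 n190332 = n138628 := d17_9 F345977 F361437 (iv1 F338243) (iv5 F329163) F183938 F104049 D69855 (iv5 F308809) D190332
theorem F379429 : act 5 n190332 = n178853 := d18_9 (iv1 F348719) F282516 F342054 F305941 F131189 (iv4 F232003) F368628 F368625 D190332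
theorem F379430 : act 2 n179979 = n190332 := d2_3 F379429 F278724 D179979
def n190333 : Q := act 5 n95906
theorem D190333 : act 5 n95906 = n190333 := rfl
theorem F379431 : act 2 n190333 = n95908 := d2_1 D190333 (iv5 D95908) D95906
theorem F379432 : act 4 n190333 = n110749 := d9_1 D190333 F171429 (iv4 F93546) (iv5 F97951) (iv4 F215109) (iv5 F342240) (iv4 F342244) D189985 F378449 (iv5 D108300) (iv4 D50013) F311338 F70570 D83161 (iv4 F342253)
theorem F379433 : act 7 n190333 = n110747 := d13_2 F378442 D190333 F378445
theorem F379434 : act 1 n190333 = n112922 := d17_8 (iv1 F87494) (iv5 D55283) F76663 D78932 D164348 F378438 (iv0 F378439) D190333 (iv4 D112922)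
theorem F379435 : act 1 n112920 = n190333 := d15_0 F379434 (iv7 F210560) F210559
def n190334 : Q := act 6 n95906
theorem D190334 : act 6 n95906 = n190334 := rfl
theorem F379436 : act 2 n190334 = n95909 := d3_1 D190334 (iv6 D95909) D95906
theorem F379437 : act 3 n190334 = n102257 := d7_1 D190334 (iv6 F366709) (iv3 F342252)
theorem F379438 : act 4 n190334 = n161630 := d10_1 D190334 F255637 (iv4 F342253)
theorem F379439 : act 5 n102255 = n190334 := d6_0 F379437 (iv5 D102257) D102255
theorem F379440 : act 0 n130593 = n102255 := d21_7 (iv5 F378438) F378468 F378465 (iv6 D103723) D103718 (iv6 F357200) (iv5 F335529) F379439 (iv6 D190334) F378439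
def n190335 : Q := act 0 n95907
theorem D190335 : act 0 n95907 = n190335 := rfl
theorem F379441 : act 5 n190335 = n118481 := d17_1 D190335 F186371 (iv5 F312862) D176359 F346718 (iv0 F175872) F342258 (iv0 D95904) D95907
theorem F379442 : act 4 n190335 = n110763 := d18_3 F361783 D95907 D190335 (iv5 D110763) (iv4 D51065) D51064 (iv4 F356950) F356949 (iv5 F336410)
theorem F379443 : act 2 n118548 = n190335 := d15_3 (iv0 D190335) F342246 (iv7 F186456)
theorem F379444 : act 1 n120153 = n190335 := d15_0 (iv0 D190335) F342249 F342254
theorem F379445 : act 7 n190335 = n118554 := d15_2 D120153 F379444 F186463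
theorem F379446 : act 3 n121463 = n190335 := d19_19 (iv1 F379444) F312214 F128022 (iv3 D39543) (iv1 F44994) F310449 F54064 (iv3 F53988) (iv1 F42124) (iv5 F42157) (iv4 F86286) F86285 D63274 (iv5 F331616) (iv4 D117483) F85443 F53141 D73564 (iv4 F349371)
theorem F379447 : act 6 n155004 = n190335 := d21_9 F312214 F128024 D85129 (iv6 F328397) (iv1 F82049) D112592 F175186 F351330 (iv5 F243736) (iv1 F379444)
def n190336 : Q := act 6 n95907
theorem D190336 : act 6 n95907 = n190336 := rfl
theorem F379448 : act 2 n190336 = n161630 := d3_1 D190336 F255637 (iv2 F342247)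
theorem F379449 : act 3 n190336 = n172798 := d7_1 D190336 (iv6 F334516) F342255
theorem F379450 : act 4 n190336 = n95909 := d10_1 D190336 (iv6 D95909) D95907
theorem F379451 : act 5 n190336 = n119131 := d12_1 D190336 F343974 (iv5 F88732) D83158 (iv5 F342248)
theorem F379452 : act 0 n190336 = n121488 := d21_4 (iv5 D85129) (iv1 F128218) (iv5 F342248) D190336 (iv6 F364627) F182682 D145781 F347965 D157700 F347921
def n190337 : Q := act 1 n95908
theorem D190337 : act 1 n95908 = n190337 := rfl
theorem F379453 : act 1 n190337 = n110747 := d15_1 D190337 (iv7 F379433) F379431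
theorem F379454 : act 7 n190337 = n112920 := d15_2 (iv0 F361784) D190337 (iv2 F210559)
theorem F379455 : act 4 n190337 = n112921 := d17_9 (iv1 F189739) F189737 (iv1 F87485) F82402 D112928 F342258 (iv0 D95904) D95908 D190337
theorem F379456 : act 2 n112922 = n190337 := d1_3 F379455 F175857 D112922
theorem F379457 : act 5 n155977 = n190337 := d16_1 (iv4 F245017) F379455 F175859 (iv4 F94562) F314279 (iv4 F131225) D173491 F354609 (iv2 F176507)
def n190338 : Q := act 0 n95909
theorem D190338 : act 0 n95909 = n190338 := rfl
theorem F379458 : act 5 n190338 = n136309 := d17_1 D190338 (iv1 D136309) (iv5 F110952) (iv4 F175182) (iv5 F364625) F350911 F263489 (iv0 F379452) F379450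
def n190339 : Q := act 1 n95909
theorem D190339 : act 1 n95909 = n190339 := rfl
def n190340 : Q := act 5 n95909
theorem D190340 : act 5 n95909 = n190340 := rfl
theorem F379459 : act 2 n190340 = n102255 := d2_1 D190340 F379439 F379436
theorem F379460 : act 3 n190340 = n95924 := d6_1 D190340 (iv5 D95924) (iv3 F147567)
theorem F379461 : act 0 n190340 = n144245 := d21_7 (iv5 D45387) (iv1 F34083) D44712 D95732 F361783 D95909 D190340 (iv5 F364426) (iv6 D95741) (iv1 F71588)
theorem F379462 : act 7 n103191 = n190340 := d8_0 F379460 F334506 D103191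
def n190341 : Q := act 7 n95909
theorem D190341 : act 7 n95909 = n190341 := rfl
theorem F379463 : act 3 n190341 = n95925 := d8_1 D190341 (iv7 D95925) (iv3 F147567)
theorem F379464 : act 5 n190341 = n103191 := d13_1 D190341 F379462 (iv5 D190340)
theorem F379465 : act 6 n190341 = n127628 := d14_1 D190341 (iv7 F231540) F342245 F317851 D95909
def n190342 : Q := act 3 n95917
theorem D190342 : act 3 n95917 = n190342 := rfl
theorem F379466 : act 5 n190342 = n190290 := d6_2 (iv5 F147574) D190342 F379301
def n190343 : Q := act 4 n95917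
theorem D190343 : act 4 n95917 = n190343 := rfl
theorem F379467 : act 5 n190343 = n153319 := d16_1 D190343 (iv4 D153319) (iv5 D72438) (iv4 F106856) F106857 (iv4 F317728) F290443 (iv7 F378414) (iv2 F378412)
theorem F379468 : act 3 n190343 = n186228 := d19_3 (iv1 F324999) (iv5 F147574) D190343 (iv1 D186228) (iv5 F292041) (iv4 F375323) F375322 (iv1 F314708) (iv5 D124760) (iv4 D58322) F314328 (iv1 D16558) D16560 D34226 (iv3 F86274) D118547 (iv5 F330752) (iv4 F346912) F159172
def n190344 : Q := act 6 n95917
theorem D190344 : act 6 n95917 = n190344 := rfl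
theorem F379469 : act 5 n190344 = n190292 := d12_1 D190344 (iv6 D190292) (iv5 D95815) D95816 (iv5 F147574)
def n190345 : Q := act 4 n95918
theorem D190345 : act 4 n95918 = n190345 := rfl
def n190346 : Q := act 1 n95919
theorem D190346 : act 1 n95919 = n190346 := rfl
theorem F379470 : act 1 n190346 = n95936 := d15_1 D190346 (iv7 F378417) F378415
theorem F379471 : act 4 n120584 = n190346 := d18_5 F324998 (iv4 D120579) (iv1 D55530) D55531 D120584 F379470 (iv4 D95936) F147578 F147574
theorem F379472 : act 7 n190346 = n189714 := d11_2 F378986 F379471 (iv4 F378989)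
theorem F379473 : act 3 n189709 = n190346 := d8_3 F379472 (iv3 D189714) F377492
theorem F379474 : act 2 n189714 = n189441 := d15_3 (iv0 F376611) D190346 F379472
theorem F379475 : act 3 n189440 = n189713 := d0_4 D189714 F379474 (iv3 D189441) (iv2 F376609) F377496
theorem E103422 : n189710 = n93969 := (c8_4 D189440 F379475 (iv7 D189713) D189710)
theorem E103423 : n189437 = n94354 := ((D189437).symm.trans (sb E103422 (iv3 D189710)))
theorem E103424 : n189456 = n189438 := (((D189438).symm.trans (sb E103422 (iv4 F377493)))).symm
theorem F379476 : act 3 n94354 = n93969 := (sb E103423 (iv3 D189437))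
theorem F379477 : act 1 n189438 = n93975 := (sb E103424 (iv0 D189456))
theorem F379478 : act 3 n187841 = n188832 := d6_3 F375030 F379476 (iv5 F371796)
theorem F379479 : act 3 n189439 = n189712 := d7_3 (iv6 D189712) F379476 D189439
theorem F379480 : act 4 n176865 = n189709 := d20_2 (iv4 F129384) D176865 F379473 (iv1 D190346) (iv3 F361789) (iv4 D131115) (iv1 D61513) D61514 F352834 (iv1 D88719)
theorem F379481 : act 2 n189711 = n176865 := d1_3 F379480 (iv2 D189709) D189711
theorem F379482 : act 7 n189715 = n176865 := d11_0 F379480 (iv7 F377492) D189715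
theorem F379483 : act 2 n189715 = n176866 := d15_3 F377560 F377561 (iv7 F379482)
theorem F379484 : act 4 n176866 = n189713 := d1_2 D189715 F379483 F377496
theorem F379485 : act 7 n176866 = n189711 := d4_2 (iv7 F379482) F379483 F379481
def n190347 : Q := act 6 n95919
theorem D190347 : act 6 n95919 = n190347 := rfl
theorem F379486 : act 4 n190347 = n95920 := d10_1 D190347 (iv6 D95920) D95919
theorem F379487 : act 7 n190347 = n189615 := d14_2 (iv7 F376171) D190347 (iv6 D189615) F155694 D189233
theorem F379488 : act 5 n164510 = n190347 := d13_3 F379487 F377124 (iv7 F259269)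
theorem F379489 : act 3 n190347 = n164512 := d6_1 F379488 (iv5 D164512) D164510
theorem F379490 : act 0 n189696 = n190347 := d21_7 (iv5 F375808) F375809 (iv5 F358474) F349006 (iv1 D142081) D142084 (iv5 F377436) (iv5 F379488) F363835 (iv1 F346265)
theorem F379491 : act 4 n164512 = n131116 := d5_2 (iv4 F379486) F379489 F210005 (iv4 F361788) F361787
theorem F379492 : act 6 n164512 = n131115 := d7_2 D190347 F379489 F361789
def n190348 : Q := act 0 n95920
theorem D190348 : act 0 n95920 = n190348 := rfl
theorem F379493 : act 6 n190348 = n95986 := d21_5 (iv5 D21324) D21322 D44774 D95920 D190348 F306960 (iv1 D107306) (iv5 F356910) (iv6 D95951) (iv1 D44782)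
theorem F379494 : act 5 n190348 = n179277 := d21_0 F350210 F139652 (iv6 D44810) (iv1 D21336) (iv6 F33524) (iv5 D21324) D21322 D44774 D95920 D190348
def n190349 : Q := act 1 n95920
theorem D190349 : act 1 n95920 = n190349 := rfl
def n190350 : Q := act 5 n95920
theorem D190350 : act 5 n95920 = n190350 := rfl
theorem F379495 : act 2 n190350 = n103198 := d2_1 D190350 (iv5 F378420) F378419
theorem F379496 : act 6 n190350 = n95924 := d12_2 D95920 D190350 (iv5 D95924) (iv6 D44775) D44774
theorem F379497 : act 4 n190350 = n125003 := d16_4 F315716 F379488 F379486 D190350 (iv5 F339815) F230379 (iv5 F309626) F315573 (iv2 F226424)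
theorem F379498 : act 5 n188016 = n190349 := d17_1 D188016 (iv1 D190349) D190350 F379497 (iv5 F339815) F339817 F113820 D85471 (iv4 F350209)
theorem F379499 : act 7 n178930 = n190350 := d11_0 F379497 F355442 D178930
theorem F379500 : act 3 n190350 = n133346 := d20_3 (iv4 F319064) D125003 (iv4 F379497) (iv1 D133346) (iv3 D62585) (iv4 D29593) (iv1 D14056) D14057 D29596 D62591
theorem F379501 : act 5 n133346 = n114422 := d6_2 D190350 F379500 F361787
theorem F379502 : act 6 n133346 = n190340 := d7_2 (iv6 F379496) F379500 F379460
theorem F379503 : act 7 n133346 = n130542 := d8_2 F379499 F379500 (iv3 F366548)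
theorem F379504 : act 7 n113119 = n114422 := d13_2 F379503 F361834 (iv5 F379501)
theorem F379505 : act 2 n130542 = n133345 := d15_3 (iv0 D133345) D133346 F379503
theorem F379506 : act 2 n133346 = n130541 := d15_3 (iv0 D130541) D130542 (iv7 F379503)
theorem F379507 : act 6 n130541 = n102255 := d3_2 (iv6 F379502) F379506 (iv2 F379459)
theorem F379508 : act 7 n130541 = n133345 := d4_2 (iv7 F379503) F379506 (iv2 F379505)
theorem F379509 : act 3 n102258 = n130541 := d7_3 F379507 (iv3 D102255) D102258
theorem F379510 : act 4 n102258 = n138458 := d20_6 (iv4 D25328) (iv1 F23052) D28997 D61250 D130541 (iv3 F379509) (iv1 D138458) F100842 (iv3 D61253) (iv1 F46631)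
theorem F379511 : act 6 n138458 = n102256 := d10_2 D102258 F379510 (iv4 D102256)
theorem F379512 : act 2 n114421 = n113119 := d2_3 (iv5 F361834) F379505 F361841
theorem F379513 : act 7 n113118 = n114421 := d15_2 F178461 F178459 F379512
theorem F379514 : act 2 n113118 = n114422 := d4_3 (iv7 F379504) (iv2 F379512) (iv7 F379513)
theorem F379515 : act 5 n130541 = n113118 := d2_0 F379514 (iv5 F379501) F379506
theorem F379516 : act 6 n190333 = n113118 := d3_0 F379514 (iv6 F361786) (iv2 F379431)
theorem F379517 : act 5 n136308 = n190339 := d21_0 (iv1 D190339) D190340 (iv6 F379502) (iv1 D133346) F344602 (iv5 D58887) F45267 D30203 D64082 D136308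
def n190351 : Q := act 7 n95920
theorem D190351 : act 7 n95920 = n190351 := rfl
theorem F379518 : act 3 n190351 = n113119 := d8_1 D190351 F379504 F361787
theorem F379519 : act 4 n190351 = n189615 := d11_1 D190351 (iv7 F379487) F379486
theorem F379520 : act 5 n190351 = n178930 := d13_1 D190351 F379499 (iv5 D190350)
theorem F379521 : act 6 n190351 = n189614 := d14_1 D190351 F377119 F367198 F317853 D95920
def n190352 : Q := act 4 n95924
theorem D190352 : act 4 n95924 = n190352 := rfl
theorem F379522 : act 2 n190352 = n103197 := d1_1 D190352 (iv4 D103197) (iv2 F334505)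
theorem F379523 : act 6 n190352 = n125003 := d10_2 F379496 D190352 (iv4 F379497)
theorem F379524 : act 7 n190352 = n103192 := d11_2 (iv7 F334506) D190352 (iv4 D103192)
theorem F379525 : act 5 n190352 = n172024 := d16_1 D190352 (iv4 F343960) F343961 F231625 (iv5 F231636) (iv4 F378428) F378429 F378406 (iv2 F334505)
theorem F379526 : act 0 n190352 = n155658 := d17_0 (iv5 F341653) (iv1 D133056) D133057 F343373 (iv5 D103035) (iv0 D47768) D47770 (iv0 F147579) D190352
theorem F379527 : act 1 n190352 = n155662 := d18_6 (iv1 F368636) F368638 (iv1 F312756) F147570 D95924 D190352 (iv4 F346764) (iv0 F346766) F346786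
theorem F379528 : act 3 n172026 = n190352 := d6_3 F379525 (iv3 D172024) D172026
def n190353 : Q := act 5 n95928
theorem D190353 : act 5 n95928 = n190353 := rfl
theorem F379529 : act 2 n190353 = n127110 := d2_1 D190353 (iv5 F355235) (iv2 F347581)
theorem F379530 : act 7 n190353 = n127109 := d13_2 (iv7 F347585) D190353 F355232
theorem F379531 : act 1 n95948 = n190353 := d15_1 (iv0 F356964) F379530 F355231
theorem F379532 : act 1 n190353 = n127112 := d15_1 F379531 (iv7 D127112) (iv2 F356961)
def n190354 : Q := act 5 n95929
theorem D190354 : act 5 n95929 = n190354 := rfl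
theorem F379533 : act 2 n190354 = n95931 := d2_1 D190354 (iv5 D95931) D95929
theorem F379534 : act 3 n190354 = n110747 := d6_1 D190354 F378445 F378440
def n190355 : Q := act 6 n95929
theorem D190355 : act 6 n95929 = n190355 := rfl
theorem F379535 : act 2 n190355 = n95932 := d3_1 D190355 (iv6 D95932) D95929
theorem F379536 : act 4 n190355 = n114153 := d10_1 D190355 F178025 (iv4 F361700)
theorem F379537 : act 7 n164374 = n190355 := d11_0 F379536 F177886 D164374
theorem F379538 : act 0 n114855 = n190355 := d18_2 (iv1 F178911) D114855 F379536 (iv5 F251283) F251282 F248567 (iv4 F178430) (iv0 F178432) (iv5 F178910)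
theorem F379539 : act 1 n114846 = n190355 := d18_6 (iv1 D25577) F20109 D16939 F136445 D52992 D114846 F379536 F177885 (iv5 D52699)
def n190356 : Q := act 0 n95931
theorem D190356 : act 0 n95931 = n190356 := rfl
def n190357 : Q := act 1 n95931
theorem D190357 : act 1 n95931 = n190357 := rfl
theorem F379540 : act 5 n190357 = n190269 := d17_7 F335164 (iv5 F374535) F374537 (iv5 F346181) (iv4 D95930) D95931 D190357 (iv0 F379252) F346743
def n190358 : Q := act 4 n95931
theorem D190358 : act 4 n95931 = n190358 := rfl
def n190359 : Q := act 6 n95931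
theorem D190359 : act 6 n95931 = n190359 := rfl
theorem F379541 : act 3 n190359 = n95937 := d7_1 D190359 (iv6 D95937) (iv3 F147582)
def n190360 : Q := act 5 n95932
theorem D190360 : act 5 n95932 = n190360 := rfl
theorem F379542 : act 3 n190360 = n95940 := d6_1 D190360 (iv5 D95940) (iv3 F147583)
def n190361 : Q := act 7 n95932
theorem D190361 : act 7 n95932 = n190361 := rfl
theorem F379543 : act 2 n190361 = n164374 := d4_1 D190361 F379537 F379535
theorem F379544 : act 3 n190361 = n95941 := d8_1 D190361 (iv7 D95941) (iv3 F147583)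
theorem F379545 : act 4 n190361 = n114152 := d11_1 D190361 (iv7 F177884) (iv4 F346176)
theorem F379546 : act 6 n190361 = n102262 := d14_1 D190361 F378401 (iv6 D189977) F317854 D95932
theorem F379547 : act 1 n114855 = n190361 := d15_1 (iv0 F379538) (iv7 D190361) (iv2 F379535)
theorem F379548 : act 1 n190361 = n114846 := d15_1 F379547 (iv7 F193552) F193551
def n190362 : Q := act 1 n95933
theorem D190362 : act 1 n95933 = n190362 := rfl
theorem F379549 : act 1 n190362 = n148682 := d15_1 D190362 F310419 (iv2 F310420)
theorem F379550 : act 7 n190362 = n148678 := d15_2 (iv0 F233446) D190362 F233431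
theorem F379551 : act 5 n190362 = n124141 := d17_7 (iv1 D179981) D179983 (iv1 F280332) (iv5 D150113) F155410 (iv5 F310421) D190362 F306490 F280321
theorem F379552 : act 4 n190362 = n148681 := d17_9 (iv1 F233438) (iv5 F323270) (iv1 F203438) (iv5 F338625) F183354 F104051 (iv0 F232394) (iv5 F310421) D190362
theorem F379553 : act 3 n120599 = n190362 := d20_3 D190328 F379412 (iv4 F334946) (iv1 D190362) (iv3 D95933) (iv4 D44778) (iv1 D21323) (iv4 F33523) (iv3 F70355) D95880
theorem F379554 : act 2 n190362 = n148685 := d0_1 F379553 (iv3 F309871) (iv2 F312047) F232624 F232671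
def n190363 : Q := act 3 n95936
theorem D190363 : act 3 n95936 = n190363 := rfl
theorem F379555 : act 6 n190363 = n189616 := d7_2 F364061 D190363 (iv3 D189616)
def n190364 : Q := act 5 n95937
theorem D190364 : act 5 n95937 = n190364 := rfl
theorem F379556 : act 6 n190364 = n95940 := d12_2 D95937 D190364 (iv5 D95940) (iv6 D44780) D44779
def n190365 : Q := act 4 n95940
theorem D190365 : act 4 n95940 = n190365 := rfl
theorem F379557 : act 2 n190365 = n133372 := d1_1 D190365 F358455 (iv2 F317846)
theorem F379558 : act 7 n190365 = n190099 := d11_2 F369928 D190365 F378853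
theorem F379559 : act 5 n190365 = n128255 := d16_1 D190365 (iv4 D128255) D128256 F206381 F192125 F105403 D127629 (iv7 F231542) (iv2 F317846)
theorem F379560 : act 0 n190365 = n190100 := d18_2 F147585 D190365 F378856 (iv5 D97063) (iv4 F320363) (iv0 F314790) F149014 F71655 D95763
theorem F379561 : act 1 n190365 = n97077 := d18_6 (iv1 F320030) F320031 F192078 (iv4 F315578) D95940 D190365 (iv4 F361121) F369951 F369949
def n190366 : Q := act 2 n95943
theorem D190366 : act 2 n95943 = n190366 := rfl
theorem F379562 : act 3 n190366 = n127112 := d0_2 D95943 D190366 F378454 (iv3 D189986) F335104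
theorem F379563 : act 4 n190366 = n110753 := d1_2 (iv4 F356950) D190366 (iv2 F171440)
theorem F379564 : act 7 n190366 = n110756 := d4_2 F378467 D190366 (iv2 F378463)
theorem F379565 : act 6 n142493 = n190366 := d14_5 F379564 F355229 F84703 D66806 D142493
theorem F379566 : act 1 n164348 = n190366 := d15_1 (iv0 F378468) F379564 (iv2 F378463)
def n190367 : Q := act 5 n95943
theorem D190367 : act 5 n95943 = n190367 := rfl
theorem F379567 : act 3 n190367 = n95945 := d6_1 D190367 (iv5 D95945) D95943
theorem F379568 : act 4 n190367 = n110650 := d9_1 D190367 F346714 (iv4 F97916) (iv5 D62761) (iv4 F54249) (iv5 F80527) D110756 (iv5 F346718) (iv4 D176359) F312862 (iv4 F106308) F106305 (iv4 F97842) F97847 (iv4 F356950)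
theorem F379569 : act 7 n190367 = n103723 := d13_2 F378467 D190367 (iv5 F378465)
theorem F379570 : act 0 n190367 = n137280 := d17_2 (iv1 F356949) D190367 F344961 (iv4 D112922) (iv5 D52124) F82395 D112919 F175856 D112926
def n190368 : Q := act 6 n95943
theorem D190368 : act 6 n95943 = n190368 := rfl
theorem F379571 : act 2 n190368 = n142493 := d3_1 D190368 F379565 (iv2 D190366)
theorem F379572 : act 3 n190368 = n95946 := d7_1 D190368 (iv6 D95946) D95943
theorem F379573 : act 4 n190368 = n110759 := d10_1 D190368 (iv6 D110759) (iv4 F356950)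
theorem F379574 : act 7 n190368 = n142437 := d14_2 F378467 D190368 (iv6 D142437) (iv7 F181767) (iv6 F378466)
theorem F379575 : act 1 n142491 = n190368 := d15_1 D142491 F379574 F225345
theorem F379576 : act 1 n190368 = n142490 := d15_0 (iv0 D142490) D142493 (iv2 F379571)
def n190369 : Q := act 0 n95944
theorem D190369 : act 0 n95944 = n190369 := rfl
theorem F379577 : act 5 n190369 = n98100 := d17_1 D190369 (iv1 F364058) F364047 (iv4 D95936) (iv5 D44779) F70149 (iv5 F147147) F147150 D95944
theorem F379578 : act 4 n190369 = n189851 := d18_3 D44781 D95944 D190369 F377988 (iv4 F312743) (iv0 D95911) (iv4 D44773) (iv0 D21322) D21324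
theorem F379579 : act 1 n95949 = n190369 := d15_0 (iv0 D190369) F356940 (iv2 F356939)
theorem F379580 : act 7 n189850 = n190369 := d11_0 F379578 (iv7 D189851) D189850
theorem F379581 : act 3 n190369 = n189308 := d8_1 F379580 (iv7 F376940) (iv3 F377987)
theorem F379582 : act 2 n190369 = n184733 := d15_3 (iv0 F378461) F378462 F379580
theorem F379583 : act 6 n189377 = n190369 := d3_0 F379582 (iv6 F377311) F377310
def n190370 : Q := act 1 n95944
theorem D190370 : act 1 n95944 = n190370 := rfl
theorem F379584 : act 1 n190370 = n95949 := d15_1 D190370 (iv7 F378460) F378458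
theorem F379585 : act 7 n190370 = n184733 := d15_2 (iv0 D190369) D190370 (iv2 F379582)
theorem F379586 : act 5 n190370 = n184734 := d17_7 (iv1 F283433) F283430 (iv1 F133434) D87401 D183097 F335103 D190370 (iv0 F287206) (iv4 D183105)
theorem F379587 : act 6 n96020 = n190370 := d21_3 (iv5 F70380) D96019 (iv5 F147644) (iv1 D190370) (iv6 F340311) F178637 (iv1 F144563) (iv5 F376131) F376132 (iv1 F147617)
theorem F379588 : act 2 n190370 = n189850 := d3_1 F379587 F377984 F147646
theorem F379589 : act 4 n190370 = n96244 := d10_1 F379587 F148024 (iv4 F147645)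
theorem F379590 : act 3 n188861 = n190370 := d0_0 F379588 F377987 F376947 F377229 (iv2 F377228)
def n190371 : Q := act 5 n95948
theorem D190371 : act 5 n95948 = n190371 := rfl
theorem F379591 : act 2 n190371 = n127111 := d2_1 D190371 (iv5 D127111) (iv2 F356961)
theorem F379592 : act 3 n190371 = n95950 := d6_1 D190371 (iv5 D95950) D95948
theorem F379593 : act 6 n190371 = n103600 := d12_2 (iv6 F356963) D190371 F350557 (iv6 D59658) D59657
theorem F379594 : act 4 n190371 = n159452 := d17_4 (iv1 F347580) D190353 (iv1 F379531) D190371 F251089 F176936 F176781 F177944 F332627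
def n190372 : Q := act 3 n95952
theorem D190372 : act 3 n95952 = n190372 := rfl
theorem F379595 : act 2 n190372 = n151941 := d0_1 D190372 F238928 F215148 F210414 F348081
theorem F379596 : act 6 n190372 = n131335 := d7_2 (iv6 F348080) D190372 F210498
def n190373 : Q := act 5 n95954
theorem D190373 : act 5 n95954 = n190373 := rfl
theorem F379597 : act 2 n190373 = n188040 := d2_1 D190373 F372189 (iv2 F356944)
theorem F379598 : act 3 n190373 = n95955 := d6_1 D190373 (iv5 D95955) D95954
theorem F379599 : act 6 n190373 = n159483 := d12_2 (iv6 F147589) D190373 F377589 (iv6 F377585) (iv5 D96044)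
theorem F379600 : act 7 n190373 = n188041 := d13_2 (iv7 F356943) D190373 F372192
theorem F379601 : act 0 n190373 = n159478 := d21_1 D190373 (iv5 F251394) (iv6 D159600) F120142 (iv6 F259057) (iv5 D164414) F206696 (iv5 F163785) (iv6 F164538) (iv1 F356952)
theorem F379602 : act 0 n188029 = n190373 := d21_10 (iv5 D190373) F356951 (iv5 F114239) (iv6 D76238) (iv1 F83221) (iv6 F142854) (iv5 D92688) (iv1 F176024) D90747 D188029
def n190374 : Q := act 6 n95955
theorem D190374 : act 6 n95955 = n190374 := rfl
theorem F379603 : act 3 n190374 = n159483 := d7_1 D190374 (iv6 F379599) F379598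
theorem F379604 : act 4 n190374 = n189575 := d10_1 D190374 F377014 (iv4 F356679)
theorem F379605 : act 5 n190374 = n96046 := d12_1 D190374 (iv6 D96046) (iv5 D44814) (iv6 F70359) D95955
theorem F379606 : act 7 n190374 = n183163 := d14_2 F356678 D190374 (iv6 D183163) F134182 (iv6 F283428)
def n190375 : Q := act 6 n95956
theorem D190375 : act 6 n95956 = n190375 := rfl
theorem F379607 : act 4 n190375 = n95957 := d10_1 D190375 (iv6 D95957) (iv4 F147590)
theorem F379608 : act 5 n190375 = n183164 := d12_1 D190375 (iv6 D183164) F134186 (iv6 F283428) (iv5 F356677)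
theorem F379609 : act 7 n190375 = n96047 := d14_2 D95956 D190375 (iv6 D96047) (iv7 D44815) (iv6 F70359)
theorem F379610 : act 0 n151976 = n190375 := d19_0 F379608 F284761 F337794 (iv1 F212148) (iv5 D130720) F95809 (iv3 D29035) F23079 D13993 F23317 D14136 (iv1 F54227) (iv5 D29686) D29685 (iv3 F52349) (iv1 F52350) D33132 D71654 D151976
def n190376 : Q := act 5 n95959
theorem D190376 : act 5 n95959 = n190376 := rfl
theorem F379611 : act 3 n190376 = n189661 := d6_1 D190376 (iv5 D189661) (iv3 F147593)
def n190377 : Q := act 6 n95960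
theorem D190377 : act 6 n95960 = n190377 := rfl
def n190378 : Q := act 4 n95969
theorem D190378 : act 4 n95969 = n190378 := rfl
theorem F379612 : act 3 n190378 = n189343 := d5_1 D190378 (iv4 D189343) (iv3 F251933) F331389 F288030
theorem F379613 : act 7 n190378 = n135522 := d11_2 F360335 D190378 F364264
theorem F379614 : act 5 n190378 = n135523 := d17_5 F378479 F147170 D103213 F251253 D190378 F217929 (iv5 F377676) (iv0 F377678) F378481
def n190379 : Q := act 6 n95969
theorem D190379 : act 6 n95969 = n190379 := rfl
def n190380 : Q := act 3 n95970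
theorem D190380 : act 3 n95970 = n190380 := rfl
theorem F379615 : act 2 n190380 = n189389 := d0_1 D190380 (iv3 D189389) F331410 (iv3 F360340) F360337
theorem F379616 : act 4 n189394 = n190380 := d20_2 D97474 (iv1 F376897) (iv3 D190380) (iv1 D95970) F70362 D44792 D95982 F147616 F150252 (iv1 D97473)
def n190381 : Q := act 0 n95971
theorem D190381 : act 0 n95971 = n190381 := rfl
theorem F379617 : act 4 n190381 = n97430 := d18_3 (iv1 D95970) D95971 D190381 F294505 F133276 D87176 F293513 D103214 F360338
theorem F379618 : act 7 n135643 = n190381 := d11_0 F379617 F294506 (iv4 F365384)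
theorem F379619 : act 5 n135644 = n190381 := d19_1 F378531 F379617 (iv3 D97430) (iv1 F71749) (iv5 D21733) (iv4 D10361) D10360 (iv1 F62628) (iv5 F292539) (iv4 F14735) D16693 F30729 F324231 F19701 (iv3 F19697) D25142 F81336 D63195 D134506
def n190382 : Q := act 1 n95971
theorem D190382 : act 1 n95971 = n190382 := rfl
def n190383 : Q := act 5 n95971
theorem D190383 : act 5 n95971 = n190383 := rfl
theorem F379620 : act 3 n190383 = n111865 := d6_1 D190383 (iv5 F218092) F364632
theorem F379621 : act 6 n190383 = n114777 := d12_2 (iv6 F364634) D190383 (iv5 D114777) (iv6 F321736) (iv5 F226880)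
theorem F379622 : act 7 n190383 = n130712 := d13_2 F378483 D190383 F378485
theorem F379623 : act 0 n127401 = n190383 := d21_10 (iv5 D190383) D190381 (iv5 F379619) F218130 (iv1 F218141) F363818 F105005 (iv1 F51376) D59837 D127401
theorem F379624 : act 4 n132251 = n190383 := d5_0 F379620 (iv4 D111865) (iv3 F168989) F168991 D132251
theorem F379625 : act 0 n146862 = n132251 := d20_7 (iv4 D125760) D125759 F202262 D130701 F367056 F230246 (iv4 F230256) F379624 F379620 (iv1 F202271)
def n190384 : Q := act 4 n95973
theorem D190384 : act 4 n95973 = n190384 := rfl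
theorem F379626 : act 3 n190384 = n189664 := d5_1 D190384 (iv4 D189664) F288159 (iv4 F149911) F365306
theorem F379627 : act 5 n190384 = n151223 := d16_1 D190384 (iv4 D151223) (iv5 F176771) F176768 (iv5 F114296) (iv4 F114297) (iv5 F324610) (iv7 F365314) F365312
def n190385 : Q := act 4 n95974
theorem D190385 : act 4 n95974 = n190385 := rfl
theorem F379628 : act 5 n190385 = n151224 := d9_2 (iv5 F324610) D190385 (iv4 D151224) F107769 F104138 (iv5 F185787) F185790 (iv5 F324608) D190384 F379627 (iv4 D151223) (iv5 F176771) F176768 (iv5 F114296) (iv4 F114297)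
theorem F379629 : act 3 n190385 = n103638 := d20_3 F352755 (iv1 F324609) D190385 (iv1 D103638) (iv3 D48000) (iv4 D23162) F292377 (iv4 F61505) (iv3 F133584) D182268
def n190386 : Q := act 0 n95979
theorem D190386 : act 0 n95979 = n190386 := rfl
theorem F379630 : act 4 n190386 = n106717 := d18_1 D190386 F164490 D189295 F376357 F287730 D185467 (iv4 F363525) (iv0 D104781) (iv5 F147611)
theorem F379631 : act 6 n190386 = n188462 := d21_5 F70163 (iv1 F66291) (iv5 F70364) D95979 D190386 (iv5 D188462) (iv1 D91874) F291971 (iv6 D44816) (iv1 F70161)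
theorem F379632 : act 1 n104854 = n190386 := d15_0 (iv0 D190386) (iv7 F340340) F340337
theorem F379633 : act 2 n104851 = n190386 := d1_3 F379630 (iv2 F209187) (iv4 F363604)
theorem F379634 : act 7 n104852 = n190386 := d11_0 F379630 (iv7 F171425) F340321
def n190387 : Q := act 1 n95979
theorem D190387 : act 1 n95979 = n190387 := rfl
theorem F379635 : act 1 n190387 = n104854 := d15_1 D190387 (iv7 D104854) (iv2 F147610)
theorem F379636 : act 7 n190387 = n104851 := d15_2 (iv0 D190386) D190387 F379633
theorem F379637 : act 4 n190387 = n106710 := d18_7 F83554 F83553 (iv1 D52163) F40027 D52164 (iv4 F340316) D190387 F164468 (iv5 D93869)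
theorem F379638 : act 2 n104852 = n190387 := d1_3 F379637 (iv2 F171423) F340321
def n190388 : Q := act 0 n95985
theorem D190388 : act 0 n95985 = n190388 := rfl
theorem F379639 : act 5 n190388 = n114552 := d17_1 D190388 F318190 F225397 (iv4 F356909) F356910 D107306 (iv5 F306960) (iv0 D95986) (iv4 F147620)
theorem F379640 : act 4 n190388 = n190020 := d18_3 (iv1 D95987) (iv4 F147620) D190388 F378582 (iv4 D107300) F80771 (iv4 F102644) F165366 (iv5 F306964)
theorem F379641 : act 1 n142777 = n190388 := d15_0 (iv0 D190388) F306970 (iv2 F225677)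
theorem F379642 : act 2 n142849 = n190388 := d1_3 F379640 (iv2 F378584) F363581
theorem F379643 : act 7 n142848 = n190388 := d11_0 F379640 (iv7 F378585) F340516
def n190389 : Q := act 1 n95985
theorem D190389 : act 1 n95985 = n190389 := rfl
theorem F379644 : act 1 n190389 = n142777 := d15_1 D190389 (iv7 F226689) (iv2 F306967)
theorem F379645 : act 7 n190389 = n142849 := d15_2 (iv0 D190388) D190389 F379642
theorem F379646 : act 5 n190389 = n114553 := d17_7 (iv1 F172105) (iv5 D53653) (iv1 D25972) D25974 D53659 (iv5 F306969) D190389 F318193 (iv4 D67281)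
theorem F379647 : act 4 n190021 = n190389 := d20_0 (iv1 D190389) F147620 (iv3 F306966) (iv1 F355186) (iv3 D114417) (iv4 D52801) D52799 (iv4 F176125) F340456 (iv1 F378586)
theorem F379648 : act 2 n190389 = n142848 := d1_1 F379647 (iv4 F340516) F378589
def n190390 : Q := act 3 n95986
theorem D190390 : act 3 n95986 = n190390 := rfl
def n190391 : Q := act 4 n95987
theorem D190391 : act 4 n95987 = n190391 := rfl
theorem F379649 : act 2 n190391 = n142713 := d1_1 D190391 F226685 (iv2 F306963)
theorem F379650 : act 5 n190391 = n116401 := d9_2 (iv5 F306964) D190391 (iv4 D116401) (iv5 D53653) D53652 (iv5 F172108) F165368 (iv5 F306960) F331567 (iv5 D114221) F318234 (iv5 D53648) D53647 F172272 F172269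
theorem F379651 : act 7 n190391 = n142752 := d11_2 (iv7 F306965) D190391 F226682
theorem F379652 : act 0 n190391 = n96081 := d18_2 (iv1 F306962) D190391 F147694 D96084 F340462 F204482 (iv4 F166902) (iv0 D107482) (iv5 F103448)
def n190392 : Q := act 6 n95987
theorem D190392 : act 6 n95987 = n190392 := rfl
theorem F379653 : act 0 n190392 = n188458 := d21_10 (iv5 D188458) (iv1 F373514) (iv5 F378473) (iv6 D189990) (iv1 F147149) D95951 F356910 D107305 (iv5 F306964) D190392
def n190393 : Q := act 4 n95996
theorem D190393 : act 4 n95996 = n190393 := rfl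
theorem F379654 : act 7 n190393 = n180636 := d11_2 (iv7 F157290) D190393 (iv4 F366983)
theorem F379655 : act 5 n190393 = n159306 := d16_1 D190393 (iv4 F343686) F342869 F211427 F97674 (iv4 F70308) D95782 (iv7 F376683) F376682
theorem F379656 : act 0 n190393 = n181900 := d18_2 (iv1 F378506) D190393 (iv4 D181900) (iv5 D86878) (iv4 F64566) D89669 F350510 (iv0 F350511) (iv5 F378503)
theorem F379657 : act 3 n159307 = n190393 := d6_3 F379655 (iv3 D159306) D159307
def n190394 : Q := act 6 n95996
theorem D190394 : act 6 n95996 = n190394 := rfl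
theorem F379658 : act 2 n190394 = n189651 := d3_1 D190394 (iv6 F377269) F376682
def n190395 : Q := act 3 n96002
theorem D190395 : act 3 n96002 = n190395 := rfl
theorem F379659 : act 2 n190395 = n112268 := d0_1 D190395 (iv3 F346840) F147163 (iv3 F147635) (iv2 F306984)
theorem F379660 : act 4 n190395 = n96007 := d5_2 D96002 D190395 (iv3 D96007) (iv4 D44801) (iv3 F70376)
theorem F379661 : act 5 n190395 = n112230 := d6_2 (iv5 F294880) D190395 F326838
theorem F379662 : act 6 n190395 = n144188 := d7_2 (iv6 F306985) D190395 F226893
theorem F379663 : act 7 n190395 = n112271 := d8_2 (iv7 F306986) D190395 F346895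
theorem F379664 : act 0 n137281 = n190395 := d21_4 D190367 F379570 F344961 F344962 F379662 F360329 (iv1 F157625) D95735 (iv6 F336411) (iv1 F356949)
def n190396 : Q := act 4 n96006
theorem D190396 : act 4 n96006 = n190396 := rfl
theorem F379665 : act 6 n190396 = n189512 := d10_2 (iv6 F360307) D190396 F376775
def n190397 : Q := act 2 n96007
theorem D190397 : act 2 n96007 = n190397 := rfl
theorem F379666 : act 4 n190397 = n112268 := d1_2 F379660 D190397 (iv2 F379659)
theorem F379667 : act 1 n190397 = n111859 := d15_0 (iv0 F376689) F376688 D190397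
theorem F379668 : act 6 n190397 = n189992 := d21_5 F171439 (iv1 F83699) D54589 (iv6 F333570) (iv1 F379667) (iv5 F378485) F363172 F233474 (iv6 D110769) (iv1 F171437)
def n190398 : Q := act 6 n96007
theorem D190398 : act 6 n96007 = n190398 := rfl
theorem F379669 : act 2 n190398 = n189992 := d3_1 D190398 (iv6 F379668) (iv2 D190397)
theorem F379670 : act 3 n190398 = n96008 := d7_1 D190398 (iv6 D96008) D96007
theorem F379671 : act 4 n190398 = n144188 := d10_1 D190398 (iv6 F379662) F379660
theorem F379672 : act 7 n190398 = n144184 := d14_2 F376688 D190398 (iv6 D144184) (iv7 F182950) (iv6 F376687)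
theorem F379673 : act 1 n190382 = n190398 := d15_1 D190382 F379672 F364635
theorem E103425 : n190382 = n135637 := ((c17_8 F360342 (iv5 F360338) (iv1 D103214) (iv5 F147170) D190003 (iv5 F378530) F378532 D135637 F379673 F379671)).symm
theorem F379674 : act 0 n135637 = n95971 := (sb E103425 (iv1 D190382))
theorem F379675 : act 1 n135637 = n190398 := (sb E103425 F379673)
theorem F379676 : act 1 n190398 = n190381 := d15_1 F379675 (iv7 F379618) F218128
def n190399 : Q := act 0 n96008
theorem D190399 : act 0 n96008 = n190399 := rfl
def n190400 : Q := act 1 n96008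
theorem D190400 : act 1 n96008 = n190400 := rfl
theorem F379677 : act 1 n190400 = n142851 := d15_1 D190400 (iv7 F378489) F378486
theorem F379678 : act 4 n190025 = n190400 := d20_0 (iv1 D190400) F147637 (iv3 F147635) (iv1 F350527) F136147 (iv4 F64541) F64543 (iv4 F112880) (iv3 F328694) (iv1 F378598)
def n190401 : Q := act 5 n96008
theorem D190401 : act 5 n96008 = n190401 := rfl
def n190402 : Q := act 7 n96008
theorem D190402 : act 7 n96008 = n190402 := rfl
theorem F379679 : act 2 n190402 = n142851 := d4_1 D190402 (iv7 F378489) F378486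
theorem F379680 : act 3 n190402 = n144184 := d8_1 D190402 (iv7 F379672) F379670
theorem F379681 : act 4 n190402 = n96012 := d11_1 D190402 (iv7 D96012) (iv4 F147637)
theorem F379682 : act 6 n190402 = n142777 := d14_1 D190402 (iv7 F226689) F363532 F144812 D96008
theorem E103426 : n190399 = n135837 := ((c15_1 (iv0 F374938) (iv0 D190399) D190402 F379679)).symm
theorem F379683 : act 1 n135837 = n96008 := (sb E103426 (iv0 D190399))
def n190403 : Q := act 4 n96009
theorem D190403 : act 4 n96009 = n190403 := rfl
theorem F379684 : act 1 n190403 = n96120 := d18_6 F363843 (iv4 F297201) D78502 D163351 F364244 D190403 F147766 D96122 (iv5 F363845)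
def n190404 : Q := act 6 n96009
theorem D190404 : act 6 n96009 = n190404 := rfl
theorem F379685 : act 3 n190404 = n187275 := d7_1 D190404 F369681 (iv3 F369678)
theorem F379686 : act 5 n190404 = n187273 := d12_1 D190404 (iv6 D187273) D187272 (iv6 F369672) F364244
def n190405 : Q := act 4 n96010
theorem D190405 : act 4 n96010 = n190405 := rfl
theorem F379687 : act 0 n190405 = n96120 := d20_7 (iv4 F64581) (iv1 F64582) (iv4 F54925) (iv3 F113715) D158903 F364485 D190405 F147766 (iv3 F328693) (iv1 D75310)
def n190406 : Q := act 4 n96011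
theorem D190406 : act 4 n96011 = n190406 := rfl
theorem F379688 : act 6 n190406 = n96013 := d10_2 (iv6 F147638) D190406 (iv4 D96013)
def n190407 : Q := act 4 n96016
theorem D190407 : act 4 n96016 = n190407 := rfl
theorem F379689 : act 2 n190407 = n96017 := d1_1 D190407 (iv4 D96017) D96016
theorem F379690 : act 5 n190407 = n135636 := d17_5 D95969 (iv5 F251253) (iv1 F160707) F160705 D190407 F218132 F379619 (iv0 D190381) (iv4 D95971)
theorem F379691 : act 1 n190407 = n110769 := d18_6 (iv1 D181880) F133276 D87175 (iv4 F294385) F160705 D190407 F363170 D183237 (iv5 F367090)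
theorem F379692 : act 6 n190407 = n189608 := d21_5 (iv5 D108300) F79124 (iv5 F80531) D110769 (iv1 F379691) (iv5 D189608) (iv1 F157231) (iv5 F238529) (iv6 D151672) (iv1 F167461)
theorem F379693 : act 3 n189613 = n190407 := d7_3 F379692 F377100 D189613
def n190408 : Q := act 6 n96016
theorem D190408 : act 6 n96016 = n190408 := rfl
theorem F379694 : act 2 n190408 = n96018 := d3_1 D190408 (iv6 D96018) D96016
theorem F379695 : act 4 n190408 = n189608 := d10_1 D190408 (iv6 F379692) (iv4 D190407)
theorem F379696 : act 0 n190408 = n142481 := d21_4 (iv5 F251253) (iv1 F160707) F160705 D190408 (iv6 D142481) F181606 (iv1 F85051) D67544 (iv6 F308760) D95969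
theorem F379697 : act 1 n190408 = n186388 := d15_1 (iv0 F379696) (iv7 F359562) F226876
def n190409 : Q := act 0 n96017
theorem D190409 : act 0 n96017 = n190409 := rfl
theorem F379698 : act 4 n190409 = n97411 := d18_3 F157629 D96017 D190409 (iv5 D97411) (iv4 F294733) (iv0 F295197) (iv4 F65900) (iv0 F157624) D95735
theorem F379699 : act 3 n110784 = n190409 := d5_5 F379698 F150150 D97412 (iv3 F341804) (iv4 F171493)
theorem F379700 : act 7 n110769 = n190409 := d11_0 F379698 F150151 (iv4 F363170)
theorem F379701 : act 6 n190409 = n110768 := d14_1 F379700 (iv7 D110768) (iv6 D51066) D51067 D110769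
def n190410 : Q := act 6 n96017
theorem D190410 : act 6 n96017 = n190410 := rfl
theorem F379702 : act 2 n190410 = n189608 := d3_1 D190410 (iv6 F379692) F379689
theorem F379703 : act 4 n190410 = n96018 := d10_1 D190410 (iv6 D96018) D96017
theorem F379704 : act 5 n190410 = n189099 := d21_6 (iv5 D51058) D51056 (iv5 F108017) D151689 F363171 D190410 F375747 (iv5 F186438) (iv6 D118533) F86270
theorem F379705 : act 1 n189675 = n190410 := d17_6 F293933 D99010 (iv1 F367067) F367139 (iv4 F158220) (iv5 F377349) F379704 (iv0 F375748) (iv4 D186279)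
def n190411 : Q := act 5 n96018
theorem D190411 : act 5 n96018 = n190411 := rfl
theorem F379706 : act 3 n190411 = n96025 := d6_1 D190411 (iv5 D96025) (iv3 F147639)
theorem F379707 : act 6 n190411 = n104317 := d12_2 D96018 D190411 (iv5 D104317) (iv6 F290798) F76240
def n190412 : Q := act 7 n96018
theorem D190412 : act 7 n96018 = n190412 := rfl
theorem F379708 : act 3 n190412 = n96026 := d8_1 D190412 (iv7 D96026) (iv3 F147639)
theorem F379709 : act 1 n186388 = n190412 := d15_1 F379697 (iv7 D190412) (iv2 F379694)
theorem F379710 : act 1 n190412 = n142481 := d15_1 F379709 (iv7 F377661) F377660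
def n190413 : Q := act 3 n96019
theorem D190413 : act 3 n96019 = n190413 := rfl
theorem F379711 : act 7 n190413 = n190028 := d8_2 F147642 D190413 (iv3 D190028)
theorem F379712 : act 6 n188939 = n190413 := d14_5 F379711 F378613 F376940 (iv6 F376389) (iv7 F376951)
theorem F379713 : act 2 n190413 = n189384 := d3_1 F379712 (iv6 D189384) (iv2 F376950)
theorem F379714 : act 1 n189384 = n188526 := d15_0 (iv0 F378614) (iv7 F379711) F379713
def n190414 : Q := act 6 n96019
theorem D190414 : act 6 n96019 = n190414 := rfl
theorem F379715 : act 3 n190414 = n188939 := d7_1 D190414 F379712 (iv3 D190413)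
theorem F379716 : act 4 n190414 = n190015 := d10_1 D190414 (iv6 D190015) (iv4 F147640)
theorem F379717 : act 7 n190414 = n189377 := d14_2 F147642 D190414 F379583 (iv7 F379580) F377984
theorem F379718 : act 0 n190414 = n189223 := d21_4 (iv5 F70381) (iv1 F147643) F147644 D190414 (iv6 D189223) (iv5 D93785) F293966 D92316 (iv6 F363531) (iv1 D95983)
def n190415 : Q := act 3 n96020
theorem D190415 : act 3 n96020 = n190415 := rfl
theorem F379719 : act 5 n190415 = n190413 := d6_2 (iv5 F147644) D190415 (iv3 D190413)
theorem F379720 : act 6 n190415 = n188861 := d7_2 (iv6 F379587) D190415 F379590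
theorem F379721 : act 0 n190415 = n189489 := d21_10 (iv5 D189489) (iv1 D93984) (iv5 F293659) (iv6 D43183) (iv1 F36025) D47726 (iv5 F293200) D92858 D188861 (iv6 F379720)
theorem F379722 : act 1 n190415 = n189484 := d15_1 (iv0 F379721) F376670 F376667
def n190416 : Q := act 0 n96021
theorem D190416 : act 0 n96021 = n190416 := rfl
theorem F379723 : act 5 n190416 = n189685 := d17_3 (iv1 F363792) (iv5 F147647) D190416 F377393 F326852 (iv0 F174524) (iv5 F365723) (iv0 F327734) (iv4 F333567)
theorem F379724 : act 4 n190416 = n115104 := d18_3 F363753 F363790 D190416 (iv5 D115104) F83840 (iv0 F81414) D111865 F220679 F327581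
theorem F379725 : act 2 n130708 = n190416 := d1_3 F379724 F179247 D130708
theorem F379726 : act 3 n189686 = n190416 := d6_3 F379723 (iv3 D189685) D189686
def n190417 : Q := act 1 n96021
theorem D190417 : act 1 n96021 = n190417 := rfl
theorem F379727 : act 7 n190417 = n130708 := d15_2 (iv0 D190416) D190417 F379725
theorem F379728 : act 4 n190417 = n130709 := d17_9 (iv1 F327567) F327569 (iv1 D63832) D63833 D135767 F333566 (iv0 F369350) (iv5 F147647) D190417
theorem F379729 : act 6 n114598 = n190417 := d10_0 F379728 F327030 (iv4 F178687)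
def n190418 : Q := act 2 n96021
theorem D190418 : act 2 n96021 = n190418 := rfl
theorem F379730 : act 4 n190418 = n130620 := d1_2 F363790 D190418 F363785
theorem F379731 : act 5 n190418 = n190397 := d2_2 (iv5 F147647) D190418 (iv2 D190397)
theorem F379732 : act 1 n130708 = n190418 := d18_6 (iv1 F328437) (iv4 D61329) (iv1 D29031) (iv4 F46673) D61322 D130708 F379730 (iv0 D130620) (iv5 F103895)
theorem F379733 : act 0 n189682 = n189229 := d20_4 F369288 (iv1 F289102) F369378 D189682 F376157 (iv4 F379730) (iv1 F379732) (iv4 D130708) (iv3 F365938) (iv1 F369291)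
def n190419 : Q := act 6 n96021
theorem D190419 : act 6 n96021 = n190419 := rfl
theorem F379734 : act 3 n190419 = n96022 := d7_1 D190419 (iv6 D96022) D96021
theorem F379735 : act 0 n190419 = n145954 := d21_4 D133646 (iv1 F363792) (iv5 F147647) D190419 (iv6 D145954) (iv5 D68436) (iv1 F85198) (iv5 F104646) (iv6 F333579) (iv1 D133645)
theorem F379736 : act 5 n135805 = n190419 := d21_0 F379735 F338627 (iv6 D115147) (iv1 D53129) F40717 F48303 (iv1 F23881) D30124 D63857 D135805
theorem F379737 : act 1 n190419 = n186406 := d15_1 (iv0 F379735) (iv7 F326240) (iv2 F229196)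
def n190420 : Q := act 0 n96022
theorem D190420 : act 0 n96022 = n190420 := rfl
theorem F379738 : act 6 n190420 = n142843 := d21_5 F147684 (iv1 F147617) (iv5 F70380) D96022 D190420 (iv5 D142843) (iv1 F181570) (iv5 F226688) F363532 (iv1 F147686)
theorem F379739 : act 5 n115210 = n190420 := d12_5 F379738 (iv5 D142843) (iv6 F348995) (iv5 D115209) D115210
theorem F379740 : act 7 n189358 = n190420 := d14_0 F379738 F226341 F363539 (iv7 F294558) D189358
theorem F379741 : act 3 n190420 = n189363 := d8_1 F379740 (iv7 D189363) (iv3 F376465)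
def n190421 : Q := act 5 n96022
theorem D190421 : act 5 n96022 = n190421 := rfl
theorem F379742 : act 2 n190421 = n135532 := d2_1 D190421 F378515 F378511
theorem F379743 : act 3 n190421 = n135805 := d6_1 D190421 F379736 F379734
theorem F379744 : act 6 n190421 = n190401 := d12_2 D96022 D190421 (iv5 D190401) (iv6 D96008) (iv5 F70380)
theorem F379745 : act 0 n135834 = n190421 := d21_10 (iv5 D190421) D190420 (iv5 F379739) (iv6 D115210) (iv1 D53155) F40735 D30129 (iv1 F48428) D63870 D135834
def n190422 : Q := act 7 n96022
theorem D190422 : act 7 n96022 = n190422 := rfl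
theorem F379746 : act 4 n190422 = n96026 := d11_1 D190422 (iv7 D96026) (iv4 F147648)
theorem F379747 : act 1 n189358 = n190422 := d15_1 (iv0 F378514) (iv7 D190422) (iv2 F378511)
def n190423 : Q := act 2 n96023
theorem D190423 : act 2 n96023 = n190423 := rfl
theorem F379748 : act 7 n96024 = n190423 := d15_2 (iv0 D96023) D96024 (iv2 D190423)
def n190424 : Q := act 3 n96023
theorem D190424 : act 3 n96023 = n190424 := rfl
def n190425 : Q := act 4 n96023
theorem D190425 : act 4 n96023 = n190425 := rfl
theorem F379749 : act 6 n190425 = n112950 := d10_2 (iv6 F366864) D190425 F326248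
theorem F379750 : act 3 n112952 = n190425 := d7_3 F379749 (iv3 D112950) D112952
theorem F379751 : act 0 n96038 = n190425 := d21_4 (iv5 F147607) F147608 F70456 D96038 F379749 F326249 D142823 (iv5 F378579) (iv6 D190019) F147212
def n190426 : Q := act 5 n96023
theorem D190426 : act 5 n96023 = n190426 := rfl
def n190427 : Q := act 7 n96023
theorem D190427 : act 7 n96023 = n190427 := rfl
theorem F379752 : act 2 n190427 = n96024 := d4_1 D190427 F379748 (iv2 D190423)
def n190428 : Q := act 3 n96024
theorem D190428 : act 3 n96024 = n190428 := rfl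
def n190429 : Q := act 4 n96024
theorem D190429 : act 4 n96024 = n190429 := rfl
def n190430 : Q := act 5 n96024
theorem D190430 : act 5 n96024 = n190430 := rfl
theorem F379753 : act 6 n190313 = n190430 := d21_5 (iv5 D45353) F63254 (iv5 F70340) D95829 D190313 (iv5 D190430) (iv1 D96024) D96025 F290799 (iv1 F290679)
def n190431 : Q := act 6 n96024
theorem D190431 : act 6 n96024 = n190431 := rfl
def n190432 : Q := act 4 n96025
theorem D190432 : act 4 n96025 = n190432 := rfl
theorem F379754 : act 6 n190432 = n101435 := d10_2 (iv6 F290799) D190432 F156254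
def n190433 : Q := act 7 n96025
theorem D190433 : act 7 n96025 = n190433 := rfl
theorem F379755 : act 5 n190433 = n96026 := d13_1 D190433 (iv7 D96026) D96025
def n190434 : Q := act 6 n96029
theorem D190434 : act 6 n96029 = n190434 := rfl
theorem F379756 : act 2 n190434 = n96031 := d3_1 D190434 (iv6 D96031) D96029
theorem F379757 : act 5 n190434 = n134854 := d12_1 D190434 (iv6 F372081) (iv5 D188010) (iv6 F160713) F160712
def n190435 : Q := act 6 n96030
theorem D190435 : act 6 n96030 = n190435 := rfl
theorem F379758 : act 4 n190435 = n96031 := d10_1 D190435 (iv6 D96031) D96030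
theorem F379759 : act 0 n190435 = n190394 := d21_4 (iv5 D88757) D88754 (iv5 F360327) D190435 (iv6 D190394) (iv5 D95996) (iv1 D44797) D44799 D96003 (iv1 F350527)
theorem F379760 : act 5 n113083 = n190435 := d21_8 F377516 (iv1 F250177) F346852 (iv6 D67559) F49655 D67557 F103447 D113083 (iv6 D190435) (iv1 F377518)
theorem F379761 : act 4 n144208 = n144217 := d17_9 (iv1 D144217) F103447 D113083 F379760 F379758 (iv5 F372105) (iv0 F372106) (iv5 D144209) D144208
theorem F379762 : act 3 n113118 = n144208 := d20_5 (iv4 D29018) (iv1 F40533) F40530 (iv3 F82550) D113118 F379761 (iv1 D144217) F331489 (iv3 D52175) (iv1 F46660)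
theorem F379763 : act 5 n144208 = n102258 := d6_2 F379515 F379762 F379509
def n190436 : Q := act 1 n96031
theorem D190436 : act 1 n96031 = n190436 := rfl
def n190437 : Q := act 7 n96031
theorem D190437 : act 7 n96031 = n190437 := rfl
theorem F379764 : act 3 n190437 = n96036 := d8_1 D190437 (iv7 D96036) (iv3 F147650)
theorem F379765 : act 5 n190437 = n134849 := d13_1 D190437 F372107 F372105
def n190438 : Q := act 1 n96032
theorem D190438 : act 1 n96032 = n190438 := rfl
theorem F379766 : act 4 n190438 = n112228 := d17_9 (iv1 F174609) (iv5 D111855) (iv1 D51575) D51576 D111859 F333569 (iv0 F333582) (iv5 F147651) D190438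
theorem F379767 : act 5 n190417 = n190438 := d21_6 (iv5 D114579) F316008 D67955 (iv6 F320379) D114598 F379729 (iv1 D190438) F147651 F333585 (iv1 F318207)
theorem F379768 : act 2 n112262 = n190438 := d1_3 F379766 F174526 D112262
def n190439 : Q := act 2 n96032
theorem D190439 : act 2 n96032 = n190439 := rfl
theorem F379769 : act 5 n190439 = n133645 := d2_2 (iv5 F147651) D190439 (iv2 F333583)
theorem F379770 : act 1 n190439 = n112262 := d15_0 (iv0 F378509) F378508 D190439
def n190440 : Q := act 0 n96033
theorem D190440 : act 0 n96033 = n190440 := rfl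
theorem F379771 : act 5 n190440 = n176045 := d17_1 D190440 F363614 (iv5 F377124) (iv4 F379519) F379520 (iv0 F355437) (iv5 F355469) (iv0 D96034) (iv4 F147652)
theorem F379772 : act 3 n176048 = n190440 := d6_3 F379771 F275337 D176048
theorem F379773 : act 4 n130563 = n190440 := d16_0 F379771 (iv4 F363613) F253055 F233905 F355165 F323572 D130568 F366278 F366279
def n190441 : Q := act 1 n96033
theorem D190441 : act 1 n96033 = n190441 := rfl
theorem F379774 : act 5 n190441 = n149423 := d17_7 (iv1 D69058) (iv5 D32122) (iv1 F190198) F318128 (iv4 F181615) F333591 D190441 (iv0 F235006) (iv4 D147296)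
theorem F379775 : act 4 n190441 = n130568 := d17_9 (iv1 F355458) (iv5 D103322) (iv1 F331330) (iv5 F339718) F377434 F377436 F363634 F333591 D190441
theorem F379776 : act 6 n189299 = n190441 := d21_3 (iv5 D130612) (iv1 F171417) (iv5 F376368) (iv1 D190441) (iv6 D96033) F70381 D95982 (iv5 F147684) (iv6 F363518) (iv1 F209191)
theorem F379777 : act 3 n190441 = n189301 := d7_1 F379776 (iv6 D189301) D189299
def n190442 : Q := act 7 n96033
theorem D190442 : act 7 n96033 = n190442 := rfl
theorem F379778 : act 3 n190442 = n114771 := d8_1 D190442 F333592 F333588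
theorem F379779 : act 4 n190442 = n96036 := d11_1 D190442 (iv7 D96036) (iv4 F147652)
theorem F379780 : act 5 n190442 = n114759 := d13_1 D190442 (iv7 F318651) F333591
def n190443 : Q := act 6 n96034
theorem D190443 : act 6 n96034 = n190443 := rfl
theorem F379781 : act 5 n190443 = n136278 := d12_1 D190443 (iv6 D136278) D136277 (iv6 F355468) (iv5 F355469)
def n190444 : Q := act 3 n96035
theorem D190444 : act 3 n96035 = n190444 := rfl
def n190445 : Q := act 5 n96035
theorem D190445 : act 5 n96035 = n190445 := rfl
theorem F379782 : act 4 n190445 = n133328 := d9_1 D190445 F335857 (iv4 D146996) (iv5 F315734) F315733 (iv5 F164517) F355470 F355469 (iv4 D147290) (iv5 D69045) F51069 D32122 D69059 (iv5 F164505) (iv4 F356824)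
theorem F379783 : act 1 n190445 = n178930 := d17_8 (iv1 F200788) (iv5 F355165) (iv1 F230434) (iv5 F350202) (iv4 F350209) F139652 D96035 D190445 (iv4 D178930)
theorem F379784 : act 0 n190445 = n103198 := d18_0 F355516 (iv1 D85315) F318269 D130563 F379773 (iv0 D190440) F147652 D96035 D190445
theorem F379785 : act 6 n103259 = n190445 := d21_5 (iv5 D42016) D42014 F75046 D47850 D103259 (iv5 D190445) (iv1 D96035) (iv5 F139652) (iv6 D90728) F65627
theorem F379786 : act 0 n178934 = n107634 := d20_4 (iv4 F379782) F379784 F355516 D178934 (iv3 D107634) F78589 (iv1 D29587) D29588 D62576 D133328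
def n190446 : Q := act 0 n96037
theorem D190446 : act 0 n96037 = n190446 := rfl
theorem F379787 : act 4 n190446 = n186664 := d18_3 (iv1 F331368) (iv4 F331359) D190446 F367588 (iv4 F372811) F372815 (iv4 D187165) (iv0 D89658) (iv5 F292544)
theorem F379788 : act 0 n188521 = n190028 := d20_4 F379787 (iv1 D186664) D186665 (iv3 F377165) (iv3 D190028) (iv4 D95560) (iv1 F70429) F70430 D96037 D190446
theorem F379789 : act 1 n189622 = n190446 := d15_0 (iv0 D190446) (iv7 F331358) (iv2 F377150)
def n190447 : Q := act 1 n96037
theorem D190447 : act 1 n96037 = n190447 := rfl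
theorem F379790 : act 4 n190447 = n186663 := d18_7 D89016 F295035 F294954 (iv4 D94280) D94281 (iv4 F331359) D190447 (iv0 D186663) (iv5 D89018)
def n190448 : Q := act 2 n96037
theorem D190448 : act 2 n96037 = n190448 := rfl
theorem F379791 : act 4 n190448 = n102904 := d1_2 (iv4 F331359) D190448 (iv2 F331374)
theorem F379792 : act 7 n190448 = n189622 := d4_2 F331358 D190448 F377150
theorem F379793 : act 1 n190447 = n189622 := d15_1 D190447 (iv7 F379792) (iv2 D190448)
def n190449 : Q := act 6 n96037
theorem D190449 : act 6 n96037 = n190449 := rfl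
theorem F379794 : act 3 n190449 = n96038 := d7_1 D190449 (iv6 D96038) D96037
theorem F379795 : act 4 n190449 = n131309 := d10_1 D190449 F210447 (iv4 F331359)
theorem F379796 : act 7 n190449 = n131306 := d14_2 F331358 D190449 (iv6 D131306) (iv7 F97942) D133719
theorem F379797 : act 5 n183466 = n190449 := d13_3 F379796 (iv5 F367657) F367656
theorem F379798 : act 0 n186142 = n190449 := d19_0 (iv5 F379797) (iv4 D183466) F134453 F294457 (iv5 D40447) (iv4 D19115) (iv3 F15137) F17634 F17632 (iv4 F15014) (iv3 F31160) (iv1 F31163) D19482 (iv4 F61369) (iv3 F68552) (iv1 F295186) D44853 (iv4 F329425) (iv3 F288875)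
def n190450 : Q := act 1 n96038
theorem D190450 : act 1 n96038 = n190450 := rfl
def n190451 : Q := act 5 n96038
theorem D190451 : act 5 n96038 = n190451 := rfl
theorem F379799 : act 3 n190451 = n183466 := d6_1 D190451 F379797 F379794
theorem F379800 : act 4 n169936 = n190451 := d5_0 F379799 (iv4 D183466) F134453 F294460 D169936
def n190452 : Q := act 7 n96038
theorem D190452 : act 7 n96038 = n190452 := rfl
theorem F379801 : act 3 n190452 = n131306 := d8_1 D190452 (iv7 F379796) F379794
theorem F379802 : act 6 n190452 = n131304 := d14_1 D190452 (iv7 F348079) F348078 F147181 D96038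
def n190453 : Q := act 0 n96039
theorem D190453 : act 0 n96039 = n190453 := rfl
theorem F379803 : act 5 n190453 = n190446 := d17_3 (iv1 F364665) F147693 D190453 F379787 F367588 F360978 (iv5 F377654) (iv0 F377658) F376694
def n190454 : Q := act 1 n96039
theorem D190454 : act 1 n96039 = n190454 := rfl
theorem F379804 : act 5 n190454 = n190447 := d17_7 F151791 F292544 D89658 D187166 F369306 F147693 D190454 F379793 (iv4 D189622)
def n190455 : Q := act 2 n96039
theorem D190455 : act 2 n96039 = n190455 := rfl
theorem F379805 : act 3 n190455 = n189622 := d0_2 D96039 D190455 F377150 (iv3 F331354) F147180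
theorem F379806 : act 5 n190455 = n151979 := d2_2 F147693 D190455 F375298
def n190456 : Q := act 4 n96039
theorem D190456 : act 4 n96039 = n190456 := rfl
def n190457 : Q := act 6 n96039
theorem D190457 : act 6 n96039 = n190457 := rfl
theorem F379807 : act 3 n190457 = n96040 := d7_1 D190457 (iv6 D96040) D96039
def n190458 : Q := act 5 n96040
theorem D190458 : act 5 n96040 = n190458 := rfl
theorem F379808 : act 4 n190458 = n140785 := d9_1 D190458 (iv5 F339615) (iv4 D147282) (iv5 F339808) (iv4 F82433) (iv5 F170570) (iv4 F210444) F350218 (iv4 F315567) F315568 (iv4 F230409) D147286 F350216 F158316 F147782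
theorem F379809 : act 6 n190458 = n145481 := d12_2 D96040 D190458 F340513 (iv6 D96081) F70461
theorem F379810 : act 1 n190458 = n170585 := d17_8 F318655 (iv5 F318128) D68907 (iv5 F315734) F315733 (iv5 F164517) F355247 D190458 F268014
def n190459 : Q := act 0 n96041
theorem D190459 : act 0 n96041 = n190459 := rfl
theorem F379811 : act 4 n190459 = n188451 := d18_1 D190459 (iv1 F373529) (iv4 F373521) F165960 D133662 F376681 (iv4 F361221) F176051 F376735
theorem F379812 : act 5 n190459 = n190012 := d21_2 F376735 D190459 F378557 (iv1 D112958) (iv6 D52138) F39979 (iv1 F19910) D25334 D52165 D113014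
theorem F379813 : act 2 n96045 = n190459 := d15_3 (iv0 D190459) (iv0 D96041) D96045
theorem F379814 : act 1 n96042 = n190459 := d15_0 (iv0 D190459) F376747 (iv2 F376744)
theorem F379815 : act 7 n190459 = n96043 := d15_2 D96042 F379814 (iv2 D96043)
def n190460 : Q := act 2 n96041
theorem D190460 : act 2 n96041 = n190460 := rfl
theorem F379816 : act 5 n190460 = n107479 := d2_2 F376735 D190460 (iv2 F176054)
theorem F379817 : act 7 n190460 = n96042 := d4_2 (iv7 F376747) D190460 F376744
theorem F379818 : act 1 n190460 = n96043 := d15_0 F359040 (iv7 F376747) D190460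
theorem F379819 : act 1 n96045 = n190460 := d15_0 F379818 (iv7 F379815) (iv2 F379813)
def n190461 : Q := act 3 n96041
theorem D190461 : act 3 n96041 = n190461 := rfl
theorem F379820 : act 5 n190461 = n188164 := d6_2 F376735 D190461 (iv3 F373653)
def n190462 : Q := act 4 n96041
theorem D190462 : act 4 n96041 = n190462 := rfl
def n190463 : Q := act 6 n96041
theorem D190463 : act 6 n96041 = n190463 := rfl
theorem F379821 : act 7 n190463 = n106543 := d14_2 (iv7 F376747) D190463 (iv6 D106543) F163478 D106759
theorem F379822 : act 0 n190463 = n127399 := d21_10 (iv5 D127399) (iv1 D59835) (iv5 F77730) (iv6 D49216) D49214 (iv6 F348092) F348091 D113014 F376735 D190463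
theorem F379823 : act 0 n127396 = n190463 := d21_4 (iv5 D188030) (iv1 F251871) D188720 F374557 (iv6 D190463) (iv5 F376735) (iv1 F176051) (iv5 F376733) (iv6 D189504) F372179
theorem F379824 : act 4 n190463 = n125641 := d18_1 F379823 (iv1 D125641) D125642 (iv5 F342958) (iv4 F332853) (iv0 F332855) F176700 F94254 D127396
theorem F379825 : act 6 n125641 = n190462 := d10_2 D190463 F379824 (iv4 D190462)
def n190464 : Q := act 3 n96042
theorem D190464 : act 3 n96042 = n190464 := rfl
theorem F379826 : act 6 n190464 = n106538 := d7_2 (iv6 F376746) D190464 (iv3 D106538)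
theorem F379827 : act 4 n135763 = n190464 := d20_2 F379724 (iv1 F218308) (iv3 D190464) (iv1 D96042) (iv3 D44813) (iv4 D21337) D21335 D44806 D96021 D190416
theorem F379828 : act 0 n190464 = n130619 := d18_2 (iv1 F218308) F379827 F209197 (iv5 F103895) F328039 F202277 (iv4 F179237) (iv0 D115102) D115104
def n190465 : Q := act 4 n96042
theorem D190465 : act 4 n96042 = n190465 := rfl
theorem F379829 : act 3 n190465 = n106851 := d5_1 D190465 F365951 (iv3 F365949) F379827 (iv3 D190464)
theorem F379830 : act 6 n190465 = n106539 := d10_2 (iv6 F376746) D190465 (iv4 D106539)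
def n190466 : Q := act 5 n96043
theorem D190466 : act 5 n96043 = n190466 := rfl
theorem F379831 : act 2 n190466 = n96044 := d2_1 D190466 (iv5 D96044) D96043
theorem F379832 : act 3 n190466 = n190459 := d6_1 D190466 F379812 F378556
theorem F379833 : act 7 n190466 = n190012 := d13_2 F379815 D190466 (iv5 F379812)
theorem F379834 : act 1 n190011 = n190466 := d15_1 D190011 F379833 (iv2 D190012)
theorem F379835 : act 1 n190466 = n190010 := d15_0 (iv0 D190010) F147654 (iv2 F379831)
def n190467 : Q := act 0 n96044
theorem D190467 : act 0 n96044 = n190467 := rfl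
theorem F379836 : act 1 n190012 = n190467 := d15_0 (iv0 D190467) (iv7 F147654) D190012
def n190468 : Q := act 1 n96044
theorem D190468 : act 1 n96044 = n190468 := rfl
theorem F379837 : act 1 n190468 = n190012 := d15_1 D190468 (iv7 F379833) F379831
def n190469 : Q := act 4 n96044
theorem D190469 : act 4 n96044 = n190469 := rfl
theorem F379838 : act 3 n190469 = n189974 := d5_1 D190469 F378385 F147137 (iv4 F70382) (iv3 F147653)
theorem F379839 : act 7 n190469 = n189972 := d11_2 F147654 D190469 F378382
def n190470 : Q := act 6 n96045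
theorem D190470 : act 6 n96045 = n190470 := rfl
theorem F379840 : act 3 n190470 = n96047 := d7_1 D190470 (iv6 D96047) (iv3 F147655)
theorem F379841 : act 4 n190470 = n106841 := d10_1 D190470 F359022 F294889
def n190471 : Q := act 1 n96046
theorem D190471 : act 1 n96046 = n190471 := rfl
theorem F379842 : act 1 n190471 = n190375 := d15_1 D190471 F379609 F147658
def n190472 : Q := act 7 n96046
theorem D190472 : act 7 n96046 = n190472 := rfl
theorem F379843 : act 2 n190472 = n190375 := d4_1 D190472 F379609 F147658
theorem F379844 : act 4 n190472 = n189990 := d11_1 D190472 F378474 (iv4 F147657)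
theorem F379845 : act 5 n190472 = n183163 := d13_1 D190472 (iv7 F379606) F379605
theorem F379846 : act 6 n190472 = n183114 := d14_1 D190472 F356672 F147145 (iv7 F70383) D96046
def n190473 : Q := act 0 n96047
theorem D190473 : act 0 n96047 = n190473 := rfl
theorem F379847 : act 6 n190473 = n189220 := d21_5 F147211 (iv1 D95542) (iv5 F70387) D96047 D190473 (iv5 D189220) F369262 F369259 F348096 (iv1 F348099)
theorem F379848 : act 1 n190472 = n190473 := d15_0 (iv0 D190473) (iv7 F379609) (iv2 F379843)
theorem F379849 : act 2 n151976 = n190473 := d3_3 F379847 (iv2 F377084) (iv6 F377089)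
theorem F379850 : act 7 n190471 = n190473 := d15_2 (iv0 F377090) D190471 (iv2 F379849)
def n190474 : Q := act 1 n96047
theorem D190474 : act 1 n96047 = n190474 := rfl
theorem F379851 : act 1 n190474 = n190472 := d15_1 D190474 (iv7 D190472) (iv2 F147658)
theorem F379852 : act 7 n190474 = n151976 := d15_2 (iv0 D190473) D190474 F379849
theorem F379853 : act 3 n151492 = n190474 := d20_3 F238543 (iv1 F166730) D151492 (iv1 D190474) (iv3 F379840) F379841 F373565 (iv4 F238557) (iv3 D151682) (iv1 F238541)
theorem F379854 : act 2 n190471 = n190474 := d4_3 F379852 F379849 (iv7 F379850)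
def n190475 : Q := act 5 n96047
theorem D190475 : act 5 n96047 = n190475 := rfl
theorem F379855 : act 2 n190475 = n190374 := d2_1 D190475 F379605 (iv2 F147658)
theorem F379856 : act 4 n190475 = n183116 := d9_1 D190475 F364104 F213538 D132940 (iv4 F373510) (iv5 F378473) (iv4 F379844) F379845 F284759 F294735 (iv4 F337806) F359025 F141245 F291971 (iv4 F147659)
theorem F379857 : act 6 n190475 = n183115 := d12_2 D96047 D190475 (iv5 F356675) F147145 (iv5 F70387)
theorem F379858 : act 7 n190475 = n183164 := d13_2 F379609 D190475 (iv5 F379608)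
def n190476 : Q := act 3 n96048
theorem D190476 : act 3 n96048 = n190476 := rfl
theorem F379859 : act 4 n110767 = n190476 := d19_2 F331608 F178787 (iv3 D190476) (iv1 F378476) F378473 F373510 F213561 D132943 F213573 (iv4 D129312) (iv3 D60776) (iv1 D28834) D28836 F310463 F309935 F307957 (iv5 F85356) (iv4 F183779) F331611
def n190477 : Q := act 5 n96048
theorem D190477 : act 5 n96048 = n190477 := rfl
theorem F379860 : act 7 n190477 = n187421 := d13_2 F379221 D190477 F378560
theorem F379861 : act 4 n190477 = n163465 := d17_4 (iv1 D91874) F291971 D96048 D190477 (iv5 F349640) F164215 D132045 F373567 (iv4 D188461)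
theorem F379862 : act 6 n163464 = n190477 := d10_0 F379861 (iv6 D163465) D163464
def n190478 : Q := act 3 n96049
theorem D190478 : act 3 n96049 = n190478 := rfl
def n190479 : Q := act 4 n96049
theorem D190479 : act 4 n96049 = n190479 := rfl
theorem F379863 : act 7 n190479 = n189223 := d11_2 (iv7 F379220) D190479 F379212
def n190480 : Q := act 5 n96049
theorem D190480 : act 5 n96049 = n190480 := rfl
theorem F379864 : act 2 n190480 = n187421 := d2_1 D190480 F378560 (iv2 F379222)
theorem F379865 : act 6 n190480 = n187389 := d21_9 F340303 F361257 (iv5 F340402) (iv6 D97299) (iv1 F148727) (iv6 F373511) (iv5 F378473) (iv1 F378475) D190480 (iv1 F370127)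
def n190481 : Q := act 6 n96049
theorem D190481 : act 6 n96049 = n190481 := rfl
def n190482 : Q := act 5 n96051
theorem D190482 : act 5 n96051 = n190482 := rfl
theorem F379866 : act 3 n190482 = n189964 := d6_1 D190482 (iv5 D189964) (iv3 F147665)
theorem F379867 : act 0 n96074 = n190482 := d19_0 (iv5 D190482) F147664 (iv3 D89117) (iv1 D41636) D41637 D89123 F295267 F338882 D141208 (iv4 F365492) (iv3 F327580) (iv1 F220679) (iv5 F218092) (iv4 F333584) (iv3 D95984) D95982 (iv5 F147684) (iv4 D96075) D96074
theorem F379868 : act 1 n186772 = n187601 := d17_6 (iv1 D185459) (iv5 F147681) F379867 (iv5 D190482) F147664 D186772 (iv5 D187601) D187600 F370983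
def n190483 : Q := act 5 n96052
theorem D190483 : act 5 n96052 = n190483 := rfl
theorem F379869 : act 0 n190483 = n96074 := d17_2 (iv1 F149507) D190483 F147681 F135290 D88362 (iv0 F135324) (iv5 D46308) (iv0 F134922) (iv4 F149504)
def n190484 : Q := act 5 n96053
theorem D190484 : act 5 n96053 = n190484 := rfl
theorem F379870 : act 2 n190484 = n96054 := d2_1 D190484 (iv5 D96054) D96053
theorem F379871 : act 3 n190484 = n181923 := d6_1 D190484 (iv5 D181923) (iv3 F295307)
def n190485 : Q := act 0 n96054
theorem D190485 : act 0 n96054 = n190485 := rfl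
theorem F379872 : act 5 n190485 = n188211 := d17_3 (iv1 D96052) D96054 D190485 (iv4 D188211) (iv5 F367975) F379086 F373068 F294797 F151226
theorem F379873 : act 5 n188190 = n134049 := d19_9 D190485 F379872 (iv4 D188211) (iv3 D91089) (iv1 D42662) D42665 D91101 F140148 D188190 F216056 F99134 (iv1 F168419) (iv5 F363783) (iv4 F378536) (iv3 D190004) (iv1 F147233) (iv5 F147670) (iv4 D96055) (iv3 F147667)
theorem F379874 : act 3 n134051 = n188190 := d6_3 F379873 F216055 D134051
theorem F379875 : act 2 n188190 = n188604 := d0_1 F379874 (iv3 F374176) (iv2 F354686) F216348 (iv2 F216059)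
theorem F379876 : act 7 n188603 = n188190 := d15_2 F374175 F374174 F379875
theorem F379877 : act 7 n188191 = n188604 := d15_2 (iv0 D188190) D188191 (iv2 F379875)
theorem F379878 : act 2 n188603 = n188191 := d4_3 F379877 (iv2 F379875) (iv7 F379876)
def n190486 : Q := act 1 n96054
theorem D190486 : act 1 n96054 = n190486 := rfl
theorem F379879 : act 5 n190486 = n188470 := d17_7 F293093 (iv5 F293094) F145004 (iv5 D94097) (iv4 F70407) D96054 D190486 F373596 F287716
def n190487 : Q := act 4 n96054
theorem D190487 : act 4 n96054 = n190487 := rfl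
theorem F379880 : act 1 n190487 = n97368 := d18_6 (iv1 F157275) (iv4 F62907) F69180 (iv4 F70407) D96054 D190487 (iv4 D97368) (iv0 F284560) (iv5 D97095)
theorem F379881 : act 6 n190487 = n189951 := d21_5 F343042 (iv1 D87290) D87292 (iv6 F365809) (iv1 F379880) (iv5 D189951) (iv1 D95499) D95500 F147132 D95511
def n190488 : Q := act 6 n96054
theorem D190488 : act 6 n96054 = n190488 := rfl
theorem F379882 : act 3 n190488 = n96056 := d7_1 D190488 (iv6 D96056) (iv3 F147667)
theorem F379883 : act 4 n190488 = n189951 := d10_1 D190488 (iv6 F379881) (iv4 D190487)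
def n190489 : Q := act 3 n96055
theorem D190489 : act 3 n96055 = n190489 := rfl
theorem F379884 : act 2 n190489 = n189671 := d0_1 D190489 F377327 (iv2 F379713) (iv3 D190413) (iv2 F147668)
theorem F379885 : act 5 n190489 = n190028 := d6_2 (iv5 F147670) D190489 (iv3 D190028)
theorem F379886 : act 7 n190489 = n190415 := d8_2 (iv7 F147669) D190489 (iv3 D190415)
theorem F379887 : act 6 n187183 = n190489 := d14_5 F379886 F379720 F377220 (iv6 F377222) F369400
theorem F379888 : act 1 n189671 = n189489 := d15_0 (iv0 F379721) (iv7 F379886) F379884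
theorem F379889 : act 0 n187187 = n190489 := d21_1 (iv5 F376248) F379885 F378613 F371777 (iv6 D133411) F97664 (iv1 F65522) (iv5 F69010) D93889 (iv1 F376247)
def n190490 : Q := act 6 n96055
theorem D190490 : act 6 n96055 = n190490 := rfl
theorem F379890 : act 2 n190490 = n190414 := d3_1 D190490 (iv6 D190414) (iv2 F147668)
theorem F379891 : act 3 n190490 = n187183 := d7_1 D190490 F379887 (iv3 D190489)
theorem F379892 : act 4 n190490 = n96056 := d10_1 D190490 (iv6 D96056) D96055
theorem F379893 : act 5 n190490 = n134998 := d12_1 D190490 (iv6 F371766) (iv5 F377985) F377984 (iv5 F147670)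
theorem F379894 : act 7 n190490 = n189668 := d14_2 (iv7 F147669) D190490 F377311 (iv7 F379585) (iv6 F379587)
theorem F379895 : act 0 n190490 = n189607 := d21_4 (iv5 F147173) (iv1 F147233) (iv5 F147670) D190490 (iv6 D189607) (iv5 D94133) (iv1 F69262) (iv5 F144571) F363533 F147691
theorem F379896 : act 1 n190490 = n190479 := d15_1 (iv0 F379895) F379863 (iv2 F377097)
theorem F379897 : act 1 n190479 = n189377 := d15_1 F379896 (iv7 F379717) (iv2 F379890)
def n190491 : Q := act 0 n96056
theorem D190491 : act 0 n96056 = n190491 := rfl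
theorem F379898 : act 4 n190491 = n151976 := d20_8 (iv4 D130602) F95751 D71479 (iv3 F360279) (iv1 F369398) (iv3 F379891) F379892 D190491 (iv3 D151976) (iv1 F209174)
theorem F379899 : act 3 n151974 = n190491 := d5_5 F379898 (iv3 D151976) (iv4 D71654) (iv3 F108146) D151974
def n190492 : Q := act 1 n96056
theorem D190492 : act 1 n96056 = n190492 := rfl
def n190493 : Q := act 7 n96056
theorem D190493 : act 7 n96056 = n190493 := rfl
theorem F379900 : act 4 n190493 = n189668 := d11_1 D190493 (iv7 F379894) F379892
def n190494 : Q := act 5 n96065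
theorem D190494 : act 5 n96065 = n190494 := rfl
theorem F379901 : act 2 n190494 = n96072 := d2_1 D190494 (iv5 D96072) (iv2 F147677)
theorem F379902 : act 3 n190494 = n100801 := d6_1 D190494 F357432 F357437
theorem F379903 : act 6 n190494 = n116968 := d12_2 D96065 D190494 F331471 F363582 (iv5 D96064)
theorem F379904 : act 7 n190494 = n100884 := d13_2 F373242 D190494 F373245
theorem F379905 : act 4 n190494 = n100986 := d16_6 F374989 F179168 (iv4 F365410) (iv5 F251955) F251954 D190494 (iv5 F374268) F374269 (iv2 F374988)
theorem F379906 : act 0 n190494 = n96219 := d17_2 (iv1 F373237) D190494 (iv5 D96219) F70606 D92688 (iv0 F178363) (iv5 D94407) D94406 (iv4 F373234)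
theorem F379907 : act 1 n190494 = n103857 := d17_6 F177347 (iv5 F251921) (iv1 F251922) (iv5 F251955) F251954 D190494 (iv5 D103857) (iv0 D48082) (iv4 F67986)
def n190495 : Q := act 3 n96067
theorem D190495 : act 3 n96067 = n190495 := rfl
def n190496 : Q := act 3 n96071
theorem D190496 : act 3 n96071 = n190496 := rfl
theorem F379908 : act 0 n190496 = n189961 := d20_10 F378378 (iv1 F350173) F137997 F137996 (iv1 F292235) D93521 (iv4 F292051) D188129 F372395 D190496
def n190497 : Q := act 4 n96072
theorem D190497 : act 4 n96072 = n190497 := rfl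
theorem F379909 : act 2 n190497 = n100986 := d1_1 D190497 (iv4 F379905) F379901
theorem F379910 : act 3 n190497 = n140431 := d5_1 D190497 F363559 (iv3 F335345) (iv4 D96088) (iv3 F147679)
theorem F379911 : act 6 n190497 = n140428 := d10_2 (iv6 F340463) D190497 F223609
theorem F379912 : act 7 n190497 = n100984 := d11_2 F373248 D190497 (iv4 F373250)
theorem F379913 : act 0 n190497 = n100983 := d18_2 F372164 D190497 (iv4 F365232) F314178 F75098 (iv0 F177333) D43455 (iv0 F139670) D188025
theorem F379914 : act 5 n188921 = n100983 := d17_7 F331281 (iv5 F331283) (iv1 F205441) D103863 F375024 F365331 D188921 (iv0 F379913) (iv4 D190497)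
theorem F379915 : act 0 n100982 = n190497 := d20_10 (iv4 D190497) F331281 (iv4 F226958) (iv3 D144272) F103462 (iv3 F320773) (iv4 D54507) F86049 D118308 F365238
def n190498 : Q := act 2 n96074
theorem D190498 : act 2 n96074 = n190498 := rfl
theorem F379916 : act 3 n190498 = n181928 := d0_2 D96074 D190498 (iv2 F356270) (iv3 F150252) (iv2 F147203)
theorem F379917 : act 5 n190498 = n185453 := d2_2 (iv5 F147681) D190498 F287715
theorem F379918 : act 6 n112525 = n190498 := d12_0 F379917 (iv6 D185453) (iv5 F340577) (iv6 D112526) D112525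
def n190499 : Q := act 4 n96074
theorem D190499 : act 4 n96074 = n190499 := rfl
theorem F379919 : act 3 n190499 = n188488 := d5_1 D190499 (iv4 F373755) F373754 (iv4 D96075) D96074
theorem F379920 : act 7 n190499 = n188481 := d11_2 F373602 D190499 F373637
theorem F379921 : act 1 n190499 = n97324 := d18_6 (iv1 D88428) (iv4 F65098) (iv1 F293668) (iv4 F135290) (iv5 F147681) D190499 (iv4 D97324) D97323 F294039
def n190500 : Q := act 6 n96074
theorem D190500 : act 6 n96074 = n190500 := rfl
theorem F379922 : act 2 n190500 = n112525 := d3_1 D190500 F379918 (iv2 D190498)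
theorem F379923 : act 3 n190500 = n96076 := d7_1 D190500 (iv6 D96076) D96074
theorem F379924 : act 5 n190500 = n111786 := d12_1 D190500 F363513 (iv5 D88345) D88346 (iv5 F147681)
def n190501 : Q := act 6 n96080
theorem D190501 : act 6 n96080 = n190501 := rfl
theorem F379925 : act 3 n190501 = n96081 := d7_1 D190501 (iv6 D96081) D96080
theorem F379926 : act 4 n190501 = n159768 := d10_1 D190501 (iv6 F369302) F369306
theorem F379927 : act 0 n190501 = n144996 := d21_4 (iv5 F379804) (iv1 D190454) (iv5 F147693) D190501 (iv6 F341591) F335873 (iv1 F312193) (iv5 F215190) (iv6 F377151) (iv1 F379793)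
theorem F379928 : act 5 n190501 = n145937 := d21_6 F367099 (iv1 D90991) D90993 F292422 (iv1 F364665) D190501 (iv1 D145937) D145939 (iv6 F355757) (iv1 F289200)
theorem F379929 : act 0 n147992 = n190501 := d18_0 F379926 F251728 (iv4 F335460) (iv5 D151437) (iv4 F335458) (iv0 D143455) (iv4 F321916) D151316 F353535
def n190502 : Q := act 7 n96081
theorem D190502 : act 7 n96081 = n190502 := rfl
theorem F379930 : act 4 n190502 = n96085 := d11_1 D190502 (iv7 D96085) (iv4 F147694)
theorem F379931 : act 5 n190502 = n106324 := d13_1 D190502 F350233 F340513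
theorem F379932 : act 1 n142713 = n190502 := d15_1 (iv0 F378580) (iv7 D190502) (iv2 F378577)
theorem F379933 : act 1 n190502 = n142752 := d15_1 F379932 (iv7 F379651) F379649
theorem F379934 : act 3 n187414 = n144011 := d20_5 F331475 (iv1 F82500) D112954 (iv3 F367000) D187414 (iv4 F226682) (iv1 F379933) F379930 (iv3 F340456) F331482
theorem F379935 : act 7 n97340 = n187414 := d8_0 F379934 (iv7 F306965) (iv3 F372120)
theorem F379936 : act 2 n187414 = n97339 := d15_3 (iv0 D97339) D97340 F379935
theorem F379937 : act 2 n97340 = n187415 := d15_3 F370257 F370262 (iv7 F379935)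
theorem F379938 : act 7 n187415 = n97339 := d4_2 (iv7 F379935) F379937 (iv2 F379936)
def n190503 : Q := act 3 n96082
theorem D190503 : act 3 n96082 = n190503 := rfl
theorem F379939 : act 6 n190503 = n125045 := d7_2 (iv6 F355410) D190503 (iv3 F355408)
theorem F379940 : act 0 n190503 = n144087 := d20_10 (iv4 D144087) D144085 F365087 F176211 F82541 (iv3 F103325) D144013 F226690 (iv4 F363581) D190503
def n190504 : Q := act 6 n96083
theorem D190504 : act 6 n96083 = n190504 := rfl
def n190505 : Q := act 7 n96084
theorem D190505 : act 7 n96084 = n190505 := rfl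
theorem F379941 : act 3 n190505 = n116969 := d8_1 D190505 F331458 (iv3 F340461)
theorem F379942 : act 4 n190505 = n142697 := d11_1 D190505 F225590 (iv4 F340462)
theorem F379943 : act 5 n190505 = n96085 := d13_1 D190505 (iv7 D96085) D96084
theorem F379944 : act 1 n107492 = n190505 := d15_1 (iv0 F373268) (iv7 D190505) (iv2 F373264)
theorem F379945 : act 1 n190505 = n107497 := d15_1 F379944 F180725 (iv2 F180726)
def n190506 : Q := act 6 n96087
theorem D190506 : act 6 n96087 = n190506 := rfl
theorem F379946 : act 2 n190506 = n103855 := d3_1 D190506 (iv6 D103855) F147700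
theorem F379947 : act 5 n190506 = n189822 := d12_1 D190506 (iv6 D189822) F146941 (iv6 F70596) (iv5 F147699)
def n190507 : Q := act 6 n96096
theorem D190507 : act 6 n96096 = n190507 := rfl
theorem F379948 : act 2 n190507 = n133656 := d3_1 D190507 F215068 (iv2 F331361)
theorem F379949 : act 3 n190507 = n96098 := d7_1 D190507 (iv6 D96098) (iv3 F147720)
theorem F379950 : act 4 n190507 = n110337 := d10_1 D190507 F170575 F331360
theorem F379951 : act 7 n190507 = n110334 := d14_2 F158548 D190507 (iv6 D110334) (iv7 F82361) (iv6 F331357)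
theorem F379952 : act 0 n190507 = n133654 := d21_4 (iv5 D186186) (iv1 F292562) D96096 D190507 (iv6 F331461) (iv5 D116971) D116968 F331471 F363582 (iv1 F331399)
theorem F379953 : act 1 n190507 = n133653 := d15_0 (iv0 D133653) D133656 (iv2 F379948)
def n190508 : Q := act 0 n96098
theorem D190508 : act 0 n96098 = n190508 := rfl
def n190509 : Q := act 1 n96098
theorem D190509 : act 1 n96098 = n190509 := rfl
def n190510 : Q := act 7 n96098
theorem D190510 : act 7 n96098 = n190510 := rfl
theorem F379954 : act 3 n190510 = n110334 := d8_1 D190510 (iv7 F379951) F379949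
theorem F379955 : act 4 n190510 = n190452 := d11_1 D190510 (iv7 D190452) (iv4 F147724)
theorem F379956 : act 6 n190510 = n110333 := d14_1 D190510 (iv7 F331342) F158563 F75153 D96098
def n190511 : Q := act 5 n96103
theorem D190511 : act 5 n96103 = n190511 := rfl
theorem F379957 : act 2 n190511 = n183118 := d2_1 D190511 (iv5 D183118) F150062
theorem F379958 : act 3 n190511 = n99008 := d6_1 D190511 (iv5 D99008) F150063
theorem F379959 : act 7 n190511 = n182917 := d13_2 F157235 D190511 (iv5 D182917)
theorem F379960 : act 0 n190511 = n182038 := d17_2 (iv1 F147740) D190511 F283446 F134774 D96130 (iv0 F294514) (iv5 D93210) D93209 F295190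
theorem F379961 : act 1 n190511 = n98917 := d17_6 F370227 D188209 F377274 F377273 F364445 D190511 F367098 (iv0 F367035) (iv4 F370222)
def n190512 : Q := act 0 n96105
theorem D190512 : act 0 n96105 = n190512 := rfl
theorem F379962 : act 5 n190512 = n188189 := d17_3 (iv1 D96103) D96105 D190512 (iv4 F372633) (iv5 D176940) (iv0 D84337) (iv5 F129304) D176705 F364445
theorem F379963 : act 1 n98903 = n190512 := d15_0 (iv0 D190512) F147743 (iv2 F152456)
theorem F379964 : act 2 n183120 = n190512 := d2_3 F379962 F372636 (iv5 F367241)
theorem F379965 : act 7 n183119 = n190512 := d13_0 F379962 F372632 (iv5 F286016)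
def n190513 : Q := act 1 n96105
theorem D190513 : act 1 n96105 = n190513 := rfl
theorem F379966 : act 1 n190513 = n98903 := d15_1 D190513 (iv7 F372516) F372514
theorem F379967 : act 7 n190513 = n183120 := d15_2 (iv0 D190512) D190513 F379964
theorem F379968 : act 5 n190513 = n187473 := d17_7 (iv1 D91096) D91097 F293830 (iv5 D44853) (iv4 F70436) D96105 D190513 (iv0 F370481) F140144
theorem F379969 : act 2 n183119 = n190513 := d2_3 F379968 F370478 (iv5 F286016)
theorem F379970 : act 3 n99013 = n190513 := d6_3 F379968 (iv3 D187473) F367070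
def n190514 : Q := act 6 n96105
theorem D190514 : act 6 n96105 = n190514 := rfl
theorem F379971 : act 3 n190514 = n96108 := d7_1 D190514 (iv6 D96108) (iv3 F147742)
def n190515 : Q := act 3 n96107
theorem D190515 : act 3 n96107 = n190515 := rfl
theorem F379972 : act 7 n190515 = n183128 := d8_2 (iv7 F147747) D190515 (iv3 D183128)
def n190516 : Q := act 6 n96107
theorem D190516 : act 6 n96107 = n190516 := rfl
theorem F379973 : act 2 n190516 = n183134 := d3_1 D190516 (iv6 D183134) (iv2 F147746)
theorem F379974 : act 4 n190516 = n96108 := d10_1 D190516 (iv6 D96108) D96107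
def n190517 : Q := act 0 n96108
theorem D190517 : act 0 n96108 = n190517 := rfl
theorem F379975 : act 6 n190517 = n147598 := d21_5 F61734 (iv1 F66212) D44844 D96108 D190517 (iv5 D147598) F223260 F359695 (iv6 D182037) (iv1 F133448)
def n190518 : Q := act 1 n96108
theorem D190518 : act 1 n96108 = n190518 := rfl
theorem F379976 : act 1 n190518 = n183138 := d15_1 D190518 (iv7 D183138) (iv2 F147750)
theorem F379977 : act 6 n153320 = n190518 := d21_3 F364045 (iv1 F192106) (iv5 F240876) (iv1 D190518) (iv6 D96108) (iv5 D44844) F66211 D40358 (iv6 F133430) D182030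
def n190519 : Q := act 7 n96108
theorem D190519 : act 7 n96108 = n190519 := rfl
theorem F379978 : act 2 n190519 = n183138 := d4_1 D190519 (iv7 D183138) (iv2 F147750)
theorem F379979 : act 6 n190519 = n183132 := d14_1 D190519 (iv7 D183132) (iv6 D87413) (iv7 F70439) D96108
theorem F379980 : act 1 n183138 = n190517 := d15_0 (iv0 D190517) D190519 F379978
theorem F379981 : act 1 n183136 = n190519 := d15_1 D183136 (iv7 D190519) F147750
theorem F379982 : act 1 n190519 = n183135 := d15_0 (iv0 D183135) D183138 (iv2 F379978)
def n190520 : Q := act 3 n96113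
theorem D190520 : act 3 n96113 = n190520 := rfl
theorem F379983 : act 2 n190520 = n96297 := d0_1 D190520 F148141 F292813 D97433 F150179
theorem F379984 : act 5 n190520 = n96296 := d6_2 (iv5 F356265) D190520 (iv3 F283178)
theorem F379985 : act 4 n190520 = n135637 := d20_6 D95978 F147608 (iv4 D44855) (iv3 F70454) D96113 D190520 F379674 (iv4 D95971) F70362 D44790
def n190521 : Q := act 6 n96113
theorem D190521 : act 6 n96113 = n190521 := rfl
theorem F379986 : act 4 n190521 = n187187 := d10_1 D190521 (iv6 D187187) (iv4 F343054)
def n190522 : Q := act 0 n96119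
theorem D190522 : act 0 n96119 = n190522 := rfl
theorem F379987 : act 2 n189498 = n190522 := d15_3 (iv0 D190522) (iv0 F375299) (iv7 F376718)
theorem F379988 : act 3 n190522 = n186370 := d0_2 (iv3 F376716) F379987 (iv2 F377642) F377643 (iv2 F367237)
theorem F379989 : act 6 n190522 = n186360 := d3_2 D189498 F379987 F366991
def n190523 : Q := act 2 n96119
theorem D190523 : act 2 n96119 = n190523 := rfl
theorem F379990 : act 5 n190523 = n190448 := d2_2 (iv5 F147765) D190523 (iv2 D190448)
def n190524 : Q := act 5 n96120
theorem D190524 : act 5 n96120 = n190524 := rfl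
theorem F379991 : act 6 n190524 = n190451 := d12_2 D96120 D190524 (iv5 D190451) (iv6 D96038) (iv5 F70456)
def n190525 : Q := act 7 n96120
theorem D190525 : act 7 n96120 = n190525 := rfl
theorem F379992 : act 3 n190525 = n186415 := d8_1 D190525 F289201 (iv3 F365441)
theorem F379993 : act 4 n190525 = n96124 := d11_1 D190525 (iv7 D96124) (iv4 F147766)
def n190526 : Q := act 3 n96121
theorem D190526 : act 3 n96121 = n190526 := rfl
def n190527 : Q := act 4 n96121
theorem D190527 : act 4 n96121 = n190527 := rfl
theorem F379994 : act 2 n190527 = n135837 := d1_1 D190527 F378608 F378609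
theorem F379995 : act 7 n190527 = n190400 := d11_2 (iv7 F378611) D190527 (iv4 F379678)
theorem F379996 : act 5 n190527 = n135828 := d16_1 D190527 F368101 (iv5 D186813) (iv4 F368053) F368054 (iv4 F248417) F363845 (iv7 F378606) F378609
theorem F379997 : act 0 n190527 = n190402 := d20_1 D190527 F379681 F346850 (iv1 F350480) (iv3 D84333) F291041 (iv1 F290992) (iv4 F112915) F328693 D96121
theorem F379998 : act 1 n190527 = n189993 := d15_1 (iv0 F379997) F378489 (iv2 F379679)
def n190528 : Q := act 6 n96121
theorem D190528 : act 6 n96121 = n190528 := rfl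
def n190529 : Q := act 3 n96122
theorem D190529 : act 3 n96122 = n190529 := rfl
def n190530 : Q := act 4 n96122
theorem D190530 : act 4 n96122 = n190530 := rfl
theorem F379999 : act 2 n190530 = n190400 := d1_1 D190530 (iv4 F379678) (iv2 F378600)
theorem F380000 : act 6 n190530 = n190346 := d10_2 (iv6 F363846) D190530 (iv4 F379471)
theorem F380001 : act 7 n190530 = n135837 := d11_2 F378606 D190530 F378608
theorem F380002 : act 5 n190530 = n135838 := d16_7 F368101 (iv5 D186813) (iv4 F368053) F368054 (iv4 F248417) F363845 D190530 (iv7 D135838) (iv2 F218471)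
theorem F380003 : act 0 n190402 = n190530 := d21_10 F380002 (iv1 F364362) (iv5 F376158) (iv6 D189229) F335770 (iv6 F363539) F226339 (iv1 F181582) D142777 (iv6 F379682)
theorem F380004 : act 1 n189993 = n190530 := d15_0 (iv0 F380003) (iv7 D190402) (iv2 F378486)
def n190531 : Q := act 4 n96130
theorem D190531 : act 4 n96130 = n190531 := rfl
theorem F380005 : act 2 n190531 = n186261 := d1_1 D190531 (iv4 F352841) F356253
theorem F380006 : act 3 n190531 = n190456 := d5_1 D190531 (iv4 D190456) (iv3 D96039) (iv4 F70460) (iv3 F147779)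
theorem F380007 : act 6 n190531 = n186056 := d10_2 (iv6 F356252) D190531 F353353
theorem F380008 : act 1 n190531 = n130598 := d18_6 D188207 F372670 (iv1 D184071) F134774 D96130 D190531 (iv4 F377272) (iv0 F377274) (iv5 D188209)
def n190532 : Q := act 7 n96131
theorem D190532 : act 7 n96131 = n190532 := rfl
theorem F380009 : act 2 n190532 = n110333 := d4_1 D190532 (iv7 F331342) F158562
theorem F380010 : act 3 n190532 = n133651 := d8_1 D190532 F215061 F356254
theorem F380011 : act 4 n190532 = n106735 := d11_1 D190532 F348086 (iv4 F147782)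
theorem F380012 : act 5 n190532 = n112976 := d13_1 D190532 (iv7 F331337) F158316
theorem F380013 : act 1 n130568 = n190532 := d15_1 F355458 (iv7 D190532) (iv2 F158562)
theorem F380014 : act 1 n190532 = n130563 := d15_1 F380013 (iv7 F366281) (iv2 F366280)
theorem F380015 : act 0 n130569 = n137073 := d21_4 (iv5 F380012) (iv1 F380013) (iv5 D130568) D130569 (iv6 D137073) (iv5 F331279) (iv1 F331295) (iv5 D142405) (iv6 F321153) (iv1 F319048)
def n190533 : Q := act 3 n96140
theorem D190533 : act 3 n96140 = n190533 := rfl
theorem F380016 : act 5 n190533 = n102140 := d6_2 (iv5 F147798) D190533 (iv3 D102140)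
def n190534 : Q := act 3 n96143
theorem D190534 : act 3 n96143 = n190534 := rfl
theorem F380017 : act 7 n190534 = n102140 := d8_2 (iv7 F147805) D190534 (iv3 D102140)
theorem F380018 : act 0 n190534 = n129394 := d20_4 (iv4 D89082) (iv1 F70471) D96143 D190534 (iv3 D129394) (iv4 D60806) (iv1 F164050) (iv4 F96440) (iv3 F327931) (iv1 F147812)
def n190535 : Q := act 6 n96143
theorem D190535 : act 6 n96143 = n190535 := rfl
theorem F380019 : act 2 n190535 = n186976 := d3_1 D190535 F368728 F147838
theorem F380020 : act 4 n190535 = n96144 := d10_1 D190535 (iv6 D96144) D96143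
theorem F380021 : act 3 n129176 = n190535 := d5_5 F380020 F352612 (iv4 D130757) D130756 F209333
theorem F380022 : act 6 n190534 = n129176 := d7_0 F380021 (iv6 D190535) D190534
def n190536 : Q := act 1 n96144
theorem D190536 : act 1 n96144 = n190536 := rfl
theorem F380023 : act 1 n190536 = n186977 := d15_1 D190536 (iv7 D186977) (iv2 F147808)
theorem F380024 : act 7 n190536 = n131830 := d15_2 (iv0 F156325) D190536 F352502
theorem F380025 : act 4 n106569 = n190536 := d20_0 (iv1 D190536) (iv4 F380020) (iv3 F380021) (iv1 D129176) (iv3 D60728) (iv4 D28817) (iv1 F22984) D24033 D49245 D106569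
theorem F380026 : act 2 n190536 = n131835 := d1_1 F380025 (iv4 D131835) (iv2 F352496)
theorem F380027 : act 6 n190536 = n113500 := d10_2 (iv6 F352474) F380025 (iv4 D113500)
def n190537 : Q := act 6 n96145
theorem D190537 : act 6 n96145 = n190537 := rfl
theorem F380028 : act 2 n190537 = n102631 := d3_1 D190537 F157831 F147813
theorem F380029 : act 3 n190537 = n106576 := d7_1 D190537 F163850 (iv3 F327931)
theorem F380030 : act 4 n190537 = n99858 := d10_1 D190537 F153751 (iv4 F147811)
theorem F380031 : act 7 n190537 = n106573 := d14_2 (iv7 F327932) D190537 (iv6 D106573) F77790 D61863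
theorem F380032 : act 0 n190537 = n137146 := d21_4 (iv5 F72697) (iv1 F74852) (iv5 F147810) D190537 (iv6 F352547) F352473 F345380 F345383 (iv6 D98634) (iv1 F72686)
theorem F380033 : act 1 n190537 = n137137 := d15_1 (iv0 F380032) (iv7 F333064) F333062
def n190538 : Q := act 0 n96147
theorem D190538 : act 0 n96147 = n190538 := rfl
def n190539 : Q := act 1 n96147
theorem D190539 : act 1 n96147 = n190539 := rfl
def n190540 : Q := act 2 n96149
theorem D190540 : act 2 n96149 = n190540 := rfl
theorem F380034 : act 7 n96150 = n190540 := d15_2 (iv0 D96149) D96150 (iv2 D190540)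
def n190541 : Q := act 3 n96149
theorem D190541 : act 3 n96149 = n190541 := rfl
theorem F380035 : act 0 n190541 = n134921 := d20_4 (iv4 F151974) F354675 F345231 D190541 (iv3 D134921) (iv4 F173144) (iv1 D60512) (iv4 F95130) (iv3 F354670) (iv1 D98584)
def n190542 : Q := act 5 n96149
theorem D190542 : act 5 n96149 = n190542 := rfl
theorem F380036 : act 4 n190542 = n180526 := d16_4 D75195 D157844 F345231 D190542 (iv5 D180526) (iv4 D86215) (iv5 F248725) (iv7 F256551) F256550
theorem F380037 : act 1 n190542 = n180411 := d17_8 D180409 F280784 (iv1 F132344) D180789 (iv4 F345228) F155858 F152090 D190542 (iv4 D180411)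
theorem F380038 : act 3 n186776 = n190542 := d5_5 F380036 F365752 (iv4 F367965) (iv3 D186775) D186776
theorem F380039 : act 7 n188156 = n190542 := d11_0 F380036 (iv7 F281439) (iv4 F372503)
theorem F380040 : act 7 n96149 = n98656 := d13_2 F380039 (iv5 D190542) (iv5 F372501)
theorem F380041 : act 2 n98656 = n96150 := d4_1 F380040 F380034 (iv2 D190540)
theorem E103427 : n190540 = n98655 := (c15_4 (iv0 D98655) D98656 (iv7 F380040) D190540)
theorem F380042 : act 2 n98655 = n96149 := (sb E103427 (iv2 D190540))
theorem F380043 : act 7 n98655 = n96150 := (sb E103427 (iv7 F380034))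
theorem F380044 : act 5 n190541 = n186776 := d6_0 F380038 (iv5 D190542) D190541
def n190543 : Q := act 6 n96149
theorem D190543 : act 6 n96149 = n190543 := rfl
theorem F380045 : act 5 n190543 = n100246 := d21_6 (iv5 D19618) (iv1 F66224) D21394 D44868 D96149 D190543 (iv1 D100246) (iv5 F136891) (iv6 D89193) (iv1 D41672)
theorem F380046 : act 0 n113487 = n190543 := d17_0 F380045 (iv1 D100246) (iv5 F136891) (iv4 F352451) (iv5 F345753) F176434 (iv5 F355849) (iv0 D113485) D113487
def n190544 : Q := act 3 n96150
theorem D190544 : act 3 n96150 = n190544 := rfl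
theorem F380047 : act 4 n129278 = n190544 := d19_2 (iv1 F323887) F359071 (iv3 D190544) (iv1 D96150) D96151 F345214 F132154 (iv1 F112772) (iv5 D75224) (iv4 F63819) F63815 F56236 (iv5 D27641) (iv4 D13199) D13198 (iv1 F27455) D17613 D36483 D80107
theorem F380048 : act 6 n190544 = n129276 := d10_2 D129278 F380047 (iv4 D129276)
def n190545 : Q := act 5 n96150
theorem D190545 : act 5 n96150 = n190545 := rfl
theorem F380049 : act 2 n190545 = n188156 := d2_1 D190545 F372501 F380041
theorem F380050 : act 4 n190545 = n180533 := d9_1 D190545 (iv5 D180533) (iv4 D86220) F248721 D75195 D157844 F345231 D190542 F380036 (iv5 D180526) (iv4 D86215) (iv5 F248725) D75190 D157826 F345233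
theorem F380051 : act 0 n190545 = n180411 := d18_0 (iv4 D180411) D180409 F350352 (iv5 F367734) F367732 F345239 F147818 D96150 D190545
theorem F380052 : act 6 n187579 = n190545 := d21_5 (iv5 D22297) F292791 D42247 D90369 D187579 (iv5 D190545) (iv1 D96150) D96151 F147821 F70478
theorem E103428 : n188152 = n187579 := (c3_4 F380052 F380049 (iv6 D188156) D188152)
theorem F380053 : act 2 n187579 = n90918 := (sb E103428 (iv2 D188152))
theorem F380054 : act 7 n187579 = n90919 := (sb E103428 (iv7 F372499))
theorem E103429 : n188157 = n187580 := (c15_4 F370876 F370882 F380054 (iv2 F372505))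
theorem F380055 : act 2 n187580 = n90919 := (sb E103429 F372505)
theorem F380056 : act 7 n187580 = n90918 := (sb E103429 (iv7 D188157))
theorem E103430 : n189146 = n188155 := ((c13_2 F380056 D188155 (iv7 D189146) F370877)).symm
theorem F380057 : act 7 n188155 = n93298 := (sb E103430 (iv7 D189146))
theorem E103431 : n189133 = n188160 := (c15_4 (iv0 F372508) (iv0 F372500) F380057 (iv2 F375852))
theorem F380058 : act 2 n188160 = n93298 := (sb E103431 F375852)
theorem E103432 : n93294 = n92672 := ((((iv6 F372509)).symm.trans (sb E103431 (iv6 D189133)))).symm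
theorem E103433 : n189129 = n43642 := ((((iv1 F142805)).symm.trans (sb E103432 D189129))).symm
theorem E103435 : n188696 = n43640 := ((D188696).symm.trans (sb E103432 (iv2 D93294)))
theorem E103436 : n189131 = n188697 := (((D188697).symm.trans (sb E103432 D189131))).symm
theorem E103437 : n188698 = n186643 := ((D188698).symm.trans (sb E103432 (iv4 F368000)))
theorem E103438 : n189132 = n188699 := (((D188699).symm.trans (sb E103432 D189132))).symm
theorem E103439 : n188700 = n43641 := ((D188700).symm.trans (sb E103432 (iv7 F143876)))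
theorem E103440 : n93299 = n92673 := ((((iv1 F142803)).symm.trans (sb E103433 (iv1 F375847)))).symm
theorem F380059 : act 2 n43640 = n92672 := (sb E103435 (iv2 D188696))
theorem F380060 : act 7 n188697 = n93300 := (sb E103436 F375849)
theorem F380061 : act 4 n186643 = n92672 := (sb E103437 (iv4 D188698))
theorem F380062 : act 2 n188699 = n93297 := (sb E103438 F375850)
theorem F380063 : act 7 n188699 = n93302 := (sb E103438 F375851)
theorem F380064 : act 7 n43641 = n92672 := (sb E103439 (iv7 D188700))
theorem F380065 : act 2 n92673 = n43641 := (sb E103440 F143877)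
theorem E103441 : n189138 = n188701 := (((D188701).symm.trans (sb E103440 (iv3 F375856)))).symm
theorem E103442 : n188702 = n186644 := ((D188702).symm.trans (sb E103440 (iv4 F368005)))
theorem E103443 : n189144 = n188703 := (((D188703).symm.trans (sb E103440 (iv5 F375863)))).symm
theorem E103444 : n189147 = n188704 := (((D188704).symm.trans (sb E103440 D189147))).symm
theorem F380066 : act 7 n92673 = n43640 := (sb E103440 (iv7 D93299))
theorem F380067 : act 0 n188701 = n186771 := (sb E103441 (iv1 F375857))
theorem F380068 : act 7 n188701 = n93295 := (sb E103441 (iv7 D189138))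
theorem F380069 : act 4 n186644 = n92673 := (sb E103442 (iv4 D188702))
theorem F380070 : act 2 n188703 = n93302 := (sb E103443 F375862)
theorem F380071 : act 7 n188703 = n93297 := (sb E103443 (iv7 D189144))
theorem F380072 : act 0 n188704 = n101561 := (sb E103444 (iv1 F375866))
theorem F380073 : act 1 n188704 = n101572 := (sb E103444 (iv0 F375867))
theorem F380074 : act 2 n188704 = n93303 := (sb E103444 F375864)
theorem F380075 : act 4 n188704 = n98949 := (sb E103444 F375865)
theorem F380076 : act 2 n100245 = n103453 := d3_3 (iv6 F374488) F380070 (iv6 F367188)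
theorem F380077 : act 7 n103454 = n100245 := d15_2 (iv0 D103453) D103454 F380076
theorem F380078 : act 7 n100246 = n103453 := d15_2 (iv0 D100245) D100246 (iv2 F380076)
theorem F380079 : act 2 n103454 = n100246 := d4_3 F380078 (iv2 F380076) (iv7 F380077)
theorem F380080 : act 6 n139284 = n100246 := d14_5 F380078 (iv6 F374488) F380071 F372454 (iv7 F222481)
theorem F380081 : act 6 n103454 = n111065 := d3_2 F380080 (iv2 F380079) (iv2 F222480)
theorem F380082 : act 3 n100246 = n139286 := d7_1 F380080 (iv6 D139286) D139284
theorem F380083 : act 3 n111067 = n103454 := d7_3 F380081 (iv3 D111065) D111067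
def n190546 : Q := act 6 n96150
theorem D190546 : act 6 n96150 = n190546 := rfl
theorem F380084 : act 3 n190546 = n129276 := d7_1 D190546 (iv6 F380048) (iv3 D190544)
theorem F380085 : act 5 n179776 = n190546 := d21_2 (iv5 F352564) (iv1 F287083) (iv6 D190546) (iv1 D96150) (iv6 D44868) (iv5 D21394) (iv1 F292125) D43613 (iv6 F143798) (iv1 F332683)
theorem F380086 : act 0 n137147 = n190546 := d21_4 (iv5 D135964) (iv1 F99445) D64474 D137147 (iv6 D190546) D190545 F380051 (iv5 F345434) (iv6 D137162) (iv1 F218733)
theorem E103445 : n143101 = n134124 := (c20_2 F225954 D143101 F352546 F225953 F380086 F380084 (iv4 D129276) (iv1 F95825) (iv4 F209283) (iv3 F217056) (iv1 F365742))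
theorem F380087 : act 1 n134124 = n67059 := (sb E103445 (iv0 D143101))
theorem F380088 : act 1 n134897 = n190546 := d15_0 (iv0 F380086) (iv7 F352545) (iv2 F352544)
theorem F380089 : act 0 n121325 = n114942 := d17_0 F179022 F258979 F238466 (iv4 F238435) (iv5 F336395) F380087 D143103 (iv0 F368721) (iv4 F368719)
theorem F380090 : act 7 n190546 = n189156 := d13_2 (iv7 F367999) F380085 (iv5 D189156)
def n190547 : Q := act 0 n96151
theorem D190547 : act 0 n96151 = n190547 := rfl
theorem F380091 : act 4 n190547 = n157955 := d18_3 (iv1 F256341) (iv4 F345214) D190547 (iv5 D157955) (iv4 D75239) (iv0 D34448) (iv4 F54648) D75230 D157924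
theorem F380092 : act 1 n101165 = n190547 := d15_0 (iv0 D190547) F345215 F345222
theorem F380093 : act 3 n188219 = n190547 := d19_19 (iv1 F380092) F155858 F345229 F132099 (iv1 F70911) F70908 F54628 (iv3 F31187) (iv1 F32314) (iv5 D20361) (iv4 D9646) D9645 F17571 (iv5 F31242) (iv4 F31246) D20629 D43604 (iv5 F356189) D188219
theorem F380094 : act 7 n190547 = n101164 := d8_2 (iv7 F372718) F380093 (iv3 F367956)
theorem F380095 : act 2 n190547 = n101163 := d15_3 (iv0 D101163) D101164 (iv7 F380094)
def n190548 : Q := act 1 n96151
theorem D190548 : act 1 n96151 = n190548 := rfl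
theorem F380096 : act 1 n190548 = n101165 := d15_1 D190548 (iv7 D101165) (iv2 F147819)
theorem F380097 : act 7 n190548 = n101163 := d15_2 (iv0 D190547) D190548 (iv2 F380095)
theorem F380098 : act 4 n190548 = n157975 := d17_9 F354688 F354674 (iv1 F268479) D180526 (iv4 F380036) (iv5 D190542) (iv0 D96149) D96151 D190548
theorem F380099 : act 2 n101164 = n190548 := d1_3 F380098 (iv2 F280830) F362334
def n190549 : Q := act 0 n96153
theorem D190549 : act 0 n96153 = n190549 := rfl
theorem F380100 : act 5 n190549 = n99488 := d17_1 D190549 (iv1 F372434) (iv5 D188135) F294871 (iv5 F378225) F378228 F352902 (iv0 F295205) F149607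
theorem F380101 : act 3 n190549 = n103956 := d20_5 (iv4 F66299) F291682 (iv4 F291839) D96153 D190549 (iv4 F345041) (iv1 F336649) F294640 F137269 F64476
theorem F380102 : act 6 n190549 = n186893 := d21_5 D100870 F368821 (iv5 D185997) (iv6 F147823) D190549 (iv5 F372763) (iv1 F372762) (iv5 D100734) D100735 F363041
theorem F380103 : act 2 n186908 = n190549 := d15_3 (iv0 D190549) F375724 F375722
theorem F380104 : act 7 n190549 = n172221 := d4_2 F375722 F380103 (iv2 F375721)
def n190550 : Q := act 1 n96156
theorem D190550 : act 1 n96156 = n190550 := rfl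
theorem F380105 : act 1 n190550 = n99773 := d15_1 D190550 F295185 (iv2 F294443)
theorem F380106 : act 7 n190550 = n99779 := d15_2 (iv0 F289943) D190550 F357388
theorem F380107 : act 5 n190550 = n189094 := d18_9 (iv1 D189094) D189095 F375734 (iv4 D183504) F294500 F70072 D89989 (iv4 F294444) D190550
theorem F380108 : act 4 n182852 = n190550 := d20_0 (iv1 D190550) F294444 (iv3 F294876) (iv1 D47873) (iv3 F75141) (iv4 F135605) (iv1 F288316) F294545 D186059 (iv1 F372679)
theorem F380109 : act 2 n190550 = n99778 := d1_1 F380108 (iv4 F372676) F372675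
theorem F380110 : act 6 n100871 = n190550 := d3_0 F380109 (iv6 F370962) (iv2 F370963)
def n190551 : Q := act 2 n96159
theorem D190551 : act 2 n96159 = n190551 := rfl
theorem F380111 : act 3 n190551 = n136077 := d0_2 D96159 D190551 F218990 (iv3 F329738) F70508
theorem F380112 : act 5 n190551 = n185594 := d2_2 (iv5 F147836) D190551 (iv2 F294443)
theorem F380113 : act 6 n190551 = n134111 := d3_2 F368702 D190551 (iv2 F368700)
theorem F380114 : act 7 n190551 = n136069 := d4_2 (iv7 F147837) D190551 (iv2 F361759)
theorem F380115 : act 1 n190551 = n134146 := d15_0 (iv0 F365869) (iv7 F147837) D190551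
theorem F380116 : act 1 n189092 = n190551 := d15_0 F380115 F365637 (iv2 F375718)
theorem F380117 : act 0 n189389 = n189958 := d17_2 F372678 (iv5 F376512) (iv5 D189958) (iv4 F294215) D189092 F380116 F380112 (iv0 F295181) (iv4 F372676)
theorem F380118 : act 4 n189400 = n190551 := d11_3 F380114 F218982 (iv7 F376537)
theorem F380119 : act 0 n114989 = n189400 := d18_2 (iv1 D183483) (iv4 F364805) F380118 F380112 (iv4 D185594) (iv0 D88408) (iv4 F70889) D96463 F367052
def n190552 : Q := act 4 n96159
theorem D190552 : act 4 n96159 = n190552 := rfl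
theorem F380120 : act 2 n190552 = n189400 := d1_1 D190552 F380118 (iv2 D190551)
theorem F380121 : act 7 n190552 = n187758 := d11_2 (iv7 F147837) D190552 F371427
theorem F380122 : act 0 n190552 = n144785 := d18_2 F357560 D190552 (iv4 F364804) F147039 F133291 (iv0 F295217) F70187 D82488 D172224
theorem F380123 : act 5 n189247 = n190552 := d18_9 F380122 (iv4 F364804) (iv1 F356273) (iv4 F371123) F371124 F364515 F376535 F376534 F376216
def n190553 : Q := act 3 n96160
theorem D190553 : act 3 n96160 = n190553 := rfl
theorem F380124 : act 5 n190553 = n190534 := d6_2 (iv5 F147839) D190553 (iv3 D190534)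
theorem F380125 : act 7 n190553 = n190533 := d8_2 (iv7 F147840) D190553 (iv3 D190533)
def n190554 : Q := act 0 n96162
theorem D190554 : act 0 n96162 = n190554 := rfl
theorem F380126 : act 1 n182769 = n190554 := d15_0 (iv0 D190554) F147849 (iv2 F364843)
def n190555 : Q := act 1 n96162
theorem D190555 : act 1 n96162 = n190555 := rfl
theorem F380127 : act 5 n190555 = n182770 := d17_7 D87246 D182777 F367094 (iv5 F287226) (iv4 F336400) F152021 D190555 (iv0 D182770) F133890
def n190556 : Q := act 2 n96162
theorem D190556 : act 2 n96162 = n190556 := rfl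
theorem F380128 : act 3 n190556 = n182773 := d0_2 D96162 D190556 F367850 (iv3 D186740) F136793
theorem F380129 : act 4 n190556 = n189776 := d1_2 (iv4 F147848) D190556 (iv2 D189776)
theorem F380130 : act 7 n190556 = n182769 := d4_2 (iv7 F147849) D190556 F364843
theorem F380131 : act 1 n190556 = n190538 := d15_0 (iv0 D190538) (iv7 F147849) D190556
theorem F380132 : act 1 n190555 = n182769 := d15_1 D190555 (iv7 F380130) (iv2 D190556)
theorem F380133 : act 5 n189775 = n157753 := d17_1 (iv1 F377708) (iv1 D157753) (iv5 F160971) (iv4 F367832) (iv5 F367848) F367853 (iv5 F380127) F380132 F364841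
theorem F380134 : act 1 n190539 = n190556 := d15_1 D190539 F380130 F364843
def n190557 : Q := act 6 n96162
theorem D190557 : act 6 n96162 = n190557 := rfl
theorem F380135 : act 3 n190557 = n96163 := d7_1 D190557 (iv6 D96163) D96162
theorem F380136 : act 4 n190557 = n189777 := d10_1 D190557 (iv6 D189777) (iv4 F147848)
theorem F380137 : act 5 n188795 = n190557 := d16_1 D188795 F380136 (iv5 F377717) (iv4 D188781) F143127 F142298 (iv5 F143127) F143128 (iv2 F143156)
def n190558 : Q := act 0 n96163
theorem D190558 : act 0 n96163 = n190558 := rfl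
def n190559 : Q := act 1 n96163
theorem D190559 : act 1 n96163 = n190559 := rfl
theorem F380138 : act 1 n190559 = n180358 := d15_1 D190559 (iv7 F367857) F367854
def n190560 : Q := act 5 n96163
theorem D190560 : act 5 n96163 = n190560 := rfl
theorem F380139 : act 3 n190560 = n188795 := d6_1 D190560 F380137 F380135
theorem F380140 : act 4 n188762 = n190560 := d5_0 F380139 (iv4 D188795) (iv3 D92807) (iv4 F143030) D188762
def n190561 : Q := act 7 n96163
theorem D190561 : act 7 n96163 = n190561 := rfl
theorem F380141 : act 2 n190561 = n180358 := d4_1 D190561 (iv7 F367857) F367854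
theorem F380142 : act 4 n190561 = n96167 := d11_1 D190561 (iv7 D96167) (iv4 F147850)
theorem F380143 : act 6 n190561 = n128726 := d14_1 D190561 F332746 (iv6 D96148) (iv7 F70512) D96163
theorem F380144 : act 1 n180358 = n190558 := d15_0 (iv0 D190558) D190561 F380141
def n190562 : Q := act 4 n96164
theorem D190562 : act 4 n96164 = n190562 := rfl
theorem F380145 : act 6 n190562 = n190560 := d10_2 (iv6 F374928) D190562 (iv4 F380140)
theorem F380146 : act 5 n98626 = n190562 := d12_5 F380145 (iv5 D190560) (iv6 D96163) F72712 D98626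
def n190563 : Q := act 5 n96164
theorem D190563 : act 5 n96164 = n190563 := rfl
theorem F380147 : act 3 n190563 = n101931 := d6_1 D190563 F374771 F374930
theorem F380148 : act 7 n190563 = n101932 := d13_2 (iv7 F367868) D190563 F367859
def n190564 : Q := act 3 n96165
theorem D190564 : act 3 n96165 = n190564 := rfl
def n190565 : Q := act 4 n96165
theorem D190565 : act 4 n96165 = n190565 := rfl
def n190566 : Q := act 0 n96166
theorem D190566 : act 0 n96166 = n190566 := rfl
def n190567 : Q := act 1 n96166
theorem D190567 : act 1 n96166 = n190567 := rfl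
def n190568 : Q := act 4 n96166
theorem D190568 : act 4 n96166 = n190568 := rfl
theorem F380149 : act 2 n190568 = n185059 := d1_1 D190568 F358600 F157127
theorem F380150 : act 6 n190568 = n96168 := d10_2 (iv6 F147852) D190568 (iv4 D96168)
def n190569 : Q := act 7 n96166
theorem D190569 : act 7 n96166 = n190569 := rfl
theorem F380151 : act 3 n190569 = n154407 := d8_1 D190569 F358591 (iv3 F147851)
theorem F380152 : act 5 n190569 = n96167 := d13_1 D190569 (iv7 D96167) D96166
def n190570 : Q := act 3 n96168
theorem D190570 : act 3 n96168 = n190570 := rfl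
theorem F380153 : act 4 n190570 = n189787 := d5_2 D96168 D190570 (iv3 D189787) (iv4 D94816) (iv3 F70514)
theorem F380154 : act 5 n190570 = n187454 := d6_2 F347709 D190570 (iv3 D187454)
def n190571 : Q := act 3 n96180
theorem D190571 : act 3 n96180 = n190571 := rfl
theorem F380155 : act 4 n190571 = n160857 := d5_2 D96180 D190571 F254019 F115946 (iv3 F70552)
theorem F380156 : act 6 n190571 = n96334 := d7_2 (iv6 F147882) D190571 (iv3 D96334)
theorem F380157 : act 7 n190571 = n181680 := d8_2 F297515 D190571 (iv3 D181680)
theorem F380158 : act 0 n104591 = n190571 := d18_2 (iv1 D104590) D104591 F380155 (iv5 F353176) F149908 F288031 F145467 D187282 (iv5 F369999)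
def n190572 : Q := act 5 n96180
theorem D190572 : act 5 n96180 = n190572 := rfl
theorem F380159 : act 2 n190572 = n181690 := d2_1 D190572 (iv5 D181690) (iv2 F296374)
theorem F380160 : act 7 n190572 = n181681 := d13_2 F297515 D190572 (iv5 D181681)
theorem F380161 : act 1 n190572 = n177400 := d17_6 (iv1 F119768) F56473 F296248 D44900 D96180 D190572 (iv5 D177400) F299385 (iv4 D163590)
theorem F380162 : act 4 n129205 = n190572 := d18_7 F299384 (iv4 D161099) F116111 (iv4 F119764) (iv5 F297832) F341757 D129205 F380161 (iv5 D177400)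
def n190573 : Q := act 6 n96182
theorem D190573 : act 6 n96182 = n190573 := rfl
theorem F380163 : act 2 n190573 = n98537 := d3_1 D190573 (iv6 F359373) (iv2 F197922)
theorem F380164 : act 3 n190573 = n96183 := d7_1 D190573 (iv6 D96183) D96182
theorem F380165 : act 4 n190573 = n98536 := d10_1 D190573 (iv6 F345815) F197747
theorem F380166 : act 7 n183398 = n190573 := d11_0 F380165 (iv7 F233023) D183398
def n190574 : Q := act 1 n96183
theorem D190574 : act 1 n96183 = n190574 := rfl
theorem F380167 : act 1 n190574 = n124536 := d15_1 D190574 F364615 (iv2 F147888)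
theorem F380168 : act 7 n190574 = n105944 := d15_2 (iv0 F319572) D190574 F297819
theorem F380169 : act 4 n128061 = n190574 := d20_0 (iv1 D190574) (iv4 F270055) F270054 (iv1 F317287) (iv3 F300688) (iv4 D54924) (iv1 F42550) (iv4 F60284) (iv3 F131629) (iv1 F300871)
theorem F380170 : act 3 n105947 = n190574 := d20_3 (iv4 D49013) (iv1 F77295) (iv4 F162694) (iv1 D190574) (iv3 F380164) F380165 (iv1 F268295) F134440 (iv3 F162758) F232392
theorem F380171 : act 6 n129895 = n190574 := d21_3 (iv5 F316292) (iv1 F351934) (iv5 F351929) (iv1 D190574) (iv6 D96183) F90161 F90162 (iv5 D37322) D37323 D81662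
theorem F380172 : act 2 n190574 = n124508 := d3_1 F380171 F199153 F309906
theorem F380173 : act 5 n190574 = n146048 := d12_1 F380171 F337022 F158408 D170010 (iv5 F351929)
def n190575 : Q := act 5 n96183
theorem D190575 : act 5 n96183 = n190575 := rfl
theorem F380174 : act 2 n190575 = n177028 := d2_1 D190575 (iv5 D177028) (iv2 F147888)
theorem F380175 : act 0 n190575 = n124552 := d17_2 (iv1 D190574) D190575 (iv5 F337051) F337050 (iv5 D174557) (iv0 F337060) (iv5 D161725) (iv0 F300870) F380169
def n190576 : Q := act 7 n96183
theorem D190576 : act 7 n96183 = n190576 := rfl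
theorem F380176 : act 2 n190576 = n124536 := d4_1 D190576 F364615 (iv2 F147888)
theorem F380177 : act 3 n190576 = n183398 := d8_1 D190576 F380166 F380164
theorem F380178 : act 6 n190576 = n174103 := d14_1 D190576 F324291 (iv6 D84378) (iv7 F126883) D96183
theorem F380179 : act 1 n124508 = n190576 := d15_1 (iv0 F343386) (iv7 D190576) F147888
theorem F380180 : act 1 n190576 = n105944 := d15_1 F380179 (iv7 F380168) F380172
def n190577 : Q := act 6 n96186
theorem D190577 : act 6 n96186 = n190577 := rfl
theorem F380181 : act 2 n190577 = n123395 := d3_1 D190577 (iv6 D123395) F147904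
theorem F380182 : act 3 n190577 = n119066 := d7_1 D190577 (iv6 D119066) (iv3 F147900)
theorem F380183 : act 4 n190577 = n123387 := d10_1 D190577 (iv6 D123387) (iv4 F147903)
theorem F380184 : act 7 n190577 = n170400 := d14_2 F147905 D190577 (iv6 F334466) F280306 F311017
theorem F380185 : act 0 n190577 = n170402 := d21_10 F352582 F346397 (iv5 F346395) (iv6 F331661) (iv1 D128274) F315992 F59957 D45207 (iv5 F147902) D190577
theorem F380186 : act 1 n190577 = n97243 := d15_1 (iv0 F380185) F336835 D170402
def n190578 : Q := act 6 n96187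
theorem D190578 : act 6 n96187 = n190578 := rfl
theorem F380187 : act 2 n190578 = n159186 := d3_1 D190578 F311017 F147910
theorem F380188 : act 4 n190578 = n122992 := d10_1 D190578 (iv6 D122992) (iv4 F147909)
theorem F380189 : act 5 n190578 = n101287 := d12_1 D190578 (iv6 D101287) (iv5 F123670) F298493 (iv5 F147908)
theorem F380190 : act 0 n190578 = n96778 := d21_10 F352635 (iv1 F234131) (iv5 F227910) (iv6 F229158) (iv1 F338167) (iv6 D170265) (iv5 D81657) (iv1 F71250) (iv5 F147908) D190578
theorem F380191 : act 1 n190578 = n150305 := d15_1 (iv0 F380190) F236542 F352636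
theorem F380192 : act 7 n190578 = n190332 := d15_2 F352638 (iv0 F380190) (iv2 F379430)
def n190579 : Q := act 5 n96201
theorem D190579 : act 5 n96201 = n190579 := rfl
theorem F380193 : act 2 n190579 = n109536 := d2_1 D190579 F354564 (iv2 F147942)
theorem F380194 : act 6 n190579 = n109534 := d12_2 D96201 D190579 (iv5 F205316) (iv6 F354563) (iv5 D96200)
theorem F380195 : act 7 n190579 = n189861 := d13_2 (iv7 F289592) D190579 (iv5 D189861)
theorem F380196 : act 0 n96395 = n190579 := d21_7 D87852 F134837 (iv5 D87459) D87460 (iv1 F289556) D95615 (iv5 F148375) (iv5 D190579) (iv6 D96201) (iv1 F70579)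
theorem F380197 : act 1 n189878 = n190579 := d15_0 (iv0 F380196) F148376 D189878
theorem F380198 : act 1 n112026 = n189878 := d15_0 F380197 F380195 F378028
def n190580 : Q := act 6 n96206
theorem D190580 : act 6 n96206 = n190580 := rfl
theorem F380199 : act 3 n190580 = n184202 := d7_1 D190580 (iv6 D184202) F158455
def n190581 : Q := act 3 n96211
theorem D190581 : act 3 n96211 = n190581 := rfl
theorem F380200 : act 4 n190581 = n102405 := d5_2 D96211 D190581 F157331 (iv4 F352889) F147965
theorem F380201 : act 5 n190581 = n184093 := d6_2 (iv5 F294999) D190581 (iv3 D184093)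
theorem F380202 : act 6 n190581 = n102404 := d7_2 F378738 D190581 (iv3 F378737)
def n190582 : Q := act 5 n96216
theorem D190582 : act 5 n96216 = n190582 := rfl
theorem F380203 : act 2 n190582 = n144030 := d2_1 D190582 (iv5 F365050) (iv2 F147978)
theorem F380204 : act 3 n190582 = n96219 := d6_1 D190582 (iv5 D96219) (iv3 F147979)
theorem F380205 : act 7 n190582 = n144289 := d13_2 F372156 D190582 F372159
theorem F380206 : act 0 n190582 = n119262 := d18_0 F187729 D152826 (iv4 F360759) F158274 F75026 F75360 D103589 (iv0 F176036) D190582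
theorem F380207 : act 0 n144080 = n190582 := d21_10 (iv5 D190582) F176036 (iv5 F366637) (iv6 D112989) (iv1 D52150) (iv6 F46324) D60473 D128574 F365099 D144080
theorem E103446 : n144287 = n144080 := ((c15_1 (iv0 F380207) (iv0 D144287) (iv7 F226727) (iv2 F380203))).symm
theorem F380208 : act 1 n144080 = n67598 := (sb E103446 (iv0 D144287))
def n190583 : Q := act 4 n96219
theorem D190583 : act 4 n96219 = n190583 := rfl
theorem F380209 : act 2 n190583 = n144272 := d1_1 D190583 F226958 (iv2 F331282)
theorem F380210 : act 1 n190583 = n103264 := d18_6 (iv1 D47839) (iv4 F65227) F176025 (iv4 F70606) D96219 D190583 (iv4 D103264) (iv0 F177374) (iv5 D103231)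
def n190584 : Q := act 0 n96221
theorem D190584 : act 0 n96221 = n190584 := rfl
theorem F380211 : act 4 n190584 = n106127 := d20_2 (iv4 F147991) D190584 (iv3 F319952) (iv1 F319185) F318362 F343311 F341183 (iv4 D71470) D71469 (iv1 F338508)
theorem F380212 : act 3 n190584 = n142739 := d20_5 F353331 (iv1 F305561) F242305 (iv3 F147990) D190584 (iv4 D142739) (iv1 F205103) F205105 D127606 F225649
theorem F380213 : act 6 n190584 = n114165 := d21_5 F37361 (iv1 F33694) D44926 D96221 D190584 (iv5 F379264) (iv1 F379266) (iv5 D96968) (iv6 D45333) (iv1 F37362)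
theorem F380214 : act 2 n96226 = n190584 := d15_3 (iv0 D190584) (iv0 F353143) F353128
theorem F380215 : act 7 n190584 = n96227 := d4_2 F353128 F380214 (iv2 F359246)
theorem F380216 : act 1 n96229 = n190584 := d15_1 F353145 F380215 (iv2 F359246)
def n190585 : Q := act 5 n96221
theorem D190585 : act 5 n96221 = n190585 := rfl
theorem F380217 : act 2 n190585 = n96228 := d2_1 D190585 (iv5 D96228) (iv2 F147989)
theorem F380218 : act 3 n190585 = n189915 := d6_1 D190585 (iv5 D189915) (iv3 F147990)
theorem F380219 : act 6 n190585 = n96222 := d12_2 D96221 D190585 (iv5 D96222) (iv6 D44927) D44926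
def n190586 : Q := act 7 n96221
theorem D190586 : act 7 n96221 = n190586 := rfl
theorem F380220 : act 2 n190586 = n96229 := d4_1 D190586 (iv7 D96229) (iv2 F147989)
theorem F380221 : act 3 n190586 = n189855 := d8_1 D190586 F378003 (iv3 F147990)
theorem F380222 : act 4 n190586 = n164616 := d11_1 D190586 (iv7 D164616) (iv4 F147991)
theorem F380223 : act 6 n190586 = n189824 := d14_1 D190586 (iv7 D189824) (iv6 D95307) (iv7 F70610) D96221
theorem F380224 : act 1 n96227 = n190586 := d15_1 D96227 (iv7 D190586) F147989
theorem F380225 : act 1 n190586 = n96226 := d15_1 F380224 (iv7 F353128) F359246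
def n190587 : Q := act 4 n96222
theorem D190587 : act 4 n96222 = n190587 := rfl
theorem F380226 : act 2 n190587 = n96239 := d1_1 D190587 (iv4 D96239) (iv2 F147992)
theorem F380227 : act 1 n190587 = n190571 := d18_6 (iv1 F159095) (iv4 F159097) (iv1 F135558) (iv4 F70615) D96222 D190587 F380155 F353181 F159115
def n190588 : Q := act 5 n96223
theorem D190588 : act 5 n96223 = n190588 := rfl
theorem F380228 : act 2 n190588 = n164453 := d2_1 D190588 (iv5 D164453) (iv2 F147994)
theorem F380229 : act 3 n190588 = n159522 := d6_1 D190588 (iv5 D159522) (iv3 F147995)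
theorem F380230 : act 6 n190588 = n96957 := d12_2 D96223 D190588 (iv5 D96957) (iv6 D45328) (iv5 F70616)
theorem F380231 : act 4 n190588 = n186230 := d16_6 F261859 F335162 F163778 (iv5 F83149) (iv4 F147996) D190588 (iv5 F331422) F288175 (iv2 F288177)
def n190589 : Q := act 7 n96223
theorem D190589 : act 7 n96223 = n190589 := rfl
theorem F380232 : act 2 n190589 = n164454 := d4_1 D190589 (iv7 D164454) (iv2 F147994)
theorem F380233 : act 3 n190589 = n159523 := d8_1 D190589 (iv7 D159523) (iv3 F147995)
theorem F380234 : act 4 n190589 = n114039 := d11_1 D190589 (iv7 D114039) (iv4 F147996)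
theorem F380235 : act 6 n190589 = n159523 := d14_1 D190589 (iv7 D159523) (iv6 D76318) F70621 D96223
theorem F380236 : act 1 n164452 = n190589 := d15_1 D164452 (iv7 D190589) F147994
theorem F380237 : act 1 n190589 = n130582 := d15_1 F380236 (iv7 F350603) (iv2 F350604)
def n190590 : Q := act 6 n96224
theorem D190590 : act 6 n96224 = n190590 := rfl
theorem F380238 : act 2 n190590 = n147255 := d3_1 D190590 F230849 (iv2 F147997)
theorem F380239 : act 3 n190590 = n96225 := d7_1 D190590 (iv6 D96225) D96224
theorem F380240 : act 4 n190590 = n147231 := d10_1 D190590 F230816 (iv4 F147998)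
theorem F380241 : act 0 n190590 = n149200 := d20_10 F234567 (iv1 F310973) F310975 F147133 (iv1 F70149) D44777 D95930 F346178 (iv4 F148004) (iv3 F380239)
def n190591 : Q := act 7 n96225
theorem D190591 : act 7 n96225 = n190591 := rfl
theorem F380242 : act 2 n190591 = n159523 := d4_1 D190591 (iv7 D159523) (iv2 F148003)
theorem F380243 : act 4 n190591 = n114181 := d11_1 D190591 (iv7 D114181) (iv4 F148004)
theorem F380244 : act 6 n190591 = n164454 := d14_1 D190591 (iv7 D164454) (iv6 D78981) (iv7 F70623) D96225
theorem F380245 : act 1 n159521 = n190591 := d15_1 D159521 (iv7 D190591) F148003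
theorem F380246 : act 1 n190591 = n159520 := d15_1 F380245 F336924 (iv2 F336917)
def n190592 : Q := act 5 n96226
theorem D190592 : act 5 n96226 = n190592 := rfl
theorem F380247 : act 3 n190592 = n189827 := d6_1 D190592 (iv5 D189827) (iv3 F353129)
theorem F380248 : act 4 n190592 = n125703 := d18_5 (iv1 F316659) F149962 F120140 F259054 D190592 (iv0 D125703) F93079 D109513 (iv5 F347764)
def n190593 : Q := act 5 n96227
theorem D190593 : act 5 n96227 = n190593 := rfl
theorem F380249 : act 3 n190593 = n112105 := d6_1 D190593 (iv5 F205299) F353322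
theorem F380250 : act 4 n190593 = n125704 := d18_5 (iv1 D127594) (iv4 F319199) (iv1 F290565) (iv4 F359244) D190593 F202193 F161091 F169468 F347760
def n190594 : Q := act 0 n96228
theorem D190594 : act 0 n96228 = n190594 := rfl
def n190595 : Q := act 1 n96228
theorem D190595 : act 1 n96228 = n190595 := rfl
theorem F380251 : act 3 n109539 = n190595 := d20_3 F325302 D163863 F360148 (iv1 D190595) F148005 D96268 F369714 F369713 (iv3 F373623) F373625
def n190596 : Q := act 4 n96228
theorem D190596 : act 4 n96228 = n190596 := rfl
theorem F380252 : act 6 n190596 = n96239 := d10_2 (iv6 F148006) D190596 (iv4 D96239)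
theorem F380253 : act 1 n190596 = n137283 := d18_6 (iv1 F318861) (iv4 F338506) (iv1 D149995) F107025 D96228 D190596 (iv4 D137283) (iv0 D64522) D64525
theorem F380254 : act 0 n190596 = n137286 := d20_1 D190596 (iv4 D137286) F325199 (iv1 F324018) D111897 F325302 D163863 F360148 F380251 (iv1 D190595)
def n190597 : Q := act 7 n96228
theorem D190597 : act 7 n96228 = n190597 := rfl
theorem F380255 : act 3 n190597 = n96269 := d8_1 D190597 (iv7 D96269) (iv3 F148005)
theorem F380256 : act 5 n190597 = n96229 := d13_1 D190597 (iv7 D96229) D96228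
def n190598 : Q := act 0 n96231
theorem D190598 : act 0 n96231 = n190598 := rfl
theorem F380257 : act 5 n190598 = n187366 := d17_3 D44931 D96231 D190598 F370002 (iv5 F288358) (iv0 F288361) (iv5 D90557) (iv0 D42390) (iv4 F33699)
theorem F380258 : act 2 n185462 = n190598 := d15_3 (iv0 D190598) F369703 F369701
theorem F380259 : act 1 n96235 = n190598 := d15_0 (iv0 D190598) F160273 (iv2 F160274)
theorem F380260 : act 3 n190598 = n189872 := d0_2 D185462 F380258 (iv2 F378054) F150261 F135302
theorem F380261 : act 6 n180634 = n190598 := d12_0 F380257 F370003 D187393 (iv6 F370151) F358390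
def n190599 : Q := act 4 n96231
theorem D190599 : act 4 n96231 = n190599 := rfl
theorem F380262 : act 0 n190599 = n190396 := d18_2 (iv1 F369703) D190599 (iv4 D190396) (iv5 D96006) (iv4 F144649) (iv0 F371101) F371098 (iv0 F288025) D187284
def n190600 : Q := act 6 n96231
theorem D190600 : act 6 n96231 = n190600 := rfl
theorem F380263 : act 3 n190600 = n189834 := d7_1 D190600 (iv6 D189834) (iv3 F148010)
theorem F380264 : act 0 n104660 = n190600 := d20_4 (iv4 F340347) (iv1 F36735) D48395 D104660 F380263 F377925 (iv1 F214452) F363901 (iv3 D104665) F340349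
def n190601 : Q := act 4 n96235
theorem D190601 : act 4 n96235 = n190601 := rfl
theorem F380265 : act 3 n190601 = n180255 := d5_1 D190601 (iv4 D180255) (iv3 D86107) D86108 (iv3 F348575)
theorem F380266 : act 1 n190601 = n190396 := d18_6 F159057 F75444 F292573 (iv4 F292565) D96235 D190601 (iv4 D190396) F360321 F360320
def n190602 : Q := act 6 n96235
theorem D190602 : act 6 n96235 = n190602 := rfl
theorem F380267 : act 3 n190602 = n180263 := d7_1 D190602 (iv6 D180263) (iv3 F348575)
def n190603 : Q := act 4 n96237
theorem D190603 : act 4 n96237 = n190603 := rfl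
theorem F380268 : act 1 n190603 = n113330 := d18_6 (iv1 F353185) (iv4 F373833) F373836 (iv4 F369981) F369979 D190603 (iv4 F321136) (iv0 F353182) (iv5 F353176)
def n190604 : Q := act 6 n96237
theorem D190604 : act 6 n96237 = n190604 := rfl
theorem F380269 : act 3 n190604 = n189838 := d7_1 D190604 (iv6 D189838) F369986
theorem F380270 : act 4 n112691 = n190604 := d19_2 D52598 (iv5 F329450) F380269 F377936 (iv5 F349529) F211354 F168407 (iv1 D62657) (iv5 D29627) (iv4 F47586) F325871 (iv1 D52517) (iv5 D25492) (iv4 F20054) (iv3 D12123) (iv1 D5750) D5752 D12133 D25528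
theorem F380271 : act 6 n190603 = n112691 := d10_0 F380270 (iv6 D190604) D190603
def n190605 : Q := act 3 n96238
theorem D190605 : act 3 n96238 = n190605 := rfl
theorem F380272 : act 2 n190605 = n189839 := d0_1 D190605 (iv3 D189839) F377897 (iv3 F377898) F369989
theorem F380273 : act 4 n170691 = n190605 := d19_2 F330233 (iv5 F340137) (iv3 D190605) (iv1 D96238) (iv5 D44933) F33699 F31845 (iv1 F63159) D19437 D41304 (iv3 F328223) F337692 F323492 (iv4 D69534) (iv3 D32281) (iv1 D15222) D15223 D32286 D69546
theorem F380274 : act 6 n190605 = n188500 := d10_2 F340140 F380273 (iv4 D188500)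
def n190606 : Q := act 4 n96238
theorem D190606 : act 4 n96238 = n190606 := rfl
theorem F380275 : act 0 n190606 = n113330 := d18_2 (iv1 F160242) D190606 (iv4 F321136) (iv5 D103671) F75441 F292572 (iv4 F292565) F76033 D104588
def n190607 : Q := act 6 n96238
theorem D190607 : act 6 n96238 = n190607 := rfl
theorem F380276 : act 3 n190607 = n188500 := d7_1 D190607 (iv6 F380274) (iv3 D190605)
def n190608 : Q := act 1 n96239
theorem D190608 : act 1 n96239 = n190608 := rfl
theorem F380277 : act 4 n103678 = n190608 := d20_6 D96282 F148105 (iv4 D48385) (iv3 F76053) D104624 (iv3 F350457) (iv1 D190608) (iv4 D96239) F70628 D44947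
theorem F380278 : act 2 n190608 = n190571 := d1_1 F380277 F380155 F353175
theorem F380279 : act 3 n177462 = n190608 := d0_0 F380278 (iv3 D190571) F296374 D181689 F361745
def n190609 : Q := act 6 n96240
theorem D190609 : act 6 n96240 = n190609 := rfl
theorem F380280 : act 2 n190609 = n96241 := d3_1 D190609 (iv6 D96241) D96240
theorem F380281 : act 3 n190609 = n96356 := d7_1 D190609 (iv6 D96356) (iv3 F148016)
theorem F380282 : act 4 n190609 = n179264 := d10_1 D190609 (iv6 F347849) F149938
def n190610 : Q := act 0 n96241
theorem D190610 : act 0 n96241 = n190610 := rfl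
theorem F380283 : act 3 n190610 = n149200 := d20_5 D44778 (iv1 F312748) F125279 (iv3 F148021) D190610 F234567 (iv1 F310973) F310975 F147133 (iv1 F70149)
theorem F380284 : act 6 n112122 = n190610 := d7_0 F380283 (iv6 D149200) (iv3 F363710)
def n190611 : Q := act 1 n96241
theorem D190611 : act 1 n96241 = n190611 := rfl
def n190612 : Q := act 5 n96241
theorem D190612 : act 5 n96241 = n190612 := rfl
theorem F380285 : act 3 n190612 = n96244 := d6_1 D190612 (iv5 D96244) (iv3 F148021)
theorem F380286 : act 6 n190612 = n96951 := d12_2 D96241 D190612 (iv5 D96951) (iv6 D45325) (iv5 F70629)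
theorem F380287 : act 0 n112930 = n190612 := d19_0 (iv5 D190612) (iv4 F351335) F278797 F130598 F87903 (iv4 F44966) F309150 (iv1 F18672) D16546 F26188 (iv3 F27087) D34290 F54406 F77203 F77205 (iv1 D25309) D25311 D52128 D112930
def n190613 : Q := act 7 n96241
theorem D190613 : act 7 n96241 = n190613 := rfl
theorem F380288 : act 3 n190613 = n96245 := d8_1 D190613 (iv7 D96245) (iv3 F148021)
theorem F380289 : act 4 n190613 = n155004 := d11_1 D190613 (iv7 F278798) F351335
theorem F380290 : act 6 n190613 = n110763 := d14_1 D190613 F363177 (iv6 D87465) (iv7 F70630) D96241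
def n190614 : Q := act 5 n96242
theorem D190614 : act 5 n96242 = n190614 := rfl
theorem F380291 : act 2 n190614 = n130575 := d2_1 D190614 F352652 F352645
theorem F380292 : act 3 n190614 = n186953 := d6_1 D190614 (iv5 D186953) (iv3 F352639)
theorem F380293 : act 6 n190614 = n130570 := d12_2 (iv6 F339719) D190614 (iv5 D130570) (iv6 F329578) (iv5 F137093)
theorem F380294 : act 7 n190614 = n189847 := d13_2 F352642 D190614 (iv5 D189847)
theorem F380295 : act 1 n190614 = n120584 := d17_6 (iv1 D68460) (iv5 F51754) D70376 F310948 (iv4 F352640) D190614 (iv5 D120584) D120582 (iv4 F200382)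
def n190615 : Q := act 5 n96243
theorem D190615 : act 5 n96243 = n190615 := rfl
theorem F380296 : act 2 n190615 = n189847 := d2_1 D190615 (iv5 D189847) F352648
theorem F380297 : act 3 n190615 = n130583 := d6_1 D190615 F350607 (iv3 F334522)
theorem F380298 : act 7 n190615 = n130575 := d13_2 (iv7 F352650) D190615 F352652
theorem F380299 : act 0 n190615 = n120584 := d17_2 (iv1 F148022) D190615 (iv5 D120584) (iv4 D55531) (iv5 D26803) D26802 F315069 F147573 F312743
theorem F380300 : act 6 n189618 = n190615 := d21_5 (iv5 D88581) (iv1 F294874) (iv5 F75151) D96079 (iv1 F377133) (iv5 D190615) (iv1 D96243) D96244 F148024 F295302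
def n190616 : Q := act 0 n96244
theorem D190616 : act 0 n96244 = n190616 := rfl
theorem F380301 : act 5 n190616 = n190149 := d17_3 (iv1 D96243) D96244 D190616 F378981 (iv5 F305226) (iv0 D96787) (iv5 D45229) D45228 (iv4 F334523)
theorem F380302 : act 4 n190616 = n106727 := d18_1 D190616 (iv1 F363606) F147590 F70360 (iv4 F70356) F71302 (iv4 F352640) (iv0 D96242) D96244
theorem F380303 : act 6 n190616 = n106726 := d21_5 (iv5 D44634) F66331 D45326 (iv6 F148024) D190616 F363530 (iv1 F363529) (iv5 F378572) (iv6 D190017) (iv1 F147202)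
theorem F380304 : act 0 n190616 = n189851 := d21_10 F377988 (iv1 F148022) D190615 (iv6 F380300) (iv1 D189618) (iv6 F376355) F376357 (iv1 F363528) (iv5 F363530) (iv6 F380303)
theorem F380305 : act 2 n189848 = n190616 := d1_3 F380302 F348081 (iv4 F377981)
theorem F380306 : act 7 n189849 = n190616 := d11_0 F380302 (iv7 F348082) F377983
def n190617 : Q := act 1 n96244
theorem D190617 : act 1 n96244 = n190617 := rfl
theorem F380307 : act 1 n190617 = n189851 := d15_1 D190617 (iv7 D189851) (iv2 F148023)
theorem F380308 : act 7 n190617 = n189848 := d15_2 (iv0 D190616) D190617 F380305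
theorem F380309 : act 5 n190617 = n190054 := d17_7 D120556 F192107 (iv1 D85796) (iv5 F304046) F125279 D96244 D190617 (iv0 F378667) (iv4 D120557)
theorem F380310 : act 2 n189849 = n190617 := d2_3 F380309 F378664 (iv5 F377982)
theorem F380311 : act 4 n189989 = n190617 := d18_3 (iv1 F147148) (iv4 F147590) (iv1 F378469) F380309 F378665 F307161 (iv4 F317728) F317726 (iv5 F335105)
def n190618 : Q := act 7 n96244
theorem D190618 : act 7 n96244 = n190618 := rfl
theorem F380312 : act 2 n190618 = n189851 := d4_1 D190618 (iv7 D189851) (iv2 F148023)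
theorem F380313 : act 4 n190618 = n184733 := d11_1 D190618 (iv7 F379585) F379589
theorem F380314 : act 5 n190618 = n96245 := d13_1 D190618 (iv7 D96245) D96244
theorem F380315 : act 6 n190618 = n190493 := d14_1 D190618 (iv7 D190493) (iv6 D96056) (iv7 F71408) (iv6 F148024)
theorem F380316 : act 1 n189849 = n190618 := d15_1 D189849 (iv7 D190618) F148023
theorem F380317 : act 1 n190618 = n189848 := d15_1 F380316 (iv7 F380308) (iv2 F380310)
def n190619 : Q := act 5 n96246
theorem D190619 : act 5 n96246 = n190619 := rfl
theorem F380318 : act 2 n190619 = n170410 := d2_1 D190619 (iv5 D170410) (iv2 F350617)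
theorem F380319 : act 7 n190619 = n170428 := d13_2 (iv7 F350620) D190619 (iv5 D170428)
theorem F380320 : act 4 n190619 = n132071 := d16_2 (iv4 F350619) D190619 (iv5 D132071) (iv4 F211592) F321099 (iv4 F348986) (iv5 D97245) F336833 F336826
theorem F380321 : act 5 n111127 = n186600 := d19_17 D96246 D190619 F380320 F211555 D132079 F212104 F211213 F96736 (iv1 F96710) F211928 D62884 (iv3 F100799) F310804 (iv5 F310667) (iv4 F111674) (iv3 F172465) (iv1 F172470) F367408 F136820
theorem F380322 : act 2 n100128 = n111127 := d2_3 F380321 F367407 (iv5 F154055)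
theorem F380323 : act 6 n99313 = n111127 := d12_0 F380321 (iv6 F367406) F136817 D123199 F343489
theorem F380324 : act 7 n111208 = n111127 := d13_0 F380321 F367405 F356538
theorem F380325 : act 2 n111208 = n111126 := d15_3 (iv0 D111126) D111127 (iv7 F380324)
theorem F380326 : act 5 n111126 = n186599 := d2_2 F356538 F380325 F367403
theorem F380327 : act 7 n111126 = n100128 := d4_2 (iv7 F380324) F380325 F380322
def n190620 : Q := act 3 n96247
theorem D190620 : act 3 n96247 = n190620 := rfl
theorem F380328 : act 2 n190620 = n189844 := d0_1 D190620 (iv3 F377971) (iv2 F336917) (iv3 F261862) (iv2 F336836)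
theorem F380329 : act 4 n190620 = n154191 := d5_2 (iv4 F335826) D190620 (iv3 F368376) (iv4 F352586) (iv3 D97243)
theorem F380330 : act 7 n190620 = n170409 := d8_2 (iv7 F336837) D190620 (iv3 D170409)
theorem F380331 : act 0 n190620 = n96356 := d20_4 F70986 (iv1 F71695) (iv4 F335826) D190620 (iv3 F380281) F380282 (iv1 F279190) (iv4 F347915) (iv3 D45439) (iv1 F70990)
theorem F380332 : act 0 n189846 = n190620 := d20_4 D44773 D95911 F312743 (iv3 F377975) (iv3 D190620) F335826 (iv1 D45435) F34139 F16476 D21322
def n190621 : Q := act 5 n96247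
theorem D190621 : act 5 n96247 = n190621 := rfl
theorem F380333 : act 2 n190621 = n170428 := d2_1 D190621 (iv5 D170428) (iv2 F336836)
theorem F380334 : act 7 n190621 = n170410 := d13_2 (iv7 F336837) D190621 (iv5 D170410)
def n190622 : Q := act 6 n96247
theorem D190622 : act 6 n96247 = n190622 := rfl
theorem F380335 : act 2 n190622 = n170429 := d3_1 D190622 (iv6 D170429) (iv2 F336836)
theorem F380336 : act 4 n190622 = n97246 := d10_1 D190622 (iv6 D97246) (iv4 F335826)
theorem F380337 : act 7 n190622 = n189932 := d14_2 (iv7 F336837) D190622 (iv6 F378289) (iv7 F364214) (iv6 D170411)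
theorem F380338 : act 0 n96260 = n190622 := d18_2 F344003 F343998 F380336 F340995 D131613 (iv0 F247989) F112432 D74919 D157469
theorem F380339 : act 1 n189933 = n190622 := d18_6 F316299 (iv4 F315629) F304900 (iv4 F148947) F304897 (iv4 F378291) F380336 F340994 (iv5 F247958)
def n190623 : Q := act 1 n96248
theorem D190623 : act 1 n96248 = n190623 := rfl
theorem F380340 : act 1 n190623 = n110762 := d15_1 D190623 F330366 (iv2 F148031)
theorem F380341 : act 7 n190623 = n183255 := d15_2 (iv0 F361097) D190623 (iv2 F332546)
theorem F380342 : act 5 n190623 = n190052 := d17_7 (iv1 F230696) (iv5 F230881) (iv1 F230883) F313082 F125280 D96248 D190623 F378659 F361089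
theorem F380343 : act 4 n190623 = n97306 := d17_9 (iv1 D97306) D97308 F356955 D132071 (iv4 F380320) (iv5 D190619) (iv0 D96246) D96248 D190623
theorem F380344 : act 2 n183256 = n190623 := d1_3 F380343 (iv2 F361100) (iv4 F361102)
def n190624 : Q := act 7 n96248
theorem D190624 : act 7 n96248 = n190624 := rfl
theorem F380345 : act 2 n190624 = n110762 := d4_1 D190624 F330366 (iv2 F148031)
theorem F380346 : act 3 n190624 = n189649 := d8_1 D190624 F377256 F367904
theorem F380347 : act 4 n190624 = n110772 := d11_1 D190624 F171463 F332567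
theorem F380348 : act 5 n190624 = n96249 := d13_1 D190624 (iv7 D96249) D96248
theorem F380349 : act 6 n190624 = n189647 := d14_1 D190624 F377253 F360834 (iv7 F294080) (iv6 F148032)
theorem F380350 : act 1 n183256 = n190624 := d15_1 D183256 (iv7 D190624) F148031
theorem F380351 : act 1 n190624 = n183255 := d15_1 F380350 (iv7 F380341) (iv2 F380344)
def n190625 : Q := act 0 n96251
theorem D190625 : act 0 n96251 = n190625 := rfl
theorem F380352 : act 5 n190625 = n179632 := d17_3 (iv1 F333288) F333291 D190625 F355807 (iv5 D151432) (iv0 F338499) F329157 D137465 F343280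
theorem F380353 : act 4 n190625 = n147939 := d18_1 D190625 (iv1 D147939) F105584 F320523 F343287 (iv0 D64821) (iv4 F100658) (iv0 F333287) F333291
theorem F380354 : act 3 n190625 = n147464 := d20_5 F321661 (iv1 D44940) (iv4 F70637) (iv3 F148045) D190625 (iv4 D147464) (iv1 D69123) F51124 (iv3 F51117) D69110
theorem F380355 : act 2 n147987 = n190625 := d15_3 (iv0 D190625) F309966 F231807
theorem F380356 : act 1 n159419 = n190625 := d15_0 (iv0 D190625) F309967 (iv2 F251044)
theorem F380357 : act 7 n190625 = n147982 := d15_2 (iv0 F251048) F380356 F231812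
def n190626 : Q := act 1 n96260
theorem D190626 : act 1 n96260 = n190626 := rfl
theorem F380358 : act 1 n190626 = n189933 := d15_1 D190626 (iv7 D189933) F364155
theorem F380359 : act 7 n190626 = n170429 := d15_2 (iv0 F380338) D190626 (iv2 F380335)
theorem F380360 : act 4 n190626 = n131619 := d17_9 F341057 (iv5 F247958) F316299 (iv5 D81667) F58266 D44684 D95669 (iv5 F148057) D190626
theorem F380361 : act 6 n189857 = n190626 := d21_3 D95595 D190058 F378726 (iv1 D190626) (iv6 D96260) (iv5 F337312) D109860 (iv5 F378707) (iv6 D190057) (iv1 D95594)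
theorem F380362 : act 2 n190626 = n189932 := d3_1 F380361 (iv6 F378289) F378011
theorem F380363 : act 3 n164378 = n190626 := d20_5 F378354 F346217 F346186 (iv3 D164380) D164378 F380360 F341057 (iv4 F341011) (iv3 F363404) F378358
def n190627 : Q := act 7 n96260
theorem D190627 : act 7 n96260 = n190627 := rfl
theorem F380364 : act 2 n190627 = n189933 := d4_1 D190627 (iv7 D189933) F364155
theorem F380365 : act 4 n190627 = n169961 := d11_1 D190627 (iv7 F344001) F343998
theorem F380366 : act 5 n190627 = n96991 := d13_1 D190627 F364157 (iv5 F148057)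
theorem F380367 : act 6 n190627 = n186951 := d14_1 D190627 F368637 (iv6 D95476) F337305 D96260
theorem F380368 : act 1 n189932 = n190627 := d15_1 D189932 (iv7 D190627) (iv2 F364155)
theorem F380369 : act 1 n190627 = n170429 := d15_1 F380368 (iv7 F380359) F380362
def n190628 : Q := act 4 n96262
theorem D190628 : act 4 n96262 = n190628 := rfl
theorem F380370 : act 2 n190628 = n102504 := d1_1 D190628 F349496 (iv2 F320045)
theorem F380371 : act 3 n190628 = n117535 := d5_1 D190628 F349471 F243076 F321661 D96262
theorem F380372 : act 5 n190628 = n99833 := d9_2 (iv5 F320046) D190628 F344577 (iv5 D50452) F38601 (iv5 F19020) (iv4 F38673) D50678 D109887 (iv5 F344558) F344557 F344540 F81559 (iv5 F39485) (iv4 F81635)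
theorem F380373 : act 7 n190628 = n102509 := d11_2 F349487 D190628 (iv4 F349485)
theorem F380374 : act 0 n190628 = n123245 := d18_2 (iv1 F320044) D190628 F321936 (iv5 D111909) (iv4 D51610) F39359 (iv4 F79912) F81388 F171323
theorem F380375 : act 1 n190628 = n117780 := d18_6 (iv1 F324001) (iv4 D50699) (iv1 F39487) (iv4 F81635) (iv5 F320046) D190628 (iv4 F205143) (iv0 F353321) (iv5 D166686)
def n190629 : Q := act 6 n96262
theorem D190629 : act 6 n96262 = n190629 := rfl
theorem F380376 : act 2 n190629 = n112114 := d3_1 D190629 (iv6 D112114) (iv2 F320045)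
theorem F380377 : act 3 n190629 = n96265 := d7_1 D190629 (iv6 D96265) D96262
def n190630 : Q := act 5 n96265
theorem D190630 : act 5 n96265 = n190630 := rfl
theorem F380378 : act 2 n190630 = n102026 := d2_1 D190630 (iv5 F339838) (iv2 F337327)
theorem F380379 : act 7 n190630 = n102025 := d13_2 F360230 D190630 F346002
theorem F380380 : act 0 n190630 = n102027 := d17_2 F360234 D190630 F339832 F317173 (iv5 F318008) (iv0 F243147) F243151 F345668 F345662
theorem F380381 : act 1 n190630 = n99780 := d17_6 F315411 (iv5 F315413) F242988 D146708 (iv4 F360232) D190630 (iv5 F363715) (iv0 D95587) F312494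
def n190631 : Q := act 5 n96268
theorem D190631 : act 5 n96268 = n190631 := rfl
theorem F380382 : act 2 n190631 = n189937 := d2_1 D190631 (iv5 D189937) (iv2 F148060)
theorem F380383 : act 3 n190631 = n130534 := d6_1 D190631 (iv5 F349594) F363492
def n190632 : Q := act 0 n96273
theorem D190632 : act 0 n96273 = n190632 := rfl
theorem F380384 : act 5 n190632 = n112029 := d17_1 D190632 (iv1 D112029) (iv5 D51666) F39434 (iv5 F24221) D30723 D65551 (iv0 F111156) (iv4 F340579)
theorem F380385 : act 4 n190632 = n126364 := d18_3 F111157 (iv4 F340579) D190632 F203192 (iv4 F182857) F179579 F179577 F84040 D65547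
theorem F380386 : act 6 n190632 = n112226 := d21_5 D111994 F378871 F378869 (iv6 F340580) D190632 (iv5 F365723) (iv1 D158118) (iv5 D75308) (iv6 F59322) (iv1 F326039)
theorem F380387 : act 1 n112526 = n190632 := d15_0 (iv0 D190632) F148076 (iv2 F340576)
theorem F380388 : act 2 n112258 = n190632 := d3_3 F380386 F174547 D112258
theorem F380389 : act 3 n180260 = n190632 := d7_3 F380386 F326794 (iv6 F348580)
theorem F380390 : act 7 n112130 = n190632 := d14_0 F380386 (iv7 F174546) (iv6 F174533) F174270 D112130
def n190633 : Q := act 1 n96273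
theorem D190633 : act 1 n96273 = n190633 := rfl
theorem F380391 : act 1 n190633 = n112526 := d15_1 D190633 F325081 (iv2 F340578)
theorem F380392 : act 7 n190633 = n112258 := d15_2 (iv0 D190632) D190633 F380388
theorem F380393 : act 5 n190633 = n112028 := d17_7 (iv1 F340560) (iv5 F157911) F157918 (iv5 D87720) (iv4 F70646) D96273 D190633 (iv0 D112028) D112030
theorem F380394 : act 6 n112094 = n190633 := d21_5 D109358 F169919 F169917 (iv6 F81650) (iv1 F174260) F380393 F358519 (iv5 F149599) F328685 (iv1 F169234)
theorem F380395 : act 2 n190633 = n112130 := d3_1 F380394 (iv6 D112130) F174272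
def n190634 : Q := act 6 n96279
theorem D190634 : act 6 n96279 = n190634 := rfl
theorem F380396 : act 2 n190634 = n185465 := d3_1 D190634 (iv6 D185465) (iv2 F148095)
theorem F380397 : act 3 n190634 = n164123 := d7_1 D190634 F258673 (iv3 F327395)
theorem F380398 : act 4 n190634 = n96280 := d10_1 D190634 (iv6 D96280) D96279
theorem F380399 : act 5 n190634 = n189216 := d12_1 D190634 F376126 D189236 (iv6 F376176) (iv5 F148096)
theorem F380400 : act 7 n190634 = n96280 := d14_2 (iv7 F148097) D190634 (iv6 D96280) F70654 (iv6 F327920)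
theorem F380401 : act 0 n190634 = n185467 := d21_4 F76056 (iv1 F147305) (iv5 F148096) D190634 (iv6 F378723) F378751 (iv1 D190063) F340714 (iv6 F328289) F148105
theorem F380402 : act 1 n190634 = n185466 := d15_1 (iv0 F380401) (iv7 F363527) (iv2 F363526)
theorem F380403 : act 0 n176672 = n104842 := d20_4 (iv4 F174734) (iv1 F358808) F358810 (iv3 F276046) (iv3 D104842) D104843 (iv1 F363529) (iv4 F380398) F380397 (iv1 F362599)
def n190635 : Q := act 0 n96287
theorem D190635 : act 0 n96287 = n190635 := rfl
theorem F380404 : act 4 n190635 = n113659 := d20_0 F358174 F358172 (iv3 D173325) (iv1 D82948) D82949 F325903 (iv1 D44948) D44949 D96287 D190635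
theorem F380405 : act 2 n113647 = n190635 := d1_3 F380404 F176852 (iv4 F176827)
theorem F380406 : act 6 n113645 = n190635 := d10_0 F380404 (iv6 D113659) (iv4 F176824)
def n190636 : Q := act 1 n96287
theorem D190636 : act 1 n96287 = n190636 := rfl
theorem F380407 : act 7 n190636 = n113647 := d15_2 (iv0 D190635) D190636 F380405
theorem F380408 : act 4 n190636 = n113663 := d18_7 F168412 (iv4 F99159) (iv1 F99162) (iv4 F99163) D128857 F362288 D190636 F358169 (iv5 D132639)
theorem F380409 : act 3 n109302 = n190636 := d20_3 (iv4 F326926) (iv1 F93033) F169322 (iv1 D190636) (iv3 D96287) (iv4 D44949) D44947 D96282 F328288 (iv1 F326040)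
def n190637 : Q := act 2 n96287
theorem D190637 : act 2 n96287 = n190637 := rfl
theorem F380410 : act 3 n190637 = n189940 := d0_2 D96287 D190637 (iv2 D189940) (iv3 D95489) (iv2 F70658)
def n190638 : Q := act 0 n96292
theorem D190638 : act 0 n96292 = n190638 := rfl
theorem F380411 : act 4 n190638 = n102000 := d18_3 F293555 (iv4 F148138) D190638 F347746 F105681 D144966 F346301 (iv0 F286184) (iv5 D102536)
theorem F380412 : act 1 n189863 = n190638 := d15_0 (iv0 D190638) (iv7 F291123) (iv2 F378033)
theorem F380413 : act 6 n185458 = n190638 := d10_0 F380411 (iv6 F370938) F370936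
theorem F380414 : act 5 n190173 = n190638 := d17_3 (iv1 D95679) D95681 D190173 F380411 F347746 (iv0 F356604) (iv5 F356601) (iv0 F379030) (iv4 D190170)
def n190639 : Q := act 1 n96292
theorem D190639 : act 1 n96292 = n190639 := rfl
def n190640 : Q := act 2 n96292
theorem D190640 : act 2 n96292 = n190640 := rfl
theorem F380415 : act 3 n190640 = n103907 := d0_2 D96292 D190640 (iv2 F159338) (iv3 D103365) (iv2 F291124)
theorem F380416 : act 4 n190640 = n96419 := d1_2 (iv4 F148138) D190640 (iv2 D96419)
theorem F380417 : act 6 n190640 = n96296 := d3_2 (iv6 F148139) D190640 (iv2 D96296)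
theorem F380418 : act 7 n190640 = n189863 := d4_2 F291123 D190640 F378033
theorem F380419 : act 1 n190640 = n189868 := d15_0 (iv0 D189868) F291123 D190640
theorem F380420 : act 1 n190639 = n189863 := d15_1 D190639 (iv7 F380418) (iv2 D190640)
theorem F380421 : act 5 n190174 = n190639 := d17_7 (iv1 D102534) D102536 F286184 (iv5 D89723) (iv4 F70264) D95681 D190174 F380420 F378035
theorem F380422 : act 1 n189869 = n190640 := d15_1 D189869 F380418 F378033
def n190641 : Q := act 4 n96294
theorem D190641 : act 4 n96294 = n190641 := rfl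
theorem F380423 : act 2 n190641 = n182434 := d1_1 D190641 F283981 (iv2 F370109)
theorem F380424 : act 3 n190641 = n99779 := d5_1 D190641 (iv4 F370100) (iv3 D187385) D187386 F370108
theorem F380425 : act 6 n190641 = n99515 := d10_2 (iv6 F370110) D190641 F157793
theorem F380426 : act 0 n182316 = n190641 := d20_10 (iv4 D190641) (iv1 F283168) F283166 F328549 (iv1 F328551) D95414 (iv4 F370488) F370490 (iv4 D182317) D182316
def n190642 : Q := act 5 n96294
theorem D190642 : act 5 n96294 = n190642 := rfl
theorem F380427 : act 2 n190642 = n183237 := d2_1 D190642 (iv5 F367090) (iv2 F370109)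
theorem F380428 : act 7 n190642 = n183236 := d13_2 (iv7 F370111) D190642 (iv5 F365942)
theorem F380429 : act 0 n190642 = n183224 := d17_2 D96294 D190642 (iv5 D183224) F134279 D87543 (iv0 F293519) (iv5 D96473) (iv0 D45043) (iv4 F70691)
theorem F380430 : act 4 n190642 = n189767 := d18_5 (iv1 F160709) F294012 F380426 (iv4 D190641) D190642 (iv0 F377678) F378481 (iv0 F378480) (iv5 F160705)
theorem F380431 : act 0 n97411 = n190642 := d21_1 D97411 (iv5 D190642) F370110 (iv1 F154097) (iv6 F158525) (iv5 F329994) F186062 D119267 (iv6 F330007) (iv1 D97409)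
def n190643 : Q := act 5 n96295
theorem D190643 : act 5 n96295 = n190643 := rfl
theorem F380432 : act 2 n190643 = n183236 := d2_1 D190643 (iv5 F365942) F370112
theorem F380433 : act 3 n190643 = n190486 := d6_1 D190643 F379879 F373600
theorem F380434 : act 7 n190643 = n183237 := d13_2 F370113 D190643 (iv5 F367090)
theorem F380435 : act 0 n190643 = n97411 := d17_2 (iv1 F283170) D190643 (iv5 D97411) (iv4 F294733) D87087 (iv0 F295109) F295064 F133786 (iv4 F283166)
theorem F380436 : act 1 n190643 = n183224 := d17_8 F363171 (iv5 F365387) (iv1 D135642) D135643 F365384 (iv5 D96297) D96295 D190643 (iv4 F363169)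
theorem F380437 : act 4 n189760 = n190643 := d18_7 (iv1 F150148) F294769 (iv1 F366971) F152031 D189991 (iv4 F378481) (iv0 F377652) F380436 (iv5 D183224)
theorem F380438 : act 6 n190643 = n189759 := d10_2 D189760 F380437 (iv4 D189759)
def n190644 : Q := act 0 n96297
theorem D190644 : act 0 n96297 = n190644 := rfl
def n190645 : Q := act 6 n96297
theorem D190645 : act 6 n96297 = n190645 := rfl
theorem F380439 : act 3 n190645 = n96299 := d7_1 D190645 (iv6 D96299) (iv3 F148141)
def n190646 : Q := act 3 n96298
theorem D190646 : act 3 n96298 = n190646 := rfl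
theorem F380440 : act 5 n190646 = n160995 := d6_2 (iv5 F148142) D190646 (iv3 D160995)
theorem F380441 : act 6 n131991 = n190646 := d12_0 F380440 (iv6 F299387) (iv5 F331155) (iv6 F161191) F332838
def n190647 : Q := act 6 n96298
theorem D190647 : act 6 n96298 = n190647 := rfl
theorem F380442 : act 3 n190647 = n131991 := d7_1 D190647 F380441 (iv3 D190646)
theorem F380443 : act 4 n190647 = n96299 := d10_1 D190647 (iv6 D96299) D96298
theorem F380444 : act 5 n190647 = n177413 := d12_1 D190647 (iv6 D177413) (iv5 D84525) F297279 (iv5 F148142)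
theorem F380445 : act 0 n106645 = n190647 := d21_4 (iv5 D106637) (iv1 D49272) D49274 D106645 (iv6 D190647) F148142 (iv1 F116022) D78534 D163415 F358273
theorem F380446 : act 0 n190647 = n185733 := d20_10 (iv4 D185733) (iv1 F284412) (iv4 F327190) F257693 (iv1 F294044) (iv3 F359021) F328935 (iv1 F164396) F332842 (iv3 F380442)
def n190648 : Q := act 0 n96299
theorem D190648 : act 0 n96299 = n190648 := rfl
theorem F380447 : act 6 n190648 = n190621 := d21_5 (iv5 D42073) (iv1 F33744) D44959 D96299 D190648 (iv5 D190621) (iv1 D96247) D96248 F148032 F294078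
def n190649 : Q := act 1 n96299
theorem D190649 : act 1 n96299 = n190649 := rfl
theorem F380448 : act 4 n190649 = n166611 := d18_7 (iv1 F262135) (iv4 F280908) F365125 F365123 (iv5 F380444) F380443 D190649 F288013 (iv5 F358842)
def n190650 : Q := act 7 n96299
theorem D190650 : act 7 n96299 = n190650 := rfl
def n190651 : Q := act 5 n96301
theorem D190651 : act 5 n96301 = n190651 := rfl
theorem F380449 : act 2 n190651 = n105820 := d2_1 D190651 F318803 F301069
theorem F380450 : act 4 n190651 = n105781 := d9_1 D190651 F162459 (iv4 F162694) F306066 (iv4 F323391) (iv5 D55002) D55001 F320805 F77131 F37186 (iv4 F37322) D49009 D106021 F340854 F301140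
theorem F380451 : act 7 n190651 = n105778 := d13_2 (iv7 F298483) D190651 F316388
theorem F380452 : act 0 n190651 = n105818 := d17_2 (iv1 F298482) D190651 F340859 D133834 F360669 F360671 (iv5 D105955) F77287 (iv4 F77356)
theorem F380453 : act 1 n190651 = n105817 := d17_6 (iv1 F313520) (iv5 F233209) F340845 F340854 F301140 D190651 F320804 (iv0 D62847) (iv4 F98072)
def n190652 : Q := act 0 n96334
theorem D190652 : act 0 n96334 = n190652 := rfl
theorem F380454 : act 3 n190652 = n113267 := d20_5 F295991 (iv1 F295990) D44982 D96334 D190652 (iv4 F365757) (iv1 D170827) (iv4 F148453) (iv3 D96427) F70839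
theorem F380455 : act 1 n189805 = n190652 := d15_0 (iv0 D190652) F148260 D189805
def n190653 : Q := act 1 n96334
theorem D190653 : act 1 n96334 = n190653 := rfl
def n190654 : Q := act 2 n96334
theorem D190654 : act 2 n96334 = n190654 := rfl
theorem F380456 : act 3 n190654 = n189800 := d0_2 D96334 D190654 (iv2 D189800) (iv3 D95268) (iv2 F70721)
theorem F380457 : act 4 n190654 = n160855 := d1_2 (iv4 F148259) D190654 (iv2 D160855)
theorem F380458 : act 5 n190654 = n144783 := d2_2 F364801 D190654 F227659
theorem F380459 : act 6 n190654 = n190608 := d3_2 F380156 D190654 F380278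
theorem F380460 : act 7 n190654 = n189805 := d4_2 (iv7 F148260) D190654 (iv2 D189805)
theorem F380461 : act 1 n190654 = n189803 := d15_0 (iv0 D189803) (iv7 F148260) D190654
theorem F380462 : act 1 n190653 = n189805 := d15_1 D190653 (iv7 F380460) (iv2 D190654)
theorem F380463 : act 1 n189804 = n190654 := d15_1 D189804 F380460 (iv2 D189805)
def n190655 : Q := act 1 n96335
theorem D190655 : act 1 n96335 = n190655 := rfl
def n190656 : Q := act 2 n96335
theorem D190656 : act 2 n96335 = n190656 := rfl
theorem F380464 : act 3 n190656 = n189805 := d0_2 D96335 D190656 (iv2 D189805) (iv3 D95270) (iv2 F70725)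
theorem F380465 : act 7 n190656 = n189800 := d4_2 (iv7 F148261) D190656 (iv2 D189800)
theorem F380466 : act 1 n190656 = n189798 := d15_0 (iv0 D189798) (iv7 F148261) D190656
theorem F380467 : act 1 n190655 = n189800 := d15_1 D190655 (iv7 F380465) (iv2 D190656)
theorem F380468 : act 2 n189798 = n190655 := d15_3 F380467 F377798 F377795
theorem F380469 : act 7 n189799 = n190655 := d15_2 (iv0 D189798) D189799 (iv2 F380468)
theorem F380470 : act 2 n180375 = n189799 := d4_3 F380469 (iv2 F380468) (iv7 F377795)
theorem F380471 : act 6 n189799 = n161008 := d3_2 (iv6 F364523) F380470 F282834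
theorem F380472 : act 1 n189799 = n190656 := d15_0 F380466 (iv7 F377795) F380470
def n190657 : Q := act 1 n96342
theorem D190657 : act 1 n96342 = n190657 := rfl
def n190658 : Q := act 2 n96342
theorem D190658 : act 2 n96342 = n190658 := rfl
theorem F380473 : act 3 n190658 = n113225 := d0_2 D96342 D190658 F323110 (iv3 D58710) F70735
theorem F380474 : act 4 n190658 = n170837 := d1_2 (iv4 F148280) D190658 (iv2 D170837)
theorem F380475 : act 5 n190658 = n182511 := d2_2 (iv5 F148281) D190658 (iv2 D182511)
theorem F380476 : act 6 n190658 = n113222 := d3_2 F364795 D190658 F176411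
theorem F380477 : act 7 n190658 = n157754 := d4_2 (iv7 F148282) D190658 (iv2 D157754)
theorem F380478 : act 1 n190658 = n157752 := d15_0 (iv0 D157752) (iv7 F148282) D190658
theorem F380479 : act 1 n190657 = n157754 := d15_1 D190657 (iv7 F380477) (iv2 D190658)
theorem F380480 : act 1 n157753 = n190658 := d15_1 D157753 F380477 (iv2 D157754)
theorem F380481 : act 0 n141895 = n157862 := d17_2 (iv1 F281400) (iv5 F364846) (iv5 D157862) (iv4 F125353) (iv5 F294455) D189775 F380133 F380480 F380474
def n190659 : Q := act 2 n96344
theorem D190659 : act 2 n96344 = n190659 := rfl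
theorem F380482 : act 6 n190659 = n181144 := d3_2 (iv6 F341945) D190659 F330163
theorem F380483 : act 7 n96345 = n190659 := d15_2 (iv0 D96344) D96345 (iv2 D190659)
def n190660 : Q := act 3 n96344
theorem D190660 : act 3 n96344 = n190660 := rfl
theorem F380484 : act 6 n190660 = n126214 := d7_2 (iv6 F341945) D190660 (iv3 F348407)
def n190661 : Q := act 4 n96344
theorem D190661 : act 4 n96344 = n190661 := rfl
theorem F380485 : act 6 n190661 = n157619 := d10_2 (iv6 F341945) D190661 (iv4 F330162)
theorem F380486 : act 0 n120989 = n190661 := d20_10 (iv4 D190661) (iv1 F260957) F260955 F122261 (iv1 F122327) F258081 (iv4 F262442) (iv1 F262446) (iv4 D120990) D120989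
def n190662 : Q := act 7 n96344
theorem D190662 : act 7 n96344 = n190662 := rfl
theorem F380487 : act 2 n190662 = n96345 := d4_1 D190662 F380483 (iv2 D190659)
def n190663 : Q := act 3 n96345
theorem D190663 : act 3 n96345 = n190663 := rfl
def n190664 : Q := act 4 n96345
theorem D190664 : act 4 n96345 = n190664 := rfl
theorem F380488 : act 3 n190664 = n120970 := d20_3 (iv4 F260955) (iv1 F260959) D190664 (iv1 F333837) F333839 (iv4 F327607) F327604 (iv4 F378140) F378137 (iv1 F194392)
def n190665 : Q := act 6 n96345
theorem D190665 : act 6 n96345 = n190665 := rfl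
def n190666 : Q := act 5 n96346
theorem D190666 : act 5 n96346 = n190666 := rfl
theorem F380489 : act 2 n190666 = n96347 := d2_1 D190666 (iv5 D96347) D96346
theorem F380490 : act 3 n190666 = n189818 := d6_1 D190666 (iv5 D189818) (iv3 F148285)
theorem F380491 : act 6 n190666 = n113587 := d12_2 F366945 D190666 (iv5 D113587) D113588 (iv5 F350090)
theorem F380492 : act 7 n190666 = n189902 := d13_2 F260956 D190666 F378167
theorem F380493 : act 4 n190666 = n129403 := d16_2 F194394 D190666 (iv5 F345638) F341936 F341942 F211498 F322724 (iv7 F89012) D121798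
theorem F380494 : act 1 n190666 = n189900 := d17_6 D79631 (iv5 F338362) (iv1 F338365) (iv5 F338369) F194394 D190666 F378163 (iv0 D165783) F122335
theorem F380495 : act 1 n189901 = n190666 := d17_8 (iv1 D129403) (iv5 F322746) D79631 (iv5 F338362) F338361 F248694 D165784 (iv5 F378165) F380493
def n190667 : Q := act 0 n96347
theorem D190667 : act 0 n96347 = n190667 := rfl
theorem F380496 : act 5 n190667 = n180343 := d17_1 D190667 (iv1 F280651) F358997 F213652 (iv5 F338311) F192862 (iv5 F323648) F212376 F338374
theorem F380497 : act 4 n190667 = n132349 := d20_2 F338374 D190667 (iv3 D132349) (iv1 D62087) F47088 F23297 D13982 D29401 D62102 D132371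
theorem F380498 : act 1 n189902 = n190667 := d15_0 (iv0 D190667) F148287 D189902
theorem F380499 : act 7 n189900 = n190667 := d11_0 F380497 (iv7 F366151) (iv4 F378164)
theorem F380500 : act 2 n190667 = n189901 := d15_3 F380495 F380494 F380499
def n190668 : Q := act 1 n96347
theorem D190668 : act 1 n96347 = n190668 := rfl
theorem F380501 : act 1 n190668 = n189902 := d15_1 D190668 (iv7 F380492) F380489
theorem F380502 : act 7 n190668 = n189901 := d15_2 (iv0 D190667) D190668 (iv2 F380500)
theorem F380503 : act 5 n190668 = n180344 := d17_7 (iv1 F192862) F338311 F338309 F321983 F89011 D96347 D190668 F280657 F261188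
theorem F380504 : act 2 n189900 = n190668 := d2_3 F380503 F373726 (iv5 F378163)
def n190669 : Q := act 7 n96350
theorem D190669 : act 7 n96350 = n190669 := rfl
theorem F380505 : act 2 n190669 = n100803 := d4_1 D190669 (iv7 D100803) (iv2 F148294)
theorem F380506 : act 3 n190669 = n118409 := d8_1 D190669 F186061 (iv3 F329985)
theorem F380507 : act 4 n190669 = n139532 := d11_1 D190669 F323762 (iv4 F329986)
theorem F380508 : act 5 n190669 = n96351 := d13_1 D190669 (iv7 D96351) D96350
theorem F380509 : act 1 n100801 = n190669 := d15_1 D100801 (iv7 D190669) F148294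
theorem F380510 : act 1 n190669 = n100789 := d15_1 F380509 (iv7 F373259) F373257
def n190670 : Q := act 0 n96356
theorem D190670 : act 0 n96356 = n190670 := rfl
theorem F380511 : act 3 n190670 = n159520 := d20_5 (iv4 D179266) D179264 (iv4 F380282) F380281 D190670 F336923 (iv1 F120363) (iv4 F347583) F347582 F350629
theorem F380512 : act 2 n170409 = n190670 := d15_3 (iv0 D190670) (iv0 F380331) F380330
theorem F380513 : act 4 n190670 = n154190 := d1_2 F355350 F380512 (iv2 F368374)
theorem F380514 : act 7 n190670 = n189844 := d4_2 F380330 F380512 (iv2 F380328)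
theorem F380515 : act 1 n189846 = n190670 := d15_1 (iv0 F380332) F380514 (iv2 F380328)
def n190671 : Q := act 5 n96356
theorem D190671 : act 5 n96356 = n190671 := rfl
theorem F380516 : act 2 n190671 = n189845 := d2_1 D190671 (iv5 D189845) (iv2 F148315)
theorem F380517 : act 6 n190671 = n97041 := d12_2 D96356 D190671 (iv5 D97041) (iv6 D45362) (iv5 F70751)
def n190672 : Q := act 7 n96356
theorem D190672 : act 7 n96356 = n190672 := rfl
theorem F380518 : act 2 n190672 = n189846 := d4_1 D190672 (iv7 D189846) (iv2 F148315)
theorem F380519 : act 6 n190672 = n186952 := d14_1 D190672 F368643 (iv6 D95456) (iv7 F70754) D96356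
theorem F380520 : act 1 n189844 = n190672 := d15_1 D189844 (iv7 D190672) F148315
theorem F380521 : act 1 n190672 = n170409 := d15_1 F380520 (iv7 F380330) F380328
def n190673 : Q := act 5 n96368
theorem D190673 : act 5 n96368 = n190673 := rfl
theorem F380522 : act 2 n190673 = n189919 := d2_1 D190673 (iv5 D189919) (iv2 F348022)
theorem F380523 : act 3 n190673 = n96370 := d6_1 D190673 (iv5 D96370) D96368
theorem F380524 : act 7 n190673 = n189856 := d13_2 F318897 D190673 (iv5 D189856)
theorem F380525 : act 1 n190673 = n109036 := d17_8 (iv1 F168590) F370870 (iv1 F370872) (iv5 F378260) (iv4 F378266) F378267 (iv0 F366430) D190673 (iv4 D109036)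
theorem F380526 : act 0 n190673 = n109041 := d18_0 (iv4 D109041) (iv1 D50346) D50348 D109049 F353331 F368343 F368341 (iv0 F366430) D190673
theorem F380527 : act 4 n190673 = n170871 := d19_2 F347766 D190673 (iv3 F358639) (iv1 D134818) D134820 (iv4 F361663) F178529 (iv1 F112693) (iv5 F112694) F136446 (iv3 F114591) (iv1 F361627) F361626 (iv4 D151662) (iv3 F342985) (iv1 D106471) (iv5 F120346) (iv4 F147991) F147990
theorem F380528 : act 6 n160894 = n190673 := d10_0 F380527 (iv6 D170871) (iv4 F254054)
def n190674 : Q := act 6 n96368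
theorem D190674 : act 6 n96368 = n190674 := rfl
theorem F380529 : act 2 n190674 = n189920 := d3_1 D190674 (iv6 D189920) (iv2 F348022)
theorem F380530 : act 3 n190674 = n96371 := d7_1 D190674 (iv6 D96371) D96368
theorem F380531 : act 7 n190674 = n186918 := d14_2 F318897 D190674 (iv6 D186918) (iv7 F137240) F348021
theorem F380532 : act 5 n190674 = n190075 := d21_6 F70248 (iv1 F33773) D44592 D95453 F347766 D190674 F379280 (iv5 D95651) (iv6 D44678) D44676
def n190675 : Q := act 2 n96373
theorem D190675 : act 2 n96373 = n190675 := rfl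
theorem F380533 : act 3 n190675 = n186920 := d0_2 D96373 D190675 F368505 (iv3 D95338) F320994
theorem F380534 : act 5 n190675 = n112101 := d2_2 (iv5 F320036) D190675 (iv2 F230602)
theorem F380535 : act 7 n190675 = n189852 := d4_2 F318884 D190675 (iv2 D189852)
theorem F380536 : act 1 n190675 = n109543 := d15_0 F354581 F318884 D190675
theorem F380537 : act 1 n109535 = n190675 := d15_0 F380536 (iv7 F354566) F205315
theorem F380538 : act 6 n190675 = n186919 := d21_5 F80482 F39290 D50538 D109543 (iv1 F380536) F368504 F367642 F174120 (iv6 D109564) (iv1 F80485)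
def n190676 : Q := act 6 n96373
theorem D190676 : act 6 n96373 = n190676 := rfl
theorem F380539 : act 2 n190676 = n186919 := d3_1 D190676 (iv6 F380538) (iv2 D190675)
theorem F380540 : act 3 n190676 = n96376 := d7_1 D190676 (iv6 D96376) D96373
theorem F380541 : act 4 n190676 = n121488 := d10_1 D190676 (iv6 F364627) (iv4 F320035)
theorem F380542 : act 0 n190676 = n149179 := d20_4 F334494 (iv1 F324918) (iv4 F320042) (iv3 F380540) (iv3 D149179) (iv4 D70011) D70009 D149175 (iv3 F353138) F341045
def n190677 : Q := act 5 n96376
theorem D190677 : act 5 n96376 = n190677 := rfl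
theorem F380543 : act 2 n190677 = n102023 := d2_1 D190677 F348024 F318903
theorem F380544 : act 0 n190677 = n190056 := d17_2 F365227 D190677 (iv5 D190056) F340933 D103706 F350187 (iv5 D59946) D59945 D127685
theorem F380545 : act 1 n190677 = n190053 := d17_6 (iv1 F342450) F342454 (iv1 F322381) (iv5 F105162) (iv4 F320042) D190677 (iv5 D190053) (iv0 D95593) (iv4 F125269)
theorem F380546 : act 4 n107309 = n190677 := d18_7 (iv1 F147272) (iv4 F314955) (iv1 F342448) (iv4 D103605) D103606 F356926 F356935 F380545 (iv5 D190053)
def n190678 : Q := act 3 n96377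
theorem D190678 : act 3 n96377 = n190678 := rfl
theorem F380547 : act 5 n190678 = n127445 := d6_2 (iv5 F320058) D190678 (iv3 D127445)
theorem F380548 : act 7 n190678 = n189858 := d8_2 F318908 D190678 (iv3 D189858)
theorem F380549 : act 0 n190678 = n189923 := d20_4 (iv4 F317124) D69119 (iv4 F320057) D190678 F378265 (iv4 F378311) (iv1 F378312) (iv4 F340379) (iv3 F340698) (iv1 D95851)
theorem F380550 : act 1 n190678 = n189915 := d15_1 (iv0 F380549) F378231 (iv2 F378264)
theorem F380551 : act 2 n190678 = n189921 := d15_3 (iv0 D189921) (iv0 F378015) (iv7 F380548)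
theorem F380552 : act 3 n189921 = n111822 := d0_2 D190678 F380551 (iv2 F204865) F169495 (iv2 F320056)
def n190679 : Q := act 1 n96381
theorem D190679 : act 1 n96381 = n190679 := rfl
theorem F380553 : act 1 n190679 = n104756 := d15_1 D190679 F160465 (iv2 F148338)
theorem F380554 : act 7 n190679 = n189872 := d15_2 (iv0 F150262) D190679 (iv2 F378054)
theorem F380555 : act 5 n190679 = n186899 := d17_7 (iv1 F368447) F287610 (iv1 D102301) (iv5 D47474) (iv4 F70771) D96381 D190679 F368454 (iv4 F368445)
theorem F380556 : act 2 n185460 = n190679 := d2_3 F380555 F368457 (iv5 F287718)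
def n190680 : Q := act 4 n96381
theorem D190680 : act 4 n96381 = n190680 := rfl
theorem F380557 : act 2 n190680 = n189924 := d1_1 D190680 (iv4 D189924) (iv2 F148338)
theorem F380558 : act 7 n190680 = n178085 := d11_2 (iv7 F148340) D190680 (iv4 F365763)
theorem F380559 : act 0 n190680 = n122584 := d18_2 (iv1 D190679) D190680 F196324 D172088 F356199 (iv0 D89369) (iv4 F137037) D186899 (iv5 F380555)
theorem E103447 : n189924 = n178084 := (c15_4 (iv0 D178084) D178085 (iv7 F380558) F380557)
theorem F380560 : act 2 n178084 = n190680 := (sb E103447 (iv2 F380557))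
theorem F380561 : act 4 n178084 = n95463 := (sb E103447 (iv4 D189924))
def n190681 : Q := act 6 n96381
theorem D190681 : act 6 n96381 = n190681 := rfl
theorem F380562 : act 2 n190681 = n189925 := d3_1 D190681 (iv6 D189925) (iv2 F148338)
theorem F380563 : act 3 n190681 = n96384 := d7_1 D190681 (iv6 D96384) (iv3 F148339)
theorem F380564 : act 0 n174245 = n190681 := d21_4 (iv5 D109724) (iv1 F326417) D83288 D174245 (iv6 D190681) (iv5 D96381) F70773 D48438 F358395 (iv1 F326420)
theorem F380565 : act 0 n190681 = n104650 := d20_4 F378102 (iv1 D153595) (iv4 F358725) (iv3 F380563) (iv3 D104650) (iv4 D48392) (iv1 F36736) F340347 (iv3 F160358) (iv1 F378100)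
theorem F380566 : act 4 n190681 = n170817 := d20_6 F298307 (iv1 F119255) (iv4 F119316) (iv3 F256907) (iv1 F358724) (iv3 F380563) (iv1 D170817) (iv4 F268325) (iv3 D170743) (iv1 F298306)
theorem F380567 : act 6 n170817 = n190680 := d10_2 D190681 F380566 (iv4 D190680)
def n190682 : Q := act 3 n96383
theorem D190682 : act 3 n96383 = n190682 := rfl
theorem F380568 : act 5 n190682 = n128201 := d6_2 (iv5 F344673) D190682 F206339
theorem F380569 : act 6 n190682 = n153593 := d7_2 (iv6 F344674) D190682 F241417
theorem F380570 : act 7 n190682 = n189874 := d8_2 (iv7 F148346) D190682 (iv3 D189874)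
def n190683 : Q := act 4 n96386
theorem D190683 : act 4 n96386 = n190683 := rfl
theorem F380571 : act 2 n190683 = n99632 := d1_1 D190683 F157390 (iv2 F156208)
theorem F380572 : act 3 n190683 = n99864 := d5_1 D190683 (iv4 F289630) D102370 F157168 (iv3 F157114)
theorem F380573 : act 6 n190683 = n102370 := d10_2 (iv6 F289686) D190683 F157168
theorem F380574 : act 7 n190683 = n99512 := d11_2 (iv7 F289642) D190683 F153280
theorem F380575 : act 0 n190683 = n99581 := d20_1 D190683 F153328 F331185 (iv1 F331178) F153207 F74192 D46976 (iv4 F289667) (iv3 F146974) (iv1 F148355)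
theorem F380576 : act 0 n99634 = n190683 := d20_10 (iv4 D190683) (iv1 D96386) F70778 (iv3 D23410) (iv1 F66800) (iv3 F65446) F65447 D42367 D90526 (iv3 F153383)
def n190684 : Q := act 5 n96387
theorem D190684 : act 5 n96387 = n190684 := rfl
theorem F380577 : act 2 n190684 = n96388 := d2_1 D190684 (iv5 D96388) D96387
theorem F380578 : act 3 n190684 = n104756 := d6_1 D190684 (iv5 D104756) (iv3 F148351)
theorem F380579 : act 7 n190684 = n189862 := d13_2 (iv7 F148353) D190684 (iv5 D189862)
theorem F380580 : act 1 n190684 = n189864 := d17_6 (iv1 F365471) (iv5 D137838) (iv1 D64772) F328548 F148358 D190684 F378822 (iv0 D190090) F147283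
theorem F380581 : act 5 n185470 = n190087 := d21_6 (iv5 F378822) (iv1 F380580) (iv5 D190684) F367147 (iv1 F283170) F370114 (iv1 D190087) (iv5 D95614) D95615 D190090
theorem F380582 : act 1 n189865 = n190684 := d15_1 D189865 F380579 F378031
def n190685 : Q := act 0 n96388
theorem D190685 : act 0 n96388 = n190685 := rfl
theorem F380583 : act 3 n190685 = n180259 := d20_5 D96013 (iv1 F148365) (iv4 D96390) (iv3 F148359) D190685 F280583 (iv1 F378089) (iv4 D189883) F147002 F70379
theorem F380584 : act 1 n189862 = n190685 := d15_0 (iv0 D190685) F148360 (iv2 F378031)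
theorem F380585 : act 7 n189864 = n190685 := d8_0 F380583 (iv7 F348559) (iv3 F378036)
theorem F380586 : act 2 n190685 = n189865 := d15_3 F380582 F380580 F380585
theorem F380587 : act 3 n189865 = n190633 := d0_2 (iv3 F380583) F380586 F380395 F347484 F348557
def n190686 : Q := act 1 n96388
theorem D190686 : act 1 n96388 = n190686 := rfl
theorem F380588 : act 1 n190686 = n189862 := d15_1 D190686 (iv7 F380579) F380577
theorem F380589 : act 7 n190686 = n189865 := d15_2 (iv0 D190685) D190686 (iv2 F380586)
theorem F380590 : act 2 n189864 = n190686 := d4_3 F380589 (iv2 F380586) (iv7 F380585)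
theorem F380591 : act 3 n112258 = n190686 := d8_3 F380589 F380587 F380392
theorem F380592 : act 6 n190686 = n112257 := d7_2 D112258 F380591 (iv3 D112257)
def n190687 : Q := act 4 n96388
theorem D190687 : act 4 n96388 = n190687 := rfl
theorem F380593 : act 3 n190687 = n175124 := d5_1 D190687 (iv4 F353914) (iv3 F341259) (iv4 D96390) (iv3 F148359)
theorem F380594 : act 7 n190687 = n189866 := d11_2 (iv7 F148360) D190687 (iv4 D189866)
theorem F380595 : act 1 n190687 = n104648 := d18_6 (iv1 D48382) (iv4 F73633) F73636 (iv4 F70778) D96388 D190687 (iv4 D104648) (iv0 F160314) (iv5 D104621)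
theorem F380596 : act 5 n175123 = n190687 := d6_0 F380593 (iv5 D175124) D175123
def n190688 : Q := act 6 n96388
theorem D190688 : act 6 n96388 = n190688 := rfl
theorem F380597 : act 3 n190688 = n96391 := d7_1 D190688 (iv6 D96391) (iv3 F148359)
theorem F380598 : act 0 n112103 = n190688 := d21_4 (iv5 F248414) F357691 F173664 D112103 (iv6 D190688) (iv5 D96388) (iv1 F289591) D190579 F380194 (iv1 F173619)
def n190689 : Q := act 6 n96390
theorem D190689 : act 6 n96390 = n190689 := rfl
theorem F380599 : act 2 n190689 = n147176 := d3_1 D190689 F348706 (iv2 F148363)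
theorem F380600 : act 3 n190689 = n158972 := d7_1 D190689 F341254 (iv3 F341259)
theorem F380601 : act 4 n190689 = n96391 := d10_1 D190689 (iv6 D96391) D96390
theorem F380602 : act 5 n190689 = n132955 := d12_1 D190689 F320103 (iv5 F348692) F361223 (iv5 F353920)
theorem F380603 : act 7 n190689 = n147177 := d14_2 (iv7 F148364) D190689 F353907 F353897 (iv6 F344672)
theorem F380604 : act 0 n190689 = n126003 := d21_4 (iv5 F353921) (iv1 F284568) (iv5 F353920) D190689 (iv6 D126003) F93220 D115689 (iv5 F344703) F344701 (iv1 F159128)
theorem F380605 : act 0 n131671 = n190689 := d21_4 F105416 F104503 D68962 (iv6 F333681) (iv6 D190689) F353920 (iv1 F284567) F293242 F319398 D69119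
def n190690 : Q := act 0 n96391
theorem D190690 : act 0 n96391 = n190690 := rfl
theorem F380606 : act 4 n190690 = n133062 := d18_3 F380605 F380601 D190690 (iv5 D133062) (iv4 F312344) D75754 (iv4 F317034) (iv0 D131668) D131671
theorem F380607 : act 2 n189875 = n190690 := d15_3 (iv0 D190690) (iv0 F363611) F378060
theorem F380608 : act 7 n190690 = n189876 := d4_2 F378060 F380607 F378063
theorem F380609 : act 3 n112242 = n190690 := d8_3 F380608 F378064 (iv7 F362596)
theorem F380610 : act 6 n112241 = n190690 := d14_5 F380608 (iv6 F378062) F169884 (iv6 F325239) (iv7 F174581)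
theorem F380611 : act 1 n189877 = n190690 := d15_1 F378066 F380608 F378063
theorem F380612 : act 5 n132111 = n190690 := d16_7 F204925 (iv5 F325580) (iv4 F186601) F209326 F211209 F212088 D132111 F380608 F378063
theorem F380613 : act 1 n158063 = n132111 := d17_6 F380604 F333683 F319327 D173210 (iv4 F337362) F273059 F380612 (iv0 D190690) (iv4 F380601)
def n190691 : Q := act 7 n96391
theorem D190691 : act 7 n96391 = n190691 := rfl
theorem F380614 : act 2 n190691 = n189877 := d4_1 D190691 (iv7 D189877) (iv2 F148366)
theorem F380615 : act 4 n190691 = n147177 := d11_1 D190691 (iv7 F380603) F380601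
theorem F380616 : act 6 n190691 = n189871 := d14_1 D190691 (iv7 D189871) (iv6 D95353) (iv7 F70781) D96391
theorem F380617 : act 1 n189876 = n190691 := d15_1 D189876 (iv7 D190691) F148366
theorem F380618 : act 1 n190691 = n189875 := d15_1 F380617 (iv7 F378060) (iv2 F378063)
def n190692 : Q := act 6 n96392
theorem D190692 : act 6 n96392 = n190692 := rfl
theorem F380619 : act 2 n190692 = n189927 := d3_1 D190692 (iv6 D189927) (iv2 F148369)
theorem F380620 : act 3 n190692 = n96394 := d7_1 D190692 (iv6 D96394) D96392
theorem F380621 : act 4 n190692 = n188901 := d10_1 D190692 F375167 (iv4 F359243)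
theorem F380622 : act 0 n188901 = n180431 := d20_7 F119654 F323906 F81558 D112004 F344704 (iv3 F380620) F380621 (iv4 F366011) (iv3 D109444) (iv1 F325183)
def n190693 : Q := act 3 n96393
theorem D190693 : act 3 n96393 = n190693 := rfl
theorem F380623 : act 2 n190693 = n166435 := d0_1 D190693 (iv3 D166435) (iv2 F331718) (iv3 F331721) (iv2 F148370)
theorem F380624 : act 7 n190693 = n166465 := d8_2 (iv7 F148371) D190693 (iv3 F358930)
theorem F380625 : act 0 n190693 = n166470 := d20_4 (iv4 F323500) D45008 D96393 D190693 F262027 (iv4 F327102) (iv1 F274408) (iv4 F360226) (iv3 D178250) (iv1 D84837)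
theorem F380626 : act 1 n190693 = n166466 := d15_1 (iv0 F380625) F358880 (iv2 F358883)
def n190694 : Q := act 0 n96394
theorem D190694 : act 0 n96394 = n190694 := rfl
theorem F380627 : act 4 n190694 = n163342 := d20_2 (iv4 F344702) D190694 F351995 (iv1 D113145) (iv3 D52224) (iv4 D25367) (iv1 F38477) (iv4 F39860) D52041 D112746
theorem F380628 : act 2 n109329 = n190694 := d15_3 (iv0 D190694) (iv0 F344704) F174094
theorem F380629 : act 3 n190694 = n125672 := d0_2 D109329 F380628 F202158 (iv3 D112001) F171073
theorem F380630 : act 7 n190694 = n189880 := d4_2 F174094 F380628 (iv2 F378071)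
theorem F380631 : act 1 n163277 = n190694 := d15_1 F344705 F380630 (iv2 F378071)
def n190695 : Q := act 7 n96394
theorem D190695 : act 7 n96394 = n190695 := rfl
theorem F380632 : act 2 n190695 = n163277 := d4_1 D190695 (iv7 F344647) (iv2 F148374)
theorem F380633 : act 4 n190695 = n110402 := d11_1 D190695 F344700 (iv4 F344702)
theorem F380634 : act 6 n190695 = n121140 := d14_1 D190695 (iv7 F254311) (iv6 F344663) (iv7 F71539) D96394
theorem F380635 : act 1 n189880 = n190695 := d15_1 D189880 (iv7 D190695) F148374
theorem F380636 : act 1 n190695 = n109329 := d15_1 F380635 (iv7 F174094) F378071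
def n190696 : Q := act 2 n96395
theorem D190696 : act 2 n96395 = n190696 := rfl
theorem F380637 : act 3 n190696 = n104758 := d0_2 D96395 D190696 (iv2 F160474) (iv3 D95363) F71536
theorem F380638 : act 5 n190696 = n190085 := d2_2 (iv5 F148375) D190696 F378812
theorem F380639 : act 7 n190696 = n189878 := d4_2 (iv7 F148376) D190696 (iv2 D189878)
theorem F380640 : act 1 n190696 = n189861 := d15_0 (iv0 F378030) (iv7 F148376) D190696
theorem F380641 : act 1 n109536 = n190696 := d15_0 F380640 (iv7 F380195) F380193
def n190697 : Q := act 4 n96395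
theorem D190697 : act 4 n96395 = n190697 := rfl
theorem F380642 : act 3 n190697 = n164004 := d5_1 D190697 F258471 (iv3 F330287) (iv4 D96396) D96395
theorem F380643 : act 7 n190697 = n189879 := d11_2 (iv7 F148376) D190697 (iv4 D189879)
theorem F380644 : act 1 n190697 = n104626 := d18_6 F331233 F157428 F157431 (iv4 F147283) (iv5 F148375) D190697 (iv4 D104626) D104625 F331238
theorem F380645 : act 6 n164002 = n190697 := d7_0 F380642 (iv6 D164004) D164002
def n190698 : Q := act 6 n96395
theorem D190698 : act 6 n96395 = n190698 := rfl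
theorem F380646 : act 3 n190698 = n96397 := d7_1 D190698 (iv6 D96397) D96395
theorem F380647 : act 4 n190698 = n164002 := d10_1 D190698 F380645 (iv4 D190697)
theorem F380648 : act 5 n190698 = n190089 := d12_1 D190698 (iv6 D190089) (iv5 D95614) D95615 (iv5 F148375)
theorem F380649 : act 7 n190698 = n163275 := d14_2 (iv7 F148376) D190698 F344709 (iv7 F344710) (iv6 F344650)
theorem F380650 : act 0 n109351 = n190698 := d20_4 F174000 (iv1 F170674) (iv4 D109352) D109351 F380646 F344653 (iv1 F325697) F325699 F363504 F174001
def n190699 : Q := act 0 n96407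
theorem D190699 : act 0 n96407 = n190699 := rfl
theorem F380651 : act 5 n190699 = n132115 := d17_1 D190699 (iv1 D132115) D132116 (iv4 F334251) F334252 F97307 D133062 (iv0 F342738) (iv4 F340301)
theorem F380652 : act 4 n190699 = n133041 := d18_3 D147693 (iv4 F340301) D190699 (iv5 D133041) (iv4 D62427) (iv0 D29515) D29517 D62436 F325580
theorem F380653 : act 6 n190699 = n109246 := d21_5 F75097 (iv1 F66765) D45013 D96407 D190699 F376070 (iv1 D189204) F291980 (iv6 D103681) F75449
theorem F380654 : act 2 n104806 = n190699 := d15_3 (iv0 D190699) (iv0 F340306) (iv7 F352023)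
theorem F380655 : act 7 n190699 = n104807 := d4_2 (iv7 F352023) F380654 F366590
theorem F380656 : act 1 n104809 = n190699 := d15_1 (iv0 F361257) F380655 F366590
def n190700 : Q := act 7 n96407
theorem D190700 : act 7 n96407 = n190700 := rfl
theorem F380657 : act 2 n190700 = n104809 := d4_1 D190700 (iv7 D104809) (iv2 F148409)
theorem F380658 : act 3 n190700 = n178818 := d8_1 D190700 (iv7 F352049) F340302
theorem F380659 : act 4 n190700 = n175175 := d11_1 D190700 (iv7 F340288) (iv4 F340301)
theorem F380660 : act 5 n190700 = n187391 := d13_1 D190700 (iv7 D187391) F291969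
theorem F380661 : act 6 n190700 = n189886 := d14_1 D190700 (iv7 D189886) (iv6 D95374) (iv7 F70799) D96407
theorem F380662 : act 1 n104807 = n190700 := d15_1 D104807 (iv7 D190700) F148409
theorem F380663 : act 1 n190700 = n104806 := d15_1 F380662 F352023 (iv2 F366590)
def n190701 : Q := act 0 n96415
theorem D190701 : act 0 n96415 = n190701 := rfl
theorem F380664 : act 3 n190701 = n114934 := d20_5 (iv4 F67002) (iv1 F73745) (iv4 F291027) D96415 D190701 (iv4 F356335) (iv1 F291546) F147012 (iv3 D95378) (iv1 F291368)
theorem F380665 : act 1 n188600 = n190701 := d15_0 (iv0 D190701) F148427 (iv2 F374162)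
theorem F380666 : act 6 n96462 = n190701 := d21_3 D87580 D183482 F367649 (iv1 F380665) (iv6 D188600) (iv5 F367098) (iv1 F379961) (iv5 D190511) F157637 (iv1 D87578)
theorem F380667 : act 2 n190701 = n189888 := d3_1 F380666 (iv6 F378131) (iv2 F350439)
theorem F380668 : act 7 n190701 = n183923 := d14_2 (iv7 F350437) F380666 (iv6 D183923) (iv7 F154397) F350436
theorem F380669 : act 5 n114933 = n190701 := d21_2 F306631 F206234 (iv6 F380666) (iv1 F148553) F367038 F354446 (iv1 F354450) F378911 (iv6 D190117) (iv1 D95635)
def n190702 : Q := act 1 n96415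
theorem D190702 : act 1 n96415 = n190702 := rfl
theorem F380670 : act 1 n190702 = n188600 := d15_1 D190702 F374165 (iv2 F291574)
theorem F380671 : act 7 n190702 = n189888 := d15_2 (iv0 D190701) D190702 (iv2 F380667)
theorem F380672 : act 5 n190702 = n153342 := d18_9 (iv1 D153342) (iv4 F178469) F368668 (iv4 D186960) (iv5 F156941) (iv4 F158634) (iv0 D103356) F291777 D190702
theorem F380673 : act 3 n100553 = n190702 := d20_3 F372842 (iv1 D159792) (iv4 F161656) (iv1 D190702) (iv3 D96415) F291027 F290712 (iv4 F290708) D91377 F372841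
theorem F380674 : act 4 n159797 = n190702 := d20_6 F290762 F74929 D47644 D102717 F290544 D159797 (iv1 D190702) (iv4 F291777) F75215 D47898
theorem F380675 : act 6 n190702 = n100381 := d10_2 (iv6 F331191) F380674 F331189
theorem F380676 : act 0 n188210 = n159797 := d18_2 (iv1 F357546) (iv4 F372682) F380674 F380672 (iv4 F355679) F355673 F336778 F289949 (iv5 F74570)
theorem F380677 : act 2 n183923 = n190702 := d3_3 F380675 (iv2 F154398) D183923
def n190703 : Q := act 4 n96420
theorem D190703 : act 4 n96420 = n190703 := rfl
theorem F380678 : act 3 n190703 = n148867 := d5_1 D190703 (iv4 F334042) (iv3 F323555) (iv4 D96424) (iv3 F148433)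
theorem F380679 : act 6 n190703 = n148866 := d10_2 (iv6 F360626) D190703 F233901
theorem F380680 : act 5 n190703 = n156636 := d16_1 D190703 (iv4 F366536) (iv5 F379161) (iv4 F379162) F379050 F378035 F360605 (iv7 F360606) F347305
def n190704 : Q := act 6 n96424
theorem D190704 : act 6 n96424 = n190704 := rfl
theorem F380681 : act 2 n190704 = n166390 := d3_1 D190704 (iv6 D166390) F324809
theorem F380682 : act 3 n190704 = n144819 := d7_1 D190704 F334039 (iv3 F323555)
theorem F380683 : act 4 n190704 = n96425 := d10_1 D190704 (iv6 D96425) D96424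
theorem F380684 : act 0 n173512 = n190704 := d18_2 (iv1 F368232) F354991 F380683 F148447 (iv4 F148591) F359791 (iv4 D134125) F216001 (iv5 F368231)
def n190705 : Q := act 0 n96425
theorem D190705 : act 0 n96425 = n190705 := rfl
theorem F380685 : act 5 n190705 = n128953 := d17_3 (iv1 D96490) (iv5 F148447) D190705 (iv4 D128953) D128954 F347507 (iv5 F329121) F216092 (iv4 F347325)
theorem F380686 : act 4 n190705 = n154347 := d18_1 D190705 F362088 (iv4 F339664) (iv5 D134030) F98234 D128762 (iv4 F347318) (iv0 D96489) (iv5 F148447)
theorem F380687 : act 3 n190705 = n134304 := d20_5 F336968 F233902 F233901 F339705 D190705 (iv4 F333167) (iv1 F334137) F321567 (iv3 D158954) (iv1 F336966)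
theorem F380688 : act 0 n153992 = n187193 := d21_4 F380685 F355010 (iv5 F347345) D153992 (iv6 D187193) F291576 (iv1 D45020) D45022 D96425 D190705
theorem F380689 : act 2 n173698 = n190705 := d15_3 (iv0 D190705) F339692 (iv7 F272237)
theorem F380690 : act 1 n117465 = n190705 := d15_0 (iv0 D190705) (iv7 F360617) (iv2 F360614)
theorem F380691 : act 7 n190705 = n176475 := d15_2 (iv0 F339702) F380690 F275777
theorem F380692 : act 6 n190705 = n153370 := d3_2 (iv6 F370370) F380689 F370371
def n190706 : Q := act 0 n96427
theorem D190706 : act 0 n96427 = n190706 := rfl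
theorem F380693 : act 3 n190706 = n113590 := d20_5 (iv4 D39864) (iv1 F33810) D45024 D96427 D190706 F365833 (iv1 D163950) (iv4 F146887) (iv3 D95268) F70011
theorem F380694 : act 2 n169908 = n190706 := d15_3 (iv0 D190706) (iv0 F358299) (iv7 F343675)
theorem F380695 : act 1 n169909 = n190706 := d15_0 (iv0 D190706) F148455 D169909
theorem F380696 : act 6 n190706 = n185557 := d3_2 (iv6 F343674) F380694 (iv2 F341829)
theorem F380697 : act 7 n190706 = n169907 := d4_2 (iv7 F343675) F380694 (iv2 F362852)
theorem F380698 : act 1 n129039 = n169909 := d15_0 F380695 F380697 (iv2 F362852)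
def n190707 : Q := act 2 n96427
theorem D190707 : act 2 n96427 = n190707 := rfl
theorem F380699 : act 3 n190707 = n104967 := d0_2 D96427 D190707 (iv2 D104967) (iv3 D48512) (iv2 F70836)
theorem F380700 : act 4 n190707 = n170828 := d1_2 (iv4 F148453) D190707 (iv2 D170828)
theorem F380701 : act 5 n190707 = n182768 := d2_2 (iv5 F148454) D190707 (iv2 D182768)
theorem F380702 : act 7 n190707 = n169909 := d4_2 (iv7 F148455) D190707 (iv2 D169909)
theorem F380703 : act 1 n190707 = n169907 := d15_0 (iv0 D169907) (iv7 F148455) D190707
theorem F380704 : act 1 n169908 = n190707 := d15_0 F380703 (iv7 F380697) (iv2 F380694)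
theorem F380705 : act 3 n180436 = n157165 := d20_3 (iv4 F119847) (iv1 F258033) (iv4 F280814) (iv1 D157165) (iv3 F354463) F362854 (iv1 F380703) F380700 F268409 (iv1 F132131)
theorem F380706 : act 6 n157753 = n166314 := d21_3 F380701 (iv1 F377708) F380133 (iv1 F347413) (iv6 D128997) (iv5 D60655) D60651 D128974 (iv6 F362853) (iv1 F380703)
theorem F380707 : act 2 n166326 = n157753 := d3_3 F380706 F261903 D166326
theorem F380708 : act 2 n189775 = n182766 := d2_3 F358301 F380707 (iv5 F380133)
theorem F380709 : act 7 n157752 = n166326 := d15_2 F380480 F380478 F380707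
theorem F380710 : act 7 n190657 = n157753 := d15_2 (iv0 F360457) D190657 (iv2 F380707)
theorem F380711 : act 2 n157752 = n190657 := d4_3 F380710 (iv2 F380707) (iv7 F380709)
theorem F380712 : act 7 n182767 = n189775 := d15_2 (iv0 D182766) D182767 F380708
theorem F380713 : act 7 n189774 = n182766 := d15_2 F377708 F377703 (iv2 F380708)
theorem F380714 : act 2 n182767 = n189774 := d4_3 F380713 (iv2 F380708) (iv7 F380712)
theorem F380715 : act 5 n157752 = n189774 := d13_3 F380713 F358301 (iv7 F380709)
theorem F380716 : act 5 n182767 = n190657 := d2_2 F380715 (iv2 F380714) (iv2 F380711)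
theorem F380717 : act 5 n190554 = n182771 := d17_1 D190554 (iv1 D182771) D182772 (iv4 F364845) (iv5 F380475) F380478 F380715 (iv0 D189774) (iv4 F147848)
theorem F380718 : act 4 n157165 = n180688 := d5_2 (iv4 F280814) F380705 (iv3 D180688) (iv4 D86309) (iv3 F132262)
def n190708 : Q := act 6 n96427
theorem D190708 : act 6 n96427 = n190708 := rfl
theorem F380719 : act 3 n190708 = n96428 := d7_1 D190708 (iv6 D96428) D96427
theorem F380720 : act 4 n190708 = n140705 := d10_1 D190708 F326436 (iv4 F148453)
theorem F380721 : act 5 n190708 = n138063 := d21_6 (iv5 D128980) (iv1 F207218) (iv5 F95264) D129039 F358299 D190708 (iv1 D138063) (iv5 F176605) F348763 F246742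
theorem F380722 : act 0 n189797 = n190708 := d21_4 F347410 (iv1 F126195) D95267 D189797 (iv6 D190708) F148454 D182766 F358301 (iv6 D166326) (iv1 F347409)
theorem F380723 : act 1 n113580 = n190708 := d15_0 (iv0 F380722) (iv7 F377792) F203771
theorem F380724 : act 0 n113257 = n140705 := d18_2 (iv1 F161130) D113257 (iv4 F380720) F380721 (iv4 F221306) (iv0 F360191) F360190 F203061 F203057
theorem F380725 : act 0 n145453 = n113256 := d20_4 (iv4 D110692) (iv1 F323039) (iv4 F324445) D145453 (iv3 D113256) D113257 F380724 (iv4 F380720) F380719 F324455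
theorem F380726 : act 7 n126054 = n190708 := d8_0 F380719 F324456 D126054
def n190709 : Q := act 5 n96428
theorem D190709 : act 5 n96428 = n190709 := rfl
theorem F380727 : act 2 n190709 = n104973 := d2_1 D190709 (iv5 D104973) (iv2 F148456)
theorem F380728 : act 3 n190709 = n138063 := d6_1 D190709 (iv5 F380721) F380719
theorem F380729 : act 6 n190709 = n182772 := d12_2 D96428 D190709 (iv5 D182772) (iv6 D87245) (iv5 F70838)
theorem F380730 : act 7 n190709 = n126055 := d13_2 (iv7 F324456) D190709 (iv5 D126055)
theorem F380731 : act 0 n190709 = n126378 := d17_2 (iv1 F347422) D190709 (iv5 D126378) F322497 (iv5 F322500) (iv0 F323941) F70731 (iv0 F296343) (iv4 F261907)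
theorem F380732 : act 1 n190709 = n126380 := d17_6 (iv1 D13435) (iv5 F22254) (iv1 F169961) (iv5 F323115) (iv4 F148457) D190709 (iv5 D126380) F93517 (iv4 D28154)
theorem F380733 : act 4 n190709 = n126270 := d18_5 (iv1 D110497) F80392 (iv1 F323114) (iv4 F148457) D190709 (iv0 D126270) (iv4 D59194) D59193 F170924
theorem F380734 : act 2 n126270 = n182512 := d1_1 F380733 F359710 (iv2 F380727)
theorem F380735 : act 3 n126270 = n137160 := d5_1 F380733 (iv4 D137160) D137159 F221306 (iv3 F380728)
theorem F380736 : act 6 n126270 = n182511 := d10_2 (iv6 F380729) F380733 F364845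
theorem F380737 : act 7 n126271 = n182512 := d15_2 (iv0 D126270) D126271 (iv2 F380734)
theorem F380738 : act 3 n182516 = n126271 := d8_3 F380737 F284027 D182516
def n190710 : Q := act 3 n96442
theorem D190710 : act 3 n96442 = n190710 := rfl
theorem F380739 : act 4 n190710 = n103657 := d5_2 F350430 D190710 (iv3 F360351) F360352 F350434
theorem F380740 : act 6 n190710 = n99581 := d7_2 (iv6 F294408) D190710 (iv3 D99581)
theorem F380741 : act 7 n190710 = n182316 := d8_2 (iv7 F294432) D190710 (iv3 D182316)
theorem F380742 : act 0 n182434 = n190710 := d20_4 (iv4 F294493) D91161 F140213 D182434 (iv3 D190710) (iv4 F350430) F370104 (iv4 F370488) (iv3 D187474) F294268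
def n190711 : Q := act 4 n96444
theorem D190711 : act 4 n96444 = n190711 := rfl
theorem F380743 : act 3 n190711 = n157803 := d5_1 D190711 (iv4 D157803) F112728 (iv4 F70866) (iv3 F148507)
theorem F380744 : act 7 n190711 = n143075 := d11_2 (iv7 F148508) D190711 F352441
theorem F380745 : act 6 n186806 = n190711 := d14_5 F380744 (iv6 D143075) (iv7 F221258) (iv6 F349702) (iv7 F368073)
def n190712 : Q := act 6 n96444
theorem D190712 : act 6 n96444 = n190712 := rfl
theorem F380746 : act 3 n190712 = n96446 := d7_1 D190712 (iv6 D96446) (iv3 F148507)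
theorem F380747 : act 4 n190712 = n186806 := d10_1 D190712 F380745 (iv4 D190711)
def n190713 : Q := act 0 n96459
theorem D190713 : act 0 n96459 = n190713 := rfl
theorem F380748 : act 6 n190713 = n138068 := d21_5 (iv5 D21512) D21509 D45038 D96459 D190713 F365552 (iv1 D185378) F135224 (iv6 D87583) F294462
theorem F380749 : act 3 n136228 = n190713 := d7_3 F380748 F221309 (iv6 F219261)
theorem F380750 : act 7 n136224 = n190713 := d14_0 F380748 (iv7 D138068) (iv6 D64880) (iv7 F99632) D136224
theorem F380751 : act 2 n190713 = n183509 := d15_3 (iv0 D183509) (iv0 F365377) F380750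
theorem F380752 : act 4 n182513 = n190713 := d20_2 (iv4 F133720) D182513 (iv3 F380749) (iv1 F219263) (iv3 F362699) (iv4 F329875) F98757 D66281 F350838 (iv1 D87132)
theorem F380753 : act 0 n190713 = n183511 := d20_1 F380752 F377852 (iv3 D126299) (iv1 D59201) (iv3 F93394) (iv4 F203033) F360453 (iv4 F359710) F284027 D182513
def n190714 : Q := act 1 n96459
theorem D190714 : act 1 n96459 = n190714 := rfl
theorem F380754 : act 1 n190714 = n183511 := d15_1 D190714 (iv7 D183511) F294504
theorem F380755 : act 7 n190714 = n183509 := d15_2 (iv0 D190713) D190714 (iv2 F380751)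
theorem F380756 : act 2 n136224 = n190714 := d4_3 F380755 (iv2 F380751) (iv7 F380750)
theorem F380757 : act 3 n190714 = n138094 := d0_2 (iv3 F219257) F380756 F221317 F100702 (iv2 F99633)
theorem F380758 : act 6 n190714 = n136222 := d3_2 D136224 F380756 (iv2 D136222)
def n190715 : Q := act 7 n96459
theorem D190715 : act 7 n96459 = n190715 := rfl
theorem F380759 : act 2 n190715 = n183511 := d4_1 D190715 (iv7 D183511) F294504
theorem F380760 : act 5 n190715 = n184315 := d13_1 D190715 (iv7 D184315) (iv5 F293587)
theorem F380761 : act 6 n190715 = n183501 := d14_1 D190715 (iv7 D183501) (iv6 D87586) F292537 D96459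
theorem F380762 : act 1 n136224 = n190715 := d15_1 (iv0 F365377) (iv7 D190715) (iv2 F294504)
theorem F380763 : act 1 n190715 = n183509 := d15_1 F380762 (iv7 F380755) (iv2 F380756)
def n190716 : Q := act 4 n96462
theorem D190716 : act 4 n96462 = n190716 := rfl
theorem F380764 : act 2 n190716 = n185649 := d1_1 D190716 F287961 (iv2 F350439)
theorem F380765 : act 3 n190716 = n103214 := d5_1 D190716 F294012 (iv3 D182316) D182317 F283854
theorem F380766 : act 7 n190716 = n176674 := d11_2 (iv7 F350437) D190716 F360352
theorem F380767 : act 5 n190716 = n190380 := d16_1 D190716 (iv4 F379616) (iv5 F376895) F376894 (iv5 F376294) F367055 (iv5 F367052) (iv7 F350440) (iv2 F350439)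
theorem F380768 : act 0 n190716 = n100846 := d20_1 D190716 F154950 (iv3 F328099) (iv1 D90091) (iv3 D42109) (iv4 D19858) F31078 (iv4 F33830) D45040 D96462
theorem F380769 : act 0 n182852 = n190716 := d20_10 (iv4 D190716) (iv1 F148553) F147026 F138232 (iv1 F138310) D187397 F370171 F288962 (iv4 D182853) D182852
def n190717 : Q := act 0 n96465
theorem D190717 : act 0 n96465 = n190717 := rfl
theorem F380770 : act 5 n190717 = n181908 := d19_1 D190717 (iv4 F378366) F378367 (iv1 D95530) D95532 D189992 F378482 F209279 (iv5 D63860) F48424 F46997 D29342 (iv5 F77844) (iv4 F326265) (iv3 D37218) D37216 D81504 F125355 (iv3 F148560)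
theorem F380771 : act 2 n183479 = n190717 := d15_3 (iv0 D190717) (iv0 F378883) F378882
theorem F380772 : act 1 n183503 = n190717 := d15_0 (iv0 D190717) (iv7 F294501) D183503
theorem F380773 : act 7 n190717 = n182916 := d15_2 (iv0 F378884) F380772 (iv2 F378879)
theorem F380774 : act 3 n138029 = n190717 := d6_3 F380770 F294752 F357353
def n190718 : Q := act 0 n96467
theorem D190718 : act 0 n96467 = n190718 := rfl
def n190719 : Q := act 1 n96467
theorem D190719 : act 1 n96467 = n190719 := rfl
theorem F380775 : act 1 n190719 = n183501 := d15_1 D190719 (iv7 D183501) F293627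
theorem F380776 : act 6 n130213 = n190719 := d21_3 F339695 D124714 F342762 (iv1 D190719) (iv6 D96467) (iv5 D45041) (iv1 D21510) D21512 D45050 D96489
theorem F380777 : act 2 n190719 = n183500 := d3_1 F380776 (iv6 F345946) (iv2 F349809)
theorem F380778 : act 3 n190719 = n130215 := d7_1 F380776 (iv6 D130215) D130213
theorem F380779 : act 4 n190719 = n130234 := d10_1 F380776 (iv6 D130234) (iv4 F208735)
theorem F380780 : act 7 n190719 = n138157 := d14_2 (iv7 F208736) F380776 (iv6 D138157) (iv7 F333881) (iv6 D134374)
theorem F380781 : act 2 n138157 = n190718 := d15_3 (iv0 D190718) D190719 F380780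
theorem F380782 : act 7 n183500 = n190718 := d4_2 (iv7 F380780) F380777 (iv2 F380781)
theorem E103448 : n183499 = n138157 := ((c15_4 (iv0 D183499) D183500 F380782 (iv2 F380781))).symm
theorem F380783 : act 1 n138157 = n87586 := (sb E103448 (iv0 D183499))
theorem F380784 : act 1 n183501 = n190718 := d15_1 F380775 (iv7 F380782) (iv2 F380777)
theorem F380785 : act 0 n138156 = n104193 := d21_7 (iv5 D40498) (iv1 F33433) (iv5 F292536) D87586 (iv1 F380783) (iv6 D138157) D138156 (iv5 F294759) (iv6 D95423) (iv1 F70083)
theorem E103449 : n138153 = n137672 := ((c21_10 D138156 F380785 (iv5 F294759) (iv6 D95423) (iv1 F70083) D87179 F294517 (iv1 F329342) D64717 D137672 (iv1 D138153))).symm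
theorem F380786 : act 0 n137672 = n64903 := (sb E103449 (iv1 D138153))
theorem F380787 : act 1 n138156 = n184104 := d15_1 (iv0 F380785) (iv7 D184104) (iv2 F159727)
theorem F380788 : act 6 n190718 = n138154 := d3_2 D138157 F380781 (iv2 D138154)
theorem F380789 : act 5 n138154 = n184103 := d21_6 (iv5 D40447) (iv1 F33828) D45041 D96467 D190718 F380788 (iv1 D184103) F134786 (iv6 D87576) F294457
theorem F380790 : act 2 n184103 = n138156 := d2_1 F380789 (iv5 D138156) D138154
theorem F380791 : act 4 n134549 = n130222 := d20_0 (iv1 D130222) (iv4 F208740) (iv3 F380778) (iv1 D190719) F364715 (iv4 D93949) (iv1 F69039) D48312 D104410 (iv1 F365593)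
def n190720 : Q := act 7 n96467
theorem D190720 : act 7 n96467 = n190720 := rfl
theorem F380792 : act 2 n190720 = n183501 := d4_1 D190720 (iv7 D183501) F293627
theorem F380793 : act 3 n190720 = n104360 := d8_1 D190720 F159983 (iv3 F364715)
theorem F380794 : act 6 n190720 = n183511 := d14_1 D190720 (iv7 D183511) (iv6 D87589) F293570 D96467
theorem F380795 : act 1 n183500 = n190720 := d15_1 D183500 (iv7 D190720) (iv2 F293627)
theorem F380796 : act 1 n190720 = n138157 := d15_1 F380795 (iv7 F380780) F380777
def n190721 : Q := act 1 n96471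
theorem D190721 : act 1 n96471 = n190721 := rfl
theorem F380797 : act 1 n190721 = n98607 := d15_1 D190721 F152000 (iv2 F291553)
theorem F380798 : act 7 n190721 = n100151 := d15_2 F371293 D190721 (iv2 F371288)
theorem F380799 : act 4 n102897 = n190721 := d20_0 (iv1 D190721) F291554 F144905 (iv1 F251871) (iv3 F374544) F374545 F288957 (iv4 D186037) D186036 F339781
theorem F380800 : act 3 n189892 = n190721 := d20_3 F70863 D96441 (iv4 F378133) (iv1 D190721) (iv3 D96471) D96472 F293514 (iv4 F380739) (iv3 D190710) (iv1 D96442)
theorem F380801 : act 6 n100552 = n190721 := d21_3 D46001 D98314 F363720 (iv1 D190721) F291555 D100145 (iv1 F372277) F372278 (iv6 D98313) (iv1 D46000)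
theorem F380802 : act 2 n190721 = n100152 := d3_1 F380801 F367759 F251234
theorem F380803 : act 5 n190721 = n186710 := d21_6 F368969 (iv1 D100549) (iv5 D46908) D46909 D100552 F380801 (iv1 F367763) (iv5 D98570) D98571 F368970
def n190722 : Q := act 4 n96473
theorem D190722 : act 4 n96473 = n190722 := rfl
theorem F380804 : act 2 n190722 = n98616 := d1_1 D190722 (iv4 D98616) F294472
theorem F380805 : act 7 n190722 = n183407 := d11_2 F294476 D190722 (iv4 D183407)
theorem F380806 : act 5 n190722 = n132674 := d16_1 D190722 (iv4 F365386) F365387 (iv4 D96017) (iv5 F76240) (iv4 F294468) (iv5 F295064) F136760 F294472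
theorem F380807 : act 3 n190722 = n132255 := d19_3 D45043 D96473 D190722 (iv1 D132255) (iv5 D62045) F47060 F23273 D13982 F23299 D24794 (iv3 F326233) (iv1 F33810) (iv5 D21504) (iv4 D10268) F16328 (iv1 D4657) D4658 D10272 D21511
def n190723 : Q := act 6 n96473
theorem D190723 : act 6 n96473 = n190723 := rfl
theorem F380808 : act 2 n190723 = n98618 := d3_1 D190723 (iv6 D98618) F294472
theorem F380809 : act 5 n190723 = n184250 := d12_1 D190723 (iv6 D184250) (iv5 D87884) F293521 D96473
theorem F380810 : act 0 n138094 = n190723 := d21_4 D137815 (iv1 F361811) F204037 D138094 (iv6 D190723) (iv5 D96473) (iv1 F133784) (iv5 F328975) (iv6 D64770) D64767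
theorem F380811 : act 7 n138100 = n190723 := d15_2 F365380 D138100 F380808
def n190724 : Q := act 4 n96478
theorem D190724 : act 4 n96478 = n190724 := rfl
theorem F380812 : act 2 n190724 = n96481 := d1_1 D190724 (iv4 D96481) (iv2 F148579)
theorem F380813 : act 6 n190724 = n132382 := d10_2 (iv6 F347308) D190724 (iv4 F337005)
theorem F380814 : act 7 n190724 = n137825 := d11_2 (iv7 F329338) D190724 F221051
theorem F380815 : act 1 n129172 = n137825 := d15_1 (iv0 F366040) (iv7 F380814) F380812
def n190725 : Q := act 0 n96481
theorem D190725 : act 0 n96481 = n190725 := rfl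
theorem F380816 : act 1 n137825 = n190725 := d15_0 (iv0 D190725) (iv7 F284107) (iv2 F365381)
def n190726 : Q := act 3 n96481
theorem D190726 : act 3 n96481 = n190726 := rfl
theorem F380817 : act 4 n190726 = n96487 := d5_2 D96481 D190726 (iv3 D96487) (iv4 D45049) (iv3 F70898)
theorem F380818 : act 7 n190726 = n189820 := d8_2 F284107 D190726 F377873
def n190727 : Q := act 5 n96481
theorem D190727 : act 5 n96481 = n190727 := rfl
theorem F380819 : act 7 n190727 = n126529 := d13_2 F284107 D190727 F365382
theorem F380820 : act 4 n135638 = n190727 := d16_0 (iv5 D190727) (iv4 D96481) (iv5 D45046) (iv4 F70691) D96297 (iv4 F365384) (iv5 D135643) D135644 F218129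
def n190728 : Q := act 0 n96482
theorem D190728 : act 0 n96482 = n190728 := rfl
theorem F380821 : act 5 n190728 = n158935 := d17_1 D190728 (iv1 F337008) (iv5 D134359) (iv4 F208371) F208372 F207501 D129316 F207514 (iv4 F347315)
theorem F380822 : act 4 n190728 = n129653 := d18_1 D190728 F212966 (iv4 F216150) F336978 (iv4 D85106) F60319 (iv4 F113793) F230307 F347316
theorem F380823 : act 3 n129653 = n126554 := d20_3 (iv4 F347315) D190728 F380822 (iv1 D126554) (iv3 D59375) (iv4 D28200) (iv1 F22979) D28807 D60700 D129114
theorem F380824 : act 0 n134360 = n186722 := d21_4 F380821 (iv1 F337008) (iv5 D134359) D134360 (iv6 D186722) F295064 (iv1 D45044) D45046 D96482 D190728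
theorem F380825 : act 1 n136104 = n190728 := d15_0 (iv0 D190728) (iv7 F360630) F360628
theorem F380826 : act 5 n126554 = n132397 := d6_2 (iv5 F212967) F380823 (iv3 D132397)
theorem F380827 : act 2 n126473 = n126554 := d2_3 F380826 (iv2 F217153) (iv5 F365160)
theorem F380828 : act 7 n126553 = n126473 := d15_2 F203526 F203522 F380827
theorem F380829 : act 7 n126474 = n126554 := d15_2 (iv0 D126473) D126474 (iv2 F380827)
theorem F380830 : act 2 n126553 = n126474 := d4_3 F380829 (iv2 F380827) (iv7 F380828)
theorem F380831 : act 3 n129139 = n126474 := d8_3 F380829 (iv3 F380823) F214757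
theorem F380832 : act 5 n129137 = n126474 := d13_3 F380829 F380826 F214756
def n190729 : Q := act 1 n96482
theorem D190729 : act 1 n96482 = n190729 := rfl
theorem F380833 : act 1 n190729 = n136104 := d15_1 D190729 (iv7 F347311) F347309
theorem F380834 : act 4 n190729 = n129654 := d17_9 (iv1 D129654) (iv5 D60903) D60900 (iv5 F212465) (iv4 F336981) F250302 F230307 F347316 D190729
theorem F380835 : act 5 n158933 = n190729 := d9_0 F380834 F207833 (iv4 F96836) F315303 F121969 (iv5 F301362) D158935 (iv5 F380821) F380822 F212967 D132398 F315449 F188458 (iv5 F113741) D158933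
theorem F380836 : act 3 n131789 = n190729 := d20_5 (iv4 F359675) F317736 (iv4 F363637) (iv3 F363641) (iv1 F245958) F380834 (iv1 D129654) D129655 (iv3 F218288) F359677
def n190730 : Q := act 0 n96487
theorem D190730 : act 0 n96487 = n190730 := rfl
theorem F380837 : act 3 n190730 = n105290 := d20_5 (iv4 F294465) F294462 D45049 D96487 D190730 F332774 (iv1 F98288) (iv4 F327599) F125361 D81513
theorem F380838 : act 4 n190730 = n129159 := d20_8 F203357 (iv1 F93615) D60726 D129172 F366040 D190726 F380817 D190730 (iv3 D129159) (iv1 F203359)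
theorem F380839 : act 5 n190730 = n105287 := d21_8 (iv5 F357994) (iv1 F204750) F204748 (iv6 F331157) (iv1 F228478) F332891 (iv5 F148588) D190730 (iv6 D105287) D105284
theorem F380840 : act 1 n189818 = n190730 := d15_0 (iv0 D190730) F148589 (iv2 F377872)
theorem F380841 : act 2 n189819 = n190730 := d2_3 F380839 (iv2 F359017) F377947
theorem F380842 : act 7 n128737 = n190730 := d13_0 F380839 (iv7 F359042) F359046
def n190731 : Q := act 1 n96487
theorem D190731 : act 1 n96487 = n190731 := rfl
theorem F380843 : act 7 n190731 = n189819 := d15_2 (iv0 D190730) D190731 F380841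
theorem F380844 : act 5 n180337 = n190731 := d21_0 (iv1 D190731) F148588 (iv6 F332891) F228477 F332900 F362866 (iv1 F373528) F373525 F373486 (iv1 F283869)
theorem F380845 : act 2 n190731 = n128737 := d2_1 F380844 (iv5 F359046) (iv2 F359043)
theorem F380846 : act 1 n190731 = n189818 := d15_0 F380840 (iv7 F380842) (iv2 F380845)
def n190732 : Q := act 2 n96487
theorem D190732 : act 2 n96487 = n190732 := rfl
theorem F380847 : act 3 n190732 = n189902 := d0_2 D96487 D190732 (iv2 D189902) (iv3 D95426) (iv2 F70907)
theorem F380848 : act 5 n190732 = n157787 := d2_2 (iv5 F148588) D190732 (iv2 D157787)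
theorem F380849 : act 6 n190732 = n126310 := d3_2 F347329 D190732 (iv2 F359783)
theorem F380850 : act 7 n190732 = n189818 := d4_2 (iv7 F148589) D190732 F377872
theorem F380851 : act 1 n190732 = n128737 := d15_0 (iv0 F363218) (iv7 F148589) D190732
theorem F380852 : act 1 n189819 = n190732 := d15_0 F380851 F380842 (iv2 F380841)
def n190733 : Q := act 5 n96488
theorem D190733 : act 5 n96488 = n190733 := rfl
theorem F380853 : act 2 n190733 = n163026 := d2_1 D190733 F359799 (iv2 F148590)
theorem F380854 : act 3 n190733 = n113571 := d6_1 D190733 (iv5 F202418) (iv3 F347328)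
theorem F380855 : act 6 n190733 = n145442 := d12_2 D96488 D190733 F357901 (iv6 D75180) (iv5 F70908)
theorem F380856 : act 4 n190733 = n163520 := d16_2 (iv4 F148591) D190733 F337589 (iv4 F273970) (iv5 F355022) F233663 F329082 F329590 (iv2 F70912)
theorem F380857 : act 7 n163531 = n190733 := d11_0 F380856 F337591 D163531
def n190734 : Q := act 7 n96488
theorem D190734 : act 7 n96488 = n190734 := rfl
theorem F380858 : act 2 n190734 = n137703 := d4_1 D190734 (iv7 F359789) (iv2 F148590)
theorem F380859 : act 3 n190734 = n126309 := d8_1 D190734 F359795 (iv3 F347328)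
theorem F380860 : act 4 n190734 = n96491 := d11_1 D190734 (iv7 D96491) (iv4 F148591)
theorem F380861 : act 5 n190734 = n163531 := d13_1 D190734 F380857 (iv5 D190733)
theorem F380862 : act 6 n190734 = n137679 := d14_1 D190734 (iv7 F349687) (iv6 D95290) (iv7 F70909) D96488
theorem F380863 : act 1 n189903 = n190734 := d15_1 D189903 (iv7 D190734) F148590
theorem F380864 : act 1 n190734 = n128710 := d15_1 F380863 F359709 (iv2 F378173)
def n190735 : Q := act 3 n96489
theorem D190735 : act 3 n96489 = n190735 := rfl
theorem F380865 : act 5 n190735 = n124711 := d6_2 (iv5 F339695) D190735 F199530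
theorem F380866 : act 6 n190735 = n124712 := d7_2 (iv6 F339696) D190735 F199532
theorem F380867 : act 7 n190735 = n189904 := d8_2 F345947 D190735 (iv3 D189904)
theorem F380868 : act 0 n190735 = n143147 := d20_4 (iv4 F216090) (iv1 F216094) (iv4 F347318) D190735 (iv3 F363641) F245953 (iv1 F163841) D131835 (iv3 F215993) (iv1 F215994)
theorem F380869 : act 4 n190735 = n135550 := d20_6 F207342 D129114 (iv4 F347315) F148581 D96489 D190735 (iv1 D135550) D135551 F217976 F212982
theorem F380870 : act 0 n110787 = n190735 := d20_4 (iv4 D60699) (iv1 F46441) D51075 D110787 (iv3 D190735) F347318 (iv1 D128762) (iv4 F98234) (iv3 D62958) (iv1 F95290)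
theorem F380871 : act 0 n134312 = n186685 := d21_4 F380865 (iv1 F336887) (iv5 D134311) D134312 (iv6 D186685) (iv5 F157558) F293614 F293578 (iv6 F364222) F380870
def n190736 : Q := act 3 n96490
theorem D190736 : act 3 n96490 = n190736 := rfl
theorem F380872 : act 5 n190736 = n153958 := d6_2 (iv5 F345951) D190736 F241979
theorem F380873 : act 7 n190736 = n153957 := d8_2 (iv7 F345952) D190736 F241977
def n190737 : Q := act 6 n96490
theorem D190737 : act 6 n96490 = n190737 := rfl
theorem F380874 : act 2 n190737 = n189905 := d3_1 D190737 (iv6 D189905) (iv2 F345950)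
theorem F380875 : act 7 n190737 = n154026 := d14_2 (iv7 F345952) D190737 (iv6 D154026) (iv7 D72885) (iv6 F109363)
def n190738 : Q := act 5 n96524
theorem D190738 : act 5 n96524 = n190738 := rfl
theorem F380876 : act 2 n190738 = n186746 := d2_1 D190738 (iv5 D186746) (iv2 F148679)
theorem F380877 : act 3 n190738 = n96528 := d6_1 D190738 (iv5 D96528) (iv3 F148680)
def n190739 : Q := act 5 n96525
theorem D190739 : act 5 n96525 = n190739 := rfl
theorem F380878 : act 2 n190739 = n189941 := d2_1 D190739 (iv5 D189941) (iv2 F148682)
theorem F380879 : act 6 n190739 = n149266 := d12_2 D96525 D190739 (iv5 D149266) (iv6 D70063) (iv5 F70961)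
def n190740 : Q := act 4 n96528
theorem D190740 : act 4 n96528 = n190740 := rfl
theorem F380880 : act 2 n190740 = n189944 := d1_1 D190740 (iv4 D189944) (iv2 F148685)
def n190741 : Q := act 5 n96531
theorem D190741 : act 5 n96531 = n190741 := rfl
theorem F380881 : act 2 n190741 = n189949 := d2_1 D190741 (iv5 D189949) (iv2 F369164)
theorem F380882 : act 3 n190741 = n176925 := d6_1 D190741 F353334 F337147
theorem F380883 : act 7 n190741 = n189951 := d13_2 F369165 D190741 (iv5 D189951)
theorem F380884 : act 0 n190741 = n190342 := d17_2 D96531 D190741 F379466 F379302 F333601 (iv0 F333606) (iv5 D149202) (iv0 F106423) (iv4 F85213)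
theorem F380885 : act 0 n176902 = n190741 := d21_1 (iv5 F373627) (iv5 D190741) F337137 F337125 (iv6 F290461) D190321 F379382 (iv5 F174377) D143042 (iv1 F364506)
def n190742 : Q := act 3 n96532
theorem D190742 : act 3 n96532 = n190742 := rfl
theorem F380886 : act 7 n190742 = n189947 := d8_2 (iv7 F369166) D190742 (iv3 D189947)
def n190743 : Q := act 5 n96532
theorem D190743 : act 5 n96532 = n190743 := rfl
theorem F380887 : act 2 n190743 = n189951 := d2_1 D190743 (iv5 D189951) F369167
theorem F380888 : act 7 n190743 = n189949 := d13_2 (iv7 F369166) D190743 (iv5 D189949)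
theorem F380889 : act 0 n190743 = n176902 := d17_2 (iv1 F148693) D190743 F373627 (iv4 D141598) (iv5 F320020) (iv0 F333599) (iv5 F333593) (iv0 F310972) F310975
theorem F380890 : act 1 n190743 = n190342 := d15_0 (iv0 F380884) F380883 (iv2 F380887)
def n190744 : Q := act 0 n96533
theorem D190744 : act 0 n96533 = n190744 := rfl
def n190745 : Q := act 1 n96533
theorem D190745 : act 1 n96533 = n190745 := rfl
theorem F380891 : act 1 n190745 = n189956 := d15_1 D190745 (iv7 D189956) (iv2 F148694)
def n190746 : Q := act 4 n96533
theorem D190746 : act 4 n96533 = n190746 := rfl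
theorem F380892 : act 2 n190746 = n189955 := d1_1 D190746 (iv4 D189955) (iv2 F148694)
theorem F380893 : act 3 n190746 = n190477 := d5_1 D190746 F379861 F257747 F294346 (iv3 F148695)
theorem F380894 : act 6 n190746 = n96547 := d10_2 (iv6 F148696) D190746 (iv4 D96547)
theorem F380895 : act 5 n190746 = n190476 := d16_1 D190746 (iv4 F379859) (iv5 F178787) F331605 (iv5 F310976) F310975 (iv5 F378365) (iv7 D189956) (iv2 F148694)
def n190747 : Q := act 7 n96533
theorem D190747 : act 7 n96533 = n190747 := rfl
theorem F380896 : act 2 n190747 = n189956 := d4_1 D190747 (iv7 D189956) (iv2 F148694)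
theorem F380897 : act 3 n190747 = n96562 := d8_1 D190747 (iv7 D96562) (iv3 F148695)
theorem F380898 : act 5 n190747 = n96534 := d13_1 D190747 (iv7 D96534) D96533
theorem F380899 : act 1 n189956 = n190744 := d15_0 (iv0 D190744) D190747 F380896
theorem F380900 : act 1 n189954 = n190747 := d15_1 D189954 (iv7 D190747) F148694
theorem F380901 : act 0 n189953 = n190747 := d17_2 (iv1 F379304) (iv5 F378360) F380898 (iv4 F183361) F183362 F183345 (iv5 F333611) F333610 (iv4 F379302)
def n190748 : Q := act 5 n96537
theorem D190748 : act 5 n96537 = n190748 := rfl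
theorem F380902 : act 2 n190748 = n189960 := d2_1 D190748 (iv5 D189960) (iv2 F270453)
theorem F380903 : act 7 n190748 = n189964 := d13_2 (iv7 F270448) D190748 (iv5 D189964)
def n190749 : Q := act 6 n96537
theorem D190749 : act 6 n96537 = n190749 := rfl
theorem F380904 : act 2 n190749 = n189961 := d3_1 D190749 (iv6 D189961) (iv2 F270453)
theorem F380905 : act 4 n190749 = n96539 := d10_1 D190749 (iv6 D96539) D96537
theorem F380906 : act 5 n190749 = n144080 := d21_6 (iv5 F106361) (iv1 F148002) F147999 D96959 F205507 D190749 F380207 (iv5 D190582) (iv6 D96216) F75346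
theorem F380907 : act 6 n190748 = n128574 := d12_2 (iv6 D190749) D190748 F365099 D144080 (iv5 F380906)
def n190750 : Q := act 4 n96538
theorem D190750 : act 4 n96538 = n190750 := rfl
theorem F380908 : act 2 n190750 = n189962 := d1_1 D190750 (iv4 D189962) F270487
theorem F380909 : act 7 n190750 = n176907 := d11_2 (iv7 F335325) D190750 F276267
theorem F380910 : act 3 n190508 = n190750 := d20_5 (iv4 D133658) (iv1 F170578) (iv4 F379950) F379949 D190508 (iv4 D190750) (iv1 F343051) F348071 F222131 F376743
def n190751 : Q := act 6 n96538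
theorem D190751 : act 6 n96538 = n190751 := rfl
theorem F380911 : act 2 n190751 = n189963 := d3_1 D190751 (iv6 D189963) F270487
theorem F380912 : act 3 n190751 = n144139 := d7_1 D190751 F357466 (iv3 F335324)
theorem F380913 : act 5 n190751 = n144138 := d12_1 D190751 (iv6 F368784) (iv5 F158943) (iv6 D96539) D96538
theorem F380914 : act 7 n190751 = n158906 := d14_2 (iv7 F335325) D190751 (iv6 D158906) F113716 D84330
def n190752 : Q := act 5 n96541
theorem D190752 : act 5 n96541 = n190752 := rfl
theorem F380915 : act 2 n190752 = n172109 := d2_1 D190752 (iv5 F375660) F375658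
theorem F380916 : act 3 n190752 = n96543 := d6_1 D190752 (iv5 D96543) D96541
theorem F380917 : act 7 n190752 = n189958 := d13_2 F270455 D190752 (iv5 D189958)
theorem F380918 : act 0 n190752 = n190380 := d17_2 F285232 D190752 (iv5 F380767) (iv4 D190716) (iv5 F367649) (iv0 D183482) (iv5 D87580) D87578 D183478
theorem F380919 : act 6 n172105 = n190752 := d7_0 F380916 F335323 (iv3 F270251)
theorem F380920 : act 5 n103000 = n164075 := d21_0 (iv1 D164075) F293691 (iv6 F145405) (iv1 F377265) (iv6 F377267) F376583 F285232 D190752 (iv6 F380919) (iv1 F270253)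
def n190753 : Q := act 6 n96541
theorem D190753 : act 6 n96541 = n190753 := rfl
theorem F380921 : act 2 n190753 = n172088 := d3_1 D190753 (iv6 F375661) F375658
theorem F380922 : act 3 n190753 = n96544 := d7_1 D190753 (iv6 D96544) D96541
theorem F380923 : act 4 n190753 = n172225 := d10_1 D190753 (iv6 D172225) (iv4 F148707)
theorem F380924 : act 5 n190753 = n172087 := d12_1 D190753 F270226 D172105 F380919 (iv5 D190752)
theorem F380925 : act 7 n186907 = n190753 := d11_0 F380923 (iv7 F356206) D186907
theorem F380926 : act 0 n190275 = n190753 := d20_10 F380923 F361764 (iv4 F147768) (iv3 D96125) (iv1 F292506) D89718 F367176 (iv1 F251768) (iv4 F147495) (iv3 F379258)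
def n190754 : Q := act 5 n96542
theorem D190754 : act 5 n96542 = n190754 := rfl
theorem F380927 : act 2 n190754 = n189964 := d2_1 D190754 (iv5 D189964) F270446
theorem F380928 : act 7 n190754 = n189960 := d13_2 F270454 D190754 (iv5 D189960)
def n190755 : Q := act 6 n96542
theorem D190755 : act 6 n96542 = n190755 := rfl
theorem F380929 : act 2 n190755 = n176696 := d3_1 D190755 F348572 F270446
theorem F380930 : act 3 n190755 = n112029 := d7_1 D190755 F358526 F150141
theorem F380931 : act 4 n190755 = n96544 := d10_1 D190755 (iv6 D96544) D96542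
theorem F380932 : act 5 n180260 = n190755 := d21_2 (iv5 D180282) (iv1 F280584) (iv6 D190755) (iv1 F205508) (iv6 D96959) (iv5 F147999) F148001 F106361 D103579 (iv1 F348571)
theorem F380933 : act 6 n190754 = n180632 := d12_4 (iv6 F348580) F380932 (iv6 D190755) D190754 (iv5 D180632)
def n190756 : Q := act 4 n96543
theorem D190756 : act 4 n96543 = n190756 := rfl
theorem F380934 : act 2 n190756 = n176907 := d1_1 D190756 F276267 (iv2 F335322)
theorem F380935 : act 6 n190756 = n176895 := d10_2 (iv6 F335323) D190756 (iv4 D176895)
theorem F380936 : act 7 n190756 = n189962 := d11_2 F270456 D190756 (iv4 D189962)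
def n190757 : Q := act 3 n96545
theorem D190757 : act 3 n96545 = n190757 := rfl
theorem F380937 : act 5 n190757 = n187383 := d6_2 F343077 D190757 (iv3 D187383)
theorem F380938 : act 7 n190757 = n188212 := d8_2 (iv7 F158931) D190757 F372690
theorem F380939 : act 2 n188209 = n190757 := d2_3 F380937 (iv2 F370091) D188209
theorem F380940 : act 0 n190261 = n190757 := d17_2 F364439 D190261 F380937 F370090 (iv5 F347752) (iv0 F295262) (iv5 D89100) (iv0 F294964) D93198
def n190758 : Q := act 4 n96545
theorem D190758 : act 4 n96545 = n190758 := rfl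
theorem F380941 : act 2 n190758 = n189966 := d1_1 D190758 (iv4 D189966) (iv2 F158933)
theorem F380942 : act 7 n190758 = n189968 := d11_2 (iv7 F158931) D190758 (iv4 D189968)
def n190759 : Q := act 6 n96545
theorem D190759 : act 6 n96545 = n190759 := rfl
theorem F380943 : act 2 n190759 = n189967 := d3_1 D190759 (iv6 D189967) (iv2 F158933)
def n190760 : Q := act 3 n96546
theorem D190760 : act 3 n96546 = n190760 := rfl
theorem F380944 : act 5 n190760 = n187385 := d6_2 F343072 D190760 (iv3 D187385)
theorem F380945 : act 7 n190760 = n189965 := d8_2 F158932 D190760 (iv3 D189965)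
theorem F380946 : act 4 n189561 = n190760 := d16_4 F361756 (iv5 D94054) (iv4 F144895) D189561 F380944 F370100 F357389 (iv7 F375726) F375728
theorem F380947 : act 0 n189425 = n190760 := d17_2 F285233 (iv5 F376583) F380944 F370100 F357389 (iv0 F357391) F339513 F294218 D172219
theorem F380948 : act 1 n190211 = n190760 := d17_6 (iv1 D95397) (iv5 F294500) F284504 (iv5 D182916) (iv4 F147423) D190211 F380944 (iv0 F370102) F287961
theorem F380949 : act 0 n189561 = n190027 := d18_2 F380947 (iv4 F380946) (iv4 D190027) (iv5 D95559) F70187 D82488 (iv4 F148707) (iv0 F285232) (iv5 F376583)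
def n190761 : Q := act 4 n96546
theorem D190761 : act 4 n96546 = n190761 := rfl
theorem F380950 : act 2 n190761 = n189968 := d1_1 D190761 (iv4 D189968) F158930
theorem F380951 : act 7 n190761 = n189966 := d11_2 F158932 D190761 (iv4 D189966)
def n190762 : Q := act 6 n96546
theorem D190762 : act 6 n96546 = n190762 := rfl
theorem F380952 : act 2 n190762 = n189969 := d3_1 D190762 (iv6 D189969) F158930
theorem F380953 : act 0 n190762 = n176890 := d21_4 F343064 (iv1 F138245) F343072 D190762 (iv6 D176890) (iv5 D84324) (iv1 D38881) D38883 D84330 D176908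
def n190763 : Q := act 0 n96547
theorem D190763 : act 0 n96547 = n190763 := rfl
theorem F380954 : act 1 n189974 = n190763 := d15_0 (iv0 D190763) (iv7 F373505) (iv2 F378384)
def n190764 : Q := act 1 n96547
theorem D190764 : act 1 n96547 = n190764 := rfl
theorem F380955 : act 1 n190764 = n189974 := d15_1 D190764 (iv7 D189974) (iv2 F148709)
theorem F380956 : act 3 n176919 = n190764 := d20_3 F369283 (iv1 F369285) F291656 (iv1 D190764) F367174 (iv4 D163464) D163462 (iv4 F341802) F276111 D176738
theorem F380957 : act 7 n190764 = n176915 := d8_2 D176919 F380956 F276271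
theorem F380958 : act 2 n176915 = n190763 := d15_3 (iv0 D190763) D190764 F380957
theorem F380959 : act 6 n190763 = n176913 := d3_2 D176915 F380958 (iv2 D176913)
def n190765 : Q := act 5 n96547
theorem D190765 : act 5 n96547 = n190765 := rfl
theorem F380960 : act 2 n190765 = n189973 := d2_1 D190765 (iv5 D189973) (iv2 F148709)
def n190766 : Q := act 3 n96551
theorem D190766 : act 3 n96551 = n190766 := rfl
theorem F380961 : act 2 n190766 = n120100 := d0_1 D190766 F355310 (iv2 F309622) (iv3 D97266) (iv2 F288182)
theorem F380962 : act 4 n190766 = n119067 := d5_2 D96551 D190766 F261861 F261859 (iv3 D96550)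
theorem F380963 : act 5 n190766 = n145508 := d6_2 (iv5 F334479) D190766 F228568
theorem F380964 : act 6 n190766 = n145511 := d7_2 (iv6 F334480) D190766 F228569
theorem F380965 : act 7 n190766 = n97286 := d8_2 (iv7 F288183) D190766 (iv3 D97286)
theorem F380966 : act 0 n190766 = n120103 := d20_4 (iv4 F33858) D45082 D96551 D190766 (iv3 F251445) F251446 (iv1 F251435) F283768 (iv3 D81708) (iv1 D37344)
theorem F380967 : act 0 n114565 = n190766 := d21_4 F83629 F60280 (iv5 F83574) D114565 F380964 (iv5 D145511) (iv1 F334441) (iv5 D114755) (iv6 D52958) (iv1 F83627)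
def n190767 : Q := act 1 n96552
theorem D190767 : act 1 n96552 = n190767 := rfl
theorem F380968 : act 1 n190767 = n96557 := d15_1 D190767 F288194 (iv2 F288184)
theorem F380969 : act 7 n190767 = n97270 := d15_2 F379177 D190767 (iv2 F379173)
theorem F380970 : act 5 n190767 = n117210 := d17_7 D69033 (iv5 F335130) (iv1 D145522) (iv5 F334479) (iv4 D96551) D96552 D190767 (iv0 F190206) F105251
theorem F380971 : act 2 n97271 = n190767 := d2_3 F380970 F340413 (iv5 F340414)
theorem F380972 : act 3 n176902 = n190767 := d6_3 F380970 (iv3 F224674) (iv5 F373627)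
theorem F380973 : act 6 n97363 = n190767 := d12_0 F380970 F358014 F358011 F373621 F373619
def n190768 : Q := act 1 n96555
theorem D190768 : act 1 n96555 = n190768 := rfl
theorem F380974 : act 1 n190768 = n97259 := d15_1 D190768 F350624 F350625
theorem F380975 : act 7 n190768 = n97092 := d15_2 F350616 D190768 F149796
theorem F380976 : act 3 n186955 = n190768 := d20_3 F137094 D89416 D186955 (iv1 D190768) (iv3 D96555) D96556 F335135 F125280 (iv3 F136820) F352644
theorem F380977 : act 2 n97257 = n190768 := d4_3 F380975 F149796 F346752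
theorem F380978 : act 6 n189983 = n190768 := d14_5 F380975 (iv6 D97092) F71581 D95732 (iv7 F378435)
def n190769 : Q := act 5 n96555
theorem D190769 : act 5 n96555 = n190769 := rfl
theorem F380979 : act 3 n190769 = n96557 := d6_1 D190769 (iv5 D96557) D96555
theorem F380980 : act 7 n190769 = n97261 := d13_2 (iv7 F288190) D190769 (iv5 D97261)
theorem F380981 : act 6 n185732 = n190769 := d7_0 F380979 F358279 D185732
def n190770 : Q := act 6 n96555
theorem D190770 : act 6 n96555 = n190770 := rfl
theorem F380982 : act 3 n190770 = n96558 := d7_1 D190770 (iv6 D96558) D96555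
theorem F380983 : act 4 n190770 = n132606 := d10_1 D190770 F351360 (iv4 F352643)
def n190771 : Q := act 3 n96556
theorem D190771 : act 3 n96556 = n190771 := rfl
theorem F380984 : act 5 n190771 = n170066 := d6_2 F335139 D190771 (iv3 F364495)
theorem F380985 : act 6 n190771 = n133305 := d7_2 (iv6 F364478) D190771 (iv3 F248100)
theorem F380986 : act 7 n190771 = n97266 := d8_2 (iv7 F288192) D190771 (iv3 D97266)
theorem F380987 : act 0 n190771 = n147035 := d20_10 F355162 F355166 (iv4 F350195) (iv3 F334913) F334911 F149995 F71699 (iv1 F70982) D96556 D190771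
theorem F380988 : act 0 n143771 = n190771 := d20_4 F317440 (iv1 F312722) F312726 (iv3 F226430) (iv3 D190771) (iv4 D96556) (iv1 D45083) F33858 (iv3 F52029) (iv1 F317439)
theorem F380989 : act 2 n147034 = n190771 := d15_3 (iv0 F380988) F313470 (iv7 F309625)
def n190772 : Q := act 4 n96557
theorem D190772 : act 4 n96557 = n190772 := rfl
theorem F380990 : act 2 n190772 = n97289 := d1_1 D190772 (iv4 D97289) (iv2 F288193)
theorem F380991 : act 6 n190772 = n185733 := d10_2 (iv6 F358279) D190772 (iv4 D185733)
theorem F380992 : act 7 n190772 = n97272 := d11_2 (iv7 F288194) D190772 (iv4 D97272)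
theorem F380993 : act 5 n190772 = n106788 := d17_5 (iv1 F148725) F71708 (iv1 F70982) D96557 D190772 F358355 (iv5 F80532) D110771 (iv4 F358381)
theorem F380994 : act 0 n131952 = n190772 := d21_10 F380993 F358354 D106795 (iv6 F332568) F294043 D161002 F324248 (iv1 F122745) (iv5 F257746) (iv6 F343688)
def n190773 : Q := act 0 n96558
theorem D190773 : act 0 n96558 = n190773 := rfl
theorem F380995 : act 5 n190773 = n97137 := d17_1 D190773 (iv1 F149867) F147502 (iv4 F125488) (iv5 F314849) (iv0 F304896) F304897 (iv0 F248102) F364479
theorem F380996 : act 4 n190773 = n170432 := d18_3 F248103 F364479 D190773 F276548 (iv4 F350137) F350134 F308491 D124592 F343997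
theorem F380997 : act 2 n97291 = n190773 := d15_3 (iv0 D190773) F364480 F290438
theorem F380998 : act 0 n190291 = n145364 := d18_2 (iv1 F379288) D190291 F378962 (iv5 F378961) F378288 F341021 (iv4 F380996) (iv0 D190773) (iv5 F379287)
theorem F380999 : act 6 n190773 = n189981 := d3_2 (iv6 F150039) F380997 F378425
theorem F381000 : act 7 n190773 = n97198 := d4_2 F290438 F380997 (iv2 F290433)
theorem F381001 : act 1 n97294 = n190773 := d15_1 F364481 F381000 (iv2 F290433)
def n190774 : Q := act 7 n96558
theorem D190774 : act 7 n96558 = n190774 := rfl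
theorem F381002 : act 2 n190774 = n97294 := d4_1 D190774 (iv7 D97294) (iv2 F288195)
theorem F381003 : act 4 n190774 = n147871 := d11_1 D190774 (iv7 F248101) F364479
theorem F381004 : act 6 n190774 = n97278 := d14_1 D190774 (iv7 D97278) (iv6 D45442) (iv7 F288189) D96558
theorem F381005 : act 1 n97198 = n190774 := d15_1 (iv0 F341058) (iv7 D190774) F288195
theorem F381006 : act 1 n190774 = n97291 := d15_1 F381005 (iv7 F290438) F290433
def n190775 : Q := act 3 n96559
theorem D190775 : act 3 n96559 = n190775 := rfl
theorem F381007 : act 7 n190775 = n97301 := d8_2 (iv7 F340408) D190775 (iv3 D97301)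
def n190776 : Q := act 6 n96559
theorem D190776 : act 6 n96559 = n190776 := rfl
theorem F381008 : act 2 n190776 = n97299 := d3_1 D190776 (iv6 D97299) (iv2 F340406)
theorem F381009 : act 5 n190776 = n104807 := d12_1 D190776 (iv6 F366589) F173478 D146021 (iv5 F340407)
theorem F381010 : act 0 n190776 = n106730 := d21_4 F321371 (iv1 F229594) (iv5 F340407) D190776 F348085 (iv5 F358248) (iv1 F175918) (iv5 F340427) (iv6 D97273) D97270
theorem F381011 : act 7 n132115 = n190776 := d13_0 F381009 (iv7 F380655) F380651
theorem F381012 : act 0 n132103 = n190776 := d17_0 F381009 (iv1 D104807) (iv5 F293049) (iv4 F138387) F340294 D129176 (iv5 F211217) F164547 D132103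
def n190777 : Q := act 3 n96560
theorem D190777 : act 3 n96560 = n190777 := rfl
theorem F381013 : act 5 n190777 = n103158 := d6_2 F148720 D190777 F158426
theorem F381014 : act 7 n190777 = n97296 := d8_2 (iv7 F340404) D190777 (iv3 D97296)
theorem F381015 : act 0 n190777 = n190209 := d19_4 D131814 F335829 F335830 D190777 (iv5 D190209) (iv4 F328856) F166249 D107644 F166251 F78612 F38322 (iv1 F19437) F11203 (iv4 F10173) (iv3 F10174) F19901 (iv5 F37615) (iv4 F46955) D61853
def n190778 : Q := act 6 n96560
theorem D190778 : act 6 n96560 = n190778 := rfl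
theorem F381016 : act 2 n190778 = n97304 := d3_1 D190778 (iv6 D97304) (iv2 F340403)
theorem F381017 : act 5 n190778 = n103169 := d12_1 D190778 (iv6 D103169) (iv5 D47818) D47819 F148720
def n190779 : Q := act 5 n96631
theorem D190779 : act 5 n96631 = n190779 := rfl
theorem F381018 : act 2 n190779 = n119477 := d2_1 D190779 (iv5 D119477) (iv2 F148873)
theorem F381019 : act 3 n190779 = n151371 := d6_1 D190779 (iv5 F312013) F161835
theorem F381020 : act 6 n190779 = n114755 := d12_2 D96631 D190779 (iv5 D114755) (iv6 D52958) (iv5 F71076)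
theorem F381021 : act 7 n190779 = n153585 := d13_2 (iv7 F316603) D190779 F360995
theorem F381022 : act 0 n190779 = n147908 := d21_1 D190779 F231681 (iv6 D74886) (iv1 F85857) (iv6 F185490) (iv5 D118069) D118067 F310272 F299950 (iv1 F309921)
theorem F381023 : act 0 n153567 = n190779 := d21_10 (iv5 D190779) F309920 (iv5 F322336) (iv6 D142735) (iv1 F102941) D67045 (iv5 F321298) F190156 (iv5 F109140) D153567
theorem F381024 : act 4 n190779 = n155894 := d18_1 F381023 (iv1 D155894) F110864 (iv5 F79187) (iv4 F167535) (iv0 F339019) (iv4 F339007) F339004 (iv5 F308517)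
theorem F381025 : act 6 n155894 = n139829 := d10_2 (iv6 F381020) F381024 F364628
def n190780 : Q := act 5 n96650
theorem D190780 : act 5 n96650 = n190780 := rfl
theorem F381026 : act 2 n190780 = n124588 := d2_1 D190780 (iv5 D124588) F297277
theorem F381027 : act 3 n190780 = n113438 := d6_1 D190780 (iv5 F362287) F362297
theorem F381028 : act 4 n190780 = n185744 := d9_1 D190780 F288039 F310540 F308536 (iv4 D58115) (iv5 F60006) (iv4 F129668) D177400 (iv4 F374624) F374625 (iv4 D146679) F308244 F60961 D45134 D96650
theorem F381029 : act 6 n190780 = n131879 := d12_2 (iv6 F148931) D190780 (iv5 F213568) (iv6 F347518) (iv5 D96653)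
theorem F381030 : act 7 n190780 = n113430 := d13_2 F297472 D190780 F331164
theorem F381031 : act 1 n190780 = n190572 := d17_6 F58307 (iv5 D27706) F296100 D45134 D96650 D190780 (iv5 D190572) F147883 (iv4 D81776)
theorem F381032 : act 3 n187797 = n129205 := d20_5 F139304 (iv1 D42398) D42399 D90577 D187797 F380162 (iv1 F381031) F381028 (iv3 D185744) (iv1 F139303)
def n190781 : Q := act 0 n96652
theorem D190781 : act 0 n96652 = n190781 := rfl
theorem F381033 : act 5 n190781 = n106801 := d19_1 D190781 (iv4 F354467) F365943 (iv1 D130707) (iv5 D61322) F46673 F23074 D13823 F23089 (iv4 F324768) (iv3 F28182) (iv1 F55833) (iv5 D35135) (iv4 D17057) (iv3 F14170) F16925 D21550 D45136 D96652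
theorem F381034 : act 1 n126188 = n190781 := d15_0 (iv0 D190781) (iv7 F254497) F364787
theorem F381035 : act 7 n106216 = n190781 := d13_0 F381033 F365953 (iv5 F348402)
def n190782 : Q := act 1 n96652
theorem D190782 : act 1 n96652 = n190782 := rfl
theorem F381036 : act 1 n190782 = n126188 := d15_1 D190782 F202938 F364788
theorem F381037 : act 5 n190782 = n106802 := d18_9 (iv1 D106802) (iv4 F80544) D110785 F341789 D132144 F341809 (iv0 D96676) (iv4 F148940) D190782
theorem F381038 : act 2 n106216 = n190782 := d2_3 F381037 F365952 (iv5 F348402)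
theorem F381039 : act 6 n106218 = n190782 := d21_5 (iv5 D60479) (iv1 F78157) (iv5 F95216) (iv6 F343588) (iv1 F163219) F381037 (iv1 D106802) (iv5 F99177) (iv6 D63807) (iv1 F95057)
theorem E103450 : n106218 = n106212 := ((c3_4 F381039 (iv2 F381038) (iv6 D106216) (iv2 F163217))).symm
theorem F381040 : act 0 n106212 = n49082 := (sb E103450 (iv1 D106218))
theorem F381041 : act 1 n106212 = n49084 := (sb E103450 F163219)
theorem F381042 : act 3 n106212 = n113180 := (sb E103450 (iv3 F176345))
theorem F381043 : act 6 n106212 = n190782 := (sb E103450 F381039)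
theorem F381044 : act 7 n113180 = n106208 := d8_2 D106212 F381042 (iv3 D106208)
theorem E103451 : n113183 = n113173 := (c11_2 F381044 (iv4 F176346) (iv7 F176341) D113180)
theorem F381045 : act 0 n113173 = n52244 := (sb E103451 (iv1 F176347))
theorem F381046 : act 1 n113173 = n52242 := (sb E103451 (iv0 D113183))
theorem F381047 : act 4 n113173 = n106208 := (sb E103451 F176346)
theorem F381048 : act 6 n113173 = n163698 := (sb E103451 F355876)
theorem E103452 : n159280 = n113177 := (c3_2 F381048 (iv2 F356073) (iv6 D113177) D113173)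
theorem F381049 : act 2 n113177 = n163698 := (sb E103452 F356073)
theorem F381050 : act 3 n113177 = n76202 := (sb E103452 (iv3 D159280))
theorem F381051 : act 7 n113177 = n163697 := (sb E103452 F356072)
theorem E103453 : n159283 = n113174 := (c7_3 D113177 F381050 D159283 (iv3 D113174))
theorem F381052 : act 6 n113174 = n76202 := (sb E103453 (iv6 D159283))
theorem F381053 : act 6 n159281 = n109875 := d10_2 F381052 D159281 (iv4 F176342)
theorem F381054 : act 2 n106208 = n113175 := d1_1 F381047 (iv4 D113175) D113173
theorem F381055 : act 1 n126195 = n113180 := d15_1 (iv0 F353618) F381044 F381054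
theorem E103454 : n113184 = n113178 := (c15_2 F381046 D113184 (iv7 D113178) D113173)
theorem F381056 : act 0 n113178 = n52242 := (sb E103454 (iv1 D113184))
theorem F381057 : act 1 n113178 = n52244 := (sb E103454 F176348)
theorem E103455 : n106217 = n106207 := (c15_2 F381041 F163218 (iv7 F163216) (iv2 F163217))
theorem F381058 : act 0 n106207 = n49084 := (sb E103455 (iv1 F163218))
theorem F381059 : act 1 n106207 = n49082 := (sb E103455 (iv0 D106217))
def n190783 : Q := act 5 n96652
theorem D190783 : act 5 n96652 = n190783 := rfl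
theorem F381060 : act 3 n190783 = n96653 := d6_1 D190783 (iv5 D96653) D96652
theorem F381061 : act 6 n190783 = n131881 := d12_2 F362298 D190783 (iv5 D131881) (iv6 F362293) (iv5 F362287)
theorem F381062 : act 7 n190783 = n190646 := d13_2 F254497 D190783 F380440
def n190784 : Q := act 3 n96670
theorem D190784 : act 3 n96670 = n190784 := rfl
theorem F381063 : act 7 n190784 = n154713 := d8_2 (iv7 F308549) D190784 F242892
def n190785 : Q := act 5 n96670
theorem D190785 : act 5 n96670 = n190785 := rfl
theorem F381064 : act 2 n190785 = n169876 := d2_1 D190785 (iv5 D169876) (iv2 F148981)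
theorem F381065 : act 7 n190785 = n154717 := d13_2 (iv7 F308549) D190785 (iv5 D154717)
theorem F381066 : act 4 n190785 = n169906 := d16_2 D96670 D190785 F267332 F125352 F58167 (iv4 F58163) (iv5 F306683) (iv7 F308489) (iv2 F71138)
theorem F381067 : act 0 n190785 = n123041 := d17_2 (iv1 F360578) D190785 F354378 (iv4 D86024) (iv5 D39798) F296888 D36311 D79728 D166063
theorem F381068 : act 1 n190785 = n180034 := d17_6 F324142 F304662 F297098 D45144 D96670 D190785 F302555 F326241 (iv4 F223695)
def n190786 : Q := act 2 n96673
theorem D190786 : act 2 n96673 = n190786 := rfl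
theorem F381069 : act 3 n190786 = n169899 := d0_2 D96673 D190786 (iv2 D169899) (iv3 D81499) (iv2 F71153)
theorem F381070 : act 6 n190786 = n96678 := d3_2 (iv6 F148990) D190786 (iv2 D96678)
def n190787 : Q := act 5 n96673
theorem D190787 : act 5 n96673 = n190787 := rfl
theorem F381071 : act 3 n190787 = n96674 := d6_1 D190787 (iv5 D96674) D96673
theorem F381072 : act 4 n190787 = n103111 := d16_4 (iv4 F176625) (iv5 F362287) (iv4 F362300) D190787 (iv5 D103111) F75101 F68107 D59842 F94263
theorem F381073 : act 1 n190787 = n189840 := d17_8 (iv1 D95323) (iv5 D44526) D44524 D95316 D189833 F377919 F362305 D190787 (iv4 D189840)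
theorem F381074 : act 2 n103121 = n190787 := d15_3 F381073 F377942 F160603
theorem F381075 : act 5 n190786 = n103121 := d2_0 F381074 (iv5 D190787) D190786
theorem F381076 : act 1 n189837 = n190787 := d18_6 (iv1 F283797) (iv4 F369265) F369266 (iv4 F369716) F369715 D189837 F381072 F160600 (iv5 F160601)
def n190788 : Q := act 4 n96674
theorem D190788 : act 4 n96674 = n190788 := rfl
theorem F381077 : act 2 n190788 = n154717 := d1_1 D190788 F350073 (iv2 F148991)
theorem F381078 : act 5 n190788 = n147919 := d9_2 D96674 D190788 F231710 F306683 F58163 (iv5 F58167) (iv4 F125352) (iv5 F267332) (iv4 F381066) (iv5 D190785) (iv4 D96670) (iv5 D45144) F33916 D21556 D45158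
theorem F381079 : act 7 n190788 = n169876 := d11_2 F350075 D190788 F350059
theorem F381080 : act 0 n190788 = n180034 := d18_2 (iv1 F330417) D190788 (iv4 D180034) (iv5 D86032) (iv4 D39802) D39801 D86028 F298914 D181008
theorem F381081 : act 1 n190788 = n123041 := d18_6 F297529 (iv4 F297487) (iv1 D45157) D45158 D96674 D190788 (iv4 F257735) F354381 F280416
def n190789 : Q := act 3 n96676
theorem D190789 : act 3 n96676 = n190789 := rfl
theorem F381082 : act 4 n190789 = n186082 := d20_6 F70734 (iv1 D21558) D21559 D45161 D96676 D190789 (iv1 D186082) F135891 (iv3 D75179) (iv1 F70732)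
def n190790 : Q := act 5 n96676
theorem D190790 : act 5 n96676 = n190790 := rfl
theorem F381083 : act 6 n190790 = n127373 := d12_2 F361395 D190790 (iv5 D127373) (iv6 F202053) (iv5 F361392)
theorem F381084 : act 0 n190790 = n106624 := d17_2 D96676 D190790 (iv5 F343667) (iv4 F202092) (iv5 F343665) F164653 (iv5 F381033) (iv0 D190781) F148940
theorem F381085 : act 1 n190790 = n157777 := d17_6 (iv1 D60678) (iv5 F47015) D61992 D132144 F341809 D190790 (iv5 D157777) (iv0 F341793) (iv4 D129076)
theorem F381086 : act 6 n128666 = n132162 := d21_5 (iv5 D190790) (iv1 F327441) F362766 (iv6 D128669) D128666 (iv5 D132162) F102060 D128825 (iv6 F362858) (iv1 F381085)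
def n190791 : Q := act 5 n96677
theorem D190791 : act 5 n96677 = n190791 := rfl
theorem F381087 : act 0 n190791 = n157777 := d17_2 F327440 D190791 (iv5 D157777) F330371 F99177 D106802 (iv5 F381037) F381036 F202936
theorem F381088 : act 1 n190791 = n106624 := d17_6 (iv1 F206947) F206944 (iv1 F164280) D132149 F341807 D190791 (iv5 F343667) (iv0 F343670) (iv4 D129071)
def n190792 : Q := act 5 n96678
theorem D190792 : act 5 n96678 = n190792 := rfl
theorem F381089 : act 2 n190792 = n96679 := d2_1 D190792 (iv5 D96679) D96678
theorem F381090 : act 3 n190792 = n128671 := d6_1 D190792 F328080 (iv3 F148997)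
theorem F381091 : act 7 n190792 = n128669 := d13_2 F327443 D190792 (iv5 F362766)
def n190793 : Q := act 0 n96679
theorem D190793 : act 0 n96679 = n190793 := rfl
theorem F381092 : act 1 n128669 = n190793 := d15_0 (iv0 D190793) (iv7 F281479) (iv2 F362767)
def n190794 : Q := act 1 n96679
theorem D190794 : act 1 n96679 = n190794 := rfl
theorem F381093 : act 1 n190794 = n128669 := d15_1 D190794 (iv7 F381091) F381089
theorem F381094 : act 3 n186703 = n190794 := d20_3 (iv4 F367740) (iv1 D186705) (iv4 F367731) (iv1 D190794) F148998 F71166 (iv1 F293491) (iv4 F294431) (iv3 F132099) (iv1 F332751)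
theorem F381095 : act 5 n180329 = n190794 := d21_0 (iv1 D190794) (iv5 D96679) (iv6 F148990) (iv1 F362305) (iv6 D128602) (iv5 D60484) (iv1 F78032) (iv5 F164621) (iv6 F358304) F327651
theorem F381096 : act 6 n190794 = n186702 := d12_2 (iv6 F377923) F381095 (iv5 F367820) (iv6 F367825) (iv5 F377922)
theorem F381097 : act 5 n132015 = n129044 := d21_6 (iv5 F381095) (iv1 D180329) D180331 (iv6 F362857) (iv1 F164234) D132015 (iv1 D129044) F95267 D128669 (iv1 F381093)
def n190795 : Q := act 4 n96679
theorem D190795 : act 4 n96679 = n190795 := rfl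
theorem F381098 : act 3 n190795 = n182421 := d5_1 D190795 (iv4 D182421) F133703 (iv4 F71166) (iv3 F148998)
def n190796 : Q := act 6 n96679
theorem D190796 : act 6 n96679 = n190796 := rfl
theorem F381099 : act 3 n190796 = n96680 := d7_1 D190796 (iv6 D96680) (iv3 F148998)
def n190797 : Q := act 5 n96681
theorem D190797 : act 5 n96681 = n190797 := rfl
theorem F381100 : act 2 n190797 = n117805 := d2_1 D190797 F346218 (iv2 F149001)
theorem F381101 : act 3 n190797 = n143522 := d6_1 D190797 F314869 F302988
theorem F381102 : act 6 n190797 = n120102 := d12_2 D96681 D190797 (iv5 D120102) (iv6 D55262) (iv5 F71168)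
theorem F381103 : act 7 n190797 = n143509 := d13_2 (iv7 F302997) D190797 F346234
theorem F381104 : act 4 n190797 = n127615 := d18_5 D131593 (iv4 F344399) (iv1 D158447) (iv4 F149002) D190797 (iv0 D127615) F94399 D59963 (iv5 F320015)
theorem F381105 : act 0 n142740 = n190797 := d21_10 (iv5 D190797) F300252 D170568 F364504 (iv1 D143044) (iv6 D67039) (iv5 D31215) (iv1 F102754) D66915 D142740
def n190798 : Q := act 1 n96685
theorem D190798 : act 1 n96685 = n190798 := rfl
theorem F381106 : act 1 n190798 = n153875 := d15_1 D190798 (iv7 D153875) F311825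
theorem F381107 : act 7 n190798 = n153873 := d15_2 (iv0 F310096) D190798 (iv2 F241785)
theorem F381108 : act 5 n190798 = n157631 := d17_7 (iv1 F255221) F357000 (iv1 D167234) (iv5 D80279) (iv4 F71178) D96685 D190798 (iv0 D157631) (iv4 F312351)
theorem F381109 : act 3 n119554 = n190798 := d20_3 (iv4 F161836) (iv1 F323798) F335224 (iv1 D190798) F149006 (iv4 F310098) (iv1 F310564) (iv4 D123185) (iv3 F308941) F303927
theorem F381110 : act 6 n124815 = n190798 := d21_3 D33512 D72610 (iv5 F241307) (iv1 D190798) (iv6 F312368) (iv5 F314256) (iv1 F316641) F240735 (iv6 D72609) (iv1 D33511)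
theorem F381111 : act 2 n190798 = n119763 := d3_1 F381110 F305972 F241308
theorem F381112 : act 4 n190798 = n122993 := d10_1 F381110 F361459 F278979
def n190799 : Q := act 7 n96685
theorem D190799 : act 7 n96685 = n190799 := rfl
theorem F381113 : act 2 n190799 = n153875 := d4_1 D190799 (iv7 D153875) F311825
theorem F381114 : act 3 n190799 = n96700 := d8_1 D190799 (iv7 D96700) (iv3 F149006)
theorem F381115 : act 5 n190799 = n96686 := d13_1 D190799 (iv7 D96686) D96685
theorem F381116 : act 6 n190799 = n119752 := d14_1 D190799 F305949 (iv6 D73316) (iv7 F232290) F312368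
theorem F381117 : act 1 n119763 = n190799 := d15_1 (iv0 F305971) (iv7 D190799) (iv2 F311825)
theorem F381118 : act 1 n190799 = n153873 := d15_1 F381117 (iv7 F381107) F381111
def n190800 : Q := act 0 n96709
theorem D190800 : act 0 n96709 = n190800 := rfl
theorem F381119 : act 5 n190800 = n121025 := d17_3 F298910 D96709 D190800 (iv4 D121025) F297860 (iv0 D36816) (iv5 F296283) (iv0 F118794) D78274
theorem F381120 : act 4 n190800 = n178286 := d18_1 D190800 (iv1 F341874) F341877 (iv5 D181133) (iv4 D86502) (iv0 D40083) D40085 (iv0 F297281) D96709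
theorem F381121 : act 2 n162899 = n190800 := d15_3 (iv0 D190800) (iv0 F341702) (iv7 F341682)
theorem F381122 : act 6 n190800 = n178284 := d3_2 (iv6 F341681) F381121 F277833
theorem F381123 : act 7 n190800 = n162895 := d4_2 (iv7 F341682) F381121 F341704
theorem F381124 : act 1 n170252 = n190800 := d15_1 (iv0 F341706) F381123 F341704
def n190801 : Q := act 7 n96709
theorem D190801 : act 7 n96709 = n190801 := rfl
theorem F381125 : act 2 n190801 = n170252 := d4_1 D190801 (iv7 D170252) (iv2 F149083)
theorem F381126 : act 3 n190801 = n126176 := d8_1 D190801 F202903 (iv3 F360767)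
theorem F381127 : act 4 n190801 = n150254 := d11_1 D190801 (iv7 F363255) (iv4 F341699)
theorem F381128 : act 5 n190801 = n96710 := d13_1 D190801 (iv7 D96710) D96709
theorem F381129 : act 1 n162895 = n190801 := d15_1 (iv0 F299607) (iv7 D190801) F149083
theorem F381130 : act 1 n190801 = n162899 := d15_1 F381129 F341682 (iv2 F341704)
def n190802 : Q := act 5 n96715
theorem D190802 : act 5 n96715 = n190802 := rfl
theorem F381131 : act 2 n190802 = n147298 := d2_1 D190802 F307872 (iv2 F149120)
theorem F381132 : act 3 n190802 = n116783 := d6_1 D190802 F311059 (iv3 F149121)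
theorem F381133 : act 6 n190802 = n117398 := d12_2 D96715 D190802 F309626 F105108 (iv5 F71214)
theorem F381134 : act 7 n190802 = n116774 := d13_2 F192539 D190802 F359297
theorem F381135 : act 4 n190802 = n188561 := d16_2 (iv4 F306565) D190802 (iv5 F373968) (iv4 F333334) (iv5 D148452) F105841 D69579 (iv7 F317820) (iv2 F215804)
theorem F381136 : act 0 n190802 = n148307 := d17_2 (iv1 F267521) D190802 (iv5 F346193) (iv4 F311840) F311841 (iv0 F359300) F359297 F267528 (iv4 F301927)
theorem F381137 : act 1 n190802 = n143676 := d17_6 D61591 F317797 (iv1 F184860) F317790 (iv4 F306565) D190802 F346201 F209979 F96141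
def n190803 : Q := act 6 n96727
theorem D190803 : act 6 n96727 = n190803 := rfl
theorem F381138 : act 2 n190803 = n155720 := d3_1 D190803 F355259 (iv2 F235637)
theorem F381139 : act 3 n190803 = n96729 := d7_1 D190803 (iv6 D96729) D96727
theorem F381140 : act 4 n190803 = n120477 := d10_1 D190803 (iv6 D120477) (iv4 F149143)
theorem F381141 : act 5 n190803 = n119623 := d12_1 D190803 F316180 (iv5 F316179) F209899 (iv5 F309763)
theorem F381142 : act 7 n190803 = n167717 := d14_2 (iv7 F149144) D190803 (iv6 D167717) F307609 (iv6 F307747)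
theorem F381143 : act 0 n190803 = n115809 := d21_4 F215089 F212296 (iv5 F309763) D190803 F311565 (iv5 F309603) (iv1 F316404) (iv5 F317240) (iv6 F97882) (iv1 F215087)
def n190804 : Q := act 6 n96740
theorem D190804 : act 6 n96740 = n190804 := rfl
theorem F381144 : act 2 n190804 = n170260 := d3_1 D190804 (iv6 D170260) (iv2 F149194)
theorem F381145 : act 3 n190804 = n131709 := d7_1 D190804 (iv6 D131709) (iv3 F306576)
theorem F381146 : act 4 n190804 = n96741 := d10_1 D190804 (iv6 D96741) D96740
theorem F381147 : act 7 n190804 = n170452 := d14_2 (iv7 F149196) D190804 F341655 (iv7 F210822) F306207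
theorem F381148 : act 0 n190804 = n112724 := d21_10 (iv5 D112724) F82222 D111446 F351640 (iv1 D120126) F311856 D83488 (iv1 F303978) F303981 D190804
theorem F381149 : act 1 n190804 = n98239 := d15_1 (iv0 F381148) (iv7 F351709) (iv2 F175458)
def n190805 : Q := act 3 n96746
theorem D190805 : act 3 n96746 = n190805 := rfl
theorem F381150 : act 2 n190805 = n131491 := d0_1 D190805 F210758 (iv2 F106318) (iv3 F234278) (iv2 F335254)
theorem F381151 : act 5 n190805 = n150077 := d6_2 (iv5 F335249) D190805 F236159
theorem F381152 : act 7 n190805 = n127857 := d8_2 (iv7 F364466) D190805 (iv3 F234179)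
theorem F381153 : act 0 n190805 = n131490 := d20_4 D133596 (iv1 F335246) F335251 D190805 (iv3 F309040) F309041 (iv1 F215317) F209856 (iv3 F86280) (iv1 F162942)
theorem F381154 : act 4 n190805 = n137789 := d20_6 D76624 (iv1 F311668) (iv4 F310086) F309740 (iv1 F335256) D190805 (iv1 F362500) F308201 F130759 (iv1 F232395)
theorem F381155 : act 0 n131489 = n190805 := d20_4 (iv4 F108160) D152024 F239040 (iv3 F215544) (iv3 D190805) (iv4 F335251) (iv1 D120214) (iv4 F319362) (iv3 F232710) (iv1 D71675)
def n190806 : Q := act 6 n96746
theorem D190806 : act 6 n96746 = n190806 := rfl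
theorem F381156 : act 2 n190806 = n131459 := d3_1 D190806 (iv6 F234280) (iv2 F335254)
theorem F381157 : act 7 n190806 = n131453 := d14_2 (iv7 F364466) D190806 (iv6 D131453) (iv7 F106294) (iv6 F234180)
theorem F381158 : act 1 n131458 = n190806 := d15_1 D131458 F381157 F210714
theorem F381159 : act 1 n190806 = n131457 := d15_1 F381158 (iv7 F337044) (iv2 F337048)
def n190807 : Q := act 6 n96788
theorem D190807 : act 6 n96788 = n190807 := rfl
theorem F381160 : act 2 n190807 = n181402 := d3_1 D190807 (iv6 D181402) (iv2 F299905)
theorem F381161 : act 3 n190807 = n121944 := d7_1 D190807 (iv6 F215735) F305837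
theorem F381162 : act 4 n190807 = n98097 := d10_1 D190807 (iv6 D98097) (iv4 F299907)
theorem F381163 : act 5 n190807 = n127211 := d12_1 D190807 (iv6 F330088) (iv5 D103701) D103702 F159152
theorem F381164 : act 7 n190807 = n123753 := d14_2 (iv7 F299908) D190807 (iv6 D123753) F191219 F305230
theorem F381165 : act 0 n190807 = n118122 := d21_4 F106857 (iv1 F307161) F159152 D190807 (iv6 D118122) (iv5 F107272) F205225 F205224 (iv6 F306438) F306434
theorem F381166 : act 0 n101297 = n190807 := d21_4 (iv5 F210341) (iv1 F310909) (iv5 D101296) D101297 (iv6 D190807) (iv5 F159152) F307160 (iv5 F106863) (iv6 F107377) (iv1 F205746)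
theorem F381167 : act 4 n152896 = n182271 := d18_5 D124823 (iv4 F330120) F381166 F381162 (iv5 F308283) (iv0 D182271) (iv4 F338042) (iv0 F240988) (iv5 D124825)
def n190808 : Q := act 5 n96946
theorem D190808 : act 5 n96946 = n190808 := rfl
theorem F381168 : act 2 n190808 = n183221 := d2_1 D190808 (iv5 D183221) (iv2 F149498)
theorem F381169 : act 3 n190808 = n190739 := d6_1 D190808 (iv5 D190739) (iv3 F149499)
theorem F381170 : act 7 n190808 = n190083 := d13_2 F289559 D190808 (iv5 D190083)
theorem F381171 : act 0 n97080 = n190808 := d21_1 (iv5 F149765) (iv5 D190808) (iv6 D96946) (iv1 F71392) D87462 D183224 (iv1 F380436) (iv5 D190643) F370114 (iv1 D185470)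
theorem F381172 : act 1 n190102 = n190808 := d15_0 (iv0 F381171) F149766 D190102
def n190809 : Q := act 5 n96947
theorem D190809 : act 5 n96947 = n190809 := rfl
theorem F381173 : act 2 n190809 = n183216 := d2_1 D190809 (iv5 D183216) (iv2 F149500)
theorem F381174 : act 3 n190809 = n183221 := d6_1 D190809 (iv5 D183221) (iv3 F149501)
theorem F381175 : act 7 n190809 = n190171 := d13_2 F344221 D190809 (iv5 D190171)
theorem F381176 : act 0 n190809 = n97007 := d17_2 (iv1 F289553) D190809 (iv5 F367252) F148138 D96420 F360635 (iv5 D88923) D88922 (iv4 F147372)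
theorem F381177 : act 1 n190809 = n190191 := d17_8 (iv1 D190242) (iv5 F361796) F352561 D144166 F366205 (iv5 D96998) (iv0 F289552) D190809 F379162
def n190810 : Q := act 5 n96948
theorem D190810 : act 5 n96948 = n190810 := rfl
theorem F381178 : act 2 n190810 = n96951 := d2_1 D190810 (iv5 D96951) (iv2 F149502)
theorem F381179 : act 3 n190810 = n97041 := d6_1 D190810 (iv5 D97041) (iv3 F149503)
theorem F381180 : act 7 n190810 = n190484 := d13_2 F149505 D190810 (iv5 D190484)
theorem F381181 : act 1 n190810 = n190485 := d17_6 (iv1 F138779) (iv5 F367559) (iv1 F367562) (iv5 D98334) (iv4 F149504) D190810 F379872 (iv0 F372689) F141527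
theorem F381182 : act 1 n190486 = n190810 := d15_1 D190486 F381180 F379870
theorem F381183 : act 6 n188470 = n189869 := d21_3 D190810 (iv1 F381182) F379879 (iv1 D189869) (iv6 D95350) D95349 D189864 F378822 (iv6 F378823) F149506
theorem F381184 : act 2 n189869 = n190638 := d3_1 F381183 (iv6 F380413) (iv2 F373599)
theorem F381185 : act 3 n189869 = n185470 := d7_1 F381183 (iv6 F370114) (iv3 F373600)
theorem F381186 : act 7 n189869 = n190580 := d14_2 (iv7 F373597) F381183 (iv6 D190580) (iv7 F158924) (iv6 F370985)
theorem F381187 : act 2 n190580 = n189868 := d15_3 (iv0 D189868) D189869 F381186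
theorem F381188 : act 7 n190638 = n189868 := d4_2 (iv7 F381186) F381184 (iv2 F381187)
theorem E103456 : n190639 = n190580 := (c15_2 (iv0 D190638) D190639 (iv7 F381186) F381184)
theorem F381189 : act 0 n190580 = n96292 := (sb E103456 (iv1 D190639))
theorem F381190 : act 1 n190580 = n189863 := (sb E103456 F380420)
theorem F381191 : act 5 n190580 = n190174 := (sb E103456 (iv5 F380421))
theorem F381192 : act 6 n189868 = n103290 := d14_1 F381188 (iv7 F158921) (iv6 F372686) F372687 F380413
def n190811 : Q := act 5 n96949
theorem D190811 : act 5 n96949 = n190811 := rfl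
theorem F381193 : act 2 n190811 = n190483 := d2_1 D190811 (iv5 D190483) F270444
theorem F381194 : act 3 n190811 = n190748 := d6_1 D190811 (iv5 D190748) (iv3 F149508)
theorem F381195 : act 7 n190811 = n190482 := d13_2 F270447 D190811 (iv5 D190482)
theorem F381196 : act 0 n190811 = n190498 := d17_2 D96949 D190811 F379917 F287716 D185476 (iv0 F287737) (iv5 D98988) F72954 (iv4 F71405)
theorem F381197 : act 1 n190811 = n188471 := d15_1 (iv0 F381196) F373602 D190498
theorem F381198 : act 0 n189119 = n188221 := d17_2 F367113 (iv5 F375815) F372721 F295340 D190811 F381197 (iv5 D188471) D188470 (iv4 F373598)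
def n190812 : Q := act 6 n96949
theorem D190812 : act 6 n96949 = n190812 := rfl
theorem F381199 : act 2 n190812 = n190178 := d3_1 D190812 (iv6 F379044) F270444
theorem F381200 : act 3 n190812 = n190749 := d7_1 D190812 (iv6 D190749) (iv3 F149508)
theorem F381201 : act 4 n190812 = n189034 := d10_1 D190812 F375507 F295340
theorem F381202 : act 0 n103345 = n190812 := d21_4 F329647 F81522 D111966 (iv6 F358521) (iv6 D190812) D190811 F381196 F379917 (iv6 D185453) (iv1 F289640)
theorem F381203 : act 1 n184399 = n190812 := d15_0 (iv0 F381202) (iv7 F292163) (iv2 F340551)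
theorem F381204 : act 0 n184202 = n104715 := d21_4 (iv5 F340550) (iv1 F358500) F358499 D184202 (iv6 F294096) D188471 (iv1 F381197) (iv5 D190811) D190812 (iv1 F381203)
theorem E103457 : n190101 = n190083 := (c21_2 F160403 D190101 (iv5 D190083) (iv6 F344217) (iv1 F149588) (iv6 F340539) (iv5 F340550) (iv1 F358500) F358499 D184202 F381204)
theorem F381205 : act 1 n190083 = n95625 := (sb E103457 (iv0 D190101))
theorem F381206 : act 7 n190177 = n190812 := d15_2 F379041 F379039 F381199
def n190813 : Q := act 5 n96950
theorem D190813 : act 5 n96950 = n190813 := rfl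
theorem F381207 : act 2 n190813 = n190482 := d2_1 D190813 (iv5 D190482) (iv2 F270445)
theorem F381208 : act 3 n190813 = n183234 := d6_1 D190813 (iv5 D183234) F268363
theorem F381209 : act 7 n190813 = n190483 := d13_2 (iv7 F270443) D190813 (iv5 D190483)
theorem F381210 : act 0 n190813 = n188471 := d17_2 (iv1 F149510) D190813 (iv5 D188471) F141527 D92040 (iv0 F294376) (iv5 D88971) D88969 (iv4 F147666)
theorem F381211 : act 1 n190813 = n190498 := d15_0 (iv0 F381196) F381195 (iv2 F381207)
def n190814 : Q := act 6 n96950
theorem D190814 : act 6 n96950 = n190814 := rfl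
theorem F381212 : act 2 n190814 = n190090 := d3_1 D190814 (iv6 F378823) (iv2 F270445)
theorem F381213 : act 3 n190814 = n183235 := d7_1 D190814 (iv6 D183235) F268363
theorem F381214 : act 0 n190814 = n155737 := d21_4 (iv5 F379917) (iv1 F381211) (iv5 D190813) D190814 (iv6 D155737) (iv5 D74086) D74083 (iv5 F329975) (iv6 F372686) F372688
theorem F381215 : act 5 n190686 = n190814 := d21_2 D189862 (iv1 F380588) (iv6 D190814) (iv1 D96950) (iv6 D45325) (iv5 F70629) (iv1 F147941) (iv5 D96200) D96201 F289590
theorem F381216 : act 1 n190814 = n190085 := d17_8 (iv1 D186642) (iv5 F153699) F156187 (iv5 D48257) (iv4 F70778) D96388 D190686 F381215 F378814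
theorem F381217 : act 7 n190091 = n190814 := d15_2 (iv0 D190090) D190091 F381212
theorem F381218 : act 3 n112028 = n190091 := d8_3 F381217 F381213 F358518
theorem F381219 : act 5 n189865 = n190091 := d13_3 F381217 (iv5 F381215) F380589
def n190815 : Q := act 0 n96951
theorem D190815 : act 0 n96951 = n190815 := rfl
theorem F381220 : act 5 n190815 = n185458 := d21_2 D96951 D190815 F380413 (iv1 F380412) (iv6 D189863) D189862 (iv1 F380588) F381215 (iv6 D190814) (iv1 D96950)
theorem F381221 : act 1 n190484 = n190815 := d15_0 (iv0 D190815) F149512 (iv2 F379870)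
theorem F381222 : act 0 n186441 = n146942 := d17_2 (iv1 D186440) D186441 (iv5 F370937) F370936 (iv5 F381220) (iv0 D190815) (iv5 D96951) D96950 F289238
theorem F381223 : act 2 n190486 = n190815 := d2_3 F381220 (iv2 F373599) (iv5 F379879)
theorem F381224 : act 7 n190485 = n190815 := d13_0 F381220 (iv7 F372687) (iv5 F379872)
def n190816 : Q := act 1 n96951
theorem D190816 : act 1 n96951 = n190816 := rfl
theorem F381225 : act 1 n190816 = n190484 := d15_1 D190816 (iv7 F381180) F381178
theorem F381226 : act 7 n190816 = n190486 := d15_2 (iv0 D190815) D190816 F381223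
theorem F381227 : act 5 n190816 = n185459 := d17_7 (iv1 D90211) (iv5 F294040) F140420 (iv5 D86937) (iv4 F71405) D96951 D190816 F357387 F287916
theorem F381228 : act 2 n190485 = n190816 := d2_3 F381227 (iv2 F372684) (iv5 F379872)
theorem F381229 : act 3 n183237 = n190816 := d6_3 F381227 (iv3 F370984) F367090
theorem F381230 : act 6 n178877 = n190816 := d12_0 F381227 F370985 F329965 (iv6 F155446) (iv5 F278746)
def n190817 : Q := act 4 n96951
theorem D190817 : act 4 n96951 = n190817 := rfl
theorem F381231 : act 7 n190817 = n190487 := d11_2 (iv7 F149512) D190817 (iv4 D190487)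
theorem F381232 : act 1 n190817 = n185638 := d18_6 (iv1 D91849) (iv4 F294112) F66332 (iv4 F71405) D96951 D190817 (iv4 D185638) D185637 F335376
def n190818 : Q := act 5 n96959
theorem D190818 : act 5 n96959 = n190818 := rfl
theorem F381233 : act 2 n190818 = n190029 := d2_1 D190818 (iv5 D190029) (iv2 F149540)
theorem F381234 : act 3 n190818 = n96962 := d6_1 D190818 (iv5 D96962) (iv3 F149541)
def n190819 : Q := act 0 n96964
theorem D190819 : act 0 n96964 = n190819 := rfl
theorem F381235 : act 5 n190819 = n104297 := d17_3 (iv1 F142185) D96964 D190819 F367170 F288167 (iv0 D92439) (iv5 D43233) D43232 D92436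
theorem F381236 : act 2 n96977 = n190819 := d15_3 (iv0 D190819) (iv0 F377930) F377929
theorem F381237 : act 7 n190819 = n96978 := d4_2 F377929 F381236 (iv2 F377927)
theorem F381238 : act 1 n96980 = n190819 := d15_1 F377931 F381237 (iv2 F377927)
def n190820 : Q := act 7 n96964
theorem D190820 : act 7 n96964 = n190820 := rfl
theorem F381239 : act 2 n190820 = n96980 := d4_1 D190820 (iv7 D96980) (iv2 F149551)
theorem F381240 : act 3 n190820 = n190093 := d8_1 D190820 F378831 (iv3 F149552)
theorem F381241 : act 5 n190820 = n96965 := d13_1 D190820 (iv7 D96965) D96964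
theorem F381242 : act 1 n96978 = n190820 := d15_1 D96978 (iv7 D190820) F149551
theorem F381243 : act 1 n190820 = n96977 := d15_1 F381242 (iv7 F377929) F377927
def n190821 : Q := act 5 n96966
theorem D190821 : act 5 n96966 = n190821 := rfl
theorem F381244 : act 2 n190821 = n164425 := d2_1 D190821 (iv5 D164425) F178260
theorem F381245 : act 3 n190821 = n190030 := d6_1 D190821 (iv5 D190030) (iv3 F290503)
theorem F381246 : act 7 n190821 = n164402 := d13_2 F290512 D190821 (iv5 D164402)
theorem F381247 : act 4 n190821 = n159816 := d16_2 (iv4 F290504) D190821 (iv5 D159816) F114618 (iv5 F94471) (iv4 F114628) F83309 (iv7 F178250) (iv2 F290496)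
def n190822 : Q := act 5 n96967
theorem D190822 : act 5 n96967 = n190822 := rfl
theorem F381248 : act 2 n190822 = n164402 := d2_1 D190822 (iv5 D164402) F290511
theorem F381249 : act 4 n190822 = n159814 := d9_1 D190822 (iv5 D159814) (iv4 F114625) D90118 (iv4 F290508) (iv5 D114150) (iv4 F290504) D190821 F381247 (iv5 D159816) F114618 (iv5 F94471) (iv4 F114628) F83309 (iv4 F149559)
theorem F381250 : act 7 n190822 = n164425 := d13_2 (iv7 F178259) D190822 (iv5 D164425)
def n190823 : Q := act 6 n96967
theorem D190823 : act 6 n96967 = n190823 := rfl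
theorem F381251 : act 2 n190823 = n164403 := d3_1 D190823 (iv6 D164403) F290511
theorem F381252 : act 4 n190823 = n114174 := d10_1 D190823 (iv6 D114174) (iv4 F149559)
theorem F381253 : act 5 n133419 = n190823 := d21_2 (iv5 D133421) D133419 (iv6 D190823) (iv1 D96967) (iv6 D45333) (iv5 D21614) D21611 (iv5 F70616) D96223 F350602
def n190824 : Q := act 0 n96971
theorem D190824 : act 0 n96971 = n190824 := rfl
theorem F381254 : act 5 n190824 = n187906 := d17_3 D45334 D96971 D190824 F371800 D187907 (iv0 F371807) (iv5 D93854) (iv0 D43871) (iv4 F34026)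
theorem F381255 : act 2 n187910 = n190824 := d15_3 (iv0 D190824) (iv0 F370149) (iv7 F371825)
theorem F381256 : act 1 n96975 = n190824 := d15_0 (iv0 D190824) (iv7 F373882) F373880
theorem F381257 : act 3 n190824 = n190096 := d0_2 (iv3 F371824) F381255 (iv2 F378847) F158640 F147366
theorem F381258 : act 6 n144063 = n190824 := d12_0 F381254 (iv6 D187906) (iv5 F350543) (iv6 F175779) (iv5 F226773)
def n190825 : Q := act 4 n96971
theorem D190825 : act 4 n96971 = n190825 := rfl
theorem F381259 : act 0 n190825 = n187340 := d18_2 F370149 D190825 (iv4 D187340) F138060 (iv4 F135505) (iv0 F288038) F288034 F292373 D104299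
def n190826 : Q := act 6 n96971
theorem D190826 : act 6 n96971 = n190826 := rfl
theorem F381260 : act 3 n190826 = n190040 := d7_1 D190826 (iv6 D190040) (iv3 F149568)
def n190827 : Q := act 5 n96974
theorem D190827 : act 5 n96974 = n190827 := rfl
theorem F381261 : act 2 n190827 = n190041 := d2_1 D190827 (iv5 D190041) (iv2 F149572)
theorem F381262 : act 3 n190827 = n96975 := d6_1 D190827 (iv5 D96975) D96974
def n190828 : Q := act 6 n96974
theorem D190828 : act 6 n96974 = n190828 := rfl
theorem F381263 : act 2 n190828 = n190042 := d3_1 D190828 (iv6 D190042) (iv2 F149572)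
theorem F381264 : act 3 n190828 = n96976 := d7_1 D190828 (iv6 D96976) D96974
theorem F381265 : act 4 n190828 = n190042 := d10_1 D190828 (iv6 D190042) (iv4 F149573)
theorem F381266 : act 0 n190749 = n190828 := d20_1 (iv4 F380905) F381265 F378633 F345200 (iv3 D89934) (iv4 D42024) (iv1 F292803) D41058 D87936 (iv1 F343055)
theorem F381267 : act 0 n189961 = n190042 := d20_1 (iv4 F378378) (iv4 F381265) F381264 F367119 (iv3 D91286) (iv4 D42726) (iv1 F32033) D42753 D91355 F350172
theorem F381268 : act 7 n190496 = n190828 := d15_2 (iv0 F381267) (iv0 F379908) F381263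
def n190829 : Q := act 4 n96975
theorem D190829 : act 4 n96975 = n190829 := rfl
theorem F381269 : act 1 n190829 = n187340 := d18_6 (iv1 D89898) (iv4 F67736) (iv1 F142164) F142166 D96975 D190829 (iv4 D187340) (iv0 F369820) (iv5 D187317)
def n190830 : Q := act 6 n96975
theorem D190830 : act 6 n96975 = n190830 := rfl
def n190831 : Q := act 4 n96977
theorem D190831 : act 4 n96977 = n190831 := rfl
theorem F381270 : act 0 n190831 = n187321 := d18_2 D96977 D190831 (iv4 D187321) (iv5 D89900) (iv4 F67736) (iv0 F142163) F142162 (iv0 D45334) D45336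
theorem F381271 : act 1 n190831 = n187215 := d18_6 F178369 (iv4 F288211) (iv1 F288215) (iv4 F370165) (iv5 F370169) D190831 F369542 F369828 F369827
def n190832 : Q := act 6 n96977
theorem D190832 : act 6 n96977 = n190832 := rfl
theorem F381272 : act 3 n190832 = n190044 := d7_1 D190832 (iv6 D190044) (iv3 F259056)
def n190833 : Q := act 3 n96978
theorem D190833 : act 3 n96978 = n190833 := rfl
theorem F381273 : act 2 n190833 = n190045 := d0_1 D190833 (iv3 D190045) F251885 (iv3 F377928) F377927
def n190834 : Q := act 4 n96978
theorem D190834 : act 4 n96978 = n190834 := rfl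
theorem F381274 : act 0 n190834 = n187215 := d18_2 (iv1 F381242) D190834 F369542 (iv5 D97157) F71646 D92428 F142166 F149557 (iv5 F381241)
theorem F381275 : act 1 n190834 = n187321 := d18_6 (iv1 D104697) (iv4 F135487) F161695 F371820 F371823 D190834 (iv4 D187321) D187320 F369833
def n190835 : Q := act 6 n96978
theorem D190835 : act 6 n96978 = n190835 := rfl
theorem F381276 : act 5 n190835 = n128861 := d12_1 D190835 F347469 (iv5 F347473) F371821 F371823
theorem F381277 : act 4 n144102 = n190835 := d16_0 F381276 (iv4 D128861) (iv5 D60597) F46417 (iv5 F41228) (iv4 F85016) D116974 (iv7 F214438) (iv2 F226818)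
theorem F381278 : act 0 n174670 = n190835 := d21_7 (iv5 D187291) D187289 F369715 D189838 F377936 F326390 D174670 F381276 F347469 F369731
theorem F381279 : act 6 n190834 = n144102 := d10_0 F381277 (iv6 D190835) D190834
theorem F381280 : act 7 n190835 = n144101 := d11_2 D144102 F381277 (iv4 D144101)
def n190836 : Q := act 0 n96979
theorem D190836 : act 0 n96979 = n190836 := rfl
theorem F381281 : act 4 n190836 = n97165 := d18_3 (iv1 D96978) D96979 D190836 F251681 F251680 (iv0 D90664) (iv4 F139576) D187909 F371823
def n190837 : Q := act 1 n96979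
theorem D190837 : act 1 n96979 = n190837 := rfl
theorem F381282 : act 4 n190837 = n97166 := d18_7 (iv1 F138033) F138034 (iv1 D43872) (iv4 F34026) D45336 D96979 D190837 (iv0 F369825) (iv5 D187318)
def n190838 : Q := act 3 n96979
theorem D190838 : act 3 n96979 = n190838 := rfl
theorem F381283 : act 4 n190838 = n97013 := d5_2 D96979 D190838 (iv3 D97013) (iv4 D45350) (iv3 F71432)
def n190839 : Q := act 5 n96979
theorem D190839 : act 5 n96979 = n190839 := rfl
theorem F381284 : act 2 n190839 = n187322 := d2_1 D190839 (iv5 F379286) F379283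
theorem F381285 : act 6 n190839 = n187318 := d12_2 (iv6 F379247) D190839 (iv5 D187318) (iv6 F147480) (iv5 F379244)
theorem F381286 : act 4 n190839 = n190038 := d16_2 D96979 D190839 F378628 (iv4 F193566) F193567 (iv4 F149555) (iv5 F381241) (iv7 D190820) F149551
theorem F381287 : act 7 n190037 = n190839 := d11_0 F381286 (iv7 D190038) D190037
def n190840 : Q := act 7 n96979
theorem D190840 : act 7 n96979 = n190840 := rfl
theorem F381288 : act 4 n190840 = n96980 := d11_1 D190840 (iv7 D96980) D96979
theorem F381289 : act 5 n190840 = n190037 := d13_1 D190840 F381287 (iv5 D190839)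
def n190841 : Q := act 6 n96980
theorem D190841 : act 6 n96980 = n190841 := rfl
theorem F381290 : act 3 n190841 = n97016 := d7_1 D190841 (iv6 D97016) (iv3 F149574)
theorem F381291 : act 5 n190841 = n187215 := d12_1 D190841 (iv6 D187215) (iv5 D89819) (iv6 F71435) (iv5 F149575)
def n190842 : Q := act 0 n96982
theorem D190842 : act 0 n96982 = n190842 := rfl
theorem F381292 : act 2 n190144 = n190842 := d15_3 (iv0 D190842) (iv0 F354567) (iv7 F378971)
theorem F381293 : act 1 n190145 = n190842 := d15_0 (iv0 D190842) (iv7 F347833) D190145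
theorem F381294 : act 6 n190842 = n190061 := d3_2 F378973 F381292 (iv2 F378741)
theorem F381295 : act 7 n190842 = n183213 := d4_2 (iv7 F378971) F381292 (iv2 F286121)
theorem F381296 : act 1 n184193 = n190145 := d15_0 F381293 F381295 (iv2 F286121)
def n190843 : Q := act 2 n96982
theorem D190843 : act 2 n96982 = n190843 := rfl
theorem F381297 : act 3 n190843 = n97047 := d0_2 D96982 D190843 (iv2 F366339) (iv3 D95659) (iv2 F321367)
theorem F381298 : act 7 n190843 = n190145 := d4_2 F347833 D190843 (iv2 D190145)
theorem F381299 : act 1 n190843 = n183213 := d15_0 (iv0 F364028) F347833 D190843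
theorem F381300 : act 1 n190144 = n190843 := d15_0 F381299 (iv7 F381295) (iv2 F381292)
def n190844 : Q := act 5 n96982
theorem D190844 : act 5 n96982 = n190844 := rfl
theorem F381301 : act 3 n190844 = n96984 := d6_1 D190844 (iv5 D96984) D96982
theorem F381302 : act 7 n190844 = n190146 := d13_2 F347833 D190844 (iv5 D190146)
def n190845 : Q := act 0 n96984
theorem D190845 : act 0 n96984 = n190845 := rfl
theorem F381303 : act 5 n190845 = n190622 := d17_3 D45338 D96984 D190845 F380336 F340995 (iv0 D61752) (iv5 F49891) F314767 F59965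
theorem F381304 : act 1 n96989 = n190845 := d15_0 (iv0 D190845) F366194 (iv2 F366195)
theorem F381305 : act 2 n190140 = n190845 := d2_3 F381303 F380335 (iv5 F378958)
theorem F381306 : act 7 n190141 = n190845 := d13_0 F381303 F380337 F378961
def n190846 : Q := act 1 n96984
theorem D190846 : act 1 n96984 = n190846 := rfl
theorem F381307 : act 1 n190846 = n96989 := d15_1 D190846 (iv7 F366337) (iv2 F366338)
theorem F381308 : act 7 n190846 = n190140 := d15_2 (iv0 D190845) D190846 F381305
theorem F381309 : act 5 n190846 = n190626 := d17_7 F248118 (iv5 D157469) (iv1 D74919) (iv5 F104996) F319343 D96984 D190846 F380358 F378291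
theorem F381310 : act 2 n190141 = n190846 := d2_3 F381309 F380362 F378961
theorem F381311 : act 6 n190846 = n190182 := d21_3 (iv5 F378292) (iv1 F380358) (iv5 F381309) (iv1 D190182) (iv6 D95684) (iv5 D44690) (iv1 D21280) D21281 (iv6 F70258) D95668
def n190847 : Q := act 6 n96984
theorem D190847 : act 6 n96984 = n190847 := rfl
theorem F381312 : act 2 n190847 = n190143 := d3_1 D190847 (iv6 D190143) (iv2 F366338)
theorem F381313 : act 5 n190847 = n174679 := d12_1 D190847 (iv6 F362492) F320061 F319344 D96984
theorem F381314 : act 0 n190847 = n174707 := d21_10 (iv5 F303296) (iv1 F358724) (iv5 F149622) (iv6 D97010) (iv1 D45349) (iv6 F71438) (iv5 D45340) D45338 D96984 D190847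
def n190848 : Q := act 1 n96987
theorem D190848 : act 1 n96987 = n190848 := rfl
theorem F381315 : act 7 n190848 = n97043 := d15_2 (iv0 F338150) D190848 F149701
theorem F381316 : act 3 n159836 = n190848 := d20_3 (iv4 F251678) (iv1 F193578) (iv4 F251962) (iv1 D190848) (iv3 D96987) (iv4 F338151) (iv1 D81585) F58240 (iv3 F70330) D95794
theorem F381317 : act 2 n190848 = n97050 := d0_1 F381316 F149716 F71527 (iv3 F147241) (iv2 F251961)
theorem F381318 : act 4 n190848 = n154358 := d5_2 (iv4 F251962) F381316 (iv3 F368361) F144687 (iv3 F144679)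
theorem F381319 : act 6 n190848 = n190064 := d7_2 (iv6 F251963) F381316 (iv3 F378753)
theorem F381320 : act 1 n190848 = n97047 := d15_0 (iv0 D97047) D97050 (iv2 F381317)
def n190849 : Q := act 2 n96987
theorem D190849 : act 2 n96987 = n190849 := rfl
theorem F381321 : act 3 n190849 = n190145 := d0_2 D96987 D190849 (iv2 D190145) (iv3 D95664) F322991
theorem F381322 : act 7 n190849 = n97047 := d4_2 F366336 D190849 (iv2 F366339)
theorem F381323 : act 1 n190849 = n97050 := d15_0 (iv0 F366340) F366336 D190849
theorem F381324 : act 1 n97043 = n190849 := d15_0 F381323 (iv7 D97050) (iv2 F149701)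
def n190850 : Q := act 4 n96987
theorem D190850 : act 4 n96987 = n190850 := rfl
theorem F381325 : act 6 n190850 = n134337 := d10_2 F368713 D190850 (iv4 F368711)
theorem F381326 : act 7 n190850 = n190138 := d11_2 F366336 D190850 (iv4 D190138)
theorem F381327 : act 0 n190850 = n122693 := d20_1 D190850 (iv4 F367871) (iv3 F368383) F379250 (iv3 D190266) (iv4 F251678) (iv1 F193578) (iv4 F251962) F381316 (iv1 D190848)
theorem F381328 : act 5 n190850 = n187092 := d21_6 F64459 F62995 (iv5 F72581) D98332 (iv1 F354732) (iv6 F381325) (iv1 D187092) (iv5 D89534) (iv6 D41804) D41801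
def n190851 : Q := act 5 n96987
theorem D190851 : act 5 n96987 = n190851 := rfl
theorem F381329 : act 3 n190851 = n96989 := d6_1 D190851 (iv5 D96989) D96987
theorem F381330 : act 7 n190851 = n190139 := d13_2 F366336 D190851 (iv5 D190139)
def n190852 : Q := act 4 n96989
theorem D190852 : act 4 n96989 = n190852 := rfl
theorem F381331 : act 2 n190852 = n190147 := d1_1 D190852 (iv4 D190147) (iv2 F366195)
theorem F381332 : act 7 n190852 = n190142 := d11_2 F366337 D190852 (iv4 D190142)
theorem F381333 : act 0 n190852 = n145479 := d17_0 (iv5 D145479) D145477 (iv5 F378998) (iv4 D190155) (iv5 F148057) D190626 (iv5 F381309) F381307 D190852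
def n190853 : Q := act 6 n96989
theorem D190853 : act 6 n96989 = n190853 := rfl
theorem F381334 : act 2 n190853 = n190148 := d3_1 D190853 (iv6 D190148) (iv2 F366195)
theorem F381335 : act 0 n190165 = n190853 := d21_4 F291778 (iv1 F291208) (iv5 F147369) D190165 (iv6 D190853) (iv5 D96989) (iv1 D45339) D45340 F71438 D45348
def n190854 : Q := act 5 n96990
theorem D190854 : act 5 n96990 = n190854 := rfl
theorem F381336 : act 2 n190854 = n190150 := d2_1 D190854 (iv5 D190150) (iv2 F347837)
theorem F381337 : act 4 n190854 = n189441 := d16_2 (iv4 F338159) D190854 F376610 (iv4 D120450) (iv5 D55451) F43072 D26803 D55532 (iv2 F192113)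
theorem F381338 : act 0 n190854 = n190615 := d17_2 (iv1 F347839) D190854 (iv5 D190615) F334523 (iv5 F310949) F235620 F235618 F204854 (iv4 F259443)
theorem F381339 : act 1 n190854 = n190614 := d17_6 F312747 (iv5 F312754) (iv1 F87807) (iv5 F192115) (iv4 F338159) D190854 (iv5 D190614) (iv0 D96242) (iv4 F125279)
theorem E103458 : n190356 = n176924 := (c20_5 F381337 (iv1 F376612) (iv4 D95936) (iv3 F147582) D190356 F276277 F291635 D94416 F377606 (iv3 F380292) (iv1 F381339))
theorem F381340 : act 1 n176924 = n95931 := (sb E103458 (iv0 D190356))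
def n190855 : Q := act 3 n96991
theorem D190855 : act 3 n96991 = n190855 := rfl
theorem F381341 : act 7 n190855 = n190154 := d8_2 (iv7 F364157) D190855 (iv3 D190154)
theorem F381342 : act 4 n190855 = n190110 := d20_6 F259094 (iv1 F379246) F379243 F149560 D96991 D190855 (iv1 D190110) (iv4 F378636) (iv3 D190047) (iv1 F259092)
def n190856 : Q := act 6 n96991
theorem D190856 : act 6 n96991 = n190856 := rfl
theorem F381343 : act 2 n190856 = n190153 := d3_1 D190856 (iv6 D190153) (iv2 F364159)
theorem F381344 : act 5 n190856 = n103362 := d21_6 (iv5 D45346) (iv1 D21618) D21619 (iv6 F71438) D96991 D190856 (iv1 D103362) D103363 F158648 (iv1 F75220)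
def n190857 : Q := act 0 n96993
theorem D190857 : act 0 n96993 = n190857 := rfl
theorem F381345 : act 5 n190857 = n139786 := d17_1 D190857 F366108 D145364 F378962 (iv5 F378961) F380368 F380366 (iv0 D96991) D96993
theorem F381346 : act 4 n190857 = n97137 := d18_3 (iv1 D96992) D96993 D190857 (iv5 F380995) F380996 (iv0 D170432) (iv4 F267893) (iv0 F378287) F149580
theorem F381347 : act 2 n190157 = n190857 := d1_3 F381346 F290437 (iv4 F379281)
theorem F381348 : act 7 n190158 = n190857 := d11_0 F381346 F290435 (iv4 F379003)
theorem F381349 : act 1 n190161 = n190857 := d18_6 D45397 (iv4 F317684) D67888 (iv4 F317478) (iv5 F147359) (iv4 F379009) F381346 (iv0 D97137) (iv5 D45399)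
theorem F381350 : act 3 n190857 = n144490 := d8_1 F381348 F227333 (iv3 F379005)
def n190858 : Q := act 1 n96993
theorem D190858 : act 1 n96993 = n190858 := rfl
theorem F381351 : act 1 n190858 = n190161 := d15_1 D190858 (iv7 D190161) (iv2 F149581)
theorem F381352 : act 7 n190858 = n190157 := d15_2 (iv0 D190857) D190858 F381347
theorem F381353 : act 4 n190858 = n97138 := d18_7 (iv1 F71607) (iv4 F321177) (iv1 D84410) F59965 D45340 D96993 D190858 F149861 F147502
theorem F381354 : act 2 n190158 = n190858 := d1_3 F381353 (iv2 F290434) (iv4 F379003)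
theorem F381355 : act 5 n145362 = n190858 := d9_0 F381353 (iv5 F149862) F341007 F341006 (iv4 F309651) (iv5 F311273) D139786 (iv5 F381345) F381346 (iv5 F380995) F380996 F276548 (iv4 F350137) (iv5 D145492) (iv4 F366101)
def n190859 : Q := act 3 n96993
theorem D190859 : act 3 n96993 = n190859 := rfl
theorem F381356 : act 6 n190859 = n97013 := d7_2 (iv6 F149582) D190859 (iv3 D97013)
def n190860 : Q := act 5 n96993
theorem D190860 : act 5 n96993 = n190860 := rfl
theorem F381357 : act 2 n190860 = n190160 := d2_1 D190860 (iv5 D190160) (iv2 F149581)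
theorem F381358 : act 6 n190860 = n107286 := d21_3 F381355 (iv1 D190858) D190860 (iv1 D107286) (iv6 D49571) (iv5 F37961) D49657 F166889 D68156 D145362
def n190861 : Q := act 7 n96993
theorem D190861 : act 7 n96993 = n190861 := rfl
theorem F381359 : act 2 n190861 = n190161 := d4_1 D190861 (iv7 D190161) (iv2 F149581)
theorem F381360 : act 4 n190861 = n96994 := d11_1 D190861 (iv7 D96994) D96993
theorem F381361 : act 1 n190158 = n190861 := d15_1 D190158 (iv7 D190861) F149581
theorem F381362 : act 1 n190861 = n190157 := d15_1 F381361 (iv7 F381352) (iv2 F381354)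
def n190862 : Q := act 6 n96994
theorem D190862 : act 6 n96994 = n190862 := rfl
theorem F381363 : act 2 n190862 = n190162 := d3_1 D190862 (iv6 D190162) (iv2 F149583)
theorem F381364 : act 5 n190862 = n187220 := d12_1 D190862 F369546 F147279 (iv6 F71440) (iv5 F149584)
theorem F381365 : act 7 n190862 = n97016 := d14_2 D96994 D190862 (iv6 D97016) (iv7 D45351) (iv6 F71438)
theorem F381366 : act 1 n190200 = n190862 := d15_1 D190200 F381365 F149639
theorem F381367 : act 1 n190862 = n190199 := d15_0 (iv0 D190199) (iv7 F379012) (iv2 F381363)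
def n190863 : Q := act 5 n96995
theorem D190863 : act 5 n96995 = n190863 := rfl
theorem F381368 : act 2 n190863 = n190171 := d2_1 D190863 (iv5 D190171) (iv2 F344219)
theorem F381369 : act 7 n190863 = n183216 := d13_2 (iv7 F344218) D190863 (iv5 D183216)
theorem F381370 : act 0 n190863 = n190191 := d17_2 D96995 D190863 F379050 F378035 F360605 F360633 F285099 F136474 F136473
theorem F381371 : act 1 n190863 = n97007 := d15_1 (iv0 F381370) F149616 D190191
def n190864 : Q := act 5 n96997
theorem D190864 : act 5 n96997 = n190864 := rfl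
theorem F381372 : act 2 n190864 = n96998 := d2_1 D190864 (iv5 D96998) D96997
theorem F381373 : act 3 n190864 = n97051 := d6_1 D190864 (iv5 D97051) (iv3 F149589)
theorem F381374 : act 6 n190864 = n109363 := d12_2 F340555 D190864 F169365 (iv6 F81582) (iv5 F174134)
theorem F381375 : act 7 n190864 = n190172 := d13_2 (iv7 F149591) D190864 (iv5 D190172)
theorem F381376 : act 1 n190864 = n190173 := d17_6 D96417 (iv5 F346302) F353234 (iv5 D183385) (iv4 F149590) D190864 F380414 (iv0 D190638) F148138
theorem F381377 : act 0 n190864 = n190174 := d21_1 D190864 (iv5 F381191) (iv6 D190580) (iv1 D96206) (iv6 D44918) (iv5 F70193) (iv1 F134271) (iv5 D87457) D87458 (iv1 F289532)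
def n190865 : Q := act 0 n96998
theorem D190865 : act 0 n96998 = n190865 := rfl
theorem F381378 : act 5 n190865 = n189868 := d21_2 D96998 D190865 F381192 (iv1 F158520) (iv6 D96204) (iv5 F147245) (iv1 F147248) F134843 D96947 F289552
theorem F381379 : act 1 n190172 = n190865 := d15_0 (iv0 D190865) F149596 (iv2 F379033)
theorem F381380 : act 2 n190174 = n190865 := d2_3 F381378 (iv2 F381187) F381191
theorem F381381 : act 7 n190173 = n190865 := d13_0 F381378 (iv7 F381188) (iv5 F380414)
def n190866 : Q := act 1 n96998
theorem D190866 : act 1 n96998 = n190866 := rfl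
theorem F381382 : act 1 n190866 = n190172 := d15_1 D190866 (iv7 F381375) F381372
theorem F381383 : act 7 n190866 = n190174 := d15_2 (iv0 D190865) D190866 F381380
theorem F381384 : act 5 n190866 = n189869 := d17_7 F293556 F346304 D146807 F356598 F136473 D96998 D190866 F380422 F380416
theorem F381385 : act 2 n190173 = n190866 := d2_3 F381384 F381184 (iv5 F380414)
theorem F381386 : act 3 n190087 = n190866 := d6_3 F381384 F381185 F380581
def n190867 : Q := act 6 n96998
theorem D190867 : act 6 n96998 = n190867 := rfl
theorem F381387 : act 2 n190867 = n109363 := d3_1 D190867 (iv6 F381374) F381372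
theorem F381388 : act 3 n190867 = n97001 := d7_1 D190867 (iv6 D97001) (iv3 F149595)
theorem F381389 : act 5 n190867 = n109263 := d12_1 D190867 (iv6 F328685) F149599 (iv6 D96999) D96998
theorem F381390 : act 7 n109262 = n190867 := d13_0 F381389 (iv7 D109263) D109262
theorem F381391 : act 0 n109360 = n190867 := d17_2 D50684 (iv5 F173734) F381389 F169232 (iv5 F83910) (iv0 F83913) F80034 (iv0 D24680) (iv4 F38674)
theorem F381392 : act 1 n109361 = n190867 := d17_6 (iv1 F170698) (iv5 F203301) (iv1 F203302) (iv5 F173178) F170706 (iv5 F169865) F381389 F169236 D109352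
def n190868 : Q := act 3 n97000
theorem D190868 : act 3 n97000 = n190868 := rfl
theorem F381393 : act 7 n190868 = n190179 := d8_2 (iv7 F149601) D190868 (iv3 D190179)
def n190869 : Q := act 6 n97000
theorem D190869 : act 6 n97000 = n190869 := rfl
theorem F381394 : act 2 n190869 = n190167 := d3_1 D190869 (iv6 D190167) (iv2 F149600)
theorem F381395 : act 4 n190869 = n97001 := d10_1 D190869 (iv6 D97001) D97000
def n190870 : Q := act 0 n97001
theorem D190870 : act 0 n97001 = n190870 := rfl
theorem F381396 : act 5 n190870 = n166697 := d21_2 (iv5 F149603) D190870 F362523 (iv1 D83291) F59228 D75289 D158060 F348783 F358104 (iv1 F326719)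
theorem F381397 : act 6 n190870 = n174707 := d21_5 (iv5 D21619) D21617 D45343 D97001 D190870 (iv5 F303296) (iv1 F358724) (iv5 F149622) (iv6 D97010) (iv1 D45349)
theorem F381398 : act 3 n174708 = n190870 := d7_3 F381397 (iv3 D174707) D174708
theorem F381399 : act 2 n190168 = n190870 := d2_3 F381396 F362520 (iv5 F379023)
theorem F381400 : act 7 n190169 = n190870 := d13_0 F381396 F362524 (iv5 F379024)
theorem F381401 : act 1 n163267 = n190870 := d17_6 (iv1 F358444) (iv5 F358111) (iv1 F358088) (iv5 D158871) (iv4 F119667) D163267 F381396 F262378 F248969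
def n190871 : Q := act 1 n97001
theorem D190871 : act 1 n97001 = n190871 := rfl
theorem F381402 : act 1 n190871 = n163267 := d15_1 D190871 (iv7 F326725) (iv2 F149602)
theorem F381403 : act 7 n190871 = n190168 := d15_2 (iv0 D190870) D190871 F381399
theorem F381404 : act 5 n190871 = n104823 := d17_7 (iv1 F358090) F358092 F354478 (iv5 D176733) (iv4 F326721) (iv5 F149603) D190871 F362516 F122811
theorem F381405 : act 2 n190169 = n190871 := d2_3 F381404 F160672 (iv5 F379024)
def n190872 : Q := act 7 n97001
theorem D190872 : act 7 n97001 = n190872 := rfl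
theorem F381406 : act 2 n190872 = n163267 := d4_1 D190872 (iv7 F326725) (iv2 F149602)
theorem F381407 : act 3 n190872 = n109262 := d8_1 D190872 F381390 F381388
theorem F381408 : act 5 n190872 = n109258 := d13_1 D190872 F328212 (iv5 F149603)
theorem F381409 : act 6 n190872 = n190183 := d14_1 D190872 (iv7 D190183) (iv6 D95684) (iv7 F71446) D97001
theorem F381410 : act 1 n190169 = n190872 := d15_1 D190169 (iv7 D190872) F149602
theorem F381411 : act 1 n190872 = n190168 := d15_1 F381410 (iv7 F381403) (iv2 F381405)
def n190873 : Q := act 1 n97002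
theorem D190873 : act 1 n97002 = n190873 := rfl
theorem F381412 : act 1 n190873 = n97051 := d15_1 D190873 (iv7 F369734) F369733
theorem F381413 : act 7 n190873 = n190163 := d15_2 F356255 D190873 (iv2 F379015)
theorem F381414 : act 5 n190873 = n100799 := d17_7 F363041 D100870 F368821 (iv5 D185997) F135757 D97002 D190873 F158655 (iv4 F289670)
theorem F381415 : act 2 n103908 = n190873 := d2_3 F381414 F154897 D103908
theorem F381416 : act 3 n190039 = n190873 := d6_3 F381414 (iv3 F160407) (iv5 F378629)
theorem E103459 : n190185 = n163289 := (c21_4 F381414 (iv1 F159341) F158650 D190185 (iv1 D163289) (iv6 D78477) (iv5 D35758) D35755 D78466 (iv6 F365876) (iv1 F381412))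
theorem F381417 : act 3 n163289 = n95687 := (sb E103459 F379047)
theorem F381418 : act 6 n163289 = n95685 := (sb E103459 (iv6 D190185))
def n190874 : Q := act 4 n97002
theorem D190874 : act 4 n97002 = n190874 := rfl
theorem F381419 : act 7 n190874 = n160847 := d11_2 (iv7 F149605) D190874 (iv4 F365877)
def n190875 : Q := act 6 n97002
theorem D190875 : act 6 n97002 = n190875 := rfl
theorem F381420 : act 3 n190875 = n97005 := d7_1 D190875 (iv6 D97005) (iv3 F149604)
theorem F381421 : act 7 n190875 = n163269 := d14_2 (iv7 F149605) D190875 (iv6 D163269) F119670 (iv6 F365878)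
def n190876 : Q := act 3 n97004
theorem D190876 : act 3 n97004 = n190876 := rfl
theorem F381422 : act 7 n190876 = n190166 := d8_2 (iv7 F149610) D190876 (iv3 D190166)
def n190877 : Q := act 6 n97004
theorem D190877 : act 6 n97004 = n190877 := rfl
theorem F381423 : act 2 n190877 = n190180 := d3_1 D190877 (iv6 D190180) (iv2 F149609)
theorem F381424 : act 4 n190877 = n97005 := d10_1 D190877 (iv6 D97005) D97004
def n190878 : Q := act 0 n97005
theorem D190878 : act 0 n97005 = n190878 := rfl
def n190879 : Q := act 1 n97005
theorem D190879 : act 1 n97005 = n190879 := rfl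
theorem F381425 : act 1 n190879 = n190183 := d15_1 D190879 (iv7 D190183) (iv2 F149611)
theorem F381426 : act 6 n190141 = n190879 := d21_3 (iv5 F380366) (iv1 F380368) F378961 (iv1 D190879) (iv6 D97005) (iv5 D45346) (iv1 D21618) D21619 (iv6 F71438) D96991
theorem F381427 : act 2 n190879 = n190182 := d3_1 F381426 (iv6 F381311) (iv2 F381310)
def n190880 : Q := act 5 n97005
theorem D190880 : act 5 n97005 = n190880 := rfl
theorem F381428 : act 2 n190880 = n103874 := d2_1 D190880 F159295 (iv2 F149611)
theorem F381429 : act 6 n190880 = n97006 := d12_2 D97005 D190880 (iv5 D97006) (iv6 D45347) D45346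
def n190881 : Q := act 7 n97005
theorem D190881 : act 7 n97005 = n190881 := rfl
theorem F381430 : act 2 n190881 = n190183 := d4_1 D190881 (iv7 D190183) (iv2 F149611)
theorem F381431 : act 3 n190881 = n163269 := d8_1 D190881 (iv7 F381421) F381420
theorem F381432 : act 6 n190881 = n163267 := d14_1 D190881 (iv7 F326725) (iv6 D95677) (iv7 F71459) D97005
theorem F381433 : act 1 n190183 = n190878 := d15_0 (iv0 D190878) D190881 F381430
theorem F381434 : act 1 n190182 = n190881 := d15_1 D190182 (iv7 D190881) F149611
theorem F381435 : act 7 n190878 = n190182 := d15_2 F381425 F381433 (iv2 F381427)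
theorem F381436 : act 2 n190878 = n190181 := d15_3 (iv0 D190181) D190182 (iv7 F381435)
theorem F381437 : act 7 n190181 = n190879 := d4_2 (iv7 F381435) F381436 F381427
theorem F381438 : act 1 n190881 = n190181 := d15_1 F381434 F381437 F381427
def n190882 : Q := act 2 n97007
theorem D190882 : act 2 n97007 = n190882 := rfl
theorem F381439 : act 3 n190882 = n97053 := d0_2 D97007 D190882 (iv2 F149720) (iv3 D95685) (iv2 F71476)
theorem F381440 : act 5 n190882 = n190640 := d2_2 F367252 D190882 (iv2 D190640)
theorem F381441 : act 7 n190882 = n190191 := d4_2 (iv7 F149616) D190882 (iv2 D190191)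
theorem F381442 : act 1 n190882 = n183216 := d15_0 (iv0 F289706) (iv7 F149616) D190882
theorem F381443 : act 1 n190171 = n190882 := d15_0 F381442 (iv7 F381369) F381368
def n190883 : Q := act 6 n97007
theorem D190883 : act 6 n97007 = n190883 := rfl
theorem F381444 : act 3 n190883 = n97008 := d7_1 D190883 (iv6 D97008) D97007
theorem F381445 : act 5 n190883 = n190645 := d12_1 D190883 (iv6 D190645) (iv5 D96297) (iv6 F148139) F367252
def n190884 : Q := act 0 n97008
theorem D190884 : act 0 n97008 = n190884 := rfl
def n190885 : Q := act 1 n97008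
theorem D190885 : act 1 n97008 = n190885 := rfl
theorem F381446 : act 1 n190885 = n190190 := d15_1 D190885 (iv7 D190190) (iv2 F149617)
def n190886 : Q := act 7 n97008
theorem D190886 : act 7 n97008 = n190886 := rfl
theorem F381447 : act 2 n190886 = n190190 := d4_1 D190886 (iv7 D190190) (iv2 F149617)
theorem F381448 : act 5 n190886 = n190650 := d13_1 D190886 (iv7 D190650) F367205
theorem F381449 : act 6 n190886 = n190197 := d14_1 D190886 (iv7 D190197) (iv6 D95690) (iv7 F71475) D97008
theorem F381450 : act 1 n190190 = n190884 := d15_0 (iv0 D190884) D190886 F381447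
theorem F381451 : act 1 n190189 = n190886 := d15_1 D190189 (iv7 D190886) F149617
theorem F381452 : act 1 n190886 = n190188 := d15_0 (iv0 D190188) D190190 (iv2 F381447)
def n190887 : Q := act 4 n97009
theorem D190887 : act 4 n97009 = n190887 := rfl
theorem F381453 : act 7 n190887 = n190184 := d11_2 (iv7 F149619) D190887 (iv4 D190184)
theorem F381454 : act 5 n190887 = n102228 := d16_1 D190887 (iv4 D102228) D102229 (iv4 F368860) F370955 F370951 F159339 (iv7 F369744) (iv2 F369742)
def n190888 : Q := act 6 n97009
theorem D190888 : act 6 n97009 = n190888 := rfl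
theorem F381455 : act 3 n190888 = n97010 := d7_1 D190888 (iv6 D97010) D97009
theorem F381456 : act 5 n190888 = n190681 := d12_1 D190888 (iv6 D190681) (iv5 D96381) D96382 (iv5 F149618)
theorem F381457 : act 0 n190888 = n97184 := d20_4 (iv4 D141916) D141914 (iv4 F366254) (iv3 F381455) (iv3 D97184) (iv4 D45417) (iv1 F36661) D48416 D104710 (iv1 F359854)
def n190889 : Q := act 0 n97010
theorem D190889 : act 0 n97010 = n190889 := rfl
theorem F381458 : act 5 n190889 = n174680 := d17_3 (iv1 F358724) (iv5 F149622) D190889 (iv4 F323497) (iv5 D153598) F190320 (iv5 F333907) F335288 (iv4 F256908)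
theorem F381459 : act 2 n174681 = n190889 := d2_3 F381458 (iv2 D174680) D174681
theorem F381460 : act 1 n190197 = n190889 := d17_6 F344683 (iv5 D80505) D80502 (iv5 F353896) (iv4 F378049) (iv5 F379062) F381458 F378020 F378017
theorem F381461 : act 7 n190196 = n190889 := d15_2 (iv0 F378043) D190196 (iv2 F381459)
def n190890 : Q := act 1 n97010
theorem D190890 : act 1 n97010 = n190890 := rfl
theorem F381462 : act 1 n190890 = n190197 := d15_1 D190890 (iv7 D190197) (iv2 F149621)
theorem F381463 : act 7 n190890 = n174681 := d15_2 (iv0 D190889) D190890 F381459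
theorem F381464 : act 5 n173322 = n190890 := d21_6 (iv5 D89871) F292365 (iv5 F293160) D95362 F344648 F323178 (iv1 D190890) F149622 (iv6 D96384) (iv1 F137959)
theorem F381465 : act 3 n190890 = n173323 := d6_1 F381464 (iv5 D173323) D173322
theorem F381466 : act 2 n190196 = n190890 := d4_3 F381463 F381459 (iv7 F381461)
def n190891 : Q := act 7 n97010
theorem D190891 : act 7 n97010 = n190891 := rfl
theorem F381467 : act 2 n190891 = n190197 := d4_1 D190891 (iv7 D190197) (iv2 F149621)
theorem F381468 : act 4 n190891 = n154706 := d11_1 D190891 F366253 (iv4 F366254)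
theorem F381469 : act 5 n190891 = n162664 := d13_1 D190891 (iv7 F358795) (iv5 F149622)
theorem F381470 : act 6 n190891 = n190190 := d14_1 D190891 (iv7 D190190) (iv6 D95687) F71477 D97010
theorem F381471 : act 1 n190196 = n190891 := d15_1 D190196 (iv7 D190891) F149621
theorem F381472 : act 1 n190891 = n174681 := d15_1 F381471 (iv7 F381463) (iv2 F381466)
def n190892 : Q := act 3 n97011
theorem D190892 : act 3 n97011 = n190892 := rfl
theorem F381473 : act 5 n190892 = n101450 := d6_2 (iv5 F290795) D190892 F156260
theorem F381474 : act 7 n190892 = n101449 := d8_2 F291199 D190892 F156259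
def n190893 : Q := act 6 n97011
theorem D190893 : act 6 n97011 = n190893 := rfl
theorem F381475 : act 2 n190893 = n104351 := d3_1 D190893 (iv6 D104351) F291218
theorem F381476 : act 4 n190893 = n97142 := d10_1 D190893 (iv6 D97142) (iv4 F149623)
def n190894 : Q := act 3 n97012
theorem D190894 : act 3 n97012 = n190894 := rfl
theorem F381477 : act 4 n190894 = n97143 := d5_2 (iv4 F149629) D190894 F149874 (iv4 F340377) (iv3 F71618)
theorem F381478 : act 5 n190894 = n101253 := d6_2 (iv5 F290786) D190894 (iv3 D101253)
theorem F381479 : act 7 n190894 = n104350 := d8_2 F291219 D190894 (iv3 D104350)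
theorem F381480 : act 2 n190894 = n101454 := d16_9 (iv4 F366555) F147505 F352717 (iv5 D60139) F46157 D28585 D60153 (iv5 F352716) (iv7 F381479)
theorem F381481 : act 6 n97012 = n190894 := d3_0 F381480 (iv6 D101454) F291197
def n190895 : Q := act 0 n97013
theorem D190895 : act 0 n97013 = n190895 := rfl
def n190896 : Q := act 1 n97013
theorem D190896 : act 1 n97013 = n190896 := rfl
def n190897 : Q := act 2 n97013
theorem D190897 : act 2 n97013 = n190897 := rfl
theorem F381482 : act 3 n190897 = n141980 := d0_2 D97013 D190897 F365371 (iv3 D95693) (iv2 F71470)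
theorem F381483 : act 5 n141979 = n190897 := d6_0 F381482 (iv5 D141980) D141979
def n190898 : Q := act 5 n97013
theorem D190898 : act 5 n97013 = n190898 := rfl
theorem F381484 : act 2 n190898 = n141979 := d2_1 D190898 F381483 (iv2 D190897)
theorem F381485 : act 3 n190898 = n97014 := d6_1 D190898 (iv5 D97014) D97013
theorem F381486 : act 7 n104279 = n190898 := d8_0 F381485 F293814 D104279
def n190899 : Q := act 7 n97013
theorem D190899 : act 7 n97013 = n190899 := rfl
theorem F381487 : act 3 n190899 = n97015 := d8_1 D190899 (iv7 D97015) D97013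
theorem F381488 : act 5 n190899 = n104279 := d13_1 D190899 F381486 (iv5 D190898)
def n190900 : Q := act 6 n97014
theorem D190900 : act 6 n97014 = n190900 := rfl
theorem F381489 : act 2 n190900 = n104247 := d3_1 D190900 (iv6 D104247) (iv2 F293812)
theorem F381490 : act 4 n190900 = n104206 := d10_1 D190900 (iv6 D104206) (iv4 F293813)
theorem F381491 : act 5 n190900 = n107286 := d12_1 D190900 (iv6 F381358) (iv5 D190860) F149582 D97014
theorem F381492 : act 7 n190900 = n137678 := d14_2 (iv7 F293814) D190900 (iv6 D137678) (iv7 F329348) (iv6 D104280)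
theorem F381493 : act 1 n137694 = n190900 := d15_1 D137694 F381492 F220842
theorem F381494 : act 5 n147506 = n137694 := d17_5 F320113 (iv5 F321222) (iv1 F105314) D69134 D147506 F381493 F381491 (iv0 F350027) (iv4 D147510)
theorem F381495 : act 0 n137693 = n190900 := d17_0 F381491 (iv1 D107286) D107287 (iv4 F368238) F368237 (iv0 D186845) (iv5 F155968) (iv0 F357253) (iv4 F335444)
def n190901 : Q := act 6 n97015
theorem D190901 : act 6 n97015 = n190901 := rfl
theorem F381496 : act 2 n190901 = n190198 := d3_1 D190901 (iv6 D190198) (iv2 F149634)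
theorem F381497 : act 4 n190901 = n97016 := d10_1 D190901 (iv6 D97016) (iv4 F149635)
def n190902 : Q := act 0 n97016
theorem D190902 : act 0 n97016 = n190902 := rfl
theorem F381498 : act 1 n190162 = n190902 := d15_0 (iv0 D190902) (iv7 F381365) F381363
def n190903 : Q := act 1 n97016
theorem D190903 : act 1 n97016 = n190903 := rfl
theorem F381499 : act 1 n190903 = n190162 := d15_1 D190903 F379012 (iv2 F149639)
def n190904 : Q := act 4 n97017
theorem D190904 : act 4 n97017 = n190904 := rfl
theorem F381500 : act 2 n190904 = n187225 := d1_1 D190904 (iv4 D187225) (iv2 F149641)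
theorem F381501 : act 7 n190904 = n190201 := d11_2 (iv7 F149643) D190904 (iv4 D190201)
def n190905 : Q := act 6 n97017
theorem D190905 : act 6 n97017 = n190905 := rfl
theorem F381502 : act 2 n190905 = n187226 := d3_1 D190905 (iv6 D187226) (iv2 F149641)
theorem F381503 : act 3 n190905 = n97019 := d7_1 D190905 (iv6 D97019) (iv3 F149642)
theorem F381504 : act 5 n190905 = n165880 := d12_1 D190905 F369680 F158405 F138017 D97017
def n190906 : Q := act 3 n97018
theorem D190906 : act 3 n97018 = n190906 := rfl
theorem F381505 : act 5 n190906 = n189599 := d6_2 (iv5 F360807) D190906 (iv3 D189599)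
theorem F381506 : act 7 n190906 = n190203 := d8_2 (iv7 F149645) D190906 (iv3 D190203)
def n190907 : Q := act 6 n97018
theorem D190907 : act 6 n97018 = n190907 := rfl
theorem F381507 : act 2 n190907 = n187251 := d3_1 D190907 (iv6 D187251) (iv2 F149644)
theorem F381508 : act 4 n190907 = n97019 := d10_1 D190907 (iv6 D97019) D97018
def n190908 : Q := act 0 n97019
theorem D190908 : act 0 n97019 = n190908 := rfl
theorem F381509 : act 5 n190908 = n158049 := d17_3 (iv1 F370055) F158407 D190908 (iv4 D158049) D158050 F358113 (iv5 D84259) D84257 D176730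
theorem F381510 : act 6 n190908 = n187270 := d21_5 (iv5 D21664) (iv1 F63255) D45353 D97019 D190908 (iv5 F369919) (iv1 D104645) (iv5 F149875) (iv6 D97143) (iv1 D45402)
theorem F381511 : act 2 n187252 = n190908 := d3_3 F381510 F378098 (iv6 F378104)
theorem F381512 : act 7 n187253 = n190908 := d15_2 (iv0 D187252) D187253 (iv2 F381511)
theorem F381513 : act 4 n187252 = n124236 := d16_0 (iv5 D124236) (iv4 F119733) D163449 F354386 (iv5 F358092) F358091 F369636 F381512 (iv2 F381511)
theorem F381514 : act 0 n108774 = n187251 := d18_0 F369635 D187252 F381513 (iv5 D124236) (iv4 F119733) (iv0 F354390) (iv4 F354465) (iv0 D108772) D108774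
def n190909 : Q := act 1 n97019
theorem D190909 : act 1 n97019 = n190909 := rfl
theorem F381515 : act 1 n190909 = n187254 := d15_1 D190909 (iv7 D187254) (iv2 F149646)
theorem F381516 : act 7 n190909 = n187252 := d15_2 (iv0 D190908) D190909 F381511
theorem F381517 : act 5 n190909 = n104683 := d17_7 F362517 F76227 D97362 F369677 F369676 F158407 D190909 F358094 F254192
theorem F381518 : act 2 n187253 = n190909 := d2_3 F381517 F340365 F369636
theorem F381519 : act 4 n160407 = n190909 := d16_2 F135380 D160407 F381517 F358096 (iv5 F358097) (iv4 F150263) F358445 F341826 (iv2 D185559)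
theorem F381520 : act 1 n190167 = n160407 := d18_6 F370053 (iv4 D176730) (iv1 D84257) (iv4 F129308) (iv5 F326724) (iv4 F379021) F381519 F381515 (iv5 F370051)
theorem F381521 : act 1 n187254 = n190908 := d15_1 F381515 (iv7 F381512) F381518
def n190910 : Q := act 7 n97019
theorem D190910 : act 7 n97019 = n190910 := rfl
theorem F381522 : act 2 n190910 = n187254 := d4_1 D190910 (iv7 D187254) (iv2 F149646)
theorem F381523 : act 6 n190910 = n190207 := d14_1 D190910 (iv7 D190207) (iv6 D95700) (iv7 F71483) D97019
theorem F381524 : act 1 n187253 = n190910 := d15_1 D187253 (iv7 D190910) F149646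
theorem F381525 : act 1 n190910 = n187252 := d15_1 F381524 (iv7 F381516) (iv2 F381518)
def n190911 : Q := act 6 n97021
theorem D190911 : act 6 n97021 = n190911 := rfl
theorem F381526 : act 2 n190911 = n101388 := d3_1 D190911 (iv6 D101388) (iv2 F292258)
theorem F381527 : act 5 n190911 = n101217 := d12_1 D190911 (iv6 D101217) F293325 F75156 D97021
theorem F381528 : act 0 n190911 = n101346 := d21_4 (iv5 F72338) (iv1 F291430) D97021 D190911 (iv6 D101346) (iv5 D47177) (iv1 D22695) D22696 F35280 D22707
def n190912 : Q := act 6 n97029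
theorem D190912 : act 6 n97029 = n190912 := rfl
theorem F381529 : act 2 n190912 = n104231 := d3_1 D190912 (iv6 D104231) (iv2 F292402)
theorem F381530 : act 3 n190912 = n102585 := d7_1 D190912 (iv6 D102585) (iv3 F292403)
theorem F381531 : act 4 n190912 = n188683 := d10_1 D190912 F374446 (iv4 F292404)
theorem F381532 : act 5 n190912 = n183890 := d12_1 D190912 (iv6 D183890) (iv5 D87717) F292406 D97029
theorem F381533 : act 7 n190912 = n188955 := d14_2 (iv7 F292405) D190912 F375252 (iv7 F308295) F159592
def n190913 : Q := act 6 n97036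
theorem D190913 : act 6 n97036 = n190913 := rfl
theorem F381534 : act 2 n190913 = n104245 := d3_1 D190913 (iv6 D104245) F292171
theorem F381535 : act 5 n190913 = n104148 := d12_1 D190913 (iv6 D104148) F292852 F291806 (iv5 F291805)
def n190914 : Q := act 4 n97041
theorem D190914 : act 4 n97041 = n190914 := rfl
theorem F381536 : act 2 n190914 = n190027 := d1_1 D190914 (iv4 D190027) (iv2 F149693)
theorem F381537 : act 3 n190914 = n189473 := d19_3 (iv1 F71795) D97041 D190914 (iv1 D189473) (iv5 D93979) (iv4 F69444) (iv3 D44103) D44101 (iv5 F292457) F54919 F31148 (iv1 F28569) (iv5 D17583) F13028 F6120 (iv1 F6122) F292520 D10361 D21732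
def n190915 : Q := act 5 n97043
theorem D190915 : act 5 n97043 = n190915 := rfl
theorem F381538 : act 2 n190915 = n97049 := d2_1 D190915 (iv5 D97049) (iv2 F149701)
theorem F381539 : act 3 n190915 = n159821 := d6_1 D190915 F251891 (iv3 F149702)
theorem F381540 : act 6 n190915 = n97044 := d12_2 D97043 D190915 (iv5 D97044) (iv6 D45364) D45363
theorem F381541 : act 0 n160888 = n190915 := d21_10 (iv5 D190915) F366341 D190139 (iv6 F378970) (iv1 D160914) (iv6 D77215) (iv5 D35244) D35242 D77206 D160888
def n190916 : Q := act 4 n97044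
theorem D190916 : act 4 n97044 = n190916 := rfl
theorem F381542 : act 2 n190916 = n97054 := d1_1 D190916 (iv4 D97054) (iv2 F149704)
theorem F381543 : act 5 n190916 = n101778 := d16_1 D190916 F156643 D101782 F368851 (iv5 D182224) F133538 D89884 F137984 (iv2 F149704)
def n190917 : Q := act 4 n97047
theorem D190917 : act 4 n97047 = n190917 := rfl
theorem F381544 : act 2 n190917 = n190138 := d1_1 D190917 (iv4 D190138) F366339
theorem F381545 : act 0 n122693 = n190917 := d20_10 (iv4 D190917) (iv1 F381320) F381318 (iv3 F368361) (iv1 F144689) F346099 D123904 F341510 F116506 (iv3 F196555)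
theorem F381546 : act 3 n188592 = n190917 := d20_5 (iv4 D92510) (iv1 D43284) D43285 D92514 D188592 (iv4 D190917) (iv1 F381320) F381318 (iv3 F368361) (iv1 F144689)
def n190918 : Q := act 5 n97047
theorem D190918 : act 5 n97047 = n190918 := rfl
theorem F381547 : act 2 n190918 = n190139 := d2_1 D190918 (iv5 D190139) F366339
def n190919 : Q := act 6 n97047
theorem D190919 : act 6 n97047 = n190919 := rfl
theorem F381548 : act 2 n190919 = n147114 := d3_1 D190919 (iv6 F366381) F366339
def n190920 : Q := act 0 n97049
theorem D190920 : act 0 n97049 = n190920 := rfl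
theorem F381549 : act 2 n190151 = n190920 := d15_3 (iv0 D190920) (iv0 F365879) (iv7 F378993)
theorem F381550 : act 5 n190920 = n186923 := d2_2 (iv5 F378992) F381549 (iv2 F369055)
theorem F381551 : act 7 n190920 = n160888 := d4_2 (iv7 F378993) F381549 (iv2 F262384)
theorem F381552 : act 1 n190151 = n190915 := d15_0 (iv0 F381541) (iv7 F381551) (iv2 F381549)
theorem F381553 : act 0 n102219 = n190875 := d21_4 F381550 (iv1 D186923) D186924 F368523 (iv6 D190875) (iv5 D97002) F71457 D45368 (iv6 F149715) D190920
def n190921 : Q := act 4 n97049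
theorem D190921 : act 4 n97049 = n190921 := rfl
theorem F381554 : act 6 n190921 = n97054 := d10_2 (iv6 F149715) D190921 (iv4 D97054)
def n190922 : Q := act 7 n97049
theorem D190922 : act 7 n97049 = n190922 := rfl
theorem F381555 : act 3 n190922 = n97068 := d8_1 D190922 (iv7 D97068) (iv3 F149714)
theorem F381556 : act 5 n190922 = n97050 := d13_1 D190922 (iv7 D97050) D97049
theorem F381557 : act 1 n160888 = n190922 := d15_1 (iv0 F381541) (iv7 D190922) (iv2 F381538)
theorem F381558 : act 1 n190922 = n190151 := d15_1 F381557 F378993 F262384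
def n190923 : Q := act 4 n97053
theorem D190923 : act 4 n97053 = n190923 := rfl
theorem F381559 : act 2 n190923 = n190184 := d1_1 D190923 (iv4 D190184) F149720
theorem F381560 : act 5 n190923 = n102223 := d9_2 F159339 D190923 (iv4 D102223) D102224 F365541 (iv5 D102306) (iv4 F148343) (iv5 F149618) D190887 F381454 (iv4 D102228) D102229 (iv4 F368860) F370955 F370951
theorem E103460 : n102249 = n102223 := ((c17_6 F159343 (iv5 D103908) D103907 F159339 D190923 F381560 (iv0 D102249) D102251 (iv0 F369053) (iv4 F365877))).symm
theorem F381561 : act 1 n102223 = n47459 := (sb E103460 (iv0 D102249))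
def n190924 : Q := act 6 n97053
theorem D190924 : act 6 n97053 = n190924 := rfl
theorem F381562 : act 2 n190924 = n163289 := d3_1 D190924 F381418 F149720
theorem F381563 : act 5 n190924 = n190521 := d12_1 D190924 (iv6 D190521) F356265 (iv6 F352884) F159339
theorem F381564 : act 0 n190924 = n163240 := d21_4 (iv5 D103908) D103907 F159339 D190924 (iv6 D163240) (iv5 D78455) (iv1 F59871) (iv5 F115969) (iv6 F365878) F159343
theorem F381565 : act 1 n190924 = n163291 := d15_1 (iv0 F381564) (iv7 D163291) (iv2 F257518)
def n190925 : Q := act 0 n97054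
theorem D190925 : act 0 n97054 = n190925 := rfl
def n190926 : Q := act 1 n97054
theorem D190926 : act 1 n97054 = n190926 := rfl
theorem F381566 : act 5 n190926 = n102218 := d18_9 (iv1 D102218) F74640 D47450 D102223 (iv5 F381560) (iv4 D190923) (iv0 D97053) D97054 D190926
def n190927 : Q := act 5 n97054
theorem D190927 : act 5 n97054 = n190927 := rfl
theorem F381567 : act 2 n190927 = n101778 := d2_1 D190927 (iv5 F381543) F381542
theorem F381568 : act 3 n190927 = n143993 := d6_1 D190927 F226817 (iv3 F366034)
theorem F381569 : act 4 n99703 = n190927 := d16_0 (iv5 D190927) (iv4 D97054) (iv5 D45368) (iv4 F61715) D87339 D182932 (iv5 F368854) (iv7 D101783) (iv2 F156700)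
theorem F381570 : act 6 n190927 = n99702 := d10_2 D99703 F381569 (iv4 D99702)
def n190928 : Q := act 5 n97056
theorem D190928 : act 5 n97056 = n190928 := rfl
theorem F381571 : act 2 n190928 = n174714 := d2_1 D190928 F348934 (iv2 F361106)
theorem F381572 : act 3 n190928 = n97058 := d6_1 D190928 (iv5 D97058) D97056
theorem F381573 : act 6 n190928 = n173336 := d12_2 F361107 D190928 F271780 F325559 D109553
theorem F381574 : act 7 n190928 = n190067 := d13_2 (iv7 F348960) D190928 (iv5 D190067)
theorem F381575 : act 4 n174590 = n190928 := d10_3 F381573 F271779 D174590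
def n190929 : Q := act 1 n97059
theorem D190929 : act 1 n97059 = n190929 := rfl
theorem F381576 : act 1 n190929 = n110647 := d15_1 D190929 (iv7 F340715) F361113
theorem F381577 : act 7 n190929 = n190057 := d15_2 (iv0 F361115) D190929 F378705
theorem F381578 : act 4 n190929 = n116179 := d17_9 F341068 (iv5 F316879) (iv1 F180961) (iv5 F323352) F70637 D44941 D96267 (iv5 F149722) D190929
theorem F381579 : act 5 n190929 = n112087 := d18_9 (iv1 F337329) F337332 (iv1 F174516) (iv4 F321387) (iv5 D103753) (iv4 F159188) F335118 F361114 D190929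
theorem F381580 : act 6 n190149 = n190929 := d21_3 D96244 D190616 F380301 (iv1 D190929) (iv6 D97059) D97058 (iv1 F369939) F369938 (iv6 F352649) (iv1 D96243)
theorem F381581 : act 2 n190929 = n190063 := d3_1 F381580 (iv6 F378750) F378982
def n190930 : Q := act 5 n97061
theorem D190930 : act 5 n97061 = n190930 := rfl
theorem F381582 : act 3 n190930 = n97063 := d6_1 D190930 (iv5 D97063) D97061
theorem F381583 : act 7 n190930 = n190062 := d13_2 F348954 D190930 (iv5 D190062)
def n190931 : Q := act 6 n97061
theorem D190931 : act 6 n97061 = n190931 := rfl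
theorem F381584 : act 2 n190931 = n111851 := d3_1 D190931 F173704 F348953
theorem F381585 : act 3 n190931 = n97064 := d7_1 D190931 (iv6 D97064) D97061
theorem F381586 : act 4 n190931 = n110652 := d10_1 D190931 F327270 (iv4 F348931)
theorem F381587 : act 7 n190931 = n110648 := d14_2 F348954 D190931 (iv6 D110648) F80483 (iv6 F348888)
theorem F381588 : act 5 n118532 = n190931 := d13_3 F381587 F360277 F215057
theorem F381589 : act 1 n111849 = n190931 := d15_1 D111849 F381587 F171255
theorem F381590 : act 1 n190931 = n111848 := d17_6 D110752 F171432 F83534 D54586 D118532 F381588 F330766 (iv0 F171442) (iv4 D110754)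
def n190932 : Q := act 6 n97063
theorem D190932 : act 6 n97063 = n190932 := rfl
theorem F381591 : act 2 n190932 = n190070 := d3_1 D190932 (iv6 D190070) (iv2 F361116)
theorem F381592 : act 4 n190932 = n160903 := d10_1 D190932 (iv6 F378857) F378856
theorem F381593 : act 0 n104705 = n190932 := d21_4 (iv5 F75581) (iv1 F75584) D48411 D104705 (iv6 D190932) (iv5 D97063) (iv1 D45370) D45371 F71526 D45378
theorem F381594 : act 1 n187278 = n190932 := d18_6 D77208 (iv4 F344726) F344722 (iv4 F333999) F358136 D187278 F381592 (iv0 D160903) (iv5 D77211)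
def n190933 : Q := act 5 n97064
theorem D190933 : act 5 n97064 = n190933 := rfl
theorem F381595 : act 2 n190933 = n190071 := d2_1 D190933 (iv5 D190071) F348970
theorem F381596 : act 3 n190933 = n118532 := d6_1 D190933 F381588 F381585
theorem F381597 : act 4 n190933 = n131952 := d16_2 (iv4 F320367) D190933 F211424 F163708 D130655 (iv4 F335849) F335130 F230694 (iv2 F228917)
theorem F381598 : act 0 n190933 = n190621 := d17_2 (iv1 F320365) D190933 (iv5 D190621) F335826 D97245 F348984 (iv5 D68593) (iv0 F188392) (iv4 F204926)
theorem F381599 : act 1 n190933 = n190619 := d17_6 (iv1 F335134) F334479 (iv1 F335138) F315691 (iv4 F320367) D190933 (iv5 D190619) (iv0 D96246) (iv4 F125280)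
def n190934 : Q := act 3 n97065
theorem D190934 : act 3 n97065 = n190934 := rfl
theorem F381600 : act 5 n190934 = n186918 := d6_2 F361128 D190934 F368502
theorem F381601 : act 7 n190934 = n190075 := d8_2 (iv7 F361126) D190934 (iv3 D190075)
theorem F381602 : act 0 n190934 = n190127 := d20_4 D95772 D190248 F379184 D190934 F378939 (iv4 F379009) (iv1 F381351) F381353 (iv3 F366327) (iv1 D95771)
theorem F381603 : act 1 n190934 = n190118 := d15_1 (iv0 F381602) (iv7 F379278) F379275
theorem F381604 : act 2 n190934 = n190124 := d15_3 (iv0 D190124) (iv0 F379280) (iv7 F381601)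
def n190935 : Q := act 6 n97065
theorem D190935 : act 6 n97065 = n190935 := rfl
theorem F381605 : act 2 n190935 = n190074 := d3_1 D190935 (iv6 D190074) F361127
theorem F381606 : act 4 n190935 = n187300 := d10_1 D190935 (iv6 F379188) F379184
theorem F381607 : act 0 n190935 = n187239 := d21_4 (iv5 D127652) D127650 F361128 D190935 (iv6 D187239) F137900 (iv1 F148106) F148104 F340716 (iv1 F361119)
def n190936 : Q := act 3 n97066
theorem D190936 : act 3 n97066 = n190936 := rfl
theorem F381608 : act 5 n190936 = n189853 := d6_2 F149725 D190936 F377994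
theorem F381609 : act 7 n190936 = n190072 := d8_2 F361125 D190936 (iv3 D190072)
def n190937 : Q := act 3 n97067
theorem D190937 : act 3 n97067 = n190937 := rfl
theorem F381610 : act 6 n190937 = n97082 := d7_2 (iv6 F149727) D190937 (iv3 D97082)
def n190938 : Q := act 7 n97067
theorem D190938 : act 7 n97067 = n190938 := rfl
theorem F381611 : act 2 n190938 = n190081 := d4_1 D190938 (iv7 D190081) (iv2 F149726)
theorem F381612 : act 4 n190938 = n97068 := d11_1 D190938 (iv7 D97068) D97067
theorem F381613 : act 1 n190078 = n190938 := d15_1 D190078 (iv7 D190938) F149726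
theorem F381614 : act 1 n190938 = n190077 := d15_1 F381613 (iv7 F378785) F378793
theorem F381615 : act 4 n109900 = n190109 := d20_6 (iv4 F378783) (iv1 F381614) F381612 (iv3 F381555) (iv1 F381557) (iv3 F365914) (iv1 F379127) (iv4 D190227) F147442 D95770
theorem F381616 : act 6 n190109 = n109911 := d10_2 (iv6 F169911) F381615 (iv4 D109911)
def n190939 : Q := act 6 n97069
theorem D190939 : act 6 n97069 = n190939 := rfl
theorem F381617 : act 2 n190939 = n190092 := d3_1 D190939 (iv6 D190092) (iv2 F149733)
theorem F381618 : act 4 n190939 = n97070 := d10_1 D190939 (iv6 D97070) D97069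
theorem F381619 : act 7 n190939 = n190932 := d14_2 (iv7 F149734) D190939 (iv6 D190932) (iv7 F361117) (iv6 F340716)
theorem F381620 : act 0 n190939 = n104724 := d21_4 (iv5 F76205) (iv1 F147120) (iv5 F149735) D190939 (iv6 D104724) (iv5 D48422) F70128 (iv5 F70209) D95630 F328307
def n190940 : Q := act 5 n97072
theorem D190940 : act 5 n97072 = n190940 := rfl
theorem F381621 : act 2 n190940 = n190083 := d2_1 D190940 (iv5 D190083) (iv2 F367271)
theorem F381622 : act 3 n190940 = n190171 := d6_1 D190940 (iv5 D190171) (iv3 F367272)
theorem F381623 : act 7 n190940 = n183221 := d13_2 (iv7 F367274) D190940 (iv5 D183221)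
theorem F381624 : act 0 n190940 = n97080 := d17_2 (iv1 F149745) D190940 F149765 F135313 D88376 F151783 F151782 F151748 F151744
theorem F381625 : act 1 n190940 = n190102 := d15_0 F381172 F381170 (iv2 F381621)
def n190941 : Q := act 5 n97073
theorem D190941 : act 5 n97073 = n190941 := rfl
theorem F381626 : act 2 n190941 = n97074 := d2_1 D190941 (iv5 D97074) D97073
theorem F381627 : act 3 n190941 = n190094 := d6_1 D190941 (iv5 D190094) (iv3 F149741)
theorem F381628 : act 7 n190941 = n190084 := d13_2 (iv7 F149743) D190941 (iv5 D190084)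
theorem F381629 : act 1 n190941 = n190086 := d17_6 D88373 D185522 F287794 (iv5 D98347) F149749 D190941 F378815 (iv0 D185469) F135313
theorem F381630 : act 0 n190941 = n190087 := d21_1 D190941 (iv5 F380581) (iv6 F370114) (iv1 D96295) (iv6 F148139) F367252 (iv1 F381371) (iv5 D190863) F344217 (iv1 F149744)
def n190942 : Q := act 6 n97073
theorem D190942 : act 6 n97073 = n190942 := rfl
theorem F381631 : act 2 n190942 = n97075 := d3_1 D190942 (iv6 D97075) D97073
theorem F381632 : act 3 n190942 = n184385 := d7_1 D190942 (iv6 F367116) (iv3 F149741)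
theorem F381633 : act 4 n190942 = n98348 := d10_1 D190942 (iv6 D98348) F149749
theorem F381634 : act 0 n190942 = n155735 := d21_4 (iv5 F378815) (iv1 F381629) (iv5 D190941) D190942 (iv6 F358517) (iv5 F380393) (iv1 D190633) (iv5 D96273) (iv6 F135314) D185469
theorem F381635 : act 5 n190942 = n118411 := d21_6 F367252 (iv1 F381371) (iv5 D190863) F344217 (iv1 F149744) D190942 F186069 (iv5 F329976) D190580 F381189
theorem F381636 : act 7 n151261 = n190942 := d13_0 F381635 F186068 D151261
theorem F381637 : act 0 n155734 = n190942 := d17_2 (iv1 F187544) (iv5 F244743) F381635 (iv4 D118411) F86145 (iv0 D31688) (iv5 F317219) (iv0 F319501) (iv4 F86831)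
theorem E103461 : n190644 = n183232 := (c21_8 F381635 F186069 (iv5 F329976) D190580 F381189 F148139 D96297 D190644 (iv5 D183232) (iv6 F330006) F381637)
theorem F381638 : act 1 n183232 = n96297 := (sb E103461 (iv0 D190644))
def n190943 : Q := act 0 n97074
theorem D190943 : act 0 n97074 = n190943 := rfl
theorem F381639 : act 1 n190084 = n190943 := d15_0 (iv0 D190943) F149751 (iv2 F378810)
def n190944 : Q := act 1 n97074
theorem D190944 : act 1 n97074 = n190944 := rfl
theorem F381640 : act 1 n190944 = n190084 := d15_1 D190944 (iv7 F381628) F381626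
theorem F381641 : act 5 n184202 = n190944 := d21_6 (iv5 D119264) (iv1 F186063) F329994 F158525 (iv1 F154096) D184202 (iv1 D190944) (iv5 D97074) D97075 F326525
theorem F381642 : act 2 n190944 = n190086 := d2_1 F381641 F378815 F363039
theorem F381643 : act 3 n190944 = n190174 := d6_1 F381641 (iv5 F381191) F380199
theorem F381644 : act 7 n190944 = n190087 := d13_2 F363040 F381641 (iv5 F380581)
theorem F381645 : act 0 n185471 = n184202 := d17_0 F381641 (iv1 D190944) (iv5 D97074) F71543 D87026 (iv0 F283621) (iv5 D100177) (iv0 F285749) (iv4 F287732)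
theorem F381646 : act 2 n190087 = n190943 := d15_3 (iv0 D190943) D190944 F381644
theorem F381647 : act 7 n190086 = n190943 := d4_2 (iv7 F381644) F381642 (iv2 F381646)
def n190945 : Q := act 6 n97074
theorem D190945 : act 6 n97074 = n190945 := rfl
theorem F381648 : act 3 n190945 = n97077 := d7_1 D190945 (iv6 D97077) (iv3 F149750)
theorem F381649 : act 5 n190945 = n120015 := d12_1 D190945 (iv6 D120015) F327290 (iv6 D97075) D97074
def n190946 : Q := act 1 n97077
theorem D190946 : act 1 n97077 = n190946 := rfl
theorem F381650 : act 1 n190946 = n190100 := d15_1 D190946 (iv7 D190100) (iv2 F149759)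
theorem F381651 : act 7 n190946 = n133372 := d15_2 F379561 D190946 (iv2 F379557)
theorem F381652 : act 4 n190946 = n127629 := d18_7 (iv1 D44724) F312407 D73245 F320362 D97058 F361121 D190946 F363491 (iv5 D95768)
theorem F381653 : act 5 n190946 = n128250 := d18_9 F354133 F354134 F355435 (iv4 F369943) (iv5 D187355) D187354 F369939 F361121 D190946
theorem F381654 : act 6 n127671 = n190946 := d21_3 (iv5 F361128) (iv1 F205218) D127671 (iv1 D190946) (iv6 D97077) (iv5 D45376) (iv1 D21644) D21645 (iv6 F71526) D97065
theorem F381655 : act 2 n190946 = n190099 := d3_1 F381654 (iv6 F378854) F369947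
theorem F381656 : act 3 n133383 = n190946 := d6_3 F381653 F354128 (iv5 F214439)
def n190947 : Q := act 4 n97078
theorem D190947 : act 4 n97078 = n190947 := rfl
theorem F381657 : act 2 n190947 = n190130 := d1_1 D190947 (iv4 D190130) (iv2 F149762)
theorem F381658 : act 7 n190947 = n190107 := d11_2 (iv7 F149760) D190947 (iv4 D190107)
def n190948 : Q := act 6 n97078
theorem D190948 : act 6 n97078 = n190948 := rfl
theorem F381659 : act 2 n190948 = n190131 := d3_1 D190948 (iv6 D190131) (iv2 F149762)
theorem F381660 : act 3 n190948 = n97079 := d7_1 D190948 (iv6 D97079) D97078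
theorem F381661 : act 5 n190948 = n189474 := d12_1 D190948 (iv6 F376648) (iv5 F294075) F294076 F156948
def n190949 : Q := act 0 n97079
theorem D190949 : act 0 n97079 = n190949 := rfl
theorem F381662 : act 6 n190949 = n163278 := d21_5 (iv5 D48109) D48108 F75581 D97079 D190949 (iv5 D163278) (iv1 F344652) F148381 (iv6 D95617) (iv1 F75586)
theorem F381663 : act 1 n189619 = n190949 := d15_0 (iv0 D190949) (iv7 F376174) (iv2 F377137)
theorem F381664 : act 4 n190949 = n190256 := d18_7 (iv1 F377122) (iv4 D189614) (iv1 F145099) (iv4 F363535) (iv5 F149764) (iv4 F377140) F381663 F379213 F363595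
theorem F381665 : act 7 n190105 = n190949 := d11_0 F381664 F379214 (iv4 F378863)
theorem F381666 : act 2 n190949 = n163281 := d15_3 (iv0 F362493) D190105 F381665
theorem F381667 : act 4 n163281 = n104713 := d1_2 (iv4 F381664) F381666 F379215
theorem F381668 : act 6 n104713 = n163280 := d10_2 D163281 F381667 (iv4 D163280)
def n190950 : Q := act 1 n97079
theorem D190950 : act 1 n97079 = n190950 := rfl
theorem F381669 : act 1 n190950 = n189619 := d15_1 D190950 F377139 (iv2 F149763)
theorem F381670 : act 7 n190950 = n163281 := d15_2 (iv0 D190949) D190950 (iv2 F381666)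
theorem F381671 : act 4 n190950 = n190255 := d18_7 F367204 F364062 (iv1 D94141) D94142 D189619 F377140 D190950 (iv0 D190255) F367203
theorem F381672 : act 2 n190105 = n190950 := d1_3 F381671 (iv2 F379208) (iv4 F378863)
theorem F381673 : act 3 n163291 = n190950 := d8_3 F381670 F257596 D163291
def n190951 : Q := act 2 n97080
theorem D190951 : act 2 n97080 = n190951 := rfl
theorem F381674 : act 3 n190951 = n190106 := d0_2 D97080 D190951 (iv2 D190106) (iv3 D95628) F71553
theorem F381675 : act 5 n190951 = n185471 := d2_2 (iv5 F149765) D190951 (iv2 D185471)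
theorem F381676 : act 7 n190951 = n190102 := d4_2 (iv7 F149766) D190951 (iv2 D190102)
theorem F381677 : act 1 n190951 = n190083 := d15_0 F381205 (iv7 F149766) D190951
theorem F381678 : act 1 n183221 = n190951 := d15_0 F381677 (iv7 F381170) F381168
def n190952 : Q := act 4 n97080
theorem D190952 : act 4 n97080 = n190952 := rfl
theorem F381679 : act 7 n190952 = n190103 := d11_2 (iv7 F149766) D190952 (iv4 D190103)
def n190953 : Q := act 0 n97082
theorem D190953 : act 0 n97082 = n190953 := rfl
theorem F381680 : act 4 n190953 = n116996 := d18_3 (iv1 F226816) F366035 D190953 (iv5 D116996) F85041 F82461 F103404 F103405 D133379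
theorem F381681 : act 2 n144160 = n190953 := d1_3 F381680 F182911 D144160
def n190954 : Q := act 1 n97082
theorem D190954 : act 1 n97082 = n190954 := rfl
theorem F381682 : act 7 n190954 = n144160 := d15_2 (iv0 D190953) D190954 F381681
theorem F381683 : act 4 n133385 = n190954 := d11_3 F381682 (iv4 D144160) (iv7 F214441)
theorem F381684 : act 5 n128944 = n190954 := d16_7 F381680 (iv5 D116996) F85041 (iv5 F48369) F48368 D60639 D128944 F381682 F381681
theorem F381685 : act 6 n190954 = n97166 := d12_2 F362284 F381684 (iv5 F251668) F251669 D104788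
theorem F381686 : act 6 n190837 = n133385 := d10_2 F381685 (iv4 F381282) F381683
theorem F381687 : act 0 n190278 = n112973 := d21_10 (iv5 D112973) F101156 D133385 (iv6 F381686) (iv1 D190837) F379247 F379244 (iv1 F147481) D95801 D190278
theorem F381688 : act 1 n190278 = n157246 := d15_1 (iv0 F381687) (iv7 D157246) (iv2 F175927)
def n190955 : Q := act 2 n97082
theorem D190955 : act 2 n97082 = n190955 := rfl
theorem F381689 : act 3 n190955 = n190111 := d0_2 D97082 D190955 (iv2 D190111) (iv3 D95631) (iv2 F71557)
def n190956 : Q := act 5 n97083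
theorem D190956 : act 5 n97083 = n190956 := rfl
theorem F381690 : act 2 n190956 = n190212 := d2_1 D190956 (iv5 D190212) (iv2 F149769)
theorem F381691 : act 3 n190956 = n189279 := d6_1 D190956 (iv5 D189279) (iv3 F149770)
theorem F381692 : act 7 n190956 = n190376 := d13_2 (iv7 F157634) D190956 (iv5 D190376)
theorem F381693 : act 0 n190956 = n135050 := d17_2 F270439 D190956 (iv5 F370276) F370278 D190643 F380436 (iv5 D183224) F150142 (iv4 F270436)
def n190957 : Q := act 5 n97084
theorem D190957 : act 5 n97084 = n190957 := rfl
theorem F381694 : act 2 n190957 = n112926 := d2_1 D190957 (iv5 F336410) (iv2 F149772)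
theorem F381695 : act 3 n190957 = n190263 := d6_1 D190957 (iv5 D190263) (iv3 F149773)
theorem F381696 : act 4 n190957 = n112924 := d9_1 D190957 F175861 F87471 F50559 D61697 D131455 (iv4 F378436) (iv5 F378438) (iv4 D164348) (iv5 D78932) F56622 D69873 (iv4 F186375) F332309 F259256
theorem F381697 : act 6 n190957 = n97087 := d12_2 D97084 D190957 (iv5 D97087) (iv6 D45383) D45382
theorem F381698 : act 7 n190957 = n112928 := d13_2 (iv7 F342259) D190957 F342258
theorem F381699 : act 1 n190957 = n189988 := d17_6 F344957 F186484 (iv1 F186373) F332309 F259256 D190957 F378465 (iv0 F346911) F245017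
theorem F381700 : act 1 n190366 = n190957 := d15_0 F381699 F378467 D190366
theorem F381701 : act 0 n190263 = n190775 := d20_4 F171447 D112924 (iv4 F381696) F381695 (iv3 D190775) F358381 (iv1 D110771) (iv4 F171451) (iv3 D110762) D110760
def n190958 : Q := act 4 n97087
theorem D190958 : act 4 n97087 = n190958 := rfl
theorem F381702 : act 2 n190958 = n112927 := d1_1 D190958 (iv4 F364263) (iv2 F149775)
theorem F381703 : act 3 n190958 = n157349 := d5_1 D190958 (iv4 F349251) (iv3 F157809) (iv4 F331365) (iv3 F149776)
theorem F381704 : act 6 n190958 = n112924 := d10_2 F381697 D190958 (iv4 F381696)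
theorem F381705 : act 7 n190958 = n189766 := d11_2 F157641 D190958 F377673
theorem F381706 : act 0 n190958 = n189760 := d17_0 F377651 (iv1 D133216) D133217 (iv4 F364265) (iv5 F360338) F160709 F160705 F157798 D190958
theorem F381707 : act 1 n190958 = n189767 := d18_6 D97408 (iv4 F270436) F270439 F149771 D97087 D190958 (iv4 F380430) (iv0 F380431) (iv5 D97411)
theorem F381708 : act 5 n190958 = n113700 := d21_2 (iv5 F377676) (iv1 F381707) (iv6 D113700) (iv1 D52498) D52500 (iv5 F326332) (iv1 D29540) D29542 D62511 D133215
def n190959 : Q := act 6 n97089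
theorem D190959 : act 6 n97089 = n190959 := rfl
theorem F381709 : act 2 n190959 = n164620 := d3_1 D190959 (iv6 D164620) (iv2 F149783)
theorem F381710 : act 3 n190959 = n97092 := d7_1 D190959 (iv6 D97092) (iv3 F149784)
theorem F381711 : act 4 n190959 = n123649 := d10_1 D190959 (iv6 D123649) (iv4 F149785)
theorem F381712 : act 0 n190959 = n186598 := d21_4 (iv5 D89091) F71576 D97089 D190959 (iv6 D186598) F136364 (iv1 F73617) (iv5 F63942) F307503 (iv1 F136806)
theorem F381713 : act 1 n190959 = n187122 := d15_1 (iv0 F381712) (iv7 D187122) (iv2 F367379)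
theorem F381714 : act 7 n186955 = n190959 := d11_0 F381711 F352512 D186955
def n190960 : Q := act 5 n97090
theorem D190960 : act 5 n97090 = n190960 := rfl
theorem F381715 : act 2 n190960 = n190261 := d2_1 D190960 (iv5 D190261) (iv2 F149788)
theorem F381716 : act 3 n190960 = n97095 := d6_1 D190960 (iv5 D97095) (iv3 F149789)
theorem F381717 : act 0 n190960 = n188209 := d17_2 (iv1 F335317) D190960 (iv5 D188209) (iv4 D91085) (iv5 F357558) (iv0 D89121) (iv5 D41637) D41636 F335318
theorem F381718 : act 1 n190960 = n188212 := d17_6 (iv1 D184071) (iv5 F283446) (iv1 F378878) (iv5 D190112) (iv4 F149790) D190960 (iv5 D188212) F372672 F372670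
def n190961 : Q := act 6 n97091
theorem D190961 : act 6 n97091 = n190961 := rfl
theorem F381719 : act 2 n190961 = n107642 := d3_1 D190961 F328857 (iv2 F149791)
theorem F381720 : act 3 n190961 = n123654 := d7_1 D190961 (iv6 D123654) (iv3 F149792)
theorem F381721 : act 4 n190961 = n97092 := d10_1 D190961 (iv6 D97092) D97091
theorem F381722 : act 5 n190961 = n107641 := d12_1 D190961 (iv6 F345600) (iv5 D119294) F301375 F149795
def n190962 : Q := act 5 n97092
theorem D190962 : act 5 n97092 = n190962 := rfl
theorem F381723 : act 2 n190962 = n190209 := d2_1 D190962 (iv5 D190209) (iv2 F149796)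
theorem F381724 : act 6 n190962 = n97095 := d12_2 D97092 D190962 (iv5 D97095) (iv6 D45386) D45385
theorem F381725 : act 4 n190962 = n112942 := d16_4 F355511 (iv5 F381722) F381721 D190962 F211372 F211370 (iv5 F167100) F167101 (iv2 F355509)
theorem F381726 : act 0 n190962 = n97296 := d17_2 (iv1 F350631) D190962 F340401 (iv4 F175185) F175186 (iv0 F347851) (iv5 F347850) (iv0 D179264) D179266
def n190963 : Q := act 4 n97095
theorem D190963 : act 4 n97095 = n190963 := rfl
theorem F381727 : act 2 n190963 = n190210 := d1_1 D190963 (iv4 D190210) (iv2 F149798)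
theorem F381728 : act 6 n190963 = n112942 := d10_2 F381724 D190963 (iv4 F381725)
def n190964 : Q := act 5 n97098
theorem D190964 : act 5 n97098 = n190964 := rfl
theorem F381729 : act 2 n190964 = n97112 := d2_1 D190964 (iv5 D97112) (iv2 F149810)
theorem F381730 : act 3 n190964 = n188548 := d6_1 D190964 (iv5 D188548) (iv3 F149811)
theorem F381731 : act 6 n190964 = n97101 := d12_2 D97098 D190964 (iv5 D97101) (iv6 D45388) D45387
def n190965 : Q := act 7 n97098
theorem D190965 : act 7 n97098 = n190965 := rfl
theorem F381732 : act 2 n190965 = n97113 := d4_1 D190965 (iv7 D97113) (iv2 F149810)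
theorem F381733 : act 3 n190965 = n188549 := d8_1 D190965 (iv7 D188549) (iv3 F149811)
theorem F381734 : act 4 n190965 = n112593 := d11_1 D190965 F348910 (iv4 F149812)
theorem F381735 : act 6 n190965 = n190216 := d14_1 D190965 (iv7 D190216) (iv6 D95738) (iv7 F71587) D97098
theorem F381736 : act 1 n97111 = n190965 := d15_1 D97111 (iv7 D190965) F149810
theorem F381737 : act 1 n190965 = n97110 := d15_1 F381736 F348885 F357959
def n190966 : Q := act 5 n97099
theorem D190966 : act 5 n97099 = n190966 := rfl
theorem F381738 : act 2 n190966 = n97116 := d2_1 D190966 (iv5 D97116) (iv2 F283556)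
theorem F381739 : act 3 n190966 = n160620 := d6_1 D190966 (iv5 F353205) F284519
theorem F381740 : act 6 n190966 = n160619 := d12_2 F370017 D190966 (iv5 D160619) (iv6 F353171) F370015
theorem F381741 : act 7 n190966 = n97121 := d13_2 (iv7 F283557) D190966 (iv5 D97121)
theorem F381742 : act 0 n190966 = n187243 := d21_1 D190966 F369603 (iv6 D100171) (iv1 F157757) (iv6 D48003) F70299 (iv1 F71588) (iv5 D45387) D45388 D97099
def n190967 : Q := act 4 n97100
theorem D190967 : act 4 n97100 = n190967 := rfl
theorem F381743 : act 2 n190967 = n97120 := d1_1 D190967 (iv4 D97120) (iv2 F283554)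
theorem F381744 : act 3 n190967 = n159751 := d5_1 D190967 (iv4 D159751) F138035 (iv4 F138034) F149814
theorem F381745 : act 6 n190967 = n190384 := d10_2 F365308 D190967 (iv4 D190384)
theorem F381746 : act 7 n190967 = n97115 := d11_2 (iv7 F283555) D190967 (iv4 D97115)
theorem F381747 : act 0 n190967 = n98066 := d20_1 D190967 F151220 (iv3 F149501) F289552 (iv3 D45342) F63428 (iv1 F61805) F61800 (iv3 F71605) (iv1 F149813)
theorem F381748 : act 0 n190082 = n190967 := d20_10 (iv4 D190967) (iv1 D97100) (iv4 F72589) (iv3 F136437) D186604 (iv3 F367425) F152400 F369761 F369760 (iv3 F378806)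
def n190968 : Q := act 5 n97100
theorem D190968 : act 5 n97100 = n190968 := rfl
theorem F381749 : act 2 n190968 = n97121 := d2_1 D190968 (iv5 D97121) (iv2 F283554)
theorem F381750 : act 3 n190968 = n97163 := d6_1 D190968 (iv5 D97163) F149814
theorem F381751 : act 7 n190968 = n97116 := d13_2 (iv7 F283555) D190968 (iv5 D97116)
theorem F381752 : act 0 n187243 = n190968 := d21_7 (iv5 D118964) D118963 F335366 F177393 (iv1 D100169) D100171 (iv5 F369603) (iv5 D190968) (iv6 F365308) F324607
def n190969 : Q := act 0 n97101
theorem D190969 : act 0 n97101 = n190969 := rfl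
theorem F381753 : act 5 n190969 = n104315 := d21_2 D97101 D190969 F370218 (iv1 D88428) (iv6 F293051) F321143 (iv1 F107783) (iv5 F324608) F365308 (iv1 D97100)
theorem F381754 : act 2 n97123 = n190969 := d2_3 F381753 F370217 (iv5 F370215)
theorem F381755 : act 0 n190969 = n97126 := d21_7 D187230 (iv1 F369865) F369863 (iv6 F291954) (iv1 F138333) (iv6 F370218) (iv5 F381753) F149857 F71606 D89833
theorem F381756 : act 7 n97124 = n190969 := d15_2 (iv0 D97123) D97124 (iv2 F381754)
def n190970 : Q := act 1 n97101
theorem D190970 : act 1 n97101 = n190970 := rfl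
theorem F381757 : act 1 n190970 = n97126 := d15_1 D190970 (iv7 D97126) (iv2 F149815)
theorem F381758 : act 7 n190970 = n97123 := d15_2 (iv0 D190969) D190970 F381754
theorem F381759 : act 5 n190970 = n103091 := d17_7 (iv1 D88374) D88376 F151751 (iv5 D98336) F72589 D97101 D190970 F367167 (iv4 F290797)
theorem F381760 : act 3 n97166 = n190970 := d6_3 F381759 (iv3 F251666) F251668
theorem F381761 : act 2 n97124 = n190970 := d4_3 F381758 F381754 (iv7 F381756)
def n190971 : Q := act 4 n97101
theorem D190971 : act 4 n97101 = n190971 := rfl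
theorem F381762 : act 2 n190971 = n97125 := d1_1 D190971 (iv4 D97125) (iv2 F149815)
theorem F381763 : act 3 n190971 = n190861 := d5_1 D190971 F381360 F379241 (iv4 D190264) (iv3 F149816)
theorem F381764 : act 1 n190971 = n190952 := d18_6 (iv1 D97072) F71543 (iv1 F72598) F72589 D97101 D190971 (iv4 D190952) (iv0 F381624) (iv5 D190940)
theorem F381765 : act 7 n190859 = n190971 := d8_0 F381763 (iv7 D190861) D190859
def n190972 : Q := act 7 n97101
theorem D190972 : act 7 n97101 = n190972 := rfl
theorem F381766 : act 2 n190972 = n97126 := d4_1 D190972 (iv7 D97126) (iv2 F149815)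
theorem F381767 : act 3 n190972 = n190265 := d8_1 D190972 (iv7 D190265) (iv3 F149816)
theorem F381768 : act 4 n190972 = n190859 := d11_1 D190972 F381765 (iv4 D190971)
theorem F381769 : act 5 n190972 = n97102 := d13_1 D190972 (iv7 D97102) D97101
theorem F381770 : act 1 n97124 = n190972 := d15_1 D97124 (iv7 D190972) F149815
theorem F381771 : act 1 n190972 = n97123 := d15_1 F381770 (iv7 F381758) (iv2 F381761)
theorem F381772 : act 0 n190103 = n190859 := d18_2 F289558 D190103 (iv4 F381768) F381769 (iv4 F151755) F151758 F72592 F289556 D183221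
theorem F381773 : act 6 n190838 = n190972 := d10_0 F381768 F381356 (iv4 F381283)
def n190973 : Q := act 5 n97106
theorem D190973 : act 5 n97106 = n190973 := rfl
theorem F381774 : act 2 n190973 = n144245 := d2_1 D190973 (iv5 F364426) (iv2 F149835)
theorem F381775 : act 3 n190973 = n102245 := d6_1 D190973 (iv5 F368776) F368386
theorem F381776 : act 6 n190973 = n103083 := d12_2 D97106 D190973 (iv5 D103083) (iv6 D47791) (iv5 F71600)
theorem F381777 : act 0 n102255 = n190973 := d21_10 (iv5 D190973) F335522 D103157 F347198 (iv1 D113098) F82538 D52210 D113118 (iv5 F379515) F379507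
def n190974 : Q := act 6 n97107
theorem D190974 : act 6 n97107 = n190974 := rfl
theorem F381778 : act 2 n190974 = n119132 := d3_1 D190974 F187456 F301495
theorem F381779 : act 3 n190974 = n98316 := d7_1 D190974 F364472 F149841
theorem F381780 : act 4 n190974 = n98333 := d10_1 D190974 F308341 (iv4 F149838)
theorem F381781 : act 5 n190974 = n119012 := d12_1 D190974 (iv6 D119012) (iv5 D54766) D54767 (iv5 F300954)
theorem F381782 : act 0 n190974 = n103156 := d21_4 F301496 (iv1 F107176) (iv5 F300954) D190974 F347959 (iv5 F351342) (iv1 D178915) D178917 (iv6 F351334) (iv1 F149933)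
theorem F381783 : act 0 n112591 = n190974 := d21_4 (iv5 D28029) D28027 (iv5 F82044) D112591 (iv6 D190974) F300954 (iv1 F298829) (iv5 D95834) (iv6 F309693) F80471
theorem F381784 : act 7 n147169 = n190974 := d13_0 F381781 (iv7 F362752) F337585
def n190975 : Q := act 5 n97110
theorem D190975 : act 5 n97110 = n190975 := rfl
theorem F381785 : act 6 n190975 = n113649 := d12_2 (iv6 F354600) D190975 (iv5 D113649) (iv6 D52471) D52470
def n190976 : Q := act 3 n97111
theorem D190976 : act 3 n97111 = n190976 := rfl
theorem F381786 : act 7 n190976 = n154361 := d8_2 (iv7 F357958) D190976 F361970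
theorem F381787 : act 4 n190976 = n153825 := d20_6 F251958 (iv1 F142198) (iv4 F373906) (iv3 F381733) (iv1 F381736) D190976 (iv1 F361981) (iv4 F149703) F149702 D159835
theorem F381788 : act 0 n190976 = n186745 := d20_7 (iv4 D57714) (iv1 F90381) (iv4 F90898) F90897 (iv1 F109247) D153825 (iv4 F381787) F367871 F196555 F341417
def n190977 : Q := act 4 n97111
theorem D190977 : act 4 n97111 = n190977 := rfl
theorem F381789 : act 3 n190977 = n132914 := d5_1 D190977 F354984 D153825 (iv4 F381787) (iv3 D190976)
theorem F381790 : act 7 n190977 = n154367 := d11_2 (iv7 F357958) D190977 (iv4 F361969)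
theorem F381791 : act 6 n118568 = n190977 := d14_5 F381790 F361966 F161099 D113293 F344960
theorem F381792 : act 5 n190977 = n132907 := d12_1 F381791 (iv6 D132907) D132906 (iv6 F213497) F189740
def n190978 : Q := act 5 n97111
theorem D190978 : act 5 n97111 = n190978 := rfl
def n190979 : Q := act 6 n97111
theorem D190979 : act 6 n97111 = n190979 := rfl
theorem F381793 : act 4 n190979 = n118568 := d10_1 D190979 F381791 (iv4 D190977)
theorem F381794 : act 7 n190979 = n155977 := d14_2 (iv7 F357958) D190979 (iv6 D155977) F110950 D137273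
theorem F381795 : act 5 n112920 = n190979 := d21_2 D190333 (iv1 F379435) (iv6 D190979) (iv1 D97111) (iv6 D45392) (iv5 D21659) D21656 D45382 D97084 (iv1 F342251)
theorem F381796 : act 0 n190979 = n190367 := d17_2 (iv1 F379435) F381795 (iv5 D190367) F356950 (iv5 F97847) (iv0 F97846) D71477 F171430 (iv4 F379432)
theorem F381797 : act 1 n190979 = n176359 := d17_6 (iv1 D52127) (iv5 D25311) D25308 D52122 D112920 F381795 F346718 (iv0 F175872) (iv4 D112928)
def n190980 : Q := act 0 n97112
theorem D190980 : act 0 n97112 = n190980 := rfl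
def n190981 : Q := act 1 n97112
theorem D190981 : act 1 n97112 = n190981 := rfl
def n190982 : Q := act 4 n97112
theorem D190982 : act 4 n97112 = n190982 := rfl
theorem F381798 : act 6 n190982 = n97125 := d10_2 (iv6 F149849) D190982 (iv4 D97125)
def n190983 : Q := act 7 n97112
theorem D190983 : act 7 n97112 = n190983 := rfl
theorem F381799 : act 3 n190983 = n97140 := d8_1 D190983 (iv7 D97140) (iv3 F149848)
theorem F381800 : act 5 n190983 = n97113 := d13_1 D190983 (iv7 D97113) D97112
def n190984 : Q := act 5 n97115
theorem D190984 : act 5 n97115 = n190984 := rfl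
theorem F381801 : act 3 n190984 = n189280 := d6_1 D190984 (iv5 D189280) (iv3 F149853)
def n190985 : Q := act 6 n97115
theorem D190985 : act 6 n97115 = n190985 := rfl
theorem F381802 : act 3 n190985 = n189281 := d7_1 D190985 (iv6 D189281) (iv3 F149853)
theorem F381803 : act 4 n190985 = n97117 := d10_1 D190985 (iv6 D97117) D97115
def n190986 : Q := act 0 n97116
theorem D190986 : act 0 n97116 = n190986 := rfl
theorem F381804 : act 5 n190986 = n185521 := d17_3 D45393 D97116 D190986 (iv4 D185521) D185522 (iv0 F287795) (iv5 D98346) (iv0 D46012) F34493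
theorem F381805 : act 2 n187243 = n190986 := d15_3 (iv0 D190986) (iv0 F370026) (iv7 F369604)
theorem F381806 : act 1 n97121 = n190986 := d15_0 (iv0 D190986) (iv7 F381751) F381749
theorem F381807 : act 3 n190986 = n190276 := d0_2 D187243 F381805 (iv2 F379261) F158488 F137904
def n190987 : Q := act 4 n97116
theorem D190987 : act 4 n97116 = n190987 := rfl
def n190988 : Q := act 6 n97116
theorem D190988 : act 6 n97116 = n190988 := rfl
theorem F381808 : act 2 n190988 = n160619 := d3_1 D190988 (iv6 F381740) F381738
theorem F381809 : act 5 n190988 = n160618 := d12_1 D190988 (iv6 F331244) (iv5 F160325) (iv6 D97117) D97116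
def n190989 : Q := act 5 n97119
theorem D190989 : act 5 n97119 = n190989 := rfl
theorem F381810 : act 3 n190989 = n97121 := d6_1 D190989 (iv5 D97121) D97119
theorem F381811 : act 7 n190989 = n160620 := d13_2 F284518 D190989 (iv5 F353205)
theorem F381812 : act 4 n190989 = n190875 := d18_5 F70260 (iv4 F133538) (iv1 F152402) (iv4 F152403) D190989 (iv0 F381553) F365781 (iv0 F159343) (iv5 D95672)
theorem F381813 : act 6 n190874 = n190989 := d10_0 F381812 (iv6 D190875) D190874
def n190990 : Q := act 6 n97119
theorem D190990 : act 6 n97119 = n190990 := rfl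
theorem F381814 : act 3 n190990 = n97122 := d7_1 D190990 (iv6 D97122) D97119
theorem F381815 : act 7 n190990 = n176699 := d14_2 F284518 D190990 (iv6 D176699) (iv7 F298009) F353207
theorem F381816 : act 4 n184228 = n190990 := d20_2 (iv4 F134883) D184228 F381814 F365310 (iv3 D91291) (iv4 F73718) (iv1 F73719) (iv4 F292368) F295209 (iv1 D87946)
theorem F381817 : act 6 n98850 = n184228 := d10_0 F381816 (iv6 D190990) F152403
theorem F381818 : act 5 n184066 = n184228 := d19_1 D184066 F381816 F381814 F365310 F291423 F322241 F86585 F54204 F25766 F50788 (iv3 F27007) (iv1 F50792) D16215 D33550 D72725 (iv1 F325474) F293322 (iv4 D87803) (iv3 F134772)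
theorem F381819 : act 2 n184228 = n182929 := d3_1 F381817 (iv6 D182929) (iv2 F284514)
theorem F381820 : act 7 n184229 = n182929 := d15_2 (iv0 D184228) D184229 (iv2 F381819)
theorem F381821 : act 3 n98577 = n184229 := d8_3 F381820 (iv3 F367445) (iv7 F371269)
def n190991 : Q := act 5 n97120
theorem D190991 : act 5 n97120 = n190991 := rfl
theorem F381822 : act 3 n190991 = n181946 := d6_1 D190991 (iv5 D181946) F149855
def n190992 : Q := act 6 n97120
theorem D190992 : act 6 n97120 = n190992 := rfl
theorem F381823 : act 2 n190992 = n190384 := d3_1 D190992 (iv6 F381745) F381743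
theorem F381824 : act 3 n190992 = n98650 := d7_1 D190992 F289317 F149855
theorem F381825 : act 4 n190992 = n97122 := d10_1 D190992 (iv6 D97122) D97120
theorem F381826 : act 7 n190385 = n190992 := d11_0 F381825 F365314 D190385
theorem F381827 : act 5 n152400 = n190992 := d16_1 (iv4 F239591) F381825 F365313 F186073 (iv5 F203259) F203256 (iv5 F178388) (iv7 F178391) F178395
def n190993 : Q := act 4 n97121
theorem D190993 : act 4 n97121 = n190993 := rfl
theorem F381828 : act 3 n190993 = n190877 := d5_1 D190993 F381424 (iv3 F381420) (iv4 F381812) F381810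
theorem F381829 : act 6 n190876 = n190993 := d7_0 F381828 (iv6 D190877) D190876
def n190994 : Q := act 6 n97121
theorem D190994 : act 6 n97121 = n190994 := rfl
theorem F381830 : act 3 n190994 = n190874 := d7_1 D190994 F381813 F381810
theorem F381831 : act 4 n190994 = n190876 := d10_1 D190994 F381829 (iv4 D190993)
def n190995 : Q := act 4 n97123
theorem D190995 : act 4 n97123 = n190995 := rfl
theorem F381832 : act 5 n145298 = n190995 := d19_1 D145298 (iv4 D190995) (iv3 F370216) (iv1 D187320) (iv5 D89900) (iv4 F67736) F67735 (iv1 F35823) D41819 D89557 F321003 F321651 (iv5 D62248) (iv4 D29455) F100214 (iv1 D29336) (iv5 F24580) (iv4 F50024) (iv3 F104277)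
def n190996 : Q := act 6 n97123
theorem D190996 : act 6 n97123 = n190996 := rfl
def n190997 : Q := act 3 n97124
theorem D190997 : act 3 n97124 = n190997 := rfl
def n190998 : Q := act 4 n97124
theorem D190998 : act 4 n97124 = n190998 := rfl
def n190999 : Q := act 5 n97124
theorem D190999 : act 5 n97124 = n190999 := rfl
theorem F381833 : act 2 n190999 = n103091 := d2_1 D190999 (iv5 F381759) (iv2 F381761)
theorem F381834 : act 7 n190999 = n104315 := d13_2 (iv7 F381756) D190999 (iv5 F381753)
theorem F381835 : act 1 n190999 = n104316 := d17_8 F294477 F151779 (iv1 D98350) (iv5 D46014) F34493 D45395 D97124 D190999 (iv4 F366986)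
theorem F381836 : act 0 n190999 = n100171 := d18_0 F154120 F134655 (iv4 F160402) F160403 D190103 (iv0 F378859) (iv4 D97125) D97124 D190999
theorem F381837 : act 6 n190999 = n103084 := d21_3 (iv5 F381769) (iv1 F381770) D190999 F158372 F75096 D48384 D104624 (iv5 F160325) (iv6 D97117) F149822
def n191000 : Q := act 6 n97124
theorem D191000 : act 6 n97124 = n191000 := rfl
def n191001 : Q := act 1 n97125
theorem D191001 : act 1 n97125 = n191001 := rfl
theorem F381838 : act 1 n191001 = n190859 := d15_1 D191001 F381765 F381762
theorem F381839 : act 4 n191001 = n190951 := d18_7 (iv1 F149744) (iv4 F149749) (iv1 D46013) F34493 D45395 D97125 D191001 F381677 (iv5 D190083)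
theorem F381840 : act 2 n190952 = n191001 := d1_3 F381839 (iv2 D190951) D190952
def n191002 : Q := act 3 n97125
theorem D191002 : act 3 n97125 = n191002 := rfl
theorem F381841 : act 4 n191002 = n97144 := d5_2 D97125 D191002 (iv3 D97144) (iv4 D45403) (iv3 F71604)
def n191003 : Q := act 5 n97125
theorem D191003 : act 5 n97125 = n191003 := rfl
theorem F381842 : act 0 n191003 = n174587 := d17_2 (iv1 D191001) D191003 F378818 (iv4 D190088) (iv5 D95614) F289556 D183221 F381678 (iv4 F381839)
def n191004 : Q := act 7 n97125
theorem D191004 : act 7 n97125 = n191004 := rfl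
theorem F381843 : act 2 n191004 = n190859 := d4_1 D191004 F381765 F381762
theorem F381844 : act 4 n191004 = n97126 := d11_1 D191004 (iv7 D97126) D97125
theorem F381845 : act 1 n190952 = n191004 := d15_1 F381764 (iv7 D191004) (iv2 F381762)
theorem F381846 : act 6 n190897 = n191004 := d3_0 F381843 F381356 D190897
def n191005 : Q := act 6 n97126
theorem D191005 : act 6 n97126 = n191005 := rfl
theorem F381847 : act 2 n191005 = n190838 := d3_1 D191005 F381773 F381766
theorem F381848 : act 3 n191005 = n97147 := d7_1 D191005 (iv6 D97147) (iv3 F149856)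
theorem F381849 : act 4 n191005 = n190897 := d10_1 D191005 F381846 F381844
theorem F381850 : act 5 n191005 = n187237 := d12_1 D191005 (iv6 D187237) (iv5 D89836) (iv6 F71606) (iv5 F149857)
def n191006 : Q := act 5 n97128
theorem D191006 : act 5 n97128 = n191006 := rfl
theorem F381851 : act 2 n191006 = n190243 := d2_1 D191006 (iv5 D190243) (iv2 F362072)
theorem F381852 : act 3 n191006 = n97130 := d6_1 D191006 (iv5 D97130) D97128
theorem F381853 : act 7 n191006 = n190289 := d13_2 (iv7 F362081) D191006 (iv5 D190289)
def n191007 : Q := act 1 n97130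
theorem D191007 : act 1 n97130 = n191007 := rfl
theorem F381854 : act 1 n191007 = n97135 := d15_1 D191007 (iv7 F366291) (iv2 F366292)
theorem F381855 : act 7 n191007 = n190286 := d15_2 (iv0 F150040) D191007 (iv2 F379290)
theorem F381856 : act 5 n190774 = n191007 := d21_0 (iv1 D191007) (iv5 D97130) (iv6 F317685) (iv1 F51024) F321364 D47823 (iv1 F158435) (iv5 F366334) (iv6 F150039) (iv1 F381006)
theorem F381857 : act 2 n191007 = n190287 := d2_1 F381856 (iv5 F379293) (iv2 F381002)
theorem F381858 : act 6 n191007 = n190206 := d12_2 (iv6 F381004) F381856 (iv5 F379076) (iv6 D103759) (iv5 F288198)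
def n191008 : Q := act 4 n97130
theorem D191008 : act 4 n97130 = n191008 := rfl
theorem F381859 : act 2 n191008 = n190288 := d1_1 D191008 (iv4 D190288) (iv2 F366292)
theorem F381860 : act 6 n191008 = n142139 := d10_2 F369913 D191008 (iv4 F369912)
theorem F381861 : act 7 n191008 = n190291 := d11_2 (iv7 F366166) D191008 (iv4 D190291)
def n191009 : Q := act 4 n97135
theorem D191009 : act 4 n97135 = n191009 := rfl
theorem F381862 : act 2 n191009 = n190291 := d1_1 D191009 (iv4 D190291) F366167
theorem F381863 : act 7 n191009 = n190288 := d11_2 F366291 D191009 (iv4 D190288)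
def n191010 : Q := act 6 n97135
theorem D191010 : act 6 n97135 = n191010 := rfl
theorem F381864 : act 2 n191010 = n190292 := d3_1 D191010 (iv6 D190292) F366167
theorem F381865 : act 3 n191010 = n187265 := d7_1 D191010 F369658 (iv3 F366293)
theorem F381866 : act 7 n191010 = n187273 := d14_2 F366291 D191010 (iv6 D187273) (iv7 F138077) F363592
theorem F381867 : act 0 n187248 = n191010 := d21_4 F290650 F74930 (iv5 F290599) D187248 (iv6 D191010) (iv5 D97135) (iv1 D45398) D45399 F71609 D45401
def n191011 : Q := act 3 n97137
theorem D191011 : act 3 n97137 = n191011 := rfl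
theorem F381868 : act 2 n191011 = n190246 := d0_1 D191011 (iv3 D190246) F366329 F353133 (iv2 F290437)
theorem F381869 : act 7 n191011 = n190294 := d8_2 (iv7 F290435) D191011 (iv3 D190294)
theorem F381870 : act 1 n191011 = n189942 := d15_0 F378320 (iv7 F379179) (iv2 F381868)
def n191012 : Q := act 6 n97137
theorem D191012 : act 6 n97137 = n191012 := rfl
theorem F381871 : act 2 n191012 = n190293 := d3_1 D191012 (iv6 D190293) (iv2 F290437)
theorem F381872 : act 5 n191012 = n103247 := d21_6 (iv5 D42008) F35853 D21664 (iv6 F71609) D97137 D191012 (iv1 D103247) D103248 F158494 (iv1 F75125)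
def n191013 : Q := act 6 n97138
theorem D191013 : act 6 n97138 = n191013 := rfl
theorem F381873 : act 2 n191013 = n190295 := d3_1 D191013 (iv6 D190295) F290434
theorem F381874 : act 3 n191013 = n160977 := d7_1 D191013 F364600 F366327
theorem F381875 : act 5 n191013 = n160976 := d12_1 D191013 (iv6 F358423) (iv5 D95862) D95863 F149862
def n191014 : Q := act 3 n97139
theorem D191014 : act 3 n97139 = n191014 := rfl
theorem F381876 : act 6 n191014 = n97144 := d7_2 (iv6 F149864) D191014 (iv3 D97144)
def n191015 : Q := act 5 n97139
theorem D191015 : act 5 n97139 = n191015 := rfl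
theorem F381877 : act 2 n191015 = n175028 := d2_1 D191015 F366096 (iv2 F149863)
theorem F381878 : act 4 n191015 = n116430 := d9_1 D191015 F321226 (iv4 F247952) F314849 F125488 (iv5 F147502) (iv4 F379317) F379318 F237855 (iv5 F112388) F308491 F313014 F71229 D45399 D97139
theorem F381879 : act 7 n191015 = n128385 := d16_8 F237855 (iv5 F112388) F308491 F313014 F71229 D45399 D97139 D191015 (iv2 F237854)
theorem F381880 : act 0 n191015 = n175029 := d17_2 F378999 D191015 F378964 (iv4 D190142) (iv5 D95661) (iv0 D44682) D44684 D95669 D190155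
theorem F381881 : act 6 n191015 = n116428 := d21_3 (iv5 F378998) F378999 D191015 (iv1 F360683) (iv6 F360687) (iv5 F228322) F228324 (iv5 D68215) D68216 D145477
theorem F381882 : act 1 n191015 = n175031 := d15_1 (iv0 F381880) (iv7 D175031) D175029
theorem F381883 : act 1 n151164 = n175029 := d15_0 (iv0 F381880) F381879 (iv2 F237854)
def n191016 : Q := act 7 n97139
theorem D191016 : act 7 n97139 = n191016 := rfl
theorem F381884 : act 2 n191016 = n190299 := d4_1 D191016 (iv7 D190299) (iv2 F149863)
theorem F381885 : act 4 n191016 = n97140 := d11_1 D191016 (iv7 D97140) D97139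
theorem F381886 : act 5 n191016 = n128385 := d13_1 D191016 (iv7 F381879) (iv5 D191015)
theorem F381887 : act 1 n190297 = n191016 := d15_1 D190297 (iv7 D191016) F149863
theorem F381888 : act 1 n191016 = n190296 := d15_1 F381887 (iv7 F379312) F379315
def n191017 : Q := act 6 n97140
theorem D191017 : act 6 n97140 = n191017 := rfl
theorem F381889 : act 2 n191017 = n190300 := d3_1 D191017 (iv6 D190300) (iv2 F149865)
theorem F381890 : act 5 n191017 = n187242 := d12_1 D191017 F369602 F147458 (iv6 F71611) (iv5 F149866)
theorem F381891 : act 7 n191017 = n97147 := d14_2 D97140 D191017 (iv6 D97147) (iv7 D45404) (iv6 F71609)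
theorem F381892 : act 1 n190314 = n191017 := d15_1 D190314 F381891 F149881
theorem F381893 : act 1 n191017 = n190313 := d15_0 (iv0 D190313) (iv7 F379323) (iv2 F381889)
def n191018 : Q := act 4 n97141
theorem D191018 : act 4 n97141 = n191018 := rfl
theorem F381894 : act 2 n191018 = n190253 := d1_1 D191018 (iv4 D190253) (iv2 F149870)
theorem F381895 : act 7 n191018 = n190301 := d11_2 (iv7 F149871) D191018 (iv4 D190301)
def n191019 : Q := act 6 n97141
theorem D191019 : act 6 n97141 = n191019 := rfl
theorem F381896 : act 2 n191019 = n190254 := d3_1 D191019 (iv6 D190254) (iv2 F149870)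
theorem F381897 : act 3 n191019 = n97142 := d7_1 D191019 (iv6 D97142) D97141
theorem F381898 : act 5 n191019 = n97368 := d12_1 D191019 F365809 (iv5 D87292) (iv6 F75811) (iv5 F290794)
def n191020 : Q := act 0 n97142
theorem D191020 : act 0 n97142 = n191020 := rfl
def n191021 : Q := act 1 n97142
theorem D191021 : act 1 n97142 = n191021 := rfl
theorem F381899 : act 1 n191021 = n104354 := d15_1 D191021 (iv7 D104354) F291220
theorem F381900 : act 5 n188459 = n191021 := d21_6 F65000 (iv1 D20281) D20283 D42945 D91873 D188459 (iv1 D191021) F290796 (iv6 D87293) (iv1 F64998)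
def n191022 : Q := act 7 n97142
theorem D191022 : act 7 n97142 = n191022 := rfl
theorem F381901 : act 2 n191022 = n104354 := d4_1 D191022 (iv7 D104354) F291220
theorem F381902 : act 5 n191022 = n182863 := d13_1 D191022 (iv7 D182863) (iv5 F290796)
theorem F381903 : act 6 n191022 = n190304 := d14_1 D191022 (iv7 D190304) (iv6 D95823) F71621 D97142
theorem F381904 : act 1 n104354 = n191020 := d15_0 (iv0 D191020) D191022 F381901
theorem F381905 : act 1 n104353 = n191022 := d15_1 D104353 (iv7 D191022) (iv2 F291220)
theorem F381906 : act 1 n191022 = n104352 := d15_0 (iv0 D104352) D104354 (iv2 F381901)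
def n191023 : Q := act 0 n97143
theorem D191023 : act 0 n97143 = n191023 := rfl
theorem F381907 : act 5 n191023 = n109579 := d17_3 (iv1 D104645) (iv5 F149875) D191023 (iv4 F344634) (iv5 D167760) (iv0 F190178) D150242 F304292 (iv4 F348566)
theorem F381908 : act 4 n191023 = n141917 := d18_1 D191023 F321275 (iv4 F381468) F381469 F358730 F344691 (iv4 F340615) (iv0 D104644) (iv5 F149875)
theorem F381909 : act 1 n190304 = n191023 := d15_0 (iv0 D191023) F340374 (iv2 F379331)
theorem F381910 : act 7 n141916 = n191023 := d11_0 F381908 (iv7 D141917) D141916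
theorem F381911 : act 3 n191023 = n109580 := d8_1 F381910 (iv7 F174026) F344638
theorem F381912 : act 2 n191023 = n190303 := d15_3 (iv0 D190303) (iv0 F359853) F381910
def n191024 : Q := act 1 n97143
theorem D191024 : act 1 n97143 = n191024 := rfl
theorem F381913 : act 1 n191024 = n190304 := d15_1 D191024 (iv7 D190304) (iv2 F149873)
theorem F381914 : act 7 n191024 = n190303 := d15_2 (iv0 D191023) D191024 (iv2 F381912)
theorem F381915 : act 4 n191024 = n141888 := d17_9 (iv1 F379060) (iv5 F379057) (iv1 D150708) D150710 (iv4 F369665) (iv5 F369666) (iv0 D104644) (iv5 F149875) D191024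
theorem F381916 : act 5 n150669 = n191024 := d21_6 (iv5 F76060) (iv1 F292799) F292801 D103101 F352012 F344640 (iv1 D191024) F149875 (iv6 D48390) D48387
theorem F381917 : act 2 n191024 = n141916 := d2_1 F381916 F344637 (iv2 F344636)
def n191025 : Q := act 0 n97144
theorem D191025 : act 0 n97144 = n191025 := rfl
theorem F381918 : act 5 n191025 = n156334 := d19_1 D191025 F245673 (iv3 D137640) (iv1 F111101) (iv5 F328984) (iv4 D102085) F74619 (iv1 F134647) F134649 F133558 (iv3 F64439) (iv1 D19809) (iv5 D9304) D9303 D19805 F35853 D21664 D45403 D97144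
theorem F381919 : act 3 n141838 = n191025 := d6_3 F381918 (iv3 D156334) (iv5 F224876)
theorem F381920 : act 7 n191025 = n141967 := d8_2 (iv7 F224875) F381919 (iv3 D141967)
def n191026 : Q := act 1 n97144
theorem D191026 : act 1 n97144 = n191026 := rfl
def n191027 : Q := act 2 n97144
theorem D191027 : act 2 n97144 = n191027 := rfl
theorem F381921 : act 3 n191027 = n190310 := d0_2 D97144 D191027 (iv2 D190310) (iv3 D95826) (iv2 F71623)
def n191028 : Q := act 5 n97144
theorem D191028 : act 5 n97144 = n191028 := rfl
theorem F381922 : act 3 n191028 = n97145 := d6_1 D191028 (iv5 D97145) D97144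
theorem F381923 : act 7 n101412 = n191028 := d8_0 F381922 F292271 D101412
theorem F381924 : act 0 n191028 = n141835 := d20_4 F369853 F292257 (iv4 F292270) (iv3 F381922) (iv3 D141835) (iv4 F171744) F171745 F94995 (iv3 F328555) (iv1 F369856)
theorem F381925 : act 6 n141837 = n191026 := d21_9 D191028 F381924 (iv5 F360037) (iv6 D162293) F119176 D120296 F341378 (iv1 F167660) (iv5 F224870) (iv1 D191026)
theorem F381926 : act 1 n191028 = n141952 := d15_1 (iv0 F381924) F360083 F360081
theorem F381927 : act 2 n191026 = n141969 := d3_1 F381925 (iv6 D141969) F224871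
theorem F381928 : act 2 n191028 = n141950 := d15_3 (iv0 D141950) (iv0 F360794) F381923
theorem F381929 : act 5 n141950 = n191027 := d2_2 D191028 F381928 (iv2 D191027)
def n191029 : Q := act 7 n97144
theorem D191029 : act 7 n97144 = n191029 := rfl
theorem F381930 : act 3 n191029 = n97146 := d8_1 D191029 (iv7 D97146) D97144
theorem F381931 : act 5 n191029 = n101412 := d13_1 D191029 F381923 (iv5 D191028)
theorem F381932 : act 0 n191029 = n141967 := d20_4 (iv4 D48290) F290787 (iv4 F149878) (iv3 F381930) (iv3 D141967) D141968 F378946 F378945 (iv3 D95693) F291903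
theorem F381933 : act 1 n191027 = n141967 := d15_0 (iv0 F381932) (iv7 D191029) D191027
def n191030 : Q := act 6 n97145
theorem D191030 : act 6 n97145 = n191030 := rfl
theorem F381934 : act 2 n191030 = n101393 := d3_1 D191030 (iv6 D101393) (iv2 F292269)
theorem F381935 : act 4 n191030 = n101239 := d10_1 D191030 (iv6 D101239) (iv4 F292270)
theorem F381936 : act 5 n191030 = n116428 := d12_1 D191030 (iv6 F381881) (iv5 D191015) F149864 D97145
def n191031 : Q := act 6 n97146
theorem D191031 : act 6 n97146 = n191031 := rfl
theorem F381937 : act 2 n191031 = n190312 := d3_1 D191031 (iv6 D190312) (iv2 F149877)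
theorem F381938 : act 4 n191031 = n97147 := d10_1 D191031 (iv6 D97147) (iv4 F149878)
def n191032 : Q := act 0 n97147
theorem D191032 : act 0 n97147 = n191032 := rfl
theorem F381939 : act 1 n190300 = n191032 := d15_0 (iv0 D191032) (iv7 F381891) F381889
def n191033 : Q := act 1 n97147
theorem D191033 : act 1 n97147 = n191033 := rfl
theorem F381940 : act 1 n191033 = n190300 := d15_1 D191033 F379323 (iv2 F149881)
def n191034 : Q := act 5 n97148
theorem D191034 : act 5 n97148 = n191034 := rfl
theorem F381941 : act 2 n191034 = n190211 := d2_1 D191034 (iv5 D190211) (iv2 F149883)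
theorem F381942 : act 3 n191034 = n97151 := d6_1 D191034 (iv5 D97151) (iv3 F149884)
theorem F381943 : act 7 n191034 = n189425 := d13_2 F285231 D191034 F376583
theorem F381944 : act 0 n191034 = n189965 := d17_2 F375663 D191034 F378379 F380108 F380107 F375725 (iv5 D172217) (iv0 F294208) (iv4 F375659)
theorem F381945 : act 4 n191034 = n189251 := d19_2 F375663 D191034 (iv3 D189251) (iv1 F144832) F144830 (iv4 D92418) (iv3 F293539) (iv1 F294490) (iv5 D47705) (iv4 F65094) (iv3 D42164) (iv1 F31739) D20131 (iv4 F31970) (iv3 F66889) D91099 F356189 D93198 D189079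
theorem F381946 : act 0 n189397 = n189251 := d18_2 F370075 (iv4 F376533) (iv4 F381945) (iv5 D191034) F149885 F157612 F134462 (iv0 F295214) D181923
theorem F381947 : act 1 n185603 = n189251 := d15_0 (iv0 F381946) (iv7 F376592) (iv2 F376594)
theorem F381948 : act 1 n189431 = n185603 := d15_0 F381947 F376231 D189431
theorem F381949 : act 1 n189397 = n189431 := d15_0 F381948 (iv7 F370076) (iv2 F376532)
def n191035 : Q := act 4 n97160
theorem D191035 : act 4 n97160 = n191035 := rfl
def n191036 : Q := act 4 n97163
theorem D191036 : act 4 n97163 = n191036 := rfl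
def n191037 : Q := act 6 n97163
theorem D191037 : act 6 n97163 = n191037 := rfl
def n191038 : Q := act 3 n97165
theorem D191038 : act 3 n97165 = n191038 := rfl
def n191039 : Q := act 6 n97165
theorem D191039 : act 6 n97165 = n191039 := rfl
theorem F381950 : act 5 n191039 = n144235 := d12_1 D191039 (iv6 D144235) (iv5 F350496) (iv6 F350499) (iv5 F251681)
def n191040 : Q := act 0 n97167
theorem D191040 : act 0 n97167 = n191040 := rfl
theorem F381951 : act 4 n191040 = n190819 := d18_3 (iv1 D97166) D97167 D191040 F381235 F367170 (iv0 D185832) F135505 D103805 F251668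
theorem F381952 : act 2 n190831 = n191040 := d1_3 F381951 (iv2 F381236) D190831
theorem F381953 : act 7 n190834 = n191040 := d11_0 F381951 F381237 D190834
def n191041 : Q := act 1 n97167
theorem D191041 : act 1 n97167 = n191041 := rfl
theorem F381954 : act 7 n191041 = n190831 := d15_2 (iv0 D191040) D191041 F381952
theorem F381955 : act 4 n191041 = n189835 := d18_7 F142184 (iv4 D92436) (iv1 D43232) (iv4 F34119) D45411 D97167 D191041 F377931 F149575
theorem F381956 : act 6 n133379 = n191041 := d21_3 (iv5 D62598) D62597 D133379 (iv1 D191041) F251897 F251894 (iv1 F114624) D95579 (iv6 F378635) (iv1 D133381)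
theorem F381957 : act 2 n191041 = n190834 := d3_1 F381956 F381279 F226818
def n191042 : Q := act 3 n97167
theorem D191042 : act 3 n97167 = n191042 := rfl
theorem F381958 : act 2 n191042 = n187296 := d0_1 D191042 F369746 F137990 (iv3 F369541) F369540
theorem F381959 : act 4 n191042 = n97184 := d5_2 D97167 D191042 (iv3 D97184) (iv4 D45417) (iv3 F71647)
theorem F381960 : act 6 n191042 = n187293 := d7_2 (iv6 F251897) D191042 F369737
def n191043 : Q := act 5 n97167
theorem D191043 : act 5 n97167 = n191043 := rfl
theorem F381961 : act 2 n191043 = n190841 := d2_1 D191043 F381291 F369540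
theorem F381962 : act 6 n191043 = n190820 := d12_2 (iv6 F251897) D191043 F381241 F149556 (iv5 F251894)
theorem F381963 : act 7 n191043 = n190272 := d13_2 F369835 D191043 F379254
theorem F381964 : act 4 n191043 = n190273 := d16_2 D97167 D191043 F379256 F147493 (iv5 F142170) F142169 D187318 F369824 F149904
def n191044 : Q := act 5 n97174
theorem D191044 : act 5 n97174 = n191044 := rfl
theorem F381965 : act 2 n191044 = n190289 := d2_1 D191044 (iv5 D190289) (iv2 F362080)
theorem F381966 : act 3 n191044 = n97176 := d6_1 D191044 (iv5 D97176) D97174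
theorem F381967 : act 7 n191044 = n190243 := d13_2 (iv7 F362074) D191044 (iv5 D190243)
def n191045 : Q := act 6 n97178
theorem D191045 : act 6 n97178 = n191045 := rfl
theorem F381968 : act 2 n191045 = n190247 := d3_1 D191045 (iv6 D190247) F366329
theorem F381969 : act 3 n191045 = n190293 := d7_1 D191045 (iv6 D190293) (iv3 F353133)
theorem F381970 : act 4 n191045 = n187241 := d10_1 D191045 (iv6 F369792) (iv4 F366330)
theorem F381971 : act 0 n191045 = n187217 := d21_4 (iv5 D95940) D95938 F149923 D191045 (iv6 D187217) F137858 (iv1 F137944) (iv5 F137999) (iv6 F358004) F147585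
def n191046 : Q := act 3 n97180
theorem D191046 : act 3 n97180 = n191046 := rfl
theorem F381972 : act 4 n191046 = n187293 := d5_2 D97180 D191046 F369737 F251893 F120148
theorem F381973 : act 6 n191046 = n97184 := d7_2 (iv6 F149918) D191046 (iv3 D97184)
theorem F381974 : act 2 n187295 = n191046 := d1_3 F381972 F369736 D187295
theorem F381975 : act 7 n190916 = n191046 := d11_0 F381972 F369738 D190916
theorem F381976 : act 1 n190926 = n191046 := d17_8 F369739 F149618 F148344 D103908 (iv4 F365781) (iv5 D102219) D102218 (iv5 F381566) F381972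
theorem F381977 : act 1 n191046 = n190925 := d15_0 (iv0 D190925) (iv7 F369745) F381974
def n191047 : Q := act 7 n97180
theorem D191047 : act 7 n97180 = n191047 := rfl
theorem F381978 : act 2 n191047 = n190252 := d4_1 D191047 (iv7 D190252) (iv2 F149917)
theorem F381979 : act 3 n191047 = n190916 := d8_1 D191047 F381975 (iv3 D191046)
theorem F381980 : act 4 n191047 = n97181 := d11_1 D191047 (iv7 D97181) D97180
theorem F381981 : act 5 n191047 = n154540 := d13_1 D191047 F242582 (iv5 F364595)
theorem F381982 : act 1 n190249 = n191047 := d15_1 D190249 (iv7 D191047) F149917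
theorem F381983 : act 1 n191047 = n190248 := d15_1 F381982 (iv7 F379186) (iv2 F379195)
def n191048 : Q := act 4 n97182
theorem D191048 : act 4 n97182 = n191048 := rfl
theorem F381984 : act 2 n191048 = n190301 := d1_1 D191048 (iv4 D190301) (iv2 F149925)
theorem F381985 : act 7 n191048 = n190253 := d11_2 (iv7 F149927) D191048 (iv4 D190253)
def n191049 : Q := act 0 n97184
theorem D191049 : act 0 n97184 = n191049 := rfl
def n191050 : Q := act 2 n97184
theorem D191050 : act 2 n97184 = n191050 := rfl
theorem F381986 : act 3 n191050 = n190260 := d0_2 D97184 D191050 (iv2 D190260) (iv3 D95778) (iv2 F71660)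
theorem F381987 : act 4 n191050 = n187296 := d1_2 F381959 D191050 (iv2 F381958)
theorem F381988 : act 6 n191050 = n187295 := d3_2 F381973 D191050 F381974
def n191051 : Q := act 0 n97186
theorem D191051 : act 0 n97186 = n191051 := rfl
theorem F381989 : act 3 n191051 = n112488 := d20_5 (iv4 F321185) (iv1 D106133) (iv4 F147536) (iv3 F149935) D191051 (iv4 F319201) (iv1 F368311) F368309 (iv3 F377885) (iv1 F377888)
theorem F381990 : act 1 n97193 = n191051 := d15_0 (iv0 D191051) F357974 (iv2 F316664)
theorem F381991 : act 2 n97190 = n191051 := d0_5 F381989 F325573 F338520 (iv2 F347756) (iv3 F347761)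
theorem F381992 : act 5 n112487 = n191051 := d6_0 F381989 (iv5 D112488) D112487
theorem F381993 : act 7 n97191 = n191051 := d15_2 (iv0 D97190) D97191 (iv2 F381991)
def n191052 : Q := act 1 n97186
theorem D191052 : act 1 n97186 = n191052 := rfl
theorem F381994 : act 1 n191052 = n97193 := d15_1 D191052 (iv7 D97193) (iv2 F149934)
theorem F381995 : act 7 n191052 = n97190 := d15_2 (iv0 D191051) D191052 F381991
theorem F381996 : act 3 n97210 = n191052 := d20_3 F380222 (iv1 F259544) F338506 (iv1 D191052) F149935 F147536 F178166 (iv4 F248557) (iv3 F353129) (iv1 F380225)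
theorem F381997 : act 6 n190338 = n191052 := d21_3 D103157 F319852 (iv5 F379458) (iv1 D191052) (iv6 D97186) F71662 (iv1 F36253) (iv5 F71600) D97106 F335522
theorem F381998 : act 3 n127114 = n190338 := d7_3 F381997 (iv3 F381996) F350494
theorem E103462 : n136309 = n127113 := (c6_3 D127114 F381998 F379458 (iv3 D127113))
theorem F381999 : act 0 n127113 = n64082 := (sb E103462 (iv1 D136309))
theorem F382000 : act 1 n127113 = n103157 := (sb E103462 (iv0 F319852))
theorem F382001 : act 5 n127113 = n190338 := (sb E103462 (iv5 F379458))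
theorem F382002 : act 4 n136303 = n141960 := d20_6 F48848 D30417 (iv4 F163598) D127113 F381999 (iv3 F219359) (iv1 D141960) (iv4 F220701) (iv3 D137507) (iv1 D64632)
theorem F382003 : act 6 n141960 = n107205 := d10_2 D136303 F382002 F347203
theorem F382004 : act 0 n102017 = n136303 := d20_10 F382002 (iv1 D141960) (iv4 F220701) (iv3 D137507) (iv1 D64632) F329624 (iv4 D22778) (iv1 F35332) D47385 D102017
theorem F382005 : act 5 n191052 = n155967 := d6_2 (iv5 F338517) F381996 (iv3 D155967)
theorem F382006 : act 2 n97191 = n191052 := d4_3 F381995 F381991 (iv7 F381993)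
def n191053 : Q := act 5 n97186
theorem D191053 : act 5 n97186 = n191053 := rfl
theorem F382007 : act 2 n191053 = n97192 := d2_1 D191053 (iv5 D97192) (iv2 F149934)
theorem F382008 : act 3 n191053 = n137276 := d6_1 D191053 F357961 (iv3 F149935)
theorem F382009 : act 6 n191053 = n103651 := d12_2 D97186 D191053 (iv5 D103651) (iv6 D48006) (iv5 F71662)
theorem F382010 : act 7 n191053 = n137267 := d13_2 (iv7 F357974) D191053 F220408
theorem F382011 : act 1 n191053 = n137282 := d17_8 (iv1 D111384) D111386 F223799 (iv5 D112496) (iv4 F174964) F381992 (iv0 D191051) D191053 F220428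
theorem F382012 : act 0 n191053 = n164086 := d21_4 (iv5 D104619) (iv1 F76047) D103651 (iv6 F382009) (iv6 D164086) (iv5 F136172) D186421 (iv5 F341814) (iv6 D104649) (iv1 F160315)
def n191054 : Q := act 1 n97189
theorem D191054 : act 1 n97189 = n191054 := rfl
theorem F382013 : act 1 n191054 = n110623 := d15_1 D191054 (iv7 F347824) (iv2 F347821)
theorem F382014 : act 7 n191054 = n145778 := d15_2 (iv0 F354582) D191054 (iv2 D145778)
theorem F382015 : act 4 n191054 = n190675 := d17_9 (iv1 F380537) (iv5 D109535) D109532 F169494 F112588 (iv5 F106153) (iv0 F347932) F347934 D191054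
theorem F382016 : act 2 n116916 = n191054 := d1_3 F382015 (iv2 D190675) F320035
theorem F382017 : act 3 n191054 = n145783 := d0_2 D116916 F382016 (iv2 D145783) (iv3 D68349) F84966
theorem F382018 : act 5 n191054 = n145783 := d2_2 (iv5 F182682) F382016 (iv2 D145783)
theorem F382019 : act 0 n145783 = n157572 := d21_1 F382018 (iv5 F357688) (iv6 F347825) (iv1 D110650) (iv6 D51021) (iv5 D24814) D24811 D51009 D110623 (iv1 F382013)
def n191055 : Q := act 4 n97190
theorem D191055 : act 4 n97190 = n191055 := rfl
theorem F382020 : act 3 n191055 = n114198 := d5_1 D191055 (iv4 F338524) (iv3 F338532) F347755 (iv3 F347761)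
theorem F382021 : act 0 n191055 = n112569 := d20_1 D191055 (iv4 F354555) (iv3 D109893) (iv1 F81616) F337309 D95474 F337313 F71136 (iv3 F71667) D97190
theorem F382022 : act 5 n142375 = n191055 := d6_0 F382020 F330344 D142375
def n191056 : Q := act 5 n97190
theorem D191056 : act 5 n97190 = n191056 := rfl
theorem F382023 : act 2 n191056 = n112487 := d2_1 D191056 F381992 (iv2 F381991)
theorem F382024 : act 3 n191056 = n109512 := d6_1 D191056 F347760 (iv3 F347761)
theorem F382025 : act 7 n191056 = n155967 := d13_2 F381995 D191056 (iv5 F382005)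
theorem F382026 : act 6 n160866 = n191056 := d7_0 F382024 F346890 F262331
theorem F382027 : act 4 n191056 = n111499 := d20_6 (iv4 D25108) (iv1 F19679) D24615 D50524 D109512 (iv3 F382024) (iv1 D111499) F81199 (iv3 D50672) (iv1 F39466)
theorem E103463 : n112495 = n111499 := ((c1_1 F382027 (iv2 D112495) (iv4 F174964) (iv2 F382023))).symm
theorem F382028 : act 2 n111499 = n51900 := (sb E103463 (iv2 D112495))
theorem F382029 : act 6 n111499 = n124283 := (sb E103463 F365911)
def n191057 : Q := act 6 n97190
theorem D191057 : act 6 n97190 = n191057 := rfl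
theorem F382030 : act 3 n191057 = n121342 := d7_1 D191057 (iv6 F347757) (iv3 F347761)
def n191058 : Q := act 3 n97191
theorem D191058 : act 3 n97191 = n191058 := rfl
theorem F382031 : act 7 n191058 = n112488 := d8_2 (iv7 F381993) D191058 (iv3 F381989)
theorem F382032 : act 4 n191058 = n186856 := d20_6 F377878 (iv1 F178288) (iv4 F357975) F220435 (iv1 F357987) D191058 (iv1 D186856) F319204 F148306 D189823
theorem F382033 : act 5 n109928 = n191058 := d9_0 F382032 F368304 F344572 (iv5 D163254) F119654 (iv5 F57227) (iv4 F122792) D166686 (iv4 F368288) F368287 F344580 F344514 F325205 F323924 (iv4 F170045)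
theorem F382034 : act 0 n111898 = n191058 := d18_0 F382032 (iv1 D186856) F319204 F320050 F324439 F297228 (iv4 F323917) (iv0 D111895) D111898
theorem F382035 : act 0 n191058 = n111909 := d20_1 (iv4 F382032) (iv4 F321936) F197530 (iv1 F324899) (iv3 D117533) (iv4 F94292) F94291 (iv4 F85465) D117501 (iv1 F368302)
theorem F382036 : act 6 n191058 = n187080 := d21_9 F137244 (iv1 F357220) F156826 (iv6 D47465) (iv1 F64407) D89446 F322926 D109928 F382033 (iv1 D187080)
def n191059 : Q := act 4 n97191
theorem D191059 : act 4 n97191 = n191059 := rfl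
theorem F382037 : act 3 n191059 = n147487 := d5_1 D191059 (iv4 F350782) F368305 (iv4 F382032) (iv3 D191058)
theorem F382038 : act 0 n112569 = n191059 := d20_1 F354555 (iv4 D191059) D191058 F382035 F353326 (iv4 F196499) F378244 (iv4 D189918) (iv3 F377989) (iv1 F377993)
theorem F382039 : act 5 n147486 = n191059 := d6_0 F382037 (iv5 D147487) D147486
def n191060 : Q := act 5 n97191
theorem D191060 : act 5 n97191 = n191060 := rfl
theorem F382040 : act 2 n191060 = n155967 := d2_1 D191060 (iv5 F382005) (iv2 F382006)
theorem F382041 : act 3 n191060 = n109928 := d6_1 D191060 F382033 (iv3 D191058)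
theorem F382042 : act 7 n191060 = n112487 := d13_2 (iv7 F381993) D191060 F381992
theorem F382043 : act 4 n191060 = n110265 := d18_5 (iv1 F377993) F354555 F382038 (iv4 D191059) D191060 (iv0 F170487) F81199 D109872 (iv5 F377991)
theorem F382044 : act 6 n162703 = n191060 := d10_0 F382043 (iv6 F363326) F363325
def n191061 : Q := act 6 n97191
theorem D191061 : act 6 n97191 = n191061 := rfl
theorem F382045 : act 2 n191061 = n190338 := d3_1 D191061 F381997 (iv2 F382006)
theorem F382046 : act 3 n191061 = n187080 := d7_1 D191061 (iv6 F382036) (iv3 D191058)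
theorem F382047 : act 5 n191061 = n136289 := d21_6 (iv5 D64520) (iv1 D30374) D30376 D64527 (iv1 F357987) D191061 (iv1 D136289) (iv5 F110939) (iv6 D74179) (iv1 F100454)
theorem F382048 : act 2 n136289 = n127113 := d2_1 F382047 F382001 (iv2 F382045)
theorem F382049 : act 0 n190334 = n191061 := d21_10 F382047 (iv1 D136289) (iv5 F110939) (iv6 D74179) (iv1 F100454) D137280 F344961 (iv1 F379434) (iv5 D190333) D190334
theorem F382050 : act 7 n136308 = n136289 := d15_2 F382000 F319853 F382048
theorem F382051 : act 7 n136288 = n127113 := d15_2 F219371 F219372 (iv2 F382048)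
theorem F382052 : act 2 n136308 = n136288 := d4_3 F382051 (iv2 F382048) (iv7 F382050)
theorem F382053 : act 3 n107277 = n136288 := d8_3 F382051 (iv3 D127113) (iv7 F165331)
theorem F382054 : act 7 n191061 = n190339 := d13_2 F382050 (iv5 F382047) (iv5 F379517)
def n191062 : Q := act 0 n97192
theorem D191062 : act 0 n97192 = n191062 := rfl
def n191063 : Q := act 1 n97192
theorem D191063 : act 1 n97192 = n191063 := rfl
theorem F382055 : act 1 n191063 = n137267 := d15_1 D191063 (iv7 F382010) F382007
theorem F382056 : act 3 n111895 = n191063 := d20_3 F322492 F297225 (iv4 F323917) (iv1 D191063) F149944 D97206 F340703 (iv4 F340709) F340708 (iv1 F81394)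
theorem F382057 : act 2 n191063 = n137282 := d0_1 F382056 (iv3 D137282) (iv2 F173846) (iv3 F324438) F324437
theorem F382058 : act 6 n191063 = n162635 := d7_2 (iv6 F323918) F382056 (iv3 D162635)
theorem F382059 : act 7 n191063 = n164086 := d8_2 F324434 F382056 F258606
theorem F382060 : act 2 n164086 = n191062 := d15_3 (iv0 D191062) D191063 F382059
theorem F382061 : act 7 n137282 = n191062 := d4_2 (iv7 F382059) F382057 (iv2 F382060)
theorem F382062 : act 3 n191062 = n111810 := d8_1 F382061 F173848 D137282
theorem F382063 : act 1 n137267 = n191062 := d15_1 F382055 (iv7 F382061) (iv2 F382057)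
theorem F382064 : act 6 n164085 = n191062 := d7_0 F382062 F356056 (iv3 F258601)
theorem E103464 : n176911 = n176822 := ((c21_1 D176822 (iv1 F289215) F289213 F382064 (iv1 F382063) (iv6 D137267) (iv5 D64514) D64511 (iv5 F354532) (iv6 D84303) D84299)).symm
theorem F382065 : act 0 n176822 = n186423 := (sb E103464 (iv1 F289215))
theorem F382066 : act 1 n176822 = n84331 := (sb E103464 (iv0 D176911))
theorem E103465 : n176912 = n176827 := (c21_8 F331194 (iv1 D48008) D48009 (iv6 F149945) D191062 (iv6 F382064) (iv5 F289213) (iv1 F289217) (iv5 D176827) (iv6 F362558) F331201)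
theorem F382067 : act 0 n176827 = n84331 := (sb E103465 (iv1 D176912))
theorem F382068 : act 1 n176827 = n186423 := (sb E103465 F289217)
def n191064 : Q := act 4 n97192
theorem D191064 : act 4 n97192 = n191064 := rfl
theorem F382069 : act 6 n191064 = n103660 := d10_2 (iv6 F149945) D191064 (iv4 D103660)
def n191065 : Q := act 7 n97192
theorem D191065 : act 7 n97192 = n191065 := rfl
theorem F382070 : act 2 n191065 = n137267 := d4_1 D191065 (iv7 F382010) F382007
theorem F382071 : act 3 n191065 = n97207 := d8_1 D191065 (iv7 D97207) (iv3 F149944)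
theorem F382072 : act 5 n191065 = n97193 := d13_1 D191065 (iv7 D97193) D97192
theorem F382073 : act 6 n191065 = n111804 := d14_1 D191065 (iv7 F340594) (iv6 D104627) F76054 (iv6 F149945)
theorem F382074 : act 1 n137282 = n191065 := d15_1 F382011 (iv7 D191065) (iv2 F382007)
theorem F382075 : act 1 n191065 = n164086 := d15_1 F382074 (iv7 F382059) F382057
def n191066 : Q := act 6 n97197
theorem D191066 : act 6 n97197 = n191066 := rfl
theorem F382076 : act 2 n191066 = n160976 := d3_1 D191066 (iv6 F358423) F290432
theorem F382077 : act 4 n191066 = n104653 := d10_1 D191066 F361139 (iv4 F359863)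
theorem F382078 : act 5 n191066 = n190295 := d12_1 D191066 (iv6 D190295) (iv5 F149949) (iv6 D97198) D97197
theorem F382079 : act 0 n191066 = n104666 := d21_4 (iv5 D45423) D45421 D97197 D191066 (iv6 D104666) (iv5 F138075) (iv1 D89914) D89916 F340380 (iv1 D97205)
def n191067 : Q := act 5 n97203
theorem D191067 : act 5 n97203 = n191067 := rfl
theorem F382080 : act 2 n191067 = n103166 := d2_1 D191067 F158434 F290442
theorem F382081 : act 3 n191067 = n190315 := d6_1 D191067 (iv5 D190315) (iv3 F353135)
theorem F382082 : act 7 n191067 = n103167 := d13_2 F290439 D191067 (iv5 F366334)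
theorem F382083 : act 4 n191067 = n172789 := d16_2 F334508 D191067 (iv5 D172789) F127500 F310749 (iv4 F243033) (iv5 F243096) F243097 (iv2 F243157)
theorem F382084 : act 0 n191067 = n103039 := d17_2 (iv1 F334512) D191067 (iv5 D103039) (iv4 F319385) F51010 (iv0 F242963) D68776 (iv0 F243019) (iv4 F334510)
theorem F382085 : act 1 n191067 = n103035 := d17_6 D58120 D124525 F315635 F243151 F334508 D191067 (iv5 D103035) (iv0 D47768) (iv4 F44724)
def n191068 : Q := act 3 n97206
theorem D191068 : act 3 n97206 = n191068 := rfl
theorem F382086 : act 6 n191068 = n103663 := d7_2 (iv6 F149954) D191068 (iv3 D103663)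
theorem F382087 : act 0 n190692 = n191068 := d20_4 (iv4 F82249) D112746 (iv4 F344702) (iv3 F380620) (iv3 D191068) (iv4 D97206) D97204 (iv4 F369713) F369712 (iv1 D109284)
def n191069 : Q := act 5 n97206
theorem D191069 : act 5 n97206 = n191069 := rfl
theorem F382088 : act 2 n191069 = n190326 := d2_1 D191069 (iv5 D190326) (iv2 F149953)
theorem F382089 : act 4 n191069 = n154736 := d16_2 D97206 D191069 (iv5 D154736) F110083 (iv5 F105406) (iv4 F314855) (iv5 F147544) (iv7 D95872) (iv2 F71669)
theorem F382090 : act 1 n191069 = n109693 := d17_6 F321385 F319395 (iv1 D45422) D45423 D97206 D191069 (iv5 D109693) D109691 (iv4 F321387)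
def n191070 : Q := act 4 n97211
theorem D191070 : act 4 n97211 = n191070 := rfl
theorem F382091 : act 2 n191070 = n111809 := d1_1 D191070 F173582 (iv2 F318864)
theorem F382092 : act 3 n191070 = n125606 := d5_1 D191070 F202057 F171207 F318872 (iv3 F149963)
theorem F382093 : act 6 n191070 = n103679 := d10_2 (iv6 F149964) D191070 (iv4 D103679)
theorem F382094 : act 7 n191070 = n125599 := d11_2 (iv7 F318865) D191070 F202047
theorem F382095 : act 1 n125598 = n191070 := d15_1 D125598 F382094 (iv2 D125599)
theorem F382096 : act 1 n191070 = n125597 := d15_0 (iv0 D125597) (iv7 F173583) (iv2 F382091)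
def n191071 : Q := act 6 n97223
theorem D191071 : act 6 n97223 = n191071 := rfl
theorem F382097 : act 2 n191071 = n146022 := d3_1 D191071 (iv6 D146022) (iv2 F318869)
theorem F382098 : act 3 n191071 = n190323 := d7_1 D191071 (iv6 D190323) (iv3 F357999)
theorem F382099 : act 4 n191071 = n120957 := d10_1 D191071 F334279 (iv4 F318870)
theorem F382100 : act 5 n191071 = n189994 := d12_1 D191071 (iv6 F378492) (iv5 F290443) (iv6 F319929) F319928
theorem F382101 : act 7 n191071 = n163351 := d14_2 F317123 D191071 F369672 (iv7 F369923) F369922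
theorem F382102 : act 1 n111863 = n191071 := d15_1 (iv0 F363506) F382101 F364488
def n191072 : Q := act 3 n97233
theorem D191072 : act 3 n97233 = n191072 := rfl
def n191073 : Q := act 0 n97238
theorem D191073 : act 0 n97238 = n191073 := rfl
theorem F382103 : act 4 n191073 = n115099 := d18_3 D76366 F230422 D191073 (iv5 D115099) F83837 D63716 D135508 F359577 (iv5 D76368)
theorem F382104 : act 5 n191073 = n149326 := d21_2 (iv5 F333162) D191073 (iv6 D149326) (iv1 F122448) (iv6 F235098) F320903 (iv1 D59693) D59695 D127146 F334136
theorem F382105 : act 2 n149347 = n191073 := d15_3 (iv0 D191073) F335033 F234778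
theorem F382106 : act 1 n159624 = n191073 := d15_0 (iv0 D191073) F336825 (iv2 F336854)
theorem F382107 : act 7 n191073 = n164234 := d15_2 (iv0 F335029) F382106 F336884
theorem F382108 : act 6 n133728 = n191073 := d21_9 F333168 (iv1 F334137) F321568 (iv6 F321281) F340691 F282910 (iv5 D86788) F309828 D133728 (iv1 F382106)
def n191074 : Q := act 4 n97240
theorem D191074 : act 4 n97240 = n191074 := rfl
theorem F382109 : act 2 n191074 = n115209 := d1_1 D191074 F348994 (iv2 F336829)
theorem F382110 : act 6 n191074 = n116414 := d10_2 (iv6 F330064) D191074 (iv4 F181585)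
theorem F382111 : act 7 n191074 = n115204 := d11_2 (iv7 F336830) D191074 F339805
theorem F382112 : act 5 n191074 = n115206 := d16_7 F211592 D132071 (iv4 F380320) (iv5 D190619) F350619 D97240 D191074 (iv7 D115206) D115201
theorem F382113 : act 0 n191074 = n176368 := d17_0 (iv5 F363737) (iv1 F214575) F335820 F335815 F106608 F188389 D68593 (iv0 F330072) D191074
theorem F382114 : act 1 n191074 = n130655 := d18_6 F335135 F125280 D96246 F350619 D97240 D191074 (iv4 F335849) F228578 F335139
theorem F382115 : act 3 n176508 = n191074 := d6_3 F382112 (iv3 F371220) F371222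
def n191075 : Q := act 1 n97243
theorem D191075 : act 1 n97243 = n191075 := rfl
theorem F382116 : act 1 n191075 = n170402 := d15_1 D191075 (iv7 F352578) (iv2 F352579)
theorem F382117 : act 7 n191075 = n123395 := d15_2 F380186 D191075 (iv2 F380181)
theorem F382118 : act 4 n191075 = n123399 := d17_9 (iv1 F333876) F216368 F208364 D63130 D134383 (iv5 F346387) (iv0 D176325) (iv5 F352587) D191075
theorem F382119 : act 2 n170400 = n191075 := d1_3 F382118 F328724 F347359
theorem F382120 : act 6 n190332 = n191075 := d10_0 F382118 (iv6 F361436) (iv4 F379428)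
def n191076 : Q := act 6 n97243
theorem D191076 : act 6 n97243 = n191076 := rfl
theorem F382121 : act 3 n191076 = n97246 := d7_1 D191076 (iv6 D97246) D97243
theorem F382122 : act 5 n131612 = n191076 := d6_0 F382121 F340995 D131612
def n191077 : Q := act 0 n97246
theorem D191077 : act 0 n97246 = n191077 := rfl
theorem F382123 : act 5 n191077 = n157416 := d17_1 D191077 (iv1 F247920) (iv5 D128334) (iv4 F317069) (iv5 F149584) F149587 (iv5 F378292) F380339 F380336
theorem F382124 : act 4 n191077 = n97291 := d18_1 D191077 (iv1 F381006) F381003 (iv5 F240648) (iv4 F240646) F247988 F247985 F205886 (iv5 F340995)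
theorem F382125 : act 6 n191077 = n190331 := d21_5 D68593 (iv1 F348984) (iv5 D97245) D97246 D191077 F379424 (iv1 F317936) (iv5 D103136) F315641 F188392
theorem F382126 : act 2 n170432 = n191077 := d15_3 (iv0 D191077) F340994 F341018
theorem F382127 : act 1 n131619 = n191077 := d15_0 (iv0 D191077) F340996 F340997
theorem F382128 : act 7 n191077 = n170367 := d15_2 (iv0 F341057) F382127 (iv2 F341010)
theorem F382129 : act 3 n190651 = n191077 := d20_9 (iv4 F380360) (iv1 D190626) (iv4 F343998) (iv3 F248278) (iv1 D157550) (iv3 F340863) (iv4 D105824) (iv1 F162462) (iv4 F380450) (iv1 F382127)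
def n191078 : Q := act 3 n97248
theorem D191078 : act 3 n97248 = n191078 := rfl
theorem F382130 : act 4 n191078 = n134655 := d5_2 (iv4 F335819) D191078 F321355 (iv4 F300962) D83991
theorem F382131 : act 5 n191078 = n134391 := d6_2 F311002 D191078 F339500
theorem F382132 : act 7 n191078 = n149242 := d8_2 (iv7 F308835) D191078 F234632
def n191079 : Q := act 1 n97249
theorem D191079 : act 1 n97249 = n191079 := rfl
theorem F382133 : act 1 n191079 = n114018 := d15_1 D191079 (iv7 F311005) (iv2 F150002)
theorem F382134 : act 7 n191079 = n114017 := d15_2 (iv0 F360947) D191079 F177502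
theorem F382135 : act 4 n191079 = n147302 := d18_7 (iv1 F150025) (iv4 D45445) (iv1 D21682) (iv4 F34139) D45436 D97249 D191079 (iv0 F332559) (iv5 F334462)
theorem F382136 : act 3 n114181 = n191079 := d20_3 (iv4 F336923) (iv1 F380246) F380243 (iv1 D191079) F360928 (iv4 F342710) (iv1 D151577) F107996 (iv3 F56742) D79101
theorem F382137 : act 2 n191079 = n114021 := d0_1 F382136 F177509 F83140 (iv3 F114420) (iv2 F177941)
theorem F382138 : act 6 n191079 = n147301 := d7_2 (iv6 F177943) F382136 F230928
def n191080 : Q := act 5 n97249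
theorem D191080 : act 5 n97249 = n191080 := rfl
theorem F382139 : act 2 n191080 = n170448 := d2_1 D191080 (iv5 D170448) (iv2 F150002)
theorem F382140 : act 3 n191080 = n135059 := d6_1 D191080 F363108 (iv3 F360928)
theorem F382141 : act 6 n191080 = n106254 := d12_2 (iv6 F150003) D191080 F366676 F314924 F125660
theorem F382142 : act 4 n191080 = n132041 := d16_2 D97249 D191080 (iv5 F359035) (iv4 F332555) F148724 F70986 (iv5 F125632) (iv7 D81715) (iv2 F71696)
theorem F382143 : act 0 n191080 = n106790 := d17_2 (iv1 D191079) D191080 F358365 F225722 F334481 F334457 (iv5 F315594) (iv0 F313207) (iv4 F382135)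
theorem F382144 : act 0 n106785 = n191080 := d18_2 D49342 D106785 F382142 (iv5 F359035) (iv4 F332555) F148727 D97297 F340398 (iv5 D49345)
def n191081 : Q := act 7 n97249
theorem D191081 : act 7 n97249 = n191081 := rfl
theorem F382145 : act 2 n191081 = n114018 := d4_1 D191081 (iv7 F311005) (iv2 F150002)
theorem F382146 : act 3 n191081 = n121367 := d8_1 D191081 F349061 (iv3 F360928)
theorem F382147 : act 4 n191081 = n97250 := d11_1 D191081 (iv7 D97250) D97249
theorem F382148 : act 1 n114021 = n191081 := d15_1 (iv0 F313245) (iv7 D191081) F150002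
theorem F382149 : act 1 n191081 = n114017 := d15_1 F382148 (iv7 F382134) F382137
def n191082 : Q := act 4 n97257
theorem D191082 : act 4 n97257 = n191082 := rfl
theorem F382150 : act 3 n191082 = n107599 := d5_1 D191082 F166006 (iv3 F328855) (iv4 F347583) F347582
theorem F382151 : act 6 n191082 = n118558 := d10_2 (iv6 F346750) D191082 (iv4 F342256)
theorem F382152 : act 7 n191082 = n107642 := d11_2 F346752 D191082 F328856
theorem F382153 : act 5 n191082 = n107598 := d16_1 D191082 (iv4 F167099) F167100 (iv4 F211370) (iv5 F211372) (iv4 F381725) (iv5 D190962) (iv7 F380975) (iv2 F380977)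
def n191083 : Q := act 5 n97257
theorem D191083 : act 5 n97257 = n191083 := rfl
theorem F382154 : act 3 n191083 = n190353 := d6_1 D191083 (iv5 D190353) F347582
theorem F382155 : act 4 n191083 = n112943 := d9_1 D191083 (iv5 F245143) F355483 (iv5 F355512) F355511 (iv5 F381722) F381721 D190962 F381725 F211372 F211370 (iv5 F167100) F167099 (iv5 F382153) (iv4 D191082)
theorem F382156 : act 7 n191083 = n190209 := d13_2 F346752 D191083 (iv5 D190209)
theorem F382157 : act 0 n97296 = n191083 := d21_7 (iv5 F378445) (iv1 F379453) (iv5 F379457) (iv6 D155977) (iv1 F110949) D111782 (iv5 F340401) (iv5 D191083) F346750 (iv1 F378443)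
def n191084 : Q := act 5 n97259
theorem D191084 : act 5 n97259 = n191084 := rfl
theorem F382158 : act 2 n191084 = n97261 := d2_1 D191084 (iv5 D97261) D97259
theorem F382159 : act 3 n191084 = n108171 := d6_1 D191084 (iv5 F340438) (iv3 F259105)
theorem F382160 : act 6 n191084 = n108169 := d12_2 (iv6 F350613) D191084 (iv5 D108169) (iv6 F316058) D152951
theorem F382161 : act 4 n190444 = n191084 := d5_0 F382159 F167275 (iv3 F164504) (iv4 F356824) D190444
def n191085 : Q := act 0 n97261
theorem D191085 : act 0 n97261 = n191085 := rfl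
def n191086 : Q := act 1 n97261
theorem D191086 : act 1 n97261 = n191086 := rfl
def n191087 : Q := act 4 n97261
theorem D191087 : act 4 n97261 = n191087 := rfl
theorem F382162 : act 2 n191087 = n190444 := d1_1 D191087 F382161 F382158
theorem F382163 : act 3 n97387 = n191087 := d0_0 F382162 (iv3 D190444) (iv2 F356825) (iv3 F348083) F355507
theorem F382164 : act 7 n191087 = n176890 := d8_2 (iv7 F355508) F382163 F362562
theorem E103466 : n191086 = n186424 := ((c20_1 F367383 (iv1 D191086) D191087 (iv3 F382163) (iv1 D97387) F295325 F80747 (iv1 F47534) (iv4 F96044) D131133 F210036)).symm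
theorem F382165 : act 0 n186424 = n97261 := (sb E103466 (iv1 D191086))
theorem F382166 : act 0 n191087 = n189969 := d20_1 D191087 F378990 (iv3 F378985) F378987 F377978 F374375 (iv1 D88795) (iv4 F136175) (iv3 F289218) F382165
theorem F382167 : act 5 n176832 = n164084 := d21_0 (iv1 D164084) (iv5 F136172) D186424 F382165 F340430 (iv5 D178864) F314312 F246567 (iv6 F377547) (iv1 F377551)
theorem F382168 : act 4 n176890 = n190769 := d11_1 F382164 F380980 D191087
theorem E103467 : n185732 = n176889 := (c10_3 D176890 F382168 (iv6 F380981) (iv4 D176889))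
theorem F382169 : act 3 n176889 = n88461 := (sb E103467 (iv3 D185732))
theorem F382170 : act 6 n176889 = n190769 := (sb E103467 F380981)
def n191088 : Q := act 1 n97262
theorem D191088 : act 1 n97262 = n191088 := rfl
theorem F382171 : act 1 n191088 = n166517 := d15_1 D191088 F346940 (iv2 F346948)
theorem F382172 : act 7 n191088 = n137293 := d15_2 (iv0 F346908) D191088 (iv2 F244974)
theorem F382173 : act 5 n191088 = n102011 := d17_7 D72181 (iv5 F130478) (iv1 D84930) F86815 (iv4 F337150) F337158 D191088 F356237 (iv4 D72183)
theorem F382174 : act 3 n102012 = n191088 := d20_3 (iv4 D88852) (iv1 F74776) (iv4 F156965) (iv1 D191088) F150018 (iv4 F150022) F334482 (iv4 F318904) F348023 F137241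
theorem F382175 : act 4 n188431 = n191088 := d20_6 F105414 (iv1 F335055) F335056 D147786 (iv1 F343031) D188431 (iv1 D191088) F346949 (iv3 F354262) F237421
def n191089 : Q := act 7 n97262
theorem D191089 : act 7 n97262 = n191089 := rfl
theorem F382176 : act 2 n191089 = n166517 := d4_1 D191089 F346940 (iv2 F346948)
theorem F382177 : act 3 n191089 = n97278 := d8_1 D191089 (iv7 D97278) (iv3 F150018)
theorem F382178 : act 4 n191089 = n147875 := d11_1 D191089 F342276 (iv4 F346949)
theorem F382179 : act 5 n191089 = n103756 := d13_1 D191089 (iv7 F337160) F337158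
theorem F382180 : act 0 n137293 = n191089 := d17_2 D116494 F356234 F382179 (iv4 F346762) F187036 (iv0 F130236) F322190 (iv0 D53694) (iv4 F84705)
def n191090 : Q := act 0 n97266
theorem D191090 : act 0 n97266 = n191090 := rfl
theorem F382181 : act 5 n191090 = n143760 := d17_3 D116417 F318654 D191090 F315716 F379488 (iv0 F379490) F377436 F363634 F181615
theorem F382182 : act 4 n191090 = n159003 := d18_1 D191090 (iv1 D159003) (iv4 F350198) F302678 (iv4 F264516) (iv0 F361432) (iv4 D147295) (iv0 F318652) F318654
theorem E103468 : n175371 = n108508 := (c20_5 (iv4 F350636) D191090 F382182 F354242 D175371 F167752 (iv4 F95804) F325804 (iv4 F326284) D107737 F355476)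
theorem F382183 : act 1 n108508 = n83747 := (sb E103468 (iv0 D175371))
theorem F382184 : act 6 n191090 = n147411 := d21_5 D146720 (iv1 F322077) F322079 (iv6 F309624) D191090 (iv5 F231149) (iv1 F230727) (iv5 D147148) (iv6 F243028) (iv1 D146719)
theorem F382185 : act 2 n143771 = n191090 := d15_3 (iv0 D191090) (iv0 F150021) (iv7 F313472)
theorem F382186 : act 1 n147034 = n191090 := d15_0 (iv0 D191090) (iv7 F380986) (iv2 F380989)
theorem F382187 : act 7 n191090 = n147035 := d15_2 D147034 F382186 (iv2 D147035)
def n191091 : Q := act 3 n97270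
theorem D191091 : act 3 n97270 = n191091 := rfl
theorem F382188 : act 2 n191091 = n190342 := d0_1 D191091 (iv3 D190342) F378412 (iv3 F379174) F379173
theorem F382189 : act 5 n191091 = n146271 := d6_2 (iv5 F321371) D191091 (iv3 D146271)
theorem F382190 : act 7 n191091 = n176902 := d8_2 F380969 D191091 F380972
theorem F382191 : act 0 n189949 = n191091 := d17_2 D95498 D189949 F382189 F229595 D146279 (iv0 F339770) F280336 (iv0 F234420) F106444
theorem F382192 : act 1 n189951 = n191091 := d15_0 (iv0 F382191) (iv7 F380888) F380887
def n191092 : Q := act 4 n97270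
theorem D191092 : act 4 n97270 = n191092 := rfl
theorem F382193 : act 1 n191092 = n132071 := d18_8 (iv1 F363956) (iv4 F382142) F382143 (iv4 D106790) (iv5 F358363) (iv4 D97289) F150030 D191092 (iv5 D132071)
theorem F382194 : act 3 n191092 = n132048 := d19_3 (iv1 F319857) (iv5 F321371) D191092 (iv1 D132048) (iv5 D61962) (iv4 F81135) (iv3 D51397) F39200 D50065 (iv4 F79419) (iv3 F167913) (iv1 F361297) (iv5 F361294) F351348 (iv3 F351347) (iv1 F351338) F351342 (iv4 F347958) F158426
def n191093 : Q := act 6 n97270
theorem D191093 : act 6 n97270 = n191093 := rfl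
theorem F382195 : act 5 n191093 = n187337 := d12_1 D191093 F369873 (iv5 D97176) (iv6 F319356) (iv5 F321371)
theorem F382196 : act 4 n166634 = n191093 := d9_15 F382195 F369872 (iv5 D163339) (iv4 D78498) (iv5 F254093) D79981 D166642 (iv4 F369682) (iv5 D187275) F137920 F340624 (iv4 D78493) (iv5 F254082) D79976 D166634
theorem F382197 : act 0 n188442 = n191093 := d17_0 F382195 (iv1 F369876) F348737 (iv4 F348731) (iv5 D163604) F122739 (iv5 F341799) F341797 D188442
theorem F382198 : act 6 n191092 = n166634 := d10_0 F382196 (iv6 D191093) D191092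
def n191094 : Q := act 4 n97271
theorem D191094 : act 4 n97271 = n191094 := rfl
theorem F382199 : act 0 n191094 = n132071 := d17_0 (iv5 D132071) (iv1 F363956) (iv5 F359035) (iv4 F332555) F148724 F70990 D45441 D97271 D191094
def n191095 : Q := act 0 n97272
theorem D191095 : act 0 n97272 = n191095 := rfl
theorem F382200 : act 4 n191095 = n190071 := d18_3 (iv1 D97271) D97272 D191095 (iv5 D190071) F348971 (iv0 F230367) (iv4 F317651) D103172 (iv5 F340414)
theorem F382201 : act 6 n191095 = n132147 := d21_5 (iv5 D106632) D106628 F164248 F340434 D191095 F341799 (iv1 F122739) D163604 (iv6 F348748) F358254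
theorem F382202 : act 2 n131952 = n191095 := d15_3 (iv0 D191095) F363584 (iv7 F211425)
theorem F382203 : act 1 n97289 = n191095 := d15_0 (iv0 D191095) (iv7 F380992) F380990
theorem F382204 : act 3 n191095 = n132150 := d0_2 D131952 F382202 (iv2 F343681) F211239 F96513
def n191096 : Q := act 3 n97272
theorem D191096 : act 3 n97272 = n191096 := rfl
theorem F382205 : act 2 n191096 = n106752 := d0_1 D191096 F164549 F77998 (iv3 F163787) (iv2 F340420)
theorem F382206 : act 4 n191096 = n97387 := d5_2 D97272 D191096 F382163 (iv4 D191087) F150017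
theorem F382207 : act 5 n191096 = n106784 := d6_2 (iv5 F358362) D191096 (iv3 D106784)
theorem F382208 : act 6 n191096 = n106751 := d7_2 F340434 D191096 F164543
theorem F382209 : act 0 n191096 = n97394 := d21_4 (iv5 D61973) D61969 (iv5 F164544) (iv6 F382208) (iv6 D97394) (iv5 F294898) (iv1 F57181) (iv5 F65003) D90057 F340291
def n191097 : Q := act 0 n97273
theorem D191097 : act 0 n97273 = n191097 := rfl
theorem F382210 : act 5 n191097 = n110999 := d21_0 (iv1 D110999) F295476 (iv6 D45477) (iv1 D21695) (iv6 F34141) (iv5 D21683) D21681 D45441 D97273 D191097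
theorem F382211 : act 6 n97339 = n191097 := d21_5 (iv5 D10352) D10350 D21688 D45460 D97339 F382210 (iv1 D110999) F295476 (iv6 D45477) (iv1 D21695)
def n191098 : Q := act 1 n97273
theorem D191098 : act 1 n97273 = n191098 := rfl
theorem F382212 : act 1 n191098 = n106644 := d15_1 D191098 F164263 F340425
theorem F382213 : act 5 n110998 = n191098 := d21_0 (iv1 D191098) F340427 F337159 F150032 F75365 (iv5 D23152) F32655 D43478 F295524 D110998
theorem F382214 : act 3 n191098 = n190349 := d6_1 F382213 (iv5 F379498) (iv3 F372115)
def n191099 : Q := act 7 n97273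
theorem D191099 : act 7 n97273 = n191099 := rfl
theorem F382215 : act 2 n191099 = n106644 := d4_1 D191099 F164263 F340425
theorem F382216 : act 3 n191099 = n157229 := d8_1 D191099 (iv7 F340431) F340428
theorem F382217 : act 4 n191099 = n106641 := d11_1 D191099 F164257 (iv4 F340426)
theorem F382218 : act 5 n191099 = n112970 := d13_1 D191099 F175920 (iv5 F340427)
theorem F382219 : act 6 n191099 = n182862 := d14_1 D191099 F361262 (iv6 F358279) F288194 D97273
theorem F382220 : act 1 n106644 = n191097 := d15_0 (iv0 D191097) D191099 F382215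
def n191100 : Q := act 5 n97281
theorem D191100 : act 5 n97281 = n191100 := rfl
theorem F382221 : act 3 n191100 = n112928 := d6_1 D191100 F342258 (iv3 F342257)
theorem F382222 : act 7 n191100 = n190263 := d13_2 (iv7 F258999) D191100 (iv5 D190263)
theorem F382223 : act 0 n191100 = n97301 := d18_0 (iv4 F358374) F290527 (iv4 F340437) (iv5 D164453) F120153 D78983 F258976 D97281 D191100
def n191101 : Q := act 5 n97282
theorem D191101 : act 5 n97282 = n191101 := rfl
theorem F382224 : act 2 n191101 = n97284 := d2_1 D191101 (iv5 D97284) D97282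
theorem F382225 : act 7 n191101 = n108171 := d13_2 F259104 D191101 (iv5 F340438)
theorem F382226 : act 4 n191101 = n113040 := d16_6 (iv4 F147996) D190588 F380231 (iv5 F331422) F288174 D191101 F176099 (iv7 D78984) (iv2 F83147)
theorem F382227 : act 6 n157240 = n191101 := d10_0 F382226 F176100 (iv4 F247454)
theorem F382228 : act 0 n189390 = n157240 := d21_4 (iv5 D88437) D88434 (iv5 F294676) D189390 F382227 (iv5 D191101) (iv1 F288202) D190263 F379234 F293470
def n191102 : Q := act 6 n97282
theorem D191102 : act 6 n97282 = n191102 := rfl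
theorem F382229 : act 2 n191102 = n97285 := d3_1 D191102 (iv6 D97285) D97282
theorem F382230 : act 4 n191102 = n185824 := d10_1 D191102 F288136 F288174
theorem F382231 : act 0 n189292 = n191102 := d18_2 F371806 D189292 F382230 (iv5 D185824) F135487 D104697 (iv4 F369335) (iv0 F369339) D187907
theorem F382232 : act 1 n189290 = n191102 := d18_6 (iv1 D43232) (iv4 F34119) D45409 (iv4 F142174) D93854 D189290 F382230 (iv0 F367228) (iv5 D92437)
def n191103 : Q := act 6 n97284
theorem D191103 : act 6 n97284 = n191103 := rfl
theorem F382233 : act 2 n191103 = n157240 := d3_1 D191103 F382227 F382224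
theorem F382234 : act 3 n191103 = n97290 := d7_1 D191103 (iv6 D97290) (iv3 F150035)
theorem F382235 : act 4 n191103 = n113037 := d10_1 D191103 F176092 (iv4 F340417)
theorem F382236 : act 7 n191103 = n112972 := d14_2 F340435 D191103 (iv6 D112972) F82428 D106516
theorem F382237 : act 0 n130632 = n191103 := d21_4 (iv5 D185656) (iv1 F135861) D186066 F331412 (iv6 D191103) (iv5 D97284) (iv1 F258977) D164487 F259228 F292588
theorem F382238 : act 1 n130634 = n191103 := d15_1 (iv0 F376519) F382236 F175925
def n191104 : Q := act 0 n97285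
theorem D191104 : act 0 n97285 = n191104 := rfl
theorem F382239 : act 4 n191104 = n159838 := d18_3 (iv1 F288219) F259112 D191104 (iv5 D159838) F138026 (iv0 F138028) F71646 D92428 F178165
theorem F382240 : act 2 n189290 = n191104 := d1_3 F382239 (iv2 F283551) D189290
theorem F382241 : act 3 n186913 = n191104 := d5_5 F382239 F251967 (iv4 F368491) F368490 (iv4 F368493)
theorem F382242 : act 7 n189292 = n191104 := d11_0 F382239 F283550 D189292
theorem F382243 : act 5 n190270 = n191104 := d17_3 (iv1 D95795) D95796 D190270 F382239 (iv5 D159838) (iv0 D76505) (iv5 F88602) D121358 (iv4 F193581)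
theorem F382244 : act 6 n191104 = n186912 := d21_9 (iv5 D102257) D102253 (iv5 F366707) (iv6 D95793) (iv1 D44736) D44737 D95796 D190270 F382243 (iv1 F378434)
def n191105 : Q := act 1 n97285
theorem D191105 : act 1 n97285 = n191105 := rfl
theorem F382245 : act 7 n191105 = n189290 := d15_2 (iv0 D191104) D191105 F382240
theorem F382246 : act 4 n191105 = n159842 := d18_7 D90664 (iv4 F251680) (iv1 F160380) (iv4 F288133) F288171 F259112 D191105 F283553 (iv5 D90666)
theorem F382247 : act 2 n189292 = n191105 := d1_3 F382246 (iv2 F283544) D189292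
theorem F382248 : act 6 n113455 = n191105 := d10_0 F382246 (iv6 F251976) F347795
theorem F382249 : act 3 n191105 = n126183 := d7_1 F382248 (iv6 D126183) (iv3 F176640)
theorem F382250 : act 5 n191105 = n190271 := d21_6 F70321 (iv1 F36258) (iv5 F70345) D95854 F347818 F382248 (iv1 D190271) (iv5 D95796) (iv6 D44737) D44735
def n191106 : Q := act 5 n97285
theorem D191106 : act 5 n97285 = n191106 := rfl
theorem F382251 : act 3 n191106 = n97293 := d6_1 D191106 (iv5 D97293) (iv3 F150036)
def n191107 : Q := act 7 n97285
theorem D191107 : act 7 n97285 = n191107 := rfl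
theorem F382252 : act 3 n191107 = n97294 := d8_1 D191107 (iv7 D97294) (iv3 F150036)
theorem F382253 : act 4 n191107 = n188537 := d11_1 D191107 F373860 F259112
theorem F382254 : act 1 n189292 = n191107 := d15_1 (iv0 F382231) (iv7 D191107) (iv2 F382229)
theorem F382255 : act 1 n191107 = n189290 := d15_1 F382254 (iv7 F382245) (iv2 F382247)
theorem F382256 : act 0 n164515 = n189288 := d20_4 F333656 F229146 (iv4 F339764) (iv3 F259287) F376336 D189290 (iv1 F382255) F382253 F373862 (iv1 D187440)
def n191108 : Q := act 1 n97286
theorem D191108 : act 1 n97286 = n191108 := rfl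
theorem F382257 : act 7 n191108 = n114565 := d15_2 (iv0 F230420) D191108 F178653
theorem F382258 : act 4 n114568 = n191108 := d20_0 (iv1 D191108) (iv4 F258973) (iv3 F258975) (iv1 D78983) F105273 (iv4 D69059) F315737 (iv4 F315728) (iv3 D120105) (iv1 F178659)
theorem F382259 : act 3 n154931 = n191108 := d20_3 F332450 F114825 D154931 (iv1 D191108) (iv3 D97286) (iv4 D45445) (iv1 D21682) (iv4 F34139) (iv3 F71693) D97233
theorem F382260 : act 5 n147253 = n191108 := d21_0 (iv1 D191108) (iv5 F364505) (iv6 F364504) (iv1 F334998) (iv6 D147257) (iv5 D69030) (iv1 F51062) D32113 (iv6 F105241) D147253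
theorem F382261 : act 6 n190362 = n191108 := d21_3 (iv5 F236031) (iv1 F306490) (iv5 F379551) (iv1 D191108) (iv6 F359665) (iv5 F335002) (iv1 F337068) F335216 (iv6 F355273) (iv1 F233087)
theorem F382262 : act 2 n191108 = n120103 := d3_1 F382261 (iv6 F233441) (iv2 F379554)
theorem F382263 : act 1 n191108 = n120100 := d15_0 (iv0 D120100) D120103 (iv2 F382262)
def n191109 : Q := act 2 n97286
theorem D191109 : act 2 n97286 = n191109 := rfl
theorem F382264 : act 3 n191109 = n147034 := d0_2 D97286 D191109 F380989 (iv3 D190771) F288191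
theorem F382265 : act 4 n191109 = n119068 := d1_2 F258973 D191109 (iv2 F288206)
theorem F382266 : act 5 n191109 = n170573 := d2_2 F364505 D191109 F364502
theorem F382267 : act 6 n191109 = n170576 := d3_2 F359665 D191109 (iv2 F359667)
theorem F382268 : act 7 n191109 = n120100 := d4_2 F380965 D191109 (iv2 F380961)
theorem F382269 : act 1 n191109 = n120103 := d15_0 (iv0 F380966) F380965 D191109
theorem F382270 : act 1 n114565 = n191109 := d15_0 F382269 (iv7 D120103) (iv2 F178653)
def n191110 : Q := act 4 n97287
theorem D191110 : act 4 n97287 = n191110 := rfl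
theorem F382271 : act 5 n191110 = n106785 := d9_2 D97287 D191110 (iv4 D106785) (iv5 F358362) (iv4 D97272) (iv5 D45441) D45440 (iv5 F334481) (iv4 F225722) (iv5 F358365) (iv4 D106790) (iv5 F358363) (iv4 D97289) (iv5 D45446) D45445
theorem F382272 : act 6 n191110 = n188545 := d10_2 (iv6 F334477) D191110 F373893
theorem F382273 : act 7 n191110 = n145520 := d11_2 (iv7 F334478) D191110 F228577
theorem F382274 : act 1 n191110 = n146275 := d18_6 (iv1 F71701) (iv4 F70986) (iv1 F70989) D45445 D97287 D191110 (iv4 D146275) (iv0 F330072) (iv5 D97240)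
theorem F382275 : act 3 n191110 = n188546 := d20_3 (iv4 F348975) (iv1 F334475) D191110 F373896 (iv3 D175822) F298344 (iv1 F298342) D83084 (iv3 F348993) F348992
def n191111 : Q := act 6 n97289
theorem D191111 : act 6 n97289 = n191111 := rfl
theorem F382276 : act 2 n191111 = n185733 := d3_1 D191111 (iv6 F380991) F380990
theorem F382277 : act 3 n191111 = n106653 := d7_1 D191111 F164278 F340416
theorem F382278 : act 4 n191111 = n97290 := d10_1 D191111 (iv6 D97290) D97289
theorem F382279 : act 7 n191111 = n106645 := d14_2 (iv7 F340418) D191111 (iv6 D106645) (iv7 F77860) D106533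
def n191112 : Q := act 5 n97290
theorem D191112 : act 5 n97290 = n191112 := rfl
theorem F382280 : act 2 n191112 = n185734 := d2_1 D191112 (iv5 D185734) (iv2 F358277)
theorem F382281 : act 6 n191112 = n97293 := d12_2 D97290 D191112 (iv5 D97293) (iv6 D45447) D45446
theorem F382282 : act 7 n191112 = n185739 := d13_2 (iv7 F358278) D191112 (iv5 D185739)
def n191113 : Q := act 4 n97293
theorem D191113 : act 4 n97293 = n191113 := rfl
theorem F382283 : act 7 n191113 = n145479 := d11_2 F379292 D191113 (iv4 F379295)
theorem F382284 : act 5 n191113 = n145480 := d16_1 D191113 F228529 (iv5 F324910) F240646 F240648 (iv4 F381003) F381856 F381855 (iv2 F379290)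
theorem F382285 : act 0 n191113 = n190147 := d17_0 F378978 (iv1 F381882) (iv5 D191015) (iv4 D97139) (iv5 D45399) D45398 D97135 (iv0 F363394) D191113
theorem F382286 : act 1 n191113 = n190142 := d18_6 (iv1 D189932) (iv4 F378282) F378285 F150037 D97293 D191113 (iv4 D190142) D190141 (iv5 F378961)
def n191114 : Q := act 2 n97296
theorem D191114 : act 2 n97296 = n191114 := rfl
theorem F382287 : act 5 n191114 = n109517 := d2_2 (iv5 F340401) D191114 (iv2 F173485)
theorem F382288 : act 6 n191114 = n109518 := d3_2 (iv6 F363591) D191114 (iv2 F173495)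
theorem F382289 : act 1 n191114 = n190209 := d15_0 (iv0 F381015) F381014 D191114
def n191115 : Q := act 4 n97296
theorem D191115 : act 4 n97296 = n191115 := rfl
def n191116 : Q := act 3 n97297
theorem D191116 : act 3 n97297 = n191116 := rfl
def n191117 : Q := act 5 n97297
theorem D191117 : act 5 n97297 = n191117 := rfl
theorem F382290 : act 7 n191117 = n131814 := d13_2 (iv7 F340405) D191117 F335829
theorem F382291 : act 1 n191117 = n106452 := d17_6 (iv1 F379177) (iv5 D190245) F339501 F340399 D97297 D191117 (iv5 F211424) (iv0 F348991) F340419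
theorem F382292 : act 1 n131816 = n191117 := d15_0 F382291 F163709 D131816
def n191118 : Q := act 6 n97297
theorem D191118 : act 6 n97297 = n191118 := rfl
theorem F382293 : act 4 n191118 = n97299 := d10_1 D191118 (iv6 D97299) D97297
theorem F382294 : act 5 n191118 = n132294 := d21_6 (iv5 F294064) (iv1 F112718) F294094 F330367 (iv1 F340398) D191118 F212543 (iv5 F347530) (iv6 D182878) F293833
theorem F382295 : act 0 n191118 = n132934 := d21_10 (iv5 D132934) (iv1 F97280) D62405 D132998 F347524 (iv6 F343688) F211424 (iv1 F382291) (iv5 D191117) D191118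
theorem F382296 : act 0 n132936 = n191118 := d17_2 (iv1 F97276) D132936 F382294 (iv4 D132294) F211211 (iv0 D29515) (iv5 D14025) D14023 D29509
def n191119 : Q := act 0 n97299
theorem D191119 : act 0 n97299 = n191119 := rfl
theorem F382297 : act 5 n191119 = n133070 := d17_1 D191119 (iv1 F370274) (iv5 D187423) F361706 (iv5 D62405) F97280 D132934 (iv0 F382295) F382293
theorem F382298 : act 4 n191119 = n106751 := d18_1 D191119 (iv1 F164548) D132111 F380612 F380606 (iv0 F342738) (iv4 F340301) (iv0 F340306) (iv5 F340402)
theorem F382299 : act 6 n191119 = n97387 := d21_5 (iv5 D190245) F339501 F340399 D97299 D191119 (iv5 F358271) (iv1 D112843) (iv5 F163777) (iv6 F340422) (iv1 F379177)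
theorem F382300 : act 2 n106730 = n191119 := d15_3 (iv0 D191119) F363589 F164512
theorem F382301 : act 7 n191119 = n132103 := d4_2 F164512 F382300 F211638
theorem F382302 : act 1 n132115 = n191119 := d15_1 D132115 F382301 F211638
def n191120 : Q := act 7 n97299
theorem D191120 : act 7 n97299 = n191120 := rfl
theorem F382303 : act 2 n191120 = n132115 := d4_1 D191120 F381011 F381008
theorem F382304 : act 3 n191120 = n109250 := d8_1 D191120 (iv7 F173496) F363588
theorem F382305 : act 5 n191120 = n104806 := d13_1 D191120 F352023 (iv5 F340402)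
theorem F382306 : act 1 n132103 = n191120 := d15_1 (iv0 F381012) (iv7 D191120) (iv2 F381008)
theorem F382307 : act 1 n191120 = n106730 := d15_1 F382306 (iv7 F164512) (iv2 F211638)
def n191121 : Q := act 2 n97301
theorem D191121 : act 2 n97301 = n191121 := rfl
theorem F382308 : act 4 n191121 = n114226 := d1_2 F358374 D191121 (iv2 F290529)
theorem F382309 : act 6 n114225 = n191121 := d10_0 F382308 (iv6 D114226) D114225
theorem F382310 : act 1 n190263 = n191121 := d17_8 F331425 (iv5 F331422) (iv1 D114038) F83149 (iv4 F163778) (iv5 F335162) F261863 D190263 F382308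
def n191122 : Q := act 5 n97301
theorem D191122 : act 5 n97301 = n191122 := rfl
theorem F382311 : act 3 n191122 = n97303 := d6_1 D191122 (iv5 D97303) D97301
theorem F382312 : act 4 n191122 = n106143 := d16_6 F259103 (iv5 F340444) F259046 D164410 F358374 D191122 F176097 (iv7 F331581) F331584
theorem F382313 : act 6 n191122 = n102268 := d21_3 D191100 F382223 D191122 (iv1 D102268) D102270 (iv5 F357175) (iv1 D108172) D108173 F350611 F259102
def n191123 : Q := act 6 n97301
theorem D191123 : act 6 n97301 = n191123 := rfl
theorem F382314 : act 2 n191123 = n114225 := d3_1 D191123 F382309 (iv2 D191121)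
theorem F382315 : act 3 n191123 = n97304 := d7_1 D191123 (iv6 D97304) D97301
theorem F382316 : act 4 n191123 = n105390 := d10_1 D191123 (iv6 F290530) F358374
theorem F382317 : act 5 n141856 = n191123 := d21_2 D114418 F339990 (iv6 D191123) F358375 F259228 (iv5 D97151) (iv1 F293676) (iv5 F288984) F366998 F176135
theorem F382318 : act 7 n191123 = n114237 := d13_2 F340500 F382317 (iv5 F331558)
theorem F382319 : act 1 n191123 = n144170 := d17_6 (iv1 D115755) (iv5 F102404) (iv1 F331550) F331551 D141856 F382317 (iv5 D144170) (iv0 F340473) F226824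
theorem F382320 : act 0 n191123 = n115006 := d18_0 (iv4 D115006) (iv1 F161748) D114407 F331511 D128540 (iv0 F340001) F340004 (iv0 F224901) F382317
def n191124 : Q := act 5 n97302
theorem D191124 : act 5 n97302 = n191124 := rfl
theorem F382321 : act 2 n191124 = n131814 := d2_1 D191124 F335829 F358376
theorem F382322 : act 4 n191124 = n114020 := d16_2 D97302 D191124 (iv5 D114020) F105254 (iv5 D69035) (iv4 F105251) F340399 (iv7 F340404) F340403
theorem F382323 : act 0 n191124 = n106452 := d17_2 (iv1 F358372) D191124 (iv5 F211424) (iv4 F381597) (iv5 D190933) F320365 F332543 F380350 F380347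
theorem F382324 : act 1 n191124 = n131816 := d17_8 (iv1 F214575) F335820 (iv1 D115215) (iv5 D53157) F40734 D49345 (iv0 F358371) D191124 (iv4 F214571)
theorem F382325 : act 6 n114022 = n191124 := d10_0 F382322 F177508 D114022
theorem F382326 : act 7 n131815 = n191124 := d15_2 (iv0 D131814) D131815 F382321
theorem F382327 : act 5 n110771 = n131815 := d16_7 F335827 (iv5 F177505) F177504 F105287 (iv4 F229243) (iv5 F340407) F358381 F382326 F382321
theorem F382328 : act 2 n131815 = n191117 := d4_3 F382290 (iv2 F382321) (iv7 F382326)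
def n191125 : Q := act 6 n97302
theorem D191125 : act 6 n97302 = n191125 := rfl
theorem F382329 : act 4 n191125 = n97304 := d10_1 D191125 (iv6 D97304) D97302
def n191126 : Q := act 0 n97304
theorem D191126 : act 0 n97304 = n191126 := rfl
def n191127 : Q := act 1 n97304
theorem D191127 : act 1 n97304 = n191127 := rfl
def n191128 : Q := act 5 n97304
theorem D191128 : act 5 n97304 = n191128 := rfl
theorem F382330 : act 2 n191128 = n103169 := d2_1 D191128 (iv5 F381017) F381016
theorem F382331 : act 3 n191128 = n141856 := d6_1 D191128 F382317 F382315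
theorem F382332 : act 6 n191128 = n103035 := d12_2 D97304 D191128 (iv5 D103035) (iv6 F150043) (iv5 D97303)
theorem F382333 : act 4 n179129 = n191128 := d10_3 F382332 (iv4 F343373) (iv6 F337780)
theorem F382334 : act 0 n191128 = n126926 := d21_4 (iv5 D47770) D47768 D103035 (iv6 F382332) (iv6 F372118) F379498 (iv1 D190349) D190350 F379496 F147579
theorem F382335 : act 0 n126925 = n106434 := d20_10 (iv4 D106434) (iv1 F78341) D107370 (iv3 F204069) (iv1 F216735) F366372 F382333 F382334 (iv4 D126926) D126925
theorem F382336 : act 1 n126925 = n106439 := d15_1 (iv0 F382335) F359113 (iv2 F359124)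
theorem F382337 : act 0 n126921 = n191128 := d20_1 D126921 (iv4 F382333) (iv3 F366372) (iv1 D134719) (iv3 D63310) (iv4 D29912) (iv1 F26044) (iv4 F26051) D28278 D59570
theorem F382338 : act 5 n97339 = n126921 := d21_0 F382337 (iv5 D191128) (iv6 D97304) (iv1 D45449) F34141 (iv5 D10352) D10350 D21688 D45460 D97339
theorem E103469 : n127023 = n126922 := ((c17_6 (iv1 F367008) (iv5 D97341) D97339 F382338 (iv4 D126921) D126922 (iv0 D127023) F94021 D64289 D136759)).symm
theorem F382339 : act 1 n126922 = n59610 := (sb E103469 (iv0 D127023))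
theorem F382340 : act 0 n126923 = n154541 := d21_4 (iv5 F94021) (iv1 F382339) (iv5 D126922) D126923 (iv6 D154541) (iv5 D73242) F52963 (iv5 F94836) F343459 (iv1 D64289)
def n191129 : Q := act 7 n97304
theorem D191129 : act 7 n97304 = n191129 := rfl
theorem F382341 : act 3 n191129 = n114237 := d8_1 D191129 (iv7 F382318) F382315
theorem F382342 : act 6 n191129 = n132115 := d14_1 D191129 F381011 (iv6 D190776) F340408 D97304
def n191130 : Q := act 5 n97305
theorem D191130 : act 5 n97305 = n191130 := rfl
theorem F382343 : act 3 n191130 = n131809 := d6_1 D191130 (iv5 F211212) (iv3 F361094)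
theorem F382344 : act 4 n191130 = n133441 := d16_2 F361093 D191130 F319744 (iv4 F335819) (iv5 F311002) (iv4 F378656) (iv5 F380342) F380341 (iv2 F332546)
theorem F382345 : act 0 n113394 = n191130 := d18_2 F360948 F229795 F382344 F319744 (iv4 F335819) F150001 (iv4 F308841) (iv0 D114018) D114020
def n191131 : Q := act 3 n97306
theorem D191131 : act 3 n97306 = n191131 := rfl
theorem F382346 : act 2 n191131 = n132110 := d0_1 D191131 (iv3 D132110) (iv2 F216666) F361103 F361100
theorem F382347 : act 0 n131947 = n191131 := d20_4 (iv4 F364642) (iv1 D106512) (iv4 F96520) (iv3 F211421) (iv3 D191131) (iv4 F380343) (iv1 D190623) (iv4 F332567) (iv3 F164646) (iv1 F165954)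
def n191132 : Q := act 5 n97306
theorem D191132 : act 5 n97306 = n191132 := rfl
theorem F382348 : act 4 n191132 = n133440 := d9_1 D191132 (iv5 F335831) F178627 (iv5 D59883) (iv4 F94352) D127493 F361093 D191130 F382344 F319744 (iv4 F335819) (iv5 F311002) (iv4 F378656) (iv5 F380342) F380343
theorem F382349 : act 1 n113394 = n191132 := d18_6 F348979 F339805 F335856 (iv4 F180979) (iv5 F335879) F229795 F382348 (iv0 D133440) D133443
def n191133 : Q := act 6 n97306
theorem D191133 : act 6 n97306 = n191133 := rfl
theorem F382350 : act 7 n191133 = n132113 := d14_2 (iv7 F361099) D191133 (iv6 D132113) (iv7 F216665) F363608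
def n191134 : Q := act 1 n97307
theorem D191134 : act 1 n97307 = n191134 := rfl
theorem F382351 : act 7 n191134 = n106648 := d15_2 (iv0 F358377) D191134 F164269
theorem F382352 : act 5 n191134 = n113400 := d17_7 (iv1 F161494) (iv5 F324334) (iv1 F218067) (iv5 F218066) D135793 F356954 D191134 F203015 F203012
theorem F382353 : act 4 n106687 = n191134 := d20_6 (iv4 F377981) (iv1 F380317) F380313 F377219 (iv1 F377221) F356096 (iv1 D191134) F150044 (iv3 D95954) D95952
theorem F382354 : act 2 n191134 = n132131 := d1_1 F382353 F211657 (iv2 F164391)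
theorem F382355 : act 6 n191134 = n132140 := d10_2 F356102 F382353 (iv4 F356100)
theorem F382356 : act 1 n191134 = n132128 := d15_0 (iv0 D132128) D132131 (iv2 F382354)
def n191135 : Q := act 2 n97307
theorem D191135 : act 2 n97307 = n191135 := rfl
theorem F382357 : act 3 n191135 = n132038 := d0_2 D97307 D191135 (iv2 F349641) F257747 F294345
theorem F382358 : act 4 n191135 = n106747 := d1_2 (iv4 F150044) D191135 (iv2 F356944)
theorem F382359 : act 5 n191135 = n132036 := d2_2 F356954 D191135 (iv2 F218386)
theorem F382360 : act 6 n191135 = n97397 := d3_2 (iv6 F150045) D191135 (iv2 D97397)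
theorem F382361 : act 7 n132128 = n191135 := d15_2 D191134 F382356 (iv2 D191135)
theorem F382362 : act 0 n191135 = n106648 := d21_4 F373472 (iv1 F373469) (iv5 F367036) (iv6 F382360) (iv6 D106648) F77863 (iv1 F46453) D60729 (iv6 F341775) D187417
theorem F382363 : act 1 n191135 = n132131 := d15_1 (iv0 F382362) (iv7 D132131) (iv2 F164269)
def n191136 : Q := act 7 n97307
theorem D191136 : act 7 n97307 = n191136 := rfl
theorem F382364 : act 2 n191136 = n132128 := d4_1 D191136 F382361 (iv2 D191135)
theorem F382365 : act 3 n191136 = n97309 := d8_1 D191136 (iv7 D97309) D97307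
theorem F382366 : act 4 n191136 = n106746 := d11_1 D191136 (iv7 F356943) (iv4 F150044)
theorem F382367 : act 5 n191136 = n135581 := d13_1 D191136 (iv7 F218387) F356954
theorem F382368 : act 1 n132131 = n191136 := d15_1 F382363 (iv7 D191136) D191135
theorem F382369 : act 1 n191136 = n106648 := d15_1 F382368 (iv7 F382351) F382354
def n191137 : Q := act 1 n97308
theorem D191137 : act 1 n97308 = n191137 := rfl
theorem F382370 : act 1 n191137 = n132041 := d15_1 D191137 F359039 F356957
theorem F382371 : act 7 n191137 = n115203 := d15_2 (iv0 F356955) D191137 F211593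
theorem F382372 : act 4 n191137 = n115206 := d17_9 F211603 D115213 F335825 (iv5 F319744) (iv4 F382344) (iv5 D191130) (iv0 D97305) D97308 D191137
theorem F382373 : act 2 n115208 = n191137 := d1_3 F382372 F179413 D115208
theorem F382374 : act 3 n191137 = n132091 := d0_2 (iv3 F211587) F382373 (iv2 D132091) (iv3 D61976) (iv2 F96568)
def n191138 : Q := act 4 n97308
theorem D191138 : act 4 n97308 = n191138 := rfl
theorem F382375 : act 3 n191138 = n115107 := d5_1 D191138 F218074 F218072 D135793 (iv3 F356956)
theorem F382376 : act 5 n191138 = n114018 := d9_2 D97308 D191138 F308841 F125632 (iv4 F70986) (iv5 F148724) F332555 F359035 (iv4 F382142) (iv5 D191080) (iv4 D97249) (iv5 D45436) F34139 D21683 D45450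
theorem F382377 : act 6 n191138 = n135543 := d10_2 (iv6 F333481) D191138 F217970
theorem F382378 : act 1 n191138 = n106790 := d18_6 (iv1 F358372) (iv4 D97302) (iv1 D45449) D45450 D97308 D191138 (iv4 D106790) F164587 (iv5 F171462)
theorem F382379 : act 7 n170448 = n191138 := d13_0 F382376 (iv7 F311005) D170448
theorem F382380 : act 1 n106785 = n191138 := d17_6 (iv1 F332560) (iv5 F334462) (iv1 F150025) D97287 D191110 F382271 F382376 (iv0 D114018) F105254
def n191139 : Q := act 7 n97308
theorem D191139 : act 7 n97308 = n191139 := rfl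
theorem F382381 : act 2 n191139 = n132041 := d4_1 D191139 F359039 F356957
theorem F382382 : act 3 n191139 = n135581 := d8_1 D191139 (iv7 F218387) (iv3 F356956)
theorem F382383 : act 4 n191139 = n170448 := d11_1 D191139 F382379 (iv4 D191138)
theorem F382384 : act 5 n191139 = n97309 := d13_1 D191139 (iv7 D97309) D97308
theorem F382385 : act 1 n115208 = n191139 := d15_1 (iv0 F363963) (iv7 D191139) (iv2 F356957)
theorem F382386 : act 1 n191139 = n115203 := d15_1 F382385 (iv7 F382371) (iv2 F382373)
def n191140 : Q := act 5 n97312
theorem D191140 : act 5 n97312 = n191140 := rfl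
theorem F382387 : act 2 n191140 = n188316 := d2_1 D191140 F373068 F294798
theorem F382388 : act 3 n191140 = n189341 := d6_1 D191140 (iv5 D189341) (iv3 F150051)
theorem F382389 : act 7 n191140 = n190208 := d13_2 F157288 D191140 (iv5 D190208)
theorem F382390 : act 1 n191140 = n146942 := d17_6 (iv1 D90032) (iv5 F291955) (iv1 F335370) (iv5 D97313) D97312 D191140 (iv5 F370937) F370941 F139102
def n191141 : Q := act 4 n97313
theorem D191141 : act 4 n97313 = n191141 := rfl
theorem F382391 : act 7 n191141 = n190210 := d11_2 F157289 D191141 (iv4 D190210)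
def n191142 : Q := act 6 n97313
theorem D191142 : act 6 n97313 = n191142 := rfl
theorem F382392 : act 3 n191142 = n190394 := d7_1 D191142 (iv6 D190394) (iv3 F150052)
theorem F382393 : act 5 n191142 = n190377 := d12_1 D191142 (iv6 D190377) (iv5 D95960) (iv6 F157620) D97313
def n191143 : Q := act 4 n97320
theorem D191143 : act 4 n97320 = n191143 := rfl
theorem F382394 : act 2 n191143 = n97324 := d1_1 D191143 (iv4 D97324) (iv2 F150065)
theorem F382395 : act 1 n191143 = n188481 := d18_6 (iv1 D96950) F71405 (iv1 F72954) F72953 D97320 D191143 F373637 (iv0 F381210) (iv5 D190813)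
def n191144 : Q := act 6 n97320
theorem D191144 : act 6 n97320 = n191144 := rfl
theorem F382396 : act 2 n191144 = n97325 := d3_1 D191144 (iv6 D97325) (iv2 F150065)
theorem F382397 : act 3 n191144 = n113053 := d7_1 D191144 (iv6 F366998) (iv3 F294049)
theorem F382398 : act 7 n191144 = n144108 := d14_2 F370236 D191144 F362555 (iv7 F362554) (iv6 F370235)
theorem F382399 : act 0 n191144 = n144205 := d21_4 (iv5 D95728) (iv1 F157284) D97320 D191144 (iv6 F340028) (iv5 D138932) (iv1 F316683) D152258 F348761 (iv1 F294041)
theorem F382400 : act 1 n191144 = n113100 := d15_1 (iv0 F382399) F176212 D144205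
theorem F382401 : act 5 n116990 = n191144 := d13_3 F382398 (iv5 D144108) (iv7 F340489)
def n191145 : Q := act 5 n97321
theorem D191145 : act 5 n97321 = n191145 := rfl
theorem F382402 : act 2 n191145 = n97328 := d2_1 D191145 (iv5 D97328) (iv2 F150066)
theorem F382403 : act 3 n191145 = n103263 := d6_1 D191145 (iv5 F369975) F369973
theorem F382404 : act 6 n191145 = n116990 := d12_2 D97321 D191145 F382401 (iv6 D191144) (iv5 D97320)
theorem F382405 : act 7 n191145 = n103252 := d13_2 F369967 D191145 (iv5 F369965)
theorem F382406 : act 1 n191145 = n103206 := d17_6 F73298 (iv5 F134897) (iv1 F154144) F154142 F152510 D191145 (iv5 D103206) (iv0 D47829) (iv4 F73296)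
theorem F382407 : act 0 n191145 = n103083 := d21_1 D191145 (iv5 D103083) (iv6 D47791) (iv1 D22998) D23000 D47795 (iv1 F319033) D125664 (iv6 F369958) (iv1 F369960)
def n191146 : Q := act 4 n97322
theorem D191146 : act 4 n97322 = n191146 := rfl
def n191147 : Q := act 6 n97322
theorem D191147 : act 6 n97322 = n191147 := rfl
theorem F382408 : act 3 n191147 = n144230 := d7_1 D191147 (iv6 D144230) (iv3 F357385)
theorem F382409 : act 5 n111783 = n191147 := d21_2 (iv5 D111785) D111783 (iv6 D191147) (iv1 F370237) F370235 (iv5 D176827) (iv1 D84300) D84302 D176834 F354549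
def n191148 : Q := act 4 n97323
theorem D191148 : act 4 n97323 = n191148 := rfl
def n191149 : Q := act 6 n97323
theorem D191149 : act 6 n97323 = n191149 := rfl
theorem F382410 : act 3 n191149 = n176941 := d7_1 D191149 (iv6 D176941) (iv3 F365436)
theorem F382411 : act 0 n191149 = n176889 := d21_4 (iv5 F291953) (iv1 F138333) (iv5 F294039) D191149 F382170 (iv5 D190769) (iv1 F350616) D190209 F379088 (iv1 F177430)
theorem F382412 : act 0 n157232 = n191149 := d21_4 (iv5 F246567) (iv1 D74764) D74766 D157232 (iv6 D191149) F294039 (iv1 D88428) D88430 (iv6 F348761) F319043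
def n191150 : Q := act 1 n97324
theorem D191150 : act 1 n97324 = n191150 := rfl
def n191151 : Q := act 3 n97324
theorem D191151 : act 3 n97324 = n191151 := rfl
theorem F382413 : act 4 n191151 = n97336 := d5_2 D97324 D191151 (iv3 D97336) (iv4 D45459) (iv3 F71709)
def n191152 : Q := act 5 n97324
theorem D191152 : act 5 n97324 = n191152 := rfl
def n191153 : Q := act 6 n97324
theorem D191153 : act 6 n97324 = n191153 := rfl
theorem F382414 : act 4 n191153 = n97325 := d10_1 D191153 (iv6 D97325) D97324
def n191154 : Q := act 1 n97325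
theorem D191154 : act 1 n97325 = n191154 := rfl
theorem F382415 : act 1 n191154 = n144108 := d15_1 D191154 (iv7 F382398) F382396
theorem F382416 : act 7 n191154 = n144205 := d15_2 (iv0 F340026) D191154 (iv2 D144205)
theorem F382417 : act 4 n191154 = n128571 := d17_9 (iv1 F355426) (iv5 D116981) D116978 F226839 (iv4 D144124) (iv5 D67523) D67520 (iv5 F367029) D191154
theorem F382418 : act 5 n113099 = n191154 := d21_0 (iv1 D191154) F367029 (iv6 F367030) F296438 D144245 (iv5 F364426) F339745 F319848 (iv6 F347197) (iv1 F226615)
theorem F382419 : act 2 n191154 = n113100 := d2_1 F382418 (iv5 D113100) D113099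
theorem F382420 : act 3 n191154 = n144213 := d6_1 F382418 F226903 (iv3 F176209)
def n191155 : Q := act 7 n97325
theorem D191155 : act 7 n97325 = n191155 := rfl
theorem F382421 : act 2 n191155 = n144108 := d4_1 D191155 (iv7 F382398) F382396
theorem F382422 : act 3 n191155 = n97342 := d8_1 D191155 (iv7 D97342) (iv3 F150067)
theorem F382423 : act 5 n191155 = n116991 := d13_1 D191155 F340509 (iv5 F367029)
theorem F382424 : act 6 n191155 = n176822 := d14_1 D191155 F362548 (iv6 F341815) (iv7 F293059) D97325
theorem F382425 : act 1 n113100 = n191155 := d15_1 F382400 (iv7 D191155) (iv2 F382396)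
theorem F382426 : act 1 n191155 = n144205 := d15_1 F382425 (iv7 F382416) F382419
def n191156 : Q := act 3 n97327
theorem D191156 : act 3 n97327 = n191156 := rfl
theorem F382427 : act 2 n191156 = n144263 := d0_1 D191156 (iv3 D144263) F226720 F369962 (iv2 F369959)
theorem F382428 : act 7 n191156 = n190232 := d8_2 (iv7 F360981) D191156 F379142
def n191157 : Q := act 4 n97327
theorem D191157 : act 4 n97327 = n191157 := rfl
theorem F382429 : act 7 n191157 = n188679 := d11_2 (iv7 F360981) D191157 F374427
theorem F382430 : act 0 n191157 = n189034 := d17_0 F375506 (iv1 F365063) (iv5 F365340) F153283 (iv5 F296080) (iv0 F296438) (iv5 D97328) D97327 D191157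
theorem F382431 : act 3 n191157 = n183170 := d20_3 (iv4 F369964) (iv1 F369969) D191157 (iv1 D183170) F134189 F61747 (iv1 F63073) (iv4 F64653) (iv3 F137719) (iv1 F286182)
theorem F382432 : act 0 n139604 = n191157 := d20_10 (iv4 D191157) (iv1 D97327) (iv4 F72957) F72956 F291685 D43536 (iv4 F292869) (iv1 F356417) (iv4 D139606) (iv3 F222758)
def n191158 : Q := act 6 n97327
theorem D191158 : act 6 n97327 = n191158 := rfl
theorem F382433 : act 2 n191158 = n125664 := d3_1 D191158 (iv6 F369958) (iv2 F369959)
theorem F382434 : act 5 n191158 = n111816 := d12_1 D191158 F173596 (iv5 F99668) (iv6 F355198) F367031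
theorem F382435 : act 7 n191158 = n187232 := d14_2 (iv7 F360981) D191158 (iv6 D187232) (iv7 F145367) D95756
theorem F382436 : act 0 n187280 = n191158 := d21_4 F251253 F360328 F360329 (iv6 F369693) (iv6 D191158) (iv5 F367031) (iv1 D103210) (iv5 D47832) D47833 D103213
theorem F382437 : act 1 n187095 = n191158 := d15_1 (iv0 F369068) F382435 F369577
def n191159 : Q := act 1 n97328
theorem D191159 : act 1 n97328 = n191159 := rfl
theorem F382438 : act 1 n191159 = n103252 := d15_1 D191159 (iv7 F382405) F382402
theorem F382439 : act 7 n191159 = n103083 := d15_2 (iv0 F296438) D191159 F296439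
theorem F382440 : act 5 n191159 = n100169 := d17_7 (iv1 F73865) D100165 F154100 F73881 F72957 D97328 D191159 F154114 F75113
theorem F382441 : act 3 n144252 = n191159 := d20_3 (iv4 D100789) D100787 F365273 (iv1 D191159) F150068 D97343 (iv1 F329893) (iv4 F329937) (iv3 F74216) (iv1 F329987)
theorem F382442 : act 2 n191159 = n103206 := d0_1 F382441 F296435 (iv2 F103332) D67567 D144252
def n191160 : Q := act 4 n97328
theorem D191160 : act 4 n97328 = n191160 := rfl
theorem F382443 : act 6 n191160 = n144112 := d10_2 (iv6 F367030) D191160 (iv4 D144112)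
theorem F382444 : act 7 n191160 = n103253 := d11_2 (iv7 F150069) D191160 (iv4 D103253)
theorem F382445 : act 0 n191160 = n184205 := d18_2 (iv1 D191159) D191160 (iv4 D184205) (iv5 D87859) F62126 (iv0 F65947) D46751 D100169 (iv5 F382440)
def n191161 : Q := act 0 n97336
theorem D191161 : act 0 n97336 = n191161 := rfl
def n191162 : Q := act 1 n97336
theorem D191162 : act 1 n97336 = n191162 := rfl
theorem F382446 : act 3 n97391 = n191162 := d20_3 (iv4 F370197) (iv1 D187402) (iv4 F294906) (iv1 D191162) (iv3 D97336) (iv4 D45459) F291938 F64945 (iv3 F119780) D163606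
theorem F382447 : act 5 n191162 = n163411 := d6_2 (iv5 F358960) F382446 (iv3 F262246)
theorem F382448 : act 6 n191162 = n97389 := d7_2 D97391 F382446 (iv3 D97389)
theorem F382449 : act 0 n181703 = n177465 := d21_4 (iv5 F382447) (iv1 D191162) F294051 D181703 (iv6 D177465) F129715 F297489 D166558 (iv6 F326385) (iv1 F262136)
def n191163 : Q := act 2 n97336
theorem D191163 : act 2 n97336 = n191163 := rfl
theorem F382450 : act 3 n191163 = n189508 := d0_2 D97336 D191163 F376756 F257723 (iv2 F293060)
theorem F382451 : act 5 n191163 = n181701 := d2_2 (iv5 F294051) D191163 (iv2 D181701)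
def n191164 : Q := act 6 n97336
theorem D191164 : act 6 n97336 = n191164 := rfl
theorem F382452 : act 3 n191164 = n97338 := d7_1 D191164 (iv6 D97338) D97336
theorem F382453 : act 0 n191164 = n132113 := d21_4 (iv5 F356069) (iv1 D181700) (iv5 F294051) D191164 (iv6 D132113) (iv5 F212088) (iv1 D131810) D131812 F340299 (iv1 F288013)
def n191165 : Q := act 0 n97338
theorem D191165 : act 0 n97338 = n191165 := rfl
theorem F382454 : act 4 n191165 = n181933 := d20_8 F248997 (iv1 F355668) (iv4 F356089) (iv3 F382420) (iv1 D191154) F150067 (iv4 F150086) D191165 (iv3 F355616) (iv1 F356091)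
theorem F382455 : act 3 n132140 = n191165 := d5_5 F382454 (iv3 F355616) (iv4 D103014) D103013 F356100
theorem F382456 : act 7 n132136 = n191165 := d11_0 F382454 (iv7 F355418) F373556
def n191166 : Q := act 1 n97338
theorem D191166 : act 1 n97338 = n191166 := rfl
theorem F382457 : act 4 n142405 = n191166 := d20_0 (iv1 D191166) F150086 (iv3 F150067) F340026 (iv3 D67554) (iv4 F49649) D60474 F95040 (iv3 F331278) (iv1 F331295)
theorem F382458 : act 6 n132134 = n191166 := d21_3 F360832 (iv1 F164292) (iv5 F211658) (iv1 D191166) (iv6 D97338) (iv5 F294053) F296234 (iv5 F296312) F343663 D132047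
theorem F382459 : act 2 n191166 = n132136 := d3_1 F382458 (iv6 D132136) D132134
def n191167 : Q := act 5 n97338
theorem D191167 : act 5 n97338 = n191167 := rfl
theorem F382460 : act 2 n191167 = n125879 := d2_1 D191167 (iv5 F366006) (iv2 F294054)
theorem F382461 : act 6 n191167 = n125873 := d12_2 D97338 D191167 F326398 (iv6 D86723) F294053
def n191168 : Q := act 7 n97338
theorem D191168 : act 7 n97338 = n191168 := rfl
theorem F382462 : act 4 n191168 = n97342 := d11_1 D191168 (iv7 D97342) (iv4 F150086)
theorem F382463 : act 1 n132136 = n191168 := d15_1 (iv0 F373555) (iv7 D191168) F294054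
def n191169 : Q := act 3 n97339
theorem D191169 : act 3 n97339 = n191169 := rfl
theorem F382464 : act 2 n191169 = n190390 := d0_1 D191169 (iv3 D190390) F306959 (iv3 F379934) F379936
def n191170 : Q := act 4 n97339
theorem D191170 : act 4 n97339 = n191170 := rfl
theorem F382465 : act 1 n191170 = n97437 := d18_6 (iv1 D126932) (iv4 D59573) D59570 D126921 (iv5 F382338) D191170 F150186 D97439 (iv5 F355416)
theorem F382466 : act 0 n191169 = n158906 := d20_4 (iv4 F150186) (iv1 F382465) (iv4 D191170) D191169 F250199 F113718 (iv1 F355653) (iv4 F377237) F377236 (iv1 D97439)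
def n191171 : Q := act 4 n97340
theorem D191171 : act 4 n97340 = n191171 := rfl
theorem F382467 : act 0 n191171 = n97437 := d18_2 (iv1 F370263) D191171 F150186 F331259 F100073 D64289 D136759 (iv0 F367007) (iv5 F370260)
def n191172 : Q := act 6 n97340
theorem D191172 : act 6 n97340 = n191172 := rfl
theorem F382468 : act 3 n191172 = n190392 := d7_1 D191172 (iv6 D190392) (iv3 F372120)
theorem F382469 : act 0 n191172 = n190477 := d21_10 (iv5 D190477) (iv1 F378476) F378473 F373511 (iv1 F148726) D97304 D191128 F382334 F372119 D191172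
def n191173 : Q := act 4 n97341
theorem D191173 : act 4 n97341 = n191173 := rfl
theorem F382470 : act 2 n191173 = n103268 := d1_1 D191173 F158505 (iv2 F150087)
theorem F382471 : act 6 n191173 = n97343 := d10_2 (iv6 F150088) D191173 (iv4 D97343)
theorem F382472 : act 1 n191173 = n129239 := d18_6 (iv1 F331295) F382457 (iv1 D191166) F150086 D97341 D191173 F322567 (iv0 F103779) (iv5 F331279)
def n191174 : Q := act 7 n97341
theorem D191174 : act 7 n97341 = n191174 := rfl
theorem F382473 : act 2 n191174 = n103271 := d4_1 D191174 (iv7 D103271) (iv2 F150087)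
theorem F382474 : act 3 n191174 = n116991 := d8_1 D191174 F340509 (iv3 F367028)
theorem F382475 : act 5 n191174 = n97342 := d13_1 D191174 (iv7 D97342) D97341
theorem F382476 : act 6 n191174 = n103261 := d14_1 D191174 (iv7 D103261) (iv6 D47850) F75045 (iv6 F150088)
theorem F382477 : act 1 n103270 = n191174 := d15_1 D103270 (iv7 D191174) F150087
theorem F382478 : act 1 n191174 = n103269 := d15_1 F382477 F367014 (iv2 F367018)
theorem F382479 : act 5 n191126 = n103269 := d21_0 (iv1 F382478) F382475 (iv6 F370254) (iv1 F370255) F380973 F380970 F358015 (iv5 D97303) D97304 D191126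
theorem F382480 : act 3 n144004 = n191126 := d6_3 F382479 F367012 D144004
def n191175 : Q := act 6 n97349
theorem D191175 : act 6 n97349 = n191175 := rfl
theorem F382481 : act 2 n191175 = n189426 := d3_1 D191175 (iv6 D189426) F331377
theorem F382482 : act 3 n191175 = n190377 := d7_1 D191175 (iv6 D190377) (iv3 F150100)
theorem F382483 : act 4 n191175 = n189424 := d10_1 D191175 (iv6 D189424) F331363
theorem F382484 : act 5 n191175 = n190394 := d12_1 D191175 (iv6 D190394) (iv5 D95996) F157602 D97349
def n191176 : Q := act 6 n97351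
theorem D191176 : act 6 n97351 = n191176 := rfl
theorem F382485 : act 2 n191176 = n97356 := d3_1 D191176 (iv6 D97356) (iv2 F150103)
theorem F382486 : act 3 n191176 = n176827 := d7_1 D191176 (iv6 F370235) F370233
theorem F382487 : act 5 n191176 = n176825 := d12_1 D191176 F362559 F160661 (iv6 D97352) D97351
def n191177 : Q := act 6 n97354
theorem D191177 : act 6 n97354 = n191177 := rfl
theorem F382488 : act 3 n191177 = n190379 := d7_1 D191177 (iv6 D190379) (iv3 F288030)
def n191178 : Q := act 0 n97356
theorem D191178 : act 0 n97356 = n191178 := rfl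
def n191179 : Q := act 1 n97356
theorem D191179 : act 1 n97356 = n191179 := rfl
theorem F382489 : act 5 n137279 = n191179 := d21_6 (iv5 D104786) (iv1 F76195) D103111 F357986 (iv1 D137276) D137279 (iv1 D191179) (iv5 F160670) (iv6 D104821) (iv1 F160589)
theorem F382490 : act 3 n191179 = n137281 := d6_1 F382489 (iv5 D137281) (iv3 F220425)
def n191180 : Q := act 7 n97356
theorem D191180 : act 7 n97356 = n191180 := rfl
theorem F382491 : act 3 n191180 = n97364 := d8_1 D191180 (iv7 D97364) (iv3 F150105)
theorem F382492 : act 4 n191180 = n113051 := d11_1 D191180 (iv7 F331434) (iv4 F294060)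
theorem F382493 : act 6 n191180 = n113050 := d14_1 D191180 F176130 F366999 (iv7 F293066) D97356
def n191181 : Q := act 3 n97357
theorem D191181 : act 3 n97357 = n191181 := rfl
theorem F382494 : act 6 n191181 = n144263 := d7_2 (iv6 F350466) D191181 (iv3 D144263)
theorem F382495 : act 7 n191181 = n190275 := d8_2 F288028 D191181 F379258
theorem F382496 : act 0 n191181 = n186907 := d20_10 (iv4 D186907) (iv1 D89370) (iv4 F137037) F137036 (iv1 F71538) D89870 F137955 D93939 (iv4 F288024) D191181
theorem F382497 : act 0 n172088 = n191181 := d20_4 F147362 (iv1 F356190) F335328 (iv3 F270227) (iv3 D191181) F288024 F251940 (iv4 F369462) F369461 (iv1 F324884)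
def n191182 : Q := act 1 n97359
theorem D191182 : act 1 n97359 = n191182 := rfl
theorem F382498 : act 7 n191182 = n132145 := d15_2 (iv0 F358115) D191182 F341788
theorem F382499 : act 5 n191182 = n160997 := d17_7 (iv1 F250176) F360303 (iv1 F350527) (iv5 D88757) (iv4 F133001) (iv5 F294062) D191182 F262097 F262093
theorem F382500 : act 4 n191182 = n187179 := d17_9 (iv1 F369391) F353201 (iv1 D47730) D47732 D102931 (iv5 F282818) (iv0 D181694) (iv5 F294062) D191182
theorem F382501 : act 3 n131955 = n191182 := d19_19 (iv1 D191182) F294062 F133001 (iv3 D41440) F31251 D35889 (iv4 F292611) (iv3 F69257) D94140 F335768 D186037 (iv3 F367215) F367216 (iv5 F377654) F377657 (iv3 F377296) (iv1 D110336) (iv5 F163718) (iv4 F211431)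
theorem F382502 : act 6 n191182 = n131954 := d7_2 D131955 F382501 (iv3 D131954)
theorem F382503 : act 2 n187180 = n191182 := d1_3 F382500 (iv2 D187179) D187180
theorem F382504 : act 0 n189508 = n191182 := d18_2 F373828 D189508 F382500 F369388 (iv4 F295128) (iv0 F178355) F70188 D92424 D188531
def n191183 : Q := act 2 n97359
theorem D191183 : act 2 n97359 = n191183 := rfl
theorem F382505 : act 4 n191183 = n188720 := d1_2 (iv4 F294061) D191183 F374556
theorem F382506 : act 5 n191183 = n181696 := d2_2 (iv5 F294062) D191183 (iv2 D181696)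
theorem F382507 : act 7 n191183 = n189508 := d4_2 (iv7 F294063) D191183 F376756
theorem F382508 : act 1 n191183 = n187180 := d15_0 F376285 (iv7 F294063) D191183
theorem F382509 : act 1 n132145 = n191183 := d15_0 F382508 F369393 (iv2 F341788)
def n191184 : Q := act 6 n97359
theorem D191184 : act 6 n97359 = n191184 := rfl
theorem F382510 : act 3 n191184 = n97361 := d7_1 D191184 (iv6 D97361) D97359
theorem F382511 : act 4 n191184 = n113688 := d10_1 D191184 F205480 (iv4 F294061)
theorem F382512 : act 5 n191184 = n108702 := d12_1 D191184 F170995 (iv5 F345715) F281847 (iv5 F294062)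
theorem F382513 : act 0 n191184 = n113406 := d21_4 F377457 (iv1 D181695) (iv5 F294062) D191184 F373516 (iv5 F373515) (iv1 D166554) (iv5 F135433) D185726 (iv1 F377459)
theorem F382514 : act 1 n191184 = n113404 := d15_1 (iv0 F382513) (iv7 F202940) F202939
theorem F382515 : act 7 n191184 = n108701 := d15_2 F202016 (iv0 F382513) (iv2 F202014)
def n191185 : Q := act 0 n97361
theorem D191185 : act 0 n97361 = n191185 := rfl
theorem F382516 : act 6 n191185 = n166600 := d21_5 F296312 (iv1 F296233) F294064 D97361 D191185 (iv5 D166600) (iv1 D79958) D79960 (iv6 F326271) D97371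
theorem F382517 : act 2 n176736 = n191185 := d3_3 F382516 (iv2 F262193) F341810
theorem F382518 : act 4 n191185 = n176733 := d1_2 D176736 F382517 F276108
def n191186 : Q := act 1 n97361
theorem D191186 : act 1 n97361 = n191186 := rfl
theorem F382519 : act 7 n191186 = n176736 := d15_2 (iv0 D191185) D191186 F382517
theorem F382520 : act 4 n191186 = n158871 := d18_7 F358443 (iv4 F122811) (iv1 F362516) F160673 F76227 (iv4 F150107) D191186 F358088 F358111
theorem F382521 : act 3 n187180 = n191186 := d5_5 F382520 F250133 F113673 D89687 D187180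
def n191187 : Q := act 5 n97361
theorem D191187 : act 5 n97361 = n191187 := rfl
theorem F382522 : act 2 n191187 = n181235 := d2_1 D191187 F282296 (iv2 F294065)
theorem F382523 : act 3 n191187 = n108702 := d6_1 D191187 (iv5 F382512) F382510
theorem F382524 : act 6 n191187 = n181008 := d12_2 D97361 D191187 (iv5 D181008) F132561 F294064
theorem F382525 : act 7 n108698 = n191187 := d14_0 F382524 (iv7 F354277) (iv6 D125669) F93049 D108698
theorem F382526 : act 4 n191187 = n108775 := d11_1 F382525 (iv7 D108775) (iv4 F168635)
def n191188 : Q := act 7 n97361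
theorem D191188 : act 7 n97361 = n191188 := rfl
theorem F382527 : act 3 n191188 = n108701 := d8_1 D191188 (iv7 F382515) F382510
theorem F382528 : act 4 n191188 = n97364 := d11_1 D191188 (iv7 D97364) (iv4 F150107)
theorem F382529 : act 5 n191188 = n108698 := d13_1 D191188 F382525 (iv5 D191187)
theorem F382530 : act 0 n176736 = n191188 := d18_2 F358103 D176736 F382528 (iv5 F160676) F361140 (iv0 D158024) F112868 D75287 (iv5 F358097)
def n191189 : Q := act 4 n97362
theorem D191189 : act 4 n97362 = n191189 := rfl
theorem F382531 : act 6 n191189 = n166642 := d10_2 F369681 D191189 (iv4 F369682)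
theorem F382532 : act 1 n191189 = n97479 := d18_6 F327730 D176730 (iv1 F370055) (iv4 F369676) (iv5 F369677) D191189 F150263 D97481 (iv5 F358105)
theorem F382533 : act 5 n163595 = n191189 := d17_7 F358103 (iv5 D84259) D84256 D176726 F276105 F257753 D163595 F382532 F150263
theorem F382534 : act 6 n177014 = n163595 := d12_0 F382533 F382531 (iv5 D166642) (iv6 F327958) F365980
def n191190 : Q := act 4 n97363
theorem D191190 : act 4 n97363 = n191190 := rfl
theorem F382535 : act 0 n191190 = n97479 := d17_0 F358445 (iv1 D129037) (iv5 F96575) (iv4 F211646) (iv5 F363590) (iv0 D104824) F76227 D97363 D191190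
theorem F382536 : act 1 n191190 = n97436 := d18_6 D84256 D176725 (iv1 F370054) (iv4 F373618) F373619 D191190 F294066 F358113 (iv5 D84259)
theorem F382537 : act 5 n163594 = n191190 := d19_1 D163594 (iv4 D191190) F370244 (iv1 D84328) (iv5 D38883) F29656 (iv3 D8843) F5874 D8127 F12892 (iv3 F13019) F21386 (iv5 D12880) D12879 (iv3 F30575) (iv1 F30576) D20277 F56469 D78604
def n191191 : Q := act 4 n97367
theorem D191191 : act 4 n97367 = n191191 := rfl
theorem F382538 : act 2 n191191 = n97368 := d1_1 D191191 (iv4 D97368) D97367
theorem F382539 : act 3 n191191 = n185692 := d5_1 D191191 F348102 (iv3 D186219) (iv4 F340447) (iv3 F335373)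
theorem F382540 : act 1 n191191 = n190817 := d18_6 (iv1 D185459) F135290 D88361 F292624 F291953 D191191 (iv4 D190817) D190816 F381227
theorem F382541 : act 5 n190254 = n191191 := d6_0 F382539 (iv5 F367203) (iv3 F379205)
theorem F382542 : act 6 n176908 = n191191 := d7_0 F382539 (iv6 D185692) (iv3 F343063)
def n191192 : Q := act 6 n97367
theorem D191192 : act 6 n97367 = n191192 := rfl
theorem F382543 : act 2 n191192 = n97370 := d3_1 D191192 (iv6 D97370) D97367
theorem F382544 : act 4 n191192 = n176908 := d10_1 D191192 F382542 (iv4 D191191)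
theorem F382545 : act 7 n191192 = n138940 := d14_2 F335372 D191192 (iv6 D138940) (iv7 F112017) D156878
def n191193 : Q := act 1 n97368
theorem D191193 : act 1 n97368 = n191193 := rfl
theorem F382546 : act 4 n191193 = n190810 := d18_7 F372688 F287716 F293093 F67939 (iv5 F291955) D97368 D191193 F381181 F379872
theorem F382547 : act 2 n190817 = n191193 := d1_3 F382546 F381178 D190817
def n191194 : Q := act 0 n97370
theorem D191194 : act 0 n97370 = n191194 := rfl
theorem F382548 : act 4 n191194 = n190748 := d18_3 F343049 (iv4 F327100) D191194 (iv5 D190748) (iv4 D96537) (iv0 D45078) F33856 D45079 D96543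
theorem F382549 : act 6 n191194 = n116993 := d21_5 (iv5 D187408) (iv1 D90032) (iv5 F291955) D97370 D191194 (iv5 D116993) D116990 F382401 (iv6 D191144) F370232
theorem F382550 : act 1 n138940 = n191194 := d15_0 (iv0 D191194) (iv7 F370118) F370116
theorem F382551 : act 3 n116995 = n191194 := d7_3 F382549 F182906 D116995
def n191195 : Q := act 1 n97370
theorem D191195 : act 1 n97370 = n191195 := rfl
theorem F382552 : act 1 n191195 = n138940 := d15_1 D191195 (iv7 F382545) F382543
theorem F382553 : act 4 n190754 = n191195 := d18_5 (iv1 F70979) F70143 (iv1 F70972) D96542 D190754 F382552 (iv4 F348071) F343051 (iv5 D96538)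
def n191196 : Q := act 2 n97375
theorem D191196 : act 2 n97375 = n191196 := rfl
theorem F382554 : act 7 n97376 = n191196 := d15_2 (iv0 D97375) D97376 (iv2 D191196)
def n191197 : Q := act 3 n97375
theorem D191197 : act 3 n97375 = n191197 := rfl
theorem F382555 : act 4 n176822 = n191197 := d19_2 D84299 D176822 (iv3 D191197) (iv1 F348735) (iv5 F348737) (iv4 D166711) F122828 (iv1 F119665) (iv5 D78466) F56435 F325357 (iv1 F79860) F325362 (iv4 D12881) F17597 (iv1 D9169) D9170 (iv4 F29655) D38874
def n191198 : Q := act 5 n97375
theorem D191198 : act 5 n97375 = n191198 := rfl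
theorem F382556 : act 4 n191198 = n127623 := d16_4 D78571 D163504 (iv4 F358965) D191198 (iv5 D127623) F333992 F250818 (iv7 F254214) (iv2 F254219)
theorem F382557 : act 6 n191198 = n127633 := d21_3 F138059 D97375 D191198 (iv1 F340394) F149727 (iv5 F76037) (iv1 F137919) (iv5 D89852) D89853 F358137
def n191199 : Q := act 6 n97375
theorem D191199 : act 6 n97375 = n191199 := rfl
theorem F382558 : act 5 n191199 = n103270 := d21_6 (iv5 D19844) D19842 (iv5 F291225) D45474 D97375 D191199 (iv1 D103270) (iv5 F291961) (iv6 D90055) (iv1 D42085)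
def n191200 : Q := act 7 n97375
theorem D191200 : act 7 n97375 = n191200 := rfl
theorem F382559 : act 2 n191200 = n97376 := d4_1 D191200 F382554 (iv2 D191196)
def n191201 : Q := act 3 n97376
theorem D191201 : act 3 n97376 = n191201 := rfl
theorem F382560 : act 4 n191201 = n190450 := d20_6 (iv4 F364663) (iv1 D107480) (iv4 F165811) F361219 (iv1 F367192) D191201 (iv1 D190450) (iv4 F147724) (iv3 F379949) F379952
def n191202 : Q := act 5 n97376
theorem D191202 : act 5 n97376 = n191202 := rfl
theorem F382561 : act 4 n191202 = n166719 := d9_1 D191202 (iv5 D166719) (iv4 D80017) F250801 D78571 D163504 (iv4 F358965) D191198 F382556 (iv5 D127623) F333992 F250818 D78576 D163514 F367194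
theorem F382562 : act 6 n191202 = n187325 := d21_3 F348737 (iv1 F367192) D191202 (iv1 F369844) F369602 F147458 (iv1 F71648) D97176 (iv6 F369873) (iv1 F369876)
def n191203 : Q := act 6 n97376
theorem D191203 : act 6 n97376 = n191203 := rfl
def n191204 : Q := act 0 n97385
theorem D191204 : act 0 n97385 = n191204 := rfl
theorem F382563 : act 5 n191204 = n106634 := d17_1 D191204 F330446 D106641 (iv4 F382217) F382218 F175921 F355504 (iv0 D97386) (iv4 F150119)
theorem F382564 : act 1 n163609 = n191204 := d15_0 (iv0 D191204) F295475 F348727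
theorem F382565 : act 4 n191204 = n181905 := d18_7 D103880 F357666 (iv1 F171968) (iv4 F295628) F348758 F348728 F382564 (iv0 D181905) (iv5 F294255)
theorem F382566 : act 2 n106637 = n191204 := d1_3 F382565 (iv2 F377487) F370080
theorem F382567 : act 7 n106632 = n191204 := d11_0 F382565 (iv7 F377489) (iv4 F370082)
def n191205 : Q := act 1 n97385
theorem D191205 : act 1 n97385 = n191205 := rfl
theorem F382568 : act 1 n191205 = n163609 := d15_1 D191205 F348726 (iv2 F293085)
theorem F382569 : act 7 n191205 = n106637 := d15_2 (iv0 D191204) D191205 F382566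
theorem F382570 : act 4 n181906 = n191205 := d20_6 F95707 F46650 D29672 D62732 D133649 F377491 (iv1 D191205) F150119 F295325 (iv1 F95709)
theorem F382571 : act 5 n106629 = n191205 := d21_0 (iv1 D191205) F295474 (iv6 F172213) F349566 (iv6 F343532) (iv5 F349607) (iv1 F207296) (iv5 D128638) F95093 (iv1 F330442)
theorem F382572 : act 6 n132934 = n191205 := d21_3 (iv5 D62385) D62382 D132934 (iv1 D191205) (iv6 D97385) (iv5 F293084) (iv1 F71121) D96653 F347518 (iv1 D132944)
theorem F382573 : act 2 n191205 = n106632 := d2_1 F382571 (iv5 D106632) D106629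
def n191206 : Q := act 4 n97386
theorem D191206 : act 4 n97386 = n191206 := rfl
theorem F382574 : act 3 n191206 = n106756 := d5_1 D191206 F164554 (iv3 F164516) F355470 (iv3 F355503)
theorem F382575 : act 7 n191206 = n106752 := d11_2 F355505 D191206 F348084
theorem F382576 : act 6 n132120 = n191206 := d14_5 F382575 (iv6 D106752) F77997 D61986 D132120
theorem F382577 : act 0 n97394 = n191206 := d21_4 (iv5 D36422) D36419 F294898 D97394 (iv6 F382576) F211648 F354390 D163449 F354387 F119735
def n191207 : Q := act 6 n97386
theorem D191207 : act 6 n97386 = n191207 := rfl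
theorem F382578 : act 2 n191207 = n176887 := d3_1 D191207 (iv6 F362561) (iv2 F355506)
theorem F382579 : act 3 n191207 = n190443 := d7_1 D191207 (iv6 D190443) (iv3 F355503)
theorem F382580 : act 4 n191207 = n132120 := d10_1 D191207 F382576 (iv4 D191206)
theorem F382581 : act 7 n191207 = n132117 := d14_2 F355505 D191207 (iv6 D132117) F164512 F348085
theorem F382582 : act 5 n191207 = n104653 := d21_6 (iv5 D40539) (iv1 F31177) (iv5 F291223) D45477 D97386 D191207 (iv1 D104653) (iv5 F291965) (iv6 D90053) (iv1 F64995)
def n191208 : Q := act 0 n97389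
theorem D191208 : act 0 n97389 = n191208 := rfl
theorem F382583 : act 5 n191208 = n185557 := d17_1 D191208 (iv1 F341822) (iv5 F358445) F150263 F358097 (iv0 F326839) (iv5 F377482) F377484 (iv4 F348786)
theorem F382584 : act 4 n191208 = n176887 := d18_3 D158060 (iv4 F348786) D191208 (iv5 D176887) (iv4 F254192) (iv0 F254194) (iv4 D158049) (iv0 D75286) D75289
theorem F382585 : act 3 n191208 = n185733 := d20_5 (iv4 D96954) F294078 (iv4 F294089) D97389 D191208 (iv4 D185733) (iv1 F284412) (iv4 F327190) F257693 (iv1 F294044)
theorem F382586 : act 0 n176887 = n188463 := d20_1 F382584 F373571 F203005 (iv1 F175331) F359021 (iv4 D96954) F294078 (iv4 F294089) D97389 D191208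
theorem F382587 : act 2 n132120 = n191208 := d15_3 (iv0 D191208) F365954 D132120
theorem F382588 : act 1 n132119 = n191208 := d15_0 (iv0 D191208) F294904 (iv2 F348770)
theorem F382589 : act 7 n191208 = n132104 := d15_2 D132119 F382588 F211640
theorem F382590 : act 0 n191189 = n97436 := d17_0 F294067 D185557 (iv5 F382583) F382584 (iv5 D176887) (iv0 F362518) (iv5 F370253) F370256 D191189
def n191209 : Q := act 2 n97389
theorem D191209 : act 2 n97389 = n191209 := rfl
theorem F382591 : act 4 n191209 = n176731 := d1_2 (iv4 F348786) D191209 F348782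
theorem F382592 : act 5 n191209 = n166593 := d2_2 (iv5 F294903) D191209 (iv2 D166593)
theorem F382593 : act 7 n191209 = n132119 := d4_2 (iv7 F294904) D191209 F348770
theorem F382594 : act 1 n191209 = n132104 := d15_0 F354469 (iv7 F294904) D191209
theorem F382595 : act 1 n132120 = n191209 := d15_0 F382594 (iv7 F382589) (iv2 F382587)
def n191210 : Q := act 7 n97391
theorem D191210 : act 7 n97391 = n191210 := rfl
theorem F382596 : act 4 n191210 = n187403 := d11_1 D191210 (iv7 D187403) (iv4 F294906)
theorem F382597 : act 5 n191210 = n113395 := d13_1 D191210 F328089 (iv5 F358960)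
def n191211 : Q := act 1 n97392
theorem D191211 : act 1 n97392 = n191211 := rfl
theorem F382598 : act 5 n191211 = n180355 := d17_7 F334632 (iv5 F334650) (iv1 F214236) F322444 (iv4 F122723) (iv5 F294896) D191211 F334375 (iv4 F334377)
theorem F382599 : act 3 n106602 = n191211 := d20_3 (iv4 F343626) (iv1 D106700) (iv4 F164186) (iv1 D191211) (iv3 D97392) F294083 (iv1 F294079) D96954 (iv3 F359021) F176599
theorem F382600 : act 6 n191211 = n106600 := d7_2 D106602 F382599 F164181
def n191212 : Q := act 4 n97392
theorem D191212 : act 4 n97392 = n191212 := rfl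
theorem F382601 : act 3 n191212 = n187378 := d5_1 D191212 (iv4 D187378) F138237 (iv4 F294083) D97392
def n191213 : Q := act 7 n97394
theorem D191213 : act 7 n97394 = n191213 := rfl
theorem F382602 : act 3 n191213 = n131945 := d8_1 D191213 F362889 (iv3 F352534)
theorem F382603 : act 4 n191213 = n187382 := d11_1 D191213 (iv7 D187382) (iv4 F294900)
theorem F382604 : act 1 n106752 = n191213 := d15_1 (iv0 F357664) (iv7 D191213) F294899
def n191214 : Q := act 3 n97396
theorem D191214 : act 3 n97396 = n191214 := rfl
theorem F382605 : act 6 n191214 = n132943 := d7_2 F373523 D191214 (iv3 F361705)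
def n191215 : Q := act 5 n97408
theorem D191215 : act 5 n97408 = n191215 := rfl
theorem F382606 : act 2 n191215 = n183234 := d2_1 D191215 (iv5 D183234) (iv2 F270437)
theorem F382607 : act 3 n191215 = n190754 := d6_1 D191215 (iv5 D190754) (iv3 F150141)
theorem F382608 : act 6 n191215 = n158118 := d12_2 F358526 D191215 F365723 (iv6 F380386) F380384
theorem F382609 : act 7 n191215 = n183232 := d13_2 F270440 D191215 (iv5 D183232)
theorem F382610 : act 0 n191215 = n190520 := d17_2 D97408 D191215 F379984 F148140 D96478 (iv0 F295120) (iv5 D98587) (iv0 F294732) F294733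
theorem F382611 : act 0 n97430 = n191215 := d21_1 (iv5 F294505) (iv5 D191215) (iv6 F358526) (iv1 D112029) (iv6 F174129) (iv5 D112024) D112022 F358508 F367091 (iv1 D181880)
def n191216 : Q := act 5 n97409
theorem D191216 : act 5 n97409 = n191216 := rfl
theorem F382612 : act 2 n191216 = n183232 := d2_1 D191216 (iv5 D183232) F270442
theorem F382613 : act 3 n191216 = n190483 := d6_1 D191216 (iv5 D190483) F157299
theorem F382614 : act 7 n191216 = n183234 := d13_2 (iv7 F270441) D191216 (iv5 D183234)
theorem F382615 : act 0 n191216 = n97430 := d17_2 (iv1 F150148) D191216 F294505 F133276 D87178 (iv0 F295122) (iv5 D89057) F72653 (iv4 F134279)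
theorem F382616 : act 0 n190520 = n191216 := d21_7 (iv5 F327290) D120012 F330004 (iv6 F381192) (iv1 F380419) F380417 (iv5 F379984) (iv5 D191216) F330007 (iv1 F326526)
def n191217 : Q := act 5 n97410
theorem D191217 : act 5 n97410 = n191217 := rfl
theorem F382617 : act 2 n191217 = n97411 := d2_1 D191217 (iv5 D97411) D97410
theorem F382618 : act 3 n191217 = n189080 := d6_1 D191217 (iv5 D189080) F295194
theorem F382619 : act 7 n191217 = n183224 := d13_2 (iv7 F150146) D191217 (iv5 D183224)
theorem F382620 : act 1 n191217 = n183236 := d17_6 D87175 (iv5 F294475) (iv1 F151978) (iv5 D98586) (iv4 F150144) D191217 (iv5 F365942) (iv0 D181879) F133276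
theorem F382621 : act 0 n191217 = n183237 := d21_1 D191217 (iv5 F367090) (iv6 F367091) (iv1 D103852) F75550 F329945 (iv1 F187544) (iv5 F244743) F330006 (iv1 F150147)
theorem F382622 : act 6 n189642 = n191217 := d7_0 F382618 (iv6 F375669) D189642
def n191218 : Q := act 6 n97411
theorem D191218 : act 6 n97411 = n191218 := rfl
theorem F382623 : act 2 n191218 = n189642 := d3_1 D191218 F382622 F382617
theorem F382624 : act 3 n191218 = n97413 := d7_1 D191218 (iv6 D97413) (iv3 F150150)
theorem F382625 : act 4 n191218 = n110768 := d10_1 D191218 (iv6 F379701) F379698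
theorem F382626 : act 5 n191218 = n190488 := d12_1 D191218 (iv6 D190488) (iv5 D96054) (iv6 F71743) D97411
theorem F382627 : act 7 n191218 = n110764 := d14_2 (iv7 F150151) D191218 (iv6 D110764) D110765 F330362
def n191219 : Q := act 0 n97413
theorem D191219 : act 0 n97413 = n191219 := rfl
theorem F382628 : act 4 n191219 = n188443 := d18_1 D191219 (iv1 F373547) F373543 F293107 (iv4 F379607) (iv0 F379610) (iv4 F379898) (iv0 D190491) (iv5 F150156)
theorem F382629 : act 1 n189647 = n191219 := d18_6 F217218 (iv4 D134991) (iv1 D63439) (iv4 F77845) D106615 (iv4 F377252) F382628 (iv0 D188443) F359026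
def n191220 : Q := act 1 n97413
theorem D191220 : act 1 n97413 = n191220 := rfl
theorem F382630 : act 1 n191220 = n189647 := d15_1 D191220 F377253 F360833
theorem F382631 : act 4 n191220 = n188444 := d18_7 (iv1 F217215) (iv4 D134986) (iv1 F328744) (iv4 F328937) D132045 F349645 D191220 F373546 F373544
theorem F382632 : act 6 n176726 = n191220 := d21_3 (iv5 D84259) D84256 D176726 (iv1 D191220) (iv6 D97413) (iv5 D45491) (iv1 F34164) D21733 D45523 F358103
def n191221 : Q := act 7 n97413
theorem D191221 : act 7 n97413 = n191221 := rfl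
theorem F382633 : act 2 n191221 = n189647 := d4_1 D191221 F377253 F360833
theorem F382634 : act 3 n191221 = n110764 := d8_1 D191221 (iv7 F382627) F382624
theorem F382635 : act 4 n191221 = n110773 := d11_1 D191221 (iv7 F349646) F349645
theorem F382636 : act 5 n191221 = n190493 := d13_1 D191221 (iv7 D190493) (iv5 F150156)
theorem F382637 : act 6 n191221 = n110762 := d14_1 D191221 F330366 F134289 (iv7 F71745) D97413
def n191222 : Q := act 6 n97415
theorem D191222 : act 6 n97415 = n191222 := rfl
theorem F382638 : act 3 n191222 = n186225 := d7_1 D191222 (iv6 D186225) (iv3 F294947)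
theorem F382639 : act 4 n191222 = n176860 := d10_1 D191222 (iv6 D176860) (iv4 F294948)
theorem F382640 : act 5 n191222 = n186225 := d12_1 D191222 (iv6 D186225) F294192 F205506 D97415
def n191223 : Q := act 6 n97423
theorem D191223 : act 6 n97423 = n191223 := rfl
theorem F382641 : act 3 n191223 = n189738 := d7_1 D191223 (iv6 D189738) (iv3 F293679)
theorem F382642 : act 4 n191223 = n176924 := d10_1 D191223 (iv6 D176924) (iv4 F293680)
def n191224 : Q := act 3 n97424
theorem D191224 : act 3 n97424 = n191224 := rfl
theorem F382643 : act 2 n191224 = n190495 := d0_1 D191224 (iv3 D190495) (iv2 F331418) (iv3 F289092) (iv2 F360346)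
theorem F382644 : act 5 n191224 = n181893 := d6_2 (iv5 F360348) D191224 (iv3 D181893)
theorem F382645 : act 0 n191224 = n190748 := d20_10 (iv4 F382548) (iv1 F382550) (iv4 F348071) (iv3 D95977) (iv1 F70366) (iv3 F70376) D96002 F306982 (iv4 F360347) D191224
theorem F382646 : act 1 n191224 = n190754 := d15_1 (iv0 F382645) F380928 (iv2 F380902)
def n191225 : Q := act 6 n97424
theorem D191225 : act 6 n97424 = n191225 := rfl
def n191226 : Q := act 0 n97425
theorem D191226 : act 0 n97425 = n191226 := rfl
theorem F382647 : act 4 n191226 = n144019 := d18_3 (iv1 D97424) D97425 D191226 F350525 (iv4 F350504) (iv0 D89668) F64566 D86876 (iv5 F360348)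
theorem F382648 : act 1 n137095 = n191226 := d15_0 (iv0 D191226) (iv7 F370159) F370157
theorem F382649 : act 2 n137092 = n191226 := d1_3 F382647 F350524 (iv4 F350535)
theorem F382650 : act 7 n137093 = n191226 := d11_0 F382647 F350526 (iv4 F365052)
def n191227 : Q := act 1 n97425
theorem D191227 : act 1 n97425 = n191227 := rfl
theorem F382651 : act 1 n191227 = n137095 := d15_1 D191227 (iv7 D137095) (iv2 F331313)
theorem F382652 : act 7 n191227 = n137092 := d15_2 (iv0 D191226) D191227 F382649
theorem F382653 : act 4 n191227 = n144020 := d18_7 F157281 F71643 F294537 (iv4 F294529) D45495 D97425 D191227 F226697 F306979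
theorem F382654 : act 5 n191227 = n188490 := d18_9 F373672 F276104 (iv1 D163431) F119726 (iv5 F129393) (iv4 F293680) (iv0 D97423) D97425 D191227
theorem F382655 : act 3 n188491 = n191227 := d20_3 D84329 D176903 (iv4 F373677) (iv1 D191227) F294701 (iv4 F294066) (iv1 F382536) (iv4 D191190) F370244 (iv1 D84328)
theorem F382656 : act 2 n137093 = n191227 := d1_3 F382653 F350520 (iv4 F365052)
def n191228 : Q := act 3 n97428
theorem D191228 : act 3 n97428 = n191228 := rfl
theorem F382657 : act 2 n191228 = n190496 := d0_1 D191228 (iv3 D190496) F373236 F373233 (iv2 F370060)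
theorem F382658 : act 4 n191228 = n190496 := d5_2 (iv4 F350548) D191228 (iv3 D190496) (iv4 F372395) F372396
theorem F382659 : act 7 n191228 = n190042 := d8_2 (iv7 F350538) D191228 F378633
theorem F382660 : act 0 n191228 = n190749 := d20_4 (iv4 F291245) (iv1 F350551) (iv4 F350548) D191228 (iv3 F381200) F381201 (iv1 F375508) (iv4 F349216) F349228 (iv1 F299849)
def n191229 : Q := act 2 n97430
theorem D191229 : act 2 n97430 = n191229 := rfl
theorem F382661 : act 3 n191229 = n188213 := d0_2 D97430 D191229 F372691 F140145 (iv2 F293572)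
theorem F382662 : act 5 n191229 = n181881 := d2_2 (iv5 F294505) D191229 (iv2 D181881)
theorem F382663 : act 7 n191229 = n190520 := d4_2 (iv7 F294506) D191229 F379983
theorem F382664 : act 1 n191229 = n183232 := d15_0 F381638 (iv7 F294506) D191229
theorem F382665 : act 1 n183234 = n191229 := d15_0 F382664 (iv7 F382609) F382606
def n191230 : Q := act 6 n97430
theorem D191230 : act 6 n97430 = n191230 := rfl
theorem F382666 : act 3 n191230 = n97432 := d7_1 D191230 (iv6 D97432) D97430
theorem F382667 : act 5 n191230 = n190688 := d12_1 D191230 (iv6 D190688) (iv5 D96388) (iv6 F293571) (iv5 F294505)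
def n191231 : Q := act 0 n97432
theorem D191231 : act 0 n97432 = n191231 := rfl
theorem F382668 : act 5 n191231 = n176714 := d17_3 F363611 (iv5 F150176) D191231 F276084 F320328 (iv0 F311013) (iv5 F340286) (iv0 D147693) (iv4 F204925)
theorem F382669 : act 4 n191231 = n132066 := d18_1 D191231 (iv1 F211621) F340298 F340303 (iv4 F340307) (iv0 F361258) (iv4 F380606) (iv0 D190690) (iv5 F150176)
theorem F382670 : act 2 n132081 = n191231 := d1_3 F382669 F211552 D132081
theorem F382671 : act 7 n132097 = n191231 := d11_0 F382669 F211553 D132097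
theorem F382672 : act 3 n176716 = n191231 := d20_5 F379637 (iv1 F376134) (iv4 F378571) F378570 F276088 F382669 (iv1 F211621) F340298 (iv3 F363597) (iv1 F379635)
def n191232 : Q := act 1 n97432
theorem D191232 : act 1 n97432 = n191232 := rfl
theorem F382673 : act 7 n191232 = n132081 := d15_2 (iv0 D191231) D191232 F382670
theorem F382674 : act 4 n191232 = n132083 := d17_9 F340300 (iv5 F340304) F211210 F212088 D132111 F380612 (iv0 D190690) (iv5 F150176) D191232
theorem F382675 : act 2 n132097 = n191232 := d1_3 F382674 F211617 D132097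
def n191233 : Q := act 7 n97432
theorem D191233 : act 7 n97432 = n191233 := rfl
theorem F382676 : act 5 n191233 = n190691 := d13_1 D191233 (iv7 D190691) (iv5 F150176)
theorem F382677 : act 6 n191233 = n190650 := d14_1 D191233 (iv7 D190650) (iv6 D96299) (iv7 F293575) D97432
theorem F382678 : act 1 n132097 = n191233 := d15_1 (iv0 F348724) (iv7 D191233) F294507
theorem F382679 : act 1 n191233 = n132081 := d15_1 F382678 (iv7 F382673) (iv2 F382675)
def n191234 : Q := act 6 n97433
theorem D191234 : act 6 n97433 = n191234 := rfl
theorem F382680 : act 2 n191234 = n190521 := d3_1 D191234 (iv6 D190521) (iv2 F150179)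
theorem F382681 : act 3 n191234 = n97435 := d7_1 D191234 (iv6 D97435) D97433
theorem F382682 : act 4 n191234 = n189489 := d10_1 D191234 F376666 F364456
theorem F382683 : act 5 n191234 = n163289 := d12_1 D191234 F381418 (iv5 F158650) (iv6 F291787) (iv5 F292816)
theorem F382684 : act 0 n130626 = n191234 := d21_4 F352910 F329288 (iv5 F95778) D130626 (iv6 D191234) F292816 (iv1 F292815) D96130 F356252 F352912
def n191235 : Q := act 6 n97434
theorem D191235 : act 6 n97434 = n191235 := rfl
theorem F382685 : act 2 n191235 = n190647 := d3_1 D191235 (iv6 D190647) F293821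
theorem F382686 : act 3 n191235 = n188450 := d7_1 D191235 (iv6 F373516) F327063
theorem F382687 : act 4 n191235 = n97435 := d10_1 D191235 (iv6 D97435) D97434
theorem F382688 : act 7 n191235 = n191214 := d14_2 F293835 D191235 F382605 F361704 (iv6 D182878)
theorem F382689 : act 0 n191235 = n191111 := d21_4 (iv5 F293098) (iv1 F122221) (iv5 F292822) D191235 (iv6 D191111) F358363 (iv1 D49343) D49345 (iv6 F330367) F134291
theorem F382690 : act 1 n106645 = n191214 := d15_1 (iv0 F380445) (iv7 F382688) F382685
def n191236 : Q := act 0 n97435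
theorem D191236 : act 0 n97435 = n191236 := rfl
theorem F382691 : act 6 n191236 = n170428 := d21_5 (iv5 D41275) (iv1 F61359) (iv5 F291788) D97435 D191236 (iv5 D170428) F332549 D87473 F134289 F293595
theorem F382692 : act 2 n190648 = n191236 := d3_3 F382691 (iv2 F380333) (iv6 F380447)
theorem F382693 : act 7 n190649 = n191236 := d15_2 (iv0 D190648) D190649 (iv2 F382692)
def n191237 : Q := act 1 n97435
theorem D191237 : act 1 n97435 = n191237 := rfl
theorem F382694 : act 1 n191237 = n190650 := d15_1 D191237 (iv7 D190650) (iv2 F292823)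
theorem F382695 : act 7 n191237 = n190648 := d15_2 (iv0 D191236) D191237 F382692
theorem F382696 : act 4 n185728 = n191237 := d20_0 (iv1 D191237) (iv4 F382687) F382686 (iv1 D188450) (iv3 D91871) (iv4 D42944) (iv1 F63603) (iv4 F119712) (iv3 F257693) F327187
theorem F382697 : act 2 n190649 = n191237 := d4_3 F382695 F382692 (iv7 F382693)
theorem F382698 : act 2 n185728 = n166611 := d1_3 (iv4 F380448) F382697 (iv4 F382696)
theorem F382699 : act 1 n190650 = n191236 := d15_1 F382694 (iv7 F382693) F382697
theorem F382700 : act 5 n161007 = n185728 := d2_0 F382698 (iv5 F356069) F282835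
theorem F382701 : act 7 n166610 = n185728 := d15_2 F288013 F288014 F382698
theorem F382702 : act 7 n185727 = n166611 := d15_2 (iv0 F327187) F327188 (iv2 F382698)
theorem F382703 : act 2 n166610 = n185727 := d4_3 F382702 (iv2 F382698) (iv7 F382701)
theorem F382704 : act 4 n191236 = n185727 := d11_3 F382702 (iv4 F380448) F382693
theorem F382705 : act 5 n161008 = n185727 := d13_3 F382702 (iv5 F356069) F282833
theorem F382706 : act 5 n166610 = n181699 := d2_2 F382705 (iv2 F382703) (iv2 F282834)
theorem F382707 : act 4 n166610 = n190648 := d1_2 F382704 (iv2 F382703) F382692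
def n191238 : Q := act 7 n97435
theorem D191238 : act 7 n97435 = n191238 := rfl
theorem F382708 : act 2 n191238 = n190650 := d4_1 D191238 (iv7 D190650) (iv2 F292823)
theorem F382709 : act 4 n191238 = n191214 := d11_1 D191238 (iv7 F382688) F382687
theorem F382710 : act 5 n191238 = n190190 := d13_1 D191238 (iv7 D190190) (iv5 F150185)
theorem F382711 : act 1 n190649 = n191238 := d15_1 D190649 (iv7 D191238) F292823
theorem F382712 : act 1 n191238 = n190648 := d15_1 F382711 (iv7 F382695) (iv2 F382697)
def n191239 : Q := act 2 n97436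
theorem D191239 : act 2 n97436 = n191239 := rfl
theorem F382713 : act 4 n191239 = n97483 := d1_2 (iv4 F294066) D191239 (iv2 F358110)
theorem F382714 : act 5 n191239 = n185559 := d2_2 (iv5 F294067) D191239 (iv2 D185559)
theorem F382715 : act 7 n191239 = n97479 := d4_2 (iv7 F294068) D191239 (iv2 F354385)
def n191240 : Q := act 6 n97436
theorem D191240 : act 6 n97436 = n191240 := rfl
theorem F382716 : act 3 n191240 = n97437 := d7_1 D191240 (iv6 D97437) D97436
theorem F382717 : act 4 n191240 = n97441 := d10_1 D191240 F358112 (iv4 F294066)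
theorem F382718 : act 7 n191240 = n97437 := d14_2 (iv7 F294068) D191240 (iv6 D97437) (iv7 F294036) (iv6 F354387)
def n191241 : Q := act 5 n97437
theorem D191241 : act 5 n97437 = n191241 := rfl
theorem F382719 : act 6 n191241 = n185561 := d12_2 D97437 D191241 (iv5 D185561) (iv6 D88392) F294069
theorem F382720 : act 0 n125900 = n191241 := d19_0 (iv5 D191241) F150186 (iv3 F331277) (iv1 F95042) (iv5 D31349) (iv4 D14778) (iv3 F24414) F37128 F37127 F23678 (iv3 F23666) F24053 D14403 (iv4 F45218) D58809 D125597 F366352 (iv4 F93156) (iv3 F202389)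
def n191242 : Q := act 4 n97438
theorem D191242 : act 4 n97438 = n191242 := rfl
theorem F382721 : act 2 n191242 = n191165 := d1_1 D191242 F382454 F355421
theorem F382722 : act 7 n191242 = n191166 := d11_2 F355422 D191242 (iv4 F382457)
theorem F382723 : act 0 n191242 = n191168 := d20_1 D191242 F382462 (iv3 F382422) (iv1 F382425) F176211 (iv4 F85006) (iv1 F95017) (iv4 F95040) F331277 D97438
theorem F382724 : act 1 n191242 = n163435 := d15_0 (iv0 F373555) F382456 (iv2 F382721)
theorem F382725 : act 6 n191242 = n106530 := d21_5 F294045 (iv1 F116031) D78543 D163435 (iv1 F382724) F349606 (iv1 F349605) (iv5 F349603) (iv6 D163415) (iv1 F294044)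
def n191243 : Q := act 6 n97438
theorem D191243 : act 6 n97438 = n191243 := rfl
theorem F382726 : act 4 n191243 = n106530 := d10_1 D191243 (iv6 F382725) (iv4 D191242)
def n191244 : Q := act 4 n97469
theorem D191244 : act 4 n97469 = n191244 := rfl
theorem F382727 : act 7 n191244 = n190027 := d11_2 (iv7 F150248) D191244 (iv4 D190027)
def n191245 : Q := act 6 n97469
theorem D191245 : act 6 n97469 = n191245 := rfl
theorem F382728 : act 2 n191245 = n189643 := d3_1 D191245 F377240 (iv2 F295363)
theorem F382729 : act 3 n191245 = n190015 := d7_1 D191245 (iv6 D190015) (iv3 F150247)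
theorem F382730 : act 5 n191245 = n106486 := d12_1 D191245 (iv6 F360835) (iv5 D93210) F294725 D97469
theorem F382731 : act 7 n189648 = n191245 := d13_0 F382730 F163735 D189648
theorem F382732 : act 4 n189329 = n191245 := d16_0 F382730 (iv4 D106486) (iv5 D49206) (iv4 F37664) D49304 (iv4 F144717) D189326 F376414 (iv2 F376413)
theorem F382733 : act 6 n191244 = n189329 := d10_0 F382732 (iv6 D191245) D191244
def n191246 : Q := act 6 n97470
theorem D191246 : act 6 n97470 = n191246 := rfl
theorem F382734 : act 2 n191246 = n97475 := d3_1 D191246 (iv6 D97475) (iv2 F150249)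
theorem F382735 : act 3 n191246 = n137095 := d7_1 D191246 F370151 F370144
theorem F382736 : act 7 n191246 = n137087 := d14_2 (iv7 F294713) D191246 (iv6 D137087) (iv7 F206773) (iv6 F340524)
theorem F382737 : act 0 n191246 = n190526 := d20_4 (iv4 F293680) (iv1 F370147) F370145 (iv3 F382735) (iv3 D190526) D190527 F379997 F379681 F346850 (iv1 F350480)
def n191247 : Q := act 3 n97472
theorem D191247 : act 3 n97472 = n191247 := rfl
theorem F382738 : act 2 n191247 = n188471 := d0_1 D191247 F373601 (iv2 F295301) D96077 F150255
theorem F382739 : act 5 n191247 = n185593 := d6_2 (iv5 F356257) D191247 (iv3 D185593)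
theorem F382740 : act 7 n191247 = n190498 := d8_2 (iv7 F356271) D191247 F379916
theorem F382741 : act 4 n191247 = n191150 := d20_6 F64945 (iv1 F293073) (iv4 D45522) (iv3 F71796) D97472 D191247 (iv1 D191150) (iv4 D97324) F71709 F291938
theorem F382742 : act 2 n191150 = n188481 := d1_1 F382741 F373637 (iv2 F382738)
theorem F382743 : act 0 n190482 = n191247 := d18_0 F382741 (iv1 D191150) (iv4 D97324) (iv5 D45455) (iv4 F62907) (iv0 F134922) (iv4 F149504) (iv0 F149506) D190482
theorem F382744 : act 1 n190483 = n191247 := d15_0 (iv0 F382743) (iv7 F381195) F381193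
theorem F382745 : act 6 n176878 = n191150 := d3_0 F382742 (iv6 D188481) F276253
def n191248 : Q := act 4 n97472
theorem D191248 : act 4 n97472 = n191248 := rfl
theorem F382746 : act 2 n191248 = n189475 := d1_1 D191248 F376650 F150255
theorem F382747 : act 5 n191248 = n189403 := d16_1 D191248 (iv4 D189403) (iv5 F371428) F371427 F147796 F294695 (iv5 F294696) F150254 F150255
theorem F382748 : act 6 n189471 = n191248 := d3_0 F382746 (iv6 D189475) (iv2 F376639)
def n191249 : Q := act 6 n97472
theorem D191249 : act 6 n97472 = n191249 := rfl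
theorem F382749 : act 2 n191249 = n189474 := d3_1 D191249 (iv6 F376648) F150255
theorem F382750 : act 4 n191249 = n189471 := d10_1 D191249 F382748 (iv4 D191248)
theorem F382751 : act 5 n191249 = n190131 := d12_1 D191249 (iv6 D190131) (iv5 F158635) F356258 (iv5 F356257)
theorem F382752 : act 4 n190131 = n163941 := d16_2 (iv4 F382750) F382751 (iv5 D163941) F119921 (iv5 F142018) F292613 F144787 F144785 (iv2 F376639)
theorem F382753 : act 6 n163941 = n190130 := d10_2 D190131 F382752 (iv4 D190130)
theorem F382754 : act 3 n190130 = n163943 := d7_1 F382753 (iv6 D163943) (iv3 F258392)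
def n191250 : Q := act 4 n97473
theorem D191250 : act 4 n97473 = n191250 := rfl
theorem F382755 : act 3 n191250 = n189479 := d5_1 D191250 F376656 F376191 F147616 F150252
theorem F382756 : act 5 n191250 = n189399 := d9_2 (iv5 F294696) D191250 (iv4 D189399) D189400 F380118 F380112 (iv4 D185594) (iv5 F356257) D191248 F382747 (iv4 D189403) (iv5 F371428) F371427 F147796 F294695
theorem F382757 : act 7 n191250 = n189475 := d11_2 (iv7 F150254) D191250 F376650
def n191251 : Q := act 3 n97474
theorem D191251 : act 3 n97474 = n191251 := rfl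
theorem F382758 : act 4 n191251 = n97478 := d5_2 D97474 D191251 (iv3 D97478) (iv4 D45522) (iv3 F71796)
theorem F382759 : act 5 n191251 = n189522 := d6_2 F376482 D191251 (iv3 F376806)
def n191252 : Q := act 6 n97474
theorem D191252 : act 6 n97474 = n191252 := rfl
theorem F382760 : act 4 n191252 = n97475 := d10_1 D191252 (iv6 D97475) D97474
def n191253 : Q := act 0 n97475
theorem D191253 : act 0 n97475 = n191253 := rfl
def n191254 : Q := act 1 n97475
theorem D191254 : act 1 n97475 = n191254 := rfl
theorem F382761 : act 1 n191254 = n137087 := d15_1 D191254 (iv7 F382736) F382734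
theorem F382762 : act 3 n190025 = n191254 := d20_3 F378497 (iv1 F379677) (iv4 F379678) (iv1 D191254) F150256 (iv4 F150263) (iv1 F382532) (iv4 D191189) (iv3 F369678) (iv1 F378500)
theorem F382763 : act 7 n191254 = n190526 := d8_2 F378611 F382762 (iv3 D190526)
theorem F382764 : act 2 n190526 = n191253 := d15_3 (iv0 D191253) D191254 F382763
def n191255 : Q := act 7 n97475
theorem D191255 : act 7 n97475 = n191255 := rfl
theorem F382765 : act 2 n191255 = n137087 := d4_1 D191255 (iv7 F382736) F382734
theorem F382766 : act 3 n191255 = n97483 := d8_1 D191255 (iv7 D97483) (iv3 F150256)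
theorem F382767 : act 6 n191255 = n137082 := d14_1 D191255 (iv7 F340525) (iv6 D181931) F294689 D97475
theorem F382768 : act 1 n137087 = n191253 := d15_0 (iv0 D191253) D191255 F382765
theorem F382769 : act 1 n191255 = n190526 := d15_0 (iv0 F382737) F382736 (iv2 F382765)
def n191256 : Q := act 3 n97476
theorem D191256 : act 3 n97476 = n191256 := rfl
theorem F382770 : act 2 n191256 = n155737 := d0_1 D191256 F326523 F292059 D96125 F150257
theorem F382771 : act 5 n191256 = n189878 := d6_2 (iv5 F150258) D191256 F378067
theorem F382772 : act 6 n191256 = n151261 := d7_2 F373447 D191256 (iv3 F373446)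
theorem F382773 : act 7 n191256 = n190085 := d8_2 (iv7 F150259) D191256 F378813
theorem F382774 : act 0 n190090 = n191256 := d20_4 F138016 F343018 D176696 (iv3 F378821) (iv3 D191256) (iv4 F368445) (iv1 F368447) D186907 F369807 (iv1 D187314)
theorem F382775 : act 1 n190091 = n191256 := d15_1 D190091 F382773 F378812
def n191257 : Q := act 4 n97477
theorem D191257 : act 4 n97477 = n191257 := rfl
def n191258 : Q := act 0 n97478
theorem D191258 : act 0 n97478 = n191258 := rfl
theorem F382776 : act 3 n191258 = n189272 := d20_5 (iv4 F293573) (iv1 F71749) D45522 D97478 D191258 (iv4 D189272) D189271 (iv4 F376283) F257723 (iv1 F148945)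
theorem F382777 : act 4 n191258 = n189273 := d20_8 (iv4 D102966) (iv1 F293753) D93803 D189243 (iv1 F376898) D191251 F382758 D191258 (iv3 D189273) (iv1 F367154)
theorem F382778 : act 5 n191258 = n113503 := d21_2 (iv5 F294071) D191258 F361880 F341723 F129710 D157800 (iv1 F334356) F334358 D180355 F334374
theorem F382779 : act 7 n189511 = n191258 := d13_0 F382778 F361881 F376771
def n191259 : Q := act 1 n97478
theorem D191259 : act 1 n97478 = n191259 := rfl
theorem F382780 : act 5 n191259 = n113410 := d17_7 (iv1 F337546) (iv5 D132887) (iv1 D62359) D62360 (iv4 F323709) (iv5 F294071) D191259 F361883 (iv4 F176688)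
theorem F382781 : act 3 n113411 = n191259 := d20_3 F332821 (iv1 F251392) F332817 (iv1 D191259) (iv3 D97478) (iv4 D45522) (iv1 F71750) D97434 (iv3 F327063) (iv1 F202016)
theorem F382782 : act 2 n191259 = n189511 := d0_1 F382781 (iv3 D189511) (iv2 F376748) (iv3 F376750) (iv2 F202084)
theorem F382783 : act 4 n189532 = n191259 := d1_0 F382782 F376769 D189532
def n191260 : Q := act 2 n97478
theorem D191260 : act 2 n97478 = n191260 := rfl
theorem F382784 : act 3 n191260 = n97479 := d0_2 D97478 D191260 (iv2 F354385) F257733 F294035
theorem F382785 : act 5 n191260 = n185531 := d2_2 (iv5 F294071) D191260 (iv2 D185531)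
theorem F382786 : act 1 n191260 = n189511 := d15_0 (iv0 F376770) (iv7 F294072) D191260
theorem F382787 : act 6 n97478 = n191260 := d12_0 F382785 (iv6 F334343) (iv5 F322049) F297613 (iv5 F294071)
def n191261 : Q := act 4 n97481
theorem D191261 : act 4 n97481 = n191261 := rfl
theorem F382788 : act 2 n191261 = n191186 := d1_1 D191261 F382520 (iv2 F358106)
theorem F382789 : act 3 n191261 = n131819 := d5_1 D191261 F211231 (iv3 F215052) F333567 (iv3 F358107)
theorem F382790 : act 7 n191261 = n191185 := d11_2 (iv7 F358108) D191261 F382518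
theorem F382791 : act 5 n191261 = n126231 := d16_1 D191261 F358047 F379022 F379021 F326724 F129308 D84259 (iv7 F250134) (iv2 F358106)
theorem F382792 : act 0 n191261 = n161012 := d18_2 (iv1 F358114) D191261 F254524 F291965 (iv4 F160362) F361130 (iv4 F174520) F326840 D158050
theorem F382793 : act 6 n131817 = n191261 := d21_3 F382327 (iv1 D131815) D131817 F382792 (iv6 D161012) (iv5 D77266) D77263 (iv5 F294045) F332568 (iv1 F171465)
theorem F382794 : act 1 n191261 = n191188 := d15_1 (iv0 F382792) (iv7 D191188) F294065
def n191262 : Q := act 6 n97481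
theorem D191262 : act 6 n97481 = n191262 := rfl
theorem F382795 : act 3 n191262 = n133648 := d7_1 D191262 F360278 (iv3 F358107)
theorem F382796 : act 4 n191262 = n131817 := d10_1 D191262 F382793 (iv4 D191261)
theorem F382797 : act 5 n191262 = n127491 := d12_1 D191262 F361090 F171253 D111791 F358105
theorem F382798 : act 0 n191262 = n170410 := d21_10 (iv5 D170410) (iv1 F332551) (iv5 F380348) F380349 (iv1 F382630) (iv6 F382632) (iv5 D176726) (iv1 F327731) F358105 D191262
theorem F382799 : act 1 n191262 = n170428 := d15_1 (iv0 F382798) (iv7 F380319) F380318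
theorem F382800 : act 7 n191262 = n190933 := d15_2 F378775 (iv0 F382798) F381595
def n191263 : Q := act 5 n97943
theorem D191263 : act 5 n97943 = n191263 := rfl
theorem F382801 : act 2 n191263 = n99549 := d2_1 D191263 (iv5 D99549) (iv2 F150959)
theorem F382802 : act 3 n191263 = n189906 := d6_1 D191263 (iv5 D189906) (iv3 F150960)
theorem F382803 : act 6 n191263 = n124083 := d12_2 D97943 D191263 (iv5 F359384) (iv6 D122342) F89617
theorem F382804 : act 0 n139541 = n191263 := d19_0 (iv5 D191263) F150961 (iv3 F150957) F372422 F372423 (iv4 D119213) (iv3 F186755) (iv1 F252055) (iv5 D159870) F114740 F55375 F54147 (iv5 F25333) D32950 F320899 D53389 (iv5 F337425) F345075 D139541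
theorem F382805 : act 4 n139158 = n191263 := d10_3 F382803 F352850 D139158
theorem F382806 : act 0 n101161 = n139158 := d18_2 F157667 D101161 F382805 (iv5 D191263) F150961 (iv0 F177420) F62235 F177421 (iv5 F153303)
theorem F382807 : act 0 n139158 = n184571 := d20_1 (iv4 F382805) (iv4 D184571) (iv3 D88017) (iv1 F66997) (iv3 F140476) F337441 D111735 F345075 D139541 F382804
def n191264 : Q := act 5 n97944
theorem D191264 : act 5 n97944 = n191264 := rfl
theorem F382808 : act 2 n191264 = n99553 := d2_1 D191264 (iv5 D99553) (iv2 F150962)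
theorem F382809 : act 3 n191264 = n123927 := d6_1 D191264 F314900 (iv3 F307739)
theorem F382810 : act 6 n191264 = n97947 := d12_2 D97944 D191264 (iv5 D97947) (iv6 D45720) D45719
theorem F382811 : act 7 n191264 = n136618 := d13_2 (iv7 F309083) D191264 F309082
theorem F382812 : act 4 n191264 = n136620 := d16_2 F308657 D191264 F219760 F309915 (iv5 D40230) (iv4 F61038) D86584 F312997 F310766
theorem F382813 : act 0 n191264 = n123750 := d17_2 (iv1 F311974) D191264 (iv5 D123750) F314459 F312137 F309912 D139114 (iv0 F359364) (iv4 D101135)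
theorem F382814 : act 1 n191264 = n101147 := d17_6 (iv1 F311159) (iv5 D61632) (iv1 F306060) (iv5 F307184) F308657 D191264 F357802 (iv0 F342016) F198087
def n191265 : Q := act 4 n97947
theorem D191265 : act 4 n97947 = n191265 := rfl
theorem F382815 : act 2 n191265 = n99567 := d1_1 D191265 (iv4 D99567) (iv2 F150965)
theorem F382816 : act 3 n191265 = n152548 := d5_1 D191265 F239731 F177182 (iv4 F178747) F352777
theorem F382817 : act 6 n191265 = n136620 := d10_2 F382810 D191265 (iv4 F382812)
def n191266 : Q := act 5 n97949
theorem D191266 : act 5 n97949 = n191266 := rfl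
theorem F382818 : act 2 n191266 = n99521 := d2_1 D191266 (iv5 D99521) (iv2 F150971)
theorem F382819 : act 3 n191266 = n187708 := d6_1 D191266 (iv5 D187708) (iv3 F150972)
theorem F382820 : act 6 n191266 = n123242 := d12_2 D97949 D191266 F366685 (iv6 D122343) F89623
theorem F382821 : act 7 n191266 = n139441 := d13_2 (iv7 F157748) D191266 (iv5 F357355)
theorem F382822 : act 0 n191266 = n136987 := d18_0 (iv4 D136987) (iv1 F366272) (iv4 F252616) (iv5 F349198) F153962 F157796 F157785 (iv0 F157746) D191266
def n191267 : Q := act 5 n97950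
theorem D191267 : act 5 n97950 = n191267 := rfl
theorem F382823 : act 2 n191267 = n99525 := d2_1 D191267 (iv5 D99525) (iv2 F150974)
theorem F382824 : act 3 n191267 = n155589 := d6_1 D191267 (iv5 F374817) F374815
theorem F382825 : act 6 n191267 = n97953 := d12_2 D97950 D191267 (iv5 D97953) (iv6 D45723) D45722
theorem F382826 : act 7 n191267 = n154268 := d13_2 (iv7 F313613) D191267 F366719
theorem F382827 : act 0 n191267 = n100953 := d17_2 (iv1 F314251) D191267 F366827 F109594 (iv5 F307793) F232781 (iv5 F188525) (iv0 F232776) (iv4 F314127)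
theorem F382828 : act 1 n191267 = n154271 := d17_6 F308761 F313374 F305005 F257173 (iv4 F313612) D191267 F242382 (iv0 F252389) (iv4 F308763)
theorem F382829 : act 4 n137204 = n191267 := d18_1 D137204 F382827 F366826 (iv5 D141181) F323828 F339078 D143567 (iv0 F361533) (iv5 D137207)
theorem F382830 : act 5 n155613 = n137204 := d16_1 D155613 F382829 (iv5 D191267) F313612 (iv5 F257173) (iv4 F306939) F311957 (iv7 F247793) F247792
def n191268 : Q := act 4 n97953
theorem D191268 : act 4 n97953 = n191268 := rfl
theorem F382831 : act 2 n191268 = n99539 := d1_1 D191268 (iv4 D99539) (iv2 F150977)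
theorem F382832 : act 3 n191268 = n118730 := d5_1 D191268 (iv4 D118730) (iv3 F86463) D74020 (iv3 F349200)
theorem F382833 : act 6 n191268 = n137204 := d10_2 F382825 D191268 F382829
theorem F382834 : act 7 n191268 = n118884 := d11_2 (iv7 F349201) D191268 (iv4 F252616)
theorem F382835 : act 1 n191268 = n135980 := d18_6 (iv1 D100015) F153961 (iv1 F157747) F150973 D97953 D191268 F218755 (iv0 F365277) (iv5 F357355)
theorem F382836 : act 1 n136986 = n191268 := d15_0 F382835 F218756 D136986
def n191269 : Q := act 5 n97956
theorem D191269 : act 5 n97956 = n191269 := rfl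
theorem F382837 : act 3 n191269 = n97958 := d6_1 D191269 (iv5 D97958) D97956
theorem F382838 : act 7 n191269 = n183765 := d13_2 F160571 D191269 (iv5 D183765)
theorem F382839 : act 1 n191269 = n185117 := d17_8 (iv1 F245350) (iv5 D156132) F111158 D74297 D156182 (iv5 F372757) (iv0 F372761) D191269 F363545
def n191270 : Q := act 6 n97956
theorem D191270 : act 6 n97956 = n191270 := rfl
theorem F382840 : act 3 n191270 = n97959 := d7_1 D191270 (iv6 D97959) D97956
theorem F382841 : act 4 n191270 = n190999 := d10_1 D191270 F381837 F158371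
def n191271 : Q := act 5 n97957
theorem D191271 : act 5 n97957 = n191271 := rfl
theorem F382842 : act 2 n191271 = n183756 := d2_1 D191271 (iv5 D183756) (iv2 F160541)
theorem F382843 : act 3 n191271 = n189910 := d6_1 D191271 (iv5 D189910) (iv3 F150984)
theorem F382844 : act 7 n191271 = n183767 := d13_2 F160536 D191271 (iv5 D183767)
def n191272 : Q := act 6 n97957
theorem D191272 : act 6 n97957 = n191272 := rfl
theorem F382845 : act 2 n191272 = n183757 := d3_1 D191272 (iv6 D183757) (iv2 F160541)
theorem F382846 : act 3 n191272 = n185419 := d7_1 D191272 F372524 (iv3 F150984)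
theorem F382847 : act 4 n191272 = n97959 := d10_1 D191272 (iv6 D97959) D97957
theorem F382848 : act 0 n191272 = n185434 := d20_1 (iv4 F382847) (iv4 F289867) F153965 F292667 (iv3 D42338) (iv4 D19975) D19973 D42333 D90463 F291500
def n191273 : Q := act 4 n97958
theorem D191273 : act 4 n97958 = n191273 := rfl
theorem F382849 : act 2 n191273 = n183758 := d1_1 D191273 (iv4 D183758) (iv2 F160574)
theorem F382850 : act 7 n191273 = n183769 := d11_2 F160576 D191273 (iv4 D183769)
def n191274 : Q := act 6 n97958
theorem D191274 : act 6 n97958 = n191274 := rfl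
theorem F382851 : act 2 n191274 = n183759 := d3_1 D191274 (iv6 D183759) (iv2 F160574)
def n191275 : Q := act 5 n97961
theorem D191275 : act 5 n97961 = n191275 := rfl
theorem F382852 : act 2 n191275 = n183767 := d2_1 D191275 (iv5 D183767) F160542
theorem F382853 : act 7 n191275 = n183756 := d13_2 (iv7 F160545) D191275 (iv5 D183756)
def n191276 : Q := act 4 n97962
theorem D191276 : act 4 n97962 = n191276 := rfl
theorem F382854 : act 2 n191276 = n183769 := d1_1 D191276 (iv4 D183769) (iv2 F160577)
theorem F382855 : act 7 n191276 = n183758 := d11_2 (iv7 F160573) D191276 (iv4 D183758)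
def n191277 : Q := act 6 n97962
theorem D191277 : act 6 n97962 = n191277 := rfl
theorem F382856 : act 2 n191277 = n183770 := d3_1 D191277 (iv6 D183770) (iv2 F160577)
theorem F382857 : act 5 n191277 = n118767 := d12_1 D191277 F374792 F295020 F294294 D97962
theorem F382858 : act 4 n118894 = n191277 := d16_2 F86526 D118894 F382857 (iv4 D118767) F114580 F114576 (iv5 F104206) (iv7 F106636) F106634
theorem F382859 : act 0 n154510 = n191277 := d17_2 D159334 (iv5 F362838) F382857 (iv4 D118767) F114580 F114579 (iv5 F114177) (iv0 D76217) D76219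
theorem F382860 : act 6 n191276 = n118894 := d10_0 F382858 (iv6 D191277) D191276
theorem F382861 : act 5 n137977 = n191276 := d12_5 F382860 (iv5 D118894) (iv6 F322630) (iv5 F169671) D137977
theorem E103470 : n183769 = n137999 := (c2_2 F382861 F382854 (iv5 D137999) (iv2 F221232))
theorem F382862 : act 2 n137999 = n191276 := (sb E103470 (iv2 F382854))
theorem F382863 : act 4 n137999 = n87680 := (sb E103470 (iv4 D183769))
theorem F382864 : act 7 n137999 = n191273 := (sb E103470 (iv7 F382850))
theorem F382865 : act 5 n191273 = n138000 := d13_1 F382864 (iv7 D138000) D137999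
def n191278 : Q := act 3 n97964
theorem D191278 : act 3 n97964 = n191278 := rfl
theorem F382866 : act 7 n191278 = n183778 := d8_2 (iv7 F289302) D191278 (iv3 D183778)
def n191279 : Q := act 4 n97964
theorem D191279 : act 4 n97964 = n191279 := rfl
theorem F382867 : act 2 n191279 = n183775 := d1_1 D191279 (iv4 D183775) (iv2 F289301)
theorem F382868 : act 7 n191279 = n183779 := d11_2 (iv7 F289302) D191279 (iv4 D183779)
def n191280 : Q := act 6 n97964
theorem D191280 : act 6 n97964 = n191280 := rfl
theorem F382869 : act 2 n191280 = n183776 := d3_1 D191280 (iv6 D183776) (iv2 F289301)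
def n191281 : Q := act 3 n97965
theorem D191281 : act 3 n97965 = n191281 := rfl
theorem F382870 : act 7 n191281 = n183774 := d8_2 (iv7 F289299) D191281 (iv3 D183774)
def n191282 : Q := act 4 n97965
theorem D191282 : act 4 n97965 = n191282 := rfl
theorem F382871 : act 2 n191282 = n183779 := d1_1 D191282 (iv4 D183779) (iv2 F289298)
theorem F382872 : act 7 n191282 = n183775 := d11_2 (iv7 F289299) D191282 (iv4 D183775)
theorem F382873 : act 3 n191282 = n101938 := d19_3 F289296 F289295 D191282 (iv1 D101938) D101940 (iv4 F275060) (iv3 F354893) (iv1 F349031) F229771 F309294 F136207 (iv1 F63947) (iv5 F34829) F34828 F31004 (iv1 F62076) (iv5 F61492) D87018 D182257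
def n191283 : Q := act 6 n97965
theorem D191283 : act 6 n97965 = n191283 := rfl
theorem F382874 : act 2 n191283 = n183780 := d3_1 D191283 (iv6 D183780) (iv2 F289298)
def n191284 : Q := act 0 n97966
theorem D191284 : act 0 n97966 = n191284 := rfl
def n191285 : Q := act 1 n97966
theorem D191285 : act 1 n97966 = n191285 := rfl
theorem F382875 : act 1 n191285 = n183785 := d15_1 D191285 (iv7 D183785) (iv2 F150987)
def n191286 : Q := act 5 n97966
theorem D191286 : act 5 n97966 = n191286 := rfl
theorem F382876 : act 2 n191286 = n183784 := d2_1 D191286 (iv5 D183784) (iv2 F150987)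
def n191287 : Q := act 7 n97966
theorem D191287 : act 7 n97966 = n191287 := rfl
theorem F382877 : act 2 n191287 = n183785 := d4_1 D191287 (iv7 D183785) (iv2 F150987)
theorem F382878 : act 3 n191287 = n185232 := d8_1 D191287 (iv7 F358612) F354905
theorem F382879 : act 4 n191287 = n97967 := d11_1 D191287 (iv7 D97967) D97966
theorem F382880 : act 1 n183785 = n191284 := d15_0 (iv0 D191284) D191287 F382877
theorem F382881 : act 1 n183782 = n191287 := d15_1 D183782 (iv7 D191287) F150987
theorem F382882 : act 1 n191287 = n183781 := d15_0 (iv0 D183781) D183785 (iv2 F382877)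
def n191288 : Q := act 5 n97968
theorem D191288 : act 5 n97968 = n191288 := rfl
theorem F382883 : act 2 n191288 = n101035 := d2_1 D191288 F155638 (iv2 F290161)
theorem F382884 : act 4 n191288 = n115524 := d9_1 D191288 F179809 F166212 F166211 (iv4 F327143) (iv5 D99420) F73436 D47070 D101034 F346058 F167032 (iv5 F201737) (iv4 F328170) (iv5 D99740) (iv4 F150994)
theorem F382885 : act 6 n191288 = n135981 := d12_2 (iv6 F290166) D191288 (iv5 D135981) (iv6 F328171) (iv5 D99740)
theorem F382886 : act 7 n191288 = n99416 := d13_2 (iv7 F290162) D191288 (iv5 D99416)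
theorem F382887 : act 0 n191288 = n101033 := d17_2 D97968 D191288 F356797 F289469 F335576 (iv0 D136413) (iv5 F327130) (iv0 F74720) (iv4 F72133)
theorem F382888 : act 1 n191288 = n97983 := d17_6 (iv1 F329009) F152605 (iv1 F328571) (iv5 D99740) (iv4 F150994) D191288 (iv5 F291495) (iv0 F339531) F339532
def n191289 : Q := act 5 n97970
theorem D191289 : act 5 n97970 = n191289 := rfl
theorem F382889 : act 2 n191289 = n97971 := d2_1 D191289 (iv5 D97971) D97970
theorem F382890 : act 3 n191289 = n100734 := d6_1 D191289 (iv5 D100734) (iv3 F289666)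
theorem F382891 : act 4 n191289 = n142326 := d9_1 D191289 F225256 F167011 (iv5 F99609) F99608 F327685 F292731 D47485 D102324 F357604 F245226 F166218 F100631 F327684 (iv4 F150999)
theorem F382892 : act 7 n191289 = n101030 := d13_2 (iv7 F290182) D191289 (iv5 D101030)
theorem F382893 : act 0 n191289 = n102323 := d17_2 (iv1 F290155) D191289 (iv5 F338454) F339532 (iv5 D64676) F99572 F328621 F290137 (iv4 F73433)
theorem F382894 : act 1 n191289 = n102322 := d17_6 F335567 (iv5 D136088) F166090 F327684 (iv4 F150999) D191289 (iv5 F357612) F356794 F291494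
def n191290 : Q := act 0 n97971
theorem D191290 : act 0 n97971 = n191290 := rfl
theorem F382895 : act 5 n191290 = n186548 := d17_3 (iv1 F290143) D97971 D191290 (iv4 F357598) F357599 F99566 F328572 F290133 F73436
theorem F382896 : act 4 n191290 = n156065 := d18_1 D191290 (iv1 F245212) F357613 (iv5 D102068) (iv4 D47406) F73577 (iv4 F150994) (iv0 D97968) D97971
theorem F382897 : act 1 n101030 = n191290 := d15_0 (iv0 D191290) F151005 (iv2 F290186)
theorem F382898 : act 2 n102323 = n191290 := d1_3 F382896 (iv2 F245210) (iv4 F357602)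
theorem F382899 : act 7 n102322 = n191290 := d11_0 F382896 (iv7 F245211) (iv4 F357611)
theorem F382900 : act 6 n136974 = n191290 := d12_0 F382895 F346010 F344342 D137580 F220749
def n191291 : Q := act 1 n97971
theorem D191291 : act 1 n97971 = n191291 := rfl
theorem F382901 : act 1 n191291 = n101030 := d15_1 D191291 (iv7 F382892) F382889
theorem F382902 : act 7 n191291 = n102323 := d15_2 (iv0 D191290) D191291 F382898
theorem F382903 : act 5 n191291 = n186549 := d17_7 (iv1 D137623) (iv5 D64690) F328539 (iv5 D48236) (iv4 F72133) D97971 D191291 (iv0 F375569) F375567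
theorem F382904 : act 4 n191291 = n156066 := d17_9 (iv1 D156066) (iv5 D74235) D74233 (iv5 F179809) (iv4 F382884) (iv5 D191288) (iv0 D97968) D97971 D191291
theorem F382905 : act 2 n102322 = n191291 := d1_3 F382904 (iv2 F245216) (iv4 F357611)
theorem F382906 : act 3 n183852 = n191291 := d20_5 F337984 F337965 (iv4 D87705) (iv3 F134613) D183852 F382904 (iv1 D156066) F329340 F62411 D41217
def n191292 : Q := act 4 n97971
theorem D191292 : act 4 n97971 = n191292 := rfl
theorem F382907 : act 2 n191292 = n142326 := d1_1 D191292 (iv4 F382891) F382889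
theorem F382908 : act 7 n191292 = n102324 := d11_2 (iv7 F151005) D191292 (iv4 D102324)
theorem F382909 : act 5 n191292 = n107619 := d16_1 D191292 F166056 F78569 F48878 D30469 (iv4 F328158) D101030 (iv7 F382892) F382889
theorem F382910 : act 0 n191292 = n115528 := d18_2 (iv1 D191291) D191292 F357614 (iv5 F329309) (iv4 D137632) F335572 (iv4 F136230) D186549 (iv5 F382903)
theorem F382911 : act 1 n191292 = n115531 := d18_6 F289764 (iv4 F74330) (iv1 F289745) (iv4 F72133) D97971 D191292 F346047 (iv0 D102083) (iv5 D47411)
def n191293 : Q := act 6 n97971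
theorem D191293 : act 6 n97971 = n191293 := rfl
theorem F382912 : act 3 n191293 = n97975 := d7_1 D191293 (iv6 D97975) (iv3 F151004)
theorem F382913 : act 5 n191293 = n187029 := d12_1 D191293 (iv6 D187029) (iv5 F292283) F292284 D97971
theorem F382914 : act 0 n136998 = n191293 := d21_4 (iv5 D115384) D115381 (iv5 F201767) D136998 (iv6 D191293) (iv5 D97971) D97968 D191288 F382885 F218759
def n191294 : Q := act 1 n97975
theorem D191294 : act 1 n97975 = n191294 := rfl
theorem F382915 : act 1 n191294 = n102318 := d15_1 D191294 (iv7 D102318) (iv2 F151015)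
def n191295 : Q := act 7 n97975
theorem D191295 : act 7 n97975 = n191295 := rfl
theorem F382916 : act 2 n191295 = n102318 := d4_1 D191295 (iv7 D102318) (iv2 F151015)
theorem F382917 : act 4 n191295 = n149192 := d11_1 D191295 F377191 F377189
theorem F382918 : act 5 n191295 = n187034 := d13_1 D191295 (iv7 D187034) (iv5 F151016)
theorem F382919 : act 6 n191295 = n102333 := d14_1 D191295 (iv7 D102333) (iv6 D47488) (iv7 F72136) D97975
theorem F382920 : act 1 n102318 = n185068 := d15_0 (iv0 F368301) D191295 F382916
theorem F382921 : act 1 n102316 = n191295 := d15_1 D102316 (iv7 D191295) F151015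
theorem F382922 : act 2 n185085 = n191294 := d15_3 F382915 F382920 (iv7 F337977)
theorem F382923 : act 1 n191295 = n102315 := d15_0 (iv0 D102315) D102318 (iv2 F382916)
def n191296 : Q := act 2 n97983
theorem D191296 : act 2 n97983 = n191296 := rfl
theorem F382924 : act 3 n191296 = n100741 := d0_2 D97983 D191296 F367277 (iv3 D47489) (iv2 F72160)
theorem F382925 : act 5 n191296 = n189044 := d2_2 F291495 D191296 F375565
theorem F382926 : act 7 n191296 = n101033 := d4_2 (iv7 F151033) D191296 F356795
theorem F382927 : act 1 n191296 = n99416 := d15_0 F346030 (iv7 F151033) D191296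
theorem F382928 : act 1 n101035 = n191296 := d15_0 F382927 (iv7 F382886) F382883
def n191297 : Q := act 6 n97983
theorem D191297 : act 6 n97983 = n191297 := rfl
theorem F382929 : act 3 n191297 = n97985 := d7_1 D191297 (iv6 D97985) D97983
theorem F382930 : act 5 n191297 = n189047 := d12_1 D191297 (iv6 D189047) (iv5 D93078) D93079 F291495
def n191298 : Q := act 3 n97984
theorem D191298 : act 3 n97984 = n191298 := rfl
theorem F382931 : act 2 n191298 = n102350 := d0_1 D191298 F157154 (iv2 F137070) F347702 (iv2 F151034)
theorem F382932 : act 5 n191298 = n117516 := d6_2 (iv5 F368430) D191298 (iv3 F368427)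
theorem F382933 : act 6 n191298 = n101033 := d7_2 F368439 D191298 (iv3 F368438)
theorem F382934 : act 7 n191298 = n102351 := d8_2 (iv7 F151035) D191298 (iv3 D102351)
def n191299 : Q := act 7 n97985
theorem D191299 : act 7 n97985 = n191299 := rfl
theorem F382935 : act 2 n191299 = n102337 := d4_1 D191299 F361675 (iv2 F151036)
theorem F382936 : act 4 n191299 = n100741 := d11_1 D191299 (iv7 F368442) (iv4 F368443)
theorem F382937 : act 5 n191299 = n189049 := d13_1 D191299 (iv7 D189049) F293436
theorem F382938 : act 6 n191299 = n102356 := d14_1 D191299 (iv7 D102356) (iv6 D47494) (iv7 F72159) D97985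
theorem F382939 : act 1 n102344 = n191299 := d15_1 D102344 (iv7 D191299) F151036
theorem F382940 : act 1 n191299 = n102343 := d15_1 F382939 (iv7 F361677) (iv2 F368566)
def n191300 : Q := act 3 n97986
theorem D191300 : act 3 n97986 = n191300 := rfl
theorem F382941 : act 7 n191300 = n102360 := d8_2 (iv7 F151039) D191300 (iv3 D102360)
theorem F382942 : act 4 n154471 = n191300 := d19_2 (iv1 F364029) (iv5 F364030) (iv3 D191300) (iv1 F151040) (iv5 F290881) F138599 D94242 F333373 (iv5 F333355) D187450 F370387 (iv1 F142225) F340077 F308953 F310453 F308720 (iv5 F235856) F306444 (iv3 F286663)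
theorem F382943 : act 1 n191300 = n177735 := d18_6 F332472 F332463 (iv1 F332464) F337888 (iv5 F364030) F382942 (iv4 D177735) D177734 F338080
def n191301 : Q := act 2 n97987
theorem D191301 : act 2 n97987 = n191301 := rfl
theorem F382944 : act 3 n191301 = n102365 := d0_2 D97987 D191301 (iv2 D102365) (iv3 D47497) (iv2 F72154)
theorem F382945 : act 4 n191301 = n185233 := d1_2 (iv4 F354903) D191301 (iv2 F355070)
theorem F382946 : act 5 n191301 = n153370 := d2_2 F370366 D191301 F370371
theorem F382947 : act 0 n191301 = n187197 := d21_7 F291576 (iv1 D45020) D45022 D96425 D190705 F380692 (iv5 F382946) (iv5 D187197) (iv6 D89712) D89709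
def n191302 : Q := act 7 n97987
theorem D191302 : act 7 n97987 = n191302 := rfl
theorem F382948 : act 3 n191302 = n97989 := d8_1 D191302 (iv7 D97989) D97987
theorem F382949 : act 4 n191302 = n185232 := d11_1 D191302 (iv7 F358612) (iv4 F354903)
theorem F382950 : act 5 n191302 = n102775 := d13_1 D191302 (iv7 F370367) F370366
theorem F382951 : act 4 n102360 = n175490 := d20_6 (iv4 F135185) D185232 (iv4 F382949) F382948 (iv1 F151047) D102360 (iv1 D175490) (iv4 F354907) F242456 (iv1 F352353)
theorem F382952 : act 7 n175490 = n154471 := d11_2 F382941 F382951 F382942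
theorem F382953 : act 2 n154471 = n175489 := d15_3 (iv0 D175489) D175490 F382952
theorem F382954 : act 2 n175490 = n154472 := d15_3 F310351 (iv0 F310350) (iv7 F382952)
theorem F382955 : act 7 n154472 = n175489 := d4_2 (iv7 F382952) F382954 (iv2 F382953)
def n191303 : Q := act 6 n97989
theorem D191303 : act 6 n97989 = n191303 := rfl
theorem F382956 : act 2 n191303 = n102290 := d3_1 D191303 F157103 (iv2 F151044)
theorem F382957 : act 4 n191303 = n97990 := d10_1 D191303 (iv6 D97990) (iv4 F151045)
def n191304 : Q := act 1 n97990
theorem D191304 : act 1 n97990 = n191304 := rfl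
theorem F382958 : act 1 n191304 = n101887 := d15_1 D191304 F156832 (iv2 F151049)
theorem F382959 : act 7 n191304 = n102288 := d15_2 (iv0 F346670) D191304 F352865
theorem F382960 : act 5 n103354 = n191304 := d21_0 (iv1 D191304) F151050 (iv6 D46616) (iv1 F34845) D22793 D47452 D102231 F157085 (iv6 F368834) (iv1 F352877)
theorem F382961 : act 2 n191304 = n102289 := d2_1 F382960 (iv5 F359415) (iv2 F352870)
def n191305 : Q := act 5 n97991
theorem D191305 : act 5 n97991 = n191305 := rfl
theorem F382962 : act 2 n191305 = n100390 := d2_1 D191305 F154410 F151053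
theorem F382963 : act 3 n191305 = n185309 := d6_1 D191305 (iv5 D185309) (iv3 F151051)
theorem F382964 : act 7 n191305 = n99286 := d13_2 (iv7 F151055) D191305 (iv5 D99286)
theorem F382965 : act 4 n191305 = n153879 := d16_2 (iv4 F151052) D191305 (iv5 D153879) (iv4 F241758) (iv5 F349318) (iv4 D92786) (iv5 D43407) (iv7 F63623) D88478
theorem F382966 : act 0 n191305 = n100388 := d17_2 D97991 D191305 F362126 (iv4 F373926) F373927 (iv0 F371162) (iv5 D187657) (iv0 D90430) (iv4 F72171)
theorem F382967 : act 1 n191305 = n99938 := d17_6 D188508 F373768 (iv1 F288086) (iv5 D185770) (iv4 F151052) D191305 F365645 (iv0 F365473) F293164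
theorem F382968 : act 1 n177959 = n184447 := d18_8 (iv1 F290216) (iv4 D92777) (iv1 F135461) (iv4 F151052) D191305 F382965 F364093 D177959 (iv5 D184447)
theorem F382969 : act 1 n184447 = n191281 := d15_1 F382968 F382870 F364218
def n191306 : Q := act 0 n97993
theorem D191306 : act 0 n97993 = n191306 := rfl
theorem F382970 : act 5 n191306 = n186586 := d17_3 F72173 D97993 D191306 (iv4 F373762) F373763 F288108 (iv5 D92778) (iv0 D43405) (iv4 F35060)
theorem F382971 : act 3 n191306 = n185372 := d20_5 (iv4 F369524) F369526 (iv4 F291325) (iv3 F151066) D191306 (iv4 F364814) F372773 (iv4 D188234) F140150 (iv1 F138611)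
theorem F382972 : act 2 n102699 = n191306 := d15_3 (iv0 D191306) (iv0 F151078) (iv7 F157957)
theorem F382973 : act 1 n100386 = n191306 := d15_0 (iv0 D191306) F151067 (iv2 F154406)
theorem F382974 : act 7 n191306 = n102698 := d15_2 (iv0 F287622) F382973 (iv2 F157958)
theorem F382975 : act 4 n177911 = n191306 := d5_0 F382971 (iv4 F364814) F242541 (iv4 F242548) (iv3 F358568)
theorem F382976 : act 0 n185032 = n177913 := d20_10 (iv4 D177913) D177911 F382975 F382971 F378210 F378207 (iv4 F363752) F359529 F359503 D185032
theorem F382977 : act 1 n185032 = n188773 := d15_1 (iv0 F382976) F374836 F332659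
def n191307 : Q := act 4 n97993
theorem D191307 : act 4 n97993 = n191307 := rfl
theorem F382978 : act 3 n191307 = n154241 := d5_1 D191307 F338147 F193445 (iv4 F291325) (iv3 F151066)
theorem F382979 : act 7 n191307 = n102700 := d11_2 (iv7 F151067) D191307 (iv4 D102700)
theorem F382980 : act 5 n154238 = n191307 := d19_1 F366929 (iv4 D191307) F151066 F72660 (iv5 D46095) (iv4 F66279) (iv3 F291232) (iv1 F137349) (iv5 F137352) (iv4 F291022) (iv3 F291566) (iv1 D47603) D47605 F316936 (iv3 F316933) (iv1 D124708) (iv5 D58287) (iv4 F92145) (iv3 F199504)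
def n191308 : Q := act 6 n97993
theorem D191308 : act 6 n97993 = n191308 := rfl
theorem F382981 : act 3 n191308 = n97997 := d7_1 D191308 (iv6 D97997) (iv3 F151066)
theorem F382982 : act 5 n185282 = n191308 := d21_8 F382970 F375490 F375487 (iv6 F363386) (iv1 D184988) F135129 D88280 D185282 (iv6 D191308) D191306
theorem F382983 : act 3 n98370 = n185282 := d6_3 F382982 F382981 (iv5 F151794)
theorem F382984 : act 6 n98369 = n185282 := d12_0 F382982 (iv6 D191308) (iv5 D97993) F290693 F290615
def n191309 : Q := act 0 n97997
theorem D191309 : act 0 n97997 = n191309 := rfl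
theorem F382985 : act 6 n191309 = n187089 := d21_5 (iv5 D22383) (iv1 F66836) D45739 D97997 D191309 (iv5 D187089) (iv1 D89533) D89534 F137246 F64464
def n191310 : Q := act 1 n97997
theorem D191310 : act 1 n97997 = n191310 := rfl
theorem F382986 : act 1 n191310 = n102677 := d15_1 D191310 (iv7 D102677) (iv2 F151079)
def n191311 : Q := act 7 n97997
theorem D191311 : act 7 n97997 = n191311 := rfl
theorem F382987 : act 2 n191311 = n102677 := d4_1 D191311 (iv7 D102677) (iv2 F151079)
theorem F382988 : act 4 n191311 = n154562 := d11_1 D191311 F370381 F370378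
theorem F382989 : act 6 n191311 = n102708 := d14_1 D191311 (iv7 D102708) (iv6 D47638) (iv7 F72175) D97997
theorem F382990 : act 1 n102677 = n191309 := d15_0 (iv0 D191309) D191311 F382987
theorem F382991 : act 1 n102675 = n191311 := d15_1 D102675 (iv7 D191311) F151079
theorem F382992 : act 1 n191311 = n102674 := d15_0 (iv0 D102674) D102677 (iv2 F382987)
def n191312 : Q := act 3 n98018
theorem D191312 : act 3 n98018 = n191312 := rfl
theorem F382993 : act 4 n191312 = n101382 := d5_2 F333334 D191312 F360955 (iv4 D148456) (iv3 F232200)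
theorem F382994 : act 6 n191312 = n98034 := d7_2 (iv6 F335773) D191312 (iv3 D98034)
theorem F382995 : act 7 n191312 = n159791 := d8_2 F335775 D191312 F349296
theorem F382996 : act 0 n191312 = n159786 := d19_4 F359301 D148452 F333334 D191312 (iv5 D159786) (iv4 F315226) (iv3 F335013) F335010 (iv5 F232867) F222303 (iv3 F310039) (iv1 F232346) D73315 (iv4 F319012) F120115 (iv1 F83270) (iv5 F83309) F114628 (iv3 F205406)
theorem F382997 : act 1 n191312 = n145967 := d15_1 (iv0 F382996) F319719 (iv2 F251788)
theorem F382998 : act 2 n191312 = n159792 := d15_3 F339762 F363719 (iv7 F382995)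
def n191313 : Q := act 1 n98029
theorem D191313 : act 1 n98029 = n191313 := rfl
theorem F382999 : act 4 n191313 = n100152 := d17_9 (iv1 D100152) (iv5 F136766) F367416 (iv5 D186602) (iv4 F145274) (iv5 F178682) F376166 F376161 D191313
theorem F383000 : act 3 n102956 = n191313 := d20_3 F63860 D88434 (iv4 F158245) (iv1 D191313) (iv3 D98029) D98030 F374547 F374545 (iv3 D186179) (iv1 F288941)
theorem F383001 : act 6 n145967 = n191313 := d21_9 (iv5 F376161) (iv1 F376166) F178682 (iv6 D94223) (iv1 F106032) (iv6 F178754) (iv5 D114655) (iv1 F313960) D145967 (iv1 D191313)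
theorem F383002 : act 2 n191313 = n102897 := d3_1 F383001 (iv6 F339778) (iv2 F339760)
theorem F383003 : act 5 n191313 = n145964 := d12_1 F383001 (iv6 D145964) (iv5 D68439) D68440 D145967
theorem F383004 : act 1 n191313 = n182407 := d15_0 (iv0 F369313) F369311 (iv2 F383002)
theorem F383005 : act 1 n189602 = n145964 := d17_6 (iv1 F160956) (iv5 F344363) (iv1 F362416) F362418 (iv4 F294956) D189602 (iv5 F383003) F383004 (iv4 D182407)
def n191314 : Q := act 2 n98029
theorem D191314 : act 2 n98029 = n191314 := rfl
theorem F383006 : act 3 n191314 = n184495 := d0_2 D98029 D191314 (iv2 F362652) (iv3 D186041) (iv2 F295420)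
theorem F383007 : act 4 n191314 = n101198 := d1_2 (iv4 F151159) D191314 F361046
theorem F383008 : act 6 n191314 = n101196 := d3_2 (iv6 F361055) D191314 F155907
theorem F383009 : act 7 n191314 = n182407 := d4_2 (iv7 F361051) D191314 F361064
theorem F383010 : act 1 n191314 = n102897 := d15_0 (iv0 F339781) (iv7 F361051) D191314
theorem F383011 : act 5 n131122 = n191314 := d17_7 (iv1 D190721) (iv5 F367812) (iv1 F367815) (iv5 D98294) (iv4 F114666) F114667 D131122 F383010 F380799
theorem F383012 : act 6 n131122 = n131113 := d21_3 (iv5 F339779) (iv1 F383010) (iv5 F383011) F209997 (iv6 F362432) F218426 (iv1 F168433) (iv5 F363786) F376147 F376148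
theorem F383013 : act 2 n189232 = n131122 := d3_3 F383012 F209995 F376164
theorem F383014 : act 4 n131114 = n131122 := d10_3 F383012 (iv4 D131113) D131114
def n191315 : Q := act 5 n98030
theorem D191315 : act 5 n98030 = n191315 := rfl
theorem F383015 : act 3 n191315 = n189495 := d6_1 D191315 F376704 F374490
theorem F383016 : act 1 n191315 = n186219 := d17_6 F293966 D92316 F293600 F295516 D98030 D191315 (iv5 F369259) (iv0 F369262) (iv4 D93784)
theorem F383017 : act 4 n191315 = n189234 := d18_5 (iv1 D45755) F34337 D45754 D98030 D191315 F376172 F373604 F293601 F295139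
theorem F383018 : act 0 n191315 = n188529 := d18_0 F373816 (iv1 F377122) (iv4 D189614) F335768 D186037 (iv0 F288957) (iv4 F374545) (iv0 F374547) D191315
def n191316 : Q := act 5 n98035
theorem D191316 : act 5 n98035 = n191316 := rfl
theorem F383019 : act 3 n191316 = n98700 := d6_1 D191316 F355754 (iv3 F151162)
theorem F383020 : act 6 n191316 = n133368 := d12_2 (iv6 F335774) D191316 F335864 F312029 D148452
theorem F383021 : act 1 n191316 = n188529 := d17_6 (iv1 D43840) D43841 D93792 F295139 D98035 D191316 (iv5 D188529) F178354 (iv4 D93789)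
theorem F383022 : act 4 n191316 = n133369 := d18_5 F294555 F135551 (iv1 F294554) D98035 D191316 F373607 (iv4 D93794) D93793 F295516
theorem F383023 : act 0 n191316 = n186219 := d18_0 (iv4 F348102) F367204 F364062 F294552 D186042 (iv0 F288977) F288975 (iv0 F288976) D191316
def n191317 : Q := act 4 n98038
theorem D191317 : act 4 n98038 = n191317 := rfl
theorem F383024 : act 2 n191317 = n98041 := d1_1 D191317 (iv4 D98041) (iv2 F151163)
theorem F383025 : act 7 n191317 = n189357 := d11_2 F294558 D191317 (iv4 D189357)
def n191318 : Q := act 0 n98041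
theorem D191318 : act 0 n98041 = n191318 := rfl
theorem F383026 : act 5 n191318 = n190950 := d17_1 D191318 (iv1 D190950) F149764 F363535 F144571 F69262 D94133 F295140 D98041
theorem F383027 : act 4 n191318 = n189604 := d18_3 F335776 D98041 D191318 (iv5 D189604) (iv4 D94132) (iv0 D44014) F33057 D44015 D94138
theorem F383028 : act 1 n189357 = n191318 := d15_0 (iv0 D191318) (iv7 F276264) (iv2 F376463)
theorem F383029 : act 6 n190491 = n191318 := d10_0 F383027 (iv6 F377089) (iv4 F379898)
def n191319 : Q := act 1 n98041
theorem D191319 : act 1 n98041 = n191319 := rfl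
theorem F383030 : act 1 n191319 = n189357 := d15_1 D191319 (iv7 F383025) F383024
theorem F383031 : act 5 n191319 = n190949 := d18_9 (iv1 F381663) F377140 D190949 F381664 (iv5 F379216) (iv4 D189606) F295140 D98041 D191319
theorem F383032 : act 4 n189610 = n191319 := d20_6 (iv4 F113673) F113675 F112915 (iv3 F136021) D186139 (iv3 F377107) (iv1 D191319) (iv4 D98041) F72221 (iv1 F64585)
def n191320 : Q := act 5 n98041
theorem D191320 : act 5 n98041 = n191320 := rfl
def n191321 : Q := act 6 n98041
theorem D191321 : act 6 n98041 = n191321 := rfl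
theorem F383033 : act 4 n191321 = n98042 := d10_1 D191321 (iv6 D98042) D98041
theorem F383034 : act 5 n110969 = n191321 := d21_8 F383026 (iv1 D190950) F149764 (iv6 D96079) (iv1 D44830) D44832 D96084 F340459 (iv6 D191321) D191318
def n191322 : Q := act 3 n98044
theorem D191322 : act 3 n98044 = n191322 := rfl
theorem F383035 : act 2 n191322 = n151649 := d0_1 D191322 (iv3 F339790) (iv2 F356099) (iv3 D103013) (iv2 F355654)
theorem F383036 : act 4 n191322 = n151442 := d5_2 (iv4 F355655) D191322 (iv3 F330351) (iv4 D142367) (iv3 F225285)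
theorem F383037 : act 7 n191322 = n103008 := d8_2 (iv7 F355656) D191322 (iv3 D103008)
theorem F383038 : act 0 n191322 = n159768 := d20_4 (iv4 F378564) F378567 (iv4 F355655) D191322 F251727 (iv4 F340453) F340450 F82495 (iv3 F82484) D113032
theorem F383039 : act 0 n145952 = n191322 := d20_4 D119092 F317676 (iv4 F104636) (iv3 F229193) (iv3 D191322) F355655 F356107 F249060 (iv3 F324133) F317675
theorem F383040 : act 5 n191322 = n119025 := d17_3 (iv1 D145950) D145952 F383039 F316812 (iv5 D159419) (iv0 F324685) D137904 F348030 F348029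
def n191323 : Q := act 5 n98044
theorem D191323 : act 5 n98044 = n191323 := rfl
theorem F383041 : act 2 n191323 = n103015 := d2_1 D191323 (iv5 D103015) (iv2 F355654)
theorem F383042 : act 3 n191323 = n119025 := d6_1 D191323 (iv5 F383040) (iv3 D191322)
theorem F383043 : act 7 n191323 = n103010 := d13_2 (iv7 F355656) D191323 (iv5 D103010)
theorem F383044 : act 6 n117584 = n191323 := d21_5 F68981 (iv1 F63359) D41931 D89769 F369532 (iv5 D191323) (iv1 D98044) (iv5 F291664) (iv6 D94243) (iv1 F69371)
theorem F383045 : act 4 n191323 = n117586 := d10_1 F383044 (iv6 D117586) D117584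
def n191324 : Q := act 5 n98050
theorem D191324 : act 5 n98050 = n191324 := rfl
theorem F383046 : act 2 n191324 = n119249 := d2_1 D191324 F307610 (iv2 F297896)
theorem F383047 : act 3 n191324 = n151372 := d6_1 D191324 (iv5 F304000) F193618
theorem F383048 : act 6 n191324 = n118909 := d12_2 D98050 D191324 (iv5 D118909) F113933 (iv5 F300988)
theorem F383049 : act 7 n191324 = n118410 := d13_2 F305753 D191324 F186066
theorem F383050 : act 0 n191324 = n119280 := d17_2 F305752 D191324 F311807 F90731 D57579 D123550 F366480 F335236 F307748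
theorem F383051 : act 0 n118999 = n191324 := d21_10 (iv5 D191324) (iv1 F305751) (iv5 F322123) D142386 F340823 (iv6 D66838) D66837 (iv1 F322324) (iv5 F200299) F200300
def n191325 : Q := act 5 n98054
theorem D191325 : act 5 n98054 = n191325 := rfl
theorem F383052 : act 2 n191325 = n120674 := d2_1 D191325 (iv5 F340115) F319995
theorem F383053 : act 3 n191325 = n143130 := d6_1 D191325 (iv5 F348310) F235906
theorem F383054 : act 7 n191325 = n116592 := d13_2 F319993 D191325 (iv5 F361077)
theorem F383055 : act 1 n191325 = n106095 := d17_8 F212895 (iv5 D63235) D63233 D134568 F361226 (iv5 F319981) D98054 D191325 F334130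
theorem F383056 : act 0 n191325 = n117486 := d21_1 D191325 F184011 (iv6 D54838) F42471 (iv6 F51183) (iv5 D32248) D32246 D69410 (iv6 F315557) F315553
theorem F383057 : act 6 n191325 = n142446 := d21_3 D117822 F315553 D191325 (iv1 D142446) (iv6 D66792) (iv5 D31136) (iv1 F41068) D53681 D116473 F317781
def n191326 : Q := act 3 n98062
theorem D191326 : act 3 n98062 = n191326 := rfl
theorem F383058 : act 4 n191326 = n135326 := d5_2 D98062 D191326 (iv3 F361225) F361226 (iv3 F317889)
theorem F383059 : act 5 n191326 = n105849 := d6_2 (iv5 F317908) D191326 F162543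
theorem F383060 : act 6 n191326 = n115228 := d7_2 (iv6 F310839) D191326 F339638
theorem F383061 : act 7 n191326 = n115229 := d8_2 F317885 D191326 F338535
theorem F383062 : act 0 n191326 = n114716 := d19_4 F296551 D45781 D98062 D191326 (iv5 D114716) (iv4 F320372) (iv3 F250249) (iv1 D119550) (iv5 D55002) D55001 (iv3 F308009) F104180 F96205 (iv4 F311585) (iv3 F87999) F322647 (iv5 F322649) F299181 (iv3 D81563)
theorem F383063 : act 0 n114711 = n191326 := d20_4 (iv4 F379536) (iv1 F379539) (iv4 D114846) (iv3 F325988) (iv3 D191326) (iv4 D98062) F321822 (iv4 F321779) F177909 (iv1 F177885)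
def n191327 : Q := act 5 n98066
theorem D191327 : act 5 n98066 = n191327 := rfl
theorem F383064 : act 3 n191327 = n98069 := d6_1 D191327 (iv5 D98069) (iv3 F151219)
theorem F383065 : act 6 n191327 = n170646 := d12_2 D98066 D191327 (iv5 D170646) F297181 (iv5 F72298)
def n191328 : Q := act 0 n98069
theorem D191328 : act 0 n98069 = n191328 := rfl
theorem F383066 : act 5 n191328 = n102393 := d17_3 (iv1 F289546) D98069 D191328 F157208 F306485 (iv0 D57119) F301731 D37594 (iv4 F335618)
theorem F383067 : act 2 n102394 = n191328 := d15_3 (iv0 D191328) F352774 (iv7 F157214)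
theorem F383068 : act 1 n182176 = n191328 := d15_0 (iv0 D191328) (iv7 F368908) F368906
theorem F383069 : act 7 n191328 = n182203 := d15_2 (iv0 F335674) F383068 (iv2 D182203)
theorem F383070 : act 3 n182192 = n191328 := d8_3 F383069 (iv3 F287405) (iv7 F287411)
def n191329 : Q := act 4 n98069
theorem D191329 : act 4 n98069 = n191329 := rfl
theorem F383071 : act 6 n191329 = n170647 := d10_2 (iv6 F299273) D191329 (iv4 D170647)
def n191330 : Q := act 5 n98077
theorem D191330 : act 5 n98077 = n191330 := rfl
theorem F383072 : act 2 n191330 = n188221 := d2_1 D191330 F372721 F295339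
theorem F383073 : act 3 n191330 = n98078 := d6_1 D191330 (iv5 D98078) D98077
theorem F383074 : act 0 n191330 = n187601 := d17_2 F157298 D191330 (iv5 D187601) F139102 D187408 (iv0 F370232) (iv5 D97320) F157284 (iv4 F147420)
def n191331 : Q := act 6 n98077
theorem D191331 : act 6 n98077 = n191331 := rfl
theorem F383075 : act 2 n191331 = n189034 := d3_1 D191331 F375507 F295339
theorem F383076 : act 3 n191331 = n98079 := d7_1 D191331 (iv6 D98079) D98077
theorem F383077 : act 4 n191331 = n190178 := d10_1 D191331 (iv6 F379044) (iv4 F151226)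
theorem F383078 : act 5 n191331 = n139346 := d21_6 (iv5 F121997) (iv1 F125783) F125784 D95724 F157298 D191331 (iv1 F365068) (iv5 D99517) (iv6 D46523) (iv1 F73514)
theorem F383079 : act 7 n139604 = n191331 := d13_0 F383078 F222555 D139604
theorem F383080 : act 1 n188679 = n191331 := d17_8 (iv1 D190178) (iv5 F159290) (iv1 F358520) (iv5 F358515) (iv4 D100861) D100862 F365256 (iv5 F374425) F383077
theorem F383081 : act 4 n150042 = n190235 := d18_3 D112022 F358507 D150042 (iv5 D190235) (iv4 F374427) F383080 F383077 F379041 (iv5 D112024)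
def n191332 : Q := act 6 n98078
theorem D191332 : act 6 n98078 = n191332 := rfl
theorem F383082 : act 2 n191332 = n134953 := d3_1 D191332 (iv6 F336664) F289709
theorem F383083 : act 5 n191332 = n111136 := d12_1 D191332 F172361 (iv5 F329764) (iv6 D98079) D98078
theorem F383084 : act 0 n191332 = n110870 := d21_10 (iv5 D110870) F166482 D116277 F362808 (iv1 F301567) (iv6 F72305) (iv5 D45803) D45801 D98078 D191332
theorem F383085 : act 0 n134767 = n191332 := d21_4 F98783 F98351 D63331 D134767 (iv6 D191332) (iv5 D98078) (iv1 F145031) F328112 (iv6 D63467) (iv1 F98781)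
theorem F383086 : act 7 n134954 = n191332 := d13_0 F383083 F172362 (iv5 F343816)
def n191333 : Q := act 6 n98081
theorem D191333 : act 6 n98081 = n191333 := rfl
theorem F383087 : act 3 n191333 = n188220 := d7_1 D191333 (iv6 D188220) (iv3 F356244)
def n191334 : Q := act 3 n98083
theorem D191334 : act 3 n98083 = n191334 := rfl
theorem F383088 : act 2 n191334 = n146942 := d0_1 D191334 F347754 F357556 D186775 (iv2 F367966)
theorem F383089 : act 5 n191334 = n185136 := d6_2 (iv5 F343095) D191334 (iv3 D185136)
theorem F383090 : act 0 n190208 = n191334 := d17_2 F157292 D190208 F383089 F373598 (iv5 F379879) F381182 (iv5 D190810) (iv0 F149506) F147664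
theorem F383091 : act 1 n188316 = n191334 := d17_6 (iv1 F138331) F291953 (iv1 F335374) F335376 (iv4 F142797) (iv5 F373068) F383089 F370206 (iv4 D185626)
theorem F383092 : act 6 n117254 = n191334 := d3_0 F383088 (iv6 D146942) F183486
def n191335 : Q := act 6 n98083
theorem D191335 : act 6 n98083 = n191335 := rfl
theorem F383093 : act 2 n191335 = n120467 := d3_1 D191335 (iv6 F367969) (iv2 F367966)
theorem F383094 : act 3 n191335 = n117254 := d7_1 D191335 F383092 (iv3 D191334)
theorem F383095 : act 5 n191335 = n117692 := d12_1 D191335 (iv6 F368209) F368208 F356512 (iv5 F343095)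
theorem F383096 : act 7 n120462 = n191335 := d13_0 F383095 F353608 D120462
def n191336 : Q := act 6 n98084
theorem D191336 : act 6 n98084 = n191336 := rfl
theorem F383097 : act 3 n191336 = n189084 := d7_1 D191336 (iv6 D189084) (iv3 F357535)
def n191337 : Q := act 3 n98085
theorem D191337 : act 3 n98085 = n191337 := rfl
theorem F383098 : act 4 n191337 = n98104 := d5_2 D98085 D191337 (iv3 D98104) (iv4 D45810) (iv3 F72304)
theorem F383099 : act 6 n191337 = n170725 := d7_2 (iv6 F151228) D191337 (iv3 D170725)
def n191338 : Q := act 4 n98091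
theorem D191338 : act 4 n98091 = n191338 := rfl
theorem F383100 : act 2 n191338 = n140850 := d1_1 D191338 F356671 (iv2 F156454)
theorem F383101 : act 7 n191338 = n184721 := d11_2 F156466 D191338 (iv4 D184721)
theorem F383102 : act 5 n191338 = n189989 := d16_1 D191338 F380311 F380309 F378665 F159152 F299907 D98096 (iv7 F156449) (iv2 F156454)
theorem F383103 : act 0 n191338 = n153319 := d18_2 (iv1 F306351) D191338 (iv4 D153319) (iv5 D72438) (iv4 F106856) (iv0 F306434) F301295 F304414 (iv5 F191891)
theorem F383104 : act 6 n191338 = n140803 := d21_9 F324164 (iv1 D66636) D66637 (iv6 F356652) F295235 (iv6 F283428) (iv5 F356677) (iv1 F378469) (iv5 F383102) (iv1 F324162)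
def n191339 : Q := act 6 n98091
theorem D191339 : act 6 n98091 = n191339 := rfl
theorem F383105 : act 2 n191339 = n140849 := d3_1 D191339 F356690 (iv2 F156454)
theorem F383106 : act 3 n191339 = n101562 := d7_1 D191339 (iv6 D101562) F155185
theorem F383107 : act 4 n191339 = n140803 := d10_1 D191339 (iv6 F383104) (iv4 D191338)
theorem F383108 : act 5 n191339 = n115772 := d12_1 D191339 F331050 (iv5 D57679) F306352 D98091
theorem F383109 : act 7 n191339 = n140580 := d14_2 F156466 D191339 (iv6 F366488) (iv7 F356688) (iv6 D184722)
theorem F383110 : act 0 n191339 = n189116 := d21_10 F375806 F331066 (iv5 F295238) (iv6 D91175) F294767 (iv6 F72312) (iv5 D45807) D45805 D98091 D191339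
theorem F383111 : act 0 n134911 = n191339 := d21_4 (iv5 D134904) (iv1 D63397) D63399 D134911 (iv6 D191339) (iv5 D98091) (iv1 F72316) (iv5 F135078) (iv6 F349709) F349708
def n191340 : Q := act 4 n98096
theorem D191340 : act 4 n98096 = n191340 := rfl
theorem F383112 : act 2 n191340 = n184721 := d1_1 D191340 (iv4 D184721) F156451
theorem F383113 : act 5 n191340 = n106727 := d9_2 D98096 D191340 (iv4 F380302) F380301 F378981 (iv5 F305226) F299903 D98091 D191338 F383102 F380311 F380309 F378665 F159152 F299907
theorem F383114 : act 6 n191340 = n127796 := d10_2 F377042 D191340 (iv4 F377041)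
theorem F383115 : act 7 n191340 = n140850 := d11_2 F156449 D191340 F356671
theorem F383116 : act 1 n191340 = n153319 := d18_6 (iv1 F133433) (iv4 F132855) F300082 F299907 D98096 D191340 (iv4 D153319) D153318 F308827
theorem F383117 : act 3 n147979 = n191340 := d8_3 F383115 F223919 D147979
def n191341 : Q := act 4 n98098
theorem D191341 : act 4 n98098 = n191341 := rfl
theorem F383118 : act 2 n191341 = n183111 := d1_1 D191341 F356684 (iv2 F156894)
theorem F383119 : act 7 n191341 = n183112 := d11_2 (iv7 F156896) D191341 F284728
theorem F383120 : act 0 n191341 = n183115 := d17_0 (iv5 F356675) F363605 (iv5 F383113) (iv4 D191340) (iv5 D98096) F72309 (iv5 F135078) F151243 D191341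
theorem F383121 : act 1 n191341 = n182032 := d18_6 F307358 F106861 D70376 F191875 (iv5 F304535) D191341 (iv4 D182032) D182031 (iv5 F283426)
theorem F383122 : act 6 n191341 = n187503 := d21_5 (iv5 F294671) (iv1 F295015) F134186 (iv6 F283428) (iv1 F383121) (iv5 D187503) D187502 (iv5 F373579) (iv6 D188466) F295229
def n191342 : Q := act 6 n98098
theorem D191342 : act 6 n98098 = n191342 := rfl
theorem F383123 : act 2 n191342 = n154515 := d3_1 D191342 F312621 (iv2 F156894)
theorem F383124 : act 3 n191342 = n101580 := d7_1 D191342 (iv6 D101580) (iv3 F156895)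
theorem F383125 : act 4 n191342 = n187503 := d10_1 D191342 (iv6 F383122) (iv4 D191341)
theorem F383126 : act 5 n191342 = n153862 := d12_1 D191342 (iv6 D153862) (iv5 F191887) (iv6 D120442) (iv5 F304535)
theorem F383127 : act 7 n185157 = n191342 := d13_0 F383126 F308379 D185157
theorem F383128 : act 1 n188843 = n191342 := d18_8 F308377 F337973 (iv1 F308378) F353736 D185508 F356717 (iv0 F364349) D188843 F383126
def n191343 : Q := act 4 n98099
theorem D191343 : act 4 n98099 = n191343 := rfl
theorem F383129 : act 2 n191343 = n183112 := d1_1 D191343 F284728 (iv2 F156892)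
theorem F383130 : act 7 n191343 = n183111 := d11_2 F156893 D191343 F356684
theorem F383131 : act 0 n191343 = n182032 := d17_0 (iv5 F356677) (iv1 F378469) (iv5 F383102) (iv4 D191338) (iv5 D98091) (iv0 D45805) D45807 D98099 D191343
theorem F383132 : act 1 n191343 = n183115 := d18_6 (iv1 F192106) (iv4 F235617) (iv1 F235620) F233808 (iv5 F304537) D191343 F284730 F283431 F364045
def n191344 : Q := act 6 n98099
theorem D191344 : act 6 n98099 = n191344 := rfl
theorem F383133 : act 2 n191344 = n184729 := d3_1 D191344 (iv6 D184729) (iv2 F156892)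
theorem F383134 : act 3 n191344 = n152023 := d7_1 D191344 (iv6 D152023) (iv3 F314766)
theorem F383135 : act 5 n191344 = n149281 := d12_1 D191344 F362980 (iv5 D101210) F304411 (iv5 F304537)
def n191345 : Q := act 1 n98104
theorem D191345 : act 1 n98104 = n191345 := rfl
theorem F383136 : act 7 n191345 = n188966 := d15_2 (iv0 F376961) D191345 (iv2 F375262)
theorem F383137 : act 5 n188664 = n191345 := d21_0 (iv1 D191345) (iv5 F375771) F376960 F376486 (iv6 D159349) F114196 (iv1 F65497) (iv5 F68294) D92828 (iv1 F374346)
theorem F383138 : act 2 n191345 = n188969 := d2_1 F383137 (iv5 D188969) F375265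
def n191346 : Q := act 5 n98107
theorem D191346 : act 5 n98107 = n191346 := rfl
theorem F383139 : act 2 n191346 = n98112 := d2_1 D191346 (iv5 D98112) (iv2 F151257)
theorem F383140 : act 3 n191346 = n128121 := d6_1 D191346 (iv5 D128121) F302135
theorem F383141 : act 6 n191346 = n161636 := d12_2 D98107 D191346 (iv5 D161636) (iv6 D77633) F86809
theorem F383142 : act 0 n191346 = n161814 := d18_0 F366178 (iv1 D141993) (iv4 F204151) (iv5 F364930) F189768 D120139 F331884 (iv0 F331882) D191346
def n191347 : Q := act 5 n98110
theorem D191347 : act 5 n98110 = n191347 := rfl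
theorem F383143 : act 2 n191347 = n150562 := d2_1 D191347 F320686 (iv2 F331883)
theorem F383144 : act 3 n191347 = n119302 := d6_1 D191347 (iv5 D119302) (iv3 F151268)
theorem F383145 : act 7 n191347 = n119596 := d13_2 F162722 D191347 (iv5 D119596)
theorem F383146 : act 0 n176587 = n191347 := d21_1 (iv5 F275947) (iv5 D191347) F332081 F332076 F304131 (iv5 F330763) (iv1 D159266) (iv5 F313451) F212315 F337057
def n191348 : Q := act 5 n98111
theorem D191348 : act 5 n98111 = n191348 := rfl
theorem F383147 : act 2 n191348 = n119596 := d2_1 D191348 (iv5 D119596) (iv2 F343992)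
theorem F383148 : act 3 n191348 = n120011 := d6_1 D191348 F320677 (iv3 F343993)
theorem F383149 : act 6 n191348 = n124961 := d12_2 (iv6 F343995) D191348 (iv5 F250316) (iv6 F306221) (iv5 D128054)
theorem F383150 : act 7 n191348 = n150562 := d13_2 (iv7 F343996) D191348 F320686
theorem F383151 : act 0 n191348 = n176587 := d21_1 D191348 F275947 F273423 F337053 (iv6 D118549) D118548 F342239 F342240 F343989 (iv1 F343991)
def n191349 : Q := act 0 n98112
theorem D191349 : act 0 n98112 = n191349 := rfl
theorem F383152 : act 5 n191349 = n172502 := d17_3 (iv1 D98111) D98112 D191349 F363407 F222977 F322333 (iv5 F322334) F189775 (iv4 F343994)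
theorem F383153 : act 3 n191349 = n113169 := d20_5 (iv4 F325114) F325112 (iv4 D98120) (iv3 F151269) D191349 F176330 D115512 F336266 F86999 F113518
theorem F383154 : act 2 n161814 = n191349 := d15_3 (iv0 D191349) (iv0 F362748) (iv7 F365588)
theorem F383155 : act 6 n191349 = n113167 := d3_2 (iv6 F365587) F383154 (iv2 F350835)
def n191350 : Q := act 4 n98112
theorem D191350 : act 4 n98112 = n191350 := rfl
theorem F383156 : act 3 n191350 = n101390 := d5_1 D191350 (iv4 F291804) F356222 (iv4 D98120) (iv3 F151269)
theorem F383157 : act 5 n190876 = n191350 := d6_0 F383156 F360810 D190876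
def n191351 : Q := act 0 n98116
theorem D191351 : act 0 n98116 = n191351 := rfl
theorem F383158 : act 5 n191351 = n174052 := d17_3 F272739 D98116 D191351 F272800 (iv5 D99727) (iv0 D46588) (iv5 D22321) D22320 D46585
theorem F383159 : act 4 n191351 = n175722 := d18_1 D191351 (iv1 F275148) F156579 F74519 F35296 F34820 D46580 (iv0 F272738) D98116
theorem F383160 : act 6 n191351 = n127062 := d21_5 (iv5 D38835) F121803 D45824 (iv6 F151277) D191351 (iv5 F354776) (iv1 D167780) D167781 F264149 F301021
theorem F383161 : act 2 n172400 = n191351 := d15_3 (iv0 D191351) (iv0 F368284) F368283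
theorem F383162 : act 1 n172403 = n191351 := d15_0 (iv0 D191351) F156786 (iv2 F270635)
theorem F383163 : act 7 n191351 = n155138 := d15_2 F368285 F383162 (iv2 F368280)
theorem F383164 : act 3 n127064 = n191351 := d20_3 F220311 F220310 F219289 (iv1 F383162) (iv3 F340236) F340227 (iv1 F306443) D154140 F346970 F331930
def n191352 : Q := act 4 n98116
theorem D191352 : act 4 n98116 = n191352 := rfl
theorem F383165 : act 2 n191352 = n172402 := d1_1 D191352 (iv4 D172402) (iv2 F151276)
theorem F383166 : act 6 n191352 = n98120 := d10_2 (iv6 F151277) D191352 (iv4 D98120)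
theorem F383167 : act 0 n191352 = n101669 := d18_2 F368284 D191352 (iv4 D101669) F304833 (iv4 F253249) (iv0 F338814) (iv4 F195697) F156789 D186854
theorem F383168 : act 1 n191352 = n101674 := d18_6 (iv1 F59442) F156571 (iv1 D46061) (iv4 F72374) D98116 D191352 (iv4 D101674) F128880 (iv5 D83873)
theorem F383169 : act 3 n190913 = n191352 := d7_3 F383166 (iv3 F356222) D190913
def n191353 : Q := act 4 n98132
theorem D191353 : act 4 n98132 = n191353 := rfl
theorem F383170 : act 2 n191353 = n190789 := d1_1 D191353 F381082 (iv2 F288736)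
theorem F383171 : act 3 n191353 = n159322 := d5_1 D191353 (iv4 D159322) (iv3 D76213) D76214 (iv3 F151333)
theorem F383172 : act 7 n191353 = n180671 := d11_2 F254479 D191353 F281207
def n191354 : Q := act 5 n98132
theorem D191354 : act 5 n98132 = n191354 := rfl
theorem F383173 : act 3 n191354 = n159324 := d6_1 D191354 (iv5 D159324) (iv3 F151333)
theorem F383174 : act 7 n191354 = n131134 := d13_2 F254479 D191354 F332878
theorem F383175 : act 4 n191354 = n133394 := d19_2 D98132 D191354 F362778 (iv1 D133225) (iv5 D62514) F47393 F23414 D14041 F23427 (iv4 F324961) D27065 (iv1 F56217) (iv5 D35309) F28629 (iv3 F28630) F16822 D10458 D21924 D45840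
def n191355 : Q := act 3 n98133
theorem D191355 : act 3 n98133 = n191355 := rfl
theorem F383176 : act 2 n191355 = n159306 := d0_1 D191355 (iv3 D159306) F254278 D86306 (iv2 F288737)
theorem F383177 : act 7 n191355 = n180635 := d8_2 (iv7 F288738) D191355 (iv3 F288739)
theorem F383178 : act 1 n180634 = n191355 := d15_1 D180634 F383177 (iv2 D180635)
theorem F383179 : act 1 n191355 = n158048 := d15_0 (iv0 F254195) (iv7 F254473) (iv2 F383176)
def n191356 : Q := act 4 n98133
theorem D191356 : act 4 n98133 = n191356 := rfl
theorem F383180 : act 2 n191356 = n180671 := d1_1 D191356 F281207 (iv2 F288737)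
theorem F383181 : act 6 n191356 = n125558 := d10_2 (iv6 F364791) D191356 (iv4 F349587)
theorem F383182 : act 7 n191356 = n190789 := d11_2 (iv7 F288738) D191356 F381082
theorem F383183 : act 3 n191356 = n125561 := d20_3 (iv4 F288742) (iv1 F288745) D191356 F361396 F148997 F327081 (iv1 F92929) (iv4 F93118) (iv3 F341939) (iv1 F248679)
def n191357 : Q := act 0 n98135
theorem D191357 : act 0 n98135 = n191357 := rfl
def n191358 : Q := act 1 n98135
theorem D191358 : act 1 n98135 = n191358 := rfl
theorem F383184 : act 5 n191358 = n176717 := d17_7 (iv1 F283868) F377947 (iv1 D189819) (iv5 D95289) (iv4 F72388) D98135 D191358 F276092 (iv4 F280642)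
theorem F383185 : act 3 n191226 = n191358 := d19_19 (iv1 D191358) (iv5 D98135) F72388 (iv3 D44512) (iv1 F54616) (iv5 F76413) (iv4 D48550) (iv3 F293502) F293272 (iv5 D43613) F292127 (iv3 F58690) (iv1 F66237) F32942 F36757 D48473 (iv1 F350522) (iv5 F350525) (iv4 F382647)
theorem F383186 : act 6 n189830 = n176717 := d21_5 (iv5 D95320) (iv1 D44525) D44526 (iv6 F146958) D189830 (iv5 F383184) (iv1 D191358) (iv5 D98135) (iv6 F151325) F347482
def n191359 : Q := act 4 n98135
theorem D191359 : act 4 n98135 = n191359 := rfl
theorem F383187 : act 2 n191359 = n189388 := d1_1 D191359 F376508 F376505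
theorem F383188 : act 3 n191359 = n186406 := d5_1 D191359 (iv4 D186406) (iv3 D88788) (iv4 F72389) (iv3 F151336)
theorem F383189 : act 6 n191359 = n189242 := d10_2 F376495 D191359 (iv4 F376494)
theorem F383190 : act 5 n148744 = n191359 := d19_1 D148744 (iv4 D191359) F151336 F72390 (iv5 D38859) (iv4 D18464) (iv3 F29642) D38853 F59863 F30160 (iv3 F28131) (iv1 F296042) (iv5 F55002) F318823 (iv3 F97507) (iv1 F337540) (iv5 D132882) (iv4 F324721) F143117
theorem F383191 : act 5 n131131 = n188918 := d21_0 (iv1 D188918) D188919 F375205 D189242 (iv6 F383189) (iv5 F383190) (iv1 F251363) F251359 F210018 (iv1 F210026)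
theorem F383192 : act 6 n159345 = n188918 := d21_5 (iv5 D25534) (iv1 F27617) D34814 D76224 D159345 (iv5 F383191) (iv1 D131131) (iv5 F114203) (iv6 D76227) (iv1 F55027)
def n191360 : Q := act 5 n98146
theorem D191360 : act 5 n98146 = n191360 := rfl
theorem F383193 : act 2 n191360 = n147158 := d2_1 D191360 F333947 (iv2 F281952)
theorem F383194 : act 3 n191360 = n135320 := d6_1 D191360 (iv5 D135320) (iv3 F315359)
theorem F383195 : act 4 n191360 = n148839 := d9_1 D191360 F233855 (iv4 F233709) (iv5 F334533) (iv4 D144823) (iv5 F200441) F303523 F334063 F105205 (iv5 D32391) (iv4 F51444) D69767 F333934 (iv5 F200420) (iv4 F300719)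
theorem F383196 : act 6 n191360 = n135289 := d12_2 (iv6 F300720) D191360 (iv5 D135289) (iv6 D63603) F315358
theorem F383197 : act 7 n191360 = n147070 := d13_2 (iv7 F281953) D191360 F333945
theorem F383198 : act 0 n191360 = n147150 := d17_2 D98146 D191360 F333949 F106168 D69762 (iv0 F206466) (iv5 D128343) F201153 F300710
theorem F383199 : act 1 n191360 = n147147 := d17_6 F192088 F108869 (iv1 F105201) (iv5 F200420) (iv4 F300719) D191360 F333952 (iv0 F192119) (iv4 D120559)
def n191361 : Q := act 3 n98147
theorem D191361 : act 3 n98147 = n191361 := rfl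
theorem F383200 : act 4 n191361 = n174745 := d5_2 F303523 D191361 F319025 F307009 (iv3 F200440)
theorem F383201 : act 5 n191361 = n147155 := d6_2 (iv5 F334063) D191361 F230742
theorem F383202 : act 7 n191361 = n174376 := d8_2 (iv7 F281951) D191361 F275509
theorem F383203 : act 0 n191361 = n119333 := d20_4 F306247 (iv1 F200443) F303523 D191361 F187915 F86866 F155113 (iv4 D38584) D38583 D83706
theorem F383204 : act 0 n173693 = n191361 := d20_4 F213515 (iv1 F337610) F249449 D173693 (iv3 D191361) (iv4 F303523) (iv1 F200442) (iv4 F306248) (iv3 F271880) F342050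
theorem F383205 : act 2 n191361 = n174377 := d15_3 F273222 F273221 (iv7 F383202)
def n191362 : Q := act 0 n98151
theorem D191362 : act 0 n98151 = n191362 := rfl
theorem F383206 : act 5 n191362 = n174489 := d17_3 (iv1 F272645) D98151 D191362 (iv4 F338091) F155078 (iv0 D47355) (iv5 D22751) D22750 D47352
theorem F383207 : act 4 n191362 = n173589 := d18_1 D191362 (iv1 F272039) F128876 F59438 (iv4 F59430) F59434 D47347 (iv0 F272644) D98151
theorem F383208 : act 2 n172414 = n191362 := d15_3 (iv0 D191362) (iv0 F373987) F373986
theorem F383209 : act 1 n172417 = n191362 := d15_0 (iv0 D191362) (iv7 F357763) (iv2 F357764)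
theorem F383210 : act 7 n191362 = n172415 := d15_2 F373988 F383209 (iv2 F373982)
def n191363 : Q := act 5 n98158
theorem D191363 : act 5 n98158 = n191363 := rfl
theorem F383211 : act 2 n191363 = n98161 := d2_1 D191363 (iv5 D98161) (iv2 F151415)
theorem F383212 : act 6 n191363 = n172215 := d12_2 D98158 D191363 (iv5 D172215) (iv6 D82485) (iv5 F72415)
theorem F383213 : act 0 n191363 = n186880 := d21_7 (iv5 F329507) F329505 (iv5 D100776) (iv6 D46990) (iv1 F72417) D98158 D191363 F368401 (iv6 F355388) (iv1 F346709)
def n191364 : Q := act 4 n98159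
theorem D191364 : act 4 n98159 = n191364 := rfl
theorem F383214 : act 2 n191364 = n153592 := d1_1 D191364 F354019 (iv2 F354020)
theorem F383215 : act 3 n191364 = n119144 := d5_1 D191364 (iv4 F190304) F190303 (iv4 F190295) F190294
theorem F383216 : act 7 n191364 = n119231 := d11_2 F187657 D191364 F187666
theorem F383217 : act 1 n191364 = n100809 := d18_8 (iv1 D174118) (iv4 F272922) F358727 F132045 D86089 (iv4 F320010) (iv0 F344406) D191364 F353952
theorem F383218 : act 0 n191364 = n153590 := d20_1 D191364 F241416 F240879 (iv1 F301703) (iv3 D98169) (iv4 D45867) (iv1 D21936) (iv4 F34437) (iv3 F72419) D98159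
theorem F383219 : act 5 n165656 = n191364 := d6_0 F383215 F325405 D165656
def n191365 : Q := act 5 n98159
theorem D191365 : act 5 n98159 = n191365 := rfl
theorem F383220 : act 2 n191365 = n186874 := d2_1 D191365 (iv5 D186874) (iv2 F354020)
theorem F383221 : act 3 n191365 = n153541 := d6_1 D191365 (iv5 D153541) F190294
def n191366 : Q := act 6 n98159
theorem D191366 : act 6 n98159 = n191366 := rfl
theorem F383222 : act 2 n191366 = n186875 := d3_1 D191366 (iv6 D186875) (iv2 F354020)
theorem F383223 : act 3 n191366 = n149225 := d7_1 D191366 F234614 F190294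
def n191367 : Q := act 4 n98160
theorem D191367 : act 4 n98160 = n191367 := rfl
theorem F383224 : act 2 n191367 = n119231 := d1_1 D191367 F187666 F354023
theorem F383225 : act 3 n191367 = n158315 := d5_1 D191367 (iv4 F344389) (iv3 D174019) F272666 (iv3 F354024)
theorem F383226 : act 7 n191367 = n153592 := d11_2 F354025 D191367 F354019
theorem F383227 : act 0 n191367 = n100809 := d20_1 D191367 F154905 F134096 (iv1 F306517) D72663 F190352 (iv1 F315554) F315556 F196442 (iv1 F354022)
theorem F383228 : act 0 n153590 = n191367 := d20_10 (iv4 D191367) (iv1 D98160) F72420 F34460 F118894 D37932 (iv4 F301011) (iv1 F195921) (iv4 F330649) F330648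
def n191368 : Q := act 5 n98160
theorem D191368 : act 5 n98160 = n191368 := rfl
theorem F383229 : act 3 n191368 = n100905 := d6_1 D191368 (iv5 D100905) (iv3 F354024)
theorem F383230 : act 7 n191368 = n186874 := d13_2 F354025 D191368 (iv5 D186874)
theorem F383231 : act 0 n191368 = n123974 := d17_2 (iv1 F354022) D191368 (iv5 D123974) (iv4 F198388) (iv5 F322580) (iv0 F351711) (iv5 D98241) F320007 (iv4 F320010)
theorem F383232 : act 6 n100269 = n191368 := d21_5 F370955 F370953 F368798 (iv6 F368801) F288577 (iv5 D191368) (iv1 D98160) D98161 F151418 D186749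
theorem F383233 : act 4 n191368 = n100266 := d10_1 F383232 F154253 D100269
theorem F383234 : act 1 n191365 = n123974 := d15_0 (iv0 F383231) F383230 (iv2 F383220)
def n191369 : Q := act 6 n98160
theorem D191369 : act 6 n98160 = n191369 := rfl
theorem F383235 : act 3 n191369 = n100906 := d7_1 D191369 (iv6 D100906) (iv3 F354024)
theorem F383236 : act 5 n191369 = n123620 := d12_1 D191369 (iv6 F365801) (iv5 F292380) F383232 (iv5 D191368)
theorem F383237 : act 0 n130438 = n191369 := d21_4 D123583 (iv1 F358070) (iv5 D130437) D130438 (iv6 D191369) D191368 F383231 (iv5 D123974) (iv6 D57753) F311808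
theorem F383238 : act 0 n191369 = n160324 := d21_7 (iv5 D63950) D63947 F100515 (iv6 F100514) D90450 F365801 (iv5 F383236) (iv5 F304190) F345491 (iv1 D136004)
def n191370 : Q := act 0 n98161
theorem D191370 : act 0 n98161 = n191370 := rfl
theorem F383239 : act 2 n186880 = n191370 := d15_3 (iv0 D191370) (iv0 F355376) (iv7 F368402)
theorem F383240 : act 3 n191370 = n153544 := d0_2 D186880 F383239 (iv2 F280233) F362740 (iv2 F156663)
def n191371 : Q := act 4 n98161
theorem D191371 : act 4 n98161 = n191371 := rfl
theorem F383241 : act 6 n191371 = n186750 := d10_2 (iv6 F151418) D191371 (iv4 D186750)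
def n191372 : Q := act 4 n98165
theorem D191372 : act 4 n98165 = n191372 := rfl
theorem F383242 : act 2 n191372 = n191329 := d1_1 D191372 (iv4 D191329) (iv2 F151422)
theorem F383243 : act 6 n191372 = n98167 := d10_2 (iv6 F151424) D191372 (iv4 D98167)
theorem F383244 : act 0 n191372 = n187704 := d18_2 F356422 D191372 (iv4 D187704) (iv5 D90476) (iv4 F133711) (iv0 F356416) F153788 (iv0 F356413) (iv5 F283645)
def n191373 : Q := act 0 n98167
theorem D191373 : act 0 n98167 = n191373 := rfl
theorem F383245 : act 5 n191373 = n179822 := d17_1 D191373 (iv1 F366889) (iv5 F268105) (iv4 D170650) F125729 F123544 D84555 F301691 D98167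
theorem F383246 : act 4 n191373 = n120382 := d18_3 F131812 D98167 D191373 F191767 F301701 D80353 (iv4 F301608) F301607 D85915
theorem F383247 : act 1 n122624 = n191373 := d15_0 (iv0 D191373) F366891 (iv2 F196448)
theorem F383248 : act 2 n122427 = n191373 := d1_3 F383246 (iv2 F302115) D122427
theorem F383249 : act 7 n122430 = n191373 := d11_0 F383246 (iv7 F302131) D122430
def n191374 : Q := act 1 n98167
theorem D191374 : act 1 n98167 = n191374 := rfl
theorem F383250 : act 1 n191374 = n122624 := d15_1 D191374 (iv7 F268099) F299272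
theorem F383251 : act 7 n191374 = n122427 := d15_2 (iv0 D191373) D191374 F383248
theorem F383252 : act 5 n191374 = n167442 := d17_7 F304296 (iv5 D56753) F299001 D56947 D122624 F366890 D191374 F304437 (iv4 D123982)
theorem F383253 : act 4 n191374 = n120381 := d17_9 F302007 (iv5 D56669) F57470 D80350 D167442 (iv5 F383252) F383250 F366890 D191374
theorem F383254 : act 2 n122430 = n191374 := d1_3 F383253 (iv2 F302130) D122430
def n191375 : Q := act 3 n98167
theorem D191375 : act 3 n98167 = n191375 := rfl
def n191376 : Q := act 6 n98169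
theorem D191376 : act 6 n98169 = n191376 := rfl
theorem F383255 : act 2 n191376 = n153633 := d3_1 D191376 (iv6 D153633) (iv2 F301704)
theorem F383256 : act 3 n191376 = n98170 := d7_1 D191376 (iv6 D98170) D98169
theorem F383257 : act 4 n191376 = n122415 := d10_1 D191376 (iv6 D122415) (iv4 F301705)
theorem F383258 : act 0 n191376 = n157635 := d20_4 F195682 F152294 (iv4 F151436) (iv3 F383256) F248393 F112583 (iv1 F190126) (iv4 F240122) F240121 F302071
def n191377 : Q := act 7 n98193
theorem D191377 : act 7 n98193 = n191377 := rfl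
theorem F383259 : act 2 n191377 = n98197 := d4_1 D191377 (iv7 D98197) (iv2 F151505)
theorem F383260 : act 3 n191377 = n120156 := d8_1 D191377 F314775 (iv3 F151506)
theorem F383261 : act 4 n191377 = n127921 := d11_1 D191377 (iv7 D127921) F303543
theorem F383262 : act 5 n191377 = n154165 := d13_1 D191377 F312577 F310294
theorem F383263 : act 6 n191377 = n132334 := d14_1 D191377 F311918 (iv6 D82498) (iv7 F72474) D98193
theorem F383264 : act 1 n98195 = n191377 := d15_1 D98195 (iv7 D191377) F151505
theorem F383265 : act 1 n191377 = n98194 := d15_1 F383264 (iv7 F334185) F334181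
def n191378 : Q := act 6 n98200
theorem D191378 : act 6 n98200 = n191378 := rfl
theorem F383266 : act 2 n191378 = n134679 := d3_1 D191378 (iv6 D134679) (iv2 F330190)
theorem F383267 : act 3 n191378 = n98202 := d7_1 D191378 (iv6 D98202) D98200
theorem F383268 : act 4 n191378 = n126972 := d10_1 D191378 F327821 (iv4 F151518)
theorem F383269 : act 7 n191378 = n126971 := d14_2 (iv7 F330191) D191378 F327819 (iv7 F321350) F330189
theorem F383270 : act 0 n191378 = n155795 := d21_4 (iv5 F341207) F363368 F363369 D191378 (iv6 F318539) F320674 F209092 F328525 (iv6 F309523) F328945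
theorem F383271 : act 5 n191378 = n174514 := d21_6 F98479 F211577 D29897 D63263 (iv1 F346376) D191378 F365172 F224814 (iv6 D129740) (iv1 F319729)
theorem F383272 : act 0 n172155 = n191378 := d21_4 (iv5 F340137) (iv1 F305505) F322457 D172155 (iv6 D191378) (iv5 F363369) (iv1 F363371) F319372 (iv6 F319373) F330233
def n191379 : Q := act 5 n98216
theorem D191379 : act 5 n98216 = n191379 := rfl
theorem F383273 : act 6 n191379 = n183921 := d12_2 D98216 D191379 (iv5 D183921) (iv6 D87741) F72500
theorem F383274 : act 0 n191379 = n184053 := d17_2 (iv1 F321377) D191379 F366801 (iv4 F206388) F315350 F207872 (iv5 F313638) F313637 D152166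
def n191380 : Q := act 6 n98229
theorem D191380 : act 6 n98229 = n191380 := rfl
theorem F383275 : act 2 n191380 = n98237 := d3_1 D191380 (iv6 D98237) (iv2 F345520)
theorem F383276 : act 5 n191380 = n173364 := d12_1 D191380 (iv6 F349900) (iv5 D110387) F345516 (iv5 F345519)
theorem F383277 : act 0 n191380 = n162702 := d21_4 (iv5 F320828) D86058 (iv5 F345519) D191380 (iv6 D162702) (iv5 D78162) F91784 D124413 (iv6 F344932) (iv1 D130156)
def n191381 : Q := act 5 n98235
theorem D191381 : act 5 n98235 = n191381 := rfl
def n191382 : Q := act 6 n98235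
theorem D191382 : act 6 n98235 = n191382 := rfl
theorem F383278 : act 4 n191382 = n98237 := d10_1 D191382 (iv6 D98237) D98235
theorem F383279 : act 0 n191382 = n147824 := d20_1 (iv4 F383278) (iv4 F358451) (iv3 F354139) (iv1 F237222) F302237 F299366 (iv1 F121369) (iv4 F123644) (iv3 F263870) (iv1 F353800)
def n191383 : Q := act 4 n98236
theorem D191383 : act 4 n98236 = n191383 := rfl
theorem F383280 : act 2 n191383 = n108881 := d1_1 D191383 F345515 (iv2 F345517)
theorem F383281 : act 6 n191383 = n180462 := d10_2 (iv6 F336015) D191383 (iv4 D180462)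
theorem F383282 : act 7 n191383 = n180112 := d11_2 (iv7 F345518) D191383 (iv4 D180112)
theorem F383283 : act 5 n100180 = n191383 := d12_5 F383281 F375342 (iv6 D188988) F290827 D100180
def n191384 : Q := act 5 n98237
theorem D191384 : act 5 n98237 = n191384 := rfl
theorem F383284 : act 2 n191384 = n173364 := d2_1 D191384 (iv5 F383276) F383275
theorem F383285 : act 3 n191384 = n175104 := d6_1 D191384 (iv5 F364914) (iv3 F366896)
theorem F383286 : act 6 n191384 = n176168 := d12_2 D98237 D191384 F344937 (iv6 F336015) (iv5 D98236)
theorem F383287 : act 0 n191384 = n167086 := d21_1 D191384 (iv5 D167086) (iv6 D80215) (iv1 F57403) D38494 D83494 F321887 F302295 D167616 (iv1 F353800)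
theorem F383288 : act 0 n162624 = n191384 := d21_1 D162624 (iv5 D191384) (iv6 D98237) F320008 (iv6 F318106) F115802 (iv1 F114414) F90758 D123598 F337511
theorem F383289 : act 7 n191384 = n173363 := d15_2 (iv0 F346539) (iv0 F383287) (iv2 F349898)
def n191385 : Q := act 7 n98237
theorem D191385 : act 7 n98237 = n191385 := rfl
theorem F383290 : act 5 n191385 = n173363 := d13_1 D191385 (iv7 F383289) (iv5 D191384)
theorem F383291 : act 6 n191385 = n130440 := d14_1 D191385 F351721 F342102 F351717 D98237
theorem F383292 : act 0 n162702 = n191385 := d21_10 F383290 F366510 (iv5 F366507) F303408 (iv1 F128604) D83519 F333791 F121307 D78162 D162702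
def n191386 : Q := act 6 n98239
theorem D191386 : act 6 n98239 = n191386 := rfl
theorem F383293 : act 2 n191386 = n144573 := d3_1 D191386 (iv6 F364969) F351707
theorem F383294 : act 3 n191386 = n98242 := d7_1 D191386 (iv6 D98242) D98239
theorem F383295 : act 4 n191386 = n117053 := d10_1 D191386 (iv6 F225412) (iv4 F340955)
def n191387 : Q := act 5 n98240
theorem D191387 : act 5 n98240 = n191387 := rfl
theorem F383296 : act 3 n191387 = n122681 := d6_1 D191387 (iv5 D122681) (iv3 F304717)
theorem F383297 : act 4 n191387 = n100183 := d16_2 D98240 D191387 (iv5 D100183) (iv4 F154129) F383283 (iv4 D191383) (iv5 D98236) (iv7 F351717) F351716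
theorem F383298 : act 6 n191387 = n100186 := d21_9 (iv5 F365789) F160058 (iv5 F365792) (iv6 F153983) (iv1 F368405) F368856 (iv5 D153362) (iv1 F304716) D191387 F154133
def n191388 : Q := act 6 n98240
theorem D191388 : act 6 n98240 = n191388 := rfl
theorem F383299 : act 3 n191388 = n122682 := d7_1 D191388 (iv6 D122682) (iv3 F304717)
theorem F383300 : act 4 n191388 = n98242 := d10_1 D191388 (iv6 D98242) D98240
theorem F383301 : act 5 n191388 = n187677 := d12_1 D191388 (iv6 D187677) (iv5 F365791) (iv6 F383298) (iv5 D191387)
theorem F383302 : act 0 n184036 = n191388 := d20_10 F383300 F351713 F303418 F253230 F125738 (iv3 F240121) F240122 F200527 F304665 (iv3 F285986)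
def n191389 : Q := act 5 n98242
theorem D191389 : act 5 n98242 = n191389 := rfl
theorem F383303 : act 2 n191389 = n176110 := d2_1 D191389 F344756 (iv2 F351719)
theorem F383304 : act 6 n191389 = n124494 := d12_2 D98242 D191389 F360733 F360734 (iv5 D98241)
theorem F383305 : act 7 n191389 = n176111 := d13_2 F351720 D191389 F346540
theorem F383306 : act 0 n191389 = n123601 := d17_2 (iv1 F351714) D191389 (iv5 D123601) F90760 D57619 D123620 (iv5 F383236) (iv0 F383237) F208950
theorem F383307 : act 1 n191389 = n155663 := d17_6 (iv1 F331917) (iv5 F241987) F371170 (iv5 F383301) F383300 D191389 F344762 (iv0 D83484) (iv4 F128584)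
def n191390 : Q := act 3 n98245
theorem D191390 : act 3 n98245 = n191390 := rfl
theorem F383308 : act 4 n191390 = n98253 := d5_2 D98245 D191390 (iv3 D98253) (iv4 D45929) (iv3 F72505)
theorem F383309 : act 7 n191390 = n180131 := d8_2 (iv7 F358717) D191390 (iv3 F359334)
theorem F383310 : act 5 n154716 = n191390 := d13_3 F383309 F347417 F350083
theorem F383311 : act 1 n191390 = n140553 := d17_6 F322904 D66048 (iv1 F324364) (iv5 F300138) (iv4 F350081) F383310 (iv5 D140553) (iv0 F326242) (iv4 D86024)
def n191391 : Q := act 5 n98245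
theorem D191391 : act 5 n98245 = n191391 := rfl
theorem F383312 : act 3 n191391 = n154716 := d6_1 D191391 F383310 (iv3 D191390)
def n191392 : Q := act 2 n98247
theorem D191392 : act 2 n98247 = n191392 := rfl
theorem F383313 : act 5 n191392 = n172576 := d2_2 (iv5 F151594) D191392 (iv2 D172576)
theorem F383314 : act 1 n178548 = n191392 := d18_8 (iv1 F351632) F348182 F351633 (iv4 D125360) (iv5 D58702) (iv4 F91636) D124222 (iv4 F360091) F383313
def n191393 : Q := act 4 n98247
theorem D191393 : act 4 n98247 = n191393 := rfl
theorem F383315 : act 0 n191393 = n125354 := d18_2 F353096 D191393 (iv4 D125354) D125355 F330649 F195921 F301011 F315278 D158142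
theorem F383316 : act 1 n191393 = n125349 := d18_6 D125358 F357866 F357864 F304301 (iv5 F151594) D191393 (iv4 D125349) (iv0 D58699) D58702
def n191394 : Q := act 6 n98247
theorem D191394 : act 6 n98247 = n191394 := rfl
theorem F383317 : act 3 n191394 = n98248 := d7_1 D191394 (iv6 D98248) D98247
theorem F383318 : act 5 n191394 = n119441 := d12_1 D191394 F323008 (iv5 F320200) (iv6 F301524) (iv5 F151594)
theorem F383319 : act 7 n191394 = n174807 := d14_2 F329441 D191394 F342071 F256545 D157842
theorem F383320 : act 0 n166653 = n191394 := d17_2 (iv1 F346378) (iv5 F365220) F383318 F273680 (iv5 F341207) F341202 (iv5 F341213) (iv0 D118491) (iv4 F186395)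
def n191395 : Q := act 6 n98255
theorem D191395 : act 6 n98255 = n191395 := rfl
theorem F383321 : act 2 n191395 = n166162 := d3_1 D191395 (iv6 F321833) (iv2 F151606)
theorem F383322 : act 3 n191395 = n180132 := d7_1 D191395 (iv6 D180132) (iv3 F323858)
theorem F383323 : act 4 n191395 = n98256 := d10_1 D191395 (iv6 D98256) (iv4 F151607)
theorem F383324 : act 5 n191395 = n101537 := d12_1 D191395 F361251 F332707 F326207 (iv5 F151608)
theorem F383325 : act 7 n191395 = n101536 := d14_2 D98255 D191395 (iv6 F361237) F327542 F128814
theorem F383326 : act 0 n177443 = n191395 := d21_4 (iv5 F355907) F342132 (iv5 D177442) D177443 (iv6 D191395) F151608 F127208 F127209 D172506 F354771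
theorem F383327 : act 1 n177443 = n163622 := d15_1 (iv0 F383326) F300044 (iv2 F383321)
theorem F383328 : act 5 n98526 = n177443 := d17_5 (iv1 D46075) (iv5 D22006) D22004 D46067 D98526 F383327 (iv5 F361241) (iv0 F184675) (iv4 D98556)
def n191396 : Q := act 6 n98259
theorem D191396 : act 6 n98259 = n191396 := rfl
theorem F383329 : act 2 n191396 = n98261 := d3_1 D191396 (iv6 D98261) D98259
theorem F383330 : act 3 n191396 = n128008 := d7_1 D191396 (iv6 D128008) F301513
theorem F383331 : act 4 n191396 = n131457 := d10_1 D191396 F337043 (iv4 F151629)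
theorem F383332 : act 5 n191396 = n110407 := d12_1 D191396 (iv6 D110407) (iv5 D50912) D50913 (iv5 F328009)
theorem F383333 : act 0 n191396 = n134699 := d21_4 F342309 F170759 (iv5 F328009) D191396 (iv6 D134699) (iv5 F314638) F188074 F344895 (iv6 F301024) (iv1 F312114)
theorem F383334 : act 0 n118549 = n191396 := d21_4 D83161 (iv1 F342261) (iv5 D118548) D118549 (iv6 D191396) F328009 F81157 D51024 (iv6 F326962) (iv1 D83160)
def n191397 : Q := act 0 n98261
theorem D191397 : act 0 n98261 = n191397 := rfl
theorem F383335 : act 3 n191397 = n120229 := d20_5 F123644 F298141 (iv4 F72524) (iv3 F151635) D191397 F191429 (iv1 F186994) D155007 F243738 F302425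
theorem F383336 : act 4 n191397 = n118552 := d20_8 (iv4 F166586) (iv1 D49807) (iv4 F38275) (iv3 F79180) (iv1 F311257) (iv3 F125634) (iv4 F151636) D191397 F186459 (iv1 F87528)
theorem F383337 : act 6 n191397 = n120159 := d21_5 F326963 (iv1 F82248) (iv5 F327536) D98261 D191397 (iv5 F344897) F332084 (iv5 F332064) (iv6 F332089) (iv1 D129902)
theorem F383338 : act 2 n134699 = n191397 := d3_3 F383337 F209868 D134699
theorem F383339 : act 5 n174508 = n191397 := d12_5 F383337 (iv5 F344897) (iv6 D119303) D119302 (iv6 F344770)
theorem F383340 : act 7 n118549 = n191397 := d14_0 F383337 (iv7 D120159) (iv6 D55290) (iv7 F86275) D118549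
def n191398 : Q := act 1 n98261
theorem D191398 : act 1 n98261 = n191398 := rfl
theorem F383341 : act 7 n191398 = n134699 := d15_2 (iv0 D191397) D191398 F383338
theorem F383342 : act 4 n191398 = n117248 := d17_9 F237487 D130891 F237501 F310777 F115116 D84936 (iv0 F350647) F350649 D191398
theorem F383343 : act 3 n134705 = n191398 := d20_3 (iv4 F321977) D131633 (iv4 F216711) (iv1 D191398) F151635 F72524 (iv1 F128566) (iv4 F113554) F315248 F320871
theorem F383344 : act 6 n118481 = n191398 := d21_3 (iv5 F342248) D190335 F379441 (iv1 D191398) (iv6 D98261) F327536 F82247 (iv5 F326954) (iv6 D85130) (iv1 F128218)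
theorem F383345 : act 5 n174509 = n191398 := d21_6 (iv5 D59010) F45310 (iv5 F80333) D110428 F351330 (iv6 F344767) (iv1 D191398) (iv5 F350649) (iv6 D112744) (iv1 F93211)
theorem F383346 : act 2 n191398 = n118549 := d3_1 F383344 (iv6 D118549) (iv2 F186369)
def n191399 : Q := act 5 n98285
theorem D191399 : act 5 n98285 = n191399 := rfl
theorem F383347 : act 3 n191399 = n107956 := d6_1 D191399 F166824 (iv3 F317132)
theorem F383348 : act 6 n191399 = n98288 := d12_2 D98285 D191399 (iv5 D98288) (iv6 D45990) D45989
theorem F383349 : act 0 n191399 = n152039 := d17_2 (iv1 F354650) D191399 (iv5 D152039) F319890 (iv5 F319891) (iv0 D133529) F317522 (iv0 F300672) (iv4 D98961)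
theorem F383350 : act 1 n191399 = n98979 := d17_6 (iv1 F52400) (iv5 F211940) (iv1 D61338) (iv5 F95486) (iv4 F317133) D191399 F321745 F108166 (iv4 D63644)
def n191400 : Q := act 4 n98288
theorem D191400 : act 4 n98288 = n191400 := rfl
theorem F383351 : act 1 n191400 = n111573 := d18_6 (iv1 F295037) (iv4 F145092) (iv1 F157231) F144664 D98288 D191400 (iv4 F368143) F368140 F364231
def n191401 : Q := act 6 n98290
theorem D191401 : act 6 n98290 = n191401 := rfl
theorem F383352 : act 2 n191401 = n128165 := d3_1 D191401 (iv6 D128165) (iv2 F151701)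
theorem F383353 : act 3 n191401 = n155088 := d7_1 D191401 F331904 (iv3 F151702)
theorem F383354 : act 4 n191401 = n98291 := d10_1 D191401 (iv6 D98291) D98290
theorem F383355 : act 5 n191401 = n133334 := d12_1 D191401 F214345 F331702 (iv6 D120676) (iv5 F151703)
theorem F383356 : act 7 n191401 = n128224 := d14_2 (iv7 F151704) D191401 F332359 (iv7 F314810) (iv6 D128163)
theorem F383357 : act 0 n123087 = n191401 := d21_4 (iv5 D54572) D54570 (iv5 F302742) D123087 (iv6 D191401) F151703 (iv1 F192367) F192369 (iv6 F302429) F303100
theorem F383358 : act 1 n128226 = n191401 := d15_0 (iv0 F383357) F304702 D128226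
def n191402 : Q := act 5 n98299
theorem D191402 : act 5 n98299 = n191402 := rfl
theorem F383359 : act 3 n191402 = n123242 := d6_1 D191402 F366685 F195650
theorem F383360 : act 6 n191402 = n187708 := d12_2 D98299 D191402 (iv5 D187708) (iv6 D90483) (iv5 F72573)
theorem F383361 : act 0 n191402 = n156245 := d21_7 (iv5 F240913) (iv1 F304319) (iv5 D98305) (iv6 D45998) D45995 D98299 D191402 F335203 (iv6 D82976) (iv1 F110138)
def n191403 : Q := act 6 n98300
theorem D191403 : act 6 n98300 = n191403 := rfl
theorem F383362 : act 2 n191403 = n149674 := d3_1 D191403 (iv6 D149674) (iv2 F151717)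
theorem F383363 : act 3 n191403 = n134640 := d7_1 D191403 F323002 (iv3 F151718)
theorem F383364 : act 4 n191403 = n98301 := d10_1 D191403 (iv6 D98301) D98300
theorem F383365 : act 0 n191403 = n171092 := d21_10 F332323 F325424 F357817 F363617 (iv1 D128169) (iv6 D60254) D60253 (iv1 F106437) (iv5 F151719) D191403
theorem F383366 : act 0 n152437 = n191403 := d21_4 D143870 F319374 (iv5 F330228) F330229 (iv6 D191403) F151719 (iv1 F185437) F185439 (iv6 F330188) F341198
def n191404 : Q := act 5 n98301
theorem D191404 : act 5 n98301 = n191404 := rfl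
theorem F383367 : act 3 n191404 = n191379 := d6_1 D191404 (iv5 D191379) (iv3 F151723)
theorem F383368 : act 6 n191404 = n187709 := d12_2 D98301 D191404 (iv5 D187709) (iv6 D90484) (iv5 F72574)
theorem F383369 : act 0 n191404 = n173514 := d17_2 F364882 D191404 (iv5 D173514) (iv4 D83011) D83012 F271960 F338579 (iv0 F332302) F332305
theorem F383370 : act 0 n173495 = n191404 := d21_1 D173495 (iv5 D191404) (iv6 D98301) (iv1 D45996) D45998 D98305 F304318 F114541 D123218 F313365
def n191405 : Q := act 5 n98307
theorem D191405 : act 5 n98307 = n191405 := rfl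
theorem F383371 : act 2 n191405 = n186487 := d2_1 D191405 (iv5 D186487) F151730
theorem F383372 : act 3 n191405 = n98309 := d6_1 D191405 (iv5 D98309) D98307
theorem F383373 : act 7 n191405 = n175282 := d13_2 (iv7 F151728) D191405 F336793
theorem F383374 : act 4 n191405 = n175678 := d16_2 (iv4 F151729) D191405 F357754 F349026 F335889 F356613 (iv5 D186459) F147451 (iv2 F147452)
theorem F383375 : act 1 n187069 = n175282 := d15_1 (iv0 F369023) (iv7 F383373) F383371
def n191406 : Q := act 6 n98307
theorem D191406 : act 6 n98307 = n191406 := rfl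
theorem F383376 : act 2 n191406 = n186488 := d3_1 D191406 (iv6 D186488) F151730
theorem F383377 : act 3 n191406 = n98310 := d7_1 D191406 (iv6 D98310) D98307
theorem F383378 : act 4 n191406 = n186457 := d10_1 D191406 (iv6 D186457) (iv4 F151729)
def n191407 : Q := act 5 n98308
theorem D191407 : act 5 n98308 = n191407 := rfl
theorem F383379 : act 2 n191407 = n175224 := d2_1 D191407 F339577 (iv2 F151732)
theorem F383380 : act 3 n191407 = n117865 := d6_1 D191407 F340080 (iv3 F151734)
theorem F383381 : act 4 n191407 = n114736 := d9_1 D191407 (iv5 D114736) F83687 D83649 (iv4 F335205) (iv5 D98312) (iv4 F114616) F178548 (iv4 F335207) F274259 F128757 (iv5 F128762) (iv4 F335210) (iv5 D98309) D98308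
theorem F383382 : act 7 n191407 = n146379 := d13_2 (iv7 F151733) D191407 (iv5 F339774)
theorem F383383 : act 6 n191407 = n114750 := d21_3 D52935 (iv1 F290310) D191407 F338643 F99147 (iv5 D53131) D53128 (iv5 F328238) (iv6 D76461) F290299
def n191408 : Q := act 6 n98308
theorem D191408 : act 6 n98308 = n191408 := rfl
theorem F383384 : act 2 n191408 = n189631 := d3_1 D191408 (iv6 D189631) (iv2 F151732)
theorem F383385 : act 3 n191408 = n188509 := d7_1 D191408 (iv6 F373772) (iv3 F151734)
theorem F383386 : act 4 n191408 = n98310 := d10_1 D191408 (iv6 D98310) D98308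
theorem F383387 : act 5 n191408 = n113815 := d12_1 D191408 (iv6 F338665) F338664 (iv6 F383383) (iv5 D191407)
theorem F383388 : act 0 n134483 = n191408 := d17_0 F383387 (iv1 D113815) (iv5 F155622) F155621 D101016 F290194 F136954 (iv0 F287431) (iv4 F339546)
theorem F383389 : act 1 n134480 = n191408 := d17_6 (iv1 F102023) F102025 F98434 (iv5 D63169) D63168 D134480 F383387 F328056 F95919
theorem F383390 : act 0 n191406 = n98436 := d20_4 (iv4 F339546) F383388 F383386 (iv3 F383377) F151860 (iv4 F295314) (iv1 F357224) (iv4 F368952) F368951 (iv1 F339549)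
def n191409 : Q := act 6 n98309
theorem D191409 : act 6 n98309 = n191409 := rfl
theorem F383391 : act 2 n191409 = n188123 := d3_1 D191409 F372387 F368958
theorem F383392 : act 4 n191409 = n147378 := d10_1 D191409 F354821 (iv4 F335210)
theorem F383393 : act 7 n191409 = n175408 := d14_2 (iv7 F335211) D191409 (iv6 D175408) (iv7 D83757) (iv6 F128760)
def n191410 : Q := act 5 n98310
theorem D191410 : act 5 n98310 = n191410 := rfl
theorem F383394 : act 2 n191410 = n99935 := d2_1 D191410 (iv5 F367773) F367775
theorem F383395 : act 7 n191410 = n99934 := d13_2 (iv7 F375476) D191410 F375477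
theorem F383396 : act 0 n191410 = n99923 := d17_2 (iv1 F368190) D191410 (iv5 D99923) F73767 (iv5 F85441) D117459 (iv5 F183968) F145643 (iv4 F367356)
theorem F383397 : act 4 n191410 = n156098 := d17_4 F370438 F370436 (iv1 F368190) D191410 (iv5 F245264) (iv0 F245265) (iv5 F359504) (iv0 F359529) F363752
theorem F383398 : act 1 n191410 = n99937 := d17_6 F335799 (iv5 D130914) (iv1 F328056) (iv5 F383387) F383386 D191410 F153868 (iv0 F153847) F153846
def n191411 : Q := act 4 n98314
theorem D191411 : act 4 n98314 = n191411 := rfl
theorem F383399 : act 2 n191411 = n175245 := d1_1 D191411 (iv4 F368981) (iv2 F368982)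
theorem F383400 : act 3 n191411 = n173557 := d5_1 D191411 F334803 F161841 D114928 (iv3 F366793)
theorem F383401 : act 7 n191411 = n175246 := d11_2 (iv7 F368977) D191411 (iv4 F368972)
theorem F383402 : act 0 n191411 = n175135 := d17_0 (iv5 D175135) (iv1 D83648) D83649 (iv4 F335205) (iv5 D98312) F137209 D187058 F368968 D191411
theorem F383403 : act 1 n191411 = n175130 := d18_6 F349312 (iv4 F349297) (iv1 F363719) (iv4 F339758) (iv5 F363720) D191411 (iv4 F334556) F356992 (iv5 F356989)
def n191412 : Q := act 6 n98314
theorem D191412 : act 6 n98314 = n191412 := rfl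
def n191413 : Q := act 6 n98315
theorem D191413 : act 6 n98315 = n191413 := rfl
theorem F383404 : act 4 n191413 = n175352 := d10_1 D191413 (iv6 F354862) F339756
theorem F383405 : act 0 n191413 = n178691 := d21_4 F354875 (iv1 F157476) F161657 D191413 (iv6 D178691) (iv5 F274448) (iv1 D175404) (iv5 D83756) (iv6 F128760) D175280
def n191414 : Q := act 0 n98316
theorem D191414 : act 0 n98316 = n191414 := rfl
theorem F383406 : act 5 n191414 = n131475 := d17_3 (iv1 F151932) (iv5 F335214) D191414 F210744 (iv5 F104037) (iv0 F184740) F312772 (iv0 F333693) (iv4 F319555)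
theorem F383407 : act 4 n191414 = n186842 := d18_1 D191414 (iv1 F368221) (iv4 D175264) (iv5 D83694) D83693 F274275 (iv4 F364612) F303157 (iv5 F335214)
theorem F383408 : act 1 n121483 = n191414 := d15_0 (iv0 D191414) (iv7 F368985) F368983
theorem F383409 : act 3 n128197 = n191414 := d20_3 F94640 D73112 (iv4 F348697) (iv1 F383408) F193844 F320834 F320471 F316435 (iv3 F339314) (iv1 D127903)
theorem F383410 : act 2 n191414 = n159054 := d0_1 F383409 F348502 (iv2 F298224) F343393 F356986
theorem F383411 : act 7 n191414 = n131474 := d8_2 (iv7 F356979) F383409 (iv3 F343517)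
theorem F383412 : act 6 n125096 = n191414 := d14_5 F383411 F359776 F352272 (iv6 D159059) (iv7 F354747)
def n191415 : Q := act 1 n98316
theorem D191415 : act 1 n98316 = n191415 := rfl
theorem F383413 : act 1 n191415 = n121483 := d15_1 D191415 F303164 (iv2 F335213)
theorem F383414 : act 7 n191415 = n159054 := d15_2 (iv0 D191414) D191415 (iv2 F383410)
theorem F383415 : act 4 n191415 = n101383 := d18_7 (iv1 F368112) F136920 F65052 (iv4 F34480) D46001 D98316 D191415 (iv0 F363839) (iv5 F368110)
theorem F383416 : act 3 n158231 = n191415 := d20_9 (iv4 D98316) D98314 D191411 F383400 (iv1 F271996) (iv3 F313112) F298187 (iv1 F253866) (iv4 F298230) (iv1 D191415)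
theorem F383417 : act 5 n131425 = n191415 := d21_6 (iv5 F88732) (iv1 F59150) (iv5 D36566) D36567 (iv1 F312401) D131425 (iv1 D191415) F335214 (iv6 D77635) (iv1 F88729)
theorem F383418 : act 2 n191415 = n131474 := d2_1 F383417 (iv5 D131474) (iv2 F210648)
theorem F383419 : act 6 n191415 = n178693 := d12_2 D131425 F383417 (iv5 F352278) (iv6 F352276) (iv5 D131424)
theorem F383420 : act 6 n164573 = n101383 := d10_2 F383419 F348478 (iv4 F383415)
theorem F383421 : act 3 n101396 = n164573 := d7_3 F383420 F156175 (iv6 F156196)
theorem F383422 : act 5 n101380 = n164573 := d12_5 F383420 (iv5 D101383) (iv6 D47187) D47186 D101380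
def n191416 : Q := act 0 n98333
theorem D191416 : act 0 n98333 = n191416 := rfl
theorem F383423 : act 4 n191416 = n175202 := d20_8 F298187 (iv1 F253866) (iv4 F298230) F383416 (iv1 D191415) (iv3 F381779) F381780 D191416 F363840 (iv1 F249564)
theorem F383424 : act 6 n191416 = n179312 := d21_5 (iv5 D96200) (iv1 F70579) D87852 (iv6 F308341) D191416 (iv5 F351357) F380287 (iv5 D190612) (iv6 D96241) (iv1 F147941)
theorem F383425 : act 2 n149213 = n191416 := d15_3 (iv0 D191416) (iv0 F361279) (iv7 F361277)
theorem F383426 : act 1 n184198 = n191416 := d15_0 (iv0 D191416) (iv7 F368993) F368990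
theorem F383427 : act 7 n191416 = n109564 := d15_2 (iv0 F361278) F383426 (iv2 F173701)
def n191417 : Q := act 4 n98334
theorem D191417 : act 4 n98334 = n191417 := rfl
theorem F383428 : act 2 n191417 = n182025 := d1_1 D191417 (iv4 D182025) (iv2 F151742)
theorem F383429 : act 6 n191417 = n132233 := d10_2 F234478 D191417 (iv4 F355252)
def n191418 : Q := act 5 n98335
theorem D191418 : act 5 n98335 = n191418 := rfl
theorem F383430 : act 2 n191418 = n98346 := d2_1 D191418 (iv5 D98346) F151745
theorem F383431 : act 3 n191418 = n182236 := d6_1 D191418 (iv5 D182236) (iv3 F151746)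
theorem F383432 : act 7 n191418 = n98347 := d13_2 (iv7 F151747) D191418 (iv5 D98347)
theorem F383433 : act 0 n191418 = n100177 := d17_2 D98335 D191418 (iv5 D100177) (iv4 F154120) (iv5 F369603) (iv0 F381742) (iv5 D190966) (iv0 D97099) (iv4 F72589)
theorem F383434 : act 0 n182265 = n191418 := d21_1 F294479 (iv5 D191418) (iv6 F367530) (iv1 D186642) (iv6 D88972) D88971 F294376 (iv5 D92040) (iv6 F294100) (iv1 F294478)
def n191419 : Q := act 0 n98336
theorem D191419 : act 0 n98336 = n191419 := rfl
theorem F383435 : act 5 n191419 = n183905 := d21_2 D98336 D191419 (iv6 F293666) (iv1 D90211) (iv6 F293362) D46896 D100519 F154572 (iv6 D87027) (iv1 F72598)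
theorem F383436 : act 2 n98349 = n191419 := d15_3 (iv0 D191419) (iv0 F151751) F283277
theorem F383437 : act 3 n191419 = n182979 := d0_2 (iv3 F283275) F383436 F289852 F135282 F134100
theorem F383438 : act 7 n191419 = n98350 := d4_2 F283277 F383436 F151780
theorem F383439 : act 1 n98352 = n191419 := d15_1 F151783 F383438 F151780
def n191420 : Q := act 4 n98336
theorem D191420 : act 4 n98336 = n191420 := rfl
theorem F383440 : act 2 n191420 = n98351 := d1_1 D191420 (iv4 D98351) (iv2 F151750)
def n191421 : Q := act 7 n98336
theorem D191421 : act 7 n98336 = n191421 := rfl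
theorem F383441 : act 2 n191421 = n98352 := d4_1 D191421 (iv7 D98352) (iv2 F151750)
theorem F383442 : act 5 n191421 = n98337 := d13_1 D191421 (iv7 D98337) D98336
theorem F383443 : act 1 n98350 = n191421 := d15_1 D98350 (iv7 D191421) F151750
theorem F383444 : act 1 n191421 = n98349 := d15_1 F383443 (iv7 F283277) (iv2 F151780)
def n191422 : Q := act 0 n98341
theorem D191422 : act 0 n98341 = n191422 := rfl
theorem F383445 : act 3 n191422 = n122600 := d20_5 (iv4 F123001) F340789 F307905 (iv3 F307595) D191422 F340978 (iv1 D100894) (iv4 F155038) F155037 F303001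
theorem F383446 : act 4 n191422 = n122621 := d20_0 (iv1 D122621) F299059 (iv3 D80554) (iv1 F297149) D37375 (iv4 F123001) F340789 F307905 (iv3 F307595) D191422
theorem F383447 : act 6 n191422 = n139979 := d21_5 (iv5 F192603) F192605 (iv5 D98340) D98341 D191422 (iv5 D139979) D139977 (iv5 F363475) F312608 (iv1 F151889)
theorem F383448 : act 5 n191422 = n139976 := d21_8 F223201 (iv1 F179982) (iv5 F223254) F354096 (iv1 F278148) (iv6 F366431) (iv5 F366435) D191422 (iv6 D139976) D139975
theorem F383449 : act 1 n127724 = n148484 := d17_8 (iv1 D148386) (iv5 F323492) (iv1 F337691) (iv5 F216548) F346119 (iv5 F383448) (iv0 D191422) F366435 F233246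
theorem F383450 : act 7 n170021 = n191422 := d13_0 F383448 (iv7 F334129) F334132
theorem F383451 : act 0 n191422 = n170259 := d20_4 (iv4 F191861) F304525 (iv4 F340978) (iv3 F383445) F267771 (iv4 F267774) F337178 F337176 F337172 (iv1 D151799)
def n191423 : Q := act 1 n98341
theorem D191423 : act 1 n98341 = n191423 := rfl
theorem F383452 : act 1 n191423 = n170259 := d15_1 D191423 F366572 F286164
theorem F383453 : act 5 n191423 = n149261 := d18_9 (iv1 D149261) (iv4 F234649) F362061 F225471 F309603 (iv4 F190352) (iv0 F310595) (iv4 F151771) D191423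
theorem F383454 : act 4 n122620 = n191423 := d20_0 (iv1 D191423) F151771 F72590 D46016 (iv3 F308587) (iv4 D36610) F297082 (iv4 F44226) (iv3 F90023) D122620
theorem F383455 : act 3 n131615 = n191423 := d20_3 F306565 (iv1 F333337) F350180 (iv1 D191423) F307595 (iv4 F307905) F340788 F303002 F300255 (iv1 F267521)
theorem F383456 : act 2 n191423 = n170021 := d0_1 F383455 (iv3 D170021) (iv2 F336878) (iv3 F340962) F350178
theorem F383457 : act 6 n191423 = n131612 := d7_2 D131615 F383455 (iv3 D131612)
def n191424 : Q := act 7 n98341
theorem D191424 : act 7 n98341 = n191424 := rfl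
theorem F383458 : act 2 n191424 = n170259 := d4_1 D191424 F366572 F286164
theorem F383459 : act 3 n191424 = n131596 := d8_1 D191424 (iv7 D131596) (iv3 F307595)
theorem F383460 : act 4 n191424 = n98345 := d11_1 D191424 (iv7 D98345) (iv4 F151771)
theorem F383461 : act 6 n191424 = n150449 := d14_1 D191424 (iv7 F301168) (iv6 D100062) F73842 D98341
theorem F383462 : act 1 n170021 = n191424 := d15_1 (iv0 F344409) (iv7 D191424) (iv2 F286164)
def n191425 : Q := act 5 n98343
theorem D191425 : act 5 n98343 = n191425 := rfl
theorem F383463 : act 3 n191425 = n179755 := d6_1 D191425 F279975 (iv3 F344403)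
theorem F383464 : act 4 n191425 = n138172 := d16_2 F344401 D191425 (iv5 D138172) (iv4 F333890) (iv5 F359633) F225471 F309603 (iv7 F319998) F319995
def n191426 : Q := act 1 n98344
theorem D191426 : act 1 n98344 = n191426 := rfl
theorem F383465 : act 5 n131167 = n191426 := d21_6 (iv5 D23342) (iv1 F34943) (iv5 F72636) D98482 (iv1 F366234) F305769 (iv1 D191426) (iv5 D98344) (iv6 D46011) F36470
theorem F383466 : act 0 n157402 = n131167 := d21_10 F383465 (iv1 D191426) (iv5 D98344) (iv6 D46011) F36470 D48202 D104167 F307756 (iv5 D157401) D157402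
theorem F383467 : act 1 n157402 = n131169 := d15_1 (iv0 F383466) F248448 F248446
def n191427 : Q := act 4 n98344
theorem D191427 : act 4 n98344 = n191427 := rfl
theorem F383468 : act 6 n191427 = n98351 := d10_2 (iv6 F151773) D191427 (iv4 D98351)
def n191428 : Q := act 7 n98344
theorem D191428 : act 7 n98344 = n191428 := rfl
theorem F383469 : act 3 n191428 = n98366 := d8_1 D191428 (iv7 D98366) (iv3 F151772)
theorem F383470 : act 5 n191428 = n98345 := d13_1 D191428 (iv7 D98345) D98344
def n191429 : Q := act 4 n98346
theorem D191429 : act 4 n98346 = n191429 := rfl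
theorem F383471 : act 7 n191429 = n182266 := d11_2 (iv7 F151776) D191429 (iv4 D182266)
def n191430 : Q := act 6 n98346
theorem D191430 : act 6 n98346 = n191430 := rfl
theorem F383472 : act 3 n191430 = n181974 := d7_1 D191430 (iv6 D181974) (iv3 F151775)
def n191431 : Q := act 4 n98347
theorem D191431 : act 4 n98347 = n191431 := rfl
theorem F383473 : act 2 n191431 = n182266 := d1_1 D191431 (iv4 D182266) (iv2 F151777)
theorem F383474 : act 0 n191431 = n139474 := d17_0 (iv5 D139474) D139472 F349147 (iv4 D185524) (iv5 D88376) D88374 D185523 (iv0 F287798) D191431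
def n191432 : Q := act 6 n98347
theorem D191432 : act 6 n98347 = n191432 := rfl
theorem F383475 : act 2 n191432 = n182267 := d3_1 D191432 (iv6 D182267) (iv2 F151777)
def n191433 : Q := act 5 n98348
theorem D191433 : act 5 n98348 = n191433 := rfl
theorem F383476 : act 2 n191433 = n100519 := d2_1 D191433 F154572 (iv2 F151778)
theorem F383477 : act 3 n191433 = n183975 := d6_1 D191433 F343915 (iv3 F362780)
theorem F383478 : act 4 n191433 = n106390 := d9_1 D191433 F163522 F94989 F46293 D33995 D74086 F325725 D103940 F352762 F177972 (iv4 D68095) (iv5 F86145) D118411 (iv5 F381635) F381633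
theorem F383479 : act 7 n191433 = n100520 := d13_2 F352761 D191433 (iv5 F352758)
theorem F383480 : act 0 n191433 = n99378 := d17_2 (iv1 F154639) D191433 (iv5 D99378) (iv4 F75372) F322866 F186074 (iv5 F365313) F365311 (iv4 F308756)
theorem F383481 : act 1 n191433 = n100517 := d17_6 D96205 F329975 F186070 (iv5 F381635) F381633 D191433 (iv5 D100517) F74097 (iv4 F70588)
theorem E103471 : n183986 = n129479 := (c20_1 D183986 (iv1 D129479) (iv4 F99818) (iv3 F219501) F372428 F372425 (iv4 D119213) F163524 (iv4 F383478) F383477 (iv1 F285857))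
theorem F383482 : act 4 n129479 = n87768 := (sb E103471 (iv4 D183986))
def n191434 : Q := act 4 n98349
theorem D191434 : act 4 n98349 = n191434 := rfl
theorem F383483 : act 7 n191434 = n185524 := d11_2 F283277 D191434 (iv4 D185524)
def n191435 : Q := act 6 n98349
theorem D191435 : act 6 n98349 = n191435 := rfl
theorem F383484 : act 3 n191435 = n182947 := d7_1 D191435 (iv6 D182947) (iv3 F283275)
theorem F383485 : act 5 n191435 = n188474 := d12_1 D191435 (iv6 D188474) (iv5 D92040) (iv6 F294100) F283276
def n191436 : Q := act 4 n98350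
theorem D191436 : act 4 n98350 = n191436 := rfl
theorem F383486 : act 2 n191436 = n185524 := d1_1 D191436 (iv4 D185524) (iv2 F151780)
def n191437 : Q := act 6 n98350
theorem D191437 : act 6 n98350 = n191437 := rfl
theorem F383487 : act 2 n191437 = n185414 := d3_1 D191437 F329967 (iv2 F151780)
def n191438 : Q := act 0 n98351
theorem D191438 : act 0 n98351 = n191438 := rfl
def n191439 : Q := act 1 n98351
theorem D191439 : act 1 n98351 = n191439 := rfl
def n191440 : Q := act 3 n98351
theorem D191440 : act 3 n98351 = n191440 := rfl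
theorem F383488 : act 4 n191440 = n98373 := d5_2 D98351 D191440 (iv3 D98373) (iv4 D46022) (iv3 F72594)
def n191441 : Q := act 5 n98351
theorem D191441 : act 5 n98351 = n191441 := rfl
def n191442 : Q := act 7 n98351
theorem D191442 : act 7 n98351 = n191442 := rfl
theorem F383489 : act 4 n191442 = n98352 := d11_1 D191442 (iv7 D98352) D98351
def n191443 : Q := act 6 n98352
theorem D191443 : act 6 n98352 = n191443 := rfl
theorem F383490 : act 3 n191443 = n98376 := d7_1 D191443 (iv6 D98376) (iv3 F151781)
theorem F383491 : act 5 n191443 = n117268 := d12_1 D191443 (iv6 F353233) F157444 F136296 (iv5 F151782)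
def n191444 : Q := act 1 n98356
theorem D191444 : act 1 n98356 = n191444 := rfl
theorem F383492 : act 1 n191444 = n98361 := d15_1 D191444 F274656 F274655
theorem F383493 : act 7 n191444 = n186635 := d15_2 (iv0 F152502) D191444 F367512
theorem F383494 : act 5 n191444 = n179819 := d17_7 (iv1 F249725) (iv5 F331833) F331837 (iv5 D80365) (iv4 F306709) D98356 D191444 (iv0 F362723) (iv4 F249721)
def n191445 : Q := act 4 n98356
theorem D191445 : act 4 n98356 = n191445 := rfl
def n191446 : Q := act 6 n98356
theorem D191446 : act 6 n98356 = n191446 := rfl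
theorem F383495 : act 3 n191446 = n167443 := d7_1 D191446 (iv6 D167443) (iv3 F308588)
theorem F383496 : act 5 n191446 = n177976 := d12_1 D191446 (iv6 D177976) F310671 (iv6 D98357) D98356
def n191447 : Q := act 4 n98361
theorem D191447 : act 4 n98361 = n191447 := rfl
theorem F383497 : act 5 n191447 = n188577 := d16_1 D191447 F374049 (iv5 F142936) F340912 (iv5 D80365) (iv4 F306709) D98356 (iv7 F274653) F274654
def n191448 : Q := act 6 n98361
theorem D191448 : act 6 n98361 = n191448 := rfl
theorem F383498 : act 0 n98613 = n191448 := d21_4 (iv5 D42339) D42336 D90469 F291066 (iv6 D191448) (iv5 D98361) (iv1 D46017) D46018 F72599 (iv1 F291674)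
def n191449 : Q := act 6 n98363
theorem D191449 : act 6 n98363 = n191449 := rfl
theorem F383499 : act 4 n191449 = n120415 := d10_1 D191449 (iv6 F368415) F368412
theorem F383500 : act 5 n191449 = n188090 := d12_1 D191449 (iv6 F372302) F310557 D123272 (iv5 F343483)
theorem F383501 : act 7 n191371 = n191449 := d11_0 F383499 (iv7 F366934) D191371
def n191450 : Q := act 6 n98364
theorem D191450 : act 6 n98364 = n191450 := rfl
def n191451 : Q := act 0 n98365
theorem D191451 : act 0 n98365 = n191451 := rfl
theorem F383502 : act 4 n191451 = n100907 := d18_3 (iv1 D98364) D98365 D191451 (iv5 F156677) F272680 (iv0 D172446) F155440 F275099 (iv5 F275091)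
theorem F383503 : act 2 n186881 = n191451 := d15_3 (iv0 D191451) (iv0 F272668) (iv7 F368404)
theorem F383504 : act 5 n191451 = n114127 := d2_2 F368859 F383503 (iv2 F240919)
theorem F383505 : act 7 n191451 = n186883 := d4_2 (iv7 F368404) F383503 F368406
def n191452 : Q := act 3 n98365
theorem D191452 : act 3 n98365 = n191452 := rfl
theorem F383506 : act 6 n191452 = n98373 := d7_2 (iv6 F151786) D191452 (iv3 D98373)
def n191453 : Q := act 5 n98365
theorem D191453 : act 5 n98365 = n191453 := rfl
theorem F383507 : act 6 n191453 = n153955 := d12_2 (iv6 F151786) D191453 (iv5 F355303) F336946 F290706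
theorem F383508 : act 4 n191453 = n188578 := d16_2 D98365 D191453 F374051 (iv4 F339457) F270519 F127156 (iv5 F153985) (iv7 D100059) F73835
theorem F383509 : act 1 n191453 = n187209 := d17_8 D187210 F369519 F339466 F339464 F178464 (iv5 F383504) (iv0 D191451) D191453 F369518
def n191454 : Q := act 7 n98365
theorem D191454 : act 7 n98365 = n191454 := rfl
theorem F383510 : act 4 n191454 = n98366 := d11_1 D191454 (iv7 D98366) D98365
theorem F383511 : act 1 n186883 = n191454 := d15_1 (iv0 F368407) (iv7 D191454) (iv2 F153982)
theorem F383512 : act 1 n191454 = n186881 := d15_1 F383511 F368404 (iv2 F368406)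
def n191455 : Q := act 6 n98366
theorem D191455 : act 6 n98366 = n191455 := rfl
theorem F383513 : act 5 n191455 = n100792 := d12_1 D191455 (iv6 D100792) F301799 F73848 (iv5 F151787)
theorem F383514 : act 7 n191455 = n98376 := d14_2 D98366 D191455 (iv6 D98376) (iv7 D46023) (iv6 F72599)
def n191456 : Q := act 4 n98369
theorem D191456 : act 4 n98369 = n191456 := rfl
theorem F383515 : act 7 n191456 = n188195 := d11_2 (iv7 F367220) D191456 (iv4 D188195)
def n191457 : Q := act 0 n98370
theorem D191457 : act 0 n98370 = n191457 := rfl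
def n191458 : Q := act 1 n98370
theorem D191458 : act 1 n98370 = n191458 := rfl
def n191459 : Q := act 7 n98370
theorem D191459 : act 7 n98370 = n191459 := rfl
theorem F383516 : act 5 n191459 = n191311 := d13_1 D191459 (iv7 D191311) (iv5 F151794)
theorem F383517 : act 6 n191459 = n188204 := d14_1 D191459 (iv7 D188204) F140109 F291471 D98370
def n191460 : Q := act 0 n98373
theorem D191460 : act 0 n98373 = n191460 := rfl
def n191461 : Q := act 1 n98373
theorem D191461 : act 1 n98373 = n191461 := rfl
def n191462 : Q := act 2 n98373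
theorem D191462 : act 2 n98373 = n191462 := rfl
def n191463 : Q := act 7 n98373
theorem D191463 : act 7 n98373 = n191463 := rfl
theorem F383518 : act 3 n191463 = n98375 := d8_1 D191463 (iv7 D98375) D98373
theorem F383519 : act 5 n191463 = n188749 := d13_1 D191463 F374697 F336948
def n191464 : Q := act 6 n98375
theorem D191464 : act 6 n98375 = n191464 := rfl
theorem F383520 : act 4 n191464 = n98376 := d10_1 D191464 (iv6 D98376) (iv4 F151801)
def n191465 : Q := act 0 n98376
theorem D191465 : act 0 n98376 = n191465 := rfl
def n191466 : Q := act 1 n98376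
theorem D191466 : act 1 n98376 = n191466 := rfl
def n191467 : Q := act 5 n98377
theorem D191467 : act 5 n98377 = n191467 := rfl
theorem F383521 : act 2 n191467 = n138028 := d2_1 D191467 F356325 (iv2 F151804)
theorem F383522 : act 3 n191467 = n182916 := d6_1 D191467 (iv5 D182916) (iv3 F151805)
theorem F383523 : act 6 n191467 = n138045 := d12_2 D98377 D191467 F342385 F331869 F91675
theorem F383524 : act 7 n191467 = n138029 := d13_2 (iv7 F157617) D191467 (iv5 F357353)
theorem F383525 : act 0 n191467 = n138031 := d17_2 (iv1 F157616) D191467 (iv5 F356317) (iv4 F370488) F370489 F356316 F356325 F157589 (iv4 F151856)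
theorem F383526 : act 1 n191467 = n98451 := d17_6 F294401 (iv5 F136890) (iv1 F357347) F357349 (iv4 F295390) D191467 (iv5 F376082) F378135 F378133
def n191468 : Q := act 5 n98378
theorem D191468 : act 5 n98378 = n191468 := rfl
theorem F383527 : act 2 n191468 = n98381 := d2_1 D191468 (iv5 D98381) (iv2 F151807)
theorem F383528 : act 3 n191468 = n150134 := d6_1 D191468 (iv5 D150134) (iv3 F151808)
def n191469 : Q := act 5 n98379
theorem D191469 : act 5 n98379 = n191469 := rfl
theorem F383529 : act 3 n191469 = n182925 := d6_1 D191469 (iv5 D182925) (iv3 F364400)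
def n191470 : Q := act 6 n98379
theorem D191470 : act 6 n98379 = n191470 := rfl
theorem F383530 : act 3 n191470 = n182926 := d7_1 D191470 (iv6 D182926) (iv3 F364400)
theorem F383531 : act 4 n191470 = n185982 := d10_1 D191470 (iv6 D185982) (iv4 F364401)
theorem F383532 : act 5 n191470 = n150554 := d21_6 (iv5 F89623) (iv1 D56666) F44067 D46026 D98379 D191470 (iv1 F305897) (iv5 F327681) (iv6 D99955) F73794
theorem F383533 : act 1 n183026 = n191470 := d17_6 (iv1 F342536) F342538 F306231 (iv5 F316290) (iv4 F181423) (iv5 F356218) F383532 (iv0 F237071) (iv4 D118725)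
def n191471 : Q := act 5 n98380
theorem D191471 : act 5 n98380 = n191471 := rfl
def n191472 : Q := act 6 n98380
theorem D191472 : act 6 n98380 = n191472 := rfl
theorem F383534 : act 3 n191472 = n98576 := d7_1 D191472 F371271 (iv3 F367431)
theorem F383535 : act 4 n191472 = n103637 := d10_1 D191472 F335414 (iv4 F364397)
def n191473 : Q := act 0 n98381
theorem D191473 : act 0 n98381 = n191473 := rfl
def n191474 : Q := act 1 n98381
theorem D191474 : act 1 n98381 = n191474 := rfl
theorem F383536 : act 5 n183757 = n191474 := d21_0 (iv1 D191474) (iv5 D98381) (iv6 D46026) D46024 D98377 D191467 F383525 (iv5 F356317) F356324 (iv1 F289911)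
def n191475 : Q := act 4 n98381
theorem D191475 : act 4 n98381 = n191475 := rfl
def n191476 : Q := act 7 n98381
theorem D191476 : act 7 n98381 = n191476 := rfl
theorem F383537 : act 3 n191476 = n98396 := d8_1 D191476 (iv7 D98396) (iv3 F151810)
theorem F383538 : act 5 n191476 = n98382 := d13_1 D191476 (iv7 D98382) D98381
def n191477 : Q := act 4 n98391
theorem D191477 : act 4 n98391 = n191477 := rfl
def n191478 : Q := act 6 n98391
theorem D191478 : act 6 n98391 = n191478 := rfl
theorem F383539 : act 5 n191478 = n141228 := d12_1 D191478 (iv6 F372257) (iv5 D188076) F356459 D98391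
theorem F383540 : act 0 n124158 = n191478 := d21_4 F191767 F121514 D57862 (iv6 F198615) (iv6 D191478) (iv5 D98391) (iv1 D46028) D46029 (iv6 F89630) (iv1 F302006)
def n191479 : Q := act 4 n98394
theorem D191479 : act 4 n98394 = n191479 := rfl
theorem F383541 : act 0 n191479 = n191372 := d18_2 (iv1 F195858) D191479 (iv4 D191372) (iv5 D98165) F72423 (iv0 F335729) F335702 F89712 (iv5 F195856)
def n191480 : Q := act 6 n98394
theorem D191480 : act 6 n98394 = n191480 := rfl
theorem F383542 : act 5 n191480 = n177867 := d12_1 D191480 (iv6 D177867) (iv5 D84681) D84682 F151814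
def n191481 : Q := act 0 n98395
theorem D191481 : act 0 n98395 = n191481 := rfl
theorem F383543 : act 4 n191481 = n191328 := d18_3 (iv1 D98394) D98395 D191481 F383066 F157208 F74796 (iv4 F289859) F277450 F151814
def n191482 : Q := act 3 n98395
theorem D191482 : act 3 n98395 = n191482 := rfl
def n191483 : Q := act 5 n98395
theorem D191483 : act 5 n98395 = n191483 := rfl
def n191484 : Q := act 7 n98395
theorem D191484 : act 7 n98395 = n191484 := rfl
theorem F383544 : act 4 n191484 = n98396 := d11_1 D191484 (iv7 D98396) D98395
def n191485 : Q := act 5 n98433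
theorem D191485 : act 5 n98433 = n191485 := rfl
theorem F383545 : act 2 n191485 = n138029 := d2_1 D191485 (iv5 F357353) F152038
theorem F383546 : act 3 n191485 = n98565 := d6_1 D191485 (iv5 D98565) (iv3 F151858)
theorem F383547 : act 7 n191485 = n138028 := d13_2 F157590 D191485 F356325
theorem F383548 : act 0 n191485 = n98451 := d17_2 F295460 D191485 (iv5 F376082) F376081 (iv5 D138030) D138029 (iv5 F357353) (iv0 F152041) (iv4 F295463)
theorem F383549 : act 1 n191485 = n138031 := d17_6 (iv1 D96442) D96444 (iv1 F356329) F356331 (iv4 F295381) D191485 (iv5 F356317) (iv0 F370104) F350430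
def n191486 : Q := act 6 n98434
theorem D191486 : act 6 n98434 = n191486 := rfl
theorem F383550 : act 2 n191486 = n98436 := d3_1 D191486 (iv6 D98436) D98434
theorem F383551 : act 3 n191486 = n137632 := d7_1 D191486 F329310 (iv3 F151855)
theorem F383552 : act 4 n191486 = n98436 := d10_1 D191486 (iv6 D98436) F151856
theorem F383553 : act 0 n186488 = n191486 := d20_1 (iv4 F289354) F383552 F151860 (iv1 F335647) F137229 F64465 (iv1 F290637) D42140 D90157 F291153
def n191487 : Q := act 4 n98435
theorem D191487 : act 4 n98435 = n191487 := rfl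
theorem F383554 : act 3 n191487 = n108799 := d5_1 D191487 (iv4 D108799) (iv3 F164328) F326834 (iv3 F151859)
theorem F383555 : act 7 n191487 = n134927 := d11_2 (iv7 F356277) D191487 F217125
def n191488 : Q := act 6 n98435
theorem D191488 : act 6 n98435 = n191488 := rfl
theorem F383556 : act 3 n191488 = n98440 := d7_1 D191488 (iv6 D98440) (iv3 F151859)
def n191489 : Q := act 0 n98436
theorem D191489 : act 0 n98436 = n191489 := rfl
theorem F383557 : act 4 n191489 = n186493 := d20_0 (iv1 F289369) F283699 (iv3 D182257) F133556 (iv3 F135183) (iv4 F136376) F335697 F295314 (iv3 F151860) D191489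
theorem F383558 : act 7 n186488 = n191489 := d11_0 F383557 (iv7 D186493) (iv4 F289354)
theorem F383559 : act 3 n183486 = n191489 := d20_5 (iv4 F63982) F69721 (iv4 F63049) (iv3 F134464) D183486 F383557 (iv1 F289369) F283699 (iv3 D182257) F133556
def n191490 : Q := act 5 n98436
theorem D191490 : act 5 n98436 = n191490 := rfl
theorem F383560 : act 3 n191490 = n98443 := d6_1 D191490 (iv5 D98443) (iv3 F151860)
theorem F383561 : act 0 n191490 = n183767 := d17_2 F383390 D191490 (iv5 D183767) (iv4 D87679) D87680 F160580 F157123 F289297 (iv4 F383378)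
theorem F383562 : act 0 n183756 = n191490 := d21_1 D183756 (iv5 D191490) (iv6 D98436) (iv1 F157616) (iv6 D98377) (iv5 F91675) (iv1 F91677) (iv5 F61993) D87752 (iv1 F289776)
def n191491 : Q := act 0 n98440
theorem D191491 : act 0 n98440 = n191491 := rfl
theorem F383563 : act 5 n191491 = n135209 := d17_1 D191491 (iv1 D135209) (iv5 D63530) F48190 F23766 D30002 D63539 (iv0 F169028) (iv4 F341434)
theorem F383564 : act 4 n191491 = n132160 := d18_3 F169029 (iv4 F341434) D191491 (iv5 D132160) (iv4 F98838) F98837 F98274 F48192 D63534
theorem F383565 : act 6 n134877 = n191491 := d10_0 F383564 (iv6 F211961) (iv4 F217062)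
theorem F383566 : act 0 n191491 = n133289 := d20_7 D63683 F99015 F96805 (iv3 F164069) F96588 (iv3 F211681) (iv4 F383564) F214253 F97533 F48276
def n191492 : Q := act 5 n98440
theorem D191492 : act 5 n98440 = n191492 := rfl
theorem F383567 : act 6 n191492 = n98443 := d12_2 D98440 D191492 (iv5 D98443) (iv6 D46044) D46043
theorem F383568 : act 1 n191492 = n134445 := d17_6 D29859 D63153 F168726 (iv5 F169026) (iv4 F341434) D191492 (iv5 D134445) (iv0 D63147) F48010
theorem F383569 : act 0 n191492 = n134448 := d21_1 D191492 (iv5 D134448) (iv6 F326055) (iv1 D127038) F325101 (iv5 F325791) (iv1 F197823) (iv5 D123445) D123446 F306407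
def n191493 : Q := act 7 n98440
theorem D191493 : act 7 n98440 = n191493 := rfl
theorem F383570 : act 2 n191493 = n133289 := d4_1 D191493 F214254 F341433
theorem F383571 : act 4 n191493 = n108800 := d11_1 D191493 (iv7 F169027) (iv4 F341434)
theorem F383572 : act 6 n191493 = n108799 := d14_1 D191493 F168722 F98719 (iv7 F325980) D98440
def n191494 : Q := act 4 n98443
theorem D191494 : act 4 n98443 = n191494 := rfl
theorem F383573 : act 2 n191494 = n185127 := d1_1 D191494 F287492 (iv2 F289999)
theorem F383574 : act 7 n191494 = n185126 := d11_2 F290018 D191494 (iv4 F364220)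
theorem F383575 : act 0 n191494 = n185110 := d18_2 F151862 D191494 (iv4 D185110) (iv5 D88228) (iv4 F73663) F73665 D47520 (iv0 F289736) D84681
theorem F383576 : act 1 n191494 = n102379 := d18_6 (iv1 D185223) (iv4 F136376) F335697 F295314 D98443 D191494 (iv4 D102379) D102378 F356392
def n191495 : Q := act 5 n98461
theorem D191495 : act 5 n98461 = n191495 := rfl
theorem F383577 : act 2 n191495 = n98465 := d2_1 D191495 (iv5 D98465) (iv2 F151869)
theorem F383578 : act 3 n191495 = n183393 := d6_1 D191495 (iv5 D183393) (iv3 F151870)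
theorem F383579 : act 6 n191495 = n99923 := d12_2 D98461 D191495 (iv5 D99923) (iv6 D46671) (iv5 F72632)
def n191496 : Q := act 5 n98463
theorem D191496 : act 5 n98463 = n191496 := rfl
theorem F383580 : act 3 n191496 = n154836 := d6_1 D191496 (iv5 D154836) (iv3 F340199)
def n191497 : Q := act 4 n98464
theorem D191497 : act 4 n98464 = n191497 := rfl
theorem F383581 : act 2 n191497 = n128169 := d1_1 D191497 (iv4 F277181) F340210
theorem F383582 : act 3 n191497 = n126912 := d5_1 D191497 F328132 (iv3 F337524) F337525 F363622
theorem F383583 : act 6 n191497 = n135318 := d10_2 F363618 D191497 F357812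
theorem F383584 : act 7 n191497 = n128168 := d11_2 (iv7 F340212) D191497 (iv4 F321380)
theorem F383585 : act 0 n191497 = n128166 := d20_7 F252682 F332404 F268349 F241800 (iv1 F241858) F363622 D191497 F306761 D153811 (iv1 F361522)
theorem F383586 : act 0 n128171 = n191497 := d20_10 (iv4 D191497) (iv1 D98464) F315046 D172024 F343957 (iv3 D128110) F190724 (iv1 F109308) F109304 (iv3 F206308)
theorem F383587 : act 5 n126911 = n191497 := d6_0 F383582 (iv5 D126912) D126911
theorem F383588 : act 1 n135408 = n126911 := d17_6 F304764 D84763 (iv1 F366915) (iv5 F366444) F217641 D135408 F383587 (iv0 F383586) (iv4 F304765)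
def n191498 : Q := act 5 n98464
theorem D191498 : act 5 n98464 = n191498 := rfl
def n191499 : Q := act 0 n98465
theorem D191499 : act 0 n98465 = n191499 := rfl
def n191500 : Q := act 1 n98465
theorem D191500 : act 1 n98465 = n191500 := rfl
def n191501 : Q := act 7 n98465
theorem D191501 : act 7 n98465 = n191501 := rfl
theorem F383589 : act 3 n191501 = n98480 := d8_1 D191501 (iv7 D98480) (iv3 F151872)
theorem F383590 : act 5 n191501 = n98466 := d13_1 D191501 (iv7 D98466) D98465
def n191502 : Q := act 6 n98477
theorem D191502 : act 6 n98477 = n191502 := rfl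
theorem F383591 : act 5 n191502 = n98599 := d12_1 D191502 (iv6 F367690) (iv5 F367689) (iv6 F274975) F274977
def n191503 : Q := act 3 n98479
theorem D191503 : act 3 n98479 = n191503 := rfl
theorem F383592 : act 6 n191503 = n99940 := d7_2 (iv6 F151878) D191503 (iv3 D99940)
def n191504 : Q := act 7 n98479
theorem D191504 : act 7 n98479 = n191504 := rfl
theorem F383593 : act 4 n191504 = n98480 := d11_1 D191504 (iv7 D98480) D98479
theorem F383594 : act 1 n175530 = n191504 := d15_1 F367503 (iv7 D191504) (iv2 F367501)
theorem F383595 : act 1 n191504 = n175525 := d15_1 F383594 (iv7 F338128) F338129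
def n191505 : Q := act 6 n98480
theorem D191505 : act 6 n98480 = n191505 := rfl
theorem F383596 : act 5 n191505 = n102410 := d12_1 D191505 (iv6 F367495) F367494 F136507 (iv5 F151879)
theorem F383597 : act 7 n191505 = n99943 := d14_2 D98480 D191505 (iv6 D99943) (iv7 D46678) (iv6 F72635)
def n191506 : Q := act 6 n98481
theorem D191506 : act 6 n98481 = n191506 := rfl
theorem F383598 : act 2 n191506 = n98486 := d3_1 D191506 (iv6 D98486) (iv2 F151880)
theorem F383599 : act 3 n191506 = n180820 := d7_1 D191506 (iv6 D180820) (iv3 F151883)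
theorem F383600 : act 4 n191506 = n98482 := d10_1 D191506 (iv6 D98482) D98481
theorem F383601 : act 0 n191506 = n150080 := d21_4 F303425 D114560 F301484 D191506 (iv6 F236173) (iv5 F366565) (iv1 F383449) (iv5 F366435) (iv6 D98341) D98338
theorem F383602 : act 5 n191506 = n101290 := d21_6 F316292 F313843 F341999 (iv6 D181285) (iv1 F151882) D191506 (iv1 D101290) D101291 (iv6 F309904) D157439
theorem F383603 : act 0 n150078 = n191506 := d17_2 D70615 D150078 F383602 (iv4 F332039) (iv5 F332035) (iv0 F342370) (iv5 D120231) F155522 F52495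
theorem F383604 : act 0 n186624 = n174812 := d20_4 F346682 F383603 F383600 (iv3 F367477) (iv3 D174812) (iv4 D83512) (iv1 F128605) (iv4 F321038) F351869 F361941
def n191507 : Q := act 5 n98482
theorem D191507 : act 5 n98482 = n191507 := rfl
theorem F383605 : act 2 n191507 = n98489 := d2_1 D191507 (iv5 D98489) (iv2 F151884)
theorem F383606 : act 6 n191507 = n99946 := d12_2 D98482 D191507 (iv5 D99946) (iv6 D46681) (iv5 F72636)
theorem F383607 : act 1 n191507 = n153304 := d17_6 (iv1 F215549) (iv5 F257302) (iv1 F332044) (iv5 F383602) F383600 D191507 (iv5 D153304) D153303 F312488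
def n191508 : Q := act 6 n98483
theorem D191508 : act 6 n98483 = n191508 := rfl
theorem F383608 : act 3 n191508 = n123178 := d7_1 D191508 (iv6 D123178) (iv3 F151886)
theorem F383609 : act 4 n191508 = n181149 := d10_1 D191508 (iv6 D181149) (iv4 F151885)
theorem F383610 : act 0 n98537 = n191508 := d21_4 (iv5 F240933) F240934 (iv5 F197920) F359373 (iv6 D191508) (iv5 F186620) F186622 F156069 (iv6 F298492) (iv1 F191790)
theorem F383611 : act 5 n145933 = n191508 := d21_8 F301499 (iv1 D60043) D60044 F94557 D60049 D127856 F205733 D145933 (iv6 D191508) (iv1 F151887)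
theorem F383612 : act 1 n183398 = n191508 := d15_0 (iv0 F383610) (iv7 F367681) F367679
def n191509 : Q := act 1 n98486
theorem D191509 : act 1 n98486 = n191509 := rfl
theorem F383613 : act 7 n191509 = n150080 := d15_2 (iv0 F344055) D191509 F236171
theorem F383614 : act 5 n191509 = n150076 := d17_7 F155568 D164529 F259338 (iv5 D155132) (iv4 F243952) (iv5 F351944) D191509 (iv0 D150076) F107082
theorem F383615 : act 3 n150420 = n191509 := d20_3 D154619 F345682 F345680 (iv1 D191509) (iv3 F344052) (iv4 F344051) F344049 F312351 F112581 (iv1 F112564)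
theorem F383616 : act 2 n191509 = n150078 := d0_1 F383615 F236165 F234044 (iv3 F234025) (iv2 F236798)
def n191510 : Q := act 7 n98486
theorem D191510 : act 7 n98486 = n191510 := rfl
theorem F383617 : act 3 n191510 = n150095 := d8_1 D191510 F236205 F344052
theorem F383618 : act 4 n191510 = n98490 := d11_1 D191510 (iv7 D98490) (iv4 F151896)
theorem F383619 : act 5 n191510 = n101289 := d13_1 D191510 F350950 (iv5 F351944)
theorem F383620 : act 1 n150078 = n191510 := d15_1 (iv0 F383603) (iv7 D191510) (iv2 F383598)
theorem F383621 : act 1 n191510 = n150080 := d15_1 F383620 (iv7 F383613) F383616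
theorem F383622 : act 3 n123548 = n154065 := d20_3 (iv4 F383618) (iv1 F383620) (iv4 F346682) (iv1 D154065) F109456 F52915 D33626 (iv4 F190922) D118087 (iv1 F366232)
theorem F383623 : act 6 n154065 = n123545 := d7_2 D123548 F383622 (iv3 D123545)
def n191511 : Q := act 0 n98489
theorem D191511 : act 0 n98489 = n191511 := rfl
theorem F383624 : act 5 n191511 = n120182 := d17_3 (iv1 D98488) D98489 D191511 (iv4 D120182) F87520 F130752 D73661 (iv0 F120205) (iv4 F319955)
theorem F383625 : act 3 n153312 = n191511 := d6_3 F383624 F311979 (iv5 F240870)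
theorem F383626 : act 7 n153304 = n191511 := d13_0 F383624 F311980 D153304
def n191512 : Q := act 1 n98489
theorem D191512 : act 1 n98489 = n191512 := rfl
theorem F383627 : act 5 n191512 = n122828 := d17_7 F381153 (iv5 F310340) F310338 (iv5 F351944) F151896 D98489 D191512 F362500 (iv4 F381154)
theorem F383628 : act 3 n122834 = n191512 := d20_3 (iv4 F220138) F227572 (iv4 F338809) (iv1 D191512) F151897 D98503 (iv1 F272743) (iv4 D99726) F326321 F220141
theorem F383629 : act 2 n191512 = n153304 := d0_1 F383628 F240866 (iv2 F240479) (iv3 F328824) F328823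
def n191513 : Q := act 4 n98489
theorem D191513 : act 4 n98489 = n191513 := rfl
theorem F383630 : act 6 n191513 = n99953 := d10_2 (iv6 F151898) D191513 (iv4 D99953)
def n191514 : Q := act 7 n98489
theorem D191514 : act 7 n98489 = n191514 := rfl
theorem F383631 : act 3 n191514 = n98504 := d8_1 D191514 (iv7 D98504) (iv3 F151897)
theorem F383632 : act 5 n191514 = n98490 := d13_1 D191514 (iv7 D98490) D98489
theorem F383633 : act 1 n153304 = n191514 := d15_1 F383607 (iv7 D191514) (iv2 F383605)
def n191515 : Q := act 1 n98494
theorem D191515 : act 1 n98494 = n191515 := rfl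
theorem F383634 : act 1 n191515 = n98499 := d15_1 D191515 (iv7 F275087) F275086
theorem F383635 : act 5 n191515 = n167068 := d17_7 (iv1 F263167) (iv5 F346473) (iv1 D101644) (iv5 D47273) F156573 D98494 D191515 (iv0 F333416) (iv4 F304820)
theorem F383636 : act 2 n102628 = n191515 := d2_3 F383635 (iv2 F333418) (iv5 F157829)
theorem F383637 : act 3 n136094 = n191515 := d6_3 F383635 F333411 (iv5 F362510)
theorem F383638 : act 6 n99857 = n191515 := d12_0 F383635 F333412 (iv5 F272842) D186695 F367709
theorem F383639 : act 4 n191515 = n137489 := d10_1 F383638 (iv6 D137489) (iv4 F333104)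
theorem F383640 : act 0 n137489 = n99702 := d18_2 (iv1 F383634) F383639 (iv4 D99702) (iv5 D46581) D46580 (iv0 F272738) F72374 D46061 D98499
theorem F383641 : act 1 n137489 = n99718 := d18_6 (iv1 F307569) D101849 (iv1 F272861) F333410 (iv5 F383635) F383639 (iv4 D99718) F153510 F307572
theorem F383642 : act 5 n190925 = n102217 := d21_8 F331273 (iv1 F340527) F221261 D137489 F383640 (iv6 F381570) (iv5 D190927) D190925 F365459 (iv1 F218669)
def n191516 : Q := act 4 n98494
theorem D191516 : act 4 n98494 = n191516 := rfl
theorem F383643 : act 5 n191516 = n101881 := d17_5 (iv1 D98502) (iv5 D46062) D46060 D98494 D191516 (iv0 D101881) (iv5 D47341) D47339 (iv4 F274517)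
theorem F383644 : act 0 n191516 = n101770 := d18_2 (iv1 D191515) D191516 (iv4 D101770) F74536 F304824 (iv0 D80216) (iv4 F123204) D167068 (iv5 F383635)
theorem F383645 : act 1 n191516 = n101773 := d18_6 (iv1 D10754) (iv4 F17285) D22730 F156573 D98494 D191516 (iv4 D101773) F74537 (iv5 D22742)
def n191517 : Q := act 6 n98494
theorem D191517 : act 6 n98494 = n191517 := rfl
theorem F383646 : act 3 n191517 = n161959 := d7_1 D191517 (iv6 D161959) (iv3 F314156)
theorem F383647 : act 0 n191517 = n102505 := d21_4 (iv5 D46062) D46060 D98494 D191517 (iv6 D102505) D102504 F349495 D143400 F349506 (iv1 D98502)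
def n191518 : Q := act 5 n98497
theorem D191518 : act 5 n98497 = n191518 := rfl
theorem F383648 : act 3 n191518 = n98499 := d6_1 D191518 (iv5 D98499) D98497
def n191519 : Q := act 4 n98499
theorem D191519 : act 4 n98499 = n191519 := rfl
theorem F383649 : act 0 n191519 = n101773 := d18_2 (iv1 F275131) D191519 (iv4 D101773) (iv5 F155836) F307561 F263167 F304820 (iv0 D100498) D100500
theorem F383650 : act 1 n191519 = n101770 := d18_6 (iv1 F34822) (iv4 F59440) (iv1 F59442) F156571 D98499 D191519 (iv4 D101770) (iv0 D47303) (iv5 D22737)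
theorem F383651 : act 5 n101882 = n191519 := d17_7 (iv1 F74540) (iv5 D22742) (iv1 D10754) D10755 D22746 D47341 D101882 F383650 (iv4 D101770)
def n191520 : Q := act 6 n98499
theorem D191520 : act 6 n98499 = n191520 := rfl
theorem F383652 : act 2 n191520 = n102490 := d3_1 D191520 (iv6 F311713) F311712
theorem F383653 : act 0 n99830 = n191520 := d21_4 (iv5 D41812) D41810 (iv5 F73655) D99830 (iv6 D191520) (iv5 D98499) (iv1 D46061) D46062 F72641 (iv1 F64471)
theorem F383654 : act 7 n102491 = n191520 := d15_2 (iv0 D102490) D102491 F383652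
def n191521 : Q := act 3 n98503
theorem D191521 : act 3 n98503 = n191521 := rfl
theorem F383655 : act 6 n191521 = n99954 := d7_2 (iv6 F151903) D191521 (iv3 D99954)
theorem F383656 : act 0 n109729 = n191521 := d21_4 (iv5 D50417) (iv1 F39430) (iv5 F79990) D109729 F383655 (iv5 F368992) F368994 (iv5 F174120) (iv6 D112017) (iv1 F81569)
def n191522 : Q := act 5 n98503
theorem D191522 : act 5 n98503 = n191522 := rfl
def n191523 : Q := act 6 n98504
theorem D191523 : act 6 n98504 = n191523 := rfl
theorem F383657 : act 2 n191523 = n102410 := d3_1 D191523 (iv6 F367495) F367493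
theorem F383658 : act 4 n191523 = n189914 := d10_1 D191523 F378226 F156803
theorem F383659 : act 7 n191523 = n99819 := d14_2 D98504 D191523 (iv6 D99819) F73638 (iv6 F72641)
theorem F383660 : act 1 n102409 = n191523 := d15_1 D102409 F383659 F153671
theorem F383661 : act 0 n102408 = n191523 := d18_2 D186985 (iv4 F368768) F383658 F378225 (iv4 F294871) F294869 D99480 (iv0 F177359) (iv5 F359411)
def n191524 : Q := act 5 n98511
theorem D191524 : act 5 n98511 = n191524 := rfl
theorem F383662 : act 3 n191524 = n138044 := d6_1 D191524 F361492 F332399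
theorem F383663 : act 0 n98550 = n191524 := d19_0 (iv5 D191524) F332397 F325031 F303986 F318956 (iv4 D74080) (iv3 F209904) (iv1 D73374) F308493 F297735 F296468 (iv1 D13231) D13232 D27725 D58188 D124615 F352205 (iv4 D98551) D98550
def n191525 : Q := act 5 n98513
theorem D191525 : act 5 n98513 = n191525 := rfl
theorem F383664 : act 2 n191525 = n98515 := d2_1 D191525 (iv5 D98515) D98513
theorem F383665 : act 3 n191525 = n183399 := d6_1 D191525 (iv5 D183399) F233022
def n191526 : Q := act 0 n98515
theorem D191526 : act 0 n98515 = n191526 := rfl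
def n191527 : Q := act 1 n98515
theorem D191527 : act 1 n98515 = n191527 := rfl
def n191528 : Q := act 6 n98515
theorem D191528 : act 6 n98515 = n191528 := rfl
theorem F383666 : act 3 n191528 = n98527 := d7_1 D191528 (iv6 D98527) (iv3 F151913)
def n191529 : Q := act 5 n98516
theorem D191529 : act 5 n98516 = n191529 := rfl
theorem F383667 : act 3 n191529 = n98531 := d6_1 D191529 (iv5 D98531) (iv3 F151914)
theorem F383668 : act 7 n191529 = n100125 := d13_2 (iv7 F345807) D191529 F342230
theorem F383669 : act 0 n191529 = n191402 := d21_7 F73827 (iv1 F64048) D45991 D98291 F344995 D98516 D191529 (iv5 D191402) (iv6 D98299) (iv1 F73829)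
def n191530 : Q := act 2 n98520
theorem D191530 : act 2 n98520 = n191530 := rfl
theorem F383670 : act 3 n191530 = n121480 := d0_2 D98520 D191530 F303158 F184761 F268269
theorem F383671 : act 6 n191530 = n155112 := d3_2 (iv6 F350943) D191530 F360164
theorem F383672 : act 7 n191530 = n155077 := d4_2 (iv7 F315045) D191530 F243889
theorem F383673 : act 1 n191530 = n119663 := d15_0 F315041 (iv7 F315045) D191530
theorem F383674 : act 1 n172410 = n191530 := d15_0 F383673 F188758 (iv2 F313109)
def n191531 : Q := act 5 n98520
theorem D191531 : act 5 n98520 = n191531 := rfl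
theorem F383675 : act 3 n191531 = n98521 := d6_1 D191531 (iv5 D98521) D98520
theorem F383676 : act 7 n191531 = n172783 := d13_2 (iv7 F315045) D191531 (iv5 D172783)
def n191532 : Q := act 0 n98521
theorem D191532 : act 0 n98521 = n191532 := rfl
theorem F383677 : act 5 n191532 = n174021 := d17_3 F184673 D98521 D191532 F272673 (iv5 F368058) (iv0 D186803) (iv5 D89180) (iv0 D41657) (iv4 F54744)
theorem F383678 : act 4 n191532 = n124665 := d18_1 D191532 (iv1 F277089) (iv4 F336432) (iv5 D158386) F184696 F64283 (iv4 F58867) (iv0 F184672) D98521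
theorem F383679 : act 2 n155469 = n191532 := d15_3 (iv0 D191532) (iv0 F359842) (iv7 F352183)
theorem F383680 : act 1 n98541 = n191532 := d15_0 (iv0 D191532) (iv7 F268297) (iv2 F268298)
theorem F383681 : act 7 n191532 = n124664 := d15_2 F359843 F383680 (iv2 F352178)
theorem F383682 : act 6 n124560 = n191532 := d21_9 (iv5 D98541) (iv1 F184674) F297058 (iv6 D75380) F54736 D39950 D86330 D180746 F374621 (iv1 F383680)
theorem F383683 : act 3 n191532 = n124534 := d7_1 F383682 F199195 D124560
def n191533 : Q := act 4 n98521
theorem D191533 : act 4 n98521 = n191533 := rfl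
theorem F383684 : act 2 n191533 = n172846 := d1_1 D191533 (iv4 D172846) (iv2 F268293)
theorem F383685 : act 7 n191533 = n172857 := d11_2 F268297 D191533 (iv4 D172857)
theorem F383686 : act 1 n191533 = n147436 := d18_6 (iv1 D38603) F29557 D22004 D46066 D98521 D191533 F231225 F346420 (iv5 D83786)
theorem F383687 : act 3 n121741 = n191533 := d20_5 (iv4 F315211) F85693 (iv4 F316527) (iv3 F88978) D121741 (iv4 D191533) D191532 F383678 F199412 (iv1 F92080)
def n191534 : Q := act 6 n98521
theorem D191534 : act 6 n98521 = n191534 := rfl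
theorem F383688 : act 2 n191534 = n172847 := d3_1 D191534 (iv6 D172847) (iv2 F268293)
theorem F383689 : act 5 n191534 = n174498 := d12_1 D191534 (iv6 D174498) (iv5 F184678) (iv6 D98522) D98521
theorem F383690 : act 0 n191534 = n160738 := d21_10 F366958 (iv1 D174526) F298302 (iv6 D78047) F56274 D75380 (iv5 F297058) F184673 D98521 D191534
theorem F383691 : act 0 n162582 = n174498 := d21_7 F383677 F338120 (iv5 D172866) (iv6 F348513) F348510 F344839 D162582 (iv5 F383689) (iv6 D191534) D191532
def n191535 : Q := act 4 n98524
theorem D191535 : act 4 n98524 = n191535 := rfl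
theorem F383692 : act 3 n191535 = n127405 := d5_1 D191535 F204760 (iv3 F204766) D188775 F374841
theorem F383693 : act 0 n191535 = n101522 := d18_2 D98524 D191535 (iv4 D101522) (iv5 D47230) F184686 F113386 F113383 F64191 D46067
theorem F383694 : act 1 n191535 = n101506 := d15_1 (iv0 F383693) F352514 (iv2 F352513)
def n191536 : Q := act 6 n98524
theorem D191536 : act 6 n98524 = n191536 := rfl
theorem F383695 : act 5 n191536 = n191448 := d12_1 D191536 (iv6 D191448) (iv5 D98361) D98362 (iv5 F151921)
def n191537 : Q := act 4 n98525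
theorem D191537 : act 4 n98525 = n191537 := rfl
theorem F383696 : act 3 n191537 = n129185 := d5_1 D191537 (iv4 D129185) (iv3 F328649) F198044 F366873
theorem F383697 : act 0 n191537 = n101506 := d18_2 (iv1 F151922) D191537 (iv4 D101506) (iv5 D47225) F184683 (iv0 D38602) F29557 D22005 D46072
theorem F383698 : act 3 n127375 = n98543 := d20_5 F211233 (iv1 F164290) (iv4 F211180) F358167 (iv1 F204684) (iv4 D98543) (iv1 F151922) D191537 F383696 (iv1 F211236)
theorem F383699 : act 0 n101522 = n191537 := d20_7 (iv4 F328257) (iv1 F98304) (iv4 F329054) (iv3 F191144) (iv1 D73075) F306913 D101522 (iv4 D191537) (iv3 F366873) (iv1 F197152)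
theorem F383700 : act 3 n186691 = n113664 := d8_3 (iv7 F204686) F383698 (iv7 F367693)
theorem F383701 : act 0 n127376 = n146882 := d20_1 D127376 F230270 F204753 D127405 (iv3 F383692) (iv4 D191535) (iv1 F151925) D98543 (iv3 F383698) (iv1 D127375)
def n191538 : Q := act 5 n98525
theorem D191538 : act 5 n98525 = n191538 := rfl
theorem F383702 : act 2 n191538 = n100484 := d2_1 D191538 F367689 (iv2 F367691)
theorem F383703 : act 3 n191538 = n120635 := d6_1 D191538 F302061 F366873
theorem F383704 : act 7 n191538 = n100055 := d13_2 (iv7 F366872) D191538 (iv5 F304693)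
theorem F383705 : act 4 n191538 = n158536 := d17_4 (iv1 F64190) D46072 (iv1 F151922) D191538 (iv5 F346421) F346420 (iv5 D83786) F113386 F113383
theorem F383706 : act 1 n191538 = n100485 := d17_8 (iv1 F272788) (iv5 F352179) F359842 (iv5 D98521) (iv4 D46066) D46067 D98525 D191538 F272840
theorem F383707 : act 6 n98525 = n186719 := d21_3 F272842 (iv1 F383706) (iv5 D191538) (iv1 D186719) (iv6 D89067) (iv5 D41600) (iv1 D19588) D19589 (iv6 F64186) D89053
theorem F383708 : act 6 n100120 = n191538 := d21_5 (iv5 F154036) (iv1 F154041) (iv5 D46735) D46736 D100120 (iv5 D191538) (iv1 D98525) (iv5 D46067) D46068 (iv1 F275137)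
theorem F383709 : act 0 n191538 = n99364 := d21_10 F153017 (iv1 D89054) (iv5 D41590) (iv6 D19586) (iv1 F31304) D41531 D88946 F338082 F338075 F383708
theorem F383710 : act 2 n186719 = n98599 := d3_1 F383707 (iv6 F367690) (iv2 F367691)
theorem F383711 : act 7 n98598 = n186719 := d15_2 F367783 F367784 F383710
theorem F383712 : act 7 n186718 = n98599 := d15_2 F367779 F367782 (iv2 F383710)
theorem F383713 : act 2 n98598 = n186718 := d4_3 F383712 (iv2 F383710) (iv7 F383711)
def n191539 : Q := act 0 n98526
theorem D191539 : act 0 n98526 = n191539 := rfl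
theorem F383714 : act 5 n191539 = n124617 := d17_1 D191539 F332210 (iv5 F352189) F272844 F272842 F274645 (iv5 F151921) (iv0 D98524) D98526
theorem F383715 : act 4 n191539 = n186803 := d18_3 (iv1 D98525) D98526 D191539 F368058 (iv4 F272673) F338121 F195694 (iv0 F383709) (iv5 D191538)
theorem F383716 : act 1 n98543 = n191539 := d15_0 (iv0 D191539) (iv7 F367700) F367699
theorem F383717 : act 2 n124618 = n191539 := d1_3 F383715 (iv2 F368060) (iv4 F352184)
def n191540 : Q := act 1 n98526
theorem D191540 : act 1 n98526 = n191540 := rfl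
theorem F383718 : act 1 n191540 = n98543 := d15_1 D191540 (iv7 F367693) F367692
theorem F383719 : act 7 n191540 = n124618 := d15_2 (iv0 D191539) D191540 F383717
theorem F383720 : act 4 n191540 = n186804 := d17_9 (iv1 D186804) (iv5 D89180) (iv1 F64288) (iv5 F74497) (iv4 F156343) (iv5 F383324) (iv0 F383326) (iv5 F383328) D191540
theorem F383721 : act 5 n124619 = n191540 := d21_6 F342128 (iv1 F342131) F357893 F165159 D107168 F344707 (iv1 D191540) F383328 (iv6 D177443) D177438
theorem F383722 : act 3 n191540 = n124624 := d6_1 F383721 F199313 (iv3 F199310)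
theorem F383723 : act 6 n190565 = n191540 := d10_0 F383720 (iv6 F368065) D190565
theorem F383724 : act 5 n131949 = n190565 := d12_5 F383723 (iv5 F383721) (iv6 F344707) (iv5 F350006) F362896
theorem F383725 : act 0 n190565 = n186717 := d21_4 F352189 F365908 F383721 (iv6 F383723) (iv6 D186717) (iv5 F136763) (iv1 F136902) F136900 F127126 D101533
def n191541 : Q := act 3 n98526
theorem D191541 : act 3 n98526 = n191541 := rfl
def n191542 : Q := act 6 n98526
theorem D191542 : act 6 n98526 = n191542 := rfl
theorem F383726 : act 4 n191542 = n98527 := d10_1 D191542 (iv6 D98527) D98526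
theorem F383727 : act 5 n191542 = n106208 := d12_1 D191542 (iv6 F355889) (iv5 D177442) D177443 (iv5 F383328)
theorem F383728 : act 3 n106210 = n191542 := d6_3 F383727 (iv3 D106208) D106210
theorem F383729 : act 6 n191541 = n106210 := d7_0 F383728 (iv6 D191542) D191541
def n191543 : Q := act 0 n98527
theorem D191543 : act 0 n98527 = n191543 := rfl
theorem F383730 : act 5 n191543 = n141134 := d21_0 F357511 (iv5 D98623) (iv6 D46104) (iv1 D22019) (iv6 F34501) (iv5 D22006) D22004 D46067 D98527 D191543
theorem F383731 : act 2 n141140 = n191543 := d2_3 F383730 F224106 D141140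
theorem F383732 : act 3 n112696 = n191543 := d6_3 F383730 F224107 (iv5 F324064)
theorem F383733 : act 7 n144864 = n191543 := d13_0 F383730 (iv7 F360359) (iv5 F360363)
theorem F383734 : act 6 n98583 = n191543 := d21_5 (iv5 D10496) D10494 D22011 D46085 D98583 F383730 F357511 (iv5 D98623) (iv6 D46104) (iv1 D22019)
theorem F383735 : act 4 n191543 = n112698 := d11_1 F383733 F175388 (iv4 F227809)
theorem F383736 : act 4 n105352 = n98621 := d17_9 (iv1 F367831) F367828 (iv1 F357512) (iv5 F383730) F383735 F175387 D113239 F352467 F161565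
theorem F383737 : act 0 n107531 = n106210 := d20_4 F76546 (iv1 F40245) (iv4 F78472) (iv3 F165902) F383728 F383726 D191543 F383735 (iv3 D112698) F82186
theorem F383738 : act 2 n98621 = n105330 := d1_1 F383736 F161520 D105352
theorem F383739 : act 3 n98621 = n135207 := d5_1 F383736 F217383 F171714 (iv4 F329139) (iv3 F161560)
theorem F383740 : act 6 n98621 = n135205 := d10_2 (iv6 F365452) F383736 F217378
theorem F383741 : act 7 n98621 = n113506 := d11_2 (iv7 F161562) F383736 (iv4 D113506)
theorem E103472 : n186734 = n113519 := ((c15_1 D113519 F367831 F383741 F176689)).symm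
theorem E103473 : n98622 = n52397 := ((((iv1 D113519)).symm.trans (sb E103472 (iv1 F367830)))).symm
theorem F383742 : act 1 n113519 = n98621 := (sb E103472 F367831)
theorem F383743 : act 2 n113519 = n98624 := (sb E103472 F367827)
theorem F383744 : act 5 n113519 = n100163 := (sb E103472 F367828)
theorem F383745 : act 6 n113519 = n98614 := (sb E103472 F367829)
theorem F383746 : act 7 n113519 = n89073 := (sb E103472 (iv7 D186734))
theorem E103474 : n113518 = n46104 := ((D113518).symm.trans (sb E103473 (iv1 D98622)))
theorem F383747 : act 1 n46104 = n52397 := (sb E103474 (iv0 D113518))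
theorem F383748 : act 6 n100196 = n113520 := d21_5 (iv5 D43537) D43534 (iv5 F292683) D46763 D100196 (iv5 D113520) (iv1 F383747) D98623 F152020 F292692
def n191544 : Q := act 1 n98527
theorem D191544 : act 1 n98527 = n191544 := rfl
theorem F383749 : act 7 n191544 = n141140 := d15_2 (iv0 D191543) D191544 F383731
theorem F383750 : act 4 n191544 = n128594 := d18_7 F173406 (iv4 F82600) (iv1 F381046) F381047 (iv5 F383727) F383726 D191544 F345758 F176680
theorem F383751 : act 6 n108412 = n191544 := d21_3 D135092 F352563 (iv5 F167604) (iv1 D191544) (iv6 D98527) (iv5 D46067) (iv1 F64191) (iv5 F136728) (iv6 F332678) (iv1 F207068)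
theorem F383752 : act 3 n191544 = n108413 := d7_1 F383751 (iv6 D108413) D108412
theorem F383753 : act 5 n141141 = n191544 := d21_8 (iv5 D188183) (iv1 D91029) (iv5 F324641) (iv6 F325746) (iv1 F64203) D46104 D98623 (iv1 F360360) (iv6 F383751) (iv1 F372602)
theorem F383754 : act 2 n191544 = n144864 := d2_1 F383753 F360363 (iv2 F360357)
def n191545 : Q := act 5 n98527
theorem D191545 : act 5 n98527 = n191545 := rfl
theorem F383755 : act 2 n191545 = n100132 := d2_1 D191545 (iv5 F367696) F367695
theorem F383756 : act 6 n191545 = n98531 := d12_2 D98527 D191545 (iv5 D98531) (iv6 D46068) D46067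
def n191546 : Q := act 7 n98527
theorem D191546 : act 7 n98527 = n191546 := rfl
theorem F383757 : act 6 n191546 = n156448 := d14_1 D191546 F354696 (iv6 F354694) F268260 D98527
theorem F383758 : act 1 n144864 = n191546 := d15_1 (iv0 F367698) (iv7 D191546) (iv2 F367695)
theorem F383759 : act 1 n191546 = n141140 := d15_1 F383758 (iv7 F383749) F383754
def n191547 : Q := act 5 n98536
theorem D191547 : act 5 n98536 = n191547 := rfl
theorem F383760 : act 2 n191547 = n98538 := d2_1 D191547 (iv5 D98538) D98536
theorem F383761 : act 6 n191547 = n190728 := d12_2 F345815 D191547 F380821 F250268 F305370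
theorem F383762 : act 7 n191547 = n183399 := d13_2 F233023 D191547 (iv5 D183399)
def n191548 : Q := act 5 n98537
theorem D191548 : act 5 n98537 = n191548 := rfl
theorem F383763 : act 3 n191548 = n145084 := d6_1 D191548 (iv5 F333695) (iv3 F359370)
theorem F383764 : act 6 n191548 = n145998 := d12_2 F359373 D191548 (iv5 D145998) (iv6 F311527) (iv5 F197920)
theorem F383765 : act 7 n191548 = n145076 := d13_2 F367681 D191548 F367682
theorem F383766 : act 0 n191076 = n191548 := d21_7 (iv5 F147545) (iv1 F187342) (iv5 F125560) D170259 (iv1 F383452) F383457 F382122 (iv5 D191548) (iv6 F359373) (iv1 F197923)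
def n191549 : Q := act 1 n98538
theorem D191549 : act 1 n98538 = n191549 := rfl
theorem F383767 : act 1 n191549 = n183399 := d15_1 D191549 (iv7 F383762) F383760
theorem F383768 : act 5 n130879 = n191549 := d21_6 (iv5 F108987) (iv1 F235197) F235196 D153299 F302980 (iv6 F354316) (iv1 D191549) (iv5 D98538) F308351 (iv1 D72845)
def n191550 : Q := act 4 n98538
theorem D191550 : act 4 n98538 = n191550 := rfl
def n191551 : Q := act 6 n98538
theorem D191551 : act 6 n98538 = n191551 := rfl
theorem F383769 : act 2 n191551 = n190728 := d3_1 D191551 (iv6 F383761) F383760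
theorem F383770 : act 3 n191551 = n98544 := d7_1 D191551 (iv6 D98544) (iv3 F151929)
theorem F383771 : act 5 n191551 = n148167 := d12_1 D191551 (iv6 D148167) (iv5 F309425) (iv6 F308351) D98538
theorem F383772 : act 0 n191551 = n158961 := d21_4 F337827 (iv1 D98535) D98538 D191551 (iv6 F360627) (iv5 D136099) (iv1 F99585) D64758 D137786 F365465
theorem F383773 : act 0 n158958 = n191551 := d21_4 F294475 (iv1 F133781) D96478 F347308 (iv6 D191551) (iv5 D98538) F232589 D87548 F134445 D87552
theorem F383774 : act 4 n191551 = n129143 := d18_1 F383773 F207383 D132662 F336980 (iv4 D75877) F105063 (iv4 F230306) F230316 D158958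
theorem F383775 : act 6 n129143 = n191550 := d10_2 D191551 F383774 (iv4 D191550)
theorem F383776 : act 7 n190729 = n191551 := d11_0 F383774 F214760 (iv4 F380834)
def n191552 : Q := act 5 n98540
theorem D191552 : act 5 n98540 = n191552 := rfl
theorem F383777 : act 2 n191552 = n161656 := d2_1 D191552 (iv5 D161656) (iv2 F268274)
theorem F383778 : act 3 n191552 = n98541 := d6_1 D191552 (iv5 D98541) D98540
theorem F383779 : act 6 n191552 = n119334 := d12_2 (iv6 F319556) D191552 (iv5 D119334) (iv6 D54916) (iv5 F86749)
theorem F383780 : act 7 n191552 = n161651 := d13_2 (iv7 F268275) D191552 (iv5 D161651)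
theorem F383781 : act 4 n191552 = n186829 := d16_2 (iv4 F319555) D191552 (iv5 D186829) F136920 D90135 F333656 F333654 F333730 (iv2 F274217)
theorem F383782 : act 1 n191552 = n121491 := d17_6 D61704 D131479 F333604 (iv5 F333695) (iv4 F319555) D191552 (iv5 F337063) (iv0 D131472) F96302
def n191553 : Q := act 4 n98541
theorem D191553 : act 4 n98541 = n191553 := rfl
theorem F383783 : act 2 n191553 = n172857 := d1_1 D191553 (iv4 D172857) (iv2 F268298)
theorem F383784 : act 3 n191553 = n186830 := d5_1 D191553 (iv4 D186830) (iv3 F368158) (iv4 F383781) F383778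
theorem F383785 : act 6 n191553 = n167568 := d10_2 (iv6 F342654) D191553 F342692
theorem F383786 : act 7 n191553 = n172846 := d11_2 (iv7 F268292) D191553 (iv4 D172846)
theorem F383787 : act 0 n191553 = n147436 := d18_2 (iv1 F383680) D191553 F231225 F346421 (iv4 F383705) F383706 F272840 (iv0 F338120) (iv5 F383677)
def n191554 : Q := act 5 n98543
theorem D191554 : act 5 n98543 = n191554 := rfl
theorem F383788 : act 3 n191554 = n113412 := d6_1 D191554 F204685 F383698
theorem F383789 : act 0 n191554 = n163622 := d17_2 (iv1 F383716) D191554 (iv5 F361241) (iv4 D89189) (iv5 D41659) D41658 D89185 F368059 (iv4 F383715)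
theorem F383790 : act 1 n191554 = n191395 := d17_6 (iv1 F136731) F136728 (iv1 F64190) D46072 D98543 D191554 F383324 F184681 (iv4 D98551)
theorem F383791 : act 6 n113410 = n191554 := d21_5 (iv5 F355849) (iv1 F176681) (iv5 D52390) D52391 (iv1 F361883) (iv5 D191554) (iv1 F383718) (iv5 F383721) (iv6 F344707) (iv1 F176429)
def n191555 : Q := act 6 n98543
theorem D191555 : act 6 n98543 = n191555 := rfl
theorem F383792 : act 3 n191555 = n106453 := d7_1 D191555 F363269 F383698
theorem F383793 : act 4 n191555 = n98544 := d10_1 D191555 (iv6 D98544) D98543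
theorem F383794 : act 0 n186976 = n191555 := d21_4 F72667 (iv1 F147807) (iv5 F147839) (iv6 F368728) (iv6 D191555) D191554 F383789 (iv5 F361241) F136884 F72666
def n191556 : Q := act 2 n98550
theorem D191556 : act 2 n98550 = n191556 := rfl
theorem F383795 : act 3 n191556 = n137786 := d0_2 D98550 D191556 (iv2 F367703) (iv3 D186694) F272841
theorem F383796 : act 4 n191556 = n129440 := d1_2 (iv4 F344991) D191556 (iv2 F211797)
theorem F383797 : act 6 n137781 = n191556 := d7_0 F383795 (iv6 D137786) (iv3 F221029)
def n191557 : Q := act 5 n98550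
theorem D191557 : act 5 n98550 = n191557 := rfl
theorem F383798 : act 3 n191557 = n98552 := d6_1 D191557 (iv5 D98552) D98550
def n191558 : Q := act 6 n98550
theorem D191558 : act 6 n98550 = n191558 := rfl
theorem F383799 : act 2 n191558 = n137781 := d3_1 D191558 F383797 (iv2 D191556)
theorem F383800 : act 3 n191558 = n98553 := d7_1 D191558 (iv6 D98553) D98550
theorem F383801 : act 5 n191558 = n102626 := d21_6 (iv5 D186708) F157610 D98294 (iv6 F345001) F344992 D191558 F361819 (iv5 F221116) (iv6 F357369) (iv1 F367757)
theorem F383802 : act 7 n137880 = n191558 := d13_0 F383801 F361823 D137880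
theorem F383803 : act 0 n137989 = n191558 := d19_0 F383801 F361822 (iv3 D107299) (iv1 D49577) (iv5 F37927) F37926 (iv3 D12339) (iv1 F19010) (iv5 F24386) F24387 D15084 (iv1 F41573) F41571 (iv4 F41566) (iv3 F41568) F65414 D68841 D146840 (iv3 F230215)
theorem E103475 : n137988 = n137781 := ((c15_4 (iv0 D137988) (iv0 F221108) F383802 F383799)).symm
theorem F383804 : act 1 n137781 = n64854 := (sb E103475 (iv0 D137988))
def n191559 : Q := act 3 n98551
theorem D191559 : act 3 n98551 = n191559 := rfl
theorem F383805 : act 5 n191559 = n103679 := d6_2 F352205 D191559 F352209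
def n191560 : Q := act 6 n98551
theorem D191560 : act 6 n98551 = n191560 := rfl
theorem F383806 : act 2 n191560 = n137169 := d3_1 D191560 F367712 (iv2 F272845)
theorem F383807 : act 4 n191560 = n98553 := d10_1 D191560 (iv6 D98553) D98551
theorem F383808 : act 0 n135968 = n191560 := d18_2 (iv1 D135967) D135968 F383807 F151936 D102627 F361815 F94996 D63965 (iv5 F225340)
theorem F383809 : act 0 n191558 = n137978 := d20_4 D135968 F383808 F383807 (iv3 F383800) (iv3 D137978) D137979 (iv1 F225931) (iv4 D143074) (iv3 F225339) (iv1 D135967)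
theorem F383810 : act 0 n191560 = n137152 := d20_7 (iv4 F177713) F177711 D146840 (iv3 F230215) F383803 F383800 (iv4 F383807) (iv4 D137152) F177029 (iv1 F177027)
def n191561 : Q := act 0 n98553
theorem D191561 : act 0 n98553 = n191561 := rfl
def n191562 : Q := act 1 n98553
theorem D191562 : act 1 n98553 = n191562 := rfl
theorem F383811 : act 1 n191562 = n102623 := d15_1 D191562 F367710 F367707
theorem F383812 : act 5 n136791 = n191562 := d21_6 (iv5 D175696) F275096 (iv5 F151904) D191523 (iv1 F383660) (iv6 F372068) (iv1 D191562) F151936 D102628 (iv1 F275130)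
theorem F383813 : act 3 n191562 = n127038 := d6_1 F383812 F350340 D136791
theorem F383814 : act 6 n134447 = n191562 := d7_0 F383813 F326055 D134447
theorem F383815 : act 7 n136199 = n191562 := d8_0 F383813 F350315 D136199
theorem E103476 : n191561 = n113521 := ((c15_4 (iv0 D191561) D191562 (iv7 F383815) (iv2 F350313))).symm
theorem F383816 : act 1 n113521 = n98553 := (sb E103476 (iv0 D191561))
theorem E103477 : n137160 = n113522 := (c18_6 (iv1 D47596) (iv4 F74849) (iv1 F333129) (iv4 D64646) F221252 D137160 (iv0 D113522) (iv4 F176693) F383816 F151936)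
theorem F383817 : act 3 n113522 = n126270 := (sb E103477 (iv3 F380735))
theorem F383818 : act 4 n113522 = n64478 := (sb E103477 (iv4 D137160))
theorem F383819 : act 0 n113520 = n100132 := d21_7 F304693 F249712 (iv5 D98552) D98553 (iv1 F383816) (iv6 D113521) D113520 (iv5 F367696) (iv6 D186692) F343478
theorem E103478 : n126298 = n106226 := ((c20_11 F377846 (iv1 D105369) F76655 (iv3 F82755) D113522 F383817 (iv4 F380733) F380731 F360455 F203034 (iv1 F163231))).symm
theorem F383820 : act 2 n106226 = n59201 := (sb E103478 F203073)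
theorem F383821 : act 4 n106226 = n105369 := (sb E103478 F377846)
theorem F383822 : act 7 n106226 = n59200 := (sb E103478 (iv7 D126298))
theorem E103479 : n126293 = n106225 := (c15_4 (iv0 D106225) D106226 F383822 D126293)
theorem F383823 : act 2 n106225 = n59200 := (sb E103479 (iv2 D126293))
theorem F383824 : act 3 n106225 = n183508 := (sb E103479 (iv3 F377841))
theorem F383825 : act 4 n106225 = n105368 := (sb E103479 (iv4 F377842))
theorem F383826 : act 6 n106225 = n183506 := (sb E103479 F377840)
theorem F383827 : act 7 n106225 = n59201 := (sb E103479 (iv7 F203072))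
theorem F383828 : act 5 n189811 = n107541 := d21_8 (iv5 D25418) F20001 D23945 D49085 D106225 F383826 (iv5 F364714) D189811 (iv6 D107541) F78486
theorem F383829 : act 2 n169911 = n189811 := d2_3 F383828 (iv2 F176446) (iv5 F364823)
theorem F383830 : act 6 n110501 = n189811 := d12_0 F383828 (iv6 D107541) F78484 D50953 D110501
theorem F383831 : act 7 n189812 = n169911 := d15_2 (iv0 D189811) D189812 F383829
theorem F383832 : act 7 n169910 = n189811 := d15_2 F377836 F377834 (iv2 F383829)
theorem F383833 : act 2 n189812 = n169910 := d4_3 F383832 (iv2 F383829) (iv7 F383831)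
def n191563 : Q := act 7 n98553
theorem D191563 : act 7 n98553 = n191563 := rfl
theorem F383834 : act 2 n191563 = n102623 := d4_1 D191563 F367710 F367707
theorem F383835 : act 3 n191563 = n137880 := d8_1 D191563 F383802 F383800
theorem F383836 : act 5 n191563 = n99856 := d13_1 D191563 F333106 (iv5 F151936)
theorem F383837 : act 1 n102623 = n113521 := d15_0 F383816 D191563 F383834
theorem F383838 : act 4 n137168 = n191563 := d18_3 (iv1 D64479) D64480 D137168 F383836 F333095 (iv0 D64625) F48847 D30421 F221259
theorem F383839 : act 6 n134345 = n191563 := d21_5 F361767 (iv1 D134342) (iv5 D63112) D63113 D134345 F383836 (iv1 F153754) (iv5 F157832) F333139 (iv1 F245958)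
theorem F383840 : act 6 n137168 = n180672 := d10_2 F383839 (iv4 F383838) F364569
theorem F383841 : act 7 n186697 = n134345 := d14_0 F383839 (iv7 D191563) (iv6 D98553) (iv7 F272831) D186697
theorem F383842 : act 7 n191560 = n137168 := d11_0 F383838 (iv7 D191563) (iv4 F383807)
def n191564 : Q := act 2 n98555
theorem D191564 : act 2 n98555 = n191564 := rfl
theorem F383843 : act 7 n191564 = n137786 := d4_2 F367702 D191564 (iv2 F367703)
theorem F383844 : act 1 n191564 = n183403 := d15_0 F367706 F367702 D191564
theorem F383845 : act 1 n138197 = n191564 := d15_0 F383844 (iv7 D183403) (iv2 F338408)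
def n191565 : Q := act 4 n98555
theorem D191565 : act 4 n98555 = n191565 := rfl
def n191566 : Q := act 6 n98555
theorem D191566 : act 6 n98555 = n191566 := rfl
theorem F383846 : act 3 n191566 = n98557 := d7_1 D191566 (iv6 D98557) D98555
theorem F383847 : act 7 n191566 = n137774 := d14_2 F367702 D191566 (iv6 D137774) (iv7 F219038) F367704
def n191567 : Q := act 6 n98556
theorem D191567 : act 6 n98556 = n191567 := rfl
theorem F383848 : act 4 n191567 = n98557 := d10_1 D191567 (iv6 D98557) D98556
theorem F383849 : act 5 n191567 = n157824 := d12_1 D191567 F358039 (iv5 F342135) F358034 F352187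
theorem F383850 : act 1 n132094 = n191567 := d17_6 (iv1 D34431) (iv5 F30114) D39885 (iv5 F194349) D125366 (iv5 F358981) F383849 F248708 (iv4 D75195)
def n191568 : Q := act 1 n98557
theorem D191568 : act 1 n98557 = n191568 := rfl
theorem F383851 : act 1 n191568 = n134345 := d15_1 D191568 (iv7 F383841) F367714
theorem F383852 : act 7 n191568 = n134340 := d15_2 (iv0 F377961) D191568 F216346
theorem F383853 : act 4 n191568 = n180351 := d18_7 D125376 (iv4 F201653) (iv1 F254408) F254261 (iv5 F383849) F383848 D191568 F280668 (iv5 D125378)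
theorem F383854 : act 2 n134348 = n191568 := d1_3 F383853 F280666 F334365
theorem F383855 : act 0 n132094 = n180672 := d18_0 F364569 (iv1 F383851) F383853 (iv5 D180351) F258237 F258235 D164137 F258685 (iv5 F358981)
theorem F383856 : act 6 n191568 = n98611 := d3_2 F367793 F383854 (iv2 F377969)
def n191569 : Q := act 7 n98557
theorem D191569 : act 7 n98557 = n191569 := rfl
theorem F383857 : act 2 n191569 = n134345 := d4_1 D191569 (iv7 F383841) F367714
theorem F383858 : act 3 n191569 = n137774 := d8_1 D191569 (iv7 F383847) F383846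
theorem F383859 : act 6 n191569 = n102623 := d14_1 D191569 F367710 (iv6 D186695) F272843 D98557
theorem F383860 : act 0 n191569 = n134348 := d21_10 (iv5 F354681) (iv1 D100581) F74129 (iv6 D46085) (iv1 F35582) (iv6 F74850) (iv5 D47597) D47595 D102623 (iv6 F383859)
theorem F383861 : act 1 n191569 = n134340 := d15_1 (iv0 F383860) (iv7 F383852) (iv2 F383854)
theorem F383862 : act 1 n186697 = n134348 := d15_0 (iv0 F383860) (iv7 D191569) (iv2 F367714)
theorem F383863 : act 1 n134340 = n186697 := d15_0 F383862 (iv7 D134348) (iv2 F216346)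
theorem F383864 : act 0 n134339 = n189843 := d21_7 D191538 F383709 F153017 D186697 (iv1 F383863) (iv6 D134340) D134339 F377954 (iv6 D98544) (iv1 F151922)
theorem F383865 : act 4 n190742 = n134339 := d20_6 F352646 (iv1 F71304) F71300 (iv3 F147133) (iv1 F148693) D190742 F383864 F377953 F146968 D95328
theorem F383866 : act 2 n134343 = n190742 := d1_3 F383865 F216345 D134343
def n191570 : Q := act 5 n98558
theorem D191570 : act 5 n98558 = n191570 := rfl
theorem F383867 : act 2 n191570 = n124651 := d2_1 D191570 (iv5 F361729) F361728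
theorem F383868 : act 3 n191570 = n177464 := d6_1 D191570 F276876 (iv3 F361733)
theorem F383869 : act 7 n191570 = n124656 := d13_2 F361731 D191570 F347462
theorem F383870 : act 4 n191570 = n124649 := d16_2 (iv4 F249715) D191570 F347459 F336429 (iv5 F128819) (iv4 F155369) F74496 F155796 F155797
theorem F383871 : act 0 n181689 = n177464 := d20_4 F297643 F123858 D86716 D181689 (iv3 F383868) F383870 F347457 (iv4 F199311) F199310 (iv1 F199177)
def n191571 : Q := act 3 n98559
theorem D191571 : act 3 n98559 = n191571 := rfl
def n191572 : Q := act 5 n98559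
theorem D191572 : act 5 n98559 = n191572 := rfl
theorem F383872 : act 2 n191572 = n124656 := d2_1 D191572 F347462 (iv2 F361732)
theorem F383873 : act 4 n191572 = n124654 := d9_1 D191572 F347453 F298402 (iv5 F249711) (iv4 F249714) (iv5 D101529) (iv4 F249715) D191570 F383870 F347459 F336429 (iv5 F128819) (iv4 F155369) F74496 (iv4 F184694)
theorem F383874 : act 6 n191572 = n177449 := d12_2 (iv6 F345252) D191572 (iv5 D177449) F129710 D157800
theorem F383875 : act 7 n191572 = n124651 := d13_2 F361730 D191572 (iv5 F361729)
def n191573 : Q := act 0 n98561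
theorem D191573 : act 0 n98561 = n191573 := rfl
theorem F383876 : act 5 n191573 = n101506 := d17_3 (iv1 D98559) D98561 D191573 (iv4 D101506) (iv5 D47225) (iv0 D22715) D22717 D47233 (iv4 F184694)
theorem F383877 : act 4 n191573 = n166160 := d18_1 D191573 (iv1 D166160) D166162 (iv5 F368078) F368077 F136889 (iv4 F249715) (iv0 D98558) D98561
theorem F383878 : act 6 n191573 = n177602 := d21_5 F333040 (iv1 F325741) (iv5 F345383) F361721 D191573 F345504 F345761 F345741 (iv6 D128724) D128721
theorem F383879 : act 1 n172545 = n191573 := d15_0 (iv0 D191573) F361718 F347465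
theorem F383880 : act 2 n177616 = n191573 := d3_3 F383878 F277068 D177616
def n191574 : Q := act 1 n98561
theorem D191574 : act 1 n98561 = n191574 := rfl
theorem F383881 : act 1 n191574 = n172545 := d15_1 D191574 (iv7 F367722) F367719
theorem F383882 : act 7 n191574 = n177616 := d15_2 (iv0 D191573) D191574 F383880
theorem F383883 : act 5 n191574 = n101522 := d17_7 (iv1 F151925) (iv5 D46072) (iv1 D22005) D22006 D46076 D98561 D191574 (iv0 F383693) (iv4 D191535)
theorem F383884 : act 4 n191574 = n166159 := d17_9 (iv1 F323503) (iv5 F334608) (iv1 F336428) (iv5 F347459) (iv4 F383870) (iv5 D191570) (iv0 D98558) D98561 D191574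
def n191575 : Q := act 5 n98564
theorem D191575 : act 5 n98564 = n191575 := rfl
theorem F383885 : act 2 n191575 = n131123 := d2_1 D191575 (iv5 F251929) F251926
theorem F383886 : act 3 n191575 = n102904 := d6_1 D191575 F331375 F294239
theorem F383887 : act 7 n191575 = n114595 := d13_2 F157564 D191575 F178682
theorem F383888 : act 4 n191575 = n135760 := d16_2 D98564 D191575 (iv5 D135760) F99232 D129664 (iv4 F345002) (iv5 D98294) (iv7 F157615) F145420
theorem F383889 : act 0 n191575 = n131122 := d17_2 F151943 D191575 F383011 F383007 F348533 (iv0 D182700) (iv5 D87216) D87214 (iv4 F294956)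
theorem F383890 : act 6 n191575 = n135767 := d21_3 (iv5 D189602) F151943 D191575 (iv1 F333576) F333579 F104646 F85197 D68439 D145964 (iv1 F383005)
theorem F383891 : act 0 n131121 = n191575 := d21_7 (iv5 F379704) (iv1 F379705) F377349 (iv6 F371829) F371831 F335764 (iv5 F339540) (iv5 D191575) (iv6 F367044) F375748
def n191576 : Q := act 4 n98565
theorem D191576 : act 4 n98565 = n191576 := rfl
def n191577 : Q := act 6 n98565
theorem D191577 : act 6 n98565 = n191577 := rfl
def n191578 : Q := act 4 n98570
theorem D191578 : act 4 n98570 = n191578 := rfl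
theorem F383892 : act 2 n191578 = n98574 := d1_1 D191578 (iv4 D98574) (iv2 F151966)
theorem F383893 : act 0 n191578 = n182421 := d18_2 (iv1 F367763) D191578 (iv4 D182421) (iv5 D87099) D87098 (iv0 F291010) (iv4 F291554) D190721 F380803
def n191579 : Q := act 6 n98570
theorem D191579 : act 6 n98570 = n191579 := rfl
theorem F383894 : act 2 n191579 = n98575 := d3_1 D191579 (iv6 D98575) (iv2 F151966)
theorem F383895 : act 3 n191579 = n183405 := d7_1 D191579 (iv6 D183405) (iv3 F151967)
def n191580 : Q := act 4 n98572
theorem D191580 : act 4 n98572 = n191580 := rfl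
def n191581 : Q := act 4 n98573
theorem D191581 : act 4 n98573 = n191581 := rfl
def n191582 : Q := act 6 n98573
theorem D191582 : act 6 n98573 = n191582 := rfl
def n191583 : Q := act 0 n98574
theorem D191583 : act 0 n98574 = n191583 := rfl
theorem F383896 : act 4 n191583 = n182415 := d18_3 (iv1 D98573) D98574 D191583 (iv5 D182415) (iv4 F291007) (iv0 D94058) (iv4 F73860) D100152 (iv5 F367255)
theorem F383897 : act 2 n182421 = n191583 := d15_3 (iv0 D191583) (iv0 F377702) F377701
theorem F383898 : act 3 n132258 = n191583 := d5_5 F383896 (iv3 F336761) F169037 (iv3 F168996) (iv4 F211898)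
def n191584 : Q := act 3 n98574
theorem D191584 : act 3 n98574 = n191584 := rfl
theorem F383899 : act 4 n191584 = n98581 := d5_2 D98574 D191584 (iv3 D98581) (iv4 D46084) (iv3 F72647)
def n191585 : Q := act 5 n98574
theorem D191585 : act 5 n98574 = n191585 := rfl
theorem F383900 : act 4 n191585 = n135758 := d16_2 D98574 D191585 F376871 (iv4 D189554) (iv5 D94041) (iv4 F136745) D186708 F367756 F151966
def n191586 : Q := act 6 n98574
theorem D191586 : act 6 n98574 = n191586 := rfl
theorem F383901 : act 4 n191586 = n98575 := d10_1 D191586 (iv6 D98575) D98574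
def n191587 : Q := act 0 n98575
theorem D191587 : act 0 n98575 = n191587 := rfl
def n191588 : Q := act 1 n98575
theorem D191588 : act 1 n98575 = n191588 := rfl
def n191589 : Q := act 7 n98575
theorem D191589 : act 7 n98575 = n191589 := rfl
theorem F383902 : act 3 n191589 = n98585 := d8_1 D191589 (iv7 D98585) (iv3 F151970)
theorem F383903 : act 5 n191589 = n152552 := d13_1 D191589 (iv7 F361022) F154646
def n191590 : Q := act 5 n98576
theorem D191590 : act 5 n98576 = n191590 := rfl
theorem F383904 : act 2 n191590 = n100549 := d2_1 D191590 (iv5 F368969) F371270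
theorem F383905 : act 7 n191590 = n100548 := d13_2 F372241 D191590 (iv5 F372242)
theorem F383906 : act 0 n191590 = n100546 := d17_2 D98576 D191590 (iv5 D100546) F74118 D93011 F374353 F374350 (iv0 F340070) F143546
theorem F383907 : act 1 n191590 = n99376 := d17_8 (iv1 D93014) (iv5 D43520) (iv1 F68395) (iv5 F108453) (iv4 F239748) (iv5 F372247) F372249 D191590 (iv4 F340054)
def n191591 : Q := act 4 n98577
theorem D191591 : act 4 n98577 = n191591 := rfl
theorem F383908 : act 2 n191591 = n189665 := d1_1 D191591 F377302 (iv2 F372243)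
theorem F383909 : act 6 n191591 = n189679 := d10_2 F371268 D191591 F377374
theorem F383910 : act 0 n191591 = n189603 := d17_0 F377082 F374242 (iv5 D187735) F139317 D99914 F157639 F74127 D98577 D191591
theorem F383911 : act 5 n191591 = n188873 := d18_4 (iv1 F369203) (iv4 F372246) (iv1 F372250) D191591 F375100 F362361 (iv4 F340052) F374353 F374350
theorem F383912 : act 3 n191591 = n188875 := d20_3 (iv4 F372246) (iv1 F372250) D191591 F375109 F251953 F144728 (iv1 F328902) D150792 (iv3 F340071) (iv1 F369203)
def n191592 : Q := act 5 n98577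
theorem D191592 : act 5 n98577 = n191592 := rfl
theorem F383913 : act 2 n191592 = n100548 := d2_1 D191592 (iv5 F372242) (iv2 F372243)
theorem F383914 : act 7 n191592 = n100549 := d13_2 (iv7 F371269) D191592 (iv5 F368969)
theorem F383915 : act 4 n191592 = n187501 := d16_4 (iv4 F375100) (iv5 F383911) (iv4 D191591) D191592 (iv5 D187501) F138868 D184466 F286361 (iv2 F155764)
theorem F383916 : act 0 n191592 = n99376 := d17_2 (iv1 F372250) D191592 (iv5 D99376) F73372 D92622 (iv0 F366993) (iv5 F145583) F369204 (iv4 F372246)
theorem F383917 : act 1 n191592 = n100546 := d17_8 F373341 F373338 (iv1 F142709) D93010 F345120 F74127 D98577 D191592 (iv4 F340055)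
theorem F383918 : act 0 n188873 = n187501 := d18_0 (iv4 F383915) F383916 (iv4 F340054) (iv5 F291329) (iv4 F75619) D103946 (iv4 F377081) (iv0 F383910) F383911
theorem F383919 : act 3 n191592 = n184067 := d20_3 (iv4 F375100) F383918 (iv4 F383915) (iv1 D184067) F134772 D87803 (iv1 F140498) (iv4 D91271) D91270 (iv1 F362361)
theorem F383920 : act 5 n184067 = n184229 := d6_2 D191592 F383919 (iv3 F381821)
def n191593 : Q := act 0 n98581
theorem D191593 : act 0 n98581 = n191593 := rfl
def n191594 : Q := act 1 n98581
theorem D191594 : act 1 n98581 = n191594 := rfl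
def n191595 : Q := act 2 n98581
theorem D191595 : act 2 n98581 = n191595 := rfl
def n191596 : Q := act 6 n98581
theorem D191596 : act 6 n98581 = n191596 := rfl
theorem F383921 : act 3 n191596 = n98582 := d7_1 D191596 (iv6 D98582) D98581
def n191597 : Q := act 7 n98582
theorem D191597 : act 7 n98582 = n191597 := rfl
theorem F383922 : act 4 n191597 = n98585 := d11_1 D191597 (iv7 D98585) (iv4 F151974)
theorem F383923 : act 5 n191597 = n164137 := d13_1 D191597 F280683 F354673
def n191598 : Q := act 3 n98583
theorem D191598 : act 3 n98583 = n191598 := rfl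
theorem F383924 : act 2 n191598 = n141208 := d0_1 D191598 F224235 (iv2 F329457) F367735 F367737
theorem F383925 : act 6 n191598 = n112696 := d7_2 (iv6 F383734) D191598 F383732
theorem F383926 : act 4 n112697 = n191598 := d10_3 F383925 (iv4 D112696) D112697
theorem F383927 : act 5 n98924 = n191598 := d12_5 F383925 F324064 (iv6 D66232) D66231 (iv6 F364541)
theorem F383928 : act 0 n191598 = n188605 := d17_2 (iv1 F372548) F383927 (iv5 D188605) (iv4 D92567) (iv5 D43308) D43306 (iv5 F293396) F294927 D188171
theorem F383929 : act 0 n183467 = n191598 := d21_7 (iv5 D65466) (iv1 D30692) D30694 D65473 (iv1 F329566) D100453 (iv5 F285221) (iv5 F383927) F364541 (iv1 F181591)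
def n191599 : Q := act 4 n98583
theorem D191599 : act 4 n98583 = n191599 := rfl
theorem F383930 : act 2 n191599 = n128728 := d1_1 D191599 (iv4 F367732) F367737
theorem F383931 : act 3 n191599 = n112699 := d5_1 D191599 F175390 (iv3 F175386) F383926 (iv3 D191598)
theorem F383932 : act 6 n191599 = n112698 := d10_2 (iv6 F383734) D191599 (iv4 F383735)
theorem F383933 : act 7 n191599 = n128720 := d11_2 F367739 D191599 (iv4 F367740)
theorem F383934 : act 0 n191599 = n128726 := d18_2 D98583 D191599 (iv4 F332745) (iv5 F345223) (iv4 D180790) (iv0 F262468) (iv4 F354687) (iv0 D100580) F74129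
theorem F383935 : act 5 n191599 = n125376 := d18_4 (iv1 F354676) F151974 D98583 D191599 (iv4 F201653) (iv0 D86300) D86303 (iv0 F132261) D157826
theorem F383936 : act 0 n98654 = n191599 := d17_2 (iv1 D104966) (iv5 F332749) F383935 (iv4 F201653) (iv5 F330700) (iv0 F330705) (iv5 F250816) F280682 F160840
def n191600 : Q := act 5 n98583
theorem D191600 : act 5 n98583 = n191600 := rfl
theorem F383937 : act 2 n191600 = n141137 := d2_1 D191600 (iv5 F367734) F367737
theorem F383938 : act 3 n191600 = n98924 := d6_1 D191600 F383927 (iv3 D191598)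
theorem F383939 : act 6 n191600 = n141133 := d12_2 (iv6 F383734) D191600 (iv5 D141133) D141134 (iv5 F383730)
theorem F383940 : act 4 n191600 = n157928 := d16_2 (iv4 D191599) D191600 F248825 (iv4 F248737) (iv5 D78651) D78650 F332753 D128728 (iv2 F383930)
theorem F383941 : act 0 n191600 = n100481 := d17_2 D98583 D191600 F154544 (iv4 F383848) F383849 F248708 D157844 (iv0 F354675) F151974
def n191601 : Q := act 5 n98584
theorem D191601 : act 5 n98584 = n191601 := rfl
theorem F383942 : act 3 n191601 = n128663 := d6_1 D191601 (iv5 D128663) (iv3 F354670)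
theorem F383943 : act 4 n191601 = n157927 := d9_1 D191601 F258034 F330708 F330700 F201653 (iv5 F383935) (iv4 D191599) D191600 F383940 F248825 (iv4 F248737) (iv5 D78651) D78650 F332753 (iv4 F354671)
theorem F383944 : act 7 n191601 = n141137 := d13_2 F367736 D191601 (iv5 F367734)
theorem F383945 : act 1 n191601 = n100481 := d17_6 F280667 (iv5 D157800) F119819 F332753 (iv4 F354671) D191601 F154544 D191568 F383853
theorem F383946 : act 6 n100536 = n191601 := d21_5 (iv5 D10694) D10692 D22525 D46903 D100536 (iv5 D191601) (iv1 D98584) (iv5 F74129) (iv6 D46918) (iv1 D22533)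
def n191602 : Q := act 4 n98586
theorem D191602 : act 4 n98586 = n191602 := rfl
theorem F383947 : act 2 n191602 = n182386 := d1_1 D191602 (iv4 D182386) (iv2 F295110)
theorem F383948 : act 6 n191602 = n105491 := d10_2 (iv6 F363944) D191602 (iv4 F217335)
theorem F383949 : act 7 n191602 = n183390 := d11_2 (iv7 F151976) D191602 (iv4 D183390)
theorem F383950 : act 5 n191602 = n146874 := d16_1 D191602 (iv4 F233473) F233474 F363170 (iv5 D87468) F61810 D40753 F294521 (iv2 F295110)
theorem F383951 : act 1 n183410 = n191602 := d15_1 D183410 F383949 F285104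
theorem F383952 : act 1 n191602 = n183409 := d15_0 (iv0 D183409) F295124 (iv2 F383947)
def n191603 : Q := act 4 n98587
theorem D191603 : act 4 n98587 = n191603 := rfl
theorem F383953 : act 2 n191603 = n98591 := d1_1 D191603 (iv4 D98591) (iv2 F151979)
theorem F383954 : act 7 n191603 = n183404 := d11_2 (iv7 F151980) D191603 (iv4 D183404)
theorem F383955 : act 5 n191603 = n132251 := d16_1 D191603 F379624 (iv5 D190383) (iv4 D95971) (iv5 D44788) F65900 D89057 F136734 (iv2 F151979)
theorem F383956 : act 3 n191603 = n132252 := d19_3 F294732 D98587 D191603 (iv1 F345889) F345890 F97071 F47236 (iv1 F23374) (iv5 F23032) (iv4 F324953) F28439 (iv1 F33925) F33927 F27354 F13941 (iv1 F13944) D8974 D19125 D40463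
def n191604 : Q := act 6 n98587
theorem D191604 : act 6 n98587 = n191604 := rfl
theorem F383957 : act 2 n191604 = n98592 := d3_1 D191604 (iv6 D98592) (iv2 F151979)
def n191605 : Q := act 0 n98591
theorem D191605 : act 0 n98591 = n191605 := rfl
theorem F383958 : act 1 n183404 = n191605 := d15_0 (iv0 D191605) (iv7 F367725) F367724
def n191606 : Q := act 1 n98591
theorem D191606 : act 1 n98591 = n191606 := rfl
theorem F383959 : act 1 n191606 = n183404 := d15_1 D191606 (iv7 F383954) F383953
def n191607 : Q := act 3 n98591
theorem D191607 : act 3 n98591 = n191607 := rfl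
theorem F383960 : act 4 n191607 = n98596 := d5_2 D98591 D191607 (iv3 D98596) (iv4 D46091) (iv3 F72658)
def n191608 : Q := act 5 n98591
theorem D191608 : act 5 n98591 = n191608 := rfl
theorem F383961 : act 2 n191608 = n132251 := d2_1 D191608 (iv5 F383955) F383953
def n191609 : Q := act 6 n98591
theorem D191609 : act 6 n98591 = n191609 := rfl
theorem F383962 : act 4 n191609 = n98592 := d10_1 D191609 (iv6 D98592) D98591
def n191610 : Q := act 0 n98592
theorem D191610 : act 0 n98592 = n191610 := rfl
def n191611 : Q := act 1 n98592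
theorem D191611 : act 1 n98592 = n191611 := rfl
def n191612 : Q := act 7 n98592
theorem D191612 : act 7 n98592 = n191612 := rfl
theorem F383963 : act 3 n191612 = n98601 := d8_1 D191612 (iv7 D98601) (iv3 F151987)
def n191613 : Q := act 5 n98594
theorem D191613 : act 5 n98594 = n191613 := rfl
theorem F383964 : act 2 n191613 = n139656 := d2_1 D191613 F340570 (iv2 F287747)
theorem F383965 : act 3 n191613 = n115525 := d6_1 D191613 F346036 F356798
theorem F383966 : act 4 n191613 = n115307 := d9_1 D191613 (iv5 D115307) F84031 F40787 (iv4 F81521) D111966 F340566 (iv5 F378218) F378221 F222822 F101272 F49192 (iv4 F81581) (iv5 F174134) (iv4 F340557)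
theorem F383967 : act 7 n191613 = n184234 := d13_2 F340558 D191613 (iv5 F340562)
theorem F383968 : act 1 n191613 = n156126 := d17_6 D96270 F340581 F171262 (iv5 F174134) (iv4 F340557) D191613 F340587 (iv0 D87718) (iv4 F70646)
theorem F383969 : act 0 n191613 = n99284 := d21_1 D191613 (iv5 D99284) (iv6 D46423) F34684 D23343 D48203 (iv1 F154632) (iv5 F283713) F287744 (iv1 F287746)
theorem F383970 : act 3 n115307 = n177990 := d20_3 D156126 (iv1 F383968) F383966 (iv1 D177990) (iv3 D84724) (iv4 D39131) D39129 D84716 (iv3 F351216) (iv1 D156125)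
theorem F383971 : act 4 n177990 = n115510 := d5_2 F383966 F383970 F179801 D115525 (iv3 F383965)
theorem F383972 : act 5 n177990 = n115303 := d6_2 D115307 F383970 F179569
def n191614 : Q := act 0 n98596
theorem D191614 : act 0 n98596 = n191614 := rfl
def n191615 : Q := act 1 n98596
theorem D191615 : act 1 n98596 = n191615 := rfl
theorem F383973 : act 3 n106460 = n191615 := d20_3 F165575 (iv1 F77889) (iv4 F163711) (iv1 D191615) (iv3 D98596) (iv4 D46091) (iv1 F72649) (iv4 F327401) F96438 D61865
theorem F383974 : act 7 n191615 = n106456 := d8_2 D106460 F383973 F163710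
theorem F383975 : act 2 n106456 = n191614 := d15_3 (iv0 D191614) D191615 F383974
theorem F383976 : act 6 n191614 = n106455 := d3_2 D106456 F383975 (iv2 D106455)
def n191616 : Q := act 2 n98596
theorem D191616 : act 2 n98596 = n191616 := rfl
def n191617 : Q := act 6 n98596
theorem D191617 : act 6 n98596 = n191617 := rfl
theorem F383977 : act 3 n191617 = n98597 := d7_1 D191617 (iv6 D98597) D98596
def n191618 : Q := act 0 n98597
theorem D191618 : act 0 n98597 = n191618 := rfl
def n191619 : Q := act 1 n98597
theorem D191619 : act 1 n98597 = n191619 := rfl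
def n191620 : Q := act 5 n98597
theorem D191620 : act 5 n98597 = n191620 := rfl
def n191621 : Q := act 7 n98597
theorem D191621 : act 7 n98597 = n191621 := rfl
theorem F383978 : act 4 n191621 = n98601 := d11_1 D191621 (iv7 D98601) (iv4 F151992)
theorem F383979 : act 1 n190565 = n191621 := d15_1 (iv0 F383725) (iv7 D191621) (iv2 F367777)
def n191622 : Q := act 3 n98598
theorem D191622 : act 3 n98598 = n191622 := rfl
def n191623 : Q := act 4 n98598
theorem D191623 : act 4 n98598 = n191623 := rfl
def n191624 : Q := act 5 n98598
theorem D191624 : act 5 n98598 = n191624 := rfl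
def n191625 : Q := act 6 n98598
theorem D191625 : act 6 n98598 = n191625 := rfl
def n191626 : Q := act 3 n98599
theorem D191626 : act 3 n98599 = n191626 := rfl
def n191627 : Q := act 4 n98599
theorem D191627 : act 4 n98599 = n191627 := rfl
def n191628 : Q := act 0 n98600
theorem D191628 : act 0 n98600 = n191628 := rfl
theorem F383980 : act 5 n191628 = n134447 := d21_2 D98600 D191628 F383814 (iv1 D191562) (iv6 D98553) D98552 (iv1 F154548) F367689 F367690 (iv1 D98599)
theorem F383981 : act 3 n134448 = n191628 := d6_3 F383980 (iv3 D134447) D134448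
def n191629 : Q := act 1 n98600
theorem D191629 : act 1 n98600 = n191629 := rfl
def n191630 : Q := act 4 n98600
theorem D191630 : act 4 n98600 = n191630 := rfl
theorem F383982 : act 6 n191630 = n98602 := d10_2 (iv6 F151993) D191630 (iv4 D98602)
theorem F383983 : act 0 n102303 = n191630 := d21_4 (iv5 D99468) (iv1 F289673) D47474 D102303 F383982 F347715 (iv1 F368431) (iv5 F368430) (iv6 F368439) F368441
def n191631 : Q := act 7 n98600
theorem D191631 : act 7 n98600 = n191631 := rfl
theorem F383984 : act 5 n191631 = n98601 := d13_1 D191631 (iv7 D98601) D98600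
def n191632 : Q := act 4 n98605
theorem D191632 : act 4 n98605 = n191632 := rfl
theorem F383985 : act 2 n191632 = n98606 := d1_1 D191632 (iv4 D98606) D98605
theorem F383986 : act 0 n191632 = n182702 := d18_2 F367415 D191632 (iv4 D182702) (iv5 D87216) (iv4 F63888) D88760 (iv4 F294193) (iv0 F157572) D186602
def n191633 : Q := act 6 n98605
theorem D191633 : act 6 n98605 = n191633 := rfl
theorem F383987 : act 2 n191633 = n98608 := d3_1 D191633 (iv6 D98608) D98605
theorem F383988 : act 3 n191633 = n183408 := d7_1 D191633 (iv6 D183408) (iv3 F151998)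
def n191634 : Q := act 3 n98606
theorem D191634 : act 3 n98606 = n191634 := rfl
theorem F383989 : act 4 n191634 = n98609 := d5_2 D98606 D191634 (iv3 D98609) (iv4 D46098) D46097
def n191635 : Q := act 6 n98606
theorem D191635 : act 6 n98606 = n191635 := rfl
theorem F383990 : act 4 n191635 = n98608 := d10_1 D191635 (iv6 D98608) D98606
def n191636 : Q := act 0 n98608
theorem D191636 : act 0 n98608 = n191636 := rfl
def n191637 : Q := act 1 n98608
theorem D191637 : act 1 n98608 = n191637 := rfl
def n191638 : Q := act 5 n98608
theorem D191638 : act 5 n98608 = n191638 := rfl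
theorem F383991 : act 3 n191638 = n98613 := d6_1 D191638 (iv5 D98613) (iv3 F152002)
theorem F383992 : act 6 n191638 = n187702 := d12_2 D98608 D191638 (iv5 D187702) (iv6 F367253) (iv5 D98607)
def n191639 : Q := act 7 n98608
theorem D191639 : act 7 n98608 = n191639 := rfl
theorem F383993 : act 3 n191639 = n98614 := d8_1 D191639 (iv7 D98614) (iv3 F152002)
def n191640 : Q := act 0 n98609
theorem D191640 : act 0 n98609 = n191640 := rfl
def n191641 : Q := act 1 n98609
theorem D191641 : act 1 n98609 = n191641 := rfl
theorem F383994 : act 3 n113687 = n191641 := d20_3 F82758 D52492 D113687 (iv1 D191641) (iv3 D98609) (iv4 D46098) (iv1 F64205) (iv4 F72684) (iv3 F152023) F332861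
theorem F383995 : act 5 n191641 = n128621 := d6_2 (iv5 F329261) F383994 F206904
def n191642 : Q := act 2 n98609
theorem D191642 : act 2 n98609 = n191642 := rfl
theorem F383996 : act 5 n191642 = n191616 := d2_2 (iv5 F152003) D191642 (iv2 D191616)
def n191643 : Q := act 6 n98609
theorem D191643 : act 6 n98609 = n191643 := rfl
theorem F383997 : act 3 n191643 = n98610 := d7_1 D191643 (iv6 D98610) D98609
def n191644 : Q := act 0 n98610
theorem D191644 : act 0 n98610 = n191644 := rfl
theorem F383998 : act 4 n191644 = n188766 := d20_2 (iv4 F152004) D191644 (iv3 D188766) (iv1 F159991) F349135 F180509 (iv1 D61905) (iv4 F96505) (iv3 F377965) (iv1 D98612)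
theorem E103480 : n191637 = n188740 := ((c20_4 F159993 (iv1 D92737) D92738 D188740 (iv1 D191637) F152002 (iv4 F152004) D191644 F383998 (iv3 D188766) (iv1 F159991))).symm
theorem F383999 : act 0 n188740 = n98608 := (sb E103480 (iv1 D191637))
theorem F384000 : act 2 n187668 = n191636 := d15_3 (iv0 D191636) (iv0 F383999) F374656
theorem F384001 : act 3 n191636 = n138037 := d0_2 D187668 F384000 (iv2 F374700) (iv3 D188749) F143015
theorem F384002 : act 6 n138034 = n191636 := d7_0 F384001 (iv6 D138037) D138034
theorem F384003 : act 3 n188764 = n191644 := d5_5 F383998 (iv3 D188766) (iv4 D92758) (iv3 F143044) D188764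
theorem E103481 : n188766 = n186808 := ((c20_2 F367835 D186808 (iv4 F383998) (iv3 F384003) (iv1 F374774) F176515 F82682 D52586 D113903 F362108 F367838)).symm
theorem F384004 : act 3 n186808 = n92758 := (sb E103481 (iv3 D188766))
theorem F384005 : act 4 n186808 = n191644 := (sb E103481 (iv4 F383998))
theorem F384006 : act 5 n186808 = n186999 := (sb E103481 F374778)
theorem F384007 : act 7 n186808 = n187042 := (sb E103481 F374779)
def n191645 : Q := act 1 n98610
theorem D191645 : act 1 n98610 = n191645 := rfl
def n191646 : Q := act 5 n98610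
theorem D191646 : act 5 n98610 = n191646 := rfl
theorem F384008 : act 6 n191646 = n191620 := d12_2 D98610 D191646 (iv5 D191620) (iv6 D98597) (iv5 F72667)
theorem F384009 : act 4 n191646 = n186718 := d18_5 (iv1 D131949) (iv4 F377966) (iv1 D98612) (iv4 F152004) D191646 (iv0 D186718) (iv4 F367778) (iv0 F383725) (iv5 F383724)
theorem F384010 : act 2 n191623 = n191646 := d1_3 F384009 (iv2 F383713) D191623
theorem F384011 : act 7 n191627 = n191646 := d11_0 F384009 F383712 D191627
theorem F384012 : act 5 n186724 = n191623 := d2_0 F384010 (iv5 D191646) (iv2 F367791)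
theorem F384013 : act 3 n191623 = n132163 := d6_1 F384012 (iv5 F362882) F367797
theorem F384014 : act 5 n191619 = n113517 := d18_9 F352572 (iv4 F367808) (iv1 D186726) (iv4 F367792) F384012 (iv4 D191623) (iv0 D98598) (iv4 F151992) D191619
theorem F384015 : act 2 n190565 = n191619 := d2_3 F384014 (iv2 F362897) F383724
theorem F384016 : act 7 n190562 = n191619 := d13_0 F384014 F359715 F380146
theorem F384017 : act 0 n191646 = n190561 := d21_4 (iv5 F384014) (iv1 D191619) D191620 (iv6 F384008) F380143 F345226 F160841 (iv5 F248690) F334366 (iv1 F352573)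
theorem F384018 : act 1 n191646 = n186741 := d15_1 (iv0 F384017) F367857 (iv2 F380141)
theorem F384019 : act 3 n191646 = n114954 := d20_5 (iv4 D189783) (iv1 F285262) F366990 (iv3 F367855) (iv1 F384018) (iv4 D114954) (iv1 F83760) D53061 D115001 F377735
theorem F384020 : act 5 n191618 = n186736 := d21_8 F72689 D89074 (iv5 F136794) D186741 (iv1 F384018) F384008 (iv5 D191620) D191618 (iv6 D186736) (iv1 F136775)
theorem F384021 : act 2 n190562 = n191618 := d2_3 F384020 F367834 F380146
theorem F384022 : act 7 n190565 = n191618 := d13_0 F384020 F367836 F383724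
theorem F384023 : act 0 n128713 = n191620 := d21_10 (iv5 D191620) D191618 F384020 (iv6 D186736) (iv1 F136775) F325753 D125656 (iv1 F333050) (iv5 D128712) D128713
theorem F384024 : act 4 n191618 = n186742 := d11_1 F384022 F367866 D190565
theorem F384025 : act 1 n190562 = n186717 := d15_0 (iv0 F383725) F384022 (iv2 F384021)
theorem E103482 : n191623 = n190558 := ((c21_8 F136900 (iv1 F136764) F136763 D186717 (iv1 F384025) F380145 (iv5 D190560) D190558 (iv5 F384012) (iv6 D186724) (iv1 F136902))).symm
theorem F384026 : act 2 n190558 = n191646 := (sb E103482 F384010)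
theorem F384027 : act 3 n190558 = n132163 := (sb E103482 F384013)
theorem F384028 : act 4 n190558 = n98598 := (sb E103482 (iv4 D191623))
theorem F384029 : act 5 n190558 = n186724 := (sb E103482 (iv5 F384012))
theorem E103483 : n191622 = n191491 := (c5_2 F384028 D191622 F383564 F211681 D132163 (iv3 F384027))
theorem F384030 : act 3 n191491 = n98598 := (sb E103483 (iv3 D191622))
theorem F384031 : act 3 n191624 = n135209 := d6_3 (iv5 F383563) F384030 D191624
theorem F384032 : act 3 n191625 = n134877 := d7_3 F383565 F384030 D191625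
theorem E103484 : n191627 = n190559 := ((c15_2 (iv0 D190558) D190559 F384011 (iv2 F384026))).symm
theorem F384033 : act 4 n190559 = n98599 := (sb E103484 (iv4 D191627))
theorem F384034 : act 7 n190559 = n191646 := (sb E103484 F384011)
theorem F384035 : act 5 n114954 = n191643 := d6_2 D191646 F384019 F383997
theorem F384036 : act 6 n191640 = n125941 := d21_5 (iv5 F177854) (iv1 F179040) F384035 (iv6 D191643) D191640 (iv5 D125941) F161314 D105268 F161226 D113957
theorem F384037 : act 4 n135499 = n191640 := d10_3 F384036 F358333 D135499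
theorem F384038 : act 0 n135499 = n132672 := d20_1 (iv4 F384037) F212990 (iv3 D128895) F327830 (iv3 D46107) (iv4 D22020) D22018 D46098 D98609 D191640
theorem F384039 : act 4 n191619 = n186743 := d11_1 F384016 (iv7 F367868) D190562
theorem F384040 : act 1 n191621 = n190562 := d15_1 F383979 F384016 (iv2 F384015)
theorem F384041 : act 3 n191610 = n183491 := d20_5 (iv4 F384039) (iv1 D191619) F151992 (iv3 F151987) D191610 (iv4 F358614) (iv1 F377730) F377727 (iv3 F147853) (iv1 F367858)
theorem F384042 : act 5 n185263 = n191610 := d6_0 F384041 F353763 (iv3 F287548)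
def n191647 : Q := act 7 n98610
theorem D191647 : act 7 n98610 = n191647 := rfl
theorem F384043 : act 4 n191647 = n98614 := d11_1 D191647 (iv7 D98614) (iv4 F152004)
theorem F384044 : act 5 n191647 = n190559 := d13_1 D191647 F384034 (iv5 D191646)
def n191648 : Q := act 3 n98611
theorem D191648 : act 3 n98611 = n191648 := rfl
theorem F384045 : act 2 n191648 = n134320 := d0_1 D191648 F216329 (iv2 F211397) F367794 F377969
theorem F384046 : act 7 n191648 = n134312 := d8_2 F377970 D191648 (iv3 F367807)
theorem F384047 : act 1 n134318 = n191648 := d15_1 D134318 F384046 F216326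
theorem F384048 : act 1 n191648 = n134317 := d15_0 (iv0 D134317) D134320 (iv2 F384045)
def n191649 : Q := act 4 n98611
theorem D191649 : act 4 n98611 = n191649 := rfl
theorem F384049 : act 2 n191649 = n131951 := d1_1 D191649 F367795 F377969
theorem F384050 : act 6 n191649 = n180351 := d10_2 F383856 D191649 (iv4 F383853)
theorem F384051 : act 7 n191649 = n131943 := d11_2 F377970 D191649 (iv4 F367808)
theorem F384052 : act 0 n98626 = n191649 := d20_1 F152106 (iv4 D191649) D191648 (iv1 F384047) F359590 (iv4 D104408) (iv1 F75933) (iv4 F291719) (iv3 F368887) F368889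
theorem F384053 : act 1 n131949 = n191649 := d15_0 (iv0 F384052) (iv7 F359715) (iv2 F362897)
theorem F384054 : act 3 n127369 = n191649 := d8_3 F384051 (iv3 F362108) F362106
theorem F384055 : act 3 n132067 = n191645 := d20_9 F152004 D98611 D191649 (iv3 F384054) (iv1 D127369) (iv3 F204668) F362098 (iv1 D134531) F211606 (iv1 D191645)
theorem F384056 : act 4 n191645 = n134542 := d5_2 F211606 F384055 F216522 F98473 (iv3 F98469)
theorem F384057 : act 6 n191645 = n132064 := d7_2 D132067 F384055 (iv3 D132064)
def n191650 : Q := act 5 n98611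
theorem D191650 : act 5 n98611 = n191650 := rfl
def n191651 : Q := act 5 n98612
theorem D191651 : act 5 n98612 = n191651 := rfl
theorem F384058 : act 3 n191651 = n131926 := d6_1 D191651 (iv5 D131926) (iv3 F377965)
theorem F384059 : act 6 n191465 = n191651 := d21_5 (iv5 D88603) F63726 (iv5 F72601) D98376 D191465 (iv5 D191651) (iv1 D98612) D98613 (iv6 F291066) (iv1 F291676)
def n191652 : Q := act 1 n98613
theorem D191652 : act 1 n98613 = n191652 := rfl
theorem F384060 : act 5 n191625 = n191652 := d21_6 F64201 (iv1 F31369) D22016 D46092 D98598 D191625 (iv1 D191652) (iv5 D98613) (iv6 D46100) (iv1 F64205)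
def n191653 : Q := act 4 n98613
theorem D191653 : act 4 n98613 = n191653 := rfl
theorem F384061 : act 6 n191653 = n187007 := d10_2 F291066 D191653 F368815
def n191654 : Q := act 7 n98613
theorem D191654 : act 7 n98613 = n191654 := rfl
theorem F384062 : act 5 n191654 = n98614 := d13_1 D191654 (iv7 D98614) D98613
def n191655 : Q := act 0 n98616
theorem D191655 : act 0 n98616 = n191655 := rfl
theorem F384063 : act 4 n191655 = n190956 := d18_3 (iv1 F151977) D98616 D191655 (iv5 D190956) F149771 (iv0 F157623) F70151 D46087 D98586
theorem F384064 : act 1 n183407 = n191655 := d15_0 (iv0 D191655) (iv7 F367786) F367785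
def n191656 : Q := act 1 n98616
theorem D191656 : act 1 n98616 = n191656 := rfl
theorem F384065 : act 1 n191656 = n183407 := d15_1 D191656 (iv7 F380805) F380804
def n191657 : Q := act 3 n98616
theorem D191657 : act 3 n98616 = n191657 := rfl
theorem F384066 : act 4 n191657 = n98619 := d5_2 D98616 D191657 (iv3 D98619) (iv4 D46102) D46101
def n191658 : Q := act 5 n98616
theorem D191658 : act 5 n98616 = n191658 := rfl
theorem F384067 : act 2 n191658 = n132674 := d2_1 D191658 (iv5 F380806) F380804
theorem F384068 : act 4 n191658 = n135636 := d16_2 D98616 D191658 (iv5 F379690) (iv4 D190407) (iv5 F160705) F294385 (iv5 F294475) F294476 (iv2 F294472)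
theorem F384069 : act 0 n132416 = n191658 := d18_2 (iv1 F217929) F217926 F384068 (iv5 F379690) (iv4 D190407) F157798 D190958 F381707 F377676
theorem F384070 : act 1 n126558 = n191658 := d18_6 (iv1 F379676) F379671 F360342 F364265 (iv5 D133217) (iv4 F203532) F384068 F218132 F379619
def n191659 : Q := act 6 n98616
theorem D191659 : act 6 n98616 = n191659 := rfl
theorem F384071 : act 4 n191659 = n98618 := d10_1 D191659 (iv6 D98618) D98616
def n191660 : Q := act 0 n98618
theorem D191660 : act 0 n98618 = n191660 := rfl
theorem F384072 : act 2 n138102 = n191660 := d15_3 (iv0 D191660) F365380 D138102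
theorem F384073 : act 3 n191660 = n183509 := d0_2 (iv3 F221323) F384072 (iv2 F380751) (iv3 F380749) F219260
theorem F384074 : act 7 n191660 = n138094 := d4_2 D138102 F384072 F221317
theorem F384075 : act 1 n138102 = n190723 := d15_0 (iv0 F380810) (iv7 F384074) (iv2 F384072)
theorem F384076 : act 1 n138100 = n191660 := d15_1 D138100 F384074 F221317
def n191661 : Q := act 5 n98618
theorem D191661 : act 5 n98618 = n191661 := rfl
theorem F384077 : act 2 n191661 = n184250 := d2_1 D191661 (iv5 F380809) F380808
theorem F384078 : act 3 n191661 = n98623 := d6_1 D191661 (iv5 D98623) (iv3 F152016)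
theorem F384079 : act 6 n191661 = n99316 := d12_2 D98618 D191661 (iv5 D99316) F294474 (iv5 F294473)
def n191662 : Q := act 7 n98618
theorem D191662 : act 7 n98618 = n191662 := rfl
theorem F384080 : act 2 n191662 = n138100 := d4_1 D191662 F380811 F380808
theorem F384081 : act 3 n191662 = n98624 := d8_1 D191662 (iv7 D98624) (iv3 F152016)
theorem F384082 : act 1 n138094 = n191662 := d15_1 (iv0 F380810) (iv7 D191662) (iv2 F380808)
theorem F384083 : act 1 n191662 = n138102 := d15_1 F384082 (iv7 D138102) (iv2 F221317)
def n191663 : Q := act 0 n98619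
theorem D191663 : act 0 n98619 = n191663 := rfl
def n191664 : Q := act 2 n98619
theorem D191664 : act 2 n98619 = n191664 := rfl
theorem F384084 : act 5 n191664 = n191595 := d2_2 (iv5 F152017) D191664 (iv2 D191595)
def n191665 : Q := act 6 n98619
theorem D191665 : act 6 n98619 = n191665 := rfl
theorem F384085 : act 3 n191665 = n98620 := d7_1 D191665 (iv6 D98620) D98619
def n191666 : Q := act 0 n98620
theorem D191666 : act 0 n98620 = n191666 := rfl
theorem F384086 : act 4 n191666 = n137175 := d20_2 (iv4 F152018) D191666 F220345 (iv1 F218838) F350299 (iv4 D159673) F114515 (iv4 F161524) F161523 (iv1 F383747)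
theorem F384087 : act 7 n137171 = n191666 := d11_0 F384086 (iv7 D137175) (iv4 F220342)
def n191667 : Q := act 1 n98620
theorem D191667 : act 1 n98620 = n191667 := rfl
theorem F384088 : act 5 n191667 = n126195 := d18_9 F353618 (iv4 D113175) D113172 F176338 (iv5 F161561) F383736 (iv0 D98621) (iv4 F152018) D191667
theorem F384089 : act 3 n126197 = n191667 := d6_3 F384088 (iv3 D126195) D126197
theorem F384090 : act 4 n137153 = n191667 := d20_2 (iv4 F352437) (iv1 F352447) (iv3 F384089) F359803 (iv3 D59196) F45422 (iv1 D23751) D23752 D48704 D105350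
theorem F384091 : act 2 n191667 = n137171 := d1_1 F384090 F220342 (iv2 F220333)
theorem F384092 : act 6 n191667 = n137152 := d10_2 D137153 F384090 (iv4 D137152)
def n191668 : Q := act 5 n98620
theorem D191668 : act 5 n98620 = n191668 := rfl
theorem F384093 : act 6 n191668 = n180363 := d12_2 D98620 D191668 F354673 (iv6 D98582) (iv5 F72675)
theorem F384094 : act 4 n191668 = n112739 := d17_4 (iv1 F381055) (iv5 F384088) (iv1 D191667) D191668 (iv5 F373684) (iv0 D113186) (iv5 D52243) D52241 D113180
def n191669 : Q := act 7 n98620
theorem D191669 : act 7 n98620 = n191669 := rfl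
theorem F384095 : act 4 n191669 = n98624 := d11_1 D191669 (iv7 D98624) (iv4 F152018)
theorem F384096 : act 0 n191669 = n137171 := d20_1 (iv4 F384095) F220342 F100421 D64486 (iv3 F350285) (iv4 D105326) (iv1 D48696) D48697 D105330 (iv1 F360366)
theorem F384097 : act 1 n186733 = n137171 := d15_0 (iv0 F384096) (iv7 D191669) (iv2 F367822)
theorem F384098 : act 0 n186731 = n138010 := d20_4 (iv4 F220342) (iv1 F384097) F367823 (iv3 F367818) (iv3 D138010) D138011 (iv1 F221272) D143068 (iv3 F352464) F352461
def n191670 : Q := act 5 n98621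
theorem D191670 : act 5 n98621 = n191670 := rfl
theorem F384099 : act 3 n191670 = n134968 := d6_1 D191670 (iv5 F329632) (iv3 F383739)
theorem F384100 : act 1 n191670 = n100132 := d17_6 F355861 (iv5 D52385) D52381 (iv5 F161561) F383736 D191670 (iv5 F367696) (iv0 F367698) F227809
def n191671 : Q := act 4 n98623
theorem D191671 : act 4 n98623 = n191671 := rfl
theorem F384101 : act 2 n191671 = n100160 := d1_1 D191671 F154092 (iv2 F152019)
theorem F384102 : act 6 n191671 = n99317 := d10_2 (iv6 F152020) D191671 (iv4 D99317)
def n191672 : Q := act 0 n98625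
theorem D191672 : act 0 n98625 = n191672 := rfl
def n191673 : Q := act 1 n98625
theorem D191673 : act 1 n98625 = n191673 := rfl
def n191674 : Q := act 2 n98625
theorem D191674 : act 2 n98625 = n191674 := rfl
theorem F384103 : act 5 n191674 = n190556 := d2_2 (iv5 F152021) D191674 (iv2 D190556)
def n191675 : Q := act 0 n98627
theorem D191675 : act 0 n98627 = n191675 := rfl
def n191676 : Q := act 1 n98627
theorem D191676 : act 1 n98627 = n191676 := rfl
theorem F384104 : act 5 n191676 = n191673 := d18_9 (iv1 D191673) F336400 F336399 F168740 D128964 (iv4 F364792) (iv0 D182509) (iv4 F295373) D191676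
def n191677 : Q := act 5 n98639
theorem D191677 : act 5 n98639 = n191677 := rfl
theorem F384105 : act 2 n191677 = n190376 := d2_1 D191677 (iv5 D190376) F152032
theorem F384106 : act 3 n191677 = n98641 := d6_1 D191677 (iv5 D98641) D98639
theorem F384107 : act 7 n191677 = n190212 := d13_2 F157618 D191677 (iv5 D190212)
theorem F384108 : act 4 n191677 = n191656 := d18_5 D40751 (iv4 F70361) (iv1 F147157) (iv4 F152031) D191677 F384065 (iv4 D183407) (iv0 D87552) (iv5 D40753)
theorem F384109 : act 0 n135050 = n191677 := d18_0 F384108 (iv1 D191656) (iv4 D98616) F294473 F293513 D103214 F294012 (iv0 F370279) F370276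
theorem F384110 : act 6 n134979 = n191677 := d7_0 F384106 F357345 (iv3 F217200)
def n191678 : Q := act 3 n98646
theorem D191678 : act 3 n98646 = n191678 := rfl
theorem F384111 : act 5 n191678 = n190710 := d6_2 F294407 D191678 (iv3 D190710)
theorem F384112 : act 6 n191678 = n132421 := d7_2 (iv6 F334889) D191678 F345908
theorem F384113 : act 4 n191678 = n191606 := d20_6 (iv4 F327401) (iv1 F327925) (iv4 D46115) (iv3 F72693) D98646 D191678 (iv1 D191606) (iv4 D98591) F72658 (iv1 F72649)
theorem E103485 : n191606 = n132415 := (c10_2 (iv6 F384112) F384113 F212485 D132421)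
theorem F384114 : act 0 n132415 = n98591 := (sb E103485 (iv1 D191606))
theorem F384115 : act 1 n132415 = n183404 := (sb E103485 F383959)
theorem F384116 : act 4 n132415 = n191678 := (sb E103485 (iv4 F384113))
theorem F384117 : act 0 n134144 = n191678 := d18_0 (iv4 F384116) F384114 (iv4 D98591) (iv5 D46089) (iv4 F70151) D95530 (iv4 F152031) F366971 (iv5 F365760)
theorem E103486 : n132674 = n132414 := (c19_20 (iv1 D132414) D132415 F384116 (iv3 D191678) (iv1 F152078) (iv5 D87596) F62204 (iv3 D40807) (iv1 F293869) D40520 (iv4 F132067) F327654 (iv1 F168042) (iv5 F325972) F327085 (iv3 F168970) (iv1 F168973) (iv5 F100099) F168155 D132674)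
theorem F384118 : act 2 n132414 = n191658 := (sb E103486 (iv2 F384067))
theorem F384119 : act 3 n132414 = n62258 := (sb E103486 (iv3 D132674))
theorem F384120 : act 4 n132414 = n135642 := (sb E103486 (iv4 F365386))
theorem F384121 : act 5 n132414 = n190722 := (sb E103486 (iv5 F380806))
theorem F384122 : act 5 n186721 = n132413 := d17_5 F329335 F328975 (iv1 F133786) (iv5 F295064) D186721 (iv0 D132413) D132415 F384115 (iv4 D183404)
theorem F384123 : act 7 n132413 = n191658 := d13_2 (iv7 F367786) F384122 (iv5 D191658)
theorem F384124 : act 4 n135641 = n132413 := d16_0 (iv5 F384122) (iv4 D186721) F295064 F294468 F76240 D96017 (iv5 F365387) F365389 F365390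
def n191679 : Q := act 4 n98646
theorem D191679 : act 4 n98646 = n191679 := rfl
theorem F384125 : act 2 n191679 = n143282 := d1_1 D191679 F226088 (iv2 F334888)
theorem F384126 : act 6 n191679 = n143100 := d10_2 (iv6 F334889) D191679 F225956
theorem F384127 : act 5 n191679 = n136658 := d17_5 F356328 F136890 (iv1 F294405) F294407 D191679 (iv0 D136658) F100032 D64870 D138040
theorem F384128 : act 0 n191679 = n191487 := d18_2 D98646 D191679 (iv4 D191487) (iv5 D98435) F151856 (iv0 F152040) (iv4 D98640) (iv0 D46111) D46113
theorem F384129 : act 3 n191587 = n191679 := d20_5 (iv4 F345233) (iv1 F354676) F151974 (iv3 F151970) D191587 (iv4 D191679) (iv1 F152078) D183526 F345232 (iv1 F152089)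
def n191680 : Q := act 3 n98647
theorem D191680 : act 3 n98647 = n191680 := rfl
theorem F384130 : act 5 n191680 = n102898 := d6_2 F294402 D191680 F158202
theorem F384131 : act 7 n191680 = n143276 := d8_2 (iv7 F334890) D191680 F226085
theorem F384132 : act 0 n137577 = n191680 := d17_2 (iv1 F289259) (iv5 F344343) F384130 (iv4 D102898) (iv5 F293771) F369344 F369341 (iv0 F294681) D94280
def n191681 : Q := act 4 n98647
theorem D191681 : act 4 n98647 = n191681 := rfl
theorem F384133 : act 7 n191681 = n143282 := d11_2 (iv7 F334890) D191681 F226088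
theorem F384134 : act 5 n191681 = n136659 := d17_5 F357346 (iv5 D96444) D96441 F294402 D191681 F357735 (iv5 F357733) F356303 D138035
theorem F384135 : act 1 n191681 = n191487 := d18_6 F370491 F370488 D189892 F378133 F294402 D191681 (iv4 D191487) F376086 (iv5 F357367)
def n191682 : Q := act 6 n98647
theorem D191682 : act 6 n98647 = n191682 := rfl
theorem F384136 : act 2 n191682 = n143104 := d3_1 D191682 F335420 (iv2 F335419)
theorem F384137 : act 7 n191682 = n142995 := d14_2 (iv7 F334890) D191682 (iv6 D142995) F103006 D67125
theorem F384138 : act 0 n191682 = n143102 := d21_4 (iv5 D96444) D96441 F294402 D191682 (iv6 F368070) (iv5 D186805) F348288 D99595 (iv6 F357350) F357346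
theorem F384139 : act 1 n191682 = n134124 := d15_1 (iv0 F384138) (iv7 F336397) (iv2 F355776)
def n191683 : Q := act 1 n98648
theorem D191683 : act 1 n98648 = n191683 := rfl
theorem F384140 : act 1 n191683 = n183526 := d15_1 D191683 (iv7 F345234) (iv2 F345236)
def n191684 : Q := act 5 n98648
theorem D191684 : act 5 n98648 = n191684 := rfl
theorem F384141 : act 2 n191684 = n101162 := d2_1 D191684 F155857 (iv2 F345236)
theorem F384142 : act 3 n191684 = n99896 := d6_1 D191684 F294454 (iv3 F345237)
theorem F384143 : act 6 n191684 = n99566 := d12_2 (iv6 F345238) D191684 F294717 F75405 D87183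
def n191685 : Q := act 0 n98649
theorem D191685 : act 0 n98649 = n191685 := rfl
theorem F384144 : act 4 n191685 = n137919 := d18_3 F335416 (iv4 F345235) D191685 (iv5 F357367) F153483 F293499 F61539 D87053 D182318
theorem F384145 : act 1 n186738 = n191685 := d15_0 (iv0 D191685) F345234 (iv2 F367841)
theorem F384146 : act 2 n137957 = n191685 := d1_3 F384144 F221177 (iv4 F221225)
theorem F384147 : act 6 n137914 = n191685 := d10_0 F384144 (iv6 D137919) (iv4 F221175)
theorem F384148 : act 7 n191683 = n191685 := d15_2 (iv0 F350429) D191683 (iv2 F384146)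
def n191686 : Q := act 1 n98649
theorem D191686 : act 1 n98649 = n191686 := rfl
theorem F384149 : act 1 n191686 = n186738 := d15_1 D191686 F367842 F345236
theorem F384150 : act 7 n191686 = n137957 := d15_2 (iv0 D191685) D191686 F384146
theorem F384151 : act 4 n191686 = n137961 := d18_7 (iv1 F157616) F295390 (iv1 D87181) F61611 D87183 (iv4 F345235) D191686 (iv0 F360354) (iv5 D98435)
theorem F384152 : act 2 n191683 = n191686 := d4_3 F384150 F384146 (iv7 F384148)
def n191687 : Q := act 4 n98650
theorem D191687 : act 4 n98650 = n191687 := rfl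
theorem F384153 : act 2 n191687 = n191472 := d1_1 D191687 F383535 F335412
theorem F384154 : act 3 n191687 = n184228 := d5_1 D191687 F381816 F381814 (iv4 F381825) F381824
theorem F384155 : act 6 n191687 = n181945 := d10_2 (iv6 F289317) D191687 (iv4 D181945)
theorem F384156 : act 1 n191687 = n188075 := d18_8 F382804 (iv4 F382805) F382807 (iv4 D184571) (iv5 F292864) F159027 F292863 D191687 F372251
def n191688 : Q := act 4 n98651
theorem D191688 : act 4 n98651 = n191688 := rfl
theorem F384157 : act 3 n191688 = n188073 := d5_1 D191688 (iv4 F377302) (iv3 D189665) D189666 F377304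
theorem F384158 : act 7 n191688 = n191472 := d11_2 F335415 D191688 F383535
theorem F384159 : act 0 n191688 = n188075 := d17_0 F372251 F382804 (iv5 D191263) F150961 D97947 F157662 F74353 D98651 D191688
def n191689 : Q := act 0 n98653
theorem D191689 : act 0 n98653 = n191689 := rfl
theorem F384160 : act 1 n182773 = n191689 := d15_0 (iv0 D191689) (iv7 F367849) (iv2 F367850)
def n191690 : Q := act 1 n98653
theorem D191690 : act 1 n98653 = n191690 := rfl
theorem F384161 : act 1 n191690 = n182773 := d15_1 D191690 (iv7 D182773) (iv2 F332738)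
theorem F384162 : act 5 n191690 = n190539 := d17_7 (iv1 F377709) F380716 (iv1 D190657) F148281 (iv4 F295373) (iv5 F152083) D191690 F380134 F380129
def n191691 : Q := act 3 n98655
theorem D191691 : act 3 n98655 = n191691 := rfl
theorem F384163 : act 7 n191691 = n190544 := d8_2 (iv7 F380043) D191691 (iv3 D190544)
theorem F384164 : act 4 n130833 = n191691 := d19_2 D120970 F345360 (iv3 D191691) (iv1 F152088) (iv5 F345223) (iv4 D180790) F132346 (iv1 F132115) (iv5 D86156) F60676 (iv3 F87590) F87592 (iv5 D26750) F21250 (iv3 F21246) F21641 D17144 (iv4 F43420) D55794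
def n191692 : Q := act 4 n98655
theorem D191692 : act 4 n98655 = n191692 := rfl
theorem F384165 : act 2 n191692 = n157844 := d1_1 D191692 F345231 (iv2 F380042)
theorem F384166 : act 7 n191692 = n157826 := d11_2 (iv7 F380043) D191692 F345233
theorem F384167 : act 5 n191692 = n125395 := d16_1 D191692 (iv4 D125395) F248734 D86352 D180798 (iv4 F372503) F372501 (iv7 F380040) (iv2 F380042)
theorem F384168 : act 1 n191597 = n191692 := d17_6 (iv1 F254371) F254373 (iv1 F254353) (iv5 F254076) D164137 (iv5 F383923) F384167 (iv0 F281205) (iv4 D180669)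
def n191693 : Q := act 5 n98655
theorem D191693 : act 5 n98655 = n191693 := rfl
theorem F384169 : act 2 n191693 = n190542 := d2_1 D191693 (iv5 D190542) (iv2 F380042)
theorem F384170 : act 7 n191693 = n190545 := d13_2 (iv7 F380043) D191693 (iv5 D190545)
theorem F384171 : act 4 n191693 = n180806 := d16_4 D125395 (iv5 F384167) (iv4 D191692) D191693 (iv5 D180806) (iv4 D86357) (iv5 F248743) (iv7 F256549) (iv2 F256550)
theorem F384172 : act 0 n191693 = n101127 := d17_2 D98655 D191693 (iv5 F156342) (iv4 F345251) (iv5 D157800) F201652 (iv5 F383935) (iv0 F383936) F152085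
def n191694 : Q := act 6 n98655
theorem D191694 : act 6 n98655 = n191694 := rfl
theorem F384173 : act 2 n191694 = n190543 := d3_1 D191694 (iv6 D190543) (iv2 F380042)
theorem F384174 : act 5 n191694 = n103454 := d21_6 (iv5 D37856) (iv1 F66219) D22038 D46116 D98655 D191694 (iv1 D103454) F295239 (iv6 D87124) (iv1 F295045)
theorem F384175 : act 0 n101507 = n191694 := d21_4 (iv5 D22717) D22715 D47225 D101507 (iv6 D191694) D191693 F384172 (iv5 F156342) (iv6 D101532) (iv1 D47233)
def n191695 : Q := act 3 n98656
theorem D191695 : act 3 n98656 = n191695 := rfl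
theorem F384176 : act 5 n191695 = n189083 := d6_2 F372501 D191695 F375682
theorem F384177 : act 7 n191695 = n190541 := d8_2 F380040 D191695 (iv3 D190541)
def n191696 : Q := act 4 n98656
theorem D191696 : act 4 n98656 = n191696 := rfl
theorem F384178 : act 2 n191696 = n157826 := d1_1 D191696 F345233 (iv2 F380041)
theorem F384179 : act 5 n191696 = n125400 := d9_2 F372501 D191696 (iv4 D125400) F248743 D86357 D180806 (iv4 F384171) (iv5 D191693) D191692 F384167 (iv4 D125395) F248734 D86352 D180798 (iv4 F372503)
theorem F384180 : act 7 n191696 = n157844 := d11_2 F380040 D191696 F345231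
theorem F384181 : act 0 n191696 = n186703 := d18_2 (iv1 F152086) D191696 F367731 (iv5 F153055) (iv4 F155870) F354719 F362334 F345224 F345223
theorem F384182 : act 1 n191696 = n191597 := d18_8 F258686 (iv4 D125370) (iv1 D58706) (iv4 F76343) (iv5 F332749) F152085 D98656 D191696 F383923
theorem F384183 : act 1 n191692 = n186703 := d15_0 (iv0 F384181) F384180 (iv2 F384165)
def n191697 : Q := act 6 n98656
theorem D191697 : act 6 n98656 = n191697 := rfl
theorem F384184 : act 2 n191697 = n190546 := d3_1 D191697 (iv6 D190546) (iv2 F380041)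
theorem F384185 : act 0 n191697 = n128711 := d21_10 (iv5 F333049) (iv1 F143802) F332695 (iv6 F332696) (iv1 F136888) D101532 F156342 F372502 F372501 D191697
theorem F384186 : act 1 n191697 = n128716 := d15_1 (iv0 F384185) (iv7 F352491) F352544
def n191698 : Q := act 2 n98658
theorem D191698 : act 2 n98658 = n191698 := rfl
theorem F384187 : act 3 n191698 = n136406 := d0_2 D98658 D191698 (iv2 F344182) (iv3 D96154) F73003
theorem F384188 : act 4 n191698 = n184403 := d1_2 (iv4 F294973) D191698 F286331
theorem F384189 : act 5 n191698 = n136395 := d2_2 F159454 D191698 F344189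
theorem F384190 : act 6 n191698 = n102152 := d3_2 (iv6 F152092) D191698 F157048
theorem F384191 : act 7 n191698 = n184400 := d4_2 (iv7 F152093) D191698 (iv2 F363550)
theorem F384192 : act 1 n191698 = n190549 := d15_0 (iv0 D190549) (iv7 F152093) D191698
theorem F384193 : act 1 n189093 = n191698 := d15_0 F384192 F380104 (iv2 F375721)
def n191699 : Q := act 4 n98662
theorem D191699 : act 4 n98662 = n191699 := rfl
theorem F384194 : act 2 n191699 = n190711 := d1_1 D191699 (iv4 D190711) F294413
theorem F384195 : act 3 n191699 = n184749 := d5_1 D191699 (iv4 F336400) (iv3 D98625) (iv4 F72711) (iv3 F152100)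
theorem F384196 : act 7 n191699 = n186810 := d11_2 (iv7 F152101) D191699 (iv4 D186810)
theorem F384197 : act 6 n184748 = n191699 := d14_5 F384196 F368086 F225838 D143069 F349695
def n191700 : Q := act 6 n98662
theorem D191700 : act 6 n98662 = n191700 := rfl
theorem F384198 : act 2 n191700 = n190712 := d3_1 D191700 (iv6 D190712) F294413
theorem F384199 : act 3 n191700 = n98664 := d7_1 D191700 (iv6 D98664) (iv3 F152100)
theorem F384200 : act 4 n191700 = n184748 := d10_1 D191700 F384197 (iv4 D191699)
def n191701 : Q := act 0 n98664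
theorem D191701 : act 0 n98664 = n191701 := rfl
theorem F384201 : act 2 n186808 = n191701 := d15_3 (iv0 D191701) (iv0 F368889) (iv7 F384007)
theorem F384202 : act 3 n191701 = n134551 := d0_2 (iv3 F384004) F384201 (iv2 F365519) (iv3 D104410) (iv2 F143049)
theorem F384203 : act 7 n191701 = n134542 := d4_2 (iv7 F384007) F384201 (iv2 F368886)
theorem F384204 : act 1 n186809 = n191701 := d15_1 F368892 F384203 (iv2 F368886)
def n191702 : Q := act 7 n98664
theorem D191702 : act 7 n98664 = n191702 := rfl
theorem F384205 : act 2 n191702 = n186809 := d4_1 D191702 (iv7 D186809) (iv2 F152105)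
theorem F384206 : act 4 n191702 = n113517 := d11_1 D191702 F359715 (iv4 F152106)
theorem F384207 : act 6 n191702 = n113515 := d14_1 D191702 F352466 (iv6 D89193) (iv7 F72708) D98664
theorem F384208 : act 1 n134542 = n191702 := d15_1 (iv0 F355351) (iv7 D191702) F152105
theorem F384209 : act 1 n191702 = n186808 := d15_1 F384208 F384007 F368886
def n191703 : Q := act 5 n98684
theorem D191703 : act 5 n98684 = n191703 := rfl
theorem F384210 : act 3 n191703 = n182048 := d6_1 D191703 (iv5 D182048) (iv3 F152154)
def n191704 : Q := act 5 n98692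
theorem D191704 : act 5 n98692 = n191704 := rfl
theorem F384211 : act 2 n191704 = n188259 := d2_1 D191704 F372883 F344287
theorem F384212 : act 3 n191704 = n188283 := d6_1 D191704 F372948 F294591
theorem F384213 : act 4 n191704 = n188190 := d16_2 D98692 D191704 F379873 F216056 D135615 F376441 (iv5 D98698) (iv7 F344281) F344280
theorem F384214 : act 1 n191704 = n187608 := d17_6 (iv1 D91046) (iv5 F136169) (iv1 F349284) (iv5 D98693) D98692 D191704 (iv5 D187608) (iv0 F370886) F370887
def n191705 : Q := act 4 n98693
theorem D191705 : act 4 n98693 = n191705 := rfl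
theorem F384215 : act 0 n191705 = n189345 := d18_2 (iv1 F349284) D191705 (iv4 D189345) F251609 D187871 (iv0 F371732) F370996 (iv0 D91045) (iv5 F136169)
theorem F384216 : act 1 n191705 = n189347 := d18_6 F294847 (iv4 F294814) F294811 (iv4 D98692) D98693 D191705 (iv4 D189347) (iv0 F372533) (iv5 D188166)
def n191706 : Q := act 6 n98693
theorem D191706 : act 6 n98693 = n191706 := rfl
theorem F384217 : act 3 n191706 = n190473 := d7_1 D191706 F379847 F376140
def n191707 : Q := act 5 n98697
theorem D191707 : act 5 n98697 = n191707 := rfl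
theorem F384218 : act 3 n191707 = n187584 := d6_1 D191707 F370894 F294776
theorem F384219 : act 7 n191707 = n188259 := d13_2 (iv7 F344286) D191707 F372883
theorem F384220 : act 0 n191707 = n187608 := d17_2 F152161 D191707 (iv5 D187608) (iv4 F293719) F349245 (iv0 F372533) (iv5 D188166) F294848 D93892
theorem F384221 : act 4 n191707 = n188191 := d18_5 F294135 (iv4 F140022) (iv1 F293121) D98697 D191707 F374170 (iv4 D188601) F293380 (iv5 D46284)
def n191708 : Q := act 6 n98697
theorem D191708 : act 6 n98697 = n191708 := rfl
theorem F384222 : act 3 n191708 = n102207 := d7_1 D191708 F357600 F294776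
theorem F384223 : act 4 n191708 = n98699 := d10_1 D191708 (iv6 D98699) D98697
theorem F384224 : act 7 n191708 = n137593 := d14_2 (iv7 F344286) D191708 (iv6 F349211) (iv7 F323748) (iv6 F349204)
theorem F384225 : act 5 n136081 = n191708 := d21_2 (iv5 F362222) (iv1 F362221) (iv6 D191708) (iv1 F294812) F294815 (iv5 F74236) (iv1 F109455) F109454 D99541 F290148
theorem F384226 : act 1 n191708 = n189281 := d17_8 (iv1 F369183) (iv5 F371382) (iv1 F371384) (iv5 D90531) (iv4 F73563) F334884 (iv0 F362220) F384225 F376318
def n191709 : Q := act 6 n98698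
theorem D191709 : act 6 n98698 = n191709 := rfl
def n191710 : Q := act 4 n98701
theorem D191710 : act 4 n98701 = n191710 := rfl
theorem F384227 : act 7 n191710 = n157356 := d11_2 (iv7 F349274) D191710 F355759
theorem F384228 : act 0 n191710 = n151679 := d18_2 (iv1 F238937) D191710 F238546 F108014 (iv4 F294814) F294812 (iv4 D98697) F293121 F292999
theorem F384229 : act 1 n191710 = n189342 := d18_6 D185913 (iv4 F371003) (iv1 F371005) F140157 (iv5 F349266) D191710 (iv4 D189342) F238552 (iv5 F135603)
theorem F384230 : act 6 n191710 = n151574 := d21_5 (iv5 D94281) F294681 (iv5 F369341) (iv6 F376438) (iv1 F384229) F238466 (iv1 F114532) (iv5 F151792) (iv6 D94337) (iv1 F331368)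
def n191711 : Q := act 6 n98701
theorem D191711 : act 6 n98701 = n191711 := rfl
theorem F384231 : act 4 n191711 = n151574 := d10_1 D191711 (iv6 F384230) (iv4 D191710)
theorem F384232 : act 7 n191711 = n151573 := d14_2 (iv7 F349274) D191711 F238465 (iv7 F247664) F349279
def n191712 : Q := act 3 n98702
theorem D191712 : act 3 n98702 = n191712 := rfl
theorem F384233 : act 4 n191712 = n98707 := d5_2 D98702 D191712 (iv3 D98707) (iv4 D46142) (iv3 F72754)
theorem F384234 : act 6 n191712 = n190474 := d7_2 F238329 D191712 (iv3 F379853)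
theorem F384235 : act 0 n191712 = n106737 := d20_4 (iv4 D191710) (iv1 D98701) D98702 D191712 F164518 F78008 D61992 (iv4 F341789) (iv3 F376437) (iv1 F384229)
def n191713 : Q := act 5 n98702
theorem D191713 : act 5 n98702 = n191713 := rfl
def n191714 : Q := act 6 n98703
theorem D191714 : act 6 n98703 = n191714 := rfl
theorem F384236 : act 2 n191714 = n130598 := d3_1 D191714 (iv6 D130598) F152165
theorem F384237 : act 3 n191714 = n120123 := d7_1 D191714 (iv6 D120123) (iv3 F152167)
theorem F384238 : act 5 n191714 = n135258 := d12_1 D191714 (iv6 F364210) (iv5 D114109) (iv6 F87478) (iv5 F152164)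
def n191715 : Q := act 3 n98704
theorem D191715 : act 3 n98704 = n191715 := rfl
theorem F384239 : act 4 n191715 = n190474 := d5_2 D98704 D191715 (iv3 F379853) (iv4 D151492) F107923
theorem F384240 : act 6 n191715 = n98707 := d7_2 (iv6 F152168) D191715 (iv3 D98707)
theorem F384241 : act 7 n191715 = n190491 := d8_2 F238987 D191715 (iv3 F379899)
theorem F384242 : act 0 n191715 = n190015 := d19_4 (iv1 F55475) D46140 D98704 D191715 F378562 (iv4 D132049) F96558 (iv1 F95332) (iv5 D60729) (iv4 D28817) (iv3 D13737) (iv1 F10606) (iv5 D2911) F5104 (iv3 F5103) (iv1 D2379) D2380 D5696 D12031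
theorem F384243 : act 1 n191715 = n190493 := d15_1 (iv0 F384242) (iv7 D190493) (iv2 F378561)
def n191716 : Q := act 5 n98704
theorem D191716 : act 5 n98704 = n191716 := rfl
theorem F384244 : act 6 n191716 = n176716 := d12_2 (iv6 F152168) D191716 (iv5 D176716) (iv6 D84252) F292606
theorem F384245 : act 0 n191716 = n189636 := d17_2 (iv1 F152170) D191716 (iv5 D189636) (iv4 D94265) (iv5 D44068) (iv0 D20933) D20935 D44073 D94271
theorem F384246 : act 1 n191716 = n189640 := d17_6 (iv1 D52169) (iv5 D25338) (iv1 F55475) D46140 D98704 D191716 (iv5 D189640) (iv0 F176075) (iv4 D113024)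
def n191717 : Q := act 0 n98707
theorem D191717 : act 0 n98707 = n191717 := rfl
theorem F384247 : act 4 n191717 = n189402 := d20_8 (iv4 F144769) F376306 (iv4 F376305) (iv3 F376304) F371736 D191712 F384233 D191717 (iv3 D189402) (iv1 D93946)
theorem F384248 : act 5 n165765 = n191717 := d19_1 D165765 F384247 (iv3 D189402) (iv1 D93946) D93947 (iv4 F364702) F148560 F70893 (iv5 D40464) (iv4 D19125) (iv3 F30733) (iv1 F57157) (iv5 D36411) (iv4 D17581) F13026 (iv1 F14286) D17509 D36255 D79613
def n191718 : Q := act 1 n98707
theorem D191718 : act 1 n98707 = n191718 := rfl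
theorem F384249 : act 5 n191718 = n165766 := d17_7 (iv1 F122327) (iv5 F336567) (iv1 D132375) F322727 (iv4 F129315) (iv5 F292604) D191718 F261157 F248995
theorem F384250 : act 6 n130563 = n191718 := d21_5 F75151 (iv1 D47873) D47874 (iv6 F158563) (iv1 F354248) F384249 (iv1 D165766) (iv5 F328296) (iv6 D44856) (iv1 F70412)
theorem F384251 : act 3 n191718 = n178879 := d7_1 F384250 (iv6 D178879) (iv3 F318271)
def n191719 : Q := act 2 n98707
theorem D191719 : act 2 n98707 = n191719 := rfl
theorem F384252 : act 5 n191719 = n176712 := d2_2 (iv5 F292604) D191719 (iv2 D176712)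
theorem F384253 : act 6 n191719 = n190492 := d21_3 F378610 (iv1 F276079) (iv5 F384252) (iv1 D190492) (iv6 D96056) (iv5 D44823) (iv1 F33552) D21374 D44856 D96121
theorem F384254 : act 2 n190492 = n191715 := d3_1 F384253 F384240 D191719
theorem F384255 : act 4 n190471 = n190492 := d1_0 F384254 F384239 (iv2 F379854)
def n191720 : Q := act 6 n98847
theorem D191720 : act 6 n98847 = n191720 := rfl
theorem F384256 : act 2 n191720 = n100809 := d3_1 D191720 (iv6 D100809) (iv2 F152392)
theorem F384257 : act 3 n191720 = n152142 := d7_1 D191720 (iv6 D152142) (iv3 F306767)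
theorem F384258 : act 4 n191720 = n98848 := d10_1 D191720 (iv6 D98848) D98847
theorem F384259 : act 7 n191720 = n153590 := d14_2 (iv7 F152394) D191720 (iv6 D153590) F109155 (iv6 F301486)
theorem F384260 : act 1 n153592 = n191720 := d15_1 D153592 F384259 F241415
theorem F384261 : act 1 n191720 = n119231 := d15_1 F384260 (iv7 F383216) F383214
def n191721 : Q := act 5 n98848
theorem D191721 : act 5 n98848 = n191721 := rfl
theorem F384262 : act 2 n191721 = n182920 := d2_1 D191721 (iv5 D182920) (iv2 F152398)
theorem F384263 : act 3 n191721 = n98856 := d6_1 D191721 (iv5 D98856) (iv3 F152399)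
theorem F384264 : act 6 n191721 = n98851 := d12_2 D98848 D191721 (iv5 D98851) (iv6 D46260) D46259
def n191722 : Q := act 5 n98849
theorem D191722 : act 5 n98849 = n191722 := rfl
theorem F384265 : act 2 n191722 = n182925 := d2_1 D191722 (iv5 D182925) (iv2 F284515)
theorem F384266 : act 7 n191722 = n182928 := d13_2 (iv7 F284516) D191722 (iv5 D182928)
theorem F384267 : act 0 n191722 = n182245 := d17_2 D98849 D191722 F283682 F134911 D103908 (iv0 F159343) (iv5 D95672) (iv0 F136448) (iv4 F72925)
theorem F384268 : act 1 n191722 = n102233 := d17_8 D102231 F157085 (iv1 D101781) D101782 F368851 (iv5 D182224) (iv0 F152401) D191722 (iv4 D102233)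
theorem F384269 : act 4 n191722 = n187143 := d18_5 F335745 (iv4 F136800) F353209 (iv4 F152400) D191722 (iv0 D187143) (iv4 F369232) F369235 (iv5 D185997)
def n191723 : Q := act 5 n98850
theorem D191723 : act 5 n98850 = n191723 := rfl
theorem F384270 : act 2 n191723 = n182928 := d2_1 D191723 (iv5 D182928) (iv2 F284514)
theorem F384271 : act 7 n191723 = n182925 := d13_2 F284512 D191723 (iv5 D182925)
theorem F384272 : act 0 n191723 = n102233 := d17_2 (iv1 F152402) D191723 (iv5 F365783) F287653 (iv5 F379014) F379013 (iv5 D187292) (iv0 D89882) (iv4 F133538)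
theorem F384273 : act 1 n191723 = n182245 := d15_1 (iv0 F384272) (iv7 F287662) F365782
theorem F384274 : act 4 n191723 = n187144 := d20_0 (iv1 D187144) (iv4 F369232) F369231 (iv1 D187047) F137165 D89491 (iv1 F283687) (iv4 D182246) D182245 (iv1 F384273)
def n191724 : Q := act 0 n98851
theorem D191724 : act 0 n98851 = n191724 := rfl
theorem F384275 : act 5 n191724 = n185420 := d21_2 D98851 D191724 (iv6 F372518) (iv1 D184071) (iv6 D87801) D87800 D184066 F381818 (iv6 F381817) (iv1 D98850)
theorem F384276 : act 2 n182930 = n191724 := d2_3 F384275 F372522 (iv5 F368863)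
theorem F384277 : act 7 n182931 = n191724 := d13_0 F384275 F372520 F287658
theorem F384278 : act 1 n182224 = n191724 := d17_6 (iv1 F159341) F158650 F147377 (iv5 D89884) (iv4 F133538) D182224 F384275 F287656 F286255
def n191725 : Q := act 1 n98851
theorem D191725 : act 1 n98851 = n191725 := rfl
theorem F384279 : act 1 n191725 = n182224 := d15_1 D191725 F283664 (iv2 F152404)
theorem F384280 : act 7 n191725 = n182930 := d15_2 (iv0 D191724) D191725 F384276
theorem F384281 : act 5 n191725 = n185419 := d17_7 (iv1 F158654) (iv5 F369741) (iv1 F369743) (iv5 D97044) (iv4 F72925) D98851 D191725 (iv0 D185419) F135258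
theorem F384282 : act 2 n182931 = n191725 := d2_3 F384281 (iv2 F372521) F287658
def n191726 : Q := act 4 n98851
theorem D191726 : act 4 n98851 = n191726 := rfl
theorem F384283 : act 2 n191726 = n182932 := d1_1 D191726 (iv4 D182932) (iv2 F152404)
theorem F384284 : act 0 n191726 = n187020 := d17_0 F368848 (iv1 D99804) (iv5 F137135) F365784 (iv5 D185422) D185420 (iv5 F384275) (iv0 D191724) D191726
theorem F384285 : act 7 n191726 = n186884 := d15_2 (iv0 F368850) (iv0 F384284) F368408
def n191727 : Q := act 7 n98851
theorem D191727 : act 7 n98851 = n191727 := rfl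
theorem F384286 : act 2 n191727 = n182224 := d4_1 D191727 F283664 (iv2 F152404)
theorem F384287 : act 3 n191727 = n98861 := d8_1 D191727 (iv7 D98861) (iv3 F152405)
theorem F384288 : act 4 n191727 = n186884 := d11_1 D191727 (iv7 F384285) (iv4 D191726)
theorem F384289 : act 5 n191727 = n98852 := d13_1 D191727 (iv7 D98852) D98851
theorem F384290 : act 1 n182931 = n191727 := d15_1 D182931 (iv7 D191727) F152404
theorem F384291 : act 1 n191727 = n182930 := d15_1 F384290 (iv7 F384280) (iv2 F384282)
theorem F384292 : act 6 n191727 = n186883 := d21_3 (iv5 D182925) (iv1 F152410) (iv5 F384289) F368407 F153983 F365792 (iv1 F144772) F365787 F365785 F353219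
def n191728 : Q := act 5 n98853
theorem D191728 : act 5 n98853 = n191728 := rfl
def n191729 : Q := act 4 n98858
theorem D191729 : act 4 n98858 = n191729 := rfl
def n191730 : Q := act 6 n98858
theorem D191730 : act 6 n98858 = n191730 := rfl
def n191731 : Q := act 4 n98859
theorem D191731 : act 4 n98859 = n191731 := rfl
theorem F384293 : act 2 n191731 = n188195 := d1_1 D191731 (iv4 D188195) (iv2 F367219)
def n191732 : Q := act 6 n98859
theorem D191732 : act 6 n98859 = n191732 := rfl
theorem F384294 : act 2 n191732 = n188194 := d3_1 D191732 F372644 (iv2 F367219)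
theorem F384295 : act 5 n191732 = n100452 := d12_1 D191732 F351154 (iv5 D91058) D91059 F290951
def n191733 : Q := act 0 n98860
theorem D191733 : act 0 n98860 = n191733 := rfl
def n191734 : Q := act 1 n98860
theorem D191734 : act 1 n98860 = n191734 := rfl
def n191735 : Q := act 3 n98860
theorem D191735 : act 3 n98860 = n191735 := rfl
theorem F384296 : act 6 n191735 = n190991 := d7_2 F363135 D191735 F381822
def n191736 : Q := act 5 n98860
theorem D191736 : act 5 n98860 = n191736 := rfl
theorem F384297 : act 6 n191736 = n187573 := d12_2 F363135 D191736 F370848 F289317 D181946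
def n191737 : Q := act 7 n98860
theorem D191737 : act 7 n98860 = n191737 := rfl
theorem F384298 : act 4 n191737 = n98861 := d11_1 D191737 (iv7 D98861) D98860
def n191738 : Q := act 6 n98861
theorem D191738 : act 6 n98861 = n191738 := rfl
theorem F384299 : act 3 n191738 = n186883 := d7_1 D191738 (iv6 F384292) F384287
theorem F384300 : act 5 n191738 = n166111 := d12_1 D191738 (iv6 F316950) F337214 (iv6 F136306) (iv5 F152413)
theorem F384301 : act 0 n143513 = n191738 := d17_2 F321930 D143513 F384300 (iv4 D166111) (iv5 D79753) (iv0 D36320) D36323 D79763 (iv4 F321933)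
theorem F384302 : act 1 n143529 = n191738 := d17_6 (iv1 F187913) F187909 F130348 (iv5 F309988) D67221 D143529 F384300 (iv0 F261540) F261541
def n191739 : Q := act 3 n98872
theorem D191739 : act 3 n98872 = n191739 := rfl
theorem F384303 : act 2 n191739 = n184041 := d0_1 D191739 F375675 F375670 F295308 (iv2 F152431)
theorem F384304 : act 4 n191739 = n111408 := d5_2 D98872 D191739 F172891 (iv4 F328362) F126449
theorem F384305 : act 6 n191739 = n104178 := d7_2 F277353 D191739 (iv3 F338875)
def n191740 : Q := act 5 n98872
theorem D191740 : act 5 n98872 = n191740 := rfl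
theorem F384306 : act 2 n191740 = n98926 := d2_1 D191740 (iv5 D98926) (iv2 F152431)
theorem F384307 : act 6 n191740 = n135073 := d21_3 (iv5 D141208) (iv1 F338881) D191740 (iv1 F365767) F136702 (iv5 D41586) D41584 D89035 D186680 F367655
def n191741 : Q := act 0 n98875
theorem D191741 : act 0 n98875 = n191741 := rfl
def n191742 : Q := act 1 n98875
theorem D191742 : act 1 n98875 = n191742 := rfl
theorem F384308 : act 3 n99621 = n191742 := d20_3 (iv4 F121564) (iv1 F308765) (iv4 F351910) (iv1 D191742) F152438 (iv4 F197267) F330177 D159287 (iv3 F342344) (iv1 F197518)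
theorem F384309 : act 4 n154065 = n191742 := d20_6 (iv4 D83512) (iv1 F128605) (iv4 F321038) F351869 F361941 F383622 (iv1 D191742) F152439 (iv3 F152437) F342342
theorem F384310 : act 6 n191742 = n99618 := d10_2 (iv6 F383623) F384309 (iv4 F361937)
theorem F384311 : act 2 n191742 = n123545 := d0_1 F384308 (iv3 D123545) (iv2 F359911) F359912 (iv2 F359906)
theorem F384312 : act 7 n191742 = n154259 := d8_2 (iv7 F359907) F384308 (iv3 D154259)
theorem F384313 : act 2 n154259 = n191741 := d15_3 (iv0 D191741) D191742 F384312
theorem F384314 : act 7 n123545 = n191741 := d4_2 (iv7 F384312) F384311 (iv2 F384313)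
theorem F384315 : act 3 n191741 = n123522 := d8_1 F384314 F359915 D123545
theorem F384316 : act 1 n154259 = n177806 := d15_0 (iv0 F361939) F384314 (iv2 F384313)
theorem F384317 : act 4 n154064 = n191741 := d20_2 (iv4 F109457) D154064 F384315 (iv1 F197946) F90737 F326642 (iv1 F326641) F121190 D57380 F191057
theorem F384318 : act 3 n154064 = n99571 := d5_3 F276307 (iv3 F384315) (iv4 F384317) F339102 D176958
theorem F384319 : act 7 n99618 = n154064 := d8_0 F384318 F359924 D99618
theorem F384320 : act 2 n99618 = n154065 := d1_3 F384309 F384311 F361937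
def n191743 : Q := act 7 n98875
theorem D191743 : act 7 n98875 = n191743 := rfl
theorem F384321 : act 3 n191743 = n123083 := d8_1 D191743 (iv7 D123083) (iv3 F152438)
theorem F384322 : act 4 n191743 = n98879 := d11_1 D191743 (iv7 D98879) (iv4 F152439)
theorem F384323 : act 5 n191743 = n150914 := d13_1 D191743 F362450 F351773
theorem F384324 : act 6 n191743 = n170757 := d14_1 D191743 F268350 F306375 F129896 D98875
theorem F384325 : act 1 n123545 = n191743 := d15_1 (iv0 F361939) (iv7 D191743) (iv2 F277318)
theorem F384326 : act 1 n191743 = n154259 := d15_1 F384325 (iv7 F384312) F384311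
def n191744 : Q := act 4 n98878
theorem D191744 : act 4 n98878 = n191744 := rfl
theorem F384327 : act 6 n191744 = n100385 := d10_2 (iv6 F152440) D191744 (iv4 D100385)
def n191745 : Q := act 7 n98878
theorem D191745 : act 7 n98878 = n191745 := rfl
theorem F384328 : act 5 n191745 = n98879 := d13_1 D191745 (iv7 D98879) D98878
theorem F384329 : act 1 n122649 = n191745 := d15_1 (iv0 F301778) (iv7 D191745) (iv2 F277321)
def n191746 : Q := act 4 n98886
theorem D191746 : act 4 n98886 = n191746 := rfl
theorem F384330 : act 2 n191746 = n101542 := d1_1 D191746 (iv4 F197498) F197501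
theorem F384331 : act 3 n191746 = n122335 := d5_1 D191746 F319770 (iv3 F217486) (iv4 F354629) F200449
theorem F384332 : act 6 n191746 = n98891 := d10_2 (iv6 F312924) D191746 (iv4 D98891)
theorem F384333 : act 7 n191746 = n135363 := d11_2 F197503 D191746 F319768
theorem F384334 : act 0 n99597 = n191746 := d20_10 (iv4 D191746) F304450 (iv4 F304337) (iv3 D58501) (iv1 F44952) D39693 (iv4 F92535) F311354 F310768 (iv3 F153350)
def n191747 : Q := act 5 n98886
theorem D191747 : act 5 n98886 = n191747 := rfl
theorem F384335 : act 2 n191747 = n100432 := d2_1 D191747 (iv5 F310661) F197501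
theorem F384336 : act 7 n191747 = n100431 := d13_2 F197503 D191747 F338897
theorem F384337 : act 4 n191747 = n100419 := d16_2 (iv4 D191746) D191747 (iv5 D100419) F74082 D46869 D100433 F338889 F200481 (iv2 F384330)
theorem F384338 : act 0 n191747 = n100394 := d17_2 D98886 D191747 (iv5 D100394) (iv4 F154413) F300552 (iv0 F275528) (iv5 D98892) (iv0 D46279) (iv4 F72940)
theorem F384339 : act 0 n100434 = n191747 := d21_7 D125111 (iv1 F201005) (iv5 F307381) F307382 (iv1 F152886) F152883 (iv5 F154487) (iv5 D191747) F312924 (iv1 F92428)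
def n191748 : Q := act 4 n98887
theorem D191748 : act 4 n98887 = n191748 := rfl
theorem F384340 : act 5 n191748 = n100428 := d16_1 D191748 (iv4 D100428) D100429 (iv4 F338868) (iv5 D125111) F304337 D179846 (iv7 F301729) F197505
def n191749 : Q := act 7 n98887
theorem D191749 : act 7 n98887 = n191749 := rfl
theorem F384341 : act 2 n191749 = n179846 := d4_1 D191749 (iv7 F301729) F197505
theorem F384342 : act 5 n191749 = n98888 := d13_1 D191749 (iv7 D98888) D98887
theorem F384343 : act 0 n177828 = n191749 := d21_1 F338877 F384342 (iv6 F241797) (iv1 F241796) (iv6 F306377) (iv5 F60120) (iv1 F34689) D22508 D46855 D100392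
def n191750 : Q := act 4 n98890
theorem D191750 : act 4 n98890 = n191750 := rfl
theorem F384344 : act 2 n191750 = n174376 := d1_1 D191750 F273220 (iv2 F281934)
theorem F384345 : act 3 n191750 = n123107 := d5_1 D191750 (iv4 D123107) (iv3 F197294) (iv4 D98891) D98890
theorem F384346 : act 6 n191750 = n135273 := d10_2 (iv6 F366732) D191750 (iv4 F354629)
theorem F384347 : act 7 n191750 = n174377 := d11_2 F281935 D191750 (iv4 F277347)
theorem F384348 : act 5 n191750 = n180745 := d18_4 F318052 (iv4 F128594) (iv1 F319022) D191750 F355099 F282973 F344862 F272110 (iv5 D173635)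
theorem F384349 : act 1 n191750 = n119333 := d18_8 (iv1 F263823) F323228 (iv1 F342676) (iv4 D175739) (iv5 D83890) D83889 (iv0 F281956) D191750 (iv5 F342652)
theorem F384350 : act 0 n191750 = n173693 := d20_1 D191750 F272217 F136826 (iv1 F64266) F315050 (iv4 D33126) D33125 D71640 (iv3 F316652) (iv1 F319022)
def n191751 : Q := act 5 n98890
theorem D191751 : act 5 n98890 = n191751 := rfl
theorem F384351 : act 2 n191751 = n183083 := d2_1 D191751 (iv5 D183083) (iv2 F281934)
theorem F384352 : act 3 n191751 = n98892 := d6_1 D191751 (iv5 D98892) D98890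
theorem F384353 : act 0 n191751 = n153334 := d17_2 (iv1 F319022) D191751 (iv5 D153334) (iv4 F178517) F334147 (iv0 D83904) (iv5 D38641) F318051 (iv4 F128594)
def n191752 : Q := act 5 n98891
theorem D191752 : act 5 n98891 = n191752 := rfl
theorem F384354 : act 3 n191752 = n123108 := d6_1 D191752 (iv5 D123108) (iv3 F197294)
def n191753 : Q := act 4 n98892
theorem D191753 : act 4 n98892 = n191753 := rfl
def n191754 : Q := act 6 n98892
theorem D191754 : act 6 n98892 = n191754 := rfl
def n191755 : Q := act 5 n98896
theorem D191755 : act 5 n98896 = n191755 := rfl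
theorem F384355 : act 3 n191755 = n101079 := d6_1 D191755 (iv5 F280309) F342040
theorem F384356 : act 0 n191755 = n191753 := d18_0 (iv4 D191753) F275528 (iv4 F338883) (iv5 F310661) F197498 (iv0 F342011) (iv4 F252671) F354640 D191755
def n191756 : Q := act 6 n98896
theorem D191756 : act 6 n98896 = n191756 := rfl
theorem F384357 : act 3 n191756 = n179932 := d7_1 D191756 F280312 F342040
theorem F384358 : act 4 n191756 = n98898 := d10_1 D191756 (iv6 D98898) D98896
def n191757 : Q := act 4 n98897
theorem D191757 : act 4 n98897 = n191757 := rfl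
theorem F384359 : act 5 n191757 = n133582 := d18_4 (iv1 F364539) F338883 (iv1 F281966) D191757 (iv4 F239012) (iv0 F338845) (iv4 D100428) F154422 (iv5 F364535)
theorem F384360 : act 1 n191757 = n191752 := d18_8 F354634 F215092 F217607 F319768 (iv5 F338897) F338896 F281967 D191757 (iv5 D191752)
theorem F384361 : act 3 n191757 = n133583 := d19_3 (iv1 F92427) D98897 D191757 F214883 (iv5 D119160) (iv4 D54837) F54014 F309742 (iv5 F310651) (iv4 F26717) (iv3 F26721) (iv1 F23444) (iv5 F50969) D33493 (iv3 F310584) (iv1 F112746) F112743 (iv4 F91427) D58501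
theorem F384362 : act 6 n188768 = n191757 := d12_0 F384359 F342640 (iv5 D92761) D92762 D188768
def n191758 : Q := act 6 n98897
theorem D191758 : act 6 n98897 = n191758 := rfl
theorem F384363 : act 2 n191758 = n188192 := d3_1 D191758 F372639 (iv2 F281965)
theorem F384364 : act 3 n191758 = n183098 := d7_1 D191758 (iv6 D183098) F281931
theorem F384365 : act 4 n191758 = n188768 := d10_1 D191758 F384362 (iv4 D191757)
theorem F384366 : act 0 n100452 = n191758 := d21_4 F293386 (iv1 F67961) D91058 (iv6 F351154) (iv6 D191758) (iv5 D98897) (iv1 D46280) D46281 F72942 D46288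
theorem F384367 : act 1 n100449 = n191758 := d15_0 (iv0 F384366) (iv7 F351140) F351145
theorem F384368 : act 7 n188193 = n191758 := d11_0 F384365 F374784 F372642
def n191759 : Q := act 5 n98898
theorem D191759 : act 5 n98898 = n191759 := rfl
theorem F384369 : act 3 n191759 = n153658 := d6_1 D191759 F308823 F281932
theorem F384370 : act 0 n122414 = n191759 := d21_1 D122414 (iv5 D191759) (iv6 D98898) (iv1 D46280) (iv6 D22134) (iv5 D10552) D10549 D22126 D46262 (iv1 F304678)
theorem F384371 : act 1 n153632 = n191759 := d15_0 (iv0 F384370) (iv7 F280039) (iv2 F366800)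
theorem F384372 : act 4 n191759 = n181948 := d17_9 (iv1 F288518) F288516 (iv1 F135748) D181946 (iv4 F363127) (iv5 D98856) (iv0 F304489) D153632 F384371
theorem E103487 : n191475 = n122414 := (c18_2 (iv1 D191474) D191475 F384370 F384372 (iv5 F295167) (iv4 F371010) (iv0 F371012) (iv4 F289867) (iv0 F289868) F383536)
theorem F384373 : act 4 n122414 = n98381 := (sb E103487 (iv4 D191475))
theorem E103488 : n191482 = n122416 := (c5_4 F384373 F151810 D98395 D191482 (iv4 D122416) (iv3 F195861))
theorem F384374 : act 3 n122416 = n98395 := (sb E103488 (iv3 D191482))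
theorem F384375 : act 4 n191476 = n179821 := d11_3 F280039 F384373 D191476
theorem F384376 : act 3 n179822 = n191484 := d5_3 F384375 (iv3 D179821) D179822 F383544 (iv3 F383537)
theorem F384377 : act 3 n191483 = n122430 := d6_3 F195868 F384374 D191483
def n191760 : Q := act 3 n98899
theorem D191760 : act 3 n98899 = n191760 := rfl
theorem F384378 : act 2 n191760 = n183104 := d0_1 D191760 (iv3 D183104) (iv2 F364044) F364053 F364056
theorem F384379 : act 5 n191760 = n151505 := d6_2 (iv5 F338885) D191760 (iv3 F342636)
theorem F384380 : act 0 n174746 = n191760 := d17_2 (iv1 D174745) D174746 F384379 F342643 F272380 F263823 F342652 (iv0 F383203) F383200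
theorem F384381 : act 1 n175734 = n191760 := d17_6 F344785 (iv5 F302295) (iv1 F278411) (iv5 D83890) D83889 D175734 F384379 (iv0 D151505) (iv4 F186377)
def n191761 : Q := act 4 n98899
theorem D191761 : act 4 n98899 = n191761 := rfl
def n191762 : Q := act 6 n98899
theorem D191762 : act 6 n98899 = n191762 := rfl
def n191763 : Q := act 4 n98900
theorem D191763 : act 4 n98900 = n191763 := rfl
theorem F384382 : act 5 n191763 = n123513 := d18_4 (iv1 F338864) (iv4 F338868) (iv1 F201005) D191763 F197934 (iv0 F363204) F200480 F304449 D179846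
theorem F384383 : act 3 n191763 = n123518 := d19_3 F338840 F307381 D191763 F314896 F311800 (iv4 D54839) (iv3 F50968) F50966 F53967 (iv4 F53966) F25638 F53985 D29147 (iv4 F310627) (iv3 F296872) D57736 (iv5 F91413) (iv4 F300559) (iv3 F279985)
theorem F384384 : act 6 n149575 = n191763 := d7_0 F384383 F356970 F366588
def n191764 : Q := act 6 n98900
theorem D191764 : act 6 n98900 = n191764 := rfl
theorem F384385 : act 3 n191764 = n183110 := d7_1 D191764 (iv6 D183110) (iv3 F268865)
theorem F384386 : act 4 n191764 = n149575 := d10_1 D191764 F384384 (iv4 D191763)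
theorem F384387 : act 5 n191764 = n116258 := d12_1 D191764 F334427 (iv5 D171128) (iv6 F307382) F307381
def n191765 : Q := act 7 n98901
theorem D191765 : act 7 n98901 = n191765 := rfl
theorem F384388 : act 2 n191765 = n100429 := d4_1 D191765 F338878 F277352
theorem F384389 : act 4 n191765 = n98902 := d11_1 D191765 (iv7 D98902) D98901
theorem F384390 : act 5 n191765 = n100393 := d13_1 D191765 F338851 (iv5 F338880)
theorem F384391 : act 1 n123211 = n191765 := d15_1 (iv0 F366783) (iv7 D191765) (iv2 F277352)
theorem F384392 : act 1 n191765 = n191749 := d15_1 F384391 (iv7 D191749) (iv2 F197505)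
def n191766 : Q := act 6 n98903
theorem D191766 : act 6 n98903 = n191766 := rfl
theorem F384393 : act 2 n191766 = n183122 := d3_1 D191766 (iv6 D183122) (iv2 F152456)
theorem F384394 : act 3 n191766 = n98908 := d7_1 D191766 (iv6 D98908) (iv3 F152457)
def n191767 : Q := act 1 n98904
theorem D191767 : act 1 n98904 = n191767 := rfl
theorem F384395 : act 1 n191767 = n103328 := d15_1 D191767 F292851 (iv2 F152458)
theorem F384396 : act 7 n191767 = n183123 := d15_2 F378913 D191767 (iv2 F378909)
theorem F384397 : act 5 n191767 = n184319 := d17_7 (iv1 D103904) (iv5 D48104) (iv1 F74220) D96350 F329986 F328507 D191767 (iv0 D184319) (iv4 F349159)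
theorem F384398 : act 4 n191156 = n191767 := d20_6 (iv4 F251143) (iv1 F372404) (iv4 F376050) F376049 (iv1 F369969) D191156 (iv1 D191767) (iv4 F357433) F357437 F367233
theorem F384399 : act 6 n183486 = n191767 := d21_3 D95437 D189912 F378216 (iv1 D191767) (iv6 D98904) D98903 (iv1 F379966) F379968 F370480 (iv1 D95436)
theorem F384400 : act 2 n191767 = n183124 := d1_1 F384398 (iv4 F366944) (iv2 F382427)
theorem F384401 : act 0 n191156 = n186769 := d20_1 (iv4 F384398) F367955 F329813 (iv1 F335386) F136966 F292855 D42478 (iv4 F75159) D103328 (iv1 F384395)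
theorem F384402 : act 1 n191156 = n176552 := d15_1 (iv0 F384401) (iv7 F375512) F375509
def n191768 : Q := act 0 n98907
theorem D191768 : act 0 n98907 = n191768 := rfl
theorem F384403 : act 4 n191768 = n189120 := d18_3 (iv1 F292360) D98907 D191768 F375817 F370461 F288419 F292351 (iv0 D42650) D42653
theorem F384404 : act 1 n98913 = n191768 := d15_0 (iv0 D191768) (iv7 F372538) F372537
def n191769 : Q := act 1 n98907
theorem D191769 : act 1 n98907 = n191769 := rfl
theorem F384405 : act 1 n191769 = n98913 := d15_1 D191769 (iv7 F372541) F372540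
def n191770 : Q := act 3 n98907
theorem D191770 : act 3 n98907 = n191770 := rfl
def n191771 : Q := act 5 n98907
theorem D191771 : act 5 n98907 = n191771 := rfl
def n191772 : Q := act 6 n98907
theorem D191772 : act 6 n98907 = n191772 := rfl
theorem F384406 : act 4 n191772 = n98908 := d10_1 D191772 (iv6 D98908) D98907
theorem F384407 : act 1 n141418 = n191772 := d17_8 F365646 (iv5 D116260) D116258 (iv5 F384387) F384386 (iv5 D149575) D149574 F348308 F384406
def n191773 : Q := act 1 n98908
theorem D191773 : act 1 n98908 = n191773 := rfl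
theorem F384408 : act 5 n191773 = n167913 := d17_7 (iv1 F226066) (iv5 F348312) F190271 (iv5 F186692) F237236 F365644 D191773 (iv0 F319673) F348335
theorem F384409 : act 2 n167926 = n191773 := d2_3 F384408 F264576 D167926
theorem F384410 : act 3 n191773 = n99002 := d0_2 F365570 F384409 (iv2 F359440) F217367 (iv2 F343166)
def n191774 : Q := act 7 n98908
theorem D191774 : act 7 n98908 = n191774 := rfl
theorem F384411 : act 5 n191774 = n138315 := d13_1 D191774 F366638 F365644
theorem F384412 : act 1 n167926 = n191774 := d15_1 (iv0 F372545) (iv7 D191774) (iv2 F372542)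
def n191775 : Q := act 3 n98913
theorem D191775 : act 3 n98913 = n191775 := rfl
theorem F384413 : act 4 n191775 = n183133 := d5_2 D98913 D191775 (iv3 D183133) (iv4 D87415) (iv3 F72945)
def n191776 : Q := act 5 n98913
theorem D191776 : act 5 n98913 = n191776 := rfl
def n191777 : Q := act 6 n98913
theorem D191777 : act 6 n98913 = n191777 := rfl
theorem F384414 : act 4 n191777 = n98914 := d10_1 D191777 (iv6 D98914) D98913
def n191778 : Q := act 0 n98914
theorem D191778 : act 0 n98914 = n191778 := rfl
def n191779 : Q := act 7 n98914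
theorem D191779 : act 7 n98914 = n191779 := rfl
theorem F384415 : act 3 n191779 = n183138 := d8_1 D191779 (iv7 D183138) (iv3 F152463)
def n191780 : Q := act 6 n98917
theorem D191780 : act 6 n98917 = n191780 := rfl
theorem F384416 : act 2 n191780 = n183142 := d3_1 D191780 (iv6 D183142) (iv2 F152465)
theorem F384417 : act 3 n191780 = n98920 := d7_1 D191780 (iv6 D98920) D98917
def n191781 : Q := act 0 n98918
theorem D191781 : act 0 n98918 = n191781 := rfl
theorem F384418 : act 4 n191781 = n187615 := d18_3 D46288 D98918 D191781 F371021 F152588 F144602 (iv4 F69014) (iv0 D22135) D22137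
theorem F384419 : act 1 n98921 = n191781 := d15_0 (iv0 D191781) (iv7 F372561) F372560
def n191782 : Q := act 1 n98918
theorem D191782 : act 1 n98918 = n191782 := rfl
theorem F384420 : act 1 n191782 = n98921 := d15_1 D191782 (iv7 F372586) F372585
theorem F384421 : act 4 n191782 = n189620 := d18_7 F371732 (iv4 D187871) F293716 (iv4 D92559) (iv5 F293386) D98918 D191782 F377144 F371001
def n191783 : Q := act 3 n98918
theorem D191783 : act 3 n98918 = n191783 := rfl
def n191784 : Q := act 5 n98918
theorem D191784 : act 5 n98918 = n191784 := rfl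
def n191785 : Q := act 6 n98918
theorem D191785 : act 6 n98918 = n191785 := rfl
theorem F384422 : act 4 n191785 = n98920 := d10_1 D191785 (iv6 D98920) D98918
theorem F384423 : act 7 n191785 = n143248 := d14_2 F372561 D191785 (iv6 D143248) F223170 F372582
def n191786 : Q := act 0 n98920
theorem D191786 : act 0 n98920 = n191786 := rfl
theorem F384424 : act 5 n191786 = n134431 := d17_3 F321942 F359688 D191786 F343188 (iv5 D67014) (iv0 F102935) (iv5 F318916) F321939 (iv4 F184470)
theorem F384425 : act 6 n191786 = n138316 := d21_5 (iv5 D43308) D43305 (iv5 F293386) D98920 D191786 (iv5 D138316) (iv1 F315863) (iv5 F372544) (iv6 D188170) F294361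
theorem F384426 : act 6 n139990 = n188608 := d21_3 F384424 F343185 D139990 (iv1 D188608) (iv6 D92568) (iv5 D43308) D43305 (iv5 F293386) D98920 D191786
theorem F384427 : act 3 n134433 = n191786 := d7_3 F384425 F221511 (iv6 F343182)
theorem F384428 : act 7 n143255 = n191786 := d14_0 F384425 F366564 (iv6 F360920) (iv7 F371706) (iv6 F372581)
theorem F384429 : act 2 n191786 = n188343 := d15_3 (iv0 F373131) (iv0 F226075) F384428
def n191787 : Q := act 1 n98920
theorem D191787 : act 1 n98920 = n191787 := rfl
theorem F384430 : act 7 n191787 = n188343 := d15_2 (iv0 D191786) D191787 (iv2 F384429)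
theorem F384431 : act 5 n191787 = n139947 := d17_7 F181588 (iv5 D25957) D25954 F181689 D116032 F359688 D191787 F223181 (iv4 D65721)
theorem F384432 : act 2 n143255 = n191787 := d2_3 F384431 (iv2 F223182) D143255
theorem F384433 : act 3 n99033 = n191787 := d6_3 F384431 F230298 (iv5 F373126)
theorem F384434 : act 4 n100442 = n191787 := d16_2 F372565 F372563 F384431 (iv4 F223183) (iv5 D67108) D67107 (iv5 F223173) (iv7 F224427) F224426
theorem F384435 : act 6 n191787 = n100441 := d10_2 D100442 F384434 (iv4 D100441)
def n191788 : Q := act 3 n98921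
theorem D191788 : act 3 n98921 = n191788 := rfl
theorem F384436 : act 4 n191788 = n183149 := d5_2 D98921 D191788 (iv3 D183149) (iv4 D87423) (iv3 F139514)
theorem F384437 : act 6 n191788 = n139413 := d7_2 (iv6 F372579) D191788 (iv3 F372569)
theorem F384438 : act 0 n191788 = n123988 := d20_4 (iv4 D188171) (iv1 F294927) D98921 D191788 F198395 (iv4 F198403) (iv1 F360054) F173116 (iv3 F372551) F372550
def n191789 : Q := act 5 n98921
theorem D191789 : act 5 n98921 = n191789 := rfl
theorem F384439 : act 6 n191789 = n159927 := d12_2 (iv6 F372579) D191789 F330619 (iv6 D141385) D141384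
theorem F384440 : act 4 n191789 = n159928 := d16_2 D98921 D191789 F252196 (iv4 F349251) (iv5 F293382) (iv4 D92559) (iv5 F293386) (iv7 F294855) F294853
def n191790 : Q := act 7 n98922
theorem D191790 : act 7 n98922 = n191790 := rfl
theorem F384441 : act 2 n191790 = n143247 := d4_1 D191790 (iv7 F372564) F372562
theorem F384442 : act 3 n191790 = n183153 := d8_1 D191790 (iv7 D183153) (iv3 F152469)
theorem F384443 : act 4 n191790 = n139939 := d11_1 D191790 (iv7 F224427) F372568
theorem F384444 : act 1 n141200 = n191790 := d15_1 F372584 (iv7 D191790) (iv2 F372562)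
theorem F384445 : act 1 n191790 = n141197 := d15_1 F384444 F224221 (iv2 F224225)
def n191791 : Q := act 4 n98923
theorem D191791 : act 4 n98923 = n191791 := rfl
theorem F384446 : act 2 n191791 = n189101 := d1_1 D191791 F375756 (iv2 F372589)
theorem F384447 : act 7 n191791 = n141205 := d11_2 (iv7 F372552) D191791 F224234
theorem F384448 : act 5 n191791 = n186130 := d16_1 D191791 (iv4 D186130) (iv5 F355754) F355758 F175835 F383926 (iv5 F383927) (iv7 F372588) (iv2 F372589)
theorem F384449 : act 1 n191791 = n188319 := d18_8 F294811 (iv4 D98692) F293120 F140022 D91018 D188171 (iv0 F372550) D191791 F373076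
theorem F384450 : act 3 n191791 = n189104 := d20_3 D46290 D98923 D191791 (iv1 D189104) F143837 D93261 F295041 (iv4 D87423) (iv3 F139514) (iv1 D46289)
theorem F384451 : act 1 n189341 = n191791 := d15_0 F384449 F373077 (iv2 F376434)
theorem F384452 : act 6 n140054 = n191791 := d12_0 F384448 F360956 (iv5 F349357) (iv6 D140055) D140054
def n191792 : Q := act 5 n98923
theorem D191792 : act 5 n98923 = n191792 := rfl
theorem F384453 : act 3 n191792 = n108408 := d6_1 D191792 F329463 (iv3 F372551)
theorem F384454 : act 7 n191792 = n141208 := d13_2 (iv7 F372552) D191792 (iv5 D141208)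
theorem F384455 : act 0 n191792 = n183467 := d17_2 D98923 D191792 F285221 (iv4 F351153) (iv5 D91058) F67961 (iv5 F293386) (iv0 D46288) D46290
theorem F384456 : act 1 n191792 = n188605 := d17_6 F375819 F375817 (iv1 F370462) (iv5 F384448) (iv4 D191791) D191792 (iv5 D188605) D188604 (iv4 F374177)
theorem F384457 : act 6 n108407 = n191792 := d21_3 D135065 F364857 (iv5 F167591) F384455 (iv6 D183467) (iv5 D87571) F65969 (iv5 F136719) F332666 (iv1 F216887)
def n191793 : Q := act 6 n98923
theorem D191793 : act 6 n98923 = n191793 := rfl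
theorem F384458 : act 3 n191793 = n112498 := d7_1 D191793 F343163 (iv3 F372551)
theorem F384459 : act 4 n191793 = n140054 := d10_1 D191793 F384452 (iv4 D191791)
theorem F384460 : act 5 n191793 = n135166 := d12_1 D191793 (iv6 D135166) (iv5 F167591) F384457 (iv5 D191792)
theorem F384461 : act 7 n191793 = n116257 := d14_2 (iv7 F372552) D191793 (iv6 D116257) F84541 D66236
theorem F384462 : act 0 n100442 = n191793 := d21_4 (iv5 D22516) D22514 D46872 D100442 (iv6 D191793) D191792 F384455 F285221 (iv6 D100453) (iv1 D46877)
theorem E103489 : n135162 = n135060 := (c21_11 (iv5 D135060) (iv1 F216885) F332671 (iv6 D91023) D91020 D188174 F372563 F384462 F384460 (iv6 D135166) D135162)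
theorem F384463 : act 1 n135060 = n63518 := (sb E103489 (iv0 D135162))
def n191794 : Q := act 1 n98926
theorem D191794 : act 1 n98926 = n191794 := rfl
theorem F384464 : act 5 n191794 = n188191 := d17_7 F293379 (iv5 D46286) (iv1 D22136) D22137 D46290 D98926 D191794 F374170 (iv4 D188601)
theorem F384465 : act 3 n191568 = n191794 := d19_19 (iv1 D191794) (iv5 D98926) (iv4 D46290) F34604 D22153 F293448 F32489 (iv3 F61604) (iv1 F61606) F31172 (iv4 F16320) F16319 F16846 D8832 D18865 D39871 D86137 D180351 (iv4 F383853)
theorem F384466 : act 6 n191794 = n191648 := d7_2 (iv6 F383856) F384465 (iv3 D191648)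
def n191795 : Q := act 4 n98926
theorem D191795 : act 4 n98926 = n191795 := rfl
def n191796 : Q := act 6 n98926
theorem D191796 : act 6 n98926 = n191796 := rfl
theorem F384467 : act 2 n191796 = n135073 := d3_1 D191796 (iv6 F384307) F384306
theorem F384468 : act 5 n191796 = n100425 := d12_1 D191796 (iv6 D100425) (iv5 F338880) F152453 D98926
theorem F384469 : act 0 n191796 = n123428 := d21_4 (iv5 F383927) (iv1 D98924) D98926 D191796 F301618 (iv5 D89028) F135032 D87571 D183467 F383929
theorem F384470 : act 4 n188746 = n191796 := d17_9 F384469 (iv5 D123428) (iv1 F301612) D183423 (iv4 F360921) F162427 F290213 D92743 D188746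
theorem F384471 : act 1 n191796 = n135068 := d15_1 (iv0 F384469) F332665 (iv2 F301617)
theorem F384472 : act 7 n191796 = n135074 := d15_2 (iv0 F301616) (iv0 F384469) (iv2 F365768)
theorem F384473 : act 6 n191795 = n188746 := d10_0 F384470 (iv6 D191796) D191795
def n191797 : Q := act 5 n98935
theorem D191797 : act 5 n98935 = n191797 := rfl
theorem F384474 : act 3 n191797 = n182033 := d6_1 D191797 F283430 F233028
theorem F384475 : act 4 n191797 = n132234 := d9_1 D191797 (iv5 F212264) (iv4 F96949) D130096 (iv4 F212298) (iv5 F215089) F304090 D149090 F355252 F212269 D132541 F212758 F212287 (iv5 F215082) F304548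
theorem F384476 : act 7 n191797 = n182024 := d13_2 F233029 D191797 (iv5 D182024)
theorem F384477 : act 0 n98974 = n191797 := d20_10 F384475 (iv1 D132234) D132235 F367945 (iv1 D186766) F136824 (iv4 F295269) D91028 F295469 D98974
def n191798 : Q := act 5 n98937
theorem D191798 : act 5 n98937 = n191798 := rfl
theorem F384478 : act 2 n191798 = n98939 := d2_1 D191798 (iv5 D98939) D98937
theorem F384479 : act 3 n191798 = n135418 := d6_1 D191798 (iv5 F354649) (iv3 F354644)
theorem F384480 : act 4 n191798 = n132987 := d16_2 F342000 D191798 (iv5 D132987) (iv4 D62401) D62402 D132989 (iv5 F213639) (iv7 D131405) (iv2 F205730)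
def n191799 : Q := act 0 n98939
theorem D191799 : act 0 n98939 = n191799 := rfl
theorem F384481 : act 5 n191799 = n149793 := d17_3 F232559 D98939 D191799 F235627 (iv5 F308204) F209593 (iv5 F97871) D133670 F304090
theorem F384482 : act 4 n191799 = n129466 := d18_1 D191799 (iv1 F208672) D132547 (iv5 F215107) F215106 F215084 F304548 (iv0 D98935) D98939
theorem F384483 : act 3 n149794 = n191799 := d6_3 F384481 F235626 D149794
theorem F384484 : act 6 n146779 = n191799 := d12_0 F384481 (iv6 D149793) (iv5 F109359) F316667 D146779
def n191800 : Q := act 4 n98939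
theorem D191800 : act 4 n98939 = n191800 := rfl
theorem F384485 : act 2 n191800 = n132987 := d1_1 D191800 (iv4 F384480) F384478
theorem F384486 : act 5 n191800 = n129867 := d16_3 F323251 D98939 D191800 F213178 D132984 F315978 (iv5 F342012) F342013 F205730
theorem F384487 : act 1 n191800 = n132318 := d18_8 (iv1 F212118) F214797 (iv1 D133244) F97503 D129466 (iv4 F384482) (iv0 D191799) D191800 (iv5 D132318)
theorem F384488 : act 0 n191800 = n132306 := d20_1 D191800 F351930 (iv3 F223267) (iv1 F366714) (iv3 F338890) (iv4 F338891) F368321 (iv4 D179737) D179736 F368322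
def n191801 : Q := act 6 n98939
theorem D191801 : act 6 n98939 = n191801 := rfl
theorem F384489 : act 3 n191801 = n98951 := d7_1 D191801 (iv6 D98951) (iv3 F152481)
def n191802 : Q := act 4 n98945
theorem D191802 : act 4 n98945 = n191802 := rfl
theorem F384490 : act 2 n191802 = n172432 := d1_1 D191802 (iv4 D172432) (iv2 F272698)
theorem F384491 : act 3 n191802 = n113287 := d5_1 D191802 F176489 (iv3 F176300) F327238 (iv3 F357788)
theorem F384492 : act 6 n191802 = n104966 := d10_2 (iv6 F357789) D191802 (iv4 F160840)
theorem F384493 : act 7 n191802 = n172444 := d11_2 (iv7 F272699) D191802 (iv4 D172444)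
theorem F384494 : act 0 n191802 = n161298 := d18_2 (iv1 F354765) D191802 (iv4 D161298) (iv5 D77436) (iv4 F90049) (iv0 F301805) (iv4 F155516) D174478 (iv5 F354758)
def n191803 : Q := act 0 n98951
theorem D191803 : act 0 n98951 = n191803 := rfl
theorem F384495 : act 6 n191803 = n99001 := d21_5 (iv5 D22141) D22139 D46295 D98951 D191803 F350403 F350402 F154038 (iv6 D98981) (iv1 D46303)
theorem F384496 : act 1 n188200 = n191803 := d15_0 (iv0 D191803) (iv7 F376117) F376115
theorem F384497 : act 4 n189127 = n191803 := d10_3 F384495 F359435 D189127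
def n191804 : Q := act 1 n98951
theorem D191804 : act 1 n98951 = n191804 := rfl
theorem F384498 : act 1 n191804 = n188200 := d15_1 D191804 F372649 F367505
def n191805 : Q := act 5 n98951
theorem D191805 : act 5 n98951 = n191805 := rfl
theorem F384499 : act 2 n191805 = n100510 := d2_1 D191805 (iv5 F367506) F367505
theorem F384500 : act 6 n191805 = n98955 := d12_2 D98951 D191805 (iv5 D98955) (iv6 D46296) D46295
def n191806 : Q := act 5 n98959
theorem D191806 : act 5 n98959 = n191806 := rfl
theorem F384501 : act 3 n191806 = n175734 := d6_1 D191806 (iv5 D175734) F155171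
theorem F384502 : act 0 n191806 = n98979 := d17_2 F354614 D191806 F321745 (iv4 F108162) (iv5 F212106) (iv0 F330925) (iv5 F340654) F319571 (iv4 F271953)
theorem F384503 : act 1 n191806 = n152039 := d17_6 D33172 (iv5 F211937) (iv1 F95822) (iv5 F212144) (iv4 F318138) D191806 (iv5 D152039) (iv0 D71680) F52368
def n191807 : Q := act 6 n98960
theorem D191807 : act 6 n98960 = n191807 := rfl
theorem F384504 : act 2 n191807 = n98963 := d3_1 D191807 (iv6 D98963) D98960
theorem F384505 : act 4 n191807 = n172574 := d10_1 D191807 (iv6 F357800) F354621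
def n191808 : Q := act 4 n98962
theorem D191808 : act 4 n98962 = n191808 := rfl
theorem F384506 : act 5 n191808 = n135119 := d16_1 D191808 (iv4 D135119) (iv5 D63504) (iv4 F213147) (iv5 F318044) (iv4 F271953) F354649 F354652 (iv2 F354657)
def n191809 : Q := act 1 n98963
theorem D191809 : act 1 n98963 = n191809 := rfl
theorem F384507 : act 4 n135367 = n191809 := d20_0 (iv1 D191809) (iv4 F348182) F348179 (iv1 F334239) F257996 (iv4 F340261) (iv1 F242243) (iv4 F264190) F357867 F357868
theorem F384508 : act 3 n174814 = n191809 := d20_3 (iv4 F198388) F334682 (iv4 F273694) (iv1 D191809) F152500 (iv4 F152501) (iv1 F272750) F156637 (iv3 F156626) F355389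
theorem F384509 : act 6 n191809 = n174812 := d7_2 D174814 F384508 (iv3 D174812)
def n191810 : Q := act 5 n98963
theorem D191810 : act 5 n98963 = n191810 := rfl
theorem F384510 : act 3 n191810 = n98971 := d6_1 D191810 (iv5 D98971) (iv3 F152500)
def n191811 : Q := act 5 n98964
theorem D191811 : act 5 n98964 = n191811 := rfl
theorem F384511 : act 2 n191811 = n133004 := d2_1 D191811 (iv5 D133004) (iv2 F315982)
theorem F384512 : act 3 n191811 = n98965 := d6_1 D191811 (iv5 D98965) D98964
theorem F384513 : act 7 n191811 = n132958 := d13_2 (iv7 F315984) D191811 (iv5 D132958)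
theorem F384514 : act 1 n191811 = n173210 := d17_6 (iv1 D29286) (iv5 F23393) F213153 (iv5 F97283) (iv4 F315983) D191811 (iv5 D173210) (iv0 F319327) (iv4 D61790)
def n191812 : Q := act 6 n98964
theorem D191812 : act 6 n98964 = n191812 := rfl
theorem F384515 : act 2 n191812 = n133005 := d3_1 D191812 (iv6 D133005) (iv2 F315982)
theorem F384516 : act 3 n191812 = n98966 := d7_1 D191812 (iv6 D98966) D98964
theorem F384517 : act 4 n191812 = n132964 := d10_1 D191812 (iv6 D132964) (iv4 F315983)
theorem F384518 : act 0 n191812 = n155116 := d21_4 D173210 (iv1 F384514) (iv5 D191811) D191812 (iv6 D155116) (iv5 F321763) F359937 F359936 (iv6 D131691) F319327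
theorem F384519 : act 1 n191812 = n176499 := d15_1 (iv0 F384518) (iv7 F360167) F344099
def n191813 : Q := act 4 n98965
theorem D191813 : act 4 n98965 = n191813 := rfl
theorem F384520 : act 2 n191813 = n172444 := d1_1 D191813 (iv4 D172444) (iv2 F272708)
theorem F384521 : act 7 n191813 = n172432 := d11_2 (iv7 F272709) D191813 (iv4 D172432)
theorem F384522 : act 1 n191813 = n161298 := d18_6 (iv1 F113417) F113413 F91584 D46299 D98965 D191813 (iv4 D161298) (iv0 F303274) (iv5 D83767)
theorem F384523 : act 6 n185529 = n191813 := d14_5 F384521 F345751 (iv7 F258239) F334344 (iv7 F334376)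
def n191814 : Q := act 6 n98965
theorem D191814 : act 6 n98965 = n191814 := rfl
theorem F384524 : act 2 n191814 = n164977 := d3_1 D191814 F334338 (iv2 F272708)
theorem F384525 : act 4 n191814 = n185529 := d10_1 D191814 F384523 (iv4 D191813)
theorem F384526 : act 0 n134594 = n191814 := d21_4 F113316 (iv1 F59820) (iv5 F127199) (iv6 F321673) (iv6 D191814) (iv5 D98965) F155166 D75488 F113297 D75500
def n191815 : Q := act 5 n98966
theorem D191815 : act 5 n98966 = n191815 := rfl
theorem F384527 : act 2 n191815 = n172448 := d2_1 D191815 (iv5 D172448) (iv2 F272710)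
theorem F384528 : act 0 n191815 = n174020 := d17_2 (iv1 F272751) D191815 (iv5 D174020) F272666 D100905 (iv0 F368018) (iv5 D186787) F156668 (iv4 F153502)
theorem F384529 : act 4 n191815 = n106356 := d17_4 (iv1 F344101) F344103 (iv1 F272751) D191815 (iv5 D106356) (iv0 F357303) (iv5 F363408) F344111 F208655
theorem F384530 : act 1 n191815 = n174016 := d17_6 D46016 D98356 F152502 (iv5 D98971) (iv4 F152501) D191815 (iv5 D174016) (iv0 D83199) F59167
def n191816 : Q := act 3 n98967
theorem D191816 : act 3 n98967 = n191816 := rfl
theorem F384531 : act 6 n191816 = n187480 := d7_2 F354762 D191816 (iv3 D187480)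
def n191817 : Q := act 4 n98971
theorem D191817 : act 4 n98971 = n191817 := rfl
def n191818 : Q := act 7 n98971
theorem D191818 : act 7 n98971 = n191818 := rfl
theorem F384532 : act 2 n191818 = n191444 := d4_1 D191818 F383493 F367512
theorem F384533 : act 5 n191818 = n98972 := d13_1 D191818 (iv7 D98972) D98971
theorem F384534 : act 1 n100049 = n191818 := d15_1 F367514 (iv7 D191818) (iv2 F367512)
theorem F384535 : act 1 n191818 = n100054 := d15_1 F384534 F274653 (iv2 F274655)
theorem F384536 : act 6 n191818 = n187157 := d21_3 F343483 F355385 (iv5 F384533) (iv1 D187157) (iv6 D89614) (iv5 D41853) F63705 D21991 (iv6 F72599) D98363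
def n191819 : Q := act 1 n98974
theorem D191819 : act 1 n98974 = n191819 := rfl
def n191820 : Q := act 2 n98974
theorem D191820 : act 2 n98974 = n191820 := rfl
theorem F384537 : act 3 n191820 = n152039 := d0_2 D98974 D191820 F239051 F366173 F275019
theorem F384538 : act 1 n191820 = n182024 := d15_0 (iv0 F367954) F367517 D191820
theorem F384539 : act 5 n152038 = n191820 := d17_5 (iv1 F342002) (iv5 F341999) F312040 (iv5 F351932) (iv4 F247993) F384538 (iv5 D182024) F233106 (iv4 F342009)
def n191821 : Q := act 4 n98974
theorem D191821 : act 4 n98974 = n191821 := rfl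
theorem F384540 : act 1 n191821 = n129876 := d18_8 (iv1 F208218) F213178 F213179 F96949 F212264 (iv4 F384475) (iv0 F384477) D191821 (iv5 D129876)
theorem F384541 : act 1 n129869 = n191821 := d15_0 F384540 (iv7 F212824) F212823
theorem F384542 : act 5 n129516 = n191821 := d17_5 F213158 F212758 (iv1 F217680) F217681 (iv4 F213632) F384540 (iv5 D129876) F208216 (iv4 F213160)
theorem E103490 : n191819 = n149090 := (c18_7 D62035 D132227 (iv1 F211858) (iv4 F213632) F384542 (iv4 D191821) D191819 F355252 (iv0 D132233) (iv5 D62038))
theorem F384543 : act 0 n149090 = n98974 := (sb E103490 (iv1 D191819))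
def n191822 : Q := act 5 n98974
theorem D191822 : act 5 n98974 = n191822 := rfl
theorem F384544 : act 2 n191822 = n152038 := d2_1 D191822 F384539 (iv2 D191820)
theorem F384545 : act 3 n191822 = n98976 := d6_1 D191822 (iv5 D98976) D98974
def n191823 : Q := act 6 n98974
theorem D191823 : act 6 n98974 = n191823 := rfl
theorem F384546 : act 3 n191823 = n98977 := d7_1 D191823 (iv6 D98977) D98974
theorem F384547 : act 5 n191823 = n185489 := d21_6 F287767 (iv1 F136556) D98334 (iv6 F234478) F384543 D191823 (iv1 D185489) D185490 F287754 D185494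
theorem F384548 : act 3 n185489 = n187466 := d6_1 F384547 (iv5 F370445) (iv3 F384546)
def n191824 : Q := act 0 n98977
theorem D191824 : act 0 n98977 = n191824 := rfl
def n191825 : Q := act 1 n98977
theorem D191825 : act 1 n98977 = n191825 := rfl
def n191826 : Q := act 7 n98977
theorem D191826 : act 7 n98977 = n191826 := rfl
theorem F384549 : act 5 n191826 = n102705 := d13_1 D191826 F370454 (iv5 F370445)
def n191827 : Q := act 4 n98979
theorem D191827 : act 4 n98979 = n191827 := rfl
def n191828 : Q := act 6 n98979
theorem D191828 : act 6 n98979 = n191828 := rfl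
theorem F384550 : act 3 n191828 = n98981 := d7_1 D191828 (iv6 D98981) D98979
def n191829 : Q := act 0 n98981
theorem D191829 : act 0 n98981 = n191829 := rfl
def n191830 : Q := act 1 n98981
theorem D191830 : act 1 n98981 = n191830 := rfl
theorem F384551 : act 5 n111130 = n191830 := d21_6 F154036 (iv1 F318850) F343489 F380323 (iv1 D111127) D111130 (iv1 D191830) (iv5 F154038) (iv6 D100103) D100100
theorem F384552 : act 2 n191830 = n188345 := d2_1 F384551 F373134 F375623
theorem F384553 : act 3 n191830 = n111134 := d6_1 F384551 (iv5 D111134) (iv3 F172342)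
theorem F384554 : act 6 n191830 = n99032 := d12_2 D111130 F384551 F366644 (iv6 F343209) (iv5 D111129)
theorem F384555 : act 4 n191830 = n187629 := d17_4 (iv1 F359442) (iv5 F154150) F374448 F384551 F371049 F359431 (iv5 F295030) F143883 (iv4 F359438)
def n191831 : Q := act 7 n98981
theorem D191831 : act 7 n98981 = n191831 := rfl
def n191832 : Q := act 4 n98988
theorem D191832 : act 4 n98988 = n191832 := rfl
theorem F384556 : act 2 n191832 = n98991 := d1_1 D191832 (iv4 D98991) (iv2 F152508)
def n191833 : Q := act 6 n98988
theorem D191833 : act 6 n98988 = n191833 := rfl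
theorem F384557 : act 2 n191833 = n98992 := d3_1 D191833 (iv6 D98992) (iv2 F152508)
def n191834 : Q := act 3 n98990
theorem D191834 : act 3 n98990 = n191834 := rfl
theorem F384558 : act 2 n191834 = n183017 := d0_1 D191834 F362813 (iv2 F294834) (iv3 F141533) F294098
theorem F384559 : act 5 n191834 = n185438 := d6_2 F293665 D191834 (iv3 F293664)
theorem F384560 : act 7 n191834 = n183016 := d8_2 (iv7 F287738) D191834 F290131
theorem F384561 : act 1 n183002 = n191834 := d15_1 F333860 F384560 (iv2 F295224)
theorem F384562 : act 1 n191834 = n183004 := d15_1 F384561 F284607 (iv2 F284600)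
theorem F384563 : act 0 n183044 = n136566 := d21_4 F384559 (iv1 F295148) F295150 D183044 F219656 (iv5 D64201) (iv1 F161369) D136503 (iv6 F337823) (iv1 F384562)
def n191835 : Q := act 4 n98990
theorem D191835 : act 4 n98990 = n191835 := rfl
theorem F384564 : act 2 n191835 = n188473 := d1_1 D191835 (iv4 D188473) F294098
def n191836 : Q := act 6 n98990
theorem D191836 : act 6 n98990 = n191836 := rfl
theorem F384565 : act 2 n191836 = n188474 := d3_1 D191836 (iv6 D188474) F294098
theorem F384566 : act 0 n191836 = n188196 := d21_4 (iv5 F152561) (iv1 F293663) F293665 D191836 F372647 (iv5 D186633) (iv1 F233106) D182024 F283408 (iv1 F152555)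
def n191837 : Q := act 0 n98991
theorem D191837 : act 0 n98991 = n191837 := rfl
def n191838 : Q := act 1 n98991
theorem D191838 : act 1 n98991 = n191838 := rfl
theorem F384567 : act 4 n189119 = n191838 := d20_6 (iv4 F31973) F31974 D20639 D43638 D93286 D189119 (iv1 D191838) (iv4 D98991) F72955 F293267
def n191839 : Q := act 5 n98991
theorem D191839 : act 5 n98991 = n191839 := rfl
def n191840 : Q := act 6 n98991
theorem D191840 : act 6 n98991 = n191840 := rfl
theorem F384568 : act 4 n191840 = n98992 := d10_1 D191840 (iv6 D98992) D98991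
def n191841 : Q := act 0 n98992
theorem D191841 : act 0 n98992 = n191841 := rfl
def n191842 : Q := act 1 n98992
theorem D191842 : act 1 n98992 = n191842 := rfl
def n191843 : Q := act 7 n98992
theorem D191843 : act 7 n98992 = n191843 := rfl
theorem F384569 : act 3 n191843 = n99003 := d8_1 D191843 (iv7 D99003) (iv3 F152512)
def n191844 : Q := act 3 n98993
theorem D191844 : act 3 n98993 = n191844 := rfl
theorem F384570 : act 2 n191844 = n103063 := d0_1 D191844 (iv3 D103063) F75069 D47901 (iv2 F294729)
theorem F384571 : act 4 n191844 = n136406 := d5_2 (iv4 F340564) D191844 (iv3 F384187) F384188 F340536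
theorem F384572 : act 6 n191844 = n136411 := d7_2 F340563 D191844 F346017
theorem F384573 : act 7 n191844 = n103334 := d8_2 F367459 D191844 (iv3 F367457)
theorem F384574 : act 0 n103332 = n191844 := d20_4 (iv4 F345089) F345087 (iv4 D139566) (iv3 F335545) (iv3 D191844) F340564 (iv1 F379041) (iv4 F383077) F383076 F329762
theorem F384575 : act 1 n103333 = n191844 := d15_0 (iv0 F384574) F335547 (iv2 F343897)
def n191845 : Q := act 5 n98993
theorem D191845 : act 5 n98993 = n191845 := rfl
theorem F384576 : act 2 n191845 = n100172 := d2_1 D191845 F294731 (iv2 F294729)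
theorem F384577 : act 7 n191845 = n100173 := d13_2 F367459 D191845 F367461
theorem F384578 : act 0 n191845 = n99316 := d17_2 (iv1 F286181) D191845 (iv5 D99316) F73296 D47832 D103210 F367031 F369969 F369964
theorem F384579 : act 1 n191845 = n100167 := d17_6 F154963 F358515 (iv1 D112023) D112024 (iv4 F340564) D191845 (iv5 D100167) F73867 (iv4 F75549)
def n191846 : Q := act 5 n99002
theorem D191846 : act 5 n99002 = n191846 := rfl
theorem F384580 : act 3 n191846 = n167913 := d6_1 D191846 (iv5 F384408) F384410
theorem F384581 : act 1 n191846 = n100103 := d17_6 F375742 F375741 (iv1 D101851) (iv5 F295028) F359441 D191846 F154038 D191830 F384555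
theorem F384582 : act 6 n100161 = n191846 := d21_5 (iv5 D10662) D10660 D22411 D46748 D100161 (iv5 D191846) (iv1 D99002) (iv5 F73883) (iv6 D46766) (iv1 D22419)
def n191847 : Q := act 5 n99007
theorem D191847 : act 5 n99007 = n191847 := rfl
theorem F384583 : act 3 n191847 = n102929 := d6_1 D191847 F293779 F294533
theorem F384584 : act 7 n191847 = n118533 := d13_2 F157237 D191847 F186438
theorem F384585 : act 0 n191847 = n189616 := d17_2 F368121 D191847 F377126 F288644 (iv5 F368141) F368140 F364231 (iv0 F295038) D186817
def n191848 : Q := act 4 n99008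
theorem D191848 : act 4 n99008 = n191848 := rfl
theorem F384586 : act 0 n191848 = n111573 := d18_2 (iv1 F367547) D191848 (iv4 F368143) F368141 (iv4 F288644) (iv0 F288645) F158220 F142563 (iv5 F367544)
def n191849 : Q := act 6 n99008
theorem D191849 : act 6 n99008 = n191849 := rfl
def n191850 : Q := act 4 n99010
theorem D191850 : act 4 n99010 = n191850 := rfl
theorem F384587 : act 2 n191850 = n99014 := d1_1 D191850 (iv4 D99014) (iv2 F152548)
theorem F384588 : act 0 n191850 = n189581 := d18_2 (iv1 F367125) D191850 (iv4 D189581) (iv5 F292413) F140198 F135821 (iv4 F138766) F142558 (iv5 F367129)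
def n191851 : Q := act 6 n99010
theorem D191851 : act 6 n99010 = n191851 := rfl
theorem F384589 : act 2 n191851 = n99015 := d3_1 D191851 (iv6 D99015) (iv2 F152548)
def n191852 : Q := act 4 n99012
theorem D191852 : act 4 n99012 = n191852 := rfl
theorem F384590 : act 3 n191852 = n188976 := d5_1 D191852 F375309 (iv3 F374807) F374478 F371007
theorem F384591 : act 6 n188975 = n191852 := d7_0 F384590 (iv6 D188976) D188975
def n191853 : Q := act 6 n99012
theorem D191853 : act 6 n99012 = n191853 := rfl
theorem F384592 : act 3 n191853 = n187928 := d7_1 D191853 F374809 F371007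
theorem F384593 : act 4 n191853 = n188975 := d10_1 D191853 F384591 (iv4 D191852)
theorem F384594 : act 0 n188198 = n191853 := d20_4 F140167 (iv1 F142597) (iv4 F367227) D188198 F384592 F371856 D188973 F375289 F366585 F370914
def n191854 : Q := act 4 n99013
theorem D191854 : act 4 n99013 = n191854 := rfl
def n191855 : Q := act 6 n99013
theorem D191855 : act 6 n99013 = n191855 := rfl
def n191856 : Q := act 0 n99014
theorem D191856 : act 0 n99014 = n191856 := rfl
theorem F384595 : act 4 n191856 = n189580 := d18_3 (iv1 D99013) D99014 D191856 F377033 (iv4 D102857) (iv0 D47702) (iv4 F65094) D90202 F367070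
theorem F384596 : act 2 n189581 = n191856 := d15_3 (iv0 D191856) (iv0 F372952) (iv7 F377037)
theorem F384597 : act 3 n154704 = n191856 := d5_5 F384595 F377032 F372961 F331126 (iv4 F242871)
theorem F384598 : act 6 n191856 = n154702 := d7_2 D154704 F384597 F242867
def n191857 : Q := act 5 n99014
theorem D191857 : act 5 n99014 = n191857 := rfl
def n191858 : Q := act 6 n99014
theorem D191858 : act 6 n99014 = n191858 := rfl
theorem F384599 : act 4 n191858 = n99015 := d10_1 D191858 (iv6 D99015) D99014
def n191859 : Q := act 0 n99015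
theorem D191859 : act 0 n99015 = n191859 := rfl
def n191860 : Q := act 1 n99015
theorem D191860 : act 1 n99015 = n191860 := rfl
theorem F384600 : act 6 n135385 = n191860 := d21_3 (iv5 D152039) (iv1 F108161) D135385 (iv1 D191860) (iv6 D99015) (iv5 D46320) F157224 D98288 (iv6 F383348) F383349
theorem F384601 : act 2 n191860 = n135421 := d3_1 F384600 (iv6 D135421) (iv2 F217615)
def n191861 : Q := act 7 n99015
theorem D191861 : act 7 n99015 = n191861 := rfl
theorem F384602 : act 3 n191861 = n99023 := d8_1 D191861 (iv7 D99023) (iv3 F152551)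
theorem F384603 : act 0 n191861 = n135421 := d20_4 (iv4 F359435) (iv1 F359444) (iv4 F366995) (iv3 F384602) (iv3 F239074) F355810 (iv1 D146576) (iv4 F356649) F143872 D93290
theorem F384604 : act 1 n191851 = n135421 := d15_0 (iv0 F384603) (iv7 D191861) (iv2 F384589)
def n191862 : Q := act 3 n99016
theorem D191862 : act 3 n99016 = n191862 := rfl
theorem F384605 : act 6 n191862 = n191688 := d7_2 F372239 D191862 F384157
theorem F384606 : act 4 n191862 = n187100 := d20_6 (iv4 F64392) F64393 (iv4 F63027) (iv3 F72975) D99016 D191862 (iv1 D187100) F137263 (iv3 D89540) F64467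
theorem F384607 : act 0 n183026 = n191862 := d18_0 F384606 (iv1 D187100) F137263 F334878 D143289 (iv0 F342511) F322433 (iv0 F342513) (iv5 F356218)
def n191863 : Q := act 4 n99016
theorem D191863 : act 4 n99016 = n191863 := rfl
theorem F384608 : act 2 n191863 = n189679 := d1_1 D191863 F377374 F369095
theorem F384609 : act 6 n191863 = n189665 := d10_2 F372239 D191863 F377302
theorem F384610 : act 3 n191863 = n189667 := d20_3 (iv4 F72976) D99016 D191863 F377307 F369178 F291678 F291068 F67713 (iv3 F138817) F138819
theorem F384611 : act 1 n191863 = n189609 := d15_0 (iv0 F377105) (iv7 F377373) (iv2 F384608)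
def n191864 : Q := act 4 n99025
theorem D191864 : act 4 n99025 = n191864 := rfl
theorem F384612 : act 2 n191864 = n99026 := d1_1 D191864 (iv4 D99026) D99025
def n191865 : Q := act 0 n99026
theorem D191865 : act 0 n99026 = n191865 := rfl
theorem F384613 : act 4 n191865 = n191140 := d18_3 F284559 D99026 D191865 (iv5 D191140) (iv4 D97312) (iv0 D45452) (iv4 F62907) (iv0 F134922) D98334
def n191866 : Q := act 1 n99026
theorem D191866 : act 1 n99026 = n191866 := rfl
theorem F384614 : act 4 n186441 = n191866 := d20_6 (iv4 F32748) F32750 F31988 (iv3 F65276) (iv1 F295170) (iv3 F289241) (iv1 D191866) (iv4 D99026) (iv3 D46325) (iv1 F294149)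
def n191867 : Q := act 5 n99026
theorem D191867 : act 5 n99026 = n191867 := rfl
def n191868 : Q := act 3 n99032
theorem D191868 : act 3 n99032 = n191868 := rfl
theorem F384615 : act 2 n191868 = n134433 := d0_1 D191868 F384427 F384429 (iv3 D188343) (iv2 F373121)
theorem F384616 : act 5 n191868 = n111131 := d6_2 (iv5 F366644) D191868 (iv3 F343208)
theorem F384617 : act 6 n191868 = n111134 := d7_2 F384554 D191868 (iv3 F384553)
theorem F384618 : act 7 n191868 = n134438 := d8_2 (iv7 F373123) D191868 F373120
theorem F384619 : act 0 n189074 = n191868 := d21_4 (iv5 D90228) (iv1 F68896) (iv5 F295156) D189074 F384617 (iv5 D111134) D111132 (iv5 F181225) (iv6 F343170) F294623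
def n191869 : Q := act 6 n99033
theorem D191869 : act 6 n99033 = n191869 := rfl
theorem F384620 : act 2 n191869 = n188356 := d3_1 D191869 (iv6 D188356) (iv2 F373124)
theorem F384621 : act 3 n191869 = n100441 := d7_1 D191869 (iv6 F384435) (iv3 F384433)
theorem F384622 : act 4 n191869 = n187633 := d10_1 D191869 (iv6 D187633) (iv4 F373125)
theorem F384623 : act 0 n189076 = n191869 := d21_4 (iv5 D128660) D128657 F332681 D189076 (iv6 D191869) F373126 (iv1 D146912) D146914 F354740 (iv1 F354669)
def n191870 : Q := act 4 n99037
theorem D191870 : act 4 n99037 = n191870 := rfl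
theorem F384624 : act 2 n191870 = n99038 := d1_1 D191870 (iv4 D99038) D99037
theorem F384625 : act 0 n191870 = n186825 := d18_2 (iv1 F367085) D191870 (iv4 D186825) (iv5 D89202) F294390 F293477 (iv4 F72973) (iv0 F293933) D186280
def n191871 : Q := act 6 n99037
theorem D191871 : act 6 n99037 = n191871 := rfl
theorem F384626 : act 2 n191871 = n99040 := d3_1 D191871 (iv6 D99040) D99037
def n191872 : Q := act 0 n99038
theorem D191872 : act 0 n99038 = n191872 := rfl
theorem F384627 : act 4 n191872 = n186816 := d18_3 F363583 D99038 D191872 (iv5 D186816) F136907 F69480 (iv4 F63030) D46318 D99008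
theorem F384628 : act 2 n186825 = n191872 := d15_3 (iv0 D191872) (iv0 F375770) F375769
def n191873 : Q := act 5 n99038
theorem D191873 : act 5 n99038 = n191873 := rfl
def n191874 : Q := act 6 n99038
theorem D191874 : act 6 n99038 = n191874 := rfl
theorem F384629 : act 4 n191874 = n99040 := d10_1 D191874 (iv6 D99040) D99038
theorem F384630 : act 5 n160571 = n191874 := d16_1 (iv4 F253653) F384629 (iv5 F363655) (iv4 D152496) (iv5 D71928) D71927 (iv5 F341252) (iv7 D125458) (iv2 F254328)
theorem F384631 : act 6 n191873 = n160570 := d12_4 D160571 F384630 (iv6 D191874) D191873 (iv5 D160570)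
def n191875 : Q := act 0 n99040
theorem D191875 : act 0 n99040 = n191875 := rfl
def n191876 : Q := act 1 n99040
theorem D191876 : act 1 n99040 = n191876 := rfl
def n191877 : Q := act 7 n99040
theorem D191877 : act 7 n99040 = n191877 := rfl
theorem F384632 : act 3 n191877 = n99047 := d8_1 D191877 (iv7 D99047) (iv3 F152569)
def n191878 : Q := act 5 n99044
theorem D191878 : act 5 n99044 = n191878 := rfl
def n191879 : Q := act 6 n99044
theorem D191879 : act 6 n99044 = n191879 := rfl
theorem F384633 : act 4 n191879 = n188365 := d10_1 D191879 (iv6 D188365) (iv4 F367575)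
def n191880 : Q := act 5 n99045
theorem D191880 : act 5 n99045 = n191880 := rfl
theorem F384634 : act 3 n191880 = n179867 := d6_1 D191880 (iv5 F360066) (iv3 F373190)
theorem F384635 : act 4 n191880 = n109037 := d18_5 (iv1 F139110) (iv4 F140260) (iv1 F140270) F373102 D191880 F373142 D109185 F373140 (iv5 D187628)
theorem F384636 : act 6 n100568 = n191880 := d21_5 (iv5 D89615) (iv1 F74124) (iv5 D46914) D46915 D100568 (iv5 D191880) (iv1 D99045) D99046 F152573 (iv1 F137397)
def n191881 : Q := act 6 n99045
theorem D191881 : act 6 n99045 = n191881 := rfl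
theorem F384637 : act 4 n191881 = n188369 := d10_1 D191881 (iv6 D188369) F373102
def n191882 : Q := act 0 n99046
theorem D191882 : act 0 n99046 = n191882 := rfl
theorem F384638 : act 4 n191882 = n109052 := d18_1 D191882 (iv1 D109052) (iv4 F331069) F139923 (iv4 F140260) F140269 (iv4 F367575) (iv0 D99044) D99046
theorem F384639 : act 5 n191882 = n191804 := d21_0 (iv1 D191804) D191805 F384500 F152496 F73365 (iv5 D22265) D22263 D46467 (iv6 F152573) D191882
theorem F384640 : act 2 n100536 = n191882 := d1_3 F384638 F372493 F378247
theorem F384641 : act 1 n100538 = n191882 := d17_8 (iv1 D109052) (iv5 D50349) D50345 D109037 (iv4 F384635) (iv5 D191880) F367573 F367570 F384638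
theorem F384642 : act 7 n100537 = n191882 := d15_2 (iv0 D100536) D100537 (iv2 F384640)
theorem F384643 : act 4 n188151 = n100537 := d11_3 F384642 F384638 (iv7 F372496)
def n191883 : Q := act 1 n99046
theorem D191883 : act 1 n99046 = n191883 := rfl
theorem F384644 : act 1 n191883 = n100538 := d15_1 D191883 (iv7 D100538) (iv2 F152572)
theorem F384645 : act 7 n191883 = n100536 := d15_2 (iv0 D191882) D191883 F384640
theorem F384646 : act 5 n191803 = n191883 := d21_0 (iv1 D191883) (iv5 D99046) (iv6 D46332) (iv1 D22154) (iv6 F34606) (iv5 D22141) D22139 D46295 D98951 D191803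
theorem F384647 : act 6 n110882 = n191883 := d21_3 F350412 (iv1 D110880) D110882 (iv1 D191883) F152573 (iv5 D46467) (iv1 F34744) (iv5 F35084) D46924 D100598
theorem F384648 : act 3 n191883 = n110884 := d7_1 F384647 (iv6 D110884) (iv3 F171786)
theorem F384649 : act 4 n191883 = n109051 := d10_1 F384647 (iv6 F370875) (iv4 F224837)
theorem F384650 : act 2 n100537 = n191883 := d1_3 F384649 F372497 F384643
theorem F384651 : act 4 n109042 = n191878 := d17_4 (iv1 F370874) (iv5 F370870) (iv1 F168592) D109042 (iv5 D191878) (iv0 D99044) D99046 D191883 F384649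
def n191884 : Q := act 4 n99046
theorem D191884 : act 4 n99046 = n191884 := rfl
theorem F384652 : act 2 n191884 = n100535 := d1_1 D191884 F154602 (iv2 F152572)
theorem F384653 : act 3 n191884 = n187880 := d5_1 D191884 F371753 F291194 D152496 F363654
theorem F384654 : act 6 n191884 = n99377 := d10_2 (iv6 F152573) D191884 (iv4 D99377)
theorem F384655 : act 5 n191884 = n170871 := d16_1 D191884 (iv4 F380527) (iv5 D190673) F320024 F346317 (iv4 F367569) F367570 (iv7 D100538) (iv2 F152572)
theorem F384656 : act 1 n191884 = n188159 := d18_6 (iv1 F139111) D91230 F372988 F294578 D99046 D191884 (iv4 D188159) F370883 F370880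
theorem F384657 : act 0 n191884 = n188154 := d21_4 F293006 D90684 F291187 (iv6 F384654) (iv6 F372504) (iv5 D180798) F201728 F354677 (iv6 D101171) (iv1 D47120)
def n191885 : Q := act 7 n99046
theorem D191885 : act 7 n99046 = n191885 := rfl
theorem F384658 : act 2 n191885 = n100538 := d4_1 D191885 (iv7 D100538) (iv2 F152572)
theorem F384659 : act 5 n191885 = n99047 := d13_1 D191885 (iv7 D99047) D99046
theorem F384660 : act 6 n191885 = n100559 := d14_1 D191885 (iv7 D100559) (iv6 D46911) (iv7 F73375) (iv6 F152573)
theorem F384661 : act 1 n100537 = n191885 := d15_1 D100537 (iv7 D191885) F152572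
theorem F384662 : act 1 n191885 = n100536 := d15_1 F384661 (iv7 F384645) (iv2 F384650)
def n191886 : Q := act 5 n99067
theorem D191886 : act 5 n99067 = n191886 := rfl
theorem F384663 : act 2 n191886 = n188688 := d2_1 D191886 (iv5 D188688) F294802
theorem F384664 : act 3 n191886 = n186280 := d6_1 D191886 (iv5 D186280) (iv3 F294784)
theorem F384665 : act 7 n191886 = n188689 := d13_2 F294601 D191886 (iv5 D188689)
theorem F384666 : act 0 n191886 = n186622 := d17_2 F284598 D191886 F367471 (iv4 F370497) F370493 (iv0 F374467) (iv5 D188688) (iv0 F143850) F295260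
theorem F384667 : act 4 n191886 = n187619 := d18_5 (iv1 F157259) F66326 (iv1 F72991) D99067 D191886 F373011 F373007 (iv0 F295169) (iv5 D88801)
def n191887 : Q := act 3 n99074
theorem D191887 : act 3 n99074 = n191887 := rfl
theorem F384668 : act 5 n191887 = n99666 := d6_2 (iv5 F157305) D191887 (iv3 D99666)
theorem F384669 : act 6 n191887 = n190385 := d7_2 (iv6 F364433) D191887 F379629
theorem F384670 : act 4 n191887 = n176698 := d20_6 (iv4 D41501) F35494 (iv4 F34636) (iv3 F72993) D99074 D191887 F331233 F157428 F157426 F74743
def n191888 : Q := act 4 n99074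
theorem D191888 : act 4 n99074 = n191888 := rfl
theorem F384671 : act 2 n191888 = n191862 := d1_1 D191888 F384606 (iv2 F369085)
theorem F384672 : act 3 n191888 = n176153 := d5_1 D191888 F275398 D176698 (iv4 F384670) (iv3 D191887)
theorem F384673 : act 7 n191888 = n191470 := d11_2 (iv7 F288492) D191888 F383531
theorem F384674 : act 5 n191888 = n118851 := d16_1 D191888 (iv4 F339136) F339137 F308237 (iv5 F342538) (iv4 D99672) (iv5 F289320) (iv7 F369083) (iv2 F369085)
theorem F384675 : act 0 n191888 = n137620 := d17_0 (iv5 D137620) D137617 (iv5 F356217) (iv4 D99577) F334881 F225970 (iv5 F342531) (iv0 F342533) D191888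
theorem F384676 : act 1 n191888 = n137970 := d18_6 (iv1 F305897) (iv4 D118797) (iv1 F341564) (iv4 D99667) (iv5 F157305) D191888 (iv4 F356215) F383533 F383532
def n191889 : Q := act 3 n99075
theorem D191889 : act 3 n99075 = n191889 := rfl
theorem F384677 : act 5 n191889 = n99671 := d6_2 (iv5 F289320) D191889 (iv3 D99671)
theorem F384678 : act 6 n191889 = n159747 := d7_2 (iv6 F289321) D191889 F251694
theorem F384679 : act 4 n191889 = n159749 := d20_6 (iv4 D44004) F290959 D45354 D97020 (iv1 F342534) D191889 F288415 F144607 F72946 F69724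
theorem F384680 : act 2 n189281 = n191889 := d1_3 F384679 F283590 (iv4 F376318)
theorem F384681 : act 0 n137593 = n191889 := d20_10 F384679 F288415 F144607 F72946 F69724 D94121 (iv4 F291494) (iv1 F356794) (iv4 D137596) (iv3 F220753)
def n191890 : Q := act 4 n99075
theorem D191890 : act 4 n99075 = n191890 := rfl
theorem F384682 : act 2 n191890 = n191470 := d1_1 D191890 F383531 (iv2 F289319)
theorem F384683 : act 5 n191890 = n118850 := d9_2 (iv5 F289320) D191890 (iv4 F339143) F339144 F188995 (iv5 F341567) (iv4 D99667) (iv5 F157305) D191888 F384674 (iv4 F339136) F339137 F308237 (iv5 F342538) (iv4 D99672)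
theorem F384684 : act 6 n191890 = n181942 := d10_2 (iv6 F289321) D191890 (iv4 D181942)
theorem F384685 : act 7 n191890 = n191862 := d11_2 F369083 D191890 F384606
theorem F384686 : act 0 n191890 = n137970 := d17_0 (iv5 D137970) (iv1 D64837) D64838 (iv4 F331208) F334882 (iv0 F334879) F74591 D99075 D191890
theorem F384687 : act 1 n191890 = n137620 := d18_8 D137617 F334864 (iv1 F334894) (iv4 D102009) F74591 F72994 D99075 D191890 (iv5 D137620)
theorem F384688 : act 3 n191890 = n186609 := d20_3 F149647 (iv1 F342534) D191890 F369093 F365469 (iv4 F370020) (iv1 F370025) (iv4 F384670) (iv3 D191887) F342533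
def n191891 : Q := act 4 n99284
theorem D191891 : act 4 n99284 = n191891 := rfl
theorem F384689 : act 2 n191891 = n156127 := d1_1 D191891 F340590 (iv2 F152851)
theorem F384690 : act 5 n191891 = n155996 := d9_2 D99284 D191891 F245069 F111009 (iv4 F173606) F340584 F158377 (iv5 F340587) (iv4 D156126) (iv5 D74264) F53488 (iv5 F38624) F319039 (iv5 D47795) (iv4 F73262)
theorem F384691 : act 7 n191891 = n155995 := d11_2 (iv7 F152853) D191891 F340591
theorem F384692 : act 0 n191891 = n156125 := d17_0 F245336 (iv1 F245261) F359521 (iv4 D185478) D185479 (iv0 F287743) (iv5 F378218) (iv0 F378223) D191891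
theorem F384693 : act 1 n191891 = n115326 := d18_8 F179585 (iv4 D115309) F84033 (iv4 F101272) (iv5 F222822) (iv4 F378221) (iv0 F378223) D191891 (iv5 D115326)
def n191892 : Q := act 0 n99290
theorem D191892 : act 0 n99290 = n191892 := rfl
theorem F384694 : act 6 n191892 = n100393 := d21_5 D33631 F55716 (iv5 F73273) D99290 D191892 (iv5 F384390) (iv1 F384391) (iv5 D123211) (iv6 D57352) F44374
theorem F384695 : act 2 n100430 = n191892 := d15_3 (iv0 D191892) F196516 (iv7 F308574)
theorem F384696 : act 3 n191892 = n153325 := d0_2 (iv3 F308572) F384695 F345836 (iv3 D75046) (iv2 F155537)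
theorem F384697 : act 7 n191892 = n157633 := d4_2 (iv7 F308574) F384695 (iv2 D157633)
theorem E103491 : n157633 = n122648 := ((c15_2 F308571 D122648 (iv7 F384697) (iv2 F384695))).symm
theorem F384698 : act 2 n122648 = n75061 := (sb E103491 (iv2 D157633))
theorem F384699 : act 7 n122648 = n191892 := (sb E103491 (iv7 F384697))
theorem F384700 : act 1 n122650 = n191892 := d15_1 (iv0 F196515) (iv7 F384699) F384698
def n191893 : Q := act 7 n99290
theorem D191893 : act 7 n99290 = n191893 := rfl
theorem F384701 : act 2 n191893 = n122650 := d4_1 D191893 (iv7 D122650) (iv2 F152875)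
theorem F384702 : act 3 n191893 = n100498 := d8_1 D191893 (iv7 F287002) F303334
theorem F384703 : act 4 n191893 = n99294 := d11_1 D191893 (iv7 D99294) (iv4 F152876)
theorem F384704 : act 6 n191893 = n100420 := d14_1 D191893 (iv7 D100420) (iv6 D46866) (iv7 F73272) D99290
theorem F384705 : act 1 n122648 = n191893 := d15_1 D122648 (iv7 D191893) F152875
theorem F384706 : act 1 n191893 = n100430 := d15_1 F384705 F308574 (iv2 F384698)
def n191894 : Q := act 4 n99291
theorem D191894 : act 4 n99291 = n191894 := rfl
theorem F384707 : act 2 n191894 = n171127 := d1_1 D191894 (iv4 D171127) (iv2 F365685)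
theorem F384708 : act 3 n191894 = n135433 := d5_1 D191894 (iv4 D135433) (iv3 F330210) D83114 (iv3 F365684)
theorem F384709 : act 7 n191894 = n171132 := d11_2 (iv7 F365686) D191894 (iv4 D171132)
theorem F384710 : act 0 n160108 = n191894 := d20_10 (iv4 D191894) (iv1 F152884) (iv4 F196514) F196513 (iv1 F115345) (iv3 F339038) F339039 (iv1 F313840) (iv4 F248316) (iv3 F252706)
theorem F384711 : act 6 n184486 = n191894 := d7_0 F384708 F351811 D184486
def n191895 : Q := act 5 n99291
theorem D191895 : act 5 n99291 = n191895 := rfl
theorem F384712 : act 2 n191895 = n171128 := d2_1 D191895 (iv5 D171128) (iv2 F365685)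
theorem F384713 : act 3 n191895 = n173813 := d6_1 D191895 (iv5 D173813) (iv3 F365684)
theorem F384714 : act 7 n191895 = n171133 := d13_2 (iv7 F365686) D191895 (iv5 D171133)
theorem F384715 : act 0 n191895 = n123279 := d21_1 D191895 (iv5 D123279) (iv6 F301970) F351777 (iv6 D84662) F60112 F31831 D22237 D46428 D99291
theorem F384716 : act 6 n191895 = n167924 := d21_9 D167926 F372545 F372544 (iv6 D119999) F328486 (iv6 F152880) (iv5 D99293) D99291 D191895 (iv1 D167924)
def n191896 : Q := act 6 n99291
theorem D191896 : act 6 n99291 = n191896 := rfl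
theorem F384717 : act 2 n191896 = n100418 := d3_1 D191896 F307382 (iv2 F365685)
theorem F384718 : act 3 n191896 = n153333 := d7_1 D191896 F361338 (iv3 F365684)
theorem F384719 : act 4 n191896 = n184486 := d10_1 D191896 F384711 (iv4 D191894)
theorem F384720 : act 5 n191896 = n177827 := d21_6 F60112 F31831 D22237 D46428 D99291 D191896 (iv1 D177827) (iv5 D84668) (iv6 D39105) D39103
theorem F384721 : act 7 n100417 = n191896 := d13_0 F384720 (iv7 F364057) F338885
theorem F384722 : act 0 n100420 = n191896 := d17_0 F384720 (iv1 D177827) (iv5 D84668) (iv4 F90541) D123211 F384391 F384390 F154414 (iv4 F154481)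
theorem F384723 : act 1 n100391 = n191896 := d17_6 (iv1 F384391) (iv5 D123211) D123209 F310661 F338883 (iv5 F300552) F384720 F277351 (iv4 F384389)
theorem F384724 : act 0 n191757 = n191755 := d17_2 (iv1 F366761) (iv5 F384359) (iv5 D191755) (iv4 D98896) D98897 F281966 (iv5 F300552) F384723 F384719
theorem F384725 : act 0 n154089 = n191895 := d21_1 D154089 (iv5 D191895) D191896 (iv1 F384723) (iv6 D100391) F74050 F55650 (iv5 D33631) D33632 D72962
theorem F384726 : act 1 n154089 = n141050 := d15_1 (iv0 F384725) (iv7 F348379) (iv2 F384712)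
def n191897 : Q := act 4 n99292
theorem D191897 : act 4 n99292 = n191897 := rfl
theorem F384727 : act 2 n191897 = n171132 := d1_1 D191897 (iv4 D171132) (iv2 F307385)
theorem F384728 : act 3 n191897 = n136029 := d5_1 D191897 F338811 F306269 F281642 (iv3 F281643)
theorem F384729 : act 7 n191897 = n171127 := d11_2 (iv7 F307386) D191897 (iv4 D171127)
theorem F384730 : act 5 n191897 = n136028 := d16_5 F100434 D66150 D141050 F348381 D191897 F218889 D141171 F353368 (iv2 D137237)
theorem F384731 : act 0 n191897 = n160108 := d20_1 D191897 F252707 (iv3 F268712) F335235 (iv3 D81975) F117323 (iv1 F72413) F72410 (iv3 F126443) (iv1 F152877)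
def n191898 : Q := act 6 n99292
theorem D191898 : act 6 n99292 = n191898 := rfl
theorem F384732 : act 2 n191898 = n171134 := d3_1 D191898 (iv6 D171134) (iv2 F307385)
theorem F384733 : act 3 n191898 = n104134 := d7_1 D191898 (iv6 D104134) (iv3 F281643)
theorem F384734 : act 5 n191898 = n177911 := d12_1 D191898 (iv6 F358569) F364524 F348383 F348381
theorem F384735 : act 0 n122415 = n191898 := d19_0 F384734 F382975 F382971 F378210 (iv5 D189911) (iv4 F160529) (iv3 D104785) (iv1 F76195) D103111 (iv4 F381072) F381071 (iv1 F330418) F282298 F132772 (iv3 F325722) F325720 (iv5 F158033) F123434 (iv3 F195862)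
theorem F384736 : act 7 n147854 = n191898 := d8_0 F384733 F307369 D147854
def n191899 : Q := act 5 n99304
theorem D191899 : act 5 n99304 = n191899 := rfl
theorem F384737 : act 2 n191899 = n184243 := d2_1 D191899 (iv5 D184243) (iv2 F275008)
theorem F384738 : act 3 n191899 = n99306 := d6_1 D191899 (iv5 D99306) D99304
theorem F384739 : act 7 n191899 = n100113 := d13_2 (iv7 F275009) D191899 (iv5 D100113)
theorem F384740 : act 0 n191899 = n154120 := d17_2 F232767 D191899 (iv5 D154120) F190976 F314092 F320419 F322123 F305751 F151189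
def n191900 : Q := act 6 n99304
theorem D191900 : act 6 n99304 = n191900 := rfl
theorem F384741 : act 2 n191900 = n135411 := d3_1 D191900 F359868 (iv2 F275008)
theorem F384742 : act 3 n191900 = n99307 := d7_1 D191900 (iv6 D99307) D99304
theorem F384743 : act 4 n191900 = n157439 := d10_1 D191900 F359899 (iv4 F311804)
theorem F384744 : act 5 n191900 = n186637 := d21_6 F72636 (iv1 F34944) (iv5 F51885) D70653 F232767 D191900 F367954 (iv5 D182024) (iv6 D86936) (iv1 F72638)
theorem F384745 : act 7 n191822 = n191900 := d13_0 F384744 F367517 D191822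
theorem F384746 : act 1 n149793 = n191900 := d18_8 F367954 (iv4 F355253) (iv1 D129471) D129472 F355255 (iv4 F235638) (iv0 D149798) (iv4 F235627) F384744
def n191901 : Q := act 1 n99306
theorem D191901 : act 1 n99306 = n191901 := rfl
theorem F384747 : act 1 n191901 = n99311 := d15_1 D191901 F275004 (iv2 F275010)
theorem F384748 : act 7 n191901 = n100100 := d15_2 F343495 D191901 (iv2 F366784)
theorem F384749 : act 5 n191901 = n123270 := d17_7 F308345 F273356 (iv1 D174473) (iv5 D83390) (iv4 F155515) D99306 D191901 (iv0 F311767) (iv4 F308347)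
theorem F384750 : act 2 n100101 = n191901 := d2_3 F384749 (iv2 D123270) (iv5 F310557)
theorem F384751 : act 3 n154089 = n191901 := d6_3 F384749 F197554 D154089
theorem F384752 : act 6 n100182 = n191901 := d21_5 (iv5 D191670) (iv1 F383742) F383744 (iv6 F372305) (iv1 F372307) F384749 (iv1 F343474) F136722 D100132 (iv1 F384100)
theorem F384753 : act 2 n188090 = n100182 := d3_3 F384752 (iv2 F384750) F372302
theorem F384754 : act 7 n100181 = n188090 := d15_2 F372307 F372308 F384753
theorem F384755 : act 7 n188089 = n100182 := d15_2 F372301 F372306 (iv2 F384753)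
theorem F384756 : act 2 n100181 = n188089 := d4_3 F384755 (iv2 F384753) (iv7 F384754)
theorem F384757 : act 3 n139311 = n100181 := d8_3 F384754 F372303 F332939
theorem F384758 : act 5 n191371 = n100181 := d13_3 F384754 (iv5 F383500) (iv7 F383501)
theorem F384759 : act 4 n100182 = n191391 := d16_0 (iv5 D191391) (iv4 D98245) (iv5 D45915) (iv4 F72420) D98161 D191371 F384758 F384754 F384753
theorem F384760 : act 3 n139481 = n191371 := d6_3 F384758 (iv3 F384757) F222669
theorem F384761 : act 4 n100181 = n180171 := d16_4 (iv4 F72420) D98161 D191371 F384758 (iv5 D180171) F132045 D86089 (iv7 F320011) F72503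
theorem F384762 : act 4 n191375 = n139481 := d5_0 F384760 (iv4 D191371) F151417 D98167 D191375
theorem F384763 : act 1 n139428 = n191375 := d18_6 (iv1 F111696) (iv4 D65440) (iv1 D30683) (iv4 F49134) D65438 D139428 F384762 (iv0 F246033) (iv5 D156493)
theorem F384764 : act 3 n188089 = n155681 := d0_2 F384757 F384756 (iv2 F348150) F226492 (iv2 F222502)
theorem F384765 : act 6 n100181 = n139309 := d7_2 D139311 F384757 (iv3 D139309)
def n191902 : Q := act 4 n99306
theorem D191902 : act 4 n99306 = n191902 := rfl
theorem F384766 : act 2 n191902 = n100102 := d1_1 D191902 (iv4 D100102) (iv2 F275010)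
theorem F384767 : act 7 n191902 = n100118 := d11_2 (iv7 F275011) D191902 (iv4 D100118)
theorem F384768 : act 0 n191902 = n101836 := d18_2 (iv1 D191901) D191902 (iv4 D101836) (iv5 D47326) (iv4 F74545) F271113 (iv4 F184763) F343474 (iv5 F384749)
theorem F384769 : act 1 n191902 = n145403 := d18_6 (iv1 D22615) (iv4 F29521) D38414 (iv4 F155515) D99306 D191902 (iv4 F366171) F155069 (iv5 D47044)
def n191903 : Q := act 6 n99306
theorem D191903 : act 6 n99306 = n191903 := rfl
theorem F384770 : act 2 n191903 = n100103 := d3_1 D191903 (iv6 D100103) (iv2 F275010)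
theorem F384771 : act 5 n191903 = n186638 := d12_1 D191903 (iv6 D186638) (iv5 F152910) (iv6 D99307) D99306
theorem F384772 : act 0 n188345 = n186638 := d21_7 (iv5 D162025) (iv1 F311768) F268282 D100128 F342222 (iv6 F375625) (iv5 F373134) (iv5 F384771) (iv6 D191903) (iv1 F343495)
theorem F384773 : act 1 n188345 = n191831 := d15_1 (iv0 F384772) (iv7 D191831) (iv2 F367518)
def n191904 : Q := act 1 n99309
theorem D191904 : act 1 n99309 = n191904 := rfl
theorem F384774 : act 7 n191904 = n99916 := d15_2 F351947 D191904 F153845
theorem F384775 : act 3 n173810 = n191904 := d20_3 (iv4 F155508) F314794 F314804 (iv1 D191904) (iv3 D99309) F155511 (iv1 D38415) F29521 (iv3 F35142) D47007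
theorem F384776 : act 2 n191904 = n100087 := d0_1 F384775 (iv3 F351959) F364467 F335240 F357441
theorem F384777 : act 6 n191904 = n100488 := d7_2 F357442 F384775 (iv3 F316608)
theorem F384778 : act 4 n135396 = n191904 := d20_2 F316141 D135396 (iv3 F384775) F312376 (iv3 D87896) (iv4 F305362) F105531 F303694 (iv3 F74375) D101192
theorem F384779 : act 0 n100089 = n191904 := d20_4 (iv4 F284948) F339030 (iv4 D184242) F232751 (iv3 F384775) (iv4 F314804) (iv1 F213855) F311968 D100825 (iv1 F335236)
def n191905 : Q := act 2 n99309
theorem D191905 : act 2 n99309 = n191905 := rfl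
theorem F384780 : act 3 n191905 = n100111 := d0_2 D99309 D191905 (iv2 D100111) (iv3 D46733) (iv2 F274993)
theorem F384781 : act 7 n191905 = n100089 := d4_2 (iv7 F275002) D191905 (iv2 D100089)
theorem F384782 : act 1 n191905 = n100087 := d15_0 (iv0 D100087) (iv7 F275002) D191905
theorem F384783 : act 1 n99916 = n191905 := d15_0 F384782 F351960 (iv2 F153845)
def n191906 : Q := act 4 n99309
theorem D191906 : act 4 n99309 = n191906 := rfl
theorem F384784 : act 3 n191906 = n133047 := d5_1 D191906 F341903 (iv3 D83393) (iv4 F155511) D99309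
theorem F384785 : act 7 n191906 = n100090 := d11_2 (iv7 F275002) D191906 (iv4 D100090)
theorem F384786 : act 0 n191906 = n122364 := d17_0 F298146 F358669 (iv5 D82980) (iv4 F127898) (iv5 F335203) (iv0 F383361) (iv5 D191402) F351947 D191906
theorem F384787 : act 5 n174174 = n191906 := d21_6 (iv5 F222851) F222852 (iv5 D108013) F78876 D107584 F353245 F384786 F298146 F340651 (iv1 F175082)
def n191907 : Q := act 5 n99309
theorem D191907 : act 5 n99309 = n191907 := rfl
theorem F384788 : act 3 n191907 = n99311 := d6_1 D191907 (iv5 D99311) D99309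
theorem F384789 : act 7 n191907 = n100091 := d13_2 (iv7 F275002) D191907 (iv5 D100091)
def n191908 : Q := act 6 n99309
theorem D191908 : act 6 n99309 = n191908 := rfl
theorem F384790 : act 3 n191908 = n99312 := d7_1 D191908 (iv6 D99312) D99309
theorem F384791 : act 7 n191908 = n135417 := d14_2 (iv7 F275002) D191908 (iv6 D135417) (iv7 F217677) (iv6 F321747)
def n191909 : Q := act 4 n99311
theorem D191909 : act 4 n99311 = n191909 := rfl
theorem F384792 : act 2 n191909 = n100118 := d1_1 D191909 (iv4 D100118) (iv2 F275003)
theorem F384793 : act 7 n191909 = n100102 := d11_2 (iv7 F275004) D191909 (iv4 D100102)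
theorem F384794 : act 0 n191909 = n145403 := d17_0 (iv5 D145403) (iv1 F358646) F359735 (iv4 D100131) (iv5 F136722) F343474 (iv5 F384749) F384747 D191909
theorem F384795 : act 1 n191909 = n101836 := d18_6 (iv1 F73451) (iv4 F127789) (iv1 F127792) (iv4 F155511) D99311 D191909 (iv4 D101836) (iv0 F74546) (iv5 D47039)
def n191910 : Q := act 6 n99311
theorem D191910 : act 6 n99311 = n191910 := rfl
theorem F384796 : act 2 n191910 = n100119 := d3_1 D191910 (iv6 D100119) (iv2 F275003)
theorem F384797 : act 0 n191910 = n189032 := d21_4 F73856 (iv1 F73288) D99311 D191910 F375499 F361774 (iv1 F367404) (iv5 F380321) (iv6 F380323) (iv1 F152916)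
theorem F384798 : act 0 n100155 = n191910 := d21_4 F73311 F291164 (iv5 F291165) D100155 (iv6 D191910) (iv5 D99311) (iv1 D46434) D46435 F73290 D46439
theorem F384799 : act 7 n189031 = n191910 := d15_2 (iv0 F367218) D189031 F384796
def n191911 : Q := act 5 n99312
theorem D191911 : act 5 n99312 = n191911 := rfl
theorem F384800 : act 2 n191911 = n100122 := d2_1 D191911 (iv5 D100122) (iv2 F275007)
theorem F384801 : act 0 n191911 = n173573 := d17_2 (iv1 F275006) D191911 (iv5 D173573) (iv4 D83025) D83026 F271996 (iv5 F308602) (iv0 D167469) (iv4 F308590)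
theorem F384802 : act 1 n191911 = n123203 := d17_6 D82554 (iv5 F346729) F346728 (iv5 D174491) F155513 D191911 (iv5 D123203) (iv0 F310383) F64077
theorem F384803 : act 7 n175571 = n191911 := d15_2 (iv0 F154541) D175571 F384800
def n191912 : Q := act 7 n99312
theorem D191912 : act 7 n99312 = n191912 := rfl
theorem F384804 : act 2 n191912 = n100123 := d4_1 D191912 (iv7 D100123) (iv2 F275007)
theorem F384805 : act 3 n191912 = n135417 := d8_1 D191912 (iv7 F384791) F384790
theorem F384806 : act 4 n191912 = n174492 := d11_1 D191912 (iv7 D174492) F155513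
theorem F384807 : act 5 n191912 = n175571 := d13_1 D191912 F384803 (iv5 D191911)
theorem F384808 : act 6 n191912 = n100107 := d14_1 D191912 (iv7 D100107) (iv6 D46731) F274997 D99312
theorem F384809 : act 1 n100050 = n191912 := d15_1 (iv0 F274584) (iv7 D191912) F275007
theorem F384810 : act 1 n191912 = n100120 := d15_1 F384809 F274981 (iv2 F274651)
theorem F384811 : act 0 n175572 = n154494 := d18_2 (iv1 D175571) D175572 (iv4 D154494) F310408 (iv4 F155080) F272022 (iv4 F249127) F384809 F384807
theorem F384812 : act 0 n131666 = n158346 := d20_7 F126394 (iv1 F194676) (iv4 F263591) (iv3 F338074) (iv1 F384810) F384805 F217749 F302492 (iv3 D178122) F135953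
theorem F384813 : act 0 n186875 = n171033 := d20_4 F384806 F273377 (iv4 F271106) (iv3 F368397) F268752 F126394 (iv1 F194676) (iv4 F263591) (iv3 F338074) (iv1 F384810)
theorem F384814 : act 6 n175571 = n102706 := d21_3 F338075 (iv1 F384810) F384807 (iv1 D102706) (iv6 D47638) (iv5 D22928) (iv1 F66634) D46424 (iv6 F136519) F338082
def n191913 : Q := act 3 n99313
theorem D191913 : act 3 n99313 = n191913 := rfl
theorem F384815 : act 7 n191913 = n100130 := d8_2 (iv7 F268284) D191913 (iv3 D100130)
theorem F384816 : act 2 n191913 = n184245 := d15_3 (iv0 D184245) (iv0 F346704) (iv7 F384815)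
theorem F384817 : act 3 n184245 = n156245 := d0_2 D191913 F384816 (iv2 F342228) (iv3 D100125) (iv2 F268283)
theorem F384818 : act 4 n156271 = n184245 := d5_0 F384817 F245559 F111525 (iv4 F111532) (iv3 F245579)
theorem F384819 : act 5 n153930 = n184245 := d6_0 F384817 F335203 (iv3 F241945)
theorem F384820 : act 6 n156243 = n184245 := d7_0 F384817 (iv6 D156245) D156243
def n191914 : Q := act 5 n99314
theorem D191914 : act 5 n99314 = n191914 := rfl
theorem F384821 : act 2 n191914 = n100136 := d2_1 D191914 (iv5 D100136) (iv2 F152912)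
def n191915 : Q := act 4 n99316
theorem D191915 : act 4 n99316 = n191915 := rfl
theorem F384822 : act 2 n191915 = n184249 := d1_1 D191915 (iv4 D184249) (iv2 F152919)
theorem F384823 : act 7 n191915 = n100174 := d11_2 (iv7 F152921) D191915 (iv4 D100174)
theorem F384824 : act 0 n191915 = n145112 := d18_2 F384578 D191915 F228088 D151381 (iv4 F349216) (iv0 D97326) (iv4 F72957) D98993 D191845
def n191916 : Q := act 3 n99317
theorem D191916 : act 3 n99317 = n191916 := rfl
theorem F384825 : act 5 n191916 = n188851 := d6_2 F291274 D191916 (iv3 D188851)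
theorem F384826 : act 7 n191916 = n100178 := d8_2 (iv7 F152923) D191916 (iv3 D100178)
def n191917 : Q := act 4 n99318
theorem D191917 : act 4 n99318 = n191917 := rfl
theorem F384827 : act 2 n191917 = n184251 := d1_1 D191917 (iv4 D184251) (iv2 F152928)
theorem F384828 : act 7 n191917 = n100200 := d11_2 (iv7 F152926) D191917 (iv4 D100200)
def n191918 : Q := act 6 n99318
theorem D191918 : act 6 n99318 = n191918 := rfl
theorem F384829 : act 2 n191918 = n184253 := d3_1 D191918 (iv6 D184253) (iv2 F152928)
theorem F384830 : act 3 n191918 = n99319 := d7_1 D191918 (iv6 D99319) D99318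
theorem F384831 : act 5 n191918 = n102487 := d12_1 D191918 (iv6 D102487) D102486 (iv6 F157429) (iv5 F152925)
def n191919 : Q := act 0 n99319
theorem D191919 : act 0 n99319 = n191919 := rfl
def n191920 : Q := act 1 n99319
theorem D191920 : act 1 n99319 = n191920 := rfl
theorem F384832 : act 1 n191920 = n100198 := d15_1 D191920 (iv7 D100198) (iv2 F152929)
def n191921 : Q := act 7 n99319
theorem D191921 : act 7 n99319 = n191921 := rfl
theorem F384833 : act 2 n191921 = n100198 := d4_1 D191921 (iv7 D100198) (iv2 F152929)
theorem F384834 : act 5 n191921 = n102492 := d13_1 D191921 (iv7 D102492) (iv5 F152930)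
theorem F384835 : act 6 n191921 = n100207 := d14_1 D191921 (iv7 D100207) (iv6 D46766) (iv7 F73310) D99319
theorem F384836 : act 1 n100198 = n191919 := d15_0 (iv0 D191919) D191921 F384833
theorem F384837 : act 1 n100197 = n191921 := d15_1 D100197 (iv7 D191921) F152929
theorem F384838 : act 1 n191921 = n100196 := d15_0 (iv0 D100196) D100198 (iv2 F384833)
def n191922 : Q := act 2 n99320
theorem D191922 : act 2 n99320 = n191922 := rfl
theorem F384839 : act 3 n191922 = n100199 := d0_2 D99320 D191922 (iv2 D100199) (iv3 D46764) (iv2 F73304)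
theorem F384840 : act 5 n191922 = n100377 := d2_2 (iv5 F292909) D191922 (iv2 D100377)
theorem F384841 : act 7 n191922 = n100189 := d4_2 (iv7 F152932) D191922 (iv2 D100189)
theorem F384842 : act 1 n191922 = n100140 := d15_0 F369034 (iv7 F152932) D191922
theorem F384843 : act 1 n99919 = n191922 := d15_0 F384842 (iv7 F371255) F371254
def n191923 : Q := act 4 n99320
theorem D191923 : act 4 n99320 = n191923 := rfl
theorem F384844 : act 7 n191923 = n100190 := d11_2 (iv7 F152932) D191923 (iv4 D100190)
theorem F384845 : act 0 n191923 = n140259 := d18_2 F372268 D191923 F339888 (iv5 D101190) F74372 F68094 (iv4 F65997) D90790 D188081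
theorem F384846 : act 0 n189175 = n191923 := d20_1 D189175 (iv4 D191923) (iv3 D99320) (iv1 D46440) (iv3 F73283) (iv4 F328487) F320853 D65758 D140113 F339912
def n191924 : Q := act 6 n99320
theorem D191924 : act 6 n99320 = n191924 := rfl
theorem F384847 : act 3 n191924 = n99321 := d7_1 D191924 (iv6 D99321) D99320
theorem F384848 : act 5 n191924 = n186291 := d12_1 D191924 (iv6 D186291) (iv5 D88738) (iv6 F74035) (iv5 F292909)
def n191925 : Q := act 0 n99321
theorem D191925 : act 0 n99321 = n191925 := rfl
def n191926 : Q := act 7 n99321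
theorem D191926 : act 7 n99321 = n191926 := rfl
theorem F384849 : act 2 n191926 = n100207 := d4_1 D191926 (iv7 D100207) (iv2 F152933)
theorem F384850 : act 5 n191926 = n186294 := d13_1 D191926 (iv7 D186294) F293939
theorem F384851 : act 6 n191926 = n100198 := d14_1 D191926 (iv7 D100198) (iv6 D46763) F73314 D99321
theorem F384852 : act 1 n100207 = n191925 := d15_0 (iv0 D191925) D191926 F384849
theorem F384853 : act 1 n100206 = n191926 := d15_1 D100206 (iv7 D191926) F152933
theorem F384854 : act 7 n191925 = n100206 := d15_2 (iv0 F374448) F384852 F375623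
theorem F384855 : act 5 n191829 = n191925 := d21_0 (iv1 F384852) F154150 (iv6 F367536) (iv1 F367994) F367997 (iv5 F286903) (iv1 D100106) F73853 D98981 D191829
theorem F384856 : act 7 n188345 = n191829 := d13_0 F384855 F384854 (iv5 F373134)
theorem F384857 : act 4 n188351 = n191829 := d17_4 (iv1 D93306) D93307 D189160 (iv5 F375888) F384855 (iv0 D191925) (iv5 F293939) (iv0 F359433) F359434
theorem F384858 : act 3 n150685 = n191925 := d8_3 F384854 F375624 F312927
theorem F384859 : act 2 n191925 = n100205 := d15_3 (iv0 D100205) D100206 (iv7 F384854)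
theorem F384860 : act 3 n100205 = n111135 := d0_2 F384858 F384859 F172355 F318064 (iv2 F237228)
theorem F384861 : act 7 n100205 = n111130 := d4_2 (iv7 F384854) F384859 (iv2 F375623)
theorem F384862 : act 6 n139430 = n100205 := d14_5 F384861 (iv6 D111130) (iv7 F80911) D111211 (iv7 F222632)
theorem F384863 : act 1 n191926 = n100205 := d15_1 F384853 F384861 (iv2 F375623)
theorem F384864 : act 4 n189059 = n100205 := d20_8 (iv4 F111424) (iv1 D62988) (iv4 F98296) (iv3 F356743) F356741 F143583 (iv4 F143587) D189059 F384860 (iv1 F172358)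
theorem F384865 : act 3 n189059 = n108438 := d5_3 (iv4 F172356) (iv3 F384860) (iv4 F384864) F167659 (iv3 F80859)
theorem F384866 : act 6 n123495 = n189059 := d7_0 F384865 F341373 (iv3 F197910)
theorem F384867 : act 7 n108433 = n189059 := d8_0 F384865 (iv7 D108438) (iv3 F167644)
def n191927 : Q := act 4 n99328
theorem D191927 : act 4 n99328 = n191927 := rfl
theorem F384868 : act 2 n191927 = n184364 := d1_1 D191927 (iv4 D184364) (iv2 F152953)
theorem F384869 : act 7 n191927 = n100236 := d11_2 (iv7 F152955) D191927 (iv4 D100236)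
def n191928 : Q := act 6 n99328
theorem D191928 : act 6 n99328 = n191928 := rfl
theorem F384870 : act 2 n191928 = n184365 := d3_1 D191928 (iv6 D184365) (iv2 F152953)
theorem F384871 : act 3 n191928 = n99331 := d7_1 D191928 (iv6 D99331) (iv3 F152954)
def n191929 : Q := act 3 n99330
theorem D191929 : act 3 n99330 = n191929 := rfl
theorem F384872 : act 2 n191929 = n155835 := d0_1 D191929 (iv3 D155835) (iv2 F329943) (iv3 D100262) (iv2 F152960)
theorem F384873 : act 7 n191929 = n100243 := d8_2 (iv7 F152961) D191929 (iv3 D100243)
def n191930 : Q := act 6 n99330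
theorem D191930 : act 6 n99330 = n191930 := rfl
theorem F384874 : act 2 n191930 = n100263 := d3_1 D191930 (iv6 D100263) (iv2 F152960)
theorem F384875 : act 4 n191930 = n99331 := d10_1 D191930 (iv6 D99331) D99330
theorem F384876 : act 5 n123492 = n191930 := d21_8 (iv5 D92917) (iv1 F142680) F142678 D93106 D189059 (iv6 F384866) (iv5 D123495) D123492 (iv6 D191930) (iv1 F292695)
def n191931 : Q := act 0 n99331
theorem D191931 : act 0 n99331 = n191931 := rfl
def n191932 : Q := act 1 n99331
theorem D191932 : act 1 n99331 = n191932 := rfl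
theorem F384877 : act 1 n191932 = n100267 := d15_1 D191932 (iv7 D100267) (iv2 F152962)
theorem F384878 : act 6 n100929 = n191932 := d21_3 (iv5 F153183) (iv1 F156728) F156730 (iv1 D191932) (iv6 D99331) (iv5 D46444) F66080 D22287 (iv6 F73446) D99447
theorem F384879 : act 5 n186882 = n191932 := d21_6 (iv5 D41776) (iv1 D19652) D19653 (iv6 F64361) D89348 D186882 (iv1 D191932) (iv5 F368812) (iv6 D187006) (iv1 F137128)
theorem F384880 : act 2 n191932 = n100265 := d3_1 F384878 (iv6 F156798) F156794
def n191933 : Q := act 7 n99331
theorem D191933 : act 7 n99331 = n191933 := rfl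
theorem F384881 : act 2 n191933 = n100267 := d4_1 D191933 (iv7 D100267) (iv2 F152962)
theorem F384882 : act 6 n191933 = n100247 := d14_1 D191933 (iv7 D100247) (iv6 D46779) (iv7 F73320) D99331
theorem F384883 : act 1 n100267 = n191931 := d15_0 (iv0 D191931) D191933 F384881
theorem F384884 : act 1 n100265 = n191933 := d15_1 D100265 (iv7 D191933) F152962
theorem F384885 : act 7 n191931 = n100265 := d15_2 F384877 F384883 (iv2 F384880)
theorem F384886 : act 2 n191931 = n100264 := d15_3 (iv0 D100264) D100265 (iv7 F384885)
theorem F384887 : act 7 n100264 = n191932 := d4_2 (iv7 F384885) F384886 F384880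
theorem F384888 : act 1 n191933 = n100264 := d15_1 F384884 F384887 F384880
def n191934 : Q := act 4 n99350
theorem D191934 : act 4 n99350 = n191934 := rfl
theorem F384889 : act 2 n191934 = n115791 := d1_1 D191934 F345090 F154197
theorem F384890 : act 7 n191934 = n115792 := d11_2 (iv7 F154196) D191934 F345080
theorem F384891 : act 5 n191934 = n108540 := d16_1 D191934 (iv4 F167835) F167836 (iv4 F329240) (iv5 D99978) F73798 D99354 (iv7 F154194) F154197
theorem F384892 : act 0 n191934 = n115794 := d17_0 F180168 (iv1 F164697) (iv5 F221908) (iv4 F345078) (iv5 F345079) (iv0 F345087) D188076 F372256 D191934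
theorem F384893 : act 1 n191934 = n106869 := d18_6 (iv1 D82007) F58455 D46692 (iv4 F73804) D99350 D191934 (iv4 F373194) F373196 F355605
theorem F384894 : act 6 n191934 = n111632 := d21_5 F39268 D50395 D109211 F351227 (iv1 F384893) F343745 (iv1 F170322) (iv5 F170521) F362245 (iv1 D51522)
def n191935 : Q := act 6 n99350
theorem D191935 : act 6 n99350 = n191935 := rfl
theorem F384895 : act 2 n191935 = n116262 := d3_1 D191935 F365334 F154197
theorem F384896 : act 3 n191935 = n183978 := d7_1 D191935 (iv6 D183978) (iv3 F153003)
theorem F384897 : act 4 n191935 = n111632 := d10_1 D191935 (iv6 F384894) (iv4 D191934)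
theorem F384898 : act 5 n191935 = n189072 := d12_1 D191935 (iv6 D189072) F295154 (iv6 F294615) D99350
theorem F384899 : act 0 n191935 = n112498 := d21_4 (iv5 D46460) D46458 D99350 D191935 F343163 (iv5 F329463) F171520 (iv5 F216351) F350361 (iv1 F329823)
theorem F384900 : act 0 n110884 = n191935 := d21_4 F39266 (iv1 F39013) D51132 D110884 (iv6 D191935) (iv5 D99350) F329544 (iv5 D65480) (iv6 D30696) F39267
theorem F384901 : act 7 n191935 = n116263 := d15_2 F223798 (iv0 F384899) (iv2 F363317)
def n191936 : Q := act 5 n99353
theorem D191936 : act 5 n99353 = n191936 := rfl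
theorem F384902 : act 2 n191936 = n183982 := d2_1 D191936 (iv5 D183982) (iv2 F153008)
theorem F384903 : act 3 n191936 = n99354 := d6_1 D191936 (iv5 D99354) D99353
def n191937 : Q := act 4 n99354
theorem D191937 : act 4 n99354 = n191937 := rfl
theorem F384904 : act 2 n191937 = n115792 := d1_1 D191937 F345080 F154195
theorem F384905 : act 5 n191937 = n108541 := d9_2 D99354 D191937 (iv4 F168677) (iv5 F171635) F171638 F329238 (iv4 F73804) D99350 D191934 F384891 (iv4 F167835) F167836 (iv4 F329240) (iv5 D99978) F73798
theorem F384906 : act 7 n191937 = n115791 := d11_2 F154194 D191937 F345090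
theorem F384907 : act 0 n191937 = n106869 := d17_0 (iv5 D106869) (iv1 F103461) (iv5 F221912) (iv4 F345076) (iv5 D98429) (iv0 F336646) D187106 F369110 D191937
theorem F384908 : act 1 n191937 = n115794 := d18_6 (iv1 F126431) F66991 (iv1 F73797) F73798 D99354 D191937 F345164 F352767 (iv5 D171101)
theorem F384909 : act 6 n123890 = n191937 := d21_5 (iv5 F304352) (iv1 F304860) (iv5 D57775) (iv6 F90894) D123890 F384905 (iv1 D108541) (iv5 F349179) F349180 (iv1 F302063)
theorem F384910 : act 7 n140709 = n123890 := d14_0 F384909 F384906 F345426 F172858 D140709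
theorem F384911 : act 3 n123890 = n140712 := d8_1 F384910 (iv7 D140712) (iv3 F223800)
def n191938 : Q := act 6 n99354
theorem D191938 : act 6 n99354 = n191938 := rfl
theorem F384912 : act 4 n191938 = n123890 := d10_1 D191938 F384909 (iv4 D191937)
theorem F384913 : act 0 n122701 = n191938 := d21_4 (iv5 D27618) F91147 D57355 (iv6 F196560) (iv6 D191938) (iv5 D99354) (iv1 D46459) D46460 F73358 (iv1 F299242)
def n191939 : Q := act 3 n99358
theorem D191939 : act 3 n99358 = n191939 := rfl
theorem F384914 : act 4 n191939 = n99386 := d5_2 D99358 D191939 (iv3 D99386) (iv4 D46472) (iv3 F73357)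
theorem F384915 : act 5 n191939 = n108464 := d6_2 (iv5 F345062) D191939 F167699
theorem F384916 : act 6 n191939 = n171152 := d7_2 (iv6 F153012) D191939 (iv3 D171152)
theorem F384917 : act 7 n191939 = n187983 := d8_2 F345067 D191939 F372023
theorem F384918 : act 2 n191939 = n187984 := d15_3 (iv0 F372031) (iv0 F372028) (iv7 F384917)
theorem F384919 : act 4 n154589 = n185290 := d16_4 (iv4 F384914) F384915 (iv4 F218621) F338918 (iv5 F358625) (iv4 F372014) F372005 F345117 F345111
def n191940 : Q := act 0 n99361
theorem D191940 : act 0 n99361 = n191940 := rfl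
theorem F384920 : act 3 n191940 = n159133 := d20_5 (iv4 F29498) D38299 (iv4 F195692) D99361 D191940 F359392 (iv1 F352966) (iv4 D101135) (iv3 D47108) (iv1 D22656)
theorem F384921 : act 2 n100488 = n191940 := d15_3 (iv0 D191940) (iv0 F366447) (iv7 F363116)
theorem F384922 : act 1 n100489 = n191940 := d15_0 (iv0 D191940) F272813 D100489
theorem F384923 : act 7 n191940 = n99911 := d15_2 (iv0 F364882) F384922 F153841
theorem F384924 : act 6 n100087 = n191940 := d14_5 F384923 (iv6 D99911) F73757 D98299 (iv7 F351960)
def n191941 : Q := act 2 n99361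
theorem D191941 : act 2 n99361 = n191941 := rfl
theorem F384925 : act 3 n191941 = n100468 := d0_2 D99361 D191941 (iv2 D100468) (iv3 D46881) (iv2 F272809)
theorem F384926 : act 4 n191941 = n118557 := d1_2 F286403 D191941 F332312
theorem F384927 : act 7 n191941 = n100489 := d4_2 (iv7 F272813) D191941 (iv2 D100489)
theorem F384928 : act 1 n191941 = n99911 := d15_0 F363115 (iv7 F272813) D191941
theorem F384929 : act 1 n100488 = n191941 := d15_0 F384928 (iv7 F384923) (iv2 F384921)
def n191942 : Q := act 5 n99361
theorem D191942 : act 5 n99361 = n191942 := rfl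
theorem F384930 : act 3 n191942 = n99363 := d6_1 D191942 (iv5 D99363) D99361
theorem F384931 : act 7 n191942 = n100491 := d13_2 (iv7 F272813) D191942 (iv5 D100491)
def n191943 : Q := act 6 n99361
theorem D191943 : act 6 n99361 = n191943 := rfl
theorem F384932 : act 3 n191943 = n99364 := d7_1 D191943 (iv6 D99364) D99361
theorem F384933 : act 4 n191943 = n107662 := d10_1 D191943 F340655 F286403
theorem F384934 : act 5 n191943 = n186696 := d16_7 F383796 (iv5 D129440) F95391 F46495 (iv4 F78605) D107662 (iv4 F384933) F367713 D191556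
theorem F384935 : act 7 n191557 = n191943 := d13_0 F384934 F367713 D191557
def n191944 : Q := act 0 n99363
theorem D191944 : act 0 n99363 = n191944 := rfl
theorem F384936 : act 5 n191944 = n124067 := d17_3 D46462 D99363 D191944 F310386 D173578 (iv0 F332200) F332203 (iv0 D80167) F57350
theorem F384937 : act 2 n100478 = n191944 := d15_3 (iv0 D191944) F342028 (iv7 F312632)
theorem F384938 : act 1 n99368 = n191944 := d15_0 (iv0 D191944) F272817 (iv2 F272806)
theorem F384939 : act 7 n191944 = n100479 := d15_2 F363206 F384938 F310429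
theorem F384940 : act 3 n191749 = n191944 := d8_3 F384939 F310430 D191749
def n191945 : Q := act 4 n99363
theorem D191945 : act 4 n99363 = n191945 := rfl
theorem F384941 : act 2 n191945 = n100480 := d1_1 D191945 (iv4 D100480) (iv2 F272816)
theorem F384942 : act 7 n191945 = n100496 := d11_2 (iv7 F272817) D191945 (iv4 D100496)
theorem F384943 : act 5 n191945 = n108470 := d16_1 D191945 F357644 F333021 (iv4 D174050) (iv5 D83211) (iv4 F195696) D99368 F272807 (iv2 F272816)
theorem F384944 : act 0 n191945 = n138448 := d17_0 (iv5 D138448) D138445 F357940 (iv4 D100504) (iv5 F272728) F310438 (iv5 F384936) (iv0 D191944) D191945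
def n191946 : Q := act 6 n99363
theorem D191946 : act 6 n99363 = n191946 := rfl
theorem F384945 : act 2 n191946 = n100481 := d3_1 D191946 (iv6 D100481) (iv2 F272816)
theorem F384946 : act 5 n191946 = n186697 := d12_1 D191946 (iv6 D186697) (iv5 F153017) (iv6 D99364) D99363
theorem F384947 : act 0 n141137 = n191946 := d21_4 F350414 (iv1 D66198) D66200 D141137 (iv6 D191946) (iv5 D99363) (iv1 F73369) (iv5 F74096) D100516 F350415
def n191947 : Q := act 4 n99368
theorem D191947 : act 4 n99368 = n191947 := rfl
theorem F384948 : act 2 n191947 = n100496 := d1_1 D191947 (iv4 D100496) (iv2 F272806)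
theorem F384949 : act 7 n191947 = n100480 := d11_2 (iv7 F272807) D191947 (iv4 D100480)
theorem F384950 : act 5 n191947 = n108475 := d16_7 F357644 F333021 (iv4 D174050) (iv5 D83211) (iv4 F195696) D99368 D191947 (iv7 D108475) D108470
theorem F384951 : act 1 n191947 = n138448 := d18_6 (iv1 F73498) (iv4 F127685) (iv1 F127688) (iv4 F195696) D99368 D191947 (iv4 F357946) (iv0 D101124) (iv5 D47105)
def n191948 : Q := act 5 n99369
theorem D191948 : act 5 n99369 = n191948 := rfl
theorem F384952 : act 2 n191948 = n100500 := d2_1 D191948 (iv5 D100500) (iv2 F272803)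
theorem F384953 : act 7 n191948 = n191515 := d13_2 F333413 D191948 F383635
theorem F384954 : act 0 n191948 = n124371 := d17_2 (iv1 F272802) D191948 (iv5 D124371) F309519 D83882 F275103 (iv5 F304813) (iv0 F239804) (iv4 F303335)
theorem F384955 : act 1 n191948 = n175696 := d17_6 (iv1 F156779) D47300 D101759 F156788 F195697 D191948 (iv5 D175696) (iv0 F275097) F64069
theorem F384956 : act 4 n191948 = n101774 := d18_5 (iv1 D89304) (iv4 F137002) (iv1 F156789) F195697 D191948 (iv0 D101774) (iv4 D47305) D47304 (iv5 F155836)
def n191949 : Q := act 6 n99370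
theorem D191949 : act 6 n99370 = n191949 := rfl
theorem F384957 : act 2 n191949 = n100506 := d3_1 D191949 (iv6 D100506) (iv2 F272729)
theorem F384958 : act 5 n191949 = n187157 := d12_1 D191949 (iv6 F384536) F384533 (iv6 F310428) F310427
def n191950 : Q := act 0 n99371
theorem D191950 : act 0 n99371 = n191950 := rfl
theorem F384959 : act 4 n191950 = n99502 := d18_1 D191950 (iv1 F153264) (iv4 F155850) F337621 F167703 (iv0 D107014) D107017 (iv0 F316129) F333015
theorem F384960 : act 2 n100511 = n191950 := d1_3 F384959 F156424 (iv4 F274947)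
theorem F384961 : act 7 n100512 = n191950 := d11_0 F384959 F156425 F155366
theorem F384962 : act 1 n100515 = n191950 := d18_6 D46512 (iv4 F155405) (iv1 F123112) F59353 (iv5 F74096) (iv4 F154564) F384959 (iv0 D99502) (iv5 D46514)
def n191951 : Q := act 1 n99371
theorem D191951 : act 1 n99371 = n191951 := rfl
theorem F384963 : act 1 n191951 = n100515 := d15_1 D191951 (iv7 D100515) (iv2 F153019)
theorem F384964 : act 7 n191951 = n100511 := d15_2 (iv0 D191950) D191951 F384960
theorem F384965 : act 4 n191951 = n99503 := d18_7 (iv1 F73491) F155408 (iv1 D80168) F57350 D46464 D99371 D191951 F153258 F74352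
theorem F384966 : act 6 n108687 = n191951 := d21_3 (iv5 F378260) (iv1 D140349) (iv5 F168619) (iv1 D191951) F153020 (iv5 F291891) (iv1 F138948) (iv5 F139064) D187578 (iv1 F370872)
theorem F384967 : act 3 n191951 = n108688 := d7_1 F384966 (iv6 D108688) D108687
theorem F384968 : act 2 n100512 = n191951 := d1_3 F384965 F156421 F155366
def n191952 : Q := act 7 n99371
theorem D191952 : act 7 n99371 = n191952 := rfl
theorem F384969 : act 2 n191952 = n100515 := d4_1 D191952 (iv7 D100515) (iv2 F153019)
theorem F384970 : act 3 n191952 = n138475 := d8_1 D191952 (iv7 F316135) (iv3 F333013)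
theorem F384971 : act 4 n191952 = n99372 := d11_1 D191952 (iv7 D99372) D99371
theorem F384972 : act 5 n191952 = n138749 := d13_1 D191952 (iv7 F316131) F333015
theorem F384973 : act 1 n100512 = n191952 := d15_1 D100512 (iv7 D191952) F153019
theorem F384974 : act 1 n191952 = n100511 := d15_1 F384973 (iv7 F384964) (iv2 F384968)
def n191953 : Q := act 5 n99373
theorem D191953 : act 5 n99373 = n191953 := rfl
theorem F384975 : act 2 n191953 = n100544 := d2_1 D191953 (iv5 D100544) F153033
theorem F384976 : act 7 n191953 = n99914 := d13_2 (iv7 F177390) D191953 (iv5 D99914)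
theorem F384977 : act 0 n191953 = n100574 := d17_2 D99373 D191953 F154644 F345033 F345134 F345126 F239757 (iv0 D92620) (iv4 F73372)
theorem F384978 : act 1 n191953 = n99381 := d17_8 F154353 (iv5 F349150) D187132 F369198 F340055 (iv5 D100546) F153027 D191953 F345130
def n191954 : Q := act 5 n99375
theorem D191954 : act 5 n99375 = n191954 := rfl
theorem F384979 : act 2 n191954 = n99376 := d2_1 D191954 (iv5 D99376) D99375
theorem F384980 : act 3 n191954 = n100517 := d6_1 D191954 (iv5 D100517) (iv3 F153034)
theorem F384981 : act 4 n191954 = n188666 := d9_1 D191954 F374350 (iv4 F159398) F340061 (iv4 D93015) (iv5 D43520) (iv4 F62993) D46908 (iv4 F340056) (iv5 F145583) F292094 F340060 D188406 F373338 (iv4 F153035)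
theorem F384982 : act 7 n191954 = n100546 := d13_2 (iv7 F153036) D191954 (iv5 D100546)
theorem F384983 : act 1 n191954 = n100548 := d17_6 D187132 F369198 F373341 F373338 (iv4 F153035) D191954 (iv5 F372242) (iv0 D188073) F139707
theorem F384984 : act 0 n191954 = n100549 := d18_0 (iv4 F364372) F373340 (iv4 D184508) (iv5 D87991) D87990 (iv0 F154612) (iv4 D100543) F153038 D191954
def n191955 : Q := act 6 n99379
theorem D191955 : act 6 n99379 = n191955 := rfl
theorem F384985 : act 2 n191955 = n100556 := d3_1 D191955 (iv6 D100556) (iv2 F153045)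
theorem F384986 : act 3 n191955 = n111049 := d7_1 D191955 F339965 (iv3 F327163)
theorem F384987 : act 4 n191955 = n99380 := d10_1 D191955 (iv6 D99380) D99379
def n191956 : Q := act 0 n99380
theorem D191956 : act 0 n99380 = n191956 := rfl
def n191957 : Q := act 1 n99380
theorem D191957 : act 1 n99380 = n191957 := rfl
theorem F384988 : act 1 n191957 = n100559 := d15_1 D191957 (iv7 D100559) (iv2 F153047)
theorem F384989 : act 6 n100479 = n191957 := d21_3 (iv5 F310427) (iv1 F198464) (iv5 F310431) (iv1 D191957) (iv6 D99380) (iv5 D46469) (iv1 D22264) D22265 (iv6 F73365) D99370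
theorem F384990 : act 5 n160075 = n191957 := d21_6 (iv5 D41499) F35815 D21982 (iv6 F72580) (iv1 F304502) D160075 (iv1 D191957) (iv5 F157501) (iv6 D102537) F74792
theorem F384991 : act 2 n191957 = n100558 := d2_1 F384990 F366787 F255566
theorem F384992 : act 3 n191957 = n160077 := d6_1 F384990 (iv5 D160077) (iv3 F252623)
def n191958 : Q := act 7 n99380
theorem D191958 : act 7 n99380 = n191958 := rfl
theorem F384993 : act 2 n191958 = n100559 := d4_1 D191958 (iv7 D100559) (iv2 F153047)
theorem F384994 : act 6 n191958 = n100538 := d14_1 D191958 (iv7 D100538) (iv6 D46903) (iv7 F73379) D99380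
theorem F384995 : act 1 n100559 = n191956 := d15_0 (iv0 D191956) D191958 F384993
theorem F384996 : act 1 n100558 = n191958 := d15_1 D100558 (iv7 D191958) F153047
theorem F384997 : act 0 n100510 = n191878 := d21_10 (iv5 D191878) (iv1 F367574) F367570 (iv6 F384994) (iv1 F384996) (iv6 F366785) (iv5 D161574) (iv1 F310434) F136527 D100510
theorem F384998 : act 7 n191956 = n100558 := d15_2 F384988 F384995 (iv2 F384991)
theorem F384999 : act 2 n191956 = n100557 := d15_3 (iv0 D100557) D100558 (iv7 F384998)
theorem F385000 : act 7 n100557 = n191957 := d4_2 (iv7 F384998) F384999 F384991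
theorem F385001 : act 1 n191958 = n100557 := d15_1 F384996 F385000 F384991
def n191959 : Q := act 0 n99382
theorem D191959 : act 0 n99382 = n191959 := rfl
theorem F385002 : act 1 n100571 = n191959 := d15_0 (iv0 D191959) (iv7 F361017) (iv2 F361018)
def n191960 : Q := act 1 n99382
theorem D191960 : act 1 n99382 = n191960 := rfl
theorem F385003 : act 1 n191960 = n100571 := d15_1 D191960 (iv7 D100571) (iv2 F153050)
theorem F385004 : act 4 n153783 = n191960 := d20_0 (iv1 D191960) (iv4 F155864) (iv3 F361016) (iv1 D114483) (iv3 F331534) F331535 D114529 F351121 (iv3 F281424) (iv1 F353013)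
theorem F385005 : act 7 n191960 = n100568 := d11_2 (iv7 F241640) F385004 F349174
theorem F385006 : act 2 n100568 = n191959 := d15_3 (iv0 D191959) D191960 F385005
theorem F385007 : act 2 n191960 = n100569 := d15_3 F361020 F361024 (iv7 F385005)
theorem F385008 : act 7 n100569 = n191959 := d4_2 (iv7 F385005) F385007 (iv2 F385006)
def n191961 : Q := act 6 n99383
theorem D191961 : act 6 n99383 = n191961 := rfl
theorem F385009 : act 3 n191961 = n99384 := d7_1 D191961 (iv6 D99384) D99383
theorem F385010 : act 4 n191961 = n114517 := d10_1 D191961 (iv6 D114517) (iv4 F330003)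
theorem F385011 : act 5 n191961 = n186701 := d12_1 D191961 (iv6 D186701) (iv5 D89057) D89058 (iv5 F153051)
def n191962 : Q := act 1 n99384
theorem D191962 : act 1 n99384 = n191962 := rfl
theorem F385012 : act 1 n191962 = n100582 := d15_1 D191962 (iv7 D100582) (iv2 F153054)
theorem F385013 : act 7 n191962 = n100580 := d15_2 F354720 D191962 (iv2 F354686)
theorem F385014 : act 4 n191962 = n157924 := d17_9 (iv1 F256341) (iv5 D86196) D86193 (iv5 F280784) F350352 (iv5 F367734) (iv0 D186704) (iv5 F153055) D191962
theorem F385015 : act 3 n188191 = n191962 := d19_19 (iv1 D191962) F153055 (iv4 F367731) F381094 (iv1 D190794) (iv5 D96679) (iv4 F148940) (iv3 D96652) F71120 F293098 (iv4 D45472) D45471 (iv1 F335370) (iv5 D97313) D97312 F150051 F152161 D191707 F384221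
theorem F385016 : act 5 n191568 = n191962 := d21_0 (iv1 D191962) F153055 (iv6 D89060) (iv1 F73678) (iv6 F153751) (iv5 D99858) D99856 (iv5 F383836) (iv6 F383839) (iv1 F383851)
theorem F385017 : act 2 n191962 = n100581 := d2_1 F385016 F354681 F383854
def n191963 : Q := act 7 n99384
theorem D191963 : act 7 n99384 = n191963 := rfl
theorem F385018 : act 2 n191963 = n100582 := d4_1 D191963 (iv7 D100582) (iv2 F153054)
theorem F385019 : act 5 n191963 = n186706 := d13_1 D191963 (iv7 D186706) (iv5 F153055)
theorem F385020 : act 6 n191963 = n100571 := d14_1 D191963 (iv7 D100571) (iv6 D46915) F73395 D99384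
theorem F385021 : act 1 n100581 = n191963 := d15_1 D100581 (iv7 D191963) F153054
theorem F385022 : act 1 n191963 = n100580 := d15_1 F385021 (iv7 F385013) F385017
def n191964 : Q := act 5 n99413
theorem D191964 : act 5 n99413 = n191964 := rfl
theorem F385023 : act 2 n191964 = n184447 := d2_1 D191964 (iv5 D184447) (iv2 F153120)
theorem F385024 : act 3 n191964 = n99416 := d6_1 D191964 (iv5 D99416) (iv3 F153121)
def n191965 : Q := act 4 n99424
theorem D191965 : act 4 n99424 = n191965 := rfl
theorem F385025 : act 2 n191965 = n99435 := d1_1 D191965 (iv4 D99435) (iv2 F153149)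
theorem F385026 : act 3 n191965 = n103620 := d5_1 D191965 F158983 (iv3 F329988) (iv4 D100789) (iv3 F153150)
theorem F385027 : act 6 n191965 = n149019 := d10_2 (iv6 F153151) D191965 (iv4 D149019)
theorem F385028 : act 7 n191965 = n103837 := d11_2 F375604 D191965 (iv4 F375602)
theorem F385029 : act 0 n191965 = n107094 := d18_2 (iv1 F357577) D191965 F165068 (iv5 F335546) F375573 F375571 (iv4 F362781) F357619 F357582
theorem F385030 : act 5 n188415 = n191965 := d13_3 F385028 (iv5 F373211) (iv7 F373393)
def n191966 : Q := act 4 n99431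
theorem D191966 : act 4 n99431 = n191966 := rfl
def n191967 : Q := act 6 n99431
theorem D191967 : act 6 n99431 = n191967 := rfl
def n191968 : Q := act 4 n99433
theorem D191968 : act 4 n99433 = n191968 := rfl
theorem F385031 : act 3 n191968 = n107456 := d5_1 D191968 (iv4 F322626) F94425 D71079 (iv3 F349209)
theorem F385032 : act 7 n191968 = n127983 := d11_2 (iv7 F349210) D191968 (iv4 F323743)
theorem F385033 : act 1 n191968 = n101059 := d18_6 (iv1 D103333) F293855 F338298 (iv4 F344245) (iv5 F344241) D191968 (iv4 D101059) D101058 (iv5 F343899)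
def n191969 : Q := act 4 n99434
theorem D191969 : act 4 n99434 = n191969 := rfl
theorem F385034 : act 2 n191969 = n127983 := d1_1 D191969 (iv4 F323743) (iv2 F349311)
theorem F385035 : act 0 n191969 = n101059 := d18_2 (iv1 F375607) D191969 (iv4 D101059) (iv5 D47080) F35207 D22648 (iv4 F153158) F153156 (iv5 F375603)
def n191970 : Q := act 6 n99434
theorem D191970 : act 6 n99434 = n191970 := rfl
def n191971 : Q := act 0 n99435
theorem D191971 : act 0 n99435 = n191971 := rfl
theorem F385036 : act 5 n191971 = n184111 := d17_1 D191971 (iv1 D184111) (iv5 F294318) (iv4 F375562) (iv5 D189043) F357622 (iv5 F344241) (iv0 D99433) D99435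
theorem F385037 : act 4 n191971 = n139563 := d18_3 (iv1 D99434) D99435 D191971 (iv5 F364422) (iv4 F343895) (iv0 D103924) F293940 D89411 F349310
theorem F385038 : act 2 n107094 = n191971 := d15_3 (iv0 D191971) (iv0 F359363) F165779
theorem F385039 : act 1 n103837 = n191971 := d15_0 (iv0 D191971) F357573 (iv2 F363579)
def n191972 : Q := act 5 n99435
theorem D191972 : act 5 n99435 = n191972 := rfl
theorem F385040 : act 2 n191972 = n188415 := d2_1 D191972 F385030 F385025
theorem F385041 : act 4 n191972 = n159360 := d9_1 D191972 F250888 F206683 F335364 (iv4 F153154) (iv5 F375603) F375602 (iv5 F373211) F375606 (iv5 D184000) (iv4 D87772) (iv5 D40897) (iv4 F34771) D46490 D99435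
def n191973 : Q := act 4 n99440
theorem D191973 : act 4 n99440 = n191973 := rfl
theorem F385042 : act 2 n191973 = n100930 := d1_1 D191973 (iv4 D100930) (iv2 F156869)
theorem F385043 : act 7 n191973 = n100946 := d11_2 (iv7 F156870) D191973 (iv4 D100946)
def n191974 : Q := act 6 n99440
theorem D191974 : act 6 n99440 = n191974 := rfl
theorem F385044 : act 2 n191974 = n100931 := d3_1 D191974 (iv6 D100931) (iv2 F156869)
theorem F385045 : act 3 n191974 = n184665 := d7_1 D191974 (iv6 D184665) (iv3 F155503)
theorem F385046 : act 5 n191974 = n186789 := d12_1 D191974 (iv6 D186789) (iv5 F153173) (iv6 D99441) D99440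
theorem F385047 : act 0 n191974 = n188703 := d21_10 (iv5 D188703) (iv1 D92673) (iv5 F142790) (iv6 D92655) (iv1 F292936) (iv6 F73446) (iv5 D46494) D46492 D99440 D191974
theorem F385048 : act 1 n191974 = n188699 := d15_1 (iv0 F385047) F380063 (iv2 F380070)
theorem F385049 : act 7 n189142 = n191974 := d15_2 (iv0 F366980) D189142 F385044
def n191975 : Q := act 5 n99443
theorem D191975 : act 5 n99443 = n191975 := rfl
theorem F385050 : act 2 n191975 = n184670 := d2_1 D191975 (iv5 D184670) F155506
theorem F385051 : act 3 n191975 = n99445 := d6_1 D191975 (iv5 D99445) D99443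
theorem F385052 : act 7 n191975 = n100920 := d13_2 (iv7 F156858) D191975 (iv5 D100920)
def n191976 : Q := act 4 n99445
theorem D191976 : act 4 n99445 = n191976 := rfl
theorem F385053 : act 2 n191976 = n100946 := d1_1 D191976 (iv4 D100946) (iv2 F156861)
theorem F385054 : act 7 n191976 = n100930 := d11_2 (iv7 F156862) D191976 (iv4 D100930)
def n191977 : Q := act 6 n99445
theorem D191977 : act 6 n99445 = n191977 := rfl
theorem F385055 : act 2 n191977 = n100947 := d3_1 D191977 (iv6 D100947) (iv2 F156861)
theorem F385056 : act 5 n191977 = n185373 := d12_1 D191977 (iv6 F364812) F156850 (iv6 D99446) D99445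
theorem F385057 : act 0 n100242 = n191977 := d21_4 F68451 (iv1 F68043) (iv5 F292895) D100242 (iv6 D191977) (iv5 D99445) (iv1 D46493) D46494 F73446 F292935
theorem F385058 : act 1 n189049 = n191977 := d17_6 D102300 F356204 (iv1 F368448) F368446 (iv4 F382936) F382937 F385056 (iv0 F287609) (iv4 D102302)
theorem F385059 : act 7 n189048 = n191977 := d15_2 (iv0 F293434) D189048 F385055
def n191978 : Q := act 6 n99447
theorem D191978 : act 6 n99447 = n191978 := rfl
theorem F385060 : act 2 n191978 = n100955 := d3_1 D191978 (iv6 D100955) (iv2 F156760)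
theorem F385061 : act 3 n191978 = n123657 := d7_1 D191978 F198066 (iv3 F306450)
theorem F385062 : act 5 n191978 = n123649 := d12_1 D191978 (iv6 D123649) (iv5 D57641) (iv6 F308330) F153183
theorem F385063 : act 7 n186956 = n191978 := d13_0 F385062 F352512 D186956
theorem F385064 : act 4 n108430 = n191978 := d18_3 (iv1 F172468) F172466 (iv1 F167795) F385062 (iv4 F381711) F381713 F369169 F367401 (iv5 F380326)
theorem F385065 : act 6 n140371 = n108430 := d10_0 F385064 (iv6 D191978) F331767
theorem F385066 : act 7 n108525 = n108430 := d11_0 F385064 (iv7 F385063) F368659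
theorem F385067 : act 2 n108430 = n108524 := d15_3 (iv0 D108524) D108525 F385066
theorem F385068 : act 2 n108525 = n108429 := d15_3 (iv0 D108429) D108430 (iv7 F385066)
theorem F385069 : act 7 n108429 = n108524 := d4_2 (iv7 F385066) F385068 (iv2 F385067)
theorem F385070 : act 4 n108524 = n100955 := d1_2 (iv4 F385064) F385067 (iv2 F385060)
theorem F385071 : act 6 n108524 = n100133 := d3_2 F385065 F385067 F343486
theorem F385072 : act 0 n179012 = n151578 := d20_4 (iv4 F312354) (iv1 F92236) D85405 D179012 F366824 (iv4 F385070) (iv1 F167790) (iv4 F172340) F172339 (iv1 F111677)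
def n191979 : Q := act 3 n99448
theorem D191979 : act 3 n99448 = n191979 := rfl
theorem F385073 : act 2 n191979 = n154271 := d0_1 D191979 F242381 (iv2 F306426) (iv3 D100957) (iv2 F156764)
theorem F385074 : act 5 n191979 = n101496 := d6_2 F153176 D191979 F156308
theorem F385075 : act 7 n191979 = n100953 := d8_2 (iv7 F156765) D191979 (iv3 D100953)
theorem F385076 : act 0 n154268 = n191979 := d20_4 F320763 (iv1 F321948) (iv4 F223161) (iv3 F365842) (iv3 D191979) (iv4 F343490) (iv1 F343493) (iv4 D99314) (iv3 F152879) F327591
theorem F385077 : act 1 n99525 = n191979 := d15_0 (iv0 F385076) (iv7 F382826) F382823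
theorem F385078 : act 4 n179166 = n191979 := d11_3 F385075 F366826 (iv7 F342360)
def n191980 : Q := act 6 n99448
theorem D191980 : act 6 n99448 = n191980 := rfl
theorem F385079 : act 2 n191980 = n100958 := d3_1 D191980 (iv6 D100958) (iv2 F156764)
theorem F385080 : act 5 n191980 = n101507 := d12_1 D191980 (iv6 D101507) (iv5 D47225) D47226 F153176
def n191981 : Q := act 3 n99449
theorem D191981 : act 3 n99449 = n191981 := rfl
theorem F385081 : act 2 n191981 = n140664 := d0_1 D191981 F362760 (iv2 F331779) (iv3 D100961) (iv2 F153177)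
theorem F385082 : act 6 n191981 = n99454 := d7_2 (iv6 F153178) D191981 (iv3 D99454)
theorem F385083 : act 0 n191981 = n108968 := d20_4 F343490 (iv1 D99448) D99449 D191981 (iv3 D108968) (iv4 D50314) F38527 (iv4 F49263) (iv3 F101549) D140370
theorem F385084 : act 7 n140435 = n191981 := d14_0 F385082 (iv7 F374977) (iv6 F374979) F228318 D140435
theorem E103492 : n140665 = n140435 := (c15_2 (iv0 D140664) D140665 F385084 F385081)
theorem F385085 : act 0 n140435 = n65998 := (sb E103492 (iv1 D140665))
def n191982 : Q := act 5 n99449
theorem D191982 : act 5 n99449 = n191982 := rfl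
theorem F385086 : act 2 n191982 = n100962 := d2_1 D191982 (iv5 D100962) (iv2 F153177)
def n191983 : Q := act 7 n99449
theorem D191983 : act 7 n99449 = n191983 := rfl
theorem F385087 : act 2 n191983 = n100963 := d4_1 D191983 (iv7 D100963) (iv2 F153177)
theorem F385088 : act 3 n191983 = n140435 := d8_1 D191983 F385084 (iv3 D191981)
theorem F385089 : act 4 n191983 = n99450 := d11_1 D191983 (iv7 D99450) D99449
theorem F385090 : act 6 n191983 = n140433 := d14_1 D191983 F375062 (iv6 D188853) F293131 (iv6 F153178)
theorem F385091 : act 1 n100960 = n191983 := d15_1 D100960 (iv7 D191983) F153177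
theorem F385092 : act 1 n191983 = n100959 := d15_1 F385091 F268288 (iv2 F268285)
def n191984 : Q := act 1 n99454
theorem D191984 : act 1 n99454 = n191984 := rfl
theorem F385093 : act 1 n191984 = n140431 := d15_1 D191984 (iv7 F374995) F374993
theorem F385094 : act 5 n191984 = n114284 := d17_7 F138894 F68294 (iv1 F65491) D90585 D187804 (iv5 F371556) D191984 (iv0 F179160) (iv4 D115044)
theorem F385095 : act 2 n115795 = n191984 := d2_3 F385094 F375009 F375006
def n191985 : Q := act 5 n99464
theorem D191985 : act 5 n99464 = n191985 := rfl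
theorem F385096 : act 2 n191985 = n184598 := d2_1 D191985 (iv5 D184598) (iv2 F153219)
theorem F385097 : act 3 n191985 = n99468 := d6_1 D191985 (iv5 D99468) (iv3 F153220)
theorem F385098 : act 7 n191985 = n156182 := d13_2 F372759 D191985 (iv5 F372757)
theorem F385099 : act 4 n191985 = n139654 := d16_2 (iv4 F153221) D191985 F222818 (iv4 F175901) F175902 (iv4 F101545) (iv5 F329422) (iv7 F289641) F147950
theorem F385100 : act 0 n183778 = n191985 := d21_7 (iv5 F132433) (iv1 D86392) D86393 D180879 F289544 D186485 (iv5 F289351) (iv5 D191985) (iv6 D99464) F75089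
def n191986 : Q := act 5 n99465
theorem D191986 : act 5 n99465 = n191986 := rfl
theorem F385101 : act 2 n191986 = n100725 := d2_1 D191986 (iv5 D100725) (iv2 F153222)
theorem F385102 : act 3 n191986 = n103020 := d6_1 D191986 (iv5 D103020) (iv3 F153223)
def n191987 : Q := act 4 n99468
theorem D191987 : act 4 n99468 = n191987 := rfl
theorem F385103 : act 2 n191987 = n100743 := d1_1 D191987 (iv4 D100743) (iv2 F153226)
theorem F385104 : act 1 n191987 = n187099 := d18_6 (iv1 F147054) (iv4 F160529) (iv1 F289648) F153224 D99468 D191987 F369080 F378194 (iv5 D185309)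
def n191988 : Q := act 4 n99472
theorem D191988 : act 4 n99472 = n191988 := rfl
theorem F385105 : act 2 n191988 = n99490 := d1_1 D191988 (iv4 D99490) (iv2 F153234)
theorem F385106 : act 7 n191988 = n188228 := d11_2 F372432 D191988 (iv4 F372744)
theorem F385107 : act 0 n191988 = n188230 := d20_1 D191988 F372753 (iv3 D100448) F329567 F101168 (iv4 F81183) D111474 (iv4 F345057) (iv3 F372435) (iv1 F372437)
theorem F385108 : act 1 n191988 = n188215 := d15_1 (iv0 F385107) (iv7 F372702) (iv2 F372751)
def n191989 : Q := act 7 n99477
theorem D191989 : act 7 n99477 = n191989 := rfl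
theorem F385109 : act 2 n191989 = n123968 := d4_1 D191989 F366655 F236246
theorem F385110 : act 3 n191989 = n99505 := d8_1 D191989 (iv7 D99505) (iv3 F153245)
theorem F385111 : act 4 n191989 = n108519 := d11_1 D191989 (iv7 F167774) F333442
theorem F385112 : act 5 n191989 = n99478 := d13_1 D191989 (iv7 D99478) D99477
theorem F385113 : act 6 n191989 = n133983 := d14_1 D191989 (iv7 F357520) (iv6 F357626) F294243 (iv6 F153246)
theorem F385114 : act 1 n123136 = n191989 := d15_1 (iv0 F302088) (iv7 D191989) (iv2 F236246)
theorem F385115 : act 1 n191989 = n123962 := d15_1 F385114 F315062 (iv2 F366657)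
def n191990 : Q := act 5 n99480
theorem D191990 : act 5 n99480 = n191990 := rfl
theorem F385116 : act 3 n191990 = n100845 := d6_1 D191990 (iv5 D100845) (iv3 F153250)
theorem F385117 : act 1 n191990 = n151262 := d17_8 (iv1 D136525) D136526 (iv1 F346671) (iv5 D101887) (iv4 F156828) F372064 (iv0 F372063) D191990 (iv4 F352873)
theorem F385118 : act 6 n113071 = n191990 := d7_0 F385116 F368785 D113071
theorem F385119 : act 5 n113071 = n176866 := d21_6 (iv5 D109425) D109422 (iv5 F344514) F344499 (iv1 F385117) (iv6 F385118) (iv1 D176866) D176867 F276237 (iv1 F325900)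
theorem F385120 : act 3 n176866 = n113073 := d6_1 F385119 (iv5 D113073) D113071
theorem F385121 : act 0 n136515 = n113071 := d17_0 F385119 (iv1 D176866) D176867 (iv4 F352817) (iv5 F352825) (iv0 D136520) (iv5 D64179) D64177 D136515
theorem F385122 : act 1 n136510 = n113071 := d18_8 (iv1 D176866) F129384 D88718 (iv4 F352837) F215060 (iv4 F218562) F218564 D136510 F385119
theorem F385123 : act 0 n113072 = n138614 := d20_7 F316037 F314599 (iv4 F314602) (iv3 F219623) F385121 (iv3 D113071) D113072 (iv4 F246812) (iv3 D156840) (iv1 F316036)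
theorem E103493 : n189713 = n102912 := ((c20_2 (iv4 F352915) (iv1 F367208) (iv4 F379484) F385120 (iv1 F361680) F209106 F95707 F46650 D29672 D62732 D133649)).symm
theorem F385124 : act 2 n102912 = n94355 := (sb E103493 F377496)
theorem F385125 : act 3 n102912 = n189440 := (sb E103493 (iv3 F379475))
theorem F385126 : act 4 n102912 = n176866 := (sb E103493 (iv4 F379484))
theorem F385127 : act 7 n102912 = n94354 := (sb E103493 (iv7 D189713))
theorem E103494 : n189709 = n102911 := (c15_4 (iv0 D102911) D102912 F385127 D189709)
theorem F385128 : act 2 n102911 = n94354 := (sb E103494 (iv2 D189709))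
theorem F385129 : act 3 n102911 = n190346 := (sb E103494 F379473)
theorem F385130 : act 4 n102911 = n176865 := (sb E103494 (iv4 F379480))
theorem F385131 : act 7 n102911 = n94355 := (sb E103494 (iv7 F377492))
theorem E103495 : n189000 = n188864 := (c18_7 (iv1 F367208) F385126 (iv1 D176866) F129384 (iv5 F291270) (iv4 F143394) D189000 (iv4 D188864) F374279 F374276)
theorem F385132 : act 0 n188864 = n92978 := (sb E103495 (iv1 D189000))
def n191991 : Q := act 4 n99481
theorem D191991 : act 4 n99481 = n191991 := rfl
def n191992 : Q := act 6 n99481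
theorem D191992 : act 6 n99481 = n191992 := rfl
theorem F385133 : act 5 n191992 = n189084 := d12_1 D191992 (iv6 D189084) (iv5 F357537) F357538 D99481
def n191993 : Q := act 6 n99484
theorem D191993 : act 6 n99484 = n191993 := rfl
theorem F385134 : act 3 n191993 = n99487 := d7_1 D191993 (iv6 D99487) D99484
theorem F385135 : act 4 n191993 = n189868 := d10_1 D191993 F381192 F158518
theorem F385136 : act 5 n191993 = n148127 := d12_1 D191993 F231937 D148524 F353538 (iv5 F335344)
theorem F385137 : act 7 n191993 = n102000 := d14_2 F372420 D191993 (iv6 F370938) F370939 (iv6 F372419)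
theorem F385138 : act 0 n99636 = n191993 := d17_0 F385136 F356574 D148631 (iv4 F356581) D187230 (iv0 F369573) F137909 (iv0 F161649) F160318
def n191994 : Q := act 5 n99485
theorem D191994 : act 5 n99485 = n191994 := rfl
theorem F385139 : act 3 n191994 = n103026 := d6_1 D191994 (iv5 D103026) (iv3 F153252)
theorem F385140 : act 0 n191994 = n151262 := d18_0 (iv4 F352873) (iv1 D136525) (iv4 F165087) F352881 F147090 (iv0 F177379) (iv4 F159045) F177360 D191994
def n191995 : Q := act 6 n99485
theorem D191995 : act 6 n99485 = n191995 := rfl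
theorem F385141 : act 2 n191995 = n101996 := d3_1 D191995 (iv6 F372408) F372406
theorem F385142 : act 3 n191995 = n103027 := d7_1 D191995 (iv6 D103027) (iv3 F153252)
theorem F385143 : act 4 n191995 = n99487 := d10_1 D191995 (iv6 D99487) D99485
theorem F385144 : act 7 n191995 = n102001 := d14_2 F158915 D191995 (iv6 F370088) F370089 F357553
theorem F385145 : act 0 n159797 = n191995 := d21_4 F270244 (iv1 F126980) D84237 (iv6 F331191) (iv6 D191995) D191994 F385140 (iv5 F362617) (iv6 D176699) (iv1 F270246)
def n191996 : Q := act 4 n99486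
theorem D191996 : act 4 n99486 = n191996 := rfl
theorem F385146 : act 3 n191996 = n118858 := d5_1 D191996 (iv4 D118858) F86516 D71896 (iv3 F335340)
def n191997 : Q := act 6 n99486
theorem D191997 : act 6 n99486 = n191997 := rfl
theorem F385147 : act 3 n191997 = n148524 := d7_1 D191997 F353538 (iv3 F335340)
theorem F385148 : act 5 n191997 = n148522 := d12_1 D191997 (iv6 F362413) (iv5 F362403) (iv6 D99487) D99486
def n191998 : Q := act 4 n99488
theorem D191998 : act 4 n99488 = n191998 := rfl
def n191999 : Q := act 6 n99488
theorem D191999 : act 6 n99488 = n191999 := rfl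
def n192000 : Q := act 4 n99489
theorem D192000 : act 4 n99489 = n192000 := rfl
theorem F385149 : act 3 n192000 = n118770 := d5_1 D192000 F250988 (iv3 F250986) (iv4 F179179) F365230
theorem F385150 : act 6 n183119 = n192000 := d7_0 F385149 F375785 F370992
def n192001 : Q := act 6 n99489
theorem D192001 : act 6 n99489 = n192001 := rfl
theorem F385151 : act 4 n192001 = n183119 := d10_1 D192001 F385150 (iv4 D192000)
theorem F385152 : act 0 n188222 = n192001 := d18_2 F370948 D188222 F385151 F286016 (iv4 F370222) F370226 (iv4 D91090) F139093 D187593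
theorem F385153 : act 1 n188219 = n192001 := d18_6 D87407 D183117 (iv1 F364440) (iv4 D93198) (iv5 F356189) D188219 F385151 (iv0 D183119) (iv5 D87409)
def n192002 : Q := act 5 n99490
theorem D192002 : act 5 n99490 = n192002 := rfl
def n192003 : Q := act 4 n99493
theorem D192003 : act 4 n99493 = n192003 := rfl
theorem F385154 : act 2 n192003 = n184547 := d1_1 D192003 (iv4 D184547) F155415
theorem F385155 : act 3 n192003 = n153274 := d5_1 D192003 (iv4 F332189) F332188 F155405 D99493
theorem F385156 : act 7 n192003 = n101135 := d11_2 (iv7 F155801) D192003 (iv4 D101135)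
theorem F385157 : act 5 n192003 = n150377 := d16_1 D192003 (iv4 D150377) F236655 D86810 D181766 (iv4 F351900) (iv5 F351897) F342632 F155415
theorem F385158 : act 0 n192003 = n178409 := d17_0 (iv5 D178409) F232550 F312446 (iv4 F108149) D151987 (iv0 F238999) F309082 (iv0 F342627) D192003
theorem F385159 : act 1 n192003 = n170889 := d18_8 F133056 (iv4 D40238) (iv1 D18999) (iv4 F30283) D40146 D86599 (iv0 F342627) D192003 F342598
theorem F385160 : act 6 n192003 = n155688 := d21_5 D87666 (iv1 F153359) F153360 D170889 (iv1 F385159) (iv5 D155688) (iv1 F238097) (iv5 F340836) (iv6 D99603) (iv1 F73555)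
def n192004 : Q := act 5 n99493
theorem D192004 : act 5 n99493 = n192004 := rfl
theorem F385161 : act 2 n192004 = n184548 := d2_1 D192004 (iv5 D184548) F155415
theorem F385162 : act 3 n192004 = n99495 := d6_1 D192004 (iv5 D99495) D99493
theorem F385163 : act 4 n192004 = n181760 := d9_1 D192004 (iv5 D181760) (iv4 D86805) (iv5 F191370) D150376 F310091 (iv4 F342631) F351897 F351900 (iv5 D181766) (iv4 D86810) (iv5 F236655) D150377 (iv5 F385157) (iv4 D192003)
theorem F385164 : act 7 n192004 = n101136 := d13_2 (iv7 F155801) D192004 (iv5 D101136)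
theorem F385165 : act 0 n192004 = n136646 := d17_2 (iv1 F342633) D192004 (iv5 F316793) F316792 (iv5 F312167) F308067 F307959 F312994 F125418
theorem F385166 : act 1 n192004 = n136650 := d17_6 F305968 (iv5 F305969) F311604 (iv5 F385157) (iv4 D192003) D192004 F342018 F311848 F314459
def n192005 : Q := act 6 n99493
theorem D192005 : act 6 n99493 = n192005 := rfl
theorem F385167 : act 2 n192005 = n184549 := d3_1 D192005 (iv6 D184549) F155415
theorem F385168 : act 3 n192005 = n99496 := d7_1 D192005 (iv6 D99496) D99493
theorem F385169 : act 4 n192005 = n155688 := d10_1 D192005 (iv6 F385160) (iv4 D192003)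
theorem F385170 : act 5 n192005 = n186806 := d21_6 (iv5 D19253) (iv1 F17166) D22307 D46535 (iv1 F342633) D192005 (iv1 F368074) (iv5 D99595) (iv6 D46550) (iv1 F34810)
def n192006 : Q := act 4 n99495
theorem D192006 : act 4 n99495 = n192006 := rfl
theorem F385171 : act 2 n192006 = n101126 := d1_1 D192006 (iv4 D101126) (iv2 F155804)
theorem F385172 : act 7 n192006 = n101138 := d11_2 (iv7 F155805) D192006 (iv4 D101138)
theorem F385173 : act 5 n192006 = n107017 := d16_1 D192006 (iv4 D107017) D107018 F337617 F311757 (iv4 F155408) D99500 F155813 (iv2 F155804)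
theorem F385174 : act 6 n157926 = n192006 := d12_0 F385173 (iv6 F358688) (iv5 D178153) F130007 D157926
def n192007 : Q := act 6 n99495
theorem D192007 : act 6 n99495 = n192007 := rfl
theorem F385175 : act 2 n192007 = n101127 := d3_1 D192007 (iv6 D101127) (iv2 F155804)
theorem F385176 : act 4 n192007 = n157926 := d10_1 D192007 F385174 (iv4 D192006)
theorem F385177 : act 5 n192007 = n157803 := d12_1 D192007 F345249 (iv5 F153256) (iv6 D99496) D99495
theorem F385178 : act 0 n192007 = n190545 := d21_10 (iv5 D190545) (iv1 D96150) D96151 F147821 F70478 (iv6 F73493) (iv5 D46514) D46512 D99495 D192007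
theorem F385179 : act 1 n192007 = n190542 := d15_1 (iv0 F385178) (iv7 F380039) (iv2 F380049)
def n192008 : Q := act 1 n99496
theorem D192008 : act 1 n99496 = n192008 := rfl
theorem F385180 : act 1 n192008 = n101131 := d15_1 D192008 (iv7 D101131) (iv2 F155799)
theorem F385181 : act 7 n192008 = n100906 := d15_2 (iv0 F274658) D192008 F338119
theorem F385182 : act 5 n192008 = n101505 := d18_9 (iv1 D101505) D101506 (iv1 F383694) (iv4 D191535) F151921 F274636 F273744 F262963 D192008
theorem F385183 : act 6 n100948 = n192008 := d21_3 D22751 D47355 (iv5 F155078) (iv1 D192008) (iv6 D99496) D99495 F156915 (iv5 D101927) (iv6 D47354) (iv1 D22750)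
theorem F385184 : act 2 n192008 = n101130 := d3_1 F385183 (iv6 F274867) F338109
def n192009 : Q := act 4 n99500
theorem D192009 : act 4 n99500 = n192009 := rfl
theorem F385185 : act 2 n192009 = n101138 := d1_1 D192009 (iv4 D101138) (iv2 F155812)
theorem F385186 : act 5 n192009 = n107022 := d9_2 D99500 D192009 (iv4 D107022) D107023 F358678 F332203 F155405 D99495 D192006 F385173 (iv4 D107017) D107018 F337617 F311757 (iv4 F155408)
theorem F385187 : act 7 n192009 = n101126 := d11_2 (iv7 F155813) D192009 (iv4 D101126)
theorem F385188 : act 3 n157939 = n192009 := d20_5 F79276 (iv1 F95812) (iv4 F100834) (iv3 F221647) F373413 (iv4 D192009) (iv1 F357955) (iv4 F357937) F222772 F101246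
def n192010 : Q := act 3 n99502
theorem D192010 : act 3 n99502 = n192010 := rfl
theorem F385189 : act 2 n192010 = n123750 := d0_1 D192010 F198235 F304652 F156459 (iv2 F156424)
theorem F385190 : act 5 n192010 = n123748 := d6_2 F308582 D192010 F274481
theorem F385191 : act 7 n192010 = n101147 := d8_2 (iv7 F156425) D192010 (iv3 D101147)
theorem F385192 : act 0 n192010 = n136618 := d20_10 (iv4 D136618) (iv1 F337457) F337462 F90976 F299243 (iv3 F73364) D99371 D191950 F384959 D192010
theorem F385193 : act 4 n181739 = n192010 := d17_9 F385192 F309082 (iv1 F342628) F351897 F351900 (iv5 D181766) (iv0 F312298) D139067 F341570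
theorem F385194 : act 1 n192010 = n99553 := d18_6 (iv1 F314591) (iv4 D125186) F191304 D86783 D181739 F385193 F351903 (iv0 F337456) F337459
def n192011 : Q := act 6 n99502
theorem D192011 : act 6 n99502 = n192011 := rfl
theorem F385195 : act 2 n192011 = n101145 := d3_1 D192011 (iv6 D101145) (iv2 F156424)
theorem F385196 : act 5 n192011 = n187018 := d21_6 (iv5 D23291) (iv1 F62610) D22297 (iv6 F73493) D99502 D192011 (iv1 D187018) (iv5 F159460) (iv6 D104008) (iv1 D48148)
def n192012 : Q := act 1 n99507
theorem D192012 : act 1 n99507 = n192012 := rfl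
theorem F385197 : act 1 n192012 = n101158 := d15_1 D192012 (iv7 D101158) (iv2 F153270)
theorem F385198 : act 7 n192012 = n101155 := d15_2 (iv0 F373178) D192012 (iv2 F373174)
theorem F385199 : act 6 n136518 = n192012 := d21_3 F372478 (iv1 F218560) D136518 (iv1 D192012) (iv6 D99507) F291840 (iv1 F291836) (iv5 F292897) D90915 D188147
theorem F385200 : act 2 n192012 = n101156 := d3_1 F385199 F361947 (iv2 F219624)
def n192013 : Q := act 7 n99507
theorem D192013 : act 7 n99507 = n192013 := rfl
theorem F385201 : act 2 n192013 = n101158 := d4_1 D192013 (iv7 D101158) (iv2 F153270)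
theorem F385202 : act 6 n192013 = n101165 := d14_1 D192013 (iv7 D101165) (iv6 D47118) (iv7 F73501) D99507
theorem F385203 : act 1 n101156 = n192013 := d15_1 D101156 (iv7 D192013) F153270
theorem F385204 : act 1 n192013 = n101155 := d15_1 F385203 (iv7 F385198) F385200
def n192014 : Q := act 5 n99512
theorem D192014 : act 5 n99512 = n192014 := rfl
theorem F385205 : act 2 n192014 = n100748 := d2_1 D192014 (iv5 D100748) (iv2 F153278)
theorem F385206 : act 3 n192014 = n99863 := d6_1 D192014 (iv5 D99863) (iv3 F153279)
theorem F385207 : act 6 n192014 = n160327 := d12_2 D99512 D192014 F304173 (iv6 D81833) (iv5 F73510)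
theorem F385208 : act 0 n192014 = n99666 := d17_2 (iv1 F289589) D192014 (iv5 F384668) F384670 (iv5 F331238) F160327 (iv5 D103651) F76047 D104618
def n192015 : Q := act 5 n99514
theorem D192015 : act 5 n99514 = n192015 := rfl
theorem F385209 : act 2 n192015 = n123550 := d2_1 D192015 F366480 F268711
theorem F385210 : act 3 n192015 = n99525 := d6_1 D192015 (iv5 D99525) (iv3 F153284)
theorem F385211 : act 6 n192015 = n99517 := d12_2 D99514 D192015 (iv5 D99517) (iv6 D46523) D46522
theorem F385212 : act 7 n192015 = n123549 := d13_2 F335227 D192015 F366483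
theorem F385213 : act 0 n192015 = n123524 := d17_2 F335228 D192015 (iv5 D123524) (iv4 F312427) (iv5 F314249) (iv0 F215870) F307610 (iv0 F297861) (iv4 F195795)
theorem F385214 : act 0 n123552 = n192015 := d21_7 (iv5 F127115) F127117 (iv5 F132703) D181149 (iv1 F366716) F299218 (iv5 F197972) (iv5 D192015) (iv6 D99514) (iv1 F126389)
def n192016 : Q := act 6 n99516
theorem D192016 : act 6 n99516 = n192016 := rfl
theorem F385215 : act 2 n192016 = n100863 := d3_1 D192016 (iv6 D100863) (iv2 F157787)
theorem F385216 : act 3 n192016 = n102381 := d7_1 D192016 F352770 (iv3 F157788)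
theorem F385217 : act 4 n192016 = n184202 := d10_1 D192016 (iv6 D184202) (iv4 F157789)
def n192017 : Q := act 4 n99517
theorem D192017 : act 4 n99517 = n192017 := rfl
theorem F385218 : act 2 n192017 = n118271 := d1_1 D192017 (iv4 F365343) F365342
theorem F385219 : act 0 n192017 = n191917 := d18_2 (iv1 F365068) D192017 (iv4 D191917) F152925 (iv4 F138086) (iv0 F369641) (iv4 F374427) F383080 F383078
def n192018 : Q := act 0 n99521
theorem D192018 : act 0 n99521 = n192018 := rfl
theorem F385220 : act 3 n192018 = n139563 := d20_5 D100879 (iv1 F365279) (iv4 F365274) F285783 D192018 (iv4 F385037) (iv1 F385039) (iv4 F375602) F375601 (iv1 F154887)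
theorem F385221 : act 2 n136987 = n192018 := d15_3 (iv0 D192018) F365275 (iv7 F220134)
theorem F385222 : act 4 n192018 = n136986 := d1_2 D136987 F385221 (iv2 D136986)
theorem F385223 : act 7 n192018 = n139556 := d4_2 (iv7 F220134) F385221 (iv2 D139556)
theorem F385224 : act 1 n191266 = n139556 := d15_1 (iv0 F382822) (iv7 F385223) (iv2 F385221)
theorem F385225 : act 1 n139441 = n192018 := d15_1 (iv0 F365277) F385223 (iv2 D139556)
def n192019 : Q := act 4 n99521
theorem D192019 : act 4 n99521 = n192019 := rfl
theorem F385226 : act 3 n192019 = n102408 := d5_1 D192019 F368768 (iv3 F368767) (iv4 F365274) F285783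
theorem F385227 : act 1 n192019 = n102585 := d18_6 (iv1 F143919) F73317 F157767 (iv4 F73522) D99521 D192019 F356751 (iv0 F349202) (iv5 F349198)
def n192020 : Q := act 7 n99521
theorem D192020 : act 7 n99521 = n192020 := rfl
theorem F385228 : act 2 n192020 = n139441 := d4_1 D192020 (iv7 F382821) F382818
theorem F385229 : act 5 n192020 = n99522 := d13_1 D192020 (iv7 D99522) D99521
theorem F385230 : act 6 n192020 = n115933 := d14_1 D192020 F360381 (iv6 F364749) (iv7 F364469) F268486
theorem F385231 : act 1 n139556 = n192020 := d15_1 F385224 (iv7 D192020) (iv2 F382818)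
theorem F385232 : act 1 n192020 = n136987 := d15_1 F385231 F220134 D139556
def n192021 : Q := act 4 n99525
theorem D192021 : act 4 n99525 = n192021 := rfl
theorem F385233 : act 2 n192021 = n137204 := d1_1 D192021 F382829 F382823
theorem F385234 : act 6 n192021 = n99539 := d10_2 (iv6 F153288) D192021 (iv4 D99539)
theorem F385235 : act 0 n192021 = n123243 := d18_2 (iv1 F385077) D192021 (iv4 D123243) (iv5 D57365) (iv4 F90512) (iv0 F308940) (iv4 F309675) (iv0 F342352) (iv5 F385074)
theorem F385236 : act 1 n192021 = n137206 := d18_8 (iv1 F361577) F361578 F325035 (iv4 F181205) F342359 (iv4 D154270) (iv0 F335223) D192021 (iv5 F361591)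
theorem F385237 : act 7 n137205 = n192021 := d15_2 (iv0 D137204) D137205 F385233
def n192022 : Q := act 7 n99525
theorem D192022 : act 7 n99525 = n192022 := rfl
theorem F385238 : act 2 n192022 = n154268 := d4_1 D192022 (iv7 F382826) F382823
theorem F385239 : act 3 n192022 = n123549 := d8_1 D192022 (iv7 F385212) F385210
theorem F385240 : act 4 n192022 = n137205 := d11_1 D192022 F385237 (iv4 D192021)
theorem F385241 : act 5 n192022 = n99526 := d13_1 D192022 (iv7 D99526) D99525
theorem F385242 : act 6 n192022 = n136874 := d14_1 D192022 (iv7 F222621) F349991 (iv7 D99540) (iv6 F153288)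
theorem F385243 : act 1 n154271 = n192022 := d15_1 F382828 (iv7 D192022) (iv2 F382823)
theorem F385244 : act 1 n192022 = n100953 := d15_1 F385243 (iv7 F385075) F385073
theorem E103496 : n137205 = n136876 := ((c10_3 F385242 (iv4 D136874) D136876 (iv4 F385240))).symm
theorem F385245 : act 0 n136876 = n64490 := (sb E103496 (iv1 D137205))
theorem F385246 : act 4 n136876 = n192022 := (sb E103496 (iv4 F385240))
theorem F385247 : act 5 n136876 = n155609 := (sb E103496 (iv5 F361586))
theorem F385248 : act 7 n136876 = n192021 := (sb E103496 F385237)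
def n192023 : Q := act 4 n99537
theorem D192023 : act 4 n99537 = n192023 := rfl
theorem F385249 : act 2 n192023 = n100968 := d1_1 D192023 (iv4 D100968) (iv2 F157323)
theorem F385250 : act 7 n192023 = n184688 := d11_2 (iv7 F157325) D192023 (iv4 D184688)
theorem F385251 : act 1 n192023 = n192019 := d18_6 F374431 (iv4 D188680) F292921 F158569 F293323 D192023 (iv4 D192019) F365275 D139557
theorem F385252 : act 6 n191745 = n192023 := d14_5 F385250 (iv6 F356749) F153679 (iv6 F152440) D191745
def n192024 : Q := act 6 n99537
theorem D192024 : act 6 n99537 = n192024 := rfl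
theorem F385253 : act 2 n192024 = n100969 := d3_1 D192024 (iv6 D100969) (iv2 F157323)
theorem F385254 : act 3 n192024 = n101217 := d7_1 D192024 (iv6 D101217) (iv3 F157324)
theorem F385255 : act 4 n192024 = n191745 := d10_1 D192024 F385252 (iv4 D192023)
theorem F385256 : act 7 n192024 = n191744 := d14_2 (iv7 F157325) D192024 F384327 F356745 (iv6 D184689)
def n192025 : Q := act 1 n99539
theorem D192025 : act 1 n99539 = n192025 := rfl
theorem F385257 : act 1 n192025 = n118884 := d15_1 D192025 (iv7 F382834) F382831
theorem F385258 : act 7 n192025 = n136986 := d15_2 (iv0 F365069) D192025 (iv2 D136986)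
theorem F385259 : act 4 n192025 = n139556 := d18_7 F157776 (iv4 F153961) F157775 F73522 D46528 D99539 D192025 F385231 F385229
theorem F385260 : act 2 n135980 = n192025 := d1_3 F385259 (iv2 D139556) (iv4 F218755)
theorem F385261 : act 3 n192025 = n136979 := d0_2 D135980 F385260 (iv2 D136979) (iv3 D64379) (iv2 F111373)
theorem F385262 : act 4 n136979 = n153742 := d20_6 F186776 (iv1 F86473) D54716 D118884 (iv1 F385257) F385261 (iv1 D153742) (iv4 F186944) (iv3 D118890) (iv1 F186778)
theorem F385263 : act 2 n153742 = n107092 := d1_1 F385262 F165066 D136979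
def n192026 : Q := act 3 n99539
theorem D192026 : act 3 n99539 = n192026 := rfl
theorem F385264 : act 2 n192026 = n118877 := d0_1 D192026 (iv3 D118877) (iv2 F186762) (iv3 F382832) F382831
theorem F385265 : act 1 n192026 = n136934 := d15_0 (iv0 F362178) F252592 (iv2 F385264)
def n192027 : Q := act 5 n99539
theorem D192027 : act 5 n99539 = n192027 := rfl
theorem F385266 : act 0 n192027 = n136999 := d17_2 (iv1 D192025) D192027 (iv5 F365481) F365489 F357366 (iv0 F157746) D191266 F385224 (iv4 F385259)
def n192028 : Q := act 7 n99539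
theorem D192028 : act 7 n99539 = n192028 := rfl
theorem F385267 : act 2 n192028 = n118884 := d4_1 D192028 (iv7 F382834) F382831
theorem F385268 : act 4 n192028 = n99540 := d11_1 D192028 (iv7 D99540) D99539
theorem F385269 : act 6 n192028 = n135947 := d14_1 D192028 (iv7 F218692) D136876 F385248 F385234
theorem F385270 : act 1 n135980 = n192028 := d15_1 F382835 (iv7 D192028) (iv2 F382831)
theorem F385271 : act 1 n192028 = n136986 := d15_1 F385270 (iv7 F385258) (iv2 F385260)
def n192029 : Q := act 5 n99541
theorem D192029 : act 5 n99541 = n192029 := rfl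
theorem F385272 : act 2 n192029 = n100996 := d2_1 D192029 (iv5 D100996) (iv2 F153292)
theorem F385273 : act 3 n192029 = n101188 := d6_1 D192029 (iv5 D101188) (iv3 F153293)
theorem F385274 : act 1 n192029 = n99671 := d17_6 (iv1 D187116) (iv5 F139295) (iv1 F349112) (iv5 D100341) (iv4 F153294) D192029 (iv5 F384677) (iv0 F384681) F369135
def n192030 : Q := act 5 n99542
theorem D192030 : act 5 n99542 = n192030 := rfl
theorem F385275 : act 2 n192030 = n191757 := d2_1 D192030 F384359 (iv2 F342638)
theorem F385276 : act 3 n192030 = n99553 := d6_1 D192030 (iv5 D99553) (iv3 F153295)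
theorem F385277 : act 6 n192030 = n99545 := d12_2 D99542 D192030 (iv5 D99545) (iv6 D46532) D46531
theorem F385278 : act 4 n192030 = n177824 := d18_5 (iv1 F154414) F338850 F342634 F252709 D192030 F338831 (iv4 F384337) (iv0 F384339) F154487
theorem F385279 : act 7 n191753 = n192030 := d11_0 F385278 F281964 D191753
theorem F385280 : act 1 n191752 = n191753 := d15_1 F384360 F385279 F385275
def n192031 : Q := act 7 n99542
theorem D192031 : act 7 n99542 = n192031 := rfl
theorem F385281 : act 2 n192031 = n130866 := d4_1 D192031 (iv7 F214880) (iv2 F342638)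
theorem F385282 : act 3 n192031 = n99554 := d8_1 D192031 (iv7 D99554) (iv3 F153295)
theorem F385283 : act 5 n192031 = n191753 := d13_1 D192031 F385279 (iv5 D192030)
theorem F385284 : act 1 n184486 = n192031 := d15_1 F366761 (iv7 D192031) F342638
theorem F385285 : act 1 n192031 = n101070 := d15_1 F385284 (iv7 F236259) (iv2 F286424)
def n192032 : Q := act 5 n99543
theorem D192032 : act 5 n99543 = n192032 := rfl
theorem F385286 : act 2 n192032 = n101084 := d2_1 D192032 (iv5 D101084) (iv2 F177402)
theorem F385287 : act 3 n192032 = n184466 := d6_1 D192032 (iv5 D184466) (iv3 F177403)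
theorem F385288 : act 6 n192032 = n141204 := d12_2 F370999 D192032 (iv5 D141204) D141205 F371001
theorem F385289 : act 7 n192032 = n184504 := d13_2 (iv7 F177405) D192032 (iv5 D184504)
theorem F385290 : act 0 n143248 = n141204 := d21_4 (iv5 D66332) F49553 D67111 D143248 (iv6 F385288) (iv5 D192032) F177401 D187850 F371695 F223162
def n192033 : Q := act 5 n99544
theorem D192033 : act 5 n99544 = n192033 := rfl
theorem F385291 : act 2 n192033 = n184504 := d2_1 D192033 (iv5 D184504) (iv2 F177407)
theorem F385292 : act 3 n192033 = n101041 := d6_1 D192033 (iv5 D101041) (iv3 F177408)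
theorem F385293 : act 7 n192033 = n101084 := d13_2 (iv7 F177410) D192033 (iv5 D101084)
def n192034 : Q := act 6 n99544
theorem D192034 : act 6 n99544 = n192034 := rfl
theorem F385294 : act 2 n192034 = n184505 := d3_1 D192034 (iv6 D184505) (iv2 F177407)
theorem F385295 : act 3 n192034 = n99752 := d7_1 D192034 F344200 (iv3 F177408)
theorem F385296 : act 4 n192034 = n100358 := d10_1 D192034 (iv6 D100358) (iv4 F177409)
theorem F385297 : act 1 n154953 = n192034 := d17_8 (iv1 F349287) F153655 F333294 (iv5 F337216) D188551 F373919 F312306 D154953 F385296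
theorem F385298 : act 0 n154956 = n192034 := d18_0 F385296 (iv1 F349287) F153654 F309580 (iv4 D73493) (iv0 D33788) D33790 D73502 D154956
def n192035 : Q := act 0 n99545
theorem D192035 : act 0 n99545 = n192035 := rfl
theorem F385299 : act 4 n192035 = n100454 := d18_1 D192035 (iv1 F365356) F222696 F329255 (iv4 F143352) F143355 (iv4 F177404) (iv0 D99543) D99545
theorem F385300 : act 3 n152569 = n192035 := d5_5 F385299 (iv3 F371372) (iv4 D187736) (iv3 F371366) F371369
theorem F385301 : act 2 n192035 = n101104 := d0_1 F385300 (iv3 D101104) (iv2 F362663) F362664 (iv2 F361040)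
theorem F385302 : act 6 n192035 = n152567 := d7_2 D152569 F385300 (iv3 D152567)
theorem F385303 : act 7 n192035 = n184520 := d8_2 (iv7 F361041) F385300 (iv3 D184520)
theorem F385304 : act 0 n192035 = n187850 := d20_4 (iv4 F374241) F374242 F371369 F385300 F371694 (iv4 D114603) (iv1 F178581) (iv4 F352776) F285126 (iv1 F371262)
def n192036 : Q := act 1 n99545
theorem D192036 : act 1 n99545 = n192036 := rfl
theorem F385305 : act 1 n192036 = n187850 := d15_1 D192036 (iv7 F374784) F374783
theorem F385306 : act 7 n192036 = n101104 := d15_2 (iv0 D192035) D192036 (iv2 F385301)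
theorem F385307 : act 5 n192036 = n186797 := d18_9 F376332 F376331 (iv1 F371854) (iv4 F292005) F292006 F351144 F372640 F372638 D192036
theorem F385308 : act 3 n101044 = n192036 := d6_3 F385307 F368044 F155703
theorem F385309 : act 4 n100455 = n192036 := d18_3 F329567 (iv4 F222696) (iv1 F365357) F385307 F374098 F374096 F372311 F292010 (iv5 D100450)
theorem F385310 : act 2 n192036 = n184520 := d0_1 F385308 (iv3 D184520) (iv2 F361027) (iv3 D101109) (iv2 F344249)
def n192037 : Q := act 7 n99545
theorem D192037 : act 7 n99545 = n192037 := rfl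
theorem F385311 : act 2 n192037 = n187850 := d4_1 D192037 (iv7 F374784) F374783
theorem F385312 : act 3 n192037 = n99568 := d8_1 D192037 (iv7 D99568) (iv3 F153296)
theorem F385313 : act 5 n192037 = n99546 := d13_1 D192037 (iv7 D99546) D99545
def n192038 : Q := act 5 n99547
theorem D192038 : act 5 n99547 = n192038 := rfl
theorem F385314 : act 3 n192038 = n100002 := d6_1 D192038 (iv5 D100002) (iv3 F177411)
theorem F385315 : act 7 n192038 = n191936 := d13_2 (iv7 F177412) D192038 (iv5 D191936)
theorem F385316 : act 4 n139447 = n192038 := d5_0 F385314 (iv4 F345090) (iv3 F345427) F172863 (iv3 F222640)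
theorem F385317 : act 6 n139446 = n192038 := d7_0 F385314 (iv6 F365334) F365336
def n192039 : Q := act 0 n99549
theorem D192039 : act 0 n99549 = n192039 := rfl
def n192040 : Q := act 1 n99549
theorem D192040 : act 1 n99549 = n192040 := rfl
def n192041 : Q := act 4 n99549
theorem D192041 : act 4 n99549 = n192041 := rfl
theorem F385318 : act 2 n192041 = n139158 := d1_1 D192041 F382805 F382801
theorem F385319 : act 6 n192041 = n139106 := d10_2 F268488 D192041 F342602
theorem F385320 : act 0 n192041 = n184572 := d20_7 (iv4 F74362) (iv1 F74363) (iv4 D46917) D46916 (iv1 F157639) F153843 D192041 F351160 (iv3 D99506) (iv1 F73502)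
theorem E103497 : n192040 = n183995 := ((c20_10 D192041 F385320 F351160 (iv3 D99506) (iv1 F73502) (iv3 F74347) (iv4 F155777) (iv1 F285883) (iv4 D183996) D183995 (iv1 D192040))).symm
theorem F385321 : act 0 n183995 = n99549 := (sb E103497 (iv1 D192040))
def n192042 : Q := act 7 n99549
theorem D192042 : act 7 n99549 = n192042 := rfl
theorem F385322 : act 3 n192042 = n191953 := d8_1 D192042 F384976 F153843
theorem F385323 : act 5 n192042 = n99550 := d13_1 D192042 (iv7 D99550) D99549
theorem F385324 : act 1 n139541 = n192042 := d15_1 (iv0 F382804) (iv7 D192042) (iv2 F382801)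
theorem F385325 : act 6 n139440 = n192042 := d12_0 F385323 F157800 F357355 (iv6 D139441) D139440
def n192043 : Q := act 7 n99553
theorem D192043 : act 7 n99553 = n192043 := rfl
theorem F385326 : act 2 n192043 = n136618 := d4_1 D192043 (iv7 F382811) F382808
theorem F385327 : act 3 n192043 = n191753 := d8_1 D192043 F385279 F385276
theorem F385328 : act 4 n192043 = n136603 := d11_1 D192043 F219691 (iv4 F351903)
theorem F385329 : act 5 n192043 = n99554 := d13_1 D192043 (iv7 D99554) D99553
theorem F385330 : act 1 n101147 = n192043 := d15_1 F382814 (iv7 D192043) (iv2 F382808)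
theorem F385331 : act 1 n192043 = n123750 := d15_1 F385330 F352849 F357803
def n192044 : Q := act 4 n99566
theorem D192044 : act 4 n99566 = n192044 := rfl
theorem F385332 : act 2 n192044 = n101161 := d1_1 D192044 (iv4 D101161) (iv2 F157646)
theorem F385333 : act 7 n192044 = n184571 := d11_2 (iv7 F157649) D192044 (iv4 D184571)
theorem F385334 : act 0 n192044 = n192041 := d18_2 F335408 D192044 (iv4 D192041) (iv5 D99549) F73532 (iv0 F177417) F66974 (iv0 F293970) F335403
theorem F385335 : act 3 n192013 = n192044 := d8_3 F385333 F351179 D192013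
def n192045 : Q := act 0 n99567
theorem D192045 : act 0 n99567 = n192045 := rfl
def n192046 : Q := act 1 n99567
theorem D192046 : act 1 n99567 = n192046 := rfl
theorem F385336 : act 4 n192046 = n139541 := d18_7 F177414 F153009 F177413 F73532 D46538 D99567 D192046 F385324 F385323
def n192047 : Q := act 3 n99567
theorem D192047 : act 3 n99567 = n192047 := rfl
theorem F385337 : act 6 n192047 = n136630 := d7_2 (iv6 F359930) D192047 F219769
def n192048 : Q := act 7 n99567
theorem D192048 : act 7 n99567 = n192048 := rfl
theorem F385338 : act 4 n192048 = n99568 := d11_1 D192048 (iv7 D99568) D99567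
def n192049 : Q := act 6 n99568
theorem D192049 : act 6 n99568 = n192049 := rfl
theorem F385339 : act 5 n192049 = n136870 := d12_1 D192049 (iv6 F349992) (iv5 F349198) F157751 (iv5 F153303)
def n192050 : Q := act 3 n99572
theorem D192050 : act 3 n99572 = n192050 := rfl
theorem F385340 : act 2 n192050 = n123548 := d0_1 D192050 F383622 (iv2 F384320) (iv3 D99618) (iv2 F359921)
theorem F385341 : act 4 n192050 = n191509 := d5_2 (iv4 F339103) D192050 (iv3 F383615) (iv4 F345680) F345679
theorem F385342 : act 6 n192050 = n123523 := d7_2 (iv6 F339124) D192050 F359912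
theorem F385343 : act 7 n192050 = n99613 := d8_2 (iv7 F359922) D192050 (iv3 D99613)
theorem F385344 : act 0 n124030 = n192050 := d20_4 (iv4 D35497) D35494 (iv4 F301401) (iv3 F198417) (iv3 D192050) F339103 (iv1 D84345) (iv4 F91688) F91687 F56183
theorem F385345 : act 1 n100745 = n192050 := d15_0 (iv0 F385344) F304178 (iv2 F154841)
def n192051 : Q := act 0 n99573
theorem D192051 : act 0 n99573 = n192051 := rfl
theorem F385346 : act 5 n192051 = n107943 := d17_1 D192051 F339001 F339099 (iv4 F221128) F333283 (iv0 D84344) D84346 F311370 F339127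
theorem F385347 : act 4 n192051 = n118907 := d18_3 (iv1 F309225) F339127 D192051 F332503 (iv4 F332499) D99572 F339103 F185625 F185623
theorem F385348 : act 1 n99625 = n192051 := d15_0 (iv0 D192051) (iv7 F348208) F348205
theorem F385349 : act 2 n99622 = n192051 := d1_3 F385347 (iv2 F332504) (iv4 F347175)
theorem F385350 : act 7 n99623 = n192051 := d11_0 F385347 F247832 (iv4 F348214)
def n192052 : Q := act 1 n99573
theorem D192052 : act 1 n99573 = n192052 := rfl
theorem F385351 : act 1 n192052 = n99625 := d15_1 D192052 (iv7 D99625) (iv2 F153313)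
theorem F385352 : act 7 n192052 = n99622 := d15_2 (iv0 D192051) D192052 F385349
theorem F385353 : act 4 n192052 = n118906 := d18_7 D71690 D152064 (iv1 F351911) (iv4 F351906) F305313 F339127 D192052 (iv0 D118906) F86530
theorem F385354 : act 5 n192052 = n186472 := d18_9 F351905 (iv4 D152069) (iv1 D71691) (iv4 F108174) D152061 F348201 F311370 F339127 D192052
theorem F385355 : act 2 n99623 = n192052 := d2_3 F385354 (iv2 F351913) F348212
def n192053 : Q := act 6 n99576
theorem D192053 : act 6 n99576 = n192053 := rfl
theorem F385356 : act 2 n192053 = n154956 := d3_1 D192053 F333327 (iv2 F153424)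
theorem F385357 : act 3 n192053 = n99579 := d7_1 D192053 (iv6 D99579) D99576
theorem F385358 : act 4 n192053 = n155319 := d10_1 D192053 (iv6 F333324) (iv4 F153323)
theorem F385359 : act 5 n192053 = n154810 := d12_1 D192053 (iv6 F350250) F222933 (iv6 F365517) F365516
theorem F385360 : act 7 n192053 = n154953 := d14_2 (iv7 F153425) D192053 F357336 (iv7 F367096) (iv6 D99656)
theorem F385361 : act 0 n192053 = n184505 := d21_10 (iv5 F349292) (iv1 F340085) (iv5 F356579) (iv6 D151383) (iv1 F237314) F349211 (iv5 D137593) D137590 F365516 D192053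
def n192054 : Q := act 6 n99577
theorem D192054 : act 6 n99577 = n192054 := rfl
theorem F385362 : act 2 n192054 = n99640 := d3_1 D192054 (iv6 D99640) (iv2 F153426)
theorem F385363 : act 3 n192054 = n102527 := d7_1 D192054 F251236 (iv3 F153325)
theorem F385364 : act 4 n192054 = n99579 := d10_1 D192054 (iv6 D99579) D99577
theorem F385365 : act 5 n192054 = n151395 := d12_1 D192054 (iv6 F353553) F221180 (iv6 F325059) (iv5 F356217)
theorem F385366 : act 0 n192054 = n102544 := d20_1 (iv4 F385364) F289916 F285866 F293413 (iv3 D44553) (iv4 D21195) D21193 D44549 D95378 F291545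
def n192055 : Q := act 3 n99585
theorem D192055 : act 3 n99585 = n192055 := rfl
theorem F385367 : act 6 n192055 = n136375 := d7_2 F363275 D192055 F219493
theorem F385368 : act 7 n192055 = n99671 := d8_2 (iv7 F288494) D192055 (iv3 D99671)
theorem F385369 : act 0 n100996 = n192055 := d20_4 F245931 (iv1 F328165) (iv4 D101010) (iv3 F155614) (iv3 D192055) F339157 (iv1 D54703) D54704 (iv3 F318492) D156440
def n192056 : Q := act 3 n99586
theorem D192056 : act 3 n99586 = n192056 := rfl
theorem F385370 : act 7 n192056 = n99666 := d8_2 (iv7 F288491) D192056 (iv3 D99666)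
theorem F385371 : act 0 n192056 = n100748 := d19_4 D39450 (iv5 F232886) (iv4 F339156) D192056 (iv5 D100748) (iv4 F147943) (iv3 F158891) (iv1 F348571) (iv5 D180282) (iv4 D86113) (iv3 F323208) (iv1 F299518) F299519 (iv4 D36733) F28769 D17715 F28778 F28978 (iv3 F29962)
def n192057 : Q := act 6 n99586
theorem D192057 : act 6 n99586 = n192057 := rfl
theorem F385372 : act 2 n192057 = n99674 := d3_1 D192057 (iv6 D99674) (iv2 F288490)
theorem F385373 : act 4 n192057 = n118844 := d10_1 D192057 (iv6 D118844) (iv4 F339156)
theorem F385374 : act 7 n192057 = n139766 := d14_2 (iv7 F288491) D192057 F222947 (iv7 F341561) (iv6 D99669)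
def n192058 : Q := act 6 n99589
theorem D192058 : act 6 n99589 = n192058 := rfl
theorem F385375 : act 2 n192058 = n191508 := d3_1 D192058 (iv6 D191508) (iv2 F153337)
theorem F385376 : act 3 n192058 = n144846 := d7_1 D192058 F227770 F303545
theorem F385377 : act 4 n192058 = n99590 := d10_1 D192058 (iv6 D99590) D99589
theorem F385378 : act 5 n192058 = n144844 := d12_1 D192058 F227765 (iv5 D119517) F301377 (iv5 F153338)
theorem F385379 : act 7 n192058 = n170271 := d14_2 (iv7 F153339) D192058 F267785 F313846 (iv6 F304148)
theorem F385380 : act 0 n190573 = n192058 := d21_4 (iv5 F159131) F159133 (iv5 F147885) D190573 (iv6 D192058) F153338 (iv1 F153999) (iv5 D100061) D100062 F301163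
theorem F385381 : act 1 n186688 = n192058 := d15_0 (iv0 F385380) (iv7 F380166) (iv2 F367679)
def n192059 : Q := act 5 n99590
theorem D192059 : act 5 n99590 = n192059 := rfl
theorem F385382 : act 3 n192059 = n99595 := d6_1 D192059 (iv5 D99595) (iv3 F153343)
theorem F385383 : act 6 n192059 = n190212 := d12_2 D99590 D192059 (iv5 D190212) (iv6 D95731) F74224
theorem F385384 : act 0 n135012 = n192059 := d21_7 F121997 F75089 (iv5 F132433) (iv6 F307596) (iv1 F97801) D119166 (iv5 F358458) (iv5 D192059) (iv6 D99590) (iv1 F121998)
def n192060 : Q := act 7 n99590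
theorem D192060 : act 7 n99590 = n192060 := rfl
theorem F385385 : act 2 n192060 = n123067 := d4_1 D192060 F364928 F282160
theorem F385386 : act 3 n192060 = n99596 := d8_1 D192060 (iv7 D99596) (iv3 F153343)
theorem F385387 : act 4 n192060 = n170271 := d11_1 D192060 (iv7 F385379) F385377
theorem F385388 : act 6 n192060 = n123931 := d14_1 D192060 F342007 F305766 F128825 D99590
theorem F385389 : act 1 n101477 = n192060 := d15_1 (iv0 F366715) (iv7 D192060) (iv2 F282160)
theorem F385390 : act 1 n192060 = n122298 := d15_1 F385389 (iv7 F301407) (iv2 F304182)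
def n192061 : Q := act 5 n99593
theorem D192061 : act 5 n99593 = n192061 := rfl
theorem F385391 : act 2 n192061 = n101495 := d2_1 D192061 (iv5 D101495) (iv2 F348283)
theorem F385392 : act 3 n192061 = n101266 := d6_1 D192061 (iv5 D101266) (iv3 F348284)
theorem F385393 : act 7 n192061 = n123668 := d13_2 (iv7 F348287) D192061 (iv5 D123668)
theorem F385394 : act 6 n192061 = n137909 := d21_9 D137956 (iv1 F350428) (iv5 F350425) (iv6 F350427) (iv1 F357347) F357350 (iv5 D99595) D99593 D192061 (iv1 F221170)
def n192062 : Q := act 7 n99595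
theorem D192062 : act 7 n99595 = n192062 := rfl
theorem F385395 : act 5 n192062 = n99596 := d13_1 D192062 (iv7 D99596) D99595
theorem F385396 : act 1 n184748 = n192062 := d15_1 F349704 (iv7 D192062) (iv2 F274737)
theorem F385397 : act 1 n192062 = n101527 := d15_1 F385396 (iv7 F368073) F368072
def n192063 : Q := act 5 n99597
theorem D192063 : act 5 n99597 = n192063 := rfl
theorem F385398 : act 3 n192063 = n99601 := d6_1 D192063 (iv5 D99601) (iv3 F153350)
theorem F385399 : act 6 n192063 = n188319 := d12_2 D99597 D192063 F373076 F294815 (iv5 F74236)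
theorem F385400 : act 0 n191748 = n192063 := d21_7 F109454 (iv1 F73526) (iv5 F109121) D153530 F339026 F338844 (iv5 F384340) (iv5 D192063) (iv6 D99597) (iv1 F109455)
def n192064 : Q := act 4 n99601
theorem D192064 : act 4 n99601 = n192064 := rfl
theorem F385401 : act 6 n192064 = n188320 := d10_2 F294818 D192064 (iv4 D188320)
theorem F385402 : act 5 n192064 = n151676 := d16_1 D192064 F238543 F166729 F78805 (iv5 F78816) (iv4 F166743) (iv5 F239019) (iv7 F239022) (iv2 F311993)
theorem F385403 : act 0 n192064 = n187811 := d18_2 (iv1 F311992) D192064 F371587 F166829 F78855 F78834 (iv4 F108157) F108155 D71672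
def n192065 : Q := act 2 n99613
theorem D192065 : act 2 n99613 = n192065 := rfl
theorem F385404 : act 4 n192065 = n148961 := d1_2 F351873 D192065 (iv2 F236171)
theorem F385405 : act 7 n192065 = n123548 := d4_2 F385343 D192065 (iv2 F385340)
theorem F385406 : act 1 n192065 = n100745 := d15_0 F385345 F385343 D192065
theorem F385407 : act 1 n124030 = n192065 := d15_0 F385406 F303707 F351870
def n192066 : Q := act 6 n99613
theorem D192066 : act 6 n99613 = n192066 := rfl
theorem F385408 : act 3 n192066 = n99616 := d7_1 D192066 (iv6 D99616) D99613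
theorem F385409 : act 4 n192066 = n131258 := d10_1 D192066 F236173 F351873
theorem F385410 : act 7 n192066 = n123543 := d14_2 F385343 D192066 (iv6 D123543) (iv7 F359913) (iv6 F385342)
theorem F385411 : act 0 n119161 = n192066 := d21_4 D133583 F214883 (iv5 D119160) D119161 (iv6 D192066) F358055 F358054 (iv5 D133592) (iv6 D62694) D62691
theorem F385412 : act 1 n131165 = n192066 := d15_0 (iv0 F385411) F311987 F334131
theorem F385413 : act 2 n192066 = n131162 := d15_3 (iv0 D131162) (iv0 F361926) (iv7 F385410)
theorem F385414 : act 6 n131162 = n192065 := d3_2 D192066 F385413 (iv2 D192065)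
def n192067 : Q := act 5 n99616
theorem D192067 : act 5 n99616 = n192067 := rfl
theorem F385415 : act 0 n192067 = n181939 := d17_2 (iv1 F361921) D192067 (iv5 D181939) (iv4 F304003) (iv5 F332523) (iv0 D117800) D117802 F316803 (iv4 F238967)
def n192068 : Q := act 5 n99621
theorem D192068 : act 5 n99621 = n192068 := rfl
theorem F385416 : act 2 n192068 = n154266 := d2_1 D192068 (iv5 D154266) (iv2 F359906)
theorem F385417 : act 7 n192068 = n154261 := d13_2 (iv7 F359907) D192068 (iv5 D154261)
theorem F385418 : act 0 n192068 = n191975 := d17_2 (iv1 F351909) D192068 (iv5 D191975) (iv4 F335219) F309953 (iv0 D74956) D74958 (iv0 F314059) F235756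
theorem F385419 : act 1 n192068 = n152026 := d17_6 (iv1 F311811) F78847 D69795 D148899 (iv4 F351910) D192068 (iv5 D152026) F314253 (iv4 F125420)
def n192069 : Q := act 3 n99622
theorem D192069 : act 3 n99622 = n192069 := rfl
theorem F385420 : act 5 n192069 = n152619 := d6_2 (iv5 F348216) D192069 (iv3 F239822)
theorem F385421 : act 0 n160327 = n192069 := d17_2 F361942 (iv5 F304173) F385420 (iv4 F309066) (iv5 D101291) D101290 (iv5 F383602) (iv0 F383603) (iv4 F346682)
def n192070 : Q := act 6 n99622
theorem D192070 : act 6 n99622 = n192070 := rfl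
theorem F385422 : act 4 n192070 = n109676 := d10_1 D192070 F332524 (iv4 F347175)
theorem F385423 : act 0 n137143 = n192070 := d21_4 D31241 (iv1 F103038) (iv5 F180639) D137143 (iv6 D192070) F348216 F339117 (iv5 F339061) (iv6 D67048) (iv1 F49547)
def n192071 : Q := act 3 n99624
theorem D192071 : act 3 n99624 = n192071 := rfl
theorem F385424 : act 4 n192071 = n99735 := d5_2 D99624 D192071 (iv3 D99735) (iv4 D46590) (iv3 F73558)
theorem F385425 : act 5 n192071 = n183292 := d6_2 (iv5 F339131) D192071 F284947
theorem F385426 : act 6 n192071 = n99677 := d7_2 (iv6 F153366) D192071 (iv3 D99677)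
theorem F385427 : act 7 n192071 = n150024 := d8_2 (iv7 F339132) D192071 F236014
theorem F385428 : act 0 n155898 = n192071 := d20_4 (iv4 F241404) F347173 (iv4 D155899) D155898 (iv3 D192071) (iv4 D99624) D99622 F347175 (iv3 F188274) F347174
def n192072 : Q := act 5 n99632
theorem D192072 : act 5 n99632 = n192072 := rfl
theorem F385429 : act 3 n192072 = n99770 := d6_1 D192072 (iv5 D99770) (iv3 F157389)
theorem F385430 : act 7 n192072 = n100748 := d13_2 (iv7 F289593) D192072 (iv5 D100748)
theorem F385431 : act 0 n99666 = n192072 := d19_0 (iv5 D192072) F157390 (iv3 F160253) F160254 F347485 (iv4 D82546) F58749 D37913 (iv5 F300671) F56319 F28223 (iv1 F30381) (iv5 F28778) (iv4 F30344) (iv3 F304129) (iv1 F305697) (iv5 F341567) (iv4 D99667) D99666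
theorem F385432 : act 6 n136934 = n192072 := d7_0 F385429 F362177 D136934
def n192073 : Q := act 5 n99634
theorem D192073 : act 5 n99634 = n192073 := rfl
theorem F385433 : act 2 n192073 = n99635 := d2_1 D192073 (iv5 D99635) D99634
theorem F385434 : act 3 n192073 = n143483 := d6_1 D192073 F362222 (iv3 F153383)
theorem F385435 : act 6 n143482 = n192073 := d7_0 F385434 (iv6 D143483) D143482
theorem F385436 : act 1 n192073 = n101981 := d15_0 (iv0 F363136) (iv7 F364510) (iv2 F385433)
def n192074 : Q := act 6 n99634
theorem D192074 : act 6 n99634 = n192074 := rfl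
theorem F385437 : act 2 n192074 = n99636 := d3_1 D192074 (iv6 D99636) D99634
theorem F385438 : act 3 n192074 = n154956 := d7_1 D192074 F333327 (iv3 F153383)
theorem F385439 : act 4 n192074 = n103654 := d10_1 D192074 (iv6 D103654) F153409
theorem F385440 : act 5 n192074 = n154955 := d21_6 (iv5 F128824) F128826 (iv5 D46980) D46981 (iv1 F289586) D192074 F340883 (iv5 F356971) (iv6 D180879) F132440
theorem F385441 : act 0 n102000 = n192074 := d17_0 F385440 F340883 (iv5 F356971) F281616 D190809 F381177 F379050 F380412 F380411
def n192075 : Q := act 0 n99635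
theorem D192075 : act 0 n99635 = n192075 := rfl
theorem F385442 : act 5 n192075 = n176702 := d17_3 F289588 D99635 D192075 (iv4 F378820) (iv5 F378822) (iv0 D189864) (iv5 D95349) F289637 (iv4 F153280)
theorem F385443 : act 4 n192075 = n137809 := d18_1 D192075 (iv1 D137809) F100627 F328548 F148358 F148354 (iv4 F157390) (iv0 D99632) D99635
theorem F385444 : act 3 n192075 = n99775 := d20_5 F161305 D66717 (iv4 F334867) (iv3 F153384) D192075 F327389 (iv1 F126928) (iv4 F323866) F100672 (iv1 F323865)
theorem F385445 : act 7 n101981 = n192075 := d8_0 F385444 F328313 D101981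
def n192076 : Q := act 1 n99635
theorem D192076 : act 1 n99635 = n192076 := rfl
def n192077 : Q := act 4 n99635
theorem D192077 : act 4 n99635 = n192077 := rfl
theorem F385446 : act 3 n192077 = n142252 := d5_1 D192077 F323265 F321989 (iv4 F334867) (iv3 F153384)
theorem F385447 : act 4 n137808 = n192076 := d20_0 (iv1 D192076) D192077 F385446 (iv1 D142252) F102585 (iv4 D59684) F166071 (iv4 F161988) F161987 D137808
def n192078 : Q := act 1 n99636
theorem D192078 : act 1 n99636 = n192078 := rfl
theorem F385448 : act 5 n192078 = n117693 := d18_9 (iv1 F356806) (iv4 F346300) (iv1 F183432) (iv4 F346305) (iv5 D102536) (iv4 F76072) (iv0 F161649) F160318 D192078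
theorem F385449 : act 3 n182446 = n192078 := d20_3 (iv4 F74702) D102391 (iv4 F356511) (iv1 D192078) F153385 (iv4 F153387) F289918 (iv4 F289916) (iv3 D102544) (iv1 D47563)
theorem F385450 : act 6 n185136 = n192078 := d21_3 D190208 F383090 F383089 (iv1 D192078) (iv6 D99636) D99635 D192075 F385442 (iv6 F335331) F157292
theorem F385451 : act 2 n192078 = n102000 := d3_1 F385450 (iv6 F370938) F370935
theorem F385452 : act 4 n192078 = n189869 := d10_1 F385450 (iv6 F381183) (iv4 F373598)
def n192079 : Q := act 5 n99636
theorem D192079 : act 5 n99636 = n192079 := rfl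
theorem F385453 : act 2 n192079 = n154955 := d2_1 D192079 (iv5 F385440) F385437
theorem F385454 : act 3 n192079 = n99649 := d6_1 D192079 (iv5 D99649) (iv3 F153385)
theorem F385455 : act 4 n192079 = n151282 := d16_2 F160318 D192079 (iv5 D151282) D151281 F379157 (iv4 D190236) F369586 (iv7 F161647) (iv2 F160317)
theorem F385456 : act 5 n148655 = n190239 := d16_1 D148655 (iv4 D190239) (iv5 F160319) F160318 D192079 F385455 (iv5 D151282) F318395 (iv2 F318390)
theorem F385457 : act 0 n192079 = n186752 := d17_2 (iv1 D192078) D192079 (iv5 D186752) F136802 D183216 (iv0 F289706) F147378 D189869 (iv4 F385452)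
theorem F385458 : act 3 n190239 = n190856 := d6_1 F385456 F381344 F331348
theorem F385459 : act 6 n190855 = n190239 := d7_0 F385458 (iv6 D190856) D190855
theorem E103498 : n190240 = n190110 := (c10_3 F385459 (iv4 D190239) D190240 (iv4 F381342))
theorem F385460 : act 6 n190110 = n95758 := (sb E103498 (iv6 D190240))
theorem F385461 : act 7 n158952 = n192079 := d11_0 F385455 F238005 (iv4 F250288)
def n192080 : Q := act 7 n99636
theorem D192080 : act 7 n99636 = n192080 := rfl
theorem F385462 : act 3 n192080 = n99650 := d8_1 D192080 (iv7 D99650) (iv3 F153385)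
theorem F385463 : act 4 n192080 = n104707 := d11_1 D192080 F161637 F160318
theorem F385464 : act 5 n192080 = n158952 := d13_1 D192080 F385461 (iv5 D192079)
theorem F385465 : act 6 n192080 = n182316 := d14_1 D192080 (iv7 F380741) F380740 F153414 D99636
theorem F385466 : act 1 n102000 = n192080 := d15_1 (iv0 F385441) (iv7 D192080) (iv2 F385437)
def n192081 : Q := act 5 n99653
theorem D192081 : act 5 n99653 = n192081 := rfl
theorem F385467 : act 3 n192081 = n99740 := d6_1 D192081 (iv5 D99740) F153403
theorem F385468 : act 7 n192081 = n100996 := d13_2 (iv7 F290153) D192081 (iv5 D100996)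
theorem F385469 : act 0 n192081 = n99671 := d17_2 (iv1 F153407) D192081 (iv5 F384677) F384679 F251695 F183755 F183752 F139325 D90526
theorem F385470 : act 6 n135980 = n192081 := d14_5 F385468 (iv6 F242115) F365829 (iv6 D136989) (iv7 F218756)
theorem F385471 : act 4 n192081 = n138324 := d10_1 F385470 F221517 (iv4 F218755)
def n192082 : Q := act 0 n99656
theorem D192082 : act 0 n99656 = n192082 := rfl
theorem F385472 : act 4 n192082 = n102570 := d18_3 (iv1 F137481) (iv4 F293633) D192082 (iv5 F367586) (iv4 F379790) F379793 (iv4 D189622) F331370 (iv5 D102901)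
theorem F385473 : act 3 n192082 = n105041 := d20_5 F376081 F356319 F153483 (iv3 F153481) D192082 (iv4 F288642) F339781 F380799 (iv3 F380800) (iv1 F378135)
theorem F385474 : act 2 n102110 = n192082 := d15_3 (iv0 D192082) (iv0 F372814) F372813
theorem F385475 : act 1 n187165 = n192082 := d15_0 (iv0 D192082) F367096 (iv2 F369296)
theorem F385476 : act 7 n192082 = n182411 := d15_2 F372815 F385475 (iv2 F372810)
theorem F385477 : act 6 n192082 = n185051 := d3_2 F372909 F385474 (iv2 F372908)
def n192083 : Q := act 2 n99666
theorem D192083 : act 2 n99666 = n192083 := rfl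
theorem F385478 : act 1 n192083 = n100748 := d15_0 (iv0 F385371) F385370 D192083
def n192084 : Q := act 4 n99666
theorem D192084 : act 4 n99666 = n192084 := rfl
theorem F385479 : act 3 n192084 = n118245 := d5_1 D192084 (iv4 F190931) (iv3 F341566) (iv4 D99667) D99666
theorem F385480 : act 6 n179905 = n192084 := d7_0 F385479 (iv6 F233011) D179905
def n192085 : Q := act 6 n99666
theorem D192085 : act 6 n99666 = n192085 := rfl
theorem F385481 : act 3 n192085 = n99669 := d7_1 D192085 (iv6 D99669) D99666
theorem F385482 : act 4 n192085 = n179905 := d10_1 D192085 F385480 (iv4 D192084)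
theorem F385483 : act 0 n192085 = n136381 := d20_4 F99793 D64982 (iv4 F341560) (iv3 F385481) (iv3 D136381) D136382 F346454 (iv4 F279694) (iv3 D179594) F313705
def n192086 : Q := act 5 n99669
theorem D192086 : act 5 n99669 = n192086 := rfl
theorem F385484 : act 6 n192086 = n100639 := d12_2 D99669 D192086 (iv5 F364434) (iv6 F364433) F157305
theorem F385485 : act 4 n192086 = n136652 := d16_2 (iv4 F341560) D192086 (iv5 F337494) (iv4 F312443) (iv5 F209822) (iv4 D65338) (iv5 F210490) F210491 (iv2 F210486)
theorem F385486 : act 0 n192086 = n139093 := d17_2 (iv1 F341558) D192086 (iv5 D139093) F101026 (iv5 F310089) (iv0 F191381) F107309 F191305 D86797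
theorem F385487 : act 1 n192086 = n139095 := d17_6 (iv1 D14524) D14526 D30648 (iv5 F210487) (iv4 F341560) D192086 (iv5 D139095) F101027 (iv4 D30642)
def n192087 : Q := act 2 n99671
theorem D192087 : act 2 n99671 = n192087 := rfl
theorem F385488 : act 5 n192087 = n189281 := d2_2 F384677 D192087 F384680
theorem F385489 : act 0 n192087 = n100996 := d21_7 D92768 F143079 (iv5 F109124) D98684 F333365 D189281 (iv5 F385488) (iv5 D100996) (iv6 D47059) (iv1 F68212)
def n192088 : Q := act 4 n99671
theorem D192088 : act 4 n99671 = n192088 := rfl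
theorem F385490 : act 0 n192088 = n187739 := d18_2 F385469 D192088 (iv4 D187739) (iv5 D90523) F65447 D42368 (iv4 F73563) D99653 D192081
theorem F385491 : act 0 n184689 = n192088 := d20_1 (iv4 F356746) (iv4 D192088) (iv3 D99671) (iv1 D46575) F34813 D22332 D46613 (iv4 F136345) (iv3 F367367) F367369
def n192089 : Q := act 6 n99671
theorem D192089 : act 6 n99671 = n192089 := rfl
theorem F385492 : act 3 n192089 = n99674 := d7_1 D192089 (iv6 D99674) D99671
theorem F385493 : act 0 n192089 = n136878 := d21_4 D137593 F384681 F384677 D192089 (iv6 D136878) D136877 (iv1 F225848) (iv5 D137342) D137343 F365513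
theorem F385494 : act 1 n192089 = n136441 := d15_1 (iv0 F385493) F219537 (iv2 F220062)
def n192090 : Q := act 3 n99672
theorem D192090 : act 3 n99672 = n192090 := rfl
theorem F385495 : act 2 n192090 = n120000 := d0_1 D192090 F361472 (iv2 F190932) (iv3 D118841) (iv2 F342537)
theorem F385496 : act 5 n192090 = n155351 := d6_2 (iv5 F342538) D192090 F244312
theorem F385497 : act 6 n192090 = n139768 := d7_2 (iv6 F342539) D192090 (iv3 D139768)
theorem F385498 : act 7 n192090 = n118846 := d8_2 (iv7 F342540) D192090 (iv3 D118846)
theorem F385499 : act 0 n192090 = n120001 := d19_4 (iv1 F342534) F289320 D99672 D192090 (iv5 F320355) F320354 (iv3 F317808) F317806 F343016 (iv4 F317611) (iv3 D93863) (iv1 D43876) (iv5 D20784) F15528 F15135 D10328 D21624 D45354 D97020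
theorem F385500 : act 0 n118697 = n192090 := d21_4 (iv5 D31932) (iv1 F42240) D54649 D118697 F385497 F361511 (iv1 D131182) F96076 (iv6 D33989) F50500
def n192091 : Q := act 0 n99674
theorem D192091 : act 0 n99674 = n192091 := rfl
theorem F385501 : act 4 n192091 = n179598 := d20_8 (iv4 F361613) (iv1 F341158) (iv4 D157285) D157284 F363472 (iv3 D139768) (iv4 F342541) D192091 (iv3 F341119) F344473
theorem F385502 : act 6 n192091 = n135961 := d21_5 (iv5 F342531) (iv1 F342534) F289320 D99674 D192091 (iv5 F220893) (iv1 F220975) F103040 D67065 D143121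
theorem F385503 : act 3 n99803 = n192091 := d7_3 F385502 (iv3 D135961) (iv6 F362585)
theorem F385504 : act 7 n192091 = n102227 := d8_2 (iv7 F365506) F385503 (iv3 D102227)
theorem F385505 : act 1 n139766 = n192091 := d18_6 F306057 (iv4 F306074) F190023 (iv4 F61210) (iv5 F310069) D139766 F385501 F306077 (iv5 D166049)
def n192092 : Q := act 1 n99674
theorem D192092 : act 1 n99674 = n192092 := rfl
theorem F385506 : act 1 n192092 = n139766 := d15_1 D192092 (iv7 F385374) F385372
theorem F385507 : act 4 n192092 = n179597 := d18_7 F131633 F57034 D36320 D79752 F312358 (iv4 F342541) D192092 (iv0 D179597) F303959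
theorem F385508 : act 3 n192092 = n101438 := d19_3 (iv1 F222402) (iv5 F282935) (iv4 F385507) (iv1 D101438) (iv5 F137174) (iv4 F368932) F368931 (iv1 F363076) (iv5 D134247) F168468 (iv3 F168467) F93622 (iv5 F53933) D74793 (iv3 F221754) (iv1 F341146) (iv5 D135459) (iv4 F207995) (iv3 F215882)
theorem F385509 : act 2 n102227 = n192092 := d15_3 F385506 F385505 F385504
def n192093 : Q := act 5 n99674
theorem D192093 : act 5 n99674 = n192093 := rfl
theorem F385510 : act 6 n192093 = n153636 := d12_2 D99674 D192093 F363130 (iv6 F289321) F289320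
theorem F385511 : act 4 n192093 = n153631 := d16_2 (iv4 F342541) D192093 (iv5 D153631) F109179 (iv5 D40228) (iv4 F61210) (iv5 F310069) (iv7 F311661) F311660
def n192094 : Q := act 7 n99674
theorem D192094 : act 7 n99674 = n192094 := rfl
theorem F385512 : act 2 n192094 = n139766 := d4_1 D192094 (iv7 F385374) F385372
theorem F385513 : act 4 n192094 = n105965 := d11_1 D192094 (iv7 F310070) (iv4 F342541)
theorem F385514 : act 6 n192094 = n138341 := d14_1 D192094 F221551 F363275 F288494 D99674
theorem F385515 : act 3 n136883 = n192094 := d20_5 F218030 (iv1 F216998) F100298 (iv3 F100295) D136883 F385513 F308057 (iv4 F219541) (iv3 D136447) (iv1 F218028)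
theorem F385516 : act 7 n192089 = n136883 := d8_0 F385515 (iv7 D192094) (iv3 F385492)
def n192095 : Q := act 0 n99677
theorem D192095 : act 0 n99677 = n192095 := rfl
theorem F385517 : act 5 n192095 = n175064 := d17_1 D192095 F274031 F322945 D142132 (iv5 F346907) (iv0 F346908) (iv5 F337158) (iv0 D99810) (iv4 F153487)
theorem F385518 : act 1 n114615 = n192095 := d15_0 (iv0 D192095) (iv7 F346754) F234189
theorem F385519 : act 2 n118242 = n192095 := d2_3 F385517 F274028 (iv5 F185773)
theorem F385520 : act 6 n192095 = n156356 := d3_2 (iv6 F185774) F385519 F316787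
def n192096 : Q := act 1 n99677
theorem D192096 : act 1 n99677 = n192096 := rfl
theorem F385521 : act 1 n192096 = n114615 := d15_1 D192096 (iv7 F264232) F346753
theorem F385522 : act 7 n192096 = n118242 := d15_2 (iv0 D192095) D192096 F385519
theorem F385523 : act 5 n192096 = n175347 := d17_7 D83739 (iv5 F249619) F350690 (iv5 D127990) (iv4 F205931) (iv5 F346749) D192096 (iv0 D175347) F128790
theorem F385524 : act 3 n118180 = n192096 := d20_3 D72612 D153562 F241378 (iv1 D192096) (iv3 D99677) (iv4 D46576) D46574 D99667 F341566 (iv1 D72611)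
theorem F385525 : act 6 n192096 = n144470 := d7_2 (iv6 F317329) F385524 (iv3 D144470)
def n192097 : Q := act 1 n99692
theorem D192097 : act 1 n99692 = n192097 := rfl
theorem F385526 : act 1 n192097 = n179891 := d15_1 D192097 F280154 (iv2 F321084)
theorem F385527 : act 7 n192097 = n101549 := d15_2 (iv0 F321083) D192097 (iv2 F200484)
theorem F385528 : act 3 n123114 = n192097 := d20_3 (iv4 D125360) D125358 F357866 (iv1 D192097) F153499 (iv4 F153502) (iv1 F272751) F152501 (iv3 F152500) F351633
theorem F385529 : act 6 n123111 = n192097 := d21_3 D70641 D150115 (iv5 F357835) (iv1 D192097) (iv6 D99692) (iv5 F327149) (iv1 F179691) (iv5 F362714) (iv6 D150114) (iv1 D70640)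
theorem F385530 : act 2 n192097 = n179932 := d3_1 F385529 F280312 (iv2 F357834)
def n192098 : Q := act 4 n99700
theorem D192098 : act 4 n99700 = n192098 := rfl
theorem F385531 : act 2 n192098 = n101770 := d1_1 D192098 (iv4 D101770) F155832
theorem F385532 : act 7 n192098 = n101773 := d11_2 F155834 D192098 (iv4 D101773)
theorem F385533 : act 5 n192098 = n127107 := d16_1 D192098 F204361 (iv5 F357402) F357401 (iv5 F304816) F304815 F329873 (iv7 F329874) F155832
theorem F385534 : act 3 n127108 = n192098 := d6_3 F385533 F204360 D127108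
def n192099 : Q := act 0 n99702
theorem D192099 : act 0 n99702 = n192099 := rfl
theorem F385535 : act 4 n192099 = n100500 := d18_3 (iv1 F329871) D99702 D192099 (iv5 D100500) (iv4 F154556) F272862 (iv4 D101862) (iv0 F156331) F329873
theorem F385536 : act 3 n191519 = n101874 := d20_3 F385535 (iv1 F275131) D191519 (iv1 F357632) F204360 F94068 (iv1 F82556) F168374 (iv3 F328192) D192099
theorem F385537 : act 2 n101774 = n192099 := d15_3 (iv0 D192099) (iv0 F383640) (iv7 F361825)
theorem F385538 : act 1 n99718 = n192099 := d15_0 (iv0 D192099) F156699 (iv2 F156720)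
theorem F385539 : act 7 n192099 = n101775 := d15_2 F383641 F385538 (iv2 F361824)
theorem F385540 : act 6 n112862 = n192099 := d14_5 F385539 (iv6 F275129) F361818 (iv6 F352891) (iv7 F352951)
theorem E103499 : n101882 = n101872 := ((c6_4 F383651 F385536 (iv5 D101874) D101872)).symm
theorem F385541 : act 0 n101872 = n47341 := (sb E103499 (iv1 D101882))
theorem F385542 : act 5 n101872 = n191519 := (sb E103499 F383651)
def n192100 : Q := act 5 n99702
theorem D192100 : act 5 n99702 = n192100 := rfl
theorem F385543 : act 2 n192100 = n101777 := d2_1 D192100 (iv5 D101777) (iv2 F156698)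
theorem F385544 : act 3 n192100 = n143992 := d6_1 D192100 (iv5 D143992) (iv3 F328192)
theorem F385545 : act 7 n192100 = n101829 := d13_2 (iv7 F156699) D192100 (iv5 D101829)
theorem F385546 : act 1 n192100 = n191522 := d17_6 (iv1 D46589) (iv5 D22321) D22319 D46581 D99702 D192100 (iv5 D191522) F272741 (iv4 D99731)
def n192101 : Q := act 0 n99703
theorem D192101 : act 0 n99703 = n192101 := rfl
theorem F385547 : act 5 n192101 = n187009 := d19_1 D192101 (iv4 F368820) F288543 F292105 (iv5 D90464) (iv4 D42333) F35700 (iv1 F31969) F31966 (iv4 F32588) (iv3 F68145) (iv1 F142913) F359535 F179261 F83855 (iv1 F48349) D63554 D135240 (iv3 F365731)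
theorem F385548 : act 6 n192101 = n99759 := d21_5 (iv5 D22321) D22319 D46581 D99703 D192101 (iv5 F368304) (iv1 D186856) (iv5 F153531) (iv6 D99732) (iv1 D46589)
theorem F385549 : act 2 n101780 = n192101 := d3_3 F385548 F344571 (iv6 F156982)
theorem F385550 : act 7 n101781 = n192101 := d14_0 F385548 F344573 D102041 (iv7 F352878) F368834
theorem F385551 : act 0 n192101 = n101783 := d21_10 F368854 (iv1 F368861) (iv5 D102229) (iv6 F368864) (iv1 F375840) F375839 (iv5 F359477) (iv1 F368302) F368304 (iv6 F385548)
def n192102 : Q := act 1 n99703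
theorem D192102 : act 1 n99703 = n192102 := rfl
theorem F385552 : act 1 n192102 = n101783 := d15_1 D192102 (iv7 D101783) (iv2 F156700)
theorem F385553 : act 7 n192102 = n101780 := d15_2 (iv0 D192101) D192102 F385549
theorem F385554 : act 5 n192102 = n187008 := d17_7 F353219 (iv5 D182925) (iv1 F152410) (iv5 F384289) F384288 F368410 D192102 (iv0 D187008) F365784
theorem F385555 : act 2 n101781 = n192102 := d2_3 F385554 (iv2 F368829) F157085
def n192103 : Q := act 7 n99703
theorem D192103 : act 7 n99703 = n192103 := rfl
theorem F385556 : act 2 n192103 = n101783 := d4_1 D192103 (iv7 D101783) (iv2 F156700)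
theorem F385557 : act 3 n192103 = n135571 := d8_1 D192103 F218015 (iv3 F365731)
theorem F385558 : act 5 n192103 = n191726 := d13_1 D192103 F384285 F368410
theorem F385559 : act 6 n192103 = n101833 := d14_1 D192103 (iv7 D101833) (iv6 D47323) F156701 D99703
theorem F385560 : act 1 n101781 = n192103 := d15_1 D101781 (iv7 D192103) F156700
theorem F385561 : act 1 n192103 = n101780 := d15_1 F385560 (iv7 F385553) (iv2 F385555)
def n192104 : Q := act 5 n99706
theorem D192104 : act 5 n99706 = n192104 := rfl
theorem F385562 : act 2 n192104 = n101785 := d2_1 D192104 (iv5 D101785) (iv2 F156670)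
theorem F385563 : act 6 n192104 = n187018 := d12_2 F308583 D192104 (iv5 F385196) (iv6 D192011) (iv5 F308582)
theorem F385564 : act 7 n192104 = n101575 := d13_2 (iv7 F156671) D192104 (iv5 D101575)
theorem F385565 : act 1 n192104 = n100905 := d17_6 (iv1 F112950) D75622 (iv1 F249704) (iv5 F307529) F307528 D192104 (iv5 D100905) F74281 (iv4 F112947)
theorem F385566 : act 0 n192104 = n100900 := d21_1 D192104 (iv5 D100900) D100901 F338067 (iv6 D47045) D47044 (iv1 F155069) (iv5 F156730) F156731 (iv1 F156669)
def n192105 : Q := act 4 n99713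
theorem D192105 : act 4 n99713 = n192105 := rfl
theorem F385567 : act 2 n192105 = n127062 := d1_1 D192105 (iv4 F219292) F354503
theorem F385568 : act 6 n192105 = n172400 := d10_2 F357394 D192105 (iv4 F273769)
theorem F385569 : act 7 n192105 = n101735 := d11_2 (iv7 F156715) D192105 (iv4 D101735)
theorem F385570 : act 5 n192105 = n172508 := d16_1 D192105 F354768 (iv5 F345741) F258048 (iv5 F328022) F324278 (iv5 F327150) (iv7 F219293) F354503
theorem F385571 : act 1 n126956 = n192105 := d15_1 (iv0 F351803) F385569 (iv2 F357888)
def n192106 : Q := act 5 n99715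
theorem D192106 : act 5 n99715 = n192106 := rfl
theorem F385572 : act 2 n192106 = n103274 := d2_1 D192106 (iv5 F332037) (iv2 F360161)
theorem F385573 : act 3 n192106 = n99716 := d6_1 D192106 (iv5 D99716) D99715
theorem F385574 : act 6 n192106 = n103049 := d12_2 F360162 D192106 F293994 (iv6 F159618) F307371
theorem F385575 : act 7 n192106 = n101756 := d13_2 (iv7 F156716) D192106 (iv5 D101756)
theorem F385576 : act 4 n192106 = n184426 := d16_2 F344056 D192106 F358417 F287723 F354536 F358122 (iv5 F344717) (iv7 F191348) (iv2 F334404)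
theorem F385577 : act 1 n192106 = n115692 := d17_6 (iv1 D158790) D158791 F345765 F345766 F344056 D192106 F359936 F358081 (iv4 F307476)
theorem F385578 : act 1 n174485 = n192106 := d15_1 (iv0 F363236) F385575 (iv2 F351796)
def n192107 : Q := act 4 n99716
theorem D192107 : act 4 n99716 = n192107 := rfl
theorem F385579 : act 2 n192107 = n101822 := d1_1 D192107 (iv4 D101822) (iv2 F156717)
theorem F385580 : act 7 n192107 = n101761 := d11_2 (iv7 F156718) D192107 (iv4 D101761)
theorem F385581 : act 0 n192107 = n136007 := d17_0 F357402 D139293 F357630 (iv4 F287016) F287017 (iv0 F272860) F337650 F337649 D192107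
theorem F385582 : act 1 n192107 = n136006 := d18_6 (iv1 F59444) F35296 (iv1 F34816) D46585 D99716 D192107 F337652 (iv0 D175698) (iv5 D83877)
theorem F385583 : act 3 n102282 = n192107 := d8_3 F385580 F325768 (iv7 F346634)
theorem F385584 : act 6 n102279 = n192107 := d14_5 F385580 F325769 F99479 D64362 (iv7 F346668)
def n192108 : Q := act 6 n99716
theorem D192108 : act 6 n99716 = n192108 := rfl
theorem F385585 : act 2 n192108 = n101823 := d3_1 D192108 (iv6 D101823) (iv2 F156717)
theorem F385586 : act 3 n192108 = n103049 := d7_1 D192108 (iv6 F385574) F385573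
theorem F385587 : act 4 n192108 = n102279 := d10_1 D192108 F385584 (iv4 D192107)
theorem F385588 : act 7 n192108 = n103275 := d14_2 (iv7 F156718) D192108 F331265 (iv7 F100382) F325770
theorem F385589 : act 5 n103278 = n192108 := d21_2 (iv5 D103281) D103278 (iv6 D192108) (iv1 F337649) F337653 (iv5 F348512) F348510 (iv5 F323563) D107715 F352786
theorem F385590 : act 0 n136715 = n192108 := d21_4 F300734 (iv1 F300498) (iv5 F264158) (iv6 F343450) (iv6 D192108) (iv5 D99716) F272739 D98116 F151277 (iv1 F300733)
theorem F385591 : act 1 n136716 = n192108 := d15_1 D136716 F385588 F331263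
def n192109 : Q := act 5 n99717
theorem D192109 : act 5 n99717 = n192109 := rfl
theorem F385592 : act 2 n192109 = n101826 := d2_1 D192109 (iv5 D101826) (iv2 F156719)
theorem F385593 : act 3 n192109 = n104137 := d6_1 D192109 F307371 F332034
theorem F385594 : act 6 n192109 = n103278 := d12_2 D99717 D192109 F385589 (iv6 D192108) (iv5 D99716)
theorem F385595 : act 7 n192109 = n174473 := d13_2 F271111 D192109 (iv5 F273356)
theorem F385596 : act 0 n192109 = n100116 := d17_2 (iv1 F184680) D192109 (iv5 D100116) (iv4 D46734) D46735 F154041 F154036 F275137 (iv4 F151917)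
theorem F385597 : act 1 n192109 = n100097 := d17_6 D46492 D99440 F153517 (iv5 D99722) (iv4 F153514) D192109 (iv5 D100097) (iv0 F155451) F59012
theorem F385598 : act 4 n192109 = n145391 := d18_5 (iv1 F309560) (iv4 F306920) F156724 (iv4 F153514) D192109 (iv0 D145391) (iv4 F204056) F331960 F331847
theorem F385599 : act 7 n145391 = n107339 := d11_2 (iv7 F385595) F385598 F343467
def n192110 : Q := act 3 n99718
theorem D192110 : act 3 n99718 = n192110 := rfl
theorem F385600 : act 2 n192110 = n143994 := d0_1 D192110 (iv3 D143994) (iv2 F168109) F328193 (iv2 F156720)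
theorem F385601 : act 7 n192110 = n101776 := d8_2 (iv7 F156721) D192110 (iv3 D101776)
theorem F385602 : act 0 n177563 = n192110 := d20_4 (iv4 D142384) (iv1 F320419) (iv4 F200883) (iv3 F366322) (iv3 D192110) (iv4 D99718) F329872 (iv4 F220729) F220728 (iv1 F347184)
def n192111 : Q := act 5 n99718
theorem D192111 : act 5 n99718 = n192111 := rfl
theorem F385603 : act 2 n192111 = n101829 := d2_1 D192111 (iv5 D101829) (iv2 F156720)
theorem F385604 : act 7 n192111 = n101777 := d13_2 (iv7 F156721) D192111 (iv5 D101777)
theorem F385605 : act 4 n192111 = n136008 := d16_2 D99718 D192111 (iv5 D136008) (iv4 F100387) (iv5 F324656) (iv4 D46580) D46581 (iv7 F156701) (iv2 F156705)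
theorem F385606 : act 0 n192111 = n191522 := d17_2 (iv1 F385538) D192111 (iv5 D191522) (iv4 D98503) (iv5 D46062) D46061 D98499 F275131 (iv4 F385535)
def n192112 : Q := act 6 n99718
theorem D192112 : act 6 n99718 = n192112 := rfl
theorem F385607 : act 2 n192112 = n101830 := d3_1 D192112 (iv6 D101830) (iv2 F156720)
theorem F385608 : act 4 n192112 = n99719 := d10_1 D192112 (iv6 D99719) D99718
theorem F385609 : act 0 n102024 = n192112 := d21_4 (iv5 F136258) (iv1 F137242) F137239 D102024 (iv6 D192112) D192111 F385606 (iv5 D191522) F151903 F73788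
def n192113 : Q := act 0 n99719
theorem D192113 : act 0 n99719 = n192113 := rfl
theorem F385610 : act 6 n192113 = n102016 := d21_5 F35300 (iv1 F34816) D46586 D99719 D192113 (iv5 F295030) (iv1 F143884) F295175 (iv6 D99728) (iv1 F73574)
theorem F385611 : act 5 n192113 = n100972 := d21_0 (iv1 F361949) F220349 (iv6 F346659) (iv1 F153652) (iv6 D47343) F35300 (iv1 F34816) D46586 D99719 D192113
theorem F385612 : act 2 n101831 = n192113 := d15_3 (iv0 D192113) (iv0 F153515) (iv7 F346653)
theorem F385613 : act 7 n192113 = n99756 := d4_2 (iv7 F346653) F385612 F153569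
theorem F385614 : act 1 n101833 = n192113 := d15_1 F156793 F385613 F153569
def n192114 : Q := act 5 n99719
theorem D192114 : act 5 n99719 = n192114 := rfl
theorem F385615 : act 2 n192114 = n101832 := d2_1 D192114 (iv5 D101832) (iv2 F156722)
theorem F385616 : act 3 n192114 = n139294 := d6_1 D192114 (iv5 F357395) (iv3 F357419)
theorem F385617 : act 6 n192114 = n99722 := d12_2 D99719 D192114 (iv5 D99722) (iv6 D46587) D46586
theorem F385618 : act 0 n192114 = n137184 := d21_1 D192114 (iv5 D137184) (iv6 F352811) (iv1 D99793) (iv6 D46609) (iv5 F72997) (iv1 F73000) F64793 D47386 F153515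
theorem F385619 : act 0 n137179 = n192114 := d21_1 D137179 (iv5 D192114) (iv6 D99719) F329872 (iv6 D64653) F221259 (iv1 D64479) (iv5 D30359) D30360 D64482
theorem F385620 : act 0 n188329 = n186789 := d21_1 (iv5 F373088) (iv5 F385046) (iv6 D191974) F153517 (iv6 F385617) (iv5 D192114) D192113 F385611 (iv6 F374460) (iv1 F374462)
theorem F385621 : act 0 n100955 = n189071 := d21_4 (iv5 D99722) D99720 F153516 D100955 (iv6 D189071) (iv5 F373088) F385620 (iv5 F385046) (iv6 D191974) F153517
def n192115 : Q := act 7 n99719
theorem D192115 : act 7 n99719 = n192115 := rfl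
theorem F385622 : act 2 n192115 = n101833 := d4_1 D192115 (iv7 D101833) (iv2 F156722)
theorem F385623 : act 3 n192115 = n175723 := d8_1 D192115 F357423 (iv3 F357419)
theorem F385624 : act 6 n192115 = n101783 := d14_1 D192115 (iv7 D101783) (iv6 D47306) (iv7 F156706) D99719
theorem F385625 : act 1 n99756 = n192115 := d15_1 (iv0 F153571) (iv7 D192115) F156722
theorem F385626 : act 1 n192115 = n101831 := d15_1 F385625 F346653 (iv2 F153569)
def n192116 : Q := act 4 n99722
theorem D192116 : act 4 n99722 = n192116 := rfl
theorem F385627 : act 2 n192116 = n101836 := d1_1 D192116 (iv4 D101836) (iv2 F156725)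
theorem F385628 : act 7 n192116 = n145403 := d11_2 (iv7 F156726) D192116 (iv4 F366171)
theorem F385629 : act 0 n192116 = n100118 := d18_2 F153517 D192116 (iv4 D100118) (iv5 D46735) D46734 F155449 F59276 F73449 D99440
theorem F385630 : act 1 n192116 = n100102 := d18_6 (iv1 F310555) (iv4 F151917) (iv1 F184680) F153514 D99722 D192116 (iv4 D100102) D100101 F310557
theorem F385631 : act 3 n107155 = n192116 := d8_3 F385628 F228434 (iv7 F165130)
theorem F385632 : act 5 n107154 = n192116 := d13_3 F385628 (iv5 D145403) (iv7 F165128)
def n192117 : Q := act 0 n99726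
theorem D192117 : act 0 n99726 = n192117 := rfl
theorem F385633 : act 4 n192117 = n186629 := d18_3 D46588 D99726 D192117 F367494 F136506 F272737 (iv4 D46580) (iv0 D22319) D22321
theorem F385634 : act 2 n101844 = n192117 := d15_3 (iv0 D192117) F272743 F156805
theorem F385635 : act 1 n99731 = n192117 := d15_0 (iv0 D192117) (iv7 F156411) (iv2 F156412)
theorem F385636 : act 7 n192117 = n101845 := d15_2 F272741 F385635 (iv2 F156807)
theorem F385637 : act 6 n103349 = n192117 := d21_3 F352881 (iv1 F147092) D103349 (iv1 F385635) F359476 F169709 (iv1 D51656) D51658 (iv6 F340547) (iv1 F352883)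
theorem F385638 : act 3 n192117 = n190506 := d7_1 F385637 (iv6 D190506) (iv3 F158625)
def n192118 : Q := act 5 n99726
theorem D192118 : act 5 n99726 = n192118 := rfl
theorem F385639 : act 2 n192118 = n101847 := d2_1 D192118 (iv5 D101847) (iv2 F156404)
theorem F385640 : act 3 n192118 = n143984 := d6_1 D192118 (iv5 F365015) F357415
theorem F385641 : act 7 n192118 = n101860 := d13_2 F156411 D192118 (iv5 D101860)
theorem F385642 : act 1 n192118 = n142364 := d17_6 D47303 F74536 F155790 (iv5 D99727) D99726 D192118 (iv5 F361827) (iv0 D101774) (iv4 D47305)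
def n192119 : Q := act 0 n99728
theorem D192119 : act 0 n99728 = n192119 := rfl
theorem F385643 : act 6 n192119 = n99804 := d21_5 F74536 F155790 (iv5 D99727) D99728 D192119 (iv5 F368848) F368850 (iv5 D101782) (iv6 D47306) D47303
theorem F385644 : act 5 n192119 = n188350 := d21_0 (iv1 D188350) F366997 F371052 (iv1 F218566) (iv6 F346673) F74536 F155790 (iv5 D99727) D99728 D192119
theorem F385645 : act 2 n101850 = n192119 := d15_3 (iv0 D192119) F352559 (iv7 F368865)
theorem F385646 : act 1 n101852 = n192119 := d15_0 (iv0 D192119) (iv7 F375837) F375835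
theorem F385647 : act 7 n192119 = n101851 := d15_2 (iv0 F352560) F385646 F365270
def n192120 : Q := act 4 n99730
theorem D192120 : act 4 n99730 = n192120 := rfl
theorem F385648 : act 7 n192120 = n101841 := d11_2 (iv7 F156402) D192120 (iv4 D101841)
theorem F385649 : act 0 n192120 = n163175 := d17_0 F342301 D172507 (iv5 F349883) F221421 F327150 F322811 D83502 (iv0 F287095) D192120
theorem F385650 : act 5 n192120 = n163123 := d18_4 (iv1 F277059) D177664 F351875 D192120 (iv4 F358041) F277079 (iv4 D84601) F129771 D177597
def n192121 : Q := act 6 n99730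
theorem D192121 : act 6 n99730 = n192121 := rfl
theorem F385651 : act 3 n192121 = n99732 := d7_1 D192121 (iv6 D99732) D99730
theorem F385652 : act 5 n192121 = n123604 := d12_1 D192121 (iv6 D123604) F301487 D89290 (iv5 F153530)
theorem F385653 : act 0 n136384 = n192121 := d21_4 D115391 F346458 (iv5 D136383) D136384 (iv6 D192121) F153530 (iv1 F354486) (iv5 F354494) F354495 (iv1 D115389)
def n192122 : Q := act 3 n99731
theorem D192122 : act 3 n99731 = n192122 := rfl
theorem F385654 : act 7 n192122 = n101846 := d8_2 (iv7 F156403) D192122 (iv3 D101846)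
def n192123 : Q := act 5 n99731
theorem D192123 : act 5 n99731 = n192123 := rfl
theorem F385655 : act 2 n192123 = n101860 := d2_1 D192123 (iv5 D101860) (iv2 F156412)
theorem F385656 : act 6 n192123 = n121055 := d12_2 (iv6 F359476) D192123 (iv5 D121055) F325208 (iv5 F169709)
theorem F385657 : act 7 n192123 = n101847 := d13_2 (iv7 F156403) D192123 (iv5 D101847)
theorem F385658 : act 0 n192123 = n142364 := d17_2 (iv1 F385635) D192123 (iv5 F361827) (iv4 F384956) (iv5 D191948) F272802 F151902 F367496 (iv4 F385633)
def n192124 : Q := act 0 n99732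
theorem D192124 : act 0 n99732 = n192124 := rfl
theorem F385659 : act 5 n192124 = n102042 := d17_1 D192124 (iv1 F156991) F329749 (iv4 F328447) F171079 (iv0 D50602) D50605 D109719 F352823
theorem F385660 : act 2 n101863 = n192124 := d15_3 (iv0 D192124) F352821 F349522
theorem F385661 : act 6 n192124 = n137154 := d3_2 (iv6 F346654) F385660 F352858
theorem F385662 : act 7 n192124 = n101864 := d4_2 F349522 F385660 F352816
theorem F385663 : act 1 n101866 = n192124 := d15_1 F352822 F385662 F352816
def n192125 : Q := act 7 n99732
theorem D192125 : act 7 n99732 = n192125 := rfl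
theorem F385664 : act 2 n192125 = n101866 := d4_1 D192125 (iv7 D101866) F156413
theorem F385665 : act 4 n192125 = n109330 := d11_1 D192125 F171072 F352823
theorem F385666 : act 5 n192125 = n186857 := d13_1 D192125 (iv7 D186857) (iv5 F153531)
theorem F385667 : act 6 n192125 = n101852 := d14_1 D192125 (iv7 D101852) (iv6 D47332) F156390 D99732
theorem F385668 : act 1 n101864 = n192125 := d15_1 D101864 (iv7 D192125) (iv2 F156413)
theorem F385669 : act 1 n192125 = n101863 := d15_1 F385668 (iv7 F349522) (iv2 F352816)
def n192126 : Q := act 3 n99733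
theorem D192126 : act 3 n99733 = n192126 := rfl
theorem F385670 : act 7 n192126 = n101872 := d8_2 (iv7 F286967) D192126 (iv3 D101872)
theorem F385671 : act 0 n192126 = n101885 := d20_4 (iv4 F156808) D186628 F367489 D192126 F357158 (iv4 F202878) F202881 F357411 (iv3 D101859) (iv1 F156806)
theorem F385672 : act 2 n192126 = n101881 := d15_3 (iv0 D101881) (iv0 F385541) (iv7 F385670)
def n192127 : Q := act 5 n99733
theorem D192127 : act 5 n99733 = n192127 := rfl
theorem F385673 : act 2 n192127 = n101869 := d2_1 D192127 (iv5 D101869) (iv2 F286966)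
theorem F385674 : act 7 n192127 = n101874 := d13_2 (iv7 F286967) D192127 (iv5 D101874)
theorem F385675 : act 0 n192127 = n113082 := d17_2 D99733 D192127 (iv5 F365323) (iv4 D101773) (iv5 F155836) F153524 (iv5 D99727) (iv0 D46588) D46590
def n192128 : Q := act 6 n99733
theorem D192128 : act 6 n99733 = n192128 := rfl
theorem F385676 : act 2 n192128 = n101870 := d3_1 D192128 (iv6 D101870) (iv2 F286966)
def n192129 : Q := act 3 n99734
theorem D192129 : act 3 n99734 = n192129 := rfl
theorem F385677 : act 4 n192129 = n115727 := d5_2 (iv4 F286964) D192129 F351087 (iv4 D124382) D124381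
theorem F385678 : act 6 n192129 = n115659 := d7_2 F349517 D192129 F349842
theorem F385679 : act 7 n192129 = n101868 := d8_2 (iv7 F286965) D192129 (iv3 D101868)
theorem F385680 : act 4 n101868 = n156304 := d11_1 F385679 F245617 (iv4 F385677)
def n192130 : Q := act 5 n99734
theorem D192130 : act 5 n99734 = n192130 := rfl
theorem F385681 : act 2 n192130 = n101874 := d2_1 D192130 (iv5 D101874) (iv2 F286963)
theorem F385682 : act 6 n192130 = n173834 := d12_2 F349517 D192130 (iv5 D173834) F325901 D109425
theorem F385683 : act 7 n192130 = n101869 := d13_2 (iv7 F286965) D192130 (iv5 D101869)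
theorem F385684 : act 1 n192130 = n113082 := d17_6 (iv1 F383634) F383635 (iv1 D167068) (iv5 F303337) (iv4 F286964) D192130 (iv5 F365323) (iv0 F383649) (iv4 D191519)
def n192131 : Q := act 0 n99735
theorem D192131 : act 0 n99735 = n192131 := rfl
theorem F385685 : act 4 n192131 = n119280 := d20_2 F385424 D192131 F312390 (iv1 D72756) (iv3 F109147) (iv4 F241404) F347173 (iv4 D155899) D155898 F385428
theorem F385686 : act 0 n103295 = n192122 := d20_4 F385685 (iv1 D119280) (iv4 F187740) F361900 (iv3 D192122) (iv4 D99731) (iv1 D46589) D46590 D99735 D192131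
theorem F385687 : act 2 n153173 = n192131 := d1_3 F385685 F312389 D153173
theorem F385688 : act 6 n144523 = n192131 := d10_0 F385685 F340938 D144523
def n192132 : Q := act 1 n99735
theorem D192132 : act 1 n99735 = n192132 := rfl
theorem F385689 : act 7 n192132 = n153173 := d15_2 (iv0 D192131) D192132 F385687
theorem F385690 : act 4 n192132 = n118999 := d18_7 (iv1 F209040) (iv4 F307748) (iv1 F335236) (iv4 F284948) (iv5 F385425) F385424 D192132 (iv0 F187128) F86833
theorem F385691 : act 3 n144257 = n192132 := d20_3 F103475 D67601 (iv4 F226944) (iv1 D192132) (iv3 D99735) (iv4 D46590) D46588 D99726 (iv3 F357415) F226995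
theorem F385692 : act 6 n192132 = n178884 := d7_2 (iv6 F226946) F385691 F347164
def n192133 : Q := act 2 n99735
theorem D192133 : act 2 n99735 = n192133 := rfl
theorem F385693 : act 3 n192133 = n101878 := d0_2 D99735 D192133 (iv2 D101878) (iv3 D47340) (iv2 F73570)
theorem F385694 : act 6 n192133 = n99812 := d3_2 (iv6 F153533) D192133 (iv2 D99812)
theorem F385695 : act 7 n144198 = n192133 := d14_0 F385694 (iv7 F368755) F368754 (iv7 F310918) D144198
theorem F385696 : act 1 n192132 = n144198 := d15_1 D192132 F385695 (iv2 D192133)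
def n192134 : Q := act 5 n99735
theorem D192134 : act 5 n99735 = n192134 := rfl
theorem F385697 : act 3 n192134 = n99736 := d6_1 D192134 (iv5 D99736) D99735
theorem F385698 : act 1 n192134 = n111983 := d17_6 (iv1 F361945) F357075 F339025 (iv5 F385425) F385424 D192134 F346861 F347189 F246890
def n192135 : Q := act 7 n99735
theorem D192135 : act 7 n99735 = n192135 := rfl
theorem F385699 : act 2 n192135 = n144198 := d4_1 D192135 F385695 (iv2 D192133)
theorem F385700 : act 3 n192135 = n99737 := d8_1 D192135 (iv7 D99737) D99735
theorem F385701 : act 4 n192135 = n150024 := d11_1 D192135 (iv7 F385427) F385424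
theorem F385702 : act 6 n192135 = n118963 := d14_1 D192135 F323194 (iv6 F335759) (iv7 F137112) (iv6 F153533)
theorem F385703 : act 1 n144198 = n192131 := d15_0 (iv0 D192131) D192135 F385699
theorem F385704 : act 0 n153173 = n192135 := d18_2 F215870 D153173 F385701 F236015 (iv4 F209463) F335231 (iv4 D143796) (iv0 F318427) (iv5 F307610)
theorem F385705 : act 1 n153173 = n192133 := d15_1 (iv0 F385704) (iv7 F385695) (iv2 F385699)
def n192136 : Q := act 0 n99736
theorem D192136 : act 0 n99736 = n192136 := rfl
def n192137 : Q := act 1 n99736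
theorem D192137 : act 1 n99736 = n192137 := rfl
theorem F385706 : act 1 n192137 = n101885 := d15_1 D192137 (iv7 D101885) (iv2 F153534)
theorem F385707 : act 2 n101872 = n192137 := d15_3 F385706 (iv0 F385671) F385670
theorem F385708 : act 7 n192137 = n101881 := d4_2 F385670 F385707 (iv2 F385672)
theorem E103500 : n192136 = n192126 := ((c15_4 (iv0 D192136) D192137 F385708 (iv2 F385672))).symm
theorem F385709 : act 1 n192126 = n99736 := (sb E103500 (iv0 D192136))
def n192138 : Q := act 4 n99736
theorem D192138 : act 4 n99736 = n192138 := rfl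
theorem F385710 : act 2 n192138 = n101883 := d1_1 D192138 (iv4 D101883) (iv2 F153534)
theorem F385711 : act 5 n192138 = n101681 := d9_2 D99736 D192138 F156579 F74519 F35296 (iv5 F35300) (iv4 F74551) (iv5 F156827) (iv4 F335335) F335336 (iv4 D83886) (iv5 D38630) F29564 D22321 D46590
theorem F385712 : act 7 n101680 = n192138 := d13_0 F385711 (iv7 D101681) D101680
theorem F385713 : act 0 n136008 = n192138 := d17_2 (iv1 D136007) D136008 F385711 F156579 F74519 F59444 D83877 D175699 (iv4 F357401)
def n192139 : Q := act 7 n99736
theorem D192139 : act 7 n99736 = n192139 := rfl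
theorem F385714 : act 2 n192139 = n101885 := d4_1 D192139 (iv7 D101885) (iv2 F153534)
theorem F385715 : act 4 n192139 = n101680 := d11_1 D192139 F385712 (iv4 D192138)
theorem F385716 : act 5 n192139 = n99737 := d13_1 D192139 (iv7 D99737) D99736
theorem F385717 : act 6 n192139 = n144252 := d14_1 D192139 (iv7 F365280) F368777 F368772 F368771
theorem F385718 : act 1 n101872 = n192139 := d15_1 (iv0 F385541) (iv7 D192139) F153534
theorem F385719 : act 1 n192139 = n101881 := d15_1 F385718 (iv7 F385708) (iv2 F385707)
def n192140 : Q := act 6 n99755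
theorem D192140 : act 6 n99755 = n192140 := rfl
theorem F385720 : act 2 n192140 = n102019 := d3_1 D192140 (iv6 D102019) (iv2 F153564)
theorem F385721 : act 3 n192140 = n155965 := d7_1 D192140 F356238 (iv3 F356230)
theorem F385722 : act 4 n192140 = n99756 := d10_1 D192140 (iv6 D99756) D99755
theorem F385723 : act 5 n192140 = n109050 := d12_1 D192140 (iv6 D109050) D109049 (iv6 F353329) (iv5 F153565)
def n192141 : Q := act 3 n99759
theorem D192141 : act 3 n99759 = n192141 := rfl
theorem F385724 : act 2 n192141 = n101394 := d0_1 D192141 F357286 F335434 F349492 (iv2 F344571)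
theorem F385725 : act 5 n192141 = n153283 := d6_2 F368304 D192141 F368305
theorem F385726 : act 7 n192141 = n101395 := d8_2 (iv7 F344573) D192141 F357283
theorem F385727 : act 4 n192141 = n137694 := d20_6 (iv4 D30403) (iv1 F48534) (iv4 F99541) (iv3 F329362) D99759 D192141 (iv1 D137694) F100598 F48860 (iv1 F100005)
theorem F385728 : act 0 n101239 = n192141 := d18_0 F385727 (iv1 D137694) F100598 (iv5 F328818) (iv4 F106138) (iv0 F350770) (iv4 F368234) (iv0 D186845) (iv5 F155968)
theorem F385729 : act 1 n101397 = n192141 := d18_6 (iv1 D107286) F78324 (iv1 F319188) D69138 D147516 (iv4 F357295) F385727 F381493 F381491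
def n192142 : Q := act 1 n99780
theorem D192142 : act 1 n99780 = n192142 := rfl
theorem F385730 : act 1 n192142 = n102027 := d15_1 D192142 (iv7 F339829) (iv2 F339830)
theorem F385731 : act 7 n192142 = n102026 := d15_2 F380381 D192142 (iv2 F380378)
theorem F385732 : act 5 n192142 = n186951 := d17_7 D127674 F243096 (iv1 F315636) (iv5 D124525) (iv4 F315634) F363715 D192142 F368636 F205276
theorem F385733 : act 3 n116512 = n192142 := d20_3 (iv4 D119241) F321229 D116512 (iv1 D192142) (iv3 D99780) (iv4 D46605) (iv1 F73589) D99755 F356230 (iv1 F356231)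
theorem F385734 : act 6 n192142 = n103362 := d7_2 (iv6 F322198) F385733 F331348
theorem F385735 : act 2 n102025 = n192142 := d2_3 F385732 (iv2 F368639) (iv5 F346002)
def n192143 : Q := act 3 n99792
theorem D192143 : act 3 n99792 = n192143 := rfl
theorem F385736 : act 2 n192143 = n101426 := d0_1 D192143 F368246 (iv2 F329271) (iv3 D102177) (iv2 F329280)
theorem F385737 : act 7 n192143 = n102182 := d8_2 (iv7 F329281) D192143 (iv3 D102182)
theorem F385738 : act 4 n192143 = n134835 := d20_6 (iv4 D62015) (iv1 D29367) D29368 F329011 D99792 D192143 (iv1 D134835) (iv4 F214690) (iv3 D133502) (iv1 F97752)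
theorem F385739 : act 2 n134835 = n138527 := d1_1 F385738 (iv4 F368247) (iv2 F385736)
theorem E103501 : n102182 = n101427 := ((c15_2 (iv0 D101426) D101427 (iv7 F385737) F385736)).symm
theorem F385740 : act 3 n101427 = n47439 := (sb E103501 (iv3 D102182))
theorem F385741 : act 7 n101427 = n192143 := (sb E103501 (iv7 F385737))
def n192144 : Q := act 1 n99800
theorem D192144 : act 1 n99800 = n192144 := rfl
theorem F385742 : act 1 n192144 = n135879 := d15_1 D192144 F357917 (iv2 F357914)
theorem F385743 : act 7 n192144 = n135999 := d15_2 (iv0 F357913) D192144 F218798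
theorem F385744 : act 4 n192144 = n173356 := d18_7 (iv1 F353800) (iv4 F383278) F383279 (iv4 F358451) F302454 (iv4 F357915) D192144 F353791 F353795
theorem F385745 : act 2 n136919 = n192144 := d1_3 F385744 (iv2 F337516) F354162
theorem F385746 : act 6 n136907 = n192144 := d10_0 F385744 (iv6 F337535) (iv4 F220082)
def n192145 : Q := act 7 n99800
theorem D192145 : act 7 n99800 = n192145 := rfl
theorem F385747 : act 2 n192145 = n135879 := d4_1 D192145 F357917 (iv2 F357914)
theorem F385748 : act 3 n192145 = n99805 := d8_1 D192145 (iv7 D99805) (iv3 F153637)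
theorem F385749 : act 4 n192145 = n128254 := d11_1 D192145 F354140 (iv4 F357915)
theorem F385750 : act 6 n192145 = n102164 := d14_1 D192145 (iv7 D102164) (iv6 D47433) (iv7 F73613) D99800
theorem F385751 : act 1 n136919 = n192145 := d15_1 F354161 (iv7 D192145) F357914
theorem F385752 : act 1 n192145 = n135999 := d15_1 F385751 (iv7 F385743) (iv2 F385745)
def n192146 : Q := act 6 n99801
theorem D192146 : act 6 n99801 = n192146 := rfl
theorem F385753 : act 2 n192146 = n128250 := d3_1 D192146 F354129 (iv2 F346788)
theorem F385754 : act 3 n192146 = n99802 := d7_1 D192146 (iv6 D99802) D99801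
theorem F385755 : act 4 n192146 = n128065 := d10_1 D192146 F354127 (iv4 F337131)
theorem F385756 : act 5 n192146 = n190099 := d12_1 D192146 (iv6 F378854) F369949 (iv6 F337130) F289480
theorem F385757 : act 7 n192146 = n128255 := d14_2 (iv7 F153638) D192146 F358454 F97604 (iv6 F329578)
theorem F385758 : act 1 n133371 = n192146 := d15_1 D133371 F385757 F358453
theorem F385759 : act 1 n192146 = n133370 := d15_1 F385758 (iv7 F340951) F379193
def n192147 : Q := act 0 n99802
theorem D192147 : act 0 n99802 = n192147 := rfl
theorem F385760 : act 6 n192147 = n135939 := d21_5 (iv5 F137239) F137241 F136234 D99802 D192147 (iv5 F220894) (iv1 D137493) (iv5 D64628) F329625 (iv1 F74599)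
theorem F385761 : act 2 n102217 = n192147 := d3_3 F385760 (iv2 F218671) (iv6 F365459)
theorem F385762 : act 7 n102218 = n192147 := d15_2 (iv0 D102217) D102218 (iv2 F385761)
def n192148 : Q := act 1 n99802
theorem D192148 : act 1 n99802 = n192148 := rfl
theorem F385763 : act 1 n192148 = n102220 := d15_1 D192148 (iv7 D102220) (iv2 F153639)
theorem F385764 : act 7 n192148 = n102217 := d15_2 (iv0 D192147) D192148 F385761
theorem F385765 : act 2 n102218 = n192148 := d4_3 F385764 F385761 (iv7 F385762)
theorem F385766 : act 1 n102220 = n192147 := d15_1 F385763 (iv7 F385762) F385765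
def n192149 : Q := act 5 n99802
theorem D192149 : act 5 n99802 = n192149 := rfl
theorem F385767 : act 2 n192149 = n102219 := d2_1 D192149 (iv5 D102219) (iv2 F153639)
theorem F385768 : act 3 n192149 = n190099 := d6_1 D192149 (iv5 F385756) F385754
theorem F385769 : act 4 n192149 = n190873 := d16_6 (iv4 F135258) D185422 (iv4 F365784) F137135 (iv4 F153640) D192149 F381414 (iv7 F160419) (iv2 D104721)
def n192150 : Q := act 7 n99802
theorem D192150 : act 7 n99802 = n192150 := rfl
theorem F385770 : act 2 n192150 = n102220 := d4_1 D192150 (iv7 D102220) (iv2 F153639)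
theorem F385771 : act 3 n192150 = n128255 := d8_1 D192150 (iv7 F385757) F385754
theorem F385772 : act 4 n192150 = n99805 := d11_1 D192150 (iv7 D99805) (iv4 F153640)
theorem F385773 : act 6 n192150 = n102175 := d14_1 D192150 (iv7 D102175) (iv6 D47437) (iv7 F73615) D99802
theorem F385774 : act 1 n102218 = n192150 := d15_1 D102218 (iv7 D192150) F153639
theorem F385775 : act 1 n192150 = n102217 := d15_1 F385774 (iv7 F385764) (iv2 F385765)
def n192151 : Q := act 4 n99803
theorem D192151 : act 4 n99803 = n192151 := rfl
theorem F385776 : act 2 n192151 = n102223 := d1_1 D192151 (iv4 D102223) (iv2 F365505)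
theorem F385777 : act 3 n192151 = n117006 := d5_1 D192151 (iv4 F223812) F341119 (iv4 F385501) (iv3 F385503)
theorem F385778 : act 6 n192151 = n117005 := d10_2 (iv6 F362585) D192151 F182933
theorem F385779 : act 7 n192151 = n102228 := d11_2 (iv7 F365506) D192151 (iv4 D102228)
theorem F385780 : act 5 n192151 = n190184 := d16_1 D192151 (iv4 D190184) (iv5 F158650) (iv4 F291781) F291782 D187020 F368848 F365510 (iv2 F365505)
theorem E103502 : n102250 = n102228 := (c15_2 F381561 D102250 (iv7 F385779) F385776)
theorem F385781 : act 0 n102228 = n47459 := (sb E103502 (iv1 D102250))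
def n192152 : Q := act 5 n99803
theorem D192152 : act 5 n99803 = n192152 := rfl
theorem F385782 : act 2 n192152 = n102224 := d2_1 D192152 (iv5 D102224) (iv2 F365505)
theorem F385783 : act 7 n192152 = n102229 := d13_2 (iv7 F365506) D192152 (iv5 D102229)
theorem F385784 : act 0 n192152 = n191726 := d21_1 D192152 (iv5 F385558) F385559 (iv1 F156793) (iv6 D47386) (iv5 F64793) F64794 F64421 D46612 D99803
theorem F385785 : act 0 n101782 = n192152 := d21_7 D63929 D135966 F225343 (iv6 F329627) (iv1 D47304) D47306 D101782 (iv5 D192152) F362585 (iv1 D63927)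
def n192153 : Q := act 3 n99804
theorem D192153 : act 3 n99804 = n192153 := rfl
theorem F385786 : act 2 n192153 = n101438 := d0_1 D192153 (iv3 F385508) (iv2 F385509) (iv3 D102227) (iv2 F365509)
theorem F385787 : act 7 n192153 = n101437 := d8_2 (iv7 F365510) D192153 F365507
def n192154 : Q := act 4 n99804
theorem D192154 : act 4 n99804 = n192154 := rfl
theorem F385788 : act 2 n192154 = n102228 := d1_1 D192154 (iv4 D102228) (iv2 F365509)
theorem F385789 : act 7 n192154 = n102223 := d11_2 (iv7 F365510) D192154 (iv4 D102223)
theorem F385790 : act 0 n192154 = n99809 := d18_2 (iv1 F153641) D192154 (iv4 F367410) F367411 (iv4 F369232) F369235 F368820 F368818 F157087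
theorem F385791 : act 1 n192154 = n102252 := d15_1 (iv0 F385790) (iv7 D102252) (iv2 F153650)
theorem F385792 : act 1 n192151 = n99809 := d15_0 (iv0 F385790) F385789 (iv2 F385776)
theorem F385793 : act 0 n142479 = n102618 := d21_7 D102018 F156973 F136317 D99809 (iv1 F385792) F385778 (iv5 F225389) (iv5 D102618) (iv6 D47594) (iv1 F74596)
theorem F385794 : act 1 n102252 = n192151 := d15_1 F385791 F385779 (iv2 F385788)
def n192155 : Q := act 2 n99806
theorem D192155 : act 2 n99806 = n192155 := rfl
theorem F385795 : act 3 n192155 = n102237 := d0_2 D99806 D192155 (iv2 D102237) (iv3 D47455) (iv2 F136320)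
theorem F385796 : act 7 n192155 = n102246 := d4_2 (iv7 F153647) D192155 (iv2 D102246)
theorem F385797 : act 1 n192155 = n101884 := d15_0 F357220 (iv7 F153647) D192155
theorem F385798 : act 1 n102245 = n192155 := d15_0 F385797 (iv7 F357205) (iv2 F368773)
theorem F385799 : act 6 n133339 = n192155 := d21_3 D52191 D113078 F377579 (iv1 F385798) (iv6 F368777) F365283 F157782 D100845 F368785 (iv1 D52189)
def n192156 : Q := act 4 n99806
theorem D192156 : act 4 n99806 = n192156 := rfl
theorem F385800 : act 7 n192156 = n102247 := d11_2 (iv7 F153647) D192156 (iv4 D102247)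
def n192157 : Q := act 6 n99806
theorem D192157 : act 6 n99806 = n192157 := rfl
theorem F385801 : act 2 n192157 = n133339 := d3_1 D192157 F385799 (iv2 D192155)
theorem F385802 : act 3 n192157 = n99807 := d7_1 D192157 (iv6 D99807) D99806
theorem F385803 : act 7 n133340 = n192157 := d15_2 (iv0 D133339) D133340 F385801
def n192158 : Q := act 5 n99807
theorem D192158 : act 5 n99807 = n192158 := rfl
theorem F385804 : act 2 n192158 = n102242 := d2_1 D192158 (iv5 D102242) (iv2 F153648)
theorem F385805 : act 6 n192158 = n186425 := d12_2 D99807 D192158 F367381 (iv6 D186598) F136364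
theorem F385806 : act 4 n192158 = n188865 := d16_6 D188860 F376994 F372042 (iv5 F367376) F367375 D192158 (iv5 D188865) (iv7 F376957) F376956
def n192159 : Q := act 7 n99807
theorem D192159 : act 7 n99807 = n192159 := rfl
theorem F385807 : act 2 n192159 = n102243 := d4_1 D192159 (iv7 D102243) (iv2 F153648)
theorem F385808 : act 3 n192159 = n133340 := d8_1 D192159 F385803 F385802
theorem F385809 : act 6 n192159 = n102252 := d14_1 D192159 (iv7 D102252) (iv6 D47459) (iv7 F136321) D99807
theorem F385810 : act 1 n102183 = n192159 := d15_1 (iv0 F343228) (iv7 D192159) F153648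
theorem F385811 : act 1 n192159 = n102178 := d15_1 F385810 F329276 (iv2 F329279)
def n192160 : Q := act 4 n99808
theorem D192160 : act 4 n99808 = n192160 := rfl
theorem F385812 : act 7 n192160 = n102238 := d11_2 (iv7 F153649) D192160 (iv4 D102238)
def n192161 : Q := act 6 n99808
theorem D192161 : act 6 n99808 = n192161 := rfl
theorem F385813 : act 3 n192161 = n99809 := d7_1 D192161 (iv6 D99809) D99808
def n192162 : Q := act 5 n99809
theorem D192162 : act 5 n99809 = n192162 := rfl
theorem F385814 : act 2 n192162 = n102251 := d2_1 D192162 (iv5 D102251) (iv2 F153650)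
theorem F385815 : act 1 n192162 = n163251 := d17_8 (iv1 F381412) F381414 (iv1 F159341) F158650 D190184 (iv5 F385780) F385792 D192162 (iv4 F365875)
def n192163 : Q := act 7 n99809
theorem D192163 : act 7 n99809 = n192163 := rfl
theorem F385816 : act 2 n192163 = n102252 := d4_1 D192163 (iv7 D102252) (iv2 F153650)
theorem F385817 : act 6 n192163 = n102243 := d14_1 D192163 (iv7 D102243) (iv6 D47456) (iv7 F136319) D99809
theorem F385818 : act 1 n102228 = n192163 := d15_1 (iv0 F385781) (iv7 D192163) F153650
theorem F385819 : act 1 n192163 = n102223 := d15_1 F385818 (iv7 F385789) F385788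
def n192164 : Q := act 5 n99813
theorem D192164 : act 5 n99813 = n192164 := rfl
theorem F385820 : act 2 n192164 = n102281 := d2_1 D192164 (iv5 D102281) (iv2 F346656)
theorem F385821 : act 3 n192164 = n135988 := d6_1 D192164 F218777 (iv3 F346657)
theorem F385822 : act 7 n192164 = n102286 := d13_2 (iv7 F346660) D192164 (iv5 D102286)
def n192165 : Q := act 5 n99814
theorem D192165 : act 5 n99814 = n192165 := rfl
theorem F385823 : act 2 n192165 = n102286 := d2_1 D192165 (iv5 D102286) (iv2 F346661)
theorem F385824 : act 3 n192165 = n136923 := d6_1 D192165 (iv5 D136923) (iv3 F346662)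
theorem F385825 : act 7 n192165 = n102281 := d13_2 (iv7 F346664) D192165 (iv5 D102281)
theorem F385826 : act 6 n190566 = n192165 := d21_5 (iv5 F63932) F66327 D44883 (iv6 F147852) D190566 (iv5 D192165) (iv1 D99814) (iv5 F151050) (iv6 D97990) (iv1 F72158)
theorem F385827 : act 3 n175519 = n190566 := d7_3 F385826 F385824 F354885
def n192166 : Q := act 5 n99817
theorem D192166 : act 5 n99817 = n192166 := rfl
theorem F385828 : act 2 n192166 = n99818 := d2_1 D192166 (iv5 D99818) D99817
theorem F385829 : act 3 n192166 = n102401 := d6_1 D192166 (iv5 D102401) (iv3 F153663)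
theorem F385830 : act 7 n192166 = n99946 := d13_2 (iv7 F153666) D192166 (iv5 D99946)
theorem F385831 : act 0 n192166 = n99952 := d17_2 (iv1 F153667) D192166 (iv5 F367529) (iv4 F378814) (iv5 F380638) F380640 (iv5 D189861) (iv0 D95346) (iv4 F73785)
theorem F385832 : act 1 n192166 = n99951 := d17_6 D187367 F370012 (iv1 F160323) (iv5 D104623) (iv4 F153664) D192166 (iv5 F361849) (iv0 F352787) (iv4 F138102)
def n192167 : Q := act 1 n99818
theorem D192167 : act 1 n99818 = n192167 := rfl
theorem F385833 : act 1 n192167 = n99946 := d15_1 D192167 (iv7 F385830) F385828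
theorem F385834 : act 7 n192167 = n99952 := d15_2 F377074 D192167 (iv2 F377070)
theorem F385835 : act 3 n108038 = n192167 := d20_3 D101010 F328164 (iv4 F166989) (iv1 D192167) F153669 (iv4 F74631) (iv1 F74632) (iv4 D22791) D22790 (iv1 F328957)
theorem F385836 : act 2 n192167 = n99951 := d0_1 F385835 F155996 (iv2 F145062) (iv3 F352676) F201733
theorem F385837 : act 4 n192167 = n108063 := d5_2 (iv4 F166989) F385835 F167077 F78948 (iv3 F78918)
theorem F385838 : act 6 n192167 = n108037 := d7_2 D108038 F385835 (iv3 D108037)
def n192168 : Q := act 4 n99818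
theorem D192168 : act 4 n99818 = n192168 := rfl
theorem F385839 : act 7 n192168 = n99953 := d11_2 (iv7 F153670) D192168 (iv4 D99953)
theorem F385840 : act 1 n192168 = n192084 := d18_6 F289588 F76048 (iv1 D48382) (iv4 F73633) D99818 D192168 (iv4 D192084) (iv0 F385208) (iv5 D192014)
def n192169 : Q := act 6 n99818
theorem D192169 : act 6 n99818 = n192169 := rfl
theorem F385841 : act 3 n192169 = n99819 := d7_1 D192169 (iv6 D99819) (iv3 F153669)
theorem F385842 : act 5 n192169 = n185473 := d12_1 D192169 (iv6 D185473) (iv5 D88354) (iv6 F73634) D99818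
def n192170 : Q := act 0 n99819
theorem D192170 : act 0 n99819 = n192170 := rfl
theorem F385843 : act 1 n102410 = n192170 := d15_0 (iv0 D192170) (iv7 F383659) F383657
theorem F385844 : act 4 n192170 = n102275 := d18_7 F177340 (iv4 F294866) (iv1 D90872) F293986 D103349 (iv4 F359406) F385843 (iv0 D102275) (iv5 F309544)
theorem F385845 : act 3 n103595 = n102275 := d20_5 D96088 F147702 (iv4 D47992) (iv3 F75355) D103595 (iv4 F385844) (iv1 F385843) F359406 F158625 (iv1 D96087)
theorem F385846 : act 7 n102275 = n186986 := d8_2 (iv7 F270490) F385845 (iv3 F372067)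
theorem F385847 : act 7 n102409 = n192170 := d11_2 F385846 (iv4 F372065) F385844
theorem F385848 : act 2 n186986 = n102276 := d15_3 F368766 F368769 F385846
theorem F385849 : act 2 n102275 = n186985 := d15_3 (iv0 D186985) D186986 (iv7 F385846)
theorem F385850 : act 2 n102408 = n192170 := d1_3 F385844 F385849 (iv4 F368768)
theorem F385851 : act 7 n186985 = n102276 := d4_2 (iv7 F385846) F385849 (iv2 F385848)
def n192171 : Q := act 1 n99819
theorem D192171 : act 1 n99819 = n192171 := rfl
theorem F385852 : act 1 n192171 = n102410 := d15_1 D192171 (iv7 D102410) (iv2 F153671)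
theorem F385853 : act 7 n192171 = n102408 := d15_2 (iv0 D192170) D192171 F385850
theorem F385854 : act 4 n192171 = n102276 := d18_7 F372411 (iv4 D188131) F294860 F73484 D95451 F352887 D192171 F368766 F368763
theorem F385855 : act 2 n102409 = n192171 := d1_3 F385854 (iv2 F385848) (iv4 F372065)
def n192172 : Q := act 4 n99822
theorem D192172 : act 4 n99822 = n192172 := rfl
theorem F385856 : act 2 n192172 = n99825 := d1_1 D192172 (iv4 D99825) (iv2 F153680)
theorem F385857 : act 6 n192172 = n138024 := d10_2 (iv6 F349512) D192172 F221284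
theorem F385858 : act 7 n192172 = n102586 := d11_2 (iv7 F153682) D192172 (iv4 D102586)
theorem F385859 : act 0 n192172 = n102598 := d18_2 (iv1 F153687) D192172 (iv4 F362219) F384225 F384223 F369143 F369141 F157696 (iv5 D102593)
theorem F385860 : act 1 n192172 = n102597 := d18_6 (iv1 F290149) F153294 (iv1 F290204) F142887 D99822 D192172 F362215 F362226 (iv5 F334884)
def n192173 : Q := act 4 n99823
theorem D192173 : act 4 n99823 = n192173 := rfl
theorem F385861 : act 2 n192173 = n102595 := d1_1 D192173 (iv4 D102595) F153690
theorem F385862 : act 3 n192173 = n166218 := d5_1 D192173 (iv4 D166218) F122538 D79814 (iv3 F331222)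
theorem F385863 : act 7 n192173 = n102592 := d11_2 F153691 D192173 (iv4 D102592)
theorem F385864 : act 0 n192173 = n143246 := d18_2 D99823 D192173 F226070 (iv5 F334884) F73563 F139324 F139321 (iv0 D46621) D46623
def n192174 : Q := act 6 n99823
theorem D192174 : act 6 n99823 = n192174 := rfl
theorem F385865 : act 2 n192174 = n102596 := d3_1 D192174 (iv6 D102596) F153690
theorem F385866 : act 3 n192174 = n166233 := d7_1 D192174 (iv6 D166233) (iv3 F331222)
theorem F385867 : act 5 n192174 = n188168 := d12_1 D192174 (iv6 D188168) (iv5 D91011) (iv6 F294850) (iv5 F153688)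
def n192175 : Q := act 4 n99824
theorem D192175 : act 4 n99824 = n192175 := rfl
theorem F385868 : act 2 n192175 = n102592 := d1_1 D192175 (iv4 D102592) F153694
theorem F385869 : act 6 n192175 = n100920 := d10_2 F365553 D192175 F365564
theorem F385870 : act 7 n192175 = n102595 := d11_2 (iv7 F153693) D192175 (iv4 D102595)
theorem F385871 : act 0 n143246 = n192175 := d20_1 (iv4 F226070) (iv4 D192175) (iv3 F153695) (iv1 D48239) (iv3 F75829) D104237 F328540 (iv4 F166480) D136081 F362220
theorem F385872 : act 3 n100931 = n192175 := d7_3 F385869 F155061 D100931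
theorem F385873 : act 4 n141825 = n100931 := d5_0 F385872 (iv4 D192175) (iv3 F153695) D104244 (iv3 F360817)
theorem F385874 : act 6 n100930 = n141825 := d10_0 F385873 (iv6 D100931) D100930
def n192176 : Q := act 0 n99825
theorem D192176 : act 0 n99825 = n192176 := rfl
theorem F385875 : act 2 n102598 = n192176 := d15_3 (iv0 D192176) (iv0 F365512) (iv7 F362217)
theorem F385876 : act 1 n102586 = n192176 := d15_0 (iv0 D192176) F153697 (iv2 F157546)
theorem F385877 : act 7 n192176 = n102597 := d15_2 (iv0 F331223) F385876 (iv2 F362216)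
def n192177 : Q := act 3 n99825
theorem D192177 : act 3 n99825 = n192177 := rfl
theorem F385878 : act 4 n192177 = n99831 := d5_2 D99825 D192177 (iv3 D99831) (iv4 D46626) (iv3 F73647)
theorem F385879 : act 7 n192177 = n102599 := d8_2 (iv7 F153697) D192177 (iv3 D102599)
def n192178 : Q := act 5 n99825
theorem D192178 : act 5 n99825 = n192178 := rfl
theorem F385880 : act 7 n192178 = n102600 := d13_2 (iv7 F153697) D192178 (iv5 D102600)
def n192179 : Q := act 0 n99826
theorem D192179 : act 0 n99826 = n192179 := rfl
theorem F385881 : act 5 n192179 = n117778 := d17_3 (iv1 F225866) (iv5 F321296) D192179 F184463 F180358 F102536 D64832 F221140 (iv4 F225864)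
theorem F385882 : act 1 n136151 = n192179 := d15_0 (iv0 D192179) F321297 (iv2 F343213)
theorem F385883 : act 2 n137714 = n192179 := d2_3 F385881 F184466 (iv5 F357293)
theorem F385884 : act 7 n143141 = n192179 := d13_0 F385881 (iv7 F184464) (iv5 F226001)
def n192180 : Q := act 1 n99826
theorem D192180 : act 1 n99826 = n192180 := rfl
theorem F385885 : act 1 n192180 = n136151 := d15_1 D192180 F343215 (iv2 F321295)
theorem F385886 : act 7 n192180 = n137714 := d15_2 (iv0 D192179) D192180 F385883
theorem F385887 : act 5 n192180 = n117779 := d17_7 (iv1 D26235) F20708 F102986 (iv5 F49550) (iv4 F103050) (iv5 F321296) D192180 F184467 (iv4 D54260)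
theorem F385888 : act 4 n192180 = n100237 := d18_7 (iv1 F221171) (iv4 F223854) F223852 D142994 (iv5 F353577) F353575 D192180 F350428 (iv5 D137956)
theorem F385889 : act 2 n143141 = n192180 := d1_3 F385888 (iv2 F375922) (iv4 F375925)
theorem F385890 : act 6 n100236 = n192180 := d10_0 F385888 (iv6 D100237) D100236
theorem F385891 : act 3 n192180 = n104249 := d19_3 (iv1 F221262) F350425 (iv4 F385888) (iv1 D104249) D104250 F329321 (iv3 D54063) F41463 (iv5 F50190) (iv4 D31886) D31885 F77072 (iv5 D48896) (iv4 F77054) (iv3 D48891) D48889 D105748 (iv4 F221266) (iv3 D138002)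
def n192181 : Q := act 4 n99827
theorem D192181 : act 4 n99827 = n192181 := rfl
theorem F385892 : act 2 n192181 = n137837 := d1_1 D192181 (iv4 D137837) (iv2 F329333)
theorem F385893 : act 7 n192181 = n102485 := d11_2 (iv7 F153700) D192181 (iv4 D102485)
theorem F385894 : act 0 n192077 = n192181 := d20_7 D46634 (iv1 F153568) (iv4 D99755) F334877 F334869 (iv3 F153384) D192077 (iv4 D192181) (iv3 D99827) (iv1 F73650)
def n192182 : Q := act 6 n99827
theorem D192182 : act 6 n99827 = n192182 := rfl
theorem F385895 : act 2 n192182 = n137839 := d3_1 D192182 (iv6 D137839) (iv2 F329333)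
theorem F385896 : act 3 n192182 = n99828 := d7_1 D192182 (iv6 D99828) D99827
theorem F385897 : act 5 n192182 = n186641 := d12_1 D192182 (iv6 D186641) (iv5 D88971) D88972 (iv5 F153699)
def n192183 : Q := act 0 n99828
theorem D192183 : act 0 n99828 = n192183 := rfl
def n192184 : Q := act 1 n99828
theorem D192184 : act 1 n99828 = n192184 := rfl
theorem F385898 : act 1 n192184 = n102481 := d15_1 D192184 (iv7 D102481) (iv2 F153701)
theorem F385899 : act 5 n191879 = n192184 := d21_6 (iv5 D20753) (iv1 F32493) (iv5 F293449) D46332 D99044 D191879 (iv1 D192184) F153702 (iv6 D88974) F293450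
def n192185 : Q := act 7 n99828
theorem D192185 : act 7 n99828 = n192185 := rfl
theorem F385900 : act 2 n192185 = n102481 := d4_1 D192185 (iv7 D102481) (iv2 F153701)
theorem F385901 : act 5 n192185 = n186645 := d13_1 D192185 (iv7 D186645) (iv5 F153702)
theorem F385902 : act 6 n192185 = n102492 := d14_1 D192185 (iv7 D102492) (iv6 D47543) F73652 D99828
theorem F385903 : act 1 n102481 = n192183 := d15_0 (iv0 D192183) D192185 F385900
theorem F385904 : act 1 n102480 = n192185 := d15_1 D102480 (iv7 D192185) F153701
theorem F385905 : act 0 n191520 = n102492 := d21_4 F367494 (iv1 F136509) D98499 D191520 (iv6 F385902) F385901 (iv1 F367994) D189154 F375870 (iv1 F367497)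
theorem F385906 : act 1 n192185 = n102479 := d15_0 (iv0 D102479) D102481 (iv2 F385900)
def n192186 : Q := act 2 n99829
theorem D192186 : act 2 n99829 = n192186 := rfl
theorem F385907 : act 3 n192186 = n102484 := d0_2 D99829 D192186 (iv2 D102484) (iv3 D47540) F73656
theorem F385908 : act 5 n192186 = n187103 := d2_2 (iv5 F153703) D192186 (iv2 D187103)
theorem F385909 : act 7 n192186 = n102474 := d4_2 (iv7 F153704) D192186 (iv2 D102474)
theorem F385910 : act 1 n192186 = n102397 := d15_0 F342515 (iv7 F153704) D192186
theorem F385911 : act 1 n102399 = n192186 := d15_0 F385910 (iv7 F371274) F371272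
def n192187 : Q := act 4 n99829
theorem D192187 : act 4 n99829 = n192187 := rfl
theorem F385912 : act 7 n192187 = n102475 := d11_2 (iv7 F153704) D192187 (iv4 D102475)
def n192188 : Q := act 6 n99829
theorem D192188 : act 6 n99829 = n192188 := rfl
theorem F385913 : act 3 n192188 = n99830 := d7_1 D192188 (iv6 D99830) D99829
theorem F385914 : act 5 n192188 = n100192 := d12_1 D192188 (iv6 D100192) (iv5 F292681) F292682 (iv5 F153703)
def n192189 : Q := act 1 n99830
theorem D192189 : act 1 n99830 = n192189 := rfl
theorem F385915 : act 1 n192189 = n102492 := d15_1 D192189 (iv7 D102492) (iv2 F153705)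
theorem F385916 : act 7 n192189 = n102490 := d15_2 (iv0 F383653) D192189 (iv2 F383652)
theorem F385917 : act 5 n139309 = n192189 := d21_6 (iv5 D43527) F292030 D22416 D46755 D100181 F384765 (iv1 D192189) F153706 (iv6 D46763) (iv1 F293151)
theorem F385918 : act 3 n192189 = n139310 := d6_1 F385917 (iv5 D139310) D139309
theorem F385919 : act 2 n102491 = n192189 := d4_3 F385916 (iv2 F383652) (iv7 F383654)
def n192190 : Q := act 7 n99830
theorem D192190 : act 7 n99830 = n192190 := rfl
theorem F385920 : act 2 n192190 = n102492 := d4_1 D192190 (iv7 D102492) (iv2 F153705)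
theorem F385921 : act 5 n192190 = n100198 := d13_1 D192190 (iv7 D100198) (iv5 F153706)
theorem F385922 : act 6 n192190 = n102481 := d14_1 D192190 (iv7 D102481) (iv6 D47539) (iv7 F73654) D99830
theorem F385923 : act 1 n102491 = n192190 := d15_1 D102491 (iv7 D192190) F153705
theorem F385924 : act 1 n192190 = n102490 := d15_1 F385923 (iv7 F385916) (iv2 F385919)
def n192191 : Q := act 1 n99831
theorem D192191 : act 1 n99831 = n192191 := rfl
def n192192 : Q := act 2 n99831
theorem D192192 : act 2 n99831 = n192192 := rfl
theorem F385925 : act 3 n192192 = n102495 := d0_2 D99831 D192192 (iv2 D102495) (iv3 D47544) (iv2 F73657)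
theorem F385926 : act 5 n192192 = n102272 := d2_2 F157448 D192192 (iv2 F357211)
theorem F385927 : act 7 n192192 = n102614 := d4_2 (iv7 F153707) D192192 (iv2 D102614)
theorem F385928 : act 1 n192192 = n102612 := d15_0 (iv0 D102612) (iv7 F153707) D192192
theorem F385929 : act 1 n192191 = n102614 := d15_1 D192191 (iv7 F385927) (iv2 D192192)
theorem F385930 : act 2 n102612 = n192191 := d15_3 F385929 F365367 (iv7 F362230)
theorem F385931 : act 5 n192191 = n187080 := d21_2 (iv5 F353238) (iv1 F385929) (iv6 F382036) F382035 (iv6 F353325) (iv5 D99458) F75432 (iv5 F147484) F306780 (iv1 F357203)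
theorem F385932 : act 3 n136289 = n192191 := d6_3 F385931 (iv3 F382046) F382047
theorem F385933 : act 6 n162704 = n192191 := d12_0 F385931 (iv6 F382036) (iv5 F382033) F323955 D162704
theorem F385934 : act 5 n144147 = n127104 := d21_2 D67532 D144147 F345462 (iv1 F385929) (iv6 F385933) (iv5 D162704) F298043 (iv5 F356125) (iv6 D144144) (iv1 D67530)
theorem E103503 : n144152 = n102248 := ((c21_4 F385931 (iv1 D187080) F137244 D102248 (iv1 D144152) (iv6 D67533) D67532 D144147 F385934 F345462 (iv1 F385929))).symm
theorem F385935 : act 0 n102248 = n67533 := (sb E103503 (iv1 D144152))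
theorem F385936 : act 4 n192148 = n187130 := d20_0 (iv1 D187130) F137347 (iv3 F157089) F385935 F103421 (iv4 F82455) (iv1 D52159) (iv4 F82449) (iv3 F329598) (iv1 F385763)
theorem F385937 : act 7 n102613 = n192191 := d15_2 (iv0 D102612) D102613 (iv2 F385930)
theorem F385938 : act 2 n127116 = n102613 := d4_3 F385937 (iv2 F385930) F362230
theorem F385939 : act 3 n136308 = n102613 := d8_3 F385937 (iv3 F385932) (iv7 F382050)
theorem F385940 : act 1 n102613 = n192192 := d15_0 F385928 F362230 F385938
def n192193 : Q := act 6 n99831
theorem D192193 : act 6 n99831 = n192193 := rfl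
theorem F385941 : act 3 n192193 = n99832 := d7_1 D192193 (iv6 D99832) D99831
theorem F385942 : act 5 n109784 = n192193 := d6_0 F385941 F344562 D109784
theorem F385943 : act 0 n136286 = n192193 := d20_4 (iv4 F98195) (iv1 F161955) F161954 D136286 F385941 F153709 D99833 F344577 F79825 D50454
def n192194 : Q := act 3 n99833
theorem D192194 : act 3 n99833 = n192194 := rfl
theorem F385944 : act 4 n192194 = n105640 := d5_2 (iv4 F344577) D192194 (iv3 D105640) (iv4 F76910) (iv3 F79825)
theorem F385945 : act 5 n192194 = n117535 := d6_2 F380372 D192194 (iv3 F380371)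
theorem F385946 : act 7 n192194 = n102507 := d8_2 (iv7 F344578) D192194 (iv3 D102507)
theorem F385947 : act 0 n117440 = n192194 := d20_4 D54186 F328024 (iv4 F328028) (iv3 F183942) (iv3 D192194) F344577 D109334 F328447 F99536 (iv1 F328045)
theorem F385948 : act 1 n136100 = n192194 := d15_0 (iv0 F385947) F328424 (iv2 F219056)
theorem F385949 : act 2 n136106 = n192194 := d2_3 F385945 (iv2 F349470) F360612
def n192195 : Q := act 6 n99833
theorem D192195 : act 6 n99833 = n192195 := rfl
theorem F385950 : act 2 n192195 = n102505 := d3_1 D192195 (iv6 D102505) (iv2 F344576)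
theorem F385951 : act 4 n192195 = n109337 := d10_1 D192195 (iv6 D109337) (iv4 F344577)
theorem F385952 : act 5 n192195 = n187144 := d21_6 (iv5 D42345) F35614 D22342 D46627 D99833 D192195 (iv1 D187144) (iv5 F367411) (iv6 D186601) F136382
def n192196 : Q := act 3 n99834
theorem D192196 : act 3 n99834 = n192196 := rfl
theorem F385953 : act 7 n192196 = n102502 := d8_2 (iv7 F344559) D192196 (iv3 D102502)
theorem F385954 : act 0 n192196 = n137892 := d20_4 (iv4 F328447) (iv1 F344538) (iv4 F344557) D192196 F221118 (iv4 F221158) (iv1 F221160) F334855 F349492 F329746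
theorem F385955 : act 2 n192196 = n137889 := d15_3 (iv0 D137889) (iv0 F362568) (iv7 F385953)
def n192197 : Q := act 6 n99834
theorem D192197 : act 6 n99834 = n192197 := rfl
theorem F385956 : act 2 n192197 = n102510 := d3_1 D192197 (iv6 D102510) (iv2 F344556)
theorem F385957 : act 4 n192197 = n103875 := d10_1 D192197 F352905 (iv4 F344557)
def n192198 : Q := act 4 n99845
theorem D192198 : act 4 n99845 = n192198 := rfl
theorem F385958 : act 2 n192198 = n99849 := d1_1 D192198 (iv4 D99849) (iv2 F153732)
theorem F385959 : act 6 n192198 = n136157 := d10_2 (iv6 F333134) D192198 F219202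
theorem F385960 : act 7 n192198 = n102438 := d11_2 (iv7 F153734) D192198 (iv4 D102438)
theorem F385961 : act 0 n192198 = n102452 := d18_2 (iv1 F153736) D192198 F356396 D176191 F356388 F368957 F368952 F357224 F295315
theorem F385962 : act 1 n192198 = n102451 := d15_0 (iv0 D102451) (iv7 F153742) (iv2 F385958)
def n192199 : Q := act 4 n99847
theorem D192199 : act 4 n99847 = n192199 := rfl
theorem F385963 : act 2 n192199 = n102448 := d1_1 D192199 (iv4 D102448) (iv2 F290009)
theorem F385964 : act 3 n192199 = n115249 := d5_1 D192199 (iv4 D115249) F161292 D63997 (iv3 F329307)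
theorem F385965 : act 7 n192199 = n102443 := d11_2 (iv7 F290010) D192199 (iv4 D102443)
theorem F385966 : act 0 n115276 = n192199 := d20_7 (iv4 F100631) (iv1 F166092) F161378 D64674 (iv1 F362208) (iv3 F362207) F362202 (iv4 D192199) F329307 F166090
def n192200 : Q := act 4 n99848
theorem D192200 : act 4 n99848 = n192200 := rfl
theorem F385967 : act 2 n192200 = n102443 := d1_1 D192200 (iv4 D102443) (iv2 F290003)
theorem F385968 : act 3 n192200 = n115646 := d5_1 D192200 F348346 (iv3 F322298) F325061 (iv3 F356212)
theorem F385969 : act 7 n192200 = n102448 := d11_2 (iv7 F290004) D192200 (iv4 D102448)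
theorem F385970 : act 0 n192200 = n115276 := d18_2 (iv1 F153741) D192200 (iv4 F362202) (iv5 D101404) F289756 F129805 (iv4 F289773) F73666 D47528
def n192201 : Q := act 6 n99848
theorem D192201 : act 6 n99848 = n192201 := rfl
theorem F385971 : act 2 n192201 = n102445 := d3_1 D192201 (iv6 D102445) (iv2 F290003)
theorem F385972 : act 3 n192201 = n136621 := d7_1 D192201 F359423 (iv3 F356212)
theorem F385973 : act 5 n192201 = n179770 := d12_1 D192201 F280003 (iv5 D88930) D88931 F290002
theorem F385974 : act 0 n135914 = n192201 := d21_4 D136357 (iv1 F332957) F332958 D135914 (iv6 D192201) (iv5 F290002) F335667 D89545 F343226 (iv1 D136355)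
def n192202 : Q := act 0 n99849
theorem D192202 : act 0 n99849 = n192202 := rfl
theorem F385975 : act 4 n192202 = n101406 := d18_3 (iv1 D99848) D99849 D192202 (iv5 F356407) (iv4 F356399) (iv0 F343263) F137186 (iv0 F335667) F290002
theorem F385976 : act 3 n101406 = n192076 := d20_3 D99849 D192202 F385975 (iv1 D192076) F153384 F334867 F320545 F325061 (iv3 F356212) (iv1 D99848)
theorem F385977 : act 1 n102438 = n192202 := d15_0 (iv0 D192202) F153742 (iv2 F157397)
theorem F385978 : act 2 n192076 = n101981 := d0_1 F385976 (iv3 D101981) (iv2 F328320) D84035 (iv2 F356221)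
theorem F385979 : act 2 n102452 = n192202 := d1_3 F385975 F356221 (iv4 F356396)
theorem F385980 : act 7 n102451 = n192202 := d15_2 (iv0 F385961) F385962 (iv2 F385979)
def n192203 : Q := act 1 n99849
theorem D192203 : act 1 n99849 = n192203 := rfl
theorem F385981 : act 1 n192203 = n102438 := d15_1 D192203 (iv7 F385960) F385958
theorem F385982 : act 7 n192203 = n102452 := d15_2 (iv0 D192202) D192203 F385979
theorem F385983 : act 4 n192203 = n101407 := d18_7 (iv1 F289808) F74682 (iv1 D41174) (iv4 F34884) D46632 D99849 D192203 F290102 (iv5 D177862)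
theorem F385984 : act 3 n115512 = n192203 := d20_9 (iv4 D99849) D99847 D192199 F385964 (iv1 F179494) (iv3 F350935) F350936 (iv1 F187783) (iv4 F336266) (iv1 D192203)
theorem F385985 : act 2 n102451 = n192203 := d4_3 F385982 F385979 (iv7 F385980)
def n192204 : Q := act 3 n99849
theorem D192204 : act 3 n99849 = n192204 := rfl
theorem F385986 : act 4 n192204 = n99854 := d5_2 D99849 D192204 (iv3 D99854) (iv4 D46634) (iv3 F73668)
theorem F385987 : act 6 n192204 = n115441 := d7_2 (iv6 F333135) D192204 F179754
theorem F385988 : act 7 n192204 = n102453 := d8_2 (iv7 F153742) D192204 (iv3 D102453)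
theorem F385989 : act 0 n115521 = n192204 := d20_4 (iv4 F179927) (iv1 F179930) F163599 D115521 (iv3 D192204) (iv4 D99849) D99847 D192199 F385964 (iv1 F179494)
theorem F385990 : act 0 n149223 = n127126 := d18_0 F204377 F385989 F385986 (iv5 F353166) (iv4 F158912) (iv0 F199494) F234599 F234597 D149223
def n192205 : Q := act 5 n99849
theorem D192205 : act 5 n99849 = n192205 := rfl
theorem F385991 : act 7 n192205 = n102454 := d13_2 (iv7 F153742) D192205 (iv5 D102454)
def n192206 : Q := act 0 n99854
theorem D192206 : act 0 n99854 = n192206 := rfl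
theorem F385992 : act 5 n192206 = n149176 := d17_3 D103584 F353166 D192206 (iv4 D149176) F155468 F234306 F234303 (iv0 D69920) (iv4 F75351)
theorem F385993 : act 3 n192206 = n103166 := d20_5 F74597 (iv1 F73650) D46634 D99854 D192206 F339825 (iv1 F339824) F156951 (iv3 D47389) D47387
theorem F385994 : act 1 n102495 = n192206 := d15_0 (iv0 D192206) F153746 D102495
theorem F385995 : act 2 n102494 = n192206 := d0_5 F385993 (iv2 F382080) F382081 F379353 (iv3 F353158)
theorem F385996 : act 7 n102493 = n192206 := d15_2 F353159 F353167 (iv2 F385995)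
def n192207 : Q := act 1 n99854
theorem D192207 : act 1 n99854 = n192207 := rfl
theorem F385997 : act 1 n192207 = n102495 := d15_1 D192207 (iv7 F353160) (iv2 F353161)
theorem F385998 : act 7 n192207 = n102494 := d15_2 (iv0 D192206) D192207 F385995
theorem F385999 : act 5 n192207 = n149175 := d17_7 D143504 F346238 F243625 (iv5 D154932) F158912 F353166 D192207 (iv0 F346231) (iv4 D143507)
theorem F386000 : act 2 n102493 = n192207 := d2_3 F385999 (iv2 F261595) (iv5 F353168)
def n192208 : Q := act 6 n99854
theorem D192208 : act 6 n99854 = n192208 := rfl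
theorem F386001 : act 3 n192208 = n99855 := d7_1 D192208 (iv6 D99855) D99854
theorem F386002 : act 4 n192208 = n115441 := d10_1 D192208 (iv6 F385987) F385986
def n192209 : Q := act 5 n99855
theorem D192209 : act 5 n99855 = n192209 := rfl
theorem F386003 : act 2 n192209 = n102618 := d2_1 D192209 (iv5 D102618) (iv2 F153747)
theorem F386004 : act 0 n192209 = n137144 := d17_2 (iv1 F333111) D192209 (iv5 D137144) (iv4 D64473) D64474 F220920 (iv5 D64654) F99528 D136031
theorem F386005 : act 0 n137145 = n192128 := d21_4 D192209 F386004 (iv5 D137144) D137145 (iv6 D192128) D192127 F385675 (iv5 F365323) (iv6 F365322) (iv1 F333111)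
theorem F386006 : act 0 n137133 = n192209 := d21_7 F153565 F137060 F64463 D47459 (iv1 F381561) F365508 D137133 (iv5 D192209) (iv6 D99855) (iv1 F153568)
def n192210 : Q := act 6 n99856
theorem D192210 : act 6 n99856 = n192210 := rfl
theorem F386007 : act 2 n192210 = n102624 := d3_1 D192210 (iv6 D102624) (iv2 F333105)
theorem F386008 : act 3 n192210 = n137881 := d7_1 D192210 (iv6 D137881) (iv3 F333094)
theorem F386009 : act 4 n192210 = n107115 := d10_1 D192210 F352891 (iv4 F333095)
theorem F386010 : act 5 n192210 = n188127 := d21_6 (iv5 D46620) (iv1 F34863) D22349 D46635 D99856 D192210 (iv1 D188127) (iv5 F367376) (iv6 D186596) F136343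
theorem F386011 : act 0 n135916 = n192210 := d20_10 F386009 (iv1 F175774) (iv4 F218562) F218561 (iv1 F179697) F344849 (iv4 F344858) F344865 (iv4 D135917) D135916
theorem E103504 : n137881 = n136606 := (c20_4 (iv4 F78228) D107115 (iv4 F386009) F386008 (iv1 D136606) (iv3 D64215) D64216 (iv1 F310002) D86810 (iv3 F314603) (iv1 D64177))
theorem F386012 : act 3 n136606 = n192210 := (sb E103504 (iv3 F386008))
theorem F386013 : act 6 n136606 = n64805 := (sb E103504 (iv6 D137881))
def n192211 : Q := act 0 n99858
theorem D192211 : act 0 n99858 = n192211 := rfl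
theorem F386014 : act 6 n192211 = n188183 := d21_5 D46103 (iv1 F72682) D46636 (iv6 F153751) D192211 (iv5 D188183) (iv1 D91029) (iv5 F324641) (iv6 F325746) (iv1 F64203)
theorem F386015 : act 1 n102632 = n192211 := d15_0 (iv0 D192211) F333137 F333138
theorem F386016 : act 2 n102629 = n192211 := d3_3 F386014 F372600 F333141
theorem F386017 : act 7 n102630 = n192211 := d15_2 (iv0 D102629) D102630 (iv2 F386016)
def n192212 : Q := act 1 n99858
theorem D192212 : act 1 n99858 = n192212 := rfl
theorem F386018 : act 1 n192212 = n102632 := d15_1 D192212 (iv7 D102632) (iv2 F153750)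
theorem F386019 : act 7 n192212 = n102629 := d15_2 (iv0 D192211) D192212 F386016
theorem F386020 : act 2 n102630 = n192212 := d4_3 F386019 F386016 (iv7 F386017)
theorem F386021 : act 3 n137817 = n192212 := d8_3 F386019 F347281 D137817
theorem F386022 : act 4 n137555 = n192212 := d18_7 (iv1 F153749) F333104 (iv1 D64626) F48847 D30423 D64658 D137555 F386018 F157832
theorem E103505 : n137817 = n136101 := ((c20_5 (iv4 F93860) F93861 F93789 (iv3 F99586) D136101 F386021 (iv4 F386022) (iv1 D137555) (iv4 D64658) F48850 (iv1 F48829))).symm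
theorem F386023 : act 2 n136101 = n64768 := (sb E103505 F221047)
theorem F386024 : act 3 n136101 = n192212 := (sb E103505 F386021)
theorem F386025 : act 7 n136101 = n64767 := (sb E103505 (iv7 D137817))
theorem E103506 : n137812 = n136102 := (c15_4 F219059 F219058 F386025 D137812)
theorem F386026 : act 2 n136102 = n64767 := (sb E103506 (iv2 D137812))
theorem F386027 : act 7 n136102 = n64768 := (sb E103506 (iv7 F221046))
theorem F386028 : act 7 n137820 = n126782 := d13_2 F386027 D137820 F233573
theorem F386029 : act 2 n126782 = n137815 := d15_3 F361810 (iv0 F347248) F386028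
theorem F386030 : act 2 n137820 = n126781 := d15_3 (iv0 D126781) D126782 (iv7 F386028)
theorem F386031 : act 5 n126781 = n136101 := d2_2 D137820 F386030 F386023
theorem F386032 : act 7 n126781 = n137815 := d4_2 (iv7 F386028) F386030 (iv2 F386029)
def n192213 : Q := act 0 n99863
theorem D192213 : act 0 n99863 = n192213 := rfl
theorem F386033 : act 2 n101245 = n192213 := d15_3 (iv0 D192213) F356387 (iv7 F155981)
theorem F386034 : act 3 n192213 = n101419 := d0_2 D101245 F386033 (iv2 D101419) (iv3 D47201) F74414
theorem F386035 : act 7 n192213 = n101431 := d4_2 (iv7 F155981) F386033 (iv2 D101431)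
theorem F386036 : act 1 n101402 = n192213 := d15_1 (iv0 F356385) F386035 (iv2 D101431)
def n192214 : Q := act 4 n99863
theorem D192214 : act 4 n99863 = n192214 := rfl
theorem F386037 : act 2 n192214 = n184626 := d1_1 D192214 (iv4 D184626) (iv2 F153764)
theorem F386038 : act 6 n192214 = n160328 := d10_2 (iv6 F302073) D192214 (iv4 D160328)
theorem F386039 : act 3 n192214 = n156059 := d19_3 F289617 D99863 D192214 (iv1 D156059) D156060 (iv4 F329739) (iv3 F329855) (iv1 F135147) (iv5 F144147) (iv4 D93448) (iv3 F73910) (iv1 F135761) (iv5 D88598) (iv4 F63715) (iv3 F63474) (iv1 D19854) D19855 (iv4 F291370) D22704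
def n192215 : Q := act 7 n99863
theorem D192215 : act 7 n99863 = n192215 := rfl
theorem F386040 : act 2 n192215 = n101402 := d4_1 D192215 F289622 (iv2 F153764)
theorem F386041 : act 5 n192215 = n99864 := d13_1 D192215 (iv7 D99864) D99863
theorem F386042 : act 1 n101431 = n192215 := d15_1 (iv0 F356435) (iv7 D192215) F153764
theorem F386043 : act 1 n192215 = n101245 := d15_1 F386042 F155981 D101431
def n192216 : Q := act 4 n99867
theorem D192216 : act 4 n99867 = n192216 := rfl
theorem F386044 : act 2 n192216 = n184612 := d1_1 D192216 (iv4 D184612) (iv2 F153773)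
theorem F386045 : act 6 n192216 = n124042 := d10_2 (iv6 F302072) D192216 (iv4 D124042)
theorem F386046 : act 7 n192216 = n185104 := d11_2 (iv7 F289620) D192216 (iv4 D185104)
def n192217 : Q := act 5 n99870
theorem D192217 : act 5 n99870 = n192217 := rfl
theorem F386047 : act 2 n192217 = n119213 := d2_1 D192217 (iv5 F372423) F372417
theorem F386048 : act 3 n192217 = n99871 := d6_1 D192217 (iv5 D99871) D99870
theorem F386049 : act 4 n192217 = n113694 := d9_1 D192217 (iv5 D113694) F83599 D114617 (iv4 F189492) F330004 F158518 F335344 (iv4 D71896) (iv5 D33222) F25579 D32743 D70584 (iv5 F329965) (iv4 F158521)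
theorem F386050 : act 7 n192217 = n114191 := d13_2 F268829 D192217 F335348
theorem F386051 : act 0 n192217 = n152400 := d17_2 F177437 D192217 F381827 F381825 F365313 (iv0 D118413) (iv5 F319715) F177377 (iv4 F158367)
theorem F386052 : act 1 n192217 = n152399 := d17_8 (iv1 F178389) (iv5 D52914) (iv1 D25688) D25689 D52916 D114648 F335368 D192217 F239587
def n192218 : Q := act 6 n99871
theorem D192218 : act 6 n99871 = n192218 := rfl
theorem F386053 : act 4 n192218 = n111525 := d10_1 D192218 (iv6 F360052) F345059
theorem F386054 : act 0 n126878 = n192218 := d21_4 (iv5 D30661) (iv1 F45776) D59541 D126878 (iv6 D192218) (iv5 D99871) F329534 (iv5 F337438) (iv6 D134013) (iv1 F98213)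
def n192219 : Q := act 6 n99876
theorem D192219 : act 6 n99876 = n192219 := rfl
theorem F386055 : act 3 n192219 = n188707 := d7_1 D192219 F374502 (iv3 F349167)
theorem F386056 : act 4 n192219 = n188710 := d10_1 D192219 F374512 F345072
theorem F386057 : act 5 n192219 = n178081 := d12_1 D192219 F363013 D185119 (iv6 F356398) (iv5 F345055)
def n192220 : Q := act 6 n99877
theorem D192220 : act 6 n99877 = n192220 := rfl
theorem F386058 : act 2 n192220 = n134295 := d3_1 D192220 (iv6 F343846) F345056
theorem F386059 : act 5 n192220 = n111597 := d12_1 D192220 (iv6 F173141) F327601 (iv6 F329818) F329817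
theorem F386060 : act 0 n192220 = n108809 := d21_4 F373195 (iv1 F357136) F329817 D192220 F362799 F362801 F363289 (iv5 D123883) D123884 (iv1 F373196)
theorem F386061 : act 1 n192220 = n134297 := d15_1 (iv0 F386060) (iv7 D134297) (iv2 F168742)
theorem F386062 : act 7 n134294 = n192220 := d13_0 F386059 (iv7 F173143) (iv5 F216315)
def n192221 : Q := act 6 n99888
theorem D192221 : act 6 n99888 = n192221 := rfl
theorem F386063 : act 2 n192221 = n123755 := d3_1 D192221 (iv6 D123755) F304652
theorem F386064 : act 3 n192221 = n101145 := d7_1 D192221 (iv6 D101145) (iv3 F156459)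
theorem F386065 : act 4 n192221 = n140585 := d10_1 D192221 F351233 F332979
theorem F386066 : act 7 n192221 = n140581 := d14_2 F304657 D192221 (iv6 D140581) (iv7 F180146) F331050
def n192222 : Q := act 4 n99889
theorem D192222 : act 4 n99889 = n192222 := rfl
theorem F386067 : act 2 n192222 = n115773 := d1_1 D192222 F331047 F304656
theorem F386068 : act 3 n192222 = n189001 := d5_1 D192222 F375368 F352831 F342025 (iv3 F357805)
theorem F386069 : act 7 n192222 = n123754 := d11_2 F304653 D192222 (iv4 D123754)
theorem F386070 : act 5 n192222 = n188998 := d16_1 D192222 F375363 (iv5 D138509) (iv4 D65052) D65053 (iv4 F314458) F304672 (iv7 F304657) F304656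
theorem F386071 : act 0 n192222 = n104187 := d18_2 (iv1 F153791) D192222 (iv4 D104187) (iv5 D48208) F307751 D65063 (iv4 F310574) F73700 (iv5 F135019)
theorem F386072 : act 1 n192222 = n184062 := d18_6 F199719 (iv4 F94584) F199686 F90838 F304673 D192222 F286008 F308463 (iv5 D58360)
theorem F386073 : act 6 n192222 = n115768 := d21_5 (iv5 D50362) D50359 D109076 (iv6 F359813) (iv1 F386072) (iv5 D115768) (iv1 F84234) D65967 (iv6 F345106) (iv1 D109086)
def n192223 : Q := act 6 n99889
theorem D192223 : act 6 n99889 = n192223 := rfl
theorem F386074 : act 2 n192223 = n115772 := d3_1 D192223 F331050 F304656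
theorem F386075 : act 4 n192223 = n115768 := d10_1 D192223 (iv6 F386073) (iv4 D192222)
theorem F386076 : act 5 n192223 = n140849 := d12_1 D192223 F356690 (iv5 D88079) F305228 F304673
theorem F386077 : act 0 n192223 = n140579 := d21_10 (iv5 F372975) F372980 F356696 (iv6 F331071) (iv1 F366878) F198118 (iv5 D57662) D57660 F304673 D192223
theorem F386078 : act 1 n192223 = n140578 := d15_1 (iv0 F386077) (iv7 F373038) F373036
theorem F386079 : act 7 n192223 = n140566 := d15_2 D140579 (iv0 F386077) F223700
def n192224 : Q := act 5 n99890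
theorem D192224 : act 5 n99890 = n192224 := rfl
theorem F386080 : act 2 n192224 = n184568 := d2_1 D192224 (iv5 D184568) (iv2 F153793)
theorem F386081 : act 0 n171152 = n192224 := d19_0 (iv5 D192224) (iv4 D99890) (iv3 F89640) (iv1 F299259) (iv5 D57303) (iv4 F70115) (iv3 D44586) (iv1 D21209) (iv5 F28423) (iv4 F33969) (iv3 F71275) (iv1 F309084) D65343 (iv4 F313766) (iv3 D76073) F91444 D37590 D82027 D171152
theorem F386082 : act 0 n188408 = n108463 := d21_4 (iv5 F294999) (iv1 F158981) F345143 D188408 F338869 (iv5 F338866) F386081 (iv5 D192224) F153794 F134780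
def n192225 : Q := act 7 n99890
theorem D192225 : act 7 n99890 = n192225 := rfl
theorem F386083 : act 2 n192225 = n184569 := d4_1 D192225 (iv7 D184569) (iv2 F153793)
theorem F386084 : act 4 n192225 = n99891 := d11_1 D192225 (iv7 D99891) D99890
theorem F386085 : act 1 n124784 = n192225 := d15_1 (iv0 F309406) (iv7 D192225) F153793
theorem F386086 : act 1 n192225 = n124821 := d15_1 F386085 F309405 (iv2 F309407)
def n192226 : Q := act 1 n99893
theorem D192226 : act 1 n99893 = n192226 := rfl
theorem F386087 : act 1 n192226 = n152570 := d15_1 D192226 F351175 (iv2 F153805)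
theorem F386088 : act 7 n192226 = n152572 := d15_2 (iv0 F372003) D192226 (iv2 D152572)
theorem F386089 : act 5 n185295 = n192226 := d21_0 (iv1 D192226) F153807 (iv6 D88211) (iv1 D41166) D41168 D88218 (iv1 F337954) F283293 D185315 (iv1 F373385)
theorem E103507 : n185293 = n154449 := ((c21_5 (iv5 D19360) (iv1 F30920) (iv5 F61960) D87716 (iv1 F310898) (iv6 F373384) F386089 (iv1 D192226) F153807 (iv6 D88211) (iv1 D41166))).symm
theorem F386090 : act 2 n154449 = n88284 := (sb E103507 (iv2 D185293))
theorem F386091 : act 4 n154449 = n185297 := (sb E103507 F373381)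
theorem F386092 : act 6 n154449 = n185295 := (sb E103507 (iv6 F373384))
theorem F386093 : act 7 n154449 = n88285 := (sb E103507 (iv7 F287559))
theorem E103508 : n185298 = n154448 := (c15_4 (iv0 D154448) D154449 F386093 (iv2 F287561))
theorem F386094 : act 2 n154448 = n88285 := (sb E103508 F287561)
theorem F386095 : act 7 n154448 = n88284 := (sb E103508 (iv7 D185298))
theorem F386096 : act 2 n192226 = n152574 := d2_1 F386089 F351163 F373383
def n192227 : Q := act 7 n99893
theorem D192227 : act 7 n99893 = n192227 := rfl
theorem F386097 : act 2 n192227 = n152570 := d4_1 D192227 F351175 (iv2 F153805)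
theorem F386098 : act 3 n192227 = n101158 := d8_1 D192227 (iv7 D101158) (iv3 F153806)
theorem F386099 : act 5 n192227 = n154530 := d13_1 D192227 F358593 (iv5 F153807)
theorem F386100 : act 6 n192227 = n103988 := d14_1 D192227 (iv7 D103988) (iv6 D48138) (iv7 F293839) D99893
theorem F386101 : act 1 n152574 = n192227 := d15_1 (iv0 F351162) (iv7 D192227) F153805
theorem F386102 : act 1 n192227 = n152572 := d15_1 F386101 (iv7 F386088) F386096
def n192228 : Q := act 3 n99895
theorem D192228 : act 3 n99895 = n192228 := rfl
theorem F386103 : act 2 n192228 = n180791 := d0_1 D192228 F281424 (iv2 F345202) (iv3 D103984) (iv2 F294718)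
theorem F386104 : act 4 n192228 = n192013 := d5_2 D99895 D192228 F385335 (iv4 D192044) F157647
theorem F386105 : act 5 n192228 = n103844 := d6_2 (iv5 F294719) D192228 F159251
theorem F386106 : act 7 n192228 = n103843 := d8_2 (iv7 F294720) D192228 F159250
theorem F386107 : act 0 n128391 = n192228 := d20_4 F205966 (iv1 F206040) (iv4 F206044) (iv3 F206509) (iv3 D192228) (iv4 D99895) (iv1 D46650) D46651 (iv3 F326345) (iv1 F205968)
theorem F386108 : act 6 n192228 = n180789 := d21_5 (iv5 D50349) D50345 D109037 (iv6 F355979) F386107 (iv5 D180789) (iv1 F132345) (iv5 F280790) (iv6 F370873) (iv1 D109052)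
def n192229 : Q := act 6 n99895
theorem D192229 : act 6 n99895 = n192229 := rfl
theorem F386109 : act 2 n192229 = n103985 := d3_1 D192229 (iv6 D103985) (iv2 F294718)
theorem F386110 : act 3 n192229 = n180789 := d7_1 D192229 (iv6 F386108) (iv3 D192228)
theorem F386111 : act 4 n192229 = n99896 := d10_1 D192229 (iv6 D99896) D99895
theorem F386112 : act 5 n180779 = n192229 := d16_1 (iv4 F281397) F386111 F294454 (iv4 F332739) F152083 F295373 (iv5 F148281) F148282 D157754
theorem F386113 : act 5 n140550 = n170835 := d21_6 (iv5 F294317) F294315 (iv5 D91279) F331054 (iv1 F180975) D140550 (iv1 F281399) F386112 (iv6 D192229) F153814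
theorem F386114 : act 1 n140550 = n157935 := d17_8 F373226 F373224 F332743 (iv5 F294454) (iv4 F386111) (iv5 F386112) F281399 (iv5 F386113) (iv4 F362330)
theorem F386115 : act 6 n170835 = n140553 := d21_9 (iv5 F383310) (iv1 D154716) D154717 (iv6 F350074) F380724 F326436 (iv5 F248832) (iv1 F386114) F386113 (iv1 F383311)
theorem F386116 : act 6 n180023 = n125836 := d10_2 F386115 F359328 F364837
theorem F386117 : act 5 n108695 = n125834 := d21_0 (iv1 D125834) (iv5 D58925) D58926 D125836 (iv6 F386116) (iv5 D180023) F298913 (iv5 F282298) F356039 (iv1 F202153)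
theorem F386118 : act 1 n108641 = n108764 := d17_6 (iv1 F202153) F386117 (iv1 D125834) (iv5 D58925) (iv4 F79486) D108641 (iv5 D108764) F168484 (iv4 F202149)
theorem F386119 : act 1 n108759 = n108641 := d15_0 F386118 (iv7 F219107) F219109
theorem F386120 : act 1 n108931 = n108759 := d15_0 F386119 F168542 (iv2 F168941)
theorem F386121 : act 1 n108764 = n108931 := d15_0 F386120 F219104 F219106
theorem F386122 : act 2 n170835 = n180778 := d2_1 F386113 (iv5 F364846) F224941
theorem F386123 : act 7 n180777 = n170835 := d15_2 F281400 F281395 F386122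
theorem F386124 : act 7 n170836 = n180778 := d15_2 (iv0 D170835) D170836 (iv2 F386122)
theorem F386125 : act 2 n180777 = n170836 := d4_3 F386124 (iv2 F386122) (iv7 F386123)
def n192230 : Q := act 0 n99896
theorem D192230 : act 0 n99896 = n192230 := rfl
theorem F386126 : act 5 n192230 = n108808 := d21_8 (iv5 F368224) (iv1 D186843) F329135 F328768 (iv1 F292472) D87184 (iv5 F294454) D192230 F168741 D108814
theorem F386127 : act 3 n108809 = n192230 := d6_3 F386126 (iv3 D108808) D108809
theorem F386128 : act 0 n192230 = n103988 := d21_1 (iv5 F386126) F159435 F295050 (iv1 F358607) (iv6 D154230) (iv5 F242088) (iv1 F308316) F135083 D184749 F336399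
def n192231 : Q := act 1 n99896
theorem D192231 : act 1 n99896 = n192231 := rfl
theorem F386129 : act 1 n192231 = n103988 := d15_1 D192231 (iv7 D103988) (iv2 F294453)
def n192232 : Q := act 7 n99896
theorem D192232 : act 7 n99896 = n192232 := rfl
theorem F386130 : act 2 n192232 = n103988 := d4_1 D192232 (iv7 D103988) (iv2 F294453)
theorem F386131 : act 5 n192232 = n134913 := d13_1 D192232 F332724 (iv5 F294454)
theorem F386132 : act 6 n192232 = n152570 := d14_1 D192232 F351175 (iv6 D88018) (iv7 F73714) D99896
theorem F386133 : act 1 n103987 = n192232 := d15_1 D103987 (iv7 D192232) F294453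
theorem F386134 : act 1 n192232 = n103986 := d15_0 (iv0 D103986) D103988 (iv2 F386130)
def n192233 : Q := act 5 n99911
theorem D192233 : act 5 n99911 = n192233 := rfl
theorem F386135 : act 2 n192233 = n191404 := d2_1 D192233 (iv5 D191404) (iv2 F153841)
theorem F386136 : act 3 n192233 = n170892 := d6_1 D192233 (iv5 D170892) (iv3 F153842)
theorem F386137 : act 6 n192233 = n99914 := d12_2 D99911 D192233 (iv5 D99914) (iv6 D46668) D46667
theorem F386138 : act 0 n100508 = n192233 := d21_1 F366728 (iv5 D192233) (iv6 D99911) F73758 F302445 D158130 F249076 F177716 D173906 F315796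
def n192234 : Q := act 4 n99914
theorem D192234 : act 4 n99914 = n192234 := rfl
theorem F386139 : act 2 n192234 = n188627 := d1_1 D192234 F374241 F371258
theorem F386140 : act 0 n192234 = n159824 := d17_0 (iv5 D159824) F177334 D187501 (iv4 F383915) (iv5 D191592) F372250 F372247 F362360 D192234
theorem F386141 : act 1 n192234 = n184521 := d18_6 (iv1 F134959) D87990 (iv1 F177352) F139317 D99914 D192234 (iv4 D184521) F286370 F286368
theorem F386142 : act 3 n192039 = n139334 := d20_5 D184521 (iv1 F386141) (iv4 D192234) F153843 D192039 F345078 F337444 (iv4 F215946) F337437 (iv1 F286370)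
theorem F386143 : act 7 n139541 = n192039 := d8_0 F386142 F329839 D139541
def n192235 : Q := act 5 n99916
theorem D192235 : act 5 n99916 = n192235 := rfl
theorem F386144 : act 2 n192235 = n191402 := d2_1 D192235 (iv5 D191402) (iv2 F153845)
theorem F386145 : act 6 n192235 = n99919 := d12_2 D99916 D192235 (iv5 D99919) (iv6 D46670) D46669
theorem F386146 : act 0 n192235 = n100125 := d18_0 F342229 F342231 F222798 F339891 (iv4 F253925) (iv0 F253928) (iv4 D100090) (iv0 F357452) D192235
def n192236 : Q := act 4 n99919
theorem D192236 : act 4 n99919 = n192236 := rfl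
theorem F386147 : act 0 n192236 = n152789 := d20_7 (iv4 D74018) F86407 (iv4 F107649) D150897 (iv1 F378188) F378185 D192236 (iv4 F339914) (iv3 D140113) (iv1 F323742)
def n192237 : Q := act 5 n99921
theorem D192237 : act 5 n99921 = n192237 := rfl
theorem F386148 : act 2 n192237 = n99927 := d2_1 D192237 (iv5 D99927) (iv2 F160547)
theorem F386149 : act 3 n192237 = n185307 := d6_1 D192237 (iv5 D185307) (iv3 F158400)
theorem F386150 : act 7 n192237 = n99932 := d13_2 (iv7 F160548) D192237 (iv5 D99932)
theorem F386151 : act 4 n192237 = n156095 := d16_6 F103397 (iv5 F93581) F93580 (iv5 F335800) (iv4 F153846) D192237 (iv5 D156095) F203867 (iv2 F103396)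
theorem F386152 : act 0 n192237 = n102667 := d17_2 D99921 D192237 F157904 F136754 F325803 (iv0 D63162) (iv5 F323567) (iv0 F73768) (iv4 F73767)
theorem F386153 : act 1 n192237 = n185477 := d17_8 F361009 (iv5 F359530) F245050 F359545 F287510 F153868 (iv0 F153847) D192237 (iv4 F361011)
theorem F386154 : act 1 n99927 = n187461 := d15_0 (iv0 F370438) (iv7 F386150) F386148
def n192238 : Q := act 5 n99922
theorem D192238 : act 5 n99922 = n192238 := rfl
theorem F386155 : act 2 n192238 = n99932 := d2_1 D192238 (iv5 D99932) (iv2 F160543)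
theorem F386156 : act 3 n192238 = n191275 := d6_1 D192238 (iv5 D191275) F153850
theorem F386157 : act 7 n192238 = n99927 := d13_2 (iv7 F160544) D192238 (iv5 D99927)
theorem F386158 : act 4 n192238 = n144075 := d16_2 F153849 D192238 (iv5 D144075) F103397 (iv5 F93581) F93580 (iv5 F335800) (iv7 F160549) F160561
theorem F386159 : act 1 n192238 = n102667 := d17_6 F377202 F376152 (iv1 F179387) F363751 F153849 D192238 F157904 D186715 (iv4 F377200)
theorem F386160 : act 0 n192238 = n185477 := d18_0 (iv4 F361011) F361009 (iv4 D88201) (iv5 D41163) D41162 (iv0 F73768) (iv4 F73767) D99922 D192238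
def n192239 : Q := act 0 n99923
theorem D192239 : act 0 n99923 = n192239 := rfl
theorem F386161 : act 2 n99934 = n192239 := d15_3 (iv0 D192239) (iv0 F383396) F383395
theorem F386162 : act 7 n192239 = n99935 := d4_2 F383395 F386161 (iv2 F383394)
theorem F386163 : act 3 n185311 = n192239 := d8_3 F386162 (iv3 F372390) (iv7 F378900)
theorem F386164 : act 1 n99937 = n192239 := d15_1 F383398 F386162 (iv2 F383394)
theorem F386165 : act 4 n192239 = n156097 := d18_7 D74250 F203866 (iv1 F203864) F179614 F359545 F287510 F386164 (iv0 D156097) (iv5 D74251)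
def n192240 : Q := act 7 n99923
theorem D192240 : act 7 n99923 = n192240 := rfl
theorem F386166 : act 2 n192240 = n99937 := d4_1 D192240 (iv7 D99937) (iv2 F153851)
theorem F386167 : act 3 n192240 = n156126 := d8_1 D192240 F340588 (iv3 F153852)
theorem F386168 : act 5 n192240 = n99924 := d13_1 D192240 (iv7 D99924) D99923
theorem F386169 : act 1 n99935 = n192240 := d15_1 D99935 (iv7 D192240) F153851
theorem F386170 : act 1 n192240 = n99934 := d15_1 F386169 (iv7 F383395) F383394
def n192241 : Q := act 6 n99926
theorem D192241 : act 6 n99926 = n192241 := rfl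
theorem F386171 : act 2 n192241 = n188790 := d3_1 D192241 (iv6 D188790) F160560
theorem F386172 : act 3 n192241 = n159701 := d7_1 D192241 F251598 (iv3 F153860)
theorem F386173 : act 4 n192241 = n99928 := d10_1 D192241 (iv6 D99928) D99926
theorem F386174 : act 5 n192241 = n115189 := d12_1 D192241 (iv6 D115189) (iv5 D53149) D53150 (iv5 F335802)
theorem F386175 : act 7 n192241 = n159722 := d14_2 (iv7 F160546) D192241 F370473 (iv7 F374159) F374158
theorem F386176 : act 0 n185052 = n192241 := d21_4 F114667 D131121 F339540 (iv6 F335764) (iv6 D192241) F335802 (iv1 F179271) D134480 (iv6 F363797) (iv1 D159831)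
theorem F386177 : act 1 n185047 = n192241 := d15_0 (iv0 F386176) (iv7 F370622) F370619
def n192242 : Q := act 0 n99927
theorem D192242 : act 0 n99927 = n192242 := rfl
theorem F386178 : act 5 n192242 = n186709 := d17_3 D46672 D99927 D192242 F367762 F344371 (iv0 D115112) (iv5 F324891) (iv0 D43377) (iv4 F34935)
theorem F386179 : act 2 n102667 = n192242 := d15_3 (iv0 D192242) F386154 F370437
theorem F386180 : act 1 n99932 = n192242 := d15_0 (iv0 D192242) (iv7 F386157) F386155
theorem F386181 : act 7 n192242 = n185477 := d15_2 (iv0 F370438) F386180 (iv2 F370435)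
theorem F386182 : act 3 n183893 = n192242 := d8_3 F386181 (iv3 D185477) (iv7 F285727)
def n192243 : Q := act 4 n99927
theorem D192243 : act 4 n99927 = n192243 := rfl
theorem F386183 : act 2 n192243 = n156095 := d1_1 D192243 (iv4 F386151) F386148
theorem F386184 : act 5 n192243 = n144076 := d9_2 D99927 D192243 F226799 (iv5 F203287) F203286 (iv5 F339548) (iv4 D99931) D99932 (iv4 F363752) (iv5 D115334) (iv4 F93822) (iv5 F167619) F167618 (iv5 F335802) (iv4 D99926)
theorem F386185 : act 7 n192243 = n144075 := d11_2 F386157 D192243 (iv4 F386158)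
theorem F386186 : act 0 n192243 = n185028 := d18_2 (iv1 F386154) D192243 (iv4 D185028) (iv5 F339542) (iv4 F339543) F383389 F383386 F368190 (iv5 F370436)
theorem F386187 : act 1 n192243 = n152799 := d18_6 F290203 (iv4 F134951) (iv1 F290227) (iv4 D99926) D99927 D192243 F359503 F285658 (iv5 D183850)
theorem F386188 : act 0 n185347 = n183756 := d20_4 D102324 F357603 F329586 D185347 F285529 D192243 F386186 (iv4 D185028) (iv3 F357605) (iv1 D102323)
theorem F386189 : act 1 n185347 = n183767 := d15_1 (iv0 F386188) (iv7 F382844) F382842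
theorem F386190 : act 0 n126820 = n129676 := d17_0 (iv5 D129676) F203289 F203287 (iv4 F226799) (iv5 F386184) F386187 F359504 F245405 (iv4 F204068)
def n192244 : Q := act 6 n99927
theorem D192244 : act 6 n99927 = n192244 := rfl
def n192245 : Q := act 5 n99928
theorem D192245 : act 5 n99928 = n192245 := rfl
theorem F386191 : act 2 n192245 = n186613 := d2_1 D192245 (iv5 F372295) (iv2 F372292)
theorem F386192 : act 3 n192245 = n191474 := d6_1 D192245 (iv5 F383536) F285530
theorem F386193 : act 7 n192245 = n186612 := d13_2 F370475 D192245 F370476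
theorem F386194 : act 0 n192245 = n186606 := d17_2 F367246 D192245 (iv5 D186606) F136438 F67852 D52649 (iv5 F142963) F143474 F290584
theorem F386195 : act 1 n192245 = n186615 := d17_6 F373957 (iv5 F373958) F363827 (iv5 F386174) F386173 D192245 F367448 (iv0 F367428) F367423
def n192246 : Q := act 6 n99932
theorem D192246 : act 6 n99932 = n192246 := rfl
theorem F386196 : act 5 n192246 = n191855 := d12_1 D192246 (iv6 D191855) (iv5 F367070) F367071 D99932
def n192247 : Q := act 3 n99934
theorem D192247 : act 3 n99934 = n192247 := rfl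
theorem F386197 : act 4 n192247 = n183781 := d20_6 D47493 F74672 (iv4 D46677) (iv3 F73769) D99934 D192247 (iv1 F382882) F382879 F150989 (iv1 F72158)
theorem F386198 : act 0 n183949 = n192247 := d18_0 F386197 (iv1 F382882) F382879 F150990 F72128 F72132 D87674 F289776 D183949
def n192248 : Q := act 4 n99934
theorem D192248 : act 4 n99934 = n192248 := rfl
theorem F386199 : act 2 n192248 = n156097 := d1_1 D192248 (iv4 F386165) (iv2 F386161)
theorem F386200 : act 7 n192248 = n156098 := d11_2 F383395 D192248 (iv4 F383397)
theorem F386201 : act 0 n192248 = n156100 := d17_0 F245267 (iv1 F111128) D115334 F363752 (iv5 D99932) F153857 (iv5 F386168) F386170 D192248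
def n192249 : Q := act 6 n99934
theorem D192249 : act 6 n99934 = n192249 := rfl
def n192250 : Q := act 4 n99935
theorem D192250 : act 4 n99935 = n192250 := rfl
theorem F386202 : act 2 n192250 = n156098 := d1_1 D192250 (iv4 F383397) F383394
theorem F386203 : act 7 n192250 = n156097 := d11_2 F386162 D192250 (iv4 F386165)
theorem F386204 : act 0 n192250 = n155988 := d17_0 (iv5 D155988) (iv1 F226802) (iv5 F386184) (iv4 D192243) (iv5 D99927) (iv0 D46672) D46674 D99935 D192250
theorem F386205 : act 1 n192250 = n156100 := d18_8 (iv1 F111128) (iv4 F93822) F93823 (iv4 F167102) (iv5 F359542) (iv4 D99936) D99935 D192250 F245267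
theorem F386206 : act 5 n192250 = n156156 := d21_8 (iv5 F220181) (iv1 F220182) (iv5 D115365) F166213 (iv1 F111099) (iv6 F111127) (iv5 F245267) (iv1 F386205) (iv6 D156156) (iv1 F111483)
theorem F386207 : act 0 n156156 = n115724 := d18_0 F180049 F165210 (iv4 F359547) (iv5 D185172) (iv4 D88248) F290229 (iv4 F359551) (iv0 F386204) F386206
theorem F386208 : act 1 n192248 = n155988 := d15_0 (iv0 F386204) F386203 (iv2 F386199)
def n192251 : Q := act 3 n99936
theorem D192251 : act 3 n99936 = n192251 := rfl
theorem F386209 : act 4 n192251 = n99940 := d5_2 D99936 D192251 (iv3 D99940) (iv4 D46677) (iv3 F73769)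
def n192252 : Q := act 6 n99937
theorem D192252 : act 6 n99937 = n192252 := rfl
theorem F386210 : act 3 n192252 = n99943 := d7_1 D192252 (iv6 D99943) (iv3 F153867)
theorem F386211 : act 4 n192252 = n152874 := d10_1 D192252 (iv6 F361012) F287510
theorem F386212 : act 5 n192252 = n102405 := d12_1 D192252 (iv6 D102405) (iv5 D47515) (iv6 F73772) (iv5 F153868)
def n192253 : Q := act 4 n99938
theorem D192253 : act 4 n99938 = n192253 := rfl
theorem F386213 : act 3 n192253 = n154471 := d5_1 D192253 F382942 (iv3 D191300) F151037 D99938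
def n192254 : Q := act 6 n99938
theorem D192254 : act 6 n99938 = n192254 := rfl
theorem F386214 : act 2 n192254 = n184988 := d3_1 D192254 F363386 F362123
theorem F386215 : act 3 n192254 = n99939 := d7_1 D192254 (iv6 D99939) D99938
theorem F386216 : act 5 n192254 = n155673 := d12_1 D192254 (iv6 D155673) F329249 D93060 (iv5 F365645)
theorem F386217 : act 7 n184987 = n192254 := d13_0 F386216 F353415 (iv5 F341093)
theorem F386218 : act 0 n139493 = n192254 := d17_2 F349408 D139493 F386216 F244707 (iv5 F359201) (iv0 D139965) (iv5 D65709) (iv0 F335043) (iv4 F222605)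
theorem F386219 : act 1 n184989 = n192254 := d15_0 (iv0 F386218) F341131 D184989
theorem F386220 : act 1 n138624 = n184989 := d15_0 F386219 (iv7 F386217) (iv2 F363382)
def n192255 : Q := act 1 n99939
theorem D192255 : act 1 n99939 = n192255 := rfl
theorem F386221 : act 7 n192255 = n191987 := d15_2 (iv0 F378898) D192255 F385103
theorem F386222 : act 5 n139317 = n192255 := d21_6 (iv5 D46438) (iv1 F34709) (iv5 F34965) (iv6 F329480) D65391 D139317 (iv1 D192255) (iv5 F367263) (iv6 D93061) (iv1 F292693)
theorem F386223 : act 4 n186909 = n192255 := d11_3 F386221 (iv4 D191987) (iv7 F368475)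
def n192256 : Q := act 7 n99939
theorem D192256 : act 7 n99939 = n192256 := rfl
theorem F386224 : act 3 n192256 = n184987 := d8_1 D192256 F386217 F386215
theorem F386225 : act 4 n192256 = n189912 := d11_1 D192256 F378899 F378897
theorem F386226 : act 5 n192256 = n189032 := d13_1 D192256 (iv7 D189032) F367263
def n192257 : Q := act 0 n99940
theorem D192257 : act 0 n99940 = n192257 := rfl
def n192258 : Q := act 1 n99940
theorem D192258 : act 1 n99940 = n192258 := rfl
def n192259 : Q := act 2 n99940
theorem D192259 : act 2 n99940 = n192259 := rfl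
theorem F386227 : act 3 n192259 = n123830 := d0_2 D99940 D192259 (iv2 F341501) F358616 F152854
theorem F386228 : act 5 n192259 = n123828 := d2_2 F370348 D192259 (iv2 F370346)
theorem F386229 : act 7 n146929 = n192259 := d13_0 F386228 F341482 D146929
theorem F386230 : act 1 n192258 = n146929 := d15_1 D192258 F386229 (iv2 D192259)
def n192260 : Q := act 7 n99940
theorem D192260 : act 7 n99940 = n192260 := rfl
theorem F386231 : act 2 n192260 = n146929 := d4_1 D192260 F386229 (iv2 D192259)
theorem F386232 : act 3 n192260 = n99942 := d8_1 D192260 (iv7 D99942) D99940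
theorem F386233 : act 5 n192260 = n117253 := d13_1 D192260 (iv7 F370349) F370348
theorem F386234 : act 1 n146929 = n192257 := d15_0 (iv0 D192257) D192260 F386231
def n192261 : Q := act 6 n99942
theorem D192261 : act 6 n99942 = n192261 := rfl
theorem F386235 : act 4 n192261 = n99943 := d10_1 D192261 (iv6 D99943) (iv4 F153870)
theorem F386236 : act 5 n192261 = n188228 := d12_1 D192261 F372746 F231944 F346100 F290627
def n192262 : Q := act 0 n99943
theorem D192262 : act 0 n99943 = n192262 := rfl
def n192263 : Q := act 1 n99943
theorem D192263 : act 1 n99943 = n192263 := rfl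
def n192264 : Q := act 4 n99946
theorem D192264 : act 4 n99946 = n192264 := rfl
theorem F386237 : act 2 n192264 = n99953 := d1_1 D192264 (iv4 D99953) (iv2 F153879)
theorem F386238 : act 0 n192264 = n192084 := d18_2 F377073 D192264 (iv4 D192084) (iv5 F384668) F384670 F370025 F370020 F365471 D189600
def n192265 : Q := act 4 n99947
theorem D192265 : act 4 n99947 = n192265 := rfl
theorem F386239 : act 2 n192265 = n137811 := d1_1 D192265 F221045 (iv2 F329331)
theorem F386240 : act 7 n192265 = n104276 := d11_2 (iv7 F153881) D192265 (iv4 D104276)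
theorem F386241 : act 0 n192265 = n137809 := d18_2 (iv1 F159759) D192265 (iv4 F385443) F385442 (iv4 F378820) (iv0 D190090) F147283 (iv0 F157431) (iv5 D102486)
theorem F386242 : act 0 n137808 = n192265 := d20_7 (iv4 F156190) (iv1 F156191) (iv4 D47199) (iv3 F74480) D101406 F385976 (iv4 F385447) (iv4 D192265) F153880 (iv1 F134171)
def n192266 : Q := act 6 n99947
theorem D192266 : act 6 n99947 = n192266 := rfl
theorem F386243 : act 2 n192266 = n117440 := d3_1 D192266 F328423 (iv2 F329331)
theorem F386244 : act 3 n192266 = n104206 := d7_1 D192266 (iv6 D104206) (iv3 F153880)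
theorem F386245 : act 5 n192266 = n117439 := d12_1 D192266 (iv6 F360603) F284556 F140606 D99947
theorem F386246 : act 7 n192266 = n136100 := d14_2 (iv7 F153881) D192266 (iv6 D136100) F99582 F329329
theorem F386247 : act 1 n136106 = n192266 := d15_1 D136106 F386246 F219056
theorem F386248 : act 1 n192266 = n102507 := d15_1 F386247 (iv7 F385946) (iv2 F385949)
def n192267 : Q := act 4 n99951
theorem D192267 : act 4 n99951 = n192267 := rfl
theorem F386249 : act 2 n192267 = n108063 := d1_1 D192267 (iv4 F385837) F385836
theorem F386250 : act 6 n108061 = n192267 := d3_0 F386249 (iv6 D108063) D108061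
def n192268 : Q := act 6 n99951
theorem D192268 : act 6 n99951 = n192268 := rfl
theorem F386251 : act 2 n192268 = n108037 := d3_1 D192268 (iv6 F385838) F385836
theorem F386252 : act 3 n192268 = n183929 := d7_1 D192268 (iv6 D183929) (iv3 F155996)
theorem F386253 : act 4 n192268 = n108061 := d10_1 D192268 F386250 (iv4 D192267)
def n192269 : Q := act 4 n99952
theorem D192269 : act 4 n99952 = n192269 := rfl
theorem F386254 : act 3 n192269 = n108069 := d5_1 D192269 F167087 (iv3 F166995) (iv4 F219520) F365610
theorem F386255 : act 7 n192269 = n108063 := d11_2 F385834 D192269 (iv4 F385837)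
def n192270 : Q := act 0 n99953
theorem D192270 : act 0 n99953 = n192270 := rfl
def n192271 : Q := act 1 n99953
theorem D192271 : act 1 n99953 = n192271 := rfl
theorem F386256 : act 4 n192056 = n192271 := d20_6 F64472 (iv1 F64414) F64411 (iv3 F73564) (iv1 F153329) D192056 (iv1 D192271) (iv4 D99953) F73787 (iv1 F64471)
theorem F386257 : act 7 n192271 = n192084 := d11_2 (iv7 F385370) F386256 (iv4 D192084)
theorem F386258 : act 2 n192084 = n192270 := d15_3 (iv0 D192270) D192271 F386257
theorem F386259 : act 4 n192270 = n192083 := d1_2 D192084 F386258 (iv2 D192083)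
def n192272 : Q := act 3 n99953
theorem D192272 : act 3 n99953 = n192272 := rfl
theorem F386260 : act 4 n192272 = n99954 := d5_2 D99953 D192272 (iv3 D99954) (iv4 D46685) (iv3 F73787)
theorem F386261 : act 5 n169826 = n192272 := d16_1 D169826 F386260 (iv5 F368992) F368991 (iv5 F337585) F210587 (iv5 F236049) F340766 F267250
def n192273 : Q := act 5 n99953
theorem D192273 : act 5 n99953 = n192273 := rfl
theorem F386262 : act 3 n192273 = n169826 := d6_1 D192273 F386261 (iv3 D192272)
theorem F386263 : act 4 n169875 = n192273 := d5_0 F386262 (iv4 D169826) F125275 D81461 D169875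
def n192274 : Q := act 0 n99954
theorem D192274 : act 0 n99954 = n192274 := rfl
theorem F386264 : act 3 n192274 = n119245 := d20_5 (iv4 F64501) F64503 D46685 D99954 D192274 (iv4 F189711) F234192 (iv4 F335758) F137111 (iv1 F64413)
theorem F386265 : act 1 n184197 = n192274 := d15_0 (iv0 D192274) (iv7 F157061) F359404
theorem F386266 : act 6 n178869 = n192274 := d7_0 F386264 F189712 D178869
def n192275 : Q := act 1 n99954
theorem D192275 : act 1 n99954 = n192275 := rfl
def n192276 : Q := act 2 n99954
theorem D192276 : act 2 n99954 = n192276 := rfl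
theorem F386267 : act 3 n192276 = n184219 := d0_2 D99954 D192276 (iv2 F353235) (iv3 D102167) (iv2 F74635)
theorem F386268 : act 5 n192276 = n184198 := d2_2 F368992 D192276 (iv2 F368990)
theorem F386269 : act 7 n192276 = n184197 := d4_2 F157061 D192276 (iv2 F359404)
theorem F386270 : act 1 n192275 = n184197 := d15_1 D192275 (iv7 F386269) (iv2 D192276)
theorem F386271 : act 5 n192275 = n149179 := d21_2 D184197 (iv1 F386270) (iv6 F358575) (iv1 D109899) (iv6 D50683) (iv5 D24678) D24675 (iv5 F79916) D109564 F361285
theorem F386272 : act 3 n149180 = n192275 := d6_3 F386271 (iv3 D149179) D149180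
def n192277 : Q := act 4 n99971
theorem D192277 : act 4 n99971 = n192277 := rfl
theorem F386273 : act 0 n192277 = n184626 := d18_2 (iv1 F289741) D192277 (iv4 D184626) (iv5 D88033) (iv4 F73698) (iv0 F289619) (iv4 F73663) F73665 D47521
def n192278 : Q := act 6 n99971
theorem D192278 : act 6 n99971 = n192278 := rfl
def n192279 : Q := act 0 n99972
theorem D192279 : act 0 n99972 = n192279 := rfl
theorem F386274 : act 1 n102421 = n192279 := d15_0 (iv0 D192279) (iv7 F357235) F357234
theorem F386275 : act 4 n192279 = n192213 := d18_7 F289809 (iv4 D84680) F289736 (iv4 D47520) D47521 D102421 F386274 (iv0 D192213) (iv5 D99863)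
def n192280 : Q := act 5 n99972
theorem D192280 : act 5 n99972 = n192280 := rfl
def n192281 : Q := act 5 n99984
theorem D192281 : act 5 n99984 = n192281 := rfl
theorem F386276 : act 3 n192281 = n99985 := d6_1 D192281 (iv5 D99985) D99984
theorem F386277 : act 7 n192281 = n171052 := d13_2 (iv7 F153920) D192281 (iv5 D171052)
theorem F386278 : act 0 n192281 = n123234 := d17_2 F351961 D192281 (iv5 D123234) D123233 F307790 F309379 (iv5 F309953) (iv0 D131088) (iv4 F166830)
theorem F386279 : act 1 n192281 = n123239 := d17_6 F305006 (iv5 D69828) (iv1 F106212) F314125 (iv4 F153919) D192281 (iv5 D123239) F197519 (iv4 F307146)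
def n192282 : Q := act 4 n99985
theorem D192282 : act 4 n99985 = n192282 := rfl
theorem F386280 : act 2 n192282 = n140401 := d1_1 D192282 (iv4 F332914) (iv2 F153921)
theorem F386281 : act 5 n192282 = n110603 := d9_2 D99985 D192282 (iv4 F173768) F343753 (iv4 D76928) (iv5 D35148) D35147 D76925 (iv4 F332915) (iv5 F171735) (iv4 F173776) (iv5 F351104) (iv4 D122387) (iv5 D56711) (iv4 F117313)
theorem F386282 : act 6 n192282 = n140423 := d10_2 (iv6 F343245) D192282 F223576
theorem F386283 : act 7 n192282 = n126880 := d11_2 (iv7 F153922) D192282 (iv4 F332930)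
theorem F386284 : act 0 n192282 = n123306 := d17_0 F363088 (iv1 F173190) F93078 D68175 (iv5 F328499) F90272 D57377 F302773 D192282
theorem F386285 : act 1 n192282 = n123314 := d18_6 (iv1 F298998) F58438 (iv1 F44100) (iv4 F117313) D99985 D192282 (iv4 D123314) (iv0 F336656) F336660
def n192283 : Q := act 0 n99998
theorem D192283 : act 0 n99998 = n192283 := rfl
theorem F386286 : act 5 n192283 = n103334 := d17_3 F73820 D99998 D192283 (iv4 F368028) F368030 (iv0 D101086) (iv5 D47091) (iv0 D22647) (iv4 F35207)
theorem F386287 : act 1 n101055 = n192283 := d15_0 (iv0 D192283) (iv7 F285869) F285867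
theorem F386288 : act 6 n156687 = n192283 := d21_9 (iv5 D101055) (iv1 D47079) D47080 (iv6 F155721) (iv1 F364471) F180577 (iv5 F329492) (iv1 F345984) (iv5 F338251) (iv1 F386287)
theorem F386289 : act 2 n192283 = n103335 := d3_1 F386288 F343902 F361440
theorem F386290 : act 3 n100173 = n192283 := d0_0 F386289 F158583 F293858 (iv3 F369473) F369472
def n192284 : Q := act 1 n99998
theorem D192284 : act 1 n99998 = n192284 := rfl
theorem F386291 : act 1 n192284 = n101055 := d15_1 D192284 (iv7 F285853) F285852
theorem F386292 : act 7 n192284 = n103335 := d15_2 (iv0 D192283) D192284 (iv2 F386289)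
theorem F386293 : act 5 n192284 = n103063 := d17_7 (iv1 F375554) F375552 (iv1 F345096) (iv5 D183966) (iv4 F134735) D99998 D192284 (iv0 F343894) (iv4 F343895)
theorem F386294 : act 3 n103064 = n192284 := d20_3 D43700 D93439 (iv4 F294032) (iv1 D192284) F153945 D100007 F329693 (iv4 F80946) (iv3 F335384) (iv1 D43699)
def n192285 : Q := act 4 n99998
theorem D192285 : act 4 n99998 = n192285 := rfl
theorem F386295 : act 3 n192285 = n125482 := d5_1 D192285 (iv4 D125482) (iv3 F329696) (iv4 D100007) (iv3 F153945)
theorem F386296 : act 6 n192285 = n127080 := d10_2 (iv6 F329688) D192285 (iv4 F224118)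
theorem F386297 : act 7 n192285 = n144298 := d11_2 F285869 D192285 (iv4 F363680)
theorem F386298 : act 0 n192285 = n186950 := d17_0 (iv5 F371678) (iv1 F371679) (iv5 F385036) F385037 (iv5 F364422) F343891 (iv5 F386286) (iv0 D192283) D192285
theorem F386299 : act 1 n192285 = n103909 := d18_6 (iv1 D99423) F73439 D87757 (iv4 F134735) D99998 D192285 (iv4 F375562) F375564 F364320
def n192286 : Q := act 1 n100002
theorem D192286 : act 1 n100002 = n192286 := rfl
theorem F386300 : act 1 n192286 = n100019 := d15_1 D192286 (iv7 F154196) (iv2 F154197)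
theorem F386301 : act 7 n192286 = n188076 := d15_2 F358823 D192286 F372253
theorem F386302 : act 5 n192286 = n187104 := d17_7 (iv1 F343860) F335661 (iv1 D100006) (iv5 D46703) D46702 D100002 D192286 (iv0 F369103) F343861
theorem F386303 : act 2 n187106 = n192286 := d2_3 F386302 F369098 D187106
theorem F386304 : act 3 n187855 = n192286 := d6_3 F386302 F369099 F371703
theorem F386305 : act 4 n108713 = n192286 := d9_15 F386302 F369100 F222729 F172415 F171643 (iv4 F222732) (iv5 F372262) (iv4 D188077) (iv5 D90783) (iv4 F293859) F335388 F80946 F78617 (iv4 F79556) D108713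
theorem F386306 : act 6 n135923 = n192286 := d21_5 (iv5 D63117) (iv1 F168417) F357718 (iv6 F357719) D135923 F386302 F369102 F343886 (iv6 F350361) (iv1 D134353)
theorem F386307 : act 2 n159160 = n135923 := d3_3 F386306 (iv2 F386303) F369107
theorem F386308 : act 7 n159159 = n135923 := d14_0 F386306 F386301 F372257 (iv7 F372259) F359223
theorem F386309 : act 2 n159159 = n135924 := d15_3 F341520 F366146 (iv7 F386308)
theorem F386310 : act 6 n135924 = n141227 := d3_2 F359223 F386309 (iv2 F372261)
theorem F386311 : act 7 n135924 = n159160 := d4_2 (iv7 F386308) F386309 F386307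
def n192287 : Q := act 5 n100016
theorem D192287 : act 5 n100016 = n192287 := rfl
theorem F386312 : act 2 n192287 = n100017 := d2_1 D192287 (iv5 D100017) D100016
theorem F386313 : act 3 n192287 = n101055 := d6_1 D192287 (iv5 D101055) (iv3 F153960)
theorem F386314 : act 7 n192287 = n138026 := d13_2 (iv7 F157786) D192287 F356323
def n192288 : Q := act 0 n100017
theorem D192288 : act 0 n100017 = n192288 := rfl
theorem F386315 : act 1 n138026 = n192288 := d15_0 (iv0 D192288) F329702 (iv2 F357358)
def n192289 : Q := act 1 n100017
theorem D192289 : act 1 n100017 = n192289 := rfl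
theorem F386316 : act 1 n192289 = n138026 := d15_1 D192289 (iv7 F386314) F386312
theorem F386317 : act 6 n156685 = n192289 := d21_9 (iv5 D100017) F157775 D99521 (iv6 F268486) F351963 (iv6 F329208) F329207 F336792 (iv5 F360936) (iv1 D192289)
theorem F386318 : act 3 n192289 = n100147 := d7_1 F386317 F367145 (iv3 F360935)
theorem F386319 : act 5 n192289 = n186500 := d12_1 F386317 (iv6 D186500) (iv5 F336793) F274291 (iv5 F360936)
def n192290 : Q := act 6 n100017
theorem D192290 : act 6 n100017 = n192290 := rfl
theorem F386320 : act 3 n192290 = n100022 := d7_1 D192290 (iv6 D100022) (iv3 F153964)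
theorem F386321 : act 4 n192290 = n143489 := d10_1 D192290 F365487 (iv4 F329701)
theorem F386322 : act 7 n192290 = n143485 := d14_2 (iv7 F329702) D192290 (iv6 D143485) F329191 D141256
def n192291 : Q := act 0 n100018
theorem D192291 : act 0 n100018 = n192291 := rfl
theorem F386323 : act 4 n192291 = n185416 := d20_0 (iv1 D185416) F135246 (iv3 D88328) F62421 (iv3 F74686) F74687 D47534 (iv4 F289859) (iv3 F153965) D192291
theorem F386324 : act 2 n187610 = n192291 := d15_3 (iv0 D192291) (iv0 F289868) (iv7 F371011)
theorem F386325 : act 3 n192291 = n184323 := d0_2 (iv3 F371009) F386324 (iv2 F372522) F372519 F371236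
theorem F386326 : act 6 n192291 = n187468 := d3_2 D187610 F386324 F370456
theorem F386327 : act 7 n192291 = n191272 := d4_2 (iv7 F371011) F386324 F382845
theorem F386328 : act 1 n185365 = n192291 := d15_1 F289911 F386327 F382845
theorem F386329 : act 5 n191473 = n192291 := d21_8 F370493 (iv1 F374475) (iv5 D188689) F294600 F72564 D46026 D98381 D191473 F386326 (iv1 F370495)
theorem F386330 : act 3 n182930 = n191473 := d6_3 F386329 F386325 (iv5 F368863)
def n192292 : Q := act 5 n100018
theorem D192292 : act 5 n100018 = n192292 := rfl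
theorem F386331 : act 3 n192292 = n100025 := d6_1 D192292 (iv5 D100025) (iv3 F153965)
def n192293 : Q := act 7 n100018
theorem D192293 : act 7 n100018 = n192293 := rfl
theorem F386332 : act 2 n192293 = n185365 := d4_1 D192293 (iv7 F289901) (iv2 F289866)
theorem F386333 : act 3 n192293 = n100026 := d8_1 D192293 (iv7 D100026) (iv3 F153965)
theorem F386334 : act 4 n192293 = n185365 := d11_1 D192293 (iv7 F289901) (iv4 F289867)
theorem F386335 : act 6 n192293 = n187474 := d14_1 D192293 (iv7 F376084) F376083 F154169 D100018
theorem F386336 : act 1 n191272 = n192293 := d15_1 (iv0 F382848) (iv7 D192293) F289866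
theorem F386337 : act 1 n192293 = n187610 := d15_1 F386336 F371011 (iv2 F382845)
def n192294 : Q := act 6 n100019
theorem D192294 : act 6 n100019 = n192294 := rfl
theorem F386338 : act 2 n192294 = n191938 := d3_1 D192294 (iv6 D191938) (iv2 F154195)
theorem F386339 : act 5 n192294 = n134349 := d12_1 D192294 F364410 F335628 (iv6 F289860) D100019
theorem F386340 : act 0 n161577 = n192294 := d21_4 (iv5 D57321) (iv1 F91190) D77607 (iv6 F255574) (iv6 D192294) (iv5 D100019) (iv1 F73823) (iv5 F329717) F329718 (iv1 F301672)
def n192295 : Q := act 6 n100021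
theorem D192295 : act 6 n100021 = n192295 := rfl
theorem F386341 : act 2 n192295 = n144297 := d3_1 D192295 (iv6 D144297) (iv2 F329705)
theorem F386342 : act 4 n192295 = n100022 := d10_1 D192295 (iv6 D100022) D100021
theorem F386343 : act 5 n192295 = n134168 := d21_6 (iv5 F47955) (iv1 D24484) (iv5 F38031) D49749 (iv1 F329704) D192295 (iv1 D134168) (iv5 D63030) (iv6 D29816) (iv1 F47954)
theorem F386344 : act 0 n192295 = n131930 := d21_10 (iv5 D131930) (iv1 D61905) (iv5 F50022) (iv6 D31715) (iv1 F38940) D24871 (iv5 F78976) D108104 (iv5 F329707) D192295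
theorem F386345 : act 0 n131928 = n192295 := d21_4 F78457 D58860 F332918 (iv6 F332920) (iv6 D192295) F329707 (iv1 F167186) (iv5 F171578) F171579 (iv1 F80634)
def n192296 : Q := act 5 n100022
theorem D192296 : act 5 n100022 = n192296 := rfl
theorem F386346 : act 2 n192296 = n156495 := d2_1 D192296 F246040 (iv2 F329711)
theorem F386347 : act 6 n192296 = n100025 := d12_2 D100022 D192296 (iv5 D100025) (iv6 D46709) D46708
theorem F386348 : act 7 n192296 = n156494 := d13_2 (iv7 F329712) D192296 F246035
theorem F386349 : act 0 n192296 = n111213 := d17_2 (iv1 F329710) D192296 (iv5 D111213) F80916 (iv5 F48151) D63388 (iv5 F111913) (iv0 F168239) D135242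
theorem F386350 : act 1 n192296 = n156497 := d17_6 (iv1 F166278) (iv5 F206954) (iv1 F216202) (iv5 F386343) F386342 D192296 F246042 F111701 (iv4 F101618)
def n192297 : Q := act 4 n100025
theorem D192297 : act 4 n100025 = n192297 := rfl
theorem F386351 : act 1 n192297 = n187048 := d18_6 (iv1 D102382) F74687 D47534 (iv4 F289859) D100025 D192297 (iv4 D187048) D187047 F368917
def n192298 : Q := act 1 n100040
theorem D192298 : act 1 n100040 = n192298 := rfl
theorem F386352 : act 1 n192298 = n100045 := d15_1 D192298 (iv7 D100045) (iv2 F153971)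
theorem F386353 : act 7 n192298 = n100042 := d15_2 (iv0 F312610) D192298 F344417
theorem F386354 : act 4 n180218 = n192298 := d20_0 (iv1 D192298) F312611 D172550 F344410 (iv3 D98239) D98240 (iv1 F354030) (iv4 F384258) F384257 (iv1 F353888)
theorem F386355 : act 3 n122345 = n192298 := d20_9 F312611 (iv1 F187674) (iv4 F191142) (iv3 D72705) (iv1 F109642) (iv3 F191860) F191861 D151798 (iv4 F302001) (iv1 D192298)
theorem F386356 : act 2 n192298 = n100043 := d0_1 F386355 F354008 F354010 F304717 (iv2 F332489)
def n192299 : Q := act 5 n100040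
theorem D192299 : act 5 n100040 = n192299 := rfl
theorem F386357 : act 2 n192299 = n100044 := d2_1 D192299 (iv5 D100044) (iv2 F153971)
theorem F386358 : act 3 n192299 = n184240 := d6_1 D192299 (iv5 D184240) (iv3 F153972)
theorem F386359 : act 6 n192299 = n186606 := d12_2 D100040 D192299 (iv5 D186606) (iv6 D88913) (iv5 F73827)
def n192300 : Q := act 7 n100040
theorem D192300 : act 7 n100040 = n192300 := rfl
theorem F386360 : act 2 n192300 = n100045 := d4_1 D192300 (iv7 D100045) (iv2 F153971)
theorem F386361 : act 3 n192300 = n153299 := d8_1 D192300 F302983 (iv3 F153972)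
theorem F386362 : act 4 n192300 = n157983 := d11_1 D192300 F315280 (iv4 F312611)
theorem F386363 : act 6 n192300 = n122664 := d14_1 D192300 F196527 (iv6 F302445) (iv7 F73828) D100040
theorem F386364 : act 1 n100043 = n192300 := d15_1 D100043 (iv7 D192300) F153971
theorem F386365 : act 1 n192300 = n100042 := d15_1 F386364 (iv7 F386353) F386356
def n192301 : Q := act 5 n100042
theorem D192301 : act 5 n100042 = n192301 := rfl
theorem F386366 : act 3 n192301 = n122686 := d6_1 D192301 (iv5 D122686) (iv3 F344418)
def n192302 : Q := act 6 n100042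
theorem D192302 : act 6 n100042 = n192302 := rfl
theorem F386367 : act 3 n192302 = n122687 := d7_1 D192302 (iv6 D122687) (iv3 F344418)
theorem F386368 : act 4 n192302 = n129581 := d10_1 D192302 F339291 (iv4 F344419)
theorem F386369 : act 0 n135417 = n192302 := d20_7 F96893 (iv1 F47824) (iv4 F101354) D130446 F354053 (iv3 F211024) (iv4 F217749) F386368 (iv3 D129581) (iv1 F96897)
def n192303 : Q := act 5 n100043
theorem D192303 : act 5 n100043 = n192303 := rfl
def n192304 : Q := act 6 n100043
theorem D192304 : act 6 n100043 = n192304 := rfl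
def n192305 : Q := act 0 n100044
theorem D192305 : act 0 n100044 = n192305 := rfl
theorem F386370 : act 5 n192305 = n125360 := d17_3 (iv1 D100043) D100044 D192305 (iv4 D125360) (iv5 D58702) D58700 D125355 F339282 F354006
theorem F386371 : act 3 n122689 = n192305 := d6_3 F386370 F361497 F361503
def n192306 : Q := act 1 n100044
theorem D192306 : act 1 n100044 = n192306 := rfl
theorem F386372 : act 5 n191809 = n192306 := d21_6 (iv5 D46667) (iv1 F65390) (iv5 F136497) D186624 F383604 (iv6 F384509) (iv1 D192306) (iv5 D100044) (iv6 D46716) (iv1 F73759)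
def n192307 : Q := act 4 n100044
theorem D192307 : act 4 n100044 = n192307 := rfl
theorem F386373 : act 6 n192307 = n186614 := d10_2 (iv6 F153975) D192307 (iv4 D186614)
def n192308 : Q := act 7 n100044
theorem D192308 : act 7 n100044 = n192308 := rfl
theorem F386374 : act 3 n192308 = n100059 := d8_1 D192308 (iv7 D100059) (iv3 F153974)
theorem F386375 : act 5 n192308 = n100045 := d13_1 D192308 (iv7 D100045) D100044
def n192309 : Q := act 5 n100047
theorem D192309 : act 5 n100047 = n192309 := rfl
theorem F386376 : act 2 n192309 = n122414 := d2_1 D192309 (iv5 D122414) (iv2 F307490)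
theorem F386377 : act 3 n192309 = n100049 := d6_1 D192309 (iv5 D100049) D100047
theorem F386378 : act 7 n192309 = n153632 := d13_2 F308586 D192309 (iv5 D153632)
theorem F386379 : act 4 n192309 = n191468 := d16_2 (iv4 F307491) D192309 (iv5 D191468) F151809 D98381 (iv4 F384373) (iv5 D122414) (iv7 F151434) F301704
def n192310 : Q := act 6 n100047
theorem D192310 : act 6 n100047 = n192310 := rfl
theorem F386380 : act 2 n192310 = n122415 := d3_1 D192310 (iv6 D122415) (iv2 F307490)
theorem F386381 : act 3 n192310 = n100050 := d7_1 D192310 (iv6 D100050) D100047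
theorem F386382 : act 4 n192310 = n153633 := d10_1 D192310 (iv6 D153633) (iv4 F307491)
theorem F386383 : act 0 n147854 = n192310 := d20_4 (iv4 F310273) (iv1 F105534) D69278 D147854 F386381 F249127 (iv1 F272022) F155080 F308324 (iv1 F308308)
theorem F386384 : act 1 n171134 = n192310 := d15_0 (iv0 F386383) F384736 F384732
def n192311 : Q := act 4 n100049
theorem D192311 : act 4 n100049 = n192311 := rfl
theorem F386385 : act 2 n192311 = n191445 := d1_1 D192311 (iv4 D191445) (iv2 F274655)
theorem F386386 : act 7 n192311 = n191447 := d11_2 F274656 D192311 (iv4 D191447)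
def n192312 : Q := act 6 n100049
theorem D192312 : act 6 n100049 = n192312 := rfl
theorem F386387 : act 2 n192312 = n191446 := d3_1 D192312 (iv6 D191446) (iv2 F274655)
def n192313 : Q := act 4 n100054
theorem D192313 : act 4 n100054 = n192313 := rfl
theorem F386388 : act 2 n192313 = n191447 := d1_1 D192313 (iv4 D191447) (iv2 F274654)
theorem F386389 : act 7 n192313 = n191445 := d11_2 (iv7 F274653) D192313 (iv4 D191445)
theorem F386390 : act 5 n192313 = n187436 := d16_1 D192313 F370317 (iv5 F139299) F340914 (iv5 D75617) F249125 D100049 (iv7 F274656) (iv2 F274654)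
def n192314 : Q := act 6 n100054
theorem D192314 : act 6 n100054 = n192314 := rfl
theorem F386391 : act 2 n192314 = n191448 := d3_1 D192314 (iv6 D191448) (iv2 F274654)
theorem F386392 : act 3 n192314 = n122424 := d7_1 D192314 (iv6 D122424) (iv3 F306707)
theorem F386393 : act 0 n186727 = n192314 := d21_4 (iv5 D42658) D42656 (iv5 F291666) (iv6 F367801) (iv6 D192314) (iv5 D100054) (iv1 D46718) D46719 F73836 F291981
theorem F386394 : act 7 n191652 = n192314 := d15_2 (iv0 F383498) D191652 F386391
def n192315 : Q := act 3 n100056
theorem D192315 : act 3 n100056 = n192315 := rfl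
theorem F386395 : act 2 n192315 = n122426 := d0_1 D192315 (iv3 D122426) F302115 F343484 (iv2 F275100)
theorem F386396 : act 5 n192315 = n154090 := d6_2 F153988 D192315 F343477
theorem F386397 : act 7 n192315 = n153634 := d8_2 (iv7 F275093) D192315 F368417
theorem F386398 : act 0 n100413 = n192315 := d21_7 F334423 (iv1 D150906) (iv5 F327597) (iv6 D37583) (iv1 F35072) D46863 D100413 F386396 (iv6 D154090) (iv1 F197562)
theorem F386399 : act 0 n192315 = n153628 := d21_1 (iv5 F386396) (iv5 D153628) (iv6 D72647) (iv1 F74053) D100391 F300552 (iv1 F281966) (iv5 D98897) D98898 F343481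
def n192316 : Q := act 4 n100056
theorem D192316 : act 4 n100056 = n192316 := rfl
theorem F386400 : act 2 n192316 = n186885 := d1_1 D192316 F368412 (iv2 F275100)
theorem F386401 : act 7 n192316 = n186886 := d11_2 (iv7 F275093) D192316 F368416
theorem F386402 : act 0 n192316 = n186873 := d18_2 D100056 D192316 (iv4 D186873) (iv5 D89337) (iv4 F112947) F112951 F249125 (iv0 D46717) D46719
theorem F386403 : act 1 n192316 = n100908 := d18_6 (iv1 F156364) F155181 (iv1 F249722) F249721 F153988 D192316 (iv4 D100908) (iv0 F74541) (iv5 D47310)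
def n192317 : Q := act 6 n100056
theorem D192317 : act 6 n100056 = n192317 := rfl
theorem F386404 : act 2 n192317 = n191449 := d3_1 D192317 (iv6 D191449) (iv2 F275100)
theorem F386405 : act 5 n192317 = n100182 := d12_1 D192317 F384752 F384749 (iv6 F343475) F153988
def n192318 : Q := act 4 n100057
theorem D192318 : act 4 n100057 = n192318 := rfl
theorem F386406 : act 2 n192318 = n186886 := d1_1 D192318 F368416 (iv2 F275092)
theorem F386407 : act 7 n192318 = n186885 := d11_2 F275101 D192318 F368412
theorem F386408 : act 5 n192318 = n186890 := d16_1 D192318 F368421 F356349 (iv4 D158539) D158540 F249721 F153988 F275093 (iv2 F275092)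
theorem F386409 : act 0 n192318 = n100908 := d18_2 (iv1 F153980) D192318 (iv4 D100908) (iv5 D47034) F35156 D34586 F249129 F73834 (iv5 F151787)
theorem F386410 : act 1 n192318 = n186873 := d18_6 F156674 (iv4 F156563) (iv1 D101649) (iv4 F309572) (iv5 F311784) D192318 (iv4 D186873) F155050 (iv5 F156677)
theorem F386411 : act 6 n186751 = n192318 := d21_3 (iv5 D89461) F289551 (iv5 F367881) F386409 F155047 F293257 D104362 (iv5 F365796) F368801 (iv1 D187001)
def n192319 : Q := act 6 n100057
theorem D192319 : act 6 n100057 = n192319 := rfl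
theorem F386412 : act 2 n192319 = n191450 := d3_1 D192319 (iv6 D191450) (iv2 F275092)
theorem F386413 : act 3 n192319 = n122431 := d7_1 D192319 (iv6 D122431) (iv3 F311783)
theorem F386414 : act 4 n192319 = n186751 := d10_1 D192319 F386411 (iv4 D192318)
theorem F386415 : act 5 n192319 = n191517 := d12_1 D192319 (iv6 D191517) (iv5 D98494) F311714 (iv5 F311784)
theorem F386416 : act 7 n192319 = n186750 := d14_2 F275101 D192319 (iv6 F383241) F383501 (iv6 D191449)
def n192320 : Q := act 3 n100058
theorem D192320 : act 3 n100058 = n192320 := rfl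
theorem F386417 : act 6 n192320 = n186616 := d7_2 (iv6 F153983) D192320 (iv3 D186616)
def n192321 : Q := act 5 n100058
theorem D192321 : act 5 n100058 = n192321 := rfl
theorem F386418 : act 2 n192321 = n191453 := d2_1 D192321 (iv5 D191453) (iv2 F153982)
theorem F386419 : act 4 n192321 = n187437 := d16_2 D100058 D192321 F370319 F208655 F339474 F128282 (iv5 F151787) (iv7 D98366) (iv2 F73835)
theorem F386420 : act 1 n192321 = n187455 := d17_8 D187456 F370412 F371491 F371488 (iv4 F240921) F368859 F368405 D192321 F370410
def n192322 : Q := act 7 n100058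
theorem D192322 : act 7 n100058 = n192322 := rfl
theorem F386421 : act 2 n192322 = n191454 := d4_1 D192322 (iv7 D191454) (iv2 F153982)
theorem F386422 : act 4 n192322 = n100059 := d11_1 D192322 (iv7 D100059) D100058
theorem F386423 : act 1 n101786 = n192322 := d15_1 (iv0 F272668) (iv7 D192322) F153982
theorem F386424 : act 1 n192322 = n191451 := d15_1 F386423 F383505 F368406
def n192323 : Q := act 6 n100059
theorem D192323 : act 6 n100059 = n192323 := rfl
theorem F386425 : act 2 n192323 = n191455 := d3_1 D192323 (iv6 D191455) (iv2 F153984)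
theorem F386426 : act 5 n192323 = n187066 := d12_1 D192323 F369006 F303329 (iv6 F73838) (iv5 F153985)
theorem F386427 : act 7 n192323 = n186618 := d14_2 D100059 D192323 (iv6 D186618) (iv7 D88920) (iv6 F73836)
theorem F386428 : act 1 n191466 = n192323 := d15_1 D191466 F386427 F367454
theorem F386429 : act 1 n192323 = n191465 := d15_0 (iv0 D191465) (iv7 F383514) (iv2 F386425)
def n192324 : Q := act 6 n100064
theorem D192324 : act 6 n100064 = n192324 := rfl
theorem F386430 : act 2 n192324 = n149793 := d3_1 D192324 (iv6 D149793) F300224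
theorem F386431 : act 3 n192324 = n108278 := d7_1 D192324 F311689 F300234
theorem F386432 : act 4 n192324 = n149797 := d10_1 D192324 (iv6 D149797) (iv4 F297899)
theorem F386433 : act 0 n192324 = n191822 := d21_10 (iv5 D191822) F384477 (iv5 D191797) F233026 (iv1 F268294) (iv6 F345815) (iv5 F305370) F305367 (iv5 F297900) D192324
theorem F386434 : act 1 n192324 = n135411 := d15_1 (iv0 F386433) (iv7 F239050) (iv2 F384544)
def n192325 : Q := act 1 n100065
theorem D192325 : act 1 n100065 = n192325 := rfl
theorem F386435 : act 1 n192325 = n149587 := d15_1 D192325 (iv7 F252763) F303941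
theorem F386436 : act 7 n192325 = n122846 := d15_2 (iv0 F302984) D192325 F196841
theorem F386437 : act 5 n192325 = n122988 := d17_7 (iv1 F129495) D123506 F197931 (iv5 F301167) F154000 D100065 D192325 (iv0 F197039) (iv4 F129493)
theorem F386438 : act 4 n192325 = n103125 := d17_9 F191802 F191801 (iv1 F129495) D123506 F197929 (iv5 D72428) (iv0 F300230) D100065 D192325
theorem F386439 : act 3 n119579 = n192325 := d19_19 (iv1 D192325) (iv5 D100065) (iv4 F154000) F301166 (iv1 F107036) (iv5 D52941) (iv4 D25701) D25700 F41870 (iv5 D16006) (iv4 D7488) F26434 (iv1 F20644) (iv5 F25133) F306555 (iv3 F105748) (iv1 F306210) (iv5 F308211) (iv4 F188565)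
theorem F386440 : act 2 n192325 = n124669 := d0_1 F386439 F199429 F92100 (iv3 F107825) (iv2 F310217)
theorem F386441 : act 6 n192325 = n119577 := d7_2 D119579 F386439 (iv3 D119577)
def n192326 : Q := act 6 n100078
theorem D192326 : act 6 n100078 = n192326 := rfl
theorem F386442 : act 2 n192326 = n122693 := d3_1 D192326 (iv6 D122693) (iv2 F305511)
theorem F386443 : act 3 n192326 = n151969 := d7_1 D192326 F238973 (iv3 F305512)
theorem F386444 : act 4 n192326 = n149274 := d10_1 D192326 (iv6 D149274) F307537
theorem F386445 : act 5 n192326 = n175573 := d12_1 D192326 (iv6 D175573) (iv5 D83829) F308344 F306529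
theorem F386446 : act 0 n192326 = n190138 := d21_4 F147099 (iv1 F116495) F306529 D192326 F378956 F370527 F370529 F350736 (iv6 D122636) (iv1 F147101)
theorem F386447 : act 0 n187086 = n175573 := d21_1 D187086 (iv5 F386445) (iv6 D192326) (iv1 D100078) F73846 (iv5 D41523) F35659 D19670 D41804 D89532
def n192327 : Q := act 5 n100087
theorem D192327 : act 5 n100087 = n192327 := rfl
theorem F386448 : act 7 n192327 = n191402 := d13_2 (iv7 F351960) D192327 (iv5 D191402)
def n192328 : Q := act 4 n100089
theorem D192328 : act 4 n100089 = n192328 := rfl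
theorem F386449 : act 2 n192328 = n100090 := d1_1 D192328 (iv4 D100090) D100089
theorem F386450 : act 6 n192328 = n133035 := d10_2 (iv6 F323428) D192328 F217673
theorem F386451 : act 0 n122364 = n192328 := d20_10 (iv4 D192328) F384779 (iv4 F384778) (iv3 F357455) F331733 (iv3 D77127) (iv4 F117563) (iv1 D56696) (iv4 F89664) (iv3 F195722)
theorem F386452 : act 5 n174173 = n192328 := d21_2 D83256 D174173 F386450 F315461 (iv6 D75321) D75320 (iv1 F112933) (iv5 F122972) D82389 (iv1 F318963)
theorem F386453 : act 4 n158858 = n174173 := d18_3 (iv1 D76202) (iv4 F113667) D158858 F386452 (iv4 D192328) (iv0 F351946) (iv4 F351953) F351951 F330174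
def n192329 : Q := act 5 n100089
theorem D192329 : act 5 n100089 = n192329 := rfl
theorem F386454 : act 2 n192329 = n100091 := d2_1 D192329 (iv5 D100091) D100089
theorem F386455 : act 3 n192329 = n184243 := d6_1 D192329 (iv5 D184243) F232751
def n192330 : Q := act 0 n100091
theorem D192330 : act 0 n100091 = n192330 := rfl
theorem F386456 : act 5 n192330 = n123237 := d17_3 F357452 D100091 D192330 (iv4 F315010) F248237 (iv0 F345821) (iv5 D152173) D152172 F357446
theorem F386457 : act 3 n123239 = n192330 := d6_3 F386456 (iv3 D123237) D123239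
def n192331 : Q := act 1 n100091
theorem D192331 : act 1 n100091 = n192331 := rfl
theorem F386458 : act 5 n192331 = n173390 := d17_7 D82978 (iv5 F333743) F364246 (iv5 F364245) (iv4 D100090) D100091 D192331 (iv0 D173390) F127898
def n192332 : Q := act 4 n100091
theorem D192332 : act 4 n100091 = n192332 := rfl
def n192333 : Q := act 6 n100091
theorem D192333 : act 6 n100091 = n192333 := rfl
theorem F386459 : act 3 n192333 = n100103 := d7_1 D192333 (iv6 D100103) (iv3 F154027)
theorem F386460 : act 5 n192333 = n191828 := d12_1 D192333 (iv6 D191828) F321745 (iv6 F321747) D100091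
def n192334 : Q := act 0 n100096
theorem D192334 : act 0 n100096 = n192334 := rfl
theorem F386461 : act 3 n192334 = n155136 := d20_5 F29539 D22404 D46729 D100096 D192334 (iv4 F274025) F274024 (iv4 F307481) (iv3 D83574) (iv1 D38528)
theorem F386462 : act 2 n174482 = n192334 := d15_3 (iv0 D192334) F358078 (iv7 F363233)
theorem F386463 : act 1 n174483 = n192334 := d15_0 (iv0 D192334) F274995 D174483
theorem F386464 : act 7 n192334 = n173861 := d15_2 (iv0 F354482) F386463 F272508
theorem F386465 : act 6 n149038 = n192334 := d14_5 F386464 (iv6 D173861) F128184 (iv6 F343513) (iv7 F348451)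
theorem F386466 : act 5 n155134 = n192334 := d6_0 F386461 (iv5 D155136) D155134
def n192335 : Q := act 5 n100096
theorem D192335 : act 5 n100096 = n192335 := rfl
theorem F386467 : act 2 n192335 = n115692 := d2_1 D192335 F359936 (iv2 F358075)
theorem F386468 : act 3 n192335 = n100097 := d6_1 D192335 (iv5 D100097) D100096
theorem F386469 : act 6 n192335 = n115691 := d12_2 (iv6 F358077) D192335 (iv5 F202690) (iv6 F362987) (iv5 D133041)
theorem F386470 : act 7 n192335 = n174485 := d13_2 (iv7 F274995) D192335 (iv5 D174485)
theorem F386471 : act 0 n192335 = n103274 := d17_2 (iv1 F358078) D192335 (iv5 F332037) F243855 (iv5 F320703) (iv0 F364968) F364966 F354481 (iv4 F298845)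
theorem F386472 : act 1 n192335 = n101756 := d17_6 (iv1 D160961) (iv5 D77245) D77242 F336539 (iv4 F358076) D192335 (iv5 D101756) (iv0 F351794) (iv4 F341911)
theorem F386473 : act 4 n103260 = n192335 := d18_7 D101753 F345802 (iv1 F345801) (iv4 F334220) (iv5 F331981) F158502 D103260 F386472 (iv5 D101756)
theorem F386474 : act 3 n103822 = n103260 := d20_5 (iv4 D59147) F45399 (iv4 F78422) (iv3 F165821) (iv1 F359500) F386473 F386471 (iv4 F370065) F370064 F176564
def n192336 : Q := act 1 n100097
theorem D192336 : act 1 n100097 = n192336 := rfl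
theorem F386475 : act 1 n192336 = n100116 := d15_1 D192336 F274989 (iv2 F274998)
theorem F386476 : act 7 n192336 = n101826 := d15_2 F385597 D192336 (iv2 F385592)
theorem F386477 : act 5 n192336 = n101827 := d17_7 F318849 (iv5 F310557) (iv1 D100101) (iv5 D46730) D46729 D100097 D192336 (iv0 F310443) F255693
theorem F386478 : act 2 n174473 = n192336 := d2_3 F386477 F271112 F273356
theorem F386479 : act 6 n145333 = n192336 := d12_0 F386477 (iv6 F272682) (iv5 F344096) F344105 F336103
theorem F386480 : act 4 n140667 = n192336 := d16_4 D192116 (iv5 F385632) F165127 D140667 F386477 F156790 (iv5 F156795) (iv7 D101837) (iv2 F156725)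
theorem F386481 : act 5 n174499 = n140435 := d17_1 D174499 F385085 D140667 F386480 F386477 (iv0 F310443) F310445 (iv0 D83397) D83399
theorem E103509 : n145334 = n140667 := ((c21_3 F386481 F385085 D140667 (iv6 D145334) (iv1 D68140) D68142 D145338 F330949 (iv5 D83429) (iv6 F128509) D174499)).symm
theorem F386482 : act 2 n140667 = n107339 := (sb E103509 F364305)
theorem F386483 : act 6 n140667 = n68140 := (sb E103509 (iv6 D145334))
theorem E103510 : n145332 = n140672 := (c7_2 F386483 D145332 (iv6 D140672) (iv3 F223758))
theorem F386484 : act 1 n140672 = n110968 := (sb E103510 (iv0 F228526))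
theorem F386485 : act 3 n140672 = n68140 := (sb E103510 (iv3 D145332))
theorem F386486 : act 5 n140672 = n107320 := (sb E103510 (iv5 F336121))
theorem F386487 : act 7 n140672 = n107349 := (sb E103510 F364303)
theorem F386488 : act 5 n107323 = n140668 := d12_3 F386483 (iv5 F336114) D107323 (iv6 D140668) D140667
theorem F386489 : act 2 n140668 = n107343 := d2_1 F386488 (iv5 D107343) (iv2 F165385)
theorem F386490 : act 3 n140673 = n107323 := d6_3 F386488 F223759 D140673
theorem F386491 : act 0 n107323 = n111027 := d21_7 (iv5 F371895) (iv1 F371896) F223615 D140435 F385085 D140668 (iv5 F386488) (iv5 F340046) (iv6 D106908) D106903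
theorem F386492 : act 6 n107320 = n140673 := d7_0 F386490 (iv6 D107323) D107320
theorem F386493 : act 6 n107343 = n140666 := d3_2 D140668 F386489 (iv2 D140666)
theorem F386494 : act 5 n140666 = n107339 := d12_1 F386493 (iv6 D107339) (iv5 D49589) D49590 D107343
theorem E103511 : n145392 = n140667 := (c18_7 (iv1 F155452) F59012 D46492 F155501 (iv5 F331962) F204056 D145392 F386480 F386475 (iv5 D100116))
theorem F386495 : act 0 n140667 = n68166 := (sb E103511 (iv1 D145392))
def n192337 : Q := act 4 n100097
theorem D192337 : act 4 n100097 = n192337 := rfl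
theorem F386496 : act 2 n192337 = n174474 := d1_1 D192337 (iv4 D174474) (iv2 F274998)
theorem F386497 : act 7 n192337 = n174487 := d11_2 (iv7 F274999) D192337 (iv4 D174487)
theorem F386498 : act 1 n192337 = n140925 := d18_6 (iv1 D38528) F29539 D22404 D46729 D100097 D192337 F223959 (iv0 F325019) (iv5 D83576)
def n192338 : Q := act 6 n100097
theorem D192338 : act 6 n100097 = n192338 := rfl
theorem F386499 : act 2 n192338 = n110425 := d3_1 D192338 F327893 (iv2 F274998)
theorem F386500 : act 3 n192338 = n115691 := d7_1 D192338 (iv6 F386469) F386468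
theorem F386501 : act 5 n192338 = n113172 := d12_1 D192338 (iv6 F362985) (iv5 F249455) (iv6 D100098) D100097
theorem F386502 : act 7 n192338 = n113185 := d14_2 (iv7 F274999) D192338 (iv6 F230892) (iv7 F343367) (iv6 D174488)
theorem F386503 : act 0 n192338 = n113187 := d21_10 F352468 (iv1 D112740) D112742 F328395 (iv1 D82939) (iv6 F127786) (iv5 D82932) F155451 D100097 D192338
theorem F386504 : act 0 n113186 = n192338 := d17_2 D112739 (iv5 F373684) F386501 F176338 (iv5 F161561) F161563 (iv5 F352457) F324563 F82645
def n192339 : Q := act 3 n100100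
theorem D192339 : act 3 n100100 = n192339 := rfl
theorem F386505 : act 2 n192339 = n123279 := d0_1 D192339 F197568 F121529 (iv3 F256040) F366784
theorem F386506 : act 5 n192339 = n123277 := d6_2 (iv5 F154036) D192339 (iv3 F308415)
theorem F386507 : act 7 n192339 = n154089 := d8_2 F384748 D192339 F384751
theorem F386508 : act 0 n171128 = n192339 := d21_1 D171128 F386506 (iv6 F351788) F351769 (iv6 D46275) F34602 (iv1 F34695) (iv5 F34697) D37583 D82018
theorem F386509 : act 6 n179164 = n192339 := d21_5 D64967 (iv1 F315855) (iv5 D85502) D85503 D179164 F386506 (iv1 F197565) (iv5 F327045) F320764 (iv1 D64965)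
theorem F386510 : act 0 n138316 = n191764 := d21_7 F386506 (iv1 F197565) (iv5 F327045) F320764 (iv1 D64965) D64968 D138316 F384387 F334427 F386508
theorem F386511 : act 1 n171133 = n192339 := d15_0 (iv0 F386508) F348379 (iv2 F348382)
theorem F386512 : act 0 n171134 = n177960 := d21_10 (iv5 D177960) (iv1 F364093) (iv5 D153879) (iv6 F351759) (iv1 F351770) F351788 (iv5 F386506) (iv1 F386511) (iv5 D171133) D171134
def n192340 : Q := act 4 n100100
theorem D192340 : act 4 n100100 = n192340 := rfl
theorem F386513 : act 0 n192340 = n100946 := d18_2 D100100 D192340 (iv4 D100946) (iv5 D47044) F155082 F127874 F127871 F73295 D46730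
theorem F386514 : act 1 n192340 = n100930 := d18_6 F156733 (iv4 F184684) F311764 (iv4 F311766) (iv5 F154036) D192340 (iv4 D100930) D100929 (iv5 F156730)
def n192341 : Q := act 6 n100100
theorem D192341 : act 6 n100100 = n192341 := rfl
theorem F386515 : act 3 n192341 = n179164 := d7_1 D192341 F386509 (iv3 D192339)
theorem F386516 : act 5 n192341 = n191520 := d12_1 D192341 (iv6 D191520) (iv5 D98499) D98500 (iv5 F154036)
def n192342 : Q := act 4 n100101
theorem D192342 : act 4 n100101 = n192342 := rfl
theorem F386517 : act 3 n192342 = n108964 := d5_1 D192342 (iv4 D108964) (iv3 F168304) F332934 (iv3 F310556)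
theorem F386518 : act 0 n192342 = n100930 := d18_2 (iv1 F154037) D192342 (iv4 D100930) (iv5 D47039) F155084 (iv0 D38527) F29539 D22405 D46735
theorem F386519 : act 1 n192342 = n100946 := d18_6 D47324 F308329 F191367 F121528 (iv5 F310557) D192342 (iv4 D100946) F155072 (iv5 D47326)
def n192343 : Q := act 1 n100102
theorem D192343 : act 1 n100102 = n192343 := rfl
theorem F386520 : act 1 n192343 = n100118 := d15_1 D192343 (iv7 F384767) F384766
theorem F386521 : act 7 n192343 = n101836 := d15_2 F385630 D192343 (iv2 F385627)
theorem F386522 : act 4 n192343 = n101837 := d18_7 (iv1 D46493) (iv4 F59012) F155451 (iv4 D46729) D46730 D100102 D192343 (iv0 F156797) (iv5 D99445)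
theorem F386523 : act 2 n145403 = n192343 := d1_3 F386522 F156794 F366171
theorem F386524 : act 5 n192343 = n145402 := d2_2 D145403 F386523 (iv2 D145402)
def n192344 : Q := act 3 n100102
theorem D192344 : act 3 n100102 = n192344 := rfl
def n192345 : Q := act 5 n100102
theorem D192345 : act 5 n100102 = n192345 := rfl
theorem F386525 : act 1 n192345 = n191982 := d17_6 (iv1 D46738) (iv5 D22406) D22404 D46730 D100102 D192345 (iv5 D191982) (iv0 F155453) (iv4 D100131)
def n192346 : Q := act 6 n100102
theorem D192346 : act 6 n100102 = n192346 := rfl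
theorem F386526 : act 4 n192346 = n100103 := d10_1 D192346 (iv6 D100103) D100102
def n192347 : Q := act 7 n100103
theorem D192347 : act 7 n100103 = n192347 := rfl
theorem F386527 : act 5 n192347 = n191831 := d13_1 D192347 (iv7 D191831) (iv5 F154038)
theorem F386528 : act 6 n192347 = n189031 := d14_1 D192347 F384799 (iv6 D191910) F275004 D100103
def n192348 : Q := act 5 n100110
theorem D192348 : act 5 n100110 = n192348 := rfl
theorem F386529 : act 2 n192348 = n157478 := d2_1 D192348 (iv5 D157478) F309597
theorem F386530 : act 3 n192348 = n150128 := d6_1 D192348 F236295 (iv3 F232755)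
theorem F386531 : act 7 n192348 = n150124 := d13_2 (iv7 F232749) D192348 (iv5 D150124)
theorem F386532 : act 1 n192348 = n184245 := d17_6 (iv1 F312425) (iv5 F314249) (iv1 F215871) F186066 (iv4 F307749) D192348 (iv5 F384819) F333736 F190976
theorem F386533 : act 1 n100130 = n192348 := d15_1 (iv0 F346704) F386531 F236290
def n192349 : Q := act 4 n100111
theorem D192349 : act 4 n100111 = n192349 := rfl
theorem F386534 : act 2 n192349 = n100112 := d1_1 D192349 (iv4 D100112) D100111
theorem F386535 : act 7 n192349 = n184242 := d11_2 F232752 D192349 (iv4 D184242)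
theorem F386536 : act 0 n192349 = n157456 := d20_1 D192349 (iv4 F335225) F153284 (iv1 F314253) F313944 (iv4 F305400) (iv1 D78245) F305353 (iv3 F309598) (iv1 F311802)
theorem F386537 : act 3 n192349 = n167642 := d20_3 (iv4 F112469) (iv1 F311802) D192349 (iv1 D167642) F123672 F57558 D36682 D80459 F307745 (iv1 D74935)
theorem F386538 : act 0 n107940 = n192349 := d20_10 (iv4 D192349) F275042 (iv4 F151189) (iv3 F193618) F232768 F339070 D152069 F339065 F166808 (iv3 F166807)
def n192350 : Q := act 5 n100111
theorem D192350 : act 5 n100111 = n192350 := rfl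
theorem F386539 : act 2 n192350 = n100113 := d2_1 D192350 (iv5 D100113) D100111
theorem F386540 : act 7 n192350 = n184243 := d13_2 F232752 D192350 (iv5 D184243)
theorem F386541 : act 1 n192350 = n154120 := d15_0 (iv0 F384740) F384739 (iv2 F386539)
def n192351 : Q := act 6 n100111
theorem D192351 : act 6 n100111 = n192351 := rfl
theorem F386542 : act 2 n192351 = n100114 := d3_1 D192351 (iv6 D100114) D100111
def n192352 : Q := act 6 n100112
theorem D192352 : act 6 n100112 = n192352 := rfl
theorem F386543 : act 3 n192352 = n144474 := d7_1 D192352 F357078 (iv3 F339022)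
theorem F386544 : act 4 n192352 = n100114 := d10_1 D192352 (iv6 D100114) D100112
def n192353 : Q := act 0 n100113
theorem D192353 : act 0 n100113 = n192353 := rfl
theorem F386545 : act 5 n192353 = n124688 := d17_3 (iv1 D100110) D100113 D192353 F199462 F320424 D116475 F318265 F307607 (iv4 F307749)
theorem F386546 : act 3 n192353 = n124689 := d20_5 D192116 F385629 (iv4 D100118) (iv3 F154047) D192353 F332003 (iv1 F332010) (iv4 D184664) (iv3 F155503) F153517
theorem F386547 : act 1 n184243 = n192353 := d15_0 (iv0 D192353) (iv7 F384739) F384737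
theorem F386548 : act 7 n154120 = n192353 := d8_0 F386546 F199465 (iv3 F242190)
def n192354 : Q := act 1 n100113
theorem D192354 : act 1 n100113 = n192354 := rfl
theorem F386549 : act 1 n192354 = n184243 := d15_1 D192354 (iv7 F386540) F386539
theorem F386550 : act 2 n154120 = n192354 := d15_3 F386549 F386547 (iv7 F386548)
theorem F386551 : act 5 n154119 = n192354 := d17_5 F318427 (iv5 D67353) F325040 (iv5 F314371) F244089 F386549 (iv5 D184243) (iv0 D87880) F297893
def n192355 : Q := act 4 n100113
theorem D192355 : act 4 n100113 = n192355 := rfl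
def n192356 : Q := act 6 n100113
theorem D192356 : act 6 n100113 = n192356 := rfl
theorem F386552 : act 3 n192356 = n100119 := d7_1 D192356 (iv6 D100119) (iv3 F154047)
def n192357 : Q := act 0 n100114
theorem D192357 : act 0 n100114 = n192357 := rfl
theorem F386553 : act 3 n192357 = n147822 := d20_5 F271106 (iv1 F274983) F154049 (iv3 F154048) D192357 F237039 F237038 F235631 F304536 F156400
theorem F386554 : act 4 n192357 = n130886 := d20_8 (iv4 F315786) F315785 (iv4 D67707) (iv3 F103731) D144474 (iv3 F386543) F386544 D192357 F313917 F111745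
theorem F386555 : act 6 n192357 = n130884 := d21_5 F386551 (iv1 D192354) (iv5 D100113) D100114 D192357 (iv5 F358464) (iv1 F367686) (iv5 D183399) D183400 F345817
theorem F386556 : act 7 n153666 = n192357 := d11_0 F386554 F313919 F311564
def n192358 : Q := act 1 n100114
theorem D192358 : act 1 n100114 = n192358 := rfl
def n192359 : Q := act 5 n100114
theorem D192359 : act 5 n100114 = n192359 := rfl
theorem F386557 : act 3 n192359 = n100122 := d6_1 D192359 (iv5 D100122) (iv3 F154048)
theorem F386558 : act 0 n192359 = n154557 := d21_7 D157401 F247885 F187535 (iv6 F307750) (iv1 D100110) D100114 D192359 (iv5 D154557) (iv6 F308932) D74854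
theorem F386559 : act 0 n149115 = n192359 := d21_1 D149115 (iv5 D192359) (iv6 D100114) F232748 (iv6 D41002) (iv5 D19308) D19306 (iv5 F64075) D87544 F317270
def n192360 : Q := act 7 n100114
theorem D192360 : act 7 n100114 = n192360 := rfl
theorem F386560 : act 3 n192360 = n100123 := d8_1 D192360 (iv7 D100123) (iv3 F154048)
theorem F386561 : act 6 n192360 = n191822 := d14_1 D192360 F384745 (iv6 D191900) F275009 D100114
theorem F386562 : act 0 n192360 = n153666 := d21_10 (iv5 F242643) F366779 (iv5 D183393) (iv6 D87544) (iv1 F61860) D69963 D149090 F384543 D191822 (iv6 F386561)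
theorem F386563 : act 1 n192351 = n153666 := d15_0 (iv0 F386562) (iv7 D192360) (iv2 F386542)
def n192361 : Q := act 4 n100116
theorem D192361 : act 4 n100116 = n192361 := rfl
theorem F386564 : act 2 n192361 = n174487 := d1_1 D192361 (iv4 D174487) (iv2 F274988)
theorem F386565 : act 7 n192361 = n174474 := d11_2 (iv7 F274989) D192361 (iv4 D174474)
theorem F386566 : act 0 n192361 = n140925 := d18_2 F385596 D192361 F223959 (iv5 F325020) F121528 (iv0 F318849) (iv4 F255693) F310444 D192109
theorem F386567 : act 3 n192361 = n112678 := d20_3 (iv4 F385598) F385596 D192361 (iv1 D112678) F82138 F39778 D25242 (iv4 F78255) D68166 D145391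
def n192362 : Q := act 6 n100116
theorem D192362 : act 6 n100116 = n192362 := rfl
theorem F386568 : act 2 n192362 = n174488 := d3_1 D192362 (iv6 D174488) (iv2 F274988)
theorem F386569 : act 3 n192362 = n113195 := d7_1 D192362 (iv6 F357018) (iv3 F357020)
theorem F386570 : act 7 n192362 = n113189 := d14_2 (iv7 F274989) D192362 (iv6 D113189) (iv7 F170798) F327893
theorem F386571 : act 0 n174519 = n192362 := d21_4 (iv5 F127810) F299365 F298802 D174519 (iv6 D192362) (iv5 D100116) (iv1 F155452) D82932 F127786 D82938
def n192363 : Q := act 0 n100117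
theorem D192363 : act 0 n100117 = n192363 := rfl
theorem F386572 : act 5 n192363 = n172414 := d17_1 D192363 (iv1 F357766) (iv5 F357762) F151379 (iv5 F151879) (iv0 F338084) F338075 (iv0 D100120) (iv4 F154049)
theorem F386573 : act 4 n192363 = n175526 := d18_3 F274584 (iv4 F154049) D192363 (iv5 D175526) D175525 F367504 (iv4 D186631) F338086 (iv5 F338087)
theorem F386574 : act 6 n192363 = n174043 := d21_5 D192109 F385596 (iv5 D100116) D100117 D192363 (iv5 F352179) F359842 (iv5 D98521) D98522 (iv1 F184680)
theorem F386575 : act 2 n174489 = n192363 := d15_3 (iv0 D192363) F274983 (iv7 F338113)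
theorem F386576 : act 7 n192363 = n174017 := d4_2 (iv7 F338113) F386575 (iv2 F338111)
theorem F386577 : act 1 n174492 = n192363 := d15_1 (iv0 F273377) F386576 (iv2 F338111)
def n192364 : Q := act 5 n100117
theorem D192364 : act 5 n100117 = n192364 := rfl
theorem F386578 : act 2 n192364 = n174491 := d2_1 D192364 (iv5 D174491) (iv2 F274984)
theorem F386579 : act 0 n192364 = n101922 := d17_2 (iv1 F274983) D192364 (iv5 D101922) (iv4 D47352) D47353 F156908 F156850 F156855 F271106
theorem F386580 : act 4 n192364 = n152353 := d17_4 F357761 (iv5 F270640) (iv1 F274983) D192364 F374762 (iv0 D187684) F139211 D187490 (iv4 F370551)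
theorem F386581 : act 1 n192364 = n101905 := d17_6 (iv1 F154535) D83829 F154541 (iv5 D100122) (iv4 F154049) D192364 (iv5 D101905) (iv0 F272644) F72403
def n192365 : Q := act 7 n100117
theorem D192365 : act 7 n100117 = n192365 := rfl
theorem F386582 : act 2 n192365 = n174492 := d4_1 D192365 (iv7 D174492) (iv2 F274984)
theorem F386583 : act 3 n192365 = n178439 := d8_1 D192365 F357029 (iv3 F357028)
theorem F386584 : act 4 n192365 = n100123 := d11_1 D192365 (iv7 D100123) (iv4 F154049)
theorem F386585 : act 6 n192365 = n174479 := d14_1 D192365 (iv7 D174479) (iv6 D83391) F274990 D100117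
theorem F386586 : act 1 n174017 = n192365 := d15_1 (iv0 F338069) (iv7 D192365) F274984
theorem F386587 : act 1 n192365 = n174489 := d15_1 F386586 F338113 F338111
def n192366 : Q := act 3 n100118
theorem D192366 : act 3 n100118 = n192366 := rfl
def n192367 : Q := act 5 n100118
theorem D192367 : act 5 n100118 = n192367 := rfl
theorem F386588 : act 0 n192367 = n191982 := d17_2 F385629 D192367 (iv5 D191982) (iv4 D99449) (iv5 D46494) D46493 D99445 F156799 D192116
def n192368 : Q := act 6 n100118
theorem D192368 : act 6 n100118 = n192368 := rfl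
theorem F386589 : act 4 n192368 = n100119 := d10_1 D192368 (iv6 D100119) D100118
def n192369 : Q := act 5 n100119
theorem D192369 : act 5 n100119 = n192369 := rfl
theorem F386590 : act 6 n192369 = n100122 := d12_2 D100119 D192369 (iv5 D100122) (iv6 D46736) D46735
theorem F386591 : act 4 n192369 = n102300 := d17_4 (iv1 D192255) (iv5 F367263) F367218 D192369 F356204 (iv0 D89369) D89371 D186909 F386223
def n192370 : Q := act 7 n100119
theorem D192370 : act 7 n100119 = n192370 := rfl
theorem F386592 : act 2 n192370 = n189031 := d4_1 D192370 F384799 F384796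
theorem F386593 : act 1 n100155 = n192370 := d15_1 (iv0 F384798) (iv7 D192370) (iv2 F384796)
theorem F386594 : act 1 n192370 = n189032 := d15_1 F386593 (iv7 D189032) F365414
def n192371 : Q := act 4 n100122
theorem D192371 : act 4 n100122 = n192371 := rfl
theorem F386595 : act 6 n192371 = n102300 := d10_2 F386590 D192371 (iv4 F386591)
theorem F386596 : act 0 n192371 = n101924 := d17_0 F354883 D136929 F368482 (iv4 D98479) (iv5 D46055) (iv0 F154536) D83849 F274583 D192371
theorem F386597 : act 1 n192371 = n101910 := d18_6 F156400 F271106 (iv1 F274983) F154049 D100122 D192371 (iv4 D101910) D101909 (iv5 F156852)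
theorem F386598 : act 3 n192371 = n185125 := d19_3 F274584 D100122 D192371 F363286 (iv5 D135212) (iv4 D63533) (iv3 F102052) (iv1 F78059) F48376 (iv4 F95205) (iv3 F207090) F335845 (iv5 F339643) (iv4 D183432) (iv3 F285142) F374842 F374844 (iv4 F386382) F386381
def n192372 : Q := act 7 n100122
theorem D192372 : act 7 n100122 = n192372 := rfl
theorem F386599 : act 2 n192372 = n175571 := d4_1 D192372 F384803 F384800
theorem F386600 : act 5 n192372 = n100123 := d13_1 D192372 (iv7 D100123) D100122
theorem F386601 : act 1 n123203 = n192372 := d15_1 F384802 (iv7 D192372) (iv2 F384800)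
theorem F386602 : act 1 n192372 = n173573 := d15_1 F386601 (iv7 F274581) (iv2 F310432)
theorem F386603 : act 6 n187466 = n192372 := d12_0 F386600 F154051 (iv5 D98976) D98977 F370445
def n192373 : Q := act 0 n100125
theorem D192373 : act 0 n100125 = n192373 := rfl
def n192374 : Q := act 3 n100126
theorem D192374 : act 3 n100126 = n192374 := rfl
def n192375 : Q := act 6 n100126
theorem D192375 : act 6 n100126 = n192375 := rfl
theorem F386604 : act 4 n192375 = n100128 := d10_1 D192375 (iv6 D100128) D100126
def n192376 : Q := act 2 n100130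
theorem D192376 : act 2 n100130 = n192376 := rfl
theorem F386605 : act 5 n192376 = n183400 := d2_2 (iv5 F346705) D192376 F346700
theorem F386606 : act 7 n192376 = n184245 := d4_2 F384815 D192376 (iv2 F384816)
theorem F386607 : act 1 n150124 = n192376 := d17_6 F317090 (iv5 F314879) F383051 (iv5 D191324) F151189 D150124 F386605 (iv0 F345818) F199462
theorem F386608 : act 0 n157478 = n192376 := d21_7 (iv5 F337827) F338464 F154527 (iv6 D100471) F309594 D74933 D157478 F386605 (iv6 D183400) (iv1 F233024)
theorem F386609 : act 1 n157478 = n191913 := d15_1 (iv0 F386608) F384815 D192376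
theorem F386610 : act 1 n191913 = n150124 := d15_1 F386609 (iv7 F386531) F386529
def n192377 : Q := act 4 n100130
theorem D192377 : act 4 n100130 = n192377 := rfl
def n192378 : Q := act 6 n100130
theorem D192378 : act 6 n100130 = n192378 := rfl
theorem F386611 : act 3 n192378 = n100132 := d7_1 D192378 (iv6 D100132) D100130
def n192379 : Q := act 3 n100131
theorem D192379 : act 3 n100131 = n192379 := rfl
def n192380 : Q := act 6 n100131
theorem D192380 : act 6 n100131 = n192380 := rfl
theorem F386612 : act 4 n192380 = n100132 := d10_1 D192380 (iv6 D100132) D100131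
theorem F386613 : act 5 n192380 = n106436 := d12_1 D192380 (iv6 D106436) (iv5 F228319) D145346 F359735
def n192381 : Q := act 7 n100132
theorem D192381 : act 7 n100132 = n192381 := rfl
theorem F386614 : act 6 n192381 = n111208 := d14_1 D192381 F380324 (iv6 F380323) F268284 D100132
def n192382 : Q := act 3 n100133
theorem D192382 : act 3 n100133 = n192382 := rfl
def n192383 : Q := act 5 n100133
theorem D192383 : act 5 n100133 = n192383 := rfl
theorem F386615 : act 4 n192383 = n140664 := d16_2 (iv4 F343487) D192383 F362759 F273380 F308413 (iv4 F306920) F136880 (iv7 F156761) F156760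
theorem F386616 : act 3 n103836 = n192383 := d5_5 F386615 F362760 D145407 (iv3 F373254) F373255
theorem F386617 : act 6 n103834 = n192383 := d10_0 F386615 F374998 F374996
theorem F386618 : act 5 n192382 = n103836 := d6_0 F386616 (iv5 D192383) D192382
def n192384 : Q := act 3 n100134
theorem D192384 : act 3 n100134 = n192384 := rfl
theorem F386619 : act 4 n192384 = n149029 := d20_6 F221694 F330023 (iv4 F101666) (iv3 F223477) (iv1 F331775) D192384 (iv1 F356997) (iv4 F342418) (iv3 F342417) (iv1 F353391)
def n192385 : Q := act 5 n100134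
theorem D192385 : act 5 n100134 = n192385 := rfl
theorem F386620 : act 4 n192385 = n140435 := d9_1 D192385 (iv5 F386481) F273893 F307525 (iv4 F307519) F153516 (iv4 F343487) D192383 F386615 F362759 F273380 F308413 (iv4 F306920) F136880 (iv4 F155571)
theorem F386621 : act 6 n140434 = n192385 := d10_0 F386620 (iv6 D140435) D140434
def n192386 : Q := act 6 n100134
theorem D192386 : act 6 n100134 = n192386 := rfl
theorem F386622 : act 4 n192386 = n100958 := d10_1 D192386 (iv6 D100958) (iv4 F155571)
def n192387 : Q := act 0 n100136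
theorem D192387 : act 0 n100136 = n192387 := rfl
theorem F386623 : act 5 n192387 = n100930 := d17_3 (iv1 D100134) D100136 D192387 (iv4 D100930) (iv5 D47039) (iv0 D22614) D22616 D47047 (iv4 F155571)
def n192388 : Q := act 1 n100136
theorem D192388 : act 1 n100136 = n192388 := rfl
theorem F386624 : act 5 n192388 = n100946 := d17_7 (iv1 F154041) (iv5 D46735) (iv1 D22405) D22406 D46739 D100136 D192388 (iv0 F386513) (iv4 D192340)
def n192389 : Q := act 4 n100136
theorem D192389 : act 4 n100136 = n192389 := rfl
def n192390 : Q := act 5 n100139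
theorem D192390 : act 5 n100139 = n192390 := rfl
theorem F386625 : act 3 n192390 = n188640 := d6_1 D192390 (iv5 D188640) (iv3 F154061)
theorem F386626 : act 7 n192390 = n114644 := d13_2 F157720 D192390 F178745
def n192391 : Q := act 4 n100140
theorem D192391 : act 4 n100140 = n192391 := rfl
theorem F386627 : act 1 n192391 = n152789 := d18_6 F143945 (iv4 F143943) F154062 (iv4 D100139) D100140 D192391 (iv4 F339914) F339913 (iv5 D101190)
def n192392 : Q := act 4 n100145
theorem D192392 : act 4 n100145 = n192392 := rfl
theorem F386628 : act 2 n192392 = n100149 := d1_1 D192392 (iv4 D100149) (iv2 F154075)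
theorem F386629 : act 0 n192392 = n156222 := d18_2 (iv1 F372276) D192392 (iv4 F359967) (iv5 F294633) (iv4 F295159) F295158 (iv4 F154387) F375473 F375470
def n192393 : Q := act 6 n100145
theorem D192393 : act 6 n100145 = n192393 := rfl
theorem F386630 : act 2 n192393 = n100150 := d3_1 D192393 (iv6 D100150) (iv2 F154075)
theorem F386631 : act 3 n192393 = n184250 := d7_1 D192393 (iv6 D184250) (iv3 F154076)
def n192394 : Q := act 4 n100147
theorem D192394 : act 4 n100147 = n192394 := rfl
theorem F386632 : act 2 n192394 = n156959 := d1_1 D192394 (iv4 F372284) (iv2 F372279)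
theorem F386633 : act 6 n192394 = n156924 := d10_2 (iv6 F367145) D192394 F316168
def n192395 : Q := act 3 n100148
theorem D192395 : act 3 n100148 = n192395 := rfl
theorem F386634 : act 5 n192395 = n183124 := d6_2 F362390 D192395 F375505
theorem F386635 : act 7 n192395 = n184320 := d8_2 (iv7 F372281) D192395 F372286
theorem F386636 : act 4 n100864 = n192395 := d19_2 F154946 D100864 (iv3 D192395) (iv1 D100148) (iv5 D46744) F65950 (iv3 D42227) D42225 D90325 (iv4 F139599) F345119 F74128 (iv5 F292308) (iv4 D90314) D90313 F345197 F228246 F295949 (iv3 F295947)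
theorem F386637 : act 0 n192395 = n104140 := d20_7 D47871 (iv1 F158463) (iv4 D103216) D103215 F350174 F158938 F386636 F349155 (iv3 D103315) (iv1 D47870)
theorem F386638 : act 1 n192395 = n151373 := d15_1 (iv0 F386637) F238090 F354447
theorem F386639 : act 2 n192395 = n184319 := d15_3 (iv0 D184319) D184320 (iv7 F386635)
def n192396 : Q := act 4 n100148
theorem D192396 : act 4 n100148 = n192396 := rfl
theorem F386640 : act 7 n192396 = n156959 := d11_2 (iv7 F372281) D192396 (iv4 F372284)
theorem F386641 : act 6 n178814 = n192396 := d14_5 F386640 (iv6 D156959) F318285 D85205 D178814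
def n192397 : Q := act 6 n100148
theorem D192397 : act 6 n100148 = n192397 := rfl
theorem F386642 : act 4 n192397 = n178814 := d10_1 D192397 F386641 (iv4 D192396)
theorem F386643 : act 7 n192397 = n178811 := d14_2 (iv7 F372281) D192397 (iv6 D178811) (iv7 F320444) F372280
def n192398 : Q := act 3 n100149
theorem D192398 : act 3 n100149 = n192398 := rfl
theorem F386644 : act 4 n192398 = n100158 := d5_2 D100149 D192398 (iv3 D100158) (iv4 D46747) (iv3 F73858)
def n192399 : Q := act 5 n100149
theorem D192399 : act 5 n100149 = n192399 := rfl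
def n192400 : Q := act 6 n100149
theorem D192400 : act 6 n100149 = n192400 := rfl
theorem F386645 : act 4 n192400 = n100150 := d10_1 D192400 (iv6 D100150) D100149
theorem F386646 : act 0 n192400 = n115562 := d20_7 (iv4 D66213) (iv1 D30945) (iv4 F49376) (iv3 F101803) F360355 (iv3 F154081) (iv4 F386645) (iv4 F360202) F217162 (iv1 F329887)
theorem F386647 : act 1 n192400 = n115253 := d15_1 (iv0 F386646) F179503 (iv2 F359764)
def n192401 : Q := act 0 n100150
theorem D192401 : act 0 n100150 = n192401 := rfl
def n192402 : Q := act 1 n100150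
theorem D192402 : act 1 n100150 = n192402 := rfl
def n192403 : Q := act 7 n100150
theorem D192403 : act 7 n100150 = n192403 := rfl
theorem F386648 : act 3 n192403 = n100163 := d8_1 D192403 (iv7 D100163) (iv3 F154081)
theorem F386649 : act 4 n115560 = n192403 := d19_2 D126684 (iv5 F357047) F386648 (iv1 F357512) (iv5 F383730) F383735 (iv3 D112698) F82186 (iv5 D48660) F36919 D23942 (iv1 F37370) (iv5 D14213) (iv4 F18829) F18828 F19392 D13475 D28224 D59437
theorem F386650 : act 7 n192400 = n115560 := d11_0 F386649 (iv7 D192403) (iv4 F386645)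
theorem F386651 : act 2 n192400 = n115559 := d15_3 (iv0 D115559) D115560 (iv7 F386650)
theorem F386652 : act 4 n115559 = n192393 := d1_2 (iv4 F386645) F386651 F386630
theorem F386653 : act 6 n115559 = n192392 := d3_2 D192400 F386651 F386628
def n192404 : Q := act 6 n100154
theorem D192404 : act 6 n100154 = n192404 := rfl
theorem F386654 : act 2 n192404 = n188942 := d3_1 D192404 (iv6 D188942) F292696
theorem F386655 : act 3 n192404 = n108450 := d7_1 D192404 (iv6 F167845) (iv3 F335718)
theorem F386656 : act 4 n192404 = n100155 := d10_1 D192404 (iv6 D100155) D100154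
theorem F386657 : act 5 n192404 = n140701 := d12_1 D192404 (iv6 D140701) (iv5 F172800) F354410 (iv5 F354445)
theorem F386658 : act 7 n192404 = n108446 := d14_2 F292917 D192404 (iv6 D108446) (iv7 F79371) (iv6 F335710)
def n192405 : Q := act 2 n100158
theorem D192405 : act 2 n100158 = n192405 := rfl
def n192406 : Q := act 6 n100158
theorem D192406 : act 6 n100158 = n192406 := rfl
theorem F386659 : act 3 n192406 = n100160 := d7_1 D192406 (iv6 D100160) D100158
def n192407 : Q := act 0 n100160
theorem D192407 : act 0 n100160 = n192407 := rfl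
def n192408 : Q := act 1 n100160
theorem D192408 : act 1 n100160 = n192408 := rfl
theorem F386660 : act 4 n192408 = n103454 := d18_7 F352461 (iv4 F220342) (iv1 F384097) F367823 F136773 (iv4 F154092) D192408 F158761 (iv5 F352465)
def n192409 : Q := act 5 n100160
theorem D192409 : act 5 n100160 = n192409 := rfl
def n192410 : Q := act 7 n100160
theorem D192410 : act 7 n100160 = n192410 := rfl
theorem F386661 : act 4 n192410 = n100163 := d11_1 D192410 (iv7 D100163) (iv4 F154092)
def n192411 : Q := act 4 n100161
theorem D192411 : act 4 n100161 = n192411 := rfl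
theorem F386662 : act 3 n192411 = n154734 := d5_1 D192411 F330608 F180958 (iv4 F224213) (iv3 F360358)
theorem F386663 : act 5 n192411 = n174573 := d16_1 D192411 F273433 F128536 (iv4 F328794) (iv5 F355849) F355868 (iv5 D141140) D141141 F360357
theorem F386664 : act 0 n100244 = n192411 := d20_7 (iv4 F340833) F326857 (iv4 F225832) F326862 (iv1 F350428) F154222 (iv4 F154230) (iv4 D192411) F360358 (iv1 F224215)
theorem F386665 : act 1 n113500 = n190543 := d18_8 (iv1 D100246) (iv4 F154230) F386664 (iv4 D192411) (iv5 F360363) F227809 F355862 D113500 F380045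
def n192412 : Q := act 5 n100164
theorem D192412 : act 5 n100164 = n192412 := rfl
theorem F386666 : act 2 n192412 = n103853 := d2_1 D192412 (iv5 D103853) (iv2 F154093)
theorem F386667 : act 3 n192412 = n189914 := d6_1 D192412 F378225 (iv3 F154094)
theorem F386668 : act 7 n192412 = n184192 := d13_2 (iv7 F154095) D192412 (iv5 D184192)
theorem F386669 : act 0 n192412 = n119266 := d17_2 (iv1 F154097) D192412 F379042 (iv4 F383077) F383078 F365065 F349994 (iv0 F158453) F157793
theorem F386670 : act 1 n192412 = n184203 := d17_6 (iv1 F286182) (iv5 D184252) (iv1 F154102) (iv5 D100165) D100164 D192412 F379040 (iv0 D190177) F147375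
def n192413 : Q := act 4 n100165
theorem D192413 : act 4 n100165 = n192413 := rfl
theorem F386671 : act 2 n192413 = n184258 := d1_1 D192413 F286186 (iv2 F154098)
theorem F386672 : act 7 n192413 = n184236 := d11_2 (iv7 F154099) D192413 (iv4 D184236)
theorem F386673 : act 0 n192413 = n184255 := d18_2 (iv1 F154102) D192413 F365056 (iv5 F383078) F383077 F379041 (iv4 F340564) F286181 (iv5 D184252)
theorem F386674 : act 1 n192413 = n184254 := d18_6 D99515 F157793 (iv1 F154097) (iv4 D100164) D100165 D192413 F365059 F365067 (iv5 D99517)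
theorem F386675 : act 3 n192413 = n153577 := d20_3 (iv4 D184251) (iv1 F154102) D192413 (iv1 D153577) (iv3 D72617) (iv4 D33517) D33515 (iv4 F86015) D118271 F372270
def n192414 : Q := act 5 n100166
theorem D192414 : act 5 n100166 = n192414 := rfl
theorem F386676 : act 2 n192414 = n100170 := d2_1 D192414 (iv5 D100170) (iv2 F154103)
theorem F386677 : act 3 n192414 = n103233 := d6_1 D192414 (iv5 D103233) (iv3 F154104)
theorem F386678 : act 7 n192414 = n103207 := d13_2 (iv7 F154105) D192414 (iv5 D103207)
theorem F386679 : act 1 n192414 = n103209 := d17_6 F139759 D187203 F369476 (iv5 D100167) D100166 D192414 F349217 (iv0 D97326) (iv4 F72957)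
theorem F386680 : act 0 n192414 = n103210 := d21_1 D192414 F367031 D191158 (iv1 F382437) F369065 F291423 (iv1 F306955) (iv5 F313129) (iv6 F177395) F154106
def n192415 : Q := act 4 n100167
theorem D192415 : act 4 n100167 = n192415 := rfl
theorem F386681 : act 2 n192415 = n100174 := d1_1 D192415 (iv4 D100174) (iv2 F154108)
theorem F386682 : act 7 n192415 = n184249 := d11_2 (iv7 F154109) D192415 (iv4 D184249)
theorem F386683 : act 1 n192415 = n145112 := d18_6 F158453 (iv4 D103205) F154106 (iv4 D100166) D100167 D192415 F228088 D151379 (iv5 F349218)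
def n192416 : Q := act 6 n100167
theorem D192416 : act 6 n100167 = n192416 := rfl
theorem F386684 : act 2 n192416 = n100175 := d3_1 D192416 (iv6 D100175) (iv2 F154108)
def n192417 : Q := act 3 n100169
theorem D192417 : act 3 n100169 = n192417 := rfl
theorem F386685 : act 2 n192417 = n100843 := d0_1 D192417 F295947 (iv2 F295946) (iv3 F138904) F154116
theorem F386686 : act 4 n192417 = n104139 := d5_2 F157781 D192417 F159624 F153287 (iv3 F153286)
theorem F386687 : act 5 n192417 = n144252 := d6_2 F382440 D192417 F382441
theorem F386688 : act 6 n192417 = n184064 := d7_2 F177393 D192417 F286011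
theorem F386689 : act 7 n192417 = n100721 := d8_2 F157770 D192417 F154825
theorem F386690 : act 0 n192417 = n100784 := d20_4 (iv4 F159264) (iv1 F157780) F157781 D192417 (iv3 F372407) (iv4 D188131) F294860 F73484 (iv3 F134840) (iv1 F159262)
theorem F386691 : act 0 n100780 = n192417 := d20_4 F147980 F176026 (iv4 D103022) (iv3 F154877) (iv3 D192417) (iv4 F157781) F157779 D100861 (iv3 F158935) (iv1 F176037)
def n192418 : Q := act 4 n100170
theorem D192418 : act 4 n100170 = n192418 := rfl
theorem F386692 : act 7 n192418 = n103211 := d11_2 (iv7 F154118) D192418 (iv4 D103211)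
theorem F386693 : act 0 n192418 = n105639 := d18_2 F379150 D192418 (iv4 F173995) F358496 F158606 (iv0 F294728) (iv4 F138086) (iv0 F369641) D190235
def n192419 : Q := act 6 n100170
theorem D192419 : act 6 n100170 = n192419 := rfl
theorem F386694 : act 3 n192419 = n103045 := d7_1 D192419 (iv6 D103045) (iv3 F154117)
def n192420 : Q := act 4 n100172
theorem D192420 : act 4 n100172 = n192420 := rfl
theorem F386695 : act 3 n192420 = n155779 := d5_1 D192420 (iv4 D155779) (iv3 F336637) F294123 (iv3 F294730)
def n192421 : Q := act 6 n100172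
theorem D192421 : act 6 n100172 = n192421 := rfl
theorem F386696 : act 3 n192421 = n103372 := d7_1 D192421 (iv6 D103372) (iv3 F294730)
theorem F386697 : act 5 n192421 = n184983 := d12_1 D192421 (iv6 F378219) F378218 F294188 (iv5 F294731)
def n192422 : Q := act 4 n100173
theorem D192422 : act 4 n100173 = n192422 := rfl
def n192423 : Q := act 6 n100173
theorem D192423 : act 6 n100173 = n192423 := rfl
theorem F386698 : act 3 n192423 = n156687 := d7_1 D192423 F386288 (iv3 F386290)
theorem F386699 : act 4 n192423 = n111203 := d20_6 (iv4 F80546) (iv1 F80549) F53730 D74513 D156687 (iv3 F386698) (iv1 D111203) F80906 (iv3 D24948) D24946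
theorem F386700 : act 6 n111203 = n192422 := d10_2 D192423 F386699 (iv4 D192422)
theorem F386701 : act 0 n146964 = n192423 := d20_10 F386699 (iv1 D111203) F80906 (iv3 D24948) D24946 D51302 F80935 D74289 D156166 F361429
def n192424 : Q := act 0 n100174
theorem D192424 : act 0 n100174 = n192424 := rfl
theorem F386702 : act 4 n192424 = n146360 := d20_8 (iv4 D118329) (iv1 F86081) D71081 (iv3 F329560) (iv1 F66001) (iv3 F73871) D100174 D192424 (iv3 D146360) (iv1 F185936)
theorem F386703 : act 1 n184249 = n192424 := d15_0 (iv0 D192424) (iv7 F384823) F384822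
theorem F386704 : act 3 n128494 = n192424 := d5_5 F386702 (iv3 D146360) (iv4 D68628) (iv3 F104815) (iv4 F206650)
theorem F386705 : act 7 n145112 = n192424 := d11_0 F386702 F229688 (iv4 F228088)
def n192425 : Q := act 1 n100174
theorem D192425 : act 1 n100174 = n192425 := rfl
theorem F386706 : act 1 n192425 = n184249 := d15_1 D192425 (iv7 F386682) F386681
theorem F386707 : act 4 n192425 = n151380 := d18_7 (iv1 F157780) F157781 (iv1 D100169) (iv4 D46751) D46752 D100174 D192425 F365255 F329911
theorem F386708 : act 2 n145112 = n192425 := d1_3 F386707 (iv2 D151380) (iv4 F228088)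
def n192426 : Q := act 3 n100174
theorem D192426 : act 3 n100174 = n192426 := rfl
theorem F386709 : act 4 n192426 = n100178 := d5_2 D100174 D192426 (iv3 D100178) (iv4 D46754) (iv3 F73871)
def n192427 : Q := act 5 n100174
theorem D192427 : act 5 n100174 = n192427 := rfl
def n192428 : Q := act 6 n100174
theorem D192428 : act 6 n100174 = n192428 := rfl
theorem F386710 : act 4 n192428 = n100175 := d10_1 D192428 (iv6 D100175) D100174
def n192429 : Q := act 0 n100175
theorem D192429 : act 0 n100175 = n192429 := rfl
def n192430 : Q := act 1 n100175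
theorem D192430 : act 1 n100175 = n192430 := rfl
def n192431 : Q := act 5 n100175
theorem D192431 : act 5 n100175 = n192431 := rfl
theorem F386711 : act 3 n192431 = n100183 := d6_1 D192431 (iv5 D100183) (iv3 F154125)
theorem F386712 : act 6 n192431 = n100177 := d12_2 D100175 D192431 (iv5 D100177) (iv6 D46753) D46752
def n192432 : Q := act 7 n100175
theorem D192432 : act 7 n100175 = n192432 := rfl
theorem F386713 : act 3 n192432 = n100184 := d8_1 D192432 (iv7 D100184) (iv3 F154125)
def n192433 : Q := act 4 n100177
theorem D192433 : act 4 n100177 = n192433 := rfl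
def n192434 : Q := act 0 n100178
theorem D192434 : act 0 n100178 = n192434 := rfl
def n192435 : Q := act 2 n100178
theorem D192435 : act 2 n100178 = n192435 := rfl
def n192436 : Q := act 6 n100178
theorem D192436 : act 6 n100178 = n192436 := rfl
theorem F386714 : act 3 n192436 = n100180 := d7_1 D192436 (iv6 D100180) D100178
def n192437 : Q := act 0 n100180
theorem D192437 : act 0 n100180 = n192437 := rfl
def n192438 : Q := act 1 n100180
theorem D192438 : act 1 n100180 = n192438 := rfl
theorem F386715 : act 6 n145403 = n192438 := d21_3 (iv5 F366172) (iv1 D145401) D145403 (iv1 D192438) (iv6 D100180) (iv5 F290827) F143384 F291271 (iv6 F153178) (iv1 F268289)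
theorem F386716 : act 3 n192438 = n145405 := d7_1 F386715 (iv6 D145405) (iv3 F228434)
theorem F386717 : act 4 n192438 = n191932 := d10_1 F386715 (iv6 F384878) F366171
theorem F386718 : act 3 n192429 = n184328 := d20_5 (iv4 F386717) (iv1 D192438) F154129 (iv3 F154125) D192429 (iv4 F358769) (iv1 F273270) (iv4 F358752) (iv3 F154254) (iv1 F384877)
def n192439 : Q := act 7 n100180
theorem D192439 : act 7 n100180 = n192439 := rfl
theorem F386719 : act 4 n192439 = n100184 := d11_1 D192439 (iv7 D100184) (iv4 F154129)
theorem F386720 : act 5 n192439 = n180112 := d13_1 D192439 (iv7 F383282) (iv5 F383283)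
def n192440 : Q := act 3 n100182
theorem D192440 : act 3 n100182 = n192440 := rfl
theorem F386721 : act 2 n192440 = n155682 := d0_1 D192440 (iv3 F348153) (iv2 F332937) (iv3 F372303) F384753
theorem F386722 : act 4 n192440 = n177054 := d5_2 (iv4 F384759) D192440 (iv3 D177054) (iv4 F350081) (iv3 F383312)
theorem F386723 : act 6 n192440 = n154089 := d7_2 (iv6 F384752) D192440 F384751
theorem F386724 : act 7 n192440 = n155681 := d8_2 F384755 D192440 (iv3 F384764)
theorem F386725 : act 1 n151374 = n192440 := d15_1 F362321 F386724 (iv2 F348150)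
theorem F386726 : act 1 n192440 = n155684 := d15_1 F386725 (iv7 D155684) (iv2 F238091)
theorem F386727 : act 0 n191391 = n100263 := d20_7 D189191 (iv1 F376018) F358787 (iv3 F358786) (iv1 F386726) (iv3 D192440) F384759 F154251 F73900 D93444
def n192441 : Q := act 0 n100183
theorem D192441 : act 0 n100183 = n192441 := rfl
theorem F386728 : act 4 n192441 = n123974 := d20_8 D122449 (iv1 F279932) (iv4 D179718) (iv3 F279916) F361490 (iv3 F383296) F383297 D192441 F198390 F304296
theorem F386729 : act 5 n192441 = n111211 := d21_2 D100183 D192441 (iv6 D111211) (iv1 F342223) (iv6 D100128) (iv5 F268282) F311767 (iv5 F384749) (iv6 F384752) (iv1 D100182)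
theorem F386730 : act 3 n111213 = n192441 := d6_3 F386729 F172473 D111213
def n192442 : Q := act 1 n100183
theorem D192442 : act 1 n100183 = n192442 := rfl
def n192443 : Q := act 7 n100183
theorem D192443 : act 7 n100183 = n192443 := rfl
theorem F386731 : act 5 n192443 = n100184 := d13_1 D192443 (iv7 D100184) D100183
def n192444 : Q := act 3 n100186
theorem D192444 : act 3 n100186 = n192444 := rfl
theorem F386732 : act 5 n192444 = n187676 := d6_2 (iv5 F365791) D192444 (iv3 D187676)
theorem F386733 : act 6 n192444 = n122681 := d7_2 F383298 D192444 (iv3 F383296)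
def n192445 : Q := act 4 n100189
theorem D192445 : act 4 n100189 = n192445 := rfl
theorem F386734 : act 2 n192445 = n100190 := d1_1 D192445 (iv4 D100190) D100189
theorem F386735 : act 0 n192445 = n189175 := d18_2 (iv1 F371257) D192445 (iv4 D189175) (iv5 D93338) F68610 F138963 F138960 (iv0 F157735) D187708
theorem F386736 : act 1 n192445 = n140259 := d18_6 (iv1 F368125) (iv4 D100692) D100689 (iv4 F375479) F375480 D192445 F339888 F375952 F375950
def n192446 : Q := act 6 n100189
theorem D192446 : act 6 n100189 = n192446 := rfl
theorem F386737 : act 2 n192446 = n100192 := d3_1 D192446 (iv6 D100192) D100189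
theorem F386738 : act 3 n192446 = n184253 := d7_1 D192446 (iv6 D184253) (iv3 F154135)
def n192447 : Q := act 0 n100190
theorem D192447 : act 0 n100190 = n192447 := rfl
theorem F386739 : act 4 n192447 = n139353 := d18_3 F367251 D100190 D192447 (iv5 F339894) F143947 (iv0 D90326) (iv4 F65950) F157759 D99919
theorem F386740 : act 2 n189175 = n192447 := d15_3 (iv0 D192447) (iv0 F155911) (iv7 F375956)
theorem F386741 : act 6 n192447 = n113142 := d3_2 (iv6 F375955) F386740 F330572
theorem F386742 : act 7 n192447 = n140259 := d4_2 (iv7 F375956) F386740 (iv2 F339889)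
theorem F386743 : act 3 n113143 = n192447 := d8_3 F386742 (iv3 D140259) F176284
def n192448 : Q := act 3 n100190
theorem D192448 : act 3 n100190 = n192448 := rfl
theorem F386744 : act 4 n192448 = n100193 := d5_2 D100190 D192448 (iv3 D100193) (iv4 D46761) D46760
def n192449 : Q := act 5 n100190
theorem D192449 : act 5 n100190 = n192449 := rfl
def n192450 : Q := act 6 n100190
theorem D192450 : act 6 n100190 = n192450 := rfl
theorem F386745 : act 4 n192450 = n100192 := d10_1 D192450 (iv6 D100192) D100190
def n192451 : Q := act 0 n100192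
theorem D192451 : act 0 n100192 = n192451 := rfl
def n192452 : Q := act 1 n100192
theorem D192452 : act 1 n100192 = n192452 := rfl
def n192453 : Q := act 7 n100192
theorem D192453 : act 7 n100192 = n192453 := rfl
theorem F386746 : act 3 n192453 = n100198 := d8_1 D192453 (iv7 D100198) (iv3 F154139)
def n192454 : Q := act 0 n100193
theorem D192454 : act 0 n100193 = n192454 := rfl
theorem F386747 : act 2 n128033 = n192454 := d15_3 (iv0 D192454) (iv0 F365474) F241496
theorem F386748 : act 4 n192454 = n152813 := d1_2 (iv4 F206035) F386747 (iv2 D152813)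
def n192455 : Q := act 2 n100193
theorem D192455 : act 2 n100193 = n192455 := rfl
def n192456 : Q := act 6 n100193
theorem D192456 : act 6 n100193 = n192456 := rfl
theorem F386749 : act 3 n192456 = n100195 := d7_1 D192456 (iv6 D100195) D100193
theorem F386750 : act 5 n192456 = n139595 := d12_1 D192456 (iv6 D139595) (iv5 F345073) (iv6 F374512) F374511
theorem F386751 : act 0 n192456 = n140339 := d21_10 (iv5 D140339) (iv1 D65866) D65867 (iv6 F169168) F332971 F200388 D153178 F374513 F374511 D192456
theorem F386752 : act 0 n140336 = n192456 := d17_2 D65865 D140336 F386750 F222741 (iv5 F167671) (iv0 F167674) (iv5 D53828) (iv0 F163970) (iv4 F49243)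
def n192457 : Q := act 0 n100195
theorem D192457 : act 0 n100195 = n192457 := rfl
def n192458 : Q := act 1 n100195
theorem D192458 : act 1 n100195 = n192458 := rfl
def n192459 : Q := act 5 n100195
theorem D192459 : act 5 n100195 = n192459 := rfl
theorem F386753 : act 3 n192459 = n139595 := d6_1 D192459 (iv5 F386750) F386749
theorem F386754 : act 6 n192459 = n139593 := d12_2 D100195 D192459 F349169 F178142 F292615
def n192460 : Q := act 7 n100195
theorem D192460 : act 7 n100195 = n192460 := rfl
theorem F386755 : act 4 n192460 = n100198 := d11_1 D192460 (iv7 D100198) (iv4 F154141)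
def n192461 : Q := act 2 n100196
theorem D192461 : act 2 n100196 = n192461 := rfl
theorem F386756 : act 7 n100197 = n192461 := d15_2 (iv0 D100196) D100197 (iv2 D192461)
def n192462 : Q := act 3 n100196
theorem D192462 : act 3 n100196 = n192462 := rfl
def n192463 : Q := act 4 n100196
theorem D192463 : act 4 n100196 = n192463 := rfl
def n192464 : Q := act 5 n100196
theorem D192464 : act 5 n100196 = n192464 := rfl
def n192465 : Q := act 7 n100196
theorem D192465 : act 7 n100196 = n192465 := rfl
theorem F386757 : act 2 n192465 = n100197 := d4_1 D192465 F386756 (iv2 D192461)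
def n192466 : Q := act 3 n100197
theorem D192466 : act 3 n100197 = n192466 := rfl
def n192467 : Q := act 4 n100197
theorem D192467 : act 4 n100197 = n192467 := rfl
def n192468 : Q := act 5 n100197
theorem D192468 : act 5 n100197 = n192468 := rfl
theorem F386758 : act 6 n192468 = n192170 := d21_3 (iv5 F384834) (iv1 F384837) D192468 (iv1 F385843) (iv6 F367495) F367494 (iv1 F136509) D98499 D191520 F385905
def n192469 : Q := act 6 n100197
theorem D192469 : act 6 n100197 = n192469 := rfl
def n192470 : Q := act 4 n100199
theorem D192470 : act 4 n100199 = n192470 := rfl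
theorem F386759 : act 2 n192470 = n100200 := d1_1 D192470 (iv4 D100200) D100199
theorem F386760 : act 7 n192470 = n184251 := d11_2 (iv7 F154143) D192470 (iv4 D184251)
theorem F386761 : act 0 n192470 = n192017 := d18_2 (iv1 F154144) D192470 (iv4 D192017) (iv5 D99517) (iv4 F75090) F157769 (iv4 D100166) F73867 (iv5 F134897)
def n192471 : Q := act 6 n100199
theorem D192471 : act 6 n100199 = n192471 := rfl
theorem F386762 : act 2 n192471 = n100201 := d3_1 D192471 (iv6 D100201) D100199
theorem F386763 : act 5 n192471 = n191833 := d12_1 D192471 (iv6 D191833) (iv5 D98988) D98989 (iv5 F154142)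
def n192472 : Q := act 1 n100200
theorem D192472 : act 1 n100200 = n192472 := rfl
theorem F386764 : act 1 n192472 = n184251 := d15_1 D192472 (iv7 F386760) F386759
theorem F386765 : act 7 n192472 = n192017 := d15_2 (iv0 F365346) D192472 F385218
theorem F386766 : act 4 n192472 = n139406 := d18_7 F382432 (iv4 D191157) (iv1 D97327) (iv4 F72957) (iv5 F73881) D100200 D192472 F365348 D139604
theorem F386767 : act 6 n139404 = n192472 := d10_0 F386766 (iv6 D139406) D139404
theorem F386768 : act 5 n192472 = n145124 := d12_1 F386767 (iv6 D145124) (iv5 D68026) F319602 (iv5 F349985)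
theorem F386769 : act 0 n145124 = n192427 := d17_2 (iv1 F386764) F386768 (iv5 D192427) (iv4 D100174) (iv5 D46752) D46749 D100165 F154102 D184251
def n192473 : Q := act 3 n100200
theorem D192473 : act 3 n100200 = n192473 := rfl
theorem F386770 : act 4 n192473 = n100202 := d5_2 D100200 D192473 (iv3 D100202) (iv4 D46765) D46764
def n192474 : Q := act 5 n100200
theorem D192474 : act 5 n100200 = n192474 := rfl
def n192475 : Q := act 6 n100200
theorem D192475 : act 6 n100200 = n192475 := rfl
theorem F386771 : act 4 n192475 = n100201 := d10_1 D192475 (iv6 D100201) D100200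
def n192476 : Q := act 0 n100201
theorem D192476 : act 0 n100201 = n192476 := rfl
def n192477 : Q := act 1 n100201
theorem D192477 : act 1 n100201 = n192477 := rfl
def n192478 : Q := act 7 n100201
theorem D192478 : act 7 n100201 = n192478 := rfl
theorem F386772 : act 3 n192478 = n100207 := d8_1 D192478 (iv7 D100207) (iv3 F154146)
theorem F386773 : act 5 n192478 = n191843 := d13_1 D192478 (iv7 D191843) (iv5 F154147)
def n192479 : Q := act 0 n100202
theorem D192479 : act 0 n100202 = n192479 := rfl
def n192480 : Q := act 2 n100202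
theorem D192480 : act 2 n100202 = n192480 := rfl
def n192481 : Q := act 6 n100202
theorem D192481 : act 6 n100202 = n192481 := rfl
theorem F386774 : act 3 n192481 = n100204 := d7_1 D192481 (iv6 D100204) D100202
theorem F386775 : act 0 n134828 = n192481 := d20_4 (iv4 F112157) (iv1 D63359) (iv4 F98661) (iv3 F216976) F386774 F154149 D100205 (iv4 F384864) F384865 (iv1 F167660)
def n192482 : Q := act 0 n100204
theorem D192482 : act 0 n100204 = n192482 := rfl
def n192483 : Q := act 1 n100204
theorem D192483 : act 1 n100204 = n192483 := rfl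
theorem F386776 : act 4 n192483 = n188686 := d18_7 (iv1 F142803) (iv4 F380069) (iv1 D186644) F294988 (iv5 F73883) (iv4 F154149) D192483 F374454 F143588
theorem F386777 : act 3 n192476 = n184347 := d20_5 (iv4 F386776) (iv1 D192483) F154149 (iv3 F154146) D192476 F364280 (iv1 F241916) (iv4 F375596) F375595 (iv1 F374454)
theorem F386778 : act 2 n189070 = n192483 := d1_3 F386776 F378694 D189070
theorem F386779 : act 7 n189065 = n192483 := d11_0 F386776 F378695 D189065
theorem F386780 : act 3 n101446 = n192483 := d20_5 (iv4 D47205) (iv1 D22708) D22709 D47209 D101446 F386776 (iv1 D188686) (iv4 F374444) (iv3 F374445) (iv1 F156250)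
theorem F386781 : act 2 n189065 = n192482 := d15_3 (iv0 D192482) D192483 (iv7 F386779)
theorem F386782 : act 4 n192482 = n188685 := d1_2 D189065 F386781 F378697
theorem F386783 : act 7 n192482 = n189070 := d4_2 (iv7 F386779) F386781 F386778
theorem F386784 : act 1 n189065 = n100981 := d15_0 (iv0 F375631) (iv7 F386783) (iv2 F386781)
def n192484 : Q := act 5 n100204
theorem D192484 : act 5 n100204 = n192484 := rfl
def n192485 : Q := act 7 n100204
theorem D192485 : act 7 n100204 = n192485 := rfl
theorem F386785 : act 4 n192485 = n100207 := d11_1 D192485 (iv7 D100207) (iv4 F154149)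
theorem F386786 : act 1 n189070 = n192485 := d15_1 (iv0 F375631) (iv7 D192485) (iv2 F155597)
theorem F386787 : act 1 n192485 = n189065 := d15_1 F386786 F386779 (iv2 F386778)
def n192486 : Q := act 5 n100205
theorem D192486 : act 5 n100205 = n192486 := rfl
theorem F386788 : act 2 n192486 = n191829 := d2_1 D192486 F384855 F384859
theorem F386789 : act 7 n192486 = n191830 := d13_2 (iv7 F384861) D192486 (iv5 F384551)
theorem F386790 : act 0 n192486 = n191831 := d21_1 D192486 (iv5 F386527) F386528 (iv1 D189031) (iv6 D93061) (iv5 D43545) (iv1 F291686) F34964 D46766 D100205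
theorem F386791 : act 0 n186638 = n192486 := d21_10 (iv5 D192486) (iv1 F384863) F384850 F367183 (iv1 F367531) (iv6 F367532) F338820 (iv1 F301806) F152910 D186638
def n192487 : Q := act 4 n100234
theorem D192487 : act 4 n100234 = n192487 := rfl
theorem F386792 : act 2 n192487 = n139156 := d1_1 D192487 (iv4 F352996) F352992
theorem F386793 : act 0 n192487 = n136532 := d18_2 D100234 D192487 (iv4 F329701) (iv5 D100017) F153961 (iv0 F157776) F153287 F157764 D46775
theorem F386794 : act 6 n139154 = n192487 := d3_0 F386792 (iv6 D139156) D139154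
def n192488 : Q := act 6 n100234
theorem D192488 : act 6 n100234 = n192488 := rfl
theorem F386795 : act 2 n192488 = n139143 := d3_1 D192488 (iv6 F352994) F352992
theorem F386796 : act 3 n192488 = n111246 := d7_1 D192488 F366477 (iv3 F359359)
theorem F386797 : act 4 n192488 = n139154 := d10_1 D192488 F386794 (iv4 D192487)
theorem F386798 : act 5 n192488 = n151576 := d12_1 D192488 (iv6 F356612) (iv5 D186459) (iv6 F292924) F292923
theorem F386799 : act 7 n111242 = n192488 := d13_0 F386798 F349070 F356864
theorem E103512 : n139154 = n136464 := (c20_7 (iv4 D24928) (iv1 F19250) (iv4 F39126) (iv3 F80949) (iv1 F210280) (iv3 F386796) F386797 (iv1 D136464) (iv4 F111871) (iv3 D74512) (iv1 F53724))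
theorem F386800 : act 2 n136464 = n65310 := (sb E103512 (iv2 D139154))
theorem F386801 : act 4 n136464 = n192488 := (sb E103512 (iv4 F386797))
theorem F386802 : act 6 n136464 = n192487 := (sb E103512 F386794)
def n192489 : Q := act 6 n100235
theorem D192489 : act 6 n100235 = n192489 := rfl
theorem F386803 : act 5 n192489 = n183776 := d12_1 D192489 (iv6 D183776) (iv5 F285254) (iv6 F292929) F292928
def n192490 : Q := act 0 n100236
theorem D192490 : act 0 n100236 = n192490 := rfl
theorem F386804 : act 1 n184364 = n192490 := d15_0 (iv0 D192490) (iv7 F384869) F384868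
def n192491 : Q := act 1 n100236
theorem D192491 : act 1 n100236 = n192491 := rfl
theorem F386805 : act 1 n192491 = n184364 := d15_1 D192491 (iv7 F375921) F375920
def n192492 : Q := act 3 n100236
theorem D192492 : act 3 n100236 = n192492 := rfl
theorem F386806 : act 4 n192492 = n100243 := d5_2 D100236 D192492 (iv3 D100243) (iv4 D46778) (iv3 F73888)
theorem F386807 : act 6 n192492 = n104249 := d7_2 (iv6 F385890) D192492 (iv3 F385891)
theorem F386808 : act 0 n192492 = n135905 := d20_4 F352998 (iv1 D100235) D100236 D192492 F218620 F99400 D134843 F217020 D136532 F352999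
theorem F386809 : act 2 n137712 = n192492 := d3_3 F386807 F355539 D137712
def n192493 : Q := act 5 n100236
theorem D192493 : act 5 n100236 = n192493 := rfl
def n192494 : Q := act 7 n100237
theorem D192494 : act 7 n100237 = n192494 := rfl
theorem F386810 : act 3 n192494 = n100247 := d8_1 D192494 (iv7 D100247) (iv3 F154222)
theorem F386811 : act 4 n192494 = n137714 := d11_1 D192494 (iv7 F385886) F385888
theorem F386812 : act 5 n192494 = n143068 := d13_1 D192494 F225924 F350425
theorem F386813 : act 4 n111074 = n138022 := d20_8 F221284 (iv1 F357292) (iv4 F386811) F386810 (iv1 F158761) (iv3 F380083) F172261 D111074 F221280 D138024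
theorem F386814 : act 3 n192401 = n138024 := d20_5 (iv4 F386660) (iv1 D192408) F154092 (iv3 F154081) D192401 F221284 (iv1 F357292) (iv4 F386811) F386810 (iv1 F158761)
theorem F386815 : act 5 n143098 = n192401 := d6_0 F386814 F221283 D143098
theorem F386816 : act 2 n127080 = n111074 := d1_3 F386813 (iv2 F357360) F224118
theorem F386817 : act 0 n137198 = n111067 := d18_0 F172261 D111074 F386813 (iv5 D138022) F100695 (iv0 F336109) F94022 D64487 D137198
theorem E103513 : n111075 = n107204 := (c15_2 (iv0 D111074) D111075 (iv7 F204320) F386816)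
theorem F386818 : act 0 n107204 = n51230 := (sb E103513 (iv1 D111075))
def n192495 : Q := act 6 n100240
theorem D192495 : act 6 n100240 = n192495 := rfl
theorem F386819 : act 3 n192495 = n100242 := d7_1 D192495 (iv6 D100242) D100240
theorem F386820 : act 5 n192495 = n102338 := d12_1 D192495 (iv6 D102338) (iv5 F137043) (iv6 F292893) F292892
def n192496 : Q := act 3 n100241
theorem D192496 : act 3 n100241 = n192496 := rfl
theorem F386821 : act 4 n192496 = n188869 := d5_2 D100241 D192496 F375082 (iv4 F349160) (iv3 D100240)
theorem F386822 : act 5 n192496 = n188645 := d6_2 F354458 D192496 (iv3 D188645)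
theorem F386823 : act 7 n192496 = n154742 := d8_2 F294167 D192496 (iv3 F365330)
theorem F386824 : act 0 n192496 = n147922 := d20_4 (iv4 D46786) (iv1 F73892) D100241 D192496 (iv3 D147922) F105570 F86054 (iv4 F110075) (iv3 F329722) F137334
theorem F386825 : act 2 n154741 = n192496 := d4_3 F386823 F375023 F365604
theorem F386826 : act 1 n192496 = n154743 := d15_0 F372091 F365604 F386825
def n192497 : Q := act 6 n100241
theorem D192497 : act 6 n100241 = n192497 := rfl
theorem F386827 : act 2 n192497 = n188898 := d3_1 D192497 (iv6 D188898) F293432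
theorem F386828 : act 4 n192497 = n100242 := d10_1 D192497 (iv6 D100242) D100241
theorem F386829 : act 0 n192497 = n192368 := d21_4 (iv5 F292615) F142849 F354458 D192497 (iv6 D192368) D192367 F386588 (iv5 D191982) F153178 (iv1 F74301)
theorem F386830 : act 5 n189926 = n192497 := d16_1 D189926 F386828 F154229 (iv4 F347703) (iv5 D89371) (iv4 F137037) (iv5 F146995) (iv7 F148368) F148369
def n192498 : Q := act 1 n100242
theorem D192498 : act 1 n100242 = n192498 := rfl
theorem F386831 : act 1 n192498 = n189049 := d15_1 D192498 (iv7 D189049) F293435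
theorem F386832 : act 7 n192498 = n100947 := d15_2 (iv0 F385057) D192498 (iv2 F385055)
theorem F386833 : act 5 n192498 = n154521 := d18_9 (iv1 F364815) (iv4 D102302) D102300 (iv4 F386591) (iv5 D192369) (iv4 F386589) (iv0 F386829) F386828 D192498
theorem F386834 : act 3 n147816 = n192498 := d19_19 (iv1 D192498) F154229 (iv4 F347703) F137040 F64381 (iv5 D21860) F16600 F6818 D10429 F290662 (iv4 F32471) (iv3 F67857) (iv1 F142255) (iv5 F239332) F363649 F231229 F230629 D69256 D147816
theorem F386835 : act 2 n189048 = n192498 := d4_3 F386832 (iv2 F385055) (iv7 F385059)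
theorem F386836 : act 6 n189142 = n192498 := d14_5 F386832 (iv6 D100947) (iv7 F156870) D191974 (iv7 F385049)
def n192499 : Q := act 7 n100242
theorem D192499 : act 7 n100242 = n192499 := rfl
theorem F386837 : act 2 n192499 = n189049 := d4_1 D192499 (iv7 D189049) F293435
theorem F386838 : act 5 n192499 = n102337 := d13_1 D192499 F361675 (iv5 F154229)
theorem F386839 : act 6 n192499 = n189039 := d14_1 D192499 (iv7 D189039) (iv6 D93071) F293149 D100242
theorem F386840 : act 1 n189048 = n192499 := d15_1 D189048 (iv7 D192499) (iv2 F293435)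
theorem F386841 : act 1 n192499 = n100947 := d15_1 F386840 (iv7 F386832) (iv2 F386835)
def n192500 : Q := act 0 n100243
theorem D192500 : act 0 n100243 = n192500 := rfl
theorem F386842 : act 5 n192500 = n188949 := d17_1 D192500 (iv1 F375238) D188952 (iv4 F375246) (iv5 D154590) D154589 (iv5 F338918) (iv0 F386808) F386806
theorem F386843 : act 1 n155835 = n192500 := d15_0 (iv0 D192500) (iv7 F384873) F384872
theorem F386844 : act 2 n188950 = n192500 := d2_3 F386842 F375237 D188950
theorem F386845 : act 7 n188947 = n192500 := d13_0 F386842 (iv7 D188949) D188947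
def n192501 : Q := act 1 n100243
theorem D192501 : act 1 n100243 = n192501 := rfl
theorem F386846 : act 7 n192501 = n188950 := d15_2 (iv0 D192500) D192501 F386844
theorem F386847 : act 5 n192501 = n114289 := d17_7 D153786 (iv5 F372005) (iv1 F372008) (iv5 F371748) (iv4 F375054) F375055 D192501 (iv0 F362364) F143287
theorem F386848 : act 2 n188947 = n192501 := d2_3 F386847 F365817 D188947
theorem F386849 : act 3 n114290 = n192501 := d6_3 F386847 (iv3 D114289) D114290
theorem F386850 : act 0 n155835 = n192501 := d19_0 F386847 F178147 (iv3 D52778) D52776 (iv5 F83394) (iv4 D52787) (iv3 F83391) (iv1 F107972) F107974 F103970 F54568 F27306 (iv5 F25904) (iv4 F52059) D70988 (iv1 F349914) (iv5 D74127) D74126 D155835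
def n192502 : Q := act 2 n100243
theorem D192502 : act 2 n100243 = n192502 := rfl
theorem F386851 : act 3 n192502 = n148670 := d0_2 D100243 D192502 F353027 F329913 F75259
theorem F386852 : act 4 n192502 = n137712 := d1_2 F386806 D192502 F386809
theorem F386853 : act 7 n192502 = n155835 := d4_2 F384873 D192502 (iv2 F384872)
theorem F386854 : act 3 n137712 = n159424 := d5_1 F386852 (iv4 F251056) (iv3 D148669) D148670 (iv3 F386851)
theorem F386855 : act 6 n137710 = n192502 := d10_0 F386852 (iv6 D137712) D137710
theorem F386856 : act 0 n188947 = n192502 := d20_1 (iv4 F375236) F386852 F386854 (iv1 D159424) (iv3 D76261) (iv4 D34835) D34833 D76255 D159410 F373382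
theorem F386857 : act 1 n188947 = n191929 := d15_1 (iv0 F386856) F384873 D192502
theorem F386858 : act 1 n188950 = n192502 := d15_0 (iv0 F386856) F386845 (iv2 F386844)
theorem F386859 : act 1 n191929 = n188950 := d15_0 F386858 F386853 (iv2 F384872)
theorem F386860 : act 6 n159424 = n137709 := d7_2 D137712 F386854 (iv3 D137709)
def n192503 : Q := act 6 n100243
theorem D192503 : act 6 n100243 = n192503 := rfl
theorem F386861 : act 2 n192503 = n137710 := d3_1 D192503 F386855 (iv2 D192502)
theorem F386862 : act 3 n192503 = n100244 := d7_1 D192503 (iv6 D100244) D100243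
theorem F386863 : act 4 n192503 = n104249 := d10_1 D192503 (iv6 F386807) F386806
theorem F386864 : act 7 n137715 = n192503 := d11_0 F386863 F355541 D137715
theorem F386865 : act 5 n179638 = n192503 := d16_1 D179638 F386863 F355540 (iv4 F350775) F350776 D147464 F330083 F330082 (iv2 D179637)
theorem F386866 : act 0 n147516 = n192503 := d18_2 (iv1 F385729) F357295 F386863 F355540 (iv4 F350775) F350781 (iv4 F108921) D153283 (iv5 F385725)
theorem F386867 : act 1 n191030 = n192503 := d15_0 (iv0 F386866) F357294 (iv2 F381934)
def n192504 : Q := act 5 n100244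
theorem D192504 : act 5 n100244 = n192504 := rfl
theorem F386868 : act 3 n192504 = n179638 := d6_1 D192504 F386865 F386862
theorem F386869 : act 4 n192504 = n179640 := d16_2 (iv4 F154230) D192504 F366645 F344706 (iv5 F350006) (iv4 F352437) F346646 (iv7 D103455) F75261
def n192505 : Q := act 7 n100244
theorem D192505 : act 7 n100244 = n192505 := rfl
theorem F386870 : act 3 n192505 = n137715 := d8_1 D192505 F386864 F386862
theorem F386871 : act 4 n192505 = n100247 := d11_1 D192505 (iv7 D100247) (iv4 F154230)
def n192506 : Q := act 3 n100245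
theorem D192506 : act 3 n100245 = n192506 := rfl
theorem F386872 : act 6 n192506 = n189152 := d7_2 (iv6 F367188) D192506 F375868
theorem F386873 : act 7 n192506 = n111067 := d8_2 F380077 D192506 F380083
theorem F386874 : act 4 n111077 = n192506 := d11_3 F386873 F172261 D111077
theorem F386875 : act 5 n141792 = n192506 := d12_5 F386872 (iv5 D189152) D189153 F375875 (iv6 F359166)
def n192507 : Q := act 4 n100245
theorem D192507 : act 4 n100245 = n192507 := rfl
theorem F386876 : act 6 n192507 = n189155 := d10_2 (iv6 F367188) D192507 (iv4 D189155)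
theorem F386877 : act 7 n192507 = n192408 := d11_2 F380077 D192507 F386660
theorem F386878 : act 2 n192507 = n192407 := d15_3 (iv0 D192407) D192408 (iv7 F386877)
theorem F386879 : act 4 n192407 = n103453 := d1_2 D192507 F386878 (iv2 F380076)
def n192508 : Q := act 5 n100245
theorem D192508 : act 5 n100245 = n192508 := rfl
theorem F386880 : act 3 n192508 = n141792 := d6_1 D192508 F386875 (iv3 D192506)
theorem F386881 : act 6 n192508 = n189156 := d12_2 (iv6 F367188) D192508 (iv5 D189156) (iv6 D93303) D93302
theorem F386882 : act 7 n192508 = n191694 := d13_2 F380077 D192508 F384174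
theorem F386883 : act 1 n192508 = n113500 := d17_8 (iv1 F355862) (iv5 D107171) D107168 (iv5 F350006) (iv4 F352437) F346646 F158767 D192508 (iv4 D113500)
theorem F386884 : act 0 n192508 = n113487 := d21_1 D192508 F352526 (iv6 D100958) (iv1 D47047) F35157 (iv5 D10721) (iv1 F66059) D22438 D46779 D100245
def n192509 : Q := act 4 n100246
theorem D192509 : act 4 n100246 = n192509 := rfl
theorem F386885 : act 2 n192509 = n192408 := d1_1 D192509 F386660 F380079
theorem F386886 : act 7 n192509 = n192407 := d11_2 (iv7 F380078) D192509 F386879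
theorem F386887 : act 0 n192509 = n191671 := d18_2 (iv1 F158766) D192509 (iv4 D191671) (iv5 D98623) (iv4 F152018) D191667 (iv4 F384090) F352447 F346646
theorem F386888 : act 1 n192509 = n192410 := d15_1 (iv0 F386887) (iv7 D192410) (iv2 F384101)
theorem F386889 : act 1 n192507 = n191671 := d15_0 (iv0 F386887) F386886 (iv2 F386878)
theorem F386890 : act 1 n192410 = n192507 := d15_1 F386888 F386877 (iv2 F386885)
theorem E103514 : n141289 = n139286 := ((c20_4 (iv4 F386661) (iv1 F386888) (iv4 D192509) F380082 (iv1 D141289) (iv3 D66276) (iv4 D30963) (iv1 F49381) (iv4 F101808) (iv3 F224110) (iv1 F357513))).symm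
theorem F386891 : act 0 n139286 = n66276 := (sb E103514 (iv1 D141289))
theorem F386892 : act 0 n139365 = n139285 := d21_1 D139365 (iv5 D139285) D139286 F386891 F329956 (iv5 D47014) (iv1 F74212) (iv5 F154885) (iv6 F357522) (iv1 F180492)
theorem F386893 : act 1 n139365 = n139282 := d15_1 (iv0 F386892) F222477 (iv2 F222482)
theorem F386894 : act 1 n139282 = n115928 := d15_1 F386893 F180500 (iv2 F222584)
theorem F386895 : act 1 n115928 = n139285 := d15_1 F386894 F222483 (iv2 F222475)
theorem F386896 : act 5 n127105 = n144148 := d17_1 (iv1 F204358) (iv1 D144148) (iv5 D67532) (iv4 F84339) D115928 F386895 (iv5 D139285) F101073 (iv4 F176145)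
theorem F386897 : act 6 n144148 = n189699 := d21_3 F226903 (iv1 F204358) F386896 F377449 (iv6 D94359) (iv5 F292457) (iv1 D34668) D34670 D75820 (iv1 F357482)
theorem F386898 : act 4 n189701 = n144148 := d10_3 F386897 (iv4 D189699) D189701
def n192510 : Q := act 2 n100250
theorem D192510 : act 2 n100250 = n192510 := rfl
theorem F386899 : act 3 n192510 = n187120 := d0_2 D100250 D192510 F369152 F143268 (iv2 F291334)
theorem F386900 : act 4 n192510 = n188386 := d1_2 (iv4 F154234) D192510 (iv2 D188386)
theorem F386901 : act 5 n192510 = n159827 := d2_2 (iv5 F367180) D192510 (iv2 F251914)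
theorem F386902 : act 6 n192510 = n159804 := d3_2 F367177 D192510 (iv2 F251947)
theorem F386903 : act 7 n192510 = n159834 := d4_2 F292027 D192510 F251952
theorem F386904 : act 1 n192510 = n159843 := d15_0 (iv0 F371817) F292027 D192510
theorem F386905 : act 1 n188916 = n192510 := d15_0 F386904 (iv7 F375107) (iv2 F375196)
def n192511 : Q := act 3 n100254
theorem D192511 : act 3 n100254 = n192511 := rfl
theorem F386906 : act 5 n192511 = n188625 := d6_2 (iv5 F364346) D192511 (iv3 D188625)
theorem F386907 : act 7 n192511 = n189219 := d8_2 F364347 D192511 F376136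
def n192512 : Q := act 4 n100254
theorem D192512 : act 4 n100254 = n192512 := rfl
theorem F386908 : act 7 n192512 = n189221 := d11_2 F364347 D192512 F376142
theorem F386909 : act 0 n192512 = n189743 := d17_0 F377594 (iv1 F374209) (iv5 D187503) (iv4 D90282) D90283 (iv0 F364359) (iv5 D100667) (iv0 F364354) D192512
theorem F386910 : act 3 n192512 = n187113 := d19_3 D92586 (iv5 F364346) D192512 (iv1 F369127) F329546 (iv4 D71438) (iv3 F52418) (iv1 F107768) F107769 F104138 (iv3 F104136) (iv1 F84993) (iv5 F86103) (iv4 F110049) F329198 (iv1 F292958) (iv5 D92614) (iv4 D43324) (iv3 F67978)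
theorem F386911 : act 0 n159806 = n192511 := d20_4 F299846 D144026 F340047 (iv3 F251831) (iv3 D192511) D192512 F386909 F377593 (iv3 D189518) (iv1 D94016)
theorem F386912 : act 0 n187429 = n192512 := d20_10 (iv4 D192512) F364354 F74169 (iv3 D46950) (iv1 F292209) (iv3 F139607) (iv4 F139608) D97427 F350540 (iv3 F370297)
theorem F386913 : act 0 n192511 = n189355 := d20_4 F373879 F386912 (iv4 D192512) D192511 (iv3 D189355) (iv4 F374435) (iv1 F374437) (iv4 F349235) (iv3 F376141) F376143
theorem F386914 : act 0 n188625 = n192390 := d17_2 F386911 F386906 (iv5 D192390) (iv4 D100139) D100140 F369034 (iv5 F292681) (iv0 F345184) (iv4 F251832)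
def n192513 : Q := act 0 n100262
theorem D192513 : act 0 n100262 = n192513 := rfl
theorem F386915 : act 1 n148670 = n192513 := d15_0 (iv0 D192513) F329944 (iv2 F353027)
def n192514 : Q := act 1 n100262
theorem D192514 : act 1 n100262 = n192514 := rfl
theorem F386916 : act 1 n192514 = n148670 := d15_1 D192514 F353028 (iv2 F329943)
theorem F386917 : act 3 n188013 = n192514 := d20_3 (iv4 F372097) (iv1 D188012) D188013 (iv1 D192514) (iv3 D100262) (iv4 D46786) (iv1 F73892) D100241 D192496 F386824
theorem F386918 : act 4 n188015 = n192514 := d20_6 (iv4 F294032) F294030 D104143 F329732 (iv1 F328598) D188015 (iv1 D192514) F353038 (iv3 F353037) D93439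
theorem F386919 : act 7 n192514 = n155833 := d11_2 (iv7 F372109) F386918 (iv4 F328605)
theorem F386920 : act 2 n155833 = n192513 := d15_3 (iv0 D192513) D192514 F386919
theorem F386921 : act 2 n192514 = n155834 := d15_3 F244829 F244833 (iv7 F386919)
theorem F386922 : act 7 n155834 = n192513 := d4_2 (iv7 F386919) F386921 (iv2 F386920)
theorem F386923 : act 5 n188657 = n192514 := d17_7 (iv1 F106019) D74134 (iv1 F110851) D120075 F374328 (iv5 D188659) D188657 F386916 (iv4 D148670)
def n192515 : Q := act 5 n100263
theorem D192515 : act 5 n100263 = n192515 := rfl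
theorem F386924 : act 2 n192515 = n123492 := d2_1 D192515 F384876 F384874
theorem F386925 : act 4 n192515 = n165656 := d16_6 (iv4 D191367) D191368 F383233 (iv5 D100266) (iv4 F154251) D192515 F383219 F383216 (iv2 F383224)
theorem F386926 : act 0 n192515 = n123496 := d17_2 F386727 D192515 (iv5 F363313) (iv4 F172474) (iv5 F386729) (iv0 D192441) (iv5 D100183) D100182 F384759
theorem F386927 : act 1 n192515 = n123494 := d17_8 (iv1 F336009) (iv5 D98236) F320008 (iv5 D86089) (iv4 F132045) D180171 (iv0 F358734) D192515 F304441
theorem F386928 : act 6 n192515 = n180414 := d21_3 D191391 F386727 D192515 (iv1 D180414) (iv6 D86164) D86163 D180409 F280784 (iv6 F358733) (iv1 F358718)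
theorem F386929 : act 5 n188845 = n180414 := d12_5 (iv6 F386928) (iv5 D192515) (iv6 D100263) (iv5 F292037) D188845
theorem F386930 : act 7 n123493 = n192515 := d15_2 (iv0 D123492) D123493 F386924
def n192516 : Q := act 7 n100263
theorem D192516 : act 7 n100263 = n192516 := rfl
theorem F386931 : act 3 n192516 = n175122 := d8_1 D192516 (iv7 F278200) F358735
theorem F386932 : act 4 n192516 = n100267 := d11_1 D192516 (iv7 D100267) (iv4 F154251)
theorem F386933 : act 5 n192516 = n123493 := d13_1 D192516 F386930 (iv5 D192515)
def n192517 : Q := act 3 n100264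
theorem D192517 : act 3 n100264 = n192517 := rfl
def n192518 : Q := act 4 n100264
theorem D192518 : act 4 n100264 = n192518 := rfl
theorem F386934 : act 7 n192518 = n192438 := d11_2 (iv7 F384887) D192518 F386717
theorem F386935 : act 2 n192518 = n192437 := d15_3 (iv0 D192437) D192438 (iv7 F386934)
theorem F386936 : act 4 n192437 = n191931 := d1_2 D192518 F386935 F384886
def n192519 : Q := act 5 n100264
theorem D192519 : act 5 n100264 = n192519 := rfl
theorem F386937 : act 7 n192519 = n186882 := d13_2 (iv7 F384887) D192519 F384879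
theorem F386938 : act 6 n192519 = n182932 := d21_9 (iv5 D102229) (iv1 D47451) D47452 (iv6 F135754) F135756 (iv6 F154253) (iv5 D100266) D100264 D192519 (iv1 F368861)
theorem F386939 : act 4 n182920 = n192519 := d10_3 F386938 (iv4 D182932) (iv6 F284506)
def n192520 : Q := act 6 n100264
theorem D192520 : act 6 n100264 = n192520 := rfl
theorem F386940 : act 5 n192520 = n192115 := d12_1 D192520 F385624 F368854 (iv6 F386938) (iv5 D192519)
theorem F386941 : act 7 n192520 = n192114 := d14_2 (iv7 F384887) D192520 F385617 F156726 F384878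
def n192521 : Q := act 3 n100265
theorem D192521 : act 3 n100265 = n192521 := rfl
def n192522 : Q := act 4 n100265
theorem D192522 : act 4 n100265 = n192522 := rfl
theorem F386942 : act 2 n192522 = n192438 := d1_1 D192522 F386717 F384880
theorem F386943 : act 6 n192522 = n192343 := d10_2 F156798 D192522 F386522
theorem F386944 : act 7 n192522 = n192437 := d11_2 F384885 D192522 F386936
def n192523 : Q := act 5 n100265
theorem D192523 : act 5 n100265 = n192523 := rfl
theorem F386945 : act 2 n192523 = n186882 := d2_1 D192523 F384879 F384880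
theorem F386946 : act 6 n192523 = n100907 := d12_2 F156798 D192523 (iv5 F156677) F156678 (iv5 F156795)
def n192524 : Q := act 0 n100266
theorem D192524 : act 0 n100266 = n192524 := rfl
def n192525 : Q := act 1 n100266
theorem D192525 : act 1 n100266 = n192525 := rfl
def n192526 : Q := act 7 n100266
theorem D192526 : act 7 n100266 = n192526 := rfl
theorem F386947 : act 3 n192526 = n189198 := d8_1 D192526 (iv7 D189198) (iv3 F154252)
theorem F386948 : act 4 n192526 = n186874 := d11_1 D192526 (iv7 F383230) F383233
theorem F386949 : act 5 n192526 = n100267 := d13_1 D192526 (iv7 D100267) D100266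
def n192527 : Q := act 3 n100269
theorem D192527 : act 3 n100269 = n192527 := rfl
theorem F386950 : act 4 n192527 = n189199 := d5_2 D100269 D192527 (iv3 D189199) (iv4 D93448) (iv3 F73910)
theorem F386951 : act 5 n192527 = n187686 := d6_2 (iv5 F292380) D192527 (iv3 D187686)
theorem F386952 : act 6 n192527 = n100905 := d7_2 (iv6 F383232) D192527 (iv3 F383229)
theorem F386953 : act 2 n186879 = n192527 := d3_3 F386952 F366706 D186879
theorem F386954 : act 0 n104446 = n192527 := d21_4 (iv5 D42676) F63434 D48326 D104446 F386952 (iv5 D100905) (iv1 D47033) D47034 F74283 F292653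
def n192528 : Q := act 4 n100341
theorem D192528 : act 4 n100341 = n192528 := rfl
theorem F386955 : act 6 n192528 = n146437 := d10_2 F163255 D192528 F229775
theorem F386956 : act 1 n192528 = n187748 := d18_6 (iv1 F139324) (iv4 F73563) (iv1 F290149) F153294 D100341 D192528 (iv4 D187748) F183755 F183752
theorem F386957 : act 0 n192528 = n187744 := d20_1 D192528 (iv4 D187744) (iv3 F283595) (iv1 F233530) F135568 F319152 (iv1 F319154) (iv4 D90504) D90503 (iv1 F349112)
theorem F386958 : act 0 n187644 = n106238 := d20_4 D185869 (iv1 F371095) (iv4 D187645) D187644 F163262 D192528 F386957 (iv4 D187744) (iv3 F283595) (iv1 F233530)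
theorem F386959 : act 5 n187861 = n187744 := d17_7 (iv1 F374592) (iv5 F376876) (iv1 F376879) F374577 F374579 (iv5 F250829) (iv0 F371853) (iv0 F386957) (iv4 D192528)
theorem F386960 : act 0 n106238 = n127409 := d20_4 D187748 (iv1 F386956) (iv4 D192528) (iv3 F163262) (iv3 D127409) (iv4 F178281) (iv1 F202979) F202976 (iv3 F183751) (iv1 F183755)
theorem F386961 : act 6 n187744 = n117339 := d12_2 D187861 F386959 F377308 (iv6 D189667) F370712
theorem F386962 : act 2 n187746 = n187744 := d3_3 F386961 (iv2 F283594) D187746
theorem F386963 : act 4 n117339 = n187746 := d10_1 F386961 (iv6 D187746) D187744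
theorem F386964 : act 7 n187746 = n187748 := d11_2 (iv7 F283593) F386963 (iv4 D187748)
def n192529 : Q := act 5 n100348
theorem D192529 : act 5 n100348 = n192529 := rfl
theorem F386965 : act 2 n192529 = n118856 := d2_1 D192529 F186919 F154332
theorem F386966 : act 3 n192529 = n106329 := d6_1 D192529 F163398 (iv3 F154330)
theorem F386967 : act 6 n192529 = n151699 := d12_2 F154335 D192529 (iv5 D151699) (iv6 F334832) (iv5 D106716)
theorem F386968 : act 7 n192529 = n118857 := d13_2 (iv7 F154334) D192529 F186923
theorem F386969 : act 0 n192529 = n118727 := d17_2 D100348 D192529 (iv5 D118727) (iv4 D54663) D54664 (iv0 F86461) F52148 F55597 (iv4 F73969)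
theorem F386970 : act 1 n192529 = n105864 := d17_6 (iv1 F50933) D34826 D76244 F114257 (iv4 F154331) D192529 (iv5 D105864) (iv0 F77180) F46146
theorem F386971 : act 0 n127955 = n152054 := d21_4 (iv5 D118727) F86457 D60116 (iv6 F205913) (iv6 D152054) (iv5 F165930) F165931 D151699 (iv6 F386967) F386969
theorem E103515 : n152055 = n134805 := (c20_2 F239073 D152055 F351273 F186811 (iv1 F112700) D114507 F322804 (iv1 F231793) (iv4 F184380) F314116 F386971)
theorem F386972 : act 1 n134805 = n71687 := (sb E103515 (iv0 D152055))
theorem F386973 : act 3 n114276 = n152054 := d20_5 (iv4 F178303) (iv1 D114329) (iv4 D52763) (iv3 F83341) D114276 F239073 (iv1 F386972) F351273 F186811 (iv1 F112700)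
theorem F386974 : act 6 n134792 = n107957 := d21_9 (iv5 D49861) F38098 D33142 D71687 (iv1 F386972) (iv6 D134805) (iv5 D63345) D63342 D134792 (iv1 D107957)
theorem F386975 : act 6 n152053 = n114276 := d7_0 F386973 (iv6 D152054) D152053
theorem F386976 : act 4 n152003 = n192529 := d11_3 F386968 (iv4 F250833) F362843
theorem F386977 : act 0 n118763 = n152003 := d18_2 F94181 D118763 F386976 (iv5 D192529) F154331 (iv0 F93552) (iv4 F55284) (iv0 F55285) D59807
theorem F386978 : act 1 n118764 = n152003 := d18_6 F114256 (iv4 D76243) (iv1 F55065) F42294 D54678 D118764 F386976 F386970 (iv5 D105864)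
def n192530 : Q := act 4 n100352
theorem D192530 : act 4 n100352 = n192530 := rfl
theorem F386979 : act 3 n192530 = n189097 := d5_1 D192530 F375737 (iv3 F383124) F383125 F370615
theorem F386980 : act 1 n192530 = n187860 := d18_6 F177382 (iv4 F73531) D99543 F177404 D100352 D192530 (iv4 D187860) F370703 (iv5 D187531)
theorem F386981 : act 0 n192530 = n187858 := d20_1 D192530 (iv4 D187858) (iv3 F251701) (iv1 D92875) F68313 D43458 (iv1 F143230) F291273 (iv3 F372314) F372317
theorem F386982 : act 6 n189096 = n192530 := d7_0 F386979 (iv6 D189097) D189096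
def n192531 : Q := act 6 n100352
theorem D192531 : act 6 n100352 = n192531 := rfl
theorem F386983 : act 3 n192531 = n191341 := d7_1 D192531 F383122 F370615
theorem F386984 : act 4 n192531 = n189096 := d10_1 D192531 F386982 (iv4 D192530)
def n192532 : Q := act 4 n100357
theorem D192532 : act 4 n100357 = n192532 := rfl
theorem F386985 : act 1 n192532 = n187858 := d18_6 D42421 D90608 (iv1 F177406) F177409 D100357 D192532 (iv4 D187858) (iv0 D90620) (iv5 D42425)
theorem F386986 : act 0 n192532 = n187860 := d20_7 (iv4 F340058) (iv1 F384983) F384981 F374351 (iv1 F237331) F335927 D192532 (iv4 D187860) (iv3 F363652) (iv1 F373342)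
def n192533 : Q := act 6 n100357
theorem D192533 : act 6 n100357 = n192533 := rfl
theorem F386987 : act 3 n192533 = n151343 := d7_1 D192533 F335931 F335927
theorem F386988 : act 0 n192533 = n146573 := d21_10 (iv5 D146573) (iv1 D68700) D68701 (iv6 F356646) D189108 F375784 (iv5 D188972) (iv1 F143357) D100357 D192533
theorem F386989 : act 0 n118859 = n192533 := d21_4 (iv5 D76252) F55088 D54706 D118859 (iv6 D192533) (iv5 D100357) (iv1 D46826) D46827 (iv6 F154338) F154339
def n192534 : Q := act 3 n100359
theorem D192534 : act 3 n100359 = n192534 := rfl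
theorem F386990 : act 4 n192534 = n187513 := d5_2 (iv4 F372923) D192534 F370916 (iv4 F370917) D188273
theorem F386991 : act 0 n192534 = n188466 := d20_4 D187736 (iv1 F374793) (iv4 F372923) D192534 F373577 (iv4 F345199) (iv1 F371920) (iv4 D187952) (iv3 F370746) (iv1 F370750)
theorem F386992 : act 0 n159844 = n192534 := d20_4 D92906 (iv1 F251988) (iv4 D159849) (iv3 F251978) (iv3 D192534) F372923 F372922 (iv4 D187851) (iv3 F143244) F177365
def n192535 : Q := act 6 n100359
theorem D192535 : act 6 n100359 = n192535 := rfl
def n192536 : Q := act 4 n100360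
theorem D192536 : act 4 n100360 = n192536 := rfl
theorem F386993 : act 2 n192536 = n151960 := d1_1 D192536 (iv4 F375289) (iv2 F375292)
theorem F386994 : act 3 n192536 = n189583 := d5_1 D192536 F377041 F205574 (iv4 F374498) F374500
theorem F386995 : act 0 n192536 = n187736 := d18_2 F375286 D192536 (iv4 D187736) (iv5 D90518) (iv4 F73531) D99544 F177409 F143357 D188972
theorem F386996 : act 0 n187851 = n192536 := d20_1 D187851 (iv4 D192536) (iv3 F374500) (iv1 D188706) F142823 (iv4 F139603) (iv1 D90685) (iv4 D42454) D42453 (iv1 F335352)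
theorem F386997 : act 6 n192536 = n151494 := d21_5 F66919 D90187 (iv5 F295018) F374813 F386996 (iv5 D151494) F311990 D99601 (iv6 F294818) (iv1 D91216)
def n192537 : Q := act 6 n100360
theorem D192537 : act 6 n100360 = n192537 := rfl
theorem F386998 : act 2 n192537 = n151706 := d3_1 D192537 F375294 (iv2 F375292)
theorem F386999 : act 4 n192537 = n151494 := d10_1 D192537 (iv6 F386997) (iv4 D192536)
theorem F387000 : act 5 n192537 = n151496 := d12_1 D192537 F376703 (iv5 D189494) (iv6 F374100) F374097
theorem F387001 : act 7 n151705 = n192537 := d13_0 F387000 F238341 (iv5 F238581)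
theorem F387002 : act 0 n151510 = n192537 := d17_2 (iv1 F238198) (iv5 F238378) F387000 (iv4 D151496) (iv5 D71419) (iv0 F96200) D131335 F210501 (iv4 F238197)
theorem F387003 : act 1 n151453 = n192537 := d17_6 (iv1 F107894) (iv5 D71394) (iv1 D33032) D33033 D71395 D151453 F387000 F238343 (iv4 D107544)
def n192538 : Q := act 3 n100361
theorem D192538 : act 3 n100361 = n192538 := rfl
theorem F387004 : act 4 n192538 = n100366 := d5_2 D100361 D192538 (iv3 D100366) (iv4 D46833) (iv3 F73970)
theorem F387005 : act 7 n192538 = n191853 := d8_2 (iv7 F371858) D192538 F384592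
theorem F387006 : act 0 n189210 = n192538 := d20_4 F66896 D90237 (iv4 F354763) D189210 (iv3 D192538) (iv4 D100361) D100359 F372923 (iv3 D188273) (iv1 D91134)
def n192539 : Q := act 5 n100361
theorem D192539 : act 5 n100361 = n192539 := rfl
def n192540 : Q := act 3 n100362
theorem D192540 : act 3 n100362 = n192540 := rfl
theorem F387007 : act 2 n192540 = n154772 := d0_1 D192540 F345052 (iv2 F345071) (iv3 F349168) F178141
theorem F387008 : act 6 n192540 = n100366 := d7_2 (iv6 F154349) D192540 (iv3 D100366)
theorem F387009 : act 7 n192540 = n154773 := d8_2 F178132 D192540 (iv3 F243424)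
theorem F387010 : act 0 n192540 = n147930 := d19_4 F82978 D46830 D100362 D192540 (iv5 D147930) F105578 (iv3 D32339) (iv1 F42787) (iv5 F42798) (iv4 D26697) F26522 (iv1 F316027) F316028 F12686 (iv3 F12668) F19126 F19124 (iv4 F36957) (iv3 F82979)
def n192541 : Q := act 5 n100362
theorem D192541 : act 5 n100362 = n192541 := rfl
theorem F387011 : act 2 n192541 = n139593 := d2_1 D192541 F349169 F178141
theorem F387012 : act 7 n192541 = n191984 := d13_2 F178132 D192541 F385094
theorem F387013 : act 0 n192541 = n188811 := d17_2 (iv1 F154351) D192541 (iv5 D188811) (iv4 D92817) (iv5 D43428) (iv0 D20533) D20535 D43436 D92824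
theorem F387014 : act 1 n192541 = n188819 := d17_6 (iv1 F139489) (iv5 D90595) F82978 D46830 D100362 D192541 (iv5 D188819) (iv0 F178127) (iv4 D114281)
theorem F387015 : act 0 n188995 = n188820 := d21_4 D92897 F293430 (iv5 F292001) D188995 (iv6 D188820) D188819 (iv1 F387014) (iv5 D192541) F154349 F74025
def n192542 : Q := act 0 n100365
theorem D192542 : act 0 n100365 = n192542 := rfl
theorem F387016 : act 6 n192542 = n186260 := d21_5 F68353 (iv1 F290657) (iv5 F290825) D100365 D192542 (iv5 D186260) (iv1 D88719) (iv5 F291270) (iv6 D43497) D43494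
def n192543 : Q := act 1 n100365
theorem D192543 : act 1 n100365 = n192543 := rfl
def n192544 : Q := act 0 n100366
theorem D192544 : act 0 n100366 = n192544 := rfl
def n192545 : Q := act 1 n100366
theorem D192545 : act 1 n100366 = n192545 := rfl
theorem F387017 : act 3 n108561 = n192545 := d20_3 (iv4 F345076) F329820 (iv4 F345064) (iv1 D192545) (iv3 D100366) (iv4 D46833) D46832 (iv4 F142669) F354414 (iv1 F337446)
theorem F387018 : act 5 n192545 = n108559 := d6_2 D108561 F387017 F167891
theorem F387019 : act 7 n192545 = n111469 := d8_2 (iv7 F345066) F387017 F172981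
theorem F387020 : act 2 n111469 = n192544 := d15_3 (iv0 D192544) D192545 F387019
theorem F387021 : act 6 n192544 = n111464 := d3_2 D111469 F387020 F172978
def n192546 : Q := act 2 n100366
theorem D192546 : act 2 n100366 = n192546 := rfl
theorem F387022 : act 6 n192546 = n154772 := d3_2 F387008 D192546 (iv2 F387007)
def n192547 : Q := act 4 n100376
theorem D192547 : act 4 n100376 = n192547 := rfl
theorem F387023 : act 2 n192547 = n189355 := d1_1 D192547 F376455 (iv2 F375472)
theorem F387024 : act 3 n192547 = n144264 := d5_1 D192547 (iv4 D144264) D144263 F366944 F375505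
theorem F387025 : act 7 n192547 = n159806 := d11_2 (iv7 F367146) D192547 F251832
theorem F387026 : act 0 n192547 = n189219 := d17_0 (iv5 F376138) F376139 F178745 F143074 D187708 (iv0 F371256) F292909 D100376 D192547
theorem F387027 : act 6 n189391 = n192547 := d21_9 (iv5 F376138) F376139 F178745 (iv6 D92767) (iv1 F74310) D101012 F155622 (iv1 F363889) (iv5 F376522) F387026
theorem F387028 : act 5 n187911 = n192547 := d6_0 F387024 F350467 D187911
def n192548 : Q := act 6 n100376
theorem D192548 : act 6 n100376 = n192548 := rfl
theorem F387029 : act 2 n192548 = n186714 := d3_1 D192548 F375475 (iv2 F375472)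
theorem F387030 : act 4 n192548 = n189391 := d10_1 D192548 F387027 (iv4 D192547)
theorem F387031 : act 7 n192548 = n186715 := d14_2 (iv7 F367146) D192548 (iv6 F367774) F145301 D98313
theorem F387032 : act 0 n192548 = n186593 := d21_4 D188082 (iv1 F372275) (iv5 F362390) D192548 F367357 F291847 (iv1 F384978) (iv5 D191953) F177389 (iv1 F139730)
theorem F387033 : act 5 n192548 = n192239 := d21_6 D102397 (iv1 F385910) F385908 (iv6 F375481) (iv1 F375484) D192548 (iv1 F386164) F153868 F73772 D47512
theorem F387034 : act 0 n186709 = n192548 := d21_4 F251755 (iv1 F367757) (iv5 D186708) D186709 (iv6 D192548) F362390 (iv1 D100148) (iv5 D46744) D46745 D100151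
theorem F387035 : act 1 n115482 = n134485 := d17_6 D192242 F386178 F387034 F387033 F386165 F245263 F339544 (iv0 F386186) (iv4 D192243)
def n192549 : Q := act 4 n100384
theorem D192549 : act 4 n100384 = n192549 := rfl
theorem F387036 : act 0 n192549 = n138324 := d18_2 D100384 D192549 (iv4 F385471) (iv5 D192081) F153404 F142890 F142887 F73645 D46850
def n192550 : Q := act 6 n100384
theorem D192550 : act 6 n100384 = n192550 := rfl
def n192551 : Q := act 0 n100385
theorem D192551 : act 0 n100385 = n192551 := rfl
theorem F387037 : act 4 n192551 = n192055 := d20_2 D100385 D192551 (iv3 D192055) (iv1 F153334) F73564 (iv4 F64411) (iv1 F64413) (iv4 F64501) (iv3 F137345) F137346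
theorem F387038 : act 1 n102584 = n192551 := d15_0 (iv0 D192551) F356745 (iv2 F356747)
theorem F387039 : act 7 n192088 = n192551 := d11_0 F387037 F385368 D192088
def n192552 : Q := act 1 n100385
theorem D192552 : act 1 n100385 = n192552 := rfl
theorem F387040 : act 1 n192552 = n102584 := d15_1 D192552 (iv7 F371381) F371380
theorem F387041 : act 2 n192088 = n192552 := d15_3 F387040 F387038 (iv7 F387039)
theorem F387042 : act 4 n192087 = n192552 := d18_5 (iv1 F367363) D187125 F369182 (iv4 F376318) (iv5 F385488) F387040 (iv4 D102584) F154405 (iv5 F367364)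
def n192553 : Q := act 5 n100385
theorem D192553 : act 5 n100385 = n192553 := rfl
theorem F387043 : act 2 n192553 = n188695 := d2_1 D192553 F374485 F371380
theorem F387044 : act 3 n192553 = n183176 := d6_1 D192553 (iv5 F286691) F356740
theorem F387045 : act 7 n192553 = n183168 := d13_2 (iv7 F356745) D192553 (iv5 F286690)
theorem F387046 : act 1 n188694 = n192553 := d15_1 D188694 F387045 (iv2 F356756)
theorem F387047 : act 1 n192553 = n188693 := d15_0 (iv0 D188693) D188695 (iv2 F387043)
def n192554 : Q := act 4 n100386
theorem D192554 : act 4 n100386 = n192554 := rfl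
theorem F387048 : act 2 n192554 = n102700 := d1_1 D192554 (iv4 D102700) (iv2 F154406)
def n192555 : Q := act 6 n100386
theorem D192555 : act 6 n100386 = n192555 := rfl
theorem F387049 : act 2 n192555 = n102701 := d3_1 D192555 (iv6 D102701) (iv2 F154406)
theorem F387050 : act 5 n192555 = n188602 := d12_1 D192555 (iv6 D188602) (iv5 D92564) F292348 D100386
def n192556 : Q := act 4 n100388
theorem D192556 : act 4 n100388 = n192556 := rfl
def n192557 : Q := act 0 n100389
theorem D192557 : act 0 n100389 = n192557 := rfl
def n192558 : Q := act 1 n100389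
theorem D192558 : act 1 n100389 = n192558 := rfl
theorem F387051 : act 1 n192558 = n153879 := d15_1 D192558 F241805 (iv2 F349319)
theorem F387052 : act 4 n192558 = n191281 := d17_9 (iv1 F382969) (iv5 D184447) (iv1 F290216) (iv5 F332658) (iv4 D177913) (iv5 D84695) (iv0 F303327) (iv5 F349320) D192558
theorem F387053 : act 3 n177974 = n192558 := d20_9 (iv4 D100389) F153869 D192253 F386213 F310350 F274747 (iv4 F274874) (iv1 F274876) F338088 (iv1 D192558)
theorem F387054 : act 5 n192310 = n192558 := d21_6 F29810 (iv1 F31354) F35076 D46863 (iv1 F307489) D192310 (iv1 D192558) F349320 (iv6 F306377) (iv1 D39104)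
theorem F387055 : act 2 n192558 = n154654 := d2_1 F387054 F338102 (iv2 F386380)
theorem F387056 : act 7 n154653 = n192558 := d4_0 F387055 F338103 (iv2 F338099)
theorem E103516 : n177957 = n100389 := (c15_1 D177957 D192558 (iv7 F387056) F338099)
theorem E103517 : n192557 = n84715 := ((D192557).symm.trans (sb E103516 (iv1 D177957)))
theorem F387057 : act 1 n84715 = n100389 := (sb E103517 (iv0 D192557))
def n192559 : Q := act 3 n100389
theorem D192559 : act 3 n100389 = n192559 := rfl
theorem F387058 : act 2 n192559 = n153897 := d0_1 D192559 F241860 F109977 (iv3 F109818) (iv2 F349319)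
theorem F387059 : act 4 n192559 = n183932 := d5_2 D100389 D192559 (iv3 D183932) (iv4 D87747) (iv3 F74042)
theorem F387060 : act 5 n192559 = n153896 := d6_2 (iv5 F349320) D192559 F241854
theorem F387061 : act 6 n192559 = n189908 := d7_2 (iv6 F349321) D192559 F378190
theorem F387062 : act 0 n183932 = n175531 := d20_7 (iv4 F274874) (iv1 F274876) F338088 F387053 (iv1 D192558) D192559 F387059 F368370 (iv3 D101930) (iv1 F128844)
theorem F387063 : act 2 n185180 = n154573 := d15_3 (iv0 F368371) (iv0 F387062) (iv7 F287520)
theorem F387064 : act 4 n154569 = n185180 := d1_0 F387063 (iv4 D154573) (iv2 F242638)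
theorem F387065 : act 7 n192559 = n154569 := d11_0 F387064 F287520 (iv4 F387059)
theorem F387066 : act 1 n154572 = n192559 := d15_1 D154572 F387065 F242638
theorem F387067 : act 1 n192559 = n154571 := d15_0 (iv0 D154571) (iv7 F241861) (iv2 F387058)
def n192560 : Q := act 7 n100389
theorem D192560 : act 7 n100389 = n192560 := rfl
theorem F387068 : act 2 n192560 = n153879 := d4_1 D192560 F241805 (iv2 F349319)
theorem F387069 : act 3 n192560 = n154569 := d8_1 D192560 (iv7 F387065) (iv3 D192559)
theorem F387070 : act 4 n192560 = n100390 := d11_1 D192560 (iv7 D100390) D100389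
theorem F387071 : act 5 n192560 = n153878 := d13_1 D192560 F241801 (iv5 F349320)
theorem F387072 : act 1 n154654 = n192560 := d15_1 D154654 (iv7 D192560) F349319
theorem F387073 : act 1 n192560 = n154653 := d15_1 F387072 F387056 F387055
theorem F387074 : act 1 n183774 = n191964 := d18_8 F290158 F135458 (iv1 D88477) (iv4 F74044) (iv5 F154410) (iv4 F387070) F387073 F364217 (iv5 D191964)
def n192561 : Q := act 6 n100390
theorem D192561 : act 6 n100390 = n192561 := rfl
theorem F387075 : act 3 n192561 = n183890 := d7_1 D192561 (iv6 D183890) (iv3 F154409)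
theorem F387076 : act 5 n192561 = n102585 := d12_1 D192561 (iv6 D102585) (iv5 D47582) (iv6 F74045) (iv5 F154410)
def n192562 : Q := act 0 n100391
theorem D192562 : act 0 n100391 = n192562 := rfl
theorem F387077 : act 5 n192562 = n177826 := d17_1 D192562 (iv1 F277350) F152455 (iv4 F152449) (iv5 F384342) (iv0 F384343) (iv5 F338877) (iv0 D100392) (iv4 F154413)
theorem F387078 : act 4 n192562 = n101070 := d20_2 (iv4 F154413) D192562 (iv3 D101070) (iv1 F107120) (iv3 F314245) (iv4 F213744) F217586 D152166 (iv3 F338849) (iv1 D100393)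
theorem F387079 : act 3 n192562 = n120553 := d20_5 (iv4 F91434) (iv1 D56939) (iv4 F87644) (iv3 F154412) D192562 (iv4 D120553) F87798 (iv4 F87750) F87749 (iv1 F87629)
theorem F387080 : act 2 n100417 = n192562 := d15_3 (iv0 D192562) F384723 (iv7 F384721)
theorem F387081 : act 1 n100420 = n192562 := d15_0 (iv0 D192562) F300553 F338822
theorem F387082 : act 7 n192562 = n100418 := d15_2 (iv0 F384722) F387081 (iv2 F384717)
theorem F387083 : act 6 n147854 = n192562 := d14_5 F387082 F307382 (iv7 F307386) D191898 (iv7 F384736)
def n192563 : Q := act 4 n100392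
theorem D192563 : act 4 n100392 = n192563 := rfl
theorem F387084 : act 2 n192563 = n100423 := d1_1 D192563 (iv4 D100423) (iv2 F308563)
theorem F387085 : act 3 n192563 = n186858 := d5_1 D192563 F368313 F313629 F238654 (iv3 F238655)
theorem F387086 : act 7 n192563 = n100428 := d11_2 (iv7 F308564) D192563 (iv4 D100428)
theorem F387087 : act 1 n192563 = n160109 := d18_8 (iv1 F366714) (iv4 D100433) D100431 F338896 (iv5 F338821) F154481 F154421 D192563 (iv5 F366713)
theorem F387088 : act 0 n192563 = n107941 := d20_1 D192563 (iv4 F209461) (iv3 D130866) (iv1 F95897) (iv3 F309771) F117261 F114048 F54633 (iv3 F74055) D100392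
def n192564 : Q := act 6 n100392
theorem D192564 : act 6 n100392 = n192564 := rfl
theorem F387089 : act 2 n192564 = n100425 := d3_1 D192564 (iv6 D100425) (iv2 F308563)
theorem F387090 : act 3 n192564 = n104179 := d7_1 D192564 (iv6 D104179) (iv3 F238655)
theorem F387091 : act 5 n192564 = n135073 := d12_1 D192564 (iv6 F384307) (iv5 D191740) (iv6 F277353) (iv5 F338877)
theorem F387092 : act 7 n192564 = n157635 := d14_2 (iv7 F308564) D192564 (iv6 D157635) (iv7 F308574) (iv6 D100430)
theorem F387093 : act 1 n153633 = n192564 := d17_6 F332650 (iv5 F292140) D188508 F373768 D188775 F374844 F387091 (iv0 D135073) (iv4 F179380)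
def n192565 : Q := act 4 n100394
theorem D192565 : act 4 n100394 = n192565 := rfl
theorem F387094 : act 2 n192565 = n100433 := d1_1 D192565 (iv4 D100433) (iv2 F154415)
theorem F387095 : act 6 n192565 = n100400 := d10_2 (iv6 F154417) D192565 (iv4 D100400)
theorem F387096 : act 5 n192565 = n135363 := d16_1 D192565 F319768 (iv5 F338897) F338896 (iv5 F338821) F154481 (iv5 F154487) (iv7 D100434) (iv2 F154415)
theorem F387097 : act 3 n135364 = n192565 := d20_5 (iv4 F337478) F337476 F302443 (iv3 F191561) F366443 (iv4 D192565) (iv1 F364538) F338886 (iv3 D85863) F303359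
def n192566 : Q := act 5 n100396
theorem D192566 : act 5 n100396 = n192566 := rfl
theorem F387098 : act 2 n192566 = n103341 := d2_1 D192566 (iv5 D103341) (iv2 F154424)
theorem F387099 : act 3 n192566 = n100397 := d6_1 D192566 (iv5 D100397) D100396
theorem F387100 : act 7 n192566 = n100437 := d13_2 (iv7 F154426) D192566 (iv5 D100437)
theorem F387101 : act 1 n192566 = n184066 := d17_6 D87945 D184401 F340541 (iv5 D103350) (iv4 F154425) D192566 F381818 (iv0 D184228) F134883
theorem F387102 : act 1 n184067 = n192566 := d15_1 D184067 F387100 F154490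
def n192567 : Q := act 4 n100397
theorem D192567 : act 4 n100397 = n192567 := rfl
theorem F387103 : act 2 n192567 = n100445 := d1_1 D192567 (iv4 D100445) (iv2 F154430)
theorem F387104 : act 7 n192567 = n100441 := d11_2 (iv7 F154431) D192567 (iv4 D100441)
def n192568 : Q := act 6 n100397
theorem D192568 : act 6 n100397 = n192568 := rfl
theorem F387105 : act 2 n192568 = n100446 := d3_1 D192568 (iv6 D100446) (iv2 F154430)
theorem F387106 : act 0 n160077 = n192568 := d21_4 (iv5 D124819) F128808 D98887 (iv6 F252624) (iv6 D192568) (iv5 D100397) (iv1 D46856) D46857 (iv6 F154417) (iv1 F364538)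
def n192569 : Q := act 6 n100398
theorem D192569 : act 6 n100398 = n192569 := rfl
theorem F387107 : act 2 n192569 = n100451 := d3_1 D192569 (iv6 D100451) (iv2 F154442)
theorem F387108 : act 3 n192569 = n104191 := d7_1 D192569 (iv6 D104191) F154441
theorem F387109 : act 5 n192569 = n185383 := d12_1 D192569 (iv6 D185383) D185382 (iv6 F292007) F292006
def n192570 : Q := act 0 n100400
theorem D192570 : act 0 n100400 = n192570 := rfl
theorem F387110 : act 4 n192570 = n101104 := d20_2 D100400 D192570 (iv3 D101104) (iv1 F155709) (iv3 F372430) F372744 (iv1 D188228) (iv4 F372738) F372737 (iv1 D100399)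
theorem F387111 : act 1 n100458 = n192570 := d15_0 (iv0 D192570) F365355 F365354
theorem F387112 : act 1 n101104 = n188768 := d18_8 F177370 F143350 (iv1 D92949) F68347 (iv5 F74091) (iv4 F154513) F387111 F387110 (iv5 D188768)
theorem F387113 : act 1 n188768 = n184520 := d15_1 F387112 (iv7 F385303) F385301
theorem F387114 : act 1 n192037 = n101104 := d15_0 F387112 F374784 (iv2 F385311)
theorem F387115 : act 1 n184520 = n192037 := d15_0 F387114 (iv7 F385306) F385310
theorem F387116 : act 2 n100454 = n192570 := d1_3 F387110 (iv2 F385301) F385299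
theorem F387117 : act 7 n100455 = n192570 := d11_0 F387110 (iv7 F385306) (iv4 F385309)
def n192571 : Q := act 1 n100400
theorem D192571 : act 1 n100400 = n192571 := rfl
theorem F387118 : act 1 n192571 = n100458 := d15_1 D192571 (iv7 D100458) (iv2 F154435)
theorem F387119 : act 7 n192571 = n100454 := d15_2 (iv0 D192570) D192571 F387116
theorem F387120 : act 4 n192571 = n184520 := d18_7 F177397 (iv4 F143347) (iv1 F143349) F73965 D46857 D100400 D192571 F387115 F385313
theorem F387121 : act 3 n187612 = n192571 := d20_9 (iv4 D100400) D100398 F351144 (iv3 D179801) (iv1 F279928) F371846 (iv4 D187925) F370697 F374791 (iv1 D192571)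
theorem F387122 : act 6 n192571 = n187608 := d7_2 D187612 F387121 F371006
theorem F387123 : act 2 n100455 = n192571 := d1_3 F387120 (iv2 F385310) (iv4 F385309)
def n192572 : Q := act 3 n100400
theorem D192572 : act 3 n100400 = n192572 := rfl
theorem F387124 : act 4 n192572 = n192545 := d5_2 D100400 D192572 (iv3 F387017) F345064 F329716
theorem F387125 : act 6 n192572 = n135364 := d7_2 F387095 D192572 F387097
def n192573 : Q := act 5 n100400
theorem D192573 : act 5 n100400 = n192573 := rfl
theorem F387126 : act 2 n192573 = n100457 := d2_1 D192573 (iv5 D100457) (iv2 F154435)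
def n192574 : Q := act 0 n100410
theorem D192574 : act 0 n100410 = n192574 := rfl
theorem F387127 : act 3 n192574 = n100894 := d20_5 F185684 F190156 (iv4 F109135) (iv3 F302016) D192574 (iv4 F340978) (iv1 F301157) (iv4 F185683) F185682 D118170
theorem F387128 : act 1 n153531 = n192574 := d15_0 (iv0 D192574) F302017 (iv2 F241317)
theorem F387129 : act 2 n153534 = n192574 := d0_5 F387127 (iv2 F340970) F354032 F354035 (iv3 F366853)
theorem F387130 : act 7 n153533 = n192574 := d8_0 F387127 (iv7 F340971) F366854
def n192575 : Q := act 1 n100410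
theorem D192575 : act 1 n100410 = n192575 := rfl
theorem F387131 : act 1 n192575 = n153531 := d15_1 D192575 (iv7 F366857) (iv2 F154465)
theorem F387132 : act 7 n192575 = n153534 := d15_2 (iv0 D192574) D192575 F387129
theorem F387133 : act 4 n192574 = n192575 := d20_0 (iv1 D192575) F154466 (iv3 F302013) (iv1 F109000) (iv3 F305043) F185684 F190156 (iv4 F109135) (iv3 F302016) D192574
theorem F387134 : act 3 n122621 = n192575 := d20_3 (iv4 F151771) D191422 F383446 (iv1 D192575) F302016 F109135 (iv1 F109108) (iv4 F190269) (iv3 F344403) (iv1 D98343)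
theorem F387135 : act 2 n192575 = n153533 := d0_1 F387134 (iv3 F366854) (iv2 F340966) F340969 F354034
theorem F387136 : act 5 n185987 = n192575 := d2_0 F387135 F363274 (iv2 F288513)
def n192576 : Q := act 5 n100410
theorem D192576 : act 5 n100410 = n192576 := rfl
theorem F387137 : act 2 n192576 = n191728 := d2_1 D192576 (iv5 D191728) (iv2 F154465)
theorem F387138 : act 3 n192576 = n153547 := d6_1 D192576 F241343 (iv3 F302016)
theorem F387139 : act 6 n192576 = n160114 := d12_2 D100410 D192576 (iv5 D160114) (iv6 D76682) (iv5 F74071)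
theorem F387140 : act 7 n192576 = n153535 := d13_2 (iv7 F302017) D192576 (iv5 D153535)
theorem F387141 : act 4 n192576 = n191469 := d16_2 (iv4 F154466) D192576 (iv5 D191469) F364401 D185981 F363132 (iv5 D153628) F303352 (iv2 F74073)
def n192577 : Q := act 1 n100413
theorem D192577 : act 1 n100413 = n192577 := rfl
theorem F387142 : act 1 n192577 = n153628 := d15_1 D192577 F363133 (iv2 F154468)
theorem F387143 : act 7 n192577 = n122426 := d15_2 (iv0 F386398) D192577 (iv2 F386395)
theorem F387144 : act 5 n124160 = n192577 := d21_6 (iv5 D10689) D10686 (iv5 F34602) D46275 F351761 (iv6 F304439) (iv1 D192577) (iv5 D100413) (iv6 D46863) (iv1 D22511)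
theorem F387145 : act 3 n192577 = n120381 := d6_1 F387144 F191764 D124160
theorem F387146 : act 2 n153634 = n192577 := d0_5 F387145 (iv2 F302130) (iv3 F311783) F275092 (iv3 F368417)
theorem F387147 : act 4 n192292 = n192577 := d19_2 F289868 D192292 F387145 F302007 (iv5 D56669) F44070 F21760 D17905 D37256 F310268 (iv3 F214985) (iv1 F209977) D131256 (iv4 F373963) F373960 F363827 (iv5 F386174) F386173 (iv3 F285530)
theorem F387148 : act 3 n192297 = n191374 := d5_5 F383253 (iv3 F387145) (iv4 F387147) F386331 D192297
def n192578 : Q := act 5 n100416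
theorem D192578 : act 5 n100416 = n192578 := rfl
theorem F387149 : act 2 n192578 = n160063 := d2_1 D192578 (iv5 D160063) (iv2 F154479)
theorem F387150 : act 6 n192578 = n100419 := d12_2 D100416 D192578 (iv5 D100419) (iv6 D46866) D46865
theorem F387151 : act 0 n192578 = n139949 := d17_2 (iv1 F320401) D192578 (iv5 D139949) (iv4 D65704) (iv5 D30769) (iv0 D14576) D14579 D30779 D65740
theorem F387152 : act 1 n192578 = n139990 := d17_6 (iv1 F224541) F224540 (iv1 F180550) F321509 (iv4 F154480) D192578 (iv5 D139990) (iv0 F343185) F343188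
def n192579 : Q := act 6 n100417
theorem D192579 : act 6 n100417 = n192579 := rfl
theorem F387153 : act 2 n192579 = n147854 := d3_1 D192579 F387083 (iv2 F387080)
theorem F387154 : act 7 n192579 = n171134 := d14_2 (iv7 F384721) D192579 (iv6 D171134) (iv7 F365686) D191896
theorem F387155 : act 0 n192579 = n122415 := d21_4 D46281 D98899 F338885 D192579 (iv6 D122415) D122414 F384370 (iv5 D191759) (iv6 D98898) (iv1 D46280)
theorem F387156 : act 5 n192579 = n177912 := d21_6 D58289 F92152 (iv5 D46865) D46866 D100417 D192579 (iv1 D177912) (iv5 D84695) F300526 F89998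
def n192580 : Q := act 6 n100422
theorem D192580 : act 6 n100422 = n192580 := rfl
theorem F387157 : act 2 n192580 = n184036 := d3_1 D192580 (iv6 D184036) (iv2 F265230)
theorem F387158 : act 3 n192580 = n100425 := d7_1 D192580 (iv6 D100425) D100422
theorem F387159 : act 4 n192580 = n135402 := d10_1 D192580 (iv6 D135402) (iv4 F338854)
def n192581 : Q := act 0 n100423
theorem D192581 : act 0 n100423 = n192581 := rfl
theorem F387160 : act 4 n192581 = n192031 := d18_3 D46867 D100423 D192581 F385283 (iv4 D191753) F281968 (iv4 F338896) (iv0 D100431) (iv5 D46869)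
theorem F387161 : act 2 n107941 = n192581 := d15_3 (iv0 D192581) F338837 F239013
theorem F387162 : act 1 n100428 = n192581 := d15_0 (iv0 D192581) F338839 F338843
theorem F387163 : act 7 n192581 = n160109 := d15_2 (iv0 F338845) F387162 (iv2 F342637)
def n192582 : Q := act 5 n100423
theorem D192582 : act 5 n100423 = n192582 := rfl
theorem F387164 : act 3 n192582 = n135404 := d6_1 D192582 (iv5 D135404) (iv3 F338838)
theorem F387165 : act 4 n192582 = n179846 := d9_1 D192582 (iv5 D179846) (iv4 F304337) D125111 F338868 (iv5 D100429) D100428 (iv5 F384340) (iv4 D191748) (iv5 D98887) F72940 D46281 D98901 F338880 D100423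
theorem F387166 : act 1 n192582 = n192063 := d17_6 F128808 D98887 (iv1 F338879) F338880 D100423 D192582 (iv5 D192063) (iv0 F363204) F200480
def n192583 : Q := act 6 n100423
theorem D192583 : act 6 n100423 = n192583 := rfl
theorem F387167 : act 3 n192583 = n135405 := d7_1 D192583 (iv6 D135405) (iv3 F338838)
theorem F387168 : act 4 n192583 = n100425 := d10_1 D192583 (iv6 D100425) D100423
def n192584 : Q := act 0 n100425
theorem D192584 : act 0 n100425 = n192584 := rfl
def n192585 : Q := act 1 n100425
theorem D192585 : act 1 n100425 = n192585 := rfl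
theorem F387169 : act 1 n192585 = n157635 := d15_1 D192585 (iv7 F387092) F387089
theorem F387170 : act 3 n192585 = n100484 := d20_5 F240098 F190106 (iv4 F112583) (iv3 F248393) (iv1 F387169) (iv4 F273721) (iv1 D174862) (iv4 F155369) F155371 (iv1 F304641)
theorem F387171 : act 7 n153633 = n192585 := d8_0 F387170 F274644 F366799
theorem E103518 : n192584 = n191376 := ((c15_4 (iv0 D192584) D192585 (iv7 F387171) (iv2 F383255))).symm
theorem F387172 : act 1 n191376 = n100425 := (sb E103518 (iv0 D192584))
def n192586 : Q := act 7 n100425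
theorem D192586 : act 7 n100425 = n192586 := rfl
theorem F387173 : act 2 n192586 = n157635 := d4_1 D192586 (iv7 F387092) F387089
theorem F387174 : act 5 n192586 = n135074 := d13_1 D192586 (iv7 F384472) F384468
theorem F387175 : act 6 n192586 = n122648 := d14_1 D192586 F384699 F384694 F338851 D100425
theorem F387176 : act 0 n153633 = n192586 := d17_2 F374842 F374844 F387174 (iv4 F371134) (iv5 F374080) F377684 F377680 F371160 F360921
def n192587 : Q := act 5 n100430
theorem D192587 : act 5 n100430 = n192587 := rfl
theorem F387177 : act 3 n192587 = n153294 := d6_1 D192587 (iv5 D153294) (iv3 F308572)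
theorem F387178 : act 7 n192587 = n157634 := d13_2 (iv7 F308574) D192587 (iv5 D157634)
theorem F387179 : act 0 n192587 = n191518 := d17_2 (iv1 F308571) D192587 (iv5 D191518) F351771 (iv5 F386506) (iv0 F386508) (iv5 D171128) (iv0 D82018) (iv4 F90056)
theorem F387180 : act 0 n124362 = n192587 := d21_1 D124362 (iv5 D192587) (iv6 D100430) (iv1 D46868) (iv6 D22513) (iv5 D10689) D10686 (iv5 F34602) D46275 F351761
def n192588 : Q := act 3 n100431
theorem D192588 : act 3 n100431 = n192588 := rfl
theorem F387181 : act 2 n192588 = n184053 := d0_1 D192588 (iv3 D184053) F308458 (iv3 F200490) F338895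
theorem F387182 : act 5 n192588 = n135348 := d6_2 (iv5 F338897) D192588 F354632
def n192589 : Q := act 6 n100431
theorem D192589 : act 6 n100431 = n192589 := rfl
def n192590 : Q := act 6 n100432
theorem D192590 : act 6 n100432 = n192590 := rfl
theorem F387183 : act 3 n192590 = n184057 := d7_1 D192590 (iv6 D184057) F283417
theorem F387184 : act 4 n192590 = n160063 := d10_1 D192590 F359691 (iv4 F338883)
def n192591 : Q := act 0 n100433
theorem D192591 : act 0 n100433 = n192591 := rfl
def n192592 : Q := act 7 n100433
theorem D192592 : act 7 n100433 = n192592 := rfl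
theorem F387185 : act 3 n192592 = n101543 := d8_1 D192592 (iv7 F200483) F338890
theorem F387186 : act 4 n192592 = n100434 := d11_1 D192592 (iv7 D100434) D100433
theorem F387187 : act 5 n192592 = n101542 := d13_1 D192592 (iv7 F200481) (iv5 F338889)
def n192593 : Q := act 5 n100435
theorem D192593 : act 5 n100435 = n192593 := rfl
theorem F387188 : act 2 n192593 = n184065 := d2_1 D192593 (iv5 D184065) (iv2 F154728)
theorem F387189 : act 3 n192593 = n100544 := d6_1 D192593 (iv5 D100544) (iv3 F154729)
theorem F387190 : act 7 n192593 = n183921 := d13_2 F177363 D192593 (iv5 D183921)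
theorem F387191 : act 0 n192593 = n104192 := d17_2 D100435 D192593 F293880 F134883 D87948 (iv0 F359410) (iv5 D103349) F147092 F147090
theorem F387192 : act 1 n192593 = n100448 := d15_1 (iv0 F387191) (iv7 F372742) F372736
def n192594 : Q := act 0 n100437
theorem D192594 : act 0 n100437 = n192594 := rfl
theorem F387193 : act 5 n192594 = n182929 := d21_2 D100437 D192594 (iv6 D182929) (iv1 D87338) (iv6 D40593) D40592 F113366 F113363 D95431 F177379
theorem F387194 : act 1 n103341 = n192594 := d15_0 (iv0 D192594) (iv7 F387100) F387098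
theorem F387195 : act 3 n100549 = n192594 := d19_19 (iv1 F387194) (iv5 D103341) F75165 (iv3 D23058) (iv1 F66026) D44515 F329937 F329370 F134918 D101219 F293990 D103046 (iv1 F372075) (iv5 D188009) F177341 F177337 F154612 D184506 F364372
theorem F387196 : act 7 n192594 = n184067 := d8_2 F383914 F387195 (iv3 F383919)
theorem F387197 : act 2 n192594 = n184066 := d15_3 (iv0 D184066) D184067 (iv7 F387196)
def n192595 : Q := act 1 n100437
theorem D192595 : act 1 n100437 = n192595 := rfl
theorem F387198 : act 1 n192595 = n103341 := d15_1 D192595 F158597 (iv2 F154490)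
theorem F387199 : act 7 n192595 = n184066 := d15_2 (iv0 D192594) D192595 (iv2 F387197)
theorem F387200 : act 2 n184067 = n192595 := d4_3 F387199 (iv2 F387197) F387196
def n192596 : Q := act 4 n100437
theorem D192596 : act 4 n100437 = n192596 := rfl
theorem F387201 : act 2 n192596 = n184068 := d1_1 D192596 (iv4 D184068) (iv2 F154490)
theorem F387202 : act 3 n192596 = n187633 := d5_1 D192596 (iv4 F384622) F384621 (iv4 D100441) (iv3 F154491)
theorem F387203 : act 0 n192596 = n188142 := d20_7 (iv4 F294350) D90715 F139620 (iv3 F139805) F292011 (iv3 F154491) D192596 (iv4 D188142) (iv3 D90912) (iv1 F293353)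
theorem F387204 : act 6 n187630 = n192596 := d7_0 F387202 (iv6 D187633) D187630
def n192597 : Q := act 6 n100437
theorem D192597 : act 6 n100437 = n192597 := rfl
theorem F387205 : act 2 n192597 = n184069 := d3_1 D192597 (iv6 D184069) (iv2 F154490)
theorem F387206 : act 3 n192597 = n100442 := d7_1 D192597 (iv6 D100442) (iv3 F154491)
theorem F387207 : act 4 n192597 = n187630 := d10_1 D192597 F387204 (iv4 D192596)
theorem F387208 : act 7 n188340 = n192597 := d11_0 F387207 F371054 D188340
def n192598 : Q := act 4 n100439
theorem D192598 : act 4 n100439 = n192598 := rfl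
def n192599 : Q := act 6 n100439
theorem D192599 : act 6 n100439 = n192599 := rfl
theorem F387209 : act 3 n192599 = n141228 := d7_1 D192599 (iv6 F372257) F372254
theorem F387210 : act 0 n192599 = n141198 := d21_4 (iv5 F154433) F367615 F367614 D192599 (iv6 D141198) F181569 (iv1 F84354) D65468 F329671 (iv1 F154432)
def n192600 : Q := act 0 n100441
theorem D192600 : act 0 n100441 = n192600 := rfl
theorem F387211 : act 1 n100445 = n192600 := d15_0 (iv0 D192600) (iv7 F387104) F387103
def n192601 : Q := act 1 n100441
theorem D192601 : act 1 n100441 = n192601 := rfl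
theorem F387212 : act 1 n192601 = n100445 := d15_1 D192601 (iv7 F371706) F371705

end Cfsg.Agent.Helper17.ONTC
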