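import Cfsg.Agent.Helper17.ONTC.Facts46

set_option autoImplicit false
set_option linter.all false

noncomputable section

namespace Cfsg.Agent.Helper17.ONTC

def n192602 : Q := act 5 n100441
theorem D192602 : act 5 n100441 = n192602 := rfl
def n192603 : Q := act 1 n100442
theorem D192603 : act 1 n100442 = n192603 := rfl
theorem F387213 : act 4 n192603 = n140051 := d18_7 D66375 D141478 (iv1 F224542) F223183 (iv5 F384431) (iv4 F384434) D192603 F223263 (iv5 D66377)
theorem F387214 : act 3 n100537 = n192603 := d20_3 F370879 (iv1 F372495) F384643 (iv1 D192603) (iv3 F387206) F387207 (iv1 F375688) F375686 (iv3 D188153) (iv1 F370884)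
theorem F387215 : act 6 n116252 = n192603 := d21_3 F180560 (iv1 F84537) D116252 (iv1 D192603) (iv6 D100442) (iv5 D46872) (iv1 F74062) (iv5 F329255) (iv6 D65473) D65470
theorem F387216 : act 2 n192603 = n116257 := d3_1 F387215 (iv6 D116257) (iv2 F181206)
theorem F387217 : act 5 n139516 = n192603 := d9_0 F387213 (iv5 D140051) (iv4 F318912) (iv5 F320542) (iv4 D66224) (iv5 F180560) (iv4 F350364) (iv5 F384460) F384459 (iv5 D140054) (iv4 F318915) F318916 F84686 (iv5 F105781) D139516
def n192604 : Q := act 7 n100442
theorem D192604 : act 7 n100442 = n192604 := rfl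
theorem F387218 : act 3 n192604 = n188340 := d8_1 D192604 F387208 F387206
theorem F387219 : act 4 n192604 = n188343 := d11_1 D192604 (iv7 F384430) (iv4 F384434)
theorem F387220 : act 5 n192604 = n143247 := d13_1 D192604 (iv7 F372564) F372563
theorem F387221 : act 1 n116257 = n192604 := d15_1 (iv0 F371710) (iv7 D192604) (iv2 F371707)
theorem F387222 : act 0 n186975 = n188364 := d19_16 (iv1 F226072) (iv5 F387220) F387219 (iv3 D188343) F372993 (iv5 F346317) (iv4 F320024) (iv3 D96368) (iv1 F70768) (iv5 F146973) F318910 F176497 (iv1 D113289) D113291 F361988 (iv3 F368723) (iv5 D188364) (iv4 F367575) (iv3 F372987)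
theorem F387223 : act 1 n186975 = n188368 := d15_1 (iv0 F387222) (iv7 F378683) (iv2 F378692)
def n192605 : Q := act 3 n100445
theorem D192605 : act 3 n100445 = n192605 := rfl
theorem F387224 : act 4 n192605 = n184080 := d5_2 D100445 D192605 (iv3 D184080) (iv4 D87805) (iv3 F74087)
theorem F387225 : act 6 n192605 = n138330 := d7_2 (iv6 F360920) D192605 (iv3 F366563)
theorem F387226 : act 0 n192605 = n134876 := d21_4 F181225 (iv1 F172350) (iv5 F221529) (iv6 F387225) (iv6 D134876) (iv5 D63385) (iv1 F79239) (iv5 F79241) D63521 (iv1 F343174)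
def n192606 : Q := act 5 n100445
theorem D192606 : act 5 n100445 = n192606 := rfl
def n192607 : Q := act 0 n100446
theorem D192607 : act 0 n100446 = n192607 := rfl
theorem F387227 : act 5 n192607 = n160078 := d21_0 F337086 F337090 (iv6 D139517) (iv1 D65471) D65473 F329255 (iv1 F74061) D46874 D100446 D192607
theorem F387228 : act 7 n160077 = n192607 := d13_0 F387227 (iv7 D160078) D160077
theorem F387229 : act 3 n192607 = n100557 := d8_1 F387228 F385000 F384992
def n192608 : Q := act 1 n100446
theorem D192608 : act 1 n100446 = n192608 := rfl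
theorem F387230 : act 5 n192608 = n122698 := d17_7 F319822 F106696 D133710 F320085 D148554 (iv5 F360918) D192608 F337087 (iv4 D155541)
theorem F387231 : act 6 n123211 = n192608 := d21_3 F338897 (iv1 D123210) D123211 (iv1 D192608) (iv6 D100446) (iv5 D46874) (iv1 D22515) D22516 (iv6 F74084) D100431
theorem F387232 : act 2 n192608 = n160077 := d3_1 F387231 F252624 (iv2 F197505)
theorem F387233 : act 3 n192608 = n122701 := d7_1 F387231 F196560 (iv3 F197506)
def n192609 : Q := act 7 n100446
theorem D192609 : act 7 n100446 = n192609 := rfl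
theorem F387234 : act 3 n192609 = n184086 := d8_1 D192609 (iv7 D184086) (iv3 F154507)
theorem F387235 : act 4 n192609 = n138316 := d11_1 D192609 F366564 F360919
theorem F387236 : act 1 n160077 = n192609 := d15_1 (iv0 F387106) (iv7 D192609) (iv2 F387105)
def n192610 : Q := act 5 n100448
theorem D192610 : act 5 n100448 = n192610 := rfl
theorem F387237 : act 2 n192610 = n103921 := d2_1 D192610 F293841 (iv2 F154509)
theorem F387238 : act 3 n192610 = n100450 := d6_1 D192610 (iv5 D100450) D100448
theorem F387239 : act 7 n192610 = n184230 := d13_2 F372742 D192610 (iv5 F372739)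
theorem F387240 : act 4 n192610 = n184397 := d17_4 (iv1 F177380) D189906 F378182 D192610 F340530 F352904 (iv5 D95451) F75213 (iv4 F75165)
theorem F387241 : act 0 n184228 = n192610 := d21_10 (iv5 D192610) (iv1 F387192) (iv5 D192593) F177432 (iv1 D87911) D87914 (iv5 F283682) (iv1 F384273) (iv5 D191723) F381817
theorem F387242 : act 0 n189959 = n190990 := d18_0 (iv4 F381816) F387241 F387240 F340530 (iv4 F346658) (iv0 D99813) (iv4 F137116) D186986 (iv5 F378375)
theorem F387243 : act 1 n184229 = n192610 := d17_8 (iv1 F286329) (iv5 F295210) F159303 (iv5 D103054) F75048 D87800 D184067 F383920 F387240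
theorem F387244 : act 1 n103921 = n182929 := d15_0 (iv0 F367650) (iv7 F387239) F387237
def n192611 : Q := act 6 n100448
theorem D192611 : act 6 n100448 = n192611 := rfl
theorem F387245 : act 2 n192611 = n184092 := d3_1 D192611 (iv6 D184092) (iv2 F154509)
theorem F387246 : act 3 n192611 = n100451 := d7_1 D192611 (iv6 D100451) D100448
def n192612 : Q := act 0 n100449
theorem D192612 : act 0 n100449 = n192612 := rfl
theorem F387247 : act 4 n192612 = n192037 := d18_3 D46876 D100449 D192612 F385313 F177400 F138920 (iv4 F65530) (iv0 D22514) D22516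
theorem F387248 : act 2 n188193 = n192612 := d15_3 (iv0 D192612) F384367 (iv7 F384368)
theorem F387249 : act 1 n100452 = n192612 := d15_0 (iv0 D192612) (iv7 F351147) (iv2 F351149)
theorem F387250 : act 7 n192612 = n188192 := d15_2 (iv0 F384366) F387249 (iv2 F384363)
def n192613 : Q := act 5 n100449
theorem D192613 : act 5 n100449 = n192613 := rfl
theorem F387251 : act 3 n192613 = n188204 := d6_1 D192613 F372655 (iv3 F351146)
theorem F387252 : act 7 n192613 = n188194 := d13_2 F351147 D192613 (iv5 D188194)
def n192614 : Q := act 0 n100451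
theorem D192614 : act 0 n100451 = n192614 := rfl
def n192615 : Q := act 1 n100451
theorem D192615 : act 1 n100451 = n192615 := rfl
def n192616 : Q := act 5 n100451
theorem D192616 : act 5 n100451 = n192616 := rfl
theorem F387253 : act 2 n192616 = n185383 := d2_1 D192616 (iv5 F387109) F387107
theorem F387254 : act 6 n192616 = n102698 := d12_2 D100451 D192616 (iv5 F375492) F375491 (iv5 D100450)
def n192617 : Q := act 5 n100454
theorem D192617 : act 5 n100454 = n192617 := rfl
def n192618 : Q := act 6 n100454
theorem D192618 : act 6 n100454 = n192618 := rfl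
theorem F387255 : act 3 n192618 = n159754 := d7_1 D192618 (iv6 F371371) F371372
theorem F387256 : act 4 n192618 = n152567 := d10_1 D192618 (iv6 F385302) F385299
def n192619 : Q := act 3 n100455
theorem D192619 : act 3 n100455 = n192619 := rfl
def n192620 : Q := act 5 n100455
theorem D192620 : act 5 n100455 = n192620 := rfl
def n192621 : Q := act 6 n100455
theorem D192621 : act 6 n100455 = n192621 := rfl
theorem F387257 : act 2 n192621 = n187608 := d3_1 D192621 (iv6 F387122) (iv2 F387123)
theorem F387258 : act 5 n187607 = n192621 := d21_2 F384448 (iv1 F371004) (iv6 D192621) (iv1 D100455) (iv6 F154485) F338889 F363204 D192063 F385399 (iv1 F384449)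
theorem F387259 : act 0 n192621 = n188259 := d17_2 (iv1 F371004) F387258 F372883 F143809 (iv5 F367099) F289200 F289196 F140083 D186130
theorem F387260 : act 4 n192621 = n191769 := d18_5 (iv1 F67966) (iv4 F292356) D185913 (iv4 F371003) F387258 F384405 (iv4 D98913) (iv0 F293379) (iv5 D92564)
theorem F387261 : act 6 n191769 = n192036 := d10_2 D192621 F387260 (iv4 F385309)
def n192622 : Q := act 0 n100456
theorem D192622 : act 0 n100456 = n192622 := rfl
theorem F387262 : act 2 n188268 = n192622 := d15_3 (iv0 D192622) (iv0 F338893) D188268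
theorem F387263 : act 7 n192622 = n188255 := d4_2 D188268 F387262 F372861
theorem F387264 : act 1 n188266 = n192622 := d15_1 D188266 F387263 F372861
def n192623 : Q := act 2 n100456
theorem D192623 : act 2 n100456 = n192623 := rfl
theorem F387265 : act 4 n192623 = n100591 := d1_2 (iv4 F154512) D192623 (iv2 D100591)
theorem F387266 : act 6 n192623 = n101548 := d3_2 (iv6 F338892) D192623 (iv2 F200482)
theorem F387267 : act 7 n188266 = n192623 := d15_2 (iv0 F338893) D188266 (iv2 D192623)
theorem F387268 : act 0 n188255 = n192623 := d21_4 F338447 (iv1 F139073) D91123 D188255 F387266 (iv5 D101548) (iv1 D47238) D47239 F295430 D93240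
theorem F387269 : act 1 n188268 = n192623 := d15_0 (iv0 F387268) (iv7 F387263) (iv2 F387262)
def n192624 : Q := act 5 n100456
theorem D192624 : act 5 n100456 = n192624 := rfl
theorem F387270 : act 3 n192624 = n100457 := d6_1 D192624 (iv5 D100457) D100456
def n192625 : Q := act 7 n100456
theorem D192625 : act 7 n100456 = n192625 := rfl
theorem F387271 : act 2 n192625 = n188266 := d4_1 D192625 F387267 (iv2 D192623)
theorem F387272 : act 3 n192625 = n100458 := d8_1 D192625 (iv7 D100458) D100456
theorem F387273 : act 4 n192625 = n100593 := d11_1 D192625 (iv7 D100593) (iv4 F154512)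
theorem F387274 : act 1 n188255 = n192625 := d15_1 (iv0 F387268) (iv7 D192625) D192623
theorem F387275 : act 1 n192625 = n188268 := d15_1 F387274 (iv7 D188268) (iv2 F372861)
def n192626 : Q := act 0 n100457
theorem D192626 : act 0 n100457 = n192626 := rfl
def n192627 : Q := act 1 n100457
theorem D192627 : act 1 n100457 = n192627 := rfl
def n192628 : Q := act 4 n100457
theorem D192628 : act 4 n100457 = n192628 := rfl
def n192629 : Q := act 6 n100457
theorem D192629 : act 6 n100457 = n192629 := rfl
def n192630 : Q := act 7 n100457
theorem D192630 : act 7 n100457 = n192630 := rfl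
theorem F387276 : act 5 n192630 = n100458 := d13_1 D192630 (iv7 D100458) D100457
def n192631 : Q := act 5 n100468
theorem D192631 : act 5 n100468 = n192631 := rfl
theorem F387277 : act 2 n192631 = n100470 := d2_1 D192631 (iv5 D100470) D100468
theorem F387278 : act 7 n192631 = n119174 := d13_2 (iv7 F307754) D192631 (iv5 D119174)
theorem F387279 : act 0 n192631 = n130862 := d17_2 (iv1 F272858) D192631 (iv5 D130862) (iv4 D61398) (iv5 D29065) (iv0 D13836) D13839 (iv0 F38065) (iv4 F305754)
theorem F387280 : act 1 n192631 = n107878 := d17_6 (iv1 F166711) (iv5 D107892) (iv1 F112263) (iv5 F178647) (iv4 F307753) D192631 (iv5 D107878) D107877 F166673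
def n192632 : Q := act 6 n100468
theorem D192632 : act 6 n100468 = n192632 := rfl
theorem F387281 : act 2 n192632 = n100471 := d3_1 D192632 (iv6 D100471) D100468
theorem F387282 : act 5 n192632 = n191564 := d21_6 F64070 F34684 D23342 D48202 (iv1 F272858) D192632 (iv1 F383845) F338409 (iv6 D87542) F64073
theorem F387283 : act 0 n192632 = n130879 := d21_10 F383768 (iv1 D191549) (iv5 D98538) F308351 (iv1 D72845) F311641 D107878 (iv1 F387280) (iv5 D192631) D192632
theorem F387284 : act 0 n130884 = n192632 := d17_0 F387282 (iv1 F383845) F338409 F134440 (iv5 F305758) (iv0 D67862) F49870 D61404 D130884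
def n192633 : Q := act 6 n100470
theorem D192633 : act 6 n100470 = n192633 := rfl
theorem F387285 : act 3 n192633 = n100481 := d7_1 D192633 (iv6 D100481) (iv3 F154525)
theorem F387286 : act 5 n192633 = n191566 := d12_1 D192633 (iv6 D191566) F154527 (iv6 D100471) D100470
def n192634 : Q := act 0 n100471
theorem D192634 : act 0 n100471 = n192634 := rfl
theorem F387287 : act 4 n192634 = n119167 := d20_8 F54517 (iv1 F53866) (iv4 F114324) D108404 (iv1 F278612) (iv3 F205731) (iv4 F311798) D192634 F237556 (iv1 F87530)
theorem F387288 : act 2 n130879 = n192634 := d1_3 F387287 F237555 D130879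
theorem F387289 : act 3 n153420 = n192634 := d5_5 F387287 F237556 F167442 D108288 F310505
theorem F387290 : act 6 n153418 = n192634 := d10_0 F387287 F340116 F319997
theorem F387291 : act 7 n130884 = n192634 := d11_0 F387287 F237557 D130884
def n192635 : Q := act 1 n100471
theorem D192635 : act 1 n100471 = n192635 := rfl
theorem F387292 : act 7 n192635 = n130879 := d15_2 (iv0 D192634) D192635 F387288
theorem F387293 : act 4 n192635 = n119168 := d17_9 (iv1 D119168) (iv5 F103905) F103906 F306193 F134443 D87548 (iv0 F233166) F154527 D192635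
theorem F387294 : act 2 n130884 = n192635 := d1_3 F387293 F237559 D130884
def n192636 : Q := act 7 n100471
theorem D192636 : act 7 n100471 = n192636 := rfl
theorem F387295 : act 3 n192636 = n100485 := d8_1 D192636 (iv7 D100485) (iv3 F154526)
theorem F387296 : act 5 n192636 = n186694 := d13_1 D192636 F367702 F154527
theorem F387297 : act 6 n192636 = n153303 := d14_1 D192636 F312489 (iv6 D131488) (iv7 F309596) D100471
theorem F387298 : act 1 n130884 = n192636 := d15_1 (iv0 F387284) (iv7 D192636) (iv2 F387281)
theorem F387299 : act 1 n192636 = n130879 := d15_1 F387298 (iv7 F387292) (iv2 F387294)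
def n192637 : Q := act 0 n100475
theorem D192637 : act 0 n100475 = n192637 := rfl
theorem F387300 : act 5 n192637 = n101923 := d17_3 F205697 D100475 D192637 F156913 D101927 (iv0 F156915) (iv5 D99495) (iv0 D46512) (iv4 F58973)
theorem F387301 : act 1 n100494 = n192637 := d15_0 (iv0 D192637) F272827 (iv2 F272821)
theorem F387302 : act 6 n178234 = n192637 := d21_9 (iv5 D100494) F205698 D82894 F127683 D82901 (iv6 F358885) F358884 D176364 (iv5 F361916) (iv1 F387301)
theorem F387303 : act 2 n192637 = n174037 := d3_1 F387302 (iv6 F378058) F378057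
theorem F387304 : act 3 n192637 = n178237 := d7_1 F387302 (iv6 D178237) D178234
theorem F387305 : act 7 n174038 = n192637 := d8_0 F387304 (iv7 F353947) (iv3 F358645)
def n192638 : Q := act 1 n100475
theorem D192638 : act 1 n100475 = n192638 := rfl
theorem F387306 : act 1 n192638 = n100494 := d15_1 D192638 F272822 (iv2 F272826)
theorem F387307 : act 7 n192638 = n174037 := d15_2 (iv0 D192637) D192638 (iv2 F387303)
theorem F387308 : act 5 n192638 = n131412 := d17_7 (iv1 F198464) (iv5 F310431) (iv1 D100479) (iv5 D46883) D46882 D100475 D192638 (iv0 F337623) (iv4 F310426)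
theorem F387309 : act 2 n174038 = n192638 := d2_3 F387308 F333009 F311737
theorem F387310 : act 6 n174118 = n192638 := d12_0 F387308 F333012 F109560 D100809 F353952
def n192639 : Q := act 4 n100475
theorem D192639 : act 4 n100475 = n192639 := rfl
theorem F387311 : act 2 n192639 = n174039 := d1_1 D192639 (iv4 D174039) (iv2 F272826)
theorem F387312 : act 7 n192639 = n174050 := d11_2 (iv7 F272827) D192639 (iv4 D174050)
theorem F387313 : act 5 n192639 = n108477 := d16_1 D192639 (iv4 D108477) (iv5 F364111) (iv4 D100496) (iv5 D46888) D46887 D100494 F272822 (iv2 F272826)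
theorem F387314 : act 0 n192639 = n175636 := d18_2 (iv1 D192638) D192639 (iv4 D175636) (iv5 D83855) (iv4 F310441) F310440 F317269 D131412 (iv5 F387308)
theorem F387315 : act 1 n192639 = n175420 := d18_6 (iv1 D38504) F29534 D22518 D46882 D100475 D192639 (iv4 D175420) F308627 (iv5 D83532)
theorem F387316 : act 6 n180492 = n192639 := d12_0 F387313 F371684 (iv5 D187845) D187846 F371686
def n192640 : Q := act 6 n100475
theorem D192640 : act 6 n100475 = n192640 := rfl
theorem F387317 : act 2 n192640 = n174040 := d3_1 D192640 (iv6 D174040) (iv2 F272826)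
theorem F387318 : act 3 n192640 = n126348 := d7_1 D192640 (iv6 F352276) F314836
theorem F387319 : act 4 n192640 = n180492 := d10_1 D192640 F387316 (iv4 D192639)
theorem F387320 : act 0 n192640 = n125449 := d21_4 (iv5 D82894) F205697 D100475 D192640 (iv6 D125449) (iv5 F254076) (iv1 F258235) F194347 D166735 F330842
theorem F387321 : act 1 n192640 = n160737 := d15_1 (iv0 F387320) F359845 (iv2 F358636)
theorem F387322 : act 7 n180599 = n192640 := d11_0 F387319 F366136 (iv4 F359054)
def n192641 : Q := act 1 n100476
theorem D192641 : act 1 n100476 = n192641 := rfl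
theorem F387323 : act 1 n192641 = n174044 := d15_1 D192641 (iv7 D174044) (iv2 F272828)
theorem F387324 : act 7 n192641 = n174021 := d15_2 F311779 D192641 F338122
theorem F387325 : act 5 n192641 = n124664 := d17_7 F347984 (iv5 F347986) F352212 F352210 (iv4 F298230) F298231 D192641 F334605 D172857
theorem F387326 : act 4 n192641 = n192008 := d17_9 (iv1 D192008) F153256 (iv1 D89188) (iv5 D41659) (iv4 F54744) F297058 D158231 F298231 D192641
theorem F387327 : act 6 n174489 = n192641 := d21_3 D98151 D191362 F383206 (iv1 D192641) (iv6 D100476) D100475 D192637 F387300 (iv6 D101923) (iv1 F272645)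
theorem F387328 : act 2 n192641 = n174043 := d3_1 F387327 (iv6 F386574) (iv2 F386575)
def n192642 : Q := act 4 n100478
theorem D192642 : act 4 n100478 = n192642 := rfl
theorem F387329 : act 0 n192642 = n101138 := d18_2 D100478 D192642 (iv4 D101138) (iv5 D47110) (iv4 F155362) F123113 F123110 F73371 D46883
theorem F387330 : act 1 n192642 = n101126 := d18_6 (iv1 D101564) F308281 (iv1 F308852) (iv4 F310441) (iv5 F312631) D192642 (iv4 D101126) D101125 (iv5 F274810)
theorem F387331 : act 3 n192642 = n138755 := d19_3 (iv1 F310440) (iv5 F312631) D192642 (iv1 D138755) (iv5 D65155) F49037 (iv3 D14511) F11204 D11427 (iv4 F18823) (iv3 F38251) (iv1 F79160) F79162 F46099 (iv3 F46084) F54050 D29238 D61674 F319570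
theorem F387332 : act 5 n156317 = n192642 := d6_0 F387331 F245792 D156317
def n192643 : Q := act 6 n100478
theorem D192643 : act 6 n100478 = n192643 := rfl
theorem F387333 : act 3 n192643 = n124070 := d7_1 D192643 (iv6 D124070) (iv3 F312630)
theorem F387334 : act 5 n192643 = n175626 := d12_1 D192643 (iv6 D175626) (iv5 D83849) (iv6 F310442) (iv5 F312631)
def n192644 : Q := act 4 n100479
theorem D192644 : act 4 n100479 = n192644 := rfl
theorem F387335 : act 0 n192644 = n101126 := d17_0 F345256 (iv1 F345263) (iv5 F384972) F384971 F153023 F73371 D46883 D100479 D192644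
theorem F387336 : act 1 n192644 = n101138 := d18_6 F310374 (iv4 D175415) (iv1 D83761) (iv4 F128798) (iv5 F310431) D192644 (iv4 D101138) F155789 F155785
def n192645 : Q := act 0 n100480
theorem D192645 : act 0 n100480 = n192645 := rfl
theorem F387337 : act 5 n192645 = n138447 := d17_1 D192645 (iv1 F222770) (iv5 F357938) F272733 (iv5 F310427) (iv0 D124065) (iv5 F312631) (iv0 D100478) D100480
theorem F387338 : act 4 n192645 = n101927 := d18_1 D192645 F156914 D192009 F385186 (iv4 D107022) F164960 (iv4 F167703) (iv0 D108469) (iv5 F357957)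
theorem F387339 : act 2 n138448 = n192645 := d15_3 (iv0 D192645) F357956 F222773
theorem F387340 : act 1 n100496 = n192645 := d15_0 (iv0 D192645) (iv7 F384949) F384948
def n192646 : Q := act 3 n100480
theorem D192646 : act 3 n100480 = n192646 := rfl
theorem F387341 : act 5 n192646 = n108471 := d6_2 (iv5 F357957) D192646 (iv3 D108471)
def n192647 : Q := act 6 n100480
theorem D192647 : act 6 n100480 = n192647 := rfl
theorem F387342 : act 4 n192647 = n100481 := d10_1 D192647 (iv6 D100481) D100480
theorem F387343 : act 0 n192647 = n180533 := d21_10 (iv5 D180533) F268480 (iv5 F354674) (iv6 D100579) F74128 F332986 (iv5 D50088) D50085 (iv5 F357957) D192647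
theorem F387344 : act 5 n180436 = n192647 := d17_1 D180436 F387343 (iv5 D180533) (iv4 D86220) F248721 F92788 F92784 F60688 D86176
theorem F387345 : act 1 n192647 = n180526 := d15_1 (iv0 F387343) (iv7 F281439) F281438
def n192648 : Q := act 7 n100481
theorem D192648 : act 7 n100481 = n192648 := rfl
theorem F387346 : act 5 n192648 = n191569 := d13_1 D192648 (iv7 D191569) (iv5 F154544)
theorem F387347 : act 1 n141137 = n192648 := d15_1 (iv0 F384947) (iv7 D192648) (iv2 F384945)
def n192649 : Q := act 4 n100488
theorem D192649 : act 4 n100488 = n192649 := rfl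
theorem F387348 : act 3 n192649 = n167594 := d5_1 D192649 (iv4 F315475) F213225 D132770 F316608
theorem F387349 : act 6 n192649 = n135396 := d10_2 F384777 D192649 F384778
theorem F387350 : act 7 n192649 = n191403 := d11_2 (iv7 F363116) D192649 F383364
theorem F387351 : act 1 n192649 = n148844 := d18_8 F326287 F283774 (iv1 D120660) (iv4 F108422) (iv5 F332301) (iv4 D100490) D100488 D192649 (iv5 F332324)
theorem F387352 : act 0 n192649 = n135435 := d20_1 D192649 F332320 D184486 (iv1 F366761) (iv3 D133582) F97800 D114564 (iv4 F307753) (iv3 F384925) (iv1 F384929)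
theorem F387353 : act 5 n176321 = n192649 := d21_6 (iv5 F113129) (iv1 F113132) (iv5 F83181) D114060 F340168 (iv6 F337700) F387352 F330214 (iv6 D78890) (iv1 F83592)
def n192650 : Q := act 5 n100488
theorem D192650 : act 5 n100488 = n192650 := rfl
theorem F387354 : act 7 n192650 = n191404 := d13_2 (iv7 F363116) D192650 (iv5 D191404)
theorem F387355 : act 1 n100508 = n192650 := d15_1 (iv0 F386138) F387354 (iv2 F386135)
def n192651 : Q := act 5 n100489
theorem D192651 : act 5 n100489 = n192651 := rfl
theorem F387356 : act 2 n192651 = n100491 := d2_1 D192651 (iv5 D100491) D100489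
theorem F387357 : act 3 n192651 = n119174 := d6_1 D192651 (iv5 D119174) (iv3 F332307)
def n192652 : Q := act 6 n100489
theorem D192652 : act 6 n100489 = n192652 := rfl
theorem F387358 : act 2 n192652 = n100492 := d3_1 D192652 (iv6 D100492) D100489
theorem F387359 : act 3 n192652 = n119175 := d7_1 D192652 (iv6 D119175) (iv3 F332307)
theorem F387360 : act 4 n192652 = n157985 := d10_1 D192652 (iv6 F364463) F332305
theorem F387361 : act 0 n122665 = n192652 := d18_2 (iv1 F217622) (iv4 F305433) F387360 F364462 F243921 D164553 (iv4 F319376) F319375 (iv5 F340189)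
theorem F387362 : act 0 n192652 = n135386 := d20_1 (iv4 F387360) F217617 F98978 (iv1 F346376) (iv3 D98200) (iv4 F72481) (iv1 D34454) (iv4 F54652) (iv3 F112792) D157985
theorem F387363 : act 7 n135422 = n192652 := d8_0 F387359 (iv7 F362495) F371285
def n192653 : Q := act 3 n100490
theorem D192653 : act 3 n100490 = n192653 := rfl
theorem F387364 : act 2 n192653 = n118560 := d0_1 D192653 (iv3 D118560) F186376 (iv3 F332308) F332304
theorem F387365 : act 4 n192653 = n100493 := d5_2 D100490 D192653 (iv3 D100493) (iv4 D46887) D46886
theorem F387366 : act 5 n192653 = n123670 := d6_2 (iv5 F332301) D192653 F198095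
theorem F387367 : act 7 n192653 = n174033 := d8_2 (iv7 F286405) D192653 F286404
theorem F387368 : act 0 n192653 = n153251 := d20_4 (iv4 D192649) (iv1 D100488) D100490 D192653 F240744 F108866 D72378 (iv4 F192122) D148844 (iv1 F387351)
theorem F387369 : act 6 n128052 = n192653 := d21_3 F334227 (iv1 F190032) D128052 F387368 (iv6 D153251) (iv5 F206179) F305623 (iv5 F302486) (iv6 F343503) F334228
def n192654 : Q := act 6 n100490
theorem D192654 : act 6 n100490 = n192654 := rfl
theorem F387370 : act 2 n192654 = n157985 := d3_1 D192654 (iv6 F364463) F332304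
theorem F387371 : act 3 n192654 = n128052 := d7_1 D192654 F387369 (iv3 D192653)
theorem F387372 : act 4 n192654 = n100492 := d10_1 D192654 (iv6 D100492) D100490
theorem F387373 : act 5 n192654 = n119439 := d12_1 D192654 (iv6 D119439) F86967 D71916 (iv5 F332301)
theorem F387374 : act 0 n192654 = n157988 := d21_4 (iv5 F327795) F252357 (iv5 F332301) D192654 F248868 (iv5 F316616) (iv1 F213145) (iv5 F318044) (iv6 D83008) (iv1 F127921)
theorem F387375 : act 0 n119109 = n192654 := d21_4 D38191 (iv1 F108916) (iv5 F86730) D119109 (iv6 D192654) F332301 F327303 (iv5 D38205) (iv6 D18256) D18252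
theorem F387376 : act 7 n133077 = n192654 := d13_0 F387373 (iv7 F257001) (iv5 F331999)
def n192655 : Q := act 0 n100491
theorem D192655 : act 0 n100491 = n192655 := rfl
theorem F387377 : act 5 n192655 = n123218 := d17_3 (iv1 D100488) D100491 D192655 F197513 F303104 (iv0 F334448) (iv5 F330214) (iv0 F387352) (iv4 D192649)
theorem F387378 : act 3 n123221 = n192655 := d6_3 F387377 F197512 D123221
def n192656 : Q := act 1 n100491
theorem D192656 : act 1 n100491 = n192656 := rfl
theorem F387379 : act 5 n192656 = n173494 := d17_7 (iv1 F127921) (iv5 F327795) F252357 (iv5 F332301) (iv4 D100490) D100491 D192656 (iv0 D173494) (iv4 D83006)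
def n192657 : Q := act 4 n100491
theorem D192657 : act 4 n100491 = n192657 := rfl
theorem F387380 : act 5 n192657 = n189750 := d16_3 (iv4 D100490) D100491 D192657 (iv4 F377615) F214510 F327798 (iv5 F332313) F332314 F332304
theorem F387381 : act 0 n192657 = n123117 := d18_2 (iv1 D192656) D192657 (iv4 D123117) (iv5 D57291) F44351 D38204 D83011 F271956 (iv5 F387379)
theorem F387382 : act 3 n189752 = n192657 := d6_3 F387380 (iv3 D189750) D189752
theorem F387383 : act 0 n157397 = n192657 := d21_10 F387380 F377622 F376255 (iv6 F345122) (iv1 D152562) (iv6 D71952) (iv5 F104117) F104115 D74853 (iv6 F247877)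
def n192658 : Q := act 6 n100491
theorem D192658 : act 6 n100491 = n192658 := rfl
theorem F387384 : act 3 n192658 = n100497 := d7_1 D192658 (iv6 D100497) (iv3 F154554)
def n192659 : Q := act 5 n100492
theorem D192659 : act 5 n100492 = n192659 := rfl
theorem F387385 : act 3 n192659 = n100500 := d6_1 D192659 (iv5 D100500) (iv3 F154555)
def n192660 : Q := act 7 n100492
theorem D192660 : act 7 n100492 = n192660 := rfl
theorem F387386 : act 2 n192660 = n135422 := d4_1 D192660 F387363 F387358
theorem F387387 : act 3 n192660 = n100501 := d8_1 D192660 (iv7 D100501) (iv3 F154555)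
theorem F387388 : act 4 n192660 = n133077 := d11_1 D192660 F387376 F387372
theorem F387389 : act 6 n192660 = n191557 := d14_1 D192660 F384935 (iv6 D191943) F272813 D100492
theorem F387390 : act 1 n122665 = n192660 := d15_1 (iv0 F387361) (iv7 D192660) (iv2 F387358)
theorem F387391 : act 1 n192660 = n135386 := d15_1 F387390 (iv7 F363860) F270556
def n192661 : Q := act 5 n100493
theorem D192661 : act 5 n100493 = n192661 := rfl
theorem F387392 : act 2 n192661 = n149040 := d2_1 D192661 (iv5 D149040) (iv2 F316729)
theorem F387393 : act 3 n192661 = n100494 := d6_1 D192661 (iv5 D100494) D100493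
theorem F387394 : act 4 n192661 = n125798 := d9_1 D192661 F378171 (iv4 F378170) F347331 (iv4 F206276) F349801 F210716 D131467 F359772 F359779 (iv4 F329133) (iv5 D123673) (iv4 F198096) (iv5 F387366) F387365
theorem F387395 : act 7 n192661 = n174034 := d13_2 (iv7 F272820) D192661 (iv5 D174034)
theorem F387396 : act 0 n192661 = n180257 := d17_2 (iv1 F316728) D192661 F355015 F188733 (iv5 F336891) (iv0 F336888) (iv5 F342736) F342734 F339654
theorem F387397 : act 6 n125796 = n192661 := d10_0 F387394 (iv6 D125798) D125796
def n192662 : Q := act 4 n100494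
theorem D192662 : act 4 n100494 = n192662 := rfl
theorem F387398 : act 2 n192662 = n174050 := d1_1 D192662 (iv4 D174050) (iv2 F272821)
theorem F387399 : act 5 n192662 = n108472 := d9_2 D100494 D192662 (iv4 D108472) (iv5 F357957) (iv4 D100480) (iv5 D46883) D46882 D100475 D192639 F387313 (iv4 D108477) (iv5 F364111) (iv4 D100496) (iv5 D46888) D46887
theorem F387400 : act 7 n192662 = n174039 := d11_2 (iv7 F272822) D192662 (iv4 D174039)
theorem F387401 : act 0 n192662 = n175420 := d18_2 (iv1 F387301) D192662 (iv4 D175420) (iv5 D83762) (iv4 F128798) F198464 F310426 F272692 (iv5 F387300)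
theorem F387402 : act 1 n192662 = n175636 := d18_6 (iv1 F123114) F123110 (iv1 F73370) D46887 D100494 D192662 (iv4 D175636) (iv0 F128871) (iv5 D83527)
theorem F387403 : act 3 n111648 = n192662 := d8_3 F387400 F358876 (iv7 F363311)
theorem F387404 : act 6 n192662 = n111645 := d7_2 D111648 F387403 (iv3 D111645)
theorem E103519 : n111678 = n111645 := (c21_5 (iv5 F343708) (iv1 D111624) D111625 F343723 D111678 (iv6 F387404) F387399 F246679 F333020 F128630 D83542)
theorem F387405 : act 1 n111645 = n51501 := (sb E103519 (iv0 D111678))
theorem E103520 : n125863 = n111646 := ((c20_7 (iv4 D109782) F169772 (iv4 D51502) D51501 (iv1 F387405) (iv3 D111645) D111646 (iv1 D125863) (iv4 F170465) (iv3 D110256) (iv1 F169777))).symm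
theorem F387406 : act 0 n111646 = n58939 := (sb E103520 (iv1 D125863))
def n192663 : Q := act 6 n100494
theorem D192663 : act 6 n100494 = n192663 := rfl
theorem F387407 : act 2 n192663 = n174051 := d3_1 D192663 (iv6 D174051) (iv2 F272821)
theorem F387408 : act 3 n192663 = n125796 := d7_1 D192663 F387397 F387393
theorem F387409 : act 4 n192663 = n111645 := d10_1 D192663 (iv6 F387404) (iv4 D192662)
theorem F387410 : act 0 n160764 = n192663 := d21_4 F127711 F297018 D77128 D160764 (iv6 D192663) (iv5 D100494) F205698 D82894 F127683 D82901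
def n192664 : Q := act 3 n100496
theorem D192664 : act 3 n100496 = n192664 := rfl
theorem F387411 : act 4 n192664 = n189752 := d5_2 D100496 D192664 F387382 (iv4 D192657) F154554
theorem F387412 : act 5 n192664 = n108476 := d6_2 (iv5 F364111) D192664 (iv3 D108476)
theorem F387413 : act 6 n187888 = n192664 := d12_0 F387412 F364765 (iv5 F354457) D188651 (iv5 F375380)
theorem F387414 : act 0 n187818 = n192664 := d17_0 F387412 F377633 (iv5 D187963) F139612 (iv5 F292647) D187183 (iv5 F371603) (iv0 D187819) (iv4 F371602)
def n192665 : Q := act 6 n100496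
theorem D192665 : act 6 n100496 = n192665 := rfl
theorem F387415 : act 3 n192665 = n187888 := d7_1 D192665 F387413 (iv3 D192664)
theorem F387416 : act 4 n192665 = n100497 := d10_1 D192665 (iv6 D100497) D100496
theorem F387417 : act 0 n187887 = n192665 := d21_4 (iv5 F291189) (iv1 D90636) D90638 D187887 (iv6 D192665) F364111 (iv1 D50086) D50088 (iv6 F332986) (iv1 F74361)
def n192666 : Q := act 0 n100497
theorem D192666 : act 0 n100497 = n192666 := rfl
def n192667 : Q := act 5 n100497
theorem D192667 : act 5 n100497 = n192667 := rfl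
theorem F387418 : act 6 n192667 = n100500 := d12_2 D100497 D192667 (iv5 D100500) (iv6 D46889) D46888
theorem F387419 : act 7 n192667 = n192210 := d13_2 F372394 D192667 F386010
theorem F387420 : act 4 n192667 = n112862 := d17_4 (iv1 D187108) D187109 F369114 D192667 F352959 (iv0 D133415) F97669 D112902 (iv4 F377224)
def n192668 : Q := act 4 n100503
theorem D192668 : act 4 n100503 = n192668 := rfl
theorem F387421 : act 5 n192668 = n119099 := d16_1 D192668 (iv4 D119099) (iv5 D54806) (iv4 F83536) D60048 (iv4 F166667) (iv5 F187532) (iv7 F247884) (iv2 F357929)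
theorem F387422 : act 0 n192668 = n145030 := d18_2 (iv1 F357928) D192668 F356869 F314904 F95896 F94572 F311793 F309595 D54844
theorem F387423 : act 1 n192668 = n114650 := d18_6 D57730 (iv4 F314886) (iv1 F112265) (iv4 F166673) (iv5 F357930) D192668 F356873 (iv0 D123927) (iv5 D57734)
theorem F387424 : act 6 n192668 = n135599 := d21_5 (iv5 D33192) (iv1 F50924) (iv5 F83616) D114650 (iv1 F387423) F218055 F327989 D113841 F177134 (iv1 F107767)
theorem F387425 : act 3 n114536 = n192668 := d7_3 F387424 (iv3 F365726) (iv6 F178599)
theorem F387426 : act 3 n119099 = n189427 := d6_3 F376587 F387425 F387421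
theorem F387427 : act 4 n188069 = n189433 := d20_0 (iv1 D189433) F144783 (iv3 F144781) D189427 (iv3 F387426) (iv4 D119099) (iv1 F95885) D130859 (iv3 F376916) (iv1 F376920)
theorem F387428 : act 1 n187526 = n188065 := d18_6 (iv1 F376920) F387427 (iv1 D189433) F144783 (iv5 F138914) (iv4 F370685) (iv4 D188065) F370827 (iv5 F376918)
theorem F387429 : act 1 n188065 = n187891 := d15_1 F387428 (iv7 D187891) (iv2 F370684)
theorem F387430 : act 1 n188061 = n187526 := d15_0 F387428 (iv7 F376856) (iv2 F376853)
theorem F387431 : act 1 n187891 = n188061 := d15_1 F387429 F376855 (iv2 F376857)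
def n192669 : Q := act 6 n100503
theorem D192669 : act 6 n100503 = n192669 := rfl
theorem F387432 : act 3 n192669 = n100506 := d7_1 D192669 (iv6 D100506) D100503
theorem F387433 : act 4 n192669 = n135599 := d10_1 D192669 (iv6 F387424) (iv4 D192668)
theorem F387434 : act 7 n135598 = n192669 := d11_0 F387433 (iv7 D135599) D135598
theorem F387435 : act 5 n136892 = n192669 := d16_3 F100298 D64349 D136892 F387433 F218055 (iv4 F163862) (iv5 F165742) (iv7 D107437) (iv2 F100296)
def n192670 : Q := act 3 n100504
theorem D192670 : act 3 n100504 = n192670 := rfl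
theorem F387436 : act 4 n192670 = n114536 := d5_2 D100504 D192670 F387425 (iv4 D192668) (iv3 D100503)
theorem F387437 : act 0 n114370 = n192670 := d20_4 D138476 F375243 F375241 (iv3 F340013) (iv3 D192670) (iv4 D100504) (iv1 F153026) (iv4 F384971) F384970 (iv1 D138475)
theorem F387438 : act 0 n186260 = n114292 := d20_4 F356869 (iv1 D123928) D123929 (iv3 F352839) F178153 (iv4 F178382) F387437 F387436 F387425 F387422
theorem F387439 : act 0 n191714 = n186261 := d21_4 (iv5 F176066) F87480 (iv5 F152164) D191714 (iv6 D186261) D186260 F387438 F178154 (iv6 D113034) (iv1 F176064)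
def n192671 : Q := act 6 n100504
theorem D192671 : act 6 n100504 = n192671 := rfl
theorem F387440 : act 4 n192671 = n100506 := d10_1 D192671 (iv6 D100506) D100504
def n192672 : Q := act 0 n100506
theorem D192672 : act 0 n100506 = n192672 := rfl
theorem F387441 : act 6 n192672 = n100581 := d21_5 F384936 (iv1 F310438) F272728 D100506 D192672 F354681 (iv1 F383862) (iv5 F384946) (iv6 D191946) D191944
def n192673 : Q := act 1 n100506
theorem D192673 : act 1 n100506 = n192673 := rfl
def n192674 : Q := act 5 n100506
theorem D192674 : act 5 n100506 = n192674 := rfl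
theorem F387442 : act 2 n192674 = n187157 := d2_1 D192674 (iv5 F384958) F384957
theorem F387443 : act 3 n192674 = n136892 := d6_1 D192674 F387435 F387432
theorem F387444 : act 6 n192674 = n191444 := d12_2 D100506 D192674 F383494 F344109 F272728
theorem F387445 : act 0 n192674 = n186016 := d21_7 (iv5 D22530) (iv1 D10693) D10694 (iv6 F35080) D46890 D100506 D192674 (iv5 F293927) (iv6 D90786) (iv1 F293358)
theorem F387446 : act 1 n192674 = n187159 := d15_1 (iv0 F387445) (iv7 D187159) (iv2 F288595)
theorem F387447 : act 7 n187156 = n192674 := d14_0 F387444 F383493 (iv6 F372648) (iv7 F376113) (iv6 F376114)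
def n192675 : Q := act 7 n100506
theorem D192675 : act 7 n100506 = n192675 := rfl
theorem F387448 : act 3 n192675 = n135598 := d8_1 D192675 F387434 F387432
theorem F387449 : act 5 n192675 = n187156 := d13_1 D192675 F387447 (iv5 D192674)
def n192676 : Q := act 4 n100508
theorem D192676 : act 4 n100508 = n192676 := rfl
theorem F387450 : act 3 n192676 = n189755 := d5_1 D192676 (iv4 F377630) F377631 (iv4 D100509) D100508
theorem F387451 : act 0 n192676 = n171100 := d18_2 (iv1 F387355) D192676 (iv4 D171100) (iv5 D82005) (iv4 F126418) (iv0 F154553) (iv4 D100490) D100488 D192650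
def n192677 : Q := act 6 n100508
theorem D192677 : act 6 n100508 = n192677 := rfl
theorem F387452 : act 3 n192677 = n100510 := d7_1 D192677 (iv6 D100510) D100508
def n192678 : Q := act 6 n100509
theorem D192678 : act 6 n100509 = n192678 := rfl
theorem F387453 : act 4 n192678 = n100510 := d10_1 D192678 (iv6 D100510) D100509
def n192679 : Q := act 1 n100510
theorem D192679 : act 1 n100510 = n192679 := rfl
def n192680 : Q := act 7 n100510
theorem D192680 : act 7 n100510 = n192680 := rfl
theorem F387454 : act 5 n192680 = n188200 := d13_1 D192680 F372649 F367506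
def n192681 : Q := act 5 n100511
theorem D192681 : act 5 n100511 = n192681 := rfl
theorem F387455 : act 3 n192681 = n138450 := d6_1 D192681 F364771 (iv3 F332978)
def n192682 : Q := act 6 n100511
theorem D192682 : act 6 n100511 = n192682 := rfl
theorem F387456 : act 3 n192682 = n109190 := d7_1 D192682 F351225 (iv3 F332978)
theorem F387457 : act 4 n192682 = n101145 := d10_1 D192682 (iv6 D101145) (iv4 F274947)
theorem F387458 : act 7 n192682 = n109186 := d14_2 F384964 D192682 (iv6 D109186) (iv7 F168620) F384966
def n192683 : Q := act 3 n100512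
theorem D192683 : act 3 n100512 = n192683 := rfl
theorem F387459 : act 2 n192683 = n109195 := d0_1 D192683 F169164 (iv2 F168621) (iv3 F384967) (iv2 F384968)
theorem F387460 : act 6 n109193 = n192683 := d3_0 F387459 (iv6 D109195) D109193
theorem F387461 : act 0 n192683 = n187981 := d21_4 F358906 (iv1 F176726) (iv5 F169163) F387460 (iv6 D187981) F345137 (iv1 F241647) (iv5 F331133) (iv6 D109088) D109085
theorem F387462 : act 0 n136556 = n192683 := d21_4 (iv5 D53508) D53505 (iv5 F180363) (iv6 F338954) (iv6 F387460) F169163 (iv1 F176731) F203751 F345106 F180972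
def n192684 : Q := act 5 n100512
theorem D192684 : act 5 n100512 = n192684 := rfl
theorem F387463 : act 0 n124794 = n192684 := d19_0 (iv5 D192684) (iv4 F155366) D101147 (iv1 F382814) (iv5 D191264) (iv4 F308657) (iv3 D60107) F309078 (iv5 D55596) (iv4 D26839) (iv3 D12832) (iv1 D6066) F4075 (iv4 F4236) (iv3 F9802) D13259 D27780 D58345 D124794
def n192685 : Q := act 6 n100512
theorem D192685 : act 6 n100512 = n192685 := rfl
theorem F387464 : act 2 n192685 = n108687 := d3_1 D192685 F384966 (iv2 F384968)
theorem F387465 : act 3 n192685 = n109193 := d7_1 D192685 F387460 (iv3 D192683)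
theorem F387466 : act 4 n192685 = n101148 := d10_1 D192685 (iv6 D101148) F155366
theorem F387467 : act 7 n109184 = n192685 := d11_0 F387466 F373137 (iv4 F373138)
theorem F387468 : act 1 n109042 = n192685 := d17_8 F371046 (iv5 D187628) (iv1 F139110) (iv5 F139923) F331069 (iv5 D50349) D50346 D109042 F387466
theorem E103521 : n109183 = n109042 := (c15_1 D109183 F387468 (iv7 F387467) (iv2 D109184))
theorem F387469 : act 0 n109042 = n50389 := (sb E103521 (iv1 D109183))
theorem E103522 : n192677 = n152516 := ((c20_9 (iv4 F384651) F387469 D109185 F169160 D140578 F340008 (iv4 D71937) D71935 D152516 F387452 F384997)).symm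
theorem F387470 : act 3 n152516 = n100510 := (sb E103522 F387452)
theorem F387471 : act 6 n152516 = n100508 := (sb E103522 (iv6 D192677))
theorem E103523 : n192676 = n152518 := (c10_2 F387471 D192676 (iv6 D152518) D152516)
theorem F387472 : act 0 n152518 = n171100 := (sb E103523 F387451)
theorem F387473 : act 3 n152518 = n189755 := (sb E103523 F387450)
theorem F387474 : act 4 n152518 = n100508 := (sb E103523 (iv4 D192676))
theorem F387475 : act 6 n189755 = n152515 := d7_2 D152518 F387473 (iv3 D152515)
theorem F387476 : act 5 n188046 = n146549 := d21_0 (iv1 F252113) (iv5 F346146) (iv6 F387475) (iv1 D189755) F145582 (iv5 D44127) F64486 (iv5 F65635) D90758 D188046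
theorem F387477 : act 5 n140350 = n192685 := d6_0 F387465 F169163 (iv3 F223457)
theorem F387478 : act 1 n192685 = n109037 := d15_0 F373142 (iv7 F168620) (iv2 F387464)
def n192686 : Q := act 2 n100513
theorem D192686 : act 2 n100513 = n192686 := rfl
theorem F387479 : act 3 n192686 = n138474 := d0_2 D100513 D192686 (iv2 F316134) (iv3 F333013) F153019
theorem F387480 : act 4 n192686 = n101548 := d1_2 (iv4 F338891) D192686 (iv2 F200482)
theorem F387481 : act 6 n192686 = n100591 := d3_2 (iv6 F154563) D192686 (iv2 D100591)
theorem F387482 : act 5 n138746 = n192686 := d12_5 F387481 (iv5 F371981) (iv6 F371982) F223710 (iv6 F325039)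
def n192687 : Q := act 5 n100513
theorem D192687 : act 5 n100513 = n192687 := rfl
theorem F387483 : act 2 n192687 = n138746 := d2_1 D192687 F387482 (iv2 D192686)
theorem F387484 : act 3 n192687 = n100514 := d6_1 D192687 (iv5 D100514) D100513
theorem F387485 : act 6 n192687 = n141872 := d12_2 (iv6 F154563) D192687 F371985 (iv6 D187974) F293363
theorem F387486 : act 4 n192687 = n108107 := d18_5 F332976 (iv4 F368319) F368320 (iv4 F338891) D192687 (iv0 D108107) (iv4 F79396) D108556 F343118
theorem F387487 : act 6 n108107 = n105591 := d10_2 (iv6 F387485) F387486 F224917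
theorem F387488 : act 1 n192687 = n134853 := d15_0 (iv0 F343132) F316983 (iv2 F387483)
def n192688 : Q := act 7 n100513
theorem D192688 : act 7 n100513 = n192688 := rfl
theorem F387489 : act 3 n192688 = n100515 := d8_1 D192688 (iv7 D100515) D100513
theorem F387490 : act 4 n192688 = n101543 := d11_1 D192688 (iv7 F200483) (iv4 F338891)
def n192689 : Q := act 1 n100514
theorem D192689 : act 1 n100514 = n192689 := rfl
theorem F387491 : act 1 n192689 = n138749 := d15_1 D192689 (iv7 F316131) (iv2 F333017)
theorem F387492 : act 7 n192689 = n107017 := d15_2 (iv0 F345258) D192689 F358689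
theorem F387493 : act 5 n192689 = n101138 := d17_7 (iv1 F154547) (iv5 D46888) (iv1 D22519) D22520 D46892 D100514 D192689 (iv0 F387329) (iv4 D192642)
theorem F387494 : act 2 n107022 = n192689 := d2_3 F387493 (iv2 F385185) F385186
theorem F387495 : act 4 n107020 = n192689 := d9_15 F387493 (iv4 D101138) (iv5 D47110) (iv4 F155362) D83532 (iv4 F332198) (iv5 F358684) F358683 (iv5 F345256) (iv4 D101126) (iv5 D47105) (iv4 F155368) D83527 D174859 (iv5 F358711)
def n192690 : Q := act 4 n100514
theorem D192690 : act 4 n100514 = n192690 := rfl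
theorem F387496 : act 2 n192690 = n138994 := d1_1 D192690 (iv4 F316130) (iv2 F333017)
theorem F387497 : act 5 n192690 = n164192 := d9_2 D100514 D192690 F258777 (iv5 F322027) F123110 (iv5 F153023) (iv4 F384971) F384972 (iv4 F246676) F333020 (iv4 D83536) (iv5 D38505) F29534 D22520 D46892
theorem F387498 : act 6 n192690 = n142702 := d10_2 F371988 D192690 F371993
theorem F387499 : act 0 n192690 = n108472 := d18_2 (iv1 D192689) D192690 (iv4 D108472) (iv5 F357957) (iv4 D100480) D100479 D192644 F387336 (iv5 F387493)
theorem F387500 : act 1 n192690 = n108477 := d18_6 (iv1 F205701) (iv4 D100509) (iv1 D46891) D46892 D100514 D192690 (iv4 D108477) F167705 (iv5 F337621)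
theorem F387501 : act 3 n192690 = n125484 := d20_3 F387495 (iv1 D192689) D192690 (iv1 D125484) (iv3 D58748) F45122 (iv1 F37492) (iv4 F37813) (iv3 F78169) (iv1 F358710)
def n192691 : Q := act 7 n100514
theorem D192691 : act 7 n100514 = n192691 := rfl
theorem F387502 : act 2 n192691 = n138749 := d4_1 D192691 (iv7 F316131) (iv2 F333017)
theorem F387503 : act 5 n192691 = n100515 := d13_1 D192691 (iv7 D100515) D100514
theorem F387504 : act 1 n107022 = n192691 := d15_1 F358690 (iv7 D192691) F333017
theorem F387505 : act 1 n192691 = n107017 := d15_1 F387504 (iv7 F387492) (iv2 F387494)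
def n192692 : Q := act 6 n100517
theorem D192692 : act 6 n100517 = n192692 := rfl
theorem F387506 : act 2 n192692 = n100522 := d3_1 D192692 (iv6 D100522) (iv2 F154566)
theorem F387507 : act 4 n192692 = n114642 := d10_1 D192692 (iv6 D114642) (iv4 F325482)
def n192693 : Q := act 6 n100519
theorem D192693 : act 6 n100519 = n192693 := rfl
theorem F387508 : act 3 n192693 = n182273 := d7_1 D192693 F283718 F154573
theorem F387509 : act 4 n192693 = n135564 := d10_1 D192693 F352119 (iv4 F325479)
theorem F387510 : act 5 n192693 = n182267 := d12_1 D192693 (iv6 D182267) (iv5 D87026) D87027 (iv5 F154572)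
theorem F387511 : act 0 n136892 = n182267 := d21_7 (iv5 F323338) (iv1 F140416) D99945 F364670 (iv1 F357928) D192669 (iv5 F387435) (iv5 F387510) (iv6 D192693) F325478
def n192694 : Q := act 0 n100522
theorem D192694 : act 0 n100522 = n192694 := rfl
def n192695 : Q := act 1 n100522
theorem D192695 : act 1 n100522 = n192695 := rfl
def n192696 : Q := act 7 n100522
theorem D192696 : act 7 n100522 = n192696 := rfl
theorem F387512 : act 3 n192696 = n100538 := d8_1 D192696 (iv7 D100538) (iv3 F154574)
theorem F387513 : act 4 n192696 = n151233 := d11_1 D192696 (iv7 D151233) (iv4 F325485)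
def n192697 : Q := act 3 n100531
theorem D192697 : act 3 n100531 = n192697 := rfl
theorem F387514 : act 5 n192697 = n187536 := d6_2 F344198 D192697 (iv3 D187536)
theorem F387515 : act 7 n192697 = n187885 := d8_2 F293914 D192697 F371759
theorem F387516 : act 4 n192697 = n159492 := d20_6 (iv4 D71279) (iv1 D32986) D32987 F327160 D100531 D192697 (iv1 D159492) (iv4 F178308) (iv3 D114334) (iv1 F107775)
def n192698 : Q := act 6 n100531
theorem D192698 : act 6 n100531 = n192698 := rfl
theorem F387517 : act 2 n192698 = n187916 := d3_1 D192698 (iv6 D187916) F293921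
theorem F387518 : act 4 n192698 = n104008 := d10_1 D192698 (iv6 D104008) (iv4 F154596)
def n192699 : Q := act 3 n100532
theorem D192699 : act 3 n100532 = n192699 := rfl
theorem F387519 : act 5 n192699 = n109006 := d6_2 F357541 D192699 (iv3 F351291)
theorem F387520 : act 6 n192699 = n177831 := d7_2 F157070 D192699 F367935
theorem F387521 : act 7 n192699 = n187914 := d8_2 F293922 D192699 F371832
theorem F387522 : act 0 n192699 = n110219 := d21_4 (iv5 F305163) F198472 F304274 (iv6 F387520) (iv6 D110219) (iv5 D50820) (iv1 F80177) D110153 F360046 F304363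
def n192700 : Q := act 0 n100535
theorem D192700 : act 0 n100535 = n192700 := rfl
theorem F387523 : act 4 n192700 = n187579 := d20_0 (iv1 F370882) F331069 F79727 D50352 D109061 F363672 (iv1 D71285) (iv4 F107779) (iv3 F327162) D192700
theorem F387524 : act 6 n192700 = n180533 := d21_5 (iv5 F292308) (iv1 F139668) F291456 D100535 D192700 (iv5 D180533) F268480 (iv5 F354674) (iv6 D100579) F74128
theorem F387525 : act 2 n188154 = n192700 := d3_3 F387524 (iv2 F281438) F372504
theorem F387526 : act 7 n188159 = n192700 := d15_2 (iv0 F384657) F384656 (iv2 F387525)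
theorem F387527 : act 3 n192700 = n108997 := d8_1 F387526 (iv7 F359824) F372506
def n192701 : Q := act 1 n100535
theorem D192701 : act 1 n100535 = n192701 := rfl
theorem F387528 : act 7 n192701 = n188154 := d15_2 (iv0 D192700) D192701 F387525
theorem F387529 : act 4 n192701 = n187580 := d18_7 (iv1 F139108) (iv4 F373125) (iv1 D99033) (iv4 F294986) F136575 (iv4 F154602) D192701 F370876 F139923
theorem F387530 : act 3 n192694 = n141894 := d20_5 (iv4 F387529) (iv1 D192701) F154602 (iv3 F154574) D192694 (iv4 D141894) (iv1 D66526) D66527 (iv3 F331068) (iv1 F370876)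
theorem F387531 : act 2 n188159 = n192701 := d1_3 F387529 F380055 D188159
theorem F387532 : act 3 n192701 = n110160 := d20_9 D110218 F375634 F375633 (iv3 D109063) (iv1 D50353) (iv3 F79727) (iv4 F331069) (iv1 F370876) (iv4 F387529) (iv1 F170316)
def n192702 : Q := act 5 n100535
theorem D192702 : act 5 n100535 = n192702 := rfl
theorem F387533 : act 2 n192702 = n170871 := d2_1 D192702 (iv5 F384655) F384652
theorem F387534 : act 3 n192702 = n144327 := d6_1 D192702 F363666 (iv3 F327162)
theorem F387535 : act 6 n192702 = n157854 := d12_2 D100535 D192702 (iv5 F372140) (iv6 D188020) F291456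
theorem F387536 : act 4 n192702 = n189919 := d16_2 (iv4 F154602) D192702 (iv5 D189919) D189918 F378245 F367553 (iv5 F384659) (iv7 D191885) F152572
theorem F387537 : act 0 n192702 = n108986 := d18_0 F169049 (iv1 D109048) (iv4 D50348) D50349 (iv4 F331069) F370882 (iv4 F387523) (iv0 D192700) D192702
theorem F387538 : act 0 n110150 = n192702 := d18_2 D109047 (iv4 F170306) F387536 (iv5 D189919) D189918 (iv0 F378244) F196499 (iv0 F353328) (iv5 D109049)
def n192703 : Q := act 7 n100535
theorem D192703 : act 7 n100535 = n192703 := rfl
theorem F387539 : act 3 n192703 = n151250 := d8_1 D192703 (iv7 D151250) (iv3 F327162)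
theorem F387540 : act 4 n192703 = n100538 := d11_1 D192703 (iv7 D100538) (iv4 F154602)
theorem F387541 : act 1 n188159 = n192703 := d15_1 F384656 (iv7 D192703) (iv2 F384652)
theorem F387542 : act 1 n192703 = n188154 := d15_1 F387541 (iv7 F387528) (iv2 F387531)
def n192704 : Q := act 3 n100536
theorem D192704 : act 3 n100536 = n192704 := rfl
theorem F387543 : act 6 n192704 = n128663 := d7_2 (iv6 F383946) D192704 (iv3 F383942)
theorem F387544 : act 7 n192704 = n110884 := d8_2 F384645 D192704 (iv3 F384648)
theorem F387545 : act 0 n192704 = n116263 := d20_10 F363316 F223795 F343749 F343835 (iv1 D91282) F295006 (iv4 F139922) D188150 F378247 D192704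
theorem F387546 : act 5 n109170 = n192704 := d18_9 F387545 F363316 F223795 F343749 (iv5 F343823) (iv4 D109161) (iv0 D50383) D50385 D109170
theorem F387547 : act 1 n192704 = n116262 := d15_1 (iv0 F387545) F365337 F363317
theorem F387548 : act 2 n112498 = n192704 := d15_3 F387547 (iv0 D116262) (iv7 F343164)
theorem F387549 : act 4 n110257 = n192704 := d18_5 (iv1 D50851) (iv4 D24732) D24730 D50842 D110257 F387547 (iv4 F365335) F172859 (iv5 D110279)
def n192705 : Q := act 5 n100536
theorem D192705 : act 5 n100536 = n192705 := rfl
theorem F387550 : act 2 n192705 = n191804 := d2_1 D192705 (iv5 F384639) (iv2 F384640)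
theorem F387551 : act 3 n192705 = n109170 := d6_1 D192705 F387546 (iv3 D192704)
theorem F387552 : act 6 n192705 = n128660 := d12_2 (iv6 F383946) D192705 (iv5 D128660) (iv6 F354672) D191601
theorem F387553 : act 7 n192705 = n191803 := d13_2 F384645 D192705 F384646
theorem F387554 : act 4 n192705 = n186863 := d16_2 F378247 D192705 (iv5 D186863) F307587 D95461 D189922 (iv5 F378261) F372496 F372493
theorem F387555 : act 1 n192705 = n189214 := d17_8 F370529 F350736 F378244 F378245 F367553 (iv5 F384659) F384662 D192705 F376116
theorem F387556 : act 0 n192705 = n186632 := d21_1 D192705 F367506 (iv6 D100510) (iv1 D46891) F35080 (iv5 D10694) D10692 D22525 D46903 D100536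
theorem F387557 : act 0 n191879 = n189078 := d21_4 F367506 F384997 (iv5 D191878) D191879 (iv6 D189078) (iv5 F333051) (iv1 D128658) D128660 (iv6 F387552) F387556
def n192706 : Q := act 5 n100537
theorem D192706 : act 5 n100537 = n192706 := rfl
theorem F387558 : act 2 n192706 = n191803 := d2_1 D192706 F384646 (iv2 F384650)
theorem F387559 : act 3 n192706 = n139516 := d6_1 D192706 F387217 (iv3 F387214)
theorem F387560 : act 7 n192706 = n191804 := d13_2 (iv7 F384642) D192706 (iv5 F384639)
theorem F387561 : act 4 n192706 = n189159 := d16_4 D189922 (iv5 F378261) F384643 D192706 F375884 F378004 F378007 (iv7 F378231) F378229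
theorem F387562 : act 6 n192706 = n186292 := d21_9 (iv5 F154150) F374448 F384551 F384554 (iv1 F367557) F367554 (iv5 F384659) (iv1 F384661) D192706 (iv1 F359442)
theorem F387563 : act 0 n186632 = n192706 := d21_10 (iv5 D192706) (iv1 D100537) (iv5 F136575) (iv6 D88980) (iv1 D41543) (iv6 F64080) (iv5 D41534) D41532 D88951 D186632
theorem E103524 : n192679 = n191880 := ((c17_10 (iv1 D192679) (iv5 F367506) F387563 (iv5 D192706) (iv4 F384643) F378261 (iv0 F378257) F387477 F387478 (iv4 F384635))).symm
theorem F387564 : act 0 n191880 = n100510 := (sb E103524 (iv1 D192679))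
theorem F387565 : act 1 n189214 = n192706 := d15_0 (iv0 F387563) (iv7 F372649) (iv2 F376115)
theorem F387566 : act 0 n192678 = n188348 := d18_2 F387564 (iv4 F387453) (iv4 D188348) (iv5 D91226) D91225 F372994 F294578 D99045 D191880
theorem E103525 : n191881 = n191824 := ((c21_5 (iv5 D174788) (iv1 F304505) (iv5 D98976) D98977 D191824 (iv6 D191881) D191880 F387564 (iv5 F367506) (iv6 D186632) (iv1 F304508))).symm
theorem F387567 : act 4 n191824 = n188369 := (sb E103525 F384637)
theorem F387568 : act 6 n191824 = n99045 := (sb E103525 (iv6 D191881))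
def n192707 : Q := act 6 n100537
theorem D192707 : act 6 n100537 = n192707 := rfl
theorem F387569 : act 2 n192707 = n110882 := d3_1 D192707 F384647 (iv2 F384650)
theorem F387570 : act 3 n192707 = n116252 := d7_1 D192707 F387215 (iv3 F387214)
theorem F387571 : act 4 n192707 = n140362 := d10_1 D192707 F372498 F384643
theorem F387572 : act 0 n192707 = n141136 := d21_10 (iv5 F350422) (iv1 D111448) (iv5 F171816) (iv6 F350409) (iv1 F153025) D100510 (iv5 F367506) F387563 (iv5 D192706) D192707
theorem F387573 : act 5 n110881 = n192707 := d21_2 F361316 (iv1 F171783) (iv6 D192707) (iv1 D100537) (iv6 D46903) (iv5 D22525) (iv1 F293341) D42552 F329789 D139325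
theorem F387574 : act 7 n192707 = n141133 := d13_2 (iv7 F171782) F387573 (iv5 D141133)
theorem F387575 : act 1 n192707 = n141135 := d17_6 D65881 D140357 F350417 (iv5 D141819) (iv4 F171781) F387573 F350418 (iv0 D111447) F81165
def n192708 : Q := act 5 n100543
theorem D192708 : act 5 n100543 = n192708 := rfl
theorem F387576 : act 2 n192708 = n184521 := d2_1 D192708 F370605 (iv2 F370601)
theorem F387577 : act 3 n192708 = n159829 := d6_1 D192708 F251921 F177337
theorem F387578 : act 7 n192708 = n159824 := d13_2 F177336 D192708 (iv5 D159824)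
theorem F387579 : act 0 n192708 = n188627 := d17_2 F154731 D192708 (iv5 F377082) F377081 F361034 F286370 F286368 F134960 D87985
theorem F387580 : act 4 n192708 = n101109 := d17_4 (iv1 F373342) (iv5 D184494) F154731 D192708 (iv5 F283461) F349305 F340060 F340063 D184508
def n192709 : Q := act 6 n100544
theorem D192709 : act 6 n100544 = n192709 := rfl
def n192710 : Q := act 6 n100546
theorem D192710 : act 6 n100546 = n192710 := rfl
theorem F387581 : act 2 n192710 = n100551 := d3_1 D192710 (iv6 D100551) (iv2 F154625)
theorem F387582 : act 3 n192710 = n152236 := d7_1 D192710 F239296 (iv3 F365305)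
theorem F387583 : act 4 n192710 = n189009 := d10_1 D192710 (iv6 D189009) F340055
def n192711 : Q := act 3 n100548
theorem D192711 : act 3 n100548 = n192711 := rfl
theorem F387584 : act 5 n192711 = n191688 := d6_2 F372242 D192711 F384157
theorem F387585 : act 0 n192711 = n192038 := d20_4 D184508 (iv1 F373342) (iv4 F340058) D192711 F385314 (iv4 F345090) F358822 (iv4 F373359) F373358 F340064
theorem F387586 : act 0 n183982 = n192711 := d17_2 (iv1 D183981) D183982 F387584 (iv4 D191688) F370854 F370852 (iv5 D91350) (iv0 F293970) F293972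
def n192712 : Q := act 6 n100548
theorem D192712 : act 6 n100548 = n192712 := rfl
def n192713 : Q := act 6 n100549
theorem D192713 : act 6 n100549 = n192713 := rfl
theorem F387587 : act 4 n192713 = n114799 := d10_1 D192713 F371370 F364372
def n192714 : Q := act 0 n100551
theorem D192714 : act 0 n100551 = n192714 := rfl
def n192715 : Q := act 1 n100551
theorem D192715 : act 1 n100551 = n192715 := rfl
def n192716 : Q := act 7 n100551
theorem D192716 : act 7 n100551 = n192716 := rfl
theorem F387588 : act 3 n192716 = n100559 := d8_1 D192716 (iv7 D100559) (iv3 F154628)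
def n192717 : Q := act 3 n100552
theorem D192717 : act 3 n100552 = n192717 := rfl
theorem F387589 : act 2 n192717 = n114934 := d0_1 D192717 (iv3 F380664) F380667 F378132 F251234
theorem F387590 : act 4 n192717 = n102521 := d5_2 (iv4 F339758) D192717 F357321 F333332 F339761
theorem F387591 : act 5 n192717 = n114928 := d6_2 F363720 D192717 (iv3 F366793)
theorem F387592 : act 6 n192717 = n189892 := d7_2 (iv6 F380801) D192717 F380800
theorem F387593 : act 7 n192717 = n192054 := d8_2 (iv7 F251235) D192717 F385363
theorem F387594 : act 0 n192717 = n102466 := d20_4 (iv4 F349297) (iv1 F363719) (iv4 F339758) D192717 (iv3 D102466) (iv4 F292664) F292661 (iv4 F356442) F356441 F349312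
theorem F387595 : act 0 n183983 = n192717 := d20_4 F73587 D88309 (iv4 F289896) (iv3 F285866) (iv3 D192717) F339758 (iv1 F339762) (iv4 F372842) F372837 F344347
def n192718 : Q := act 0 n100556
theorem D192718 : act 0 n100556 = n192718 := rfl
theorem F387596 : act 4 n192718 = n104014 := d18_3 (iv1 D100558) (iv4 F154631) D192718 (iv5 F368352) (iv4 F378755) (iv0 F378756) D190123 (iv0 F378936) (iv5 F366787)
def n192719 : Q := act 1 n100556
theorem D192719 : act 1 n100556 = n192719 := rfl
def n192720 : Q := act 5 n100556
theorem D192720 : act 5 n100556 = n192720 := rfl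
def n192721 : Q := act 7 n100556
theorem D192721 : act 7 n100556 = n192721 := rfl
theorem F387597 : act 4 n192721 = n100559 := d11_1 D192721 (iv7 D100559) (iv4 F154631)
def n192722 : Q := act 4 n100557
theorem D192722 : act 4 n100557 = n192722 := rfl
def n192723 : Q := act 5 n100557
theorem D192723 : act 5 n100557 = n192723 := rfl
theorem F387598 : act 3 n192723 = n160078 := d6_1 D192723 (iv5 F387227) F387229
theorem F387599 : act 7 n192723 = n160075 := d13_2 (iv7 F385000) D192723 F384990
theorem F387600 : act 1 n190066 = n192723 := d15_1 (iv0 F378764) F387599 (iv2 F255566)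
def n192724 : Q := act 6 n100557
theorem D192724 : act 6 n100557 = n192724 := rfl
def n192725 : Q := act 0 n100564
theorem D192725 : act 0 n100564 = n192725 := rfl
theorem F387601 : act 4 n192725 = n100707 := d20_8 (iv4 F139599) (iv1 F139600) (iv4 D42459) D42458 (iv1 F157293) (iv3 F228239) F361013 D192725 F154814 F291183
theorem F387602 : act 7 n100705 = n192725 := d11_0 F387601 (iv7 D100707) D100705
def n192726 : Q := act 5 n100564
theorem D192726 : act 5 n100564 = n192726 := rfl
theorem F387603 : act 2 n192726 = n185480 := d2_1 D192726 (iv5 F361006) F361004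
theorem F387604 : act 3 n192726 = n100570 := d6_1 D192726 (iv5 D100570) (iv3 F154640)
theorem F387605 : act 6 n192726 = n102670 := d12_2 D100564 D192726 F157911 F154636 (iv5 D100563)
def n192727 : Q := act 7 n100564
theorem D192727 : act 7 n100564 = n192727 := rfl
theorem F387606 : act 3 n192727 = n100571 := d8_1 D192727 (iv7 D100571) (iv3 F154640)
theorem F387607 : act 1 n100705 = n192727 := d15_1 (iv0 F361014) (iv7 D192727) (iv2 F361004)
def n192728 : Q := act 0 n100567
theorem D192728 : act 0 n100567 = n192728 := rfl
theorem F387608 : act 4 n192728 = n188358 := d20_0 F373177 F345218 F281424 D180792 F351191 (iv4 D90695) (iv1 F157293) (iv4 F339959) (iv3 F339961) D192728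
theorem F387609 : act 6 n188357 = n192728 := d10_0 F387608 (iv6 D188358) D188357
def n192729 : Q := act 1 n100567
theorem D192729 : act 1 n100567 = n192729 := rfl
def n192730 : Q := act 7 n100567
theorem D192730 : act 7 n100567 = n192730 := rfl
theorem F387610 : act 3 n192730 = n110985 := d8_1 D192730 F172031 (iv3 F339961)
theorem F387611 : act 4 n192730 = n100571 := d11_1 D192730 (iv7 D100571) (iv4 F154642)
theorem F387612 : act 5 n192730 = n110984 := d13_1 D192730 F172029 F363665
def n192731 : Q := act 3 n100568
theorem D192731 : act 3 n100568 = n192731 := rfl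
theorem F387613 : act 6 n192731 = n179867 := d7_2 (iv6 F384636) D192731 (iv3 F384634)
def n192732 : Q := act 5 n100568
theorem D192732 : act 5 n100568 = n192732 := rfl
def n192733 : Q := act 3 n100569
theorem D192733 : act 3 n100569 = n192733 := rfl
def n192734 : Q := act 4 n100569
theorem D192734 : act 4 n100569 = n192734 := rfl
theorem F387614 : act 2 n192734 = n153783 := d1_1 D192734 F385004 F385007
theorem F387615 : act 1 n192734 = n192228 := d18_8 F349904 F241615 (iv1 F349896) F219973 F363665 F154642 D100569 D192734 F386105
theorem F387616 : act 0 n192734 = n100585 := d20_1 D192734 F154651 (iv3 F153806) F372003 (iv3 D71955) (iv4 D33244) D33242 D71947 D152550 (iv1 F361020)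
def n192735 : Q := act 5 n100569
theorem D192735 : act 5 n100569 = n192735 := rfl
theorem F387617 : act 6 n192262 = n192735 := d21_5 (iv5 D22911) (iv1 F66540) (iv5 F73773) D99943 D192262 (iv5 D192735) (iv1 D100569) D100570 F154643 (iv1 D47618)
def n192736 : Q := act 6 n100569
theorem D192736 : act 6 n100569 = n192736 := rfl
def n192737 : Q := act 1 n100570
theorem D192737 : act 1 n100570 = n192737 := rfl
theorem F387618 : act 5 n192724 = n192737 := d21_6 (iv5 D42552) F293340 D22530 D46911 D100557 D192724 (iv1 D192737) (iv5 D100570) (iv6 D46915) (iv1 F293166)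
def n192738 : Q := act 7 n100570
theorem D192738 : act 7 n100570 = n192738 := rfl
theorem F387619 : act 5 n192738 = n100571 := d13_1 D192738 (iv7 D100571) D100570
theorem F387620 : act 6 n192738 = n191631 := d14_1 D192738 (iv7 D191631) F151993 (iv7 F74879) (iv6 F154643)
def n192739 : Q := act 6 n100574
theorem D192739 : act 6 n100574 = n192739 := rfl
theorem F387621 : act 2 n192739 = n100576 := d3_1 D192739 (iv6 D100576) D100574
theorem F387622 : act 5 n192739 = n191579 := d12_1 D192739 (iv6 D191579) (iv5 D98570) D98571 (iv5 F154644)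
def n192740 : Q := act 0 n100576
theorem D192740 : act 0 n100576 = n192740 := rfl
def n192741 : Q := act 1 n100576
theorem D192741 : act 1 n100576 = n192741 := rfl
def n192742 : Q := act 7 n100579
theorem D192742 : act 7 n100579 = n192742 := rfl
theorem F387623 : act 4 n192742 = n100582 := d11_1 D192742 (iv7 D100582) (iv4 F154648)
theorem F387624 : act 5 n192742 = n180796 := d13_1 D192742 F281430 (iv5 F354674)
theorem F387625 : act 1 n180439 = n192742 := d15_1 F354719 (iv7 D192742) (iv2 F155869)
theorem F387626 : act 1 n192742 = n180449 := d15_1 F387625 F280855 (iv2 F280830)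
def n192743 : Q := act 6 n100580
theorem D192743 : act 6 n100580 = n192743 := rfl
def n192744 : Q := act 5 n100583
theorem D192744 : act 5 n100583 = n192744 := rfl
theorem F387627 : act 3 n192744 = n100584 := d6_1 D192744 (iv5 D100584) D100583
theorem F387628 : act 7 n192744 = n180499 := d13_2 (iv7 F345221) D192744 (iv5 D180499)
def n192745 : Q := act 6 n100584
theorem D192745 : act 6 n100584 = n192745 := rfl
theorem F387629 : act 2 n192745 = n187878 := d3_1 D192745 (iv6 D187878) F293725
theorem F387630 : act 4 n192745 = n100669 := d10_1 D192745 (iv6 D100669) (iv4 F154650)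
def n192746 : Q := act 2 n100586
theorem D192746 : act 2 n100586 = n192746 := rfl
theorem F387631 : act 3 n192746 = n114529 := d0_2 D100586 D192746 F351120 (iv3 F345207) F147825
theorem F387632 : act 4 n192746 = n192227 := d1_2 F351174 D192746 F386097
theorem F387633 : act 7 n192746 = n187978 := d4_2 F351161 D192746 (iv2 F372000)
theorem F387634 : act 1 n192746 = n187552 := d15_0 (iv0 F370782) F351161 D192746
theorem F387635 : act 1 n187979 = n192746 := d15_0 F387634 F370781 D187979
theorem F387636 : act 6 n192746 = n170838 := d21_5 (iv5 D66523) F84422 (iv5 F180359) (iv6 F370783) (iv1 F387634) (iv5 D170838) D170835 (iv5 F386113) (iv6 D140550) F180974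
def n192747 : Q := act 5 n100586
theorem D192747 : act 5 n100586 = n192747 := rfl
theorem F387637 : act 3 n192747 = n100587 := d6_1 D192747 (iv5 D100587) D100586
theorem F387638 : act 7 n192747 = n187877 := d13_2 F351161 D192747 F371748
theorem F387639 : act 0 n192747 = n187990 := d20_4 (iv4 D90304) F292728 (iv4 F154652) (iv3 F387637) (iv3 D187990) F139624 (iv1 F293358) D46910 (iv3 F340057) F139688
theorem E103526 : n188111 = n141901 := (c21_4 D192747 F387639 F372043 D188111 (iv1 D141901) (iv6 D66528) (iv5 D31052) D31049 (iv5 F180140) D140574 (iv1 F372007))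
theorem F387640 : act 2 n141901 = n188422 := (sb E103526 F373428)
theorem F387641 : act 3 n141901 = n90817 := (sb E103526 F372347)
theorem F387642 : act 6 n141901 = n90816 := (sb E103526 (iv6 D188111))
theorem F387643 : act 7 n141901 = n188423 := (sb E103526 (iv7 F373427))
theorem F387644 : act 2 n188423 = n141900 := d15_3 (iv0 D141900) D141901 F387643
theorem F387645 : act 7 n188422 = n141900 := d4_2 (iv7 F387643) F387640 (iv2 F387644)
def n192748 : Q := act 6 n100586
theorem D192748 : act 6 n100586 = n192748 := rfl
theorem F387646 : act 2 n192748 = n170838 := d3_1 D192748 (iv6 F387636) (iv2 D192746)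
theorem F387647 : act 3 n192748 = n100588 := d7_1 D192748 (iv6 D100588) D100586
theorem F387648 : act 4 n192748 = n192232 := d10_1 D192748 F386132 F351174
theorem F387649 : act 7 n192748 = n192229 := d14_2 F351161 D192748 (iv6 D192229) F294720 D103847
theorem F387650 : act 5 n192748 = n170837 := d21_6 (iv5 D31052) D31049 (iv5 F180140) D140574 (iv1 F372007) D192748 (iv1 F281400) (iv5 F364846) (iv6 D141895) (iv1 D66526)
def n192749 : Q := act 6 n100587
theorem D192749 : act 6 n100587 = n192749 := rfl
theorem F387651 : act 2 n192749 = n180493 := d3_1 D192749 F362676 (iv2 F293426)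
theorem F387652 : act 4 n192749 = n100658 := d10_1 D192749 (iv6 D100658) (iv4 F154652)
theorem F387653 : act 5 n192749 = n180488 := d12_1 D192749 (iv6 D180488) (iv5 F345212) (iv6 D100588) D100587
def n192750 : Q := act 0 n100589
theorem D192750 : act 0 n100589 = n192750 := rfl
theorem F387654 : act 2 n100593 = n192750 := d15_3 (iv0 D192750) (iv0 D100589) D100593
theorem F387655 : act 3 n192750 = n153786 := d0_2 (iv3 F154655) F387654 (iv2 F345139) F345136 F293367
theorem F387656 : act 4 n192750 = n188266 := d1_2 F387273 F387654 (iv2 F387271)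
theorem F387657 : act 7 n192750 = n100591 := d4_2 D100593 F387654 (iv2 D100591)
theorem F387658 : act 1 n100590 = n192750 := d15_1 D100590 F387657 (iv2 D100591)
def n192751 : Q := act 3 n100589
theorem D192751 : act 3 n100589 = n192751 := rfl
theorem F387659 : act 2 n192751 = n114527 := d0_1 D192751 (iv3 D114527) (iv2 F83512) D114355 F365261
theorem F387660 : act 0 n187554 = n192751 := d20_4 F139599 F138954 F138941 D187554 (iv3 D192751) F371868 (iv1 F371867) F371864 (iv3 D90686) D90684
theorem F387661 : act 1 n187972 = n192751 := d15_0 (iv0 F387660) F370791 D187972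
theorem F387662 : act 7 n187971 = n192751 := d4_0 F387659 F178589 F371979
theorem F387663 : act 1 n114348 = n187972 := d15_0 F387661 (iv7 F387662) (iv2 F371979)
def n192752 : Q := act 5 n100589
theorem D192752 : act 5 n100589 = n192752 := rfl
theorem F387664 : act 2 n192752 = n114334 := d2_1 D192752 (iv5 F178323) F365261
theorem F387665 : act 4 n159493 = n192752 := d1_0 F387664 F178308 D159493
theorem F387666 : act 7 n188053 = n192752 := d4_0 F387664 (iv7 F205607) F372228
theorem F387667 : act 1 n192752 = n187570 := d15_0 (iv0 F370839) F205607 (iv2 F387664)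
theorem F387668 : act 1 n188054 = n192752 := d15_0 F387667 F370838 D188054
theorem F387669 : act 1 n127806 = n188054 := d15_0 F387668 (iv7 F387666) (iv2 F372228)
def n192753 : Q := act 6 n100589
theorem D192753 : act 6 n100589 = n192753 := rfl
def n192754 : Q := act 7 n100589
theorem D192754 : act 7 n100589 = n192754 := rfl
theorem F387670 : act 2 n192754 = n100590 := d4_1 D192754 F365260 F365261
theorem F387671 : act 3 n192754 = n187971 := d8_1 D192754 F387662 (iv3 D192751)
theorem F387672 : act 5 n192754 = n188053 := d13_1 D192754 F387666 (iv5 D192752)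
theorem F387673 : act 1 n100591 = n192754 := d15_1 (iv0 F372032) (iv7 D192754) (iv2 F365261)
theorem F387674 : act 1 n192754 = n100593 := d15_1 F387673 (iv7 D100593) D100591
def n192755 : Q := act 6 n100590
theorem D192755 : act 6 n100590 = n192755 := rfl
theorem F387675 : act 3 n192755 = n114526 := d7_1 D192755 (iv6 D114526) (iv3 F365257)
theorem F387676 : act 4 n192755 = n183017 := d10_1 D192755 F362815 (iv4 F365258)
theorem F387677 : act 7 n188464 = n192755 := d11_0 F387676 F362816 D188464
theorem F387678 : act 0 n188263 = n192755 := d18_2 F370892 D188263 F387676 F362814 F135285 (iv0 F344358) (iv4 D91120) F139079 D187583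
theorem F387679 : act 1 n188260 = n192755 := d18_6 (iv1 D40610) (iv4 F31386) D41653 F295298 (iv5 F357623) D188260 F387676 F284644 (iv5 D87378)
def n192756 : Q := act 6 n100593
theorem D192756 : act 6 n100593 = n192756 := rfl
theorem F387680 : act 3 n192756 = n100597 := d7_1 D192756 (iv6 D100597) (iv3 F154655)
def n192757 : Q := act 3 n100598
theorem D192757 : act 3 n100598 = n192757 := rfl
theorem F387681 : act 4 n114503 = n192757 := d20_2 (iv4 D114639) (iv1 F349970) (iv3 D192757) (iv1 F350411) (iv3 D110906) (iv4 F80666) D51379 F81106 (iv3 F98209) (iv1 F353534)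
theorem F387682 : act 0 n119211 = n192757 := d20_7 (iv4 F331525) F331523 F178567 D127788 F290515 F94987 D119211 (iv4 F387681) (iv3 D114503) (iv1 F112701)
def n192758 : Q := act 4 n100598
theorem D192758 : act 4 n100598 = n192758 := rfl
theorem F387683 : act 3 n192758 = n114328 := d5_1 D192758 F178564 D114503 F387681 (iv3 D192757)
theorem F387684 : act 5 n192758 = n100991 := d18_4 (iv1 F372466) F154662 D100598 D192758 F155613 D100993 (iv4 F357507) F164689 D140364
def n192759 : Q := act 6 n100598
theorem D192759 : act 6 n100598 = n192759 := rfl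
theorem F387685 : act 5 n192759 = n187108 := d21_6 (iv5 D46467) (iv1 F34744) (iv5 F35084) D46924 D100598 D192759 (iv1 D187108) D187109 F369113 F137273
def n192760 : Q := act 4 n100599
theorem D192760 : act 4 n100599 = n192760 := rfl
theorem F387686 : act 3 n192760 = n106918 := d5_1 D192760 (iv4 F336038) F209556 D130950 (iv3 F350406)
theorem F387687 : act 0 n192760 = n187960 := d20_1 D192760 F371957 (iv3 F357499) (iv1 D139290) F101075 F81110 (iv1 D51380) F80666 D110906 F354331
theorem F387688 : act 5 n140433 = n192760 := d6_0 F387686 F223615 D140433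
def n192761 : Q := act 6 n100599
theorem D192761 : act 6 n100599 = n192761 := rfl
def n192762 : Q := act 4 n100639
theorem D192762 : act 4 n100639 = n192762 := rfl
theorem F387689 : act 3 n192762 = n152532 := d5_1 D192762 F239712 (iv3 F177193) D151224 (iv3 F366025)
theorem F387690 : act 6 n192762 = n136652 := d10_2 F385484 D192762 (iv4 F385485)
theorem F387691 : act 0 n192762 = n139447 := d18_2 D100639 D192762 F385316 (iv5 D192038) (iv4 F285825) (iv0 F285828) F150961 (iv0 F177420) D46940
def n192763 : Q := act 3 n100640
theorem D192763 : act 3 n100640 = n192763 := rfl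
theorem F387692 : act 5 n192763 = n189286 := d6_2 F335413 D192763 F376330
theorem F387693 : act 4 n192763 = n192600 := d20_6 (iv4 F140502) (iv1 F140501) (iv4 D87824) (iv3 F134789) (iv1 F154736) D192763 (iv1 F387211) (iv4 D100445) F74087 (iv1 F134775)
theorem F387694 : act 0 n101084 = n192763 := d18_0 F387693 (iv1 F387211) (iv4 D100445) (iv5 D46874) (iv4 F65164) D90307 (iv4 F177400) F177398 D101084
theorem F387695 : act 1 n184504 = n192763 := d15_0 (iv0 F387694) (iv7 F385293) F385291
def n192764 : Q := act 4 n100640
theorem D192764 : act 4 n100640 = n192764 := rfl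
theorem F387696 : act 0 n139447 = n192764 := d20_10 (iv4 D192764) (iv1 D100640) D100641 (iv3 F372036) F373379 F198252 (iv4 F198412) F364126 F172863 (iv3 F222640)
def n192765 : Q := act 6 n100640
theorem D192765 : act 6 n100640 = n192765 := rfl
theorem F387697 : act 2 n192765 = n191736 := d3_1 D192765 F384297 (iv2 F370850)
theorem F387698 : act 5 n192765 = n186673 := d12_1 D192765 F367623 (iv5 D185984) (iv6 F335414) F335413
theorem F387699 : act 4 n159717 = n192765 := d16_2 (iv4 F114560) (iv5 F251638) F387698 (iv4 D186673) (iv5 D89025) F64177 (iv5 F55257) D76405 F114545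
theorem F387700 : act 6 n192764 = n159717 := d10_0 F387699 (iv6 D192765) D192764
theorem F387701 : act 7 n192765 = n159716 := d11_2 D159717 F387699 (iv4 D159716)
def n192766 : Q := act 0 n100641
theorem D192766 : act 0 n100641 = n192766 := rfl
theorem F387702 : act 1 n184119 = n192766 := d15_0 (iv0 D192766) (iv7 F370857) F370856
def n192767 : Q := act 1 n100641
theorem D192767 : act 1 n100641 = n192767 := rfl
theorem F387703 : act 1 n192767 = n184119 := d15_1 D192767 (iv7 F373292) F373291
def n192768 : Q := act 5 n100641
theorem D192768 : act 5 n100641 = n192768 := rfl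
theorem F387704 : act 3 n192768 = n185315 := d6_1 D192768 F373376 F372036
theorem F387705 : act 6 n185314 = n192768 := d7_0 F387704 (iv6 D185315) D185314
def n192769 : Q := act 6 n100641
theorem D192769 : act 6 n100641 = n192769 := rfl
theorem F387706 : act 3 n192769 = n188413 := d7_1 D192769 (iv6 F373375) F372036
theorem F387707 : act 4 n192769 = n100642 := d10_1 D192769 (iv6 D100642) D100641
def n192770 : Q := act 0 n100642
theorem D192770 : act 0 n100642 = n192770 := rfl
def n192771 : Q := act 1 n100642
theorem D192771 : act 1 n100642 = n192771 := rfl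
theorem F387708 : act 5 n192771 = n151324 := d17_7 (iv1 D76404) F55257 D43865 D93841 (iv4 F368491) F368492 D192771 F354955 F354948
theorem F387709 : act 1 n192765 = n192769 := d18_6 (iv1 F354956) (iv4 D159696) (iv1 F114548) (iv4 F114560) (iv5 F251638) F387699 F387707 D192771 F387708
theorem F387710 : act 6 n136650 = n192771 := d21_3 (iv5 D123750) (iv1 F311848) (iv5 F342018) (iv1 D192771) (iv6 D100642) (iv5 D46940) F177420 D97947 (iv6 F382810) F382813
theorem F387711 : act 4 n192771 = n136651 := d10_1 F387710 (iv6 D136651) D136650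
theorem F387712 : act 0 n141226 = n136651 := d20_10 (iv4 F387711) (iv1 D192771) (iv4 F387707) F387706 (iv1 D188413) (iv3 F364133) F364134 (iv1 D140711) (iv4 F101834) (iv3 F224251)
theorem F387713 : act 3 n160096 = n192771 := d6_3 F387708 F238043 D160096
def n192772 : Q := act 7 n100642
theorem D192772 : act 7 n100642 = n192772 := rfl
theorem F387714 : act 3 n192772 = n100649 := d8_1 D192772 (iv7 D100649) (iv3 F154737)
def n192773 : Q := act 3 n100647
theorem D192773 : act 3 n100647 = n192773 := rfl
def n192774 : Q := act 4 n100647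
theorem D192774 : act 4 n100647 = n192774 := rfl
theorem F387715 : act 2 n192774 = n192718 := d1_1 D192774 F387596 (iv2 F289428)
theorem F387716 : act 1 n192774 = n191955 := d18_6 F366470 (iv4 F361109) F366367 (iv4 F378929) F378930 D192774 F384987 D191957 (iv5 F384990)
theorem F387717 : act 7 n192719 = n192774 := d15_2 (iv0 D192718) D192719 F387715
theorem F387718 : act 4 n104015 = n192719 := d11_3 F387717 (iv4 D192774) F289426
def n192775 : Q := act 6 n100647
theorem D192775 : act 6 n100647 = n192775 := rfl
def n192776 : Q := act 3 n100648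
theorem D192776 : act 3 n100648 = n192776 := rfl
theorem F387719 : act 5 n192776 = n114837 := d6_2 F154739 D192776 (iv3 F308360)
def n192777 : Q := act 4 n100648
theorem D192777 : act 4 n100648 = n192777 := rfl
theorem F387720 : act 2 n192777 = n192719 := d1_1 D192777 (iv4 F387718) F289425
theorem F387721 : act 6 n192777 = n139616 := d10_2 F357954 D192777 F357937
theorem F387722 : act 7 n192777 = n192718 := d11_2 F289427 D192777 F387596
theorem F387723 : act 1 n191955 = n192777 := d15_1 F387716 F387722 (iv2 F387715)
theorem F387724 : act 1 n192777 = n192721 := d15_1 F387723 (iv7 D192721) (iv2 F384985)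
theorem F387725 : act 1 n192721 = n192774 := d15_1 F387724 (iv7 F387717) (iv2 F387720)
theorem F387726 : act 3 n139618 = n192777 := d7_3 F387721 F222772 D139618
def n192778 : Q := act 0 n100658
theorem D192778 : act 0 n100658 = n192778 := rfl
theorem F387727 : act 6 n192778 = n191345 := d21_5 D42460 F292208 D46947 D100658 D192778 (iv5 F383137) (iv1 D188664) F142682 (iv6 D90324) (iv1 F65180)
theorem F387728 : act 2 n187875 = n192778 := d3_3 F387727 F383138 F375268
theorem F387729 : act 0 n192778 = n114470 := d21_10 (iv5 D114470) (iv1 D52835) D52836 F83488 (iv1 F138887) D90605 (iv5 F143193) (iv1 F374346) F383137 (iv6 F387727)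
theorem F387730 : act 7 n187876 = n192778 := d15_2 (iv0 D187875) D187876 (iv2 F387728)
def n192779 : Q := act 1 n100658
theorem D192779 : act 1 n100658 = n192779 := rfl
theorem F387731 : act 1 n192779 = n114470 := d15_1 D192779 F178526 (iv2 F293427)
theorem F387732 : act 7 n192779 = n187875 := d15_2 (iv0 D192778) D192779 F387728
theorem F387733 : act 5 n192779 = n175814 := d17_7 F355110 (iv5 D80426) D80424 (iv5 F359839) (iv4 D114466) (iv5 F293428) D192779 F353805 (iv4 F225420)
theorem F387734 : act 6 n151257 = n192779 := d21_3 D187945 F371904 F363675 (iv1 D192779) (iv6 D100658) (iv5 D46947) (iv1 F293196) (iv5 D42455) D42456 D90689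
theorem F387735 : act 3 n192779 = n114493 := d7_1 F387734 F178988 D151257
theorem F387736 : act 4 n192779 = n108941 := d10_1 F387734 (iv6 F353304) (iv4 F363673)
theorem F387737 : act 2 n187876 = n192779 := d2_3 F387733 (iv2 F352415) F371747
def n192780 : Q := act 7 n100658
theorem D192780 : act 7 n100658 = n192780 := rfl
theorem F387738 : act 2 n192780 = n114470 := d4_1 D192780 F178526 (iv2 F293427)
theorem F387739 : act 5 n192780 = n114441 := d13_1 D192780 F178475 (iv5 F293428)
theorem F387740 : act 6 n192780 = n187829 := d14_1 D192780 F374919 (iv6 D90634) F292727 D100658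
theorem F387741 : act 1 n187876 = n192780 := d15_1 D187876 (iv7 D192780) F293427
theorem F387742 : act 1 n192780 = n187875 := d15_1 F387741 (iv7 F387732) (iv2 F387737)
def n192781 : Q := act 4 n100667
theorem D192781 : act 4 n100667 = n192781 := rfl
theorem F387743 : act 7 n192781 = n187873 := d11_2 (iv7 F364364) D192781 (iv4 D187873)
theorem F387744 : act 0 n192781 = n191342 := d17_0 F383126 F308377 (iv5 F294573) (iv4 F362828) F142618 F67985 D90283 (iv0 F364359) D192781
theorem F387745 : act 5 n185302 = n192781 := d21_6 (iv5 D33573) D33571 D72769 D153841 F310371 D185302 F387744 F383126 (iv6 D153862) (iv1 D72777)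
def n192782 : Q := act 6 n100667
theorem D192782 : act 6 n100667 = n192782 := rfl
theorem F387746 : act 3 n192782 = n100669 := d7_1 D192782 (iv6 D100669) (iv3 F154769)
theorem F387747 : act 5 n192782 = n187761 := d12_1 D192782 (iv6 D187761) F364355 (iv6 D100668) D100667
def n192783 : Q := act 1 n100669
theorem D192783 : act 1 n100669 = n192783 := rfl
theorem F387748 : act 1 n192783 = n187829 := d15_1 D192783 F374919 F293728
theorem F387749 : act 7 n192783 = n187518 := d15_2 (iv0 F367158) D192783 F370653
theorem F387750 : act 6 n187822 = n192783 := d21_3 D187968 (iv1 F377262) (iv5 F371613) (iv1 D192783) (iv6 D100669) (iv5 D46951) (iv1 F292209) (iv5 D42460) D42461 D90701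
theorem F387751 : act 2 n187830 = n192783 := d4_3 F387749 F370653 D187830
def n192784 : Q := act 7 n100669
theorem D192784 : act 7 n100669 = n192784 := rfl
theorem F387752 : act 2 n192784 = n187829 := d4_1 D192784 F374919 F293728
theorem F387753 : act 5 n192784 = n187764 := d13_1 D192784 (iv7 D187764) (iv5 F367157)
theorem F387754 : act 6 n192784 = n114470 := d14_1 D192784 F178526 (iv6 D90632) (iv7 F292370) D100669
theorem F387755 : act 1 n187830 = n192784 := d15_1 F371631 (iv7 D192784) (iv2 F293728)
theorem F387756 : act 1 n192784 = n187518 := d15_1 F387755 (iv7 F387749) (iv2 F387751)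
def n192785 : Q := act 0 n100679
theorem D192785 : act 0 n100679 = n192785 := rfl
theorem F387757 : act 5 n192785 = n159881 := d21_2 (iv5 F291195) D192785 (iv6 F358941) (iv1 F373916) (iv6 D188550) F142213 F76701 (iv5 F86692) D119064 F187335
theorem F387758 : act 6 n147969 = n100716 := d21_3 F387757 (iv1 D159881) (iv5 F231785) (iv1 D100716) (iv6 D46968) (iv5 D22587) D22584 D46955 D100679 D192785
theorem F387759 : act 2 n100716 = n189755 := d3_1 F387758 F387475 F346144
theorem F387760 : act 3 n100716 = n147971 := d7_1 F387758 (iv6 D147971) D147969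
theorem F387761 : act 7 n189754 = n100716 := d15_2 F377629 F377636 F387759
theorem F387762 : act 7 n100715 = n189755 := d15_2 F377637 F377639 (iv2 F387759)
theorem F387763 : act 2 n189754 = n100715 := d4_3 F387762 (iv2 F387759) (iv7 F387761)
theorem F387764 : act 2 n188046 = n192785 := d2_3 F387757 (iv2 F355116) (iv5 F387476)
theorem F387765 : act 7 n188047 = n192785 := d13_0 F387757 (iv7 F355117) (iv5 F372217)
theorem F387766 : act 1 n188048 = n192785 := d17_6 (iv1 F229416) (iv5 F342097) (iv1 D145763) (iv5 F182661) (iv4 F184395) (iv5 F372219) F387757 F252114 F229857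
def n192786 : Q := act 1 n100679
theorem D192786 : act 1 n100679 = n192786 := rfl
theorem F387767 : act 1 n192786 = n188048 := d15_1 D192786 (iv7 D188048) (iv2 F291193)
theorem F387768 : act 7 n192786 = n188046 := d15_2 (iv0 D192785) D192786 F387764
theorem F387769 : act 5 n192786 = n159880 := d18_9 (iv1 F252109) F229857 (iv1 F229416) (iv4 F353830) (iv5 F371745) F371744 F371755 F371753 D192786
theorem F387770 : act 2 n188047 = n192786 := d2_3 F387769 F355112 (iv5 F372217)
def n192787 : Q := act 7 n100679
theorem D192787 : act 7 n100679 = n192787 := rfl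
theorem F387771 : act 2 n192787 = n188048 := d4_1 D192787 (iv7 D188048) (iv2 F291193)
theorem F387772 : act 3 n192787 = n152277 := d8_1 D192787 F239351 (iv3 F291194)
theorem F387773 : act 5 n192787 = n152275 := d13_1 D192787 F239345 (iv5 F291195)
theorem F387774 : act 6 n192787 = n188052 := d14_1 D192787 (iv7 D188052) (iv6 D90761) F290915 D100679
theorem F387775 : act 1 n188047 = n192787 := d15_1 D188047 (iv7 D192787) F291193
theorem F387776 : act 1 n192787 = n188046 := d15_1 F387775 (iv7 F387768) (iv2 F387770)
def n192788 : Q := act 0 n100686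
theorem D192788 : act 0 n100686 = n192788 := rfl
theorem F387777 : act 5 n192788 = n188745 := d17_1 D192788 (iv1 F374678) (iv5 D187658) F289802 D177856 F290094 (iv5 F375492) (iv0 D189030) (iv4 F154799)
theorem F387778 : act 6 n192788 = n188586 := d21_5 F335926 (iv1 D150765) F329548 D100686 D192788 (iv5 F375288) (iv1 F375287) (iv5 D188972) F143353 (iv1 F142822)
theorem F387779 : act 2 n188554 = n192788 := d15_3 (iv0 D192788) (iv0 F376697) (iv7 F373931)
theorem F387780 : act 1 n188552 = n192788 := d15_0 (iv0 D192788) F367258 (iv2 F373924)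
theorem F387781 : act 7 n192788 = n188553 := d15_2 (iv0 F374686) F387780 (iv2 F373930)
def n192789 : Q := act 0 n100687
theorem D192789 : act 0 n100687 = n192789 := rfl
theorem F387782 : act 5 n192789 = n135563 := d19_1 D192789 (iv4 F328115) F328114 (iv1 D63447) (iv5 F327857) (iv4 D18610) (iv3 D8738) (iv1 D3908) D3909 D8744 D18627 D39261 D84857 (iv4 F353307) F190362 (iv1 F343522) (iv5 F107621) (iv4 F237334) F365333
theorem F387783 : act 6 n192789 = n114244 := d21_5 F139145 F291278 D46958 D100687 D192789 (iv5 F178048) (iv1 D90123) D90124 F138564 D90410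
theorem F387784 : act 2 n159487 = n192789 := d3_3 F387783 F178049 D159487
theorem F387785 : act 3 n135564 = n192789 := d7_3 F387783 F178050 (iv6 F352119)
theorem F387786 : act 0 n192789 = n188052 := d21_4 F179194 (iv1 F142207) F178048 (iv6 F387783) (iv6 F387774) F387773 (iv1 F239347) (iv5 F179199) (iv6 D115082) D115081
theorem F387787 : act 7 n192789 = n188051 := d8_2 (iv7 F217996) F387785 F374723
def n192790 : Q := act 1 n100687
theorem D192790 : act 1 n100687 = n192790 := rfl
theorem F387788 : act 1 n192790 = n188052 := d15_1 D192790 (iv7 D188052) (iv2 F367265)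
theorem F387789 : act 7 n192790 = n159487 := d15_2 (iv0 D192789) D192790 F387784
theorem F387790 : act 2 n188051 = n192790 := d4_3 F387789 F387784 F387787
theorem F387791 : act 3 n159490 = n192790 := d8_3 F387789 F251163 D159490
def n192791 : Q := act 7 n100687
theorem D192791 : act 7 n100687 = n192791 := rfl
theorem F387792 : act 2 n192791 = n188052 := d4_1 D192791 (iv7 D188052) (iv2 F367265)
theorem F387793 : act 5 n192791 = n187679 := d13_1 D192791 (iv7 D187679) F367264
theorem F387794 : act 6 n192791 = n188048 := d14_1 D192791 (iv7 D188048) (iv6 D90758) F290891 D100687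
theorem F387795 : act 1 n188051 = n192791 := d15_1 D188051 (iv7 D192791) F367265
theorem F387796 : act 1 n192791 = n159487 := d15_1 F387795 (iv7 F387789) (iv2 F387790)
def n192792 : Q := act 0 n100692
theorem D192792 : act 0 n100692 = n192792 := rfl
theorem F387797 : act 5 n192792 = n140113 := d17_1 D192792 F339912 (iv5 D93338) F68610 D90806 F371302 F371300 (iv0 D100689) D100692
theorem F387798 : act 4 n192792 = n192511 := d20_2 D100692 D192792 (iv3 D192511) F364354 (iv3 D46950) (iv4 D22582) (iv1 D10707) D10708 D22586 D46960
theorem F387799 : act 3 n192792 = n140114 := d20_5 (iv4 F329516) (iv1 F345088) F345089 (iv3 F345048) D192792 (iv4 F369126) (iv1 F369127) F154796 (iv3 F357138) (iv1 D139558)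
theorem F387800 : act 2 n189040 = n192792 := d15_3 (iv0 D192792) F368125 (iv7 F375540)
theorem F387801 : act 6 n192792 = n182158 := d3_2 F377060 F387800 F377061
theorem F387802 : act 7 n192792 = n189050 := d4_2 (iv7 F375540) F387800 F375588
theorem F387803 : act 1 n100697 = n192792 := d15_1 (iv0 F368124) F387802 F375588
def n192793 : Q := act 7 n100692
theorem D192793 : act 7 n100692 = n192793 := rfl
theorem F387804 : act 2 n192793 = n100697 := d4_1 D192793 F293948 F362387
theorem F387805 : act 3 n192793 = n139589 := d8_1 D192793 F222728 (iv3 F345048)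
theorem F387806 : act 4 n192793 = n100695 := d11_1 D192793 (iv7 D100695) D100692
theorem F387807 : act 5 n192793 = n189185 := d13_1 D192793 F375996 F362388
theorem F387808 : act 6 n192793 = n185167 := d14_1 D192793 (iv7 F368182) (iv6 D186833) (iv7 F368103) (iv6 F368106)
theorem F387809 : act 1 n189050 = n192793 := d15_1 D189050 (iv7 D192793) (iv2 F362387)
theorem F387810 : act 1 n192793 = n189040 := d15_1 F387809 F375540 (iv2 F375588)
def n192794 : Q := act 4 n100693
theorem D192794 : act 4 n100693 = n192794 := rfl
theorem F387811 : act 2 n192794 = n188102 := d1_1 D192794 (iv4 D188102) F362391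
theorem F387812 : act 7 n192794 = n188100 := d11_2 (iv7 F362401) D192794 (iv4 D188100)
theorem F387813 : act 0 n192794 = n155510 := d18_2 (iv1 F362389) D192794 (iv4 F370618) (iv5 D187504) F138871 F143951 F143947 (iv0 D90326) D90328
def n192795 : Q := act 5 n100705
theorem D192795 : act 5 n100705 = n192795 := rfl
def n192796 : Q := act 1 n100706
theorem D192796 : act 1 n100706 = n192796 := rfl
def n192797 : Q := act 7 n100706
theorem D192797 : act 7 n100706 = n192797 := rfl
theorem F387814 : act 3 n192797 = n100717 := d8_1 D192797 (iv7 D100717) (iv3 F154812)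
theorem F387815 : act 5 n192797 = n186403 := d13_1 D192797 (iv7 D186403) (iv5 F154813)
def n192798 : Q := act 6 n100707
theorem D192798 : act 6 n100707 = n192798 := rfl
theorem F387816 : act 3 n192798 = n100718 := d7_1 D192798 (iv6 D100718) (iv3 F154814)
theorem F387817 : act 5 n192798 = n146855 := d12_1 D192798 (iv6 F230244) F157531 F290842 (iv5 F154815)
theorem F387818 : act 0 n135223 = n192798 := d21_4 (iv5 D135228) (iv1 D63544) D63545 (iv6 F217411) (iv6 D192798) F154815 (iv1 F362398) (iv5 F362399) D188101 F372327
def n192799 : Q := act 3 n100715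
theorem D192799 : act 3 n100715 = n192799 := rfl
theorem F387819 : act 7 n192799 = n152518 := d8_2 (iv7 F387762) D192799 F387473
theorem F387820 : act 4 n173514 = n192799 := d11_3 F387819 F387474 F366729
theorem F387821 : act 5 n192799 = n144975 := d16_3 D83011 D173514 F387820 (iv4 F227970) (iv5 F360268) (iv4 D173500) (iv5 D83007) (iv7 F279307) F279306
theorem F387822 : act 1 n192799 = n184492 := d18_6 (iv1 F197293) F197289 (iv1 F127920) D83011 D173514 F387820 (iv4 D184492) (iv0 F357824) (iv5 D123108)
theorem F387823 : act 6 n192799 = n144978 := d21_5 (iv5 F369198) (iv1 F369196) F345134 (iv6 F286434) (iv1 F387822) (iv5 D144978) D144976 F355317 (iv6 D93016) D93013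
def n192800 : Q := act 4 n100715
theorem D192800 : act 4 n100715 = n192800 := rfl
theorem F387824 : act 2 n192800 = n187961 := d1_1 D192800 F377638 F387763
theorem F387825 : act 3 n192800 = n101149 := d5_1 D192800 F272733 (iv3 F366730) F387820 (iv3 D192799)
theorem F387826 : act 7 n192800 = n187962 := d11_2 (iv7 F387762) D192800 F377630
theorem F387827 : act 0 n192800 = n187964 := d20_4 (iv4 D99371) D99370 (iv4 F272733) (iv3 F387825) F371958 F164798 F337449 (iv4 F168622) (iv3 F384967) (iv1 D191951)
def n192801 : Q := act 5 n100715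
theorem D192801 : act 5 n100715 = n192801 := rfl
theorem F387828 : act 3 n192801 = n144975 := d6_1 D192801 (iv5 F387821) (iv3 D192799)
theorem F387829 : act 6 n144972 = n192801 := d7_0 F387828 (iv6 D144975) (iv3 F227938)
def n192802 : Q := act 6 n100715
theorem D192802 : act 6 n100715 = n192802 := rfl
theorem F387830 : act 3 n192802 = n144978 := d7_1 D192802 (iv6 F387823) (iv3 D192799)
theorem F387831 : act 5 n192802 = n144973 := d12_1 D192802 (iv6 D144973) D144972 F387829 (iv5 D192801)
theorem F387832 : act 1 n159472 = n192802 := d17_6 F378906 (iv5 D189889) F367064 F356338 (iv4 D159471) D159472 F387831 F372384 (iv4 F378907)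
def n192803 : Q := act 4 n100716
theorem D192803 : act 4 n100716 = n192803 := rfl
theorem F387833 : act 2 n192803 = n187962 := d1_1 D192803 F377630 (iv2 F387759)
theorem F387834 : act 7 n192803 = n187961 := d11_2 F387761 D192803 F377638
theorem F387835 : act 0 n192803 = n187548 := d18_2 (iv1 F377637) D192803 F370770 F138939 F292787 D176762 F374375 (iv0 F291642) (iv5 F377635)
theorem F387836 : act 1 n192803 = n187964 := d15_1 (iv0 F387835) (iv7 D187964) (iv2 F370768)
theorem F387837 : act 1 n192800 = n187548 := d15_0 (iv0 F387835) F387834 (iv2 F387824)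
def n192804 : Q := act 5 n100716
theorem D192804 : act 5 n100716 = n192804 := rfl
theorem F387838 : act 6 n192804 = n186263 := d12_2 F387758 D192804 F355118 F236566 (iv5 F231785)
def n192805 : Q := act 6 n100717
theorem D192805 : act 6 n100717 = n192805 := rfl
theorem F387839 : act 4 n192805 = n140575 := d10_1 D192805 (iv6 F372021) F372019
theorem F387840 : act 7 n192805 = n100718 := d14_2 D100717 D192805 (iv6 D100718) (iv7 D46969) D46968
theorem F387841 : act 1 n130940 = n192805 := d15_1 F371994 F387840 (iv2 F371063)
theorem E103527 : n140556 = n140489 := ((c18_10 (iv1 D140556) (iv4 F182481) F223620 (iv4 D140434) (iv5 F223615) (iv4 F336038) F387841 F387839 F371997 F371899)).symm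
theorem F387842 : act 0 n140489 = n65966 := (sb E103527 (iv1 D140556))
theorem F387843 : act 0 n140558 = n107333 := d17_2 F387842 D140558 (iv5 D107333) (iv4 D49588) D49589 (iv0 F180531) F78206 D68146 (iv4 F223655)
theorem E103528 : n145358 = n145348 := (c20_5 F182476 F180284 (iv4 D68154) D68153 D145358 (iv3 D145348) (iv4 F223655) F387842 (iv4 F182481) (iv3 D116856) D116855)
theorem F387844 : act 1 n145348 = n68153 := (sb E103528 (iv0 D145358))
def n192806 : Q := act 0 n100718
theorem D192806 : act 0 n100718 = n192806 := rfl
theorem F387845 : act 5 n192806 = n130941 := d17_3 F364114 F367267 D192806 F209558 (iv5 F320299) (iv0 D106396) D106399 F361989 (iv4 F364113)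
theorem F387846 : act 4 n192806 = n187939 := d18_1 D192806 (iv1 F371886) (iv4 F370740) F370741 F336094 F336081 (iv4 F354327) (iv0 F176876) F367267
theorem F387847 : act 7 n130940 = n192806 := d11_0 F387846 (iv7 F371885) (iv4 F336038)
theorem F387848 : act 3 n192806 = n130951 := d8_1 F387847 (iv7 D130951) (iv3 F209556)
theorem E103529 : n111722 = n111605 := (c20_8 (iv4 F139606) D187939 (iv4 F387846) F387848 (iv1 F218229) (iv3 F354329) (iv4 D111725) D111722 F375174 (iv3 F375173) (iv1 D90690))
theorem F387849 : act 0 n111605 = n92918 := (sb E103529 (iv1 F354412))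
theorem F387850 : act 1 n111605 = n51515 := (sb E103529 (iv0 D111722))
theorem F387851 : act 0 n188825 = n133972 := d20_4 F375174 (iv1 D92900) (iv4 F143275) (iv3 F375014) F215899 F98182 F84334 F80629 D51515 (iv1 F387850)
def n192807 : Q := act 1 n100718
theorem D192807 : act 1 n100718 = n192807 := rfl
theorem F387852 : act 4 n192807 = n187940 := d18_7 (iv1 F181255) F225602 (iv1 D142701) (iv4 F165403) (iv5 F370788) F370787 D192807 F371887 F164786
theorem F387853 : act 5 n130935 = n192807 := d21_0 (iv1 D192807) (iv5 F367267) (iv6 D102573) (iv1 F74816) (iv6 F321707) (iv5 F315828) D83920 (iv5 F318967) D133467 F366067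
theorem F387854 : act 2 n192807 = n130940 := d2_1 F387853 (iv5 D130940) (iv2 F209553)
theorem F387855 : act 3 n192807 = n147972 := d6_1 F387853 F231791 F327874
def n192808 : Q := act 7 n100722
theorem D192808 : act 7 n100722 = n192808 := rfl
theorem F387856 : act 2 n192808 = n127606 := d4_1 D192808 (iv7 F378329) F378326
theorem F387857 : act 3 n192808 = n109622 := d8_1 D192808 (iv7 F173881) F353326
theorem F387858 : act 5 n192808 = n109621 := d13_1 D192808 (iv7 F173878) (iv5 F353327)
theorem F387859 : act 6 n192808 = n109622 := d14_1 D192808 (iv7 F173881) (iv6 F353325) F153203 D100722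
theorem F387860 : act 1 n188335 = n192808 := d15_1 (iv0 F378330) (iv7 D192808) (iv2 F378326)
theorem F387861 : act 1 n192808 = n155957 := d15_1 F387860 F244989 (iv2 F373094)
def n192809 : Q := act 5 n100723
theorem D192809 : act 5 n100723 = n192809 := rfl
theorem F387862 : act 2 n192809 = n172086 := d2_1 D192809 (iv5 F378201) F378196
theorem F387863 : act 3 n192809 = n103114 := d6_1 D192809 (iv5 D103114) (iv3 F289690)
theorem F387864 : act 0 n192809 = n172087 := d17_2 D100723 D192809 (iv5 F380924) F380923 F372769 F372767 (iv5 D100734) (iv0 D46976) (iv4 F74192)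
theorem F387865 : act 1 n192809 = n172089 := d15_1 (iv0 F387864) (iv7 D172089) D172087
def n192810 : Q := act 6 n100723
theorem D192810 : act 6 n100723 = n192810 := rfl
theorem F387866 : act 3 n192810 = n103115 := d7_1 D192810 (iv6 D103115) (iv3 F289690)
theorem F387867 : act 4 n192810 = n184324 := d10_1 D192810 F287659 (iv4 F289691)
theorem F387868 : act 0 n192810 = n100865 := d20_10 F155004 (iv1 F343084) F291781 (iv3 D103365) (iv1 F290958) D48270 F291491 F235287 (iv4 F158401) (iv3 F387866)
def n192811 : Q := act 5 n100724
theorem D192811 : act 5 n100724 = n192811 := rfl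
theorem F387869 : act 3 n192811 = n103094 := d6_1 D192811 (iv5 D103094) (iv3 F289699)
theorem F387870 : act 7 n192811 = n172086 := d13_2 F378198 D192811 (iv5 F378201)
theorem F387871 : act 1 n192811 = n172087 := d17_6 (iv1 D183487) (iv5 F135219) (iv1 F378211) (iv5 D185306) (iv4 F289700) D192811 (iv5 F380924) (iv0 F380926) F379259
theorem F387872 : act 0 n192811 = n172089 := d18_0 F302359 D178084 F380561 (iv5 D95463) F289667 (iv0 D46976) (iv4 F74192) D100724 D192811
theorem F387873 : act 2 n192811 = n172085 := d15_3 (iv0 D172085) D172086 (iv7 F387870)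
theorem F387874 : act 5 n172085 = n104785 := d2_2 D192811 F387873 (iv2 F289698)
theorem F387875 : act 7 n172085 = n192809 := d4_2 (iv7 F387870) F387873 F387862
theorem F387876 : act 3 n104786 = n172085 := d8_3 F387875 F387863 (iv7 F160583)
def n192812 : Q := act 0 n100725
theorem D192812 : act 0 n100725 = n192812 := rfl
theorem F387877 : act 3 n192812 = n103119 := d20_5 (iv4 D82413) F326450 (iv4 F173883) (iv3 F359239) D192812 F355936 F355999 F299405 (iv3 D166360) F298067
theorem F387878 : act 5 n192812 = n191181 := d21_2 D100725 D192812 F382494 (iv1 F375513) F375511 F335319 (iv1 F270260) F370225 F370223 (iv1 D100724)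
def n192813 : Q := act 1 n100725
theorem D192813 : act 1 n100725 = n192813 := rfl
theorem F387879 : act 3 n103097 = n192813 := d20_3 F101545 (iv1 F175435) (iv4 F319036) (iv1 D192813) F359239 F173883 (iv1 F326451) (iv4 F81567) F81566 D51664
def n192814 : Q := act 0 n100729
theorem D192814 : act 0 n100729 = n192814 := rfl
theorem F387880 : act 2 n101930 = n192814 := d15_3 (iv0 D192814) (iv0 F368399) F338124
theorem F387881 : act 4 n192814 = n101936 := d1_2 F368370 F387880 F338131
theorem F387882 : act 6 n192814 = n101935 := d3_2 (iv6 F368369) F387880 F338129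
theorem F387883 : act 0 n101936 = n185180 := d18_2 D192814 F387881 (iv4 F387064) (iv5 D154569) (iv4 F242566) (iv0 F305721) F187924 (iv0 D100727) D100729
def n192815 : Q := act 4 n100729
theorem D192815 : act 4 n100729 = n192815 := rfl
theorem F387884 : act 6 n192815 = n100743 := d10_2 (iv6 F154830) D192815 (iv4 D100743)
def n192816 : Q := act 7 n100729
theorem D192816 : act 7 n100729 = n192816 := rfl
theorem F387885 : act 3 n192816 = n122562 := d8_1 D192816 F196236 (iv3 F303653)
theorem F387886 : act 5 n192816 = n100730 := d13_1 D192816 (iv7 D100730) D100729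
theorem F387887 : act 6 n136941 = n192816 := d12_0 F387886 F324288 D101715 F362159 D136941
theorem F387888 : act 0 n101930 = n192816 := d20_4 D98479 F338093 (iv4 D101931) D101930 F387885 F302308 (iv1 F277513) (iv4 D84720) D84719 (iv1 F312934)
def n192817 : Q := act 4 n100734
theorem D192817 : act 4 n100734 = n192817 := rfl
theorem F387889 : act 2 n192817 = n102302 := d1_1 D192817 (iv4 D102302) (iv2 F289668)
theorem F387890 : act 0 n192817 = n154496 := d17_0 F353860 (iv1 F386841) F386838 (iv4 D102337) (iv5 F137043) (iv0 F361764) F372769 F372767 D192817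
def n192818 : Q := act 6 n100734
theorem D192818 : act 6 n100734 = n192818 := rfl
theorem F387891 : act 2 n192818 = n102303 := d3_1 D192818 (iv6 D102303) (iv2 F289668)
def n192819 : Q := act 5 n100735
theorem D192819 : act 5 n100735 = n192819 := rfl
theorem F387892 : act 2 n192819 = n102306 := d2_1 D192819 (iv5 D102306) (iv2 F289669)
theorem F387893 : act 3 n192819 = n186792 := d6_1 D192819 (iv5 F372879) F372877
theorem F387894 : act 7 n192819 = n186749 := d13_2 F370952 D192819 F370955
theorem F387895 : act 4 n192819 = n192152 := d16_2 (iv4 F289670) D192819 (iv5 D192152) D192151 F385780 (iv4 D190184) (iv5 F158650) F158652 F148341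
theorem F387896 : act 1 n192819 = n186751 := d17_6 F70260 D89884 D187294 F369741 (iv4 F289670) D192819 F367881 (iv0 F289551) (iv4 F70259)
theorem F387897 : act 0 n192819 = n172215 := d21_1 D192819 (iv5 D172215) (iv6 D82485) (iv1 D37851) D37853 D82489 D172226 F361754 (iv6 F370962) (iv1 F370964)
def n192820 : Q := act 6 n100741
theorem D192820 : act 6 n100741 = n192820 := rfl
theorem F387898 : act 2 n192820 = n102338 := d3_1 D192820 (iv6 D102338) (iv2 F367277)
theorem F387899 : act 4 n192820 = n102356 := d10_1 D192820 (iv6 F382938) F382936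
theorem F387900 : act 7 n192820 = n102353 := d14_2 F368442 D192820 (iv6 D102353) (iv7 F151035) (iv6 F368439)
def n192821 : Q := act 0 n100743
theorem D192821 : act 0 n100743 = n192821 := rfl
theorem F387901 : act 4 n192821 = n185311 := d20_2 D100743 D192821 F386163 (iv1 F386164) F153867 (iv4 F153870) (iv1 F153871) (iv4 D89388) (iv3 F137040) F367276
theorem F387902 : act 2 n192256 = n192821 := d15_3 (iv0 D192821) (iv0 F378898) D192256
theorem F387903 : act 3 n192821 = n111146 := d0_2 (iv3 F386224) F387902 F172384 (iv3 F221791) F363382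
theorem F387904 : act 5 n192821 = n111142 := d2_2 (iv5 F386226) F387902 (iv2 F375497)
theorem F387905 : act 7 n192821 = n187099 := d4_2 D192256 F387902 F369078
theorem F387906 : act 1 n192256 = n191987 := d15_0 F385104 (iv7 F387905) (iv2 F387902)
theorem F387907 : act 6 n187094 = n192821 := d14_5 F387905 (iv6 D187099) (iv7 D89539) (iv6 F137246) D187094
theorem F387908 : act 1 n192255 = n192821 := d15_1 D192255 F387905 F369078
def n192822 : Q := act 3 n100743
theorem D192822 : act 3 n100743 = n192822 := rfl
def n192823 : Q := act 5 n100743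
theorem D192823 : act 5 n100743 = n192823 := rfl
def n192824 : Q := act 7 n100743
theorem D192824 : act 7 n100743 = n192824 := rfl
theorem F387909 : act 2 n192824 = n192255 := d4_1 D192824 F386221 F385103
theorem F387910 : act 4 n192824 = n100744 := d11_1 D192824 (iv7 D100744) D100743
theorem F387911 : act 1 n187099 = n192824 := d15_1 F385104 (iv7 D192824) (iv2 F385103)
theorem F387912 : act 1 n192824 = n192256 := d15_1 F387911 (iv7 D192256) (iv2 F369078)
def n192825 : Q := act 6 n100744
theorem D192825 : act 6 n100744 = n192825 := rfl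
theorem F387913 : act 2 n192825 = n136936 := d3_1 D192825 F368479 (iv2 F368478)
theorem F387914 : act 3 n192825 = n185105 := d7_1 D192825 (iv6 D185105) (iv3 F289680)
theorem F387915 : act 5 n192825 = n101949 := d12_1 D192825 (iv6 D101949) (iv5 D47361) (iv6 F289585) (iv5 F154840)
theorem F387916 : act 7 n192825 = n136941 := d14_2 D100744 D192825 F387887 (iv7 D192816) F154830
def n192826 : Q := act 5 n100745
theorem D192826 : act 5 n100745 = n192826 := rfl
theorem F387917 : act 2 n192826 = n160327 := d2_1 D192826 F304173 (iv2 F154841)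
theorem F387918 : act 3 n192826 = n100757 := d6_1 D192826 (iv5 D100757) (iv3 F154842)
theorem F387919 : act 6 n192826 = n100748 := d12_2 D100745 D192826 (iv5 D100748) (iv6 D46981) D46980
def n192827 : Q := act 4 n100748
theorem D192827 : act 4 n100748 = n192827 := rfl
theorem F387920 : act 0 n192827 = n108063 := d20_1 D192827 (iv4 F385837) (iv3 F385835) F166990 F318492 (iv4 D54704) D54702 (iv4 F339156) D192056 F385371
def n192828 : Q := act 1 n100750
theorem D192828 : act 1 n100750 = n192828 := rfl
theorem F387921 : act 1 n192828 = n109622 := d15_1 D192828 (iv7 F173881) (iv2 F321613)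
theorem F387922 : act 7 n192828 = n166686 := d15_2 (iv0 F321612) D192828 (iv2 F325573)
theorem F387923 : act 5 n192828 = n112148 := d17_7 (iv1 D25119) F19682 D25100 F105474 D50562 (iv5 F321616) D192828 F174366 (iv4 D51728)
theorem F387924 : act 4 n192828 = n102036 := d17_9 F319202 (iv5 F319206) D101863 F156994 F344530 (iv5 D164087) (iv0 F324536) (iv5 F321616) D192828
theorem F387925 : act 3 n127593 = n192828 := d20_3 (iv4 F235974) F338509 (iv4 F347763) (iv1 D192828) F321614 (iv4 F94395) (iv1 F184460) D142739 (iv3 F380212) (iv1 F380216)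
theorem F387926 : act 2 n192828 = n191058 := d0_1 F387925 (iv3 D191058) F382006 (iv3 F381996) (iv2 F347762)
def n192829 : Q := act 6 n100751
theorem D192829 : act 6 n100751 = n192829 := rfl
theorem F387927 : act 2 n192829 = n159797 := d3_1 D192829 F331191 (iv2 F331174)
theorem F387928 : act 3 n192829 = n104622 := d7_1 D192829 (iv6 D104622) (iv3 F289596)
theorem F387929 : act 4 n192829 = n183923 := d10_1 D192829 (iv6 D183923) (iv4 F289597)
theorem F387930 : act 0 n102001 = n192829 := d21_4 D190261 F380940 F380937 F370088 (iv6 D192829) F331175 F299452 D82418 (iv6 F364438) F364439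
theorem F387931 : act 1 n101996 = n192829 := d15_0 (iv0 F387930) (iv7 F385144) F385141
theorem F387932 : act 5 n190238 = n192829 := d6_0 F387928 F160319 D190238
theorem F387933 : act 6 n174652 = n190238 := d12_0 F387932 (iv6 D192829) F331175 F299454 (iv5 F273503)
theorem F387934 : act 3 n190110 = n174652 := d7_3 F387933 (iv3 D190238) (iv6 F385460)
def n192830 : Q := act 5 n100774
theorem D192830 : act 5 n100774 = n192830 := rfl
theorem F387935 : act 2 n192830 = n100822 := d2_1 D192830 (iv5 D100822) (iv2 F155520)
theorem F387936 : act 4 n192830 = n162704 := d9_1 D192830 (iv5 D162704) (iv4 D78167) (iv5 D35637) D35636 D78162 F312372 D171032 (iv4 F356163) (iv5 D160639) (iv4 D77040) (iv5 D35186) (iv4 F55930) (iv5 F314374) F312371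
theorem F387937 : act 7 n192830 = n100827 := d13_2 (iv7 F155521) D192830 (iv5 D100827)
theorem F387938 : act 0 n192830 = n162735 := d17_2 D100774 D192830 (iv5 D162735) (iv4 D78200) (iv5 D35650) F117742 D38257 F298707 (iv4 F308089)
theorem F387939 : act 1 n192830 = n162762 := d17_6 (iv1 F302568) (iv5 D124413) F121311 (iv5 F314374) F312371 D192830 (iv5 F320204) (iv0 D123048) F318027
def n192831 : Q := act 0 n100776
theorem D192831 : act 0 n100776 = n192831 := rfl
theorem F387940 : act 5 n192831 = n123047 := d17_3 F155447 D100776 D192831 (iv4 F313353) (iv5 D133152) (iv0 F312788) D75252 (iv0 F300814) F312372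
theorem F387941 : act 6 n192831 = n156455 := d21_5 (iv5 D100785) (iv1 D46992) D46993 (iv6 F154867) D192831 (iv5 F356544) F347686 (iv5 D111176) (iv6 F347691) F335721
theorem F387942 : act 2 n100829 = n192831 := d15_3 (iv0 D192831) (iv0 F329505) (iv7 F356135)
theorem F387943 : act 1 n100832 = n192831 := d15_0 (iv0 D192831) (iv7 F357493) (iv2 F357494)
theorem F387944 : act 7 n192831 = n100830 := d15_2 F329506 F387943 F356152
theorem F387945 : act 3 n192831 = n123524 := d0_2 (iv3 F356132) F387942 F197944 F90736 F329115
def n192832 : Q := act 5 n100780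
theorem D192832 : act 5 n100780 = n192832 := rfl
theorem F387946 : act 2 n192832 = n100845 := d2_1 D192832 (iv5 D100845) (iv2 F154967)
theorem F387947 : act 3 n192832 = n103023 := d6_1 D192832 (iv5 D103023) (iv3 F154877)
theorem F387948 : act 7 n192832 = n100864 := d13_2 (iv7 F154968) D192832 (iv5 D100864)
theorem F387949 : act 1 n192832 = n100850 := d17_6 (iv1 F374422) F374419 (iv1 F354455) (iv5 D100781) D100780 D192832 F349157 F375504 (iv4 D189033)
theorem F387950 : act 4 n192832 = n184320 := d18_5 (iv1 F74220) F70743 D46991 D100780 D192832 F354450 (iv4 F354452) (iv0 D103903) (iv5 D48104)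
theorem F387951 : act 0 n192832 = n100866 := d18_0 (iv4 D100866) (iv1 F289518) F349160 (iv5 D100798) F143251 F159626 (iv4 F386686) (iv0 F386691) D192832
theorem F387952 : act 6 n113076 = n192832 := d21_5 F385542 F383649 F365323 (iv6 D113082) (iv1 F176166) (iv5 D192832) F386691 F386687 (iv6 F385717) (iv1 F385718)
theorem E103530 : n113076 = n113070 := ((c3_4 F387952 F387946 F368785 (iv2 F176164))).symm
theorem F387953 : act 0 n113070 = n52190 := (sb E103530 (iv1 D113076))
theorem F387954 : act 1 n113070 = n52192 := (sb E103530 F176166)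
theorem F387955 : act 6 n113070 = n192832 := (sb E103530 F387952)
theorem E103531 : n113075 = n113065 := (c15_2 F387954 F176165 (iv7 F176163) (iv2 F176164))
theorem F387956 : act 0 n113065 = n52192 := (sb E103531 (iv1 F176165))
theorem F387957 : act 1 n113065 = n52190 := (sb E103531 (iv0 D113075))
def n192833 : Q := act 4 n100781
theorem D192833 : act 4 n100781 = n192833 := rfl
theorem F387958 : act 2 n192833 = n100850 := d1_1 D192833 (iv4 D100850) (iv2 F154969)
theorem F387959 : act 6 n192833 = n136286 := d10_2 (iv6 F365249) D192833 (iv4 F364298)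
theorem F387960 : act 7 n192833 = n100866 := d11_2 (iv7 F154970) D192833 (iv4 D100866)
theorem F387961 : act 0 n192833 = n100845 := d17_0 (iv5 D100845) D100843 F295948 F329867 (iv5 F345035) (iv0 D93064) D93067 F335722 D192833
theorem F387962 : act 5 n192833 = n191156 := d18_4 (iv1 D103904) D103905 (iv1 F354455) D192833 F384398 F384395 F158577 F295352 (iv5 F294884)
theorem F387963 : act 1 n192833 = n100864 := d18_6 F159079 (iv4 F159075) F159080 (iv4 D100780) D100781 D192833 F386636 F386638 F354449
theorem F387964 : act 3 n192833 = n103210 := d19_3 D46991 D100781 D192833 (iv1 D103210) (iv5 D47832) (iv4 F73296) (iv3 D46437) (iv1 F34709) (iv5 F34965) (iv4 F73885) (iv3 F329666) (iv1 F103461) (iv5 F221912) (iv4 F345076) (iv3 F285840) (iv1 D183970) (iv5 D87759) (iv4 F73439) F73438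
def n192834 : Q := act 5 n100784
theorem D192834 : act 5 n100784 = n192834 := rfl
theorem F387965 : act 2 n192834 = n100864 := d2_1 D192834 (iv5 D100864) (iv2 F154976)
theorem F387966 : act 7 n192834 = n100845 := d13_2 (iv7 F154977) D192834 (iv5 D100845)
theorem F387967 : act 4 n192834 = n184319 := d16_2 D100784 D192834 (iv5 F384397) (iv4 F384398) (iv5 F387962) (iv4 D192833) (iv5 D100781) (iv7 F154972) (iv2 F154973)
theorem F387968 : act 0 n192834 = n100850 := d17_2 F386690 D192834 F349157 F366944 (iv5 F386634) F386638 F354449 F159626 (iv4 F386686)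
theorem F387969 : act 1 n192834 = n100866 := d17_6 (iv1 D93065) D93067 F335721 (iv5 D100785) D100784 D192834 F379146 (iv0 F379145) (iv4 D189035)
theorem F387970 : act 3 n184319 = n192288 := d19_3 F386690 D192834 F387967 (iv1 F386315) F356323 F157785 (iv3 D99975) (iv1 F73802) F329222 F49120 (iv3 F37750) F49148 (iv5 D30708) D30707 D65521 (iv1 F365348) F349987 F157781 D192417
def n192835 : Q := act 6 n100784
theorem D192835 : act 6 n100784 = n192835 := rfl
theorem F387971 : act 2 n192835 = n100865 := d3_1 D192835 (iv6 D100865) (iv2 F154976)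
theorem F387972 : act 3 n192835 = n101996 := d7_1 D192835 (iv6 F372408) F372407
theorem F387973 : act 4 n192835 = n100786 := d10_1 D192835 (iv6 D100786) D100784
def n192836 : Q := act 4 n100785
theorem D192836 : act 4 n100785 = n192836 := rfl
theorem F387974 : act 2 n192836 = n100866 := d1_1 D192836 (iv4 D100866) (iv2 F154978)
theorem F387975 : act 3 n192836 = n110993 := d5_1 D192836 F172061 F111460 D74525 (iv3 F329910)
theorem F387976 : act 7 n192836 = n100850 := d11_2 (iv7 F154979) D192836 (iv4 D100850)
theorem F387977 : act 0 n192836 = n100864 := d17_0 (iv5 D100864) (iv1 F157783) (iv5 F365283) (iv4 D100879) (iv5 F357532) F374423 F374419 (iv0 F354454) D192836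
theorem F387978 : act 1 n192836 = n100845 := d18_8 D100843 F154944 (iv1 D87911) F63055 D48104 D103905 (iv0 F354454) D192836 (iv5 D100845)
def n192837 : Q := act 6 n100785
theorem D192837 : act 6 n100785 = n192837 := rfl
theorem F387979 : act 2 n192837 = n100867 := d3_1 D192837 (iv6 D100867) (iv2 F154978)
theorem F387980 : act 3 n192837 = n156714 := d7_1 D192837 (iv6 D156714) (iv3 F329910)
def n192838 : Q := act 6 n100791
theorem D192838 : act 6 n100791 = n192838 := rfl
theorem F387981 : act 2 n192838 = n117263 := d3_1 D192838 F361670 F235195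
theorem F387982 : act 3 n192838 = n100792 := d7_1 D192838 (iv6 D100792) D100791
theorem F387983 : act 4 n192838 = n117241 := d10_1 D192838 F310204 (iv4 F154889)
theorem F387984 : act 7 n192838 = n117268 := d14_2 F302986 D192838 (iv6 F353233) F157445 (iv6 F154002)
theorem F387985 : act 0 n146894 = n192838 := d21_4 D68818 D146786 F230146 D146894 (iv6 D192838) (iv5 F301798) F301794 (iv5 F109359) F316667 (iv1 D68816)
def n192839 : Q := act 5 n100793
theorem D192839 : act 5 n100793 = n192839 := rfl
theorem F387986 : act 3 n192839 = n177147 := d6_1 D192839 (iv5 D177147) (iv3 F357197)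
theorem F387987 : act 4 n139283 = n192839 := d5_0 F387986 F346808 F172285 (iv4 F172286) (iv3 F222479)
theorem F387988 : act 6 n139281 = n192839 := d7_0 F387986 F346809 (iv3 F222472)
def n192840 : Q := act 6 n100793
theorem D192840 : act 6 n100793 = n192840 := rfl
theorem F387989 : act 3 n192840 = n120581 := d7_1 D192840 F307166 (iv3 F357197)
theorem F387990 : act 4 n192840 = n186995 := d10_1 D192840 (iv6 D186995) (iv4 F357198)
def n192841 : Q := act 5 n100794
theorem D192841 : act 5 n100794 = n192841 := rfl
def n192842 : Q := act 6 n100794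
theorem D192842 : act 6 n100794 = n192842 := rfl
theorem F387991 : act 4 n192842 = n186992 := d10_1 D192842 (iv6 D186992) (iv4 F357192)
theorem F387992 : act 0 n192842 = n127445 := d20_1 (iv4 F387991) F204855 (iv3 D68869) (iv1 F105053) D146895 F230276 F361985 F242445 (iv3 F242442) F368788
def n192843 : Q := act 0 n100795
theorem D192843 : act 0 n100795 = n192843 := rfl
def n192844 : Q := act 1 n100795
theorem D192844 : act 1 n100795 = n192844 := rfl
def n192845 : Q := act 7 n100795
theorem D192845 : act 7 n100795 = n192845 := rfl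
theorem F387993 : act 3 n192845 = n130577 := d8_1 D192845 F361893 (iv3 F154891)
theorem F387994 : act 5 n192845 = n100796 := d13_1 D192845 (iv7 D100796) D100795
def n192846 : Q := act 0 n100797
theorem D192846 : act 0 n100797 = n192846 := rfl
theorem F387995 : act 5 n192846 = n184385 := d17_1 D192846 (iv1 F367118) (iv5 D100885) (iv4 D47023) (iv5 D22606) D22605 D47019 F154956 F349153
theorem F387996 : act 4 n192846 = n151373 := d18_1 D192846 (iv1 F386638) (iv4 F386636) (iv5 D100864) (iv4 D47018) F74211 (iv4 F148296) F148299 D100797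
theorem F387997 : act 3 n192846 = n118411 := d20_5 F140467 (iv1 F294323) (iv4 D103626) (iv3 F154894) D192846 (iv4 D118411) (iv1 F86147) D54884 (iv3 F322862) (iv1 F292230)
theorem F387998 : act 2 n103904 = n192846 := d15_3 (iv0 D192846) (iv0 F356263) (iv7 F159335)
theorem F387999 : act 1 n100798 = n192846 := d15_0 (iv0 D192846) F154895 (iv2 F154896)
theorem F388000 : act 7 n192846 = n103903 := d15_2 (iv0 F287722) F387999 (iv2 F159336)
def n192847 : Q := act 6 n100797
theorem D192847 : act 6 n100797 = n192847 := rfl
theorem F388001 : act 2 n192847 = n111175 := d3_1 D192847 (iv6 F375518) F375515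
theorem F388002 : act 3 n192847 = n103627 := d7_1 D192847 (iv6 D103627) (iv3 F154894)
theorem F388003 : act 4 n192847 = n111173 := d10_1 D192847 F347692 F349153
theorem F388004 : act 5 n192847 = n187379 := d12_1 D192847 (iv6 D187379) (iv5 D89991) (iv6 F294077) D100797
theorem F388005 : act 7 n111170 = n192847 := d11_0 F388003 (iv7 D111173) D111170
theorem F388006 : act 0 n192847 = n156840 := d20_1 (iv4 F388003) F246812 (iv3 D138614) (iv1 D65085) (iv3 D30566) (iv4 D14501) (iv1 F19244) (iv4 F39080) (iv3 F80884) (iv1 F357628)
def n192848 : Q := act 6 n100798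
theorem D192848 : act 6 n100798 = n192848 := rfl
theorem F388007 : act 2 n192848 = n103906 := d3_1 D192848 (iv6 D103906) (iv2 F154896)
theorem F388008 : act 4 n192848 = n192495 := d10_1 D192848 (iv6 D192495) F349160
theorem F388009 : act 0 n192848 = n173858 := d21_4 F380508 (iv1 F148298) D100798 D192848 (iv6 D173858) (iv5 D83141) F118572 D78377 (iv6 F357425) (iv1 F380510)
def n192849 : Q := act 6 n100803
theorem D192849 : act 6 n100803 = n192849 := rfl
theorem F388010 : act 3 n192849 = n189822 := d7_1 D192849 (iv6 D189822) (iv3 F154898)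
theorem F388011 : act 5 n192849 = n192117 := d12_1 D192849 (iv6 F385637) (iv5 D103349) F75211 (iv5 F154899)
theorem F388012 : act 0 n192100 = n192849 := d17_2 F383640 D192100 F388011 F385633 F367494 F136510 D98494 D191515 F383639
theorem F388013 : act 1 n192111 = n192849 := d17_6 (iv1 F73574) F35300 (iv1 F34816) D46586 D99718 D192111 F388011 (iv0 D192117) (iv4 D99726)
def n192850 : Q := act 0 n100822
theorem D192850 : act 0 n100822 = n192850 := rfl
theorem F388014 : act 5 n192850 = n162709 := d17_3 D47007 D100822 D192850 (iv4 D162709) (iv5 D78187) (iv0 F117854) D83091 F298286 (iv4 F308261)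
theorem F388015 : act 4 n192850 = n121055 := d18_3 F300475 F356159 D192850 (iv5 D121055) (iv4 D55851) D55850 D121051 F193048 D173825
theorem F388016 : act 1 n100827 = n192850 := d15_0 (iv0 D192850) (iv7 F268750) F268748
theorem F388017 : act 2 n162735 = n192850 := d1_3 F388015 F272497 (iv4 F272498)
theorem F388018 : act 7 n162762 = n192850 := d11_0 F388015 F193053 D162762
def n192851 : Q := act 1 n100822
theorem D192851 : act 1 n100822 = n192851 := rfl
theorem F388019 : act 1 n192851 = n100827 := d15_1 D192851 (iv7 F387937) F387935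
theorem F388020 : act 7 n192851 = n162735 := d15_2 (iv0 D192850) D192851 F388017
theorem F388021 : act 5 n192851 = n121044 := d17_7 F312790 (iv5 D83126) (iv1 F121254) F315037 F155508 D100822 D192851 (iv0 F346706) (iv4 F313353)
theorem F388022 : act 4 n192851 = n162712 := d17_9 (iv1 F272504) F272502 F298673 D98213 F357490 (iv5 F357491) F154872 D100822 D192851
theorem F388023 : act 3 n100929 = n192851 := d20_3 D191909 F384794 (iv4 F366171) (iv1 D192851) (iv3 F336659) F181232 F172456 F332946 (iv3 F256040) F343485
theorem F388024 : act 2 n162762 = n192851 := d1_3 F388022 F256944 D162762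
theorem F388025 : act 0 n191366 = n100828 := d21_4 D123974 (iv1 F383234) (iv5 D191365) D191366 (iv6 D100828) D100827 (iv1 F388019) F388021 F355388 F355389
def n192852 : Q := act 5 n100825
theorem D192852 : act 5 n100825 = n192852 := rfl
theorem F388026 : act 3 n192852 = n100827 := d6_1 D192852 (iv5 D100827) D100825
def n192853 : Q := act 6 n100825
theorem D192853 : act 6 n100825 = n192853 := rfl
theorem F388027 : act 3 n192853 = n100828 := d7_1 D192853 (iv6 D100828) D100825
theorem F388028 : act 4 n192853 = n152177 := d10_1 D192853 (iv6 D152177) (iv4 F307748)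
def n192854 : Q := act 6 n100827
theorem D192854 : act 6 n100827 = n192854 := rfl
def n192855 : Q := act 0 n100828
theorem D192855 : act 0 n100828 = n192855 := rfl
theorem F388029 : act 3 n192855 = n100948 := d20_5 (iv4 F311564) F361625 (iv4 F388028) F388027 D192855 F338091 (iv1 F386587) F386584 (iv3 F386560) F386562
theorem F388030 : act 5 n192855 = n101930 := d21_0 F387888 F387886 F324288 (iv1 F156711) F354506 (iv5 F388014) (iv1 F388016) (iv5 D100827) D100828 D192855
theorem F388031 : act 7 n186875 = n192855 := d13_0 F388030 (iv7 F338124) F368398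
def n192856 : Q := act 5 n100828
theorem D192856 : act 5 n100828 = n192856 := rfl
theorem F388032 : act 1 n192856 = n189629 := d17_6 D82960 D173356 F353790 (iv5 F315040) F353802 D192856 F377190 (iv0 D100727) F74194
theorem F388033 : act 0 n192856 = n175517 := d21_1 D192856 (iv5 D175517) F315048 (iv1 D57749) D57753 D123974 (iv1 F383234) (iv5 D191365) D191366 F388025
theorem F388034 : act 4 n102674 = n192856 := d18_7 F312000 F348279 F303405 (iv4 F303663) D154562 (iv4 F382988) F382992 F388032 F377190
def n192857 : Q := act 7 n100828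
theorem D192857 : act 7 n100828 = n192857 := rfl
theorem F388035 : act 1 n186875 = n192857 := d15_1 (iv0 F384813) (iv7 D192857) (iv2 F268751)
def n192858 : Q := act 3 n100830
theorem D192858 : act 3 n100830 = n192858 := rfl
theorem F388036 : act 2 n192858 = n123552 := d0_1 D192858 F197971 (iv2 F329216) D115977 (iv2 F356152)
theorem F388037 : act 5 n192858 = n123525 := d6_2 F356151 D192858 (iv3 F356148)
theorem F388038 : act 7 n192858 = n123524 := d8_2 F387944 D192858 (iv3 F387945)
theorem F388039 : act 1 n123550 = n192858 := d15_1 D123550 F388038 F197944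
theorem F388040 : act 1 n192858 = n123549 := d15_1 F388039 (iv7 F385212) F385209
def n192859 : Q := act 6 n100830
theorem D192859 : act 6 n100830 = n192859 := rfl
theorem F388041 : act 4 n192859 = n111617 := d10_1 D192859 (iv6 F359253) (iv4 F356153)
def n192860 : Q := act 3 n100831
theorem D192860 : act 3 n100831 = n192860 := rfl
theorem F388042 : act 2 n192860 = n145407 := d0_1 D192860 (iv3 F373254) F373253 F257341 (iv2 F356142)
theorem F388043 : act 4 n192860 = n100961 := d5_2 D100831 D192860 (iv3 D100961) (iv4 D47048) (iv3 F74252)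
theorem F388044 : act 5 n192860 = n162978 := d6_2 (iv5 F356143) D192860 (iv3 D162978)
theorem F388045 : act 6 n192860 = n100884 := d7_2 (iv6 F154928) D192860 (iv3 D100884)
theorem F388046 : act 7 n192860 = n144040 := d8_2 (iv7 F356144) D192860 (iv3 F332888)
theorem F388047 : act 0 n107152 = n192860 := d20_4 F41250 D26077 D53935 (iv3 F331785) (iv3 D192860) (iv4 D100831) D100829 (iv4 F356138) (iv3 D113371) F82709
def n192861 : Q := act 4 n100845
theorem D192861 : act 4 n100845 = n192861 := rfl
theorem F388048 : act 2 n192861 = n184320 := d1_1 D192861 (iv4 F387950) F387946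
theorem F388049 : act 5 n192861 = n183123 := d9_2 D100845 D192861 (iv4 F379143) (iv5 F379146) (iv4 D100866) (iv5 D47019) D47018 D100864 F386636 F386634 (iv4 F366944) (iv5 F349157) (iv4 D100850) (iv5 D47014) D47013
theorem F388050 : act 6 n192861 = n113072 := d10_2 (iv6 F368785) D192861 (iv4 D113072)
theorem F388051 : act 7 n192861 = n184319 := d11_2 F387966 D192861 (iv4 F387967)
theorem F388052 : act 0 n192861 = n151373 := d18_2 F387961 D192861 (iv4 F387996) F387995 F286316 F294158 (iv4 F367955) (iv0 F384401) (iv5 F387962)
theorem F388053 : act 1 n192861 = n104140 := d18_6 (iv1 D46998) F35140 D22604 D47013 D100845 D192861 F349155 (iv0 F287722) (iv5 D100798)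
def n192862 : Q := act 5 n100846
theorem D192862 : act 5 n100846 = n192862 := rfl
theorem F388054 : act 2 n192862 = n190760 := d2_1 D192862 F380944 (iv2 F370101)
theorem F388055 : act 6 n192862 = n113073 := d12_2 D100846 D192862 (iv5 D113073) (iv6 F368785) (iv5 D100845)
theorem F388056 : act 0 n192862 = n191034 := d17_2 F380768 D192862 (iv5 D191034) F149885 D190113 (iv0 F378884) (iv5 F367080) F148553 D190716
def n192863 : Q := act 4 n100862
theorem D192863 : act 4 n100862 = n192863 := rfl
theorem F388057 : act 3 n192863 = n150042 := d5_1 D192863 F383081 F379148 (iv4 D100866) (iv3 F155002)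
def n192864 : Q := act 6 n100862
theorem D192864 : act 6 n100862 = n192864 := rfl
theorem F388058 : act 3 n192864 = n100867 := d7_1 D192864 (iv6 D100867) (iv3 F155002)
def n192865 : Q := act 0 n100863
theorem D192865 : act 0 n100863 = n192865 := rfl
theorem F388059 : act 4 n192865 = n187406 := d20_2 F343085 D192865 F370213 (iv1 D104697) (iv3 D48407) (iv4 F63079) (iv1 D41241) D41242 D88352 D185469
theorem F388060 : act 6 n187404 = n192865 := d10_0 F388059 (iv6 D187406) D187404
def n192866 : Q := act 1 n100863
theorem D192866 : act 1 n100863 = n192866 := rfl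
def n192867 : Q := act 5 n100863
theorem D192867 : act 5 n100863 = n192867 := rfl
theorem F388061 : act 3 n192867 = n100870 := d6_1 D192867 (iv5 D100870) (iv3 F155003)
def n192868 : Q := act 7 n100863
theorem D192868 : act 7 n100863 = n192868 := rfl
theorem F388062 : act 3 n192868 = n100871 := d8_1 D192868 (iv7 D100871) (iv3 F155003)
def n192869 : Q := act 6 n100864
theorem D192869 : act 6 n100864 = n192869 := rfl
theorem F388063 : act 7 n192869 = n113069 := d14_2 F387948 D192869 (iv6 D113069) D113070 F387955
def n192870 : Q := act 0 n100865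
theorem D192870 : act 0 n100865 = n192870 := rfl
theorem F388064 : act 4 n192870 = n184323 := d20_2 (iv4 F155004) D192870 (iv3 F386325) (iv1 F386328) (iv3 D185365) (iv4 F293410) F293407 (iv4 F372878) F372877 F363041
theorem E103532 : n192866 = n191270 := ((c20_4 (iv4 F386334) (iv1 F386336) F382847 (iv3 F382840) (iv1 D192866) F155003 (iv4 F155004) D192870 F388064 (iv3 F386325) (iv1 F386328))).symm
theorem F388065 : act 0 n191270 = n100863 := (sb E103532 (iv1 D192866))
theorem F388066 : act 6 n176940 = n192870 := d10_0 F388064 F372635 (iv4 F372633)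
theorem F388067 : act 3 n104315 = n192870 := d20_5 F160238 (iv1 F177593) (iv4 F177595) (iv3 F287791) (iv1 F366989) F388064 (iv1 F287655) F287653 F160418 (iv1 F161693)
def n192871 : Q := act 5 n100865
theorem D192871 : act 5 n100865 = n192871 := rfl
theorem F388068 : act 3 n192871 = n187306 := d6_1 D192871 (iv5 F369779) F158941
theorem F388069 : act 4 n192871 = n192162 := d16_2 (iv4 F155004) D192871 (iv5 D192162) (iv4 F367410) F367411 (iv4 F369232) (iv5 F370961) F370965 F154980
theorem F388070 : act 0 n192871 = n190989 := d17_2 F387868 D192871 (iv5 D190989) F152403 D191723 F384273 F283682 D184324 (iv4 F387867)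
theorem F388071 : act 1 n192871 = n160858 := d17_6 D89086 D186748 F367878 (iv5 D100870) (iv4 F155004) D192871 F353204 (iv0 F353209) F136800
theorem F388072 : act 1 n190874 = n192162 := d18_6 F369761 F369760 F335746 F135757 D97002 D190874 (iv4 F388069) F388071 F353204
def n192872 : Q := act 7 n100865
theorem D192872 : act 7 n100865 = n192872 := rfl
theorem F388073 : act 3 n192872 = n104220 := d8_1 D192872 F343075 F158941
theorem F388074 : act 4 n192872 = n100871 := d11_1 D192872 (iv7 D100871) (iv4 F155004)
theorem F388075 : act 6 n192872 = n182852 := d14_1 D192872 (iv7 F370099) F370098 F154968 D100865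
def n192873 : Q := act 6 n100866
theorem D192873 : act 6 n100866 = n192873 := rfl
theorem F388076 : act 4 n192873 = n100867 := d10_1 D192873 (iv6 D100867) D100866
def n192874 : Q := act 0 n100867
theorem D192874 : act 0 n100867 = n192874 := rfl
def n192875 : Q := act 1 n100867
theorem D192875 : act 1 n100867 = n192875 := rfl
theorem F388077 : act 6 n162762 = n192875 := d21_3 F356133 D123048 F320204 (iv1 D192875) (iv6 D100867) (iv5 D47019) (iv1 D22605) D22606 (iv6 F74253) D100829
theorem F388078 : act 4 n192875 = n162763 := d10_1 F388077 (iv6 D162763) D162762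
def n192876 : Q := act 5 n100867
theorem D192876 : act 5 n100867 = n192876 := rfl
theorem F388079 : act 6 n192876 = n100870 := d12_2 D100867 D192876 (iv5 D100870) (iv6 D47020) D47019
theorem F388080 : act 7 n187155 = n192876 := d14_0 F388079 (iv7 F368797) (iv6 F368801) F288576 D187155
theorem F388081 : act 4 n192876 = n187159 := d11_1 F388080 (iv7 D187159) (iv4 F369256)
def n192877 : Q := act 7 n100867
theorem D192877 : act 7 n100867 = n192877 := rfl
theorem F388082 : act 5 n192877 = n187155 := d13_1 D192877 F388080 (iv5 D192876)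
def n192878 : Q := act 4 n100870
theorem D192878 : act 4 n100870 = n192878 := rfl
theorem F388083 : act 2 n192878 = n187145 := d1_1 D192878 F369236 (iv2 F368795)
theorem F388084 : act 6 n192878 = n187159 := d10_2 F388079 D192878 (iv4 F388081)
theorem F388085 : act 7 n192878 = n186010 := d11_2 F368797 D192878 (iv4 F368802)
theorem F388086 : act 5 n192878 = n187131 := d16_7 F367410 D192162 (iv4 F388069) (iv5 D192871) F155004 D100870 D192878 (iv7 D187131) (iv2 F367409)
theorem F388087 : act 0 n192878 = n187144 := d18_2 F367878 D192878 (iv4 F384274) (iv5 D191723) (iv4 F152403) (iv0 F369762) F369760 F270423 D186748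
theorem F388088 : act 1 n192878 = n187143 := d18_6 (iv1 F287657) (iv4 F387867) F387868 F155004 D100870 D192878 (iv4 F384269) F384268 (iv5 F365783)
def n192879 : Q := act 1 n100876
theorem D192879 : act 1 n100876 = n192879 := rfl
theorem F388089 : act 1 n192879 = n192138 := d15_1 D192879 (iv7 F385712) (iv2 F335334)
theorem F388090 : act 5 n192879 = n192107 := d17_7 (iv1 F275103) (iv5 D83882) (iv1 D38629) D38630 D83886 (iv5 F335336) D192879 F385582 F337652
theorem F388091 : act 4 n192879 = n192100 := d18_7 (iv1 F272743) (iv4 D99726) (iv1 F73574) (iv4 F74551) (iv5 F156827) (iv4 F335335) D192879 F385546 (iv5 D191522)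
theorem F388092 : act 3 n100971 = n192879 := d6_3 F388090 (iv3 F385583) F157101
def n192880 : Q := act 4 n100878
theorem D192880 : act 4 n100878 = n192880 := rfl
theorem F388093 : act 2 n192880 = n184255 := d1_1 D192880 F365056 F365062
theorem F388094 : act 7 n192880 = n184254 := d11_2 (iv7 F365061) D192880 F365059
theorem F388095 : act 0 n192880 = n184236 := d18_2 F365347 D192880 (iv4 D184236) (iv5 D87877) (iv4 F134841) (iv0 F154962) (iv4 D100861) (iv0 F157779) (iv5 F349987)
theorem F388096 : act 1 n192880 = n184258 := d18_6 F294728 (iv4 F158606) F381202 F381201 F375506 D192880 F286186 (iv0 F152927) F152925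
def n192881 : Q := act 6 n100878
theorem D192881 : act 6 n100878 = n192881 := rfl
theorem F388097 : act 3 n192881 = n100881 := d7_1 D192881 (iv6 D100881) D100878
def n192882 : Q := act 0 n100881
theorem D192882 : act 0 n100881 = n192882 := rfl
def n192883 : Q := act 1 n100881
theorem D192883 : act 1 n100881 = n192883 := rfl
def n192884 : Q := act 7 n100881
theorem D192884 : act 7 n100881 = n192884 := rfl
theorem F388098 : act 4 n192884 = n186988 := d11_1 D192884 (iv7 F368772) (iv4 F368775)
theorem F388099 : act 6 n192884 = n192138 := d14_1 D192884 (iv7 F385712) (iv6 F357399) F270480 D100881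
def n192885 : Q := act 6 n100891
theorem D192885 : act 6 n100891 = n192885 := rfl
theorem F388100 : act 2 n192885 = n154821 := d3_1 D192885 (iv6 F334942) F251427
theorem F388101 : act 3 n192885 = n114565 := d7_1 D192885 (iv6 D114565) (iv3 F155033)
theorem F388102 : act 4 n192885 = n119757 := d10_1 D192885 F305953 F307858
theorem F388103 : act 5 n192885 = n117808 := d12_1 D192885 (iv6 D117808) (iv5 F332502) (iv6 D100892) D100891
theorem F388104 : act 7 n192885 = n154931 := d14_2 (iv7 F155034) D192885 F334947 F307113 F305326
theorem F388105 : act 0 n192885 = n190328 := d21_10 F379411 F340098 (iv5 F331620) F232920 (iv1 F259460) F337025 F159138 (iv1 D100890) D100891 D192885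
theorem F388106 : act 0 n190330 = n192885 := d21_4 (iv5 F114918) (iv1 F252505) (iv5 F340864) (iv6 F379419) (iv6 D192885) (iv5 D100891) D100889 F155018 (iv6 F314864) (iv1 D146513)
def n192886 : Q := act 5 n100893
theorem D192886 : act 5 n100893 = n192886 := rfl
def n192887 : Q := act 0 n100895
theorem D192887 : act 0 n100895 = n192887 := rfl
theorem F388107 : act 5 n192887 = n151961 := d17_3 (iv1 D100894) D100895 D192887 F238966 (iv5 F261564) F361505 (iv5 D150387) F301157 F340978
theorem F388108 : act 7 n192067 = n192887 := d13_0 F388107 (iv7 F361923) D192067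
def n192888 : Q := act 1 n100895
theorem D192888 : act 1 n100895 = n192888 := rfl
theorem F388109 : act 5 n192888 = n151962 := d17_7 (iv1 D117815) (iv5 D54266) D54264 (iv5 F332502) F155038 D100895 D192888 (iv0 F361482) (iv4 F361486)
theorem F388110 : act 2 n192067 = n192888 := d2_3 F388109 (iv2 F361922) D192067
def n192889 : Q := act 4 n100895
theorem D192889 : act 4 n100895 = n192889 := rfl
theorem F388111 : act 6 n192889 = n185987 := d10_2 (iv6 F155040) D192889 (iv4 D185987)
def n192890 : Q := act 7 n100895
theorem D192890 : act 7 n100895 = n192890 := rfl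
theorem F388112 : act 3 n192890 = n100909 := d8_1 D192890 (iv7 D100909) (iv3 F155039)
theorem F388113 : act 5 n192890 = n100896 := d13_1 D192890 (iv7 D100896) D100895
theorem F388114 : act 1 n192067 = n192890 := d15_1 (iv0 F385415) (iv7 D192890) (iv2 F283232)
def n192891 : Q := act 4 n100900
theorem D192891 : act 4 n100900 = n192891 := rfl
theorem F388115 : act 2 n192891 = n186876 := d1_1 D192891 (iv4 D186876) (iv2 F366762)
theorem F388116 : act 7 n192891 = n186878 := d11_2 F366763 D192891 (iv4 D186878)
theorem F388117 : act 0 n192891 = n191817 := d18_2 F385566 D192891 (iv4 D191817) (iv5 D98971) (iv4 F152501) F272751 F153502 D99706 D192104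
def n192892 : Q := act 6 n100900
theorem D192892 : act 6 n100900 = n192892 := rfl
theorem F388118 : act 2 n192892 = n186877 := d3_1 D192892 (iv6 D186877) (iv2 F366762)
theorem F388119 : act 5 n192892 = n101936 := d12_1 D192892 (iv6 D101936) (iv5 F155044) (iv6 D100901) D100900
def n192893 : Q := act 4 n100905
theorem D192893 : act 4 n100905 = n192893 := rfl
theorem F388120 : act 2 n192893 = n186878 := d1_1 D192893 (iv4 D186878) (iv2 F366706)
theorem F388121 : act 3 n192893 = n189197 := d5_1 D192893 (iv4 D189197) (iv3 F154252) (iv4 F383233) F383229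
theorem F388122 : act 6 n192893 = n189199 := d10_2 F386952 D192893 (iv4 F386950)
theorem F388123 : act 7 n192893 = n186876 := d11_2 F366705 D192893 (iv4 D186876)
theorem F388124 : act 5 n192893 = n187209 := d16_1 D192893 F369518 (iv5 F143132) F339468 (iv5 D174016) F270521 D100900 (iv7 F366763) (iv2 F366706)
theorem F388125 : act 1 n192893 = n191817 := d18_6 (iv1 F73841) (iv4 F127156) (iv1 F128278) F272666 D100905 D192893 (iv4 D191817) (iv0 F152502) (iv5 D98356)
theorem F388126 : act 0 n191653 = n189199 := d21_4 F140171 (iv1 F139366) (iv5 F368814) (iv6 F384061) (iv6 F388122) F388124 (iv1 F383509) (iv5 D191453) F151786 (iv1 F292658)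
def n192894 : Q := act 3 n100908
theorem D192894 : act 3 n100908 = n192894 := rfl
theorem F388127 : act 6 n192894 = n186003 := d7_2 (iv6 F155047) D192894 (iv3 D186003)
def n192895 : Q := act 5 n100908
theorem D192895 : act 5 n100908 = n192895 := rfl
theorem F388128 : act 2 n192895 = n186888 := d2_1 D192895 (iv5 D186888) (iv2 F155046)
theorem F388129 : act 6 n192895 = n123605 := d12_2 (iv6 F155047) D192895 (iv5 F364202) (iv6 D104366) (iv5 F293257)
theorem F388130 : act 4 n192895 = n187210 := d16_2 D100908 D192895 F369519 F208633 (iv5 F322822) F112947 D89337 F137023 (iv2 F74282)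
theorem F388131 : act 0 n187436 = n192895 := d19_0 (iv5 D192895) (iv4 D100908) (iv3 F155039) D192887 F388107 F238966 F215401 (iv1 F205872) F317612 (iv4 F317601) F317600 (iv1 F333303) F177587 F157538 F74857 (iv1 F74797) D102546 (iv4 F364376) (iv3 F370316)
def n192896 : Q := act 7 n100908
theorem D192896 : act 7 n100908 = n192896 := rfl
theorem F388132 : act 2 n192896 = n186873 := d4_1 D192896 F368394 (iv2 F155046)
theorem F388133 : act 4 n192896 = n100909 := d11_1 D192896 (iv7 D100909) D100908
theorem F388134 : act 1 n186886 = n192896 := d15_1 D186886 (iv7 D192896) F155046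
theorem F388135 : act 1 n192896 = n186885 := d15_1 F388134 (iv7 F386407) F386406
def n192897 : Q := act 6 n100909
theorem D192897 : act 6 n100909 = n192897 := rfl
theorem F388136 : act 2 n192897 = n186872 := d3_1 D192897 F368392 (iv2 F155048)
theorem F388137 : act 5 n192897 = n186534 := d12_1 D192897 (iv6 D186534) F136216 (iv6 F74286) (iv5 F155049)
theorem F388138 : act 7 n192897 = n186006 := d14_2 D100909 D192897 (iv6 D186006) (iv7 D88601) (iv6 F74283)
theorem F388139 : act 1 n186997 = n192897 := d15_1 D186997 F388138 F288564
theorem F388140 : act 0 n186887 = n192897 := d19_0 F388137 F289454 (iv3 F357187) F297681 (iv5 D59667) F45827 F22663 D13515 F37151 F317413 (iv3 F60602) D85985 F155444 (iv4 F190298) F309567 (iv1 D41726) D41727 D89350 D186887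
def n192898 : Q := act 3 n100930
theorem D192898 : act 3 n100930 = n192898 := rfl
theorem F388141 : act 4 n192898 = n104245 := d5_2 D100930 D192898 F365555 (iv4 F365564) F155061
theorem F388142 : act 6 n192898 = n104244 := d7_2 (iv6 F385874) D192898 (iv3 F360817)
def n192899 : Q := act 7 n100931
theorem D192899 : act 7 n100931 = n192899 := rfl
theorem F388143 : act 2 n192899 = n189142 := d4_1 D192899 F385049 F385044
theorem F388144 : act 3 n192899 = n102595 := d8_1 D192899 (iv7 F385870) (iv3 F385872)
theorem F388145 : act 6 n192899 = n189048 := d14_1 D192899 F385059 (iv6 D191977) F156862 D100931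
theorem F388146 : act 1 n188699 = n192899 := d15_1 F385048 (iv7 D192899) (iv2 F385044)
theorem F388147 : act 1 n192899 = n188703 := d15_1 F388146 F380071 (iv2 F380062)
def n192900 : Q := act 3 n100946
theorem D192900 : act 3 n100946 = n192900 := rfl
theorem F388148 : act 4 n192900 = n167234 := d5_2 D100946 D192900 (iv3 F332015) (iv4 F332012) F155075
theorem F388149 : act 3 n145566 = n192340 := d20_3 F225166 (iv1 F350120) (iv4 F351575) F386513 D192900 F388148 (iv1 D167234) D167235 F350963 (iv1 F351576)
theorem F388150 : act 5 n192340 = n145565 := d6_2 D145566 F388149 (iv3 D145565)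
theorem F388151 : act 3 n145397 = n142140 := d20_5 (iv4 D100946) (iv1 F155069) F366171 F228434 (iv1 F228432) F225166 (iv1 F350120) (iv4 F351575) F388149 F386513
theorem F388152 : act 6 n142138 = n145397 := d7_0 F388151 (iv6 D142140) D142138
theorem F388153 : act 0 n145424 = n192900 := d18_0 F388148 (iv1 D167234) D167235 (iv5 F350962) (iv4 F331766) (iv0 D150088) (iv4 F331764) (iv0 D145421) D145424
theorem F388154 : act 1 n175112 = n192900 := d18_6 (iv1 F130197) (iv4 F319020) F184624 (iv4 F311228) D83631 D175112 F388148 (iv0 F305461) F305463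
def n192901 : Q := act 6 n100946
theorem D192901 : act 6 n100946 = n192901 := rfl
theorem F388155 : act 4 n192901 = n100947 := d10_1 D192901 (iv6 D100947) D100946
theorem F388156 : act 0 n188942 = n192901 := d21_4 (iv5 D43474) D43471 D92917 D188942 (iv6 D192901) (iv5 F386624) (iv1 D192388) (iv5 D100136) F73855 (iv1 F293156)
theorem F388157 : act 1 n108446 = n192901 := d18_6 (iv1 F368569) (iv4 F378192) (iv1 F378193) (iv4 F387901) F387904 F172371 F388155 (iv0 F293434) F293436
def n192902 : Q := act 1 n100955
theorem D192902 : act 1 n100955 = n192902 := rfl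
theorem F388158 : act 1 n192902 = n186956 := d15_1 D192902 F385063 F385060
def n192903 : Q := act 7 n100955
theorem D192903 : act 7 n100955 = n192903 := rfl
theorem F388159 : act 2 n192903 = n186956 := d4_1 D192903 F385063 F385060
theorem F388160 : act 4 n192903 = n108429 := d11_1 D192903 F385069 F385070
theorem F388161 : act 5 n192903 = n186575 := d13_1 D192903 F367285 (iv5 F155573)
theorem F388162 : act 1 n186956 = n189071 := d15_0 (iv0 F385621) D192903 F388159
def n192904 : Q := act 4 n100957
theorem D192904 : act 4 n100957 = n192904 := rfl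
theorem F388163 : act 2 n192904 = n154293 := d1_1 D192904 F242395 (iv2 F306426)
theorem F388164 : act 3 n192904 = n149029 := d5_1 D192904 (iv4 F386619) (iv3 D192384) F155571 D100957
theorem F388165 : act 5 n192904 = n128155 := d9_2 (iv5 F306427) D192904 (iv4 D128155) (iv5 D60235) F46197 D28630 (iv4 F50908) D33674 D73104 (iv5 F311889) (iv4 D133078) (iv5 F311890) (iv4 D78234) D78235 F190966
theorem F388166 : act 7 n192904 = n123662 := d11_2 (iv7 F306428) D192904 (iv4 D123662)
theorem F388167 : act 0 n192904 = n104137 := d17_0 F307371 F340245 (iv5 F304712) F340232 (iv5 D101210) (iv0 D47134) D47136 (iv0 F184733) D192904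
theorem F388168 : act 1 n192904 = n154289 := d18_6 D58268 F190610 (iv1 F190965) F190966 (iv5 F306427) D192904 F307395 (iv0 F306637) (iv5 D58270)
def n192905 : Q := act 6 n100957
theorem D192905 : act 6 n100957 = n192905 := rfl
theorem F388169 : act 2 n192905 = n154294 := d3_1 D192905 (iv6 D154294) (iv2 F306426)
theorem F388170 : act 3 n192905 = n100958 := d7_1 D192905 (iv6 D100958) D100957
theorem F388171 : act 5 n192905 = n154237 := d12_1 D192905 (iv6 D154237) F109592 (iv6 F90796) (iv5 F306427)
theorem F388172 : act 0 n192905 = n154528 := d21_4 (iv5 D73000) F190565 (iv5 F306427) D192905 (iv6 D154528) (iv5 D73194) D73191 (iv5 F231622) F353727 (iv1 F306443)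
theorem F388173 : act 0 n182525 = n192905 := d21_7 (iv5 F240099) (iv1 F242054) (iv5 F306915) (iv6 F349688) F360189 (iv6 D182526) D182525 F388171 (iv6 D154237) (iv1 F198109)
def n192906 : Q := act 0 n100958
theorem D192906 : act 0 n100958 = n192906 := rfl
theorem F388174 : act 5 n192906 = n182488 := d21_0 (iv1 F352462) F352465 (iv6 F384882) (iv1 F384884) (iv6 F156798) F156795 F156483 F136880 D100958 D192906
def n192907 : Q := act 7 n100958
theorem D192907 : act 7 n100958 = n192907 := rfl
theorem F388175 : act 6 n192907 = n186956 := d14_1 D192907 F385063 (iv6 D191978) F156761 D100958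
def n192908 : Q := act 3 n100959
theorem D192908 : act 3 n100959 = n192908 := rfl
theorem F388176 : act 7 n192908 = n192379 := d8_2 (iv7 F268288) D192908 (iv3 D192379)
theorem F388177 : act 0 n140662 = n192908 := d20_4 (iv4 F101679) (iv1 F162139) F162135 D140662 (iv3 D192908) F268287 (iv1 F152916) (iv4 F329204) F101549 D65887
def n192909 : Q := act 5 n100959
theorem D192909 : act 5 n100959 = n192909 := rfl
theorem F388178 : act 2 n192909 = n145401 := d2_1 D192909 F366172 F268286
theorem F388179 : act 7 n192909 = n145346 := d13_2 (iv7 F268288) D192909 F359735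
theorem F388180 : act 0 n192909 = n145402 := d17_2 D100959 D192909 (iv5 F386524) F386522 F156795 (iv0 F156723) F153516 (iv0 D47046) D47048
theorem F388181 : act 1 n192909 = n107154 := d17_6 D100100 F154036 (iv1 F318850) F343489 (iv4 F268287) D192909 F385632 F385630 (iv4 D100102)
theorem F388182 : act 0 n192522 = n188088 := d21_4 D192909 F388180 (iv5 F386524) (iv6 F386943) (iv6 D188088) (iv5 F291250) (iv1 F143226) (iv5 F293128) (iv6 F74292) D100959
theorem F388183 : act 1 n192522 = n192439 := d15_1 (iv0 F388182) (iv7 D192439) (iv2 F372297)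
theorem F388184 : act 1 n192518 = n188088 := d15_0 (iv0 F388182) F386944 (iv2 F386935)
theorem F388185 : act 1 n192439 = n192518 := d15_1 F388183 F386934 (iv2 F386942)
def n192910 : Q := act 6 n100959
theorem D192910 : act 6 n100959 = n192910 := rfl
theorem F388186 : act 2 n192910 = n192375 := d3_1 D192910 (iv6 D192375) F268286
theorem F388187 : act 4 n192910 = n111127 := d10_1 D192910 (iv6 F380323) (iv4 F268287)
theorem F388188 : act 5 n192910 = n187818 := d21_6 (iv5 F291250) (iv1 F143226) (iv5 F293128) (iv6 F74292) D100959 D192910 F387414 F387412 F364765 (iv1 F139739)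
theorem F388189 : act 6 n192909 = n187817 := d12_2 (iv6 D192910) D192909 (iv5 D187817) D187818 (iv5 F388188)
def n192911 : Q := act 3 n100960
theorem D192911 : act 3 n100960 = n192911 := rfl
theorem F388190 : act 7 n192911 = n192374 := d8_2 F268281 D192911 (iv3 D192374)
def n192912 : Q := act 5 n100960
theorem D192912 : act 5 n100960 = n192912 := rfl
theorem F388191 : act 2 n192912 = n145346 := d2_1 D192912 F359735 (iv2 F268285)
theorem F388192 : act 7 n192912 = n145401 := d13_2 F268281 D192912 F366172
theorem F388193 : act 0 n192912 = n107154 := d17_2 (iv1 F385091) D192912 F385632 (iv4 D192116) (iv5 D99722) (iv0 F156724) F136880 F153182 (iv4 F385089)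
theorem F388194 : act 1 n192912 = n145402 := d17_6 (iv1 F154037) F310557 (iv1 F310555) D98531 (iv4 F155575) D192912 (iv5 F386524) F386520 (iv4 D100118)
theorem F388195 : act 6 n107072 = n192912 := d3_0 F388191 (iv6 D145346) (iv2 F359120)
def n192913 : Q := act 6 n100960
theorem D192913 : act 6 n100960 = n192913 := rfl
theorem F388196 : act 2 n192913 = n192380 := d3_1 D192913 (iv6 D192380) (iv2 F268285)
theorem F388197 : act 4 n192913 = n191545 := d10_1 D192913 F383756 (iv4 F155575)
theorem F388198 : act 5 n192913 = n107381 := d12_1 D192913 (iv6 D107381) (iv5 F223614) F388195 (iv5 D192912)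
def n192914 : Q := act 5 n100961
theorem D192914 : act 5 n100961 = n192914 := rfl
theorem F388199 : act 2 n192914 = n145408 := d2_1 D192914 (iv5 D145408) (iv2 F331779)
theorem F388200 : act 3 n192914 = n100962 := d6_1 D192914 (iv5 D100962) D100961
theorem F388201 : act 6 n192914 = n106985 := d12_2 (iv6 F155576) D192914 F375140 (iv6 D188882) F293127
theorem F388202 : act 7 n192914 = n107270 := d13_2 (iv7 F331780) D192914 F165316
theorem F388203 : act 4 n192914 = n106986 := d16_6 D107162 (iv5 F332893) F282126 (iv5 F388044) F388043 D192914 F164904 F161349 F161350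
theorem F388204 : act 1 n192914 = n107401 := d17_8 F165890 (iv5 D107521) (iv1 F78468) F50045 (iv4 F50039) (iv5 F104320) (iv0 F331777) D192914 F165451
theorem F388205 : act 1 n126345 = n192914 := d15_0 F388204 (iv7 F202240) (iv2 F203158)
def n192915 : Q := act 0 n100962
theorem D192915 : act 0 n100962 = n192915 := rfl
theorem F388206 : act 5 n192915 = n191902 := d17_3 (iv1 D100960) D100962 D192915 (iv4 D191902) (iv5 D99306) (iv0 D46433) D46435 (iv0 F151926) (iv4 F155575)
theorem F388207 : act 2 n192345 = n192915 := d2_3 F388206 F384766 D192345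
theorem F388208 : act 7 n192367 = n192915 := d13_0 F388206 F384767 D192367
def n192916 : Q := act 1 n100962
theorem D192916 : act 1 n100962 = n192916 := rfl
theorem F388209 : act 7 n192916 = n192345 := d15_2 (iv0 D192915) D192916 F388207
theorem F388210 : act 5 n192916 = n191909 := d17_7 (iv1 F155072) (iv5 D47044) (iv1 D22615) D22616 D47048 D100962 D192916 F384795 (iv4 D101836)
theorem F388211 : act 2 n192367 = n192916 := d2_3 F388210 F384792 D192367
def n192917 : Q := act 4 n100962
theorem D192917 : act 4 n100962 = n192917 := rfl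
theorem F388212 : act 3 n192917 = n140682 := d5_1 D192917 (iv4 D140682) (iv3 F164903) (iv4 F388203) F388200
theorem F388213 : act 7 n141985 = n192917 := d8_0 F388212 F223772 (iv3 F225013)
def n192918 : Q := act 7 n100962
theorem D192918 : act 7 n100962 = n192918 := rfl
theorem F388214 : act 3 n192918 = n107270 := d8_1 D192918 (iv7 F388202) F388200
theorem F388215 : act 4 n192918 = n141985 := d11_1 D192918 F388213 (iv4 D192917)
theorem F388216 : act 5 n192918 = n100963 := d13_1 D192918 (iv7 D100963) D100962
theorem F388217 : act 1 n192367 = n192918 := d15_1 (iv0 F386588) (iv7 D192918) (iv2 F385086)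
theorem F388218 : act 1 n192918 = n192345 := d15_1 F388217 (iv7 F388209) (iv2 F388211)
theorem F388219 : act 6 n107356 = n192918 := d21_5 F165048 (iv1 F180533) (iv5 D49594) D49595 D107356 F388216 (iv1 F155578) (iv5 F359735) (iv6 D145346) (iv1 F165050)
theorem E103533 : n107356 = n107268 := ((c7_4 F388219 F388214 (iv6 D107270) D107268)).symm
theorem F388220 : act 1 n107268 = n49595 := (sb E103533 (iv0 D107356))
theorem F388221 : act 6 n107268 = n192918 := (sb E103533 F388219)
def n192919 : Q := act 6 n100963
theorem D192919 : act 6 n100963 = n192919 := rfl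
theorem F388222 : act 2 n192919 = n140433 := d3_1 D192919 (iv6 F385090) F385087
theorem F388223 : act 3 n192919 = n140729 := d7_1 D192919 F339975 (iv3 F331781)
theorem F388224 : act 4 n192919 = n100964 := d10_1 D192919 (iv6 D100964) (iv4 F155577)
theorem F388225 : act 7 n192919 = n100991 := d14_2 D100963 D192919 (iv6 D100991) (iv7 D47057) (iv6 F74292)
theorem F388226 : act 1 n139320 = n192919 := d15_1 (iv0 F375061) F388225 (iv2 F375058)
theorem F388227 : act 0 n139315 = n192919 := d20_1 D139315 F388224 (iv3 F357516) (iv1 D115926) (iv3 D53451) (iv4 D25895) (iv1 F20390) D14535 D30665 D65391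
def n192920 : Q := act 0 n100968
theorem D192920 : act 0 n100968 = n192920 := rfl
theorem F388228 : act 4 n192920 = n192020 := d18_3 F157302 D100968 D192920 F385229 F153287 F157764 F65978 F157749 D97953
theorem F388229 : act 3 n192920 = n192171 := d20_5 (iv4 F375248) (iv1 D188954) D188955 F375251 D192920 F385854 (iv1 D102276) F74645 (iv3 F74484) D101457
theorem F388230 : act 1 n184688 = n192920 := d15_0 (iv0 D192920) F356753 (iv2 F356750)
theorem F388231 : act 7 n192019 = n192920 := d8_0 F388229 F385853 (iv3 F385226)
def n192921 : Q := act 1 n100968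
theorem D192921 : act 1 n100968 = n192921 := rfl
theorem F388232 : act 1 n192921 = n184688 := d15_1 D192921 (iv7 F385250) F385249
theorem F388233 : act 4 n191266 = n192921 := d20_6 (iv4 F143232) F293129 F74295 D99320 F371256 (iv3 F382819) (iv1 D192921) (iv4 D100968) (iv3 D47050) (iv1 F293210)
theorem F388234 : act 2 n192921 = n192019 := d1_1 F388233 (iv4 D192019) (iv2 F382818)
theorem F388235 : act 3 n137010 = n192921 := d20_5 F24029 D14388 D30324 D64398 D137010 (iv4 F388233) F382822 (iv4 D136987) (iv3 D64383) (iv1 D30319)
def n192922 : Q := act 5 n100968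
theorem D192922 : act 5 n100968 = n192922 := rfl
theorem F388236 : act 3 n192922 = n153884 := d6_1 D192922 (iv5 F375253) F375251
theorem F388237 : act 7 n192922 = n192561 := d13_2 (iv7 F356753) D192922 F387076
theorem F388238 : act 6 n153879 = n192922 := d14_5 F388237 (iv6 D192561) (iv7 D100390) F306388 (iv7 F241805)
def n192923 : Q := act 6 n100968
theorem D192923 : act 6 n100968 = n192923 := rfl
theorem F388239 : act 2 n192923 = n191745 := d3_1 D192923 F385252 F385249
theorem F388240 : act 3 n192923 = n153886 := d7_1 D192923 (iv6 F375252) F375251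
theorem F388241 : act 4 n192923 = n100969 := d10_1 D192923 (iv6 D100969) D100968
theorem F388242 : act 5 n192923 = n124359 := d12_1 D192923 F351759 D153879 F388238 (iv5 D192922)
theorem F388243 : act 7 n192923 = n177809 := d14_2 (iv7 F356753) D192923 F277323 F139328 D102585
theorem F388244 : act 1 n143404 = n192923 := d15_1 (iv0 F349510) F388243 F277321
theorem F388245 : act 1 n192923 = n124378 := d15_1 F388244 (iv7 F301779) (iv2 F349508)
def n192924 : Q := act 0 n100969
theorem D192924 : act 0 n100969 = n192924 := rfl
def n192925 : Q := act 1 n100969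
theorem D192925 : act 1 n100969 = n192925 := rfl
theorem F388246 : act 1 n192925 = n191744 := d15_1 D192925 (iv7 F385256) F385253
def n192926 : Q := act 7 n100969
theorem D192926 : act 7 n100969 = n192926 := rfl
theorem F388247 : act 2 n192926 = n191744 := d4_1 D192926 (iv7 F385256) F385253
theorem F388248 : act 3 n192926 = n100972 := d8_1 D192926 (iv7 D100972) (iv3 F155585)
theorem F388249 : act 4 n192926 = n177809 := d11_1 D192926 (iv7 F388243) F388241
theorem F388250 : act 6 n192926 = n187739 := d14_1 D192926 F371381 (iv6 F356752) F292934 D100969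
theorem F388251 : act 1 n191744 = n192924 := d15_0 (iv0 D192924) D192926 F388247
def n192927 : Q := act 4 n100971
theorem D192927 : act 4 n100971 = n192927 := rfl
def n192928 : Q := act 6 n100971
theorem D192928 : act 6 n100971 = n192928 := rfl
theorem F388252 : act 5 n192928 = n188234 := d12_1 D192928 F372771 (iv5 D102281) D102282 F157101
def n192929 : Q := act 0 n100976
theorem D192929 : act 0 n100976 = n192929 := rfl
theorem F388253 : act 1 n192480 = n192929 := d15_0 (iv0 D192929) F155587 D192480
def n192930 : Q := act 1 n100976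
theorem D192930 : act 1 n100976 = n192930 := rfl
theorem F388254 : act 3 n108714 = n192930 := d20_3 (iv4 D67582) (iv1 F162083) (iv4 F168660) (iv1 D192930) (iv3 D100976) F74299 (iv1 F73308) (iv4 F73885) (iv3 F329666) (iv1 F103461)
theorem F388255 : act 4 n192930 = n144708 := d5_2 (iv4 F168660) F388254 (iv3 D144708) (iv4 D67812) (iv3 F111396)
theorem F388256 : act 6 n192930 = n140662 := d7_2 (iv6 F168661) F388254 (iv3 D140662)
theorem F388257 : act 7 n192930 = n108712 := d8_2 D108714 F388254 F168659
theorem F388258 : act 2 n108712 = n192929 := d15_3 (iv0 D192929) D192930 F388257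
theorem F388259 : act 2 n192930 = n192479 := d15_3 (iv0 D192479) (iv0 F365338) (iv7 F388257)
theorem F388260 : act 7 n192479 = n192929 := d4_2 (iv7 F388257) F388259 (iv2 F388258)
theorem F388261 : act 1 n192930 = n192480 := d15_0 F388253 (iv7 F388260) (iv2 F388259)
theorem F388262 : act 6 n192929 = n108711 := d3_2 D108712 F388258 (iv2 D108711)
def n192931 : Q := act 2 n100976
theorem D192931 : act 2 n100976 = n192931 := rfl
theorem F388263 : act 3 n192931 = n192455 := d0_2 D100976 D192931 (iv2 D192455) (iv3 D100193) F74298
theorem F388264 : act 5 n192931 = n192546 := d2_2 F367191 D192931 (iv2 D192546)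
theorem F388265 : act 7 n192931 = n192480 := d4_2 (iv7 F155587) D192931 (iv2 D192480)
theorem F388266 : act 1 n192931 = n192479 := d15_0 (iv0 D192479) (iv7 F155587) D192931
theorem F388267 : act 1 n108712 = n192931 := d15_0 F388266 F388260 (iv2 F388258)
def n192932 : Q := act 4 n100976
theorem D192932 : act 4 n100976 = n192932 := rfl
theorem F388268 : act 3 n192932 = n191917 := d5_1 D192932 (iv4 D191917) (iv3 D99318) (iv4 F74299) D100976
theorem F388269 : act 7 n192932 = n192473 := d11_2 (iv7 F155587) D192932 F386770
def n192933 : Q := act 6 n100976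
theorem D192933 : act 6 n100976 = n192933 := rfl
theorem F388270 : act 3 n192933 = n100978 := d7_1 D192933 (iv6 D100978) D100976
def n192934 : Q := act 0 n100978
theorem D192934 : act 0 n100978 = n192934 := rfl
def n192935 : Q := act 1 n100978
theorem D192935 : act 1 n100978 = n192935 := rfl
theorem F388271 : act 1 n192935 = n192460 := d15_1 D192935 (iv7 D192460) (iv2 F155591)
def n192936 : Q := act 5 n100978
theorem D192936 : act 5 n100978 = n192936 := rfl
theorem F388272 : act 2 n192936 = n192459 := d2_1 D192936 (iv5 D192459) (iv2 F155591)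
theorem F388273 : act 6 n192936 = n192541 := d12_2 D100978 D192936 (iv5 D192541) F154349 (iv5 F293155)
def n192937 : Q := act 7 n100978
theorem D192937 : act 7 n100978 = n192937 := rfl
theorem F388274 : act 2 n192937 = n192460 := d4_1 D192937 (iv7 D192460) (iv2 F155591)
theorem F388275 : act 4 n192937 = n191921 := d11_1 D192937 (iv7 D191921) (iv4 F155592)
theorem F388276 : act 6 n192937 = n192485 := d14_1 D192937 (iv7 D192485) (iv6 D100204) (iv7 F74300) D100978
theorem F388277 : act 1 n192460 = n192934 := d15_0 (iv0 D192934) D192937 F388274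
theorem F388278 : act 1 n192458 = n192937 := d15_1 D192458 (iv7 D192937) F155591
theorem F388279 : act 1 n192937 = n192457 := d15_0 (iv0 D192457) D192460 (iv2 F388274)
def n192938 : Q := act 0 n100979
theorem D192938 : act 0 n100979 = n192938 := rfl
theorem F388280 : act 2 n153619 = n192938 := d15_3 (iv0 D192938) (iv0 F365476) (iv7 F241496)
theorem F388281 : act 1 n192455 = n192938 := d15_0 (iv0 D192938) F155593 D192455
theorem F388282 : act 7 n192938 = n192454 := d4_2 (iv7 F241496) F388280 (iv2 F386747)
theorem F388283 : act 1 n128033 = n192455 := d15_0 F388281 F388282 (iv2 F386747)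
def n192939 : Q := act 2 n100979
theorem D192939 : act 2 n100979 = n192939 := rfl
theorem F388284 : act 3 n192939 = n192480 := d0_2 D100979 D192939 (iv2 D192480) (iv3 D100202) F74296
theorem F388285 : act 7 n192939 = n192455 := d4_2 (iv7 F155593) D192939 (iv2 D192455)
theorem F388286 : act 1 n192939 = n192454 := d15_0 (iv0 D192454) (iv7 F155593) D192939
theorem F388287 : act 1 n153619 = n192939 := d15_0 F388286 (iv7 F388282) (iv2 F388280)
def n192940 : Q := act 4 n100979
theorem D192940 : act 4 n100979 = n192940 := rfl
theorem F388288 : act 3 n192940 = n191923 := d5_1 D192940 (iv4 D191923) (iv3 D99320) (iv4 F74295) D100979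
theorem F388289 : act 7 n192940 = n192448 := d11_2 (iv7 F155593) D192940 F386744
def n192941 : Q := act 6 n100979
theorem D192941 : act 6 n100979 = n192941 := rfl
theorem F388290 : act 3 n192941 = n100981 := d7_1 D192941 (iv6 D100981) D100979
def n192942 : Q := act 5 n100981
theorem D192942 : act 5 n100981 = n192942 := rfl
theorem F388291 : act 2 n192942 = n192484 := d2_1 D192942 (iv5 D192484) (iv2 F155597)
def n192943 : Q := act 7 n100981
theorem D192943 : act 7 n100981 = n192943 := rfl
theorem F388292 : act 2 n192943 = n192485 := d4_1 D192943 (iv7 D192485) (iv2 F155597)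
theorem F388293 : act 4 n192943 = n191926 := d11_1 D192943 (iv7 D191926) (iv4 F155598)
theorem F388294 : act 6 n192943 = n192460 := d14_1 D192943 (iv7 D192460) (iv6 D100195) F74297 D100981
theorem F388295 : act 1 n192483 = n192943 := d15_1 D192483 (iv7 D192943) F155597
theorem F388296 : act 1 n192943 = n192482 := d15_1 F388295 F386783 F386778
def n192944 : Q := act 2 n100982
theorem D192944 : act 2 n100982 = n192944 := rfl
theorem F388297 : act 4 n192944 = n188009 := d1_2 (iv4 F365237) D192944 F372070
theorem F388298 : act 7 n192944 = n100983 := d4_2 F365239 D192944 (iv2 F365235)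
theorem F388299 : act 1 n192944 = n100984 := d15_0 F365477 F365239 D192944
theorem F388300 : act 1 n100986 = n192944 := d15_0 F388299 (iv7 F379912) F379909
def n192945 : Q := act 6 n100982
theorem D192945 : act 6 n100982 = n192945 := rfl
def n192946 : Q := act 6 n100986
theorem D192946 : act 6 n100986 = n192946 := rfl
theorem F388301 : act 2 n192946 = n140428 := d3_1 D192946 (iv6 F379911) F379909
theorem F388302 : act 3 n192946 = n100991 := d7_1 D192946 (iv6 D100991) (iv3 F155600)
theorem F388303 : act 4 n192946 = n116968 := d10_1 D192946 (iv6 F379903) F379905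
theorem F388304 : act 7 n192946 = n140729 := d14_2 D100986 D192946 F339975 (iv7 F331780) F155576
theorem F388305 : act 5 n114328 = n192946 := d13_3 F388304 F339974 F205559
theorem F388306 : act 1 n192946 = n140730 := d17_8 F223670 F339982 F176135 D114418 F339993 F340032 F205567 F388305 F223828
theorem F388307 : act 0 n192946 = n115826 := d18_0 (iv4 F182940) F223667 (iv4 D140516) (iv5 F339987) (iv4 D114326) F94480 (iv4 F205565) F205567 F388305
def n192947 : Q := act 0 n100991
theorem D192947 : act 0 n100991 = n192947 := rfl
theorem F388308 : act 4 n192947 = n111448 := d20_0 (iv1 D111448) F81165 (iv3 D30828) (iv1 F40856) D53379 (iv4 F85010) D116968 (iv4 F388303) F388302 D192947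
theorem F388309 : act 1 n140433 = n192947 := d15_0 (iv0 D192947) (iv7 F388225) F388222
theorem F388310 : act 3 n108709 = n192947 := d20_5 F40857 (iv1 D24481) D24482 D50196 D108709 F388308 (iv1 D111448) F81165 (iv3 D30828) (iv1 F40856)
def n192948 : Q := act 1 n100991
theorem D192948 : act 1 n100991 = n192948 := rfl
theorem F388311 : act 1 n192948 = n140433 := d15_1 D192948 F375062 F375058
theorem F388312 : act 4 n192948 = n111447 := d18_7 F354331 D192760 F387687 F371957 F294249 (iv4 F155613) D192948 (iv0 D111447) (iv5 F171816)
def n192949 : Q := act 3 n100992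
theorem D192949 : act 3 n100992 = n192949 := rfl
theorem F388313 : act 0 n192949 = n136874 := d20_10 (iv4 D136874) (iv1 D64343) (iv4 F84346) (iv3 D53454) (iv1 F40923) D30665 (iv4 F78075) D106862 (iv4 F357501) D192949
theorem F388314 : act 0 n136870 = n192949 := d20_4 (iv4 F85077) F322919 (iv4 F322920) (iv3 F220058) (iv3 D192949) F357501 (iv1 F164684) (iv4 F172958) F172957 (iv1 F84360)
def n192950 : Q := act 5 n100992
theorem D192950 : act 5 n100992 = n192950 := rfl
def n192951 : Q := act 6 n100992
theorem D192951 : act 6 n100992 = n192951 := rfl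
theorem F388315 : act 5 n192951 = n185312 := d21_6 (iv5 D23096) F66082 (iv5 F35160) D47058 D100992 D192951 (iv1 F361678) (iv5 F293436) (iv6 D93080) (iv1 F293193)
def n192952 : Q := act 6 n100993
theorem D192952 : act 6 n100993 = n192952 := rfl
theorem F388316 : act 3 n192952 = n174442 := d7_1 D192952 F354175 (iv3 F357509)
def n192953 : Q := act 4 n100996
theorem D192953 : act 4 n100996 = n192953 := rfl
theorem F388317 : act 3 n192953 = n111133 := d5_1 D192953 (iv4 F215965) (iv3 F328167) (iv4 D101010) (iv3 F155614)
theorem F388318 : act 7 n192953 = n138324 := d11_2 F385468 D192953 (iv4 F385471)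
def n192954 : Q := act 5 n101013
theorem D192954 : act 5 n101013 = n192954 := rfl
theorem F388319 : act 2 n192954 = n153813 := d2_1 D192954 (iv5 D153813) (iv2 F306758)
theorem F388320 : act 3 n192954 = n101020 := d6_1 D192954 (iv5 D101020) (iv3 F155624)
theorem F388321 : act 6 n192954 = n101016 := d12_2 D101013 D192954 (iv5 D101016) (iv6 D47066) D47065
theorem F388322 : act 7 n192954 = n153808 := d13_2 (iv7 F306759) D192954 (iv5 D153808)
theorem F388323 : act 0 n154438 = n192954 := d21_7 (iv5 F64297) (iv1 F64306) (iv5 F64305) D87975 F303721 D153682 (iv5 F242483) (iv5 D192954) (iv6 D101013) F74315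
theorem F388324 : act 0 n135405 = n153682 := d17_0 (iv5 F242483) F388323 (iv5 D192954) F155625 D128170 (iv0 F339293) F339292 F339289 (iv4 F217641)
theorem F388325 : act 1 n184951 = n192954 := d15_0 (iv0 F388323) F310363 D184951
theorem F388326 : act 4 n156092 = n192954 := d10_3 F388321 F339550 (iv6 F245255)
def n192955 : Q := act 1 n101020
theorem D192955 : act 1 n101020 = n192955 := rfl
theorem F388327 : act 1 n192955 = n136992 := d15_1 D192955 F365484 F199506
theorem F388328 : act 5 n149225 = n192955 := d21_6 (iv5 F29360) (iv1 F52830) (iv5 D33508) D33509 D72596 (iv6 F234614) (iv1 D192955) (iv5 D101020) (iv6 D47067) F35292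
theorem F388329 : act 2 n192955 = n101934 := d2_1 F388328 F338072 (iv2 F234613)
theorem F388330 : act 4 n149146 = n192955 := d18_7 (iv1 F106413) (iv4 D32497) (iv1 D15382) (iv4 F24955) D32488 D69988 D149146 F388327 F365483
def n192956 : Q := act 4 n101020
theorem D192956 : act 4 n101020 = n192956 := rfl
theorem F388331 : act 6 n192956 = n101034 := d10_2 (iv6 F155635) D192956 (iv4 D101034)
def n192957 : Q := act 7 n101020
theorem D192957 : act 7 n101020 = n192957 := rfl
theorem F388332 : act 2 n192957 = n136992 := d4_1 D192957 F365484 F199506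
theorem F388333 : act 3 n192957 = n153808 := d8_1 D192957 (iv7 F388322) F388320
theorem F388334 : act 5 n192957 = n101021 := d13_1 D192957 (iv7 D101021) D101020
theorem F388335 : act 6 n192957 = n135983 := d14_1 D192957 F218763 (iv6 F329015) (iv7 D101035) (iv6 F155635)
theorem F388336 : act 1 n101934 = n192957 := d15_1 (iv0 F338132) (iv7 D192957) (iv2 F199506)
def n192958 : Q := act 4 n101030
theorem D192958 : act 4 n101030 = n192958 := rfl
theorem F388337 : act 2 n192958 = n102324 := d1_1 D192958 (iv4 D102324) (iv2 F290186)
theorem F388338 : act 5 n192958 = n137634 := d9_2 D101030 D192958 F220782 (iv5 F328544) (iv4 D104237) (iv5 D48236) (iv4 F72133) D97971 D191292 F382909 F166056 F78569 F48878 D30469 (iv4 F328158)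
theorem F388339 : act 7 n192958 = n142326 := d11_2 F382892 D192958 (iv4 F382891)
theorem F388340 : act 0 n192958 = n115531 := d17_0 (iv5 D115531) F166208 D53324 (iv4 F346028) F136231 D186549 (iv5 F382903) F382901 D192958
theorem F388341 : act 1 n192958 = n115528 := d18_6 (iv1 F74618) (iv4 F74719) (iv1 F327678) (iv4 F328158) D101030 D192958 F357614 F157028 (iv5 D88303)
def n192959 : Q := act 6 n101030
theorem D192959 : act 6 n101030 = n192959 := rfl
theorem F388342 : act 2 n192959 = n102325 := d3_1 D192959 (iv6 D102325) (iv2 F290186)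
def n192960 : Q := act 0 n101034
theorem D192960 : act 0 n101034 = n192960 := rfl
theorem F388343 : act 5 n192960 = n115248 := d17_1 D192960 (iv1 F179489) D115522 (iv4 F357611) (iv5 F357612) F356794 F291495 F346054 D101034
theorem F388344 : act 4 n192960 = n182262 := d18_1 D192960 F343888 (iv4 F346027) F179934 (iv4 D74238) (iv0 D34055) (iv4 F53432) D74234 (iv5 F346058)
theorem F388345 : act 2 n115526 = n192960 := d15_3 (iv0 D192960) F346056 D115526
theorem F388346 : act 1 n115524 = n192960 := d15_0 (iv0 D192960) F346059 F220797
theorem F388347 : act 7 n192960 = n115247 := d15_2 D115524 F388346 F179484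
theorem F388348 : act 3 n185253 = n192960 := d5_5 F388344 F283706 F133563 D88272 D185253
def n192961 : Q := act 3 n101034
theorem D192961 : act 3 n101034 = n192961 := rfl
theorem F388349 : act 4 n192961 = n156088 := d5_2 D101034 D192961 F245252 (iv4 F339550) F155628
theorem F388350 : act 5 n192961 = n156063 := d6_2 (iv5 F346058) D192961 (iv3 D156063)
def n192962 : Q := act 4 n101036
theorem D192962 : act 4 n101036 = n192962 := rfl
theorem F388351 : act 2 n192962 = n101059 := d1_1 D192962 (iv4 D101059) (iv2 F155639)
theorem F388352 : act 6 n192962 = n140677 := d10_2 (iv6 F155641) D192962 F357114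
theorem F388353 : act 1 n192962 = n127983 := d18_6 (iv1 F153147) (iv4 F153148) (iv1 D47074) (iv4 F74322) D101036 D192962 (iv4 F323743) (iv0 F357575) F294231
theorem F388354 : act 3 n140679 = n192962 := d7_3 F388352 F223767 D140679
def n192963 : Q := act 4 n101038
theorem D192963 : act 4 n101038 = n192963 := rfl
theorem F388355 : act 2 n192963 = n101088 := d1_1 D192963 (iv4 D101088) F155697
theorem F388356 : act 3 n192963 = n188035 := d5_1 D192963 F374251 F374249 (iv4 D184498) (iv3 F155643)
theorem F388357 : act 7 n192963 = n101097 := d11_2 (iv7 F155696) D192963 (iv4 D101097)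
theorem F388358 : act 1 n192963 = n115063 := d18_6 (iv1 D87758) (iv4 F73439) D99422 (iv4 F153143) D101038 D192963 F343920 F345095 (iv5 D183967)
def n192964 : Q := act 6 n101038
theorem D192964 : act 6 n101038 = n192964 := rfl
theorem F388359 : act 2 n192964 = n101089 := d3_1 D192964 (iv6 D101089) F155697
theorem F388360 : act 3 n192964 = n184499 := d7_1 D192964 (iv6 D184499) (iv3 F155643)
theorem F388361 : act 5 n192964 = n189102 := d12_1 D192964 (iv6 D189102) (iv5 F338436) F338437 D101038
theorem F388362 : act 0 n189102 = n187626 := d21_7 (iv5 D64117) (iv1 D30218) D30220 D64125 (iv1 F344194) D192964 F388361 F371034 (iv6 D135887) (iv1 F99806)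
theorem F388363 : act 1 n189102 = n188353 := d15_1 (iv0 F388362) F373158 (iv2 F371032)
def n192965 : Q := act 4 n101041
theorem D192965 : act 4 n101041 = n192965 := rfl
theorem F388364 : act 2 n192965 = n101097 := d1_1 D192965 (iv4 D101097) (iv2 F155699)
theorem F388365 : act 7 n192965 = n101088 := d11_2 (iv7 F155700) D192965 (iv4 D101088)
theorem F388366 : act 0 n192965 = n115063 := d18_2 (iv1 F344196) D192965 F343920 (iv5 F375552) (iv4 D189042) F357622 F344245 (iv0 F338298) (iv5 F159457)
def n192966 : Q := act 6 n101041
theorem D192966 : act 6 n101041 = n192966 := rfl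
theorem F388367 : act 2 n192966 = n101098 := d3_1 D192966 (iv6 D101098) (iv2 F155699)
def n192967 : Q := act 4 n101043
theorem D192967 : act 4 n101043 = n192967 := rfl
theorem F388368 : act 2 n192967 = n101105 := d1_1 D192967 (iv4 D101105) (iv2 F362663)
theorem F388369 : act 3 n192967 = n159828 := d5_1 D192967 (iv4 D159828) (iv3 F251902) F361036 (iv3 F362664)
theorem F388370 : act 7 n192967 = n101110 := d11_2 (iv7 F362665) D192967 (iv4 D101110)
theorem F388371 : act 0 n192967 = n184001 := d18_2 D101043 D192967 F285886 F134744 (iv4 F73442) (iv0 F153144) (iv4 F153143) (iv0 D47073) D47075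
theorem F388372 : act 1 n192967 = n115075 := d18_6 F343917 (iv4 F362781) F357590 D189041 F375545 D192967 F360998 D183970 (iv5 F285838)
theorem F388373 : act 6 n159830 = n192967 := d7_0 F388369 F251919 D159830
def n192968 : Q := act 6 n101043
theorem D192968 : act 6 n101043 = n192968 := rfl
theorem F388374 : act 2 n192968 = n101107 := d3_1 D192968 (iv6 D101107) (iv2 F362663)
theorem F388375 : act 3 n192968 = n152290 := d7_1 D192968 F361037 (iv3 F362664)
theorem F388376 : act 4 n192968 = n159830 := d10_1 D192968 F388373 (iv4 D192967)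
theorem F388377 : act 0 n192968 = n136531 := d21_4 (iv5 F368030) (iv1 F375547) F375545 D192968 F373166 (iv5 D188354) (iv1 F372825) F372823 (iv6 D101089) D101086
theorem F388378 : act 0 n115392 = n192968 := d21_4 F161944 (iv1 D53233) D53235 D115392 (iv6 D192968) (iv5 F375545) F375546 (iv5 F293909) F344185 (iv1 F161947)
theorem F388379 : act 3 n183996 = n132554 := d20_9 (iv4 F179702) F388378 F388376 (iv3 D159830) F114661 D128516 F206683 F335361 D183996 (iv1 D132554)
theorem F388380 : act 7 n152564 = n192968 := d8_0 F388375 F239386 D152564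
theorem E103534 : n152564 = n136529 := ((c15_2 F344181 D136529 F388380 F388374)).symm
theorem F388381 : act 3 n136529 = n71953 := (sb E103534 (iv3 D152564))
theorem F388382 : act 7 n136529 = n192968 := (sb E103534 F388380)
def n192969 : Q := act 4 n101044
theorem D192969 : act 4 n101044 = n192969 := rfl
theorem F388383 : act 2 n192969 = n101110 := d1_1 D192969 (iv4 D101110) (iv2 F344249)
theorem F388384 : act 7 n192969 = n101105 := d11_2 (iv7 F344250) D192969 (iv4 D101105)
theorem F388385 : act 0 n192969 = n115075 := d18_2 (iv1 F155702) D192969 F360998 (iv5 D87759) (iv4 F73439) D99423 (iv4 F153148) F74323 (iv5 F74348)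
theorem F388386 : act 1 n192969 = n184001 := d18_6 (iv1 D189045) (iv4 D93077) D93074 F357581 F155703 D192969 F285886 F285845 F375574
def n192970 : Q := act 6 n101044
theorem D192970 : act 6 n101044 = n192970 := rfl
theorem F388387 : act 2 n192970 = n101112 := d3_1 D192970 (iv6 D101112) (iv2 F344249)
theorem F388388 : act 3 n192970 = n191769 := d7_1 D192970 F387261 (iv3 F385308)
theorem F388389 : act 5 n192970 = n186798 := d12_1 D192970 (iv6 D186798) (iv5 D89166) D89167 F155703
theorem F388390 : act 0 n192970 = n134603 := d21_10 (iv5 D134603) (iv1 F342186) (iv5 F201782) (iv6 D125473) (iv1 F96636) (iv6 F344185) F293909 (iv1 F343883) F155703 D192970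
theorem F388391 : act 0 n190544 = n186798 := d17_0 (iv5 F388389) F388390 (iv5 D134603) F98486 D63251 (iv0 F338708) F338713 (iv0 F359073) F380047
def n192971 : Q := act 3 n101045
theorem D192971 : act 3 n101045 = n192971 := rfl
def n192972 : Q := act 5 n101045
theorem D192972 : act 5 n101045 = n192972 := rfl
theorem F388392 : act 2 n192972 = n101116 := d2_1 D192972 (iv5 D101116) (iv2 F155704)
def n192973 : Q := act 7 n101045
theorem D192973 : act 7 n101045 = n192973 := rfl
theorem F388393 : act 2 n192973 = n101117 := d4_1 D192973 (iv7 D101117) (iv2 F155704)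
theorem F388394 : act 4 n192973 = n101046 := d11_1 D192973 (iv7 D101046) D101045
theorem F388395 : act 1 n101114 = n192973 := d15_1 D101114 (iv7 D192973) F155704
theorem F388396 : act 1 n192973 = n101113 := d15_1 F388395 (iv7 F285881) F285880
def n192974 : Q := act 6 n101046
theorem D192974 : act 6 n101046 = n192974 := rfl
theorem F388397 : act 2 n192974 = n101118 := d3_1 D192974 (iv6 D101118) (iv2 F155705)
theorem F388398 : act 3 n192974 = n133982 := d7_1 D192974 (iv6 F372431) F372430
theorem F388399 : act 0 n192974 = n136487 := d21_4 (iv5 D47091) (iv1 F74328) (iv5 F155706) D192974 (iv6 D136487) F99870 (iv1 D62017) D62019 (iv6 F344185) F344237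
def n192975 : Q := act 1 n101053
theorem D192975 : act 1 n101053 = n192975 := rfl
theorem F388400 : act 1 n192975 = n150128 := d15_1 D192975 (iv7 D150128) (iv2 F155719)
theorem F388401 : act 7 n192975 = n150125 := d15_2 F364471 D192975 (iv2 F361447)
theorem F388402 : act 2 n145419 = n192975 := d4_3 F388401 (iv2 F361447) (iv7 F228446)
theorem F388403 : act 4 n192975 = n145423 := d1_2 (iv4 F228445) F388402 (iv2 D145423)
theorem F388404 : act 0 n145423 = n149019 := d18_2 (iv1 F388400) F388403 (iv4 D149019) (iv5 D69886) F51537 D32459 D69895 F232806 (iv5 F236295)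
def n192976 : Q := act 4 n101053
theorem D192976 : act 4 n101053 = n192976 := rfl
theorem F388405 : act 2 n192976 = n140677 := d1_1 D192976 F357114 (iv2 F155719)
theorem F388406 : act 3 n192976 = n145391 := d5_1 D192976 (iv4 F385598) F385593 (iv4 D104137) (iv3 F155720)
theorem F388407 : act 6 n192976 = n101059 := d10_2 (iv6 F155721) D192976 (iv4 D101059)
theorem F388408 : act 0 n192976 = n145383 := d20_7 F223161 F322231 (iv4 F322236) F327049 F306641 (iv3 F155720) D192976 (iv4 F331766) (iv3 F344903) F353382
theorem F388409 : act 5 n140676 = n192976 := d21_6 F359304 (iv1 D108871) D108872 F361290 (iv1 F222788) (iv6 F223766) F388408 F350962 F263393 F359310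
def n192977 : Q := act 4 n101055
theorem D192977 : act 4 n101055 = n192977 := rfl
theorem F388410 : act 2 n192977 = n144298 := d1_1 D192977 (iv4 F363680) F285867
theorem F388411 : act 0 n192977 = n103909 := d17_0 F294318 D184110 (iv5 F362355) (iv4 F222526) F328894 (iv0 F343882) (iv5 F386293) F386291 D192977
theorem F388412 : act 1 n192977 = n186950 := d18_6 F153144 F73442 (iv1 F134728) F134730 D101055 D192977 (iv4 D186950) D186949 F368631
def n192978 : Q := act 6 n101055
theorem D192978 : act 6 n101055 = n192978 := rfl
def n192979 : Q := act 4 n101058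
theorem D192979 : act 4 n101058 = n192979 := rfl
theorem F388413 : act 2 n192979 = n107463 := d1_1 D192979 (iv4 F222526) F328893
theorem F388414 : act 3 n192979 = n153742 := d5_1 D192979 (iv4 F385262) (iv3 F385261) F385259 (iv3 F365565)
theorem F388415 : act 7 n192979 = n191971 := d11_2 F364425 D192979 F385037
theorem F388416 : act 0 n192979 = n191965 := d18_2 (iv1 F338297) D192979 (iv4 D191965) (iv5 D99424) F73439 D87758 F134730 F143902 F338288
theorem F388417 : act 1 n192979 = n145294 := d18_6 (iv1 D93075) D93077 F343905 (iv4 F343898) F343899 D192979 F357572 F357576 F357587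
def n192980 : Q := act 6 n101058
theorem D192980 : act 6 n101058 = n192980 := rfl
def n192981 : Q := act 3 n101059
theorem D192981 : act 3 n101059 = n192981 := rfl
theorem F388418 : act 4 n192981 = n103278 := d5_2 D101059 D192981 F365288 (iv4 D48197) (iv3 F74334)
theorem F388419 : act 6 n192981 = n145391 := d7_2 F388407 D192981 (iv3 F388406)
theorem F388420 : act 7 n192981 = n145330 := d8_2 F375897 D192981 F375899
theorem F388421 : act 0 n107101 = n192981 := d20_4 F37851 D24146 D49474 D107101 (iv3 D192981) (iv4 D101059) F329512 (iv4 F165068) (iv3 D107094) (iv1 D49469)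
def n192982 : Q := act 5 n101059
theorem D192982 : act 5 n101059 = n192982 := rfl
def n192983 : Q := act 4 n101067
theorem D192983 : act 4 n101067 = n192983 := rfl
theorem F388422 : act 2 n192983 = n153546 := d1_1 D192983 (iv4 D153546) (iv2 F155735)
theorem F388423 : act 6 n192983 = n186793 := d10_2 (iv6 F155736) D192983 (iv4 D186793)
def n192984 : Q := act 7 n101067
theorem D192984 : act 7 n101067 = n192984 := rfl
theorem F388424 : act 2 n192984 = n153547 := d4_1 D192984 (iv7 D153547) (iv2 F155735)
theorem F388425 : act 5 n192984 = n101068 := d13_1 D192984 (iv7 D101068) D101067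
theorem F388426 : act 1 n153545 = n192984 := d15_1 D153545 (iv7 D192984) F155735
theorem F388427 : act 1 n192984 = n153544 := d15_1 F388426 (iv7 F280242) F280241
def n192985 : Q := act 5 n101070
theorem D192985 : act 5 n101070 = n192985 := rfl
theorem F388428 : act 3 n192985 = n101072 := d6_1 D192985 (iv5 D101072) D101070
theorem F388429 : act 1 n192985 = n191763 := d17_6 (iv1 D84667) D84668 D177826 (iv5 F387077) F387078 D192985 F384382 F363205 (iv4 D177823)
theorem F388430 : act 0 n192985 = n191761 := d18_0 (iv4 D191761) (iv1 F201006) F338868 (iv5 D100429) D100428 F387162 F387160 F385285 D192985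
theorem F388431 : act 6 n191753 = n139930 := d21_3 (iv5 D192985) (iv1 F385285) F385283 F223158 D141418 (iv5 F348308) (iv1 D149574) D149575 F384384 (iv1 F388429)
theorem F388432 : act 6 n191782 = n192985 := d21_5 (iv5 D66351) (iv1 F102246) D141384 (iv6 F372579) (iv1 F384420) (iv5 D192985) (iv1 F385285) F385283 F388431 F223158
theorem F388433 : act 4 n139930 = n191754 := d10_1 F388431 (iv6 D191754) D191753
def n192986 : Q := act 6 n101070
theorem D192986 : act 6 n101070 = n192986 := rfl
theorem F388434 : act 3 n192986 = n101073 := d7_1 D192986 (iv6 D101073) D101070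
theorem F388435 : act 4 n192986 = n147854 := d10_1 D192986 F387083 F387078
theorem F388436 : act 5 n192986 = n185779 := d21_6 F125883 (iv1 F68200) D92761 (iv6 F342640) F366760 D192986 (iv1 F374688) (iv5 F374689) (iv6 D154061) (iv1 F125886)
def n192987 : Q := act 1 n101072
theorem D192987 : act 1 n101072 = n192987 := rfl
theorem F388437 : act 1 n192987 = n101077 := d15_1 D192987 (iv7 F236255) F236254
theorem F388438 : act 7 n192987 = n179983 := d15_2 F234566 D192987 F280330
theorem F388439 : act 5 n192987 = n125200 := d17_7 (iv1 D154817) (iv5 F307284) F308164 (iv5 D159892) F233079 D101072 D192987 (iv0 F357832) F243515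
theorem F388440 : act 2 n179989 = n192987 := d2_3 F388439 F201288 D179989
theorem F388441 : act 3 n101125 = n192987 := d6_3 F388439 (iv3 F342026) F274810
theorem F388442 : act 4 n136343 = n192987 := d17_4 (iv1 F355370) (iv5 F355287) (iv1 F211848) (iv5 F355281) F388439 (iv0 F357832) F357835 (iv0 D150115) D150117
theorem F388443 : act 6 n150116 = n136491 := d21_3 F388439 F201290 (iv5 F236267) (iv1 D136491) (iv6 D64162) (iv5 D30235) D30232 (iv5 F99809) (iv6 F344177) (iv1 F388437)
def n192988 : Q := act 4 n101072
theorem D192988 : act 4 n101072 = n192988 := rfl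
theorem F388444 : act 5 n192988 = n126614 := d9_2 D101072 D192988 F326071 F347613 F347606 (iv5 F233085) F233084 D101077 F344176 F161939 (iv4 F203452) F347599 F347592 (iv5 D159892) F233079
theorem F388445 : act 7 n192988 = n105495 := d11_2 F236261 D192988 (iv4 F347615)
theorem F388446 : act 3 n132580 = n192988 := d8_3 F388445 (iv3 F366064) (iv7 F212809)
def n192989 : Q := act 6 n101072
theorem D192989 : act 6 n101072 = n192989 := rfl
theorem F388447 : act 3 n192989 = n191782 := d7_1 D192989 F388432 F388428
theorem F388448 : act 5 n192989 = n134602 := d12_1 D192989 (iv6 F342185) F332699 (iv6 D101073) D101072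
theorem F388449 : act 7 n192989 = n136403 := d14_2 F236261 D192989 (iv6 D136403) (iv7 F161945) F344178
def n192990 : Q := act 1 n101073
theorem D192990 : act 1 n101073 = n192990 := rfl
theorem F388450 : act 1 n192990 = n136953 := d15_1 D192990 F338568 F236256
theorem F388451 : act 7 n192990 = n153543 := d15_2 (iv0 F242722) D192990 F241340
theorem F388452 : act 4 n192990 = n128454 := d17_9 F206590 (iv5 F155349) F155348 F50450 (iv4 F51565) D69950 (iv0 F332698) F332699 D192990
theorem F388453 : act 3 n101130 = n192990 := d19_19 (iv1 D192990) (iv5 F332699) (iv4 F338550) F338549 F319810 F317580 (iv4 D92461) D92460 F333294 (iv5 F337216) D188551 F373918 (iv1 F368112) D186829 (iv4 F383781) F383778 (iv1 F359843) F352179 F272789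
theorem F388454 : act 6 n149216 = n192990 := d21_3 D101020 F338057 F338055 (iv1 D192990) (iv6 D101073) D101072 (iv1 F234566) (iv5 D149197) (iv6 D70026) F190377
def n192991 : Q := act 7 n101073
theorem D192991 : act 7 n101073 = n192991 := rfl
theorem F388455 : act 2 n192991 = n136953 := d4_1 D192991 F338568 F236256
theorem F388456 : act 4 n192991 = n147404 := d11_1 D192991 F231132 (iv4 F155745)
theorem F388457 : act 5 n192991 = n135975 := d13_1 D192991 (iv7 F338567) F332699
theorem F388458 : act 6 n192991 = n136029 := d14_1 D192991 (iv7 F338812) (iv6 D150114) F192082 D101073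
theorem F388459 : act 0 n153543 = n192991 := d17_0 F388457 (iv1 F338466) (iv5 D128432) (iv4 D60402) (iv5 F184583) F130844 (iv5 F322857) F322854 (iv4 F241341)
def n192992 : Q := act 4 n101079
theorem D192992 : act 4 n101079 = n192992 := rfl
theorem F388460 : act 5 n192992 = n129517 := d16_1 D192992 (iv4 F209253) (iv5 F347377) F229135 (iv5 F236031) F280321 F280324 F280317 F280316
theorem F388461 : act 1 n192992 = n150130 := d18_6 F305158 D124141 F306489 (iv4 F280310) F280309 D192992 (iv4 D150130) D150129 (iv5 F236296)
theorem F388462 : act 3 n192992 = n129518 := d19_3 D179980 F280309 D192992 (iv1 F213631) (iv5 D132987) (iv4 D62401) (iv3 D29508) (iv1 D14023) D14025 D29517 F47331 (iv1 F96274) D131433 F210669 F314836 D192637 F387300 F156913 (iv3 F314170)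
def n192993 : Q := act 6 n101079
theorem D192993 : act 6 n101079 = n192993 := rfl
def n192994 : Q := act 4 n101080
theorem D192994 : act 4 n101080 = n192994 := rfl
theorem F388463 : act 0 n192994 = n150130 := d17_0 (iv5 F338629) F326946 (iv5 F388444) (iv4 D192988) (iv5 D101072) (iv0 D47084) D47086 D101080 D192994
def n192995 : Q := act 6 n101080
theorem D192995 : act 6 n101080 = n192995 := rfl
theorem F388464 : act 2 n192995 = n136491 := d3_1 D192995 (iv6 F388443) (iv2 F280318)
theorem F388465 : act 3 n192995 = n152524 := d7_1 D192995 F364656 (iv3 F280328)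
theorem F388466 : act 0 n192995 = n135887 := d21_4 (iv5 D179989) (iv1 F280319) F280324 D192995 (iv6 D135887) (iv5 D63897) (iv1 F84077) (iv5 F161944) F344178 (iv1 F280361)
theorem F388467 : act 1 n192995 = n136493 := d15_1 (iv0 F388466) (iv7 D136493) (iv2 F218571)
theorem F388468 : act 7 n136490 = n192995 := d15_2 F373167 F373168 F388464
def n192996 : Q := act 3 n101081
theorem D192996 : act 3 n101081 = n192996 := rfl
theorem F388469 : act 4 n192996 = n101151 := d5_2 D101081 D192996 (iv3 D101151) (iv4 D47114) (iv3 F74341)
theorem F388470 : act 6 n192996 = n101115 := d7_2 (iv6 F155750) D192996 (iv3 D101115)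
theorem F388471 : act 2 n108579 = n192996 := d1_3 F388469 F332987 D108579
def n192997 : Q := act 7 n101081
theorem D192997 : act 7 n101081 = n192997 := rfl
theorem F388472 : act 4 n192997 = n101082 := d11_1 D192997 (iv7 D101082) D101081
theorem F388473 : act 5 n192997 = n115094 := d13_1 D192997 (iv7 F355367) (iv5 F347623)
theorem F388474 : act 1 n129454 = n192997 := d15_1 (iv0 F355369) (iv7 D192997) (iv2 F236268)
theorem F388475 : act 1 n192997 = n124148 := d15_1 F388474 F355289 F355285
def n192998 : Q := act 6 n101082
theorem D192998 : act 6 n101082 = n192998 := rfl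
theorem F388476 : act 3 n192998 = n101154 := d7_1 D192998 (iv6 D101154) (iv3 F155751)
theorem F388477 : act 7 n192998 = n101118 := d14_2 D101082 D192998 (iv6 D101118) (iv7 D47101) (iv6 F74342)
theorem F388478 : act 0 n136487 = n192998 := d21_4 F96685 (iv1 F96627) (iv5 F99870) D136487 (iv6 D192998) F155752 (iv1 F107112) D150113 (iv6 F344178) F161946
def n192999 : Q := act 1 n101084
theorem D192999 : act 1 n101084 = n192999 := rfl
theorem F388479 : act 1 n192999 = n184504 := d15_1 D192999 (iv7 F385289) F385286
theorem F388480 : act 3 n152399 = n192999 := d19_19 (iv1 D192999) (iv5 D101084) F143350 F153165 (iv1 D90733) D90735 F329565 F104208 (iv1 F54608) F40551 F20191 F18260 F12611 (iv5 F11342) D14898 D31686 D68092 (iv5 F178388) (iv4 F239587)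
theorem F388481 : act 4 n192601 = n192999 := d20_8 F386049 (iv1 F176902) (iv4 F325479) (iv3 F154573) (iv1 F133589) (iv3 F74087) D100445 (iv1 F387212) (iv3 F388480) (iv1 F386052)
def n193000 : Q := act 4 n101084
theorem D193000 : act 4 n101084 = n193000 := rfl
def n193001 : Q := act 6 n101084
theorem D193001 : act 6 n101084 = n193001 := rfl
theorem F388482 : act 2 n193001 = n141204 := d3_1 D193001 (iv6 F385288) F385286
theorem F388483 : act 3 n193001 = n101089 := d7_1 D193001 (iv6 D101089) (iv3 F155757)
theorem F388484 : act 5 n193001 = n141190 := d12_1 D193001 F372809 (iv5 D188244) F338423 D101084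
theorem F388485 : act 4 n116322 = n193001 := d16_2 D53612 D116322 F388484 (iv4 D141190) (iv5 D66231) F49382 D30990 (iv7 F84563) F84561
theorem F388486 : act 6 n193000 = n116322 := d10_0 F388485 (iv6 D193001) D193000
theorem F388487 : act 7 n193001 = n141484 := d11_2 (iv7 F181321) F388485 (iv4 D141484)
theorem F388488 : act 3 n117257 = n193000 := d7_3 F388486 F181320 D117257
def n193002 : Q := act 6 n101086
theorem D193002 : act 6 n101086 = n193002 := rfl
theorem F388489 : act 2 n193002 = n136440 := d3_1 D193002 F344186 (iv2 F362666)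
theorem F388490 : act 4 n193002 = n132248 := d10_1 D193002 F211890 (iv4 F362667)
theorem F388491 : act 7 n193002 = n132244 := d14_2 (iv7 F362668) D193002 (iv6 D132244) F96686 D64125
theorem F388492 : act 1 n136438 = n193002 := d15_1 D136438 F388491 F211887
theorem F388493 : act 1 n193002 = n136437 := d15_0 (iv0 D136437) D136440 (iv2 F388489)
def n193003 : Q := act 3 n101088
theorem D193003 : act 3 n101088 = n193003 := rfl
theorem F388494 : act 2 n193003 = n146883 := d0_1 D193003 F375118 F375110 (iv3 F388356) F388355
theorem F388495 : act 4 n193003 = n117257 := d5_2 D101088 D193003 F388488 (iv4 D193000) F155757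
theorem F388496 : act 6 n117256 = n193003 := d10_0 F388495 (iv6 D117257) D117256
def n193004 : Q := act 5 n101088
theorem D193004 : act 5 n101088 = n193004 := rfl
theorem F388497 : act 0 n193004 = n159360 := d17_2 F338291 D193004 F250888 F206683 F335364 F134736 D87763 (iv0 F338289) (iv4 F216191)
theorem F388498 : act 1 n193004 = n184000 := d17_6 (iv1 D47099) (iv5 D22649) D22647 D47091 D101088 D193004 (iv5 D184000) (iv0 F155771) (iv4 D101110)
def n193005 : Q := act 6 n101088
theorem D193005 : act 6 n101088 = n193005 := rfl
theorem F388499 : act 3 n193005 = n117256 := d7_1 D193005 F388496 (iv3 D193003)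
theorem F388500 : act 4 n193005 = n101089 := d10_1 D193005 (iv6 D101089) D101088
theorem F388501 : act 5 n129569 = n193005 := d6_0 F388499 F183493 (iv3 F354210)
theorem F388502 : act 7 n146943 = n193005 := d8_0 F388499 F183494 D146943
def n193006 : Q := act 0 n101089
theorem D193006 : act 0 n101089 = n193006 := rfl
def n193007 : Q := act 1 n101089
theorem D193007 : act 1 n101089 = n193007 := rfl
def n193008 : Q := act 7 n101089
theorem D193008 : act 7 n101089 = n193008 := rfl
theorem F388503 : act 3 n193008 = n141484 := d8_1 D193008 (iv7 F388487) F388483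
theorem F388504 : act 4 n193008 = n146943 := d11_1 D193008 F388502 F388500
def n193009 : Q := act 5 n101094
theorem D193009 : act 5 n101094 = n193009 := rfl
theorem F388505 : act 2 n193009 = n184506 := d2_1 D193009 (iv5 D184506) (iv2 F155761)
theorem F388506 : act 7 n193009 = n184494 := d13_2 (iv7 F155762) D193009 (iv5 D184494)
theorem F388507 : act 4 n193009 = n191590 := d16_6 D191591 F383911 F375100 (iv5 D101095) D101094 D193009 (iv5 D191590) (iv7 F372241) (iv2 F372243)
theorem F388508 : act 0 n193009 = n188873 := d17_2 (iv1 F370602) D193009 (iv5 F383911) (iv4 D191591) D191592 F383917 (iv5 D100546) F153027 (iv4 F370599)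
def n193010 : Q := act 6 n101094
theorem D193010 : act 6 n101094 = n193010 := rfl
theorem F388509 : act 2 n193010 = n159791 := d3_1 D193010 F349298 (iv2 F155761)
theorem F388510 : act 3 n193010 = n185047 := d7_1 D193010 F344233 (iv3 F235261)
theorem F388511 : act 4 n193010 = n101096 := d10_1 D193010 (iv6 D101096) D101094
theorem F388512 : act 7 n193010 = n159792 := d14_2 (iv7 F155762) D193010 F372843 F372834 (iv6 D184495)
theorem F388513 : act 1 n145967 = n193010 := d15_1 F382997 F388512 (iv2 F382998)
theorem F388514 : act 1 n193010 = n159786 := d15_1 F388513 (iv7 F339759) (iv2 F339760)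
def n193011 : Q := act 6 n101095
theorem D193011 : act 6 n101095 = n193011 := rfl
theorem F388515 : act 2 n193011 = n184509 := d3_1 D193011 (iv6 D184509) (iv2 F155764)
theorem F388516 : act 3 n193011 = n101098 := d7_1 D193011 (iv6 D101098) (iv3 F155765)
def n193012 : Q := act 5 n101097
theorem D193012 : act 5 n101097 = n193012 := rfl
theorem F388517 : act 0 n193012 = n184000 := d17_2 F343921 D193012 (iv5 D184000) (iv4 D87772) (iv5 D40897) D40896 D87768 F285857 F343919
theorem F388518 : act 1 n193012 = n159360 := d17_6 (iv1 F155709) F155706 (iv1 F74327) D47096 D101097 D193012 F250888 F361002 (iv4 D101105)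
def n193013 : Q := act 6 n101097
theorem D193013 : act 6 n101097 = n193013 := rfl
theorem F388519 : act 4 n193013 = n101098 := d10_1 D193013 (iv6 D101098) D101097
def n193014 : Q := act 0 n101098
theorem D193014 : act 0 n101098 = n193014 := rfl
def n193015 : Q := act 1 n101098
theorem D193015 : act 1 n101098 = n193015 := rfl
theorem F388520 : act 5 n193015 = n160102 := d17_7 F314862 (iv5 F314865) (iv1 F306191) D181684 (iv4 F368608) F368609 D193015 F364101 F227699
theorem F388521 : act 6 n179989 = n193015 := d21_3 (iv5 F280309) (iv1 F280311) D179989 (iv1 D193015) (iv6 D101098) (iv5 D47096) (iv1 D22648) D22649 (iv6 F74342) D101079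
def n193016 : Q := act 7 n101098
theorem D193016 : act 7 n101098 = n193016 := rfl
def n193017 : Q := act 5 n101104
theorem D193017 : act 5 n101104 = n193017 := rfl
theorem F388522 : act 3 n193017 = n101106 := d6_1 D193017 (iv5 D101106) D101104
theorem F388523 : act 7 n193017 = n186797 := d13_2 F385306 D193017 (iv5 F385307)
theorem F388524 : act 4 n193017 = n188092 := d17_4 (iv1 F177371) D188768 (iv1 F387112) D193017 (iv5 F375302) F375300 (iv5 D100347) F143349 F143347
theorem F388525 : act 1 n193017 = n189664 := d17_8 F371851 (iv5 D187926) F370697 (iv5 D187530) (iv4 F177400) (iv5 F385313) F387114 D193017 (iv4 D189664)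
theorem F388526 : act 0 n193017 = n189666 := d18_0 (iv4 D189666) (iv1 D94295) (iv4 F134455) (iv5 F135031) D100452 F387249 F387247 F387114 D193017
def n193018 : Q := act 6 n101104
theorem D193018 : act 6 n101104 = n193018 := rfl
theorem F388527 : act 2 n193018 = n152567 := d3_1 D193018 (iv6 F385302) F385301
theorem F388528 : act 3 n193018 = n101107 := d7_1 D193018 (iv6 D101107) D101104
def n193019 : Q := act 3 n101105
theorem D193019 : act 3 n101105 = n193019 := rfl
def n193020 : Q := act 5 n101105
theorem D193020 : act 5 n101105 = n193020 := rfl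
theorem F388529 : act 0 n193020 = n115083 := d17_2 (iv1 F344248) D193020 F179200 F343920 (iv5 F375552) F375554 F343867 (iv0 D87770) D87772
theorem F388530 : act 1 n193020 = n183999 := d17_8 D184110 (iv5 F362355) F359363 D191972 F385041 F250888 F361002 D193020 F285885
def n193021 : Q := act 6 n101105
theorem D193021 : act 6 n101105 = n193021 := rfl
theorem F388531 : act 2 n193021 = n159830 := d3_1 D193021 F388373 F388368
theorem F388532 : act 4 n193021 = n101107 := d10_1 D193021 (iv6 D101107) D101105
def n193022 : Q := act 0 n101107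
theorem D193022 : act 0 n101107 = n193022 := rfl
theorem F388533 : act 6 n193022 = n136493 := d21_5 F159457 F338298 (iv5 D101106) D101107 D193022 F373160 (iv1 F388363) (iv5 F388361) (iv6 D192964) F344193
theorem F388534 : act 2 n136531 = n193022 := d15_3 (iv0 D193022) F344181 D136531
theorem F388535 : act 7 n193022 = n115392 := d4_2 D136531 F388534 F179701
theorem F388536 : act 4 n132556 = n193022 := d11_3 F388535 F179702 D132556
theorem F388537 : act 1 n136529 = n193022 := d15_1 D136529 F388535 F179701
def n193023 : Q := act 5 n101107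
theorem D193023 : act 5 n101107 = n193023 := rfl
theorem F388538 : act 6 n193023 = n102322 := d12_2 D101107 D193023 (iv5 F357612) (iv6 F344246) (iv5 D101106)
theorem F388539 : act 0 n193023 = n149195 := d21_4 (iv5 F291495) (iv1 F356794) F357612 (iv6 F388538) (iv6 D149195) (iv5 D70025) F190377 D101020 F155635 (iv1 F346054)
def n193024 : Q := act 7 n101107
theorem D193024 : act 7 n101107 = n193024 := rfl
theorem F388540 : act 2 n193024 = n136529 := d4_1 D193024 F388382 F388374
theorem F388541 : act 1 n115392 = n193024 := d15_1 (iv0 F388378) (iv7 D193024) (iv2 F388374)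
theorem F388542 : act 1 n193024 = n136531 := d15_1 F388541 (iv7 D136531) (iv2 F179701)
def n193025 : Q := act 6 n101109
theorem D193025 : act 6 n101109 = n193025 := rfl
theorem F388543 : act 2 n193025 = n184523 := d3_1 D193025 (iv6 D184523) (iv2 F361027)
theorem F388544 : act 3 n193025 = n101112 := d7_1 D193025 (iv6 D101112) D101109
theorem F388545 : act 7 n193025 = n152566 := d14_2 (iv7 F361028) D193025 (iv6 D152566) (iv7 F239386) F361037
def n193026 : Q := act 3 n101110
theorem D193026 : act 3 n101110 = n193026 := rfl
theorem F388546 : act 4 n193026 = n159829 := d5_2 D101110 D193026 (iv3 F387577) F387580 (iv3 D101109)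
theorem F388547 : act 7 n193026 = n159828 := d8_2 F388370 D193026 (iv3 F388369)
theorem F388548 : act 2 n188867 = n193026 := d4_3 F388547 (iv2 F371459) (iv7 F375076)
def n193027 : Q := act 5 n101110
theorem D193027 : act 5 n101110 = n193027 := rfl
theorem F388549 : act 1 n193027 = n115083 := d17_6 F344195 D136406 F338485 (iv5 D101111) D101110 D193027 F179200 (iv0 F388366) (iv4 D192965)
theorem F388550 : act 1 n183999 = n193027 := d15_0 F388549 (iv7 F250916) (iv2 F360999)
def n193028 : Q := act 6 n101110
theorem D193028 : act 6 n101110 = n193028 := rfl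
theorem F388551 : act 4 n193028 = n101112 := d10_1 D193028 (iv6 D101112) D101110
def n193029 : Q := act 0 n101112
theorem D193029 : act 0 n101112 = n193029 := rfl
theorem F388552 : act 5 n193029 = n134552 := d21_8 (iv5 F359671) (iv1 F352616) F220625 (iv6 F218991) (iv1 F218993) D137585 F338484 D193029 (iv6 D134552) F213223
theorem F388553 : act 2 n134603 = n193029 := d2_3 F388552 F216532 D134603
theorem F388554 : act 3 n193029 = n101163 := d0_2 (iv3 F367961) F388553 (iv2 F380095) (iv3 F380093) F372717
def n193030 : Q := act 1 n101112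
theorem D193030 : act 1 n101112 = n193030 := rfl
theorem F388555 : act 7 n193030 = n134603 := d15_2 (iv0 D193029) D193030 F388553
theorem F388556 : act 5 n134604 = n193030 := d21_0 (iv1 D193030) (iv5 F338484) (iv6 D137585) (iv1 D64665) (iv6 D30425) (iv5 D14450) (iv1 F24084) (iv5 F48749) D64373 (iv1 F363980)
theorem F388557 : act 3 n193030 = n188222 := d6_1 F388556 F372725 F364205
def n193031 : Q := act 7 n101112
theorem D193031 : act 7 n101112 = n193031 := rfl
theorem F388558 : act 3 n193031 = n152566 := d8_1 D193031 (iv7 F388545) F388544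
theorem F388559 : act 6 n193031 = n136529 := d14_1 D193031 F388382 (iv6 D192968) F362665 D101112
def n193032 : Q := act 3 n101113
theorem D193032 : act 3 n101113 = n193032 := rfl
theorem F388560 : act 7 n193032 = n132554 := d8_2 F285881 D193032 (iv3 F388379)
theorem F388561 : act 2 n193032 = n132553 := d15_3 (iv0 D132553) D132554 (iv7 F388560)
def n193033 : Q := act 5 n101113
theorem D193033 : act 5 n101113 = n193033 := rfl
theorem F388562 : act 0 n193033 = n129480 := d17_2 D101113 D193033 (iv5 D129480) (iv4 F99818) D136406 (iv0 F344180) (iv5 D101106) (iv0 D47098) D47100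
def n193034 : Q := act 6 n101113
theorem D193034 : act 6 n101113 = n193034 := rfl
theorem F388563 : act 4 n193034 = n136591 := d10_1 D193034 F375576 (iv4 F285877)
theorem F388564 : act 0 n132527 = n193034 := d21_4 (iv5 D30210) (iv1 F47175) D62176 D132527 (iv6 D193034) D193033 F388562 (iv5 D129480) (iv6 D60843) (iv1 F48596)
def n193035 : Q := act 3 n101114
theorem D193035 : act 3 n101114 = n193035 := rfl
theorem F388565 : act 0 n193035 = n188879 := d19_4 F343905 F285838 F285841 D193035 (iv5 D188879) (iv4 D92876) F68313 (iv1 F68299) F292969 (iv4 D22456) (iv3 F65696) F292134 (iv5 F293703) F293302 (iv3 F14819) F291421 D21364 D44842 (iv3 F143566)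
theorem F388566 : act 0 n115046 = n193035 := d20_4 (iv4 D115036) (iv1 F83778) D53086 D115046 (iv3 D193035) (iv4 F285841) (iv1 D183970) (iv4 F360998) (iv3 D115075) (iv1 F179147)
theorem F388567 : act 5 n193035 = n188026 := d17_3 F372185 F179166 F388566 (iv4 D188026) (iv5 D90740) (iv0 D42492) D42495 D90750 D188033
def n193036 : Q := act 5 n101114
theorem D193036 : act 5 n101114 = n193036 := rfl
theorem F388568 : act 3 n193036 = n188026 := d6_1 D193036 (iv5 F388567) (iv3 D193035)
theorem F388569 : act 1 n193036 = n129480 := d17_6 F338290 (iv5 F343906) F343905 F285838 F285841 D193036 (iv5 D129480) D129479 F383482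
def n193037 : Q := act 6 n101114
theorem D193037 : act 6 n101114 = n193037 := rfl
theorem F388570 : act 4 n193037 = n138165 := d10_1 D193037 (iv6 F333872) F285841
def n193038 : Q := act 0 n101115
theorem D193038 : act 0 n101115 = n193038 := rfl
theorem F388571 : act 4 n193038 = n114527 := d20_2 (iv4 F155776) D193038 (iv3 D114527) (iv1 D52863) D52864 (iv4 F331535) F360790 (iv4 F343156) F360791 (iv1 D101173)
theorem F388572 : act 3 n193038 = n114095 := d20_5 (iv4 D101110) (iv1 D47099) D47100 D101115 D193038 (iv4 D114095) F83220 D60448 D128516 F349165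
theorem F388573 : act 5 n159851 = n193038 := d6_0 F388572 F177684 D159851
def n193039 : Q := act 1 n101115
theorem D193039 : act 1 n101115 = n193039 := rfl
theorem F388574 : act 4 n193039 = n187971 := d18_7 D100589 F371868 (iv1 F371867) F371864 F293005 (iv4 F155776) D193039 (iv0 D187971) F293363
def n193040 : Q := act 2 n101115
theorem D193040 : act 2 n101115 = n193040 := rfl
theorem F388575 : act 4 n193040 = n101174 := d1_2 (iv4 F155776) D193040 (iv2 D101174)
theorem F388576 : act 6 n193040 = n108579 := d3_2 F388470 D193040 F388471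
def n193041 : Q := act 5 n101115
theorem D193041 : act 5 n101115 = n193041 := rfl
theorem F388577 : act 3 n193041 = n101116 := d6_1 D193041 (iv5 D101116) D101115
def n193042 : Q := act 7 n101115
theorem D193042 : act 7 n101115 = n193042 := rfl
theorem F388578 : act 3 n193042 = n101117 := d8_1 D193042 (iv7 D101117) D101115
theorem F388579 : act 4 n193042 = n101176 := d11_1 D193042 (iv7 D101176) (iv4 F155776)
def n193043 : Q := act 0 n101116
theorem D193043 : act 0 n101116 = n193043 := rfl
def n193044 : Q := act 1 n101116
theorem D193044 : act 1 n101116 = n193044 := rfl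
theorem F388580 : act 3 n188031 = n193044 := d19_19 (iv1 D193044) (iv5 D101116) (iv4 D47100) F35218 D22669 F292150 (iv4 D42734) (iv3 D20178) F14783 (iv5 D4309) F14800 D4985 (iv1 F62708) F291766 (iv4 F33146) (iv3 F69461) D94405 F251137 D188031
def n193045 : Q := act 4 n101116
theorem D193045 : act 4 n101116 = n193045 := rfl
def n193046 : Q := act 6 n101116
theorem D193046 : act 6 n101116 = n193046 := rfl
theorem F388581 : act 5 n193046 = n188735 := d12_1 D193046 (iv6 F374636) (iv5 F347623) F155750 D101116
theorem F388582 : act 0 n159479 = n193046 := d19_0 F388581 (iv4 D188735) F142977 D92736 F142989 F68957 (iv3 F68948) F291478 F291282 (iv4 F70829) D95381 F367064 F356338 (iv4 D159471) (iv3 D76281) (iv1 D34843) D34844 D76287 D159479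
def n193047 : Q := act 7 n101116
theorem D193047 : act 7 n101116 = n193047 := rfl
theorem F388583 : act 5 n193047 = n101117 := d13_1 D193047 (iv7 D101117) D101116
def n193048 : Q := act 6 n101117
theorem D193048 : act 6 n101117 = n193048 := rfl
theorem F388584 : act 4 n193048 = n101118 := d10_1 D193048 (iv6 D101118) (iv4 F155777)
theorem F388585 : act 5 n137886 = n193048 := d16_3 (iv4 F80831) D64807 D137886 F388584 F357570 (iv4 F223164) F177271 F102790 (iv2 F102788)
theorem F388586 : act 0 n110902 = n193048 := d18_2 (iv1 D110901) D110902 F388584 F357570 (iv4 F223164) (iv0 D68118) F50023 D65452 (iv5 F180528)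
theorem F388587 : act 1 n129456 = n193048 := d15_0 (iv0 F388586) (iv7 F364004) F208195
def n193049 : Q := act 1 n101118
theorem D193049 : act 1 n101118 = n193049 := rfl
theorem F388588 : act 7 n193049 = n136487 := d15_2 (iv0 F344197) D193049 F219599
theorem F388589 : act 5 n193049 = n111064 := d17_7 (iv1 D24918) D24920 D51239 (iv5 F177271) F223164 (iv5 F357570) D193049 F172260 (iv4 D51233)
def n193050 : Q := act 6 n101124
theorem D193050 : act 6 n101124 = n193050 := rfl
theorem F388590 : act 5 n193050 = n175520 := d12_1 D193050 (iv6 D175520) (iv5 D83807) D83808 (iv5 F155785)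
def n193051 : Q := act 4 n101125
theorem D193051 : act 4 n101125 = n193051 := rfl
theorem F388591 : act 2 n193051 = n139616 := d1_1 D193051 F357937 (iv2 F357953)
theorem F388592 : act 6 n193051 = n192719 := d10_2 (iv6 F274859) D193051 (iv4 F387718)
theorem F388593 : act 7 n193051 = n192645 := d11_2 (iv7 F274809) D193051 F387338
theorem F388594 : act 5 n193051 = n139615 := d16_7 (iv4 F112136) (iv5 F227056) (iv4 F342032) (iv5 F311737) F311736 F274810 D193051 F222768 (iv2 D138447)
theorem F388595 : act 0 n193051 = n191945 := d17_0 F384943 F357642 (iv5 F167714) (iv4 F332980) F153263 F73498 D47105 D101125 D193051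
theorem F388596 : act 1 n193051 = n191947 := d18_6 (iv1 F310438) (iv4 F337633) F342027 F311736 F274810 D193051 (iv4 D191947) F384938 F384936
def n193052 : Q := act 1 n101136
theorem D193052 : act 1 n101136 = n193052 := rfl
theorem F388597 : act 1 n193052 = n184548 := d15_1 D193052 (iv7 F351899) F351898
theorem F388598 : act 7 n193052 = n136650 := d15_2 (iv0 F342617) D193052 F342615
theorem F388599 : act 5 n193052 = n151986 := d17_7 F232824 (iv5 F209822) (iv1 F222383) (iv5 F352967) (iv4 D101135) D101136 D193052 (iv0 D151986) F108149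
theorem F388600 : act 4 n193052 = n136640 := d17_9 (iv1 F219785) F100034 (iv1 F219717) (iv5 F219760) (iv4 F382812) (iv5 D191264) F311974 D101136 D193052
theorem F388601 : act 3 n191761 = n193052 := d19_19 (iv1 D193052) (iv5 D101136) D101135 F155840 (iv1 D81579) (iv5 F312411) (iv4 F210584) (iv3 D131374) (iv1 D61662) D61664 F96326 (iv3 F330856) (iv1 F330861) (iv5 D83508) (iv4 F128612) F128611 D100417 (iv5 F338885) D191761
theorem F388602 : act 2 n136646 = n193052 := d1_3 F388600 F221559 D136646
def n193053 : Q := act 3 n101138
theorem D193053 : act 3 n101138 = n193053 := rfl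
theorem F388603 : act 4 n193053 = n123768 := d5_2 D101138 D193053 (iv3 F351895) (iv4 F352965) F155841
theorem F388604 : act 6 n123766 = n193053 := d10_0 F388603 (iv6 D123768) D123766
theorem F388605 : act 0 n136666 = n193053 := d18_2 F343911 D136666 F388603 F351893 F222281 (iv0 D108547) F79391 D64194 D136550
def n193054 : Q := act 6 n101138
theorem D193054 : act 6 n101138 = n193054 := rfl
theorem F388606 : act 3 n193054 = n123766 := d7_1 D193054 F388604 (iv3 D193053)
theorem F388607 : act 4 n193054 = n101139 := d10_1 D193054 (iv6 D101139) D101138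
def n193055 : Q := act 0 n101145
theorem D193055 : act 0 n101145 = n193055 := rfl
def n193056 : Q := act 1 n101145
theorem D193056 : act 1 n101145 = n193056 := rfl
def n193057 : Q := act 5 n101145
theorem D193057 : act 5 n101145 = n193057 := rfl
theorem F388608 : act 2 n193057 = n187018 := d2_1 D193057 (iv5 F385196) F385195
theorem F388609 : act 6 n193057 = n101785 := d12_2 D101145 D193057 (iv5 D101785) (iv6 F155847) (iv5 D101144)
theorem F388610 : act 0 n193057 = n185999 := d21_7 (iv5 D22570) (iv1 F62714) D10733 (iv6 F35225) D47112 D101145 D193057 (iv5 F293924) (iv6 D90913) (iv1 F293353)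
theorem F388611 : act 0 n187019 = n193057 := d21_7 F153263 (iv1 F73497) D47110 D101139 F352961 D136432 (iv5 F368845) (iv5 D193057) (iv6 D101145) (iv1 F153266)
def n193058 : Q := act 7 n101145
theorem D193058 : act 7 n101145 = n193058 := rfl
theorem F388612 : act 3 n193058 = n140581 := d8_1 D193058 (iv7 F386066) F386064
theorem F388613 : act 4 n193058 = n109186 := d11_1 D193058 (iv7 F387458) F387457
theorem F388614 : act 6 n193058 = n109185 := d14_1 D193058 (iv7 F373144) (iv6 F373146) F156422 D101145
theorem F388615 : act 5 n187017 = n193058 := d21_8 (iv5 D187632) (iv1 D90401) (iv5 F139067) (iv6 D90369) (iv1 F293221) D104008 F159460 D187017 F388614 (iv1 F373141)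
theorem F388616 : act 3 n182188 = n187017 := d6_3 F388615 F388612 (iv5 F372985)
theorem F388617 : act 7 n193057 = n187017 := d13_0 F388615 (iv7 D193058) D193057
def n193059 : Q := act 6 n101147
theorem D193059 : act 6 n101147 = n193059 := rfl
theorem F388618 : act 3 n193059 = n101148 := d7_1 D193059 (iv6 D101148) D101147
theorem F388619 : act 0 n193059 = n139105 := d21_4 F342018 F342016 (iv5 F357802) D193059 (iv6 D139105) (iv5 D65291) D65288 D139093 (iv6 F351896) F351901
def n193060 : Q := act 6 n101149
theorem D193060 : act 6 n101149 = n193060 := rfl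
theorem F388620 : act 2 n193060 = n192671 := d3_1 D193060 (iv6 D192671) F272732
theorem F388621 : act 4 n193060 = n191949 := d10_1 D193060 (iv6 D191949) (iv4 F272733)
def n193061 : Q := act 3 n101150
theorem D193061 : act 3 n101150 = n193061 := rfl
theorem F388622 : act 7 n193061 = n192670 := d8_2 F272726 D193061 (iv3 D192670)
theorem F388623 : act 4 n193061 = n157746 := d20_6 F53523 (iv1 F79340) F79338 (iv3 F167713) (iv1 F333008) D193061 (iv1 D157746) F331543 F98681 (iv1 F53524)
theorem F388624 : act 7 n157746 = n114536 := d11_2 (iv7 F388622) F388623 (iv4 F387436)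
theorem F388625 : act 1 n114369 = n193061 := d18_6 (iv1 F214525) (iv4 F340030) (iv1 D112997) F82443 (iv5 F94516) (iv4 F178380) F388623 F248623 (iv5 F214522)
theorem F388626 : act 2 n114536 = n157745 := d15_3 (iv0 D157745) D157746 F388624
theorem F388627 : act 2 n157746 = n114537 := d15_3 F248610 F248611 (iv7 F388624)
theorem F388628 : act 7 n114537 = n157745 := d4_2 (iv7 F388624) F388627 (iv2 F388626)
def n193062 : Q := act 6 n101150
theorem D193062 : act 6 n101150 = n193062 := rfl
theorem F388629 : act 2 n193062 = n192678 := d3_1 D193062 (iv6 D192678) (iv2 F272731)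
theorem F388630 : act 4 n193062 = n191805 := d10_1 D193062 F384500 (iv4 F195698)
def n193063 : Q := act 0 n101151
theorem D193063 : act 0 n101151 = n193063 := rfl
theorem F388631 : act 5 n193063 = n134210 := d17_3 F246658 (iv5 F332988) D193063 (iv4 F351352) (iv5 F250316) (iv0 F342711) (iv5 F352306) F352305 (iv4 F319266)
theorem F388632 : act 7 n108578 = n193063 := d13_0 F388631 (iv7 F366692) F372901
theorem F388633 : act 2 n193063 = n108577 := d15_3 (iv0 D108577) D108578 F388632
theorem F388634 : act 7 n108869 = n108577 := d4_2 (iv7 F388632) F372900 (iv2 F388633)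
theorem F388635 : act 1 n108581 = n193063 := d15_1 F361297 (iv7 F388632) F372900
theorem F388636 : act 3 n108577 = n108877 := d8_1 F388634 (iv7 D108877) (iv3 F168868)
theorem F388637 : act 5 n108577 = n139623 := d13_1 F388634 (iv7 F366694) F361294
def n193064 : Q := act 7 n101151
theorem D193064 : act 7 n101151 = n193064 := rfl
theorem F388638 : act 2 n193064 = n108581 := d4_1 D193064 (iv7 D108581) (iv2 F332987)
theorem F388639 : act 3 n193064 = n101153 := d8_1 D193064 (iv7 D101153) D101151
theorem F388640 : act 5 n193064 = n108563 := d13_1 D193064 F167902 (iv5 F332988)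
theorem F388641 : act 1 n108578 = n193064 := d15_1 D108578 (iv7 D193064) F332987
theorem F388642 : act 1 n193064 = n108577 := d15_1 F388641 (iv7 F388634) (iv2 F372900)
def n193065 : Q := act 6 n101153
theorem D193065 : act 6 n101153 = n193065 := rfl
theorem F388643 : act 4 n193065 = n101154 := d10_1 D193065 (iv6 D101154) (iv4 F155850)
theorem F388644 : act 7 n193065 = n101181 := d14_2 D101153 D193065 (iv6 D101181) (iv7 D47123) (iv6 F74351)
theorem F388645 : act 1 n192760 = n193065 := d15_1 (iv0 F387687) F388644 (iv2 F371956)
theorem F388646 : act 0 n192758 = n193065 := d18_0 F388643 (iv1 F372458) (iv4 D140368) (iv5 D65884) (iv4 F81165) D111448 (iv4 F388308) (iv0 D192947) (iv5 F387684)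
def n193066 : Q := act 3 n101155
theorem D193066 : act 3 n101155 = n193066 := rfl
def n193067 : Q := act 4 n101155
theorem D193067 : act 4 n101155 = n193067 := rfl
theorem F388647 : act 2 n193067 = n192728 := d1_1 D193067 F387608 F373174
theorem F388648 : act 0 n193067 = n192730 := d20_1 D193067 F387611 (iv3 F387606) (iv1 F387607) (iv3 F372010) (iv4 D187980) D187978 (iv4 F372004) F153806 D101155
theorem F388649 : act 0 n101168 = n193067 := d20_10 (iv4 D193067) (iv1 F385204) (iv4 F386104) (iv3 D192228) F153814 (iv3 F345165) F250908 F250906 F178541 F361016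
theorem F388650 : act 7 n192729 = n193067 := d15_2 (iv0 D192728) D192729 F388647
theorem F388651 : act 4 n192012 = n192729 := d11_3 F388650 (iv4 D193067) (iv7 F385198)
def n193068 : Q := act 5 n101155
theorem D193068 : act 5 n101155 = n193068 := rfl
def n193069 : Q := act 4 n101156
theorem D193069 : act 4 n101156 = n193069 := rfl
theorem F388652 : act 2 n193069 = n192729 := d1_1 D193069 (iv4 F388651) F385200
theorem F388653 : act 6 n193069 = n136522 := d10_2 (iv6 F361947) D193069 (iv4 D136522)
theorem F388654 : act 7 n193069 = n192728 := d11_2 F373176 D193069 F387608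
theorem F388655 : act 1 n193069 = n192730 := d18_8 F375900 (iv4 F375902) F375905 (iv4 F159249) F351157 F154651 D101156 D193069 F387612
theorem F388656 : act 0 n193069 = n101168 := d20_7 (iv4 D114612) D114610 (iv4 F178703) (iv3 F388381) (iv1 D136529) (iv3 F361946) D193069 F155864 F361015 F239379
def n193070 : Q := act 5 n101156
theorem D193070 : act 5 n101156 = n193070 := rfl
theorem F388657 : act 3 n193070 = n136530 := d6_1 D193070 (iv5 D136530) (iv3 F361946)
theorem F388658 : act 6 n193070 = n136526 := d12_2 (iv6 F361947) D193070 (iv5 D136526) (iv6 D64180) D64179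
def n193071 : Q := act 1 n101157
theorem D193071 : act 1 n101157 = n193071 := rfl
theorem F388659 : act 7 n193071 = n101925 := d15_2 (iv0 F274852) D193071 (iv2 F274851)
theorem F388660 : act 5 n192775 = n193071 := d21_6 (iv5 D42569) F293001 D22570 D46943 D100647 D192775 (iv1 D193071) (iv5 D101157) (iv6 D47116) (iv1 F293225)
theorem F388661 : act 4 n136946 = n193071 := d11_3 F388659 F354887 D136946
def n193072 : Q := act 4 n101157
theorem D193072 : act 4 n101157 = n193072 := rfl
theorem F388662 : act 6 n193072 = n102310 := d10_2 (iv6 F155853) D193072 (iv4 D102310)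
def n193073 : Q := act 7 n101157
theorem D193073 : act 7 n101157 = n193073 := rfl
theorem F388663 : act 3 n193073 = n154530 := d8_1 D193073 F358593 (iv3 F155852)
theorem F388664 : act 5 n193073 = n101158 := d13_1 D193073 (iv7 D101158) D101157
theorem F388665 : act 6 n193073 = n190569 := d14_1 D193073 (iv7 D190569) F147852 (iv7 F74658) (iv6 F155853)
theorem F388666 : act 0 n101925 = n193073 := d21_4 F128841 (iv1 F59433) D47353 D101925 F388665 F380152 (iv1 F367858) (iv5 F367859) (iv6 D101932) (iv1 F128844)
def n193074 : Q := act 1 n101161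
theorem D193074 : act 1 n101161 = n193074 := rfl
theorem F388667 : act 1 n193074 = n184571 := d15_1 D193074 (iv7 F385333) F385332
theorem F388668 : act 7 n193074 = n192041 := d15_2 (iv0 F382806) D193074 F385318
theorem F388669 : act 4 n192042 = n193074 := d20_6 D22671 D47119 F74359 D99381 (iv1 F384978) (iv3 F385322) (iv1 D193074) (iv4 D101161) (iv3 D47117) (iv1 D22670)
def n193075 : Q := act 5 n101161
theorem D193075 : act 5 n101161 = n193075 := rfl
def n193076 : Q := act 6 n101161
theorem D193076 : act 6 n101161 = n193076 := rfl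
theorem F388670 : act 3 n193076 = n192232 := d7_1 D193076 F386132 F351173
theorem F388671 : act 4 n193076 = n101162 := d10_1 D193076 (iv6 D101162) D101161
theorem F388672 : act 7 n193076 = n191684 := d14_2 F351176 D193076 F384143 F157649 D184572
theorem F388673 : act 5 n186738 = n193076 := d13_3 F388672 (iv5 D191684) (iv7 F367842)
def n193077 : Q := act 0 n101162
theorem D193077 : act 0 n101162 = n193077 := rfl
def n193078 : Q := act 1 n101162
theorem D193078 : act 1 n101162 = n193078 := rfl
theorem F388674 : act 1 n193078 = n193076 := d15_1 D193078 F388672 F384141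
theorem F388675 : act 3 n188167 = n193078 := d19_19 (iv1 D193078) F155857 F345235 F133792 (iv1 F65033) (iv5 D42110) (iv4 D19858) F14556 D9361 F16853 F6176 F6175 (iv1 F6178) D4295 D9494 D20122 D42632 D91011 D188167
theorem F388676 : act 7 n193078 = n191770 := d8_2 (iv7 F372538) F388675 (iv3 D191770)
theorem F388677 : act 2 n191770 = n193077 := d15_3 (iv0 D193077) D193078 F388676
def n193079 : Q := act 7 n101162
theorem D193079 : act 7 n101162 = n193079 := rfl
theorem F388678 : act 2 n193079 = n193076 := d4_1 D193079 F388672 F384141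
theorem F388679 : act 3 n193079 = n101165 := d8_1 D193079 (iv7 D101165) (iv3 F155856)
theorem F388680 : act 4 n193079 = n191684 := d11_1 D193079 (iv7 F388672) F388671
theorem F388681 : act 5 n193079 = n183526 := d13_1 D193079 (iv7 F345234) (iv5 F155857)
theorem F388682 : act 6 n193079 = n192044 := d14_1 D193079 F385333 (iv6 F351178) F153269 D101162
theorem F388683 : act 1 n193076 = n193077 := d15_0 (iv0 D193077) D193079 F388678
theorem F388684 : act 0 n191770 = n193079 := d19_0 F388681 (iv4 D183526) F134468 F293490 (iv5 D40473) (iv4 F30736) F15457 (iv1 F7278) (iv5 D4267) F3075 F3074 D4265 (iv5 F292701) (iv4 F6970) (iv3 F17033) D22135 D46284 D98907 D191770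
theorem F388685 : act 1 n191770 = n191684 := d15_1 (iv0 F388684) (iv7 F388672) (iv2 F388678)
def n193080 : Q := act 5 n101163
theorem D193080 : act 5 n101163 = n193080 := rfl
theorem F388686 : act 3 n193080 = n134552 := d6_1 D193080 (iv5 F388552) F388554
theorem F388687 : act 4 n193080 = n132094 := d16_2 (iv4 F362339) D193080 F358981 (iv4 D125366) F194349 D86176 D180439 F280831 (iv2 F280854)
theorem F388688 : act 0 n193080 = n137162 := d17_2 D101163 D193080 F345434 (iv4 D180411) (iv5 D86163) (iv0 F122841) D166737 (iv0 F345209) F154653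
theorem F388689 : act 1 n193080 = n157803 := d17_6 (iv1 F387345) (iv5 F387344) (iv1 F280815) D180449 (iv4 F362339) D193080 (iv5 F385177) F385179 F380036
theorem F388690 : act 6 n193080 = n132092 := d21_9 F354705 (iv1 D89430) D89431 F137103 (iv1 F70509) D46116 (iv5 F74354) D101163 D193080 F211630
theorem F388691 : act 0 n136230 = n191566 := d20_4 (iv4 F219892) (iv1 F362716) (iv4 D136231) D136230 F383846 (iv4 F383848) (iv1 F383850) (iv4 F388687) F388686 F340134
theorem F388692 : act 1 n138177 = n191566 := d15_0 (iv0 F388691) F359618 D138177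
def n193081 : Q := act 6 n101163
theorem D193081 : act 6 n101163 = n193081 := rfl
def n193082 : Q := act 5 n101164
theorem D193082 : act 5 n101164 = n193082 := rfl
theorem F388693 : act 3 n193082 = n188767 := d6_1 D193082 (iv5 F374782) F367956
theorem F388694 : act 0 n193082 = n157803 := d17_2 (iv1 F345224) D193082 (iv5 F385177) F385176 (iv5 D157926) F132127 D180405 F280776 D180790
theorem F388695 : act 6 n193082 = n186808 := d21_3 (iv5 F345223) (iv1 F345224) D193082 (iv1 F384209) F384207 F352465 (iv1 F158761) (iv5 F384174) (iv6 D191694) (iv1 F152088)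
theorem F388696 : act 6 n193055 = n101164 := d21_5 (iv5 D101927) F156909 (iv5 D101144) D101145 D193055 D193082 F388694 (iv5 F385177) (iv6 D192007) F156915
theorem F388697 : act 0 n137162 = n193082 := d21_10 (iv5 D193082) (iv1 D101164) F74354 (iv6 D46116) (iv1 F66266) (iv6 F329626) (iv5 D30423) D30420 F221252 D137162
def n193083 : Q := act 5 n101168
theorem D193083 : act 5 n101168 = n193083 := rfl
theorem F388698 : act 2 n193083 = n107101 := d2_1 D193083 F363665 (iv2 F155863)
theorem F388699 : act 4 n193083 = n150589 := d18_5 (iv1 F353013) F385004 (iv1 D191960) (iv4 F155864) D193083 (iv0 D150589) (iv4 F109224) D153753 (iv5 F353007)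
theorem F388700 : act 1 n193083 = n145330 := d15_0 (iv0 F375900) F172029 (iv2 F388698)
def n193084 : Q := act 7 n101168
theorem D193084 : act 7 n101168 = n193084 := rfl
theorem F388701 : act 2 n193084 = n192730 := d4_1 D193084 (iv7 D192730) (iv2 F155863)
theorem F388702 : act 3 n193084 = n152546 := d8_1 D193084 F239727 F361016
theorem F388703 : act 4 n193084 = n152550 := d11_1 D193084 F361017 (iv4 F155864)
theorem F388704 : act 6 n193084 = n192742 := d14_1 D193084 (iv7 D192742) (iv6 D100579) (iv7 F74360) D101168
theorem F388705 : act 1 n192729 = n193084 := d15_1 D192729 (iv7 D193084) F155863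
theorem F388706 : act 1 n193084 = n192728 := d15_1 F388705 (iv7 F388654) F388652
def n193085 : Q := act 7 n101171
theorem D193085 : act 7 n101171 = n193085 := rfl
theorem F388707 : act 2 n193085 = n192742 := d4_1 D193085 (iv7 D192742) (iv2 F155869)
theorem F388708 : act 4 n193085 = n191963 := d11_1 D193085 (iv7 D191963) (iv4 F155870)
theorem F388709 : act 5 n193085 = n160581 := d13_1 D193085 (iv7 F254462) F354677
theorem F388710 : act 6 n193085 = n192730 := d14_1 D193085 (iv7 D192730) (iv6 D100567) F74357 D101171
theorem F388711 : act 1 n157975 = n193085 := d15_1 (iv0 F354688) (iv7 D193085) F155869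
theorem F388712 : act 1 n193085 = n157955 := d15_1 F388711 (iv7 F280831) F280830
def n193086 : Q := act 0 n101172
theorem D193086 : act 0 n101172 = n193086 := rfl
theorem F388713 : act 2 n101176 = n193086 := d15_3 (iv0 D193086) (iv0 D101172) D101176
theorem F388714 : act 3 n193086 = n108591 := d0_2 (iv3 F155872) F388713 F167927 F351189 F294246
theorem F388715 : act 5 n193086 = n179747 := d2_2 F370765 F388713 (iv2 F370763)
theorem F388716 : act 7 n193086 = n101174 := d4_2 D101176 F388713 (iv2 D101174)
theorem F388717 : act 1 n101173 = n193086 := d15_1 D101173 F388716 (iv2 D101174)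
def n193087 : Q := act 2 n101172
theorem D193087 : act 2 n101172 = n193087 := rfl
theorem F388718 : act 7 n101173 = n193087 := d15_2 (iv0 D101172) D101173 (iv2 D193087)
theorem F388719 : act 3 n193087 = n134748 := d8_1 F388718 F351289 F360791
def n193088 : Q := act 4 n101172
theorem D193088 : act 4 n101172 = n193088 := rfl
def n193089 : Q := act 5 n101172
theorem D193089 : act 5 n101172 = n193089 := rfl
def n193090 : Q := act 6 n101172
theorem D193090 : act 6 n101172 = n193090 := rfl
theorem F388720 : act 3 n193090 = n127984 := d7_1 D193090 F363661 (iv3 F372026)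
theorem F388721 : act 5 n127983 = n193090 := d6_0 F388720 (iv5 D127984) D127983
def n193091 : Q := act 7 n101172
theorem D193091 : act 7 n101172 = n193091 := rfl
theorem F388722 : act 2 n193091 = n101173 := d4_1 D193091 F388718 (iv2 D193087)
def n193092 : Q := act 4 n101173
theorem D193092 : act 4 n101173 = n193092 := rfl
def n193093 : Q := act 5 n101173
theorem D193093 : act 5 n101173 = n193093 := rfl
theorem F388723 : act 3 n193093 = n110219 := d6_1 D193093 (iv5 F343157) F360791
theorem F388724 : act 6 n110216 = n193093 := d21_5 F354184 (iv1 D65927) D65929 (iv6 F336712) F375636 (iv5 D193093) (iv1 D101173) (iv5 F293005) (iv6 F364310) (iv1 F216766)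
def n193094 : Q := act 6 n101173
theorem D193094 : act 6 n101173 = n193094 := rfl
theorem F388725 : act 3 n193094 = n110222 := d7_1 D193094 F343109 F360791
theorem F388726 : act 5 n193094 = n110217 := d12_1 D193094 (iv6 D110217) D110216 F388724 (iv5 D193093)
theorem F388727 : act 7 n170852 = n193094 := d13_0 F388726 F327005 D170852
def n193095 : Q := act 0 n101174
theorem D193095 : act 0 n101174 = n193095 := rfl
theorem F388728 : act 1 n101176 = n193095 := d15_0 (iv0 D193095) (iv7 F388716) (iv2 F388713)
def n193096 : Q := act 1 n101174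
theorem D193096 : act 1 n101174 = n193096 := rfl
theorem F388729 : act 1 n193096 = n101176 := d15_1 D193096 (iv7 D101176) D101174
def n193097 : Q := act 6 n101176
theorem D193097 : act 6 n101176 = n193097 := rfl
theorem F388730 : act 3 n193097 = n101181 := d7_1 D193097 (iv6 D101181) (iv3 F155872)
theorem F388731 : act 0 n134745 = n193097 := d20_4 (iv4 F98651) F98652 F98562 D134745 F388730 F155885 D101182 (iv4 F364780) F164691 F78080
def n193098 : Q := act 0 n101181
theorem D193098 : act 0 n101181 = n193098 := rfl
theorem F388732 : act 6 n193098 = n188856 := d21_5 (iv5 F291456) F139667 F292309 D101181 D193098 (iv5 D188856) D188854 (iv5 F375378) F157070 (iv1 D100532)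
theorem F388733 : act 5 n188853 = n193098 := d12_5 F388732 (iv5 D188856) (iv6 D92857) D92856 D188853
theorem F388734 : act 2 n193098 = n192758 := d2_1 F388733 F387684 (iv2 F375058)
theorem F388735 : act 3 n193098 = n187939 := d6_1 F388733 F371883 (iv3 F375059)
theorem F388736 : act 7 n193098 = n192760 := d13_2 F375062 F388733 (iv5 F387688)
theorem F388737 : act 4 n193098 = n139325 := d18_5 D65881 D140356 (iv1 F357567) (iv4 F375060) F388733 (iv0 D139325) D139327 F345618 (iv5 D65884)
theorem F388738 : act 5 n101181 = n141130 := d16_5 (iv4 F388737) (iv5 F388733) F375060 F294234 (iv4 F155885) (iv4 D141130) (iv5 F350414) F361313 F361314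
theorem F388739 : act 5 n134726 = n193097 := d6_2 F388738 F224103 F388730
theorem F388740 : act 6 n108555 = n134726 := d12_0 F388739 (iv6 D193097) (iv5 F370765) (iv6 F370767) F343120
theorem F388741 : act 1 n192758 = n187960 := d15_0 (iv0 F387687) (iv7 F388736) F388734
def n193099 : Q := act 1 n101181
theorem D193099 : act 1 n101181 = n193099 := rfl
theorem F388742 : act 7 n193099 = n192758 := d15_2 (iv0 D193098) D193099 (iv2 F388734)
theorem F388743 : act 5 n193099 = n192919 := d17_7 (iv1 F172960) F350400 F350415 F350414 D141130 (iv5 F388738) D193099 (iv0 F388227) (iv4 D139315)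
theorem F388744 : act 4 n193099 = n139326 := d18_7 (iv1 F172962) D139320 F375061 F375060 F294234 (iv4 F155885) D193099 (iv0 F350415) (iv5 F350400)
theorem F388745 : act 3 n127791 = n193099 := d20_9 F155885 D101182 (iv4 F364780) F164691 F78080 D65981 (iv4 F331527) (iv1 F112693) (iv4 F205560) (iv1 D193099)
theorem F388746 : act 2 n193099 = n192760 := d0_1 F388745 F387686 F371890 (iv3 F371891) F205561
def n193100 : Q := act 3 n101183
theorem D193100 : act 3 n101183 = n193100 := rfl
theorem F388747 : act 5 n193100 = n137667 := d6_2 F372452 D193100 (iv3 F224823)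
def n193101 : Q := act 6 n101183
theorem D193101 : act 6 n101183 = n193101 := rfl
theorem F388748 : act 5 n193101 = n159737 := d21_6 (iv5 D47105) (iv1 F73498) (iv5 F153263) (iv6 F372463) (iv1 F372464) D193101 F359379 F307497 (iv6 F274859) (iv1 D101125)
theorem F388749 : act 3 n159738 = n193101 := d6_3 F388748 (iv3 D159737) D159738
theorem F388750 : act 6 n193100 = n159738 := d7_0 F388749 (iv6 D193101) D193100
def n193102 : Q := act 5 n101185
theorem D193102 : act 5 n101185 = n193102 := rfl
theorem F388751 : act 2 n193102 = n170755 := d2_1 D193102 (iv5 D170755) (iv2 F155891)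
theorem F388752 : act 6 n193102 = n101188 := d12_2 D101185 D193102 (iv5 D101188) (iv6 D47126) D47125
theorem F388753 : act 1 n193102 = n160272 := d17_6 F307462 (iv5 F307460) (iv1 F308710) D134683 F330187 D193102 (iv5 D160272) (iv0 F330217) (iv4 D135428)
theorem F388754 : act 0 n188407 = n136400 := d21_7 (iv5 D124424) (iv1 F242108) D193102 F388752 F290179 D101421 (iv5 F373344) F219504 D136461 (iv1 F351808)
theorem F388755 : act 0 n193102 = n101352 := d21_7 D135394 (iv1 F357828) (iv5 D122337) (iv6 D56652) F74368 D101185 D193102 F366847 (iv6 F366612) (iv1 D135392)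
def n193103 : Q := act 7 n101185
theorem D193103 : act 7 n101185 = n193103 := rfl
theorem F388756 : act 2 n193103 = n101313 := d4_1 D193103 F351745 (iv2 F155891)
theorem F388757 : act 4 n193103 = n162729 := d11_1 D193103 F363372 F330187
theorem F388758 : act 6 n193103 = n122557 := d14_1 D193103 F306755 (iv6 F306763) (iv7 F74366) D101185
theorem F388759 : act 1 n101226 = n193103 := d15_1 (iv0 F351602) (iv7 D193103) F155891
theorem F388760 : act 1 n193103 = n101315 := d15_1 F388759 F351623 (iv2 F351603)
def n193104 : Q := act 1 n101188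
theorem D193104 : act 1 n101188 = n193104 := rfl
theorem F388761 : act 1 n193104 = n101369 := d15_1 D193104 F290181 (iv2 F155893)
theorem F388762 : act 7 n193104 = n101419 := d15_2 (iv0 F290179) D193104 (iv2 D101419)
theorem F388763 : act 5 n182152 = n193104 := d21_0 (iv1 D193104) (iv5 D101188) (iv6 D47126) (iv1 D22673) D22676 D47132 D101202 (iv5 F375539) (iv6 F377060) (iv1 F377062)
theorem F388764 : act 2 n193104 = n101248 := d2_1 F388763 F155986 (iv2 F283606)
theorem F388765 : act 3 n193104 = n101431 := d6_1 F388763 F356436 F356434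
def n193105 : Q := act 4 n101188
theorem D193105 : act 4 n101188 = n193105 := rfl
theorem F388766 : act 2 n193105 = n157176 := d1_1 D193105 F363854 (iv2 F155893)
def n193106 : Q := act 7 n101188
theorem D193106 : act 7 n101188 = n193106 := rfl
theorem F388767 : act 2 n193106 = n101369 := d4_1 D193106 F290181 (iv2 F155893)
theorem F388768 : act 5 n193106 = n101189 := d13_1 D193106 (iv7 D101189) D101188
theorem F388769 : act 1 n101248 = n193106 := d15_1 (iv0 F352685) (iv7 D193106) F155893
theorem F388770 : act 1 n193106 = n101419 := d15_1 F388769 (iv7 F388762) F388764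
theorem F388771 : act 6 n136979 = n193106 := d3_0 F388767 F328172 D136979
def n193107 : Q := act 1 n101191
theorem D193107 : act 1 n101191 = n193107 := rfl
theorem F388772 : act 1 n193107 = n160779 := d15_1 D193107 F253927 F195721
theorem F388773 : act 7 n193107 = n192328 := d15_2 (iv0 F155902) D193107 F386449
theorem F388774 : act 4 n193107 = n191905 := d17_9 (iv1 F384783) D192235 F386146 F342230 F270069 D172016 (iv0 F340646) (iv5 F340647) D193107
theorem F388775 : act 2 n191906 = n193107 := d1_3 F388774 (iv2 D191905) D191906
def n193108 : Q := act 7 n101191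
theorem D193108 : act 7 n101191 = n193108 := rfl
theorem F388776 : act 2 n193108 = n160779 := d4_1 D193108 F253927 F195721
theorem F388777 : act 3 n193108 = n155075 := d8_1 D193108 F243881 (iv3 F300633)
theorem F388778 : act 4 n193108 = n101195 := d11_1 D193108 (iv7 D101195) (iv4 F155901)
theorem F388779 : act 5 n193108 = n173408 := d13_1 D193108 F358673 (iv5 F340647)
theorem F388780 : act 6 n193108 = n184483 := d14_1 D193108 (iv7 D184483) (iv6 D87978) (iv7 F74373) D101191
theorem F388781 : act 1 n191906 = n193108 := d15_1 (iv0 F384786) (iv7 D193108) (iv2 F195721)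
theorem F388782 : act 1 n193108 = n192328 := d15_1 F388781 (iv7 F388773) (iv2 F388775)
def n193109 : Q := act 5 n101192
theorem D193109 : act 5 n101192 = n193109 := rfl
theorem F388783 : act 3 n193109 = n149012 := d6_1 D193109 (iv5 D149012) F232736
def n193110 : Q := act 3 n101193
theorem D193110 : act 3 n101193 = n193110 := rfl
theorem F388784 : act 2 n193110 = n149014 := d0_1 D193110 (iv3 D149014) F155529 F232860 F232864
theorem F388785 : act 0 n193110 = n153530 := d20_4 (iv4 F384778) (iv1 F239257) (iv4 F351955) D193110 (iv3 F268712) (iv4 F284948) F339030 (iv4 D184242) F232751 F384779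
theorem F388786 : act 4 n193110 = n122648 := d20_6 (iv4 D37548) (iv1 F44107) (iv4 F89680) (iv3 F195775) (iv1 F195778) D193110 (iv1 D122648) F90056 F58459 (iv1 F117327)
def n193111 : Q := act 5 n101193
theorem D193111 : act 5 n101193 = n193111 := rfl
def n193112 : Q := act 6 n101193
theorem D193112 : act 6 n101193 = n193112 := rfl
theorem F388787 : act 4 n193112 = n135409 := d10_1 D193112 (iv6 F239254) (iv4 F351955)
theorem F388788 : act 7 n193112 = n135405 := d14_2 (iv7 F232865) D193112 (iv6 D135405) (iv7 F214178) (iv6 F318366)
theorem F388789 : act 1 n184953 = n193112 := d15_1 F366851 F388788 (iv2 F239222)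
def n193113 : Q := act 0 n101194
theorem D193113 : act 0 n101194 = n193113 := rfl
theorem F388790 : act 5 n193113 = n122556 := d17_3 (iv1 D101193) D101194 D193113 (iv4 F262763) (iv5 F345819) F345368 (iv5 F315533) F351951 (iv4 F351955)
theorem F388791 : act 2 n123082 = n193113 := d2_3 F388790 F196222 D123082
theorem F388792 : act 1 n110849 = n193113 := d17_6 F318964 D172016 F358674 (iv5 F300634) F253925 (iv5 F339891) F388790 F345825 F191103
theorem F388793 : act 3 n193113 = n149017 := d0_2 (iv3 F351775) F388791 (iv2 F241768) (iv3 F344903) (iv2 F327176)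
def n193114 : Q := act 1 n101194
theorem D193114 : act 1 n101194 = n193114 := rfl
theorem F388794 : act 1 n193114 = n110849 := d15_1 D193114 (iv7 F339890) F195771
theorem F388795 : act 7 n193114 = n123082 := d15_2 (iv0 D193113) D193114 F388791
theorem F388796 : act 5 n193114 = n123083 := d17_7 (iv1 F321093) (iv5 F271878) (iv1 F340648) (iv5 F340647) F155901 D101194 D193114 F345827 F121563
theorem F388797 : act 3 n150914 = n193114 := d20_3 F180563 (iv1 F318714) D150914 (iv1 D193114) F155903 D101214 (iv1 F306640) (iv4 D72982) (iv3 F109472) (iv1 F327042)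
def n193115 : Q := act 4 n101194
theorem D193115 : act 4 n101194 = n193115 := rfl
theorem F388798 : act 2 n193115 = n156248 := d1_1 D193115 F339885 F195771
theorem F388799 : act 6 n193115 = n101204 := d10_2 (iv6 F155904) D193115 (iv4 D101204)
theorem F388800 : act 0 n193115 = n156236 := d18_2 (iv1 D193114) D193115 (iv4 F342229) F342230 F270069 (iv0 F318964) (iv4 F191103) (iv0 F345826) (iv5 F388796)
theorem F388801 : act 1 n193115 = n156249 := d15_1 (iv0 F388800) (iv7 D156249) (iv2 F245547)
theorem F388802 : act 7 n193115 = n115703 := d15_2 (iv0 F342231) (iv0 F388800) F357051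
theorem F388803 : act 3 n115289 = n193115 := d8_3 F388802 (iv3 D115703) (iv7 F357071)
theorem F388804 : act 1 n156249 = n139631 := d15_1 F388801 (iv7 F339883) (iv2 F388798)
def n193116 : Q := act 7 n101194
theorem D193116 : act 7 n101194 = n193116 := rfl
theorem F388805 : act 2 n193116 = n110849 := d4_1 D193116 (iv7 F339890) F195771
theorem F388806 : act 3 n193116 = n101215 := d8_1 D193116 (iv7 D101215) (iv3 F155903)
theorem F388807 : act 4 n193116 = n115703 := d11_1 D193116 (iv7 F388802) (iv4 D193115)
theorem F388808 : act 5 n193116 = n101195 := d13_1 D193116 (iv7 D101195) D101194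
theorem F388809 : act 6 n193116 = n110847 := d14_1 D193116 (iv7 F222568) (iv6 F354435) F143953 (iv6 F155904)
theorem F388810 : act 0 n123082 = n193116 := d17_2 F351768 D123082 F388808 (iv4 F388778) F388779 (iv0 D173408) (iv5 D82980) (iv0 F333738) (iv4 F197085)
def n193117 : Q := act 5 n101196
theorem D193117 : act 5 n101196 = n193117 := rfl
theorem F388811 : act 2 n193117 = n188617 := d2_1 D193117 (iv5 D188617) (iv2 F155907)
theorem F388812 : act 3 n193117 = n184494 := d6_1 D193117 (iv5 D184494) (iv3 F155908)
theorem F388813 : act 1 n193117 = n151351 := d17_6 (iv1 F387803) F293946 F348535 (iv5 D101197) D101196 D193117 (iv5 F376456) (iv0 F386913) (iv4 F387798)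
def n193118 : Q := act 4 n101197
theorem D193118 : act 4 n101197 = n193118 := rfl
theorem F388814 : act 0 n193118 = n156959 := d20_1 D193118 (iv4 F372284) (iv3 F372286) (iv1 D184320) F134909 (iv4 F329792) F329790 (iv4 D93435) D93434 F348535
def n193119 : Q := act 6 n101197
theorem D193119 : act 6 n101197 = n193119 := rfl
def n193120 : Q := act 6 n101199
theorem D193120 : act 6 n101199 = n193120 := rfl
theorem F388815 : act 3 n193120 = n101201 := d7_1 D193120 (iv6 D101201) D101199
theorem F388816 : act 4 n193120 = n187664 := d10_1 D193120 (iv6 F371140) (iv4 F155910)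
theorem F388817 : act 7 n193120 = n185051 := d14_2 (iv7 F335924) D193120 (iv6 F385477) F385476 F361054
theorem F388818 : act 0 n183755 = n193120 := d20_10 F388816 F372615 F372612 F140104 F291473 (iv3 F386333) F386334 (iv1 F289911) F285531 (iv3 F285526)
def n193121 : Q := act 6 n101200
theorem D193121 : act 6 n101200 = n193121 := rfl
def n193122 : Q := act 5 n101201
theorem D193122 : act 5 n101201 = n193122 := rfl
theorem F388819 : act 2 n193122 = n182153 := d2_1 D193122 F344234 (iv2 F344231)
theorem F388820 : act 7 n193122 = n182154 := d13_2 (iv7 F344232) D193122 (iv5 F287427)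
theorem F388821 : act 0 n193122 = n181967 := d17_2 (iv1 F361043) D193122 (iv5 D181967) F133341 (iv5 F108436) D152498 F239680 F143475 F142962
theorem F388822 : act 0 n182151 = n193122 := d21_1 D182151 (iv5 D193122) (iv6 D101201) (iv1 D47131) (iv6 D22676) D22675 (iv1 F58451) (iv5 F64271) D89151 F337273
def n193123 : Q := act 4 n101202
theorem D193123 : act 4 n101202 = n193123 := rfl
theorem F388823 : act 2 n193123 = n152789 := d1_1 D193123 (iv4 F339914) F363687
def n193124 : Q := act 4 n101203
theorem D193124 : act 4 n101203 = n193124 := rfl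
theorem F388824 : act 3 n193124 = n105905 := d5_1 D193124 (iv4 D105905) F77240 D48978 (iv3 F339896)
theorem F388825 : act 7 n193124 = n152789 := d11_2 F339897 D193124 (iv4 F339914)
def n193125 : Q := act 6 n101203
theorem D193125 : act 6 n101203 = n193125 := rfl
theorem F388826 : act 3 n193125 = n105935 := d7_1 D193125 F162670 (iv3 F339896)
def n193126 : Q := act 1 n101204
theorem D193126 : act 1 n101204 = n193126 := rfl
theorem F388827 : act 1 n193126 = n192447 := d15_1 D193126 F386742 (iv2 F339889)
theorem F388828 : act 7 n193126 = n192445 := d15_2 (iv0 F155911) D193126 F386734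
theorem F388829 : act 4 n193126 = n191922 := d18_7 (iv1 F139730) F139728 (iv1 F138958) F68091 D47132 D101204 D193126 F384842 (iv5 D100140)
theorem F388830 : act 2 n191923 = n193126 := d1_3 F388829 (iv2 D191922) D191923
def n193127 : Q := act 3 n101204
theorem D193127 : act 3 n101204 = n193127 := rfl
theorem F388831 : act 2 n193127 = n115701 := d0_1 D193127 F357057 (iv2 F179646) D140259 (iv2 F339889)
theorem F388832 : act 4 n193127 = n101218 := d5_2 D101204 D193127 (iv3 D101218) (iv4 D47139) (iv3 F74376)
theorem F388833 : act 6 n193127 = n115289 := d7_2 F388799 D193127 F388803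
theorem F388834 : act 0 n193127 = n155858 := d20_10 (iv4 D155858) (iv1 F349911) D150608 F237145 (iv1 F162636) (iv3 F388824) (iv4 D193124) (iv1 D101203) D101204 D193127
theorem F388835 : act 0 n155841 = n193127 := d20_1 D155841 F388832 (iv3 D101218) F328606 (iv3 D33977) (iv4 D16428) D16426 (iv4 F52059) D70988 (iv1 F349914)
theorem F388836 : act 1 n155841 = n126687 := d15_1 (iv0 F388835) F357056 (iv2 F388831)
def n193128 : Q := act 5 n101204
theorem D193128 : act 5 n101204 = n193128 := rfl
theorem F388837 : act 0 n193128 = n192399 := d17_2 (iv1 D193126) D193128 (iv5 D192399) (iv4 D100149) (iv5 D46744) F157759 D99919 F384843 (iv4 F388829)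
def n193129 : Q := act 3 n101214
theorem D193129 : act 3 n101214 = n193129 := rfl
theorem F388838 : act 2 n193129 = n115699 := d0_1 D193129 (iv3 F350929) F183117 (iv3 F329678) (iv2 F155925)
theorem F388839 : act 4 n193129 = n115289 := d5_2 D101214 D193129 F388803 (iv4 D193115) F155903
theorem F388840 : act 5 n193129 = n119286 := d6_2 (iv5 F331980) D193129 (iv3 F344043)
theorem F388841 : act 6 n193129 = n101218 := d7_2 (iv6 F155926) D193129 (iv3 D101218)
theorem F388842 : act 7 n193129 = n115704 := d8_2 F334193 D193129 F357034
theorem F388843 : act 0 n112707 = n193129 := d17_2 F333425 (iv5 F362017) F388840 (iv4 F338961) (iv5 D108286) D108285 F333698 F305277 (iv4 F244040)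
def n193130 : Q := act 3 n101216
theorem D193130 : act 3 n101216 = n193130 := rfl
theorem F388844 : act 2 n193130 = n136716 := d0_1 D193130 (iv3 F362970) F357009 F354185 (iv2 F155932)
theorem F388845 : act 5 n193130 = n189202 := d6_2 (iv5 F155934) D193130 (iv3 D189202)
theorem F388846 : act 7 n193130 = n136715 := d8_2 (iv7 F155933) D193130 F343448
theorem F388847 : act 0 n193130 = n103275 := d20_4 (iv4 D47139) D47138 D101216 D193130 (iv3 D103275) (iv4 F293877) F293875 F329937 F329370 F134918
theorem F388848 : act 0 n101823 = n193130 := d20_4 (iv4 D64298) (iv1 F48710) (iv4 F100059) (iv3 F323247) (iv3 D193130) (iv4 D101216) (iv1 F74388) F329039 F324660 (iv1 F111419)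
def n193131 : Q := act 6 n101216
theorem D193131 : act 6 n101216 = n193131 := rfl
theorem F388849 : act 2 n193131 = n163180 := d3_1 D193131 F354189 (iv2 F155932)
theorem F388850 : act 4 n193131 = n101217 := d10_1 D193131 (iv6 D101217) D101216
def n193132 : Q := act 0 n101217
theorem D193132 : act 0 n101217 = n193132 := rfl
theorem F388851 : act 6 n193132 = n182525 := d21_5 F294636 F293707 (iv5 F293325) D101217 D193132 (iv5 D182525) (iv1 D87132) (iv5 F294771) (iv6 D43665) D43662
theorem F388852 : act 4 n147722 = n193132 := d10_3 F388851 (iv4 F360195) (iv6 F334026)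
theorem F388853 : act 0 n193132 = n184687 := d21_4 F375942 (iv1 F283861) D182525 (iv6 F388851) (iv6 F375598) F375597 F295357 (iv5 F375988) (iv6 D189183) (iv1 F375945)
theorem F388854 : act 7 n193132 = n147721 := d11_2 D147722 F388852 (iv4 D147721)
theorem F388855 : act 2 n193132 = n184685 := d15_3 (iv0 D184685) (iv0 F354191) (iv7 F388854)
theorem F388856 : act 4 n184685 = n160993 := d1_2 F388852 F388855 (iv2 F334025)
def n193133 : Q := act 1 n101217
theorem D193133 : act 1 n101217 = n193133 := rfl
theorem F388857 : act 1 n193133 = n184687 := d15_1 D193133 (iv7 D184687) (iv2 F155937)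
theorem F388858 : act 7 n193133 = n184685 := d15_2 (iv0 D193132) D193133 (iv2 F388855)
theorem F388859 : act 6 n147398 = n193133 := d21_3 (iv5 D154503) (iv1 F353737) (iv5 F231112) (iv1 D193133) (iv6 D101217) F293325 (iv1 F293708) (iv5 F294645) D93347 (iv1 F353744)
theorem F388860 : act 2 n193133 = n147721 := d3_1 F388859 F231457 (iv2 F231111)
theorem F388861 : act 4 n193133 = n147385 := d10_1 F388859 F231102 D147398
def n193134 : Q := act 7 n101217
theorem D193134 : act 7 n101217 = n193134 := rfl
theorem F388862 : act 2 n193134 = n184687 := d4_1 D193134 (iv7 D184687) (iv2 F155937)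
theorem F388863 : act 3 n193134 = n191744 := d8_1 D193134 (iv7 F385256) F385254
theorem F388864 : act 6 n193134 = n184692 := d14_1 D193134 (iv7 D184692) (iv6 D88067) (iv7 F74389) D101217
theorem F388865 : act 1 n147721 = n193134 := d15_1 (iv0 F354191) (iv7 D193134) F155937
theorem F388866 : act 1 n193134 = n184685 := d15_1 F388865 (iv7 F388858) F388860
def n193135 : Q := act 5 n101218
theorem D193135 : act 5 n101218 = n193135 := rfl
theorem F388867 : act 3 n193135 = n101219 := d6_1 D193135 (iv5 D101219) D101218
theorem F388868 : act 7 n193135 = n103266 := d13_2 (iv7 F364582) D193135 F364581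
theorem F388869 : act 0 n193135 = n136773 := d21_7 (iv5 D107579) (iv1 F78528) D52022 D112707 F388843 F388841 D193135 (iv5 F349887) (iv6 D110374) (iv1 F165971)
def n193136 : Q := act 6 n101219
theorem D193136 : act 6 n101219 = n193136 := rfl
theorem F388870 : act 2 n193136 = n103258 := d3_1 D193136 (iv6 D103258) (iv2 F293989)
theorem F388871 : act 4 n193136 = n103048 := d10_1 D193136 (iv6 D103048) (iv4 F293990)
theorem F388872 : act 5 n193136 = n173201 := d12_1 D193136 (iv6 F334216) (iv5 F331980) F155926 D101219
theorem F388873 : act 0 n193136 = n125006 := d21_4 F294886 F134918 D101219 D193136 (iv6 D125006) (iv5 F192196) F339809 (iv5 F336315) (iv6 D103224) D103220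
def n193137 : Q := act 4 n101223
theorem D193137 : act 4 n101223 = n193137 := rfl
theorem F388874 : act 2 n193137 = n101328 := d1_1 D193137 (iv4 D101328) (iv2 F310306)
theorem F388875 : act 7 n193137 = n101345 := d11_2 (iv7 F310307) D193137 (iv4 D101345)
theorem F388876 : act 5 n193137 = n143935 := d16_1 D193137 F226578 (iv5 F204571) F315956 (iv5 D73024) F306902 D101228 F308449 (iv2 F310306)
theorem F388877 : act 0 n193137 = n157628 := d17_0 (iv5 F338953) (iv1 F344007) (iv5 F360571) (iv4 D101353) F306617 F108929 D75021 (iv0 F307575) D193137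
theorem F388878 : act 1 n193137 = n157636 := d18_6 F308292 F306384 F110014 F308422 D101223 D193137 (iv4 D157636) (iv0 F242193) (iv5 D154124)
theorem F388879 : act 3 n143936 = n193137 := d6_3 F388876 (iv3 D143935) D143936
def n193138 : Q := act 6 n101223
theorem D193138 : act 6 n101223 = n193138 := rfl
theorem F388880 : act 2 n193138 = n101329 := d3_1 D193138 (iv6 D101329) (iv2 F310306)
theorem F388881 : act 3 n193138 = n124402 := d7_1 D193138 (iv6 D124402) (iv3 F307577)
theorem F388882 : act 5 n193138 = n182135 := d12_1 D193138 (iv6 D182135) (iv5 F306610) F306611 D101223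
def n193139 : Q := act 4 n101228
theorem D193139 : act 4 n101228 = n193139 := rfl
theorem F388883 : act 2 n193139 = n101345 := d1_1 D193139 (iv4 D101345) (iv2 F308448)
theorem F388884 : act 7 n193139 = n101328 := d11_2 (iv7 F308449) D193139 (iv4 D101328)
theorem F388885 : act 0 n193139 = n157636 := d17_0 F338938 F338958 (iv5 F319708) (iv4 D75030) (iv5 D34371) D34370 D75026 (iv0 F306903) D193139
theorem F388886 : act 1 n193139 = n157628 := d18_6 (iv1 D73277) F52968 F109742 F306902 D101228 D193139 (iv4 D157628) F351597 (iv5 F351598)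
def n193140 : Q := act 6 n101228
theorem D193140 : act 6 n101228 = n193140 := rfl
theorem F388887 : act 2 n193140 = n101346 := d3_1 D193140 (iv6 D101346) (iv2 F308448)
theorem F388888 : act 5 n193140 = n154149 := d12_1 D193140 (iv6 D154149) (iv5 D73019) F306905 D101228
theorem F388889 : act 0 n101388 = n193140 := d21_4 F291143 (iv1 F134881) (iv5 F291815) D101388 (iv6 D193140) (iv5 D101228) (iv1 D47141) D47142 F74393 D47148
def n193141 : Q := act 0 n101232
theorem D193141 : act 0 n101232 = n193141 := rfl
theorem F388890 : act 4 n193141 = n153312 := d18_3 F305548 D101232 D193141 F240870 F108943 F205751 F108928 (iv0 D72410) D72412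
theorem F388891 : act 1 n101365 = n193141 := d15_0 (iv0 D193141) (iv7 F360586) (iv2 F308453)
theorem F388892 : act 5 n193141 = n142040 := d18_9 (iv1 F361964) F246307 (iv1 F321303) (iv4 F350158) F338944 (iv4 D153292) (iv0 F306612) (iv4 F156127) F388891
theorem F388893 : act 2 n101361 = n193141 := d1_3 F388890 F242669 (iv4 F366816)
theorem F388894 : act 7 n101362 = n193141 := d11_0 F388890 (iv7 D153312) (iv4 F309585)
def n193142 : Q := act 1 n101232
theorem D193142 : act 1 n101232 = n193142 := rfl
theorem F388895 : act 1 n193142 = n101365 := d15_1 D193142 (iv7 D101365) (iv2 F155945)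
theorem F388896 : act 7 n193142 = n101361 := d15_2 (iv0 D193141) D193142 F388893
theorem F388897 : act 4 n193142 = n153180 := d18_7 F308288 (iv4 D86617) (iv1 D40151) (iv4 F35250) D47142 D101232 D193142 (iv0 F241823) (iv5 D153886)
theorem F388898 : act 5 n193142 = n142041 := d18_9 (iv1 D142041) F102555 F327174 (iv4 F182405) F359318 F248368 (iv0 F304947) D101232 D193142
theorem F388899 : act 2 n101362 = n193142 := d1_3 F388897 F240479 (iv4 F309585)
def n193143 : Q := act 3 n101232
theorem D193143 : act 3 n101232 = n193143 := rfl
theorem F388900 : act 4 n193143 = n128017 := d5_2 D101232 D193143 (iv3 F251004) F339127 F153314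
theorem F388901 : act 6 n193143 = n101253 := d7_2 (iv6 F155946) D193143 (iv3 D101253)
theorem F388902 : act 7 n193143 = n128045 := d8_2 F360586 D193143 (iv3 F360584)
theorem F388903 : act 5 n101232 = n193143 := d13_3 F388902 (iv5 F248361) F360586
theorem F388904 : act 2 n193143 = n101364 := d15_3 (iv0 F366553) (iv0 F360583) (iv7 F388902)
theorem F388905 : act 1 n193143 = n154695 := d17_8 (iv1 F231696) F231693 F209848 F166664 (iv4 F346604) (iv5 F388892) (iv0 D193141) F388903 (iv4 D154695)
theorem F388906 : act 0 n193143 = n154698 := d18_0 (iv4 D154698) (iv1 D73361) (iv4 F110059) D154692 F242858 F241824 (iv4 F388890) (iv0 D193141) F388903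
def n193144 : Q := act 0 n101236
theorem D193144 : act 0 n101236 = n193144 := rfl
theorem F388907 : act 5 n193144 = n187050 := d17_3 (iv1 F289582) D101236 D193144 F368924 (iv5 F290112) (iv0 D102377) (iv5 D47502) F289618 F73698
theorem F388908 : act 4 n193144 = n102451 := d18_1 D193144 (iv1 F385962) (iv4 D192198) (iv5 D99845) F73663 F74674 F289630 F289610 D101236
theorem F388909 : act 2 n101407 = n193144 := d15_3 (iv0 D193144) F356397 (iv7 F356194)
theorem F388910 : act 1 n101404 = n193144 := d15_0 (iv0 D193144) F155960 (iv2 F156244)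
theorem F388911 : act 7 n193144 = n101406 := d15_2 (iv0 F356394) F388910 F356221
def n193145 : Q := act 4 n101236
theorem D193145 : act 4 n101236 = n193145 := rfl
theorem F388912 : act 7 n193145 = n101408 := d11_2 (iv7 F155960) D193145 (iv4 D101408)
theorem F388913 : act 0 n193145 = n192200 := d18_2 (iv1 F356397) D193145 (iv4 D192200) (iv5 F290002) F335668 (iv0 D89520) (iv4 F137168) (iv0 F331234) (iv5 D176191)
theorem F388914 : act 1 n193145 = n192199 := d18_6 F289715 (iv4 F60091) (iv1 F289723) (iv4 F74400) D101236 D193145 (iv4 D192199) (iv0 D99847) (iv5 D46632)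
def n193146 : Q := act 6 n101236
theorem D193146 : act 6 n101236 = n193146 := rfl
theorem F388915 : act 3 n193146 = n101239 := d7_1 D193146 (iv6 D101239) (iv3 F155959)
theorem F388916 : act 5 n193146 = n134427 := d12_1 D193146 (iv6 F356372) (iv5 F140523) F140524 D101236
def n193147 : Q := act 7 n101239
theorem D193147 : act 7 n101239 = n193147 := rfl
theorem F388917 : act 2 n193147 = n101397 := d4_1 D193147 (iv7 D101397) (iv2 F155967)
theorem F388918 : act 5 n193147 = n186847 := d13_1 D193147 (iv7 D186847) (iv5 F155968)
theorem F388919 : act 6 n193147 = n101417 := d14_1 D193147 (iv7 D101417) (iv6 D47200) (iv7 F74403) D101239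
theorem F388920 : act 1 n101395 = n193147 := d15_1 D101395 (iv7 D193147) F155967
theorem F388921 : act 1 n193147 = n101394 := d15_1 F388920 F357288 (iv2 F357282)
theorem F388922 : act 0 n154219 = n157586 := d21_4 F368224 (iv1 F168764) F329918 D154219 (iv6 D157586) (iv5 F357287) (iv1 F388921) F388918 F368251 (iv1 F368222)
def n193148 : Q := act 4 n101242
theorem D193148 : act 4 n101242 = n193148 := rfl
theorem F388923 : act 6 n193148 = n107329 := d10_2 (iv6 F345452) D193148 (iv4 F336133)
theorem F388924 : act 7 n193148 = n101379 := d11_2 (iv7 F155976) D193148 (iv4 D101379)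
theorem F388925 : act 0 n193148 = n192187 := d18_2 (iv1 F365615) D193148 (iv4 D192187) F153703 (iv4 F143482) (iv0 F144899) (iv4 F145058) (iv0 F372947) F368134
theorem F388926 : act 3 n107345 = n193148 := d7_3 F388923 F165388 D107345
def n193149 : Q := act 3 n101243
theorem D193149 : act 3 n101243 = n193149 := rfl
theorem F388927 : act 4 n193149 = n107345 := d5_2 D101243 D193149 F388926 (iv4 D193148) F155975
theorem F388928 : act 5 n193149 = n190311 := d6_2 (iv5 F292272) D193149 F379347
theorem F388929 : act 6 n193149 = n107335 := d7_2 F357298 D193149 F336131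
theorem F388930 : act 7 n193149 = n101391 := d8_2 (iv7 F155978) D193149 (iv3 D101391)
theorem F388931 : act 5 n192774 = n107345 := d19_1 (iv1 F387716) (iv4 F388927) (iv3 D193149) (iv1 F159845) (iv5 F360811) (iv4 D95683) (iv3 F147373) D190173 F380414 F380411 (iv3 D102000) (iv1 D47377) D47378 D102006 F357121 (iv1 D121355) F88598 (iv4 F339964) (iv3 F384986)
theorem F388932 : act 0 n141910 = n193149 := d20_4 (iv4 D153610) (iv1 F322140) F322347 D141910 (iv3 D193149) (iv4 D101243) F292814 (iv4 F369853) F369852 F319305
theorem F388933 : act 0 n111046 = n107345 := d20_7 (iv4 D104244) (iv1 D48239) D48240 D104246 F360797 D141843 F224887 (iv4 F388927) (iv3 D193149) (iv1 F159845)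
theorem F388934 : act 1 n111046 = n107359 := d15_1 (iv0 F388933) (iv7 D107359) (iv2 F165399)
theorem E103535 : n192718 = n107358 := ((c2_3 F388931 F165399 D107358 (iv2 F387715))).symm
theorem F388935 : act 1 n107358 = n100556 := (sb E103535 (iv0 D192718))
theorem F388936 : act 2 n107358 = n192774 := (sb E103535 (iv2 F387715))
theorem F388937 : act 4 n107358 = n104014 := (sb E103535 F387596)
theorem F388938 : act 7 n107358 = n192777 := (sb E103535 (iv7 F387722))
theorem F388939 : act 5 n192777 = n107359 := d13_1 F388938 (iv7 D107359) D107358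
theorem F388940 : act 5 n190126 = n107353 := d16_5 (iv4 F387718) (iv5 F307497) F147346 D95651 D190126 F165412 D107358 F388938 F387720
theorem F388941 : act 2 n107353 = n193149 := d2_1 F388940 F388928 F379346
theorem F388942 : act 6 n107352 = n190135 := d12_4 (iv6 F378938) F388940 (iv6 D107353) D107352 (iv5 D190135)
theorem F388943 : act 0 n187571 = n190135 := d21_4 (iv5 F139064) F293979 F362670 D187571 (iv6 F388942) (iv5 D107352) (iv1 F165390) (iv5 F370788) (iv6 D187553) (iv1 F138948)
def n193150 : Q := act 4 n101245
theorem D193150 : act 4 n101245 = n193150 := rfl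
theorem F388944 : act 2 n193150 = n192279 := d1_1 D193150 F386275 (iv2 F386033)
theorem F388945 : act 7 n193150 = n101432 := d11_2 (iv7 F155981) D193150 (iv4 D101432)
theorem F388946 : act 0 n193150 = n152326 := d18_2 (iv1 F343853) D193150 (iv4 F357231) (iv5 D99843) F289773 F289823 (iv4 F74400) F289582 D88033
theorem F388947 : act 1 n193150 = n124357 := d18_6 F335697 F295314 (iv1 F335647) (iv4 F343856) (iv5 F343854) D193150 (iv4 D124357) D124356 (iv5 F335699)
def n193151 : Q := act 6 n101245
theorem D193151 : act 6 n101245 = n193151 := rfl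
theorem F388948 : act 3 n193151 = n101247 := d7_1 D193151 (iv6 D101247) D101245
theorem F388949 : act 5 n193151 = n188374 := d12_1 D193151 (iv6 D188374) F292868 D103959 (iv5 F343854)
theorem F388950 : act 0 n136386 = n193151 := d21_4 F342821 (iv1 D65380) D65381 (iv6 F356114) (iv6 D193151) F343854 F356406 F356407 F356408 F342824
theorem F388951 : act 4 n193151 = n178661 := d18_1 F388950 (iv1 D178661) F316199 F337455 F173439 F172806 (iv4 F362240) (iv0 D139296) (iv5 F356113)
theorem F388952 : act 6 n178661 = n193150 := d10_2 D193151 F388951 (iv4 D193150)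
theorem F388953 : act 5 n178661 = n156023 := d16_5 F168622 D115784 (iv4 F373202) (iv5 F388949) F388951 F245625 (iv5 F350391) (iv7 D109199) (iv2 F168621)
theorem F388954 : act 0 n101247 = n192143 := d20_10 F385738 (iv1 D134835) (iv4 F214690) (iv3 D133502) (iv1 F97752) D132186 (iv4 F218267) (iv1 F366515) (iv4 F388951) F388948
def n193152 : Q := act 3 n101246
theorem D193152 : act 3 n101246 = n193152 := rfl
theorem F388955 : act 7 n193152 = n101434 := d8_2 (iv7 F155983) D193152 (iv3 D101434)
theorem F388956 : act 0 n193152 = n156334 := d20_4 (iv4 D47150) D47148 D101246 D193152 (iv3 D156334) F167652 (iv1 F171776) (iv4 F223635) (iv3 F352706) (iv1 D101252)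
theorem F388957 : act 6 n156307 = n193152 := d14_5 F388955 F377745 (iv7 D140420) (iv6 F169165) (iv7 F350390)
def n193153 : Q := act 6 n101246
theorem D193153 : act 6 n101246 = n193153 := rfl
theorem F388958 : act 2 n193153 = n101425 := d3_1 D193153 (iv6 D101425) (iv2 F155982)
theorem F388959 : act 3 n193153 = n156307 := d7_1 D193153 F388957 (iv3 D193152)
theorem F388960 : act 4 n193153 = n101247 := d10_1 D193153 (iv6 D101247) D101246
def n193154 : Q := act 1 n101247
theorem D193154 : act 1 n101247 = n193154 := rfl
theorem F388961 : act 1 n193154 = n101428 := d15_1 D193154 (iv7 D101428) (iv2 F155984)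
theorem F388962 : act 7 n193154 = n101426 := d15_2 (iv0 F388954) D193154 (iv2 F385736)
theorem F388963 : act 3 n156379 = n193154 := d19_19 (iv1 D193154) F155985 (iv4 F373206) F373205 (iv1 D124881) (iv5 D58381) (iv4 D27789) F22056 D13273 D27815 F301189 (iv3 D17671) (iv1 F13136) F12789 F30050 D18741 D39584 (iv5 F309913) D156379
theorem F388964 : act 4 n134834 = n193154 := d20_0 (iv1 D193154) (iv4 F388960) F388959 (iv1 D156307) (iv3 D74349) F53516 (iv1 F48116) D29938 D63362 D134834
theorem F388965 : act 2 n193154 = n101427 := d0_1 F388963 F385740 (iv2 F329282) F352814 (iv2 F312143)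
theorem F388966 : act 1 n101428 = n192143 := d15_1 F388961 (iv7 F385741) (iv2 F388965)
def n193155 : Q := act 7 n101247
theorem D193155 : act 7 n101247 = n193155 := rfl
theorem F388967 : act 2 n193155 = n101428 := d4_1 D193155 (iv7 D101428) (iv2 F155984)
theorem F388968 : act 5 n193155 = n188377 := d13_1 D193155 (iv7 D188377) (iv5 F155985)
theorem F388969 : act 6 n193155 = n101439 := d14_1 D193155 (iv7 D101439) (iv6 D47206) (iv7 F74415) D101247
theorem F388970 : act 1 n101427 = n193155 := d15_1 D101427 (iv7 D193155) F155984
theorem F388971 : act 1 n193155 = n101426 := d15_1 F388970 (iv7 F388962) F388965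
def n193156 : Q := act 4 n101248
theorem D193156 : act 4 n101248 = n193156 := rfl
theorem F388972 : act 7 n193156 = n101420 := d11_2 (iv7 F155987) D193156 (iv4 D101420)
theorem F388973 : act 0 n193156 = n187715 := d18_2 (iv1 F388769) D193156 (iv4 D187715) (iv5 D90488) F65393 (iv0 F66848) (iv4 F74405) (iv0 F290167) (iv5 F388768)
def n193157 : Q := act 6 n101248
theorem D193157 : act 6 n101248 = n193157 := rfl
theorem F388974 : act 3 n193157 = n101250 := d7_1 D193157 (iv6 D101250) D101248
theorem F388975 : act 5 n193157 = n182156 := d12_1 D193157 (iv6 D182156) (iv5 D86978) D86979 (iv5 F155986)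
theorem F388976 : act 0 n193157 = n135955 := d21_4 (iv5 F283609) (iv1 D182158) (iv5 F155986) D193157 (iv6 D135955) (iv5 F100519) (iv1 F336141) F336142 D137325 (iv1 F362211)
def n193158 : Q := act 3 n101249
theorem D193158 : act 3 n101249 = n193158 := rfl
theorem F388977 : act 7 n193158 = n101423 := d8_2 (iv7 F155989) D193158 (iv3 D101423)
theorem F388978 : act 0 n153617 = n193158 := d20_4 (iv4 D153616) (iv1 D72640) D72641 D153617 (iv3 D193158) (iv4 D101249) (iv1 D47149) D47150 D101253 F352707
def n193159 : Q := act 6 n101249
theorem D193159 : act 6 n101249 = n193159 := rfl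
theorem F388979 : act 2 n193159 = n101436 := d3_1 D193159 (iv6 D101436) (iv2 F155988)
theorem F388980 : act 4 n193159 = n101250 := d10_1 D193159 (iv6 D101250) D101249
def n193160 : Q := act 0 n101250
theorem D193160 : act 0 n101250 = n193160 := rfl
theorem F388981 : act 6 n193160 = n137126 := d21_5 F291815 (iv1 F291767) (iv5 F74411) D101250 D193160 (iv5 F225943) F345760 F294262 (iv6 D47200) (iv1 F74473)
theorem F388982 : act 2 n101437 = n193160 := d3_3 F388981 (iv2 D137126) (iv6 F360829)
theorem F388983 : act 0 n193160 = n101439 := d21_4 F345466 F349683 F225943 (iv6 F388981) (iv6 F388969) F388968 (iv1 F373347) (iv5 F373349) F326613 (iv1 F220510)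
theorem F388984 : act 7 n193160 = n101438 := d4_2 F385787 F388982 (iv2 F385786)
theorem F388985 : act 1 n101250 = n192153 := d15_1 (iv0 D193160) F385787 F388982
theorem F388986 : act 1 n192153 = n101439 := d15_1 F388985 (iv7 D101439) (iv2 F155990)
def n193161 : Q := act 7 n101250
theorem D193161 : act 7 n101250 = n193161 := rfl
theorem F388987 : act 2 n193161 = n101439 := d4_1 D193161 (iv7 D101439) (iv2 F155990)
theorem F388988 : act 5 n193161 = n182170 := d13_1 D193161 (iv7 D182170) (iv5 F155991)
theorem F388989 : act 6 n193161 = n101428 := d14_1 D193161 (iv7 D101428) (iv6 D47203) F74413 D101250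
theorem F388990 : act 1 n101438 = n193161 := d15_1 D101438 (iv7 D193161) F155990
theorem F388991 : act 1 n193161 = n101437 := d15_1 F388990 (iv7 F385787) F385786
def n193162 : Q := act 3 n101251
theorem D193162 : act 3 n101251 = n193162 := rfl
theorem F388992 : act 2 n193162 = n134828 := d0_1 D193162 F216976 (iv2 F352679) (iv3 D101440) F155993
theorem F388993 : act 7 n193162 = n101443 := d8_2 F155994 D193162 (iv3 D101443)
theorem F388994 : act 6 n134827 = n193162 := d3_0 F388992 (iv6 D134828) D134827
def n193163 : Q := act 6 n101251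
theorem D193163 : act 6 n101251 = n193163 := rfl
theorem F388995 : act 2 n193163 = n101442 := d3_1 D193163 (iv6 D101442) F155993
theorem F388996 : act 3 n193163 = n134827 := d7_1 D193163 F388994 (iv3 D193162)
theorem F388997 : act 4 n193163 = n183929 := d10_1 D193163 (iv6 D183929) (iv4 F155992)
theorem F388998 : act 7 n134836 = n193163 := d4_0 F388995 F352693 D134836
theorem F388999 : act 1 n193163 = n134834 := d15_0 (iv0 D134834) (iv7 F352693) (iv2 F388995)
theorem F389000 : act 1 n134835 = n193163 := d15_0 F388999 F245780 (iv2 F385739)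
def n193164 : Q := act 0 n101256
theorem D193164 : act 0 n101256 = n193164 := rfl
theorem F389001 : act 1 n101366 = n193164 := d15_0 (iv0 D193164) F352721 (iv2 F308454)
def n193165 : Q := act 1 n101256
theorem D193165 : act 1 n101256 = n193165 := rfl
theorem F389002 : act 1 n193165 = n101366 := d15_1 D193165 F156130 (iv2 F156009)
def n193166 : Q := act 6 n101257
theorem D193166 : act 6 n101257 = n193166 := rfl
theorem F389003 : act 2 n193166 = n170727 := d3_1 D193166 (iv6 D170727) F156015
theorem F389004 : act 4 n193166 = n186624 := d10_1 D193166 (iv6 D186624) (iv4 F156013)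
theorem F389005 : act 7 n193166 = n172022 := d14_2 (iv7 F156012) D193166 (iv6 D172022) (iv7 F313122) F310883
theorem F389006 : act 0 n193166 = n101316 := d21_4 (iv5 F105081) (iv1 F106736) (iv5 F156014) D193166 F351608 (iv5 F383313) (iv1 F383314) F278246 (iv6 D100041) F73832
theorem F389007 : act 1 n193166 = n124412 := d15_1 (iv0 F389006) F198965 (iv2 F351605)
theorem F389008 : act 0 n160948 = n173245 := d21_1 F364245 (iv5 D173245) (iv6 F302566) (iv1 F389007) (iv6 D193166) F156014 F106735 F105084 D101191 F155902
def n193167 : Q := act 5 n101259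
theorem D193167 : act 5 n101259 = n193167 := rfl
theorem F389009 : act 2 n193167 = n170758 := d2_1 D193167 (iv5 D170758) (iv2 F184641)
theorem F389010 : act 3 n193167 = n149083 := d6_1 D193167 (iv5 D149083) F184637
theorem F389011 : act 7 n193167 = n123092 := d13_2 (iv7 F306328) D193167 (iv5 D123092)
theorem F389012 : act 0 n193167 = n123639 := d17_2 D101259 D193167 (iv5 F303727) F303726 (iv5 F128658) (iv0 F332384) F332367 (iv0 F317286) F156017
theorem F389013 : act 0 n154229 = n193167 := d20_4 D72884 D154021 (iv4 F242089) D154229 F389010 (iv4 F374891) (iv1 F374895) F338555 F242347 (iv1 D72883)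
def n193168 : Q := act 6 n101259
theorem D193168 : act 6 n101259 = n193168 := rfl
theorem F389014 : act 2 n193168 = n123083 := d3_1 D193168 F366858 (iv2 F184641)
theorem F389015 : act 3 n193168 = n101814 := d7_1 D193168 F350961 F184637
theorem F389016 : act 4 n193168 = n128228 := d10_1 D193168 (iv6 D128228) (iv4 F184638)
theorem F389017 : act 7 n193168 = n122556 := d14_2 (iv7 F306328) D193168 (iv6 D122556) F125377 D57283
theorem F389018 : act 1 n123007 = n193168 := d15_1 (iv0 F351768) F389017 F196222
theorem F389019 : act 1 n193168 = n123080 := d15_1 F389018 F351765 (iv2 F197084)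
def n193169 : Q := act 5 n101260
theorem D193169 : act 5 n101260 = n193169 := rfl
theorem F389020 : act 2 n193169 = n123092 := d2_1 D193169 (iv5 D123092) (iv2 F306324)
theorem F389021 : act 6 n193169 = n134022 := d12_2 (iv6 F306326) D193169 F365396 (iv6 F365393) F191892
theorem F389022 : act 7 n193169 = n170758 := d13_2 F184642 D193169 (iv5 D170758)
theorem F389023 : act 0 n123639 = n193169 := d21_1 F303727 (iv5 D193169) F306326 (iv1 F89925) D57285 D123097 (iv1 F351829) (iv5 D184484) D184485 F364881
theorem F389024 : act 1 n154229 = n193169 := d15_1 (iv0 F389013) F389022 (iv2 F389009)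
def n193170 : Q := act 1 n101261
theorem D193170 : act 1 n101261 = n193170 := rfl
theorem F389025 : act 1 n193170 = n123472 := d15_1 D193170 F304189 (iv2 F156020)
theorem F389026 : act 7 n193170 = n170762 := d15_2 (iv0 F362232) D193170 (iv2 F346162)
theorem F389027 : act 5 n171094 = n193170 := d21_6 (iv5 D47065) (iv1 F35164) (iv5 F30970) D37568 D82003 D171094 (iv1 D193170) (iv5 D101261) (iv6 D47153) (iv1 F74317)
theorem F389028 : act 2 n193170 = n170763 := d2_1 F389027 (iv5 F286423) F286421
def n193171 : Q := act 7 n101261
theorem D193171 : act 7 n101261 = n193171 := rfl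
theorem F389029 : act 2 n193171 = n123472 := d4_1 D193171 F304189 (iv2 F156020)
theorem F389030 : act 3 n193171 = n101275 := d8_1 D193171 (iv7 D101275) (iv3 F156021)
theorem F389031 : act 5 n193171 = n101262 := d13_1 D193171 (iv7 D101262) D101261
theorem F389032 : act 6 n193171 = n134772 := d14_1 D193171 F216855 F328516 F294199 (iv6 F156022)
theorem F389033 : act 1 n170763 = n193171 := d15_1 D170763 (iv7 D193171) F156020
theorem F389034 : act 1 n193171 = n170762 := d15_1 F389033 (iv7 F389026) F389028
theorem E103536 : n135031 = n134946 := (c21_1 D135031 (iv1 D134946) (iv5 D63422) D63423 D134949 F374826 (iv5 D170758) (iv1 F156028) (iv5 F389031) F389032 (iv1 F216857))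
theorem F389035 : act 4 n134946 = n154775 := (sb E103536 F374337)
theorem F389036 : act 5 n134946 = n63463 := (sb E103536 (iv5 D135031))
theorem F389037 : act 6 n134946 = n154774 := (sb E103536 (iv6 F374336))
def n193172 : Q := act 4 n101266
theorem D193172 : act 4 n101266 = n193172 := rfl
theorem F389038 : act 2 n193172 = n154236 := d1_1 D193172 F242344 (iv2 F306911)
theorem F389039 : act 7 n193172 = n123679 := d11_2 (iv7 F306912) D193172 (iv4 D123679)
theorem F389040 : act 0 n193172 = n154233 := d18_2 (iv1 F306910) D193172 F242338 (iv5 F240981) (iv4 F310505) (iv0 F339620) F309280 F308316 F242088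
theorem F389041 : act 1 n193172 = n154232 := d18_6 F306401 (iv4 F74436) F305993 (iv4 F304950) D101266 D193172 F242342 (iv0 D124723) (iv5 D58295)
def n193173 : Q := act 6 n101266
theorem D193173 : act 6 n101266 = n193173 := rfl
theorem F389042 : act 2 n193173 = n154237 := d3_1 D193173 (iv6 D154237) (iv2 F306911)
theorem F389043 : act 3 n193173 = n137909 := d7_1 D193173 (iv6 F385394) F385392
theorem F389044 : act 5 n193173 = n154294 := d12_1 D193173 (iv6 D154294) F109606 F306452 D101266
theorem F389045 : act 7 n193173 = n134127 := d14_2 (iv7 F306912) D193173 (iv6 D134127) (iv7 F336389) F198099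
theorem F389046 : act 0 n193173 = n189184 := d21_10 (iv5 D189184) (iv1 D93354) F294771 (iv6 D40482) (iv1 F294300) (iv6 F74429) (iv5 D47156) D47154 D101266 D193173
theorem F389047 : act 1 n193173 = n189182 := d15_1 (iv0 F389046) F375982 (iv2 F375991)
def n193174 : Q := act 4 n101272
theorem D193174 : act 4 n101272 = n193174 := rfl
theorem F389048 : act 2 n193174 = n183459 := d1_1 D193174 F285210 (iv2 F156043)
theorem F389049 : act 6 n193174 = n113514 := d10_2 F349688 D193174 F352471
theorem F389050 : act 7 n193174 = n183460 := d11_2 (iv7 F156042) D193174 F285211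
theorem F389051 : act 0 n193174 = n183463 := d18_2 D101272 D193174 F285213 F134452 F305067 (iv0 F190086) (iv4 F304950) (iv0 D47154) D47156
theorem F389052 : act 1 n193174 = n157808 := d18_6 F308499 (iv4 F241536) (iv1 F241538) F236812 (iv5 F306915) D193174 F295106 D181992 (iv5 F283313)
theorem F389053 : act 3 n193174 = n113517 := d20_3 (iv4 D101274) D101272 D193174 F352572 (iv3 F362108) (iv4 D113903) (iv1 F161548) (iv4 F203067) F345934 F285209
def n193175 : Q := act 4 n101273
theorem D193175 : act 4 n101273 = n193175 := rfl
theorem F389054 : act 2 n193175 = n183460 := d1_1 D193175 F285211 (iv2 F156034)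
theorem F389055 : act 7 n193175 = n183459 := d11_2 F156044 D193175 F285210
theorem F389056 : act 0 n193175 = n157808 := d18_2 (iv1 F328259) D193175 F295106 (iv5 D86922) (iv4 F74436) F305994 F52931 F190753 F328265
theorem F389057 : act 1 n193175 = n183463 := d18_6 (iv1 F242041) (iv4 F312649) (iv1 F339627) (iv4 F339632) F156033 D193175 F285213 (iv0 F339700) F345931
theorem F389058 : act 6 n191674 = n193175 := d3_0 F389054 F336401 D191674
theorem F389059 : act 5 n191689 = n190538 := d21_0 (iv1 F380131) (iv5 F384103) F389058 F389056 (iv6 D157808) F112733 F57005 D48513 (iv6 F332740) D191689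
def n193176 : Q := act 6 n101273
theorem D193176 : act 6 n101273 = n193176 := rfl
theorem F389060 : act 2 n193176 = n184749 := d3_1 D193176 (iv6 D184749) (iv2 F156034)
theorem F389061 : act 3 n193176 = n101532 := d7_1 D193176 (iv6 D101532) (iv3 F156035)
theorem F389062 : act 4 n193176 = n191674 := d10_1 D193176 F389058 (iv4 D193175)
theorem F389063 : act 5 n193176 = n123763 := d12_1 D193176 (iv6 D123763) F302082 D99882 F156033
def n193177 : Q := act 7 n101274
theorem D193177 : act 7 n101274 = n193177 := rfl
theorem F389064 : act 2 n193177 = n106616 := d4_1 D193177 F328264 (iv2 F156036)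
theorem F389065 : act 3 n193177 = n106804 := d8_1 D193177 (iv7 F207093) (iv3 F339641)
theorem F389066 : act 4 n193177 = n101275 := d11_1 D193177 (iv7 D101275) D101274
theorem F389067 : act 5 n193177 = n106800 := d13_1 D193177 (iv7 F207092) F339640
theorem F389068 : act 6 n193177 = n106614 := d14_1 D193177 F164213 F328938 F132077 (iv6 F295126)
theorem F389069 : act 1 n184751 = n193177 := d15_1 D184751 (iv7 D193177) F156036
theorem F389070 : act 1 n193177 = n126288 := d15_1 F389069 (iv7 F345933) (iv2 F362139)
def n193178 : Q := act 5 n101313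
theorem D193178 : act 5 n101313 = n193178 := rfl
theorem F389071 : act 3 n193178 = n101799 := d6_1 D193178 (iv5 D101799) (iv3 F351742)
theorem F389072 : act 7 n193178 = n170755 := d13_2 (iv7 F351745) D193178 (iv5 D170755)
theorem F389073 : act 1 n193178 = n101352 := d17_6 (iv1 D63661) F48261 D63278 D134678 (iv4 F351743) D193178 F366847 (iv0 F331997) (iv4 D135433)
theorem F389074 : act 0 n193178 = n160272 := d21_7 (iv5 F115309) (iv1 F90369) (iv5 D33568) D33569 D72759 (iv6 F351744) D193178 (iv5 D160272) (iv6 D76810) D76808
theorem F389075 : act 6 n135982 = n193178 := d14_5 F389072 F268344 (iv7 F290181) F328172 (iv7 F218761)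
def n193179 : Q := act 0 n101316
theorem D193179 : act 0 n101316 = n193179 := rfl
theorem F389076 : act 5 n193179 = n130381 := d17_1 D193179 F330221 (iv5 D157987) (iv4 F115320) D160272 (iv0 F389074) (iv5 D193178) (iv0 D101313) D101316
theorem F389077 : act 4 n193179 = n186627 := d20_2 D101316 D193179 F367485 (iv1 F136509) D98497 F351771 (iv1 F197565) (iv4 F242113) F242112 F351628
theorem F389078 : act 3 n193179 = n130383 := d20_5 F188552 (iv1 F308428) F308430 (iv3 F351606) D193179 (iv4 F334230) F332032 (iv4 F332029) F332047 (iv1 F332050)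
theorem F389079 : act 2 n172022 = n193179 := d15_3 (iv0 D193179) (iv0 F389006) F389005
theorem F389080 : act 1 n124412 = n193179 := d15_0 (iv0 D193179) F351609 (iv2 F335270)
theorem F389081 : act 7 n193179 = n170727 := d15_2 F389007 F389080 (iv2 F389003)
theorem F389082 : act 6 n119281 = n193179 := d14_5 F389081 (iv6 D170727) F125805 F315047 (iv7 F313120)
def n193180 : Q := act 4 n101317
theorem D193180 : act 4 n101317 = n193180 := rfl
theorem F389083 : act 2 n193180 = n160395 := d1_1 D193180 (iv4 F351463) F351617
theorem F389084 : act 5 n193180 = n160394 := d16_1 D193180 F253340 F319515 D173927 F335273 F198964 D124424 F351612 F351617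
theorem F389085 : act 3 n107388 = n193180 := d20_5 (iv4 D49617) (iv1 D24197) (iv4 F37910) (iv3 F78347) D107388 (iv4 D193180) F351804 F219578 F172314 (iv1 F165547)
def n193181 : Q := act 6 n101317
theorem D193181 : act 6 n101317 = n193181 := rfl
theorem F389086 : act 3 n193181 = n101329 := d7_1 D193181 (iv6 D101329) (iv3 F156098)
def n193182 : Q := act 0 n101318
theorem D193182 : act 0 n101318 = n193182 := rfl
theorem F389087 : act 4 n193182 = n135322 := d20_2 F351630 D193182 (iv3 F348588) (iv1 F344678) F258116 (iv4 F344124) (iv1 F344136) (iv4 F351639) F351638 F351634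
theorem F389088 : act 3 n193182 = n101549 := d20_5 F199661 F190865 F308438 (iv3 F156099) D193182 (iv4 F200479) (iv1 F242147) (iv4 F306504) F361460 (iv1 F240995)
theorem F389089 : act 6 n101546 = n193182 := d7_0 F389088 (iv6 D101549) D101546
theorem F389090 : act 7 n123114 = n193182 := d8_0 F389088 (iv7 F385527) (iv3 F385528)
theorem F389091 : act 0 n193182 = n123304 := d20_4 (iv4 F190951) F242144 F200479 (iv3 F389088) F197593 F90582 F44549 (iv4 F44517) (iv3 F91143) (iv1 F306501)
theorem F389092 : act 2 n193182 = n135365 := d15_3 F357880 (iv0 F357864) F389090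
def n193183 : Q := act 1 n101318
theorem D193183 : act 1 n101318 = n193183 := rfl
theorem F389093 : act 1 n193183 = n123304 := d15_1 D193183 F304676 (iv2 F351629)
theorem F389094 : act 7 n193183 = n135365 := d15_2 (iv0 D193182) D193183 (iv2 F389092)
theorem F389095 : act 4 n135369 = n193183 := d20_0 (iv1 D193183) (iv4 F351630) (iv3 F274058) (iv1 F274060) (iv3 F274389) (iv4 F348582) (iv1 F348587) (iv4 D180290) (iv3 F201629) (iv1 F348592)
theorem F389096 : act 6 n123096 = n193183 := d21_3 D82005 D171098 F357859 (iv1 D193183) (iv6 D101318) D101317 F351804 (iv5 F351818) F351819 (iv1 D82004)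
theorem F389097 : act 2 n193183 = n123114 := d3_1 F389096 (iv6 D123114) (iv2 F281970)
def n193184 : Q := act 5 n101318
theorem D193184 : act 5 n101318 = n193184 := rfl
theorem F389098 : act 2 n193184 = n179881 := d2_1 D193184 (iv5 D179881) (iv2 F351629)
theorem F389099 : act 3 n193184 = n101333 := d6_1 D193184 (iv5 D101333) (iv3 F156099)
theorem F389100 : act 0 n193184 = n171090 := d17_2 (iv1 D193183) D193184 (iv5 D171090) (iv4 F236443) (iv5 F341200) (iv0 D125273) (iv5 F184558) F348591 F389095
theorem F389101 : act 7 n182128 = n193184 := d8_0 F389099 F308319 D182128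
def n193185 : Q := act 7 n101318
theorem D193185 : act 7 n101318 = n193185 := rfl
theorem F389102 : act 2 n193185 = n123304 := d4_1 D193185 F304676 (iv2 F351629)
theorem F389103 : act 3 n193185 = n101334 := d8_1 D193185 (iv7 D101334) (iv3 F156099)
theorem F389104 : act 4 n193185 = n173402 := d11_1 D193185 F333748 F351630
theorem F389105 : act 5 n193185 = n182128 := d13_1 D193185 F389101 (iv5 D193184)
theorem F389106 : act 6 n193185 = n123080 := d14_1 D193185 F351765 (iv6 F306901) F308447 D101318
theorem F389107 : act 1 n123114 = n193185 := d15_1 (iv0 F357864) (iv7 D193185) F351629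
theorem F389108 : act 1 n193185 = n135365 := d15_1 F389107 (iv7 F389094) F389097
theorem F389109 : act 0 n184476 = n182128 := d21_1 D184476 (iv5 F389105) F389106 (iv1 F389019) (iv6 D193168) D193167 F389012 (iv5 F303727) (iv6 D122461) (iv1 F195921)
def n193186 : Q := act 5 n101322
theorem D193186 : act 5 n101322 = n193186 := rfl
theorem F389110 : act 2 n193186 = n119583 := d2_1 D193186 (iv5 D119583) (iv2 F308429)
theorem F389111 : act 3 n193186 = n101323 := d6_1 D193186 (iv5 D101323) D101322
theorem F389112 : act 6 n193186 = n120139 := d12_2 (iv6 F308431) D193186 F348141 (iv6 F348139) F187036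
theorem F389113 : act 7 n193186 = n119401 := d13_2 (iv7 F308432) D193186 (iv5 D119401)
theorem F389114 : act 4 n193186 = n135453 := d16_2 (iv4 F308430) D193186 (iv5 D135453) F314063 D119118 F335247 (iv5 D155190) F188491 F302561
theorem F389115 : act 0 n193186 = n119115 := d17_2 (iv1 F308428) D193186 (iv5 D119115) D119114 F311320 F332066 D173801 (iv0 F344892) F188552
theorem F389116 : act 0 n119118 = n193186 := d21_10 (iv5 D193186) F308427 F87501 F306212 (iv1 F125525) F324850 (iv5 D69507) (iv1 F105805) (iv5 F317225) F187415
def n193187 : Q := act 4 n101327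
theorem D193187 : act 4 n101327 = n193187 := rfl
theorem F389117 : act 2 n193187 = n137686 := d1_1 D193187 F339063 (iv2 F307563)
theorem F389118 : act 5 n193187 = n156609 := d9_2 (iv5 F307564) D193187 F246307 D156612 F344024 (iv5 D148951) F108928 (iv5 F304670) (iv4 F351572) (iv5 D142042) F102555 D66617 (iv4 F324798) F210341 F205747
theorem F389119 : act 6 n193187 = n106894 := d10_2 (iv6 F345441) D193187 (iv4 F218893)
theorem F389120 : act 7 n193187 = n157596 := d11_2 (iv7 F307565) D193187 (iv4 D157596)
theorem F389121 : act 0 n193187 = n138207 := d18_2 (iv1 F156107) D193187 (iv4 D138207) (iv5 F351598) F310333 (iv0 D47165) F35278 D22695 D47177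
def n193188 : Q := act 3 n101328
theorem D193188 : act 3 n101328 = n193188 := rfl
theorem F389122 : act 4 n193188 = n107388 := d5_2 D101328 D193188 F389085 (iv4 D193180) F156098
def n193189 : Q := act 6 n101328
theorem D193189 : act 6 n101328 = n193189 := rfl
theorem F389123 : act 4 n193189 = n101329 := d10_1 D193189 (iv6 D101329) D101328
def n193190 : Q := act 0 n101329
theorem D193190 : act 0 n101329 = n193190 := rfl
theorem F389124 : act 6 n193190 = n101394 := d21_5 (iv5 D22696) D22694 D47172 D101329 D193190 F357287 (iv1 D75016) D75017 F112550 (iv1 F305552)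
theorem F389125 : act 5 n193190 = n187054 := d21_0 (iv1 D187054) F137174 (iv6 D47206) (iv1 D22708) (iv6 F35280) (iv5 D22696) D22694 D47172 D101329 D193190
theorem F389126 : act 3 n166054 = n193190 := d7_3 F389124 F357286 F335439
theorem F389127 : act 4 n193190 = n166067 := d5_2 D166054 F389126 (iv3 D166067) (iv4 D79729) (iv3 F122419)
def n193191 : Q := act 1 n101329
theorem D193191 : act 1 n101329 = n193191 := rfl
def n193192 : Q := act 5 n101329
theorem D193192 : act 5 n101329 = n193192 := rfl
theorem F389128 : act 2 n193192 = n182135 := d2_1 D193192 (iv5 F388882) F388880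
theorem F389129 : act 6 n193192 = n101333 := d12_2 D101329 D193192 (iv5 D101333) (iv6 D47173) D47172
theorem F389130 : act 5 n187053 = n193191 := d21_0 (iv1 D193191) D193192 F389129 F156112 F133335 (iv5 D40319) F31424 D41784 D89492 D187053
theorem F389131 : act 3 n193191 = n101781 := d6_1 F389130 (iv5 F157085) F368939
def n193193 : Q := act 7 n101329
theorem D193193 : act 7 n101329 = n193193 := rfl
def n193194 : Q := act 4 n101333
theorem D193194 : act 4 n101333 = n193194 := rfl
theorem F389132 : act 2 n193194 = n153675 := d1_1 D193194 F308321 (iv2 F308318)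
theorem F389133 : act 7 n193194 = n153676 := d11_2 (iv7 F308319) D193194 F345161
theorem F389134 : act 0 n193194 = n153679 := d17_0 F373372 (iv1 D188413) F140500 (iv4 F337952) (iv5 D118937) (iv0 F304636) D86906 (iv0 F156112) D193194
theorem F389135 : act 1 n193194 = n153424 := d18_6 (iv1 F240995) F199661 F190865 F308438 D101333 D193194 (iv4 D153424) D153423 (iv5 F240991)
def n193195 : Q := act 4 n101340
theorem D193195 : act 4 n101340 = n193195 := rfl
theorem F389136 : act 2 n193195 = n124426 := d1_1 D193195 (iv4 D124426) (iv2 F310314)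
theorem F389137 : act 7 n193195 = n124401 := d11_2 (iv7 F310315) D193195 (iv4 D124401)
theorem F389138 : act 1 n193195 = n156027 := d18_6 F56182 F44603 F298943 F310311 D101340 D193195 F324311 (iv0 F117152) (iv5 D77786)
def n193196 : Q := act 6 n101340
theorem D193196 : act 6 n101340 = n193196 := rfl
theorem F389139 : act 2 n193196 = n124427 := d3_1 D193196 (iv6 D124427) (iv2 F310314)
theorem F389140 : act 3 n193196 = n101346 := d7_1 D193196 (iv6 D101346) (iv3 F156115)
theorem F389141 : act 5 n193196 = n111197 := d12_1 D193196 F342825 (iv5 D57420) F310317 D101340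
theorem F389142 : act 7 n139301 = n193196 := d13_0 F389141 (iv7 F172445) D139301
theorem F389143 : act 0 n175724 = n193196 := d19_0 F389141 F172442 (iv3 D59629) (iv1 D28296) F22653 (iv4 F45803) F316306 (iv1 F119612) F119614 (iv4 D55829) (iv3 F323442) (iv1 D30934) (iv5 F323450) D35385 F309518 (iv1 D38629) D38630 D83886 D175724
def n193197 : Q := act 6 n101345
theorem D193197 : act 6 n101345 = n193197 := rfl
theorem F389144 : act 4 n193197 = n101346 := d10_1 D193197 (iv6 D101346) D101345
def n193198 : Q := act 0 n101346
theorem D193198 : act 0 n101346 = n193198 := rfl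
theorem F389145 : act 6 n193198 = n189596 := d21_5 F305553 (iv1 F74398) D47177 D101346 D193198 F377057 (iv1 F377020) (iv5 F377022) (iv6 D101355) F306615
theorem F389146 : act 3 n101831 = n193198 := d7_3 F389145 F377056 F375878
theorem F389147 : act 5 n184687 = n193198 := d12_5 F389145 F377057 (iv6 F295360) (iv5 F375597) F375598
theorem F389148 : act 7 n101388 = n193198 := d14_0 F389145 (iv7 D189596) F145056 (iv7 F74474) D101388
def n193199 : Q := act 5 n101346
theorem D193199 : act 5 n101346 = n193199 := rfl
theorem F389149 : act 2 n193199 = n154149 := d2_1 D193199 (iv5 F388888) F388887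
theorem F389150 : act 3 n193199 = n111197 := d6_1 D193199 (iv5 F389141) F389140
theorem F389151 : act 6 n193199 = n101349 := d12_2 D101346 D193199 (iv5 D101349) (iv6 D47178) D47177
theorem F389152 : act 4 n193199 = n127076 := d17_4 (iv1 D193133) (iv5 F381527) F381528 D193199 F360764 (iv0 D121062) F313860 (iv0 F333974) (iv4 F388861)
theorem F389153 : act 7 n139300 = n193199 := d11_0 F389152 F360765 F345791
def n193200 : Q := act 7 n101346
theorem D193200 : act 7 n101346 = n193200 := rfl
theorem F389154 : act 3 n193200 = n139301 := d8_1 D193200 F389142 F389140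
theorem F389155 : act 5 n193200 = n139300 := d13_1 D193200 F389153 (iv5 D193199)
theorem F389156 : act 1 n101388 = n193200 := d15_1 (iv0 F388889) (iv7 D193200) (iv2 F388887)
def n193201 : Q := act 4 n101349
theorem D193201 : act 4 n101349 = n193201 := rfl
theorem F389157 : act 2 n193201 = n133074 := d1_1 D193201 F334212 (iv2 F310329)
theorem F389158 : act 3 n193201 = n126343 := d5_1 D193201 (iv4 D126343) (iv3 F332923) (iv4 D123314) (iv3 F310330)
theorem F389159 : act 6 n193201 = n127076 := d10_2 F389151 D193201 (iv4 F389152)
theorem F389160 : act 7 n193201 = n154140 := d11_2 (iv7 F310331) D193201 (iv4 D154140)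
theorem F389161 : act 5 n193201 = n133026 := d16_1 D193201 F213680 F97304 (iv4 F309702) (iv5 D58275) (iv4 F190552) D123659 F198073 (iv2 F310329)
theorem F389162 : act 0 n193201 = n184286 := d18_2 F156120 D193201 (iv4 D184286) (iv5 D87898) (iv4 F305362) F109518 F304234 F74384 D101210
theorem F389163 : act 1 n193201 = n161173 := d18_6 (iv1 F92130) F52921 F190516 F310326 D101349 D193201 F332007 (iv0 F343504) (iv5 D124689)
def n193202 : Q := act 2 n101352
theorem D193202 : act 2 n101352 = n193202 := rfl
theorem F389164 : act 3 n193202 = n160280 := d0_2 D101352 D193202 F253143 F115374 (iv2 F306616)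
theorem F389165 : act 5 n193202 = n160273 := d2_2 (iv5 F366847) D193202 F253120
theorem F389166 : act 7 n193202 = n160272 := d4_2 F366846 D193202 F253118
theorem F389167 : act 1 n193202 = n170755 := d15_0 F351827 F366846 D193202
theorem F389168 : act 6 n136859 = n193202 := d21_5 F220821 (iv1 D136856) (iv5 D64336) D64337 D136859 F389165 (iv1 F253125) (iv5 F351824) (iv6 D137330) F171407
def n193203 : Q := act 4 n101352
theorem D193203 : act 4 n101352 = n193203 := rfl
theorem F389169 : act 5 n193203 = n173980 := d16_1 D193203 (iv4 D173980) F303496 (iv4 F306784) (iv5 D157987) (iv4 F115320) D160272 (iv7 F389166) (iv2 D193202)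
def n193204 : Q := act 6 n101352
theorem D193204 : act 6 n101352 = n193204 := rfl
theorem F389170 : act 2 n193204 = n136859 := d3_1 D193204 F389168 (iv2 D193202)
theorem F389171 : act 3 n193204 = n101355 := d7_1 D193204 (iv6 D101355) D101352
theorem F389172 : act 0 n136854 = n193204 := d21_4 (iv5 F336142) (iv1 F365145) F365148 D136854 (iv6 D193204) F366847 (iv1 F330218) F334183 (iv6 D64555) D64552
theorem F389173 : act 7 n136860 = n193204 := d15_2 (iv0 D136859) D136860 F389170
theorem F389174 : act 3 n189590 = n136860 := d8_3 F389173 F389171 (iv7 F377052)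
theorem F389175 : act 5 n136860 = n189588 := d6_2 D189590 F389174 (iv3 D189588)
def n193205 : Q := act 3 n101353
theorem D193205 : act 3 n101353 = n193205 := rfl
def n193206 : Q := act 6 n101353
theorem D193206 : act 6 n101353 = n193206 := rfl
theorem F389176 : act 4 n193206 = n101355 := d10_1 D193206 (iv6 D101355) D101353
def n193207 : Q := act 0 n101355
theorem D193207 : act 0 n101355 = n193207 := rfl
def n193208 : Q := act 1 n101355
theorem D193208 : act 1 n101355 = n193208 := rfl
theorem F389177 : act 6 n135957 = n193208 := d21_3 (iv5 F294262) (iv1 F349666) (iv5 F220885) (iv1 D193208) (iv6 D101355) F306617 (iv1 F108927) D75026 (iv6 F339064) (iv1 F345469)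
theorem F389178 : act 3 n193208 = n101851 := d7_1 F389177 F365271 D135957
def n193209 : Q := act 3 n101361
theorem D193209 : act 3 n101361 = n193209 := rfl
def n193210 : Q := act 5 n101361
theorem D193210 : act 5 n101361 = n193210 := rfl
theorem F389179 : act 2 n193210 = n142040 := d2_1 D193210 (iv5 F388892) (iv2 F388893)
theorem F389180 : act 7 n193210 = n142041 := d13_2 F388896 D193210 (iv5 F388898)
theorem F389181 : act 4 n193210 = n124863 := d16_2 (iv4 F366816) D193210 (iv5 F200545) F98090 (iv5 F52007) (iv4 F52727) D72433 D153312 F242669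
theorem F389182 : act 0 n193210 = n124874 := d17_2 D101361 D193210 (iv5 F345681) F339063 (iv5 D75026) F108927 (iv5 F306617) (iv0 D47179) D47181
theorem F389183 : act 1 n193210 = n116133 := d17_8 (iv1 F319272) (iv5 D74908) (iv1 F185327) F97980 (iv4 F206052) (iv5 F248361) F366815 D193210 F180928
theorem F389184 : act 6 n193210 = n154719 := d21_9 D166068 (iv1 F282295) (iv5 F324361) (iv6 F350060) (iv1 F264247) F366552 (iv5 D101364) D101361 D193210 F312871
def n193211 : Q := act 6 n101361
theorem D193211 : act 6 n101361 = n193211 := rfl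
def n193212 : Q := act 3 n101362
theorem D193212 : act 3 n101362 = n193212 := rfl
def n193213 : Q := act 5 n101362
theorem D193213 : act 5 n101362 = n193213 := rfl
theorem F389185 : act 2 n193213 = n142041 := d2_1 D193213 (iv5 F388898) (iv2 F388899)
theorem F389186 : act 4 n193213 = n124862 := d9_1 D193213 F200542 (iv4 F309046) F309047 (iv4 F240481) (iv5 F242668) (iv4 F366816) D193210 F389181 (iv5 F200545) F98090 (iv5 F52007) (iv4 F52727) D72433 (iv4 F309585)
theorem F389187 : act 7 n193213 = n142040 := d13_2 (iv7 F388894) D193213 (iv5 F388892)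
theorem F389188 : act 0 n193213 = n116133 := d17_2 (iv1 F309584) D193213 F345683 (iv4 D157596) (iv5 D75021) (iv0 D34369) D34371 D75029 D157611
theorem F389189 : act 1 n193213 = n124874 := d17_8 F317019 (iv5 F317426) (iv1 F209895) D157457 (iv4 F366551) (iv5 D101364) D101362 D193213 F314713
theorem F389190 : act 0 n141879 = n193188 := d20_4 F389186 (iv1 F338951) F181491 (iv3 F224919) (iv3 D193188) (iv4 D101328) D101326 (iv4 F351572) (iv3 F351593) (iv1 F389189)
theorem F389191 : act 3 n140334 = n193213 := d5_5 F389186 F209892 F323621 (iv3 F323460) (iv4 F351690)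
theorem F389192 : act 5 n193212 = n140334 := d6_0 F389191 (iv5 D193213) D193212
theorem F389193 : act 0 n192933 = n193212 := d21_10 F389192 (iv1 D140334) D140335 F343149 (iv1 D108556) D108559 (iv5 F387018) (iv1 D192545) F367191 D192933
def n193214 : Q := act 6 n101362
theorem D193214 : act 6 n101362 = n193214 := rfl
theorem F389194 : act 4 n193214 = n153308 := d10_1 D193214 F240869 (iv4 F309585)
theorem F389195 : act 0 n193214 = n107287 := d21_10 (iv5 D107287) D107285 F350036 (iv6 D64725) D64722 D137686 F345681 (iv1 F389189) (iv5 D193213) D193214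
def n193215 : Q := act 0 n101363
theorem D193215 : act 0 n101363 = n193215 := rfl
theorem F389196 : act 4 n193215 = n143992 := d18_3 (iv1 D101877) (iv4 F156125) D193215 (iv5 D143992) (iv4 F168374) F82556 (iv4 F94068) (iv0 F175820) F357176
theorem F389197 : act 3 n193215 = n192927 := d20_5 (iv4 D75030) (iv1 F305552) D47181 D101363 D193215 (iv4 D192927) (iv1 D100971) (iv4 F294172) (iv3 F242856) (iv1 F242859)
def n193216 : Q := act 1 n101363
theorem D193216 : act 1 n101363 = n193216 := rfl
theorem F389198 : act 4 n193216 = n143995 := d18_7 D144294 F226991 (iv1 F176173) (iv4 F357165) (iv5 D101879) (iv4 F156125) D193216 F226994 (iv5 D144296)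
def n193217 : Q := act 2 n101363
theorem D193217 : act 2 n101363 = n193217 := rfl
theorem F389199 : act 3 n193217 = n101364 := d0_2 D101363 D193217 (iv2 F388904) (iv3 D193143) F155945
theorem F389200 : act 4 n193217 = n101878 := d1_2 (iv4 F156125) D193217 (iv2 D101878)
theorem F389201 : act 6 n193217 = n101448 := d3_2 (iv6 F156126) D193217 (iv2 D101448)
theorem F389202 : act 5 n101363 = n193217 := d16_3 (iv4 F357165) (iv5 D101879) (iv4 F156125) F389200 (iv5 F357172) F209166 (iv5 F165075) F165076 (iv2 F175830)
def n193218 : Q := act 7 n101363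
theorem D193218 : act 7 n101363 = n193218 := rfl
theorem F389203 : act 3 n193218 = n101365 := d8_1 D193218 (iv7 D101365) D101363
theorem F389204 : act 4 n193218 = n101880 := d11_1 D193218 (iv7 D101880) (iv4 F156125)
theorem F389205 : act 6 n193218 = n192944 := d14_1 D193218 F388298 F365234 (iv7 D101450) (iv6 F156126)
theorem F389206 : act 2 n192945 = n193218 := d3_3 F389205 (iv2 D192944) D192945
theorem F389207 : act 7 n193217 = n192945 := d4_0 F389206 (iv7 D193218) D193217
theorem F389208 : act 1 n192945 = n193215 := d15_0 (iv0 D193215) D193218 (iv2 F389206)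
theorem F389209 : act 5 n192945 = n193218 := d13_1 F389207 (iv7 D193218) F389202
theorem F389210 : act 1 n193216 = n192945 := d15_1 D193216 (iv7 F389207) (iv2 D193217)
def n193219 : Q := act 0 n101364
theorem D193219 : act 0 n101364 = n193219 := rfl
theorem F389211 : act 5 n193219 = n138207 := d17_1 D193219 F351595 (iv5 D142042) F102555 D66617 D142055 F350150 F248077 (iv4 F366551)
theorem F389212 : act 4 n193219 = n147912 := d18_1 D193219 (iv1 D147912) (iv4 F231684) (iv5 F242670) (iv4 D154596) D154595 (iv4 F366816) (iv0 D101361) D101364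
theorem F389213 : act 2 n154698 = n193219 := d15_3 (iv0 D193219) (iv0 F366553) F366128
theorem F389214 : act 7 n193219 = n154695 := d4_2 F366128 F389213 (iv2 F366791)
theorem F389215 : act 1 n128045 = n193219 := d15_1 (iv0 F360583) F389214 (iv2 F366791)
theorem F389216 : act 3 n193219 = n140336 := d19_3 (iv1 F129628) (iv5 F307655) (iv4 F389212) F386752 F386750 F222741 (iv3 F111376) F78358 (iv5 D49613) D49612 D107411 (iv1 F351090) (iv5 D160360) (iv4 D76865) F299839 (iv1 F59994) (iv5 D18501) D18500 D38975
def n193220 : Q := act 7 n101364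
theorem D193220 : act 7 n101364 = n193220 := rfl
theorem F389217 : act 2 n193220 = n128045 := d4_1 D193220 (iv7 F388902) F388904
theorem F389218 : act 3 n193220 = n192945 := d8_1 D193220 (iv7 F389207) F389199
theorem F389219 : act 4 n193220 = n118309 := d11_1 D193220 (iv7 F248076) (iv4 F366551)
theorem F389220 : act 5 n193220 = n101365 := d13_1 D193220 (iv7 D101365) D101364
theorem F389221 : act 6 n193220 = n118308 := d14_1 D193220 F185874 (iv6 F205861) (iv7 F264246) F366552
theorem F389222 : act 1 n154695 = n193220 := d15_1 F388905 (iv7 D193220) (iv2 F388904)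
theorem F389223 : act 1 n193220 = n154698 := d15_1 F389222 (iv7 F366128) F366791
def n193221 : Q := act 6 n101365
theorem D193221 : act 6 n101365 = n193221 := rfl
theorem F389224 : act 2 n193221 = n128040 := d3_1 D193221 F360585 (iv2 F308453)
theorem F389225 : act 3 n193221 = n192944 := d7_1 D193221 (iv6 F389205) F389203
theorem F389226 : act 4 n193221 = n101366 := d10_1 D193221 (iv6 D101366) (iv4 F156127)
theorem F389227 : act 5 n193221 = n154777 := d12_1 D193221 (iv6 D154777) (iv5 F185875) (iv6 F389221) F389220
theorem F389228 : act 7 n193221 = n101456 := d14_2 D101365 D193221 (iv6 D101456) (iv7 D47211) (iv6 F74464)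
theorem F389229 : act 0 n187984 = n154777 := d21_7 F388898 (iv1 D142041) D142042 F351885 (iv1 F167865) (iv6 F366524) F372033 (iv5 F389227) (iv6 D193221) (iv1 F388895)
theorem F389230 : act 1 n128037 = n193221 := d15_1 D128037 F389228 F352718
theorem F389231 : act 1 n193221 = n128036 := d15_0 (iv0 D128036) D128040 (iv2 F389224)
def n193222 : Q := act 4 n101369
theorem D193222 : act 4 n101369 = n193222 := rfl
theorem F389232 : act 3 n193222 = n106949 := d5_1 D193222 F164837 (iv3 F328176) (iv4 D102062) (iv3 F156133)
theorem F389233 : act 6 n193222 = n107092 := d10_2 (iv6 F328172) D193222 F165066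
theorem F389234 : act 7 n193222 = n157176 := d11_2 (iv7 F290181) D193222 F363854
def n193223 : Q := act 4 n101375
theorem D193223 : act 4 n101375 = n193223 := rfl
theorem F389235 : act 2 n193223 = n101379 := d1_1 D193223 (iv4 D101379) (iv2 F156171)
theorem F389236 : act 1 n193223 = n192187 := d18_6 (iv1 D90487) F65393 D42349 (iv4 F74467) D101375 D193223 (iv4 D192187) (iv0 F371281) (iv5 D187712)
def n193224 : Q := act 4 n101378
theorem D193224 : act 4 n101378 = n193224 := rfl
def n193225 : Q := act 6 n101378
theorem D193225 : act 6 n101378 = n193225 := rfl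
def n193226 : Q := act 1 n101379
theorem D193226 : act 1 n101379 = n193226 := rfl
theorem F389237 : act 4 n193226 = n192186 := d18_7 F139255 F139253 (iv1 F135528) F68154 D47186 D101379 D193226 F385910 (iv5 D102397)
theorem F389238 : act 2 n192187 = n193226 := d1_3 F389237 (iv2 D192186) D192187
def n193227 : Q := act 3 n101379
theorem D193227 : act 3 n101379 = n193227 := rfl
theorem F389239 : act 4 n193227 = n101391 := d5_2 D101379 D193227 (iv3 D101391) (iv4 D47190) (iv3 F74468)
theorem F389240 : act 7 n193227 = n107345 := d8_2 F388924 D193227 F388926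
theorem F389241 : act 0 n107268 = n193227 := d20_4 F37900 D24182 D49560 D107268 (iv3 D193227) (iv4 D101379) F339537 (iv4 F165308) (iv3 D107261) (iv1 D49555)
theorem F389242 : act 2 n107359 = n193227 := d15_3 (iv0 F389241) F388220 D107359
theorem F389243 : act 5 n193227 = n192719 := d2_2 F388939 F389242 (iv2 F387720)
theorem F389244 : act 6 n107344 = n193227 := d14_5 F389240 (iv6 D107345) (iv7 D49591) D49590 D107344
theorem F389245 : act 1 n107357 = n193227 := d15_1 D107357 F389240 F165399
theorem F389246 : act 2 n111046 = n107357 := d15_3 F389245 (iv0 F389241) (iv7 F172230)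
def n193228 : Q := act 5 n101379
theorem D193228 : act 5 n101379 = n193228 := rfl
theorem F389247 : act 3 n193228 = n192719 := d6_1 D193228 (iv5 F389243) (iv3 D193227)
def n193229 : Q := act 6 n101379
theorem D193229 : act 6 n101379 = n193229 := rfl
theorem F389248 : act 3 n193229 = n107344 := d7_1 D193229 F389244 (iv3 D193227)
theorem F389249 : act 4 n193229 = n101380 := d10_1 D193229 (iv6 D101380) D101379
theorem F389250 : act 7 n193229 = n107328 := d14_2 F388924 D193229 (iv6 D107328) D107329 (iv6 F388923)
theorem F389251 : act 0 n111027 = n107344 := d20_4 F77653 D49172 F95186 D111027 (iv3 F389248) F389249 (iv1 F365536) F218930 (iv3 D127085) F96435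
def n193230 : Q := act 6 n101385
theorem D193230 : act 6 n101385 = n193230 := rfl
theorem F389252 : act 2 n193230 = n189595 := d3_1 D193230 F377055 (iv2 F156179)
theorem F389253 : act 3 n193230 = n142159 := d7_1 D193230 (iv6 D142159) (iv3 F360804)
theorem F389254 : act 4 n193230 = n101386 := d10_1 D193230 (iv6 D101386) D101385
theorem F389255 : act 0 n108551 = n193230 := d20_7 F186935 F318402 (iv4 F219617) (iv3 D136505) F99887 (iv3 F100012) (iv4 F167875) F389254 F363444 (iv1 F363419)
def n193231 : Q := act 0 n101386
theorem D193231 : act 0 n101386 = n193231 := rfl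
theorem F389256 : act 6 n193231 = n185301 := d21_5 F74411 (iv1 F69218) (iv5 F74470) D101386 D193231 (iv5 D185301) (iv1 D88285) (iv5 F74485) (iv6 D47212) (iv1 F74410)
theorem F389257 : act 0 n193231 = n189596 := d21_10 F377057 (iv1 F377020) (iv5 F377022) (iv6 D101355) F306615 D157612 F248364 F310371 D185301 (iv6 F389256)
def n193232 : Q := act 1 n101386
theorem D193232 : act 1 n101386 = n193232 := rfl
theorem F389258 : act 1 n193232 = n189596 := d15_1 D193232 (iv7 D189596) (iv2 F156182)
theorem F389259 : act 5 n188306 = n193232 := d21_6 (iv5 D42687) (iv1 D20143) D20145 D42695 D91190 D188306 (iv1 D193232) F156183 (iv6 D94102) (iv1 F294837)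
def n193233 : Q := act 7 n101386
theorem D193233 : act 7 n101386 = n193233 := rfl
theorem F389260 : act 2 n193233 = n189596 := d4_1 D193233 (iv7 D189596) (iv2 F156182)
theorem F389261 : act 5 n193233 = n189579 := d13_1 D193233 (iv7 D189579) (iv5 F156183)
theorem F389262 : act 1 n189594 = n193233 := d15_1 D189594 (iv7 D193233) F156182
theorem F389263 : act 1 n193233 = n189593 := d15_0 (iv0 D189593) D189596 (iv2 F389260)
def n193234 : Q := act 3 n101387
theorem D193234 : act 3 n101387 = n193234 := rfl
theorem F389264 : act 2 n193234 = n142138 := d0_1 D193234 (iv3 D142138) (iv2 F321322) (iv3 F369852) F369851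
theorem F389265 : act 4 n193234 = n102017 := d5_2 D101387 D193234 (iv3 D102017) (iv4 D47385) F74475
theorem F389266 : act 5 n193234 = n190203 := d6_2 (iv5 F360808) D193234 (iv3 D190203)
theorem F389267 : act 7 n193234 = n189599 := d8_2 (iv7 F156184) D193234 (iv3 D189599)
def n193235 : Q := act 6 n101387
theorem D193235 : act 6 n101387 = n193235 := rfl
theorem F389268 : act 4 n193235 = n101388 := d10_1 D193235 (iv6 D101388) D101387
def n193236 : Q := act 3 n101389
theorem D193236 : act 3 n101389 = n193236 := rfl
theorem F389269 : act 4 n193236 = n192899 := d5_2 (iv4 F156190) D193236 F388144 (iv4 D102595) F153685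
theorem F389270 : act 5 n193236 = n190868 := d6_2 (iv5 F360812) D193236 (iv3 D190868)
theorem F389271 : act 7 n193236 = n141825 := d8_2 F159843 D193236 F360817
theorem F389272 : act 0 n193236 = n141820 := d20_4 F293813 (iv1 F134171) (iv4 F156190) D193236 F224835 F102396 D66621 D142067 (iv3 F369852) F369855
theorem F389273 : act 0 n141828 = n193236 := d20_4 (iv4 D31063) (iv1 F49456) (iv4 F102383) (iv3 F224853) (iv3 D193236) F156190 (iv1 F292844) D97038 F328555 (iv1 F166088)
theorem F389274 : act 2 n141826 = n193236 := d1_3 F389269 F388143 (iv4 F375861)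
def n193237 : Q := act 6 n101389
theorem D193237 : act 6 n101389 = n193237 := rfl
theorem F389275 : act 4 n193237 = n183137 := d10_1 D193237 F284746 (iv4 F156190)
def n193238 : Q := act 6 n101390
theorem D193238 : act 6 n101390 = n193238 := rfl
theorem F389276 : act 2 n193238 = n192898 := d3_1 D193238 F388142 F159842
theorem F389277 : act 4 n193238 = n190913 := d10_1 D193238 (iv6 D190913) F291804
def n193239 : Q := act 0 n101391
theorem D193239 : act 0 n101391 = n193239 := rfl
theorem F389278 : act 1 n107353 = n193239 := d15_0 (iv0 D193239) (iv7 F388930) (iv2 F388941)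
def n193240 : Q := act 1 n101391
theorem D193240 : act 1 n101391 = n193240 := rfl
theorem F389279 : act 3 n141886 = n193240 := d19_19 (iv1 D193240) (iv5 F367261) (iv4 F379276) (iv3 D190284) D190282 F379264 (iv4 D114165) (iv3 F177909) F313073 (iv5 F125660) F125659 F314925 F317923 (iv5 F315756) (iv4 F311150) (iv3 F190650) F200418 F322370 F224930
theorem F389280 : act 4 n142884 = n193240 := d20_6 (iv4 D102475) (iv1 F342515) F331213 (iv3 F225599) F342508 D142884 (iv1 D193240) (iv4 F389239) (iv3 D193227) F157418
theorem F389281 : act 7 n193240 = n141910 := d8_2 (iv7 F321329) F389279 (iv3 D141910)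
theorem F389282 : act 2 n141910 = n193239 := d15_3 (iv0 D193239) D193240 F389281
def n193241 : Q := act 2 n101391
theorem D193241 : act 2 n101391 = n193241 := rfl
theorem F389283 : act 3 n193241 = n141950 := d0_2 D101391 D193241 (iv2 F381928) F381922 F292269
theorem F389284 : act 4 n193241 = n107359 := d1_2 F389239 D193241 F389242
theorem F389285 : act 5 n193241 = n190310 := d2_2 F367261 D193241 (iv2 D190310)
theorem F389286 : act 7 n193241 = n107353 := d4_2 F388930 D193241 F388941
theorem F389287 : act 1 n193240 = n107353 := d15_1 D193240 (iv7 F389286) (iv2 D193241)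
theorem F389288 : act 1 n141910 = n193241 := d15_1 (iv0 F388932) F389286 F388941
def n193242 : Q := act 6 n101391
theorem D193242 : act 6 n101391 = n193242 := rfl
theorem F389289 : act 3 n193242 = n101393 := d7_1 D193242 (iv6 D101393) D101391
theorem F389290 : act 4 n193242 = n107344 := d10_1 D193242 F389244 F389239
theorem F389291 : act 7 n193242 = n107334 := d14_2 F388930 D193242 (iv6 D107334) D107335 (iv6 F388929)
def n193243 : Q := act 4 n101394
theorem D193243 : act 4 n101394 = n193243 := rfl
theorem F389292 : act 2 n193243 = n137694 := d1_1 D193243 (iv4 F385727) F385724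
theorem F389293 : act 3 n193243 = n116176 := d5_1 D193243 (iv4 D116176) D116175 F333290 (iv3 F357286)
theorem F389294 : act 6 n193243 = n166067 := d10_2 F389124 D193243 (iv4 F389127)
theorem F389295 : act 7 n193243 = n137693 := d11_2 (iv7 F357288) D193243 F335444
theorem F389296 : act 1 n193243 = n104247 := d18_6 (iv1 F314963) F184025 D146758 F350764 (iv5 F357287) D193243 F159847 D104249 F355540
theorem F389297 : act 1 n137678 = n193243 := d15_0 F389296 F329319 (iv2 F220842)
def n193244 : Q := act 4 n101395
theorem D193244 : act 4 n101395 = n193244 := rfl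
theorem F389298 : act 2 n193244 = n137693 := d1_1 D193244 F335444 (iv2 F357282)
theorem F389299 : act 7 n193244 = n137694 := d11_2 F385726 D193244 (iv4 F385727)
theorem F389300 : act 0 n193244 = n104247 := d18_2 (iv1 F388920) D193244 F159847 D104250 F329321 D117300 F355150 F368252 (iv5 F388918)
theorem F389301 : act 1 n193244 = n137678 := d18_6 (iv1 D153307) (iv4 F206183) F312500 F350721 (iv5 F357284) D193244 F220843 (iv0 F329313) F350768
theorem F389302 : act 6 n154753 = n193244 := d3_0 F389298 F335445 D154753
def n193245 : Q := act 6 n101395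
theorem D193245 : act 6 n101395 = n193245 := rfl
theorem F389303 : act 2 n193245 = n154754 := d3_1 D193245 (iv6 F335438) (iv2 F357282)
theorem F389304 : act 3 n193245 = n102041 := d7_1 D193245 (iv6 D102041) (iv3 F357283)
theorem F389305 : act 4 n193245 = n154753 := d10_1 D193245 F389302 (iv4 D193244)
theorem F389306 : act 0 n193245 = n185296 := d21_10 (iv5 D185296) (iv1 F310372) (iv5 F248364) (iv6 D157612) (iv1 D75029) (iv6 F112550) (iv5 D75017) D75015 (iv5 F357284) D193245
theorem F389307 : act 0 n154753 = n108464 := d20_7 (iv4 D115379) F84068 (iv4 F99921) (iv3 F219628) (iv1 F352864) (iv3 F389304) F389305 (iv4 F218621) F218620 (iv1 F179660)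
theorem F389308 : act 1 n193245 = n185301 := d18_8 (iv1 D88285) (iv4 F135190) D185290 (iv4 F384919) (iv5 F338918) F218621 (iv0 F389307) (iv4 F389305) (iv5 D185301)
def n193246 : Q := act 0 n101396
theorem D193246 : act 0 n101396 = n193246 := rfl
theorem F389309 : act 4 n193246 = n117299 := d18_1 D193246 (iv1 F316677) F316680 F329159 (iv4 F220843) F389297 (iv4 D193243) (iv0 D101394) D101396
theorem F389310 : act 2 n186845 = n193246 := d15_3 (iv0 D193246) F357285 F368236
theorem F389311 : act 7 n193246 = n186846 := d4_2 F368236 F389310 (iv2 F368242)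
theorem F389312 : act 1 n186847 = n193246 := d15_1 F368252 F389311 (iv2 F368242)
def n193247 : Q := act 7 n101396
theorem D193247 : act 7 n101396 = n193247 := rfl
theorem F389313 : act 2 n193247 = n186847 := d4_1 D193247 (iv7 D186847) (iv2 F156195)
theorem F389314 : act 5 n193247 = n101397 := d13_1 D193247 (iv7 D101397) D101396
theorem F389315 : act 6 n193247 = n186844 := d14_1 D193247 (iv7 D186844) (iv6 D89248) (iv7 F75204) (iv6 F156196)
theorem F389316 : act 1 n186846 = n193247 := d15_1 D186846 (iv7 D193247) F156195
theorem F389317 : act 1 n193247 = n186845 := d15_1 F389316 (iv7 F368236) F368242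
def n193248 : Q := act 4 n101402
theorem D193248 : act 4 n101402 = n193248 := rfl
theorem F389318 : act 7 n193248 = n184626 := d11_2 (iv7 F289622) D193248 (iv4 D184626)
def n193249 : Q := act 6 n101402
theorem D193249 : act 6 n101402 = n193249 := rfl
theorem F389319 : act 3 n193249 = n101949 := d7_1 D193249 (iv6 D101949) (iv3 F156241)
theorem F389320 : act 5 n193249 = n185105 := d12_1 D193249 (iv6 D185105) (iv5 D88226) (iv6 F289636) D101402
theorem F389321 : act 7 n193249 = n136939 := d14_2 (iv7 F289622) D193249 F362162 F301966 F135896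
def n193250 : Q := act 6 n101407
theorem D193250 : act 6 n101407 = n193250 := rfl
theorem F389322 : act 3 n193250 = n101979 := d7_1 D193250 (iv6 D101979) (iv3 F356193)
theorem F389323 : act 5 n193250 = n191333 := d12_1 D193250 (iv6 D191333) (iv5 D98081) D98082 (iv5 F290103)
def n193251 : Q := act 3 n101408
theorem D193251 : act 3 n101408 = n193251 := rfl
theorem F389324 : act 4 n193251 = n101412 := d5_2 D101408 D193251 (iv3 D101412) (iv4 D47199) (iv3 F74480)
theorem F389325 : act 6 n193251 = n141851 := d7_2 (iv6 F345480) D193251 (iv3 F345478)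
def n193252 : Q := act 5 n101408
theorem D193252 : act 5 n101408 = n193252 := rfl
theorem F389326 : act 0 n193252 = n192280 := d17_2 F157404 D193252 (iv5 D192280) (iv4 D99972) (iv5 D46690) (iv0 F289718) D99845 F153736 D102443
def n193253 : Q := act 2 n101412
theorem D193253 : act 2 n101412 = n193253 := rfl
theorem F389327 : act 3 n193253 = n107353 := d0_2 D101412 D193253 F388941 (iv3 D193149) F155977
theorem F389328 : act 6 n193253 = n107351 := d3_2 (iv6 F345475) D193253 F349726
theorem F389329 : act 7 n193253 = n141950 := d4_2 (iv7 F381923) D193253 (iv2 F381928)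
theorem F389330 : act 1 n193253 = n141835 := d15_0 (iv0 F381924) (iv7 F381923) D193253
theorem F389331 : act 1 n141952 = n193253 := d15_0 F389330 F224866 D141952
def n193254 : Q := act 5 n101414
theorem D193254 : act 5 n101414 = n193254 := rfl
theorem F389332 : act 3 n193254 = n141852 := d6_1 D193254 (iv5 D141852) (iv3 F345473)
def n193255 : Q := act 4 n101419
theorem D193255 : act 4 n101419 = n193255 := rfl
theorem F389333 : act 2 n193255 = n101420 := d1_1 D193255 (iv4 D101420) D101419
theorem F389334 : act 1 n193255 = n187715 := d18_6 (iv1 D99017) F72976 D94449 (iv4 F377064) F377065 D193255 (iv4 D187715) (iv0 F365660) (iv5 F365762)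
def n193256 : Q := act 6 n101419
theorem D193256 : act 6 n101419 = n193256 := rfl
theorem F389335 : act 2 n193256 = n101421 := d3_1 D193256 (iv6 D101421) D101419
def n193257 : Q := act 1 n101420
theorem D193257 : act 1 n101420 = n193257 := rfl
theorem F389336 : act 4 n193257 = n187710 := d18_7 F369093 F152550 (iv1 F145632) (iv4 F145058) F145059 D101420 D193257 F371266 F367443
theorem F389337 : act 2 n187715 = n193257 := d1_3 F389336 F371263 D187715
def n193258 : Q := act 3 n101420
theorem D193258 : act 3 n101420 = n193258 := rfl
theorem F389338 : act 4 n193258 = n101423 := d5_2 D101420 D193258 (iv3 D101423) (iv4 D47202) D47201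
theorem F389339 : act 0 n157169 = n193258 := d20_4 F228338 (iv1 F163576) F112143 D157169 (iv3 D193258) (iv4 D101420) (iv1 F364411) D193222 F389232 (iv1 F228341)
def n193259 : Q := act 5 n101420
theorem D193259 : act 5 n101420 = n193259 := rfl
def n193260 : Q := act 6 n101420
theorem D193260 : act 6 n101420 = n193260 := rfl
theorem F389340 : act 4 n193260 = n101421 := d10_1 D193260 (iv6 D101421) D101420
def n193261 : Q := act 0 n101421
theorem D193261 : act 0 n101421 = n193261 := rfl
def n193262 : Q := act 1 n101421
theorem D193262 : act 1 n101421 = n193262 := rfl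
def n193263 : Q := act 7 n101421
theorem D193263 : act 7 n101421 = n193263 := rfl
theorem F389341 : act 3 n193263 = n101428 := d8_1 D193263 (iv7 D101428) (iv3 F156249)
def n193264 : Q := act 0 n101423
theorem D193264 : act 0 n101423 = n193264 := rfl
def n193265 : Q := act 1 n101423
theorem D193265 : act 1 n101423 = n193265 := rfl
theorem F389342 : act 3 n150708 = n193265 := d20_3 F206000 (iv1 F110070) F237266 (iv1 D193265) (iv3 D101423) (iv4 D47202) (iv1 F74421) (iv4 F156005) F352712 D128012
theorem F389343 : act 7 n193265 = n153617 := d8_2 (iv7 F237265) F389342 (iv3 D153617)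
theorem F389344 : act 2 n153617 = n193264 := d15_3 (iv0 D193264) D193265 F389343
theorem F389345 : act 6 n193264 = n153626 := d3_2 (iv6 F241494) F389344 (iv2 D153626)
def n193266 : Q := act 2 n101423
theorem D193266 : act 2 n101423 = n193266 := rfl
def n193267 : Q := act 5 n101423
theorem D193267 : act 5 n101423 = n193267 := rfl
theorem F389346 : act 3 n193267 = n101424 := d6_1 D193267 (iv5 D101424) D101423
def n193268 : Q := act 6 n101423
theorem D193268 : act 6 n101423 = n193268 := rfl
theorem F389347 : act 3 n193268 = n101425 := d7_1 D193268 (iv6 D101425) D101423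
theorem F389348 : act 5 n191950 = n193268 := d21_2 F333015 D191950 (iv6 D193268) D193264 F389345 F241516 (iv1 F178146) F242890 F361662 (iv1 F358690)
theorem F389349 : act 5 n193264 = n190308 := d21_0 (iv1 F379349) F388940 (iv6 D107353) (iv1 F165390) F366265 F333015 D191950 F389348 (iv6 D193268) D193264
theorem F389350 : act 1 n192720 = n193258 := d17_8 D193264 F389349 (iv1 F379349) F388940 F165412 D107358 F388935 D192720 F389338
theorem F389351 : act 6 n157152 = n193258 := d21_9 (iv5 D192720) (iv1 F388935) (iv5 D107358) (iv6 D49595) (iv1 D24190) (iv6 F37812) D49442 D107028 F358644 (iv1 F389350)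
theorem F389352 : act 3 n193260 = n157152 := d7_3 F389351 (iv3 D193258) D193260
theorem F389353 : act 4 n193268 = n157152 := d10_3 F389351 F389338 D193268
theorem E103537 : n193261 = n64113 := (c20_8 (iv4 D24119) (iv1 F37778) (iv4 F53879) D74717 D157152 (iv3 F389352) F389340 D193261 F99799 (iv3 D60577) F46406)
theorem E103538 : n136370 = n101421 := ((D136370).symm.trans (sb E103537 (iv0 D193261)))
theorem F389354 : act 0 n101421 = n64113 := (sb E103538 (iv1 D136370))
theorem F389355 : act 7 n193262 = n136371 := d15_2 (iv0 F389354) D193262 (iv2 D136371)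
theorem F389356 : act 2 n193263 = n136369 := d15_3 (iv0 D136369) (iv0 F389354) D193263
theorem F389357 : act 7 n136369 = n193256 := d4_2 D193263 F389356 F389335
theorem F389358 : act 1 n193262 = n136369 := d15_1 D193262 F389357 F389335
theorem F389359 : act 2 n132189 = n193262 := d15_3 F389358 (iv0 D136369) (iv7 F211766)
theorem F389360 : act 3 n193262 = n136377 := d0_2 D132189 F389359 (iv2 D136377) (iv3 D64116) F96630
theorem F389361 : act 4 n193262 = n144320 := d1_2 (iv4 F211764) F389359 (iv2 D144320)
theorem F389362 : act 6 n193262 = n137217 := d3_2 (iv6 F211765) F389359 (iv2 D137217)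
theorem F389363 : act 2 n193268 = n192681 := d2_1 F389348 (iv5 D192681) F384960
theorem F389364 : act 7 n193268 = n192684 := d13_2 F384961 F389348 (iv5 D192684)
theorem F389365 : act 1 n193268 = n156317 := d17_6 D101124 F155785 F310374 F308582 (iv4 F384959) F389348 F387332 F387330 (iv4 D101126)
theorem F389366 : act 6 n192681 = n193266 := d3_2 D193268 F389363 (iv2 D193266)
def n193269 : Q := act 6 n101424
theorem D193269 : act 6 n101424 = n193269 := rfl
theorem F389367 : act 4 n193269 = n103248 := d10_1 D193269 F158494 (iv4 F290802)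
def n193270 : Q := act 0 n101425
theorem D193270 : act 0 n101425 = n193270 := rfl
def n193271 : Q := act 1 n101425
theorem D193271 : act 1 n101425 = n193271 := rfl
def n193272 : Q := act 5 n101425
theorem D193272 : act 5 n101425 = n193272 := rfl
theorem F389368 : act 3 n193272 = n191950 := d6_1 D193272 F389348 F389347
theorem F389369 : act 7 n192683 = n193272 := d8_0 F389368 (iv7 F384961) D192683
theorem F389370 : act 0 n193272 = n140577 := d20_4 F332982 D99502 (iv4 F384959) (iv3 F389368) (iv3 F372018) F372019 (iv1 F377629) (iv4 F377630) F377631 F332984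
def n193273 : Q := act 7 n101425
theorem D193273 : act 7 n101425 = n193273 := rfl
theorem F389371 : act 3 n193273 = n192684 := d8_1 D193273 (iv7 F389364) F389347
theorem F389372 : act 4 n193273 = n101428 := d11_1 D193273 (iv7 D101428) (iv4 F156252)
theorem F389373 : act 5 n193273 = n192683 := d13_1 D193273 F389369 (iv5 D193272)
def n193274 : Q := act 5 n101426
theorem D193274 : act 5 n101426 = n193274 := rfl
theorem F389374 : act 3 n193274 = n181739 := d6_1 D193274 (iv5 D181739) (iv3 F368246)
theorem F389375 : act 4 n193272 = n193274 := d5_0 F389374 F385193 (iv3 D192010) (iv4 F384959) (iv3 F389368)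
def n193275 : Q := act 4 n101427
theorem D193275 : act 4 n101427 = n193275 := rfl
theorem F389376 : act 2 n193275 = n134834 := d1_1 D193275 F388964 F388965
theorem F389377 : act 7 n193275 = n134835 := d11_2 (iv7 F385741) D193275 (iv4 F385738)
theorem F389378 : act 5 n193275 = n188408 := d16_1 D193275 F373346 F140493 (iv4 F156252) D193272 F389375 (iv5 D193274) (iv7 F388962) F388965
theorem F389379 : act 0 n193275 = n101442 := d17_0 F352692 F362333 (iv5 F351888) (iv4 F222281) (iv5 F351893) (iv0 F351894) F140493 D101427 D193275
theorem F389380 : act 1 n193275 = n134836 := d15_1 (iv0 F389379) F388998 F388995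
def n193276 : Q := act 5 n101427
theorem D193276 : act 5 n101427 = n193276 := rfl
theorem F389381 : act 3 n193276 = n102184 := d6_1 D193276 (iv5 D102184) (iv3 F385740)
theorem F389382 : act 6 n193276 = n109194 := d21_3 (iv5 F388968) (iv1 F388970) D193276 (iv1 F373319) (iv6 D184570) F135019 (iv1 F73700) (iv5 F302085) D123768 (iv1 F373352)
theorem F389383 : act 4 n109195 = n193276 := d16_0 (iv5 D193276) D193275 F389378 F373346 F140493 (iv4 F156252) D193272 (iv7 F389369) F387459
def n193277 : Q := act 6 n101427
theorem D193277 : act 6 n101427 = n193277 := rfl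
theorem F389384 : act 3 n193277 = n102185 := d7_1 D193277 (iv6 D102185) (iv3 F385740)
theorem F389385 : act 7 n137177 = n193277 := d8_0 F389384 F352813 D137177
def n193278 : Q := act 4 n101431
theorem D193278 : act 4 n101431 = n193278 := rfl
theorem F389386 : act 2 n193278 = n101432 := d1_1 D193278 (iv4 D101432) D101431
theorem F389387 : act 7 n193278 = n192279 := d11_2 F386035 D193278 F386275
theorem F389388 : act 0 n193278 = n124357 := d18_2 (iv1 F386042) D193278 (iv4 D124357) (iv5 D57975) (iv4 F60091) D84633 (iv4 F289756) (iv0 F289609) (iv5 F386041)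
theorem F389389 : act 1 n193278 = n152326 := d18_6 (iv1 F357223) (iv4 F290006) (iv1 D171182) (iv4 F268920) (iv5 F356436) D193278 (iv4 F357231) F289743 F357225
def n193279 : Q := act 6 n101431
theorem D193279 : act 6 n101431 = n193279 := rfl
theorem F389390 : act 2 n193279 = n101433 := d3_1 D193279 (iv6 D101433) D101431
theorem F389391 : act 0 n193279 = n136913 := d21_4 (iv5 F356407) F356430 (iv5 F356436) D193279 (iv6 D136913) F328194 F209721 (iv5 F345482) (iv6 D101409) D101406
def n193280 : Q := act 3 n101432
theorem D193280 : act 3 n101432 = n193280 := rfl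
theorem F389392 : act 4 n193280 = n101434 := d5_2 D101432 D193280 (iv3 D101434) (iv4 D47205) D47204
def n193281 : Q := act 5 n101432
theorem D193281 : act 5 n101432 = n193281 := rfl
def n193282 : Q := act 6 n101432
theorem D193282 : act 6 n101432 = n193282 := rfl
theorem F389393 : act 4 n193282 = n101433 := d10_1 D193282 (iv6 D101433) D101432
def n193283 : Q := act 0 n101433
theorem D193283 : act 0 n101433 = n193283 := rfl
theorem F389394 : act 6 n193283 = n136910 := d21_5 D176191 F331234 (iv5 F137169) D101433 D193283 F365677 (iv1 F216010) (iv5 F331020) F336763 F356394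
theorem F389395 : act 2 n136913 = n193283 := d3_3 F389394 (iv2 D136910) D136913
def n193284 : Q := act 1 n101433
theorem D193284 : act 1 n101433 = n193284 := rfl
theorem F389396 : act 7 n193284 = n136913 := d15_2 (iv0 D193283) D193284 F389395
theorem F389397 : act 3 n136919 = n193284 := d8_3 F389396 F220086 D136919
def n193285 : Q := act 7 n101433
theorem D193285 : act 7 n101433 = n193285 := rfl
theorem F389398 : act 3 n193285 = n101439 := d8_1 D193285 (iv7 D101439) (iv3 F156253)
def n193286 : Q := act 0 n101434
theorem D193286 : act 0 n101434 = n193286 := rfl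
theorem F389399 : act 3 n193286 = n108436 := d20_5 F156005 (iv1 F74420) D47205 D101434 D193286 F171763 (iv1 D110876) (iv4 F352680) (iv3 D101440) (iv1 F156008)
theorem F389400 : act 4 n193286 = n156063 := d20_8 F53432 D34055 D74238 (iv3 F327686) F352686 D193280 F389392 D193286 (iv3 D156063) (iv1 D74234)
theorem F389401 : act 7 n156334 = n193286 := d11_0 F389400 F245204 (iv4 F245673)
theorem F389402 : act 5 n141967 = n193286 := d19_1 F381932 F389400 (iv3 D156063) (iv1 D74234) D74235 F329340 F62411 D41217 (iv5 F63431) F63049 F34179 F63234 (iv5 D9282) D9281 D19773 F35801 (iv5 F71625) (iv4 F149878) (iv3 F381930)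
def n193287 : Q := act 1 n101434
theorem D193287 : act 1 n101434 = n193287 := rfl
def n193288 : Q := act 2 n101434
theorem D193288 : act 2 n101434 = n193288 := rfl
theorem F389403 : act 1 n193288 = n156334 := d15_0 (iv0 F388956) F388955 D193288
def n193289 : Q := act 5 n101434
theorem D193289 : act 5 n101434 = n193289 := rfl
theorem F389404 : act 3 n193289 = n101435 := d6_1 D193289 (iv5 D101435) D101434
def n193290 : Q := act 0 n101436
theorem D193290 : act 0 n101436 = n193290 := rfl
def n193291 : Q := act 1 n101436
theorem D193291 : act 1 n101436 = n193291 := rfl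
def n193292 : Q := act 4 n101437
theorem D193292 : act 4 n101437 = n193292 := rfl
theorem F389405 : act 6 n193292 = n137127 := d10_2 (iv6 F360829) D193292 (iv4 D137127)
theorem F389406 : act 0 n193292 = n134837 := d20_7 F218035 (iv1 F99128) F328996 F74639 D47450 (iv3 F365507) D193292 (iv4 F220034) (iv3 D136836) (iv1 F218038)
def n193293 : Q := act 5 n101437
theorem D193293 : act 5 n101437 = n193293 := rfl
theorem F389407 : act 3 n193293 = n102224 := d6_1 D193293 (iv5 D102224) (iv3 F365507)
theorem F389408 : act 4 n188800 = n193293 := d5_0 F389407 F365541 F157120 (iv4 F292655) (iv3 F374944)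
def n193294 : Q := act 4 n101438
theorem D193294 : act 4 n101438 = n193294 := rfl
theorem F389409 : act 3 n193294 = n180009 := d5_1 D193294 (iv4 D180009) (iv3 F305219) (iv4 F385507) F385508
theorem F389410 : act 0 n134837 = n193294 := d20_10 (iv4 D193294) (iv1 D101438) (iv4 F156255) (iv3 F377743) F351251 F101659 (iv4 F98672) (iv1 D63365) (iv4 F98667) (iv3 F217001)
theorem F389411 : act 1 n101445 = n193294 := d15_0 (iv0 F389410) (iv7 F223632) (iv2 F352705)
def n193295 : Q := act 5 n101438
theorem D193295 : act 5 n101438 = n193295 := rfl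
theorem F389412 : act 0 n193295 = n182135 := d21_1 D193295 (iv5 F388882) (iv6 D193138) F307575 D157597 (iv5 F366838) (iv1 F373357) F373354 (iv6 F388989) (iv1 F388990)
theorem F389413 : act 6 n193207 = n101438 := d21_5 (iv5 D75021) (iv1 F108929) (iv5 F306617) D101355 D193207 D193295 F389412 (iv5 F388882) (iv6 D193138) F307575
theorem F389414 : act 6 n182198 = n193295 := d21_5 (iv5 D43702) F62472 F63559 D86993 D182198 (iv5 D193295) (iv1 D101438) (iv5 F137174) (iv6 D89492) (iv1 F68687)
def n193296 : Q := act 6 n101441
theorem D193296 : act 6 n101441 = n193296 := rfl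
theorem F389415 : act 4 n193296 = n103363 := d10_1 D193296 F158648 (iv4 F292812)
def n193297 : Q := act 0 n101443
theorem D193297 : act 0 n101443 = n193297 := rfl
theorem F389416 : act 1 n134828 = n193297 := d15_0 (iv0 D193297) (iv7 F388993) F388992
def n193298 : Q := act 1 n101443
theorem D193298 : act 1 n101443 = n193298 := rfl
def n193299 : Q := act 2 n101443
theorem D193299 : act 2 n101443 = n193299 := rfl
theorem F389417 : act 3 n193299 = n134830 := d0_2 D101443 D193299 (iv2 F223634) (iv3 F352706) (iv2 F155999)
theorem F389418 : act 7 n193299 = n134828 := d4_2 F388993 D193299 (iv2 F388992)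
theorem E103539 : n193298 = n192481 := (c15_1 D193298 (iv0 F386775) (iv7 F389418) (iv2 D193299))
theorem F389419 : act 0 n192481 = n101443 := (sb E103539 (iv1 D193298))
def n193300 : Q := act 4 n101443
theorem D193300 : act 4 n101443 = n193300 := rfl
def n193301 : Q := act 5 n101443
theorem D193301 : act 5 n101443 = n193301 := rfl
theorem F389420 : act 3 n193301 = n101444 := d6_1 D193301 (iv5 D101444) D101443
def n193302 : Q := act 6 n101443
theorem D193302 : act 6 n101443 = n193302 := rfl
theorem F389421 : act 3 n193302 = n101445 := d7_1 D193302 (iv6 D101445) D101443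
def n193303 : Q := act 6 n101444
theorem D193303 : act 6 n101444 = n193303 := rfl
theorem F389422 : act 2 n193303 = n124305 := d3_1 D193303 F369634 (iv2 F369632)
theorem F389423 : act 4 n193303 = n104303 := d10_1 D193303 (iv6 D104303) (iv4 F156257)
theorem F389424 : act 5 n163951 = n193303 := d16_1 F377796 F389423 F367256 F147724 D190451 (iv4 F379800) F267356 F148261 D189800
def n193304 : Q := act 0 n101445
theorem D193304 : act 0 n101445 = n193304 := rfl
def n193305 : Q := act 5 n101445
theorem D193305 : act 5 n101445 = n193305 := rfl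
theorem F389425 : act 2 n193305 = n163952 := d2_1 D193305 (iv5 F363366) (iv2 F352705)
theorem F389426 : act 6 n193305 = n163951 := d12_2 D101445 D193305 F389424 (iv6 D193303) (iv5 D101444)
theorem F389427 : act 4 n177462 = n193305 := d10_3 F389426 (iv4 F377796) F377797
def n193306 : Q := act 7 n101445
theorem D193306 : act 7 n101445 = n193306 := rfl
theorem F389428 : act 2 n193306 = n134837 := d4_1 D193306 (iv7 F223632) (iv2 F352705)
theorem F389429 : act 6 n193306 = n134836 := d14_1 D193306 F388998 (iv6 D193163) (iv7 F155994) D101445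
theorem E103540 : n193304 = n193292 := ((c15_1 (iv0 F389406) (iv0 D193304) D193306 F389428)).symm
theorem F389430 : act 1 n193292 = n101445 := (sb E103540 (iv0 D193304))
def n193307 : Q := act 0 n101446
theorem D193307 : act 0 n101446 = n193307 := rfl
theorem F389431 : act 2 n101450 = n193307 := d15_3 (iv0 D193307) (iv0 D101446) D101450
theorem F389432 : act 3 n193307 = n127928 := d0_2 (iv3 F156260) F389431 F205860 (iv3 F352712) F156004
theorem F389433 : act 4 n193307 = n102253 := d1_2 (iv4 F156261) F389431 (iv2 F157090)
theorem F389434 : act 6 n193307 = n127948 := d3_2 F365234 F389431 F365235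
theorem F389435 : act 7 n193307 = n101448 := d4_2 D101450 F389431 (iv2 D101448)
theorem F389436 : act 1 n101447 = n193307 := d15_1 D101447 F389435 (iv2 D101448)
def n193308 : Q := act 2 n101446
theorem D193308 : act 2 n101446 = n193308 := rfl
theorem F389437 : act 7 n101447 = n193308 := d15_2 (iv0 D101446) D101447 (iv2 D193308)
def n193309 : Q := act 4 n101446
theorem D193309 : act 4 n101446 = n193309 := rfl
theorem F389438 : act 3 n193309 = n192844 := d20_9 F361894 F361895 (iv4 D102247) (iv3 D47458) (iv1 D22795) D22796 (iv4 F74482) D101446 D193309 (iv1 D192844)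
def n193310 : Q := act 5 n101446
theorem D193310 : act 5 n101446 = n193310 := rfl
def n193311 : Q := act 6 n101446
theorem D193311 : act 6 n101446 = n193311 := rfl
def n193312 : Q := act 7 n101446
theorem D193312 : act 7 n101446 = n193312 := rfl
theorem F389439 : act 2 n193312 = n101447 := d4_1 D193312 F389437 (iv2 D193308)
theorem F389440 : act 3 n193312 = n189065 := d8_1 D193312 F386779 (iv3 F386780)
theorem F389441 : act 0 n193312 = n101448 := d20_4 F143587 D93107 D189065 (iv3 F389440) (iv3 F352732) (iv4 D167809) (iv1 F188362) D128010 (iv3 F375620) (iv1 D189060)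
theorem F389442 : act 1 n193312 = n101450 := d15_1 (iv0 F389441) (iv7 D101450) D101448
theorem F389443 : act 1 n193308 = n101448 := d15_0 (iv0 F389441) (iv7 D193312) D193308
theorem F389444 : act 1 n101450 = n193308 := d15_0 F389443 (iv7 F389435) (iv2 F389431)
def n193313 : Q := act 3 n101447
theorem D193313 : act 3 n101447 = n193313 := rfl
def n193314 : Q := act 4 n101447
theorem D193314 : act 4 n101447 = n193314 := rfl
theorem F389445 : act 1 n193314 = n164464 := d18_8 D164462 F259113 F340923 (iv4 D102269) (iv5 D47463) (iv4 F74482) D101447 D193314 (iv5 D164464)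
theorem F389446 : act 3 n190058 = n193314 := d20_5 (iv4 F64472) (iv1 F64473) D47516 (iv3 F352895) D190058 (iv4 D193314) (iv1 D101447) F74482 (iv3 D22796) D22794
def n193315 : Q := act 5 n101447
theorem D193315 : act 5 n101447 = n193315 := rfl
theorem F389447 : act 0 n193315 = n190906 := d17_2 (iv1 F389436) D193315 F381505 F377069 F375894 (iv0 F378433) (iv5 D102262) F157092 (iv4 F389433)
def n193316 : Q := act 6 n101447
theorem D193316 : act 6 n101447 = n193316 := rfl
def n193317 : Q := act 5 n101448
theorem D193317 : act 5 n101448 = n193317 := rfl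
theorem F389448 : act 2 n193317 = n101449 := d2_1 D193317 (iv5 D101449) D101448
theorem F389449 : act 3 n193317 = n101454 := d6_1 D193317 F366554 F352732
theorem F389450 : act 6 n193317 = n101449 := d12_2 F389201 D193317 (iv5 D101449) (iv6 F156126) F389202
def n193318 : Q := act 0 n101449
theorem D193318 : act 0 n101449 = n193318 := rfl
def n193319 : Q := act 1 n101449
theorem D193319 : act 1 n101449 = n193319 := rfl
def n193320 : Q := act 4 n101449
theorem D193320 : act 4 n101449 = n193320 := rfl
theorem F389451 : act 3 n193320 = n190301 := d5_1 D193320 (iv4 D190301) (iv3 D95822) (iv4 F291198) (iv3 F156259)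
def n193321 : Q := act 0 n101454
theorem D193321 : act 0 n101454 = n193321 := rfl
theorem F389452 : act 5 n193321 = n142136 := d17_1 D193321 (iv1 F225169) D142158 (iv4 F360806) D187272 F369669 (iv5 F379328) (iv0 D190303) F366555
theorem F389453 : act 4 n193321 = n174681 := d18_1 D193321 (iv1 F381472) F381468 (iv5 D154706) F110066 (iv0 F199423) (iv4 F206001) (iv0 F264248) (iv5 F366554)
theorem F389454 : act 1 n104350 = n193321 := d18_6 F344666 F119314 D78148 (iv4 F340309) F340350 (iv4 F352715) F389453 (iv0 F378043) F147380
def n193322 : Q := act 1 n101454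
theorem D193322 : act 1 n101454 = n193322 := rfl
theorem F389455 : act 1 n193322 = n104350 := d15_1 D193322 (iv7 F381479) F381480
theorem F389456 : act 5 n193322 = n142012 := d17_7 (iv1 D31088) (iv5 F318568) D36738 D80529 D167809 (iv5 F366554) D193322 F348343 (iv4 D66650)
theorem F389457 : act 4 n193322 = n190196 := d18_7 (iv1 F378040) F378042 (iv1 D128003) (iv4 F352717) (iv5 F147505) F366555 D193322 F381471 F381469
theorem F389458 : act 3 n190195 = n190309 := d20_3 F389457 (iv1 D190196) (iv4 F379056) (iv1 D190309) (iv3 D95826) (iv4 D44748) (iv1 F290788) D48290 D104350 (iv1 F389455)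
theorem F389459 : act 5 n190309 = n193265 := d6_2 F379057 F389458 (iv3 F389342)
theorem F389460 : act 6 n190309 = n190194 := d7_2 D190195 F389458 (iv3 D190194)
def n193323 : Q := act 7 n101454
theorem D193323 : act 7 n101454 = n193323 := rfl
theorem F389461 : act 2 n193323 = n104350 := d4_1 D193323 (iv7 F381479) F381480
theorem F389462 : act 4 n193323 = n190304 := d11_1 D193323 (iv7 D190304) F366555
theorem F389463 : act 5 n193323 = n127928 := d13_1 D193323 (iv7 F264246) (iv5 F366554)
def n193324 : Q := act 0 n101456
theorem D193324 : act 0 n101456 = n193324 := rfl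
theorem F389464 : act 3 n193324 = n139592 := d20_5 (iv4 D103264) (iv1 F314176) F365232 F365233 D193324 F222732 (iv1 F167978) F111364 D115788 F359401
theorem F389465 : act 1 n128040 = n193324 := d15_0 (iv0 D193324) (iv7 F389228) F389224
theorem F389466 : act 7 n128037 = n193324 := d8_0 F389464 F222731 (iv3 F352723)
theorem F389467 : act 2 n193324 = n128036 := d15_3 (iv0 D128036) D128037 F389466
theorem F389468 : act 3 n128036 = n192479 := d0_2 (iv3 F389464) F389467 (iv2 F388259) (iv3 F388254) F222733
def n193325 : Q := act 1 n101456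
theorem D193325 : act 1 n101456 = n193325 := rfl
theorem F389469 : act 1 n193325 = n128040 := d15_1 D193325 (iv7 D128040) (iv2 F352718)
theorem F389470 : act 7 n193325 = n128036 := d15_2 (iv0 D193324) D193325 (iv2 F389467)
theorem F389471 : act 2 n128037 = n193325 := d4_3 F389470 (iv2 F389467) (iv7 F389466)
theorem F389472 : act 3 n192929 = n193325 := d8_3 F389470 F389468 F388260
def n193326 : Q := act 5 n101456
theorem D193326 : act 5 n101456 = n193326 := rfl
theorem F389473 : act 2 n193326 = n128039 := d2_1 D193326 (iv5 D128039) (iv2 F352718)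
theorem F389474 : act 3 n193326 = n188921 := d6_1 D193326 F379914 F365233
theorem F389475 : act 7 n193326 = n154777 := d13_2 F389228 D193326 (iv5 F389227)
def n193327 : Q := act 2 n101457
theorem D193327 : act 2 n101457 = n193327 := rfl
theorem F389476 : act 7 n101458 = n193327 := d15_2 (iv0 D101457) D101458 (iv2 D193327)
def n193328 : Q := act 3 n101457
theorem D193328 : act 3 n101457 = n193328 := rfl
theorem F389477 : act 0 n136979 = n193328 := d20_4 F388228 (iv1 F385231) (iv4 F385259) F385261 (iv3 D193328) (iv4 F375248) (iv1 D188954) D188955 F375251 D192920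
def n193329 : Q := act 6 n101457
theorem D193329 : act 6 n101457 = n193329 := rfl
theorem F389478 : act 5 n193329 = n193133 := d12_1 D193329 (iv6 F388859) F231112 D154529 (iv5 F357264)
theorem F389479 : act 0 n137177 = n193329 := d21_4 F155968 D186845 (iv5 F368237) (iv6 F368240) (iv6 D193329) F357264 F357263 F357256 (iv6 F335438) F357253
def n193330 : Q := act 7 n101457
theorem D193330 : act 7 n101457 = n193330 := rfl
theorem F389480 : act 2 n193330 = n101458 := d4_1 D193330 F389476 (iv2 D193327)
def n193331 : Q := act 3 n101458
theorem D193331 : act 3 n101458 = n193331 := rfl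
theorem F389481 : act 4 n193331 = n152345 := d20_6 (iv4 D70976) F78811 D76249 (iv3 F346614) (iv1 F352725) D193331 (iv1 D152345) (iv4 F186772) (iv3 D118733) (iv1 F107523)
theorem F389482 : act 0 n136939 = n193331 := d20_10 F389481 (iv1 D152345) (iv4 F186772) (iv3 D118733) (iv1 F107523) D150576 F237091 (iv1 F362164) (iv4 D136940) D136939
def n193332 : Q := act 5 n101458
theorem D193332 : act 5 n101458 = n193332 := rfl
theorem F389483 : act 6 n193332 = n185061 := d21_3 (iv5 F248364) (iv1 F352725) D193332 (iv1 F358588) (iv6 F358592) (iv5 F386099) (iv1 F386101) F351163 (iv6 D185297) (iv1 F310372)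
theorem F389484 : act 0 n154405 = n193332 := d21_10 (iv5 D193332) (iv1 D101458) F74485 (iv6 D41199) (iv1 F61957) D87712 (iv5 F136964) F357259 (iv5 D154404) D154405
theorem F389485 : act 1 n185088 = n193332 := d15_0 (iv0 F389484) F358621 (iv2 F337979)
def n193333 : Q := act 6 n101458
theorem D193333 : act 6 n101458 = n193333 := rfl
theorem F389486 : act 0 n193333 = n135957 := d21_10 F220885 (iv1 F349685) (iv5 F345466) F345467 (iv1 F357279) F335438 (iv5 F357256) F389484 (iv5 D193332) D193333
theorem F389487 : act 1 n193333 = n137126 := d15_1 (iv0 F389486) (iv7 F223846) F223844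
def n193334 : Q := act 5 n101459
theorem D193334 : act 5 n101459 = n193334 := rfl
theorem F389488 : act 2 n193334 = n101474 := d2_1 D193334 (iv5 D101474) (iv2 F184745)
theorem F389489 : act 7 n193334 = n101479 := d13_2 (iv7 F184746) D193334 (iv5 D101479)
theorem F389490 : act 0 n193334 = n123620 := d18_0 F365802 (iv1 F374923) (iv4 D153971) (iv5 D72863) (iv4 F109328) (iv0 F306724) F156294 F156283 D193334
theorem F389491 : act 4 n187678 = n193334 := d17_9 F389490 (iv5 F383236) F383238 (iv5 F304190) F328115 (iv5 F387782) (iv0 D192789) (iv5 F367264) D187678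
theorem F389492 : act 1 n193334 = n123619 := d15_1 (iv0 F389490) (iv7 F374921) F374764
def n193335 : Q := act 1 n101461
theorem D193335 : act 1 n101461 = n193335 := rfl
theorem F389493 : act 1 n193335 = n101484 := d15_1 D193335 (iv7 D101484) (iv2 F156278)
theorem F389494 : act 7 n193335 = n101481 := d15_2 (iv0 F365870) D193335 (iv2 F345492)
theorem F389495 : act 3 n122304 = n193335 := d20_3 (iv4 F79250) D108417 (iv4 F327854) (iv1 D193335) F156279 (iv4 F337831) (iv1 D59617) (iv4 F94028) (iv3 F324675) F100852
theorem F389496 : act 5 n158578 = n193335 := d21_6 (iv5 F64250) (iv1 D22290) D22292 D46507 (iv1 F205695) D158578 (iv1 D193335) (iv5 D101461) (iv6 D47213) (iv1 F64246)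
theorem F389497 : act 2 n193335 = n101482 := d2_1 F389496 (iv5 F366668) (iv2 F358457)
theorem F389498 : act 4 n193335 = n135225 := d5_2 (iv4 F327854) F389495 (iv3 D135225) (iv4 F164154) (iv3 F167621)
def n193336 : Q := act 4 n101461
theorem D193336 : act 4 n101461 = n193336 := rfl
theorem F389499 : act 2 n193336 = n101483 := d1_1 D193336 (iv4 D101483) (iv2 F156278)
def n193337 : Q := act 7 n101461
theorem D193337 : act 7 n101461 = n193337 := rfl
theorem F389500 : act 2 n193337 = n101484 := d4_1 D193337 (iv7 D101484) (iv2 F156278)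
theorem F389501 : act 3 n193337 = n128432 := d8_1 D193337 F206567 (iv3 F156279)
theorem F389502 : act 5 n193337 = n101462 := d13_1 D193337 (iv7 D101462) D101461
theorem F389503 : act 6 n193337 = n108516 := d14_1 D193337 F207232 D135356 F357392 F270426
theorem F389504 : act 1 n101482 = n193337 := d15_1 D101482 (iv7 D193337) F156278
theorem F389505 : act 1 n193337 = n101481 := d15_1 F389504 (iv7 F389494) F389497
def n193338 : Q := act 5 n101464
theorem D193338 : act 5 n101464 = n193338 := rfl
theorem F389506 : act 6 n193338 = n186860 := d12_2 D101464 D193338 (iv5 D186860) (iv6 D89315) (iv5 F305100)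
theorem F389507 : act 4 n193338 = n177451 := d16_6 F264148 D167781 F363865 F363861 (iv4 F156288) D193338 F357893 F354770 F363869
theorem F389508 : act 1 n193338 = n112575 := d17_6 F345839 F339096 D177667 F363861 (iv4 F156288) D193338 (iv5 F355873) (iv0 F355875) (iv4 F240857)
def n193339 : Q := act 5 n101468
theorem D193339 : act 5 n101468 = n193339 := rfl
theorem F389509 : act 2 n193339 = n153910 := d2_1 D193339 (iv5 D153910) (iv2 F306404)
theorem F389510 : act 7 n193339 = n174516 := d13_2 F334420 D193339 (iv5 F343420)
theorem F389511 : act 0 n193339 = n103201 := d18_0 (iv4 F159194) F346768 (iv4 D176112) (iv5 D84010) F184748 (iv0 D47218) (iv4 F74491) D101468 D193339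
def n193340 : Q := act 0 n101469
theorem D193340 : act 0 n101469 = n193340 := rfl
def n193341 : Q := act 1 n101469
theorem D193341 : act 1 n101469 = n193341 := rfl
theorem F389512 : act 5 n135402 = n193341 := d21_6 F301492 (iv1 F300388) F123361 (iv6 F314333) (iv1 F217575) D135402 (iv1 D193341) (iv5 D101469) (iv6 D47217) D47214
theorem F389513 : act 3 n193341 = n135408 := d6_1 F389512 (iv5 D135408) (iv3 F217640)
theorem F389514 : act 6 n106439 = n193341 := d7_0 F389513 (iv6 F359110) F359108
theorem F389515 : act 4 n193341 = n106441 := d10_1 F389514 (iv6 D106441) D106439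
theorem F389516 : act 0 n106441 = n111043 := d20_7 F203797 (iv1 F93798) D59563 D126911 (iv1 F383588) (iv3 F389513) F389515 F331928 F331924 (iv1 F203800)
def n193342 : Q := act 4 n101469
theorem D193342 : act 4 n101469 = n193342 := rfl
theorem F389517 : act 6 n193342 = n175001 := d10_2 (iv6 F343421) D193342 F273904
theorem F389518 : act 0 n193342 = n176162 := d20_7 (iv4 F327389) (iv1 D99775) (iv4 F327397) D166222 F365702 F271057 D193342 (iv4 D176162) (iv3 D84027) (iv1 F126929)
def n193343 : Q := act 7 n101469
theorem D193343 : act 7 n101469 = n193343 := rfl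
theorem F389519 : act 5 n193343 = n101470 := d13_1 D193343 (iv7 D101470) D101469
def n193344 : Q := act 1 n101474
theorem D193344 : act 1 n101474 = n193344 := rfl
theorem F389520 : act 1 n193344 = n101479 := d15_1 D193344 (iv7 F389489) F389488
theorem F389521 : act 7 n193344 = n123620 := d15_2 F374767 D193344 (iv2 F374764)
theorem F389522 : act 2 n123619 = n193344 := d4_3 F389521 (iv2 F374764) F374921
theorem F389523 : act 3 n101505 = n193344 := d8_3 F389521 (iv3 F374926) (iv7 F368061)
theorem F389524 : act 4 n187764 = n193344 := d11_3 F389521 F365802 D187764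
def n193345 : Q := act 5 n101477
theorem D193345 : act 5 n101477 = n193345 := rfl
theorem F389525 : act 2 n193345 = n123068 := d2_1 D193345 (iv5 D123068) (iv2 F304182)
theorem F389526 : act 3 n193345 = n101479 := d6_1 D193345 (iv5 D101479) D101477
theorem F389527 : act 6 n193345 = n134105 := d12_2 (iv6 F304184) D193345 F361791 (iv6 D148151) (iv5 F314109)
def n193346 : Q := act 6 n101479
theorem D193346 : act 6 n101479 = n193346 := rfl
theorem F389528 : act 2 n193346 = n123607 := d3_1 D193346 F198025 (iv2 F304602)
theorem F389529 : act 3 n193346 = n134105 := d7_1 D193346 (iv6 F389527) F389526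
theorem F389530 : act 4 n193346 = n130662 := d10_1 D193346 (iv6 F374724) F374727
theorem F389531 : act 5 n193346 = n114104 := d12_1 D193346 (iv6 D114104) (iv5 F83235) F304603 D101479
theorem F389532 : act 0 n193346 = n134112 := d21_4 F389502 (iv1 F156284) D101479 D193346 F364337 (iv5 D64570) (iv1 F99559) (iv5 F218832) (iv6 F345491) (iv1 F389505)
theorem F389533 : act 0 n134111 = n193346 := d21_4 F361754 F295181 (iv5 F380112) F380113 (iv6 D193346) (iv5 D101479) (iv1 D47219) D47220 (iv6 F127124) D172226
theorem F389534 : act 7 n193346 = n134113 := d15_2 D134112 (iv0 F389532) (iv2 D134113)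
def n193347 : Q := act 4 n101482
theorem D193347 : act 4 n101482 = n193347 := rfl
theorem F389535 : act 2 n193347 = n135225 := d1_1 D193347 (iv4 F389498) F389497
theorem F389536 : act 7 n193347 = n159853 := d11_2 (iv7 F362200) D193347 F252003
theorem F389537 : act 3 n159857 = n193347 := d8_3 F389536 F252002 D159857
theorem F389538 : act 5 n192790 = n193347 := d13_3 F389536 F252004 (iv7 F387789)
theorem F389539 : act 6 n187670 = n193347 := d14_5 F389536 (iv6 D159853) F114698 D148776 (iv7 F374720)
theorem F389540 : act 1 n193347 = n130937 := d17_8 (iv1 F364936) F285987 F383302 F383301 F371169 F367264 D192790 F389538 (iv4 F358068)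
def n193348 : Q := act 6 n101482
theorem D193348 : act 6 n101482 = n193348 := rfl
theorem F389541 : act 4 n193348 = n187670 := d10_1 D193348 F389539 (iv4 D193347)
theorem F389542 : act 0 n104412 = n193348 := d21_4 (iv5 F292676) F292673 (iv5 D104411) D104412 (iv6 D193348) (iv5 F366668) F383237 F383236 (iv6 F365801) (iv1 F143039)
def n193349 : Q := act 0 n101483
theorem D193349 : act 0 n101483 = n193349 := rfl
def n193350 : Q := act 1 n101483
theorem D193350 : act 1 n101483 = n193350 := rfl
def n193351 : Q := act 5 n101483
theorem D193351 : act 5 n101483 = n193351 := rfl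
def n193352 : Q := act 5 n101494
theorem D193352 : act 5 n101494 = n193352 := rfl
theorem F389543 : act 2 n193352 = n139768 := d2_1 D193352 F361511 F307621
theorem F389544 : act 3 n193352 = n153561 := d6_1 D193352 (iv5 F340755) (iv3 F267241)
theorem F389545 : act 6 n193352 = n120000 := d12_2 (iv6 F304752) D193352 F342592 F342588 (iv5 F307795)
theorem F389546 : act 7 n193352 = n124932 := d13_2 (iv7 F304753) D193352 F307714
theorem F389547 : act 0 n148599 = n193352 := d19_0 (iv5 D193352) (iv4 D101494) (iv3 D47223) (iv1 F64290) (iv5 F136886) (iv4 F368077) F368076 F337859 F341955 F297643 F296825 (iv1 D41437) (iv5 D19514) F14330 (iv3 F29537) D38523 D83557 (iv4 F323725) (iv3 F233351)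
theorem F389548 : act 1 n117043 = n193352 := d15_1 (iv0 F350007) F389546 (iv2 F232995)
def n193353 : Q := act 0 n101495
theorem D193353 : act 0 n101495 = n193353 := rfl
theorem F389549 : act 1 n123668 = n193353 := d15_0 (iv0 D193353) (iv7 F368071) F368068
def n193354 : Q := act 1 n101495
theorem D193354 : act 1 n101495 = n193354 := rfl
theorem F389550 : act 1 n193354 = n123668 := d15_1 D193354 (iv7 F385393) F385391
theorem F389551 : act 3 n193354 = n188756 := d20_5 D154019 F242046 (iv4 D123679) (iv3 F198091) (iv1 F389550) (iv4 D188756) F364171 F360921 F285142 (iv1 F308299)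
theorem F389552 : act 4 n187768 = n193354 := d5_0 F389551 (iv4 D188756) (iv3 D92748) (iv4 F139359) D187768
def n193355 : Q := act 6 n101504
theorem D193355 : act 6 n101504 = n193355 := rfl
theorem F389553 : act 2 n193355 = n187686 := d3_1 D193355 F374927 (iv2 F368060)
theorem F389554 : act 3 n193355 = n137393 := d7_1 D193355 (iv6 F373064) (iv3 F352203)
theorem F389555 : act 5 n193355 = n186879 := d12_1 D193355 (iv6 D186879) (iv5 D89346) D89347 (iv5 F156315)
theorem F389556 : act 0 n137553 = n193355 := d21_4 (iv5 D64476) (iv1 F99444) F220891 D137553 (iv6 D193355) F156315 (iv1 F274660) (iv5 F155795) (iv6 F345436) (iv1 F218736)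
theorem F389557 : act 1 n137553 = n188762 := d15_1 (iv0 F389556) F374768 (iv2 F389553)
def n193356 : Q := act 4 n101505
theorem D193356 : act 4 n101505 = n193356 := rfl
theorem F389558 : act 2 n193356 = n191540 := d1_1 D193356 F383720 (iv2 F368066)
theorem F389559 : act 6 n193356 = n191619 := d10_2 F368067 D193356 F384039
theorem F389560 : act 7 n193356 = n191539 := d11_2 (iv7 F368061) D193356 F383715
theorem F389561 : act 0 n193356 = n186691 := d18_2 (iv1 F156316) D193356 (iv4 D186691) (iv5 D89046) (iv4 F184760) (iv0 D38033) F29375 D22716 D47230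
theorem F389562 : act 1 n193356 = n186693 := d18_6 F249712 (iv4 F272839) (iv1 F387323) F387326 F385182 D193356 (iv4 D186693) F343479 F304693
def n193357 : Q := act 3 n101506
theorem D193357 : act 3 n101506 = n193357 := rfl
theorem F389563 : act 6 n193357 = n137701 := d7_2 F352515 D193357 F220913
def n193358 : Q := act 1 n101507
theorem D193358 : act 1 n101507 = n193358 := rfl
theorem F389564 : act 7 n193358 = n190543 := d15_2 (iv0 F384175) D193358 (iv2 F384173)
theorem F389565 : act 5 n103453 = n193358 := d21_0 (iv1 D193358) (iv5 F385080) (iv6 D191980) (iv1 D99448) F73446 (iv5 D22287) (iv1 F66083) D23096 D47935 D103453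
theorem F389566 : act 2 n193358 = n192508 := d2_1 F389565 (iv5 D192508) F380076
def n193359 : Q := act 3 n101522
theorem D193359 : act 3 n101522 = n193359 := rfl
theorem F389567 : act 4 n193359 = n154234 := d5_2 D101522 D193359 (iv3 D154234) (iv4 D73076) F306913
theorem F389568 : act 0 n193359 = n113313 := d19_4 (iv1 F64289) D47230 D101522 D193359 (iv5 D113313) (iv4 F176506) F176505 F93076 D110661 (iv4 F331698) F322640 (iv1 D69525) (iv5 D32279) F41661 D48931 D105848 F184613 F109812 F184610
def n193360 : Q := act 4 n101527
theorem D193360 : act 4 n101527 = n193360 := rfl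
theorem F389569 : act 3 n193360 = n134235 := d5_1 D193360 (iv4 F361734) (iv3 F361733) F249715 D101527
theorem F389570 : act 6 n193360 = n137992 := d10_2 (iv6 F349702) D193360 (iv4 F221256)
theorem F389571 : act 7 n193360 = n190712 := d11_2 F368073 D193360 F380747
def n193361 : Q := act 5 n101527
theorem D193361 : act 5 n101527 = n193361 := rfl
theorem F389572 : act 2 n193361 = n157603 := d2_1 D193361 (iv5 F349694) F349693
theorem F389573 : act 3 n193361 = n101529 := d6_1 D193361 (iv5 D101529) D101527
theorem F389574 : act 6 n193361 = n152064 := d12_2 (iv6 F349702) D193361 F339099 (iv6 D137529) (iv5 F221257)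
theorem F389575 : act 7 n193361 = n192005 := d13_2 F368073 D193361 F385170
theorem F389576 : act 4 n193361 = n152066 := d17_4 F332408 D175477 F349703 D193361 F239078 F238093 (iv5 F210129) F307618 F108068
theorem F389577 : act 1 n193361 = n140008 := d17_8 (iv1 F342392) F223132 F312220 F313276 (iv4 F332411) (iv5 F385395) F385397 D193361 (iv4 D140008)
def n193362 : Q := act 0 n101532
theorem D193362 : act 0 n101532 = n193362 := rfl
theorem F389578 : act 5 n193362 = n190547 := d17_1 D193362 (iv1 F380092) F155858 F345229 (iv5 D86140) D86138 (iv5 F334358) F334356 F345251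
theorem F389579 : act 4 n193362 = n180376 := d18_3 F280667 F345251 D193362 (iv5 D180376) (iv4 D86149) F92771 (iv4 F160842) F160844 D180351
theorem F389580 : act 2 n193080 = n193362 := d1_3 F389579 F358982 (iv4 F388687)
theorem F389581 : act 7 n193082 = n193362 := d15_2 F388689 (iv0 F388694) (iv2 F389580)
def n193363 : Q := act 1 n101532
theorem D193363 : act 1 n101532 = n193363 := rfl
theorem F389582 : act 7 n193363 = n193080 := d15_2 (iv0 D193362) D193363 F389580
theorem F389583 : act 5 n193363 = n190548 := d17_7 (iv1 F281422) (iv5 D157924) (iv1 D75230) D75232 (iv4 F345253) (iv5 F156342) D193363 F380096 F345228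
theorem F389584 : act 2 n193082 = n193363 := d2_3 F389583 (iv2 F380099) D193082
theorem F389585 : act 4 n180366 = n193363 := d9_15 F389583 F380098 (iv5 D157975) (iv4 D75244) F256340 D86149 D180376 (iv4 F389579) F389578 F380091 (iv5 D157955) (iv4 D75239) (iv5 F256335) D86144 D180366
theorem F389586 : act 6 n191701 = n193363 := d21_5 F70468 (iv1 F66257) D46121 D98664 D191701 F389583 (iv1 D190548) (iv5 D96151) (iv6 D44868) D44865
def n193364 : Q := act 3 n101534
theorem D193364 : act 3 n101534 = n193364 := rfl
theorem F389587 : act 7 n193364 = n191559 := d8_2 (iv7 F272848) D193364 (iv3 D191559)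
def n193365 : Q := act 5 n101534
theorem D193365 : act 5 n101534 = n193365 := rfl
theorem F389588 : act 2 n193365 = n113326 := d2_1 D193365 F352187 (iv2 F272849)
theorem F389589 : act 4 n193365 = n172163 := d9_1 D193365 (iv5 D172163) (iv4 F303450) D172866 (iv4 F272840) (iv5 F272842) (iv4 F272844) F352189 F202060 F332154 (iv4 F303451) (iv5 F128288) F195694 F153017 F184768
theorem F389590 : act 7 n193365 = n124615 := d13_2 (iv7 F272848) D193365 F352205
theorem F389591 : act 0 n193365 = n124617 := d17_2 (iv1 F368080) D193365 (iv5 F383714) F383715 F368058 F338118 F74496 F136888 (iv4 F368077)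
theorem F389592 : act 1 n193365 = n124619 := d17_6 (iv1 F151922) D191538 F383709 F153017 F184768 D193365 F383721 F383718 (iv4 D98543)
def n193366 : Q := act 6 n101534
theorem D193366 : act 6 n101534 = n193366 := rfl
theorem F389593 : act 2 n193366 = n191567 := d3_1 D193366 (iv6 D191567) (iv2 F272849)
theorem F389594 : act 4 n193366 = n186697 := d10_1 D193366 (iv6 D186697) F184768
theorem F389595 : act 7 n193366 = n180672 := d14_2 (iv7 F272848) D193366 (iv6 F383840) (iv7 F383842) (iv6 D191560)
theorem F389596 : act 5 n159322 = n193366 := d21_2 F384167 F250793 (iv6 D193366) (iv1 D101534) (iv6 F127126) (iv5 F136900) (iv1 F136901) F136769 D186703 (iv1 F384183)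
theorem F389597 : act 0 n193366 = n180376 := d17_2 F250793 F389596 (iv5 D180376) (iv4 D86149) (iv5 F256340) F60693 F60689 F92782 D125395
theorem F389598 : act 1 n193366 = n180366 := d17_6 (iv1 D121758) (iv5 F194346) (iv1 F258035) (iv5 F250794) D159322 F389596 (iv5 D180366) D180364 (iv4 F280685)
def n193367 : Q := act 0 n101535
theorem D193367 : act 0 n101535 = n193367 := rfl
theorem F389599 : act 1 n128986 = n193367 := d15_0 (iv0 D193367) F361245 F218463
def n193368 : Q := act 1 n101535
theorem D193368 : act 1 n101535 = n193368 := rfl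
def n193369 : Q := act 2 n101535
theorem D193369 : act 2 n101535 = n193369 := rfl
theorem F389600 : act 3 n193369 = n129002 := d0_2 D101535 D193369 F361748 F342194 F136883
theorem F389601 : act 7 n193369 = n128986 := d4_2 (iv7 F361245) D193369 (iv2 F218463)
theorem F389602 : act 1 n193368 = n128986 := d15_1 D193368 (iv7 F389601) (iv2 D193369)
def n193370 : Q := act 0 n101536
theorem D193370 : act 0 n101536 = n193370 := rfl
theorem F389603 : act 5 n193370 = n186691 := d17_1 D193370 F367694 (iv5 D124618) F91977 D58251 D124663 (iv5 F336440) (iv0 F323502) (iv4 F361239)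
theorem F389604 : act 4 n193370 = n163127 := d18_1 D193370 F352337 (iv4 F347466) (iv5 D128844) F326583 F136729 (iv4 F272844) (iv0 D101533) D101536
theorem F389605 : act 1 n166162 = n193370 := d15_0 (iv0 D193370) (iv7 F383325) F383321
theorem F389606 : act 3 n125740 = n193370 := d19_19 (iv1 F389605) (iv5 F368078) F368077 (iv3 F332697) D135305 F332699 F155745 F105537 F190152 (iv5 F87264) D119877 (iv3 F334600) F331699 (iv5 D136742) F100087 F48693 D49458 D107067 (iv4 F202232)
theorem F389607 : act 6 n193370 = n125738 := d7_2 D125740 F389606 (iv3 D125738)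
theorem F389608 : act 7 n193370 = n191554 := d8_2 (iv7 F202233) F389606 F383788
theorem F389609 : act 2 n193370 = n177443 := d15_3 F383327 (iv0 F383789) (iv7 F389608)
def n193371 : Q := act 1 n101536
theorem D193371 : act 1 n101536 = n193371 := rfl
theorem F389610 : act 1 n193371 = n166162 := d15_1 D193371 (iv7 F300044) F361240
theorem F389611 : act 7 n193371 = n177443 := d15_2 (iv0 D193370) D193371 (iv2 F389609)
theorem F389612 : act 5 n193371 = n186693 := d17_7 (iv1 F156319) (iv5 D47230) (iv1 D22716) D22717 D47234 D101536 D193371 F367701 F352184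
theorem F389613 : act 4 n193371 = n172170 := d18_7 D82449 (iv4 F303450) (iv1 F244453) F298233 F334608 (iv4 F361239) D193371 (iv0 D172170) (iv5 D82451)
theorem F389614 : act 6 n166583 = n193371 := d21_3 D163442 F376770 (iv5 F376771) (iv1 D193371) (iv6 F361237) F345747 D129004 (iv5 F333038) (iv6 F334372) F334369
theorem F389615 : act 2 n193371 = n191554 := d3_1 F389614 (iv6 F383791) F358050
theorem F389616 : act 3 n193371 = n190396 := d7_1 F389614 F379665 F376773
def n193372 : Q := act 5 n101539
theorem D193372 : act 5 n101539 = n193372 := rfl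
theorem F389617 : act 2 n193372 = n101543 := d2_1 D193372 (iv5 D101543) (iv2 F190877)
theorem F389618 : act 3 n193372 = n135315 := d6_1 D193372 (iv5 D135315) F317529
theorem F389619 : act 7 n193372 = n101548 := d13_2 (iv7 F190878) D193372 (iv5 D101548)
theorem F389620 : act 0 n193372 = n186859 := d17_2 D101539 D193372 (iv5 D186859) F310490 (iv5 F310491) (iv0 D58542) (iv5 D27851) F155111 (iv4 F74499)
def n193373 : Q := act 0 n101540
theorem D193373 : act 0 n101540 = n193373 := rfl
theorem F389621 : act 5 n193373 = n150235 := d17_3 (iv1 F155116) D101540 D193373 F315124 F208903 F214159 F312279 F232423 D58356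
theorem F389622 : act 1 n101553 = n193373 := d15_0 (iv0 D193373) F156347 (iv2 F156351)
theorem F389623 : act 2 n101550 = n193373 := d2_3 F389621 F368314 F368312
theorem F389624 : act 3 n152158 = n193373 := d6_3 F389621 F315123 D152158
theorem F389625 : act 7 n101551 = n193373 := d13_0 F389621 F315125 F312670
def n193374 : Q := act 1 n101540
theorem D193374 : act 1 n101540 = n193374 := rfl
theorem F389626 : act 1 n193374 = n101553 := d15_1 D193374 (iv7 D101553) (iv2 F156346)
theorem F389627 : act 7 n193374 = n101550 := d15_2 (iv0 D193373) D193374 F389623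
theorem F389628 : act 5 n193374 = n150085 := d17_7 (iv1 D49869) (iv5 F38222) (iv1 F167153) (iv5 F313760) (iv4 F74499) D101540 D193374 (iv0 F312662) (iv4 D107982)
theorem F389629 : act 3 n191748 = n193374 := d19_19 (iv1 D193374) (iv5 D101540) F74499 (iv3 F85882) F155113 F312533 D156514 (iv3 F247018) F318054 (iv5 D178650) (iv4 D85093) (iv3 F190536) (iv1 F92210) (iv5 D27785) D27784 D58359 F128808 D98887 D191748
theorem F389630 : act 2 n101551 = n193374 := d2_3 F389628 (iv2 F312669) F312670
def n193375 : Q := act 4 n101540
theorem D193375 : act 4 n101540 = n193375 := rfl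
theorem F389631 : act 2 n193375 = n101552 := d1_1 D193375 (iv4 D101552) (iv2 F156346)
theorem F389632 : act 6 n193375 = n189100 := d10_2 F295438 D193375 (iv4 D189100)
theorem F389633 : act 7 n193375 = n179884 := d11_2 (iv7 F156347) D193375 (iv4 D179884)
theorem F389634 : act 5 n193375 = n108454 := d16_7 F79396 D108110 (iv4 F167191) (iv5 F313760) (iv4 F74499) D101540 D193375 (iv7 F167885) (iv2 D108557)
def n193376 : Q := act 1 n101543
theorem D193376 : act 1 n101543 = n193376 := rfl
theorem F389635 : act 1 n193376 = n101548 := d15_1 D193376 (iv7 F389619) F389617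
theorem F389636 : act 7 n193376 = n186859 := d15_2 F236436 D193376 F368317
theorem F389637 : act 5 n193376 = n107982 := d17_7 F222367 (iv5 F314335) (iv1 F236027) (iv5 D124734) (iv4 F155125) D101543 D193376 (iv0 F315122) F315124
theorem F389638 : act 4 n108489 = n193376 := d20_0 (iv1 D193376) (iv4 F387490) F387489 (iv1 F384963) F384967 F168622 (iv1 F337448) (iv4 F343111) F343110 (iv1 F351245)
theorem F389639 : act 3 n101560 = n193376 := d20_3 (iv4 F332680) F352563 (iv4 F317327) (iv1 D193376) (iv3 F387185) F387186 F384339 F384337 (iv3 F273611) F304507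
theorem F389640 : act 6 n136818 = n193376 := d21_9 (iv5 D101543) F155124 D85942 (iv6 F347398) F338471 F220049 (iv5 D64340) (iv1 F169537) D136818 (iv1 D193376)
def n193377 : Q := act 6 n101543
theorem D193377 : act 6 n101543 = n193377 := rfl
theorem F389641 : act 5 n193377 = n136491 := d12_1 D193377 (iv6 F388443) F236267 (iv6 D101544) D101543
def n193378 : Q := act 5 n101546
theorem D193378 : act 5 n101546 = n193378 := rfl
theorem F389642 : act 2 n193378 = n135364 := d2_1 D193378 (iv5 D135364) (iv2 F319764)
theorem F389643 : act 3 n193378 = n101548 := d6_1 D193378 (iv5 D101548) D101546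
theorem F389644 : act 7 n193378 = n135315 := d13_2 (iv7 F319766) D193378 (iv5 D135315)
def n193379 : Q := act 5 n101549
theorem D193379 : act 5 n101549 = n193379 := rfl
theorem F389645 : act 0 n193379 = n153542 := d17_2 F279496 D193379 (iv5 D153542) F190298 (iv5 F155444) (iv0 D85985) (iv5 D39765) D39764 D85982
theorem F389646 : act 1 n193379 = n153541 := d17_6 D33510 D72603 D153550 F241347 F200479 D193379 (iv5 D153541) (iv0 D72596) F52831
def n193380 : Q := act 3 n101550
theorem D193380 : act 3 n101550 = n193380 := rfl
theorem F389647 : act 2 n193380 = n192582 := d0_1 D193380 F387164 (iv2 F239220) F389624 (iv2 F389623)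
theorem F389648 : act 5 n193380 = n192563 := d6_2 F368312 D193380 F387085
theorem F389649 : act 7 n193380 = n191748 := d8_2 F389627 D193380 F389629
theorem F389650 : act 4 n193380 = n191749 := d20_6 (iv4 F295428) (iv1 D93147) (iv4 F295146) (iv3 F74500) D101550 D193380 (iv1 F384392) F384389 F152454 (iv1 F136530)
def n193381 : Q := act 4 n101550
theorem D193381 : act 4 n101550 = n193381 := rfl
theorem F389651 : act 1 n193381 = n183012 := d18_6 (iv1 F312685) (iv4 F186834) (iv1 F313628) (iv4 F368313) F368312 D193381 (iv4 D183012) (iv0 F312696) (iv5 D107954)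
def n193382 : Q := act 6 n101550
theorem D193382 : act 6 n101550 = n193382 := rfl
def n193383 : Q := act 4 n101551
theorem D193383 : act 4 n101551 = n193383 := rfl
theorem F389652 : act 5 n193383 = n156313 := d16_1 D193383 F245642 F167384 F245503 D139075 (iv4 F368313) F368312 (iv7 F389627) (iv2 F389630)
theorem F389653 : act 0 n193383 = n183012 := d18_2 (iv1 F156350) D193383 (iv4 D183012) (iv5 D87369) F61727 (iv0 F232419) F190879 F155126 D85942
theorem F389654 : act 3 n138754 = n193383 := d20_5 F101261 F98704 F98598 (iv3 F100928) D138754 (iv4 D193383) (iv1 D101551) D101552 F343122 (iv1 F101264)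
def n193384 : Q := act 6 n101551
theorem D193384 : act 6 n101551 = n193384 := rfl
def n193385 : Q := act 0 n101552
theorem D193385 : act 0 n101552 = n193385 := rfl
theorem F389655 : act 4 n193385 = n108279 := d18_1 D193385 F315172 D179730 (iv5 F343130) (iv4 F343128) F315168 (iv4 F343125) (iv0 D108452) (iv5 F343123)
theorem F389656 : act 3 n193385 = n187818 := d20_5 F100843 (iv1 F98815) (iv4 F79276) (iv3 F343122) D193385 F371602 D187819 (iv4 F371604) F167827 (iv1 F100845)
theorem F389657 : act 1 n179884 = n193385 := d15_0 (iv0 D193385) F343124 F343145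
theorem F389658 : act 6 n187816 = n193385 := d7_0 F389656 (iv6 D187818) D187816
def n193386 : Q := act 1 n101552
theorem D193386 : act 1 n101552 = n193386 := rfl
theorem F389659 : act 1 n193386 = n179884 := d15_1 D193386 (iv7 F389633) F389631
theorem F389660 : act 4 n193386 = n120541 := d18_7 (iv1 D39711) F30036 F155109 (iv4 F35294) D47239 D101552 D193386 F305539 (iv5 D85851)
theorem F389661 : act 5 n108143 = n193386 := d16_3 (iv4 F38171) D49947 D108143 F389660 (iv5 D120541) F303355 (iv5 F312658) F79078 (iv2 D24377)
def n193387 : Q := act 3 n101559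
theorem D193387 : act 3 n101559 = n193387 := rfl
theorem F389662 : act 2 n193387 = n175769 := d0_1 D193387 (iv3 F275196) (iv2 F368317) F368318 F156368
theorem F389663 : act 5 n193387 = n122798 := d6_2 (iv5 F156361) D193387 (iv3 F303371)
theorem F389664 : act 7 n193387 = n175770 := d8_2 F367982 D193387 (iv3 F367987)
theorem F389665 : act 0 n136480 = n193387 := d17_0 F389663 F300575 (iv5 F367931) F367932 (iv5 D102163) D102162 (iv5 F354511) (iv0 D136478) D136480
theorem F389666 : act 1 n170714 = n193387 := d17_6 F217819 (iv5 F334740) F334736 (iv5 D83045) (iv4 F125793) D170714 F389663 (iv0 F366674) (iv4 F366672)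
def n193388 : Q := act 4 n101559
theorem D193388 : act 4 n101559 = n193388 := rfl
theorem F389667 : act 2 n193388 = n128660 := d1_1 D193388 (iv4 F354757) F156368
theorem F389668 : act 5 n193388 = n128659 := d9_2 (iv5 F156361) D193388 F206957 D128719 (iv4 F354791) (iv5 F368331) F368330 (iv5 F156363) F317327 (iv5 F167604) F167603 D128593 (iv4 F345382) F270652 F270624
theorem F389669 : act 7 n193388 = n135173 := d11_2 F367982 D193388 (iv4 F367984)
theorem F389670 : act 0 n193388 = n135092 := d17_0 (iv5 D135092) (iv1 D63491) F323234 (iv4 F295146) (iv5 D22724) D22723 D47249 F156417 D193388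
theorem F389671 : act 1 n193388 = n135088 := d18_6 (iv1 D100106) (iv4 F154032) (iv1 F275041) F270624 (iv5 F156361) D193388 F354660 F286912 (iv5 F286903)
theorem F389672 : act 6 n191804 = n193388 := d21_9 (iv5 D135092) (iv1 D63491) F323234 (iv6 D43582) F294148 D46332 D99046 D191882 F384639 F389670
theorem F389673 : act 3 n135164 = n193388 := d0_0 F389667 F206958 F95125 D63518 D135164
def n193389 : Q := act 6 n101559
theorem D193389 : act 6 n101559 = n193389 := rfl
theorem F389674 : act 2 n193389 = n186863 := d3_1 D193389 F368339 F156368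
theorem F389675 : act 4 n193389 = n191804 := d10_1 D193389 F389672 (iv4 D193388)
theorem F389676 : act 5 n193389 = n154188 := d12_1 D193389 (iv6 D154188) F303370 D88842 (iv5 F156361)
theorem F389677 : act 7 n193389 = n189159 := d14_2 F367982 D193389 (iv6 D189159) (iv7 F295029) F367986
theorem F389678 : act 0 n188238 = n193389 := d21_7 F107995 (iv1 F90780) F307514 D89330 F342799 D154363 (iv5 F372782) F389676 (iv6 D154188) (iv1 F109574)
theorem F389679 : act 0 n188360 = n188237 := d21_1 D188360 (iv5 D188237) D188238 F389678 (iv6 D193389) F156361 F319335 (iv5 F319338) D186788 F373150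
def n193390 : Q := act 3 n101561
theorem D193390 : act 3 n101561 = n193390 := rfl
def n193391 : Q := act 6 n101561
theorem D193391 : act 6 n101561 = n193391 := rfl
theorem F389680 : act 4 n193391 = n101562 := d10_1 D193391 (iv6 D101562) D101561
theorem F389681 : act 0 n193391 = n189127 := d21_4 D93222 (iv1 F332683) (iv5 F352564) D193391 (iv6 D189127) D189126 F375838 (iv5 F375741) (iv6 D189098) (iv1 D93221)
theorem F389682 : act 0 n193389 = n193391 := d21_4 (iv5 F153173) (iv1 F156369) (iv5 F156361) D193389 (iv6 D193391) F352564 (iv1 D135296) (iv5 F332695) (iv6 F295432) (iv1 F136839)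
def n193392 : Q := act 1 n101562
theorem D193392 : act 1 n101562 = n193392 := rfl
theorem F389683 : act 1 n193392 = n188275 := d15_1 D193392 F372925 F368006
theorem F389684 : act 7 n193392 = n188160 := d15_2 (iv0 F366981) D193392 F380058
theorem F389685 : act 5 n193392 = n187579 := d17_7 (iv1 F370872) (iv5 F378260) (iv1 D140349) (iv5 F168619) F373149 (iv5 F373145) D193392 (iv0 D187579) (iv4 F370869)
theorem F389686 : act 6 n179776 = n193392 := d21_3 (iv5 F352555) F380086 (iv5 F380085) (iv1 D193392) (iv6 D101562) (iv5 D47244) (iv1 F64267) (iv5 F136843) F295271 (iv1 F143803)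
theorem F389687 : act 4 n193392 = n135194 := d10_1 F389686 F350737 D179776
theorem F389688 : act 2 n188155 = n193392 := d2_3 F389685 F380053 D188155
def n193393 : Q := act 7 n101562
theorem D193393 : act 7 n101562 = n193393 := rfl
theorem F389689 : act 2 n193393 = n188275 := d4_1 D193393 F372925 F368006
theorem F389690 : act 3 n193393 = n140580 := d8_1 D193393 (iv7 F383109) F383106
theorem F389691 : act 5 n193393 = n109185 := d13_1 D193393 (iv7 F373144) (iv5 F373145)
theorem F389692 : act 6 n193393 = n187598 := d14_1 D193393 F370968 F367120 F156441 D101562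
theorem F389693 : act 1 n188155 = n193393 := d15_1 (iv0 F372500) (iv7 D193393) (iv2 F368006)
theorem F389694 : act 1 n193393 = n188160 := d15_1 F389693 (iv7 F389684) (iv2 F389688)
def n193394 : Q := act 5 n101573
theorem D193394 : act 5 n101573 = n193394 := rfl
theorem F389695 : act 2 n193394 = n188272 := d2_1 D193394 (iv5 D188272) (iv2 F367121)
theorem F389696 : act 6 n193394 = n101575 := d12_2 D101573 D193394 (iv5 D101575) (iv6 D47250) D47249
theorem F389697 : act 7 n193394 = n188274 := d13_2 F367123 D193394 (iv5 D188274)
def n193395 : Q := act 4 n101575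
theorem D193395 : act 4 n101575 = n193395 := rfl
theorem F389698 : act 0 n193395 = n191447 := d17_0 F383497 F374050 (iv5 D186888) (iv4 D89350) (iv5 D41727) D41726 D89346 (iv0 F274661) D193395
theorem F389699 : act 1 n193395 = n191445 := d18_6 (iv1 D179819) F309572 (iv1 F249609) (iv4 F155181) D101575 D193395 (iv4 D191445) D191444 F383494
def n193396 : Q := act 4 n101582
theorem D193396 : act 4 n101582 = n193396 := rfl
theorem F389700 : act 2 n193396 = n151696 := d1_1 D193396 F238576 (iv2 F320825)
theorem F389701 : act 7 n193396 = n151699 := d11_2 (iv7 F320827) D193396 F238577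
theorem F389702 : act 5 n193396 = n151450 := d16_1 D193396 F238197 (iv5 D107894) F78781 (iv5 F52255) D71422 D151502 F238357 (iv2 F320825)
def n193397 : Q := act 6 n101582
theorem D193397 : act 6 n101582 = n193397 := rfl
theorem F389703 : act 2 n193397 = n152023 := d3_1 D193397 (iv6 D152023) (iv2 F320825)
theorem F389704 : act 3 n193397 = n101583 := d7_1 D193397 (iv6 D101583) D101582
theorem F389705 : act 5 n193397 = n192175 := d12_1 D193397 F385869 (iv5 D100920) (iv6 F318674) (iv5 F320826)
def n193398 : Q := act 0 n101583
theorem D193398 : act 0 n101583 = n193398 := rfl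
theorem F389706 : act 5 n193398 = n188685 := d17_1 D193398 (iv1 F374461) F143588 (iv4 F143874) F295030 F375886 (iv5 F375888) (iv0 F375891) F375740
theorem F389707 : act 2 n189066 = n193398 := d15_3 (iv0 D193398) (iv0 F374456) (iv7 F378696)
theorem F389708 : act 7 n193398 = n188329 := d4_2 (iv7 F378696) F389707 (iv2 F378693)
def n193399 : Q := act 7 n101583
theorem D193399 : act 7 n101583 = n193399 := rfl
theorem F389709 : act 4 n193399 = n188350 := d11_1 D193399 F375743 F375740
theorem F389710 : act 5 n193399 = n192899 := d13_1 D193399 (iv7 D192899) (iv5 F156492)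
theorem F389711 : act 1 n188329 = n193399 := d15_1 (iv0 F385620) (iv7 D193399) (iv2 F368022)
theorem F389712 : act 1 n193399 = n189066 := d15_1 F389711 F378696 F378693
def n193400 : Q := act 6 n101590
theorem D193400 : act 6 n101590 = n193400 := rfl
theorem F389713 : act 2 n193400 = n161580 := d3_1 D193400 (iv6 D161580) (iv2 F156501)
theorem F389714 : act 3 n193400 = n105982 := d7_1 D193400 (iv6 D105982) F156500
theorem F389715 : act 4 n193400 = n105986 := d10_1 D193400 (iv6 D105986) (iv4 F156499)
theorem F389716 : act 7 n193400 = n155147 := d14_2 (iv7 F156498) D193400 (iv6 F359257) (iv7 F188255) (iv6 F306743)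
theorem F389717 : act 0 n150096 = n193400 := d21_4 (iv5 F362017) F388843 F388840 F344040 (iv6 D193400) (iv5 F188195) F188197 (iv5 F136973) F301920 F333425
theorem F389718 : act 1 n101611 = n193400 := d15_0 (iv0 F389717) F236210 (iv2 F344063)
def n193401 : Q := act 6 n101603
theorem D193401 : act 6 n101603 = n193401 := rfl
theorem F389719 : act 2 n193401 = n155158 := d3_1 D193401 (iv6 F347052) F342049
theorem F389720 : act 3 n193401 = n131366 := d7_1 D193401 (iv6 D131366) (iv3 F342041)
theorem F389721 : act 4 n193401 = n149918 := d10_1 D193401 (iv6 F305847) (iv4 F308156)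
theorem F389722 : act 7 n193401 = n152251 := d14_2 (iv7 F342042) D193401 (iv6 D152251) (iv7 F200278) F316888
theorem F389723 : act 0 n193401 = n125001 := d21_4 D71964 (iv1 F342044) F342045 D193401 F331978 (iv5 D59508) D59506 D126807 F331952 (iv1 D71963)
theorem F389724 : act 0 n101614 = n193401 := d21_4 D164523 F362742 (iv5 D101613) D101614 (iv6 D193401) (iv5 F342045) F342043 F259400 F120223 (iv1 F120196)
def n193402 : Q := act 4 n101604
theorem D193402 : act 4 n101604 = n193402 := rfl
theorem F389725 : act 2 n193402 = n111776 := d1_1 D193402 F339367 F271921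
theorem F389726 : act 0 n193402 = n111567 := d18_2 (iv1 F308159) D193402 F358652 (iv5 D75898) (iv4 D34691) (iv0 F130872) (iv4 F56685) D79034 D164559
theorem F389727 : act 3 n193402 = n156798 := d19_3 (iv1 D101603) D101604 D193402 (iv1 D156798) (iv5 D74572) (iv4 D34195) (iv3 D16551) (iv1 F11949) (iv5 F12030) (iv4 D7731) (iv3 F12019) (iv1 F50803) (iv5 D16125) (iv4 F11818) (iv3 F25623) (iv1 F53959) D29223 D61658 (iv3 F342041)
def n193403 : Q := act 7 n101604
theorem D193403 : act 7 n101604 = n193403 := rfl
theorem F389728 : act 2 n193403 = n178890 := d4_1 D193403 (iv7 F358656) F271921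
theorem F389729 : act 3 n193403 = n166169 := d8_1 D193403 (iv7 F341663) F341921
theorem F389730 : act 5 n193403 = n101605 := d13_1 D193403 (iv7 D101605) D101604
theorem F389731 : act 6 n193403 = n166166 := d14_1 D193403 F337723 D178548 F363227 F249095
theorem F389732 : act 1 n152585 = n193403 := d15_1 F339368 (iv7 D193403) (iv2 F271921)
theorem F389733 : act 1 n193403 = n131508 := d15_1 F389732 F314759 F259395
def n193404 : Q := act 5 n101606
theorem D193404 : act 5 n101606 = n193404 := rfl
theorem F389734 : act 2 n193404 = n101613 := d2_1 D193404 (iv5 D101613) (iv2 F344076)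
theorem F389735 : act 7 n193404 = n101618 := d13_2 (iv7 F344078) D193404 (iv5 D101618)
theorem F389736 : act 1 n193404 = n152608 := d17_6 (iv1 F56668) D71994 (iv1 F305743) F305745 (iv4 F344077) D193404 (iv5 D152608) F120202 F120199
theorem F389737 : act 0 n193404 = n152605 := d21_1 D193404 (iv5 D152605) (iv6 F311504) (iv1 D131436) F305320 (iv5 D38191) (iv1 F42514) (iv5 F42513) D47265 D101606
def n193405 : Q := act 6 n101606
theorem D193405 : act 6 n101606 = n193405 := rfl
theorem F389738 : act 2 n193405 = n101614 := d3_1 D193405 (iv6 D101614) (iv2 F344076)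
theorem F389739 : act 3 n193405 = n130393 := d7_1 D193405 F346984 F344079
theorem F389740 : act 4 n193405 = n119874 := d10_1 D193405 (iv6 D119874) (iv4 F344077)
theorem F389741 : act 7 n193405 = n125001 := d14_2 (iv7 F344078) D193405 F331978 (iv7 F331947) F316747
theorem F389742 : act 0 n193405 = n155158 := d21_4 D152608 (iv1 F389736) (iv5 D193404) D193405 (iv6 F347052) (iv5 F342065) (iv1 F259401) F239777 (iv6 F120200) (iv1 F120202)
theorem F389743 : act 5 n193405 = n126805 := d21_6 (iv5 D38191) (iv1 F42514) (iv5 F42513) D47265 D101606 D193405 (iv1 F347113) F317542 (iv6 D75323) (iv1 F108917)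
theorem F389744 : act 0 n152251 = n193405 := d21_4 D131438 F362437 (iv5 D152250) D152251 (iv6 D193405) D193404 F389737 (iv5 D152605) (iv6 F311504) (iv1 D131436)
def n193406 : Q := act 5 n101607
theorem D193406 : act 5 n101607 = n193406 := rfl
theorem F389745 : act 2 n193406 = n101618 := d2_1 D193406 (iv5 D101618) (iv2 F344058)
theorem F389746 : act 6 n193406 = n126759 := d12_2 (iv6 F344061) D193406 F203978 (iv6 F183118) F331938
theorem F389747 : act 7 n193406 = n101613 := d13_2 (iv7 F344062) D193406 (iv5 D101613)
theorem F389748 : act 0 n193406 = n152608 := d17_2 (iv1 F156532) D193406 (iv5 D152608) F130974 D148961 (iv0 F344055) F351944 (iv0 F310338) F156078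
theorem F389749 : act 1 n193406 = n152605 := d17_6 F130957 D55328 F130964 (iv5 F188619) (iv4 F344060) D193406 (iv5 D152605) (iv0 D71982) F52491
def n193407 : Q := act 4 n101608
theorem D193407 : act 4 n101608 = n193407 := rfl
theorem F389750 : act 2 n193407 = n101622 := d1_1 D193407 (iv4 D101622) (iv2 F156533)
theorem F389751 : act 1 n193407 = n152633 := d18_6 F243955 (iv4 F243952) (iv1 F350956) F156074 D101608 D193407 (iv4 D152633) D152632 (iv5 F239843)
def n193408 : Q := act 5 n101611
theorem D193408 : act 5 n101611 = n193408 := rfl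
theorem F389752 : act 3 n193408 = n101613 := d6_1 D193408 (iv5 D101613) D101611
theorem F389753 : act 0 n193408 = n131525 := d17_2 (iv1 F389718) D193408 (iv5 D131525) F185491 (iv5 D118069) F232765 D75059 F310060 (iv4 F389715)
theorem F389754 : act 1 n193408 = n126809 := d17_6 (iv1 F106323) F106319 (iv1 F51860) D70631 (iv4 F344064) D193408 F357113 F188182 F312054
def n193409 : Q := act 4 n101613
theorem D193409 : act 4 n101613 = n193409 := rfl
theorem F389755 : act 0 n193409 = n145642 := d18_2 F362742 D193409 F360160 (iv5 D164529) (iv4 D79017) (iv0 D35963) (iv4 F56663) D79012 D164523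
theorem F389756 : act 1 n193409 = n157665 := d18_6 F302744 (iv4 F301348) (iv1 F344068) (iv4 D101612) D101613 D193409 (iv4 D157665) (iv0 F243956) (iv5 D155132)
def n193410 : Q := act 6 n101613
theorem D193410 : act 6 n101613 = n193410 := rfl
theorem F389757 : act 7 n193410 = n126749 := d14_2 F389747 D193410 F203972 D126759 (iv6 F389746)
theorem F389758 : act 3 n126711 = n193410 := d8_3 F389757 F347032 (iv7 F367023)
theorem F389759 : act 5 n126750 = n193410 := d13_3 F389757 (iv5 D126749) D126750
theorem F389760 : act 4 n193410 = n144408 := d18_5 F338722 (iv4 F360526) (iv1 F219262) (iv4 F203973) F389759 F227191 F223007 F219842 F338737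
theorem F389761 : act 6 n144408 = n193409 := d10_2 D193410 F389760 (iv4 D193409)
theorem F389762 : act 0 n136901 = n193410 := d20_10 F389760 (iv1 D144408) F103685 (iv3 D64250) (iv1 D30266) D30267 F48652 D30310 D64353 D136901
theorem F389763 : act 6 n193408 = n126711 := d7_0 F389758 (iv6 D193410) (iv3 F389752)
def n193411 : Q := act 1 n101614
theorem D193411 : act 1 n101614 = n193411 := rfl
theorem F389764 : act 1 n193411 = n125001 := d15_1 D193411 (iv7 F389741) F389738
theorem F389765 : act 7 n193411 = n155158 := d15_2 (iv0 F389724) D193411 (iv2 F389719)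
theorem F389766 : act 4 n149074 = n193411 := d20_0 (iv1 D193411) F344074 F199917 (iv1 F189107) F200213 (iv4 F130467) (iv1 F278303) (iv4 F274030) F274029 F280170
theorem F389767 : act 3 n101649 = n193411 := d20_3 (iv4 F272680) F156674 (iv4 F156563) (iv1 D193411) (iv3 F344084) (iv4 D131392) (iv1 F318852) (iv4 F346977) F346976 D172446
theorem F389768 : act 6 n118448 = n193411 := d21_3 D186852 F368272 (iv5 F363198) (iv1 D193411) (iv6 D101614) D101613 (iv1 F362743) (iv5 D164521) (iv6 F309291) F309288
theorem F389769 : act 2 n193411 = n152251 := d3_1 F389768 (iv6 D152251) F200279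
def n193412 : Q := act 5 n101614
theorem D193412 : act 5 n101614 = n193412 := rfl
theorem F389770 : act 2 n193412 = n126805 := d2_1 D193412 (iv5 F389743) F389738
theorem F389771 : act 6 n193412 = n126750 := d12_2 D101614 D193412 F389759 (iv6 D193410) (iv5 D101613)
theorem F389772 : act 7 n193412 = n126634 := d13_2 (iv7 F344075) D193412 F347020
theorem F389773 : act 0 n193412 = n126803 := d17_2 (iv1 D193411) D193412 F347078 F123926 (iv5 F315877) F315875 F185771 (iv0 F280213) F389766
theorem F389774 : act 1 n193412 = n126802 := d17_6 (iv1 D16065) D16066 D33280 (iv5 F199918) (iv4 F344074) D193412 F347086 F191283 (iv4 D33277)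
theorem F389775 : act 4 n193412 = n134401 := d18_5 (iv1 D124988) F92292 D58439 (iv4 F344074) D193412 (iv0 D134401) F98420 F326671 F325866
theorem F389776 : act 0 n135032 = n134458 := d20_4 (iv4 F389775) F389773 (iv4 F347099) F347098 (iv3 D134458) (iv4 D63157) (iv1 D29860) (iv4 F48010) (iv3 F98419) D134401
def n193413 : Q := act 4 n101618
theorem D193413 : act 4 n101618 = n193413 := rfl
theorem F389777 : act 6 n193413 = n155888 := d10_2 (iv6 F358428) D193413 (iv4 F329938)
theorem F389778 : act 0 n193413 = n157665 := d18_2 (iv1 F316746) D193413 (iv4 D157665) (iv5 D75114) (iv4 D34397) (iv0 F130988) (iv4 F108474) F120201 D164521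
theorem F389779 : act 1 n193413 = n145642 := d18_6 (iv1 F305101) F189148 F131182 F316744 D101618 D193413 F360160 F259339 F350970
def n193414 : Q := act 4 n101620
theorem D193414 : act 4 n101620 = n193414 := rfl
theorem F389780 : act 7 n193414 = n164527 := d11_2 (iv7 F321175) D193414 (iv4 D164527)
theorem F389781 : act 1 n193414 = n161367 := d18_6 (iv1 F155522) (iv4 D55327) F130956 (iv4 F120199) (iv5 F321174) D193414 (iv4 D161367) (iv0 F305107) (iv5 D72007)
def n193415 : Q := act 6 n101620
theorem D193415 : act 6 n101620 = n193415 := rfl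
def n193416 : Q := act 0 n101622
theorem D193416 : act 0 n101622 = n193416 := rfl
theorem F389782 : act 4 n193416 = n152634 := d18_3 F321176 D101622 D193416 F239845 F108490 F236157 F236154 (iv0 D71982) D71984
theorem F389783 : act 7 n152633 = n193416 := d11_0 F389782 (iv7 D152634) D152633
def n193417 : Q := act 1 n101622
theorem D193417 : act 1 n101622 = n193417 := rfl
theorem F389784 : act 4 n193417 = n118487 := d18_7 D119854 F332039 (iv1 D101290) F74452 D47268 D101622 D193417 (iv0 F189184) (iv5 D119856)
theorem F389785 : act 2 n152633 = n193417 := d1_3 F389784 F186386 D152633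
def n193418 : Q := act 3 n101622
theorem D193418 : act 3 n101622 = n193418 := rfl
theorem F389786 : act 4 n193418 = n101679 := d5_2 D101622 D193418 (iv3 D101679) (iv4 D47282) (iv3 F74515)
def n193419 : Q := act 5 n101622
theorem D193419 : act 5 n101622 = n193419 := rfl
def n193420 : Q := act 7 n101622
theorem D193420 : act 7 n101622 = n193420 := rfl
theorem F389787 : act 4 n193420 = n101623 := d11_1 D193420 (iv7 D101623) D101622
theorem F389788 : act 1 n152633 = n193420 := d15_1 F389751 (iv7 D193420) (iv2 F389750)
def n193421 : Q := act 6 n101623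
theorem D193421 : act 6 n101623 = n193421 := rfl
theorem F389789 : act 3 n193421 = n101682 := d7_1 D193421 (iv6 D101682) (iv3 F156540)
def n193422 : Q := act 4 n101643
theorem D193422 : act 4 n101643 = n193422 := rfl
theorem F389790 : act 2 n193422 = n136006 := d1_1 D193422 F337652 (iv2 F275104)
theorem F389791 : act 7 n193422 = n136007 := d11_2 F275107 D193422 F357401
theorem F389792 : act 5 n193422 = n111186 := d16_1 D193422 (iv4 F176170) (iv5 F365323) (iv4 D101773) (iv5 F155836) F307561 (iv5 F346473) F275105 (iv2 F275104)
theorem F389793 : act 0 n193422 = n101822 := d18_2 D101643 D193422 (iv4 D101822) (iv5 D47320) (iv4 D22741) F34821 (iv4 F59440) F59443 D47273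
theorem F389794 : act 1 n193422 = n101761 := d18_6 (iv1 D186853) F137002 (iv1 F155791) F304824 (iv5 F304825) D193422 (iv4 D101761) D101760 (iv5 F368279)
theorem F389795 : act 3 n111199 = n193422 := d6_3 F389792 F172430 D111199
def n193423 : Q := act 4 n101644
theorem D193423 : act 4 n101644 = n193423 := rfl
theorem F389796 : act 2 n193423 = n136007 := d1_1 D193423 F357401 (iv2 F275109)
theorem F389797 : act 6 n193423 = n102162 := d10_2 (iv6 F346474) D193423 F354509
theorem F389798 : act 7 n193423 = n136006 := d11_2 (iv7 F275105) D193423 F337652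
theorem F389799 : act 0 n193423 = n101761 := d18_2 (iv1 F156559) D193423 (iv4 D101761) (iv5 D47300) (iv4 D22736) (iv0 D10753) (iv4 F17285) D22731 D47278
theorem F389800 : act 1 n193423 = n101822 := d18_6 D174052 F272800 (iv1 F153524) F307561 (iv5 F346473) D193423 (iv4 D101822) F156636 F156788
theorem F389801 : act 5 n139288 = n193423 := d12_5 F389797 (iv5 F354511) (iv6 F356110) (iv5 D139287) D139288
def n193424 : Q := act 0 n101645
theorem D193424 : act 0 n101645 = n193424 := rfl
theorem F389802 : act 4 n193424 = n137109 := d18_3 (iv1 D101644) D101645 D193424 F337639 F154556 F303336 F123204 D80217 (iv5 F346473)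
theorem F389803 : act 1 n101661 = n193424 := d15_0 (iv0 D193424) (iv7 F275139) F275138
def n193425 : Q := act 1 n101645
theorem D193425 : act 1 n101645 = n193425 := rfl
theorem F389804 : act 1 n193425 = n101661 := d15_1 D193425 (iv7 F275111) F275110
theorem F389805 : act 4 n193425 = n137110 := d18_7 F272739 F72374 D46060 (iv4 F156573) D47273 D101645 D193425 F337649 (iv5 D99716)
def n193426 : Q := act 5 n101645
theorem D193426 : act 5 n101645 = n193426 := rfl
theorem F389806 : act 4 n193426 = n101872 := d16_2 D101645 D193426 F385542 (iv4 D191519) (iv5 D98499) (iv4 F156571) D47278 (iv7 F274685) F274684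
def n193427 : Q := act 4 n101656
theorem D193427 : act 4 n101656 = n193427 := rfl
theorem F389807 : act 2 n193427 = n162045 := d1_1 D193427 (iv4 D162045) (iv2 F312798)
theorem F389808 : act 6 n193427 = n103840 := d10_2 (iv6 F337554) D193427 F346521
theorem F389809 : act 0 n193427 = n192361 := d18_2 (iv1 F312797) D193427 (iv4 D192361) (iv5 D100116) (iv4 D46734) F73294 (iv4 F127871) F127875 D83571
theorem F389810 : act 1 n193427 = n192337 := d18_6 F184679 F151917 (iv1 F275137) F311766 D101656 D193427 (iv4 D192337) D192336 F386477
def n193428 : Q := act 3 n101661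
theorem D193428 : act 3 n101661 = n193428 := rfl
def n193429 : Q := act 5 n101661
theorem D193429 : act 5 n101661 = n193429 := rfl
theorem F389811 : act 4 n193429 = n101881 := d9_1 D193429 (iv5 F383643) (iv4 D191516) (iv5 D98494) (iv4 F156573) D47273 D101645 D193426 F389806 F385542 (iv4 D191519) (iv5 D98499) (iv4 F156571) D47278 D101661
def n193430 : Q := act 6 n101661
theorem D193430 : act 6 n101661 = n193430 := rfl
theorem F389812 : act 2 n193430 = n150576 := d3_1 D193430 F337657 F275138
theorem F389813 : act 4 n193430 = n101662 := d10_1 D193430 (iv6 D101662) D101661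
def n193431 : Q := act 0 n101669
theorem D193431 : act 0 n101669 = n193431 := rfl
theorem F389814 : act 4 n193431 = n172403 := d18_3 D47280 D101669 D193431 F270636 (iv4 F136506) F136510 (iv4 F156573) (iv0 D22730) D22732
theorem F389815 : act 1 n101674 = n193431 := d15_0 (iv0 D193431) (iv7 F304831) F304830
theorem F389816 : act 7 n193431 = n172402 := d15_2 F383168 F389815 (iv2 F383165)
def n193432 : Q := act 5 n101669
theorem D193432 : act 5 n101669 = n193432 := rfl
theorem F389817 : act 4 n193432 = n101874 := d16_2 D101669 D193432 (iv5 D101874) (iv4 F274517) (iv5 F151902) F303335 (iv5 F304819) (iv7 F286953) F286952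
def n193433 : Q := act 3 n101674
theorem D193433 : act 3 n101674 = n193433 := rfl
theorem F389818 : act 0 n193433 = n192188 := d20_4 (iv4 D175686) (iv1 F128880) D101674 D193433 F385913 (iv4 F156977) F385609 F385608 F357419 (iv1 F275070)
def n193434 : Q := act 5 n101674
theorem D193434 : act 5 n101674 = n193434 := rfl
theorem F389819 : act 4 n193434 = n101869 := d9_1 D193434 (iv5 D101869) (iv4 F156575) F338818 F253249 (iv5 F304833) D101669 D193432 F389817 (iv5 D101874) (iv4 F274517) (iv5 F151902) F303335 (iv5 F304819) D101674
def n193435 : Q := act 6 n101678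
theorem D193435 : act 6 n101678 = n193435 := rfl
theorem F389820 : act 3 n193435 = n135236 := d7_1 D193435 F217421 (iv3 F354545)
theorem F389821 : act 7 n193435 = n138249 := d14_2 (iv7 F357421) D193435 (iv6 D138249) (iv7 F219293) (iv6 F354529)
def n193436 : Q := act 0 n101679
theorem D193436 : act 0 n101679 = n193436 := rfl
def n193437 : Q := act 1 n101679
theorem D193437 : act 1 n101679 = n193437 := rfl
def n193438 : Q := act 2 n101679
theorem D193438 : act 2 n101679 = n193438 := rfl
theorem F389822 : act 3 n193438 = n139610 := d0_2 D101679 D193438 F357155 (iv3 D175724) F128886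
theorem F389823 : act 6 n193438 = n192076 := d3_2 F328322 D193438 F385978
theorem F389824 : act 5 n139605 = n193438 := d6_0 F389822 (iv5 D139610) (iv3 F222759)
def n193439 : Q := act 5 n101679
theorem D193439 : act 5 n101679 = n193439 := rfl
theorem F389825 : act 2 n193439 = n139605 := d2_1 D193439 F389824 (iv2 D193438)
theorem F389826 : act 3 n193439 = n101680 := d6_1 D193439 (iv5 D101680) D101679
theorem F389827 : act 6 n139603 = n193439 := d7_0 F389826 (iv6 F357399) (iv3 F365060)
def n193440 : Q := act 7 n101679
theorem D193440 : act 7 n101679 = n193440 := rfl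
theorem F389828 : act 3 n193440 = n101681 := d8_1 D193440 (iv7 D101681) D101679
def n193441 : Q := act 0 n101680
theorem D193441 : act 0 n101680 = n193441 := rfl
theorem F389829 : act 5 n193441 = n101761 := d17_1 D193441 (iv1 F389794) F389792 (iv4 F176170) (iv5 F365323) (iv0 F383649) (iv5 F385542) F385718 F385715
theorem F389830 : act 4 n193441 = n101829 := d18_3 (iv1 F385719) F385715 D193441 (iv5 D101829) (iv4 D47322) F74540 D101770 (iv0 F383644) F383643
theorem F389831 : act 1 n101883 = n193441 := d15_0 (iv0 D193441) F385712 F385710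
theorem F389832 : act 2 n136008 = n193441 := d1_3 F389830 (iv2 F385603) F385605
theorem F389833 : act 7 n192879 = n193441 := d11_0 F389830 (iv7 F385545) (iv4 F388091)
theorem F389834 : act 3 n193441 = n137156 := d8_1 F389833 F346635 F388092
def n193442 : Q := act 1 n101680
theorem D193442 : act 1 n101680 = n193442 := rfl
theorem F389835 : act 1 n193442 = n101883 := d15_1 D193442 (iv7 F335337) F335334
theorem F389836 : act 7 n193442 = n136008 := d15_2 (iv0 D193441) D193442 F389832
theorem F389837 : act 5 n193442 = n101822 := d17_7 (iv1 F156562) (iv5 D47278) (iv1 D22731) D22732 D47282 D101680 D193442 (iv0 F389793) (iv4 D193422)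
theorem F389838 : act 2 n192879 = n193442 := d2_3 F389837 (iv2 F385579) (iv5 F388090)
theorem F389839 : act 3 n136022 = n193442 := d6_3 F389837 F323244 (iv5 F218864)
theorem F389840 : act 4 n101777 = n193442 := d9_15 F389837 (iv4 D101822) (iv5 D47320) (iv4 D22741) D22742 D47322 D101829 (iv4 F389830) F389829 (iv4 D101761) (iv5 D47300) (iv4 D22736) D22737 D47305 D101777
def n193443 : Q := act 6 n101681
theorem D193443 : act 6 n101681 = n193443 := rfl
theorem F389841 : act 2 n193443 = n136483 := d3_1 D193443 (iv6 F354524) F275067
theorem F389842 : act 4 n193443 = n101682 := d10_1 D193443 (iv6 D101682) (iv4 F156579)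
theorem F389843 : act 7 n193443 = n136482 := d14_2 D101681 D193443 F354519 F328313 (iv6 F328327)
theorem F389844 : act 0 n193443 = n136477 := d21_4 D136008 F385713 F385711 D193443 (iv6 D136477) D136476 F357404 (iv5 D136388) (iv6 F357403) (iv1 D136007)
theorem F389845 : act 1 n193443 = n136485 := d15_1 (iv0 F389844) (iv7 D136485) (iv2 F219591)
theorem F389846 : act 1 n136485 = n101979 := d15_1 F389845 (iv7 F354522) (iv2 F389841)
def n193444 : Q := act 5 n101726
theorem D193444 : act 5 n101726 = n193444 := rfl
theorem F389847 : act 2 n193444 = n101740 := d2_1 D193444 (iv5 D101740) (iv2 F156618)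
theorem F389848 : act 3 n193444 = n179936 := d6_1 D193444 (iv5 D179936) (iv3 F324280)
theorem F389849 : act 0 n193444 = n191363 := d17_2 (iv1 F355390) D193444 (iv5 D191363) F151416 (iv5 F321013) F328764 (iv5 F328786) (iv0 F334682) F198388
theorem F389850 : act 1 n193444 = n120415 := d17_6 (iv1 D153592) D153593 (iv1 F358720) F355392 (iv4 F324281) D193444 (iv5 D120415) (iv0 F354012) (iv4 F354019)
theorem F389851 : act 7 n193444 = n191370 := d15_2 (iv0 F383213) (iv0 F389849) (iv2 F383239)
def n193445 : Q := act 7 n101726
theorem D193445 : act 7 n101726 = n193445 := rfl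
theorem F389852 : act 2 n193445 = n101741 := d4_1 D193445 (iv7 D101741) (iv2 F156618)
theorem F389853 : act 3 n193445 = n179891 := d8_1 D193445 F280154 (iv3 F324280)
theorem F389854 : act 4 n193445 = n173804 := d11_1 D193445 (iv7 F355386) (iv4 F324281)
theorem F389855 : act 5 n193445 = n191370 := d13_1 D193445 (iv7 F389851) (iv5 D193444)
theorem F389856 : act 6 n193445 = n123048 := d14_1 D193445 F320205 (iv6 F354506) F156713 D101726
theorem F389857 : act 1 n101739 = n193445 := d15_1 D101739 (iv7 D193445) F156618
theorem F389858 : act 1 n193445 = n101738 := d15_1 F389857 F355384 (iv2 F355372)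
def n193446 : Q := act 5 n101727
theorem D193446 : act 5 n101727 = n193446 := rfl
theorem F389859 : act 3 n193446 = n150254 := d6_1 D193446 (iv5 F236450) (iv3 F351748)
theorem F389860 : act 6 n193446 = n167779 := d12_2 (iv6 F351750) D193446 (iv5 F357891) (iv6 F357884) (iv5 D154537)
theorem F389861 : act 4 n193446 = n177450 := d16_2 (iv4 F351749) D193446 (iv5 F363868) F264148 D167781 F363865 F363861 F351790 F242639
theorem F389862 : act 0 n193446 = n112575 := d17_2 D101727 D193446 (iv5 F355873) F240568 (iv5 F356074) F356077 (iv5 D101715) (iv0 D47290) D47293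
theorem E103541 : n174842 = n131553 := (c20_10 (iv4 F210802) F366646 F327103 (iv3 F262041) (iv1 F341691) (iv3 F389859) F389861 (iv1 F342130) (iv4 D174843) D174842 (iv1 D131553))
theorem F389863 : act 3 n131553 = n83521 := (sb E103541 (iv3 D174842))
theorem F389864 : act 6 n131553 = n147369 := (sb E103541 (iv6 F343343))
def n193447 : Q := act 0 n101730
theorem D193447 : act 0 n101730 = n193447 := rfl
theorem F389865 : act 5 n193447 = n157618 := d17_3 F351755 D101730 D193447 F248370 D157626 (iv0 F354780) (iv5 D174813) (iv0 F342342) (iv4 F156288)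
theorem F389866 : act 2 n163697 = n193447 := d15_3 (iv0 D193447) F355867 F381051
theorem F389867 : act 1 n158336 = n193447 := d15_0 (iv0 D193447) F334391 (iv2 F249465)
theorem F389868 : act 7 n193447 = n163698 := d15_2 (iv0 F355865) F389867 (iv2 F381049)
theorem F389869 : act 3 n157619 = n193447 := d19_19 (iv1 F389867) (iv5 F334400) (iv4 F321040) F156712 (iv1 F321060) (iv5 F326320) (iv4 F247353) F247352 F112161 (iv5 D51257) (iv4 F163988) F163987 (iv1 F322216) D177213 (iv4 F276607) (iv3 F341705) (iv1 F299678) F330164 F330162
def n193448 : Q := act 0 n101731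
theorem D193448 : act 0 n101731 = n193448 := rfl
theorem F389870 : act 3 n193448 = n162724 := d20_5 (iv4 F213661) F366647 (iv4 F346980) (iv3 F355377) D193448 (iv4 F268175) (iv1 F268177) F330125 (iv3 F341919) (iv1 D133007)
theorem F389871 : act 1 n173804 = n193448 := d15_0 (iv0 D193448) (iv7 F355379) (iv2 F272392)
theorem F389872 : act 6 n191361 = n193448 := d7_0 F389870 (iv6 F300721) D191361
def n193449 : Q := act 5 n101731
theorem D193449 : act 5 n101731 = n193449 := rfl
theorem F389873 : act 2 n193449 = n163696 := d2_1 D193449 F355392 F355378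
theorem F389874 : act 3 n193449 = n180253 := d6_1 D193449 F345773 (iv3 F355377)
theorem F389875 : act 6 n193449 = n125444 := d12_2 D101731 D193449 (iv5 F254403) (iv6 F334390) (iv5 D101730)
theorem F389876 : act 7 n193449 = n173232 := d13_2 F355379 D193449 F347503
theorem F389877 : act 4 n193449 = n180168 := d18_5 (iv1 D130156) (iv4 F355374) (iv1 D101739) (iv4 F156620) D193449 (iv0 D180168) F132045 D86087 (iv5 F344931)
theorem F389878 : act 0 n193449 = n174118 := d21_1 D193449 (iv5 F353952) (iv6 D100809) F107105 (iv6 F314333) F207525 (iv1 F98969) D63624 D135349 (iv1 F357879)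
theorem F389879 : act 0 n125353 = n193449 := d21_7 D193446 F389862 (iv5 F355873) (iv6 D153207) (iv1 F109156) D153590 F353948 (iv5 D193449) (iv6 D101731) D101727
def n193450 : Q := act 0 n101736
theorem D193450 : act 0 n101736 = n193450 := rfl
def n193451 : Q := act 1 n101736
theorem D193451 : act 1 n101736 = n193451 := rfl
theorem F389880 : act 1 n193451 = n193435 := d15_1 D193451 F389821 F365730
theorem F389881 : act 4 n193451 = n173363 := d18_7 D82960 (iv4 F323003) (iv1 F324403) (iv4 F109706) D154537 (iv4 F357886) D193451 (iv0 D173363) (iv5 D82962)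
def n193452 : Q := act 5 n101736
theorem D193452 : act 5 n101736 = n193452 := rfl
theorem F389882 : act 3 n193452 = n101782 := d6_1 D193452 (iv5 D101782) (iv3 F156622)
theorem F389883 : act 6 n193452 = n101740 := d12_2 D101736 D193452 (iv5 D101740) (iv6 D47295) D47294
theorem F389884 : act 0 n193452 = n136918 := d17_2 (iv1 D193451) D193452 (iv5 D136918) (iv4 F220100) F337532 (iv0 F303405) F366507 (iv0 F366510) (iv4 F389881)
def n193453 : Q := act 7 n101736
theorem D193453 : act 7 n101736 = n193453 := rfl
theorem F389885 : act 2 n193453 = n193435 := d4_1 D193453 F389821 F365730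
theorem F389886 : act 3 n193453 = n101783 := d8_1 D193453 (iv7 D101783) (iv3 F156622)
theorem F389887 : act 4 n193453 = n128240 := d11_1 D193453 (iv7 F242575) (iv4 F357886)
theorem F389888 : act 6 n193453 = n175723 := d14_1 D193453 F357423 F357394 F156715 D101736
theorem F389889 : act 1 n193435 = n193450 := d15_0 (iv0 D193450) D193453 F389885
def n193454 : Q := act 5 n101739
theorem D193454 : act 5 n101739 = n193454 := rfl
theorem F389890 : act 2 n193454 = n123974 := d2_1 D193454 (iv5 D123974) (iv2 F355372)
theorem F389891 : act 3 n193454 = n131164 := d6_1 D193454 (iv5 D131164) (iv3 F355373)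
theorem F389892 : act 0 n193454 = n186874 := d21_1 D193454 (iv5 D186874) D186875 F384813 (iv6 D171033) D171032 F344901 (iv5 F320204) (iv6 F389856) (iv1 F389857)
def n193455 : Q := act 1 n101740
theorem D193455 : act 1 n101740 = n193455 := rfl
theorem F389893 : act 1 n193455 = n191370 := d15_1 D193455 (iv7 F389851) F389847
theorem F389894 : act 7 n193455 = n191363 := d15_2 (iv0 F355376) D193455 F383211
theorem F389895 : act 5 n193455 = n120412 := d17_7 F383218 F353948 F389879 (iv5 D193449) F156620 D101740 D193455 (iv0 F344406) D191364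
theorem F389896 : act 2 n120415 = n193455 := d2_3 F389895 F191829 D120415
theorem F389897 : act 4 n192317 = n193455 := d9_15 F389895 F320010 (iv5 D86089) (iv4 F132045) D180171 (iv4 F384761) (iv5 F384758) (iv4 D191371) (iv5 D98161) F72420 D45915 D98245 D191391 (iv4 F384759) (iv5 F386405)
theorem F389898 : act 6 n192316 = n193455 := d21_5 F365793 (iv1 D104363) (iv5 F293257) (iv6 F155047) (iv1 F386403) F389895 (iv1 F354022) D191368 (iv6 F383232) (iv1 F288594)
def n193456 : Q := act 4 n101740
theorem D193456 : act 4 n101740 = n193456 := rfl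
theorem F389899 : act 0 n193456 = n192519 := d18_2 (iv1 D193455) D193456 (iv4 F386939) (iv5 D182920) (iv4 F154905) (iv0 F383227) (iv4 D191367) F354022 (iv5 F389895)
theorem F389900 : act 1 n193456 = n192523 := d18_8 (iv1 D100265) (iv4 F154251) F358734 (iv4 F384761) (iv5 F384758) (iv4 D191371) (iv0 F355376) D193456 (iv5 D192523)
def n193457 : Q := act 4 n101746
theorem D193457 : act 4 n101746 = n193457 := rfl
theorem F389901 : act 2 n193457 = n193431 := d1_1 D193457 F389814 F270635
theorem F389902 : act 7 n193457 = n191352 := d11_2 F156786 D193457 (iv4 D191352)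
theorem F389903 : act 0 n193457 = n167095 := d18_2 (iv1 F270637) D193457 (iv4 D167095) (iv5 D80218) (iv4 F123204) D167068 (iv4 F333410) F272861 (iv5 F270613)
theorem F389904 : act 1 n193457 = n175716 := d18_6 D38628 D83876 F275096 F156783 D101746 D193457 (iv4 D175716) (iv0 D83884) (iv5 D38630)
def n193458 : Q := act 6 n101746
theorem D193458 : act 6 n101746 = n193458 := rfl
theorem F389905 : act 2 n193458 = n147846 := d3_1 D193458 F357768 F270635
theorem F389906 : act 5 n193458 = n147845 := d12_1 D193458 F357765 F270642 F156784 D101746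
theorem F389907 : act 7 n193458 = n166205 := d14_2 F156786 D193458 (iv6 D166205) F300737 (iv6 F151277)
theorem F389908 : act 0 n193458 = n136452 := d21_10 F352361 (iv1 D154671) (iv5 F352359) (iv6 D136708) (iv1 F100383) F325770 (iv5 D47300) D47297 D101746 D193458
theorem F389909 : act 0 n166234 = n193458 := d21_4 F388845 F376058 F347871 (iv6 F347874) (iv6 D193458) (iv5 D101746) (iv1 F74535) D47320 D101823 F388848
def n193459 : Q := act 1 n101756
theorem D193459 : act 1 n101756 = n193459 := rfl
theorem F389910 : act 1 n193459 = n103274 := d15_1 D193459 F364900 F351796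
theorem F389911 : act 7 n193459 = n115692 := d15_2 F386472 D193459 (iv2 F386467)
theorem F389912 : act 3 n115696 = n193459 := d20_3 F388839 (iv1 F179555) (iv4 F180040) (iv1 D193459) F156630 D101761 (iv1 F389794) (iv4 D193422) F362016 F388843
theorem F389913 : act 2 n193459 = n174485 := d0_1 F389912 F273373 (iv2 F274988) F357020 F357031
theorem F389914 : act 5 n193459 = n174483 := d6_2 (iv5 F357062) F389912 F273371
theorem F389915 : act 6 n193459 = n133328 := d7_2 F351343 F389912 (iv3 F351340)
theorem F389916 : act 4 n103259 = n193459 := d20_2 F158502 D103259 (iv3 F389912) (iv1 F357064) (iv3 D117089) (iv4 D53956) D53954 F324739 D161987 (iv1 F359866)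
def n193460 : Q := act 4 n101756
theorem D193460 : act 4 n101756 = n193460 := rfl
theorem F389917 : act 2 n193460 = n137073 := d1_1 D193460 F220248 F351796
theorem F389918 : act 3 n193460 = n137083 := d5_1 D193460 F220252 (iv3 F325768) (iv4 D101761) (iv3 F156630)
theorem F389919 : act 6 n193460 = n137072 := d10_2 (iv6 F351795) D193460 F220239
theorem F389920 : act 7 n193460 = n184426 := d11_2 F385575 D193460 (iv4 F385576)
theorem F389921 : act 1 n193460 = n133358 := d18_6 (iv1 D173201) F127661 D82888 (iv4 F325423) D101756 D193460 F366413 (iv0 F388873) F388872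
theorem F389922 : act 5 n193460 = n173852 := d21_0 (iv1 D173852) D173854 (iv6 F370069) (iv1 F331351) (iv6 D112977) (iv5 F170570) (iv1 F355473) (iv5 D133357) D133358 (iv1 F389921)
def n193461 : Q := act 0 n101757
theorem D193461 : act 0 n101757 = n193461 := rfl
theorem F389923 : act 4 n193461 = n163676 := d20_2 F346980 D193461 F341887 F357796 (iv3 D82616) (iv4 D37936) F29611 (iv4 F59818) (iv3 F129196) (iv1 F278522)
theorem F389924 : act 3 n193461 = n101765 := d20_5 F156563 (iv1 D47309) (iv4 F74532) (iv3 F156631) D193461 F272736 (iv1 F275094) F275089 (iv3 F311716) (iv1 F249725)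
theorem F389925 : act 2 n131381 = n193461 := d15_3 (iv0 D193461) (iv0 F366647) F213662
theorem F389926 : act 6 n193461 = n131379 := d3_2 D131381 F389925 (iv2 D131379)
theorem F389927 : act 7 n193461 = n191812 := d4_2 F213662 F389925 F384515
def n193462 : Q := act 5 n101757
theorem D193462 : act 5 n101757 = n193462 := rfl
theorem F389928 : act 2 n193462 = n135437 := d2_1 D193462 (iv5 F347126) (iv2 F344099)
theorem F389929 : act 3 n193462 = n101766 := d6_1 D193462 (iv5 D101766) (iv3 F156631)
theorem F389930 : act 0 n193462 = n174404 := d17_2 F366647 D193462 (iv5 D174404) (iv4 F249087) F341884 (iv0 D78634) D78636 (iv0 F341881) (iv4 F213661)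
theorem F389931 : act 1 n193462 = n129875 := d17_6 F187611 (iv5 F249453) F345777 F345773 F346980 D193462 F354037 (iv0 D152660) (iv4 F187617)
theorem F389932 : act 4 n193462 = n129040 := d18_5 F346973 F263660 (iv1 F278522) F346980 D193462 (iv0 D129040) F95266 D61189 D130398
def n193463 : Q := act 4 n101759
theorem D193463 : act 4 n101759 = n193463 := rfl
theorem F389933 : act 2 n193463 = n193424 := d1_1 D193463 F389802 (iv2 F337640)
theorem F389934 : act 7 n193463 = n193425 := d11_2 F337647 D193463 F389805
theorem F389935 : act 0 n193463 = n175711 := d18_2 D101759 D193463 (iv4 D175711) (iv5 D83882) (iv4 F309519) (iv0 F311710) F156783 (iv0 D47297) D47300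
theorem F389936 : act 1 n193463 = n175700 := d18_6 (iv1 D167081) (iv4 F303335) (iv1 F272802) (iv4 F195697) (iv5 F156788) D193463 (iv4 D175700) D175699 (iv5 F304816)
def n193464 : Q := act 6 n101759
theorem D193464 : act 6 n101759 = n193464 := rfl
theorem F389937 : act 3 n193464 = n163190 := d7_1 D193464 (iv6 F330813) F342406
theorem F389938 : act 5 n193464 = n174051 := d12_1 D193464 (iv6 D174051) (iv5 D83211) D83212 (iv5 F156788)
def n193465 : Q := act 4 n101760
theorem D193465 : act 4 n101760 = n193465 := rfl
theorem F389939 : act 2 n193465 = n193425 := d1_1 D193465 F389805 F337648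
theorem F389940 : act 3 n193465 = n154270 := d5_1 D193465 (iv4 D154270) F109601 D73104 (iv3 F337644)
theorem F389941 : act 7 n193465 = n193424 := d11_2 (iv7 F337646) D193465 F389802
theorem F389942 : act 0 n193465 = n175700 := d18_2 (iv1 F156633) D193465 (iv4 D175700) (iv5 D83877) D83876 (iv0 F275097) F64069 (iv0 F156780) D47320
theorem F389943 : act 1 n193465 = n175711 := d18_6 F239803 (iv4 F253249) (iv1 F338817) F368275 F368279 D193465 (iv4 D175711) F275103 (iv5 F304813)
def n193466 : Q := act 5 n101765
theorem D193466 : act 5 n101765 = n193466 := rfl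
theorem F389944 : act 6 n193466 = n158796 := d12_2 F272688 D193466 (iv5 F365185) F365186 F272690
theorem F389945 : act 7 n193466 = n191815 := d13_2 F272711 D193466 (iv5 D191815)
theorem F389946 : act 0 n193466 = n172263 := d17_2 (iv1 F272685) D193466 (iv5 D172263) F271105 D89341 (iv0 F156905) (iv5 D101785) (iv0 F156674) F272680
theorem F389947 : act 4 n193466 = n106181 := d17_4 (iv1 F344093) F344096 (iv1 F272685) D193466 (iv5 D106181) D106178 F340918 F337572 (iv4 F319783)
theorem F389948 : act 1 n193466 = n152679 := d17_6 (iv1 F73834) D100054 (iv1 F384535) F384533 (iv4 F272736) D193466 (iv5 D152679) F309569 F128282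
def n193467 : Q := act 5 n101770
theorem D193467 : act 5 n101770 = n193467 := rfl
theorem F389949 : act 2 n193467 = n127107 := d2_1 D193467 (iv5 F385533) F385531
theorem F389950 : act 4 n193467 = n139288 := d9_1 D193467 F389801 (iv4 D193423) F346473 (iv4 F307561) F155836 D101773 F365323 F176170 (iv5 F389792) (iv4 D193422) F304825 (iv4 F304824) (iv5 F74536) D101770
theorem F389951 : act 0 n193467 = n192127 := d17_2 F383644 D193467 (iv5 D192127) (iv4 F367489) F367488 (iv0 D100498) D100500 (iv0 F154557) D191516
theorem F389952 : act 1 n193467 = n192130 := d17_6 (iv1 F73568) (iv5 F73569) (iv1 F155791) (iv5 F74536) D101770 D193467 (iv5 D192130) F153532 F74551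
theorem F389953 : act 6 n193467 = n127106 := d21_3 (iv5 F383643) F383644 D193467 (iv1 F333132) (iv6 D102615) (iv5 F137107) F357210 (iv5 F156826) (iv6 D101884) D101881
def n193468 : Q := act 3 n101775
theorem D193468 : act 3 n101775 = n193468 := rfl
theorem F389954 : act 6 n193468 = n107300 := d7_2 F275129 D193468 (iv3 F361817)
theorem F389955 : act 4 n107302 = n193468 := d10_3 F389954 (iv4 D107300) D107302
theorem F389956 : act 0 n107302 = n107391 := d20_7 F82520 F168339 D64945 F328193 (iv1 F156642) D193468 (iv4 F389955) (iv4 F226654) (iv3 D143999) (iv1 F168337)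
def n193469 : Q := act 5 n101775
theorem D193469 : act 5 n101775 = n193469 := rfl
theorem F389957 : act 0 n193469 = n192123 := d17_2 (iv1 F156642) D193469 (iv5 D192123) (iv4 D99731) (iv5 F73569) D89304 F155836 F74537 D47322
theorem F389958 : act 1 n193469 = n192118 := d17_6 D98501 F338818 (iv1 F338817) (iv5 F157829) (iv4 F275127) D193469 (iv5 D192118) F272743 (iv4 D98503)
theorem F389959 : act 0 n137081 = n144059 := d21_4 D137490 (iv1 F220924) (iv5 D137080) D137081 (iv6 F357416) D192118 (iv1 F389958) (iv5 D193469) (iv6 F275129) F361814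
def n193470 : Q := act 0 n101776
theorem D193470 : act 0 n101776 = n193470 := rfl
theorem F389960 : act 6 n193470 = n103321 := d21_5 F379187 (iv1 F381983) F381981 (iv6 F357908) D193470 F354256 (iv1 D133367) (iv5 D62594) D62595 D133370
theorem F389961 : act 2 n177563 = n193470 := d15_3 (iv0 D193470) (iv0 F357910) (iv7 F277011)
theorem F389962 : act 1 n143994 = n193470 := d15_0 (iv0 D193470) (iv7 F385601) F385600
theorem F389963 : act 4 n193470 = n177557 := d1_2 D177563 F389961 F276999
theorem F389964 : act 1 n180622 = n121093 := d18_8 F382340 F357909 D193470 F389963 (iv5 D177557) D177556 F276998 F357782 F355482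
theorem F389965 : act 1 n121093 = n180628 := d15_1 F389964 (iv7 D180628) (iv2 F281153)
theorem F389966 : act 5 n193468 = n193470 := d12_5 F389960 F354256 (iv6 F378583) F378582 (iv6 F389954)
theorem F389967 : act 3 n193470 = n193469 := d6_1 F389966 (iv5 D193469) D193468
def n193471 : Q := act 2 n101776
theorem D193471 : act 2 n101776 = n193471 := rfl
theorem F389968 : act 3 n193471 = n112898 := d0_2 D101776 D193471 F175816 (iv3 F328192) F156698
theorem F389969 : act 4 n193471 = n127059 := d1_2 F357909 D193471 F357889
theorem F389970 : act 6 n193471 = n128231 := d3_2 (iv6 F357908) D193471 (iv2 F242581)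
theorem F389971 : act 7 n193471 = n143994 := d4_2 F385601 D193471 (iv2 F385600)
theorem F389972 : act 1 n177563 = n193471 := d15_1 (iv0 F385602) F389971 (iv2 F385600)
def n193472 : Q := act 5 n101776
theorem D193472 : act 5 n101776 = n193472 := rfl
theorem F389973 : act 3 n193472 = n101777 := d6_1 D193472 (iv5 D101777) D101776
theorem F389974 : act 0 n193472 = n190506 := d17_2 F357910 D193472 F379947 F377877 (iv5 D162957) F193007 (iv5 F341634) F341636 D163047
def n193473 : Q := act 0 n101777
theorem D193473 : act 0 n101777 = n193473 := rfl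
theorem F389975 : act 5 n193473 = n101844 := d17_1 D193473 (iv1 F156804) D101860 (iv4 F357397) (iv5 F357395) (iv0 D101677) D101680 D193442 (iv4 F389840)
theorem F389976 : act 1 n101829 = n193473 := d15_0 (iv0 D193473) (iv7 F385604) F385603
theorem F389977 : act 2 n192849 = n193473 := d2_3 F389975 F385634 (iv5 F388011)
theorem F389978 : act 6 n190669 = n193473 := d12_0 F389975 (iv6 F378226) F378225 (iv6 F148297) (iv5 F380508)
theorem F389979 : act 7 n191522 = n193473 := d13_0 F389975 (iv7 F156805) D191522
def n193474 : Q := act 1 n101777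
theorem D193474 : act 1 n101777 = n193474 := rfl
theorem F389980 : act 1 n193474 = n101829 := d15_1 D193474 (iv7 F385545) F385543
theorem F389981 : act 7 n193474 = n192849 := d15_2 (iv0 D193473) D193474 F389977
theorem F389982 : act 5 n193474 = n101845 := d17_7 (iv1 D22745) (iv5 D10755) D10753 D22737 D47305 D101777 D193474 F156806 (iv4 D47335)
theorem F389983 : act 2 n191522 = n193474 := d2_3 F389982 (iv2 F156807) D191522
theorem F389984 : act 6 n192845 = n193474 := d12_0 F389982 F156809 (iv5 F137097) (iv6 F353229) (iv5 F387994)
theorem F389985 : act 0 n102489 = n101830 := d21_4 (iv5 F64398) (iv1 F137065) F137066 D102489 (iv6 D101830) D101829 (iv1 F389980) F389982 F156809 (iv1 D47435)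
def n193475 : Q := act 6 n101777
theorem D193475 : act 6 n101777 = n193475 := rfl
def n193476 : Q := act 1 n101778
theorem D193476 : act 1 n101778 = n193476 := rfl
theorem F389986 : act 5 n193476 = n190875 := d17_7 F369735 (iv5 D187292) (iv1 F137976) D97044 D190916 F381543 D193476 (iv0 F381553) F365781
theorem F389987 : act 6 n103353 = n193476 := d21_3 F346623 (iv1 F295206) (iv5 F159223) (iv1 D193476) (iv6 D101778) D101777 D193473 F389975 (iv6 F378226) (iv1 F378227)
theorem F389988 : act 3 n193476 = n190880 := d7_1 F389987 F381429 F159221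
def n193477 : Q := act 7 n101778
theorem D193477 : act 7 n101778 = n193477 := rfl
theorem F389989 : act 3 n193477 = n128242 := d8_1 D193477 (iv7 F242582) F357907
theorem F389990 : act 4 n193477 = n101783 := d11_1 D193477 (iv7 D101783) (iv4 F156643)
theorem F389991 : act 5 n193477 = n191046 := d13_1 D193477 (iv7 F381975) F381543
def n193478 : Q := act 4 n101780
theorem D193478 : act 4 n101780 = n193478 := rfl
theorem F389992 : act 6 n193478 = n102035 := d10_2 (iv6 F156982) D193478 (iv4 D102035)
theorem F389993 : act 5 n193478 = n160847 := d16_1 D193478 (iv4 F365877) (iv5 D95672) F70259 D89461 (iv4 F368830) F157085 F385550 (iv2 F385549)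
def n193479 : Q := act 4 n101781
theorem D193479 : act 4 n101781 = n193479 := rfl
def n193480 : Q := act 4 n101785
theorem D193480 : act 4 n101785 = n193480 := rfl
theorem F389994 : act 0 n193480 = n191445 := d18_2 F274864 D193480 (iv4 D191445) (iv5 D98356) F306709 F304688 F54719 D41726 D89346
theorem F389995 : act 1 n193480 = n191447 := d18_6 D98969 (iv4 F249721) (iv1 F249725) F156563 D101785 D193480 (iv4 D191447) (iv0 F274648) (iv5 D98971)
def n193481 : Q := act 5 n101786
theorem D193481 : act 5 n101786 = n193481 := rfl
theorem F389996 : act 3 n193481 = n153387 := d6_1 D193481 (iv5 F366699) (iv3 F368855)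
theorem F389997 : act 6 n193481 = n153344 := d12_2 F368852 D193481 (iv5 F357339) F137665 D182224
theorem F389998 : act 7 n193481 = n153345 := d13_2 F368404 D193481 F368859
theorem F389999 : act 0 n193481 = n106180 := d18_0 (iv4 D106180) F340901 (iv4 F177731) F368413 F368412 (iv0 D98363) D98365 (iv0 F272668) D193481
def n193482 : Q := act 0 n101803
theorem D193482 : act 0 n101803 = n193482 := rfl
theorem F390000 : act 5 n193482 = n149017 := d17_1 D193482 (iv1 F236195) F236192 F107093 (iv5 F96310) (iv0 F184653) (iv5 F119567) (iv0 F184651) (iv4 F321067)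
theorem F390001 : act 4 n193482 = n190799 := d18_3 F185569 (iv4 F321067) D193482 F381115 F149008 F314432 (iv4 D69900) F184655 F163032
theorem F390002 : act 6 n193482 = n122555 := d21_5 F362714 (iv1 F179690) F327151 D101803 D193482 (iv5 F314528) F266253 (iv5 F314532) D70698 F236265
theorem F390003 : act 2 n101813 = n193482 := d15_3 (iv0 D193482) F321066 (iv7 F351785)
theorem F390004 : act 3 n193482 = n122556 := d0_2 (iv3 F351781) F390003 F196222 (iv3 F152438) (iv2 F277318)
theorem F390005 : act 7 n193482 = n101814 := d4_2 (iv7 F351785) F390003 F350958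
theorem F390006 : act 1 n101816 = n193482 := d15_1 (iv0 F321080) F390005 F350958
def n193483 : Q := act 5 n101803
theorem D193483 : act 5 n101803 = n193483 := rfl
theorem F390007 : act 2 n193483 = n101815 := d2_1 D193483 (iv5 D101815) (iv2 F156770)
theorem F390008 : act 3 n193483 = n192850 := d6_1 D193483 F388014 F334409
theorem F390009 : act 6 n193483 = n137211 := d12_2 D101803 D193483 F220370 (iv6 D136255) F327151
theorem F390010 : act 0 n193483 = n150086 := d17_2 (iv1 F321066) D193483 (iv5 D150086) (iv4 F232763) F311954 (iv0 F255588) F307780 (iv0 D153873) (iv4 F241763)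
theorem F390011 : act 1 n193483 = n150084 := d17_6 D32758 D70626 F107165 F107162 (iv4 F321067) D193483 (iv5 D150084) (iv0 D70619) F51859
theorem F390012 : act 6 n137200 = n149018 := d21_5 (iv5 D64495) (iv1 D30363) D30364 (iv6 F100424) D137200 (iv5 F241764) (iv1 F321066) D193483 F390009 (iv1 F220371)
theorem F390013 : act 3 n146647 = n137200 := d7_3 F390012 (iv3 F342380) (iv6 F362452)
def n193484 : Q := act 7 n101803
theorem D193484 : act 7 n101803 = n193484 := rfl
theorem F390014 : act 2 n193484 = n101816 := d4_1 D193484 (iv7 D101816) (iv2 F156770)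
theorem F390015 : act 3 n193484 = n123048 := d8_1 D193484 F320205 F334409
theorem F390016 : act 4 n193484 = n106083 := d11_1 D193484 F185705 (iv4 F321067)
theorem F390017 : act 6 n193484 = n179891 := d14_1 D193484 F280154 F326328 (iv7 F326329) D101803
theorem F390018 : act 1 n101814 = n193484 := d15_1 D101814 (iv7 D193484) F156770
theorem F390019 : act 1 n193484 = n101813 := d15_1 F390018 F351785 (iv2 F350958)
def n193485 : Q := act 4 n101815
theorem D193485 : act 4 n101815 = n193485 := rfl
theorem F390020 : act 5 n193485 = n192900 := d16_3 F156772 D101815 D193485 F388148 (iv5 F357000) F356999 F228264 F185705 (iv2 F321073)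
theorem F390021 : act 3 n192388 = n193485 := d6_3 F390020 (iv3 D192900) (iv5 F386624)
def n193486 : Q := act 7 n101815
theorem D193486 : act 7 n101815 = n193486 := rfl
theorem F390022 : act 3 n193486 = n101837 := d8_1 D193486 (iv7 D101837) (iv3 F156774)
theorem F390023 : act 5 n193486 = n101816 := d13_1 D193486 (iv7 D101816) D101815
theorem F390024 : act 1 n150084 = n193486 := d15_1 F390011 (iv7 D193486) (iv2 F390007)
theorem F390025 : act 1 n193486 = n150086 := d15_1 F390024 F236183 (iv2 F236178)
theorem F390026 : act 6 n192521 = n193486 := d7_0 F390022 F156798 D192521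
def n193487 : Q := act 4 n101826
theorem D193487 : act 4 n101826 = n193487 := rfl
theorem F390027 : act 2 n193487 = n145391 := d1_1 D193487 (iv4 F385598) F385592
theorem F390028 : act 7 n193487 = n140667 := d11_2 F386476 D193487 F386480
theorem F390029 : act 5 n193487 = n108968 := d16_1 D193487 F168964 D145403 (iv4 F366171) (iv5 F156730) (iv4 F271109) F273356 (iv7 F385595) F385592
theorem F390030 : act 0 n193487 = n107158 := d18_2 (iv1 F156778) D193487 F331954 (iv5 D83576) (iv4 F155082) F73450 (iv4 F127789) F127793 D83390
theorem F390031 : act 1 n193487 = n145393 := d18_6 F306604 F184684 (iv1 F156732) (iv4 F74545) D101826 D193487 F362960 F325018 (iv5 F325020)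
theorem F390032 : act 3 n108969 = n193487 := d6_3 F390029 (iv3 D108968) D108969
def n193488 : Q := act 6 n101829
theorem D193488 : act 6 n101829 = n193488 := rfl
def n193489 : Q := act 0 n101830
theorem D193489 : act 0 n101830 = n193489 := rfl
def n193490 : Q := act 5 n101830
theorem D193490 : act 5 n101830 = n193490 := rfl
def n193491 : Q := act 7 n101830
theorem D193491 : act 7 n101830 = n193491 := rfl
theorem F390033 : act 3 n193491 = n113364 := d8_1 D193491 F221458 (iv3 F365682)
theorem F390034 : act 4 n193491 = n101833 := d11_1 D193491 (iv7 D101833) (iv4 F156791)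
theorem F390035 : act 1 n102024 = n193491 := d15_1 (iv0 F385609) (iv7 D193491) (iv2 F385607)
theorem F390036 : act 4 n137189 = n192458 := d18_1 (iv1 F361949) (iv1 D192458) F154141 (iv5 F153706) (iv4 F156977) F390035 F390034 F385614 F385611
theorem F390037 : act 2 n192458 = n192927 := d1_1 F390036 (iv4 D192927) F346636
theorem F390038 : act 7 n192458 = n137188 := d11_2 D137189 F390036 (iv4 D137188)
theorem E103542 : n192462 = n155603 := ((c20_9 (iv4 F388275) (iv1 F388278) (iv4 F390036) F220348 (iv1 F218860) (iv3 F360984) F237315 (iv1 F320334) F320335 (iv3 D192462) (iv1 F384838))).symm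
theorem F390039 : act 3 n155603 = n100196 := (sb E103542 (iv3 D192462))
theorem F390040 : act 3 n192461 = n139312 := d0_2 F390039 D192461 F222506 D143883 F320339
theorem E103543 : n192466 = n139390 := ((c8_3 F386756 F390040 (iv7 F222600) (iv3 D192466))).symm
theorem F390041 : act 3 n139390 = n100197 := (sb E103543 (iv3 D192466))
theorem F390042 : act 3 n192467 = n140347 := d5_3 (iv4 F222599) F390041 D192467 (iv4 D140347) (iv3 F168312)
theorem F390043 : act 3 n192468 = n137245 := d6_3 (iv5 F360376) F390041 D192468
theorem E103544 : n192469 = n139388 := (c7_3 D139390 F390041 D192469 (iv3 D139388))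
theorem F390044 : act 6 n139388 = n100197 := (sb E103544 (iv6 D192469))
theorem F390045 : act 4 n192457 = n137156 := d20_2 (iv4 F154141) D192457 (iv3 F389834) (iv1 F389831) F357160 (iv4 D143881) (iv1 F168320) (iv4 F222599) F390041 (iv1 D100197)
theorem F390046 : act 2 n137188 = n192457 := d1_3 F390045 F220335 D137188
theorem F390047 : act 7 n192927 = n192457 := d11_0 F390045 F346635 D192927
theorem F390048 : act 3 n193429 = n192452 := d20_3 (iv4 D101883) D101881 (iv4 F389811) (iv1 D192452) F154139 (iv4 F154141) D192457 F390045 (iv3 F389834) (iv1 F389831)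
theorem F390049 : act 5 n192452 = n193428 := d6_2 D193429 F390048 (iv3 D193428)
def n193492 : Q := act 4 n101831
theorem D193492 : act 4 n101831 = n193492 := rfl
theorem F390050 : act 7 n193492 = n102019 := d11_2 (iv7 F346653) D193492 F156975
def n193493 : Q := act 0 n101832
theorem D193493 : act 0 n101832 = n193493 := rfl
theorem F390051 : act 5 n193493 = n102185 := d21_2 D101832 D193493 (iv6 D102185) (iv1 D47439) (iv6 D22788) D22787 (iv1 F64468) F73592 D99756 F153571
theorem F390052 : act 6 n193493 = n141816 := d21_5 (iv5 F153176) (iv1 F156732) D47326 (iv6 F156792) D193493 (iv5 F364783) (iv1 F372465) F372462 (iv6 D100964) (iv1 F153175)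
theorem F390053 : act 4 n141818 = n193493 := d10_3 F390052 (iv4 D141816) D141818
theorem F390054 : act 0 n141816 = n133977 := d21_4 F220349 (iv1 F352857) (iv5 F390051) F390052 (iv6 F372454) (iv5 D93297) (iv1 F142807) (iv5 F374459) F374460 (iv1 F361949)
theorem F390055 : act 0 n193493 = n192520 := d21_10 F386940 (iv1 F385625) F153570 (iv6 D47051) (iv1 F293210) D93104 F294234 D101182 F364783 (iv6 F390052)
theorem F390056 : act 2 n137184 = n193493 := d2_3 F390051 F352812 D137184
theorem F390057 : act 7 n137179 = n193493 := d13_0 F390051 F352813 D137179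
def n193494 : Q := act 1 n101832
theorem D193494 : act 1 n101832 = n193494 := rfl
theorem F390058 : act 1 n193494 = n192520 := d15_1 D193494 F386941 F385615
theorem F390059 : act 7 n193494 = n137184 := d15_2 (iv0 D193493) D193494 F390056
theorem F390060 : act 5 n137154 = n193494 := d21_0 (iv1 D193494) (iv5 D101832) (iv6 D47323) (iv1 F74537) F329627 (iv5 F225343) (iv1 F218736) (iv5 D64476) D64477 D137154
theorem F390061 : act 2 n193494 = n137179 := d2_1 F390060 (iv5 D137179) (iv2 F352858)
theorem F390062 : act 6 n193494 = n186958 := d21_3 (iv5 D137156) D137154 F390060 (iv1 D186958) F137095 (iv5 D41757) F291854 (iv5 F68451) D93110 (iv1 F361950)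
def n193495 : Q := act 4 n101832
theorem D193495 : act 4 n101832 = n193495 := rfl
theorem F390063 : act 6 n193495 = n101836 := d10_2 (iv6 F156792) D193495 (iv4 D101836)
def n193496 : Q := act 7 n101832
theorem D193496 : act 7 n101832 = n193496 := rfl
theorem F390064 : act 2 n193496 = n192520 := d4_1 D193496 F386941 F385615
theorem F390065 : act 3 n193496 = n137212 := d8_1 D193496 (iv7 F221465) (iv3 F357625)
theorem F390066 : act 5 n193496 = n101833 := d13_1 D193496 (iv7 D101833) D101832
theorem F390067 : act 6 n193496 = n191931 := d14_1 D193496 F384885 (iv6 F156798) (iv7 D101837) (iv6 F156792)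
theorem F390068 : act 1 n137179 = n193496 := d15_1 (iv0 F385619) (iv7 D193496) (iv2 F385615)
theorem F390069 : act 1 n193496 = n137184 := d15_1 F390068 (iv7 F390059) F390061
def n193497 : Q := act 3 n101836
theorem D193497 : act 3 n101836 = n193497 := rfl
theorem F390070 : act 2 n193497 = n145394 := d0_1 D193497 F228428 (iv2 F165129) F385631 F385627
theorem F390071 : act 4 n193497 = n192388 := d5_2 D101836 D193497 F390021 (iv4 D193485) F156774
theorem F390072 : act 0 n193497 = n192917 := d20_4 (iv4 D100930) F74546 D101836 D193497 F388212 (iv4 D140682) F101690 D108964 (iv3 F386517) F386518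
theorem F390073 : act 5 n145393 = n193497 := d16_1 (iv4 F362960) F390071 F386624 (iv4 D100946) (iv5 D47044) F155082 D83576 (iv7 F331963) F331961
theorem F390074 : act 1 n193497 = n174502 := d17_6 (iv1 D83579) (iv5 D38529) D38527 D83571 (iv4 F362960) F390073 (iv5 D174502) D174500 F273380
def n193498 : Q := act 5 n101836
theorem D193498 : act 5 n101836 = n193498 := rfl
theorem F390075 : act 2 n193498 = n107154 := d2_1 D193498 F385632 F385627
theorem F390076 : act 3 n193498 = n145393 := d6_1 D193498 F390073 (iv3 D193497)
theorem F390077 : act 4 n193498 = n140666 := d9_1 D193498 F386494 F343467 (iv5 F273356) F271109 F156730 F366171 (iv5 D145403) (iv4 F168964) (iv5 F390029) (iv4 D193487) (iv5 D101826) F74545 D47326 D101836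
theorem F390078 : act 7 n193498 = n145402 := d13_2 F386521 D193498 (iv5 F386524)
theorem F390079 : act 0 n193498 = n145401 := d17_2 F384768 D193498 F366172 (iv4 D100126) (iv5 F268282) F311768 D162025 F343495 D191902
theorem F390080 : act 1 n193498 = n145346 := d17_6 (iv1 F153175) (iv5 F153176) (iv1 F156732) D47326 D101836 D193498 F359735 F155578 F155577
theorem F390081 : act 6 n192916 = n107389 := d21_3 (iv5 D193498) (iv1 F384795) (iv5 F388210) (iv1 D107389) (iv6 D49603) F37907 D49181 (iv5 F228319) D145346 (iv1 F390080)
theorem E103545 : n192373 = n192327 := (c19_5 F390079 F366172 (iv4 D100126) D100125 D192373 (iv5 D192327) F351958 (iv3 D131092) F162915 (iv5 F314095) F55900 (iv3 F322719) (iv1 F324187) (iv5 D17149) (iv4 F28095) (iv3 F29538) D38527 D83571 (iv4 F362960) (iv3 F390076))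
theorem F390082 : act 1 n192327 = n100125 := (sb E103545 (iv0 D192373))
def n193499 : Q := act 4 n101840
theorem D193499 : act 4 n101840 = n193499 := rfl
theorem F390083 : act 2 n193499 = n101841 := d1_1 D193499 (iv4 D101841) D101840
theorem F390084 : act 3 n193499 = n163093 := d5_1 D193499 F338803 F219283 D136256 F326317
theorem F390085 : act 5 n193499 = n163091 := d16_1 D193499 (iv4 F277078) F339193 (iv4 F355870) F355872 (iv4 F301489) (iv5 F153530) F156402 D101840
theorem F390086 : act 0 n163175 = n193499 := d20_7 F327134 F221375 (iv4 F328825) F328824 (iv1 F308104) (iv3 F284683) F342323 (iv4 D193499) (iv3 F326317) (iv1 F327132)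
def n193500 : Q := act 5 n101840
theorem D193500 : act 5 n101840 = n193500 := rfl
theorem F390087 : act 2 n193500 = n101842 := d2_1 D193500 (iv5 D101842) D101840
theorem F390088 : act 3 n193500 = n118109 := d6_1 D193500 (iv5 F326318) F326317
theorem F390089 : act 7 n193500 = n122797 := d13_2 F356078 D193500 (iv5 F356074)
theorem F390090 : act 0 n193500 = n137351 := d17_2 (iv1 F287096) D193500 (iv5 D137351) (iv4 F345845) (iv5 D84602) F129771 D177597 F277060 F339167
theorem F390091 : act 1 n193500 = n160274 := d17_6 (iv1 F354484) (iv5 D163126) (iv1 F351046) (iv5 F390085) (iv4 D193499) D193500 (iv5 F354494) (iv0 D101733) D101735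
def n193501 : Q := act 6 n101840
theorem D193501 : act 6 n101840 = n193501 := rfl
theorem F390092 : act 2 n193501 = n101843 := d3_1 D193501 (iv6 D101843) D101840
theorem F390093 : act 3 n193501 = n109582 := d7_1 D193501 (iv6 F219301) F326317
theorem F390094 : act 0 n136001 = n193501 := d21_4 D136067 F218976 (iv5 F106602) D136001 (iv6 D193501) D193500 F390090 (iv5 D137351) (iv6 D64564) (iv1 F99558)
theorem F390095 : act 7 n136819 = n193501 := d8_0 F390093 F169530 D136819
def n193502 : Q := act 0 n101841
theorem D193502 : act 0 n101841 = n193502 := rfl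
theorem F390096 : act 5 n193502 = n110398 := d17_1 D193502 (iv1 F354774) F354776 (iv4 F219292) F354504 F156711 D101715 F347430 D101841
theorem F390097 : act 4 n193502 = n154577 := d18_3 F345505 D101841 D193502 (iv5 D154577) (iv4 F351749) (iv0 D101727) (iv4 D47293) (iv0 F322813) D100757
theorem F390098 : act 7 n163175 = n193502 := d11_0 F390097 F363870 F342323
theorem F390099 : act 3 n110400 = n193502 := d20_5 F309218 (iv1 F87367) F309331 (iv3 F324567) F170765 F390097 F339164 (iv4 D84609) F60072 D39076
theorem F390100 : act 6 n193502 = n136716 := d7_2 F357011 F390099 (iv3 F362970)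
def n193503 : Q := act 3 n101841
theorem D193503 : act 3 n101841 = n193503 := rfl
theorem F390101 : act 4 n193503 = n101846 := d5_2 D101841 D193503 (iv3 D101846) (iv4 D47330) D47329
theorem F390102 : act 0 n177683 = n101846 := d20_7 F390097 F339164 (iv4 D84609) F60072 D39076 D84613 D177683 (iv4 F390101) (iv3 D193503) D193502
theorem F390103 : act 1 n189822 = n101846 := d15_0 (iv0 F390102) (iv7 F361899) (iv2 F377876)
def n193504 : Q := act 5 n101841
theorem D193504 : act 5 n101841 = n193504 := rfl
theorem F390104 : act 2 n193504 = n163091 := d2_1 D193504 (iv5 F390085) F390083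
theorem F390105 : act 7 n193504 = n163123 := d13_2 F385648 D193504 (iv5 F385650)
theorem F390106 : act 1 n193504 = n163124 := d17_8 D177438 F342128 (iv1 F342131) F357893 (iv4 F170764) (iv5 F390096) (iv0 D193502) D193504 F341721
theorem F390107 : act 0 n193504 = n125971 := d18_0 F325664 (iv1 D84539) F60009 D39074 D84609 (iv0 F339164) (iv4 F390097) (iv0 D193502) D193504
theorem F390108 : act 6 n193504 = n125961 := d21_3 D167781 F363867 D193504 (iv1 D125961) D125963 F327358 (iv1 F368334) F368331 (iv6 F354787) (iv1 D167780)
def n193505 : Q := act 6 n101841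
theorem D193505 : act 6 n101841 = n193505 := rfl
theorem F390109 : act 4 n193505 = n101843 := d10_1 D193505 (iv6 D101843) D101841
theorem F390110 : act 5 n193505 = n147551 := d12_1 D193505 (iv6 D147551) (iv5 F351027) (iv6 F390108) (iv5 D193504)
theorem F390111 : act 0 n136708 = n193505 := d21_4 D59585 (iv1 F114384) (iv5 F100051) D136708 (iv6 D193505) D193504 F390107 F352336 (iv6 D126956) (iv1 D59583)
def n193506 : Q := act 4 n101842
theorem D193506 : act 4 n101842 = n193506 := rfl
theorem F390112 : act 3 n193506 = n158789 := d5_1 D193506 F363234 (iv3 F363231) (iv4 D101849) (iv3 F156800)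
theorem F390113 : act 7 n193506 = n153589 := d11_2 (iv7 F156801) D193506 (iv4 F301489)
theorem F390114 : act 0 n193506 = n150250 := d17_0 (iv5 F345740) (iv1 D163698) (iv5 F328022) F324278 (iv5 F327150) (iv0 F354498) F345496 (iv0 F305528) D193506
theorem F390115 : act 1 n193506 = n152167 := d18_6 D177667 (iv4 F363865) F363867 (iv4 D101841) D101842 D193506 (iv4 F345837) (iv0 D153325) F339096
def n193507 : Q := act 0 n101843
theorem D193507 : act 0 n101843 = n193507 := rfl
theorem F390116 : act 2 n136907 = n193507 := d15_3 (iv0 D193507) F345508 D136907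
theorem F390117 : act 6 n193507 = n136919 := d3_2 (iv6 F385746) F390116 F385745
theorem F390118 : act 7 n193507 = n136001 := d4_2 D136907 F390116 F218800
theorem F390119 : act 1 n136907 = n193501 := d15_0 (iv0 F390094) (iv7 F390118) (iv2 F390116)
theorem F390120 : act 1 n136819 = n193507 := d15_1 (iv0 F360694) F390118 F218800
def n193508 : Q := act 7 n101843
theorem D193508 : act 7 n101843 = n193508 := rfl
theorem F390121 : act 2 n193508 = n136819 := d4_1 D193508 F390095 F390092
theorem F390122 : act 3 n193508 = n101852 := d8_1 D193508 (iv7 D101852) (iv3 F156802)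
theorem F390123 : act 5 n193508 = n189158 := d13_1 D193508 F375882 F375844
theorem F390124 : act 1 n136001 = n193508 := d15_1 (iv0 F390094) (iv7 D193508) (iv2 F390092)
theorem F390125 : act 1 n193508 = n136907 := d15_1 F390124 (iv7 D136907) (iv2 F218800)
def n193509 : Q := act 3 n101844
theorem D193509 : act 3 n101844 = n193509 := rfl
theorem F390126 : act 6 n193509 = n192412 := d7_2 F378226 D193509 F386667
theorem F390127 : act 7 n193509 = n191521 := d8_2 F156805 D193509 (iv3 D191521)
theorem F390128 : act 0 n193509 = n109311 := d21_4 (iv5 D184199) (iv1 F154097) D192412 (iv6 F390126) (iv6 D109311) (iv5 D50444) (iv1 F39402) D51638 D111965 (iv1 F358511)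
def n193510 : Q := act 3 n101845
theorem D193510 : act 3 n101845 = n193510 := rfl
theorem F390129 : act 6 n193510 = n102167 := d7_2 (iv6 F156809) D193510 (iv3 D102167)
theorem F390130 : act 7 n193510 = n190506 := d8_2 F385636 D193510 (iv3 F385638)
def n193511 : Q := act 2 n101846
theorem D193511 : act 2 n101846 = n193511 := rfl
def n193512 : Q := act 5 n101846
theorem D193512 : act 5 n101846 = n193512 := rfl
theorem F390131 : act 3 n193512 = n101847 := d6_1 D193512 (iv5 D101847) D101846
def n193513 : Q := act 6 n101846
theorem D193513 : act 6 n101846 = n193513 := rfl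
theorem F390132 : act 3 n193513 = n101848 := d7_1 D193513 (iv6 D101848) D101846
def n193514 : Q := act 0 n101847
theorem D193514 : act 0 n101847 = n193514 := rfl
theorem F390133 : act 5 n193514 = n137489 := d17_3 (iv1 D101845) D101847 D193514 (iv4 F383639) F383635 (iv0 F333416) (iv5 F367488) (iv0 D186628) F156808
theorem F390134 : act 1 n101860 = n193514 := d15_0 (iv0 D193514) (iv7 F385657) F385655
theorem F390135 : act 3 n138899 = n193514 := d19_19 (iv1 F390134) (iv5 D101860) (iv4 D47335) D47334 (iv1 F286853) (iv5 D72946) F52915 F25827 D16264 D33641 F307696 F46602 D28981 D61212 F312421 D67369 (iv1 F317089) F314371 (iv4 F222061)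
theorem F390136 : act 2 n193514 = n193469 := d0_1 F390135 (iv3 F389967) (iv2 F389961) F366322 F316047
theorem F390137 : act 6 n193514 = n138897 := d7_2 D138899 F390135 (iv3 D138897)
theorem F390138 : act 7 n193514 = n142364 := d8_2 (iv7 F322122) F390135 F225286
def n193515 : Q := act 1 n101847
theorem D193515 : act 1 n101847 = n193515 := rfl
theorem F390139 : act 1 n193515 = n101860 := d15_1 D193515 (iv7 F385641) F385639
theorem F390140 : act 7 n193515 = n193469 := d15_2 (iv0 D193514) D193515 (iv2 F390136)
theorem F390141 : act 5 n193515 = n192099 := d17_7 D99700 F307572 (iv1 F307569) (iv5 D47331) D47330 D101847 D193515 (iv0 D192099) (iv4 D99702)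
theorem F390142 : act 2 n142364 = n193515 := d2_3 F390141 (iv2 F385537) F361827
theorem F390143 : act 6 n142362 = n193515 := d12_0 F390141 (iv6 F385540) F352959 F356092 (iv5 F355618)
def n193516 : Q := act 6 n101847
theorem D193516 : act 6 n101847 = n193516 := rfl
theorem F390144 : act 7 n193516 = n162763 := d14_2 F385657 D193516 (iv6 D162763) (iv7 F193053) (iv6 F385656)
def n193517 : Q := act 0 n101848
theorem D193517 : act 0 n101848 = n193517 := rfl
theorem F390145 : act 6 n193517 = n102218 := d21_5 (iv5 F390141) (iv1 D193515) (iv5 D101847) D101848 D193517 (iv5 F381566) (iv1 D190926) D190927 F381570 D192099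
theorem F390146 : act 7 n137081 = n193517 := d14_0 F390145 F385762 F385760 (iv7 F218672) D137081
def n193518 : Q := act 1 n101848
theorem D193518 : act 1 n101848 = n193518 := rfl
theorem F390147 : act 6 n135938 = n193518 := d21_3 D64628 D137492 F220898 (iv1 D193518) (iv6 D101848) D101847 D193514 F390133 (iv6 D137489) (iv1 D64626)
theorem F390148 : act 2 n193518 = n137081 := d3_1 F390147 (iv6 D137081) (iv2 F218673)
def n193519 : Q := act 5 n101848
theorem D193519 : act 5 n101848 = n193519 := rfl
theorem F390149 : act 4 n193519 = n141827 := d16_2 (iv4 F156810) D193519 (iv5 D141827) (iv4 F171789) (iv5 F350403) F359435 D189126 F375837 F156405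
def n193520 : Q := act 7 n101848
theorem D193520 : act 7 n101848 = n193520 := rfl
theorem F390150 : act 4 n193520 = n101852 := d11_1 D193520 (iv7 D101852) (iv4 F156810)
theorem F390151 : act 6 n193520 = n109330 := d14_1 D193520 F171072 (iv6 F359476) F156403 D101848
theorem F390152 : act 1 n137081 = n193520 := d15_1 (iv0 F389959) (iv7 D193520) (iv2 F357417)
def n193521 : Q := act 3 n101850
theorem D193521 : act 3 n101850 = n193521 := rfl
theorem F390153 : act 6 n193521 = n102227 := d7_2 (iv6 F368864) D193521 (iv3 D102227)
theorem F390154 : act 7 n193521 = n137143 := d8_2 (iv7 F368865) D193521 F220328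
def n193522 : Q := act 4 n101850
theorem D193522 : act 4 n101850 = n193522 := rfl
theorem F390155 : act 6 n193522 = n102228 := d10_2 (iv6 F368864) D193522 (iv4 D102228)
theorem F390156 : act 7 n193522 = n137145 := d11_2 (iv7 F368865) D193522 F220331
theorem F390157 : act 3 n144167 = n193522 := d8_3 F390156 F220330 D144167
def n193523 : Q := act 5 n101850
theorem D193523 : act 5 n101850 = n193523 := rfl
theorem F390158 : act 2 n193523 = n188350 := d2_1 D193523 (iv5 F385644) (iv2 F385645)
theorem F390159 : act 7 n193523 = n137150 := d13_2 (iv7 F368865) D193523 (iv5 D137150)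
theorem F390160 : act 0 n193523 = n187629 := d21_1 D193523 F371049 (iv6 D135886) D135882 F346674 F307572 (iv1 F307569) (iv5 D47331) D47332 D101850
theorem F390161 : act 0 n188351 = n193523 := d21_1 (iv5 F375888) (iv5 D193523) F368864 (iv1 D47451) (iv6 D22793) D22792 (iv1 F292963) D43646 (iv6 F143886) D189160
def n193524 : Q := act 4 n101851
theorem D193524 : act 4 n101851 = n193524 := rfl
theorem F390162 : act 2 n193524 = n137145 := d1_1 D193524 F220331 (iv2 F365270)
theorem F390163 : act 6 n193524 = n135958 := d10_2 (iv6 F365271) D193524 (iv4 D135958)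
theorem F390164 : act 0 n193524 = n101870 := d18_2 F375838 D193524 F375871 (iv5 D189154) (iv4 D93301) F142806 (iv4 F143879) F143882 D189126
def n193525 : Q := act 3 n101864
theorem D193525 : act 3 n101864 = n193525 := rfl
theorem F390165 : act 5 n193525 = n186979 := d6_2 (iv5 F344547) D193525 (iv3 D186979)
theorem F390166 : act 6 n193525 = n102177 := d7_2 (iv6 F344548) D193525 (iv3 D102177)
theorem F390167 : act 2 n181740 = n193525 := d3_3 F390166 F329271 D181740
theorem F390168 : act 4 n179541 = n193525 := d10_3 F390166 F329272 D179541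
def n193526 : Q := act 0 n101868
theorem D193526 : act 0 n101868 = n193526 := rfl
def n193527 : Q := act 1 n101868
theorem D193527 : act 1 n101868 = n193527 := rfl
def n193528 : Q := act 2 n101868
theorem D193528 : act 2 n101868 = n193528 := rfl
theorem F390169 : act 3 n193528 = n101881 := d0_2 D101868 D193528 (iv2 F385672) (iv3 D192126) F286966
theorem F390170 : act 4 n193528 = n115723 := d1_2 (iv4 F385680) D193528 (iv2 F245616)
def n193529 : Q := act 5 n101868
theorem D193529 : act 5 n101868 = n193529 := rfl
theorem F390171 : act 3 n193529 = n101869 := d6_1 D193529 (iv5 D101869) D101868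
def n193530 : Q := act 6 n101868
theorem D193530 : act 6 n101868 = n193530 := rfl
theorem F390172 : act 3 n193530 = n101870 := d7_1 D193530 (iv6 D101870) D101868
def n193531 : Q := act 0 n101869
theorem D193531 : act 0 n101869 = n193531 := rfl
theorem F390173 : act 5 n193531 = n137531 := d17_3 D47338 D101869 D193531 F220729 (iv5 F329873) (iv0 F156337) (iv5 D47331) (iv0 D22744) D22746
theorem F390174 : act 2 n113082 = n193531 := d15_3 (iv0 D193531) (iv0 F363875) F204362
theorem F390175 : act 1 n101874 = n193531 := d15_0 (iv0 D193531) (iv7 F385683) F385681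
theorem F390176 : act 7 n193531 = n193467 := d15_2 F357632 F390175 F389949
theorem F390177 : act 6 n113064 = n193531 := d14_5 F390176 F389953 F204356 F176146 (iv7 F176161)
theorem F390178 : act 3 n193531 = n142467 := d7_1 F390177 F355194 F176225
def n193532 : Q := act 6 n101869
theorem D193532 : act 6 n101869 = n193532 := rfl
def n193533 : Q := act 0 n101870
theorem D193533 : act 0 n101870 = n193533 := rfl
def n193534 : Q := act 5 n101870
theorem D193534 : act 5 n101870 = n193534 := rfl
def n193535 : Q := act 7 n101870
theorem D193535 : act 7 n101870 = n193535 := rfl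
theorem F390179 : act 6 n193535 = n112040 := d14_1 D193535 F174159 F349517 F286965 D101870
theorem F390180 : act 1 n137145 = n193535 := d15_1 (iv0 F386005) (iv7 D193535) (iv2 F385676)
theorem F390181 : act 5 n174654 = n193535 := d12_5 F390179 (iv5 D112040) (iv6 F324866) D83457 D174654
theorem F390182 : act 7 n193534 = n174654 := d13_0 F390181 (iv7 D193535) D193534
def n193536 : Q := act 6 n101872
theorem D193536 : act 6 n101872 = n193536 := rfl
theorem F390183 : act 3 n193536 = n101875 := d7_1 D193536 (iv6 D101875) D101872
theorem F390184 : act 5 n112049 = n193536 := d6_0 F390183 F349504 D112049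
theorem F390185 : act 0 n136266 = n193536 := d20_4 (iv4 F162057) F162058 F161972 (iv3 F219327) F390183 F349503 (iv1 F226166) (iv4 D109720) F79981 D50607
def n193537 : Q := act 6 n101874
theorem D193537 : act 6 n101874 = n193537 := rfl
theorem F390186 : act 2 n193537 = n173834 := d3_1 D193537 (iv6 F385682) F385681
theorem F390187 : act 5 n193537 = n112051 := d12_1 D193537 (iv6 D112051) (iv5 F349504) (iv6 D101875) D101874
theorem F390188 : act 7 n173825 = n193537 := d13_0 F390187 F326442 D173825
theorem F390189 : act 0 n162704 = n193537 := d17_0 F390187 F326439 (iv5 F356139) F356138 F356133 (iv0 F320206) D162735 (iv0 F387938) F387936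
theorem F390190 : act 1 n160639 = n193537 := d17_6 (iv1 F88330) (iv5 D55843) (iv1 F121251) D35186 D77040 D160639 F390187 F326440 (iv4 D78207)
def n193538 : Q := act 0 n101876
theorem D193538 : act 0 n101876 = n193538 := rfl
theorem F390191 : act 5 n193538 = n144025 := d17_3 F168207 (iv5 F357182) D193538 F226710 F165075 (iv0 F176250) (iv5 D113128) F82556 (iv4 F94068)
theorem F390192 : act 4 n193538 = n192945 := d18_1 D193538 (iv1 F389210) F389198 (iv5 D143995) (iv4 F168205) (iv0 D52214) (iv4 F82554) F168290 (iv5 F357182)
theorem F390193 : act 2 n101880 = n193538 := d15_3 (iv0 D193538) (iv0 D101876) D101880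
theorem F390194 : act 1 n101877 = n193538 := d15_0 (iv0 D193538) (iv7 F357180) (iv2 F357177)
theorem F390195 : act 7 n193538 = n101878 := d15_2 D101877 F390194 (iv2 D101878)
theorem F390196 : act 3 n144198 = n193538 := d8_3 F390195 (iv3 F385693) (iv7 F385695)
theorem F390197 : act 6 n103231 = n193538 := d14_5 F390195 F156823 (iv7 F157091) F366708 (iv7 F177375)
def n193539 : Q := act 4 n101876
theorem D193539 : act 4 n101876 = n193539 := rfl
def n193540 : Q := act 6 n101876
theorem D193540 : act 6 n101876 = n193540 := rfl
def n193541 : Q := act 3 n101877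
theorem D193541 : act 3 n101877 = n193541 := rfl
theorem F390198 : act 2 n193541 = n103287 := d0_1 D193541 (iv3 F352017) (iv2 F174036) (iv3 F346860) (iv2 F357177)
theorem F390199 : act 4 n166646 = n193541 := d20_2 F377877 (iv1 F341638) (iv3 D193541) (iv1 D101877) (iv3 D47340) (iv4 D22746) D22744 D47330 D101846 (iv1 F390103)
theorem F390200 : act 7 n103288 = n193541 := d15_2 (iv0 D103287) D103288 F390198
theorem F390201 : act 3 n144000 = n103288 := d8_3 F390200 (iv3 D193541) F357178
theorem F390202 : act 4 n162960 = n103288 := d11_3 F390200 (iv4 F390199) (iv7 F341868)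
theorem F390203 : act 5 n103288 = n143999 := d6_2 D144000 F390201 (iv3 D143999)
def n193542 : Q := act 4 n101877
theorem D193542 : act 4 n101877 = n193542 := rfl
def n193543 : Q := act 6 n101877
theorem D193543 : act 6 n101877 = n193543 := rfl
theorem F390204 : act 2 n193543 = n111981 := d3_1 D193543 F346859 (iv2 F357177)
theorem F390205 : act 5 n193543 = n111980 := d21_6 (iv5 D188010) (iv1 F139639) D103231 F390197 (iv1 F390194) D193543 (iv1 F174032) F353195 (iv6 F376039) (iv1 F372085)
theorem F390206 : act 0 n193543 = n107291 := d21_10 (iv5 F342888) (iv1 D111954) D111956 (iv6 F347200) (iv1 F339991) F178449 (iv5 D113126) F175821 F357176 D193543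
def n193544 : Q := act 6 n101881
theorem D193544 : act 6 n101881 = n193544 := rfl
def n193545 : Q := act 6 n101883
theorem D193545 : act 6 n101883 = n193545 := rfl
theorem F390207 : act 2 n193545 = n192884 := d3_1 D193545 F388099 F385710
theorem F390208 : act 3 n193545 = n111137 := d7_1 D193545 (iv6 F226507) (iv3 F357160)
theorem F390209 : act 4 n193545 = n101884 := d10_1 D193545 (iv6 D101884) D101883
theorem F390210 : act 7 n193545 = n138331 := d14_2 F335337 D193545 F221531 (iv7 F329766) D100876
theorem F390211 : act 5 n189134 = n193545 := d21_8 F389837 (iv1 F389800) (iv5 F389801) (iv6 D139288) (iv1 F101074) D133980 (iv5 F372456) D189134 (iv6 D193545) (iv1 F389835)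
theorem F390212 : act 7 n186771 = n189134 := d13_0 F390211 F390210 (iv5 F367958)
theorem F390213 : act 1 n192883 = n193545 := d15_1 D192883 F390210 F365301
theorem F390214 : act 0 n189064 = n193545 := d20_4 (iv4 F155598) (iv1 F386784) (iv4 D189065) D189064 F390208 (iv4 D111137) (iv1 D51263) (iv4 F80853) (iv3 F172342) F374452
theorem E103546 : n192882 = n189064 := ((c15_1 (iv0 F390214) (iv0 D192882) D192884 (iv2 F390207))).symm
theorem F390215 : act 1 n189064 = n100881 := (sb E103546 (iv0 D192882))
def n193546 : Q := act 4 n101887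
theorem D193546 : act 4 n101887 = n193546 := rfl
theorem F390216 : act 6 n193546 = n101888 := d10_2 (iv6 F156831) D193546 (iv4 D101888)
theorem F390217 : act 7 n193546 = n102290 := d11_2 (iv7 F156832) D193546 (iv4 D102290)
def n193547 : Q := act 3 n101888
theorem D193547 : act 3 n101888 = n193547 := rfl
theorem F390218 : act 4 n193547 = n139493 := d5_2 D101888 D193547 F341130 (iv4 D73159) (iv3 F308719)
theorem F390219 : act 7 n193547 = n101939 := d8_2 (iv7 F156833) D193547 (iv3 D101939)
def n193548 : Q := act 0 n101899
theorem D193548 : act 0 n101899 = n193548 := rfl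
theorem F390220 : act 5 n193548 = n171033 := d17_3 F312002 D101899 D193548 F353801 F303621 D176126 (iv5 F337515) F337512 (iv4 F136823)
theorem F390221 : act 1 n149192 = n193548 := d15_0 (iv0 D193548) (iv7 F274847) (iv2 F366711)
theorem F390222 : act 2 n192856 = n193548 := d2_3 F390220 F268751 D192856
theorem F390223 : act 3 n122567 = n193548 := d6_3 F390220 F268752 (iv5 F302310)
theorem F390224 : act 7 n193548 = n124047 := d8_2 (iv7 F196271) F390223 (iv3 D124047)
theorem F390225 : act 1 n189629 = n124047 := d15_1 F388032 (iv7 F390224) (iv2 F390222)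
theorem F390226 : act 1 n124047 = n175517 := d15_1 F390225 F274847 (iv2 F377187)
theorem F390227 : act 4 n102675 = n124047 := d18_7 (iv1 F313107) F74194 D82960 (iv4 F323003) (iv5 F291517) F157919 D102675 F390226 (iv5 D175517)
def n193549 : Q := act 1 n101899
theorem D193549 : act 1 n101899 = n193549 := rfl
theorem F390228 : act 1 n193549 = n149192 := d15_1 D193549 F377191 F377187
theorem F390229 : act 7 n193549 = n192856 := d15_2 (iv0 D193548) D193549 F390222
theorem F390230 : act 2 n124047 = n193549 := d4_3 F390229 F390222 F390224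
theorem F390231 : act 5 n192857 = n193549 := d13_3 F390229 (iv5 D192856) D192857
theorem F390232 : act 4 n191310 = n193549 := d18_7 (iv1 F154835) F136823 (iv1 F337512) F198017 (iv5 F370379) F370378 D191310 F390228 (iv5 D149192)
theorem F390233 : act 2 n102675 = n191310 := d1_3 F390232 (iv2 F390230) (iv4 F390227)
theorem F390234 : act 7 n102674 = n191310 := d11_0 F390232 F390229 (iv4 F388034)
theorem F390235 : act 2 n102674 = n191309 := d15_3 (iv0 D191309) D191310 (iv7 F390234)
theorem F390236 : act 4 n191309 = n193548 := d1_2 (iv4 F388034) F390235 (iv2 F390222)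
theorem F390237 : act 7 n191309 = n102675 := d4_2 (iv7 F390234) F390235 F390233
def n193550 : Q := act 3 n101908
theorem D193550 : act 3 n101908 = n193550 := rfl
theorem F390238 : act 2 n193550 = n153857 := d0_1 D193550 (iv3 D153857) F233824 D73182 (iv2 F312615)
theorem F390239 : act 5 n193550 = n152007 := d6_2 (iv5 F156850) D193550 F338059
theorem F390240 : act 7 n193550 = n152006 := d8_2 F274762 D193550 (iv3 F338133)
theorem F390241 : act 1 n154462 = n193550 := d15_1 (iv0 F338138) F390240 F338134
theorem F390242 : act 1 n193550 = n154241 := d15_1 F390241 F348249 (iv2 F361523)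
def n193551 : Q := act 4 n101909
theorem D193551 : act 4 n101909 = n193551 := rfl
theorem F390243 : act 7 n193551 = n154494 := d11_2 F310409 D193551 (iv4 D154494)
def n193552 : Q := act 1 n101910
theorem D193552 : act 1 n101910 = n193552 := rfl
theorem F390244 : act 1 n193552 = n101924 := d15_1 D193552 (iv7 F274815) (iv2 F274830)
theorem F390245 : act 4 n193552 = n175571 := d18_7 F154536 (iv4 F72403) F272644 (iv4 D47347) D47348 D101910 D193552 F274904 (iv5 D83849)
def n193553 : Q := act 3 n101910
theorem D193553 : act 3 n101910 = n193553 := rfl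
theorem F390246 : act 4 n193553 = n102303 := d5_2 D101910 D193553 F157119 (iv4 F314162) F156842
theorem F390247 : act 7 n193553 = n190566 := d8_2 F274850 D193553 (iv3 F385827)
theorem F390248 : act 0 n193553 = n102309 := d19_4 D22749 D47348 D101910 D193553 F157128 (iv4 F367856) F367855 (iv1 F377711) (iv5 F377714) F208143 (iv3 D60961) F53621 (iv5 F97210) F315525 F310598 (iv1 D88123) (iv5 D41143) F30990 (iv3 F17287)
theorem E103547 : n185085 = n102316 := (c20_4 (iv4 D41251) (iv1 F62414) F337978 D185085 (iv1 D102316) (iv3 F157119) (iv4 F390246) F390248 (iv4 F358600) (iv3 D185059) F135146)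
theorem F390249 : act 2 n102316 = n191294 := (sb E103547 F382922)
theorem F390250 : act 3 n102316 = n88217 := (sb E103547 (iv3 D185085))
theorem F390251 : act 7 n102316 = n185068 := (sb E103547 F337977)
theorem F390252 : act 1 n193553 = n190569 := d15_1 (iv0 F390248) (iv7 D190569) (iv2 F157127)
theorem F390253 : act 2 n185068 = n102315 := d15_3 (iv0 D102315) D102316 F390251
theorem F390254 : act 7 n191294 = n102315 := d4_2 (iv7 F390251) F390249 (iv2 F390253)
theorem F390255 : act 3 n191309 = n185498 := d20_3 (iv4 F314162) D193548 (iv4 F390236) (iv1 D185498) (iv3 D88364) (iv4 D41251) (iv1 F62414) F337978 (iv3 F390250) (iv1 D102316)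
theorem F390256 : act 6 n102302 = n193553 := d14_5 F390247 F385826 F385825 (iv6 F372771) F372772
def n193554 : Q := act 5 n101910
theorem D193554 : act 5 n101910 = n193554 := rfl
theorem F390257 : act 2 n193554 = n136932 := d2_1 D193554 F354880 (iv2 F274830)
theorem F390258 : act 4 n193554 = n113989 := d9_1 D193554 F251208 (iv4 F346727) (iv5 D101922) (iv4 D47352) D47353 D101924 F354883 (iv4 F177018) F177019 (iv4 F346733) (iv5 D101905) (iv4 D47347) D47348 D101910
theorem F390259 : act 7 n193554 = n136920 := d13_2 F274850 D193554 (iv5 F354881)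
theorem F390260 : act 1 n193554 = n136929 := d17_6 (iv1 D47356) (iv5 D22751) D22749 D47348 D101910 D193554 F368482 (iv0 F272646) (iv4 D101935)
theorem F390261 : act 1 n136930 = n193554 := d15_1 D136930 F390259 F220102
def n193555 : Q := act 6 n101910
theorem D193555 : act 6 n101910 = n193555 := rfl
theorem F390262 : act 3 n193555 = n102302 := d7_1 D193555 F390256 (iv3 D193553)
theorem F390263 : act 4 n193555 = n101911 := d10_1 D193555 (iv6 D101911) D101910
def n193556 : Q := act 0 n101911
theorem D193556 : act 0 n101911 = n193556 := rfl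
theorem F390264 : act 5 n193556 = n186554 := d21_0 (iv1 D186554) F136236 (iv6 D47494) (iv1 D22812) (iv6 F35304) (iv5 D22751) D22749 D47348 D101911 D193556
theorem F390265 : act 2 n154397 = n193556 := d2_3 F390264 (iv2 F368297) F368299
theorem F390266 : act 7 n186928 = n193556 := d13_0 F390264 F368296 D186928
theorem F390267 : act 6 n102315 = n193556 := d21_5 (iv5 D10775) D10773 D22804 D47479 D102315 F390264 (iv1 D186554) F136236 (iv6 D47494) (iv1 D22812)
def n193557 : Q := act 1 n101911
theorem D193557 : act 1 n101911 = n193557 := rfl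
theorem F390268 : act 7 n193557 = n154397 := d15_2 (iv0 D193556) D193557 F390265
theorem F390269 : act 5 n193557 = n186553 := d17_7 F362117 (iv5 F365915) F381541 (iv5 D190915) F149703 F307501 D193557 (iv0 D186553) (iv4 F289483)
theorem F390270 : act 2 n186928 = n193557 := d2_3 F390269 F368294 D186928
theorem F390271 : act 3 n153830 = n193557 := d6_3 F390269 (iv3 F350725) F248344
theorem F390272 : act 1 n188243 = n154397 := d15_1 (iv0 F372805) (iv7 F390268) (iv2 F390270)
def n193558 : Q := act 0 n101919
theorem D193558 : act 0 n101919 = n193558 := rfl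
theorem F390273 : act 1 n149055 = n193558 := d15_0 (iv0 D193558) F314169 (iv2 F234394)
def n193559 : Q := act 1 n101919
theorem D193559 : act 1 n101919 = n193559 := rfl
theorem F390274 : act 1 n193559 = n149055 := d15_1 D193559 F234395 (iv2 F314168)
theorem F390275 : act 5 n193559 = n150087 := d17_7 F210846 F155487 F155489 (iv5 D69918) F314167 D101919 D193559 (iv0 F366717) (iv4 D149225)
theorem F390276 : act 2 n149169 = n193559 := d2_3 F390275 F236184 (iv5 F234544)
theorem F390277 : act 7 n193558 = n149169 := d15_2 F390274 F390273 F390276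
theorem F390278 : act 7 n149170 = n193559 := d15_2 (iv0 D149169) D149170 (iv2 F390276)
theorem F390279 : act 2 n193558 = n149170 := d4_3 F390278 (iv2 F390276) (iv7 F390277)
def n193560 : Q := act 4 n101919
theorem D193560 : act 4 n101919 = n193560 := rfl
theorem F390280 : act 2 n193560 = n149194 := d1_1 D193560 (iv4 D149194) (iv2 F314168)
theorem F390281 : act 3 n193560 = n136975 := d5_1 D193560 (iv4 D136975) (iv3 F354882) (iv4 D101924) (iv3 F156911)
theorem F390282 : act 7 n193560 = n149171 := d11_2 (iv7 F314169) D193560 (iv4 D149171)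
theorem F390283 : act 5 n152751 = n193560 := d6_0 F390281 F363881 D152751
theorem F390284 : act 6 n137004 = n193560 := d7_0 F390281 F220126 D137004
def n193561 : Q := act 6 n101919
theorem D193561 : act 6 n101919 = n193561 := rfl
theorem F390285 : act 2 n193561 = n149195 := d3_1 D193561 (iv6 D149195) (iv2 F314168)
theorem F390286 : act 3 n193561 = n101925 := d7_1 D193561 (iv6 D101925) (iv3 F156911)
theorem F390287 : act 4 n193561 = n137004 := d10_1 D193561 F390284 (iv4 D193560)
def n193562 : Q := act 5 n101925
theorem D193562 : act 5 n101925 = n193562 := rfl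
theorem F390288 : act 2 n193562 = n193050 := d2_1 D193562 F388590 F274851
theorem F390289 : act 6 n193562 = n101927 := d12_2 D101925 D193562 (iv5 D101927) (iv6 D47354) D47353
theorem F390290 : act 7 n193562 = n192775 := d13_2 F388659 D193562 F388660
def n193563 : Q := act 0 n101931
theorem D193563 : act 0 n101931 = n193563 := rfl
theorem F390291 : act 5 n193563 = n136930 := d17_1 D193563 (iv1 D136930) (iv5 F354883) (iv4 D101924) (iv5 D47353) F59433 (iv5 F128841) F128844 D101931
theorem F390292 : act 4 n193563 = n175565 := d18_3 D47355 D101931 D193563 (iv5 D175565) F154538 (iv0 F272643) (iv4 D47347) (iv0 D22749) D22751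
theorem F390293 : act 2 n191504 = n193563 := d15_3 (iv0 D193563) (iv0 F338093) D191504
theorem F390294 : act 1 n101935 = n193563 := d15_0 (iv0 D193563) (iv7 F338125) (iv2 F338129)
theorem F390295 : act 7 n193563 = n186631 := d15_2 (iv0 F272646) F390294 F367501
theorem F390296 : act 6 n192002 = n193563 := d12_0 F390291 F353314 F167777 (iv6 F333443) D192002
def n193564 : Q := act 6 n101931
theorem D193564 : act 6 n101931 = n193564 := rfl
theorem F390297 : act 4 n193564 = n101932 := d10_1 D193564 (iv6 D101932) D101931
def n193565 : Q := act 1 n101932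
theorem D193565 : act 1 n101932 = n193565 := rfl
def n193566 : Q := act 4 n101934
theorem D193566 : act 4 n101934 = n193566 := rfl
theorem F390298 : act 2 n193566 = n149146 := d1_1 D193566 F388330 F388329
theorem F390299 : act 7 n193566 = n149145 := d11_2 (iv7 F338130) D193566 F338054
theorem F390300 : act 0 n193566 = n149053 := d18_2 (iv1 F388336) D193566 (iv4 D149053) (iv5 D69909) F51544 D32466 F314167 (iv0 F314165) (iv5 F388334)
theorem F390301 : act 0 n149149 = n193566 := d20_1 (iv4 F234525) (iv4 D193566) (iv3 D101934) (iv1 D47356) F35303 D41157 D88180 F308729 (iv3 F338053) (iv1 F234391)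
def n193567 : Q := act 6 n101934
theorem D193567 : act 6 n101934 = n193567 := rfl
theorem F390302 : act 3 n193567 = n101936 := d7_1 D193567 (iv6 D101936) D101934
def n193568 : Q := act 3 n101935
theorem D193568 : act 3 n101935 = n193568 := rfl
def n193569 : Q := act 5 n101935
theorem D193569 : act 5 n101935 = n193569 := rfl
theorem F390303 : act 4 n193569 = n187766 := d9_1 D193569 F371439 (iv4 F383207) F383206 (iv4 F338091) F155078 D101931 F374771 F374770 F143160 (iv4 F373984) F373985 F272670 F155044 D101935
theorem F390304 : act 7 n193569 = n187688 := d13_2 (iv7 F338128) D193569 (iv5 F371190)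
theorem F390305 : act 6 n193569 = n123619 := d21_9 (iv5 D193334) (iv1 F156283) (iv5 F156298) (iv6 F347385) F218438 (iv6 F353314) (iv5 F390291) (iv1 F390294) D193569 (iv1 F389492)
theorem F390306 : act 3 n152683 = n193569 := d7_3 F390305 F338732 (iv6 F338733)
theorem F390307 : act 5 n193568 = n152683 := d6_0 F390306 (iv5 D193569) D193568
theorem F390308 : act 4 n152765 = n193568 := d16_0 F390307 (iv4 D152683) (iv5 D72024) D72023 D152681 (iv4 F348362) F348363 F348364 F348365
theorem F390309 : act 0 n136971 = n193568 := d17_2 F338724 D136971 F390307 (iv4 D152683) (iv5 D72024) (iv0 F304769) (iv5 F306775) F98941 D134687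
theorem F390310 : act 0 n193568 = n136966 := d21_7 (iv5 F216527) F352588 (iv5 D137414) F338473 D154631 (iv6 F338733) (iv5 F390307) (iv5 D136966) (iv6 F339485) (iv1 F216304)
theorem F390311 : act 3 n193566 = n152765 := d5_5 F390308 (iv3 D193568) (iv4 D101935) D101934 D193566
def n193570 : Q := act 1 n101936
theorem D193570 : act 1 n101936 = n193570 := rfl
theorem F390312 : act 7 n193570 = n154573 := d15_2 (iv0 F387883) D193570 (iv2 F387063)
theorem F390313 : act 2 n183932 = n193570 := d4_3 F390312 (iv2 F387063) F287520
theorem F390314 : act 4 n153897 = n193570 := d11_3 F390312 (iv4 D154573) (iv7 F241861)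
theorem F390315 : act 6 n193570 = n102343 := d10_2 (iv6 F359655) F390314 F361676
theorem F390316 : act 5 n193570 = n187033 := d21_6 (iv5 D44883) (iv1 F72164) F72162 D47491 D102343 (iv6 F390315) (iv1 D187033) (iv5 F151016) (iv6 D97975) F72137
def n193571 : Q := act 7 n101936
theorem D193571 : act 7 n101936 = n193571 := rfl
theorem F390317 : act 1 n183932 = n193571 := d15_1 (iv0 F387062) (iv7 D193571) F338131
theorem F390318 : act 1 n193571 = n154573 := d15_1 F390317 (iv7 F390312) (iv2 F390313)
def n193572 : Q := act 3 n101937
theorem D193572 : act 3 n101937 = n193572 := rfl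
def n193573 : Q := act 6 n101937
theorem D193573 : act 6 n101937 = n193573 := rfl
theorem F390319 : act 5 n193573 = n191653 := d12_1 D193573 F384061 F368814 D187683 (iv5 F371182)
def n193574 : Q := act 5 n101938
theorem D193574 : act 5 n101938 = n193574 := rfl
theorem F390320 : act 4 n193574 = n188760 := d9_1 D193574 F374754 (iv4 D173582) (iv5 F308610) F308609 (iv5 F338075) (iv4 F338083) F371182 F371181 F139211 F324794 (iv5 F127941) (iv4 F249127) F338087 (iv4 F338088)
theorem F390321 : act 7 n193574 = n187769 := d13_2 F338095 D193574 F371449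
theorem F390322 : act 6 n153969 = n193574 := d14_5 F390321 (iv6 D187769) (iv7 F139361) D187677 (iv7 F374736)
def n193575 : Q := act 6 n101938
theorem D193575 : act 6 n101938 = n193575 := rfl
def n193576 : Q := act 0 n101939
theorem D193576 : act 0 n101939 = n193576 := rfl
def n193577 : Q := act 1 n101939
theorem D193577 : act 1 n101939 = n193577 := rfl
def n193578 : Q := act 2 n101939
theorem D193578 : act 2 n101939 = n193578 := rfl
theorem F390323 : act 4 n193578 = n184989 := d1_2 (iv4 F156918) D193578 (iv2 D184989)
theorem F390324 : act 6 n193578 = n102365 := d3_2 (iv6 F156919) D193578 (iv2 D102365)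
def n193579 : Q := act 5 n101939
theorem D193579 : act 5 n101939 = n193579 := rfl
theorem F390325 : act 3 n193579 = n101940 := d6_1 D193579 (iv5 D101940) D101939
theorem F390326 : act 0 n193579 = n134444 := d20_4 (iv4 F177018) (iv1 F354895) F275060 (iv3 F390325) (iv3 D134444) F167789 (iv1 D108523) (iv4 F167783) (iv3 F353313) (iv1 D136930)
def n193580 : Q := act 0 n101940
theorem D193580 : act 0 n101940 = n193580 := rfl
theorem F390327 : act 1 n113991 = n193580 := d15_0 (iv0 D193580) F275058 (iv2 F357752)
def n193581 : Q := act 1 n101940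
theorem D193581 : act 1 n101940 = n193581 := rfl
theorem F390328 : act 1 n193581 = n113991 := d15_1 D193581 (iv7 F354897) F274872
theorem F390329 : act 4 n193581 = n187654 := d17_9 F371117 F370553 (iv1 D187490) (iv5 F139211) (iv4 F371181) (iv5 F371182) (iv0 D101937) D101940 D193581
theorem F390330 : act 6 n113917 = n193581 := d10_0 F390329 (iv6 D187654) (iv4 F177215)
theorem F390331 : act 3 n193581 = n137977 := d7_1 F390330 (iv6 D137977) (iv3 F177217)
def n193582 : Q := act 6 n101940
theorem D193582 : act 6 n101940 = n193582 := rfl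
theorem F390332 : act 4 n193582 = n104367 := d10_1 D193582 (iv6 F355336) F275060
theorem F390333 : act 5 n193582 = n102369 := d12_1 D193582 (iv6 D102369) (iv5 D47498) (iv6 F74557) D101940
theorem F390334 : act 0 n134055 = n193582 := d21_4 D92810 F292654 (iv5 F290706) (iv6 F336946) (iv6 D193582) (iv5 D101940) D101937 F371182 (iv6 D187683) F139210
theorem F390335 : act 3 n134046 = n193582 := d5_5 F390332 F355337 (iv4 D135539) D135538 F217966
theorem F390336 : act 7 n134307 = n193582 := d11_0 F390332 (iv7 F371213) (iv4 F371214)
theorem F390337 : act 6 n193579 = n134046 := d7_0 F390335 (iv6 D193582) (iv3 F390325)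
theorem F390338 : act 2 n134305 = n193579 := d3_3 F390337 F336857 D134305
theorem F390339 : act 5 n193578 = n134305 := d2_0 F390338 (iv5 D193579) D193578
def n193583 : Q := act 4 n101981
theorem D193583 : act 4 n101981 = n193583 := rfl
theorem F390340 : act 2 n193583 = n137808 := d1_1 D193583 F385447 F385978
theorem F390341 : act 3 n193583 = n172030 := d5_1 D193583 (iv4 D172030) F126901 F328323 D101981
theorem F390342 : act 6 n193583 = n193418 := d10_2 (iv6 F328322) D193583 F389786
theorem F390343 : act 7 n193583 = n137809 := d11_2 (iv7 F385445) D193583 (iv4 F385443)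
theorem F390344 : act 0 n193583 = n137811 := d18_2 F363136 D193583 F221045 (iv5 F327683) (iv4 F153660) (iv0 F289590) F147943 (iv0 F289587) (iv5 F364509)
theorem F390345 : act 0 n104276 = n193583 := d20_1 D104276 (iv4 D193583) (iv3 D101981) (iv1 D47373) F35305 D22765 D47387 F74597 D99827 F156187
def n193584 : Q := act 5 n101981
theorem D193584 : act 5 n101981 = n193584 := rfl
theorem F390346 : act 3 n193584 = n101983 := d6_1 D193584 (iv5 D101983) D101981
theorem F390347 : act 7 n193584 = n176702 := d13_2 (iv7 F385445) D193584 (iv5 F385442)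
theorem F390348 : act 1 n193584 = n191887 := d17_8 F331233 F137942 (iv1 F160316) (iv5 D103653) F153409 D192073 F385436 D193584 F384670
def n193585 : Q := act 0 n101987
theorem D193585 : act 0 n101987 = n193585 := rfl
theorem F390349 : act 5 n193585 = n172054 := d17_1 D193585 (iv1 F270138) (iv5 F346777) F209090 D130578 F350793 (iv5 F346002) (iv0 D102025) (iv4 F156951)
theorem F390350 : act 4 n193585 = n103167 := d18_3 (iv1 D102026) (iv4 F156951) D193585 (iv5 F366334) (iv4 F379425) F379422 F337127 F346797 F339838
theorem F390351 : act 2 n174387 = n193585 := d15_3 (iv0 D193585) F339824 D174387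
theorem F390352 : act 1 n126654 = n193585 := d15_0 (iv0 D193585) (iv7 F365695) F365697
theorem F390353 : act 7 n193585 = n172789 := d15_2 (iv0 F346798) F390352 F271056
theorem F390354 : act 3 n193343 = n193585 := d8_3 F390353 F271057 D193343
theorem F390355 : act 3 n140778 = n124217 := d19_11 D172054 (iv5 F390349) F390350 F366335 (iv1 D103732) (iv5 D48035) D48034 D103727 F308697 (iv5 F360892) (iv4 F360894) F304486 (iv5 D177787) (iv4 D84652) F325162 (iv1 F326451) (iv5 F324128) D37795 D82403
theorem F390356 : act 5 n124216 = n140778 := d6_0 F390355 (iv5 D124217) D124216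
def n193586 : Q := act 2 n101987
theorem D193586 : act 2 n101987 = n193586 := rfl
theorem F390357 : act 3 n193586 = n126657 := d0_2 D101987 D193586 F203817 F328239 (iv2 F327921)
theorem F390358 : act 4 n193586 = n102027 := d1_2 (iv4 F156951) D193586 (iv2 D102027)
theorem F390359 : act 7 n193586 = n126654 := d4_2 F365695 D193586 (iv2 F365697)
theorem F390360 : act 1 n193586 = n172789 := d15_0 (iv0 F365702) F365695 D193586
theorem F390361 : act 1 n174387 = n193586 := d15_0 F390360 (iv7 F390353) (iv2 F390351)
theorem F390362 : act 6 n126942 = n193586 := d21_9 F273233 F184759 D84212 (iv6 F327123) F335866 (iv6 F230896) (iv5 D147280) (iv1 F202693) (iv5 F354126) (iv1 F390361)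
def n193587 : Q := act 6 n101987
theorem D193587 : act 6 n101987 = n193587 := rfl
theorem F390363 : act 2 n193587 = n126942 := d3_1 D193587 F390362 (iv2 D193586)
theorem F390364 : act 3 n193587 = n101989 := d7_1 D193587 (iv6 D101989) D101987
theorem F390365 : act 4 n193587 = n102028 := d10_1 D193587 (iv6 D102028) (iv4 F156951)
theorem F390366 : act 7 n193587 = n126931 := d14_2 F365695 D193587 (iv6 D126931) (iv7 F203807) F365698
theorem F390367 : act 0 n193587 = n126940 := d21_4 F346784 F346785 (iv5 F339823) D193587 F347146 F303650 (iv1 F206378) (iv5 D128251) (iv6 F354121) (iv1 F346780)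
theorem F390368 : act 5 n193587 = n113138 := d21_6 (iv5 F332037) F332036 D172787 F271055 (iv1 F339824) D193587 (iv1 F202692) F202690 (iv6 F386469) F386471
theorem F390369 : act 0 n112749 = n193587 := d21_4 (iv5 F294119) D87924 (iv5 F347881) (iv6 F347900) (iv6 D193587) F339823 F339826 (iv5 D103202) F75111 D47854
def n193588 : Q := act 5 n101989
theorem D193588 : act 5 n101989 = n193588 := rfl
theorem F390370 : act 2 n193588 = n160764 := d2_1 D193588 (iv5 F328244) F365456
theorem F390371 : act 3 n193588 = n113138 := d6_1 D193588 (iv5 F390368) F390364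
theorem F390372 : act 6 n193588 = n158801 := d12_2 D101989 D193588 F250005 (iv6 F298793) F328330
theorem F390373 : act 4 n193588 = n111495 := d18_5 (iv1 F360710) (iv4 D137378) F329376 (iv4 F156952) D193588 F215898 F215894 F175405 F360707
theorem F390374 : act 0 n193588 = n174051 := d21_1 D193588 (iv5 F389938) (iv6 D193464) (iv1 F156636) D101823 (iv5 F365294) (iv1 F375907) (iv5 F375928) (iv6 F375932) (iv1 F365458)
def n193589 : Q := act 4 n101992
theorem D193589 : act 4 n101992 = n193589 := rfl
theorem F390375 : act 2 n193589 = n146485 := d1_1 D193589 (iv4 F328479) (iv2 F349943)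
theorem F390376 : act 6 n193589 = n102006 := d10_2 (iv6 F156954) D193589 (iv4 D102006)
theorem F390377 : act 5 n193589 = n188846 := d17_5 F338497 (iv5 D137379) F329376 D101992 D193589 (iv0 D188846) F143219 (iv0 F161810) F314507
theorem F390378 : act 0 n142090 = n193589 := d20_7 (iv4 F353333) (iv1 F353335) (iv4 F174381) (iv3 D67078) D67076 D143131 F225985 (iv4 D193589) F156953 D102042
def n193590 : Q := act 0 n101996
theorem D193590 : act 0 n101996 = n193590 := rfl
theorem F390379 : act 4 n193590 = n189888 := d20_2 D101996 D193590 F378132 (iv1 D102528) (iv3 D47557) F292626 F291625 F35322 (iv3 F35306) D47376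
theorem F390380 : act 3 n193590 = n103239 := d20_5 F148343 (iv1 F357141) (iv4 F387973) F387972 D193590 F158486 (iv1 F293793) F293795 (iv3 F160418) (iv1 F160421)
theorem F390381 : act 1 n102001 = n193590 := d15_0 (iv0 D193590) (iv7 F372683) F372681
theorem F390382 : act 7 n193590 = n159797 := d15_2 (iv0 F387930) F390381 (iv2 F387927)
theorem F390383 : act 6 n185649 = n193590 := d14_5 F390382 F331191 F331173 F350443 F350441
theorem F390384 : act 5 n190279 = n193590 := d6_0 F390380 (iv5 F158487) D190279
def n193591 : Q := act 5 n101996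
theorem D193591 : act 5 n101996 = n193591 := rfl
def n193592 : Q := act 5 n102001
theorem D193592 : act 5 n102001 = n193592 := rfl
theorem F390385 : act 3 n193592 = n187305 := d6_1 D193592 F369772 F160292
def n193593 : Q := act 3 n102005
theorem D193593 : act 3 n102005 = n193593 := rfl
theorem F390386 : act 5 n193593 = n186482 := d6_2 (iv5 F335751) D193593 F344214
theorem F390387 : act 7 n193593 = n186752 := d8_2 F335753 D193593 F367884
theorem F390388 : act 0 n158952 = n193593 := d20_4 F186611 D118648 F349057 (iv3 F347296) (iv3 D193593) F335755 F356463 D159471 F251122 F338684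
theorem F390389 : act 1 n154955 = n193593 := d15_0 (iv0 F390388) F385461 F385453
theorem F390390 : act 6 n117259 = n193593 := d14_5 F390387 F367885 F177738 D123775 F356476
def n193594 : Q := act 6 n102005
theorem D193594 : act 6 n102005 = n193594 := rfl
theorem F390391 : act 2 n193594 = n186890 := d3_1 D193594 (iv6 D186890) F335752
theorem F390392 : act 3 n193594 = n117259 := d7_1 D193594 F390390 (iv3 D193593)
theorem F390393 : act 4 n193594 = n106178 := d10_1 D193594 (iv6 F340906) (iv4 F335755)
theorem F390394 : act 5 n186886 = n193594 := d9_0 F390393 F340918 (iv4 D130492) (iv5 F307526) F305422 (iv5 F343483) (iv4 F368412) (iv5 F368413) F177731 (iv5 F176870) (iv4 F337563) F321104 (iv4 F275089) (iv5 F275091) (iv4 F368416)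
def n193595 : Q := act 1 n102006
theorem D193595 : act 1 n102006 = n193595 := rfl
theorem F390395 : act 1 n193595 = n186960 := d15_1 D193595 F368666 F363410
theorem F390396 : act 7 n193595 = n186963 := d15_2 F335754 D193595 F368686
theorem F390397 : act 5 n193595 = n187538 := d18_9 (iv1 F370724) (iv4 F371838) (iv1 F372362) (iv4 D188118) (iv5 F161593) F161592 (iv0 F335733) D102006 D193595
theorem F390398 : act 3 n142116 = n193595 := d20_3 (iv4 D128125) F319835 D142116 (iv1 D193595) F357121 F357125 F346745 F146946 (iv3 F163341) (iv1 F206206)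
theorem F390399 : act 2 n193595 = n186962 := d0_1 F390398 (iv3 F368680) (iv2 F191127) (iv3 F206227) (iv2 F320168)
def n193596 : Q := act 3 n102009
theorem D193596 : act 3 n102009 = n193596 := rfl
theorem F390400 : act 2 n193596 = n142070 := d0_1 D193596 (iv3 D142070) F321318 D66649 (iv2 F334895)
theorem F390401 : act 4 n193596 = n102011 := d5_2 D102009 D193596 (iv3 D102011) (iv4 D47383) D47382
theorem F390402 : act 7 n193596 = n142131 := d8_2 F342523 D193596 (iv3 F342525)
theorem F390403 : act 0 n193596 = n142002 := d20_4 (iv4 F103094) (iv1 F334880) D102009 D193596 F348370 (iv4 F348367) (iv1 F348374) (iv4 D152712) (iv3 F320539) F320546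
theorem F390404 : act 1 n193596 = n118231 := d15_1 (iv0 F390403) (iv7 F317375) (iv2 F225029)
def n193597 : Q := act 6 n102012
theorem D193597 : act 6 n102012 = n193597 := rfl
theorem F390405 : act 2 n193597 = n186913 := d3_1 D193597 (iv6 D186913) (iv2 F156963)
theorem F390406 : act 4 n193597 = n102526 := d10_1 D193597 (iv6 D102526) (iv4 F156965)
theorem F390407 : act 0 n193597 = n187082 := d21_4 F64409 (iv1 F74593) D102012 D193597 (iv6 D187082) F137244 (iv1 F357220) F156826 (iv6 D47465) (iv1 F64407)
def n193598 : Q := act 0 n102013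
theorem D193598 : act 0 n102013 = n193598 := rfl
def n193599 : Q := act 1 n102013
theorem D193599 : act 1 n102013 = n193599 := rfl
theorem F390408 : act 4 n193599 = n102480 := d18_7 (iv1 F367994) (iv4 D93301) (iv1 D43641) (iv4 F68572) (iv5 F294977) (iv4 F156968) D193599 F385904 F385901
def n193600 : Q := act 5 n102013
theorem D193600 : act 5 n102013 = n193600 := rfl
theorem F390409 : act 3 n193600 = n190192 := d6_1 D193600 (iv5 F379052) (iv3 F366599)
theorem F390410 : act 1 n193600 = n193534 := d17_6 (iv1 D101851) (iv5 F295028) (iv1 D93291) (iv5 F294977) (iv4 F156968) D193600 (iv5 D193534) (iv0 F390164) (iv4 D193524)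
theorem F390411 : act 4 n190194 = n193600 := d5_0 F390409 (iv4 D190192) (iv3 D95688) D95689 D190194
def n193601 : Q := act 7 n102013
theorem D193601 : act 7 n102013 = n193601 := rfl
theorem F390412 : act 3 n193601 = n151277 := d8_1 D193601 F366597 (iv3 F366599)
theorem F390413 : act 4 n193601 = n102016 := d11_1 D193601 (iv7 D102016) (iv4 F156968)
def n193602 : Q := act 4 n102014
theorem D193602 : act 4 n102014 = n193602 := rfl
theorem F390414 : act 2 n193602 = n103355 := d1_1 D193602 (iv4 F375890) (iv2 F375885)
theorem F390415 : act 3 n193602 = n112867 := d5_1 D193602 F175778 (iv3 F99381) (iv4 F218584) F359417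
theorem F390416 : act 6 n193602 = n103350 := d10_2 (iv6 F359416) D193602 (iv4 F352876)
theorem F390417 : act 7 n193602 = n112865 := d11_2 F359418 D193602 (iv4 F218570)
theorem F390418 : act 0 n102022 = n193602 := d21_4 (iv5 F136234) (iv1 F137235) F137233 D102022 F390416 (iv5 D103350) F143301 D96210 F352890 F74716
theorem F390419 : act 0 n135897 = n192182 := d20_4 (iv4 F167118) (iv1 D108085) (iv4 F99394) (iv3 F218601) F385896 (iv4 F156976) F390418 (iv4 D193602) (iv3 F359417) (iv1 F218586)
def n193603 : Q := act 5 n102014
theorem D193603 : act 5 n102014 = n193603 := rfl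
theorem F390420 : act 2 n193603 = n188351 := d2_1 D193603 F375888 (iv2 F375885)
theorem F390421 : act 3 n193603 = n136867 := d6_1 D193603 F220050 F359417
theorem F390422 : act 7 n193603 = n187629 := d13_2 F359418 D193603 F371049
theorem F390423 : act 4 n193603 = n192486 := d17_4 (iv1 D93291) (iv5 F294977) D102014 D193603 (iv5 D192486) (iv0 D100205) F73883 D99002 (iv4 F359441)
theorem F390424 : act 1 n193603 = n137150 := d17_8 F375629 (iv5 D189066) (iv1 F374463) F374459 (iv4 F143879) D189157 (iv0 F375881) D193603 (iv4 F368024)
theorem F390425 : act 0 n193603 = n188350 := d21_1 D193603 (iv5 F385644) F385643 (iv1 D99804) (iv6 D46612) (iv5 F64421) (iv1 F64795) (iv5 F35325) D47384 D102014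
theorem F390426 : act 6 n193603 = n188361 := d21_3 (iv5 F294977) D102014 D193603 (iv1 F373183) (iv6 D101580) (iv5 F137015) (iv1 F156399) (iv5 F367983) (iv6 F367986) (iv1 D93291)
def n193604 : Q := act 4 n102015
theorem D193604 : act 4 n102015 = n193604 := rfl
theorem F390427 : act 2 n193604 = n112865 := d1_1 D193604 (iv4 F218570) F371050
theorem F390428 : act 6 n193604 = n112864 := d10_2 (iv6 F371052) D193604 (iv4 F218562)
theorem F390429 : act 7 n193604 = n103355 := d11_2 F375887 D193604 (iv4 F375890)
theorem F390430 : act 0 n193604 = n102022 := d18_2 F375880 D193604 F156976 F153702 F294988 D99002 (iv4 F359441) F143881 D189157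
theorem F390431 : act 3 n103364 = n193604 := d8_3 F390429 F158632 D103364
def n193605 : Q := act 1 n102017
theorem D193605 : act 1 n102017 = n193605 := rfl
theorem F390432 : act 7 n193605 = n103179 := d15_2 (iv0 F382004) D193605 (iv2 F366003)
theorem F390433 : act 4 n141959 = n193605 := d20_0 (iv1 D193605) (iv4 F389265) (iv3 D193234) F156185 D104246 F360800 (iv1 F206709) (iv4 D66548) D66547 D141959
theorem F390434 : act 3 n193605 = n103035 := d20_9 F382083 (iv1 F390360) F390358 F339831 (iv1 F206750) D137507 F220701 D141959 F390433 (iv1 F382085)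
theorem F390435 : act 5 n102268 = n193605 := d6_0 F390434 (iv5 D103035) (iv3 F314182)
theorem F390436 : act 6 n141856 = n193605 := d7_0 F390434 (iv6 F382332) F382331
theorem E103548 : n141959 = n141858 := (c10_2 F390436 (iv4 F390433) (iv6 D141858) D141856)
theorem F390437 : act 1 n141858 = n66547 := (sb E103548 (iv0 D141959))
theorem F390438 : act 4 n141858 = n193605 := (sb E103548 F390433)
def n193606 : Q := act 2 n102017
theorem D193606 : act 2 n102017 = n193606 := rfl
theorem F390439 : act 3 n193606 = n142132 := d0_2 D102017 D193606 F356229 (iv3 F356230) F153564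
theorem F390440 : act 4 n193606 = n142138 := d1_2 F389265 D193606 (iv2 F389264)
theorem F390441 : act 5 n190318 = n193606 := d6_0 F390439 (iv5 F346907) (iv3 F379371)
theorem F390442 : act 0 n193606 = n103179 := d19_4 F274031 F322945 D142132 (iv3 F390439) (iv5 D103179) (iv4 F190344) (iv3 F178851) F317652 F327999 (iv4 D63681) (iv3 D30052) (iv1 F23800) F11049 (iv4 F23798) (iv3 F48262) D63663 (iv5 F308619) (iv4 F243946) (iv3 F274029)
theorem F390443 : act 0 n102257 = n190318 := d19_0 F390441 F390440 (iv3 D142138) D142136 (iv5 F389452) F389453 F273536 F302210 (iv5 D162660) F298764 F325045 (iv1 F81679) F324842 (iv4 F299421) (iv3 F302265) F343977 D161630 (iv4 F379438) F379437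
def n193607 : Q := act 5 n102017
theorem D193607 : act 5 n102017 = n193607 := rfl
theorem F390444 : act 2 n193607 = n190318 := d2_1 D193607 F390441 (iv2 D193606)
theorem F390445 : act 3 n193607 = n102018 := d6_1 D193607 (iv5 D102018) D102017
theorem F390446 : act 7 n193607 = n186912 := d13_2 F375895 D193607 (iv5 F375894)
theorem F390447 : act 6 n193607 = n190316 := d21_3 F390435 (iv1 D193605) D193607 (iv1 D190316) (iv6 D95854) F70345 (iv1 F36264) (iv5 F70327) D95793 (iv1 F314181)
theorem F390448 : act 0 n189977 = n193607 := d19_0 (iv5 D193607) (iv4 F389265) (iv3 D193234) F156185 F293013 (iv4 D44694) (iv3 F70254) D95655 (iv5 F158635) F158634 (iv3 F287565) (iv1 F344348) (iv5 F346006) (iv4 F346001) F242939 F231171 D69281 (iv4 F334510) (iv3 F378394)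
def n193608 : Q := act 6 n102017
theorem D193608 : act 6 n102017 = n193608 := rfl
theorem F390449 : act 3 n193608 = n102019 := d7_1 D193608 (iv6 D102019) D102017
def n193609 : Q := act 0 n102019
theorem D193609 : act 0 n102019 = n193609 := rfl
def n193610 : Q := act 1 n102019
theorem D193610 : act 1 n102019 = n193610 := rfl
def n193611 : Q := act 5 n102019
theorem D193611 : act 5 n102019 = n193611 := rfl
theorem F390450 : act 2 n193611 = n109050 := d2_1 D193611 (iv5 F385723) F385720
theorem F390451 : act 6 n193611 = n109044 := d12_2 D102019 D193611 (iv5 F373095) F373096 (iv5 D102018)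
theorem F390452 : act 4 n109046 = n193611 := d10_3 F390451 (iv4 D109044) D109046
def n193612 : Q := act 0 n102021
theorem D193612 : act 0 n102021 = n193612 := rfl
theorem F390453 : act 3 n193612 = n142359 := d20_5 (iv4 D46626) D46624 (iv4 F74597) D102021 D193612 F225279 F356227 (iv4 F356228) (iv3 F356230) F153567
theorem F390454 : act 6 n142357 = n193612 := d7_0 F390453 (iv6 D142359) D142357
theorem F390455 : act 7 n193612 = n112017 := d14_2 F364292 F390454 (iv6 D112017) (iv7 F81571) D109343
theorem F390456 : act 5 n191416 = n193612 := d13_3 F390455 F174120 (iv7 F383427)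
def n193613 : Q := act 1 n102021
theorem D193613 : act 1 n102021 = n193613 := rfl
def n193614 : Q := act 2 n102021
theorem D193614 : act 2 n102021 = n193614 := rfl
theorem F390457 : act 1 n193614 = n112017 := d15_0 (iv0 F367642) F157433 D193614
def n193615 : Q := act 4 n102021
theorem D193615 : act 4 n102021 = n193615 := rfl
theorem F390458 : act 3 n193615 = n192181 := d5_1 D193615 (iv4 D192181) (iv3 D99827) (iv4 F74597) D102021
theorem F390459 : act 0 n136307 = n193615 := d20_1 (iv4 F219367) (iv4 D193615) (iv3 D102021) (iv1 F74598) (iv3 F329624) F48848 D30417 (iv4 F163598) D127113 F381999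
def n193616 : Q := act 6 n102021
theorem D193616 : act 6 n102021 = n193616 := rfl
theorem F390460 : act 3 n193616 = n102022 := d7_1 D193616 (iv6 D102022) D102021
def n193617 : Q := act 5 n102022
theorem D193617 : act 5 n102022 = n193617 := rfl
theorem F390461 : act 6 n193617 = n190124 := d12_2 D102022 D193617 F378937 (iv6 D187076) F137233
theorem F390462 : act 0 n193519 = n193617 := d21_1 D193519 (iv5 D193617) (iv6 D102022) (iv1 F74598) (iv6 F329625) D64628 D137492 F220898 F390147 (iv1 D193518)
def n193618 : Q := act 7 n102022
theorem D193618 : act 7 n102022 = n193618 := rfl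
theorem F390463 : act 4 n193618 = n192185 := d11_1 D193618 (iv7 D192185) (iv4 F156976)
theorem F390464 : act 1 n112865 = n193618 := d15_1 (iv0 F352921) (iv7 D193618) (iv2 F157422)
theorem F390465 : act 1 n193618 = n103355 := d15_1 F390464 (iv7 F390429) F390427
def n193619 : Q := act 4 n102023
theorem D193619 : act 4 n102023 = n193619 := rfl
theorem F390466 : act 2 n193619 = n107309 := d1_1 D193619 F380546 F380543
theorem F390467 : act 3 n193619 = n192187 := d5_1 D193619 (iv4 D192187) (iv3 D99829) (iv4 F74600) D102023
theorem F390468 : act 7 n193619 = n107310 := d11_2 F157421 D193619 (iv4 F356929)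
theorem F390469 : act 0 n193619 = n103749 := d18_2 F348025 D193619 (iv4 D103749) (iv5 D48040) D48039 F159178 F317105 (iv0 F346806) D177147
theorem F390470 : act 1 n193619 = n103733 := d18_6 (iv1 D97276) (iv4 F150022) F334482 (iv4 F318904) (iv5 F348024) D193619 (iv4 D103733) D103732 F334498
def n193620 : Q := act 6 n102023
theorem D193620 : act 6 n102023 = n193620 := rfl
theorem F390471 : act 3 n193620 = n102024 := d7_1 D193620 (iv6 D102024) D102023
theorem F390472 : act 5 n193620 = n162982 := d12_1 D193620 (iv6 F353257) (iv5 D95340) D95341 (iv5 F348024)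
theorem F390473 : act 0 n162759 = n193620 := d21_7 (iv5 D59879) (iv1 F94314) (iv5 F320061) F362492 (iv1 D174679) (iv6 F304731) D162759 F390472 (iv6 F353257) F318898
def n193621 : Q := act 5 n102024
theorem D193621 : act 5 n102024 = n193621 := rfl
theorem F390474 : act 3 n193621 = n162982 := d6_1 D193621 (iv5 F390472) F390471
theorem F390475 : act 6 n193621 = n189856 := d12_2 D102024 D193621 (iv5 D189856) (iv6 F348021) F137239
def n193622 : Q := act 7 n102024
theorem D193622 : act 7 n102024 = n193622 := rfl
theorem F390476 : act 4 n193622 = n192190 := d11_1 D193622 (iv7 D192190) (iv4 F156977)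
def n193623 : Q := act 3 n102025
theorem D193623 : act 3 n102025 = n193623 := rfl
def n193624 : Q := act 4 n102025
theorem D193624 : act 4 n102025 = n193624 := rfl
theorem F390477 : act 0 n193624 = n133057 := d17_0 (iv5 D133057) D133055 (iv5 F341650) (iv4 F346764) F346767 F147260 F339720 (iv0 F360231) D193624
theorem F390478 : act 3 n193624 = n147748 := d19_3 F337133 (iv5 F346002) D193624 F336323 F329421 F313049 (iv3 F308654) F308652 F235052 (iv4 F243499) F309300 (iv1 D88831) (iv5 D41471) F31260 F31259 D19527 D41478 D88852 D186551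
theorem F390479 : act 6 n147737 = n193624 := d7_0 F390478 (iv6 D147748) (iv3 F231470)
def n193625 : Q := act 6 n102025
theorem D193625 : act 6 n102025 = n193625 := rfl
theorem F390480 : act 2 n193625 = n103362 := d3_1 D193625 (iv6 F385734) (iv2 F385735)
theorem F390481 : act 4 n193625 = n147737 := d10_1 D193625 F390479 (iv4 D193624)
theorem F390482 : act 5 n193625 = n190153 := d12_1 D193625 (iv6 D190153) (iv5 F378292) F378293 (iv5 F346002)
theorem F390483 : act 0 n193625 = n103062 := d21_4 (iv5 F289480) F337133 (iv5 F346002) D193625 (iv6 D103062) (iv5 D47781) F66356 D44919 (iv6 F147255) (iv1 F337132)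
theorem F390484 : act 0 n103364 = n193625 := d21_4 D130563 (iv1 F380014) F380012 (iv6 F331350) (iv6 D193625) F346002 (iv1 F350793) (iv5 D130578) (iv6 D61262) D61258
theorem F390485 : act 7 n103361 = n193625 := d15_2 F331347 F331351 F390480
def n193626 : Q := act 4 n102026
theorem D193626 : act 4 n102026 = n193626 := rfl
theorem F390486 : act 3 n193626 = n133133 := d5_1 D193626 F321976 (iv3 F313617) D85144 (iv3 F339835)
theorem F390487 : act 5 n193626 = n167007 := d16_1 D193626 F262995 F334574 (iv4 D69008) D69009 D147208 (iv5 F346002) (iv7 F380379) F380378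
theorem F390488 : act 6 n141082 = n193626 := d12_0 F390487 (iv6 D167007) F123115 D82882 (iv5 F324975)
theorem F390489 : act 0 n133057 = n193626 := d17_0 F390487 F340217 (iv5 F334507) (iv4 D103192) (iv5 F334503) F334501 D191067 F382085 (iv4 F343373)
def n193627 : Q := act 6 n102026
theorem D193627 : act 6 n102026 = n193627 := rfl
theorem F390490 : act 3 n193627 = n112095 := d7_1 D193627 F339844 (iv3 F339835)
theorem F390491 : act 4 n193627 = n141082 := d10_1 D193627 F390488 (iv4 D193626)
theorem F390492 : act 5 n193627 = n112091 := d12_1 D193627 (iv6 D112091) F337310 D95476 F339838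
def n193628 : Q := act 6 n102027
theorem D193628 : act 6 n102027 = n193628 := rfl
theorem F390493 : act 2 n193628 = n102028 := d3_1 D193628 (iv6 D102028) D102027
theorem F390494 : act 3 n193628 = n128567 := d7_1 D193628 F206796 (iv3 F339831)
theorem F390495 : act 4 n193628 = n126942 := d10_1 D193628 F390362 F390358
theorem F390496 : act 7 n193628 = n126934 := d14_2 F339829 D193628 (iv6 D126934) (iv7 F95005) D128534
theorem F390497 : act 0 n103317 = n193628 := d21_4 F134945 F293239 F75146 D103317 (iv6 D193628) F339832 (iv1 D95588) D95589 F147255 (iv1 F293902)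
theorem F390498 : act 1 n142585 = n193628 := d18_6 (iv1 F175534) F344646 F344648 F323177 (iv5 F318533) (iv4 F361854) F390495 F376067 (iv5 F376066)
def n193629 : Q := act 0 n102028
theorem D193629 : act 0 n102028 = n193629 := rfl
theorem F390499 : act 5 n193629 = n190695 := d21_8 D163278 (iv1 F262409) (iv5 D166708) (iv6 F336506) F318886 (iv6 F325239) (iv5 F362587) D193629 F380634 (iv1 F193197)
theorem F390500 : act 2 n142585 = n193629 := d15_3 (iv0 D193629) (iv0 F362588) F361853
theorem F390501 : act 7 n193629 = n103317 := d4_2 F361853 F390500 F361850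
theorem F390502 : act 1 n126934 = n193629 := d15_1 F347147 F390501 F361850
def n193630 : Q := act 7 n102028
theorem D193630 : act 7 n102028 = n193630 := rfl
theorem F390503 : act 2 n193630 = n126934 := d4_1 D193630 (iv7 F390496) F390493
theorem F390504 : act 3 n193630 = n102032 := d8_1 D193630 (iv7 D102032) (iv3 F156978)
theorem F390505 : act 4 n193630 = n126931 := d11_1 D193630 (iv7 F390366) F390365
theorem F390506 : act 5 n193630 = n112241 := d13_1 D193630 F174581 (iv5 F362587)
theorem F390507 : act 6 n193630 = n126929 := d14_1 D193630 (iv7 F206735) F363716 F153602 D102028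
theorem F390508 : act 1 n103317 = n193630 := d15_1 (iv0 F390497) (iv7 D193630) (iv2 F390493)
theorem F390509 : act 1 n193630 = n142585 := d15_1 F390508 (iv7 F361853) (iv2 F361850)
def n193631 : Q := act 6 n102036
theorem D193631 : act 6 n102036 = n193631 := rfl
theorem F390510 : act 3 n193631 = n151648 := d7_1 D193631 (iv6 D151648) (iv3 F360851)
def n193632 : Q := act 6 n102039
theorem D193632 : act 6 n102039 = n193632 := rfl
theorem F390511 : act 2 n193632 = n151262 := d3_1 D193632 (iv6 F344499) F344515
theorem F390512 : act 3 n193632 = n103235 := d7_1 D193632 F376039 F353196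
theorem F390513 : act 4 n193632 = n102041 := d10_1 D193632 (iv6 D102041) D102039
def n193633 : Q := act 5 n102041
theorem D193633 : act 5 n102041 = n193633 := rfl
theorem F390514 : act 6 n193633 = n193557 := d12_2 D102041 D193633 F390269 F289484 (iv5 D102040)
theorem F390515 : act 0 n193633 = n192165 := d17_2 (iv1 F352864) D193633 (iv5 D192165) F346669 (iv5 D87948) D87946 (iv5 F295210) F335339 (iv4 F352876)
theorem F390516 : act 0 n192164 = n193633 := d21_1 D192164 (iv5 D193633) (iv6 D102041) (iv1 D47392) (iv6 D22766) (iv5 D10761) (iv1 F17178) (iv5 F34843) D46616 D99813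
def n193634 : Q := act 6 n102042
theorem D193634 : act 6 n102042 = n193634 := rfl
theorem F390517 : act 2 n193634 = n186978 := d3_1 D193634 (iv6 D186978) (iv2 F359230)
theorem F390518 : act 4 n193634 = n176927 := d10_1 D193634 F276278 F353333
theorem F390519 : act 5 n193634 = n186958 := d12_1 D193634 (iv6 F390062) (iv5 F390060) (iv6 F385661) F385659
def n193635 : Q := act 4 n102043
theorem D193635 : act 4 n102043 = n193635 := rfl
theorem F390520 : act 2 n193635 = n186980 := d1_1 D193635 (iv4 D186980) (iv2 F352819)
theorem F390521 : act 7 n193635 = n164087 := d11_2 (iv7 F352820) D193635 (iv4 F344530)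
theorem F390522 : act 5 n193635 = n111895 := d16_5 F67594 D84315 D176871 F352818 D193635 F323917 (iv5 F323919) F80165 F323960
theorem F390523 : act 0 n193635 = n102513 := d17_0 F324380 (iv1 F174366) (iv5 F387923) F387924 (iv5 D102036) (iv0 D47391) D47393 D102043 D193635
theorem F390524 : act 1 n193635 = n112150 := d18_8 F81933 (iv4 D51897) D51894 F81931 (iv5 F329862) (iv4 D102044) D102043 D193635 (iv5 D112150)
def n193636 : Q := act 3 n102044
theorem D193636 : act 3 n102044 = n193636 := rfl
theorem F390525 : act 2 n193636 = n127420 := d0_1 D193636 (iv3 D127420) F94286 D59861 (iv2 F329861)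
theorem F390526 : act 5 n193636 = n109879 := d6_2 (iv5 F329862) D193636 (iv3 D109879)
theorem F390527 : act 6 n193636 = n102046 := d7_2 (iv6 F156987) D193636 (iv3 D102046)
theorem F390528 : act 7 n193636 = n127487 := d8_2 (iv7 F329863) D193636 F204911
theorem F390529 : act 0 n193636 = n127486 := d20_4 (iv4 D193635) (iv1 D102043) D102044 D193636 (iv3 F225902) (iv4 D143040) (iv1 D67037) D67038 (iv3 F174379) (iv1 F390524)
theorem F390530 : act 1 n164426 = n127487 := d15_1 F377909 (iv7 F390528) F390525
theorem F390531 : act 1 n193636 = n127485 := d15_0 (iv0 D127485) (iv7 F204806) (iv2 F390525)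
def n193637 : Q := act 6 n102068
theorem D193637 : act 6 n102068 = n193637 := rfl
theorem F390532 : act 2 n193637 = n102086 := d3_1 D193637 (iv6 D102086) (iv2 F157008)
theorem F390533 : act 3 n193637 = n185475 := d7_1 D193637 (iv6 D185475) (iv3 F157009)
def n193638 : Q := act 6 n102083
theorem D193638 : act 6 n102083 = n193638 := rfl
theorem F390534 : act 2 n193638 = n185350 := d3_1 D193638 (iv6 D185350) (iv2 F290015)
theorem F390535 : act 5 n193638 = n183994 := d12_1 D193638 (iv6 D183994) (iv5 F343867) F346042 (iv5 F346041)
def n193639 : Q := act 3 n102084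
theorem D193639 : act 3 n102084 = n193639 := rfl
theorem F390536 : act 2 n193639 = n191490 := d0_1 D193639 F383560 F289999 (iv3 F287493) (iv2 F290012)
theorem F390537 : act 5 n193639 = n191486 := d6_2 F329309 D193639 F383551
theorem F390538 : act 7 n193639 = n185347 := d8_2 (iv7 F290013) D193639 (iv3 D185347)
theorem F390539 : act 0 n191271 = n193639 := d17_2 (iv1 F289757) D191271 F390537 F383552 D191490 (iv0 F383562) (iv5 D183756) F289776 F134719
theorem F390540 : act 1 n191275 = n193639 := d17_6 F289293 (iv5 F135145) (iv1 F160579) (iv5 D97962) D97961 D191275 F390537 (iv0 F383553) F289354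
def n193640 : Q := act 3 n102085
theorem D193640 : act 3 n102085 = n193640 := rfl
theorem F390541 : act 4 n193640 = n183906 := d5_2 D102085 D193640 (iv3 D183906) (iv4 D87726) (iv3 F74619)
theorem F390542 : act 5 n193640 = n156061 := d6_2 (iv5 F328984) D193640 F245201
theorem F390543 : act 7 n193640 = n156060 := d8_2 F329341 D193640 F245199
def n193641 : Q := act 6 n102085
theorem D193641 : act 6 n102085 = n193641 := rfl
theorem F390544 : act 4 n193641 = n102086 := d10_1 D193641 (iv6 D102086) D102085
def n193642 : Q := act 0 n102086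
theorem D193642 : act 0 n102086 = n193642 := rfl
def n193643 : Q := act 1 n102086
theorem D193643 : act 1 n102086 = n193643 := rfl
def n193644 : Q := act 7 n102086
theorem D193644 : act 7 n102086 = n193644 := rfl
theorem F390545 : act 3 n193644 = n183907 := d8_1 D193644 F329954 (iv3 F157030)
theorem F390546 : act 6 n193644 = n183906 := d14_1 D193644 F329858 (iv6 D88308) (iv7 F74620) D102086
def n193645 : Q := act 1 n102140
theorem D193645 : act 1 n102140 = n193645 := rfl
theorem F390547 : act 4 n129398 = n193645 := d20_6 F336495 F328976 D95420 F351673 F341924 F212377 (iv1 D193645) (iv4 F365318) F204193 D126945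
theorem F390548 : act 2 n193645 = n129394 := d1_1 F390547 F207568 D129398
def n193646 : Q := act 2 n102140
theorem D193646 : act 2 n102140 = n193646 := rfl
theorem F390549 : act 1 n193646 = n129394 := d15_0 (iv0 F380018) F380017 D193646
def n193647 : Q := act 3 n102161
theorem D193647 : act 3 n102161 = n193647 := rfl
theorem F390550 : act 5 n193647 = n139299 := d6_2 (iv5 F354517) D193647 F356116
theorem F390551 : act 7 n193647 = n136386 := d8_2 (iv7 F346478) D193647 (iv3 D136386)
theorem F390552 : act 6 n160307 = n193647 := d12_0 F390550 (iv6 F342795) (iv5 D123122) D123123 F253208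
theorem F390553 : act 0 n160318 = n156017 := d21_10 F332959 (iv1 F362244) (iv5 F390550) (iv6 F390552) (iv1 D160307) F115367 (iv5 D35119) D35117 D76834 D160318
def n193648 : Q := act 6 n102161
theorem D193648 : act 6 n102161 = n193648 := rfl
theorem F390554 : act 2 n193648 = n136384 := d3_1 D193648 (iv6 D136384) (iv2 F346477)
theorem F390555 : act 3 n193648 = n160307 := d7_1 D193648 F390552 (iv3 D193647)
theorem F390556 : act 4 n193648 = n107594 := d10_1 D193648 F346480 F336419
def n193649 : Q := act 3 n102162
theorem D193649 : act 3 n102162 = n193649 := rfl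
theorem F390557 : act 7 n193649 = n136381 := d8_2 (iv7 F354510) D193649 (iv3 D136381)
theorem F390558 : act 4 n193649 = n108060 := d20_6 (iv4 D29629) (iv1 F23893) D30136 D63894 (iv1 F328531) D193649 (iv1 D108060) (iv4 F166988) (iv3 D108037) F78917
def n193650 : Q := act 1 n102163
theorem D193650 : act 1 n102163 = n193650 := rfl
theorem F390559 : act 1 n193650 = n132243 := d15_1 D193650 F211886 (iv2 F328532)
theorem F390560 : act 7 n193650 = n136392 := d15_2 (iv0 F354507) D193650 F346571
theorem F390561 : act 5 n193650 = n115388 := d17_7 D107711 (iv5 F344860) (iv1 D160726) (iv5 F300890) F328304 D102163 D193650 (iv0 D115388) F84081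
theorem F390562 : act 2 n136393 = n193650 := d2_3 F390561 F344843 (iv5 F346579)
theorem F390563 : act 4 n174746 = n193650 := d9_15 F390561 F344844 F344781 (iv4 D175739) (iv5 D83890) D83889 D175734 F344853 (iv5 F344851) F344850 (iv5 F336421) (iv4 D174761) (iv5 D83494) (iv4 F128594) D174746
def n193651 : Q := act 7 n102163
theorem D193651 : act 7 n102163 = n193651 := rfl
theorem F390564 : act 2 n193651 = n132243 := d4_1 D193651 F211886 (iv2 F328532)
theorem F390565 : act 3 n193651 = n102188 := d8_1 D193651 (iv7 D102188) (iv3 F157058)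
theorem F390566 : act 4 n193651 = n120488 := d11_1 D193651 F367936 F367932
theorem F390567 : act 5 n193651 = n102164 := d13_1 D193651 (iv7 D102164) D102163
theorem F390568 : act 1 n136393 = n193651 := d15_1 D136393 (iv7 D193651) F328532
theorem F390569 : act 1 n193651 = n136392 := d15_1 F390568 (iv7 F390560) (iv2 F390562)
def n193652 : Q := act 0 n102165
theorem D193652 : act 0 n102165 = n193652 := rfl
theorem F390570 : act 1 n192276 = n193652 := d15_0 (iv0 D193652) F157061 D192276
def n193653 : Q := act 1 n102165
theorem D193653 : act 1 n102165 = n193653 := rfl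
theorem F390571 : act 1 n193653 = n192276 := d15_1 D193653 F386269 (iv2 F359404)
def n193654 : Q := act 4 n102165
theorem D193654 : act 4 n102165 = n193654 := rfl
theorem F390572 : act 3 n193654 = n192168 := d5_1 D193654 (iv4 D192168) F153669 (iv4 F74631) D102165
theorem F390573 : act 7 n193654 = n192272 := d11_2 (iv7 F157061) D193654 F386260
theorem F390574 : act 5 n193654 = n150038 := d16_5 (iv4 F187164) (iv5 F381781) F381780 (iv5 F157060) D193654 F236059 F308556 (iv7 D81441) (iv2 F125274)
def n193655 : Q := act 4 n102167
theorem D193655 : act 4 n102167 = n193655 := rfl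
theorem F390575 : act 3 n193655 = n187715 := d5_1 D193655 (iv4 D187715) F139259 F74636 D102167
theorem F390576 : act 7 n193655 = n190060 := d11_2 F352896 D193655 (iv4 D190060)
theorem F390577 : act 0 n193655 = n103762 := d18_2 (iv1 F353237) D193655 (iv4 D103762) (iv5 F148717) F334494 D145536 (iv4 F368495) F368500 F361888
theorem F390578 : act 1 n193655 = n103757 := d18_6 D23179 D48034 D103725 F317105 F353228 D193655 (iv4 D103757) (iv0 D48042) (iv5 D23181)
def n193656 : Q := act 4 n102172
theorem D193656 : act 4 n102172 = n193656 := rfl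
theorem F390579 : act 2 n193656 = n187107 := d1_1 D193656 F377500 (iv2 F352934)
theorem F390580 : act 6 n193656 = n112245 := d10_2 (iv6 F352909) D193656 (iv4 D112245)
theorem F390581 : act 7 n193656 = n187108 := d11_2 (iv7 F352928) D193656 F377224
theorem F390582 : act 1 n193656 = n186596 := d18_6 (iv1 F377560) (iv4 F385126) (iv1 D102912) (iv4 F129358) F352910 D193656 F367375 F362571 (iv5 F377557)
theorem F390583 : act 3 n112253 = n124995 := d20_5 (iv4 F367375) (iv1 F390582) (iv4 D193656) F352908 D112253 (iv4 F201202) (iv1 F280165) F314453 D157225 (iv1 F362571)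
theorem F390584 : act 7 n178869 = n112253 := d8_0 F390583 F201203 D178869
def n193657 : Q := act 3 n102173
theorem D193657 : act 3 n102173 = n193657 := rfl
theorem F390585 : act 5 n193657 = n181906 := d6_2 (iv5 F352861) D193657 (iv3 F377491)
theorem F390586 : act 4 n193657 = n110923 := d20_6 (iv4 D28994) (iv1 F23051) D25328 D52156 (iv1 F329289) D193657 (iv1 D110923) (iv4 F82326) (iv3 D52086) (iv1 F46621)
def n193658 : Q := act 4 n102173
theorem D193658 : act 4 n102173 = n193658 := rfl
theorem F390587 : act 2 n193658 = n187108 := d1_1 D193658 F377224 F352933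
theorem F390588 : act 7 n193658 = n187107 := d11_2 F352937 D193658 F377500
theorem F390589 : act 0 n193658 = n186596 := d18_2 (iv1 F329289) D193658 F367375 D192158 F385806 F375073 (iv4 F349635) (iv0 D130623) F95778
theorem F390590 : act 1 n193658 = n187110 := d18_6 D176865 (iv4 F385130) (iv1 F352919) F352915 (iv5 F352861) D193658 F369115 F362573 (iv5 D176867)
theorem E103549 : n192157 = n130528 := (c20_4 D193658 F390589 F367375 (iv3 F385802) (iv1 D130528) (iv3 D61243) (iv4 D28994) (iv1 F23051) D25328 D52156 (iv1 F329289))
theorem F390591 : act 2 n130528 = n133339 := (sb E103549 F385801)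
theorem F390592 : act 3 n130528 = n99807 := (sb E103549 F385802)
theorem F390593 : act 6 n130528 = n99806 := (sb E103549 (iv6 D192157))
theorem F390594 : act 7 n130528 = n133340 := (sb E103549 (iv7 F385803))
theorem F390595 : act 2 n133340 = n130527 := d15_3 (iv0 D130527) D130528 F390594
theorem F390596 : act 7 n133339 = n130527 := d4_2 (iv7 F390594) F390591 (iv2 F390595)
theorem F390597 : act 1 n187110 = n193656 := d15_1 F390590 F390581 (iv2 F390587)
def n193659 : Q := act 6 n102173
theorem D193659 : act 6 n102173 = n193659 := rfl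
theorem F390598 : act 2 n193659 = n137089 := d3_1 D193659 (iv6 F352894) F352933
theorem F390599 : act 7 n193659 = n137088 := d14_2 F352937 D193659 F352923 (iv7 F174585) (iv6 F352936)
theorem F390600 : act 0 n137091 = n193659 := d21_4 (iv5 D184401) D184397 F340530 F226961 (iv6 D193659) F352861 (iv1 F215059) F210043 F352868 F340542
theorem F390601 : act 1 n137083 = n193659 := d15_0 (iv0 F390600) (iv7 D137091) (iv2 F220251)
theorem F390602 : act 1 n109721 = n137083 := d15_0 F390601 F390599 (iv2 F352924)
def n193660 : Q := act 4 n102179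
theorem D193660 : act 4 n102179 = n193660 := rfl
theorem F390603 : act 3 n193660 = n123754 := d5_1 D193660 (iv4 D123754) (iv3 F198235) (iv4 F352848) (iv3 F329277)
theorem F390604 : act 5 n193660 = n189002 := d9_2 D102179 D193660 F375369 F292045 (iv4 F276238) F353357 (iv4 D102183) D102184 F364779 (iv5 F374361) F374360 F292000 (iv4 F292436) (iv5 F353349) (iv4 D102178)
theorem F390605 : act 7 n193660 = n189001 := d11_2 F352828 D193660 F375368
def n193661 : Q := act 6 n102179
theorem D193661 : act 6 n102179 = n193661 := rfl
theorem F390606 : act 5 n193661 = n186865 := d12_1 D193661 F368344 (iv5 F344547) F344548 D102179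
theorem F390607 : act 7 n193661 = n193101 := d14_2 F352828 D193661 (iv6 D193101) F372451 F372448
theorem F390608 : act 0 n193661 = n193081 := d21_4 (iv5 D47440) D47438 D102179 D193661 (iv6 D193081) D193080 F388688 F345434 F345433 (iv1 D102186)
def n193662 : Q := act 3 n102183
theorem D193662 : act 3 n102183 = n193662 := rfl
theorem F390609 : act 0 n193662 = n102258 := d20_10 F379510 (iv1 D138458) F100842 (iv3 D61253) (iv1 F46631) D52156 F82446 F329265 D102183 D193662
def n193663 : Q := act 6 n102183
theorem D193663 : act 6 n102183 = n193663 := rfl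
theorem F390610 : act 2 n193663 = n137183 := d3_1 D193663 F352810 (iv2 F329279)
theorem F390611 : act 4 n193663 = n102185 := d10_1 D193663 (iv6 D102185) D102183
theorem F390612 : act 7 n193663 = n137178 := d14_2 (iv7 F353358) D193663 (iv6 F349521) (iv7 D176872) (iv6 F276237)
def n193664 : Q := act 0 n102187
theorem D193664 : act 0 n102187 = n193664 := rfl
theorem F390613 : act 5 n193664 = n188831 := d17_3 D188854 (iv5 F375378) D193664 F375029 (iv5 F164389) (iv0 F375070) (iv5 D188861) (iv0 D92858) (iv4 F143233)
theorem F390614 : act 6 n193664 = n191947 := d21_5 (iv5 F291457) F139688 F357541 (iv6 F157070) D193664 F384950 F357646 F332989 F74351 D47119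
theorem F390615 : act 2 n192665 = n193664 := d3_3 F390614 F384948 D192665
theorem F390616 : act 4 n188126 = n193664 := d10_3 F390614 (iv4 D191947) (iv6 F372392)
theorem F390617 : act 0 n193664 = n136431 := d18_2 D188126 F390616 (iv4 D136431) (iv5 D64140) (iv4 F82446) (iv0 F329288) D193656 F390582 F367376
theorem F390618 : act 0 n123944 = n188831 := d17_0 (iv5 F390613) F390617 (iv5 F375066) F375064 (iv5 F377600) (iv0 F377604) (iv5 F178154) (iv0 F387438) (iv4 F352842)
def n193665 : Q := act 1 n102187
theorem D193665 : act 1 n102187 = n193665 := rfl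
theorem F390619 : act 1 n193665 = n136431 := d15_1 D193665 F371763 F371761
theorem F390620 : act 7 n193665 = n192665 := d15_2 (iv0 D193664) D193665 F390615
theorem F390621 : act 3 n188065 = n193665 := d8_3 F390620 F387415 F376856
theorem F390622 : act 4 n188127 = n193665 := d11_3 F390620 F387416 (iv7 F372394)
def n193666 : Q := act 7 n102187
theorem D193666 : act 7 n102187 = n193666 := rfl
theorem F390623 : act 2 n193666 = n136431 := d4_1 D193666 F371763 F371761
theorem F390624 : act 3 n193666 = n120490 := d8_1 D193666 F303686 F367935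
theorem F390625 : act 4 n193666 = n102188 := d11_1 D193666 (iv7 D102188) D102187
theorem F390626 : act 5 n193666 = n123991 := d13_1 D193666 F375377 (iv5 F375378)
theorem F390627 : act 0 n192665 = n193666 := d18_2 F369114 (iv4 F387416) F390625 F157071 (iv4 F157064) F329297 (iv4 F377500) (iv0 D187107) D187109
def n193667 : Q := act 5 n102201
theorem D193667 : act 5 n102201 = n193667 := rfl
theorem F390628 : act 2 n193667 = n102211 := d2_1 D193667 (iv5 D102211) (iv2 F157076)
theorem F390629 : act 7 n193667 = n135881 := d13_2 (iv7 F328968) D193667 (iv5 D135881)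
theorem F390630 : act 1 n193667 = n136443 := d17_6 (iv1 F99784) (iv5 F101980) F101977 F99121 (iv4 F328967) D193667 F219539 (iv0 F336168) (iv4 D135240)
theorem F390631 : act 1 n136444 = n193667 := d15_1 D136444 F390629 F218559
def n193668 : Q := act 3 n102210
theorem D193668 : act 3 n102210 = n193668 := rfl
theorem F390632 : act 6 n193668 = n136862 := d7_2 (iv6 F329004) D193668 F220048
theorem F390633 : act 7 n193668 = n135955 := d8_2 (iv7 F329005) D193668 F218711
def n193669 : Q := act 5 n102210
theorem D193669 : act 5 n102210 = n193669 := rfl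
theorem F390634 : act 2 n193669 = n136442 := d2_1 D193669 (iv5 D136442) (iv2 F329002)
theorem F390635 : act 7 n193669 = n135956 := d13_2 (iv7 F329005) D193669 (iv5 D135956)
theorem F390636 : act 0 n193669 = n136891 := d17_2 (iv1 F329001) D193669 (iv5 F220067) (iv4 D135240) (iv5 D63554) F48349 (iv5 F99126) F99129 (iv4 F99368)
theorem F390637 : act 0 n136890 = n193669 := d21_1 (iv5 F220066) (iv5 D193669) F329004 F169552 (iv6 F327697) (iv5 D117502) (iv1 F85466) F328583 D64597 (iv1 F336167)
theorem F390638 : act 0 n189125 = n136497 := d21_1 F375832 (iv5 D136497) D136498 (iv1 F219611) (iv6 F217421) (iv5 F220066) F390637 (iv5 D193669) F329004 F169552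
theorem F390639 : act 1 n132565 = n137435 := d17_8 (iv1 F336167) (iv5 F220066) F390637 (iv5 D193669) F329003 F165742 (iv0 F203327) D132565 F220640
def n193670 : Q := act 0 n102211
theorem D193670 : act 0 n102211 = n193670 := rfl
theorem F390640 : act 5 n193670 = n136533 := d21_2 D102211 D193670 (iv6 D136533) (iv1 F179683) F179677 (iv5 F219614) (iv1 F220057) F220055 (iv6 F329004) (iv1 D102210)
theorem F390641 : act 1 n135881 = n193670 := d15_0 (iv0 D193670) F329006 (iv2 F218559)
theorem F390642 : act 7 n136443 = n193670 := d13_0 F390640 F219630 (iv5 F219539)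
theorem F390643 : act 2 n193670 = n136444 := d15_3 F390631 F390630 F390642
def n193671 : Q := act 1 n102211
theorem D193671 : act 1 n102211 = n193671 := rfl
theorem F390644 : act 1 n193671 = n135881 := d15_1 D193671 (iv7 F390629) F390628
theorem F390645 : act 7 n193671 = n136444 := d15_2 (iv0 D193670) D193671 (iv2 F390643)
theorem F390646 : act 5 n193671 = n136054 := d17_7 F99549 F99548 (iv1 F97697) F97693 F328996 D102211 D193671 (iv0 F218936) F100723
theorem F390647 : act 2 n136443 = n193671 := d2_3 F390646 F218934 (iv5 F219539)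
def n193672 : Q := act 4 n102211
theorem D193672 : act 4 n102211 = n193672 := rfl
theorem F390648 : act 7 n193672 = n136445 := d11_2 (iv7 F329006) D193672 (iv4 D136445)
def n193673 : Q := act 3 n102217
theorem D193673 : act 3 n102217 = n193673 := rfl
theorem F390649 : act 6 n193673 = n110974 := d7_2 (iv6 F365459) D193673 (iv3 F172018)
theorem F390650 : act 4 n110976 = n193673 := d10_3 F390649 (iv4 D110974) D110976
theorem F390651 : act 0 n110976 = n125478 := d20_7 (iv4 D62600) (iv1 F82467) F103404 F329594 D102217 D193673 (iv4 F390650) F201794 F175924 F101156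
def n193674 : Q := act 4 n102217
theorem D193674 : act 4 n102217 = n193674 := rfl
theorem F390652 : act 6 n193674 = n137075 := d10_2 (iv6 F365459) D193674 (iv4 D137075)
theorem F390653 : act 7 n193674 = n187130 := d11_2 F385764 D193674 (iv4 F385936)
theorem F390654 : act 1 n193674 = n186601 := d18_8 D187143 (iv4 F384269) F384267 (iv4 F368823) F368824 (iv4 F385772) F385775 D193674 F367411
theorem F390655 : act 2 n193674 = n187129 := d15_3 (iv0 D187129) D187130 (iv7 F390653)
theorem F390656 : act 4 n187129 = n192147 := d1_2 D193674 F390655 (iv2 F385761)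
theorem F390657 : act 0 n193674 = n187131 := d21_10 (iv5 F388086) F388087 (iv5 F385952) (iv6 D192195) (iv1 F153713) (iv6 F153753) F333093 (iv1 F364745) (iv5 F364746) (iv6 F390652)
def n193675 : Q := act 3 n102218
theorem D193675 : act 3 n102218 = n193675 := rfl
def n193676 : Q := act 4 n102218
theorem D193676 : act 4 n102218 = n193676 := rfl
theorem F390658 : act 2 n193676 = n187130 := d1_1 D193676 (iv4 F385936) (iv2 F385765)
theorem F390659 : act 7 n193676 = n187129 := d11_2 (iv7 F385762) D193676 F390656
theorem F390660 : act 1 n193676 = n187131 := d18_8 F388087 (iv4 F384274) F384272 (iv4 D102233) (iv5 D47452) (iv4 F74640) D102218 D193676 (iv5 F388086)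
theorem F390661 : act 1 n186601 = n193676 := d15_0 F390660 (iv7 D187131) (iv2 F367409)
def n193677 : Q := act 7 n102219
theorem D193677 : act 7 n102219 = n193677 := rfl
theorem F390662 : act 3 n193677 = n113004 := d8_1 D193677 (iv7 F226813) (iv3 F365374)
theorem F390663 : act 4 n193677 = n104722 := d11_1 D193677 F160423 (iv4 F365781)
theorem F390664 : act 5 n193677 = n102220 := d13_1 D193677 (iv7 D102220) D102219
theorem F390665 : act 1 n163269 = n193677 := d18_6 F71457 (iv4 F61715) D87337 D182924 F353205 (iv4 F257579) F390663 F356255 (iv5 D97002)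
theorem F390666 : act 1 n192149 = n163269 := d15_0 F390665 (iv7 D193677) (iv2 F385767)
def n193678 : Q := act 3 n102223
theorem D193678 : act 3 n102223 = n193678 := rfl
theorem F390667 : act 2 n193678 = n144171 := d0_1 D193678 F226872 (iv2 F182939) (iv3 F385777) F385776
theorem F390668 : act 6 n193678 = n137132 := d7_2 (iv6 F365508) D193678 (iv3 D137132)
def n193679 : Q := act 0 n102227
theorem D193679 : act 0 n102227 = n193679 := rfl
def n193680 : Q := act 1 n102227
theorem D193680 : act 1 n102227 = n193680 := rfl
def n193681 : Q := act 4 n102227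
theorem D193681 : act 4 n102227 = n193681 := rfl
theorem F390669 : act 2 n193681 = n179597 := d1_1 D193681 (iv4 F385507) (iv2 F385509)
theorem F390670 : act 7 n193681 = n179598 := d11_2 F385504 D193681 (iv4 F385501)
theorem F390671 : act 5 n133836 = n193681 := d19_1 (iv1 F334085) (iv4 D193681) (iv3 D102227) (iv1 D47451) D47452 D102233 (iv3 F369247) (iv1 F369249) (iv5 D98858) (iv4 F138572) F138571 F138579 (iv5 F317458) (iv4 F233197) F315219 (iv1 F338153) F338156 (iv4 F248089) F248088
theorem F390672 : act 0 n106007 = n193681 := d20_1 F366632 (iv4 D193681) (iv3 D102227) (iv1 D47451) (iv3 F74639) (iv4 F328996) (iv1 F48615) (iv4 F48732) (iv3 F100287) D136829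
theorem E103550 : n193679 = n192057 := (c18_3 F390672 (iv4 D193681) D193679 F385373 F309453 (iv4 D70110) F57046 (iv4 F122414) (iv0 F130345) D106007)
theorem F390673 : act 1 n192057 = n102227 := (sb E103550 (iv0 D193679))
theorem F390674 : act 1 n149328 = n193681 := d15_0 (iv0 F390672) (iv7 F261449) F261448
theorem E103551 : n193680 = n192094 := (c15_2 F390673 D193680 (iv7 D192094) (iv2 F385372))
theorem F390675 : act 0 n192094 = n102227 := (sb E103551 (iv1 D193680))
def n193682 : Q := act 5 n102227
theorem D193682 : act 5 n102227 = n193682 := rfl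
theorem F390676 : act 3 n193682 = n102229 := d6_1 D193682 (iv5 D102229) D102227
theorem F390677 : act 4 n193682 = n149378 := d16_2 (iv4 D193681) D193682 (iv5 D149378) (iv4 D70144) F52065 (iv4 F107559) (iv5 F322676) F322677 (iv2 F390669)
def n193683 : Q := act 6 n102231
theorem D193683 : act 6 n102231 = n193683 := rfl
theorem F390678 : act 3 n193683 = n182165 := d7_1 D193683 (iv6 F368936) (iv3 F368939)
theorem F390679 : act 4 n193683 = n187003 := d10_1 D193683 (iv6 D187003) (iv4 F368830)
theorem F390680 : act 5 n193683 = n102316 := d21_6 (iv5 D41349) D41347 D88596 F135754 D102231 D193683 (iv1 D102316) D102317 F157138 F74663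
theorem F390681 : act 0 n192892 = n193683 := d21_4 (iv5 D47034) D47032 D100900 D192892 (iv6 D193683) F157085 (iv1 D101781) D101782 F156647 F74541
def n193684 : Q := act 3 n102232
theorem D193684 : act 3 n102232 = n193684 := rfl
theorem F390682 : act 5 n193684 = n143115 := d6_2 F157086 D193684 (iv3 F360852)
theorem F390683 : act 4 n143498 = n193684 := d16_2 (iv4 F312233) D143498 F390682 F335441 (iv5 D166050) F122414 D79760 F122441 F106495
def n193685 : Q := act 4 n102232
theorem D193685 : act 4 n102232 = n193685 := rfl
theorem F390684 : act 2 n193685 = n185997 := d1_1 D193685 F368820 F368832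
theorem F390685 : act 7 n193685 = n186748 := d11_2 (iv7 F368833) D193685 (iv4 F368816)
theorem F390686 : act 5 n193685 = n172214 := d16_5 F365877 (iv5 F389993) (iv4 D193478) F157086 D193685 F289549 D187292 F369734 F149718
theorem F390687 : act 0 n193685 = n187001 := d17_0 (iv5 F368798) F357142 D102306 (iv4 F365541) (iv5 D102224) (iv0 D47450) D47452 D102232 D193685
theorem F390688 : act 1 n193685 = n187000 := d18_8 F370954 F370951 (iv1 F160420) (iv4 F287653) F365783 (iv4 D102233) D102232 D193685 F368794
theorem F390689 : act 3 n186790 = n193685 := d6_3 F390686 (iv3 F337271) D186790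
def n193686 : Q := act 6 n102232
theorem D193686 : act 6 n102232 = n193686 := rfl
theorem F390690 : act 5 n193686 = n193631 := d12_1 D193686 (iv6 D193631) (iv5 D102036) (iv6 F156982) F157086
def n193687 : Q := act 7 n102233
theorem D193687 : act 7 n102233 = n193687 := rfl
theorem F390691 : act 2 n193687 = n182245 := d4_1 D193687 (iv7 F287662) F365782
theorem F390692 : act 4 n193687 = n102234 := d11_1 D193687 (iv7 D102234) D102233
theorem F390693 : act 5 n193687 = n184318 := d13_1 D193687 (iv7 F287654) F365783
theorem F390694 : act 1 n182928 = n193687 := d15_1 (iv0 F356256) (iv7 D193687) (iv2 F365782)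
theorem F390695 : act 1 n193687 = n182925 := d15_1 F390694 (iv7 F384271) F384270
def n193688 : Q := act 6 n102236
theorem D193688 : act 6 n102236 = n193688 := rfl
def n193689 : Q := act 4 n102237
theorem D193689 : act 4 n102237 = n193689 := rfl
theorem F390696 : act 2 n193689 = n102238 := d1_1 D193689 (iv4 D102238) D102237
def n193690 : Q := act 6 n102237
theorem D193690 : act 6 n102237 = n193690 := rfl
theorem F390697 : act 2 n193690 = n102239 := d3_1 D193690 (iv6 D102239) D102237
theorem F390698 : act 3 n193690 = n133339 := d7_1 D193690 F385799 F385795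
theorem F390699 : act 4 n193690 = n156045 := d20_6 (iv4 D14057) D14055 D29591 D62582 D133339 (iv3 F390698) (iv1 D156045) F111078 (iv3 D61900) F46987
theorem F390700 : act 6 n156045 = n193689 := d10_2 D193690 F390699 (iv4 D193689)
def n193691 : Q := act 0 n102238
theorem D193691 : act 0 n102238 = n193691 := rfl
theorem F390701 : act 2 n156062 = n193691 := d15_3 (iv0 D193691) (iv0 F365376) (iv7 F245203)
def n193692 : Q := act 6 n102238
theorem D193692 : act 6 n102238 = n193692 := rfl
theorem F390702 : act 2 n193692 = n156045 := d3_1 D193692 F390700 F390696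
theorem F390703 : act 4 n193692 = n102239 := d10_1 D193692 (iv6 D102239) D102238
theorem F390704 : act 0 n130558 = n193692 := d20_1 D130558 F390703 F157088 (iv1 F353347) F329275 (iv4 F312128) (iv1 F314450) (iv4 F316054) (iv3 F318267) (iv1 D130556)
theorem F390705 : act 1 n156046 = n193692 := d15_0 (iv0 F390704) F209142 D156046
def n193693 : Q := act 0 n102239
theorem D193693 : act 0 n102239 = n193693 := rfl
theorem F390706 : act 4 n193693 = n115667 := d18_3 F390704 F390703 D193693 F351402 F321540 F130718 (iv4 F320437) F320436 (iv5 F320576)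
theorem F390707 : act 6 n115663 = n193693 := d10_0 F390706 (iv6 D115667) (iv4 F180033)
def n193694 : Q := act 1 n102239
theorem D193694 : act 1 n102239 = n193694 := rfl
def n193695 : Q := act 5 n102239
theorem D193695 : act 5 n102239 = n193695 := rfl
theorem F390708 : act 3 n193695 = n102242 := d6_1 D193695 (iv5 D102242) (iv3 F157088)
theorem F390709 : act 6 n193695 = n190741 := d12_2 D102239 D193695 (iv5 D190741) F337137 F137322
def n193696 : Q := act 7 n102239
theorem D193696 : act 7 n102239 = n193696 := rfl
theorem F390710 : act 3 n193696 = n102243 := d8_1 D193696 (iv7 D102243) (iv3 F157088)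
theorem F390711 : act 4 n156044 = n193696 := d20_2 (iv4 F111078) D156044 F390710 (iv1 F362572) (iv3 D157225) (iv4 F314453) (iv1 F316786) F316788 F355485 (iv1 D131917)
theorem F390712 : act 7 n193692 = n156044 := d11_0 F390711 (iv7 D193696) (iv4 F390703)
def n193697 : Q := act 0 n102242
theorem D193697 : act 0 n102242 = n193697 := rfl
theorem F390713 : act 5 n193697 = n136515 := d17_3 F343228 D102242 D193697 (iv4 D136515) (iv5 F346672) (iv0 F155843) (iv5 D47440) D47439 D102183
theorem F390714 : act 3 n138932 = n193697 := d6_3 F390713 F219623 D138932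
theorem F390715 : act 6 n103004 = n193697 := d12_0 F390713 F346675 D193467 F389953 F355628
def n193698 : Q := act 1 n102242
theorem D193698 : act 1 n102242 = n193698 := rfl
theorem F390716 : act 4 n193698 = n113034 := d17_9 F377604 F377600 (iv1 D188670) F292000 (iv4 F292436) (iv5 F353349) F353347 D102242 D193698
theorem F390717 : act 5 n136510 = n193698 := d21_0 (iv1 D193698) (iv5 D102242) (iv6 D47456) (iv1 F64414) D89452 F359411 F177359 D191990 (iv6 F385118) (iv1 F385122)
theorem F390718 : act 6 n113031 = n193698 := d21_3 D94276 D189659 F377285 (iv1 D193698) F353343 F353334 F368657 F377278 (iv6 D189656) (iv1 D94274)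
theorem F390719 : act 6 n137518 = n189659 := d12_4 F390718 (iv5 F390717) F326614 D137518 F377285
def n193699 : Q := act 7 n102242
theorem D193699 : act 7 n102242 = n193699 := rfl
theorem F390720 : act 4 n193699 = n188861 := d11_1 D193699 F377220 F377223
theorem F390721 : act 5 n193699 = n102243 := d13_1 D193699 (iv7 D102243) D102242
def n193700 : Q := act 4 n102246
theorem D193700 : act 4 n102246 = n193700 := rfl
theorem F390722 : act 2 n193700 = n102247 := d1_1 D193700 (iv4 D102247) D102246
def n193701 : Q := act 6 n102246
theorem D193701 : act 6 n102246 = n193701 := rfl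
theorem F390723 : act 2 n193701 = n102248 := d3_1 D193701 (iv6 D102248) D102246
def n193702 : Q := act 0 n102247
theorem D193702 : act 0 n102247 = n193702 := rfl
def n193703 : Q := act 5 n102247
theorem D193703 : act 5 n102247 = n193703 := rfl
def n193704 : Q := act 6 n102247
theorem D193704 : act 6 n102247 = n193704 := rfl
theorem F390724 : act 4 n193704 = n102248 := d10_1 D193704 (iv6 D102248) D102247
def n193705 : Q := act 1 n102248
theorem D193705 : act 1 n102248 = n193705 := rfl
theorem F390725 : act 7 n193705 = n144146 := d15_2 (iv0 F385935) D193705 F226855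
theorem F390726 : act 2 n133384 = n193705 := d4_3 F390725 F226855 (iv7 F214440)
theorem F390727 : act 1 n193705 = n144151 := d15_0 (iv0 D144151) (iv7 F214440) F390726
theorem F390728 : act 7 n144151 = n193701 := d15_2 D193705 F390727 F390723
theorem F390729 : act 6 n130527 = n144151 := d14_5 F390728 (iv6 D193701) (iv7 F385796) (iv6 F385799) F390596
def n193706 : Q := act 5 n102248
theorem D193706 : act 5 n102248 = n193706 := rfl
theorem F390730 : act 3 n193706 = n102251 := d6_1 D193706 (iv5 D102251) (iv3 F157089)
def n193707 : Q := act 7 n102248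
theorem D193707 : act 7 n102248 = n193707 := rfl
theorem F390731 : act 2 n193707 = n144151 := d4_1 D193707 F390728 F390723
theorem F390732 : act 3 n193707 = n102252 := d8_1 D193707 (iv7 D102252) (iv3 F157089)
theorem F390733 : act 6 n193707 = n133340 := d14_1 D193707 (iv7 F390594) F390593 F153647 D102248
theorem F390734 : act 0 n193707 = n133384 := d20_4 D193674 F390657 F369192 (iv3 F390732) (iv3 D133384) (iv4 D62600) (iv1 F82467) F103404 F329594 D102217
theorem F390735 : act 1 n193707 = n144146 := d15_1 (iv0 F390734) (iv7 F390725) (iv2 F390726)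
theorem F390736 : act 1 n193701 = n133384 := d15_0 (iv0 F390734) (iv7 D193707) (iv2 F390723)
theorem F390737 : act 1 n144146 = n193701 := d15_0 F390736 F214440 (iv2 F226855)
def n193708 : Q := act 0 n102251
theorem D193708 : act 0 n102251 = n193708 := rfl
theorem F390738 : act 5 n193708 = n193479 := d17_3 F385781 D102251 D193708 (iv4 D193479) (iv5 F157085) (iv0 D102231) (iv5 D47452) D47451 D102228
theorem F390739 : act 2 n190874 = n193708 := d15_3 (iv0 D193708) (iv0 F369053) (iv7 F381419)
theorem F390740 : act 4 n193708 = n187292 := d1_2 D190874 F390739 F369733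
theorem F390741 : act 7 n193708 = n163251 := d4_2 (iv7 F381419) F390739 F257546
def n193709 : Q := act 4 n102251
theorem D193709 : act 4 n102251 = n193709 := rfl
theorem F390742 : act 2 n193709 = n192871 := d1_1 D193709 F388069 F385814
theorem F390743 : act 5 n193709 = n192835 := d16_5 F368802 F288579 F137347 D102251 D193709 F387973 (iv5 F368794) F369233 F369230
theorem F390744 : act 1 n193709 = n160620 := d18_6 (iv1 F385763) F385936 (iv1 D187130) F137347 D102251 D193709 (iv4 F257579) F390665 F390664
theorem F390745 : act 3 n193591 = n193709 := d6_3 F390743 F387972 D193591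
def n193710 : Q := act 7 n102251
theorem D193710 : act 7 n102251 = n193710 := rfl
theorem F390746 : act 5 n193710 = n102252 := d13_1 D193710 (iv7 D102252) D102251
theorem F390747 : act 1 n163251 = n193710 := d15_1 F385815 (iv7 D193710) (iv2 F385814)
theorem F390748 : act 1 n193710 = n190874 := d15_1 F390747 F381419 (iv2 F257546)
def n193711 : Q := act 4 n102254
theorem D193711 : act 4 n102254 = n193711 := rfl
theorem F390749 : act 2 n193711 = n102256 := d1_1 D193711 (iv4 D102256) D102254
theorem F390750 : act 7 n193711 = n102261 := d11_2 F157093 D193711 (iv4 D102261)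
theorem F390751 : act 0 n156335 = n193711 := d20_10 (iv4 D193711) F378397 (iv4 F156261) F156260 (iv1 F155997) F352706 F223635 (iv1 F171775) F112157 D156335
def n193712 : Q := act 6 n102254
theorem D193712 : act 6 n102254 = n193712 := rfl
theorem F390752 : act 2 n193712 = n102258 := d3_1 D193712 (iv6 D102258) D102254
theorem F390753 : act 3 n193712 = n103198 := d7_1 D193712 (iv6 D103198) (iv3 F378400)
theorem F390754 : act 4 n156310 = n193712 := d19_2 D134860 (iv5 F351306) F390753 F355515 (iv5 F355469) (iv4 F355470) F164516 (iv1 F78005) (iv5 F77751) (iv4 F177640) (iv3 F179098) F364734 (iv5 D115187) F83914 (iv3 D29984) (iv1 F48097) (iv5 F98638) F98637 (iv3 F98681)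
theorem F390755 : act 2 n138458 = n156310 := d1_3 F390754 F390752 F379510
theorem F390756 : act 6 n193711 = n156310 := d10_0 F390754 (iv6 D193712) D193711
theorem F390757 : act 7 n156311 = n138458 := d15_2 (iv0 D156310) D156311 F390755
theorem F390758 : act 7 n138457 = n156310 := d15_2 F245640 F245638 (iv2 F390755)
theorem F390759 : act 2 n156311 = n138457 := d4_3 F390758 (iv2 F390755) (iv7 F390757)
def n193713 : Q := act 4 n102255
theorem D193713 : act 4 n102255 = n193713 := rfl
theorem F390760 : act 5 n193713 = n144471 := d16_5 (iv4 F307995) D161630 (iv4 F379438) (iv5 F379439) D193713 (iv4 D144471) (iv5 F317344) F210368 (iv2 F210367)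
theorem F390761 : act 0 n193713 = n193654 := d18_2 F379440 D193713 (iv4 D193654) F157060 (iv4 F381780) (iv0 F381783) F175182 (iv0 F319844) (iv5 F335529)
def n193714 : Q := act 7 n102255
theorem D193714 : act 7 n102255 = n193714 := rfl
theorem F390762 : act 2 n193714 = n103191 := d4_1 D193714 F379462 F379459
theorem F390763 : act 3 n193714 = n102259 := d8_1 D193714 (iv7 D102259) D102255
theorem F390764 : act 1 n103191 = n190973 := d15_0 (iv0 F381777) D193714 F390762
theorem F390765 : act 0 n127628 = n126183 := d21_4 D190973 (iv1 F390764) (iv5 F379464) F379465 (iv6 D126183) (iv5 D59149) F45403 D34034 D74186 (iv1 F335523)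
theorem F390766 : act 1 n193714 = n144245 := d15_0 (iv0 F379461) (iv7 F379462) (iv2 F390762)
def n193715 : Q := act 0 n102256
theorem D193715 : act 0 n102256 = n193715 := rfl
theorem F390767 : act 4 n193715 = n106137 := d18_3 D47460 D102256 D193715 (iv5 D106137) F77438 D49059 (iv4 F314180) (iv0 D102267) (iv5 D47463)
theorem F390768 : act 3 n108435 = n193715 := d5_5 F390767 F331284 F165091 (iv3 F103463) (iv4 F167648)
theorem F390769 : act 6 n144272 = n193715 := d10_0 F390767 F331285 (iv4 F226958)
theorem F390770 : act 0 n193715 = n102261 := d20_7 (iv4 F158448) (iv1 F346775) F209090 F95736 D61264 (iv3 F331284) (iv4 F390767) (iv4 D102261) D102260 F378402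
theorem F390771 : act 5 n193715 = n141970 := d6_2 (iv5 F167646) F390768 (iv3 D141970)
theorem F390772 : act 7 n193715 = n156335 := d8_2 F167649 F390768 (iv3 D156335)
def n193716 : Q := act 1 n102256
theorem D193716 : act 1 n102256 = n193716 := rfl
theorem F390773 : act 1 n193716 = n102261 := d15_1 D193716 (iv7 F390750) F390749
theorem F390774 : act 2 n156335 = n193716 := d15_3 F390773 (iv0 F390770) F390772
def n193717 : Q := act 3 n102256
theorem D193717 : act 3 n102256 = n193717 := rfl
def n193718 : Q := act 5 n102256
theorem D193718 : act 5 n102256 = n193718 := rfl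
def n193719 : Q := act 7 n102256
theorem D193719 : act 7 n102256 = n193719 := rfl
theorem F390775 : act 2 n193719 = n102261 := d4_1 D193719 (iv7 F390750) F390749
theorem F390776 : act 4 n193719 = n102259 := d11_1 D193719 (iv7 D102259) D102256
theorem F390777 : act 1 n156335 = n193719 := d15_1 (iv0 F390751) (iv7 D193719) (iv2 F390749)
def n193720 : Q := act 4 n102257
theorem D193720 : act 4 n102257 = n193720 := rfl
theorem F390778 : act 2 n193720 = n159527 := d1_1 D193720 (iv4 F378395) F378393
theorem F390779 : act 3 n193720 = n172416 := d5_1 D193720 (iv4 D172416) (iv3 F255636) (iv4 F379438) F379437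
theorem F390780 : act 6 n193720 = n114179 := d10_2 F366709 D193720 F332627
theorem F390781 : act 5 n193720 = n106103 := d17_5 (iv1 D102268) (iv5 D47463) D47460 D102257 D193720 F259209 F259208 F120168 (iv4 F314183)
theorem F390782 : act 7 n164375 = n193720 := d13_0 F390781 F251280 (iv5 F259025)
theorem F390783 : act 0 n193720 = n127782 := d20_4 F273884 (iv1 D172415) D172416 (iv3 F390779) F205531 (iv4 F114633) D114239 (iv4 F178035) (iv3 F339587) (iv1 F272040)
def n193721 : Q := act 7 n102257
theorem D193721 : act 7 n102257 = n193721 := rfl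
theorem F390784 : act 2 n193721 = n102262 := d4_1 D193721 F378401 F378393
theorem F390785 : act 4 n193721 = n164375 := d11_1 D193721 F390782 (iv4 D193720)
theorem F390786 : act 5 n193721 = n102259 := d13_1 D193721 (iv7 D102259) D102257
theorem F390787 : act 6 n193721 = n164374 := d14_1 D193721 F379537 (iv6 D190355) F361701 F366709
theorem F390788 : act 1 n102262 = n190318 := d15_0 (iv0 F390443) D193721 F390784
theorem F390789 : act 0 n193607 = n193721 := d21_10 F390786 F378409 D102266 (iv6 F350574) (iv1 D103741) D103745 (iv5 F347820) (iv1 F244968) (iv5 F379361) (iv6 F390447)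
def n193722 : Q := act 0 n102258
theorem D193722 : act 0 n102258 = n193722 := rfl
def n193723 : Q := act 7 n102258
theorem D193723 : act 7 n102258 = n193723 := rfl
theorem F390790 : act 3 n193723 = n133345 := d8_1 D193723 (iv7 F379508) (iv3 F379509)
theorem F390791 : act 4 n193723 = n156311 := d11_1 D193723 F390757 (iv4 F379510)
def n193724 : Q := act 6 n102259
theorem D193724 : act 6 n102259 = n193724 := rfl
theorem F390792 : act 2 n193724 = n102263 := d3_1 D193724 (iv6 D102263) (iv2 F157094)
theorem F390793 : act 0 n193724 = n144171 := d21_4 D193607 F390789 F390786 D193724 (iv6 D144171) D144170 (iv1 F382319) (iv5 F382317) F390436 (iv1 D193605)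
def n193725 : Q := act 4 n102260
theorem D193725 : act 4 n102260 = n193725 := rfl
theorem F390794 : act 2 n193725 = n103192 := d1_1 D193725 (iv4 D103192) (iv2 F378404)
theorem F390795 : act 7 n193725 = n103197 := d11_2 (iv7 F378406) D193725 (iv4 D103197)
theorem F390796 : act 0 n193725 = n155662 := d18_2 (iv1 F378403) D193725 (iv4 F346764) F346767 F314952 (iv0 F242955) F319381 (iv0 D47768) D47770
theorem F390797 : act 1 n193725 = n155658 := d18_6 F360234 F360232 F243002 (iv4 F378428) F378429 D193725 F346787 F339715 (iv5 F137093)
def n193726 : Q := act 3 n102261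
theorem D193726 : act 3 n102261 = n193726 := rfl
def n193727 : Q := act 5 n102261
theorem D193727 : act 5 n102261 = n193727 := rfl
def n193728 : Q := act 6 n102261
theorem D193728 : act 6 n102261 = n193728 := rfl
theorem F390798 : act 4 n193728 = n102263 := d10_1 D193728 (iv6 D102263) D102261
def n193729 : Q := act 4 n102262
theorem D193729 : act 4 n102262 = n193729 := rfl
theorem F390799 : act 2 n193729 = n164375 := d1_1 D193729 (iv4 F390785) F390784
theorem F390800 : act 3 n193729 = n135251 := d5_1 D193729 (iv4 F338675) (iv3 F231635) (iv4 F378428) F378427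
theorem F390801 : act 6 n193729 = n114152 := d10_2 F379546 D193729 (iv4 F379545)
theorem F390802 : act 7 n193729 = n159527 := d11_2 (iv7 F378401) D193729 (iv4 F378395)
theorem F390803 : act 5 n193729 = n106102 := d17_5 F314179 F366707 (iv1 F157092) D102262 D193729 (iv0 D106102) F77428 D49059 (iv4 F314180)
theorem F390804 : act 0 n127782 = n193729 := d20_4 (iv4 F177809) F178441 F114633 (iv3 F205531) F390800 (iv4 F338675) F338676 F338651 F339578 (iv1 F179048)
def n193730 : Q := act 0 n102263
theorem D193730 : act 0 n102263 = n193730 := rfl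
def n193731 : Q := act 1 n102263
theorem D193731 : act 1 n102263 = n193731 := rfl
def n193732 : Q := act 7 n102263
theorem D193732 : act 7 n102263 = n193732 := rfl
theorem F390805 : act 3 n193732 = n128259 := d8_1 D193732 (iv7 F369953) F378407
def n193733 : Q := act 5 n102269
theorem D193733 : act 5 n102269 = n193733 := rfl
theorem F390806 : act 2 n193733 = n135859 := d2_1 D193733 F362726 (iv2 F311508)
theorem F390807 : act 3 n193733 = n146435 := d6_1 D193733 F229771 (iv3 F311509)
theorem F390808 : act 7 n193733 = n121352 := d13_2 (iv7 F311510) D193733 (iv5 D121352)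
theorem F390809 : act 1 n193733 = n159644 := d15_0 (iv0 F251496) F362729 (iv2 F390806)
def n193734 : Q := act 6 n102269
theorem D193734 : act 6 n102269 = n193734 := rfl
theorem F390810 : act 2 n193734 = n121356 := d3_1 D193734 (iv6 F235292) (iv2 F311508)
theorem F390811 : act 3 n193734 = n114898 := d7_1 D193734 F335500 (iv3 F311509)
theorem F390812 : act 4 n193734 = n102270 := d10_1 D193734 (iv6 D102270) D102269
theorem F390813 : act 7 n193734 = n106283 := d14_2 (iv7 F311510) D193734 (iv6 D106283) F77547 D55984
theorem F390814 : act 5 n127831 = n193734 := d13_3 F390813 F163339 D127831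
theorem F390815 : act 1 n121355 = n193734 := d15_1 D121355 F390813 F163336
theorem F390816 : act 1 n193734 = n114873 := d17_8 F339729 F339730 F175727 D112905 (iv4 F352664) F259233 F205659 F390814 F339726
theorem E103552 : n159450 = n119046 := ((c20_5 D114900 F340893 F107830 (iv3 F86671) D119046 (iv3 D159450) F190337 (iv1 F357186) (iv4 F390812) F390811 (iv1 D114898))).symm
theorem F390817 : act 3 n119046 = n76272 := (sb E103552 (iv3 D159450))
theorem F390818 : act 6 n119046 = n144943 := (sb E103552 (iv6 F355244))
def n193735 : Q := act 0 n102271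
theorem D193735 : act 0 n102271 = n193735 := rfl
theorem F390819 : act 5 n193735 = n189201 := d17_1 D193735 (iv1 F376054) F372096 F372097 (iv5 F375125) (iv0 D188880) F293127 D100983 (iv4 F365232)
theorem F390820 : act 2 n103046 = n193735 := d15_3 (iv0 D193735) F314176 (iv7 F158287)
theorem F390821 : act 1 n103231 = n193735 := d15_0 (iv0 D193735) (iv7 F372073) F372070
theorem F390822 : act 7 n193735 = n103263 := d15_2 (iv0 F177374) F390821 (iv2 D103263)
theorem F390823 : act 3 n103252 = n193735 := d8_3 F390822 (iv3 F382403) F382405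
def n193736 : Q := act 6 n102272
theorem D193736 : act 6 n102272 = n193736 := rfl
theorem F390824 : act 3 n193736 = n141565 := d7_1 D193736 (iv6 F346222) (iv3 F357212)
theorem F390825 : act 4 n193736 = n146912 := d10_1 D193736 (iv6 F373128) F369002
theorem F390826 : act 5 n193736 = n109048 := d21_6 F64463 (iv1 D22795) D22797 D47465 D102272 D193736 (iv1 D109048) D109049 (iv6 F353329) F137060
theorem F390827 : act 1 n155976 = n193736 := d17_6 (iv1 F168592) D109042 F387469 (iv5 F164671) (iv4 F173532) (iv5 F245014) F390826 F244986 F244978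
theorem E103553 : n189734 = n188510 := ((c21_2 (iv5 F142018) D188510 F377570 F365631 (iv1 F219326) F359284 (iv5 F390826) (iv1 F390827) F245014 (iv6 F365578) (iv1 D158032))).symm
theorem F390828 : act 2 n188510 = n94364 := (sb E103553 F377565)
theorem F390829 : act 3 n188510 = n130532 := (sb E103553 F377566)
theorem F390830 : act 5 n188510 = n158003 := (sb E103553 F377570)
theorem F390831 : act 6 n188510 = n130530 := (sb E103553 (iv6 F377569))
theorem F390832 : act 7 n188510 = n94363 := (sb E103553 (iv7 D189734))
theorem E103554 : n189729 = n188511 := (c15_4 F373778 F373773 F390832 D189729)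
theorem F390833 : act 2 n188511 = n94363 := (sb E103554 (iv2 D189729))
theorem F390834 : act 5 n188511 = n158004 := (sb E103554 F377573)
theorem F390835 : act 7 n188511 = n94364 := (sb E103554 (iv7 F377562))
theorem F390836 : act 0 n103002 = n137518 := d21_4 F390834 (iv1 D158004) F112838 D103002 F390719 F377285 (iv1 F251189) (iv5 F377280) F377281 (iv1 F373778)
theorem E103555 : n144142 = n137131 := ((c17_1 (iv1 F220323) F357457 F390836 (iv5 D137518) (iv4 D64646) F221252 (iv0 D64478) (iv5 D30359) D30357 D64473)).symm
theorem F390837 : act 3 n137131 = n67530 := (sb E103555 (iv3 D144142))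
theorem F390838 : act 5 n137131 = n103002 := (sb E103555 F357457)
theorem E103556 : n139496 = n139433 := ((c20_7 F182988 F180643 (iv4 D67537) F100418 (iv1 F220323) F390837 (iv4 F222635) (iv1 D139496) (iv4 F183001) (iv3 D117047) D117045)).symm
theorem F390839 : act 0 n139433 = n65465 := (sb E103556 (iv1 D139496))
theorem F390840 : act 4 n130609 = n158068 := d20_8 F54695 F36027 D43182 D92345 D188510 F390829 F209108 D130609 (iv3 D158068) (iv1 D75292)
theorem F390841 : act 3 n187427 = n130609 := d5_5 F390840 (iv3 D158068) F292217 (iv3 F138530) D187427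
theorem F390842 : act 7 n131127 = n130609 := d11_0 F390840 (iv7 F276098) (iv4 F364720)
theorem F390843 : act 2 n130609 = n131126 := d15_3 (iv0 D131126) D131127 F390842
theorem F390844 : act 2 n131127 = n130610 := d15_3 F210020 F210021 (iv7 F390842)
theorem F390845 : act 7 n130610 = n131126 := d4_2 (iv7 F390842) F390844 (iv2 F390843)
def n193737 : Q := act 5 n102275
theorem D193737 : act 5 n102275 = n193737 := rfl
theorem F390846 : act 3 n193737 = n184128 := d6_1 D193737 F367108 F385845
theorem F390847 : act 7 n193737 = n189959 := d13_2 (iv7 F385846) D193737 F378375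
theorem F390848 : act 4 n193737 = n186908 := d17_4 F372410 F309544 D102275 D193737 (iv5 F372444) F372440 (iv5 D99472) (iv0 F294860) D188131
theorem F390849 : act 0 n193737 = n176699 := d21_1 D193737 F362617 (iv6 F344499) (iv1 F349519) (iv6 D99832) (iv5 F74753) F74754 F63942 D47466 D102275
theorem F390850 : act 6 n186907 = n193737 := d21_5 D192834 F387968 F349157 (iv6 F382494) F382496 (iv5 D193737) (iv1 F368769) F368763 (iv6 F386688) F386690
def n193738 : Q := act 6 n102275
theorem D193738 : act 6 n102275 = n193738 := rfl
theorem F390851 : act 4 n193738 = n192468 := d10_1 D193738 F386758 F385844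
theorem F390852 : act 0 n137178 = n193738 := d21_4 F344562 (iv1 F324513) (iv5 F276243) F349521 (iv6 D193738) D193737 F390849 F362617 (iv6 F344499) (iv1 F349519)
theorem F390853 : act 1 n137183 = n193738 := d15_0 (iv0 F390852) (iv7 F390612) F390610
def n193739 : Q := act 3 n102276
theorem D193739 : act 3 n102276 = n193739 := rfl
theorem F390854 : act 2 n193739 = n144140 := d0_1 D193739 F368781 (iv2 F270489) F372067 F385848
theorem F390855 : act 7 n193739 = n144251 := d8_2 F385851 D193739 F368767
theorem F390856 : act 0 n193739 = n139581 := d20_4 (iv4 F359406) (iv1 F385852) F385854 D193739 (iv3 D139581) (iv4 D65503) (iv1 F111254) F111212 D144273 (iv1 F359412)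
theorem F390857 : act 5 n186769 = n193739 := d17_1 F384401 F390856 F357204 F159075 D189907 F378188 F328507 D191767 (iv4 F384398)
theorem F390858 : act 6 n116998 = n193739 := d21_3 (iv5 F226903) F357481 (iv5 F357475) F390856 F222719 (iv5 F357189) (iv1 F357203) (iv5 F353238) (iv6 F345462) (iv1 F204354)
theorem F390859 : act 1 n193739 = n144252 := d15_1 (iv0 F390856) (iv7 F365280) (iv2 F365281)
def n193740 : Q := act 5 n102276
theorem D193740 : act 5 n102276 = n193740 := rfl
theorem F390860 : act 2 n193740 = n189959 := d2_1 D193740 F378375 F385848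
theorem F390861 : act 3 n193740 = n186769 := d6_1 D193740 F390857 (iv3 D193739)
theorem F390862 : act 4 n193740 = n172221 := d17_4 F286012 (iv5 F368763) (iv1 F368766) D193740 (iv5 F372436) (iv0 D188136) (iv5 D90875) D90872 F294866
theorem F390863 : act 6 n193740 = n172219 := d21_3 (iv5 F368763) (iv1 F368766) D193740 F285233 F364447 (iv5 F377273) (iv1 F377275) (iv5 D188212) F357553 F286012
theorem F390864 : act 0 n176699 = n193740 := d21_10 (iv5 D193740) (iv1 D102276) (iv5 F309544) (iv6 D100720) (iv1 F74188) D46983 (iv5 F331180) F298054 F298010 D176699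
def n193741 : Q := act 6 n102276
theorem D193741 : act 6 n102276 = n193741 := rfl
theorem F390865 : act 2 n193741 = n137130 := d3_1 D193741 (iv6 F372069) F385848
theorem F390866 : act 3 n193741 = n116998 := d7_1 D193741 F390858 (iv3 D193739)
theorem F390867 : act 7 n137131 = n193741 := d8_0 F390866 F357476 (iv3 F390837)
def n193742 : Q := act 5 n102279
theorem D193742 : act 5 n102279 = n193742 := rfl
theorem F390868 : act 2 n193742 = n136946 := d2_1 D193742 F220118 (iv2 F346667)
theorem F390869 : act 3 n193742 = n102281 := d6_1 D193742 (iv5 D102281) D102279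
theorem F390870 : act 7 n193742 = n136923 := d13_2 (iv7 F346668) D193742 (iv5 D136923)
theorem F390871 : act 1 n136944 = n193742 := d15_1 D136944 F390870 F220104
theorem F390872 : act 1 n193742 = n136943 := d15_0 (iv0 D136943) D136946 (iv2 F390868)
def n193743 : Q := act 6 n102280
theorem D193743 : act 6 n102280 = n193743 := rfl
theorem F390873 : act 2 n193743 = n137091 := d3_1 D193743 (iv6 F226961) F346655
theorem F390874 : act 3 n193743 = n184426 := d7_1 D193743 (iv6 D184426) (iv3 F352901)
theorem F390875 : act 4 n193743 = n102282 := d10_1 D193743 (iv6 D102282) D102280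
theorem F390876 : act 7 n193743 = n137083 := d14_2 (iv7 F352903) D193743 (iv6 D137083) (iv7 F218668) F331274
theorem F390877 : act 0 n193743 = n137089 := d21_4 F159223 F295205 (iv5 F352902) D193743 (iv6 F352894) (iv5 F352832) (iv1 D131138) F96053 (iv6 F165088) (iv1 F352882)
theorem F390878 : act 0 n137088 = n193743 := d21_4 F344544 (iv1 F81759) D109716 (iv6 F352923) (iv6 D193743) F352902 (iv1 F340534) (iv5 F340546) F340547 (iv1 F344543)
def n193744 : Q := act 0 n102281
theorem D193744 : act 0 n102281 = n193744 := rfl
theorem F390879 : act 5 n193744 = n136525 := d17_3 D47467 D102281 D193744 F352873 (iv5 F362617) (iv0 F390849) (iv5 D193737) (iv0 D102275) F74645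
theorem F390880 : act 1 n102286 = n193744 := d15_0 (iv0 D193744) (iv7 F385825) F385823
theorem F390881 : act 6 n186928 = n193744 := d21_9 (iv5 D102286) (iv1 D47468) D47469 F74647 F64383 (iv6 F137071) (iv5 D89386) D89384 D186928 (iv1 F390880)
theorem F390882 : act 2 n193744 = n193633 := d3_1 F390881 F390514 (iv2 F390270)
theorem F390883 : act 3 n193744 = n159416 := d7_1 F390881 (iv6 F362837) (iv3 F368536)
def n193745 : Q := act 1 n102281
theorem D193745 : act 1 n102281 = n193745 := rfl
theorem F390884 : act 1 n193745 = n102286 := d15_1 D193745 (iv7 F385822) F385820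
theorem F390885 : act 7 n193745 = n193633 := d15_2 (iv0 D193744) D193745 (iv2 F390882)
theorem F390886 : act 5 n193745 = n136524 := d17_7 (iv1 F352882) F159223 F295205 (iv5 F352902) (iv4 D102280) D102281 D193745 (iv0 D136524) (iv4 F165087)
theorem F390887 : act 3 n185088 = n193745 := d19_19 (iv1 D193745) (iv5 D102281) D102280 F352901 F293901 F146941 F70030 F65014 (iv1 F35151) D40874 F291242 F294200 (iv1 D46961) D46963 D100705 (iv3 F372010) F372011 F159725 (iv4 F337980)
theorem F390888 : act 6 n102316 = n193745 := d21_9 (iv5 D102281) (iv1 F153543) (iv5 F274880) (iv6 D175537) (iv1 F128843) D101936 (iv5 F388119) F390681 F390680 (iv1 D193745)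
def n193746 : Q := act 4 n102286
theorem D193746 : act 4 n102286 = n193746 := rfl
theorem F390889 : act 5 n193746 = n184090 := d9_2 D102286 D193746 (iv4 D184090) (iv5 F293841) F159353 (iv5 F352902) (iv4 D102280) D102281 (iv4 F372750) (iv5 D188229) (iv4 F372738) F372739 F286155 (iv5 F346623) (iv4 D102285)
def n193747 : Q := act 6 n102286
theorem D193747 : act 6 n102286 = n193747 := rfl
theorem F390890 : act 2 n193747 = n190566 := d3_1 D193747 F385826 F385823
theorem F390891 : act 3 n193747 = n135978 := d7_1 D193747 F218749 (iv3 F346626)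
theorem F390892 : act 5 n193747 = n135969 := d12_1 D193747 (iv6 D135969) (iv5 D63929) F346627 D102286
theorem F390893 : act 0 n193747 = n190569 := d21_10 F380152 (iv1 F367858) (iv5 F367859) (iv6 D101932) (iv1 F128844) D175537 F274880 (iv1 F153542) D102286 D193747
theorem F390894 : act 0 n102309 = n193747 := d21_4 (iv5 D41743) (iv1 F64385) (iv5 F74652) D102309 (iv6 D193747) (iv5 D102286) (iv1 D47468) D47469 F74647 F64383
theorem F390895 : act 7 n190567 = n193747 := d15_2 (iv0 D190566) D190567 F390890
theorem F390896 : act 2 n190567 = n193553 := d4_3 F390247 (iv2 F390890) (iv7 F390895)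
theorem F390897 : act 4 n192818 = n190567 := d1_0 F390896 F390246 (iv2 F387891)
theorem F390898 : act 6 n192817 = n190567 := d3_0 F390896 (iv6 F390256) (iv2 F387889)
def n193748 : Q := act 3 n102288
theorem D193748 : act 3 n102288 = n193748 := rfl
def n193749 : Q := act 4 n102288
theorem D193749 : act 4 n102288 = n193749 := rfl
theorem F390899 : act 0 n193749 = n192002 := d17_0 (iv5 D192002) F286042 (iv5 F390889) (iv4 D193746) (iv5 D102286) F153542 (iv5 F274880) F274883 D193749
def n193750 : Q := act 6 n102288
theorem D193750 : act 6 n102288 = n193750 := rfl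
theorem F390900 : act 2 n193750 = n193070 := d3_1 D193750 F388658 (iv2 F352865)
theorem F390901 : act 5 n193750 = n192012 := d12_1 D193750 (iv6 F385199) (iv5 D136518) D136519 F352863
theorem F390902 : act 7 n193068 = n193750 := d13_0 F390901 F385198 D193068
def n193751 : Q := act 4 n102289
theorem D193751 : act 4 n102289 = n193751 := rfl
theorem F390903 : act 5 n193751 = n184068 := d16_1 D193751 (iv4 D184068) (iv5 D87800) (iv4 F75048) D103054 F352866 F352863 (iv7 F382959) F382961
theorem F390904 : act 0 n193751 = n192261 := d17_0 F386236 (iv1 D188228) D188229 F372750 (iv5 D102281) (iv0 D47467) D47469 D102289 D193751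
theorem F390905 : act 0 n192002 = n193751 := d17_2 F357562 D192002 F390903 (iv4 D184068) (iv5 D87800) (iv0 F177361) D183921 (iv0 F372741) F372738
def n193752 : Q := act 6 n102289
theorem D193752 : act 6 n102289 = n193752 := rfl
theorem F390906 : act 5 n193752 = n188361 := d12_1 D193752 (iv6 F390426) (iv5 D193603) F359416 F359415
theorem F390907 : act 7 n188360 = n193752 := d13_0 F390906 (iv7 D188361) D188360
def n193753 : Q := act 0 n102290
theorem D193753 : act 0 n102290 = n193753 := rfl
def n193754 : Q := act 1 n102290
theorem D193754 : act 1 n102290 = n193754 := rfl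
def n193755 : Q := act 3 n102290
theorem D193755 : act 3 n102290 = n193755 := rfl
theorem F390908 : act 4 n193755 = n185286 := d5_2 D102290 D193755 F287558 F135190 (iv3 F74646)
theorem F390909 : act 6 n193755 = n102291 := d7_2 (iv6 F157103) D193755 (iv3 D102291)
def n193756 : Q := act 5 n102290
theorem D193756 : act 5 n102290 = n193756 := rfl
theorem F390910 : act 4 n193756 = n184065 := d16_2 D102290 D193756 (iv5 D184065) D184064 (iv5 F368763) F368762 (iv5 F274880) F274881 F151049
def n193757 : Q := act 0 n102291
theorem D193757 : act 0 n102291 = n193757 := rfl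
theorem F390911 : act 5 n193757 = n138621 := d17_3 F337195 F346092 D193757 (iv4 F356841) F332523 F332491 F332481 F337191 D151969
theorem F390912 : act 1 n102365 = n193757 := d15_0 (iv0 D193757) F157105 D102365
theorem F390913 : act 2 n102364 = n193757 := d2_3 F390911 F356837 (iv5 F366939)
theorem F390914 : act 3 n138632 = n193757 := d6_3 F390911 F221790 D138632
theorem F390915 : act 6 n138624 = n193757 := d12_0 F390911 (iv6 D138621) (iv5 D65087) D65088 D138624
theorem F390916 : act 7 n102363 = n193757 := d13_0 F390911 (iv7 F356844) (iv5 F356857)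
def n193758 : Q := act 1 n102291
theorem D193758 : act 1 n102291 = n193758 := rfl
theorem F390917 : act 7 n193758 = n102364 := d15_2 (iv0 D193757) D193758 F390913
theorem F390918 : act 5 n154908 = n193758 := d21_6 D143255 F226075 (iv5 D140044) (iv6 F337100) (iv1 F337101) D154908 (iv1 D193758) (iv5 F346092) (iv6 D141462) (iv1 F103073)
theorem F390919 : act 2 n193758 = n102363 := d2_1 F390918 F356857 (iv2 F356845)
theorem F390920 : act 3 n193758 = n186591 := d6_1 F390918 (iv5 D186591) F363032
theorem F390921 : act 6 n193758 = n186587 := d12_2 D154908 F390918 (iv5 D186587) (iv6 D88877) F337107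
theorem F390922 : act 0 n102365 = n193758 := d19_0 (iv5 F390918) F243594 (iv3 F243585) F346223 F321823 (iv4 F307467) F213954 F305446 F305121 F95371 (iv3 F97533) F164113 (iv5 D63534) D63533 D135211 (iv1 F358578) (iv5 F353721) (iv4 F382945) F382944
theorem F390923 : act 0 n154482 = n102362 := d20_1 (iv4 F368365) F367350 (iv3 F390920) (iv1 D193758) (iv3 D102291) (iv4 D47470) F64383 D89388 (iv3 F368557) (iv1 F368561)
def n193759 : Q := act 2 n102291
theorem D193759 : act 2 n102291 = n193759 := rfl
theorem F390924 : act 4 n193759 = n185268 := d1_2 (iv4 F157104) D193759 (iv2 F287549)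
theorem F390925 : act 5 n193759 = n139991 := d2_2 F346092 D193759 (iv2 F224503)
theorem F390926 : act 7 n193759 = n102365 := d4_2 (iv7 F157105) D193759 (iv2 D102365)
theorem F390927 : act 1 n193759 = n102363 := d15_0 (iv0 D102363) (iv7 F157105) D193759
theorem F390928 : act 1 n102364 = n193759 := d15_0 F390927 F390916 (iv2 F390913)
def n193760 : Q := act 3 n102301
theorem D193760 : act 3 n102301 = n193760 := rfl
theorem F390929 : act 2 n193760 = n185117 := d0_1 D193760 (iv3 D185117) (iv2 F290114) F372765 (iv2 F372764)
theorem F390930 : act 5 n193760 = n186906 := d6_2 F287610 D193760 (iv3 D186906)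
theorem F390931 : act 4 n185483 = n193760 := d19_2 (iv1 F179573) (iv5 F359526) (iv3 D193760) (iv1 D102301) (iv5 D47474) (iv4 F70771) (iv3 D45002) (iv1 F33790) (iv5 F70056) F323554 (iv3 F130049) F334030 F334017 F105123 (iv3 F85404) D117406 F316828 (iv4 F222816) F222815
theorem F390932 : act 1 n193760 = n183765 := d18_6 (iv1 F179620) (iv4 F182859) F223589 F223588 (iv5 F359526) F390931 F359517 (iv0 F245332) (iv5 D139661)
def n193761 : Q := act 4 n102301
theorem D193761 : act 4 n102301 = n193761 := rfl
theorem F390933 : act 5 n193761 = n189031 := d17_5 D100741 (iv5 F368446) (iv1 F368447) F287610 D193761 F375496 (iv5 F387904) (iv0 D192821) (iv4 D100743)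
theorem F390934 : act 6 n187465 = n193761 := d21_5 F291466 (iv1 D42151) D42153 D90176 D187465 F390933 (iv1 D189031) F367263 (iv6 D99939) (iv1 F137249)
def n193762 : Q := act 6 n102301
theorem D193762 : act 6 n102301 = n193762 := rfl
theorem F390935 : act 4 n193762 = n187465 := d10_1 D193762 F390934 (iv4 D193761)
theorem F390936 : act 0 n102330 = n193762 := d21_4 F347705 (iv1 F145324) F290936 D102330 (iv6 D193762) (iv5 F287610) (iv1 D89370) D89371 F347704 D102339
def n193763 : Q := act 5 n102302
theorem D193763 : act 5 n102302 = n193763 := rfl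
theorem F390937 : act 7 n193763 = n192928 := d13_2 F372772 D193763 F388252
theorem F390938 : act 6 n192906 = n193763 := d21_5 F156795 F156483 F136880 D100958 D192906 (iv5 D193763) F287609 (iv5 F385056) (iv6 D191977) F156797
theorem F390939 : act 0 n193763 = n192951 := d21_10 F388315 (iv1 F361678) (iv5 F293436) (iv6 D93080) (iv1 F293193) D47935 F295239 D182488 (iv5 F388174) F390938
def n193764 : Q := act 1 n102303
theorem D193764 : act 1 n102303 = n193764 := rfl
def n193765 : Q := act 5 n102303
theorem D193765 : act 5 n102303 = n193765 := rfl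
theorem F390940 : act 3 n193765 = n102317 := d6_1 D193765 (iv5 D102317) (iv3 F157119)
theorem F390941 : act 6 n193765 = n102306 := d12_2 D102303 D193765 (iv5 D102306) (iv6 D47475) D47474
theorem F390942 : act 4 n187040 = n193765 := d10_3 F390941 (iv4 F365541) (iv6 F368891)
def n193766 : Q := act 7 n102303
theorem D193766 : act 7 n102303 = n193766 := rfl
theorem F390943 : act 3 n193766 = n102318 := d8_1 D193766 (iv7 D102318) (iv3 F157119)
theorem F390944 : act 4 n193766 = n190566 := d11_1 D193766 (iv7 F390247) F390246
def n193767 : Q := act 1 n102306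
theorem D193767 : act 1 n102306 = n193767 := rfl
theorem F390945 : act 1 n193767 = n186749 := d15_1 D193767 (iv7 F387894) F387892
theorem F390946 : act 7 n193767 = n172215 := d15_2 (iv0 F289696) D193767 F270418
theorem F390947 : act 5 n193767 = n172216 := d17_7 (iv1 F137980) D187293 F369739 F149618 F148343 D102306 D193767 F270423 F335743
theorem F390948 : act 2 n186751 = n193767 := d2_3 F390947 F270419 (iv5 F367881)
theorem F390949 : act 6 n186886 = n193767 := d12_0 F390947 F335734 (iv5 F335751) D193594 (iv5 F390394)
theorem F390950 : act 4 n193767 = n191450 := d10_1 F390949 (iv6 D191450) (iv4 F368416)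
def n193768 : Q := act 7 n102309
theorem D193768 : act 7 n102309 = n193768 := rfl
theorem F390951 : act 2 n193768 = n190569 := d4_1 D193768 (iv7 D190569) (iv2 F157127)
theorem F390952 : act 5 n193768 = n186744 := d13_1 D193768 (iv7 D186744) (iv5 F157128)
theorem F390953 : act 1 n190567 = n193768 := d15_1 D190567 (iv7 D193768) F157127
theorem F390954 : act 1 n193768 = n190566 := d15_1 F390953 (iv7 F390247) (iv2 F390896)
def n193769 : Q := act 3 n102310
theorem D193769 : act 3 n102310 = n193769 := rfl
theorem F390955 : act 4 n193769 = n185064 := d5_2 D102310 D193769 (iv3 D185064) (iv4 D88210) F74659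
theorem F390956 : act 5 n193769 = n143396 := d6_2 (iv5 F347712) D193769 F361674
theorem F390957 : act 7 n193769 = n190570 := d8_2 (iv7 F157129) D193769 (iv3 D190570)
theorem F390958 : act 0 n193769 = n160088 := d19_4 F290961 F74660 D102310 D193769 (iv5 D160088) F114995 (iv3 F114931) F314017 D139763 F320360 F103090 F321299 D54690 D118797 (iv3 F320513) (iv1 F201736) (iv5 F335570) (iv4 F291494) F143569
def n193770 : Q := act 3 n102311
theorem D193770 : act 3 n102311 = n193770 := rfl
theorem F390959 : act 5 n193770 = n187441 := d6_2 (iv5 F347714) D193770 (iv3 D187441)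
def n193771 : Q := act 6 n102311
theorem D193771 : act 6 n102311 = n193771 := rfl
theorem F390960 : act 2 n193771 = n136944 := d3_1 D193771 (iv6 F368480) F157914
theorem F390961 : act 4 n193771 = n187462 := d10_1 D193771 (iv6 D187462) F291161
theorem F390962 : act 5 n193771 = n137380 := d12_1 D193771 (iv6 D137380) D137379 F347716 (iv5 F347714)
theorem F390963 : act 0 n193771 = n136923 := d21_10 (iv5 D136923) (iv1 F347041) (iv5 F387915) (iv6 D192825) (iv1 F368440) F368439 F368430 F368429 (iv5 F347714) D193771
theorem F390964 : act 1 n193771 = n136946 := d15_1 (iv0 F390963) (iv7 D136946) (iv2 F220104)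
theorem F390965 : act 7 n136943 = n193771 := d15_2 F390871 F390872 F390960
def n193772 : Q := act 3 n102315
theorem D193772 : act 3 n102315 = n193772 := rfl
theorem F390966 : act 2 n193772 = n185081 := d0_1 D193772 (iv3 D185081) (iv2 F337981) D185068 F390253
theorem F390967 : act 1 n193772 = n183759 := d15_0 (iv0 F358627) (iv7 F337983) (iv2 F390966)
def n193773 : Q := act 4 n102315
theorem D193773 : act 4 n102315 = n193773 := rfl
theorem F390968 : act 5 n193773 = n147824 := d16_1 D193773 (iv4 F358451) F302454 (iv4 F357915) (iv5 F368800) (iv4 F390679) F390680 F390251 F390253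
theorem F390969 : act 1 n193773 = n102673 := d18_8 (iv1 F324403) (iv4 F109706) F309614 F130286 D149192 (iv4 F382917) F382923 D193773 F291517
theorem F390970 : act 3 n193773 = n147825 := d20_9 D154558 F242632 (iv4 D153861) (iv3 F308376) (iv1 D101909) (iv3 F156842) F314162 D102315 D193773 (iv1 F231588)
theorem F390971 : act 4 n193772 = n154518 := d5_2 (iv4 D193773) D193772 (iv3 D154518) (iv4 F231587) (iv3 F390970)
theorem F390972 : act 0 n193773 = n154562 := d20_10 (iv4 F382988) (iv1 F382991) F390227 (iv3 D124047) (iv1 D57790) F44478 D33697 D73191 (iv4 F231587) (iv3 F390970)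
def n193774 : Q := act 5 n102315
theorem D193774 : act 5 n102315 = n193774 := rfl
theorem F390973 : act 0 n193774 = n192892 := d21_1 D193774 F388119 (iv6 D101936) (iv1 D47356) F35304 (iv5 D10775) D10773 D22804 D47479 D102315
def n193775 : Q := act 4 n102316
theorem D193775 : act 4 n102316 = n193775 := rfl
theorem F390974 : act 3 n193775 = n177912 := d5_1 D193775 F332660 (iv3 D88315) F337978 (iv3 F390250)
theorem F390975 : act 1 n193775 = n154562 := d18_8 (iv1 F241857) F241855 (iv1 F307640) (iv4 F311721) D101899 F314162 D102316 D193775 (iv5 D154562)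
theorem F390976 : act 1 n102673 = n193775 := d15_0 F390975 F370381 F370376
def n193776 : Q := act 0 n102317
theorem D193776 : act 0 n102317 = n193776 := rfl
theorem F390977 : act 5 n193776 = n154573 := d17_3 (iv1 D102316) D102317 D193776 (iv4 D154573) (iv5 D73268) F324403 (iv5 F291517) F390976 (iv4 D193775)
theorem F390978 : act 2 n182948 = n193776 := d2_3 F390977 (iv2 F387063) F287519
theorem F390979 : act 7 n187033 = n193776 := d13_0 F390977 (iv7 F390312) F390316
theorem F390980 : act 1 n187034 = n193776 := d17_6 F387888 F387886 F154834 D149192 (iv4 F382917) F382918 F390977 (iv0 F368371) F368370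
theorem E103557 : n187032 = n182948 := ((c15_4 (iv0 D187032) D187033 F390979 (iv2 F390978))).symm
theorem F390981 : act 1 n182948 = n89480 := (sb E103557 (iv0 D187032))
def n193777 : Q := act 1 n102317
theorem D193777 : act 1 n102317 = n193777 := rfl
theorem F390982 : act 1 n193777 = n187034 := d15_1 D193777 (iv7 D187034) (iv2 F157137)
theorem F390983 : act 7 n193777 = n182948 := d15_2 (iv0 D193776) D193777 F390978
theorem F390984 : act 3 n182225 = n193777 := d20_3 F133509 (iv1 F133542) D182225 (iv1 D193777) (iv3 F390940) (iv4 F390942) (iv1 D187040) F137146 (iv3 D86999) D86997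
theorem F390985 : act 5 n183932 = n193777 := d21_6 F74652 (iv1 F290962) (iv5 F291497) D97985 (iv1 F368569) F366808 (iv1 D193777) (iv5 D102317) (iv6 D47479) D47476
theorem F390986 : act 2 n193777 = n187033 := d2_1 F390985 (iv5 F390316) (iv2 F390313)
theorem F390987 : act 4 n193777 = n193452 := d16_2 F387059 F390985 (iv5 D193452) F357886 (iv5 D154537) F109706 D73268 (iv7 F241861) (iv2 F387058)
theorem F390988 : act 6 n193456 = n193777 := d21_5 (iv5 D101575) (iv1 F156675) F156677 (iv6 F386946) (iv1 F389900) (iv5 F390985) F387062 (iv5 F368400) (iv6 D186877) F156485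
def n193778 : Q := act 7 n102317
theorem D193778 : act 7 n102317 = n193778 := rfl
theorem F390989 : act 2 n193778 = n187034 := d4_1 D193778 (iv7 D187034) (iv2 F157137)
theorem F390990 : act 5 n193778 = n102318 := d13_1 D193778 (iv7 D102318) D102317
theorem F390991 : act 6 n193778 = n187026 := d14_1 D193778 (iv7 D187026) (iv6 D89477) (iv7 F74662) (iv6 F157138)
theorem F390992 : act 1 n187033 = n193778 := d15_1 D187033 (iv7 D193778) F157137
theorem F390993 : act 1 n193778 = n182948 := d15_1 F390992 (iv7 F390983) F390986
def n193779 : Q := act 3 n102322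
theorem D193779 : act 3 n102322 = n193779 := rfl
theorem F390994 : act 2 n193779 = n185032 := d0_1 D193779 (iv3 D185032) (iv2 F344320) F382906 (iv2 F382905)
def n193780 : Q := act 6 n102323
theorem D193780 : act 6 n102323 = n193780 := rfl
theorem F390995 : act 2 n193780 = n136974 := d3_1 D193780 F382900 (iv2 F382898)
theorem F390996 : act 3 n193780 = n185030 := d7_1 D193780 (iv6 D185030) (iv3 F357605)
theorem F390997 : act 5 n193780 = n186799 := d12_1 D193780 (iv6 D186799) (iv5 D89171) D89172 F338454
theorem F390998 : act 0 n193780 = n135978 := d21_4 F356797 F356792 F338454 D193780 F218749 (iv5 D63935) D63933 D135981 (iv6 F382885) F382887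
theorem F390999 : act 0 n152683 = n186799 := d17_0 (iv5 F390997) F390998 (iv5 D135978) F327364 (iv5 F308619) (iv0 F239427) (iv5 F305442) F305441 D152683
theorem F391000 : act 1 n193780 = n136976 := d15_1 (iv0 F390998) (iv7 D136976) (iv2 F218748)
def n193781 : Q := act 3 n102324
theorem D193781 : act 3 n102324 = n193781 := rfl
theorem F391001 : act 4 n193781 = n102328 := d5_2 D102324 D193781 (iv3 D102328) (iv4 D47487) (iv3 F74669)
def n193782 : Q := act 6 n102324
theorem D193782 : act 6 n102324 = n193782 := rfl
theorem F391002 : act 4 n193782 = n102325 := d10_1 D193782 (iv6 D102325) D102324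
theorem F391003 : act 5 n193782 = n152874 := d12_1 D193782 (iv6 F361012) (iv5 F359545) F245231 (iv5 F357604)
def n193783 : Q := act 0 n102325
theorem D193783 : act 0 n102325 = n193783 := rfl
def n193784 : Q := act 1 n102325
theorem D193784 : act 1 n102325 = n193784 := rfl
def n193785 : Q := act 7 n102325
theorem D193785 : act 7 n102325 = n193785 := rfl
theorem F391004 : act 3 n193785 = n102333 := d8_1 D193785 (iv7 D102333) (iv3 F157143)
def n193786 : Q := act 6 n102328
theorem D193786 : act 6 n102328 = n193786 := rfl
theorem F391005 : act 3 n193786 = n102330 := d7_1 D193786 (iv6 D102330) D102328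
theorem F391006 : act 7 n193786 = n149195 := d14_2 F346078 D193786 (iv6 D149195) (iv7 F234395) F346071
def n193787 : Q := act 1 n102330
theorem D193787 : act 1 n102330 = n193787 := rfl
theorem F391007 : act 4 n193787 = n187466 := d18_7 (iv1 F142601) (iv4 F351148) (iv1 D93771) (iv4 F139085) F293739 (iv4 F157146) D193787 F370444 F367245
def n193788 : Q := act 5 n102330
theorem D193788 : act 5 n102330 = n193788 := rfl
def n193789 : Q := act 7 n102330
theorem D193789 : act 7 n102330 = n193789 := rfl
theorem F391008 : act 3 n193789 = n149195 := d8_1 D193789 (iv7 F391006) F391005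
theorem F391009 : act 4 n193789 = n102333 := d11_1 D193789 (iv7 D102333) (iv4 F157146)
theorem F391010 : act 6 n193789 = n149192 := d14_1 D193789 F377191 (iv6 D189629) F292339 D102330
def n193790 : Q := act 4 n102331
theorem D193790 : act 4 n102331 = n193790 := rfl
def n193791 : Q := act 3 n102332
theorem D193791 : act 3 n102332 = n193791 := rfl
theorem F391011 : act 2 n193791 = n154510 := d0_1 D193791 F242550 (iv2 F241754) (iv3 F372787) F372786
theorem F391012 : act 5 n193791 = n152003 := d6_2 F368021 D193791 (iv3 F368020)
theorem F391013 : act 6 n193791 = n152006 := d7_2 F338092 D193791 (iv3 F338133)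
theorem F391014 : act 0 n193791 = n183770 := d21_4 F364030 (iv1 D152005) D152006 (iv6 F391013) (iv6 D183770) (iv5 D87680) (iv1 D40846) D40847 (iv6 F308270) D154471
def n193792 : Q := act 4 n102332
theorem D193792 : act 4 n102332 = n193792 := rfl
theorem F391015 : act 0 n193792 = n102704 := d18_2 (iv1 F372801) D193792 F157965 (iv5 F292206) (iv4 F139098) D187598 (iv4 F370971) F370918 (iv5 F372799)
def n193793 : Q := act 0 n102338
theorem D193793 : act 0 n102338 = n193793 := rfl
theorem F391016 : act 4 n193793 = n187092 := d18_3 (iv1 F368562) F368558 D193793 (iv5 F381328) (iv4 D190850) D190848 F381318 (iv0 D154358) (iv5 F368546)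
theorem F391017 : act 1 n102353 = n193793 := d15_0 (iv0 D193793) F368555 F368552
def n193794 : Q := act 1 n102338
theorem D193794 : act 1 n102338 = n193794 := rfl
theorem F391018 : act 1 n193794 = n102353 := d15_1 D193794 (iv7 F387900) F387898
theorem F391019 : act 4 n193794 = n187091 := d18_7 D89532 (iv4 F362581) (iv1 F368527) F368525 (iv5 F368559) F368558 D193794 (iv0 D187091) (iv5 D89534)
theorem F391020 : act 5 n139366 = n193794 := d21_6 (iv5 D47014) (iv1 F74212) (iv5 F154885) (iv6 F357522) (iv1 F180492) D139366 (iv1 D193794) (iv5 F386820) (iv6 D192495) F289517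
theorem F391021 : act 2 n193794 = n139373 := d2_1 F391020 (iv5 D139373) (iv2 F222585)
theorem F391022 : act 7 n193793 = n139373 := d15_2 F391018 F391017 (iv2 F391021)
theorem F391023 : act 3 n139387 = n193793 := d8_3 F391022 F222587 D139387
theorem F391024 : act 5 n139374 = n193793 := d13_3 F391022 (iv5 D139373) D139374
theorem F391025 : act 5 n187091 = n190917 := d18_4 (iv1 D102355) (iv4 F157156) (iv1 F391018) F391019 (iv4 D190917) (iv0 D97047) (iv4 F308365) D186868 F368363
def n193795 : Q := act 6 n102339
theorem D193795 : act 6 n102339 = n193795 := rfl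
theorem F391026 : act 2 n193795 = n192261 := d3_1 D193795 (iv6 D192261) F157149
theorem F391027 : act 4 n193795 = n187096 := d10_1 D193795 (iv6 D187096) (iv4 F157148)
theorem F391028 : act 7 n193795 = n192002 := d14_2 (iv7 F157151) D193795 F390296 F390295 F367502
theorem F391029 : act 5 n188138 = n193795 := d13_3 F391028 (iv5 D192002) (iv7 F372447)
def n193796 : Q := act 3 n102343
theorem D193796 : act 3 n102343 = n193796 := rfl
theorem F391030 : act 2 n193796 = n185192 := d0_1 D193796 (iv3 D185192) (iv2 F337924) D154660 F368565
theorem F391031 : act 4 n193796 = n185182 := d5_2 (iv4 F361676) D193796 (iv3 D185182) (iv4 F135180) (iv3 F147055)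
def n193797 : Q := act 5 n102343
theorem D193797 : act 5 n102343 = n193797 := rfl
theorem F391032 : act 7 n193797 = n192951 := d13_2 F361677 D193797 F388315
theorem F391033 : act 1 n193797 = n192928 := d17_6 F378210 (iv5 D189911) (iv1 D95436) D95437 (iv4 F361676) D193797 F388252 (iv0 F372773) F364814
def n193798 : Q := act 5 n102344
theorem D193798 : act 5 n102344 = n193798 := rfl
theorem F391034 : act 2 n193798 = n192951 := d2_1 D193798 F388315 (iv2 F368566)
theorem F391035 : act 3 n193798 = n185199 := d6_1 D193798 (iv5 D185199) (iv3 F368563)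
theorem F391036 : act 4 n193798 = n140363 := d16_2 F368568 D193798 (iv5 F378263) (iv4 D95466) (iv5 D44598) (iv4 F70107) D95437 F147056 (iv2 F287574)
theorem F391037 : act 0 n193798 = n192928 := d17_2 (iv1 F382939) D193798 F388252 (iv4 D188234) (iv5 D91105) D91104 (iv5 F368476) F368474 (iv4 F382936)
theorem F391038 : act 6 n193798 = n140361 := d21_3 (iv5 F382937) (iv1 F382939) D193798 (iv1 F357566) (iv6 D100964) F74293 (iv1 F73444) D99445 D191977 (iv1 F385058)
def n193799 : Q := act 6 n102344
theorem D193799 : act 6 n102344 = n193799 := rfl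
theorem F391039 : act 3 n193799 = n185200 := d7_1 D193799 (iv6 D185200) (iv3 F368563)
theorem F391040 : act 0 n193070 = n193799 := d21_4 F390879 (iv1 D136525) D136526 (iv6 F388658) (iv6 D193799) D193798 F391037 F388252 F372771 D193744
def n193800 : Q := act 1 n102350
theorem D193800 : act 1 n102350 = n193800 := rfl
theorem F391041 : act 1 n193800 = n102351 := d15_1 D193800 (iv7 F382934) F382931
theorem F391042 : act 6 n136966 = n193800 := d21_3 (iv5 D64376) D64374 D136966 (iv1 D193800) (iv6 D102350) F136231 D186548 (iv5 F382895) (iv6 F382900) (iv1 D136974)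
def n193801 : Q := act 7 n102350
theorem D193801 : act 7 n102350 = n193801 := rfl
theorem F391043 : act 2 n193801 = n102351 := d4_1 D193801 (iv7 F382934) F382931
theorem F391044 : act 3 n193801 = n102356 := d8_1 D193801 (iv7 D102356) (iv3 F157154)
theorem F391045 : act 5 n193801 = n117515 := d13_1 D193801 F233832 (iv5 F346065)
def n193802 : Q := act 6 n102351
theorem D193802 : act 6 n102351 = n193802 := rfl
theorem F391046 : act 3 n193802 = n102353 := d7_1 D193802 (iv6 D102353) D102351
def n193803 : Q := act 4 n102354
theorem D193803 : act 4 n102354 = n193803 := rfl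
theorem F391047 : act 0 n102362 = n193803 := d20_7 (iv4 F353715) (iv1 F353719) (iv4 F382945) F382944 F390922 F390920 (iv4 F367350) (iv4 D193803) F368545 D154371
def n193804 : Q := act 0 n102357
theorem D193804 : act 0 n102357 = n193804 := rfl
theorem F391048 : act 3 n193804 = n187091 := d20_5 (iv4 D99285) (iv1 F137260) (iv4 F137261) D102357 D193804 (iv4 F391019) (iv1 D193794) (iv4 F368558) F368557 (iv1 F152856)
theorem F391049 : act 5 n188592 = n193804 := d6_0 F391048 F391025 (iv3 F381546)
def n193805 : Q := act 1 n102357
theorem D193805 : act 1 n102357 = n193805 := rfl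
def n193806 : Q := act 2 n102357
theorem D193806 : act 2 n102357 = n193806 := rfl
theorem F391050 : act 5 n193806 = n191409 := d2_2 F372386 D193806 F383391
theorem F391051 : act 6 n193806 = n191410 := d3_2 F372389 D193806 F383394
def n193807 : Q := act 4 n102357
theorem D193807 : act 4 n102357 = n193807 := rfl
theorem F391052 : act 6 n193807 = n192250 := d10_2 F372389 D193807 (iv4 D192250)
def n193808 : Q := act 0 n102360
theorem D193808 : act 0 n102360 = n193808 := rfl
theorem F391053 : act 4 n193808 = n149044 := d18_3 F310354 (iv4 F382951) D193808 (iv5 D149044) (iv4 F184932) (iv0 F348238) (iv4 D175486) F310343 D153836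
theorem F391054 : act 2 n177735 = n193808 := d1_3 F391053 F234369 D177735
def n193809 : Q := act 1 n102360
theorem D193809 : act 1 n102360 = n193809 := rfl
theorem F391055 : act 7 n193809 = n177735 := d15_2 (iv0 D193808) D193809 F391054
theorem F391056 : act 4 n124178 = n193809 := d11_3 F391055 (iv4 D177735) (iv7 F302894)
def n193810 : Q := act 2 n102360
theorem D193810 : act 2 n102360 = n193810 := rfl
theorem F391057 : act 4 n193810 = n154472 := d1_2 (iv4 F382951) D193810 (iv2 F382954)
theorem F391058 : act 1 n177735 = n193810 := d18_6 F310345 (iv4 F300043) (iv1 D124505) F91906 D84630 D177735 F391057 F310351 F274748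
theorem F391059 : act 5 n177735 = n121313 := d17_1 (iv1 F391058) (iv1 D121313) D121314 (iv4 F338147) (iv5 D154241) (iv0 F311505) D73171 D154472 (iv4 F391057)
theorem F391060 : act 3 n123872 = n177735 := d6_3 F391059 F355073 D123872
theorem F391061 : act 4 n177770 = n123872 := d5_0 F391060 (iv4 D177735) F129803 D84644 D177770
def n193811 : Q := act 5 n102360
theorem D193811 : act 5 n102360 = n193811 := rfl
theorem F391062 : act 3 n193811 = n102361 := d6_1 D193811 (iv5 D102361) D102360
theorem F391063 : act 4 n159642 = n193811 := d5_0 F391062 F157158 (iv3 F157992) F290550 (iv3 F251492)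
theorem F391064 : act 6 n193811 = n159640 := d10_2 D159642 F391063 (iv4 D159640)
def n193812 : Q := act 6 n102360
theorem D193812 : act 6 n102360 = n193812 := rfl
theorem F391065 : act 3 n193812 = n102362 := d7_1 D193812 (iv6 D102362) D102360
def n193813 : Q := act 6 n102361
theorem D193813 : act 6 n102361 = n193813 := rfl
theorem F391066 : act 3 n193813 = n159640 := d7_1 D193813 (iv6 F391064) F391062
theorem F391067 : act 4 n193813 = n102730 := d10_1 D193813 (iv6 D102730) (iv4 F157158)
theorem F391068 : act 7 n159595 = n193813 := d11_0 F391067 F290596 D159595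
def n193814 : Q := act 5 n102362
theorem D193814 : act 5 n102362 = n193814 := rfl
def n193815 : Q := act 7 n102362
theorem D193815 : act 7 n102362 = n193815 := rfl
theorem F391069 : act 6 n193815 = n189912 := d14_1 D193815 F378899 (iv6 F378895) F151039 D102362
def n193816 : Q := act 3 n102363
theorem D193816 : act 3 n102363 = n193816 := rfl
theorem F391070 : act 2 n193816 = n177893 := d0_1 D193816 F364404 (iv2 F367348) (iv3 F390920) F390919
theorem F391071 : act 5 n193816 = n138633 := d6_2 (iv5 F356857) D193816 F356846
theorem F391072 : act 6 n193816 = n171183 := d7_2 (iv6 F362127) D193816 F362125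
theorem F391073 : act 7 n193816 = n138632 := d8_2 (iv7 F390916) D193816 F390914
theorem F391074 : act 0 n134443 = n193816 := d21_4 (iv5 D134448) (iv1 D63148) D63149 (iv6 F216408) F391072 (iv5 D171183) (iv1 F277394) D98443 (iv6 F383567) F383569
def n193817 : Q := act 4 n102363
theorem D193817 : act 4 n102363 = n193817 := rfl
theorem F391075 : act 6 n193817 = n192556 := d10_2 (iv6 F362127) D193817 (iv4 D192556)
theorem F391076 : act 5 n193817 = n192889 := d16_1 D193817 (iv4 D192889) (iv5 D100895) (iv4 F155038) F332502 D117806 (iv5 F366939) (iv7 F390917) F390919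
def n193818 : Q := act 3 n102364
theorem D193818 : act 3 n102364 = n193818 := rfl
theorem F391077 : act 5 n193818 = n186592 := d6_2 (iv5 F366939) D193818 F367352
theorem F391078 : act 6 n193818 = n192256 := d7_2 F366938 D193818 F386224
theorem F391079 : act 7 n193818 = n186591 := d8_2 F390917 D193818 (iv3 F390920)
theorem F391080 : act 2 n187094 = n193818 := d4_3 F391079 F367348 D187094
theorem F391081 : act 4 n193815 = n193818 := d11_3 F391079 (iv4 F367350) D193815
theorem F391082 : act 1 n187092 = n193818 := d15_1 D187092 F391079 F367348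
theorem F391083 : act 1 n193818 = n187091 := d15_0 (iv0 D187091) D187094 F391080
def n193819 : Q := act 4 n102364
theorem D193819 : act 4 n102364 = n193819 := rfl
def n193820 : Q := act 5 n102365
theorem D193820 : act 5 n102365 = n193820 := rfl
theorem F391084 : act 2 n193820 = n102366 := d2_1 D193820 (iv5 D102366) D102365
theorem F391085 : act 3 n193820 = n153370 := d6_1 D193820 (iv5 F382946) F382944
theorem F391086 : act 6 n193820 = n134304 := d12_2 F390324 D193820 (iv5 D134304) D134305 (iv5 F390339)
theorem F391087 : act 7 n193820 = n139991 := d13_2 F390926 D193820 (iv5 F390925)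
theorem F391088 : act 4 n193820 = n118002 := d17_4 F356849 (iv5 F390911) (iv1 F390912) D193820 F334133 (iv0 D81548) D81550 (iv0 F332439) (iv4 F226158)
theorem F391089 : act 1 n193820 = n160089 := d17_8 (iv1 F337193) (iv5 F317910) (iv1 F237161) F305883 (iv4 F243594) F390918 (iv0 F390922) D193820 F252658
theorem F391090 : act 1 n151969 = n193820 := d15_0 F391089 (iv7 D160089) (iv2 F238972)
def n193821 : Q := act 1 n102366
theorem D193821 : act 1 n102366 = n193821 := rfl
theorem F391091 : act 1 n193821 = n139991 := d15_1 D193821 (iv7 F391087) F391084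
theorem F391092 : act 7 n193821 = n151969 := d15_2 (iv0 F346087) D193821 F238972
theorem F391093 : act 4 n193821 = n151970 := d17_9 (iv1 F238978) (iv5 F332483) (iv1 D151799) F318168 D117811 (iv5 F356857) (iv0 D102363) D102366 D193821
theorem F391094 : act 6 n160078 = n193821 := d21_9 (iv5 D102366) D102363 F356857 (iv6 F356847) (iv1 F340086) (iv6 F360915) (iv5 F360918) D192607 F387227 (iv1 D193821)
theorem F391095 : act 2 n160089 = n193821 := d1_3 F391093 F238974 (iv4 F252658)
def n193822 : Q := act 6 n102366
theorem D193822 : act 6 n102366 = n193822 := rfl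
theorem F391096 : act 2 n193822 = n134304 := d3_1 D193822 (iv6 F391086) F391084
theorem F391097 : act 3 n193822 = n102369 := d7_1 D193822 (iv6 D102369) (iv3 F157160)
theorem F391098 : act 4 n193822 = n139954 := d10_1 D193822 (iv6 F224509) F346088
theorem F391099 : act 5 n193822 = n134046 := d12_1 D193822 (iv6 F390337) (iv5 D193579) F156919 D102366
theorem F391100 : act 7 n193822 = n134309 := d14_2 (iv7 F346090) D193822 F333160 (iv7 F181542) D141462
theorem F391101 : act 0 n193822 = n134072 := d21_10 F216078 F378176 F378174 (iv6 F359706) F315852 (iv6 F356811) (iv5 F366939) (iv1 D102364) D102366 D193822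
theorem F391102 : act 0 n134406 = n193822 := d21_4 F286030 F74089 F309580 (iv6 F333152) (iv6 D193822) (iv5 D102366) D102363 F356857 (iv6 F356847) (iv1 F340086)
def n193823 : Q := act 0 n102369
theorem D193823 : act 0 n102369 = n193823 := rfl
theorem F391103 : act 4 n193823 = n133454 := d20_8 F83890 D107706 F166349 (iv3 F214576) F348979 (iv3 F335811) (iv4 F367268) D193823 F214610 F97701
theorem F391104 : act 1 n176490 = n193823 := d18_6 F336943 (iv4 F168751) F168753 (iv4 F326536) F326537 (iv4 F275806) F391103 (iv0 F355686) F142438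
def n193824 : Q := act 1 n102369
theorem D193824 : act 1 n102369 = n193824 := rfl
theorem F391105 : act 1 n193824 = n176490 := d15_1 D193824 F370375 F370372
theorem F391106 : act 4 n193824 = n114947 := d18_7 (iv1 F217439) F217436 F368901 F368895 (iv5 F144684) (iv4 F367268) D193824 (iv0 F355276) (iv5 F355300)
theorem F391107 : act 6 n114933 = n193824 := d21_3 F369426 D190701 (iv5 F380669) (iv1 D193824) (iv6 D102369) (iv5 D47498) D47495 (iv5 F290684) (iv6 F372376) (iv1 F372379)
theorem F391108 : act 3 n193824 = n114935 := d7_1 F391107 (iv6 D114935) D114933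
def n193825 : Q := act 7 n102369
theorem D193825 : act 7 n102369 = n193825 := rfl
theorem F391109 : act 2 n193825 = n176490 := d4_1 D193825 F370375 F370372
theorem F391110 : act 3 n193825 = n134309 := d8_1 D193825 (iv7 F391100) F391097
theorem F391111 : act 4 n193825 = n176508 := d11_1 D193825 F365715 (iv4 F367268)
theorem F391112 : act 5 n193825 = n134307 := d13_1 D193825 F390336 F390333
theorem F391113 : act 6 n193825 = n139948 := d14_1 D193825 (iv7 F224500) (iv6 F346095) F290882 D102369
def n193826 : Q := act 5 n102370
theorem D193826 : act 5 n102370 = n193826 := rfl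
theorem F391114 : act 2 n193826 = n156182 := d2_1 D193826 (iv5 F372757) F372755
theorem F391115 : act 3 n193826 = n102371 := d6_1 D193826 (iv5 D102371) D102370
theorem F391116 : act 4 n193826 = n139655 := d9_1 D193826 (iv5 F222820) F111021 (iv5 F82211) F82210 F329882 (iv4 F153221) D191985 F385099 F222818 (iv4 F175901) F175902 (iv4 F101545) (iv5 F329422) (iv4 F157168)
theorem F391117 : act 7 n193826 = n184598 := d13_2 (iv7 F289652) D193826 (iv5 D184598)
theorem F391118 : act 0 n193826 = n183778 := d17_2 F158383 D193826 F289351 (iv4 F369578) F369579 F319034 F340584 (iv0 F158380) D103089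
def n193827 : Q := act 4 n102371
theorem D193827 : act 4 n102371 = n193827 := rfl
theorem F391119 : act 2 n193827 = n185104 := d1_1 D193827 (iv4 D185104) (iv2 F157171)
theorem F391120 : act 7 n193827 = n184612 := d11_2 (iv7 F289653) D193827 (iv4 D184612)
def n193828 : Q := act 6 n102371
theorem D193828 : act 6 n102371 = n193828 := rfl
theorem F391121 : act 2 n193828 = n185105 := d3_1 D193828 (iv6 D185105) (iv2 F157171)
theorem F391122 : act 7 n193828 = n124034 := d14_2 (iv7 F289653) D193828 (iv6 D124034) F301764 (iv6 F135035)
def n193829 : Q := act 4 n102375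
theorem D193829 : act 4 n102375 = n193829 := rfl
theorem F391123 : act 2 n193829 = n102379 := d1_1 D193829 (iv4 D102379) (iv2 F157177)
theorem F391124 : act 7 n193829 = n185110 := d11_2 (iv7 F157179) D193829 (iv4 D185110)
theorem F391125 : act 0 n193829 = n185127 := d18_2 (iv1 F157181) D193829 F287492 (iv5 F335638) (iv4 F335668) (iv0 F356402) (iv4 F336768) (iv0 F356400) (iv5 D185119)
theorem F391126 : act 1 n193829 = n185126 := d18_6 (iv1 D84633) F60091 (iv1 F289714) (iv4 F74676) D102375 D193829 (iv4 F364220) F290053 (iv5 D177745)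
def n193830 : Q := act 3 n102377
theorem D193830 : act 3 n102377 = n193830 := rfl
theorem F391127 : act 7 n193830 = n185117 := d8_2 (iv7 F290113) D193830 (iv3 D185117)
theorem F391128 : act 4 n193830 = n185484 := d20_6 F337978 (iv1 D88217) (iv4 F337961) (iv3 F74684) D102377 D193830 (iv1 D185484) (iv4 D88359) F63089 (iv1 F62414)
theorem F391129 : act 1 n183765 = n193830 := d17_8 (iv1 D185484) (iv5 F340573) F175906 (iv5 F222818) (iv4 F385099) (iv5 D191985) F289658 D183765 F391128
def n193831 : Q := act 4 n102377
theorem D193831 : act 4 n102377 = n193831 := rfl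
theorem F391130 : act 2 n193831 = n185123 := d1_1 D193831 (iv4 D185123) (iv2 F290111)
theorem F391131 : act 7 n193831 = n185118 := d11_2 (iv7 F290113) D193831 (iv4 D185118)
theorem F391132 : act 1 n193831 = n102664 := d18_6 (iv1 D89521) (iv4 F137168) D187050 F368924 (iv5 F290112) D193831 (iv4 D102664) D102663 (iv5 F335643)
def n193832 : Q := act 6 n102377
theorem D193832 : act 6 n102377 = n193832 := rfl
theorem F391133 : act 2 n193832 = n185125 := d3_1 D193832 (iv6 D185125) (iv2 F290111)
def n193833 : Q := act 4 n102378
theorem D193833 : act 4 n102378 = n193833 := rfl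
theorem F391134 : act 2 n193833 = n185118 := d1_1 D193833 (iv4 D185118) (iv2 F290114)
theorem F391135 : act 7 n193833 = n185123 := d11_2 (iv7 F290115) D193833 (iv4 D185123)
theorem F391136 : act 0 n193833 = n102664 := d18_2 (iv1 F157186) D193833 (iv4 D102664) (iv5 D47615) (iv4 F74400) F289582 (iv4 F73698) (iv0 F289619) D88228
def n193834 : Q := act 6 n102378
theorem D193834 : act 6 n102378 = n193834 := rfl
theorem F391137 : act 2 n193834 = n178081 := d3_1 D193834 F363013 (iv2 F290114)
theorem F391138 : act 0 n193834 = n124024 := d21_4 (iv5 F368953) (iv1 F368957) (iv5 F356392) D193834 F198414 (iv5 D57778) F299208 D86510 (iv6 F135035) (iv1 F356384)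
theorem F391139 : act 0 n178083 = n193834 := d21_4 (iv5 D123900) (iv1 F90902) (iv5 F198296) F366914 (iv6 D193834) F356392 (iv1 D185223) (iv5 D88263) D88264 (iv1 F362807)
def n193835 : Q := act 1 n102379
theorem D193835 : act 1 n102379 = n193835 := rfl
theorem F391140 : act 1 n193835 = n185110 := d15_1 D193835 (iv7 F391124) F391123
theorem F391141 : act 7 n193835 = n185127 := d15_2 F383576 D193835 (iv2 F383573)
theorem F391142 : act 4 n193835 = n177865 := d18_7 (iv1 D39116) (iv4 F34947) (iv1 F289717) (iv4 F35394) D47502 D102379 D193835 F277443 (iv5 D84686)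
theorem F391143 : act 2 n185126 = n193835 := d1_3 F391142 (iv2 F290019) F364220
def n193836 : Q := act 5 n102379
theorem D193836 : act 5 n102379 = n193836 := rfl
theorem F391144 : act 7 n193836 = n185129 := d13_2 (iv7 F157187) D193836 (iv5 D185129)
theorem F391145 : act 1 n193836 = n177897 := d17_6 (iv1 F336648) (iv5 D99867) (iv1 F289618) D47502 D102379 D193836 (iv5 D177897) D177895 F336770
theorem F391146 : act 3 n177898 = n177897 := d19_19 (iv1 F391145) (iv5 D193836) (iv4 D102379) F74684 (iv1 F69719) (iv5 D44296) F33278 F15851 F14788 (iv5 D8947) F15292 D9260 (iv1 F35666) (iv5 F290604) D10820 D22910 (iv1 F289823) (iv5 F129921) (iv4 F277468)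
theorem F391147 : act 5 n177896 = n177898 := d6_0 F391146 (iv5 D177897) D177896
theorem F391148 : act 7 n177897 = n177896 := d8_2 D177898 F391146 (iv3 D177896)
def n193837 : Q := act 4 n102383
theorem D193837 : act 4 n102383 = n193837 := rfl
theorem F391149 : act 7 n193837 = n185057 := d11_2 (iv7 F157189) D193837 (iv4 D185057)
theorem F391150 : act 3 n193768 = n193837 := d20_5 (iv4 D154494) (iv1 F312613) D175519 F385827 (iv1 F390954) (iv4 D193837) (iv1 F157645) D183758 (iv3 F332669) F384811
def n193838 : Q := act 6 n102383
theorem D193838 : act 6 n102383 = n193838 := rfl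
theorem F391151 : act 3 n193838 = n102385 := d7_1 D193838 (iv6 D102385) D102383
theorem F391152 : act 5 n193838 = n184572 := d12_1 D193838 (iv6 D184572) (iv5 F292864) F292865 F283700
theorem F391153 : act 7 n193075 = n193838 := d13_0 F391152 F351176 D193075
def n193839 : Q := act 3 n102384
theorem D193839 : act 3 n102384 = n193839 := rfl
theorem F391154 : act 4 n193839 = n193768 := d5_2 D102384 D193839 F391150 (iv4 D193837) (iv3 D102383)
theorem F391155 : act 7 n193839 = n185059 := d8_2 (iv7 F157191) D193839 (iv3 D185059)
def n193840 : Q := act 6 n102384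
theorem D193840 : act 6 n102384 = n193840 := rfl
theorem F391156 : act 2 n193840 = n185066 := d3_1 D193840 (iv6 D185066) (iv2 F157190)
theorem F391157 : act 4 n193840 = n102385 := d10_1 D193840 (iv6 D102385) D102384
def n193841 : Q := act 1 n102385
theorem D193841 : act 1 n102385 = n193841 := rfl
theorem F391158 : act 1 n193841 = n154530 := d15_1 D193841 F358593 (iv2 F157194)
theorem F391159 : act 7 n193841 = n153866 := d15_2 (iv0 F310887) D193841 F241757
theorem F391160 : act 6 n153832 = n193841 := d21_3 (iv5 D73127) (iv1 F109253) (iv5 F241679) (iv1 D193841) (iv6 D102385) (iv5 F133555) F133556 (iv5 D41192) D41193 F352352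
theorem F391161 : act 5 n188427 = n193841 := d21_6 (iv5 D42756) (iv1 D20200) D20201 D42760 D91373 D188427 (iv1 D193841) F157195 (iv6 D88018) (iv1 F66997)
theorem F391162 : act 0 n188427 = n187986 := d21_1 (iv5 F391161) (iv5 F373376) (iv6 D185315) F135206 D183877 (iv5 F353717) (iv1 F285260) F358590 (iv6 F358592) (iv1 F391158)
theorem F391163 : act 3 n113626 = n188427 := d20_3 (iv4 D71944) (iv1 F82825) D113626 F391162 F372036 (iv4 D100641) D100639 D192762 F387689 (iv1 F239713)
theorem F391164 : act 4 n113641 = n188427 := d20_6 F139620 (iv1 F293356) D46902 (iv3 F327160) (iv1 F82837) D113641 F391162 (iv4 D187986) F139617 D90715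
theorem F391165 : act 6 n188426 = n113641 := d10_0 F391164 (iv6 D188427) D188426
theorem F391166 : act 3 n113639 = n188426 := d7_3 F391165 (iv3 D113641) (iv6 F176815)
theorem F391167 : act 4 n188425 = n113624 := d5_4 D113639 F391166 (iv4 D188426) D188425 F176807
theorem F391168 : act 6 n113626 = n188425 := d10_0 F391167 F176808 D113626
theorem F391169 : act 0 n185313 = n159426 := d19_8 (iv1 D52458) D52459 D113626 F391163 F391162 (iv5 F373376) F287579 (iv3 F287576) (iv5 D159426) F114304 (iv3 D34837) (iv1 F42773) F42772 (iv4 D26685) (iv3 F42764) D55221 (iv5 F94967) (iv4 F166769) F166770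
theorem F391170 : act 2 n193841 = n154411 := d3_1 F391160 (iv6 D154411) (iv2 F241678)
theorem F391171 : act 4 n193841 = n193332 := d10_1 F391160 F389483 F358585
def n193842 : Q := act 7 n102385
theorem D193842 : act 7 n102385 = n193842 := rfl
theorem F391172 : act 2 n193842 = n154530 := d4_1 D193842 F358593 (iv2 F157194)
theorem F391173 : act 3 n193842 = n193075 := d8_1 D193842 F391153 F391151
theorem F391174 : act 5 n193842 = n152570 := d13_1 D193842 F351175 (iv5 F157195)
theorem F391175 : act 6 n193842 = n185063 := d14_1 D193842 (iv7 D185063) (iv6 D88209) (iv7 F74689) D102385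
theorem F391176 : act 1 n154411 = n193842 := d15_1 (iv0 F310888) (iv7 D193842) F157194
theorem F391177 : act 1 n193842 = n153866 := d15_1 F391176 (iv7 F391159) F391170
def n193843 : Q := act 3 n102391
theorem D193843 : act 3 n102391 = n193843 := rfl
theorem F391178 : act 2 n193843 = n192868 := d0_1 D193843 F388062 F370963 (iv3 F370966) F356419
theorem F391179 : act 4 n193843 = n185470 := d5_2 F356511 D193843 (iv3 F381185) (iv4 F385452) (iv3 F385449)
theorem F391180 : act 6 n193843 = n187425 := d7_2 F356421 D193843 (iv3 D187425)
theorem F391181 : act 7 n193843 = n192016 := d8_2 (iv7 F356418) D193843 F385216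
theorem F391182 : act 0 n193843 = n191270 := d20_4 (iv4 F133711) D182446 F356511 D193843 F382840 (iv4 F382847) F382848 (iv4 F289867) F153965 F292667
theorem F391183 : act 0 n192865 = n193843 := d20_1 (iv4 F388059) F391179 (iv3 F381185) (iv1 D189869) F146976 F70053 F134682 F134681 (iv3 F154119) F370219
def n193844 : Q := act 4 n102394
theorem D193844 : act 4 n102394 = n193844 := rfl
theorem F391184 : act 2 n193844 = n191481 := d1_1 D193844 F383543 (iv2 F383067)
theorem F391185 : act 7 n193844 = n182204 := d11_2 (iv7 F157214) D193844 (iv4 D182204)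
theorem F391186 : act 0 n193844 = n191484 := d18_2 F363077 D193844 F383544 F151815 F72613 (iv0 F335597) (iv4 F64431) F335735 D98165
theorem F391187 : act 1 n193844 = n122409 := d18_6 (iv1 F289889) F289890 (iv1 D47563) (iv4 F74702) D102394 D193844 (iv4 D122409) (iv0 F289787) (iv5 D102666)
def n193845 : Q := act 6 n102394
theorem D193845 : act 6 n102394 = n193845 := rfl
theorem F391188 : act 3 n193845 = n102396 := d7_1 D193845 (iv6 D102396) (iv3 F157213)
theorem F391189 : act 5 n193845 = n188289 := d12_1 D193845 (iv6 D188289) (iv5 D91165) (iv6 F295082) D102394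
def n193846 : Q := act 3 n102395
theorem D193846 : act 3 n102395 = n193846 := rfl
theorem F391190 : act 5 n193846 = n183858 := d6_2 (iv5 F157216) D193846 (iv3 D183858)
theorem F391191 : act 7 n193846 = n182205 := d8_2 (iv7 F157217) D193846 F337949
def n193847 : Q := act 6 n102395
theorem D193847 : act 6 n102395 = n193847 := rfl
theorem F391192 : act 2 n193847 = n182197 := d3_1 D193847 (iv6 D182197) (iv2 F157215)
theorem F391193 : act 4 n193847 = n102396 := d10_1 D193847 (iv6 D102396) D102395
theorem F391194 : act 5 n193847 = n187498 := d12_1 D193847 F370589 F362830 F337970 (iv5 F157216)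
theorem F391195 : act 7 n193847 = n102396 := d14_2 (iv7 F157217) D193847 (iv6 D102396) F74705 F337950
theorem F391196 : act 0 n182198 = n193847 := d21_4 (iv5 F388988) (iv1 F388990) D193295 (iv6 F389414) (iv6 D193847) F157216 (iv1 F337963) F337964 (iv6 F368936) (iv1 F368944)
theorem F391197 : act 1 n182199 = n193847 := d15_1 D182199 F391195 F157218
theorem F391198 : act 4 n185445 = n182199 := d18_7 F370590 (iv4 D106302) (iv1 F164497) D127812 F356705 (iv4 F283652) F356713 F391197 F391194
def n193848 : Q := act 0 n102396
theorem D193848 : act 0 n102396 = n193848 := rfl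
theorem F391199 : act 1 n182197 = n193848 := d15_0 (iv0 D193848) (iv7 F391195) F391192
def n193849 : Q := act 1 n102396
theorem D193849 : act 1 n102396 = n193849 := rfl
theorem F391200 : act 1 n193849 = n182197 := d15_1 D193849 F337951 (iv2 F157218)
def n193850 : Q := act 4 n102399
theorem D193850 : act 4 n102399 = n193850 := rfl
theorem F391201 : act 3 n193850 = n176162 := d5_1 D193850 (iv4 D176162) (iv3 D84027) D84028 (iv3 F365115)
theorem F391202 : act 7 n193850 = n111105 := d11_2 F371280 D193850 (iv4 F371283)
def n193851 : Q := act 6 n102399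
theorem D193851 : act 6 n102399 = n193851 := rfl
theorem F391203 : act 2 n193851 = n137892 := d3_1 D193851 F371277 F371272
theorem F391204 : act 3 n193851 = n176167 := d7_1 D193851 (iv6 D176167) (iv3 F365115)
theorem F391205 : act 5 n193851 = n191413 := d12_1 D193851 (iv6 D191413) (iv5 F161657) F161658 D102399
theorem F391206 : act 7 n193851 = n137883 := d14_2 F371280 D193851 (iv6 D137883) (iv7 F172297) F371282
theorem F391207 : act 1 n102502 = n193851 := d15_1 (iv0 F362568) F391206 F221111
theorem F391208 : act 1 n192196 = n137883 := d15_1 (iv0 F385954) (iv7 F391206) F391203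
theorem F391209 : act 1 n193851 = n137889 := d15_0 (iv0 D137889) D137892 (iv2 F391203)
def n193852 : Q := act 4 n102401
theorem D193852 : act 4 n102401 = n193852 := rfl
theorem F391210 : act 2 n193852 = n102404 := d1_1 D193852 (iv4 D102404) (iv2 F157329)
theorem F391211 : act 7 n193852 = n193257 := d11_2 F371265 D193852 F389336
theorem F391212 : act 0 n193852 = n193156 := d18_2 (iv1 F371296) D193852 (iv4 D193156) F155986 (iv4 F138818) D187488 F370544 F369089 (iv5 F371298)
theorem F391213 : act 1 n193852 = n193255 := d18_6 (iv1 F290140) F74467 (iv1 F135532) F135530 D102401 D193852 (iv4 D193255) F352687 (iv5 D87959)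
def n193853 : Q := act 6 n102401
theorem D193853 : act 6 n102401 = n193853 := rfl
theorem F391214 : act 2 n193853 = n102405 := d3_1 D193853 (iv6 D102405) (iv2 F157329)
def n193854 : Q := act 6 n102402
theorem D193854 : act 6 n102402 = n193854 := rfl
def n193855 : Q := act 4 n102403
theorem D193855 : act 4 n102403 = n193855 := rfl
theorem F391215 : act 0 n157176 = n193855 := d20_1 (iv4 F363854) (iv4 D193855) (iv3 F363857) (iv1 F328697) F159813 D104230 F159823 (iv4 D101249) D101248 F352685
def n193856 : Q := act 6 n102403
theorem D193856 : act 6 n102403 = n193856 := rfl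
def n193857 : Q := act 0 n102404
theorem D193857 : act 0 n102404 = n193857 := rfl
theorem F391216 : act 4 n193857 = n193104 := d18_3 (iv1 D102403) D102404 D193857 (iv5 F388763) F283607 F144900 F143482 D187102 (iv5 F369091)
theorem F391217 : act 2 n193156 = n193857 := d15_3 (iv0 D193857) F157330 (iv7 F388972)
theorem F391218 : act 1 n193257 = n193857 := d15_0 (iv0 D193857) (iv7 F371299) F389337
theorem F391219 : act 7 n193857 = n193255 := d15_2 D193257 F391218 F389333
def n193858 : Q := act 5 n102404
theorem D193858 : act 5 n102404 = n193858 := rfl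
theorem F391220 : act 4 n193858 = n146886 := d16_2 D102404 D193858 (iv5 D146886) F105043 (iv5 F65398) (iv4 F139253) D187710 F371265 F157329
theorem F391221 : act 1 n193858 = n193228 := d17_6 (iv1 F385911) (iv5 D102399) (iv1 D47513) D47515 D102404 D193858 (iv5 D193228) D193226 F389237
def n193859 : Q := act 1 n102405
theorem D193859 : act 1 n102405 = n193859 := rfl
def n193860 : Q := act 7 n102405
theorem D193860 : act 7 n102405 = n193860 := rfl
theorem F391222 : act 3 n193860 = n102410 := d8_1 D193860 (iv7 D102410) (iv3 F157331)
def n193861 : Q := act 5 n102408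
theorem D193861 : act 5 n102408 = n193861 := rfl
def n193862 : Q := act 6 n102408
theorem D193862 : act 6 n102408 = n193862 := rfl
theorem F391223 : act 2 n193862 = n192468 := d3_1 D193862 F386758 (iv2 F385850)
theorem F391224 : act 5 n193862 = n191920 := d21_6 (iv5 D10792) D10789 D22832 D47517 D102408 D193862 (iv1 D191920) F152930 (iv6 D47543) (iv1 D22844)
theorem E103558 : n192465 = n191920 := ((c2_1 F391224 F386757 D192468 (iv2 F391223))).symm
theorem F391225 : act 2 n191920 = n100197 := (sb E103558 F386757)
theorem F391226 : act 7 n191920 = n100196 := (sb E103558 (iv7 D192465))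
theorem F391227 : act 7 n192464 = n193862 := d13_0 F391224 F391226 D192464
theorem E103559 : n192461 = n191919 := (c15_4 (iv0 D191919) D191920 F391226 D192461)
theorem F391228 : act 2 n191919 = n100196 := (sb E103559 (iv2 D192461))
theorem F391229 : act 3 n191919 = n139312 := (sb E103559 F390040)
theorem F391230 : act 7 n191919 = n100197 := (sb E103559 (iv7 F386756))
theorem E103560 : n192935 = n192927 := (c20_2 (iv4 F386755) (iv1 F388271) (iv4 D192927) F388092 (iv1 D192879) (iv3 F357157) F222565 F101107 D139312 (iv3 F391229) (iv1 F384836))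
theorem F391231 : act 0 n192927 = n100978 := (sb E103560 (iv1 D192935))
theorem F391232 : act 1 n192927 = n192460 := (sb E103560 F388271)
theorem E103561 : n192934 = n137188 := (c15_2 F391232 F388277 (iv7 F390038) F390037)
theorem F391233 : act 0 n137188 = n192460 := (sb E103561 (iv1 F388277))
theorem F391234 : act 1 n137188 = n100978 := (sb E103561 (iv0 D192934))
theorem E103562 : n193622 = n193489 := (c18_6 (iv1 F346637) D137188 F391233 F386755 (iv5 F385921) (iv4 F390476) (iv0 D193489) F156791 (iv0 F153571) F153570)
theorem F391235 : act 4 n193489 = n192190 := (sb E103562 F390476)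
theorem F391236 : act 7 n193489 = n102024 := (sb E103562 (iv7 D193622))
def n193863 : Q := act 5 n102409
theorem D193863 : act 5 n102409 = n193863 := rfl
theorem F391237 : act 6 n193863 = n191628 := d12_2 F372068 D193863 F383980 F383814 (iv5 F383812)
def n193864 : Q := act 5 n102416
theorem D193864 : act 5 n102416 = n193864 := rfl
theorem F391238 : act 2 n193864 = n118903 := d2_1 D193864 F343276 (iv2 F157373)
theorem F391239 : act 3 n193864 = n102417 := d6_1 D193864 (iv5 D102417) D102416
theorem F391240 : act 6 n193864 = n118734 := d12_2 F289734 D193864 (iv5 D118734) (iv6 F186747) (iv5 F343272)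
theorem F391241 : act 7 n193864 = n177721 := d13_2 (iv7 F289759) D193864 (iv5 D177721)
theorem F391242 : act 1 n193864 = n192247 := d15_0 (iv0 F386198) F363005 (iv2 F391238)
def n193865 : Q := act 4 n102417
theorem D193865 : act 4 n102417 = n193865 := rfl
theorem F391243 : act 2 n193865 = n177898 := d1_1 D193865 F277468 F289772
theorem F391244 : act 7 n193865 = n177748 := d11_2 (iv7 F289762) D193865 (iv4 D177748)
theorem F391245 : act 0 n193865 = n177895 := d18_2 (iv1 F289761) D193865 F336770 D185215 F336768 (iv0 F356403) F137266 F335641 (iv5 F277423)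
theorem F391246 : act 1 n193865 = n177894 := d18_6 (iv1 F289618) F35394 D22838 D47520 D102417 D193865 F362118 (iv0 F336647) (iv5 D99867)
def n193866 : Q := act 6 n102417
theorem D193866 : act 6 n102417 = n193866 := rfl
theorem F391247 : act 2 n193866 = n137013 := d3_1 D193866 F328988 F289772
theorem F391248 : act 3 n193866 = n118734 := d7_1 D193866 (iv6 F391240) F391239
theorem F391249 : act 5 n193866 = n118733 := d12_1 D193866 (iv6 F357232) (iv5 D99843) F289774 D102417
theorem F391250 : act 7 n193866 = n124183 := d14_2 (iv7 F289762) D193866 (iv6 D124183) F302826 (iv6 F129807)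
theorem F391251 : act 1 n177999 = n193866 := d15_1 D177999 F391250 F305175
theorem F391252 : act 1 n193866 = n177998 := d15_0 (iv0 D177998) (iv7 F328989) (iv2 F391247)
def n193867 : Q := act 5 n102421
theorem D193867 : act 5 n102421 = n193867 := rfl
theorem F391253 : act 3 n193867 = n115607 := d6_1 D193867 F179934 (iv3 F327686)
theorem F391254 : act 4 n193867 = n177897 := d16_2 D102421 D193867 (iv5 D177897) (iv4 D84690) (iv5 D39117) (iv4 F34947) D46690 (iv7 F289744) (iv2 F157358)
theorem F391255 : act 0 n193867 = n193252 := d17_2 (iv1 F386274) D193867 (iv5 D193252) (iv4 D101408) (iv5 D47197) D47195 D101402 F386036 (iv4 F386275)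
def n193868 : Q := act 3 n102438
theorem D193868 : act 3 n102438 = n193868 := rfl
def n193869 : Q := act 5 n102438
theorem D193869 : act 5 n102438 = n193869 := rfl
theorem F391256 : act 2 n193869 = n102454 := d2_1 D193869 (iv5 D102454) (iv2 F157397)
theorem F391257 : act 4 n193869 = n185129 := d16_2 D102438 D193869 (iv5 D185129) (iv4 D88232) (iv5 D41176) (iv4 F34884) D46632 F73669 (iv2 F74726)
def n193870 : Q := act 6 n102438
theorem D193870 : act 6 n102438 = n193870 := rfl
theorem F391258 : act 2 n193870 = n102455 := d3_1 D193870 (iv6 D102455) (iv2 F157397)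
theorem F391259 : act 4 n193870 = n102439 := d10_1 D193870 (iv6 D102439) D102438
theorem F391260 : act 7 n193870 = n136156 := d14_2 F385960 D193870 (iv6 D136156) D136157 (iv6 F385959)
theorem F391261 : act 1 n115331 = n136156 := d15_1 F360845 (iv7 F391260) F391258
theorem F391262 : act 1 n115471 = n193870 := d18_6 F184135 F323601 (iv1 F197547) F350732 (iv5 F355559) F355558 F391259 F343225 (iv5 F329155)
theorem F391263 : act 5 n115447 = n193870 := d2_0 F391258 F360847 (iv2 F223430)
def n193871 : Q := act 0 n102439
theorem D193871 : act 0 n102439 = n193871 := rfl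
theorem F391264 : act 3 n193871 = n137466 := d20_5 F184214 D138024 F221284 (iv3 F343221) D193871 F220669 F320526 (iv4 F103008) (iv3 F326866) (iv1 F184216)
theorem F391265 : act 5 n193871 = n120466 := d21_0 F355546 D123248 F303338 (iv1 D57984) (iv6 F91734) (iv5 D57975) (iv1 F289714) D47528 D102439 D193871
theorem F391266 : act 2 n102456 = n193871 := d15_3 (iv0 D193871) F343225 (iv7 F353566)
theorem F391267 : act 1 n102459 = n193871 := d15_0 (iv0 D193871) F343223 (iv2 F343203)
theorem F391268 : act 7 n193871 = n102457 := d15_2 (iv0 F343229) F391267 F353567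
def n193872 : Q := act 1 n102443
theorem D193872 : act 1 n102443 = n193872 := rfl
theorem F391269 : act 1 n193872 = n102448 := d15_1 D193872 (iv7 F385969) F385967
theorem F391270 : act 7 n193872 = n115276 := d15_2 (iv0 F157404) D193872 F362201
theorem F391271 : act 4 n193872 = n177862 := d18_7 F356430 F268920 (iv1 F277394) (iv4 F295314) F295315 D102443 D193872 F290117 (iv5 F356407)
theorem F391272 : act 2 n193145 = n193872 := d1_3 F391271 (iv2 F290101) D193145
def n193873 : Q := act 5 n102443
theorem D193873 : act 5 n102443 = n193873 := rfl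
theorem F391273 : act 3 n193873 = n115531 := d6_1 D193873 (iv5 D115531) (iv3 F329302)
def n193874 : Q := act 0 n102445
theorem D193874 : act 0 n102445 = n193874 := rfl
def n193875 : Q := act 1 n102445
theorem D193875 : act 1 n102445 = n193875 := rfl
def n193876 : Q := act 7 n102445
theorem D193876 : act 7 n102445 = n193876 := rfl
theorem F391274 : act 3 n193876 = n135892 := d8_1 D193876 F218589 (iv3 F329305)
theorem F391275 : act 5 n193876 = n179771 := d13_1 D193876 F370515 F370513
theorem F391276 : act 6 n193876 = n143877 := d14_1 D193876 F226500 F343256 F290010 D102445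
theorem F391277 : act 1 n135914 = n193876 := d15_1 (iv0 F385974) (iv7 D193876) (iv2 F385971)
def n193877 : Q := act 5 n102447
theorem D193877 : act 5 n102447 = n193877 := rfl
theorem F391278 : act 2 n193877 = n137620 := d2_1 D193877 (iv5 D137620) (iv2 F356209)
theorem F391279 : act 3 n193877 = n102449 := d6_1 D193877 (iv5 D102449) D102447
theorem F391280 : act 4 n193877 = n137620 := d9_1 D193877 (iv5 D137620) F161305 F318388 (iv4 F60369) (iv5 F316290) (iv4 F181423) (iv5 F356218) F356215 (iv5 D137970) (iv4 F325061) D67145 (iv4 F318563) (iv5 F320540) (iv4 F356210)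
theorem F391281 : act 7 n193877 = n137970 := d13_2 (iv7 F356211) D193877 (iv5 D137970)
theorem F391282 : act 0 n193877 = n191470 := d17_2 (iv1 F356208) D193877 F383532 (iv4 D150554) F308659 (iv0 F342516) F342519 (iv0 F342511) F322433
theorem F391283 : act 1 n193877 = n191862 := d17_8 (iv1 D187100) F334878 F334869 (iv5 D46567) D46566 (iv5 F331211) (iv0 F356207) D193877 F384606
def n193878 : Q := act 6 n102447
theorem D193878 : act 6 n102447 = n193878 := rfl
theorem F391284 : act 2 n193878 = n137621 := d3_1 D193878 (iv6 D137621) (iv2 F356209)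
theorem F391285 : act 3 n193878 = n102450 := d7_1 D193878 (iv6 D102450) D102447
theorem F391286 : act 4 n193878 = n142308 := d10_1 D193878 (iv6 D142308) (iv4 F356210)
theorem F391287 : act 0 n193878 = n138056 := d20_7 D68285 F322788 (iv4 F321955) D141054 F348109 (iv3 F321218) (iv4 F391286) (iv4 F342377) (iv3 D145673) (iv1 D68284)
def n193879 : Q := act 5 n102448
theorem D193879 : act 5 n102448 = n193879 := rfl
def n193880 : Q := act 6 n102448
theorem D193880 : act 6 n102448 = n193880 := rfl
theorem F391288 : act 4 n193880 = n102450 := d10_1 D193880 (iv6 D102450) D102448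
def n193881 : Q := act 7 n102450
theorem D193881 : act 7 n102450 = n193881 := rfl
theorem F391289 : act 2 n193881 = n143877 := d4_1 D193881 F226500 (iv2 F343871)
theorem F391290 : act 5 n193881 = n143882 := d13_1 D193881 F226514 (iv5 F343872)
theorem F391291 : act 1 n139310 = n193881 := d15_1 (iv0 F222716) (iv7 D193881) F343871
theorem F391292 : act 1 n193881 = n116834 := d15_1 F391291 F182431 (iv2 F222501)
def n193882 : Q := act 3 n102451
theorem D193882 : act 3 n102451 = n193882 := rfl
theorem F391293 : act 0 n193882 = n115243 := d20_4 (iv4 D193145) D193144 F388908 D193882 F179479 F83976 D53172 D115249 (iv3 F385964) (iv1 F388914)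
def n193883 : Q := act 5 n102451
theorem D193883 : act 5 n102451 = n193883 := rfl
def n193884 : Q := act 6 n102451
theorem D193884 : act 6 n102451 = n193884 := rfl
def n193885 : Q := act 5 n102452
theorem D193885 : act 5 n102452 = n193885 := rfl
theorem F391294 : act 3 n193885 = n119538 := d6_1 D193885 (iv5 D119538) (iv3 F356395)
def n193886 : Q := act 6 n102452
theorem D193886 : act 6 n102452 = n193886 := rfl
theorem F391295 : act 3 n193886 = n119491 := d7_1 D193886 F188280 (iv3 F356395)
theorem F391296 : act 4 n193886 = n175724 := d10_1 D193886 F275150 (iv4 F356396)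
theorem F391297 : act 0 n143878 = n193886 := d18_2 (iv1 D143877) D143878 F391296 F357156 F222565 (iv0 F168219) D116835 (iv0 F221528) (iv5 F226501)
def n193887 : Q := act 0 n102453
theorem D193887 : act 0 n102453 = n193887 := rfl
def n193888 : Q := act 1 n102453
theorem D193888 : act 1 n102453 = n193888 := rfl
theorem F391298 : act 3 n115245 = n193888 := d20_3 (iv4 F84167) D115599 F179908 (iv1 D193888) (iv3 D102453) (iv4 D47532) D47530 D102443 F329302 F166208
theorem F391299 : act 4 n137504 = n193888 := d20_6 (iv4 D47383) (iv1 F35328) D22778 (iv3 F329624) D64631 D137504 (iv1 D193888) F157406 (iv3 D47544) (iv1 F74593)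
theorem F391300 : act 7 n193888 = n115521 := d11_2 (iv7 F220692) F391299 (iv4 F204377)
theorem F391301 : act 2 n115521 = n193887 := d15_3 (iv0 D193887) D193888 F391300
def n193889 : Q := act 2 n102453
theorem D193889 : act 2 n102453 = n193889 := rfl
theorem F391302 : act 4 n193889 = n102495 := d1_2 (iv4 F157406) D193889 (iv2 D102495)
theorem F391303 : act 6 n193889 = n116585 := d3_2 (iv6 F360848) D193889 F181938
theorem F391304 : act 0 n193889 = n115521 := d20_1 (iv4 F391302) (iv4 F204377) (iv3 D127126) F163546 (iv3 F206744) F206745 F346798 (iv4 F339825) (iv3 F385993) (iv1 F385994)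
def n193890 : Q := act 0 n102454
theorem D193890 : act 0 n102454 = n193890 := rfl
def n193891 : Q := act 1 n102454
theorem D193891 : act 1 n102454 = n193891 := rfl
theorem F391305 : act 5 n193891 = n184626 := d17_7 (iv1 D99971) (iv5 D46690) (iv1 F289717) D22841 D47532 D102454 D193891 (iv0 F386273) (iv4 D192277)
def n193892 : Q := act 4 n102454
theorem D193892 : act 4 n102454 = n193892 := rfl
theorem F391306 : act 2 n193892 = n185129 := d1_1 D193892 (iv4 F391257) F391256
theorem F391307 : act 5 n193892 = n185110 := d16_3 D47532 D102454 D193892 (iv4 D185110) (iv5 D88228) (iv4 F73663) D99845 F153734 F74726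
theorem F391308 : act 0 n193892 = n177897 := d18_2 (iv1 D193891) D193892 (iv4 F391254) (iv5 D193867) (iv4 D102421) (iv0 F343264) D187105 F369105 (iv5 F391305)
def n193893 : Q := act 6 n102454
theorem D193893 : act 6 n102454 = n193893 := rfl
theorem F391309 : act 3 n193893 = n116640 := d7_1 D193893 F360849 F353164
theorem F391310 : act 5 n193893 = n116635 := d12_1 D193893 (iv6 D116635) (iv5 F360847) (iv6 D102455) D102454
def n193894 : Q := act 0 n102455
theorem D193894 : act 0 n102455 = n193894 := rfl
theorem F391311 : act 2 n115471 = n193894 := d15_3 (iv0 D193894) F360845 (iv7 F179773)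
def n193895 : Q := act 7 n102455
theorem D193895 : act 7 n102455 = n193895 := rfl
theorem F391312 : act 2 n193895 = n136156 := d4_1 D193895 (iv7 F391260) F391258
theorem F391313 : act 3 n193895 = n116544 := d8_1 D193895 F181887 (iv3 F360846)
theorem F391314 : act 4 n193895 = n102459 := d11_1 D193895 (iv7 D102459) (iv4 F157407)
theorem F391315 : act 5 n193895 = n115446 := d13_1 D193895 F181469 (iv5 F360847)
theorem F391316 : act 6 n193895 = n136144 := d14_1 D193895 F219187 (iv6 F333135) F153742 D102455
theorem F391317 : act 1 n136156 = n193894 := d15_0 (iv0 D193894) D193895 F391312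
theorem F391318 : act 0 n115471 = n193895 := d20_10 F391314 F343229 (iv4 F179783) (iv3 D115487) (iv1 F179512) F330512 (iv4 F165969) F165970 F84117 D115471
def n193896 : Q := act 4 n102456
theorem D193896 : act 4 n102456 = n193896 := rfl
theorem F391319 : act 3 n193896 = n107185 := d5_1 D193896 (iv4 D107185) F102017 D63980 (iv3 F353565)
theorem F391320 : act 7 n193896 = n115487 := d11_2 (iv7 F353566) D193896 F179783
def n193897 : Q := act 6 n102456
theorem D193897 : act 6 n102456 = n193897 := rfl
theorem F391321 : act 3 n193897 = n136061 := d7_1 D193897 (iv6 D136061) (iv3 F353565)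
theorem F391322 : act 0 n161959 = n193897 := d21_4 (iv5 D57955) F56183 D77786 D161959 (iv6 D193897) F343220 (iv1 D122652) D122653 F196517 (iv1 F299213)
def n193898 : Q := act 4 n102457
theorem D193898 : act 4 n102457 = n193898 := rfl
theorem F391323 : act 2 n193898 = n115487 := d1_1 D193898 F179783 (iv2 F353567)
theorem F391324 : act 3 n193898 = n115630 := d5_1 D193898 F336238 (iv3 F322263) F343287 (iv3 F349498)
def n193899 : Q := act 1 n102458
theorem D193899 : act 1 n102458 = n193899 := rfl
theorem F391325 : act 1 n193899 = n134073 := d15_1 D193899 F341442 (iv2 F343199)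
theorem F391326 : act 7 n193899 = n134419 := d15_2 F360245 D193899 F341445
theorem F391327 : act 3 n137930 = n193899 := d20_3 D143118 F341544 (iv4 F354832) (iv1 D193899) F157408 D102513 F353332 F353333 (iv3 F353336) (iv1 D143117)
theorem F391328 : act 2 n193899 = n117434 := d0_1 F391327 (iv3 D117434) (iv2 F104618) D145931 F354833
theorem F391329 : act 4 n193899 = n123826 := d5_2 (iv4 F354832) F391327 (iv3 F370341) F370342 F322605
theorem F391330 : act 6 n193899 = n122699 := d7_2 (iv6 F354834) F391327 (iv3 F354945)
def n193900 : Q := act 2 n102466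
theorem D193900 : act 2 n102466 = n193900 := rfl
theorem F391331 : act 3 n193900 = n104239 := d0_2 D102466 D193900 (iv2 F293408) F293409 (iv2 F289878)
theorem F391332 : act 6 n193900 = n187602 := d3_2 F367073 D193900 (iv2 F370989)
theorem F391333 : act 7 n193900 = n183983 := d4_2 (iv7 F290043) D193900 (iv2 F289919)
theorem F391334 : act 1 n193900 = n114934 := d15_0 (iv0 F356346) (iv7 F290043) D193900
theorem F391335 : act 1 n192054 = n193900 := d15_0 F391334 (iv7 F356336) (iv2 F385362)
theorem F391336 : act 4 n102466 = n193900 := d18_7 D114931 (iv4 F349042) (iv1 F186616) (iv4 F349045) (iv5 D99649) (iv4 F153387) F290048 F391334 (iv5 D114934)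
def n193901 : Q := act 3 n102472
theorem D193901 : act 3 n102472 = n193901 := rfl
theorem F391337 : act 4 n193901 = n102519 := d5_2 D102472 D193901 (iv3 D102519) (iv4 D47552) (iv3 F74729)
theorem F391338 : act 6 n193901 = n134436 := d7_2 (iv6 F343198) D193901 (iv3 D134436)
theorem F391339 : act 7 n193901 = n122704 := d8_2 (iv7 F356486) D193901 (iv3 D122704)
theorem F391340 : act 0 n102518 = n193901 := d20_4 F340879 (iv1 F183461) D117268 F353231 (iv3 D193901) (iv4 D102472) F304454 (iv4 F44462) (iv3 F90875) D123778
theorem F391341 : act 1 n187066 = n193901 := d15_0 (iv0 F391340) (iv7 F353232) (iv2 F369004)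
theorem F391342 : act 5 n143512 = n191466 := d17_5 F357191 F357189 (iv1 F365461) (iv5 F369050) F369049 F386428 F386426 F391341 F391337
theorem F391343 : act 3 n191466 = n143513 := d6_1 F391342 (iv5 D143513) D143512
theorem F391344 : act 6 n187077 = n143512 := d21_5 (iv5 D22849) (iv1 F62996) (iv5 F64459) D89526 D187077 F391342 (iv1 D191466) (iv5 F157447) (iv6 D102518) (iv1 D47551)
theorem F391345 : act 3 n143514 = n187077 := d7_3 F391344 (iv3 D143512) D143514
theorem F391346 : act 2 n193901 = n187065 := d15_3 (iv0 D187065) F356537 (iv7 F391339)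
def n193902 : Q := act 5 n102472
theorem D193902 : act 5 n102472 = n193902 := rfl
theorem F391347 : act 2 n193902 = n122711 := d2_1 D193902 (iv5 D122711) F356487
theorem F391348 : act 7 n193902 = n122706 := d13_2 (iv7 F356486) D193902 (iv5 D122706)
def n193903 : Q := act 4 n102474
theorem D193903 : act 4 n102474 = n193903 := rfl
theorem F391349 : act 2 n193903 = n102475 := d1_1 D193903 (iv4 D102475) D102474
theorem F391350 : act 7 n193903 = n193226 := d11_2 F385909 D193903 F389237
theorem F391351 : act 0 n193903 = n193148 := d18_2 F371275 D193903 (iv4 D193148) (iv5 D101242) F74405 F135533 F135530 F139257 D187711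
theorem F391352 : act 1 n193903 = n193223 := d18_6 (iv1 F377062) F283607 (iv1 F145623) (iv4 F152550) (iv5 F157417) D193903 (iv4 D193223) F365616 (iv5 F377058)
def n193904 : Q := act 6 n102474
theorem D193904 : act 6 n102474 = n193904 := rfl
theorem F391353 : act 2 n193904 = n102476 := d3_1 D193904 (iv6 D102476) D102474
theorem F391354 : act 3 n193904 = n137839 := d7_1 D193904 (iv6 D137839) (iv3 F365467)
theorem F391355 : act 5 n193904 = n191851 := d12_1 D193904 (iv6 D191851) (iv5 D99010) D99011 (iv5 F157417)
def n193905 : Q := act 0 n102475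
theorem D193905 : act 0 n102475 = n193905 := rfl
theorem F391356 : act 4 n193905 = n137325 := d18_3 F157222 D102475 D193905 F362209 F290175 (iv0 D88513) F63661 D47513 D102399
theorem F391357 : act 2 n193148 = n193905 := d15_3 (iv0 D193905) (iv0 F157418) (iv7 F388924)
theorem F391358 : act 1 n193226 = n193905 := d15_0 (iv0 D193905) (iv7 F385912) F389238
theorem F391359 : act 7 n193905 = n193223 := d15_2 D193226 F391358 F389235
theorem F391360 : act 6 n193905 = n137323 := d3_2 (iv6 F388923) F391357 F220492
def n193906 : Q := act 5 n102475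
theorem D193906 : act 5 n102475 = n193906 := rfl
def n193907 : Q := act 6 n102475
theorem D193907 : act 6 n102475 = n193907 := rfl
theorem F391361 : act 4 n193907 = n102476 := d10_1 D193907 (iv6 D102476) D102475
def n193908 : Q := act 0 n102476
theorem D193908 : act 0 n102476 = n193908 := rfl
theorem F391362 : act 3 n193908 = n136624 := d20_5 F218570 F352921 F157423 (iv3 F157419) D193908 (iv4 F359427) (iv1 F279613) F363441 F363443 (iv1 F359431)
theorem F391363 : act 7 n136609 = n193908 := d8_0 F391362 (iv7 D136624) (iv3 F219695)
def n193909 : Q := act 1 n102476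
theorem D193909 : act 1 n102476 = n193909 := rfl
def n193910 : Q := act 7 n102476
theorem D193910 : act 7 n102476 = n193910 := rfl
theorem F391364 : act 3 n193910 = n102481 := d8_1 D193910 (iv7 D102481) (iv3 F157419)
theorem F391365 : act 5 n193910 = n191861 := d13_1 D193910 (iv7 D191861) (iv5 F157420)
def n193911 : Q := act 2 n102477
theorem D193911 : act 2 n102477 = n193911 := rfl
theorem F391366 : act 3 n193911 = n193614 := d0_2 D102477 D193911 (iv2 D193614) (iv3 D102021) (iv2 F74731)
theorem F391367 : act 5 n193911 = n156826 := d2_2 F368496 D193911 F368501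
theorem F391368 : act 7 n193911 = n190677 := d4_2 (iv7 F157421) D193911 F380543
theorem F391369 : act 1 n193911 = n177164 := d15_0 F348026 (iv7 F157421) D193911
theorem F391370 : act 1 n177147 = n193911 := d15_0 F391369 (iv7 F378662) F378660
theorem F391371 : act 6 n103912 = n193911 := d12_0 F391367 (iv6 F377999) F377998 D190074 F378778
def n193912 : Q := act 6 n102477
theorem D193912 : act 6 n102477 = n193912 := rfl
theorem F391372 : act 2 n193912 = n103912 := d3_1 D193912 F391371 (iv2 D193911)
theorem F391373 : act 3 n193912 = n102478 := d7_1 D193912 (iv6 D102478) D102477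
theorem F391374 : act 5 n193912 = n190935 := d12_1 D193912 (iv6 D190935) (iv5 F361128) F368499 F368496
theorem F391375 : act 0 n193912 = n103631 := d21_4 (iv5 F361888) (iv1 F368500) F368496 D193912 (iv6 D103631) (iv5 D47996) F63075 D40982 (iv6 F134849) D184216
theorem F391376 : act 1 n193912 = n103914 := d15_1 (iv0 F391375) (iv7 D103914) (iv2 F159011)
def n193913 : Q := act 5 n102478
theorem D193913 : act 5 n102478 = n193913 := rfl
theorem F391377 : act 2 n193913 = n193617 := d2_1 D193913 (iv5 D193617) (iv2 F157422)
theorem F391378 : act 3 n193913 = n190935 := d6_1 D193913 (iv5 F391374) F391373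
theorem F391379 : act 6 n193913 = n190934 := d12_2 D102478 D193913 F381600 (iv6 D186918) F137062
def n193914 : Q := act 7 n102478
theorem D193914 : act 7 n102478 = n193914 := rfl
theorem F391380 : act 2 n193914 = n193618 := d4_1 D193914 (iv7 D193618) (iv2 F157422)
theorem F391381 : act 4 n193914 = n102481 := d11_1 D193914 (iv7 D102481) (iv4 F157423)
theorem F391382 : act 6 n193914 = n193489 := d14_1 D193914 F391236 (iv6 D102024) (iv7 F74732) D102478
theorem F391383 : act 1 n193604 = n193914 := d15_1 (iv0 F390430) (iv7 D193914) F157422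
theorem F391384 : act 1 n193914 = n193602 := d15_1 F391383 F390417 (iv2 F390427)
theorem F391385 : act 0 n193910 = n136609 := d20_4 D193602 (iv1 F391384) F391381 (iv3 F391364) F219695 (iv4 F219739) F312161 F334898 F156961 D102014
theorem F391386 : act 1 n193904 = n136609 := d15_0 (iv0 F391385) (iv7 D193910) (iv2 F391353)
def n193915 : Q := act 2 n102479
theorem D193915 : act 2 n102479 = n193915 := rfl
theorem F391387 : act 7 n102480 = n193915 := d15_2 (iv0 D102479) D102480 (iv2 D193915)
def n193916 : Q := act 3 n102479
theorem D193916 : act 3 n102479 = n193916 := rfl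
def n193917 : Q := act 4 n102479
theorem D193917 : act 4 n102479 = n193917 := rfl
def n193918 : Q := act 5 n102479
theorem D193918 : act 5 n102479 = n193918 := rfl
theorem F391388 : act 4 n193918 = n189066 := d17_4 F367993 (iv5 F74735) D102479 D193918 (iv5 D189066) (iv0 D93107) F68450 D43641 D93301
theorem F391389 : act 1 n193918 = n188184 := d17_8 D191829 F384855 (iv1 F384852) F154150 (iv4 F367535) (iv5 F385901) F385906 D193918 F372604
theorem E103563 : n193917 = n193598 := ((c18_3 (iv1 D102015) (iv4 F156968) D193598 (iv4 D193917) D193918 F391388 (iv0 F375629) F368024 (iv0 F371053) F366997)).symm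
theorem F391390 : act 4 n193598 = n102479 := (sb E103563 (iv4 D193917))
theorem F391391 : act 6 n193918 = n191825 := d21_3 (iv5 F74735) D102479 D193918 (iv1 D191825) (iv6 D98977) D98976 (iv1 F154042) F286903 (iv6 F367997) F367993
theorem F391392 : act 7 n191879 = n193918 := d11_0 F391388 F378696 (iv4 F384633)
theorem F391393 : act 7 n102479 = n192184 := d13_2 F391392 (iv5 D193918) (iv5 F385899)
theorem F391394 : act 2 n192184 = n102480 := d4_1 F391393 F391387 (iv2 D193915)
theorem E103564 : n193915 = n192183 := (c15_4 (iv0 D192183) D192184 (iv7 F391393) D193915)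
theorem F391395 : act 2 n192183 = n102479 := (sb E103564 (iv2 D193915))
theorem F391396 : act 7 n192183 = n102480 := (sb E103564 (iv7 F391387))
def n193919 : Q := act 6 n102479
theorem D193919 : act 6 n102479 = n193919 := rfl
def n193920 : Q := act 3 n102480
theorem D193920 : act 3 n102480 = n193920 := rfl
def n193921 : Q := act 5 n102480
theorem D193921 : act 5 n102480 = n193921 := rfl
theorem F391397 : act 2 n193921 = n191879 := d2_1 D193921 F385899 F391394
theorem F391398 : act 4 n193921 = n188329 := d17_4 F368001 (iv5 F385901) (iv1 F385904) D193921 F373088 F374462 F374459 F142807 D93296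
theorem F391399 : act 0 n193921 = n188184 := d18_0 F372604 D191829 (iv4 F384857) F375888 F375890 (iv0 F359409) F157423 D102480 D193921
theorem F391400 : act 6 n193921 = n186655 := d21_3 (iv5 F385901) (iv1 F385904) D193921 (iv1 F367572) (iv6 F367554) (iv5 F378245) F378242 (iv5 F375859) (iv6 D189141) F368001
def n193922 : Q := act 6 n102480
theorem D193922 : act 6 n102480 = n193922 := rfl
def n193923 : Q := act 4 n102484
theorem D193923 : act 4 n102484 = n193923 := rfl
theorem F391401 : act 2 n193923 = n102485 := d1_1 D193923 (iv4 D102485) D102484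
theorem F391402 : act 7 n193923 = n137837 := d11_2 (iv7 F329332) D193923 (iv4 D137837)
theorem F391403 : act 0 n193923 = n192077 := d18_2 (iv1 F157425) D193923 (iv4 D192077) (iv5 D99635) F76048 (iv0 F76049) F75421 F73783 D48257
def n193924 : Q := act 5 n102484
theorem D193924 : act 5 n102484 = n193924 := rfl
theorem F391404 : act 2 n193924 = n102486 := d2_1 D193924 (iv5 D102486) D102484
theorem F391405 : act 3 n193924 = n187103 := d6_1 D193924 (iv5 F385908) F385907
theorem F391406 : act 7 n193924 = n137838 := d13_2 (iv7 F329332) D193924 (iv5 D137838)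
theorem F391407 : act 4 n193924 = n187285 := d17_4 F73636 D48257 (iv1 F157425) D193924 F369704 F160644 (iv5 D104619) (iv0 D48381) (iv4 F73633)
theorem F391408 : act 6 n193924 = n184252 := d21_3 D48257 (iv1 F157425) D193924 (iv1 F286181) (iv6 F340563) F340562 (iv1 F286162) (iv5 D88354) (iv6 F73634) F73636
theorem F391409 : act 0 n103941 = n193924 := d21_10 (iv5 D193924) F329324 (iv5 F327683) (iv6 F157494) (iv1 D102534) F74788 D99378 F352764 (iv5 D103940) D103941
theorem F391410 : act 1 n186642 = n193924 := d15_0 (iv0 F391409) (iv7 F292843) (iv2 F367528)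
def n193925 : Q := act 6 n102484
theorem D193925 : act 6 n102484 = n193925 := rfl
theorem F391411 : act 2 n193925 = n102487 := d3_1 D193925 (iv6 D102487) D102484
theorem F391412 : act 5 n193925 = n184253 := d12_1 D193925 (iv6 D184253) D184252 (iv6 F391408) (iv5 D193924)
theorem F391413 : act 0 n193925 = n138223 := d21_4 (iv5 F361849) F391409 (iv5 D193924) D193925 (iv6 D138223) (iv5 F351798) (iv1 D98488) D98489 F151898 D99951
def n193926 : Q := act 0 n102485
theorem D193926 : act 0 n102485 = n193926 := rfl
theorem F391414 : act 4 n193926 = n192073 := d18_3 (iv1 F328974) D102485 D193926 (iv5 D192073) (iv4 F153409) (iv0 D48007) F36255 D46683 (iv5 F328548)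
theorem F391415 : act 1 n137837 = n193926 := d15_0 (iv0 D193926) (iv7 F385893) F385892
theorem F391416 : act 0 n193584 = n190985 := d18_0 F381803 (iv1 F370024) F370020 (iv5 D137838) D137837 F391415 F391414 F385436 D193584
theorem F391417 : act 0 n111105 = n193224 := d20_1 F371283 (iv4 D193224) F362213 F362225 (iv3 F385434) (iv4 F391414) (iv1 F391415) (iv4 D137837) (iv3 F365467) (iv1 F371287)
theorem F391418 : act 2 n192077 = n193926 := d1_3 F391414 F385433 D192077
def n193927 : Q := act 1 n102485
theorem D193927 : act 1 n102485 = n193927 := rfl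
theorem F391419 : act 1 n193927 = n137837 := d15_1 D193927 (iv7 F391402) F391401
theorem F391420 : act 7 n193927 = n192077 := d15_2 (iv0 D193926) D193927 F391418
theorem F391421 : act 4 n143092 = n193927 := d20_6 D22845 (iv1 F74593) (iv4 D47383) D47382 F334879 (iv3 F225941) (iv1 D193927) (iv4 D102485) (iv3 D47540) (iv1 D22844)
theorem F391422 : act 3 n193927 = n105632 := d5_1 F391421 F162233 F103031 (iv4 F103044) (iv3 F225941)
theorem F391423 : act 6 n193927 = n105630 := d10_2 D143092 F391421 F162230
def n193928 : Q := act 3 n102485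
theorem D193928 : act 3 n102485 = n193928 := rfl
theorem F391424 : act 4 n193928 = n102488 := d5_2 D102485 D193928 (iv3 D102488) (iv4 D47541) D47540
theorem F391425 : act 7 n193928 = n193615 := d8_2 F385893 D193928 F390458
def n193929 : Q := act 5 n102485
theorem D193929 : act 5 n102485 = n193929 := rfl
theorem F391426 : act 4 n193929 = n140546 := d19_2 (iv1 D193927) D193929 F223687 (iv1 F326241) (iv5 F302555) (iv4 D180034) (iv3 F323362) (iv1 F270686) (iv5 F127209) (iv4 D82593) D82592 (iv1 F304292) (iv5 D150242) F107187 (iv3 F52821) F190168 F321298 (iv4 F162233) (iv3 F391422)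
theorem F391427 : act 6 n140544 = n193929 := d10_0 F391426 (iv6 D140546) D140544
theorem F391428 : act 0 n193929 = n108080 := d20_7 (iv4 F341276) (iv1 F79365) (iv4 F100850) F315249 F326242 (iv3 F223687) (iv4 F391426) (iv4 F223629) (iv3 D140449) F341275
def n193930 : Q := act 6 n102485
theorem D193930 : act 6 n102485 = n193930 := rfl
theorem F391429 : act 4 n193930 = n102487 := d10_1 D193930 (iv6 D102487) D102485
def n193931 : Q := act 1 n102486
theorem D193931 : act 1 n102486 = n193931 := rfl
theorem F391430 : act 1 n193931 = n137838 := d15_1 D193931 (iv7 F391406) F391404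
theorem F391431 : act 7 n193931 = n186642 := d15_2 (iv0 F157431) D193931 F367528
theorem F391432 : act 4 n193931 = n191256 := d17_9 (iv1 F382775) (iv5 F381219) (iv1 D189865) (iv5 D95349) (iv4 F73785) D99947 F159759 D102486 D193931
theorem F391433 : act 3 n137623 = n193931 := d20_3 F357598 F375570 F375567 (iv1 D193931) F157426 (iv4 F127434) (iv1 F127436) F64392 (iv3 F74638) D102207
theorem F391434 : act 6 n103939 = n193931 := d21_3 F323338 (iv1 F325480) (iv5 F352758) (iv1 D193931) (iv6 F157429) (iv5 F152925) F152927 F134897 (iv6 F66958) D91341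
theorem F391435 : act 2 n193931 = n103941 := d3_1 F391434 (iv6 D103941) D103939
theorem F391436 : act 5 n193931 = n192167 := d12_1 F391434 F385838 (iv5 F218646) (iv6 F362779) (iv5 F352758)
def n193932 : Q := act 0 n102487
theorem D193932 : act 0 n102487 = n193932 := rfl
theorem F391437 : act 6 n193932 = n137788 := d21_5 (iv5 F391436) (iv1 D193931) (iv5 D102486) D102487 D193932 F362505 (iv1 F366233) D191507 F383606 (iv1 F385833)
theorem F391438 : act 2 n138223 = n193932 := d3_3 F391437 F362503 D138223
def n193933 : Q := act 1 n102487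
theorem D193933 : act 1 n102487 = n193933 := rfl
theorem F391439 : act 7 n193933 = n138223 := d15_2 (iv0 D193932) D193933 F391438
theorem F391440 : act 3 n137626 = n193933 := d8_3 F391439 F221392 (iv7 F220778)
def n193934 : Q := act 7 n102487
theorem D193934 : act 7 n102487 = n193934 := rfl
theorem F391441 : act 3 n193934 = n102492 := d8_1 D193934 (iv7 D102492) (iv3 F157432)
def n193935 : Q := act 1 n102488
theorem D193935 : act 1 n102488 = n193935 := rfl
theorem F391442 : act 7 n193935 = n109345 := d15_2 (iv0 F367642) D193935 (iv2 F174119)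
theorem F391443 : act 5 n149213 = n193935 := d21_0 (iv1 D193935) (iv5 F368504) (iv6 F380538) (iv1 F380537) F354557 F134280 (iv1 D40975) D40977 D87856 (iv1 F366333)
theorem F391444 : act 2 n193935 = n193612 := d2_1 F391443 (iv5 F390456) (iv2 F383425)
theorem F391445 : act 3 n193935 = n149214 := d6_1 F391443 (iv5 D149214) D149213
theorem F391446 : act 0 n193928 = n105647 := d18_2 (iv1 D193935) (iv4 F391424) F162242 (iv5 F110939) F110938 D147169 (iv4 F368991) (iv0 F368995) F391443
theorem E103565 : n193613 = n109345 := (c15_2 (iv0 D193612) D193613 (iv7 F391442) F391444)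
theorem F391447 : act 0 n109345 = n102021 := (sb E103565 (iv1 D193613))
theorem F391448 : act 1 n193935 = n193614 := d15_0 F390457 (iv7 F390455) (iv2 F391444)
def n193936 : Q := act 2 n102488
theorem D193936 : act 2 n102488 = n193936 := rfl
theorem F391449 : act 3 n193936 = n190677 := d0_2 D102488 D193936 F380543 (iv3 D102023) (iv2 F74736)
theorem F391450 : act 5 n193936 = n190676 := d2_2 F368504 D193936 F380539
theorem F391451 : act 7 n193936 = n193614 := d4_2 (iv7 F157433) D193936 (iv2 D193614)
theorem F391452 : act 1 n193936 = n193612 := d15_0 (iv0 D193612) (iv7 F157433) D193936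
theorem F391453 : act 1 n109345 = n193936 := d15_0 F391452 F390455 F174119
def n193937 : Q := act 6 n102488
theorem D193937 : act 6 n102488 = n193937 := rfl
theorem F391454 : act 3 n193937 = n102489 := d7_1 D193937 (iv6 D102489) D102488
def n193938 : Q := act 1 n102489
theorem D193938 : act 1 n102489 = n193938 := rfl
theorem F391455 : act 1 n193938 = n193489 := d15_1 D193938 F391236 (iv2 F157434)
theorem F391456 : act 7 n193938 = n192112 := d15_2 (iv0 F389985) D193938 F385607
theorem F391457 : act 4 n193938 = n192115 := d18_7 (iv1 F346651) D192927 F391231 F155592 F152930 (iv4 F157435) D193938 F385626 F346652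
theorem F391458 : act 6 n193477 = n193938 := d21_3 (iv5 F383642) (iv1 F381977) (iv5 F389991) (iv1 D193938) (iv6 D102489) (iv5 F137066) (iv1 D89381) (iv5 F64379) D47449 D102217
theorem F391459 : act 2 n193491 = n193938 := d1_3 F391457 F385622 (iv4 F390034)
def n193939 : Q := act 5 n102489
theorem D193939 : act 5 n102489 = n193939 := rfl
theorem F391460 : act 2 n193939 = n193621 := d2_1 D193939 (iv5 D193621) (iv2 F157434)
theorem F391461 : act 0 n193939 = n137090 := d17_2 (iv1 D193938) D193939 (iv5 D137090) F100364 D64484 F346637 (iv5 F153570) F385625 (iv4 F391457)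
def n193940 : Q := act 7 n102489
theorem D193940 : act 7 n102489 = n193940 := rfl
theorem F391462 : act 2 n193940 = n193489 := d4_1 D193940 F391236 (iv2 F157434)
theorem F391463 : act 4 n193940 = n102492 := d11_1 D193940 (iv7 D102492) (iv4 F157435)
theorem F391464 : act 6 n193940 = n193618 := d14_1 D193940 (iv7 D193618) (iv6 D102022) (iv7 F74737) D102489
theorem F391465 : act 1 n193491 = n193940 := d15_1 F390035 (iv7 D193940) F157434
theorem F391466 : act 1 n193940 = n192112 := d15_1 F391465 (iv7 F391456) (iv2 F391459)
theorem F391467 : act 0 n138223 = n193934 := d20_4 (iv4 F220756) F221402 F221399 (iv3 F221392) F391441 (iv4 F391463) (iv1 F391465) F390034 (iv3 F365729) (iv1 D137598)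
def n193941 : Q := act 4 n102490
theorem D193941 : act 4 n102490 = n193941 := rfl
def n193942 : Q := act 5 n102490
theorem D193942 : act 5 n102490 = n193942 := rfl
theorem F391468 : act 2 n193942 = n192341 := d2_1 D193942 F386516 F383652
theorem F391469 : act 3 n193942 = n110914 := d6_1 D193942 (iv5 F332948) (iv3 F366767)
theorem F391470 : act 6 n193942 = n162025 := d12_2 F311713 D193942 (iv5 D162025) (iv6 F304329) D124371
theorem F391471 : act 7 n193942 = n139309 := d13_2 F385916 D193942 F385917
theorem F391472 : act 0 n193942 = n141127 := d21_4 (iv5 F136722) F343473 D162025 (iv6 F391470) (iv6 D141127) (iv5 F361316) (iv1 F350410) (iv5 F350400) (iv6 F350401) (iv1 F152917)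
theorem F391473 : act 4 n140344 = n193942 := d5_0 F391469 (iv4 F171828) F168218 D65874 D140344
def n193943 : Q := act 3 n102491
theorem D193943 : act 3 n102491 = n193943 := rfl
theorem F391474 : act 2 n193943 = n143874 := d0_1 D193943 F226491 (iv2 F222501) (iv3 F385918) (iv2 F385919)
theorem F391475 : act 4 n123234 = n193943 := d19_2 D57363 D123234 (iv3 D193943) (iv1 D102491) (iv5 F152930) (iv4 F155592) (iv3 F388270) F389193 F389192 F351690 F323460 (iv1 F323619) (iv5 D55872) F43472 F298780 F297482 (iv5 D13147) (iv4 F21925) (iv3 F44380)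
theorem F391476 : act 5 n193943 = n141179 := d16_3 (iv4 D123233) D123234 F391475 F361960 (iv5 F320989) (iv4 F309378) D74958 F311603 (iv2 F307788)
theorem F391477 : act 0 n193943 = n102594 := d18_2 F386278 F391475 F365557 (iv5 D152026) F108160 D71675 (iv4 F312012) (iv0 F351962) D192281
def n193944 : Q := act 4 n102491
theorem D193944 : act 4 n102491 = n193944 := rfl
def n193945 : Q := act 5 n102491
theorem D193945 : act 5 n102491 = n193945 := rfl
theorem F391478 : act 2 n193945 = n139309 := d2_1 D193945 F385917 (iv2 F385919)
theorem F391479 : act 3 n193945 = n141179 := d6_1 D193945 (iv5 F391476) (iv3 D193943)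
theorem F391480 : act 7 n193945 = n192341 := d13_2 (iv7 F383654) D193945 F386516
theorem F391481 : act 0 n141127 = n193945 := d21_10 (iv5 D193945) (iv1 D102491) (iv5 F152930) (iv6 D99319) (iv1 F73308) (iv6 F329480) D65394 D139325 F361316 D141127
theorem F391482 : act 6 n188089 = n193945 := d21_5 F34965 (iv1 F65667) D42517 D90795 D188089 (iv5 D193945) (iv1 D102491) (iv5 F152930) (iv6 D99319) (iv1 F73308)
def n193946 : Q := act 6 n102491
theorem D193946 : act 6 n102491 = n193946 := rfl
def n193947 : Q := act 3 n102493
theorem D193947 : act 3 n102493 = n193947 := rfl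
theorem F391483 : act 5 n193947 = n189981 := d6_2 (iv5 F353168) D193947 (iv3 F378424)
theorem F391484 : act 7 n193947 = n103166 := d8_2 (iv7 F385996) D193947 (iv3 F385993)
theorem F391485 : act 4 n193947 = n174387 := d20_6 (iv4 D47541) (iv1 D22844) D22845 D47544 D102493 D193947 F365701 (iv4 F365696) (iv3 D99780) (iv1 F74739)
theorem F391486 : act 2 n103167 = n193947 := d1_3 F391485 F390351 F390350
theorem F391487 : act 0 n103039 = n193947 := d18_0 F391485 F365701 (iv4 F365696) (iv5 F363715) F315634 (iv0 D58120) F44724 D47769 D103039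
theorem F391488 : act 1 n103035 = n193947 := d15_0 (iv0 F391487) F319860 (iv2 F319841)
theorem F391489 : act 6 n103247 = n193947 := d12_0 F391483 (iv6 F380999) F380995 D191012 F381872
def n193948 : Q := act 4 n102493
theorem D193948 : act 4 n102493 = n193948 := rfl
theorem F391490 : act 3 n193948 = n115596 := d19_3 F261597 (iv5 F353168) D193948 (iv1 D115596) D115597 F352986 (iv3 D102351) F74672 (iv5 F290691) (iv4 D90145) D90144 F142983 (iv5 D42180) (iv4 F34480) F34479 (iv1 F63435) D41490 D88878 (iv3 F353148)
theorem F391491 : act 0 n115644 = n193948 := d20_7 (iv4 F343373) F390489 (iv4 D193626) F339835 D178713 F366575 (iv4 F366576) (iv4 D193948) D193947 (iv1 F391488)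
def n193949 : Q := act 6 n102493
theorem D193949 : act 6 n102493 = n193949 := rfl
theorem F391492 : act 3 n193949 = n103247 := d7_1 D193949 F391489 (iv3 D193947)
def n193950 : Q := act 4 n102494
theorem D193950 : act 4 n102494 = n193950 := rfl
theorem F391493 : act 0 n193950 = n115644 := d18_2 (iv1 F353159) D193950 F366576 (iv5 D149223) (iv4 D70040) F106355 (iv4 F158908) F158913 D149231
def n193951 : Q := act 6 n102494
theorem D193951 : act 6 n102494 = n193951 := rfl
def n193952 : Q := act 6 n102495
theorem D193952 : act 6 n102495 = n193952 := rfl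
theorem F391494 : act 2 n193952 = n102496 := d3_1 D193952 (iv6 D102496) D102495
theorem F391495 : act 4 n193952 = n116585 := d10_1 D193952 (iv6 F391303) F391302
theorem F391496 : act 5 n193952 = n147670 := d12_1 D193952 (iv6 F353239) (iv5 F224601) (iv6 F346222) (iv5 F353162)
theorem F391497 : act 7 n116583 = n193952 := d13_0 F391496 (iv7 F349835) (iv5 F349836)
def n193953 : Q := act 1 n102496
theorem D193953 : act 1 n102496 = n193953 := rfl
theorem F391498 : act 1 n193953 = n116583 := d15_1 D193953 F391497 F391494
theorem F391499 : act 4 n193953 = n115627 := d17_9 (iv1 F179994) (iv5 D53335) (iv1 D25848) D25850 D53342 D115661 (iv0 F180031) (iv5 F344567) D193953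
theorem F391500 : act 6 n188401 = n193953 := d21_3 (iv5 F369783) (iv1 F369785) D188401 (iv1 D193953) (iv6 D102496) F340926 (iv1 D70044) D70045 F106430 D103028
theorem F391501 : act 3 n193953 = n188402 := d7_1 F391500 (iv6 D188402) (iv3 F373304)
def n193954 : Q := act 7 n102496
theorem D193954 : act 7 n102496 = n193954 := rfl
theorem F391502 : act 2 n193954 = n116583 := d4_1 D193954 F391497 F391494
theorem F391503 : act 3 n193954 = n102500 := d8_1 D193954 (iv7 D102500) (iv3 F157436)
theorem F391504 : act 4 n193954 = n116544 := d11_1 D193954 F181887 (iv4 F344566)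
theorem F391505 : act 5 n193954 = n109771 := d13_1 D193954 (iv7 F174628) (iv5 F344567)
def n193955 : Q := act 2 n102502
theorem D193955 : act 2 n102502 = n193955 := rfl
theorem F391506 : act 3 n193955 = n136106 := d0_2 D102502 D193955 F385949 (iv3 D192194) F344576
theorem F391507 : act 7 n193955 = n137889 := d4_2 F385953 D193955 (iv2 F385955)
theorem F391508 : act 1 n193955 = n137892 := d15_0 (iv0 F385954) F385953 D193955
theorem F391509 : act 1 n137883 = n193955 := d15_0 F391508 (iv7 D137892) (iv2 F221111)
theorem F391510 : act 5 n180610 = n193955 := d6_0 F391506 (iv5 F360612) (iv3 F355562)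
def n193956 : Q := act 4 n102502
theorem D193956 : act 4 n102502 = n193956 := rfl
theorem F391511 : act 0 n193229 = n193956 := d20_1 (iv4 F389249) (iv4 D193956) (iv3 D102502) (iv1 F153715) F324391 F221288 (iv1 D138025) (iv4 F184214) F365533 F365535
def n193957 : Q := act 5 n102502
theorem D193957 : act 5 n102502 = n193957 := rfl
theorem F391512 : act 2 n193957 = n180610 := d2_1 D193957 F391510 (iv2 D193955)
theorem F391513 : act 3 n193957 = n102504 := d6_1 D193957 (iv5 D102504) D102502
theorem F391514 : act 0 n193957 = n147368 := d18_0 (iv4 D147368) (iv1 D69088) (iv4 F85468) F329018 (iv4 F165218) (iv0 F362569) F172313 (iv0 F362568) D193957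
theorem F391515 : act 4 n193957 = n112119 := d19_2 (iv1 F391207) D193957 (iv3 D112119) F81647 (iv5 D51012) F38836 F24058 (iv1 F19588) (iv5 D11655) (iv4 F10109) (iv3 F8699) F19349 D11404 D24241 D49704 D107591 F334615 (iv4 F275409) (iv3 F391204)
theorem F391516 : act 0 n147363 = n193957 := d18_2 D69087 D147363 F391515 F174329 F93465 D125994 (iv4 F352286) F352285 (iv5 D69090)
def n193958 : Q := act 6 n102502
theorem D193958 : act 6 n102502 = n193958 := rfl
theorem F391517 : act 3 n193958 = n102505 := d7_1 D193958 (iv6 D102505) D102502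
def n193959 : Q := act 3 n102503
theorem D193959 : act 3 n102503 = n193959 := rfl
theorem F391518 : act 2 n193959 = n109257 := d0_1 D193959 F169220 F79774 (iv3 F79825) (iv2 F344551)
theorem F391519 : act 5 n193959 = n109256 := d6_2 (iv5 F344552) D193959 F169219
theorem F391520 : act 7 n193959 = n103877 := d8_2 (iv7 F344553) D193959 (iv3 F352906)
theorem F391521 : act 4 n193959 = n111024 := d20_6 (iv4 D66271) (iv1 F111172) (iv4 F206729) (iv3 F344586) (iv1 F344550) D193959 (iv1 D111024) (iv4 F172127) F172126 F101857
theorem F391522 : act 3 n193956 = n111024 := d5_5 (iv4 F391521) (iv3 D193959) (iv4 D102503) D102502 D193956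
def n193960 : Q := act 6 n102503
theorem D193960 : act 6 n102503 = n193960 := rfl
theorem F391523 : act 2 n193960 = n109337 := d3_1 D193960 (iv6 D109337) (iv2 F344551)
theorem F391524 : act 4 n193960 = n102505 := d10_1 D193960 (iv6 D102505) D102503
theorem F391525 : act 5 n193960 = n163269 := d12_1 D193960 (iv6 D163269) (iv5 D78469) F326135 (iv5 F344552)
theorem F391526 : act 7 n193960 = n193476 := d14_2 (iv7 F344553) D193960 (iv6 F389987) (iv7 F159297) F352905
theorem F391527 : act 0 n190927 = n193960 := d21_4 D191522 (iv1 F385546) (iv5 D192100) (iv6 F381570) (iv6 D193960) F344552 (iv1 F81562) (iv5 F169709) (iv6 F359476) (iv1 F272741)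
theorem F391528 : act 0 n166694 = n190921 := d21_4 (iv5 D36444) D36441 D80005 D166694 F381554 D190927 F391527 F391525 (iv6 D163269) F119671
theorem F391529 : act 1 n193477 = n193960 := d17_6 F356251 (iv5 D97051) (iv1 F137980) D187293 (iv4 F381972) (iv5 F389991) F391525 F390665 F390663
def n193961 : Q := act 1 n102504
theorem D193961 : act 1 n102504 = n193961 := rfl
theorem F391530 : act 1 n193961 = n102509 := d15_1 D193961 (iv7 F380373) F380370
theorem F391531 : act 7 n193961 = n123245 := d15_2 (iv0 F349495) D193961 F321935
theorem F391532 : act 4 n193961 = n109622 := d17_9 (iv1 F387921) F387923 (iv1 D112148) D112150 (iv4 F174381) (iv5 F324393) F153715 D102504 D193961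
theorem F391533 : act 3 n123249 = n193961 := d20_9 F349496 (iv1 F320049) (iv4 F319204) F349945 F349944 F355543 (iv4 F355551) (iv1 F197546) (iv4 F197535) (iv1 D193961)
theorem F391534 : act 2 n193961 = n117780 := d0_1 F391533 (iv3 D117780) F205091 D67189 (iv2 F324900)
def n193962 : Q := act 6 n102504
theorem D193962 : act 6 n102504 = n193962 := rfl
theorem F391535 : act 4 n193962 = n112114 := d10_1 D193962 (iv6 D112114) (iv4 F349496)
theorem F391536 : act 0 n193962 = n143512 := d21_10 F391342 (iv1 D191466) (iv5 F157447) (iv6 D102518) (iv1 D47551) (iv6 F74746) (iv5 D47548) D47546 D102504 D193962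
def n193963 : Q := act 0 n102505
theorem D193963 : act 0 n102505 = n193963 := rfl
def n193964 : Q := act 5 n102505
theorem D193964 : act 5 n102505 = n193964 := rfl
theorem F391537 : act 2 n193964 = n187144 := d2_1 D193964 (iv5 F385952) F385950
theorem F391538 : act 4 n193964 = n182928 := d16_6 D182924 F353205 (iv4 F257579) (iv5 F391525) F391524 D193964 (iv5 D182928) (iv7 F284516) F284515
theorem F391539 : act 0 n193964 = n186010 := d21_1 D193964 F288579 (iv6 D89588) F64503 (iv6 F72641) (iv5 D46062) D46060 D98494 D191517 F383647
theorem F391540 : act 1 n193964 = n187145 := d15_1 (iv0 F391539) (iv7 D187145) (iv2 F288578)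
theorem F391541 : act 7 n187143 = n193964 := d11_0 F391538 (iv7 F384266) F384269
def n193965 : Q := act 7 n102505
theorem D193965 : act 7 n102505 = n193965 := rfl
theorem F391542 : act 4 n193965 = n193476 := d11_1 D193965 (iv7 F391526) F391524
theorem F391543 : act 5 n193965 = n187143 := d13_1 D193965 F391541 (iv5 D193964)
def n193966 : Q := act 2 n102507
theorem D193966 : act 2 n102507 = n193966 := rfl
theorem F391544 : act 3 n193966 = n137889 := d0_2 D102507 D193966 (iv2 F385955) (iv3 D192196) F344556
theorem F391545 : act 5 n193966 = n117536 := d2_2 (iv5 F349490) D193966 (iv2 F349468)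
theorem F391546 : act 7 n193966 = n136106 := d4_2 F385946 D193966 F385949
theorem F391547 : act 1 n193966 = n136100 := d15_0 F385948 F385946 D193966
theorem F391548 : act 1 n117440 = n193966 := d15_0 F391547 (iv7 F386246) F386243
def n193967 : Q := act 6 n102507
theorem D193967 : act 6 n102507 = n193967 := rfl
theorem F391549 : act 3 n193967 = n102510 := d7_1 D193967 (iv6 D102510) D102507
theorem F391550 : act 0 n136590 = n193967 := d20_4 (iv4 F217020) (iv1 F217025) F201775 (iv3 F219669) F391549 F363549 (iv1 F352883) F165087 F99920 D64182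
theorem F391551 : act 1 n136582 = n193967 := d15_0 (iv0 F391550) (iv7 D136590) (iv2 F219666)
def n193968 : Q := act 0 n102510
theorem D193968 : act 0 n102510 = n193968 := rfl
def n193969 : Q := act 1 n102510
theorem D193969 : act 1 n102510 = n193969 := rfl
def n193970 : Q := act 5 n102510
theorem D193970 : act 5 n102510 = n193970 := rfl
theorem F391552 : act 1 n193970 = n193861 := d17_6 (iv1 F352900) F352902 (iv1 F340534) (iv5 F340546) (iv4 F363549) D193970 (iv5 D193861) (iv0 D102408) (iv4 F352889)
def n193971 : Q := act 7 n102510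
theorem D193971 : act 7 n102510 = n193971 := rfl
theorem F391553 : act 4 n193971 = n184401 := d11_1 D193971 F340544 (iv4 F363549)
theorem F391554 : act 3 n136587 = n193971 := d20_5 (iv4 F184230) F328404 F92811 (iv3 F100019) D136587 F391553 F340541 (iv4 F352876) F219628 F328849
theorem F391555 : act 7 n193967 = n136587 := d8_0 F391554 (iv7 D193971) (iv3 F391549)
def n193972 : Q := act 5 n102511
theorem D193972 : act 5 n102511 = n193972 := rfl
theorem F391556 : act 2 n193972 = n109720 := d2_1 D193972 F344560 F359449
theorem F391557 : act 4 n193972 = n109716 := d9_1 D193972 (iv5 D109716) F79980 F38659 (iv4 F79912) D109553 (iv4 F324384) F324385 (iv4 D112245) (iv5 D51773) F39555 F19698 (iv4 F39312) D51569 (iv4 F324387)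
def n193973 : Q := act 3 n102513
theorem D193973 : act 3 n102513 = n193973 := rfl
theorem F391558 : act 2 n193973 = n193736 := d0_1 D193973 F390824 (iv2 F224598) (iv3 F322925) (iv2 F157440)
theorem F391559 : act 4 n193973 = n134436 := d5_2 D102513 D193973 (iv3 D134436) (iv4 F343200) F157408
theorem F391560 : act 5 n193973 = n112157 := d6_2 (iv5 F324380) D193973 (iv3 D112157)
theorem F391561 : act 6 n193973 = n102519 := d7_2 (iv6 F157441) D193973 (iv3 D102519)
theorem F391562 : act 0 n137271 = n193973 := d20_4 F81401 (iv1 F161101) F161098 (iv3 F220413) (iv3 D193973) (iv4 D102513) D102511 F324387 F81395 D51571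
def n193974 : Q := act 1 n102518
theorem D193974 : act 1 n102518 = n193974 := rfl
theorem F391563 : act 1 n193974 = n187066 := d15_1 D193974 (iv7 D187066) (iv2 F157446)
theorem F391564 : act 7 n193974 = n187065 := d15_2 (iv0 F391340) D193974 (iv2 F391346)
theorem F391565 : act 3 n153629 = n193974 := d20_3 F115040 D76683 (iv4 F261541) (iv1 D193974) (iv3 F353231) (iv4 D117268) (iv1 D54045) (iv4 F85272) (iv3 F319683) F185064
theorem F391566 : act 4 n149230 = n193974 := d20_6 F317173 (iv1 D58121) F44724 (iv3 F51574) D70043 D149230 (iv1 D193974) F353230 F154893 (iv1 F147253)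
theorem F391567 : act 2 n193974 = n122704 := d1_1 F391566 F356536 (iv2 F353226)
def n193975 : Q := act 0 n102526
theorem D193975 : act 0 n102526 = n193975 := rfl
def n193976 : Q := act 1 n102526
theorem D193976 : act 1 n102526 = n193976 := rfl
theorem F391568 : act 1 n193976 = n186916 := d15_1 D193976 (iv7 D186916) (iv2 F157468)
theorem F391569 : act 5 n193081 = n193976 := d21_0 (iv1 D193976) F157470 (iv6 D48150) D48147 (iv6 F75646) (iv5 D47440) D47438 D102179 D193661 F390608
theorem F391570 : act 6 n154191 = n193976 := d21_3 F367305 F211629 F368377 (iv1 D193976) (iv6 D102526) (iv5 D47556) F35435 F58700 D41761 D89429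
def n193977 : Q := act 7 n102526
theorem D193977 : act 7 n102526 = n193977 := rfl
theorem F391571 : act 2 n193977 = n186916 := d4_1 D193977 (iv7 D186916) (iv2 F157468)
theorem F391572 : act 3 n193977 = n188429 := d8_1 D193977 (iv7 D188429) (iv3 F157469)
theorem F391573 : act 5 n193977 = n104016 := d13_1 D193977 (iv7 D104016) (iv5 F157470)
theorem F391574 : act 6 n193977 = n186862 := d14_1 D193977 (iv7 F368337) (iv6 D89379) (iv7 F74774) D102526
theorem F391575 : act 1 n186916 = n193975 := d15_0 (iv0 D193975) D193977 F391571
theorem F391576 : act 1 n186915 = n193977 := d15_1 D186915 (iv7 D193977) F157468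
theorem F391577 : act 1 n193977 = n186914 := d15_0 (iv0 D186914) D186916 (iv2 F391571)
def n193978 : Q := act 4 n102530
theorem D193978 : act 4 n102530 = n193978 := rfl
theorem F391578 : act 2 n193978 = n145784 := d1_1 D193978 (iv4 F346293) (iv2 F357755)
theorem F391579 : act 7 n193978 = n187073 := d11_2 (iv7 F157478) D193978 (iv4 D187073)
theorem F391580 : act 5 n193978 = n131473 := d17_5 (iv1 F368978) F368980 (iv1 D102528) D102530 D193978 F357115 F348500 F348501 (iv4 F343384)
theorem F391581 : act 1 n193978 = n191552 := d18_6 (iv1 F349295) F290624 F291619 (iv4 F291614) D102530 D193978 F383781 F368161 F360954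
theorem F391582 : act 6 n193978 = n145783 := d21_5 (iv5 D85031) (iv1 F155135) D119334 (iv6 F383779) (iv1 F391581) (iv5 F382018) (iv1 D191054) (iv5 F347934) (iv6 F347935) (iv1 F275800)
def n193979 : Q := act 6 n102530
theorem D193979 : act 6 n102530 = n193979 := rfl
theorem F391583 : act 2 n193979 = n117228 := d3_1 D193979 F346295 (iv2 F357755)
theorem F391584 : act 3 n193979 = n102532 := d7_1 D193979 (iv6 D102532) (iv3 F157477)
theorem F391585 : act 4 n193979 = n145783 := d10_1 D193979 (iv6 F391582) (iv4 D193978)
theorem F391586 : act 5 n193979 = n186648 := d12_1 D193979 (iv6 D186648) F291613 (iv6 F291615) D102530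
theorem F391587 : act 7 n146783 = n193979 := d8_0 F391584 (iv7 F378241) (iv3 F378250)
theorem F391588 : act 1 n146782 = n193979 := d15_1 D146782 (iv7 F391587) (iv2 D146783)
theorem F391589 : act 5 n152048 = n146782 := d17_7 F382019 (iv5 F357688) (iv1 D146164) F104741 (iv4 F106116) D148796 (iv0 F351275) F391588 F391585
theorem F391590 : act 6 n146782 = n118700 := d21_5 F368980 (iv1 D102528) D102530 D193979 (iv1 F391588) F186695 F112923 D158130 (iv6 F346299) (iv1 F368978)
theorem F391591 : act 6 n158963 = n187060 := d21_5 (iv5 F391589) F351275 (iv5 D148796) (iv6 F113792) D158963 F368980 (iv1 D102528) D102530 D193979 (iv1 F391588)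
theorem F391592 : act 2 n191412 = n158963 := d3_3 F391591 (iv2 F368982) D191412
theorem F391593 : act 5 n191582 = n158963 := d12_5 F391591 F368980 (iv6 F367759) (iv5 F367255) D191582
theorem F391594 : act 7 n158964 = n191412 := d15_2 (iv0 D158963) D158964 F391592
theorem F391595 : act 3 n118701 = n146782 := d7_3 F391590 (iv3 D118700) D118701
theorem F391596 : act 1 n193979 = n146781 := d15_0 (iv0 D146781) (iv7 F183422) (iv2 F391583)
def n193980 : Q := act 1 n102532
theorem D193980 : act 1 n102532 = n193980 := rfl
theorem F391597 : act 1 n193980 = n117235 := d15_1 D193980 F183437 (iv2 F346310)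
theorem F391598 : act 7 n193980 = n122636 := d15_2 (iv0 F366935) D193980 (iv2 F273606)
theorem F391599 : act 4 n192808 = n193980 := d20_0 (iv1 D193980) (iv4 F368506) (iv3 F380533) (iv1 F380537) F169496 (iv4 F80459) (iv1 F161143) F161140 (iv3 F244988) (iv1 F387861)
theorem F391600 : act 3 n122643 = n193980 := d20_3 F350756 (iv1 F197539) F197535 (iv1 D193980) (iv3 F391584) F391585 F382019 F248334 F191560 D120306
theorem F391601 : act 2 n193980 = n146802 := d0_1 F391600 (iv3 F321945) F321944 (iv3 F321947) F197543
theorem F391602 : act 6 n193980 = n193961 := d7_2 F197536 F391600 (iv3 F391533)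
def n193981 : Q := act 0 n102537
theorem D193981 : act 0 n102537 = n193981 := rfl
theorem F391603 : act 3 n193981 = n134352 := d20_5 (iv4 D117843) (iv1 F85644) D69599 (iv3 F355599) D193981 F363021 F363017 (iv4 F357153) F353606 F230225
theorem F391604 : act 4 n193981 = n187082 := d20_8 (iv4 D186927) (iv1 F289491) F362115 (iv3 D127651) D127650 (iv3 F368502) F368503 D193981 F369051 F368535
theorem F391605 : act 6 n187070 = n193981 := d10_0 F391604 (iv6 D187082) (iv4 F369025)
theorem F391606 : act 2 n193981 = n187077 := d3_1 F391605 F391344 (iv2 F369024)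
theorem F391607 : act 7 n134344 = n193981 := d15_2 (iv0 D187077) (iv0 F354735) F391606
def n193982 : Q := act 1 n102537
theorem D193982 : act 1 n102537 = n193982 := rfl
theorem F391608 : act 1 n193982 = n187078 := d15_1 D193982 (iv7 D187078) (iv2 F157500)
theorem F391609 : act 7 n193982 = n187077 := d15_2 (iv0 D193981) D193982 (iv2 F391606)
theorem F391610 : act 6 n134339 = n193982 := d21_3 (iv5 F354715) (iv1 F211378) D134339 (iv1 D193982) (iv6 D102537) (iv5 D47561) (iv1 D22858) D22860 D47567 D102556
theorem F391611 : act 5 n192743 = n193982 := d21_6 (iv5 D89548) F64476 F35083 D46918 D100580 D192743 (iv1 D193982) F157501 (iv6 D99380) (iv1 F137274)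
theorem F391612 : act 2 n193982 = n134344 := d3_1 F391610 (iv6 D134344) (iv2 F216345)
theorem F391613 : act 1 n187078 = n193981 := d15_1 F391608 (iv7 F391607) (iv2 F391612)
def n193983 : Q := act 7 n102537
theorem D193983 : act 7 n102537 = n193983 := rfl
theorem F391614 : act 2 n193983 = n187078 := d4_1 D193983 (iv7 D187078) (iv2 F157500)
theorem F391615 : act 3 n193983 = n117237 := d8_1 D193983 (iv7 F183442) (iv3 F355599)
theorem F391616 : act 4 n193983 = n190674 := d11_1 D193983 F380531 F368503
theorem F391617 : act 5 n193983 = n191958 := d13_1 D193983 (iv7 D191958) (iv5 F157501)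
theorem F391618 : act 6 n193983 = n117235 := d14_1 D193983 F183437 F346308 (iv7 F74791) D102537
theorem F391619 : act 1 n134344 = n193983 := d15_1 (iv0 F354735) (iv7 D193983) F157500
theorem F391620 : act 1 n193983 = n187077 := d15_1 F391619 (iv7 F391609) F391612
theorem F391621 : act 1 n192723 = n190123 := d17_8 F378756 (iv5 F379277) F379279 (iv5 F380532) (iv4 F391616) F391617 F385001 D192723 (iv4 D190123)
def n193984 : Q := act 5 n102544
theorem D193984 : act 5 n102544 = n193984 := rfl
theorem F391622 : act 3 n193984 = n102546 := d6_1 D193984 (iv5 D102546) D102544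
theorem F391623 : act 7 n193984 = n187069 := d13_2 F290043 D193984 F369021
theorem F391624 : act 4 n193984 = n187434 := d17_4 (iv1 F336780) (iv5 F385365) F385366 D193984 (iv5 F371352) (iv0 F372616) (iv5 D151406) F186616 F349042
theorem F391625 : act 1 n193984 = n191405 := d17_8 (iv1 F368487) F368485 (iv1 D114937) (iv5 D53034) D53033 D114934 (iv0 F356346) D193984 F383374
theorem F391626 : act 6 n187433 = n193984 := d10_0 F391624 (iv6 D187434) D187433
def n193985 : Q := act 6 n102546
theorem D193985 : act 6 n102546 = n193985 := rfl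
theorem F391627 : act 2 n193985 = n134349 := d3_1 D193985 F364410 F335627
theorem F391628 : act 3 n193985 = n187433 := d7_1 D193985 F391626 F391622
theorem F391629 : act 4 n193985 = n187435 := d10_1 D193985 F370311 F364376
theorem F391630 : act 5 n193985 = n191938 := d12_1 D193985 (iv6 D191938) (iv5 D99354) F289893 D102546
theorem F391631 : act 7 n193985 = n134350 := d14_2 F335634 D193985 F374110 (iv7 F355553) (iv6 F335633)
theorem F391632 : act 0 n134050 = n193985 := d21_4 F48009 (iv1 F47920) D62968 D134050 (iv6 D193985) (iv5 D102546) (iv1 D47563) D47565 F327942 F96398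
theorem F391633 : act 0 n193985 = n134352 := d20_7 (iv4 F362581) (iv1 F368527) F368525 (iv3 F368469) (iv1 F368472) D187435 (iv4 F391629) F363021 F137227 D89532
def n193986 : Q := act 3 n102556
theorem D193986 : act 3 n102556 = n193986 := rfl
theorem F391634 : act 2 n193986 = n125097 := d0_1 D193986 F200967 (iv2 F230305) F354736 F354733
theorem F391635 : act 7 n193986 = n158965 := d8_2 F354724 D193986 (iv3 F354743)
theorem F391636 : act 4 n193986 = n125094 := d20_6 (iv4 F100769) (iv1 F100770) (iv4 F96397) (iv3 F327937) D102556 D193986 (iv1 F200963) (iv4 F331622) F98353 (iv1 F80579)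
theorem F391637 : act 1 n158964 = n193986 := d15_1 D158964 F391635 (iv2 D158965)
theorem F391638 : act 1 n193986 = n158963 := d15_0 (iv0 D158963) (iv7 F200968) (iv2 F391634)
def n193987 : Q := act 4 n102556
theorem D193987 : act 4 n102556 = n193987 := rfl
theorem F391639 : act 2 n193987 = n186969 := d1_1 D193987 F368711 F354733
theorem F391640 : act 3 n193987 = n179299 := d5_1 D193987 (iv4 D179299) (iv3 F200961) (iv4 F391636) (iv3 D193986)
theorem F391641 : act 7 n193987 = n186970 := d11_2 F354724 D193987 (iv4 F368714)
theorem F391642 : act 0 n179299 = n111845 := d19_4 D131919 F354715 D193987 F391640 (iv5 F336225) (iv4 D112993) F82438 (iv1 F46636) (iv5 D29002) (iv4 D13803) (iv3 F23049) D28990 F46612 (iv4 F48129) F48128 (iv1 F40233) F40230 D29330 D61901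
theorem F391643 : act 0 n193987 = n186971 := d20_1 D193987 F368715 (iv3 F368707) (iv1 F370360) F171574 (iv4 F100769) (iv1 F100770) (iv4 F96397) (iv3 F327937) D102556
theorem F391644 : act 6 n190849 = n193987 := d7_0 F391640 (iv6 F378975) (iv3 F381321)
theorem F391645 : act 0 n186577 = n193987 := d20_4 (iv4 D117210) D117207 (iv4 F378656) F378655 F391640 (iv4 D179299) (iv1 F339812) F175185 F173486 F190206
def n193988 : Q := act 6 n102556
theorem D193988 : act 6 n102556 = n193988 := rfl
theorem F391646 : act 2 n193988 = n190850 := d3_1 D193988 F381325 F354733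
theorem F391647 : act 4 n193988 = n190849 := d10_1 D193988 F391644 (iv4 D193987)
theorem F391648 : act 0 n193988 = n192326 := d21_4 (iv5 D131922) D131919 F354715 D193988 (iv6 D192326) (iv5 F306529) F306528 F304511 D189843 (iv1 F377963)
theorem F391649 : act 7 n193988 = n190917 := d15_2 (iv0 F386446) (iv0 F391648) F381544
def n193989 : Q := act 4 n102557
theorem D193989 : act 4 n102557 = n193989 := rfl
theorem F391650 : act 2 n193989 = n186970 := d1_1 D193989 (iv4 F368714) F354723
theorem F391651 : act 3 n193989 = n120557 := d5_1 D193989 (iv4 D120557) F87801 (iv4 F105059) (iv3 F354737)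
theorem F391652 : act 6 n193989 = n127445 := d10_2 (iv6 F354738) D193989 F204855
theorem F391653 : act 7 n193989 = n186969 := d11_2 F354734 D193989 F368711
theorem F391654 : act 0 n193989 = n186577 := d20_1 D193989 F367292 (iv3 F352609) (iv1 D147018) (iv3 F225532) (iv4 D142649) (iv1 F326891) (iv4 F103048) (iv3 F333144) (iv1 F333149)
theorem F391655 : act 0 n186971 = n193989 := d20_7 (iv4 F233901) F233900 (iv4 F230333) (iv3 F370354) F370357 F368707 (iv4 F368715) (iv4 D193989) F354737 D146917
def n193990 : Q := act 4 n102562
theorem D193990 : act 4 n102562 = n193990 := rfl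
theorem F391656 : act 6 n193990 = n135503 := d10_2 (iv6 F349110) D193990 (iv4 D135503)
theorem F391657 : act 0 n193990 = n187748 := d18_2 (iv1 F374593) D193990 (iv4 D187748) (iv5 F251695) (iv4 F384679) (iv0 F384681) F369135 F376879 F376876
theorem F391658 : act 1 n193990 = n187744 := d18_6 D42367 D90526 (iv1 F153407) F153404 D102562 D193990 (iv4 D187744) (iv0 D90533) (iv5 D42369)
theorem F391659 : act 3 n188792 = n193990 := d20_9 (iv4 D187748) (iv1 D90534) D90535 D187752 F371405 F371165 (iv4 F371169) (iv1 F371171) (iv4 F374907) F391657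
def n193991 : Q := act 6 n102564
theorem D193991 : act 6 n102564 = n193991 := rfl
theorem F391660 : act 2 n193991 = n102569 := d3_1 D193991 (iv6 D102569) (iv2 F157527)
theorem F391661 : act 3 n193991 = n115181 := d7_1 D193991 F179356 F359553
theorem F391662 : act 4 n193991 = n135757 := d10_1 D193991 F218293 (iv4 F349129)
theorem F391663 : act 7 n193991 = n115176 := d14_2 (iv7 F349115) D193991 (iv6 D115176) F83888 D115110
theorem F391664 : act 0 n159875 = n193991 := d21_4 (iv5 D105745) (iv1 F77010) D76536 D159875 (iv6 D193991) (iv5 D102564) (iv1 F290151) (iv5 F204900) (iv6 D127473) (iv1 F162387)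
def n193992 : Q := act 3 n102566
theorem D193992 : act 3 n102566 = n193992 := rfl
theorem F391665 : act 4 n193992 = n113310 := d5_2 (iv4 F349120) D193992 F176515 F82682 (iv3 F83101)
theorem F391666 : act 6 n193992 = n113309 := d7_2 (iv6 F349121) D193992 F176514
theorem F391667 : act 0 n187639 = n193992 := d20_4 D185883 (iv1 F371083) (iv4 D187640) (iv3 F371082) (iv3 D193992) F349120 D113897 F349122 (iv3 F288320) F288323
def n193993 : Q := act 5 n102566
theorem D193993 : act 5 n102566 = n193993 := rfl
theorem F391668 : act 2 n193993 = n187116 := d2_1 D193993 F374577 F374578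
theorem F391669 : act 6 n193993 = n187113 := d12_2 (iv6 F349121) D193993 F369125 F335903 (iv5 D113895)
theorem F391670 : act 7 n193993 = n187115 := d13_2 (iv7 F374572) D193993 (iv5 F374568)
theorem F391671 : act 1 n193993 = n186584 := d17_8 F157695 (iv5 D102593) (iv1 F153687) (iv5 D99822) (iv4 F142887) (iv5 F349113) (iv0 F349119) D193993 F367317
theorem F391672 : act 0 n193993 = n187117 := d18_0 F369141 F157697 (iv4 F144607) (iv5 F159972) F349132 (iv0 D135553) (iv4 F179256) (iv0 F349119) D193993
def n193994 : Q := act 4 n102567
theorem D193994 : act 4 n102567 = n193994 := rfl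
theorem F391673 : act 2 n193994 = n113900 := d1_1 D193994 (iv4 F374567) (iv2 F374570)
theorem F391674 : act 7 n193994 = n113894 := d11_2 F374574 D193994 (iv4 F374579)
theorem F391675 : act 0 n193994 = n187742 := d18_2 (iv1 F361066) D193994 (iv4 D187742) (iv5 D90531) (iv4 F73563) D99653 F153404 F142890 (iv5 F349113)
theorem F391676 : act 1 n193994 = n113897 := d18_6 F369182 (iv4 F376318) (iv1 F384226) F384223 (iv5 F361067) D193994 F349122 (iv0 F363810) (iv5 F369181)
theorem F391677 : act 3 n193994 = n193350 := d20_9 (iv4 D101483) D101481 F328115 (iv3 D135563) (iv1 D63739) (iv3 F99098) (iv4 F179256) (iv1 F361066) D193994 (iv1 D193350)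
theorem E103566 : n187742 = n113898 := ((c15_1 D113898 (iv0 F391675) F391674 F177197)).symm
theorem F391678 : act 1 n113898 = n193994 := (sb E103566 (iv0 F391675))
theorem F391679 : act 4 n113898 = n90531 := (sb E103566 (iv4 D187742))
def n193995 : Q := act 6 n102567
theorem D193995 : act 6 n102567 = n193995 := rfl
theorem F391680 : act 2 n193995 = n135755 := d3_1 D193995 (iv6 F374571) (iv2 F374570)
theorem F391681 : act 3 n193995 = n191795 := d7_1 D193995 F384473 F374685
theorem F391682 : act 5 n193995 = n191709 := d12_1 D193995 (iv6 D191709) (iv5 D98698) D98699 (iv5 F361067)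
theorem F391683 : act 7 n193995 = n135754 := d14_2 F374574 D193995 F359587 F229663 F374576
theorem F391684 : act 0 n193995 = n135749 := d21_4 F371347 (iv1 F369143) (iv5 F361067) D193995 (iv6 D135749) D135748 (iv1 F218282) F349125 D135707 (iv1 F371348)
theorem F391685 : act 1 n193995 = n135757 := d15_1 (iv0 F391684) (iv7 D135757) (iv2 F218284)
def n193996 : Q := act 3 n102568
theorem D193996 : act 3 n102568 = n193996 := rfl
theorem F391686 : act 2 n193996 = n132790 := d0_1 D193996 F213271 (iv2 F99103) (iv3 F217979) F349128
theorem F391687 : act 4 n193996 = n102576 := d5_2 D102568 D193996 (iv3 D102576) (iv4 D47576) (iv3 F74812)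
theorem F391688 : act 7 n193996 = n132776 := d8_2 (iv7 F349130) D193996 (iv3 F217975)
theorem F391689 : act 6 n189771 = n193996 := d14_5 F391688 (iv6 D132776) F97164 D130125 (iv7 F377689)
theorem F391690 : act 1 n132788 = n193996 := d15_1 D132788 F391688 F213247
theorem F391691 : act 1 n193996 = n132787 := d15_0 (iv0 D132787) D132790 (iv2 F391686)
theorem F391692 : act 7 n132787 = n105301 := d15_2 F391690 F391691 (iv2 F366123)
theorem F391693 : act 3 n105305 = n132787 := d8_3 F391692 F161460 D105305
theorem F391694 : act 6 n113684 = n132787 := d14_5 F391692 (iv6 D105301) F76614 D52491 D113684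
theorem E103567 : n113903 = n113541 := (c20_1 D113903 (iv1 F204680) F204676 F391693 (iv1 F391691) (iv3 D193996) (iv4 D102568) D102566 F349120 F83101 D52586)
theorem F391695 : act 2 n113541 = n106586 := (sb E103567 (iv2 F362107))
theorem F391696 : act 3 n113541 = n131943 := (sb E103567 F362108)
theorem F391697 : act 4 n113541 = n52586 := (sb E103567 (iv4 D113903))
theorem F391698 : act 6 n113541 = n106584 := (sb E103567 F362109)
theorem F391699 : act 7 n113541 = n127369 := (sb E103567 F362106)
theorem E103568 : n113908 = n113542 := ((c20_8 F327477 (iv1 D30007) (iv4 F48199) (iv3 F97185) D132787 (iv3 F391693) (iv4 F204676) (iv1 F204679) (iv4 D113908) (iv3 F327706) F327989)).symm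
theorem F391700 : act 2 n113542 = n127369 := (sb E103568 F362104)
theorem F391701 : act 3 n113542 = n106591 := (sb E103568 F345935)
theorem F391702 : act 4 n113542 = n52587 := (sb E103568 (iv4 D113908))
theorem F391703 : act 6 n113542 = n131989 := (sb E103568 (iv6 F345936))
theorem F391704 : act 7 n113542 = n106586 := (sb E103568 (iv7 F345937))
def n193997 : Q := act 5 n102568
theorem D193997 : act 5 n102568 = n193997 := rfl
theorem F391705 : act 0 n193997 = n188692 := d17_2 (iv1 F349131) D193997 F374482 F183747 F85347 D90521 D187738 (iv0 F371379) F349132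
def n193998 : Q := act 6 n102568
theorem D193998 : act 6 n102568 = n193998 := rfl
theorem F391706 : act 2 n193998 = n135757 := d3_1 D193998 F218293 F349128
theorem F391707 : act 3 n193998 = n189771 := d7_1 D193998 F391689 (iv3 D193996)
theorem F391708 : act 4 n193998 = n102569 := d10_1 D193998 (iv6 D102569) D102568
theorem F391709 : act 7 n193998 = n135749 := d14_2 (iv7 F349130) D193998 (iv6 D135749) F99224 D135548
theorem F391710 : act 0 n135754 = n193998 := d21_4 (iv5 F231798) (iv1 D147973) F229664 (iv6 F359587) (iv6 D193998) D193997 F391705 F374482 (iv6 D117338) D117334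
theorem F391711 : act 1 n135755 = n193998 := d15_0 (iv0 F391710) (iv7 F391683) F391680
def n193999 : Q := act 0 n102569
theorem D193999 : act 0 n102569 = n193999 := rfl
def n194000 : Q := act 7 n102569
theorem D194000 : act 7 n102569 = n194000 := rfl
theorem F391712 : act 2 n194000 = n115176 := d4_1 D194000 (iv7 F391663) F391660
theorem F391713 : act 3 n194000 = n102579 := d8_1 D194000 (iv7 D102579) (iv3 F157530)
theorem F391714 : act 4 n194000 = n135749 := d11_1 D194000 (iv7 F391709) F391708
theorem F391715 : act 6 n194000 = n115174 := d14_1 D194000 F179336 (iv6 F349017) F142892 D102569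
theorem F391716 : act 1 n115176 = n193999 := d15_0 (iv0 D193999) D194000 F391712
theorem F391717 : act 1 n159875 = n194000 := d15_1 (iv0 F391664) (iv7 D194000) (iv2 F391660)
theorem F391718 : act 7 n193999 = n159875 := d15_2 (iv0 F363718) F391716 F252084
def n194001 : Q := act 4 n102572
theorem D194001 : act 4 n102572 = n194001 := rfl
theorem F391719 : act 7 n194001 = n189769 := d11_2 (iv7 F157532) D194001 (iv4 D189769)
def n194002 : Q := act 7 n102573
theorem D194002 : act 7 n102573 = n194002 := rfl
theorem F391720 : act 5 n194002 = n192805 := d13_1 D194002 F387840 (iv5 F367267)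
theorem F391721 : act 6 n194002 = n189772 := d14_1 D194002 (iv7 D189772) F145637 F74817 D102573
theorem F391722 : act 0 n187727 = n194002 := d21_4 (iv5 D48688) (iv1 F65416) D90495 D187727 F391721 F377696 (iv1 F369271) (iv5 F369274) (iv6 D113673) (iv1 F82931)
def n194003 : Q := act 4 n102574
theorem D194003 : act 4 n102574 = n194003 := rfl
theorem F391723 : act 3 n194003 = n124607 := d5_1 D194003 (iv4 F348862) (iv3 D185796) F135468 D102574
theorem F391724 : act 5 n194003 = n124606 := d16_3 F291300 F290838 D194003 (iv4 F299401) F361715 F361713 (iv5 F370035) F370036 F150104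
theorem F391725 : act 0 n194003 = n128893 := d17_0 (iv5 D128893) (iv1 F362299) (iv5 D127407) F94261 (iv5 F68107) F135437 (iv5 F176890) F288022 D194003
def n194004 : Q := act 6 n102574
theorem D194004 : act 6 n102574 = n194004 := rfl
theorem F391726 : act 3 n194004 = n102575 := d7_1 D194004 (iv6 D102575) D102574
theorem F391727 : act 5 n194004 = n112939 := d12_1 D194004 (iv6 F291540) (iv5 D89650) D89651 F290838
theorem F391728 : act 4 n194004 = n131987 := d20_6 (iv4 D63837) (iv1 F48411) (iv4 F98448) (iv3 F208660) (iv1 F366226) (iv3 F391726) (iv1 D131987) (iv4 F99320) F99319 (iv1 F168174)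
theorem F391729 : act 6 n131987 = n194003 := d10_2 D194004 F391728 (iv4 D194003)
def n194005 : Q := act 3 n102578
theorem D194005 : act 3 n102578 = n194005 := rfl
theorem F391730 : act 2 n194005 = n127385 := d0_1 D194005 F204711 F94252 (iv3 F176886) F176885
theorem F391731 : act 7 n194005 = n127379 := d8_2 (iv7 F176884) D194005 F204702
theorem F391732 : act 0 n127383 = n194005 := d20_4 F367979 F371152 F371151 F204710 (iv3 D194005) (iv4 F363987) (iv1 D134593) F327295 (iv3 F160075) (iv1 F177214)
theorem F391733 : act 6 n130942 = n194005 := d14_5 F391731 (iv6 D127379) F94241 D113612 (iv7 F366032)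
theorem F391734 : act 1 n127384 = n194005 := d15_1 D127384 F391731 F204701
def n194006 : Q := act 5 n102578
theorem D194006 : act 5 n102578 = n194006 := rfl
theorem F391735 : act 7 n194006 = n189455 := d13_2 (iv7 F176884) D194006 (iv5 F376623)
theorem F391736 : act 4 n194006 = n189256 := d16_4 (iv4 F202702) F363988 F363987 D194006 (iv5 F376289) (iv4 F382777) F382778 F361881 (iv2 F358050)
theorem F391737 : act 0 n194006 = n133213 := d17_2 D102578 D194006 (iv5 D133213) F97479 D62543 (iv0 F337545) (iv5 D132887) (iv0 F321698) F157536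
def n194007 : Q := act 6 n102578
theorem D194007 : act 6 n102578 = n194007 := rfl
theorem F391738 : act 2 n194007 = n132787 := d3_1 D194007 (iv6 F391694) F176885
theorem F391739 : act 3 n194007 = n130942 := d7_1 D194007 F391733 (iv3 D194005)
theorem F391740 : act 4 n194007 = n129724 := d10_1 D194007 F364574 F363987
theorem F391741 : act 7 n194007 = n132788 := d14_2 (iv7 F176884) D194007 (iv6 F366122) F161450 D113675
theorem F391742 : act 5 n194007 = n188996 := d21_6 (iv5 D41295) F31083 D22872 D47577 D102578 D194007 (iv1 D188996) F143393 (iv6 D90502) (iv1 F65433)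
theorem F391743 : act 0 n132776 = n194007 := d21_4 (iv5 F323242) F323239 (iv5 F209525) D132776 (iv6 D194007) D194006 F391737 (iv5 D133213) (iv6 D62510) D62506
theorem F391744 : act 1 n132790 = n194007 := d15_0 (iv0 F391743) (iv7 F391688) F391686
def n194008 : Q := act 4 n102581
theorem D194008 : act 4 n102581 = n194008 := rfl
theorem F391745 : act 2 n194008 = n148456 := d1_1 D194008 (iv4 D148456) (iv2 F333312)
theorem F391746 : act 3 n194008 = n185303 := d5_1 D194008 F356791 D188269 F372911 F372619
theorem F391747 : act 5 n194008 = n154903 := d9_2 (iv5 F333313) D194008 (iv4 D154903) (iv5 F304981) (iv4 D117878) (iv5 D54295) D54294 (iv5 F333309) (iv4 F349290) (iv5 F349292) (iv4 D154901) F114895 (iv4 F306296) (iv5 D69559) D69558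
theorem F391748 : act 6 n194008 = n187582 := d10_2 F349280 D194008 F370887
theorem F391749 : act 7 n194008 = n192034 := d11_2 (iv7 F349282) D194008 F385296
theorem F391750 : act 0 n194008 = n192053 := d17_0 F385359 (iv1 D154810) D154811 F317606 (iv5 D73803) D73801 (iv5 F333301) D102581 D194008
theorem F391751 : act 1 n194008 = n159764 := d18_6 F369490 F183661 (iv1 F232246) D69558 (iv5 F333313) D194008 (iv4 D159764) (iv0 F161629) (iv5 F369488)
def n194009 : Q := act 1 n102585
theorem D194009 : act 1 n102585 = n194009 := rfl
theorem F391752 : act 1 n194009 = n192023 := d15_1 D194009 F385250 F356750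
theorem F391753 : act 7 n194009 = n192921 := d15_2 F385227 D194009 F388234
theorem F391754 : act 4 n139441 = n194009 := d20_0 (iv1 D194009) F356751 F142779 (iv1 F292936) (iv3 F73440) D99435 D191971 F385037 (iv3 F385220) (iv1 F385225)
theorem F391755 : act 2 n194009 = n192920 := d1_1 F391754 F388228 F385228
theorem F391756 : act 6 n194009 = n139439 := d10_2 D139441 F391754 (iv4 D139439)
def n194010 : Q := act 3 n102586
theorem D194010 : act 3 n102586 = n194010 := rfl
def n194011 : Q := act 5 n102586
theorem D194011 : act 5 n102586 = n194011 := rfl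
theorem F391757 : act 2 n194011 = n102600 := d2_1 D194011 (iv5 D102600) (iv2 F157546)
def n194012 : Q := act 1 n102587
theorem D194012 : act 1 n102587 = n194012 := rfl
theorem F391758 : act 1 n194012 = n102605 := d15_1 D194012 (iv7 D102605) (iv2 F157547)
theorem F391759 : act 7 n194012 = n102602 := d15_2 (iv0 F333121) D194012 F333116
theorem F391760 : act 3 n137298 = n194012 := d20_3 (iv4 F48811) D64531 D137298 (iv1 D194012) F333122 (iv4 F219202) F224174 (iv4 D137355) (iv3 D64566) (iv1 D30389)
theorem F391761 : act 2 n194012 = n102603 := d0_1 F391760 F333119 F176461 D64710 (iv2 F220444)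
theorem F391762 : act 4 n194012 = n143244 := d20_6 (iv4 F102542) (iv1 D59693) (iv4 F102776) D64800 F220446 F391760 (iv1 D143244) F103071 (iv3 D31240) (iv1 F49543)
theorem F391763 : act 3 n126874 = n143244 := d5_5 (iv4 F391762) (iv3 F391760) (iv4 D137298) D137297 F220439
def n194013 : Q := act 5 n102587
theorem D194013 : act 5 n102587 = n194013 := rfl
theorem F391764 : act 2 n194013 = n102604 := d2_1 D194013 (iv5 D102604) (iv2 F157547)
theorem F391765 : act 3 n194013 = n131030 := d6_1 D194013 F330986 (iv3 F333122)
theorem F391766 : act 6 n194013 = n102589 := d12_2 D102587 D194013 (iv5 D102589) (iv6 D47584) D47583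
theorem F391767 : act 7 n194013 = n136150 := d13_2 (iv7 F333124) D194013 (iv5 D136150)
theorem F391768 : act 0 n187759 = n194013 := d20_4 D64574 F100511 D90541 D187759 F391765 F209726 (iv1 F171555) (iv4 F98710) F327159 (iv1 D64573)
theorem F391769 : act 0 n194013 = n137698 := d20_4 F216008 (iv1 F171561) (iv4 F209726) (iv3 F391765) (iv3 D137698) F219126 (iv1 F202994) F345918 F216004 D134033
def n194014 : Q := act 4 n102589
theorem D194014 : act 4 n102589 = n194014 := rfl
theorem F391770 : act 2 n194014 = n102610 := d1_1 D194014 (iv4 D102610) (iv2 F157685)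
theorem F391771 : act 3 n194014 = n135531 := d5_1 D194014 F217948 F203323 (iv4 F325953) F290063
theorem F391772 : act 0 n135753 = n186679 := d20_10 (iv4 D186679) F157686 D194014 F391771 (iv1 F217950) D135534 F217958 F378885 (iv4 F99232) (iv3 F218290)
theorem F391773 : act 3 n135516 = n186679 := d20_5 (iv4 D63730) (iv1 D30076) (iv4 F48330) (iv3 F99078) D135516 (iv4 D186679) F157686 D194014 F391771 (iv1 F217950)
theorem F391774 : act 1 n135753 = n186681 := d15_1 (iv0 F391772) F367656 (iv2 F367652)
def n194015 : Q := act 0 n102592
theorem D194015 : act 0 n102592 = n194015 := rfl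
theorem F391775 : act 5 n194015 = n188694 := d17_1 D194015 (iv1 D188694) (iv5 F356755) (iv4 D102584) (iv5 D47582) F73646 D99822 F153687 D102592
theorem F391776 : act 4 n194015 = n137590 := d18_3 D47585 D102592 D194015 F365516 F153323 (iv0 D90520) F65444 F66885 D22883
theorem F391777 : act 1 n102595 = n194015 := d15_0 (iv0 D194015) (iv7 F385863) F385861
theorem F391778 : act 3 n143252 = n194015 := d5_5 F391776 F365515 F103094 (iv3 F103091) (iv4 F226073)
theorem F391779 : act 7 n143246 = n194015 := d11_0 F391776 F365518 (iv4 F226070)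
def n194016 : Q := act 1 n102592
theorem D194016 : act 1 n102592 = n194016 := rfl
theorem F391780 : act 1 n194016 = n102595 := d15_1 D194016 (iv7 F385870) F385868
theorem F391781 : act 5 n188693 = n194016 := d21_0 (iv1 D194016) F365560 (iv6 D152023) (iv1 F311992) (iv6 F294818) F294992 (iv1 D43346) D43348 D92671 D188693
theorem F391782 : act 2 n143246 = n194016 := d15_3 F391780 F391777 (iv7 F391779)
theorem F391783 : act 4 n137343 = n194016 := d18_5 (iv1 F73646) (iv4 F66883) (iv1 F139319) F153434 F362224 F391780 (iv4 D102595) F153684 (iv5 D99822)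
theorem F391784 : act 6 n194016 = n137341 := d10_2 D137343 F391783 (iv4 D137341)
def n194017 : Q := act 4 n102593
theorem D194017 : act 4 n102593 = n194017 := rfl
theorem F391785 : act 2 n194017 = n187125 := d1_1 D194017 (iv4 D187125) (iv2 F157693)
theorem F391786 : act 3 n194017 = n159804 := d5_1 D194017 (iv4 F369462) F369461 F331229 (iv3 F331225)
theorem F391787 : act 6 n194017 = n187120 := d10_2 F286040 D194017 (iv4 D187120)
theorem F391788 : act 7 n194017 = n187124 := d11_2 (iv7 F157694) D194017 (iv4 D187124)
theorem F391789 : act 0 n194017 = n159749 := d17_0 F251695 (iv1 D90534) (iv5 D42369) (iv4 F65447) D90523 (iv0 F369187) (iv5 D187126) F157696 D194017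
theorem F391790 : act 0 n187745 = n194017 := d20_10 (iv4 D194017) (iv1 F157696) (iv4 F369141) F369140 (iv1 F145644) (iv3 F373832) F373833 (iv1 F369695) (iv4 F377336) (iv3 F377340)
def n194018 : Q := act 0 n102594
theorem D194018 : act 0 n102594 = n194018 := rfl
theorem F391791 : act 5 n194018 = n116833 := d17_1 D194018 F342364 D141181 (iv4 F366826) F366827 (iv0 F351908) D192068 F385419 (iv4 F365557)
theorem F391792 : act 3 n116834 = n194018 := d6_3 F391791 (iv3 D116833) D116834
theorem F391793 : act 4 n123239 = n194018 := d9_15 F391791 F182429 (iv5 F316243) (iv4 F309381) (iv5 F307790) (iv4 D123233) D123234 F391475 F391476 F361960 (iv5 F320989) (iv4 F309378) D74958 (iv4 F314060) D123239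
theorem F391794 : act 7 n143874 = n194018 := d13_0 F391791 F182430 D143874
def n194019 : Q := act 7 n102594
theorem D194019 : act 7 n102594 = n194019 := rfl
theorem F391795 : act 3 n194019 = n193431 := d8_1 D194019 F389816 F365502
theorem F391796 : act 4 n194019 = n184670 := d11_1 D194019 F365562 (iv4 F365557)
theorem F391797 : act 1 n143874 = n194019 := d15_1 (iv0 F362322) (iv7 D194019) F365554
def n194020 : Q := act 5 n102595
theorem D194020 : act 5 n102595 = n194020 := rfl
theorem F391798 : act 3 n194020 = n193399 := d6_1 D194020 F389710 F388144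
theorem F391799 : act 7 n194020 = n193397 := d13_2 F385870 D194020 F389705
theorem F391800 : act 6 n159335 = n194020 := d14_5 F391799 (iv6 D193397) F320827 D152003 (iv7 F362843)
def n194021 : Q := act 6 n102595
theorem D194021 : act 6 n102595 = n194021 := rfl
theorem F391801 : act 3 n194021 = n189048 := d7_1 D194021 (iv6 F388145) F388144
theorem F391802 : act 4 n194021 = n102596 := d10_1 D194021 (iv6 D102596) D102595
def n194022 : Q := act 0 n102596
theorem D194022 : act 0 n102596 = n194022 := rfl
def n194023 : Q := act 1 n102596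
theorem D194023 : act 1 n102596 = n194023 := rfl
def n194024 : Q := act 7 n102596
theorem D194024 : act 7 n102596 = n194024 := rfl
theorem F391803 : act 3 n194024 = n136559 := d8_1 D194024 F358541 F284745
theorem F391804 : act 5 n194024 = n191779 := d13_1 D194024 (iv7 D191779) (iv5 F157699)
def n194025 : Q := act 3 n102597
theorem D194025 : act 3 n102597 = n194025 := rfl
theorem F391805 : act 6 n194025 = n150093 := d7_2 (iv6 F366724) D194025 F366723
def n194026 : Q := act 5 n102598
theorem D194026 : act 5 n102598 = n194026 := rfl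
theorem F391806 : act 4 n194026 = n113899 := d16_4 (iv4 F384223) (iv5 F384225) F362219 D194026 (iv5 D113899) (iv4 F349120) D193993 F391670 (iv2 F369138)
theorem F391807 : act 6 n127342 = n194026 := d10_0 F391806 F177200 D127342
def n194027 : Q := act 0 n102599
theorem D194027 : act 0 n102599 = n194027 := rfl
theorem F391808 : act 3 n194027 = n167924 := d20_5 (iv4 D102595) (iv1 D47586) D47587 D102599 D194027 (iv4 F322185) F322293 (iv4 F226073) F391778 (iv1 F391777)
theorem F391809 : act 6 n173813 = n194027 := d7_0 F391808 (iv6 F384716) F384713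
def n194028 : Q := act 1 n102599
theorem D194028 : act 1 n102599 = n194028 := rfl
theorem F391810 : act 4 n193623 = n194028 := d20_6 (iv4 D47385) (iv1 D22764) D22765 D47389 D102025 D193623 (iv1 D194028) F157700 (iv3 D47593) (iv1 F74596)
theorem F391811 : act 0 n192841 = n193623 := d18_0 F391810 (iv1 D194028) F157700 (iv5 F137107) (iv4 F356536) (iv0 F356535) F154890 D100794 D192841
def n194029 : Q := act 2 n102599
theorem D194029 : act 2 n102599 = n194029 := rfl
theorem F391812 : act 4 n194029 = n102614 := d1_2 (iv4 F157700) D194029 (iv2 D102614)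
def n194030 : Q := act 5 n102599
theorem D194030 : act 5 n102599 = n194030 := rfl
theorem F391813 : act 3 n194030 = n102600 := d6_1 D194030 (iv5 D102600) D102599
def n194031 : Q := act 0 n102600
theorem D194031 : act 0 n102600 = n194031 := rfl
def n194032 : Q := act 1 n102600
theorem D194032 : act 1 n102600 = n194032 := rfl
theorem F391814 : act 5 n194032 = n138324 := d17_7 (iv1 F154405) (iv5 D47582) (iv1 D22881) D22883 D47587 D102600 D194032 (iv0 F387036) (iv4 D192549)
theorem F391815 : act 6 n187478 = n194032 := d21_9 (iv5 D102600) D102597 (iv5 F366725) (iv6 D107959) D107956 (iv6 F374474) (iv5 D188689) (iv1 F295258) (iv5 F370517) (iv1 D194032)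
theorem F391816 : act 3 n194032 = n138325 := d7_1 F391815 F343169 D187478
def n194033 : Q := act 6 n102600
theorem D194033 : act 6 n102600 = n194033 := rfl
def n194034 : Q := act 4 n102602
theorem D194034 : act 4 n102602 = n194034 := rfl
theorem F391817 : act 2 n194034 = n137667 := d1_1 D194034 (iv4 D137667) (iv2 F333116)
theorem F391818 : act 3 n194034 = n110854 := d5_1 D194034 (iv4 F204205) (iv3 D126953) (iv4 F100667) (iv3 F333117)
theorem F391819 : act 7 n194034 = n143244 := d11_2 F391759 D194034 (iv4 F391762)
theorem F391820 : act 0 n194034 = n137337 := d20_1 D194034 (iv4 D137337) (iv3 F102989) (iv1 F103004) (iv3 D64650) D64651 F333130 F74849 (iv3 F74842) D102602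
theorem F391821 : act 0 n137341 = n194034 := d20_1 D137341 (iv4 D194034) F333117 (iv1 F220809) (iv3 F220812) (iv4 F102791) (iv1 F80828) (iv4 F100501) (iv3 F218883) (iv1 F218887)
def n194035 : Q := act 5 n102602
theorem D194035 : act 5 n102602 = n194035 := rfl
theorem F391822 : act 2 n194035 = n137668 := d2_1 D194035 (iv5 D137668) (iv2 F333116)
theorem F391823 : act 3 n194035 = n113915 := d6_1 D194035 F177209 (iv3 F333117)
theorem F391824 : act 0 n194035 = n136194 := d21_1 D194035 F350327 (iv6 F391756) (iv1 D194009) (iv6 D102585) (iv5 D47582) (iv1 D22881) D22883 D47588 D102602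
theorem F391825 : act 6 n188177 = n194035 := d7_0 F391823 (iv6 F367978) (iv3 F372590)
def n194036 : Q := act 6 n102602
theorem D194036 : act 6 n102602 = n194036 := rfl
theorem F391826 : act 2 n194036 = n136548 := d3_1 D194036 F338933 (iv2 F333116)
theorem F391827 : act 3 n194036 = n136626 := d7_1 D194036 F346583 (iv3 F333117)
theorem F391828 : act 5 n194036 = n188178 := d12_1 D194036 (iv6 D188178) D188177 F391825 (iv5 D194035)
theorem F391829 : act 0 n194036 = n135911 := d20_4 F84081 D107711 (iv4 F219764) (iv3 F391827) (iv3 D135911) D135912 F344866 F344858 (iv3 F344849) (iv1 D115389)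
def n194037 : Q := act 4 n102603
theorem D194037 : act 4 n102603 = n194037 := rfl
theorem F391830 : act 2 n194037 = n143244 := d1_1 D194037 (iv4 F391762) F391761
theorem F391831 : act 7 n194037 = n137667 := d11_2 (iv7 F333120) D194037 (iv4 D137667)
theorem F391832 : act 0 n194037 = n137341 := d20_1 D194037 (iv4 D137341) D137340 (iv1 F220529) (iv3 F331006) F331007 F180001 (iv4 D64026) D64025 (iv1 F333118)
theorem F391833 : act 0 n137337 = n194037 := d20_10 (iv4 D194037) (iv1 D102603) (iv4 F333125) D141161 F224160 (iv3 D66228) (iv4 F84686) F102935 D67013 (iv3 F220519)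
def n194038 : Q := act 5 n102603
theorem D194038 : act 5 n102603 = n194038 := rfl
theorem F391834 : act 3 n194038 = n136120 := d6_1 D194038 (iv5 D136120) (iv3 F333119)
theorem F391835 : act 6 n194038 = n183451 := d12_2 F338924 D194038 F349511 (iv6 D157635) D157634
theorem F391836 : act 7 n194038 = n137668 := d13_2 (iv7 F333120) D194038 (iv5 D137668)
def n194039 : Q := act 0 n102604
theorem D194039 : act 0 n102604 = n194039 := rfl
theorem F391837 : act 3 n194039 = n137943 := d20_5 D137551 (iv1 F364750) (iv4 D102631) (iv3 F157702) D194039 F221204 F104837 (iv4 F106580) (iv3 F218905) (iv1 F218907)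
theorem F391838 : act 2 n137698 = n194039 := d0_5 F391837 (iv2 F221205) (iv3 F203000) F219124 D137698
theorem F391839 : act 4 n146394 = n194039 := d5_0 F391837 F221204 F104835 D68641 D146394
theorem F391840 : act 7 n187759 = n194039 := d8_0 F391837 F221207 D187759
theorem F391841 : act 0 n194039 = n136150 := d20_4 F106582 (iv1 F104838) (iv4 F221204) (iv3 F391837) F219194 (iv4 F330997) D110801 (iv4 F203283) F327702 (iv1 F106600)
def n194040 : Q := act 1 n102604
theorem D194040 : act 1 n102604 = n194040 := rfl
theorem F391842 : act 1 n194040 = n136150 := d15_1 D194040 (iv7 F391767) F391764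
theorem F391843 : act 7 n194040 = n137698 := d15_2 (iv0 D194039) D194040 F391838
theorem F391844 : act 3 n136124 = n194040 := d20_3 (iv4 F349679) F219099 (iv4 F219143) (iv1 D194040) F157702 D102631 (iv1 F364751) F333063 D137545 (iv1 F349685)
theorem F391845 : act 2 n194040 = n187759 := d0_1 F391844 (iv3 D187759) F139356 (iv3 F106585) F219144
theorem F391846 : act 6 n194040 = n187772 := d7_2 F374943 F391844 (iv3 F374942)
def n194041 : Q := act 4 n102604
theorem D194041 : act 4 n102604 = n194041 := rfl
theorem F391847 : act 6 n194041 = n102610 := d10_2 (iv6 F157703) D194041 (iv4 D102610)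
theorem F391848 : act 1 n194041 = n136881 := d18_6 (iv1 D136026) F99523 D66215 F333125 D102604 D194041 (iv4 D136881) D136880 (iv5 F220986)
def n194042 : Q := act 7 n102604
theorem D194042 : act 7 n102604 = n194042 := rfl
theorem F391849 : act 2 n194042 = n136150 := d4_1 D194042 (iv7 F391767) F391764
theorem F391850 : act 3 n194042 = n102632 := d8_1 D194042 (iv7 D102632) (iv3 F157702)
theorem F391851 : act 5 n194042 = n102605 := d13_1 D194042 (iv7 D102605) D102604
theorem F391852 : act 1 n187759 = n194042 := d15_1 (iv0 F391768) (iv7 D194042) (iv2 F391764)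
theorem F391853 : act 1 n194042 = n137698 := d15_1 F391852 (iv7 F391843) F391845
theorem F391854 : act 6 n143147 = n194042 := d12_0 F391851 F353581 (iv5 D67079) D67080 D143147
theorem F391855 : act 0 n187030 = n134319 := d21_7 D134304 F363636 D143147 F391854 (iv1 F391852) F371430 (iv5 F368871) (iv5 D134319) (iv6 D63102) D63098
def n194043 : Q := act 4 n102609
theorem D194043 : act 4 n102609 = n194043 := rfl
theorem F391856 : act 2 n194043 = n186681 := d1_1 D194043 (iv4 D186681) F157817
theorem F391857 : act 7 n194043 = n186679 := d11_2 (iv7 F157819) D194043 (iv4 D186679)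
def n194044 : Q := act 6 n102609
theorem D194044 : act 6 n102609 = n194044 := rfl
theorem F391858 : act 2 n194044 = n186682 := d3_1 D194044 (iv6 D186682) F157817
def n194045 : Q := act 0 n102610
theorem D194045 : act 0 n102610 = n194045 := rfl
def n194046 : Q := act 1 n102610
theorem D194046 : act 1 n102610 = n194046 := rfl
theorem F391859 : act 4 n186796 = n194046 := d20_6 D46091 (iv1 F147807) (iv4 D96143) F329738 F329582 (iv3 F368041) (iv1 D194046) (iv4 D102610) F74846 (iv1 F65852)
def n194047 : Q := act 3 n102610
theorem D194047 : act 3 n102610 = n194047 := rfl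
theorem F391860 : act 4 n194047 = n102635 := d5_2 D102610 D194047 (iv3 D102635) (iv4 D47600) (iv3 F74846)
theorem F391861 : act 0 n194047 = n105463 := d19_4 (iv1 F293542) D47591 D102610 D194047 (iv5 F171491) F347537 F326806 F293833 (iv5 F294064) (iv4 D40214) F30310 F31224 (iv5 D19499) F17591 F31670 (iv1 D19849) D19850 (iv4 F33824) D45037
theorem F391862 : act 5 n106688 = n194047 := d17_1 D106688 F391861 (iv5 F171491) F347537 (iv5 D126186) F163885 D59180 (iv0 F328931) F164239
theorem F391863 : act 1 n194047 = n114965 := d15_1 (iv0 F391861) (iv7 D114965) (iv2 F161875)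
theorem F391864 : act 2 n194047 = n114964 := d2_1 F391862 (iv5 F179056) F362872
theorem F391865 : act 7 n194047 = n113760 := d13_2 (iv7 F332831) F391862 F177013
theorem F391866 : act 3 n114964 = n133228 := d0_2 D194047 F391864 F217949 (iv3 F391771) F391770
def n194048 : Q := act 5 n102610
theorem D194048 : act 5 n102610 = n194048 := rfl
theorem F391867 : act 3 n194048 = n106688 := d6_1 D194048 F391862 (iv3 D194047)
theorem F391868 : act 1 n194048 = n151674 := d17_6 F364855 F293583 (iv1 F293542) D47591 D102610 D194048 F238536 (iv0 F347567) (iv4 F216891)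
def n194049 : Q := act 7 n102610
theorem D194049 : act 7 n102610 = n194049 := rfl
theorem F391869 : act 3 n194049 = n113760 := d8_1 D194049 (iv7 F391865) (iv3 D194047)
theorem F391870 : act 4 n194049 = n102611 := d11_1 D194049 (iv7 D102611) D102610
theorem F391871 : act 6 n113757 = n194049 := d7_0 F391869 (iv6 D113760) D113757
def n194050 : Q := act 6 n102611
theorem D194050 : act 6 n102611 = n194050 := rfl
theorem F391872 : act 2 n194050 = n110787 := d3_1 D194050 F364222 (iv2 F285217)
theorem F391873 : act 3 n194050 = n102636 := d7_1 D194050 (iv6 D102636) (iv3 F157821)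
theorem F391874 : act 4 n194050 = n113757 := d10_1 D194050 F391871 F391870
theorem F391875 : act 5 n194050 = n134406 := d12_1 D194050 F333152 (iv5 F309580) (iv6 F74848) (iv5 F157822)
theorem F391876 : act 7 n194050 = n143147 := d14_2 D102611 D194050 F391854 (iv7 D194042) F157703
theorem F391877 : act 0 n189904 = n194050 := d17_0 F391875 F391102 F391099 (iv4 F217966) (iv5 F218273) (iv0 D63825) D63828 (iv0 F359571) (iv4 F378175)
def n194051 : Q := act 5 n102612
theorem D194051 : act 5 n102612 = n194051 := rfl
theorem F391878 : act 2 n194051 = n187080 := d2_1 D194051 (iv5 F385931) (iv2 F385930)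
theorem F391879 : act 6 n194051 = n192828 := d12_2 (iv6 F364235) D194051 F387923 F324462 D158856
theorem F391880 : act 7 n194051 = n187079 := d13_2 (iv7 F362230) D194051 (iv5 F369047)
theorem F391881 : act 0 n186427 = n186981 := d21_4 F321616 F324536 D164087 (iv6 F289221) (iv6 D186981) F137107 D102612 D194051 F391879 (iv1 D192828)
theorem F391882 : act 0 n186597 = n194051 := d21_1 (iv5 F367377) (iv5 D194051) F364235 (iv1 F300478) (iv6 F385682) (iv5 D192130) (iv1 D99734) D99736 (iv6 F368771) (iv1 F368778)
theorem F391883 : act 1 n187081 = n194051 := d15_0 (iv0 F391882) F367378 D187081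
theorem F391884 : act 4 n193631 = n194051 := d10_3 F391879 F387924 D193631
def n194052 : Q := act 4 n102613
theorem D194052 : act 4 n102613 = n194052 := rfl
theorem F391885 : act 0 n194052 = n133980 := d17_0 (iv5 F372456) D189134 F390211 F390209 F156826 (iv0 F357210) F137107 D102613 D194052
def n194053 : Q := act 5 n102613
theorem D194053 : act 5 n102613 = n194053 := rfl
theorem F391886 : act 2 n194053 = n187079 := d2_1 D194053 (iv5 F369047) F385938
theorem F391887 : act 3 n194053 = n190339 := d6_1 D194053 (iv5 F379517) F385939
theorem F391888 : act 7 n194053 = n187080 := d13_2 (iv7 F385937) D194053 (iv5 F385931)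
theorem F391889 : act 6 n194053 = n186929 := d21_3 (iv5 F385926) (iv1 F385940) D194053 F368539 (iv6 D89531) F64463 (iv1 D22795) D22797 D47465 D102272
theorem F391890 : act 4 n186930 = n194053 := d10_3 F391889 (iv4 D186929) D186930
theorem F391891 : act 1 n186597 = n194053 := d15_1 (iv0 F391882) F391888 (iv2 F391878)
theorem F391892 : act 1 n194053 = n187081 := d15_0 F391883 F391880 (iv2 F391886)
def n194054 : Q := act 6 n102613
theorem D194054 : act 6 n102613 = n194054 := rfl
theorem F391893 : act 0 n113069 = n194054 := d21_4 D130530 F366395 (iv5 D113068) D113069 (iv6 D194054) D194053 (iv1 F391891) F367377 (iv6 F390593) (iv1 D130528)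
def n194055 : Q := act 5 n102615
theorem D194055 : act 5 n102615 = n194055 := rfl
theorem F391894 : act 2 n194055 = n144147 := d2_1 D194055 F385934 (iv2 F345461)
theorem F391895 : act 3 n194055 = n102618 := d6_1 D194055 (iv5 D102618) (iv3 F157825)
theorem F391896 : act 7 n194055 = n144148 := d13_2 (iv7 F345459) D194055 (iv5 F386896)
theorem F391897 : act 0 n144145 = n194055 := d21_1 D144145 (iv5 D194055) (iv6 D102615) D102612 F364235 (iv5 D158856) (iv1 D75800) D75802 (iv6 F357479) (iv1 F182912)
def n194056 : Q := act 0 n102618
theorem D194056 : act 0 n102618 = n194056 := rfl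
theorem F391898 : act 5 n194056 = n135958 := d17_3 F333130 D102618 D194056 (iv4 D135958) (iv5 F220886) (iv0 D64656) (iv5 D30423) D30421 D64651
theorem F391899 : act 2 n137144 = n194056 := d15_3 (iv0 D194056) (iv0 F385793) F225390
theorem F391900 : act 3 n194056 = n115006 := d0_2 (iv3 F220329) F391899 F340494 (iv3 D142482) F181602
theorem F391901 : act 7 n194056 = n137133 := d4_2 F225390 F391899 F225391
def n194057 : Q := act 4 n102618
theorem D194057 : act 4 n102618 = n194057 := rfl
def n194058 : Q := act 7 n102618
theorem D194058 : act 7 n102618 = n194058 := rfl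
theorem F391902 : act 3 n194058 = n144148 := d8_1 D194058 (iv7 F391896) F391895
theorem F391903 : act 5 n194058 = n102619 := d13_1 D194058 (iv7 D102619) D102618
theorem F391904 : act 1 n137133 = n194058 := d15_1 (iv0 F386006) (iv7 D194058) (iv2 F386003)
theorem F391905 : act 1 n194058 = n137144 := d15_1 F391904 (iv7 F225390) (iv2 F225391)
def n194059 : Q := act 3 n102622
theorem D194059 : act 3 n102622 = n194059 := rfl
theorem F391906 : act 4 n194059 = n105645 := d5_2 D102622 D194059 F360863 (iv4 D64752) F333096
theorem F391907 : act 7 n194059 = n137487 := d8_2 (iv7 F333100) D194059 (iv3 D137487)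
theorem F391908 : act 0 n194059 = n109343 := d20_4 F74849 D47595 D102622 D194059 (iv3 F336226) F181709 F179987 (iv4 D66797) F100557 F333130
def n194060 : Q := act 5 n102622
theorem D194060 : act 5 n102622 = n194060 := rfl
theorem F391909 : act 2 n194060 = n137084 := d2_1 D194060 F340520 (iv2 F333099)
theorem F391910 : act 6 n194060 = n189636 := d12_2 F352940 D194060 (iv5 D189636) F352955 (iv5 F352897)
theorem F391911 : act 7 n194060 = n137085 := d13_2 (iv7 F333100) D194060 F221261
theorem F391912 : act 0 n194060 = n128553 := d17_2 (iv1 F333098) D194060 F206772 F99425 D63929 D135967 F225340 F99532 (iv4 F100547)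
theorem F391913 : act 0 n137082 = n194060 := d21_7 (iv5 F97860) D133649 (iv5 F352861) D193659 (iv1 F390601) (iv6 D137083) D137082 (iv5 D194060) (iv6 F352940) (iv1 D112863)
def n194061 : Q := act 4 n102623
theorem D194061 : act 4 n102623 = n194061 := rfl
theorem F391914 : act 2 n194061 = n137168 := d1_1 D194061 F383838 F383834
theorem F391915 : act 7 n194061 = n137169 := d11_2 (iv7 F367710) D194061 (iv4 F367711)
theorem F391916 : act 1 n194061 = n137152 := d18_6 (iv1 F99528) (iv4 F100547) (iv1 F333098) (iv4 D102622) D102623 D194061 (iv4 D137152) F218736 F225343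
theorem F391917 : act 0 n194061 = n135968 := d20_7 F99450 F77624 F45761 D30495 (iv1 F347225) (iv3 F333101) D194061 (iv4 D135968) F99446 D63931
def n194062 : Q := act 0 n102624
theorem D194062 : act 0 n102624 = n194062 := rfl
def n194063 : Q := act 1 n102624
theorem D194063 : act 1 n102624 = n194063 := rfl
theorem F391918 : act 1 n194063 = n192667 := d15_1 D194063 F387419 F386007
theorem F391919 : act 4 n113071 = n194063 := d18_5 D133649 (iv4 F352915) (iv1 F367208) F385126 (iv5 F385119) F391918 F387420 (iv0 D112862) (iv5 F97860)
theorem F391920 : act 5 n194063 = n192736 := d21_2 D192667 (iv1 F391918) (iv6 D192736) (iv1 D100569) (iv6 D46915) D46914 (iv1 F74126) D89548 (iv6 F369113) F369114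
def n194064 : Q := act 5 n102624
theorem D194064 : act 5 n102624 = n194064 := rfl
theorem F391921 : act 2 n194064 = n188127 := d2_1 D194064 (iv5 F386010) F386007
theorem F391922 : act 3 n194064 = n136574 := d6_1 D194064 (iv5 D136574) F352943
theorem F391923 : act 6 n194064 = n192648 := d12_2 D102624 D194064 F387346 F383859 (iv5 D102623)
theorem F391924 : act 0 n194064 = n187109 := d17_2 (iv1 D194063) D194064 (iv5 D187109) F137270 D102242 D193698 (iv5 F390717) F385122 F391919
theorem F391925 : act 1 n194064 = n188128 := d15_1 (iv0 F391924) (iv7 D188128) (iv2 F369111)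
theorem F391926 : act 7 n194064 = n188126 := d15_2 (iv0 F369114) (iv0 F391924) (iv2 F372393)
theorem E103569 : n192666 = n188128 := ((c15_1 F391925 (iv0 D192666) (iv7 F372394) (iv2 F391921))).symm
theorem F391927 : act 1 n188128 = n100497 := (sb E103569 (iv0 D192666))
def n194065 : Q := act 7 n102624
theorem D194065 : act 7 n102624 = n194065 := rfl
theorem F391928 : act 2 n194065 = n192667 := d4_1 D194065 F387419 F386007
theorem F391929 : act 3 n194065 = n136576 := d8_1 D194065 (iv7 D136576) F352943
theorem F391930 : act 4 n194065 = n107116 := d11_1 D194065 F352952 (iv4 F352942)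
theorem F391931 : act 5 n194065 = n188126 := d13_1 D194065 (iv7 F391926) (iv5 D194064)
theorem F391932 : act 6 n194065 = n191948 := d14_1 D194065 F384953 (iv6 F383638) F333108 D102624
theorem F391933 : act 1 n192667 = n194062 := d15_0 (iv0 D194062) D194065 F391928
theorem F391934 : act 1 n135916 = n194065 := d15_1 (iv0 F386011) (iv7 D194065) (iv2 F386007)
theorem E103570 : n136576 = n135893 := ((c20_5 F48625 F45692 (iv4 F48458) D63902 D135893 (iv3 F391929) F391930 (iv1 D107116) F78228 (iv3 D30240) (iv1 F48624))).symm
theorem F391935 : act 2 n135893 = n64204 := (sb E103570 F219663)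
theorem F391936 : act 3 n135893 = n194065 := (sb E103570 (iv3 F391929))
theorem F391937 : act 7 n135893 = n64203 := (sb E103570 (iv7 D136576))
theorem E103571 : n136098 = n135894 := (c15_4 F218597 F218592 F391937 (iv2 F352944))
theorem F391938 : act 2 n135894 = n64203 := (sb E103571 F352944)
theorem F391939 : act 6 n135894 = n64003 := (sb E103571 (iv6 D136098))
theorem F391940 : act 7 n135894 = n64204 := (sb E103571 F352945)
def n194066 : Q := act 6 n102626
theorem D194066 : act 6 n102626 = n194066 := rfl
theorem F391941 : act 2 n194066 = n137782 := d3_1 D194066 (iv6 D137782) (iv2 F361821)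
theorem F391942 : act 3 n194066 = n102628 := d7_1 D194066 (iv6 D102628) D102626
theorem F391943 : act 5 n194066 = n192660 := d12_1 D194066 F387389 (iv5 D191557) D191558 F383801
theorem F391944 : act 7 n192659 = n194066 := d13_0 F391943 (iv7 D192660) D192659
theorem F391945 : act 1 n138048 = n194066 := d17_6 D135387 F340189 (iv1 F319375) (iv5 D143870) (iv4 F226274) (iv5 F363871) F391943 F387391 F217617
def n194067 : Q := act 5 n102627
theorem D194067 : act 5 n102627 = n194067 := rfl
theorem F391946 : act 2 n194067 = n137085 := d2_1 D194067 F221261 (iv2 F361816)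
theorem F391947 : act 3 n194067 = n190020 := d6_1 D194067 F378582 (iv3 F361817)
theorem F391948 : act 7 n194067 = n137084 := d13_2 (iv7 F361818) D194067 F340520
theorem F391949 : act 0 n194067 = n137082 := d17_2 (iv1 F361815) D194067 (iv5 D137082) F100361 D64476 F218736 F225343 (iv0 D63964) (iv4 F94996)
theorem F391950 : act 0 n128553 = n194067 := d21_7 D101777 D193473 F389975 (iv6 F378226) (iv1 F378227) F346624 (iv5 F206772) (iv5 D194067) F275129 (iv1 D101775)
def n194068 : Q := act 4 n102629
theorem D194068 : act 4 n102629 = n194068 := rfl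
theorem F391951 : act 7 n194068 = n137555 := d11_2 F386019 D194068 F386022
theorem F391952 : act 0 n194068 = n136040 := d18_2 D102629 D194068 (iv4 D136040) (iv5 D63967) (iv4 F94996) (iv0 F333097) (iv4 D102622) (iv0 D47595) D47597
theorem F391953 : act 1 n194068 = n137538 := d18_6 (iv1 F99443) (iv4 F218667) (iv1 F218674) D137079 F361813 D194068 (iv4 D137538) F220917 (iv5 D64469)
theorem F391954 : act 2 n194068 = n137554 := d15_3 (iv0 D137554) D137555 (iv7 F391951)
theorem F391955 : act 4 n137554 = n192211 := d1_2 D194068 F391954 (iv2 F386016)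
theorem F391956 : act 3 n192211 = n137885 := d20_3 D64658 D137554 F391955 (iv1 D137885) F100651 D64818 D137909 F221169 (iv3 D137550) (iv1 D64657)
def n194069 : Q := act 3 n102630
theorem D194069 : act 3 n102630 = n194069 := rfl
theorem F391957 : act 2 n194069 = n137818 := d0_1 D194069 (iv3 D137818) (iv2 F386023) F386024 (iv2 F386020)
theorem F391958 : act 7 n194069 = n137885 := d8_2 (iv7 F386017) D194069 (iv3 F391956)
def n194070 : Q := act 4 n102630
theorem D194070 : act 4 n102630 = n194070 := rfl
theorem F391959 : act 2 n194070 = n137555 := d1_1 D194070 F386022 (iv2 F386020)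
theorem F391960 : act 7 n194070 = n137554 := d11_2 (iv7 F386017) D194070 F391955
theorem F391961 : act 0 n194070 = n137538 := d18_2 (iv1 F364745) D194070 (iv4 D137538) (iv5 D64654) (iv4 F100547) (iv0 F361814) (iv4 D102627) F153755 F333093
theorem F391962 : act 1 n194070 = n136040 := d18_6 (iv1 D30357) (iv4 F48772) D64438 D137075 F364746 D194070 (iv4 D136040) (iv0 F220919) (iv5 D64474)
theorem F391963 : act 0 n137882 = n194069 := d20_4 (iv4 F106594) F85423 (iv4 F177033) (iv3 F221110) (iv3 D194069) D194070 F391961 (iv4 D137538) (iv3 F218973) F218976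
theorem F391964 : act 0 n194069 = n137888 := d20_4 D136040 (iv1 F391962) (iv4 D194070) D194069 F221115 (iv4 F221175) (iv1 F225952) (iv4 D143096) F180642 F220919
def n194071 : Q := act 6 n102630
theorem D194071 : act 6 n102630 = n194071 := rfl
def n194072 : Q := act 3 n102631
theorem D194072 : act 3 n102631 = n194072 := rfl
theorem F391965 : act 2 n194072 = n131892 := d0_1 D194072 F211322 (iv2 F163848) (iv3 F380029) F380028
theorem F391966 : act 6 n194072 = n102635 := d7_2 (iv6 F157831) D194072 (iv3 D102635)
theorem F391967 : act 7 n131884 = n194072 := d14_0 F391966 F365694 (iv6 F332814) F163808 D131884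
theorem F391968 : act 0 n194072 = n131890 := d21_4 (iv5 F332796) F165620 (iv5 F365693) (iv6 F391966) (iv6 F362256) (iv5 F362255) (iv1 D128884) (iv5 D60614) D60615 (iv1 F332854)
theorem F391969 : act 1 n194072 = n131889 := d15_0 (iv0 D131889) D131892 (iv2 F391965)
theorem F391970 : act 7 n131889 = n128770 := d15_2 (iv0 F391968) F391969 (iv2 F362257)
def n194073 : Q := act 5 n102631
theorem D194073 : act 5 n102631 = n194073 := rfl
def n194074 : Q := act 7 n102631
theorem D194074 : act 7 n102631 = n194074 := rfl
theorem F391971 : act 2 n194074 = n106573 := d4_1 D194074 (iv7 F380031) F380028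
theorem F391972 : act 3 n194074 = n131884 := d8_1 D194074 F391967 (iv3 D194072)
theorem F391973 : act 4 n194074 = n102632 := d11_1 D194074 (iv7 D102632) D102631
theorem F391974 : act 6 n194074 = n106571 := d14_1 D194074 F163838 (iv6 F327928) F147815 (iv6 F157831)
theorem F391975 : act 1 n137137 = n194074 := d15_1 F380033 (iv7 D194074) (iv2 F380028)
theorem F391976 : act 1 n194074 = n137146 := d15_1 F391975 F220902 (iv2 F220903)
def n194075 : Q := act 2 n102635
theorem D194075 : act 2 n102635 = n194075 := rfl
theorem F391977 : act 3 n194075 = n106563 := d0_2 D102635 D194075 F163819 (iv3 F327931) (iv2 F147813)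
theorem F391978 : act 4 n194075 = n114964 := d1_2 F391860 D194075 (iv2 F391864)
theorem F391979 : act 5 n194075 = n106563 := d2_2 (iv5 F365693) D194075 F163819
theorem F391980 : act 6 n194075 = n131892 := d3_2 F391966 D194075 (iv2 F391965)
theorem F391981 : act 7 n194075 = n106558 := d4_2 (iv7 F365694) D194075 F333542
theorem F391982 : act 1 n194075 = n131855 := d15_0 (iv0 D131855) (iv7 F365694) D194075
theorem F391983 : act 1 n131856 = n194075 := d15_0 F391982 (iv7 F211261) F211264
theorem F391984 : act 0 n131892 = n128770 := d21_4 F332799 (iv1 F163824) (iv5 F391979) F391980 (iv6 D128770) D128769 (iv1 F362264) (iv5 D128881) (iv6 F332865) F332861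
theorem F391985 : act 1 n131884 = n128770 := d15_0 (iv0 F391984) (iv7 D131892) (iv2 F211317)
def n194076 : Q := act 5 n102637
theorem D194076 : act 5 n102637 = n194076 := rfl
theorem F391986 : act 2 n194076 = n187191 := d2_1 D194076 F369426 F291574
theorem F391987 : act 3 n194076 = n102639 := d6_1 D194076 (iv5 D102639) D102637
theorem F391988 : act 7 n194076 = n187118 := d13_2 F374165 D194076 F374166
theorem F391989 : act 1 n194076 = n190114 := d17_6 D44679 D95653 (iv1 F378844) F378846 F158629 D194076 (iv5 D190114) (iv0 D95634) F70214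
theorem F391990 : act 0 n194076 = n190116 := d18_0 F378907 (iv1 F372384) (iv4 F347748) F347749 D102001 F390381 F390379 F378116 D194076
def n194077 : Q := act 6 n102639
theorem D194077 : act 6 n102639 = n194077 := rfl
theorem F391991 : act 2 n194077 = n148554 := d3_1 D194077 F360915 F286028
theorem F391992 : act 4 n194077 = n117849 := d10_1 D194077 (iv6 F314077) (iv4 F337105)
theorem F391993 : act 5 n194077 = n192568 := d12_1 D194077 (iv6 D192568) (iv5 D100397) (iv6 F75840) D102639
theorem F391994 : act 7 n194077 = n140036 := d14_2 (iv7 F286033) D194077 (iv6 D140036) (iv7 F181688) (iv6 F359687)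
def n194078 : Q := act 6 n102644
theorem D194078 : act 6 n102644 = n194078 := rfl
theorem F391995 : act 2 n194078 = n178690 := d3_1 D194078 (iv6 F348480) (iv2 F359449)
theorem F391996 : act 3 n194078 = n146832 := d7_1 D194078 (iv6 F359454) F359451
theorem F391997 : act 7 n194078 = n146975 := d14_2 (iv7 F359450) D194078 F378763 F378762 (iv6 F353338)
theorem F391998 : act 5 n194078 = n111215 := d21_6 (iv5 D47558) (iv1 F35556) D22892 D47606 D102644 D194078 (iv1 D111215) (iv5 F335713) (iv6 D88892) (iv1 F74781)
theorem F391999 : act 0 n194078 = n111210 := d21_10 (iv5 D111210) (iv1 F342223) F154055 (iv6 F301800) F147100 F321937 D143400 (iv1 F226166) F344560 D194078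
def n194079 : Q := act 3 n102645
theorem D194079 : act 3 n102645 = n194079 := rfl
theorem F392000 : act 4 n194079 = n109566 := d5_2 (iv4 F322923) D194079 (iv3 D109566) (iv4 D50547) (iv3 F79913)
theorem F392001 : act 7 n194079 = n178691 := d8_2 F324388 D194079 F348479
def n194080 : Q := act 5 n102645
theorem D194080 : act 5 n102645 = n194080 := rfl
theorem F392002 : act 2 n194080 = n112245 := d2_1 D194080 (iv5 F324385) F324383
theorem F392003 : act 4 n194080 = n112243 := d9_1 D194080 (iv5 D112243) F81762 F39563 (iv4 F81390) D111835 F352824 (iv5 F344560) (iv4 D109720) (iv5 D50605) F38649 F19013 (iv4 F38625) D50543 (iv4 F322923)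
theorem F392004 : act 7 n194080 = n193972 := d13_2 F324388 D194080 (iv5 D193972)
theorem F392005 : act 0 n194080 = n143400 := d17_2 (iv1 F157857) D194080 (iv5 D143400) (iv4 F321615) F321616 F324537 (iv5 F368739) F368742 (iv4 F324390)
theorem F392006 : act 6 n187107 = n194080 := d21_5 F73649 (iv1 F64097) D41812 D89547 D187107 (iv5 D194080) (iv1 D102645) F74861 (iv6 D46627) D46624
def n194081 : Q := act 6 n102662
theorem D194081 : act 6 n102662 = n194081 := rfl
theorem F392007 : act 2 n194081 = n191492 := d3_1 D194081 F383567 F289999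
theorem F392008 : act 3 n194081 = n185345 := d7_1 D194081 (iv6 D185345) F287493
theorem F392009 : act 5 n194081 = n130839 := d12_1 D194081 (iv6 D130839) (iv5 F325981) (iv6 F335639) F335638
theorem F392010 : act 0 n194081 = n135203 := d21_10 (iv5 D135203) (iv1 F98836) D134077 F341426 F364407 (iv6 D177893) F335645 D89520 F335638 D194081
theorem F392011 : act 1 n194081 = n135206 := d15_1 (iv0 F392010) F217381 (iv2 F217375)
def n194082 : Q := act 3 n102663
theorem D194082 : act 3 n102663 = n194082 := rfl
theorem F392012 : act 2 n194082 = n185347 := d0_1 D194082 (iv3 D185347) (iv2 F290015) F290016 (iv2 F290019)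
theorem F392013 : act 5 n194082 = n187071 := d6_2 F335643 D194082 (iv3 D187071)
theorem F392014 : act 7 n194082 = n191490 := d8_2 (iv7 F290018) D194082 F383560
theorem F392015 : act 1 n191271 = n194082 := d15_1 (iv0 F390539) F392014 (iv2 F390536)
theorem F392016 : act 1 n194082 = n191275 := d15_1 F392015 F382853 (iv2 F382842)
def n194083 : Q := act 3 n102664
theorem D194083 : act 3 n102664 = n194083 := rfl
theorem F392017 : act 4 n194083 = n102672 := d5_2 D102664 D194083 (iv3 D102672) (iv4 D47619) (iv3 F74873)
def n194084 : Q := act 5 n102664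
theorem D194084 : act 5 n102664 = n194084 := rfl
def n194085 : Q := act 6 n102664
theorem D194085 : act 6 n102664 = n194085 := rfl
theorem F392018 : act 4 n194085 = n102665 := d10_1 D194085 (iv6 D102665) D102664
def n194086 : Q := act 0 n102665
theorem D194086 : act 0 n102665 = n194086 := rfl
def n194087 : Q := act 1 n102665
theorem D194087 : act 1 n102665 = n194087 := rfl
def n194088 : Q := act 5 n102665
theorem D194088 : act 5 n102665 = n194088 := rfl
theorem F392019 : act 2 n194088 = n191480 := d2_1 D194088 F383542 F290124
theorem F392020 : act 3 n194088 = n102676 := d6_1 D194088 (iv5 D102676) (iv3 F157901)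
theorem F392021 : act 6 n194088 = n102666 := d12_2 D102665 D194088 (iv5 D102666) (iv6 D47616) D47615
def n194089 : Q := act 7 n102665
theorem D194089 : act 7 n102665 = n194089 := rfl
theorem F392022 : act 3 n194089 = n102677 := d8_1 D194089 (iv7 D102677) (iv3 F157901)
def n194090 : Q := act 4 n102666
theorem D194090 : act 4 n102666 = n194090 := rfl
theorem F392023 : act 2 n194090 = n191479 := d1_1 D194090 (iv4 D191479) (iv2 F290031)
theorem F392024 : act 7 n194090 = n187704 := d11_2 F292672 D194090 (iv4 D187704)
theorem F392025 : act 0 n194090 = n191329 := d18_2 (iv1 F289788) D194090 (iv4 D191329) (iv5 D98069) (iv4 F132445) F289540 F335607 F89706 (iv5 F151815)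
def n194091 : Q := act 6 n102667
theorem D194091 : act 6 n102667 = n194091 := rfl
theorem F392026 : act 3 n194091 = n102669 := d7_1 D194091 (iv6 D102669) D102667
theorem F392027 : act 5 n194091 = n186713 := d12_1 D194091 (iv6 D186713) (iv5 D89064) D89065 (iv5 F157904)
def n194092 : Q := act 3 n102668
theorem D194092 : act 3 n102668 = n194092 := rfl
theorem F392028 : act 5 n194092 = n188576 := d6_2 (iv5 F347706) D194092 (iv3 D188576)
theorem F392029 : act 7 n194092 = n193770 := d8_2 (iv7 F157906) D194092 (iv3 D193770)
theorem F392030 : act 0 n194092 = n155512 := d19_4 (iv1 F65935) (iv5 F74875) D102668 D194092 (iv5 D155512) F110738 F53291 (iv1 F50362) F50358 (iv4 F97354) (iv3 F311790) (iv1 F300932) F128979 F328301 (iv3 F156241) F356385 F137169 F137168 F64458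
def n194093 : Q := act 6 n102668
theorem D194093 : act 6 n102668 = n194093 := rfl
theorem F392031 : act 2 n194093 = n191630 := d3_1 D194093 F383982 (iv2 F157905)
theorem F392032 : act 4 n194093 = n102669 := d10_1 D194093 (iv6 D102669) D102668
theorem F392033 : act 0 n192818 = n194093 := d21_4 (iv5 D46978) D46976 D100734 D192818 (iv6 D194093) F347706 (iv1 F347699) F347701 (iv6 F347704) F367276
theorem F392034 : act 7 n193764 = n194093 := d15_2 (iv0 F383983) D193764 F392031
theorem F392035 : act 6 n136943 = n193764 := d14_5 F392034 (iv6 D194093) F157906 D193771 (iv7 F390965)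
def n194094 : Q := act 0 n102669
theorem D194094 : act 0 n102669 = n194094 := rfl
def n194095 : Q := act 1 n102669
theorem D194095 : act 1 n102669 = n194095 := rfl
theorem F392036 : act 1 n194095 = n191631 := d15_1 D194095 (iv7 D191631) (iv2 F157909)
theorem F392037 : act 5 n135205 = n194095 := d21_6 F74854 (iv1 F72680) (iv5 D46103) D46104 D98621 F383740 (iv1 D194095) F157910 (iv6 D89067) (iv1 F74856)
theorem F392038 : act 3 n194095 = n135206 := d6_1 F392037 (iv5 D135206) D135205
theorem F392039 : act 7 n194095 = n191628 := d13_2 (iv7 F217379) F392037 F383980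
theorem F392040 : act 0 n134338 = n135205 := d21_10 F392037 (iv1 D194095) F157910 (iv6 D89067) (iv1 F74856) D102636 F157838 (iv1 F354732) (iv5 D134337) D134338
theorem F392041 : act 2 n191628 = n194094 := d15_3 (iv0 D194094) D194095 F392039
theorem F392042 : act 7 n191629 = n194094 := d15_2 (iv0 D191628) D191629 (iv2 F392041)
theorem F392043 : act 2 n194095 = n191629 := d4_3 F392042 (iv2 F392041) (iv7 F392039)
theorem F392044 : act 1 n191631 = n194094 := d15_1 F392036 (iv7 F392042) (iv2 F392043)
def n194096 : Q := act 7 n102669
theorem D194096 : act 7 n102669 = n194096 := rfl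
theorem F392045 : act 2 n194096 = n191631 := d4_1 D194096 (iv7 D191631) (iv2 F157909)
theorem F392046 : act 4 n194096 = n193764 := d11_1 D194096 F392034 F392032
theorem F392047 : act 5 n194096 = n186720 := d13_1 D194096 (iv7 D186720) (iv5 F157910)
theorem F392048 : act 1 n191629 = n194096 := d15_1 D191629 (iv7 D194096) F157909
theorem F392049 : act 1 n194096 = n191628 := d15_1 F392048 (iv7 F392039) F392043
theorem F392050 : act 0 n135093 = n134447 := d21_10 (iv5 F383980) (iv1 F392049) F392047 F367781 (iv1 F367738) (iv6 F367742) (iv5 F389668) F389670 (iv5 D135092) D135093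
def n194097 : Q := act 0 n102672
theorem D194097 : act 0 n102672 = n194097 := rfl
def n194098 : Q := act 1 n102672
theorem D194098 : act 1 n102672 = n194098 := rfl
def n194099 : Q := act 2 n102672
theorem D194099 : act 2 n102672 = n194099 := rfl
theorem F392051 : act 5 n194099 = n188594 := d2_2 F367266 D194099 (iv2 D188594)
theorem F392052 : act 6 n191496 = n194099 := d12_0 F392051 F374135 F193433 (iv6 F340201) D191496
def n194100 : Q := act 6 n102672
theorem D194100 : act 6 n102672 = n194100 := rfl
theorem F392053 : act 2 n194100 = n191496 := d3_1 D194100 F392052 (iv2 D194099)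
theorem F392054 : act 3 n194100 = n102673 := d7_1 D194100 (iv6 D102673) D102672
theorem F392055 : act 5 n194100 = n153946 := d12_1 D194100 (iv6 D153946) (iv5 F240913) F240914 F367266
theorem F392056 : act 7 n191498 = n194100 := d13_0 F392055 (iv7 F340212) D191498
def n194101 : Q := act 7 n102673
theorem D194101 : act 7 n102673 = n194101 := rfl
theorem F392057 : act 2 n194101 = n154562 := d4_1 D194101 F370381 F370376
theorem F392058 : act 3 n194101 = n191498 := d8_1 D194101 F392056 F392054
theorem F392059 : act 4 n194101 = n102677 := d11_1 D194101 (iv7 D102677) (iv4 F157919)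
theorem F392060 : act 5 n194101 = n153895 := d13_1 D194101 F363624 (iv5 F291517)
def n194102 : Q := act 3 n102674
theorem D194102 : act 3 n102674 = n194102 := rfl
def n194103 : Q := act 5 n102674
theorem D194103 : act 5 n102674 = n194103 := rfl
def n194104 : Q := act 6 n102674
theorem D194104 : act 6 n102674 = n194104 := rfl
theorem F392061 : act 2 n194104 = n187089 := d3_1 D194104 (iv6 F382985) (iv2 F390235)
theorem F392062 : act 5 n194104 = n186590 := d21_6 (iv5 D46424) F66633 D22911 D47620 D102674 D194104 (iv1 D186590) D186591 F367349 F136329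
theorem F392063 : act 7 n187086 = n194104 := d13_0 F392062 F367346 D187086
def n194105 : Q := act 3 n102675
theorem D194105 : act 3 n102675 = n194105 := rfl
theorem F392064 : act 7 n194105 = n185498 := d8_2 F390237 D194105 (iv3 F390255)
theorem F392065 : act 0 n194105 = n183895 := d20_4 F366712 (iv1 F390226) (iv4 F390227) D194105 F329946 (iv4 D87723) D87721 (iv4 F135151) D185068 (iv1 F382920)
theorem F392066 : act 2 n194105 = n185497 := d15_3 (iv0 D185497) D185498 (iv7 F392064)
def n194106 : Q := act 5 n102675
theorem D194106 : act 5 n102675 = n194106 := rfl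
theorem F392067 : act 0 n192312 = n194106 := d21_10 (iv5 D194106) (iv1 D102675) D102676 F157921 F74884 (iv6 F73836) (iv5 D46719) D46717 D100049 D192312
def n194107 : Q := act 6 n102675
theorem D194107 : act 6 n102675 = n194107 := rfl
def n194108 : Q := act 0 n102676
theorem D194108 : act 0 n102676 = n194108 := rfl
def n194109 : Q := act 1 n102676
theorem D194109 : act 1 n102676 = n194109 := rfl
theorem F392068 : act 1 n194109 = n191459 := d15_1 D194109 (iv7 D191459) (iv2 F157920)
theorem F392069 : act 5 n192815 = n194109 := d21_6 F74875 F290818 (iv5 F291078) D99939 F378898 (iv6 F387884) (iv1 D194109) (iv5 D102676) (iv6 D47620) D47617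
theorem F392070 : act 0 n192815 = n177976 := d21_1 (iv5 F392069) (iv5 F383496) (iv6 D191446) F152502 (iv6 F376108) (iv5 D189211) (iv1 F144538) (iv5 F372655) (iv6 F383517) (iv1 F392068)
def n194110 : Q := act 7 n102676
theorem D194110 : act 7 n102676 = n194110 := rfl
theorem F392071 : act 2 n194110 = n191459 := d4_1 D194110 (iv7 D191459) (iv2 F157920)
theorem F392072 : act 5 n194110 = n102677 := d13_1 D194110 (iv7 D102677) D102676
theorem F392073 : act 6 n194110 = n187707 := d14_1 D194110 (iv7 D187707) (iv6 D90481) F291675 (iv6 F157921)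
theorem F392074 : act 1 n191459 = n194108 := d15_0 (iv0 D194108) D194110 F392071
theorem F392075 : act 1 n191458 = n194110 := d15_1 D191458 (iv7 D194110) F157920
theorem F392076 : act 1 n194110 = n191457 := d15_0 (iv0 D191457) D191459 (iv2 F392071)
def n194111 : Q := act 3 n102698
theorem D194111 : act 3 n102698 = n194111 := rfl
theorem F392077 : act 2 n194111 = n183897 := d0_1 D194111 (iv3 D183897) (iv2 F134650) D88315 F157958
theorem F392078 : act 7 n194111 = n185372 := d8_2 F382974 D194111 (iv3 F382971)
theorem F392079 : act 4 n194111 = n154521 := d20_6 D102308 F157125 (iv4 D47637) (iv3 F74917) D102698 D194111 (iv1 F364815) (iv4 D102302) F74650 D47476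
theorem F392080 : act 6 n193790 = n194111 := d10_0 F392079 (iv6 F372793) D193790
theorem F392081 : act 1 n185307 = n194111 := d17_8 (iv1 F364815) D193763 F390939 F388315 (iv4 D185312) (iv5 D88291) D88289 D185307 F392079
theorem F392082 : act 0 n185306 = n194111 := d18_0 F392079 (iv1 F364815) (iv4 D102302) (iv5 D47474) (iv4 F70771) F76171 (iv4 F147048) (iv0 F147050) D185306
theorem F392083 : act 3 n192616 = n193790 := d7_3 F392080 (iv3 D194111) (iv6 F387254)
theorem F392084 : act 5 n193790 = n192611 := d6_2 D192616 F392083 F387246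
theorem F392085 : act 0 n192047 = n192611 := d19_0 (iv5 F392084) (iv4 D193790) F372792 F337972 (iv5 F362833) (iv4 D92588) F67978 D43322 F292120 F73893 F66361 (iv1 F32033) (iv5 D20197) D20196 D42750 F177417 D46538 D99567 D192047
def n194112 : Q := act 4 n102698
theorem D194112 : act 4 n102698 = n194112 := rfl
theorem F392086 : act 2 n194112 = n177912 := d1_1 D194112 F332660 F157958
theorem F392087 : act 3 n194112 = n147855 := d5_1 D194112 (iv4 F231628) D154521 (iv4 F392079) (iv3 D194111)
theorem F392088 : act 7 n194112 = n177911 := d11_2 F382974 D194112 F382975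
theorem F392089 : act 5 n194112 = n147854 := d16_1 D194112 (iv4 F388435) F388436 (iv4 D185779) (iv5 F292140) (iv4 F293164) F157956 F157957 F157958
theorem F392090 : act 0 n194112 = n154082 := d17_0 (iv5 D154082) (iv1 F241802) (iv5 F387071) F387070 F154410 F289799 D177856 F290094 D194112
theorem F392091 : act 1 n194112 = n154650 := d15_1 (iv0 F392090) F305181 (iv2 F305509)
def n194113 : Q := act 4 n102699
theorem D194113 : act 4 n102699 = n194113 := rfl
theorem F392092 : act 2 n194113 = n177911 := d1_1 D194113 F382975 (iv2 F382972)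
theorem F392093 : act 7 n194113 = n177912 := d11_2 (iv7 F157957) D194113 F332660
theorem F392094 : act 5 n194113 = n171134 := d16_7 (iv4 F388435) F388436 (iv4 D185779) (iv5 F292140) (iv4 F293164) F157956 D194113 (iv7 F387154) F387153
theorem F392095 : act 0 n194113 = n154650 := d17_0 (iv5 D154650) (iv1 D73331) D73333 (iv4 F349322) (iv5 D99286) F74047 D47635 D102699 D194113
theorem F392096 : act 1 n194113 = n154082 := d18_8 (iv1 F241802) (iv4 F268349) (iv1 F268351) (iv4 F348239) F348236 (iv4 D102700) D102699 D194113 (iv5 D154082)
theorem F392097 : act 0 n193779 = n183754 := d20_10 F332668 (iv1 F392096) (iv4 D194113) (iv3 F157955) (iv1 F134644) (iv3 F74619) D102085 F328981 (iv4 F357611) D193779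
def n194114 : Q := act 6 n102699
theorem D194114 : act 6 n102699 = n194114 := rfl
theorem F392098 : act 3 n194114 = n154398 := d7_1 D194114 F353696 F157955
theorem F392099 : act 5 n194114 = n186682 := d12_1 D194114 (iv6 D186682) (iv5 D89037) D89038 F157956
def n194115 : Q := act 0 n102700
theorem D194115 : act 0 n102700 = n194115 := rfl
theorem F392100 : act 5 n194115 = n192583 := d17_3 F348237 F348236 D194115 F387168 (iv5 F384468) F384471 (iv5 F332662) (iv0 F233187) (iv4 F304373)
theorem F392101 : act 4 n194115 = n185032 := d18_1 D194115 F382976 (iv4 D177913) (iv5 D84695) F120844 (iv0 F268332) (iv4 F304378) F348240 F348236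
theorem F392102 : act 3 n153816 = n194115 := d20_5 (iv4 F306747) F306746 (iv4 D84765) (iv3 F129964) (iv1 F366915) F392101 F382976 (iv4 D177913) F129922 D84700
def n194116 : Q := act 1 n102700
theorem D194116 : act 1 n102700 = n194116 := rfl
def n194117 : Q := act 6 n102700
theorem D194117 : act 6 n102700 = n194117 := rfl
theorem F392103 : act 4 n194117 = n102701 := d10_1 D194117 (iv6 D102701) D102700
def n194118 : Q := act 0 n102701
theorem D194118 : act 0 n102701 = n194118 := rfl
def n194119 : Q := act 1 n102701
theorem D194119 : act 1 n102701 = n194119 := rfl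
theorem F392104 : act 6 n194112 = n194119 := d21_3 D177960 F366849 (iv5 F392089) (iv1 D194119) (iv6 D102701) (iv5 D47635) (iv1 F74047) D99286 (iv6 F349321) (iv1 F387057)
theorem F392105 : act 3 n194119 = n183909 := d7_1 F392104 F338018 (iv3 F392087)
theorem F392106 : act 4 n194119 = n192616 := d10_1 F392104 F387254 D194112
theorem F392107 : act 7 n185506 = n194119 := d8_0 F392105 F338019 D185506
theorem F392108 : act 0 n102704 = n193790 := d20_7 F135170 D88240 (iv4 F353735) (iv3 F392105) (iv1 D194119) F157959 (iv4 F157965) (iv4 D193790) F372792 F337972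
theorem F392109 : act 2 n185506 = n194118 := d15_3 (iv0 D194118) D194119 (iv7 F392107)
def n194120 : Q := act 7 n102701
theorem D194120 : act 7 n102701 = n194120 := rfl
theorem F392110 : act 3 n194120 = n102708 := d8_1 D194120 (iv7 D102708) (iv3 F157959)
theorem F392111 : act 5 n194120 = n188609 := d13_1 D194120 (iv7 D188609) (iv5 F367244)
def n194121 : Q := act 0 n102703
theorem D194121 : act 0 n102703 = n194121 := rfl
def n194122 : Q := act 1 n102703
theorem D194122 : act 1 n102703 = n194122 := rfl
theorem F392112 : act 4 n194122 = n177919 := d18_7 (iv1 F314826) (iv4 F198631) F348241 (iv4 D175486) D175487 F348235 D194122 (iv0 F351964) (iv5 D154836)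
def n194123 : Q := act 2 n102703
theorem D194123 : act 2 n102703 = n194123 := rfl
theorem F392113 : act 4 n194123 = n154462 := d1_2 F348235 D194123 F361523
def n194124 : Q := act 6 n102703
theorem D194124 : act 6 n102703 = n194124 := rfl
theorem F392114 : act 3 n194124 = n102704 := d7_1 D194124 (iv6 D102704) D102703
theorem F392115 : act 5 n194124 = n192764 := d12_1 D194124 F387700 F251638 (iv6 F193448) F348244
def n194125 : Q := act 5 n102704
theorem D194125 : act 5 n102704 = n194125 := rfl
theorem F392116 : act 3 n194125 = n192764 := d6_1 D194125 (iv5 F392115) F392114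
def n194126 : Q := act 7 n102704
theorem D194126 : act 7 n102704 = n194126 := rfl
theorem F392117 : act 4 n194126 = n102708 := d11_1 D194126 (iv7 D102708) (iv4 F157965)
theorem F392118 : act 6 n194126 = n154562 := d14_1 D194126 F370381 (iv6 D187449) F290886 D102704
def n194127 : Q := act 3 n102705
theorem D194127 : act 3 n102705 = n194127 := rfl
theorem F392119 : act 7 n194127 = n185489 := d8_2 (iv7 F370454) D194127 F384548
theorem F392120 : act 2 n194127 = n185488 := d15_3 (iv0 D185488) D185489 (iv7 F392119)
def n194128 : Q := act 4 n102705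
theorem D194128 : act 4 n102705 = n194128 := rfl
theorem F392121 : act 2 n194128 = n193762 := d1_1 D194128 F390935 F370453
theorem F392122 : act 7 n194128 = n193787 := d11_2 (iv7 F370454) D194128 F391007
theorem F392123 : act 0 n194128 = n193789 := d18_2 D102705 D194128 F391009 (iv5 F370925) F370924 F144540 (iv4 F367223) (iv0 D92569) F292206
theorem F392124 : act 6 n188232 = n194128 := d21_3 (iv5 F137043) (iv1 F368433) (iv5 F372763) F392123 F391010 (iv5 D149192) (iv1 F154835) D186762 F367918 F289676
theorem F392125 : act 3 n194128 = n193834 := d7_1 F392124 (iv6 D193834) F372765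
theorem F392126 : act 5 n194128 = n191999 := d12_1 F392124 (iv6 D191999) (iv5 F380100) F380102 (iv5 F372763)
theorem F392127 : act 0 n188241 = n194128 := d21_4 (iv5 F290627) (iv1 F144690) F144688 (iv6 F372797) (iv6 F392124) F372763 (iv1 D186893) D186894 F368439 (iv1 F153872)
theorem F392128 : act 0 n194127 = n185491 := d20_4 D188241 F392127 (iv4 D194128) D194127 F329980 F135327 D88366 (iv4 F353736) (iv3 F372787) (iv1 D188240)
def n194129 : Q := act 6 n102705
theorem D194129 : act 6 n102705 = n194129 := rfl
theorem F392129 : act 2 n194129 = n193761 := d3_1 D194129 (iv6 F390934) F370453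
theorem F392130 : act 4 n194129 = n188232 := d10_1 D194129 F392124 (iv4 D194128)
theorem F392131 : act 7 n194129 = n192369 := d14_2 (iv7 F370454) D194129 F386590 D192372 (iv6 F386603)
theorem F392132 : act 5 n194129 = n192370 := d21_6 F73773 F66539 D22928 D47638 D102705 D194129 (iv1 F386593) (iv5 F369081) (iv6 D187099) (iv1 F137259)
def n194130 : Q := act 3 n102706
theorem D194130 : act 3 n102706 = n194130 := rfl
def n194131 : Q := act 4 n102706
theorem D194131 : act 4 n102706 = n194131 := rfl
theorem F392133 : act 2 n194131 = n193787 := d1_1 D194131 F391007 F370446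
theorem F392134 : act 6 n194131 = n193552 := d10_2 F384814 D194131 F390245
theorem F392135 : act 7 n194131 = n193762 := d11_2 F370452 D194131 F390935
theorem F392136 : act 0 n194131 = n188241 := d18_2 (iv1 F370451) D194131 (iv4 D188241) (iv5 D91109) F66891 D91069 F367227 F142597 (iv5 F370448)
theorem F392137 : act 1 n194131 = n193789 := d15_1 (iv0 F392136) (iv7 D193789) (iv2 F372796)
def n194132 : Q := act 2 n102717
theorem D194132 : act 2 n102717 = n194132 := rfl
theorem F392138 : act 3 n194132 = n104316 := d0_2 D102717 D194132 (iv2 D104316) (iv3 D48278) (iv2 F74926)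
theorem F392139 : act 4 n194132 = n102725 := d1_2 (iv4 F157980) D194132 (iv2 D102725)
theorem F392140 : act 6 n194132 = n185682 := d3_2 (iv6 F294018) D194132 (iv2 D185682)
theorem F392141 : act 7 n194132 = n103234 := d4_2 F290573 D194132 F158479
theorem F392142 : act 1 n194132 = n103239 := d15_0 (iv0 D103239) F290573 D194132
theorem F392143 : act 1 n103240 = n194132 := d15_0 F392142 (iv7 F158485) (iv2 F158482)
def n194133 : Q := act 5 n102743
theorem D194133 : act 5 n102743 = n194133 := rfl
theorem F392144 : act 2 n194133 = n102744 := d2_1 D194133 (iv5 D102744) D102743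
theorem F392145 : act 3 n194133 = n164497 := d6_1 D194133 (iv5 F371813) F371811
theorem F392146 : act 6 n194133 = n148891 := d12_2 F293383 D194133 F312025 F349249 (iv5 F293382)
theorem F392147 : act 7 n194133 = n127667 := d13_2 (iv7 F291712) D194133 (iv5 F360908)
theorem F392148 : act 4 n194133 = n127529 := d16_2 F293391 D194133 (iv5 F235779) F307658 (iv5 F360913) F360912 F286030 (iv7 F75838) (iv2 F293390)
theorem F392149 : act 1 n194133 = n117306 := d17_6 (iv1 D41829) D41831 D89566 (iv5 F293392) F293391 D194133 F316821 F145283 F69362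
theorem F392150 : act 0 n194133 = n117865 := d18_0 (iv4 D117865) (iv1 D54292) D54294 (iv5 F333309) (iv4 F349290) (iv0 F385361) F385358 F333321 D194133
theorem F392151 : act 5 n174583 = n190971 := d19_13 (iv1 F291709) D194133 F392148 (iv3 D127529) (iv1 F94374) F45989 (iv4 F46212) F300602 (iv1 D18325) D18326 D38430 D83428 D174583 (iv4 D190971) F149816 (iv1 F251740) (iv5 D159771) (iv4 D76448) (iv3 F114590)
theorem F392152 : act 2 n191003 = n174583 := d2_3 F392151 F381762 D191003
theorem F392153 : act 7 n174584 = n191003 := d15_2 (iv0 D174583) D174584 F392152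
theorem F392154 : act 5 n191004 = n174584 := d13_3 F392153 (iv5 D191003) D191004
def n194134 : Q := act 0 n102775
theorem D194134 : act 0 n102775 = n194134 := rfl
theorem F392155 : act 2 n119604 = n194134 := d15_3 (iv0 D194134) F342781 (iv7 F342784)
theorem F392156 : act 1 n153370 = n194134 := d15_0 (iv0 D194134) (iv7 F370367) (iv2 F370371)
theorem F392157 : act 7 n194134 = n124671 := d15_2 D153370 F392156 F199436
theorem F392158 : act 6 n153368 = n194134 := d14_5 F392157 (iv6 D124671) F92101 D72458 D153368
def n194135 : Q := act 2 n102775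
theorem D194135 : act 2 n102775 = n194135 := rfl
theorem F392159 : act 3 n194135 = n139991 := d0_2 D102775 D194135 (iv2 F224503) F346091 F290880
theorem F392160 : act 4 n194135 = n128221 := d1_2 F346102 D194135 F346110
theorem F392161 : act 7 n194135 = n153370 := d4_2 F370367 D194135 F370371
theorem F392162 : act 1 n194135 = n124671 := d15_0 (iv0 F370368) F370367 D194135
theorem F392163 : act 1 n119604 = n194135 := d15_0 F392162 (iv7 F392157) (iv2 F392155)
theorem F392164 : act 6 n139989 = n194135 := d14_5 F392161 (iv6 F380692) F380691 F359702 F224525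
def n194136 : Q := act 6 n102775
theorem D194136 : act 6 n102775 = n194136 := rfl
theorem F392165 : act 2 n194136 = n139989 := d3_1 D194136 F392164 (iv2 D194135)
theorem F392166 : act 3 n194136 = n102776 := d7_1 D194136 (iv6 D102776) D102775
theorem F392167 : act 4 n194136 = n147269 := d10_1 D194136 F346106 F346102
theorem F392168 : act 7 n194136 = n176492 := d14_2 F370367 D194136 (iv6 D176492) (iv7 F272237) F370370
theorem F392169 : act 1 n148790 = n194136 := d15_1 (iv0 F233614) F392168 (iv2 F359703)
def n194137 : Q := act 0 n102776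
theorem D194137 : act 0 n102776 = n194137 := rfl
theorem F392170 : act 4 n194137 = n106182 := d20_8 (iv4 F177897) (iv1 F177900) (iv4 F161863) (iv3 F179070) F334778 F291747 (iv4 F158028) D194137 F163177 D106188
theorem F392171 : act 6 n106180 = n194137 := d10_0 F392170 (iv6 D106182) D106180
theorem F392172 : act 1 n139948 = n194137 := d18_6 (iv1 F291034) (iv4 F331472) (iv1 F357463) F357465 (iv5 F377176) F377175 F392170 F340909 (iv5 F322607)
def n194138 : Q := act 1 n102776
theorem D194138 : act 1 n102776 = n194138 := rfl
theorem F392173 : act 1 n194138 = n139948 := d15_1 D194138 (iv7 F224500) F346096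
theorem F392174 : act 4 n194138 = n144917 := d18_7 F291597 F355661 (iv1 D103004) F75019 (iv5 F74939) (iv4 F158028) D194138 F229112 F343308
theorem F392175 : act 3 n135254 = n144917 := d20_5 F334784 (iv1 D173648) (iv4 F317561) F213437 D135254 (iv4 F392174) (iv1 D194138) F158028 (iv3 F291747) (iv1 F334783)
theorem F392176 : act 3 n148793 = n194138 := d20_5 (iv4 D26144) F26928 D32368 D69733 D148793 F392174 (iv1 D144917) (iv4 F183480) (iv3 D117252) (iv1 D54041)
def n194139 : Q := act 5 n102776
theorem D194139 : act 5 n102776 = n194139 := rfl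
def n194140 : Q := act 7 n102776
theorem D194140 : act 7 n102776 = n194140 := rfl
theorem F392177 : act 2 n194140 = n139948 := d4_1 D194140 (iv7 F224500) F346096
theorem F392178 : act 3 n194140 = n176492 := d8_1 D194140 (iv7 F392168) F392166
theorem F392179 : act 4 n194140 = n102779 := d11_1 D194140 (iv7 D102779) (iv4 F158028)
theorem F392180 : act 6 n194140 = n176490 := d14_1 D194140 F370375 (iv6 D187448) F290879 D102776
def n194141 : Q := act 5 n102777
theorem D194141 : act 5 n102777 = n194141 := rfl
theorem F392181 : act 7 n194141 = n188522 := d13_2 (iv7 F377168) D194141 F377158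
theorem F392182 : act 1 n194141 = n189701 := d17_8 (iv1 D144148) (iv5 D67532) D67529 D144139 F357465 (iv5 F377176) F377179 D194141 F386898
def n194142 : Q := act 3 n102778
theorem D194142 : act 3 n102778 = n194142 := rfl
theorem F392183 : act 0 n194142 = n189293 := d20_10 F376343 F364559 (iv4 F229102) (iv3 D145915) (iv1 D68420) D68421 (iv4 F105065) D146931 F377180 D194142
def n194143 : Q := act 5 n102778
theorem D194143 : act 5 n102778 = n194143 := rfl
theorem F392184 : act 2 n194143 = n188522 := d2_1 D194143 F377158 F377171
theorem F392185 : act 0 n194143 = n189701 := d18_0 F386898 (iv1 D144148) D144149 (iv5 F340910) (iv4 F392170) (iv0 D194137) F158028 D102778 D194143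
theorem F392186 : act 6 n194143 = n188504 := d21_3 (iv5 F377176) (iv1 F377178) D194143 (iv1 F373757) F294564 F69420 (iv1 F68986) D93870 F355639 (iv1 F151170)
def n194144 : Q := act 6 n102778
theorem D194144 : act 6 n102778 = n194144 := rfl
def n194145 : Q := act 1 n102780
theorem D194145 : act 1 n102780 = n194145 := rfl
theorem F392187 : act 7 n194145 = n111419 := d15_2 (iv0 F280853) D194145 (iv2 F365756)
theorem F392188 : act 3 n111277 = n194145 := d20_3 F171654 D110830 (iv4 F172605) (iv1 D194145) (iv3 D102780) (iv4 D47667) F43723 (iv4 F60682) F326756 (iv1 F171656)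
theorem F392189 : act 4 n111852 = n194145 := d20_6 (iv4 D35885) F28330 D18467 (iv3 F326392) D51574 D111852 (iv1 D194145) F158030 (iv3 D47669) (iv1 F56545)
theorem F392190 : act 2 n194145 = n157974 := d0_1 F392188 (iv3 D157974) (iv2 F261308) F327418 F172606
def n194146 : Q := act 2 n102780
theorem D194146 : act 2 n102780 = n194146 := rfl
theorem F392191 : act 4 n194146 = n102785 := d1_2 (iv4 F158030) D194146 (iv2 D102785)
theorem F392192 : act 1 n194146 = n157974 := d15_0 (iv0 F256260) F256259 D194146
theorem F392193 : act 1 n111419 = n194146 := d15_0 F392192 (iv7 F280852) F365756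
def n194147 : Q := act 2 n102783
theorem D194147 : act 2 n102783 = n194147 := rfl
theorem F392194 : act 7 n102784 = n194147 := d15_2 (iv0 D102783) D102784 (iv2 D194147)
def n194148 : Q := act 3 n102783
theorem D194148 : act 3 n102783 = n194148 := rfl
theorem F392195 : act 4 n194148 = n163265 := d20_6 F296037 (iv1 F296035) D22947 D47669 D102783 D194148 (iv1 D163265) F119667 (iv3 D75804) F54909
theorem F392196 : act 1 n188477 = n194148 := d17_8 (iv1 D163265) D163267 (iv1 F381402) F381404 F160673 F76227 D97363 (iv5 F373619) F392195
theorem F392197 : act 0 n187274 = n194148 := d20_10 F392195 (iv1 D163265) F119667 (iv3 D75804) F54909 D75303 (iv4 F297201) D78502 D163351 (iv3 F369675)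
def n194149 : Q := act 4 n102783
theorem D194149 : act 4 n102783 = n194149 := rfl
def n194150 : Q := act 5 n102783
theorem D194150 : act 5 n102783 = n194150 := rfl
def n194151 : Q := act 6 n102783
theorem D194151 : act 6 n102783 = n194151 := rfl
def n194152 : Q := act 7 n102783
theorem D194152 : act 7 n102783 = n194152 := rfl
theorem F392198 : act 2 n194152 = n102784 := d4_1 D194152 F392194 (iv2 D194147)
def n194153 : Q := act 3 n102784
theorem D194153 : act 3 n102784 = n194153 := rfl
def n194154 : Q := act 4 n102784
theorem D194154 : act 4 n102784 = n194154 := rfl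
theorem F392199 : act 3 n170826 = n194154 := d20_5 (iv4 D34439) (iv1 F29162) D37503 D81897 D170826 (iv4 D194154) (iv1 D102784) (iv4 F158030) (iv3 D102780) F74940
def n194155 : Q := act 5 n102784
theorem D194155 : act 5 n102784 = n194155 := rfl
def n194156 : Q := act 6 n102784
theorem D194156 : act 6 n102784 = n194156 := rfl
def n194157 : Q := act 6 n102785
theorem D194157 : act 6 n102785 = n194157 := rfl
theorem F392200 : act 2 n194157 = n102786 := d3_1 D194157 (iv6 D102786) D102785
theorem F392201 : act 3 n194157 = n186300 := d7_1 D194157 F289064 (iv3 F158041)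
theorem F392202 : act 7 n194157 = n189939 := d14_2 F258602 D194157 (iv6 F378316) F382061 (iv6 F382064)
theorem F392203 : act 1 n194157 = n104761 := d15_0 (iv0 F365997) F302204 (iv2 F392200)
theorem F392204 : act 1 n189940 = n194157 := d15_0 F392203 F160481 D189940
theorem F392205 : act 1 n162635 = n189940 := d15_0 F392204 F392202 (iv2 F378314)
def n194158 : Q := act 1 n102786
theorem D194158 : act 1 n102786 = n194158 := rfl
theorem F392206 : act 1 n194158 = n189939 := d15_1 D194158 (iv7 F392202) F392200
theorem F392207 : act 7 n194158 = n189940 := d15_2 (iv0 F365880) D194158 (iv2 D189940)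
theorem F392208 : act 2 n104761 = n194158 := d4_3 F392207 (iv2 D189940) (iv7 F160481)
theorem F392209 : act 5 n190111 = n194158 := d13_3 F392207 F379125 (iv7 F379126)
def n194159 : Q := act 5 n102786
theorem D194159 : act 5 n102786 = n194159 := rfl
theorem F392210 : act 3 n194159 = n102787 := d6_1 D194159 (iv5 D102787) (iv3 F158042)
theorem F392211 : act 4 n190146 = n194159 := d5_0 F392210 (iv4 F273946) (iv3 F378979) (iv4 D190147) (iv3 F378976)
theorem F392212 : act 0 n194159 = n187266 := d20_4 (iv4 F273403) (iv1 F273949) F273946 (iv3 F392210) (iv3 D187266) F137914 (iv1 F76138) D97076 (iv3 F364878) (iv1 F271781)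
def n194160 : Q := act 3 n102814
theorem D194160 : act 3 n102814 = n194160 := rfl
theorem F392213 : act 7 n194160 = n186312 := d8_2 (iv7 F364550) D194160 (iv3 D186312)
theorem F392214 : act 1 n191071 = n194160 := d15_1 F382102 F392213 (iv2 F364552)
theorem F392215 : act 1 n194160 = n130326 := d15_1 F392214 (iv7 F363509) (iv2 F382097)
theorem F392216 : act 5 n190481 = n194160 := d21_6 (iv5 D44774) (iv1 F70150) (iv5 F147147) D189990 (iv1 F378475) D190481 (iv1 F392214) F382100 (iv6 F378492) (iv1 D95918)
theorem F392217 : act 3 n189717 = n190481 := d6_3 F392216 (iv3 D194160) F377512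
theorem F392218 : act 6 n190478 = n189717 := d7_0 F392217 (iv6 D190481) D190478
theorem F392219 : act 2 n190435 = n190478 := d3_3 F392218 (iv2 F377511) D190435
theorem F392220 : act 4 n190434 = n190478 := d10_3 F392218 F377510 D190434
theorem F392221 : act 5 n113123 = n190478 := d21_8 F292455 (iv1 F360323) F346866 (iv6 D53930) (iv1 F82542) D113101 F176214 D113123 F392218 (iv1 D189717)
theorem F392222 : act 0 n190478 = n189651 := d21_4 F350477 (iv1 F158079) F377512 (iv6 F392218) (iv6 F377269) (iv5 D189491) (iv1 F144791) (iv5 F306979) (iv6 F306985) F306982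
theorem F392223 : act 3 n190480 = n113123 := d6_3 F392221 (iv3 D190478) D190480
def n194161 : Q := act 4 n102814
theorem D194161 : act 4 n102814 = n194161 := rfl
theorem F392224 : act 2 n194161 = n186308 := d1_1 D194161 (iv4 D186308) (iv2 F364549)
theorem F392225 : act 5 n194161 = n189551 := d9_2 (iv5 F377512) D194161 (iv4 D189551) (iv5 D94036) F293507 (iv5 F294017) (iv4 F377503) F377502 F364547 F364796 (iv4 F372180) (iv5 D188030) (iv4 F160711) F160712 (iv4 F377510)
theorem F392226 : act 7 n194161 = n186313 := d11_2 (iv7 F364550) D194161 (iv4 D186313)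
theorem F392227 : act 0 n194161 = n188440 := d17_0 F377360 F377358 F376749 (iv4 D176847) (iv5 F294880) (iv0 F350479) F129393 D102814 D194161
theorem F392228 : act 3 n194161 = n185529 := d20_9 (iv4 F334377) F334632 (iv4 F280704) (iv3 F334648) (iv1 F282830) (iv3 F282820) F282821 (iv1 F158079) D194161 (iv1 F287811)
def n194162 : Q := act 6 n102814
theorem D194162 : act 6 n102814 = n194162 := rfl
theorem F392229 : act 2 n194162 = n186310 := d3_1 D194162 (iv6 D186310) (iv2 F364549)
def n194163 : Q := act 4 n102862
theorem D194163 : act 4 n102862 = n194163 := rfl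
theorem F392230 : act 2 n194163 = n102866 := d1_1 D194163 (iv4 D102866) (iv2 F158174)
def n194164 : Q := act 6 n102862
theorem D194164 : act 6 n102862 = n194164 := rfl
theorem F392231 : act 2 n194164 = n102867 := d3_1 D194164 (iv6 D102867) (iv2 F158174)
theorem F392232 : act 3 n194164 = n164460 := d7_1 D194164 F259110 F292450
theorem F392233 : act 5 n194164 = n164345 := d12_1 D194164 F374031 F374027 (iv6 D102863) D102862
def n194165 : Q := act 0 n102866
theorem D194165 : act 0 n102866 = n194165 := rfl
def n194166 : Q := act 1 n102866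
theorem D194166 : act 1 n102866 = n194166 := rfl
theorem F392234 : act 4 n118533 = n194166 := d20_6 (iv4 F129326) (iv1 F292533) (iv4 D44099) D44098 (iv1 F177448) (iv3 F186437) (iv1 D194166) (iv4 D102866) F74985 (iv1 F63863)
theorem F392235 : act 6 n194166 = n118532 := d10_2 D118533 F392234 (iv4 D118532)
def n194167 : Q := act 5 n102866
theorem D194167 : act 5 n102866 = n194167 := rfl
def n194168 : Q := act 6 n102866
theorem D194168 : act 6 n102866 = n194168 := rfl
theorem F392236 : act 4 n194168 = n102867 := d10_1 D194168 (iv6 D102867) D102866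
def n194169 : Q := act 0 n102867
theorem D194169 : act 0 n102867 = n194169 := rfl
theorem F392237 : act 5 n194169 = n147239 := d17_3 (iv1 F259009) (iv5 F367082) D194169 F230834 (iv5 F333611) F333610 F333601 (iv0 F333606) (iv4 F334456)
theorem F392238 : act 6 n194169 = n113120 := d21_3 (iv5 D147241) D147239 (iv5 F392237) (iv1 F355202) (iv6 D120135) (iv5 D55283) F76663 D78932 (iv6 F259004) (iv1 F359664)
theorem F392239 : act 3 n151708 = n194169 := d7_3 F392238 F176234 D151708
theorem F392240 : act 4 n113121 = n194169 := d10_3 F392238 (iv4 D113120) D113121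
theorem F392241 : act 4 n151709 = n151564 := d20_8 (iv4 F377543) (iv1 D176840) F129375 (iv3 F158176) D194169 (iv3 F392239) F238587 D151709 F238451 F367182
theorem F392242 : act 7 n189687 = n151709 := d11_0 F392241 (iv7 F238449) (iv4 F377397)
def n194170 : Q := act 1 n102867
theorem D194170 : act 1 n102867 = n194170 := rfl
theorem F392243 : act 6 n114205 = n194170 := d21_3 F82404 D52715 D114205 (iv1 D194170) (iv6 D102867) (iv5 D47705) D47702 (iv5 F293472) (iv6 F359559) (iv1 D112934)
theorem F392244 : act 5 n147240 = n194170 := d21_6 (iv5 D90243) F138579 (iv5 F317458) (iv6 F319013) (iv1 F347670) F347674 (iv1 D194170) F367082 (iv6 F291382) F344370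
theorem F392245 : act 3 n194170 = n189553 := d6_1 F392244 (iv5 F376868) (iv3 F352394)
def n194171 : Q := act 7 n102867
theorem D194171 : act 7 n102867 = n194171 := rfl
theorem F392246 : act 3 n194171 = n102875 := d8_1 D194171 (iv7 D102875) (iv3 F158176)
theorem F392247 : act 5 n194171 = n164344 := d13_1 D194171 (iv7 F288208) (iv5 F367082)
def n194172 : Q := act 3 n102872
theorem D194172 : act 3 n102872 = n194172 := rfl
def n194173 : Q := act 5 n102872
theorem D194173 : act 5 n102872 = n194173 := rfl
theorem F392248 : act 2 n194173 = n150316 := d2_1 D194173 (iv5 F355118) (iv2 F377425)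
theorem F392249 : act 4 n194173 = n150321 := d17_4 (iv1 F355328) (iv5 D102874) D102872 D194173 (iv5 F279063) (iv0 F319234) (iv5 F334746) (iv0 D173658) (iv4 F272145)
theorem F392250 : act 6 n194173 = n159882 := d21_3 (iv5 D102874) D102872 D194173 (iv1 F252115) F347973 (iv5 F318967) (iv1 F97716) (iv5 F318968) D173657 (iv1 F355328)
theorem F392251 : act 0 n147237 = n194173 := d20_10 F392249 F336051 F334804 F161849 (iv1 F161879) (iv3 F331594) F230846 (iv1 D69027) (iv4 F105239) (iv3 F230826)
def n194174 : Q := act 6 n102872
theorem D194174 : act 6 n102872 = n194174 := rfl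
theorem F392252 : act 2 n194174 = n192804 := d3_1 D194174 F387838 (iv2 F377425)
theorem F392253 : act 5 n194174 = n189755 := d12_1 D194174 F387475 F346146 (iv6 F392250) (iv5 D194173)
theorem F392254 : act 7 n192801 = n194174 := d13_0 F392253 (iv7 F387762) D192801
def n194175 : Q := act 5 n102873
theorem D194175 : act 5 n102873 = n194175 := rfl
theorem F392255 : act 3 n194175 = n150318 := d6_1 D194175 F335874 (iv3 F377417)
theorem F392256 : act 7 n194175 = n150316 := d13_2 F377419 D194175 (iv5 F355118)
theorem F392257 : act 4 n194175 = n128484 := d17_4 D164209 (iv5 F331428) (iv1 F289015) D194175 (iv5 D128484) (iv0 F319236) (iv5 F335997) F324705 (iv4 F324706)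
theorem F392258 : act 6 n194175 = n188558 := d21_3 (iv5 F331428) (iv1 F289015) D194175 (iv1 F373950) F177723 (iv5 D52677) (iv1 F40455) D35910 D78889 D164209
theorem F392259 : act 0 n194175 = n147237 := d20_1 (iv4 F392257) F230827 F105263 D69043 F339807 (iv4 F83890) (iv1 F97713) (iv4 F166246) F339215 F339214
def n194176 : Q := act 6 n102873
theorem D194176 : act 6 n102873 = n194176 := rfl
theorem F392260 : act 5 n105385 = n194176 := d21_2 F82485 D105385 (iv6 D194176) (iv1 D102873) (iv6 D47707) (iv5 D22961) (iv1 F31234) D41409 D88691 (iv1 F291034)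
def n194177 : Q := act 4 n102874
theorem D194177 : act 4 n102874 = n194177 := rfl
theorem F392261 : act 2 n194177 = n179255 := d1_1 D194177 (iv4 F350628) F326297
theorem F392262 : act 6 n194177 = n102883 := d10_2 (iv6 F158180) D194177 (iv4 D102883)
theorem F392263 : act 1 n194177 = n158707 := d18_6 F367182 (iv4 F377543) (iv1 D176840) F129375 D102874 D194177 F300963 (iv0 F326574) (iv5 F238452)
theorem F392264 : act 0 n194177 = n153907 := d20_1 D194177 F241888 (iv3 F251184) (iv1 F376580) F376578 F314439 (iv1 D149353) F232204 (iv3 F355327) (iv1 F355328)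
theorem F392265 : act 5 n179253 = n194177 := d12_5 F392262 F291386 D185891 F355499 (iv6 F355497)
theorem F392266 : act 6 n106434 = n113181 := d21_5 F256839 (iv1 F392263) (iv5 F392265) F355497 F382335 (iv5 D113181) (iv1 D52241) D52243 D113189 F362989
theorem F392267 : act 4 n113181 = n106436 := d10_1 F392266 (iv6 D106436) D106434
def n194178 : Q := act 3 n102893
theorem D194178 : act 3 n102893 = n194178 := rfl
theorem F392268 : act 2 n194178 = n190710 := d0_1 D194178 (iv3 D190710) F294406 (iv3 F153481) F367151
theorem F392269 : act 4 n194178 = n103213 := d5_2 D102893 D194178 F293464 (iv4 F293467) F293466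
theorem F392270 : act 6 n194178 = n104618 := d7_2 (iv6 F367150) D194178 F160302
theorem F392271 : act 0 n194178 = n187425 := d20_4 F70880 D47721 D102893 D194178 (iv3 D187425) F294259 (iv1 F295075) F295076 (iv3 F293577) (iv1 D96455)
theorem F392272 : act 0 n190641 = n194178 := d20_4 (iv4 F287961) F370102 F370100 (iv3 F380424) (iv3 D194178) (iv4 D102893) (iv1 F137480) (iv4 F293617) F293616 (iv1 F148559)
def n194179 : Q := act 5 n102893
theorem D194179 : act 5 n102893 = n194179 := rfl
theorem F392273 : act 2 n194179 = n143276 := d2_1 D194179 (iv5 F364508) F367151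
theorem F392274 : act 6 n194179 = n137342 := d12_2 (iv6 F367150) D194179 (iv5 D137342) D137343 (iv5 F362224)
theorem F392275 : act 0 n194179 = n137577 := d17_2 (iv1 F367152) D194179 F344343 (iv4 F289261) D186661 F376696 F366992 F374494 F374491
def n194180 : Q := act 4 n102901
theorem D194180 : act 4 n102901 = n194180 := rfl
theorem F392276 : act 2 n194180 = n102905 := d1_1 D194180 (iv4 D102905) (iv2 F158203)
theorem F392277 : act 7 n194180 = n189683 := d11_2 (iv7 F331371) D194180 (iv4 D189683)
theorem F392278 : act 0 n194180 = n189684 := d18_2 (iv1 F331369) D194180 F377389 (iv5 D186658) F136654 D89027 F294940 (iv0 F294681) D94281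
theorem F392279 : act 1 n194180 = n189497 := d18_6 F372608 F144867 (iv1 F293580) F148532 D102901 D194180 (iv4 D189497) D189496 F376710
def n194181 : Q := act 6 n102901
theorem D194181 : act 6 n102901 = n194181 := rfl
theorem F392280 : act 2 n194181 = n102906 := d3_1 D194181 (iv6 D102906) (iv2 F158203)
theorem F392281 : act 3 n194181 = n189703 := d7_1 D194181 (iv6 D189703) F331372
theorem F392282 : act 5 n194181 = n188839 := d12_1 D194181 (iv6 D188839) (iv5 D92838) F293773 D102901
def n194182 : Q := act 6 n102904
theorem D194182 : act 6 n102904 = n194182 := rfl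
theorem F392283 : act 2 n194182 = n131309 := d3_1 D194182 F210447 F331374
theorem F392284 : act 3 n194182 = n135767 := d7_1 D194182 (iv6 F383890) F383886
theorem F392285 : act 5 n194182 = n187174 := d12_1 D194182 (iv6 F369351) F238554 (iv6 F294240) (iv5 F331375)
theorem F392286 : act 7 n194182 = n131294 := d14_2 F331376 D194182 (iv6 D131294) (iv7 F97929) (iv6 F145277)
theorem F392287 : act 0 n194182 = n131308 := d21_4 (iv5 D94288) F294678 (iv5 F331375) D194182 (iv6 F355828) F355700 F339794 D159768 (iv6 F369302) F369304
theorem F392288 : act 1 n194182 = n131307 := d15_0 (iv0 D131307) D131309 (iv2 F392283)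
theorem F392289 : act 3 n133663 = n131307 := d19_19 (iv1 F392288) F392285 (iv4 D187174) (iv3 D89685) (iv1 F64582) (iv5 D21876) (iv4 D10433) F6820 F14256 (iv5 D9150) (iv4 F14251) F14250 F17514 D20249 D42862 D91673 D188437 (iv5 F373472) (iv4 F373808)
def n194183 : Q := act 1 n102905
theorem D194183 : act 1 n102905 = n194183 := rfl
theorem F392290 : act 1 n194183 = n189683 := d15_1 D194183 (iv7 F392277) F392276
theorem F392291 : act 7 n194183 = n189684 := d15_2 F367592 D194183 (iv2 F377390)
theorem F392292 : act 4 n194183 = n186360 := d18_7 F367216 F158167 (iv1 D96455) F70880 D47724 D102905 D194183 F367585 F367586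
theorem F392293 : act 2 n189497 = n194183 := d1_3 F392292 F366991 D189497
theorem F392294 : act 5 n131307 = n194183 := d17_3 (iv1 D151686) F108015 D131307 F392292 (iv5 D186360) (iv0 F295034) (iv5 F375296) F376260 (iv4 F376258)
theorem F392295 : act 4 n131307 = n186687 := d9_3 D186360 (iv4 F392292) (iv5 F392294) (iv5 D186687) (iv4 D89041) (iv5 D41586) (iv4 F64163) D89018 D186665 F367591 F355829 (iv5 F335487) (iv4 F216891) (iv5 F364853) F294939
theorem F392296 : act 6 n189345 = n131307 := d10_0 F392295 F367678 D189345
def n194184 : Q := act 5 n102905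
theorem D194184 : act 5 n102905 = n194184 := rfl
theorem F392297 : act 7 n194184 = n189686 := d13_2 F367209 D194184 (iv5 D189686)
def n194185 : Q := act 6 n102905
theorem D194185 : act 6 n102905 = n194185 := rfl
theorem F392298 : act 4 n194185 = n102906 := d10_1 D194185 (iv6 D102906) D102905
def n194186 : Q := act 0 n102906
theorem D194186 : act 0 n102906 = n194186 := rfl
def n194187 : Q := act 1 n102906
theorem D194187 : act 1 n102906 = n194187 := rfl
theorem F392299 : act 3 n119098 = n194187 := d20_3 (iv4 D130859) F95886 D119098 (iv1 D194187) F158205 (iv4 F129358) (iv1 F352911) (iv4 F215043) (iv3 D133641) (iv1 F209447)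
theorem E103572 : n194185 = n189353 := (c20_1 (iv4 F392298) (iv1 D189353) (iv4 F376453) F376912 (iv1 F376921) F376916 (iv4 D130859) F95886 D119098 F392299 (iv1 D194187))
theorem F392300 : act 4 n189353 = n102906 := (sb E103572 F392298)
theorem F392301 : act 6 n189353 = n102905 := (sb E103572 (iv6 D194185))
theorem F392302 : act 4 n194187 = n151942 := d5_2 D119098 F392299 (iv3 D151942) (iv4 D71638) (iv3 F86717)
def n194188 : Q := act 7 n102906
theorem D194188 : act 7 n102906 = n194188 := rfl
theorem F392303 : act 3 n194188 = n102914 := d8_1 D194188 (iv7 D102914) (iv3 F158205)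
theorem F392304 : act 5 n194188 = n188842 := d13_1 D194188 (iv7 D188842) (iv5 F367189)
theorem F392305 : act 6 n194188 = n151564 := d14_1 D194188 (iv7 F238449) (iv6 D94337) (iv7 F292772) D102906
def n194189 : Q := act 5 n102911
theorem D194189 : act 5 n102911 = n194189 := rfl
theorem F392306 : act 2 n194189 = n188832 := d2_1 D194189 F375030 (iv2 F385128)
theorem F392307 : act 7 n194189 = n188833 := d13_2 (iv7 F385131) D194189 F375031
theorem F392308 : act 0 n194189 = n188834 := d17_2 D102911 D194189 F375034 F356094 (iv5 F352959) (iv0 D112862) (iv5 F97860) F352911 F129358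
theorem F392309 : act 0 n187807 = n194189 := d21_10 (iv5 D194189) (iv1 F352919) (iv5 F374276) F374277 (iv1 F251201) F251199 (iv5 F143179) (iv1 F76727) (iv5 F139460) D187807
def n194190 : Q := act 6 n102911
theorem D194190 : act 6 n102911 = n194190 := rfl
theorem F392310 : act 2 n194190 = n189712 := d3_1 D194190 (iv6 D189712) (iv2 F385128)
theorem F392311 : act 3 n194190 = n190530 := d7_1 D194190 F380000 (iv3 F385129)
theorem F392312 : act 5 n194190 = n185888 := d21_6 (iv5 D10846) D10843 D22967 D47726 D102911 D194190 (iv1 D185888) F135586 (iv6 D44093) F291761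
theorem F392313 : act 0 n194190 = n188527 := d21_10 F373812 F371501 F371500 (iv6 F369367) (iv1 D94264) D94266 (iv5 F371569) F392309 (iv5 D194189) D194190
def n194191 : Q := act 5 n102912
theorem D194191 : act 5 n102912 = n194191 := rfl
theorem F392314 : act 2 n194191 = n188833 := d2_1 D194191 F375031 (iv2 F385124)
theorem F392315 : act 7 n194191 = n188832 := d13_2 (iv7 F385127) D194191 F375030
theorem F392316 : act 0 n194191 = n187807 := d17_2 (iv1 F367208) D194191 F371569 F352954 (iv5 F352897) F175775 (iv5 F210043) F215059 (iv4 F352915)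
theorem F392317 : act 1 n194191 = n188834 := d17_6 D193697 F390713 F385121 F385119 (iv4 F385126) D194191 F375034 F377221 F377223
theorem F392318 : act 6 n194191 = n188647 := d21_3 F374276 (iv1 F367208) D194191 (iv1 F374306) (iv6 F374318) F374317 (iv1 F375218) (iv5 F375219) F375071 (iv1 F374280)
theorem E103573 : n188903 = n188647 := ((c3_1 F392318 (iv2 D188903) F375032 (iv2 F392314))).symm
theorem F392319 : act 2 n188647 = n92899 := (sb E103573 (iv2 D188903))
theorem F392320 : act 3 n188647 = n187942 := (sb E103573 F375175)
theorem F392321 : act 7 n188647 = n92900 := (sb E103573 (iv7 F375169))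
theorem E103574 : n188906 = n188648 := (c15_4 F374303 F374306 F392321 (iv2 F375170))
theorem F392322 : act 2 n188648 = n92900 := (sb E103574 F375170)
theorem F392323 : act 7 n188648 = n92899 := (sb E103574 (iv7 D188906))
def n194192 : Q := act 6 n102912
theorem D194192 : act 6 n102912 = n194192 := rfl
theorem F392324 : act 2 n194192 = n189644 := d3_1 D194192 F377243 (iv2 F385124)
theorem F392325 : act 0 n194192 = n189646 := d21_4 (iv5 F375034) (iv1 F392317) (iv5 D194191) D194192 F377251 (iv5 F371613) (iv1 F377320) (iv5 D189669) F377222 (iv1 F377221)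
theorem F392326 : act 0 n106487 = n194192 := d21_4 (iv5 D76302) F114354 D49206 D106487 (iv6 D194192) D194191 F392316 F371569 (iv6 D94266) F114400
theorem F392327 : act 7 n189645 = n194192 := d15_2 (iv0 D189644) D189645 F392324
def n194193 : Q := act 4 n102927
theorem D194193 : act 4 n102927 = n194193 := rfl
theorem F392328 : act 2 n194193 = n102931 := d1_1 D194193 (iv4 D102931) (iv2 F158224)
theorem F392329 : act 6 n194193 = n164208 := d10_2 (iv6 F293786) D194193 (iv4 D164208)
theorem F392330 : act 7 n194193 = n189702 := d11_2 (iv7 F293787) D194193 (iv4 D189702)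
theorem F392331 : act 5 n194193 = n163431 := d16_1 D194193 (iv4 F276104) F283197 (iv4 D181900) (iv5 D86878) (iv4 F64566) (iv5 F292529) (iv7 F292777) (iv2 F158224)
theorem F392332 : act 0 n194193 = n160999 := d17_0 (iv5 D160999) D160996 (iv5 F293808) (iv4 D94322) (iv5 D44090) D44087 D94314 (iv0 F293783) D194193
theorem F392333 : act 1 n194193 = n131813 := d18_6 (iv1 F251871) (iv4 F293463) (iv1 F138309) F138307 D102927 D194193 F211227 (iv0 F372178) (iv5 D188030)
theorem F392334 : act 0 n126524 = n106536 := d21_7 F47013 (iv1 F46954) D61852 D131813 (iv1 F392333) F392329 F363067 (iv5 D106536) (iv6 D49230) (iv1 F47012)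
def n194194 : Q := act 4 n102929
theorem D194194 : act 4 n102929 = n194194 := rfl
theorem F392335 : act 2 n194194 = n132142 := d1_1 D194194 (iv4 F343676) (iv2 F293778)
theorem F392336 : act 7 n194194 = n131953 := d11_2 (iv7 F293781) D194194 F211427
theorem F392337 : act 5 n194194 = n166599 := d16_1 D194194 F262188 D180636 (iv4 F366983) (iv5 D97155) F71643 D76498 F157296 (iv2 F293778)
theorem F392338 : act 0 n194194 = n131985 := d18_2 D102929 D194194 (iv4 F372180) (iv5 D188030) (iv4 F160711) (iv0 F350495) (iv4 D102919) (iv0 D47729) D47732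
theorem F392339 : act 1 n194194 = n189551 := d18_6 F178338 (iv4 F69053) D93985 (iv4 F294534) (iv5 F293779) D194194 (iv4 D189551) (iv0 F161694) (iv5 D92425)
theorem F392340 : act 3 n194194 = n166600 := d19_3 D92328 (iv5 F293779) D194194 F262192 (iv5 D91691) F67180 (iv3 D26957) F21408 (iv5 F22120) (iv4 D13312) D13311 F22118 (iv5 D8441) (iv4 F13249) (iv3 F13384) F16786 (iv5 F291593) (iv4 F292552) D43175
def n194195 : Q := act 5 n102937
theorem D194195 : act 5 n102937 = n194195 := rfl
theorem F392341 : act 2 n194195 = n189698 := d2_1 D194195 (iv5 D189698) (iv2 F377446)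
theorem F392342 : act 7 n194195 = n189700 := d13_2 (iv7 F377448) D194195 (iv5 D189700)
theorem F392343 : act 4 n194195 = n147276 := d18_5 (iv1 D102873) (iv4 F129375) D176839 (iv4 F377531) D194195 (iv0 D147276) (iv4 F230827) (iv0 F392259) (iv5 D194175)
def n194196 : Q := act 6 n102937
theorem D194196 : act 6 n102937 = n194196 := rfl
theorem F392344 : act 2 n194196 = n187970 := d3_1 D194196 (iv6 F371978) (iv2 F377446)
theorem F392345 : act 5 n194196 = n187550 := d21_6 F59917 (iv1 F31142) D22970 D47734 D102937 D194196 (iv1 D187550) F138939 (iv6 D44084) (iv1 F292603)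
theorem F392346 : act 7 n187968 = n194196 := d13_0 F392345 (iv7 F371970) D187968
theorem F392347 : act 0 n189650 = n194196 := d21_10 F392345 (iv1 D187550) F138939 (iv6 D44084) (iv1 F292603) D84336 F293652 (iv1 F177285) F367916 (iv6 F377261)
theorem F392348 : act 0 n194196 = n187821 := d21_1 (iv5 F392345) (iv5 D187821) (iv6 D90593) F83497 D114481 (iv5 F288345) (iv1 F288351) (iv5 F370741) F370742 (iv1 F370772)
def n194197 : Q := act 3 n102938
theorem D194197 : act 3 n102938 = n194197 := rfl
theorem F392349 : act 5 n194197 = n170478 := d6_2 F367181 D194197 F366620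
theorem F392350 : act 7 n194197 = n189696 := d8_2 F377444 D194197 (iv3 D189696)
theorem F392351 : act 4 n130572 = n194197 := d19_2 D112974 F355248 (iv3 D194197) (iv1 D102938) (iv5 F293283) F324718 F342694 F82560 (iv5 D49728) (iv4 D24252) (iv3 F38019) F46974 (iv5 D29321) (iv4 F23810) F23809 (iv1 F22274) F22271 (iv4 F39991) D52147
theorem F392352 : act 6 n194197 = n142849 := d10_2 F355410 F392351 (iv4 F363581)
theorem F392353 : act 0 n194197 = n189615 := d17_0 F377124 F235006 (iv5 F379774) F379775 (iv5 D130568) F97607 D133364 F214418 F392351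
def n194198 : Q := act 6 n102938
theorem D194198 : act 6 n102938 = n194198 := rfl
theorem F392354 : act 2 n194198 = n189701 := d3_1 D194198 (iv6 D189701) (iv2 F377445)
theorem F392355 : act 3 n194198 = n142849 := d7_1 D194198 (iv6 F392352) (iv3 D194197)
theorem F392356 : act 5 n194198 = n143657 := d12_1 D194198 F355614 (iv5 D114833) D114834 F367181
def n194199 : Q := act 3 n102966
theorem D194199 : act 3 n102966 = n194199 := rfl
theorem F392357 : act 5 n194199 = n102976 := d6_2 (iv5 F158250) D194199 (iv3 D102976)
theorem F392358 : act 7 n194199 = n189359 := d8_2 (iv7 F367153) D194199 (iv3 D189359)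
def n194200 : Q := act 6 n102966
theorem D194200 : act 6 n102966 = n194200 := rfl
theorem F392359 : act 2 n194200 = n102977 := d3_1 D194200 (iv6 D102977) (iv2 F158249)
theorem F392360 : act 4 n194200 = n102967 := d10_1 D194200 (iv6 D102967) D102966
def n194201 : Q := act 1 n102967
theorem D194201 : act 1 n102967 = n194201 := rfl
theorem F392361 : act 1 n194201 = n102980 := d15_1 D194201 (iv7 D102980) (iv2 F158251)
theorem F392362 : act 7 n194201 = n102978 := d15_2 (iv0 F363542) D194201 F293755
theorem F392363 : act 5 n194201 = n151425 := d17_7 (iv1 F171215) (iv5 D110621) D110618 F343348 F343350 F363541 D194201 F238154 F347787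
theorem F392364 : act 2 n102979 = n194201 := d2_3 F392363 F238149 (iv5 F364520)
theorem F392365 : act 3 n151447 = n194201 := d6_3 F392363 F238150 (iv5 F238186)
theorem F392366 : act 6 n194201 = n189310 := d21_9 (iv5 D187895) (iv1 F370692) F370688 (iv6 F376238) (iv1 F376240) D189421 F376571 (iv1 F238154) (iv5 F392363) (iv1 F376391)
def n194202 : Q := act 7 n102967
theorem D194202 : act 7 n102967 = n194202 := rfl
theorem F392367 : act 2 n194202 = n102980 := d4_1 D194202 (iv7 D102980) (iv2 F158251)
theorem F392368 : act 3 n194202 = n142843 := d8_1 D194202 F226341 (iv3 F363540)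
theorem F392369 : act 5 n194202 = n142842 := d13_1 D194202 F334777 F363541
theorem F392370 : act 6 n194202 = n189363 := d14_1 D194202 (iv7 D189363) (iv6 D93911) F293715 D102967
theorem F392371 : act 1 n102979 = n194202 := d15_1 D102979 (iv7 D194202) F158251
theorem F392372 : act 1 n194202 = n102978 := d15_1 F392371 (iv7 F392362) (iv2 F392364)
def n194203 : Q := act 0 n102976
theorem D194203 : act 0 n102976 = n194203 := rfl
def n194204 : Q := act 1 n102976
theorem D194204 : act 1 n102976 = n194204 := rfl
theorem F392373 : act 4 n190526 = n194204 := d20_0 (iv1 D194204) F158255 (iv3 D47757) (iv1 F59913) D84333 (iv4 F293680) (iv1 F370147) F370145 (iv3 F382735) F382737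
def n194205 : Q := act 2 n102976
theorem D194205 : act 2 n102976 = n194205 := rfl
theorem F392374 : act 4 n194205 = n103001 := d1_2 (iv4 F158255) D194205 (iv2 D103001)
def n194206 : Q := act 6 n102976
theorem D194206 : act 6 n102976 = n194206 := rfl
theorem F392375 : act 3 n194206 = n102977 := d7_1 D194206 (iv6 D102977) D102976
theorem F392376 : act 4 n194206 = n103002 := d10_1 D194206 (iv6 D103002) (iv4 F158255)
def n194207 : Q := act 0 n102977
theorem D194207 : act 0 n102977 = n194207 := rfl
theorem F392377 : act 4 n194207 = n106740 := d18_3 (iv1 D102979) (iv4 F158256) D194207 (iv5 F187318) F313050 F230987 (iv4 F343316) F238144 (iv5 F364520)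
theorem F392378 : act 6 n106739 = n194207 := d10_0 F392377 (iv6 D106740) D106739
def n194208 : Q := act 1 n102977
theorem D194208 : act 1 n102977 = n194208 := rfl
theorem F392379 : act 4 n194208 = n189528 := d18_7 F342078 F105236 D69037 (iv4 F330310) (iv5 F292763) (iv4 F158256) D194208 F376813 (iv5 D175933)
def n194209 : Q := act 5 n102977
theorem D194209 : act 5 n102977 = n194209 := rfl
def n194210 : Q := act 7 n102977
theorem D194210 : act 7 n102977 = n194210 := rfl
theorem F392380 : act 4 n194210 = n102980 := d11_1 D194210 (iv7 D102980) (iv4 F158256)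
theorem F392381 : act 6 n194210 = n189557 := d14_1 D194210 (iv7 F376882) F288407 F293767 D102977
def n194211 : Q := act 4 n102978
theorem D194211 : act 4 n102978 = n194211 := rfl
theorem F392382 : act 2 n194211 = n189313 := d1_1 D194211 F376394 (iv2 F293755)
theorem F392383 : act 6 n194211 = n151426 := d10_2 (iv6 F293758) D194211 (iv4 D151426)
def n194212 : Q := act 4 n102979
theorem D194212 : act 4 n102979 = n194212 := rfl
theorem F392384 : act 7 n194212 = n189313 := d11_2 F364522 D194212 F376394
theorem F392385 : act 0 n194212 = n189367 := d18_2 (iv1 F392371) D194212 F376481 (iv5 D188557) F342080 F272132 (iv4 F334781) F334779 (iv5 F392369)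
theorem F392386 : act 1 n194211 = n189367 := d15_0 (iv0 F392385) F392384 (iv2 F392382)
def n194213 : Q := act 6 n102979
theorem D194213 : act 6 n102979 = n194213 := rfl
theorem F392387 : act 2 n194213 = n189310 := d3_1 D194213 (iv6 F392366) (iv2 F392364)
theorem F392388 : act 3 n194213 = n133414 := d7_1 D194213 F214523 F364521
theorem F392389 : act 5 n194213 = n187843 := d12_1 D194213 F371673 F178530 (iv6 F161734) (iv5 F364520)
theorem F392390 : act 7 n194213 = n133411 := d14_2 F364522 D194213 (iv6 D133411) F97665 D93879
theorem F392391 : act 1 n189309 = n194213 := d15_1 D189309 F392390 F214516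
theorem F392392 : act 1 n194213 = n189308 := d15_1 F392391 (iv7 F376940) F376947
def n194214 : Q := act 2 n102999
theorem D194214 : act 2 n102999 = n194214 := rfl
theorem F392393 : act 7 n103000 = n194214 := d15_2 (iv0 D102999) D103000 (iv2 D194214)
def n194215 : Q := act 3 n102999
theorem D194215 : act 3 n102999 = n194215 := rfl
def n194216 : Q := act 4 n102999
theorem D194216 : act 4 n102999 = n194216 := rfl
theorem F392394 : act 0 n194216 = n191252 := d20_1 D194216 F382760 F150256 F358103 F129333 (iv4 F291763) F291761 D22978 D47757 D102999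
theorem F392395 : act 0 n191180 = n194215 := d20_4 D176736 F382530 F382528 (iv3 F382491) (iv3 D194215) D194216 F392394 F382760 F150256 F358103
theorem F392396 : act 1 n191176 = n194215 := d15_0 (iv0 F392395) (iv7 D191180) (iv2 F382485)
def n194217 : Q := act 5 n102999
theorem D194217 : act 5 n102999 = n194217 := rfl
def n194218 : Q := act 6 n102999
theorem D194218 : act 6 n102999 = n194218 := rfl
def n194219 : Q := act 7 n102999
theorem D194219 : act 7 n102999 = n194219 := rfl
theorem F392397 : act 2 n194219 = n103000 := d4_1 D194219 F392393 (iv2 D194214)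
def n194220 : Q := act 3 n103000
theorem D194220 : act 3 n103000 = n194220 := rfl
def n194221 : Q := act 4 n103000
theorem D194221 : act 4 n103000 = n194221 := rfl
theorem F392398 : act 3 n189407 = n194221 := d20_5 (iv4 D43944) D43942 D94019 D189521 F376899 (iv4 D194221) (iv1 D103000) (iv4 F158255) (iv3 D102976) (iv1 F293766)
theorem F392399 : act 4 n194220 = n189758 := d5_4 (iv4 F376548) F392398 (iv4 D194221) D194220 F377643
theorem F392400 : act 6 n194221 = n189406 := d7_2 D189407 F392398 (iv3 D189406)
theorem F392401 : act 6 n189757 = n194220 := d10_0 F392399 (iv6 D189758) D189757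
theorem F392402 : act 0 n190395 = n194220 := d18_2 (iv1 F363792) (iv4 F379660) F392399 F377644 (iv4 D135809) (iv0 F209279) (iv4 F364661) (iv0 D133644) D133646
def n194222 : Q := act 6 n103000
theorem D194222 : act 6 n103000 = n194222 := rfl
theorem F392403 : act 3 n194222 = n189757 := d7_1 D194222 F392401 (iv3 D194220)
theorem F392404 : act 4 n194222 = n189406 := d10_1 D194222 (iv6 F392400) (iv4 D194221)
def n194223 : Q := act 6 n103001
theorem D194223 : act 6 n103001 = n194223 := rfl
theorem F392405 : act 2 n194223 = n103002 := d3_1 D194223 (iv6 D103002) D103001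
def n194224 : Q := act 1 n103002
theorem D194224 : act 1 n103002 = n194224 := rfl
def n194225 : Q := act 7 n103002
theorem D194225 : act 7 n103002 = n194225 := rfl
theorem F392406 : act 3 n194225 = n103006 := d8_1 D194225 (iv7 D103006) (iv3 F158264)
theorem F392407 : act 5 n194225 = n193741 := d13_1 D194225 (iv7 F390867) F390838
def n194226 : Q := act 0 n103009
theorem D194226 : act 0 n103009 = n194226 := rfl
theorem F392408 : act 5 n194226 = n139362 := d17_3 F222474 (iv5 F355630) D194226 (iv4 D139362) (iv5 F357488) F222491 (iv5 D133981) F101070 D139281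
theorem F392409 : act 4 n194226 = n145920 := d18_1 D194226 (iv1 F355666) (iv4 F355660) F182956 F94066 D65374 (iv4 F206753) (iv0 F206754) (iv5 F355630)
theorem F392410 : act 3 n194226 = n112947 := d20_5 D117011 (iv1 F355227) F346406 F355631 D194226 F175890 (iv1 D52800) D52801 D114417 F355185
theorem F392411 : act 2 n190016 = n194226 := d15_3 (iv0 D194226) (iv0 F355823) (iv7 F378566)
theorem F392412 : act 1 n103014 = n194226 := d15_0 (iv0 D194226) (iv7 F355632) F355617
theorem F392413 : act 7 n194226 = n158122 := d15_2 F356091 F392412 F249059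
theorem F392414 : act 6 n188217 = n194226 := d21_3 (iv5 D95643) (iv1 F295187) (iv5 F372711) (iv1 F392412) (iv6 F356092) (iv5 F352959) (iv1 F175772) (iv5 F210043) (iv6 F356252) F147780
def n194227 : Q := act 1 n103010
theorem D194227 : act 1 n103010 = n194227 := rfl
theorem F392415 : act 1 n194227 = n103015 := d15_1 D194227 F356105 (iv2 F355643)
theorem F392416 : act 3 n151423 = n194227 := d20_3 F313051 D147320 (iv4 F343316) (iv1 D194227) F355644 (iv4 F187251) (iv1 F334857) (iv4 D147987) D147986 F347777
def n194228 : Q := act 4 n103015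
theorem D194228 : act 4 n103015 = n194228 := rfl
theorem F392417 : act 2 n194228 = n117586 := d1_1 D194228 (iv4 F383045) F383041
theorem F392418 : act 3 n194228 = n188334 := d5_1 D194228 F378004 (iv3 F380221) F380222 F356104
theorem F392419 : act 6 n194228 = n117583 := d10_2 F374146 D194228 (iv4 F374145)
theorem F392420 : act 7 n194228 = n148120 := d11_2 (iv7 F356105) D194228 F347741
theorem F392421 : act 1 n194228 = n117694 := d18_6 F355667 (iv4 F392409) (iv1 F392412) (iv4 D103014) D103015 D194228 F184316 F355817 (iv5 F176072)
theorem F392422 : act 0 n194228 = n120465 := d20_1 D194228 F355822 F355820 (iv1 D151316) (iv3 F114465) (iv4 F115233) F321027 F103179 D143657 F355615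
def n194229 : Q := act 5 n103022
theorem D194229 : act 5 n103022 = n194229 := rfl
theorem F392423 : act 2 n194229 = n112989 := d2_1 D194229 F366637 F158918
theorem F392424 : act 3 n194229 = n184199 := d6_1 D194229 (iv5 D184199) (iv3 F158270)
theorem F392425 : act 6 n112985 = n194229 := d3_0 F392423 (iv6 D112989) (iv2 F175955)
def n194230 : Q := act 4 n103023
theorem D194230 : act 4 n103023 = n194230 := rfl
theorem F392426 : act 3 n194230 = n156959 := d5_1 D194230 (iv4 F372284) (iv3 F372286) (iv4 F387950) F387947
theorem F392427 : act 6 n112964 = n194230 := d7_0 F392426 (iv6 D156959) F245464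
def n194231 : Q := act 6 n103023
theorem D194231 : act 6 n103023 = n194231 := rfl
theorem F392428 : act 3 n194231 = n113070 := d7_1 D194231 F387955 F387947
theorem F392429 : act 4 n194231 = n112964 := d10_1 D194231 F392427 (iv4 D194230)
theorem F392430 : act 5 n194231 = n190762 := d12_1 D194231 (iv6 D190762) (iv5 F343072) F343073 D103023
theorem F392431 : act 0 n190444 = n190762 := d19_0 (iv5 F392430) F392429 (iv3 F245464) (iv1 F321515) (iv5 F319533) (iv4 D138373) (iv3 D64997) (iv1 D30531) D30533 (iv4 F309947) F309946 (iv1 F96350) (iv5 F311212) (iv4 F105842) (iv3 F312027) (iv1 D147300) (iv5 F164505) (iv4 F356824) D190444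
theorem F392432 : act 7 n113066 = n194231 := d11_0 F392429 F320439 (iv4 F320583)
def n194232 : Q := act 5 n103025
theorem D194232 : act 5 n103025 = n194232 := rfl
theorem F392433 : act 3 n194232 = n120012 := d6_1 D194232 F330004 F158519
theorem F392434 : act 7 n194232 = n112989 := d13_2 F158919 D194232 F366637
def n194233 : Q := act 6 n103025
theorem D194233 : act 6 n103025 = n194233 := rfl
theorem F392435 : act 3 n194233 = n189868 := d7_1 D194233 F381192 F158519
theorem F392436 : act 4 n194233 = n103027 := d10_1 D194233 (iv6 D103027) D103025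
def n194234 : Q := act 4 n103026
theorem D194234 : act 4 n103026 = n194234 := rfl
def n194235 : Q := act 6 n103026
theorem D194235 : act 6 n103026 = n194235 := rfl
def n194236 : Q := act 3 n103028
theorem D194236 : act 3 n103028 = n194236 := rfl
theorem F392437 : act 2 n194236 = n144251 := d0_1 D194236 F368767 (iv2 F385849) (iv3 F385845) F270492
theorem F392438 : act 5 n194236 = n176552 := d6_2 F369783 D194236 F369787
theorem F392439 : act 7 n194236 = n144140 := d8_2 (iv7 F270491) D194236 F368781
theorem F392440 : act 4 n194236 = n189907 := d20_6 (iv4 F331250) (iv1 F331253) (iv4 D47775) (iv3 F75024) D103028 D194236 F378187 (iv4 F329993) F154898 (iv1 F146942)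
theorem F392441 : act 1 n144252 = n194236 := d17_8 F378187 (iv5 F292850) (iv1 F384395) F384397 (iv4 F387967) (iv5 D192834) (iv0 F386690) F386687 F392440
theorem F392442 : act 0 n139581 = n194236 := d18_0 F392440 F378187 (iv4 F329993) F154899 F74218 F74210 D100780 (iv0 F159080) (iv5 F357204)
theorem F392443 : act 6 n194236 = n158812 := d21_5 (iv5 F157448) F357191 F357189 (iv6 F222719) F392442 (iv5 D158812) (iv1 F298044) D162704 F385933 (iv1 D192191)
def n194237 : Q := act 4 n103028
theorem D194237 : act 4 n103028 = n194237 := rfl
theorem F392444 : act 3 n194237 = n192236 := d5_1 D194237 (iv4 D192236) (iv3 F378185) (iv4 F392440) (iv3 D194236)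
theorem F392445 : act 0 n194237 = n144282 := d18_2 D103028 D194237 F226968 D144290 (iv4 F372154) (iv0 F372158) (iv4 D103022) (iv0 D47764) D47766
theorem F392446 : act 0 n152341 = n103030 := d20_10 (iv4 D103030) D103028 D194237 F392444 F386147 (iv3 D152789) F323756 (iv1 F323753) F323309 D152341
theorem F392447 : act 1 n152828 = n103030 := d15_0 (iv0 F392446) F239533 D152828
def n194238 : Q := act 6 n103028
theorem D194238 : act 6 n103028 = n194238 := rfl
theorem F392448 : act 3 n194238 = n158812 := d7_1 D194238 (iv6 F392443) (iv3 D194236)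
theorem F392449 : act 5 n194238 = n158811 := d12_1 D194238 F250037 D176551 (iv6 F369782) F369783
theorem F392450 : act 0 n115662 = n194238 := d21_4 F344567 F180031 (iv5 D115661) D115662 (iv6 D194238) (iv5 F369783) (iv1 F369785) D188401 F391500 (iv1 D193953)
theorem F392451 : act 7 n158861 = n194238 := d13_0 F392449 F250038 D158861
def n194239 : Q := act 4 n103029
theorem D194239 : act 4 n103029 = n194239 := rfl
theorem F392452 : act 0 n144282 = n194239 := d20_1 (iv4 F226968) (iv4 D194239) F372067 (iv1 D186986) F339162 (iv4 F323190) (iv1 F187727) (iv4 D119263) D119262 F366190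
def n194240 : Q := act 6 n103029
theorem D194240 : act 6 n103029 = n194240 := rfl
theorem F392453 : act 2 n194240 = n144138 := d3_1 D194240 (iv6 F368784) (iv2 F270489)
theorem F392454 : act 3 n194240 = n137130 := d7_1 D194240 (iv6 F372069) (iv3 F372067)
theorem F392455 : act 5 n194240 = n189963 := d12_1 D194240 (iv6 D189963) (iv5 D95505) D95506 F158272
theorem F392456 : act 4 n144070 = n194240 := d5_0 F392454 F220321 (iv3 D136791) D136792 (iv3 F226782)
theorem F392457 : act 2 n115321 = n144070 := d1_3 F392456 F392453 F226852
theorem F392458 : act 6 n194239 = n144070 := d10_0 F392456 (iv6 D194240) D194239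
theorem F392459 : act 0 n144006 = n194240 := d20_10 (iv4 F392456) (iv1 F226783) (iv4 F182865) F182864 (iv1 F182840) (iv3 F379941) F379942 F225591 F175340 D144006
theorem F392460 : act 7 n144071 = n115321 := d15_2 (iv0 D144070) D144071 F392457
theorem F392461 : act 7 n115320 = n144070 := d15_2 F226789 F226787 (iv2 F392457)
theorem F392462 : act 2 n144071 = n115320 := d4_3 F392461 (iv2 F392457) (iv7 F392460)
def n194241 : Q := act 3 n103030
theorem D194241 : act 3 n103030 = n194241 := rfl
theorem F392463 : act 4 n194241 = n103050 := d5_2 D103030 D194241 (iv3 D103050) (iv4 D47775) (iv3 F75024)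
theorem F392464 : act 7 n194241 = n155858 := d8_2 F360760 D194241 (iv3 F360758)
theorem F392465 : act 0 n194241 = n115701 := d20_4 (iv4 D194239) (iv1 D103029) D103030 D194241 F357057 F179645 F111379 D67596 D144282 F392452
theorem F392466 : act 2 n194241 = n155841 := d15_3 F388836 (iv0 F365113) (iv7 F392464)
def n194242 : Q := act 5 n103030
theorem D194242 : act 5 n103030 = n194242 := rfl
def n194243 : Q := act 6 n103031
theorem D194243 : act 6 n103031 = n194243 := rfl
theorem F392467 : act 3 n194243 = n103053 := d7_1 D194243 (iv6 D103053) (iv3 F158273)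
def n194244 : Q := act 4 n103039
theorem D194244 : act 4 n103039 = n194244 := rfl
theorem F392468 : act 2 n194244 = n103184 := d1_1 D194244 (iv4 D103184) (iv2 F319859)
theorem F392469 : act 5 n194244 = n131682 := d9_2 D103039 D194244 (iv4 F358083) F343369 (iv4 D146704) (iv5 F242986) F319381 D103035 (iv4 F343373) (iv5 D133057) F333686 (iv5 D69003) F51039 (iv5 F51010) F319385
theorem F392470 : act 6 n194244 = n136282 := d10_2 (iv6 F319387) D194244 (iv4 D136282)
theorem F392471 : act 7 n194244 = n103168 := d11_2 (iv7 F319860) D194244 (iv4 D103168)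
theorem F392472 : act 0 n194244 = n193624 := d18_2 F382084 D194244 (iv4 D193624) F346002 (iv4 D147208) (iv0 F243012) (iv4 F334502) F334501 D191067
theorem F392473 : act 1 n194244 = n193626 := d18_6 (iv1 F147260) F314952 (iv1 F242954) F319385 D103039 D194244 (iv4 D193626) F339833 (iv5 F339720)
def n194245 : Q := act 5 n103042
theorem D194245 : act 5 n103042 = n194245 := rfl
theorem F392474 : act 2 n194245 = n103202 := d2_1 D194245 (iv5 D103202) (iv2 F158277)
theorem F392475 : act 3 n194245 = n132475 := d6_1 D194245 F317292 F359352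
theorem F392476 : act 6 n194245 = n189189 := d12_2 (iv6 F158278) D194245 (iv5 D189189) (iv6 D93443) F293997
theorem F392477 : act 7 n194245 = n158326 := d13_2 F346769 D194245 (iv5 F346784)
theorem F392478 : act 4 n194245 = n147190 := d16_2 D103042 D194245 F356292 F356288 F158416 F75108 (iv5 F75112) (iv7 D47828) (iv2 F75028)
theorem F392479 : act 0 n194245 = n158209 := d17_2 F346774 D194245 (iv5 F365699) (iv4 F365696) (iv5 F363715) (iv0 D95587) D95589 F346789 (iv4 F209090)
def n194246 : Q := act 6 n103043
theorem D194246 : act 6 n103043 = n194246 := rfl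
theorem F392480 : act 2 n194246 = n103204 := d3_1 D194246 (iv6 D103204) (iv2 F158279)
theorem F392481 : act 7 n194246 = n103053 := d14_2 D103043 D194246 (iv6 D103053) (iv7 D47776) (iv6 F75029)
theorem F392482 : act 0 n103287 = n194246 := d21_4 F376076 (iv1 D109284) D109286 (iv6 F352016) (iv6 D194246) F158280 (iv1 F75032) D47823 D103185 (iv1 F376079)
theorem F392483 : act 1 n103288 = n194246 := d15_1 D103288 F392481 F158305
def n194247 : Q := act 6 n103044
theorem D194247 : act 6 n103044 = n194247 := rfl
theorem F392484 : act 2 n194247 = n103245 := d3_1 D194247 (iv6 D103245) (iv2 F158284)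
theorem F392485 : act 4 n194247 = n103045 := d10_1 D194247 (iv6 D103045) D103044
theorem F392486 : act 5 n194247 = n123722 := d12_1 D194247 F354958 (iv5 D107691) (iv6 F335390) F336623
theorem F392487 : act 7 n194247 = n179121 := d14_2 (iv7 F158285) D194247 (iv6 D179121) (iv7 F350205) (iv6 D103224)
theorem F392488 : act 0 n148656 = n194247 := d21_7 F278847 (iv1 F200698) D179063 F345981 (iv1 F347358) (iv6 F361775) F361780 F392486 F354958 F336345
def n194248 : Q := act 0 n103045
theorem D194248 : act 0 n103045 = n194248 := rfl
def n194249 : Q := act 1 n103045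
theorem D194249 : act 1 n103045 = n194249 := rfl
theorem F392489 : act 1 n194249 = n103249 := d15_1 D194249 (iv7 D103249) (iv2 F158286)
theorem F392490 : act 6 n103167 = n194249 := d21_3 (iv5 F378429) (iv1 F378431) F366334 (iv1 D194249) (iv6 D103045) (iv5 D47772) (iv1 D22983) D22984 (iv6 F75029) (iv1 F378403)
theorem F392491 : act 5 n190293 = n194249 := d21_6 (iv5 D44697) F63261 D21314 (iv6 F70336) D95817 D190293 (iv1 D194249) (iv5 F369611) (iv6 D187245) (iv1 F137903)
theorem F392492 : act 2 n194249 = n103247 := d2_1 F392491 (iv5 F381872) F381871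
def n194250 : Q := act 7 n103045
theorem D194250 : act 7 n103045 = n194250 := rfl
theorem F392493 : act 2 n194250 = n103249 := d4_1 D194250 (iv7 D103249) (iv2 F158286)
theorem F392494 : act 4 n194250 = n179121 := d11_1 D194250 (iv7 F392487) F392485
theorem F392495 : act 6 n194250 = n103227 := d14_1 D194250 (iv7 D103227) (iv6 D47837) (iv7 F75035) D103045
theorem F392496 : act 1 n103249 = n194248 := d15_0 (iv0 D194248) D194250 F392493
theorem F392497 : act 1 n103247 = n194250 := d15_1 D103247 (iv7 D194250) F158286
theorem F392498 : act 7 n194248 = n103247 := d15_2 F392489 F392496 (iv2 F392492)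
theorem F392499 : act 2 n194248 = n103246 := d15_3 (iv0 D103246) D103247 (iv7 F392498)
theorem F392500 : act 7 n103246 = n194249 := d4_2 (iv7 F392498) F392499 F392492
theorem F392501 : act 1 n194250 = n103246 := d15_1 F392497 F392500 F392492
def n194251 : Q := act 4 n103046
theorem D194251 : act 4 n103046 = n194251 := rfl
theorem F392502 : act 6 n194251 = n107150 := d10_2 F376040 D194251 F228464
theorem F392503 : act 7 n194251 = n103264 := d11_2 (iv7 F158287) D194251 (iv4 D103264)
theorem F392504 : act 1 n194251 = n144272 := d18_6 D96070 F360293 F360296 F292051 (iv5 F365264) D194251 F226958 (iv0 F331281) (iv5 D96072)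
def n194252 : Q := act 0 n103048
theorem D194252 : act 0 n103048 = n194252 := rfl
theorem F392505 : act 4 n194252 = n174485 := d20_0 F363236 (iv4 F220248) F220247 (iv1 F100368) (iv3 F331785) (iv4 D107152) D107150 F228464 (iv3 F376045) D194252
theorem F392506 : act 2 n103259 = n194252 := d1_3 F392505 (iv2 F389913) (iv4 F389916)
theorem F392507 : act 7 n103260 = n194252 := d11_0 F392505 (iv7 F386470) (iv4 F386473)
def n194253 : Q := act 1 n103048
theorem D194253 : act 1 n103048 = n194253 := rfl
theorem F392508 : act 1 n194253 = n103261 := d15_1 D194253 (iv7 D103261) (iv2 F158291)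
theorem F392509 : act 7 n194253 = n103259 := d15_2 (iv0 D194252) D194253 F392506
theorem F392510 : act 6 n115660 = n194253 := d21_3 (iv5 D64070) D64067 F180027 (iv1 D194253) (iv6 D103048) F293010 (iv1 D43734) D43736 D93528 F366473
theorem F392511 : act 3 n194253 = n115662 := d7_1 F392510 (iv6 D115662) D115660
theorem F392512 : act 4 n194253 = n115692 := d10_1 F392510 (iv6 D115692) (iv4 F180025)
theorem F392513 : act 2 n103260 = n194253 := d1_3 F392512 (iv2 F386467) (iv4 F386473)
theorem F392514 : act 1 n103261 = n194252 := d15_1 F392508 (iv7 F392507) F392513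
def n194254 : Q := act 7 n103048
theorem D194254 : act 7 n103048 = n194254 := rfl
theorem F392515 : act 2 n194254 = n103261 := d4_1 D194254 (iv7 D103261) (iv2 F158291)
theorem F392516 : act 5 n194254 = n104664 := d13_1 D194254 (iv7 D104664) (iv5 F158292)
theorem F392517 : act 6 n194254 = n103271 := d14_1 D194254 (iv7 D103271) (iv6 D47853) (iv7 F75043) D103048
theorem F392518 : act 1 n103260 = n194254 := d15_1 D103260 (iv7 D194254) F158291
theorem F392519 : act 1 n194254 = n103259 := d15_1 F392518 (iv7 F392509) (iv2 F392513)
def n194255 : Q := act 0 n103053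
theorem D194255 : act 0 n103053 = n194255 := rfl
theorem F392520 : act 1 n103204 = n194255 := d15_0 (iv0 D194255) (iv7 F392481) F392480
def n194256 : Q := act 1 n103053
theorem D194256 : act 1 n103053 = n194256 := rfl
theorem F392521 : act 1 n194256 = n103204 := d15_1 D194256 F158449 (iv2 F158305)
theorem F392522 : act 4 n177549 = n194256 := d20_0 (iv1 D194256) (iv4 F375970) F375969 (iv1 D110432) F321468 (iv4 F309334) (iv1 F87368) (iv4 F309218) D84613 (iv1 F341640)
theorem F392523 : act 2 n194256 = n103288 := d1_1 F392522 (iv4 F390202) F341866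
theorem F392524 : act 7 n194256 = n103287 := d11_2 F341871 F392522 (iv4 F352018)
theorem E103575 : n194255 = n193541 := ((c15_4 (iv0 D194255) D194256 F392524 (iv2 F390198))).symm
theorem F392525 : act 0 n193541 = n103204 := (sb E103575 (iv1 F392520))
theorem F392526 : act 1 n193541 = n103053 := (sb E103575 (iv0 D194255))
def n194257 : Q := act 6 n103061
theorem D194257 : act 6 n103061 = n194257 := rfl
theorem F392527 : act 2 n194257 = n103360 := d3_1 D194257 (iv6 D103360) (iv2 F158327)
theorem F392528 : act 3 n194257 = n107710 := d7_1 D194257 F338745 F336642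
theorem F392529 : act 4 n194257 = n103062 := d10_1 D194257 (iv6 D103062) D103061
theorem F392530 : act 7 n194257 = n107705 := d14_2 (iv7 F158328) D194257 (iv6 D107705) (iv7 F331339) (iv6 D103319)
theorem F392531 : act 5 n194257 = n123712 := d21_6 (iv5 F231554) (iv1 F237222) F237219 (iv6 F340388) (iv1 F158329) D194257 (iv1 D123712) D123713 F198198 D128065
def n194258 : Q := act 0 n103062
theorem D194258 : act 0 n103062 = n194258 := rfl
theorem F392532 : act 3 n194258 = n138970 := d20_5 F175748 F82548 (iv4 F175941) F331346 D194258 (iv4 D138970) (iv1 D65234) (iv4 F100981) F100980 D108218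
theorem F392533 : act 2 n103361 = n194258 := d15_3 (iv0 D194258) (iv0 F390483) (iv7 F390485)
theorem F392534 : act 1 n103364 = n194258 := d15_0 (iv0 D194258) F331344 F331345
theorem F392535 : act 7 n194258 = n103362 := d15_2 (iv0 F390484) F392534 (iv2 F390480)
def n194259 : Q := act 6 n103064
theorem D194259 : act 6 n103064 = n194259 := rfl
theorem F392536 : act 2 n194259 = n103372 := d3_1 D194259 (iv6 D103372) (iv2 F158332)
theorem F392537 : act 4 n194259 = n147814 := d10_1 D194259 (iv6 F353765) (iv4 F294032)
theorem F392538 : act 5 n194259 = n154444 := d12_1 D194259 F338027 (iv5 D87021) F293163 D103064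
theorem F392539 : act 0 n194259 = n184287 := d21_4 D87919 (iv1 F293042) D103064 D194259 (iv6 D184287) (iv5 D87898) (iv1 D41008) D41009 F62140 D41021
theorem F392540 : act 6 n184993 = n184338 := d21_3 F353747 (iv1 F242633) (iv5 F337993) (iv1 D184338) (iv6 D87920) D87919 (iv1 F293042) D103064 D194259 F392539
theorem F392541 : act 7 n184980 = n194259 := d13_0 F392538 F310892 D184980
def n194260 : Q := act 5 n103078
theorem D194260 : act 5 n103078 = n194260 := rfl
theorem F392542 : act 2 n194260 = n114649 := d2_1 D194260 (iv5 F335350) (iv2 F158365)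
theorem F392543 : act 3 n194260 = n188768 := d6_1 D194260 (iv5 D188768) (iv3 F158366)
theorem F392544 : act 4 n194260 = n114373 := d9_1 D194260 (iv5 D114373) (iv4 F83382) D70581 (iv4 F187080) F335366 F335367 (iv5 D114648) (iv4 D52916) (iv5 D25689) (iv4 F40608) D52905 F322663 (iv5 D103081) (iv4 F158367)
theorem F392545 : act 6 n194260 = n133583 := d12_2 D103078 D194260 (iv5 D133583) F307596 F132433
theorem F392546 : act 7 n194260 = n114603 := d13_2 (iv7 F177428) D194260 (iv5 F335351)
theorem F392547 : act 1 n194260 = n114645 := d17_8 (iv1 D115072) (iv5 D53097) (iv1 F82877) D113694 (iv4 F386049) (iv5 D192217) (iv0 F177437) D194260 F179179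
theorem F392548 : act 0 n194260 = n114646 := d18_0 F178746 (iv1 F178137) (iv4 F329996) (iv5 D91343) (iv4 F75137) D103291 (iv4 F158521) (iv0 F177437) D194260
def n194261 : Q := act 4 n103083
theorem D194261 : act 4 n103083 = n194261 := rfl
theorem F392549 : act 2 n194261 = n144243 := d1_1 D194261 (iv4 D144243) (iv2 F296439)
theorem F392550 : act 3 n194261 = n192880 := d5_1 D194261 (iv4 D192880) (iv3 D100878) D100879 F365282
theorem F392551 : act 1 n194261 = n118265 := d18_6 (iv1 F154096) (iv4 F157789) (iv1 D99516) (iv4 F75090) D103083 D194261 (iv4 F187731) (iv0 F386669) (iv5 D192412)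
def n194262 : Q := act 5 n103084
theorem D194262 : act 5 n103084 = n194262 := rfl
theorem F392552 : act 2 n194262 = n103090 := d2_1 D194262 (iv5 D103090) (iv2 F160569)
theorem F392553 : act 3 n194262 = n172086 := d6_1 D194262 (iv5 F378201) F378197
theorem F392554 : act 7 n194262 = n103094 := d13_2 (iv7 F160570) D194262 (iv5 D103094)
theorem F392555 : act 0 n194262 = n104633 := d17_2 D103084 D194262 F160334 F137922 (iv5 F151997) (iv0 F285721) (iv5 D183892) F134638 (iv4 F75092)
theorem F392556 : act 1 n194262 = n112145 := d17_8 (iv1 F161376) (iv5 D65140) (iv1 F161262) (iv5 F81358) D51669 (iv5 F321139) (iv0 F158372) D194262 F174363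
def n194263 : Q := act 5 n103085
theorem D194263 : act 5 n103085 = n194263 := rfl
theorem F392557 : act 2 n194263 = n103094 := d2_1 D194263 (iv5 D103094) (iv2 F160554)
theorem F392558 : act 3 n194263 = n103117 := d6_1 D194263 (iv5 D103117) F158374
theorem F392559 : act 6 n194263 = n111783 := d12_2 (iv6 F357383) D194263 F382409 (iv6 D191147) F357386
theorem F392560 : act 7 n194263 = n103090 := d13_2 (iv7 F160555) D194263 (iv5 D103090)
theorem F392561 : act 4 n194263 = n125945 := d17_4 F173599 (iv5 F321139) (iv1 F158373) D194263 F202442 F175783 F166293 F93044 (iv4 F173595)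
theorem F392562 : act 1 n194263 = n104633 := d17_8 F173506 F173503 (iv1 D74198) F53401 (iv4 F81373) (iv5 F321138) D103085 D194263 F346835
theorem F392563 : act 0 n194263 = n112145 := d18_0 F174363 (iv1 F161376) (iv4 F325048) (iv5 F325912) F148071 F134638 (iv4 F75092) D103085 D194263
def n194264 : Q := act 5 n103089
theorem D194264 : act 5 n103089 = n194264 := rfl
theorem F392564 : act 2 n194264 = n191269 := d2_1 D194264 (iv5 D191269) (iv2 F160568)
theorem F392565 : act 3 n194264 = n177913 := d6_1 D194264 F332658 (iv3 F158382)
theorem F392566 : act 4 n194264 = n156123 := d17_4 F385100 (iv5 D191985) F289657 D194264 (iv5 D156123) F245071 (iv5 F384690) F384693 F369580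
theorem F392567 : act 0 n194264 = n193830 := d18_0 F391128 (iv1 D185484) (iv4 D88359) (iv5 D41249) (iv4 F62464) D88343 (iv4 F157168) (iv0 F158383) D194264
theorem F392568 : act 0 n193760 = n194264 := d18_2 D185483 F390931 F392566 (iv5 D156123) F175905 F175903 F175901 (iv0 F175906) F340573
theorem F392569 : act 0 n186906 = n190229 := d18_0 F379136 (iv1 F369694) F369691 (iv5 F285724) (iv4 F359518) (iv0 F245333) (iv4 F392566) (iv0 F392568) F390930
def n194265 : Q := act 6 n103089
theorem D194265 : act 6 n103089 = n194265 := rfl
theorem F392570 : act 2 n194265 = n191270 := d3_1 D194265 (iv6 D191270) (iv2 F160568)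
theorem F392571 : act 3 n194265 = n159740 := d7_1 D194265 F251685 (iv3 F158382)
theorem F392572 : act 4 n194265 = n103091 := d10_1 D194265 (iv6 D103091) D103089
theorem F392573 : act 7 n194265 = n192865 := d14_2 F285546 D194265 (iv6 F388060) F370205 F357384
theorem F392574 : act 0 n194265 = n192016 := d20_1 (iv4 F392572) F385217 (iv3 F380199) F381189 (iv3 D96292) (iv4 D44956) D44955 (iv4 F70686) D48278 (iv1 F367167)
theorem F392575 : act 1 n194265 = n192868 := d15_1 (iv0 F392574) (iv7 D192868) (iv2 F385215)
def n194266 : Q := act 4 n103090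
theorem D194266 : act 4 n103090 = n194266 := rfl
theorem F392576 : act 7 n194266 = n125945 := d11_2 F392560 D194266 (iv4 F392561)
theorem F392577 : act 5 n194266 = n107664 := d16_1 D194266 (iv4 F166290) D156121 (iv4 F359517) (iv5 D183765) F134593 D103094 (iv7 F392554) F392552
theorem F392578 : act 0 n194266 = n125758 := d17_0 (iv5 F223590) F223587 F168651 (iv4 F173595) (iv5 F382434) (iv0 F382436) F369692 (iv0 F340582) D194266
theorem F392579 : act 1 n194266 = n144354 := d18_6 F289683 (iv4 F153221) F289657 (iv4 D103089) D103090 D194266 (iv4 F227093) F347487 (iv5 D88345)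
theorem F392580 : act 3 n194266 = n112860 := d19_3 D47793 D103090 D194266 F175766 F93120 D67503 (iv3 F222898) F352561 D144166 F366205 F149595 (iv1 F75219) (iv5 D47899) F36118 (iv3 F36117) F290712 (iv5 D37185) F29057 (iv3 F36064)
def n194267 : Q := act 6 n103090
theorem D194267 : act 6 n103090 = n194267 := rfl
theorem F392581 : act 3 n194267 = n128944 := d7_1 D194267 (iv6 F362284) F160586
def n194268 : Q := act 4 n103094
theorem D194268 : act 4 n103094 = n194268 := rfl
theorem F392582 : act 2 n194268 = n125945 := d1_1 D194268 (iv4 F392561) F392557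
theorem F392583 : act 5 n194268 = n107665 := d9_2 D103094 D194268 (iv4 F175905) D156123 (iv4 F392566) (iv5 D194264) (iv4 D103089) D103090 D194266 F392577 (iv4 F166290) D156121 (iv4 F359517) (iv5 D183765) F134593
theorem F392584 : act 6 n194268 = n112532 := d10_2 (iv6 F340589) D194268 F174997
theorem F392585 : act 0 n194268 = n144354 := d17_0 (iv5 D144354) F203925 F182860 F173602 (iv5 F356020) (iv0 F369068) F369067 (iv0 F361886) D194268
theorem F392586 : act 1 n194268 = n125758 := d18_6 (iv1 F148074) (iv4 F157168) F157169 F134593 D103094 D194268 F202260 F326023 (iv5 F325912)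
def n194269 : Q := act 6 n103097
theorem D194269 : act 6 n103097 = n194269 := rfl
theorem F392587 : act 2 n194269 = n109365 := d3_1 D194269 (iv6 F174004) (iv2 F319035)
theorem F392588 : act 4 n194269 = n105527 := d10_1 D194269 F175439 (iv4 F319036)
theorem F392589 : act 7 n194269 = n105524 := d14_2 (iv7 F319037) D194269 (iv6 D105524) (iv7 F81528) (iv6 F173596)
theorem F392590 : act 1 n109265 = n194269 := d15_1 (iv0 F174001) F392589 (iv2 F173999)
theorem F392591 : act 1 n194269 = n109264 := d15_1 F392590 F169238 (iv2 F169241)
def n194270 : Q := act 6 n103100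
theorem D194270 : act 6 n103100 = n194270 := rfl
theorem F392592 : act 3 n194270 = n103101 := d7_1 D194270 (iv6 D103101) D103100
theorem F392593 : act 4 n194270 = n110598 := d10_1 D194270 F348549 (iv4 F343027)
theorem F392594 : act 0 n109424 = n194270 := d18_0 F392593 (iv1 D110598) F80448 D109318 F179941 (iv0 D53340) D53342 D115659 (iv5 F349841)
def n194271 : Q := act 6 n103104
theorem D194271 : act 6 n103104 = n194271 := rfl
theorem F392595 : act 2 n194271 = n147564 := d3_1 D194271 (iv6 F340606) F159125
theorem F392596 : act 3 n194271 = n110628 := d7_1 D194271 F327261 (iv3 F327259)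
theorem F392597 : act 4 n194271 = n103105 := d10_1 D194271 (iv6 D103105) (iv4 F158389)
theorem F392598 : act 7 n194271 = n110625 := d14_2 D103104 D194271 (iv6 D110625) F80465 (iv6 F319398)
theorem F392599 : act 0 n194271 = n147562 := d21_10 F308694 (iv1 F334403) (iv5 F345766) (iv6 D172517) (iv1 F304292) (iv6 F344672) F344675 (iv1 F292467) F283991 D194271
theorem F392600 : act 0 n147561 = n194271 := d21_4 (iv5 D133041) F319081 D152626 (iv6 F308692) (iv6 D194271) (iv5 F283991) F348699 F348700 (iv6 F348706) F348711
def n194272 : Q := act 0 n103105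
theorem D194272 : act 0 n103105 = n194272 := rfl
theorem F392601 : act 4 n194272 = n147644 := d20_0 (iv1 D147644) (iv4 F205013) (iv3 F323914) (iv1 F199079) F326662 (iv4 D64507) (iv1 F81364) (iv4 F173554) (iv3 F340604) D194272
theorem F392602 : act 1 n127597 = n194272 := d15_0 (iv0 D194272) (iv7 F340602) (iv2 F205070)
def n194273 : Q := act 1 n103105
theorem D194273 : act 1 n103105 = n194273 := rfl
theorem F392603 : act 1 n194273 = n127597 := d15_1 D194273 (iv7 F340603) F159129
theorem F392604 : act 4 n194273 = n147643 := d17_9 (iv1 F345799) (iv5 F351974) (iv1 F217743) F336544 (iv4 F349862) F340607 (iv0 D104630) (iv5 F158392) D194273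
theorem F392605 : act 6 n132116 = n194273 := d21_3 F380651 (iv1 D132115) D132116 (iv1 D194273) (iv6 D103105) F75097 (iv1 F66765) D45013 D96407 D190699
theorem F392606 : act 3 n194273 = n104631 := d19_3 (iv1 F318965) (iv5 F334247) (iv4 F392604) (iv1 D104631) (iv5 F158392) (iv4 F392597) F392596 (iv1 F171224) (iv5 F316586) F60269 (iv3 F60247) (iv1 F187229) F305699 F86501 F51734 F309360 D49873 (iv4 F116014) (iv3 F254167)
def n194274 : Q := act 6 n103114
theorem D194274 : act 6 n103114 = n194274 := rfl
theorem F392607 : act 2 n194274 = n128944 := d3_1 D194274 (iv6 F362284) F160585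
theorem F392608 : act 4 n194274 = n128615 := d10_1 D194274 F377775 F377774
theorem F392609 : act 0 n104685 = n194274 := d18_2 (iv1 F362274) (iv4 F363902) F392608 (iv5 D128615) F95084 D63051 (iv4 F99163) F206865 F362270
theorem F392610 : act 3 n174646 = n194274 := d20_5 (iv4 D83438) (iv1 F59300) D38468 D83454 D174646 F392608 (iv1 F207415) F341770 (iv3 D162554) (iv1 F298312)
theorem F392611 : act 6 n192809 = n174646 := d7_0 F392610 (iv6 D194274) (iv3 F387863)
def n194275 : Q := act 6 n103117
theorem D194275 : act 6 n103117 = n194275 := rfl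
theorem F392612 : act 3 n194275 = n111783 := d7_1 D194275 (iv6 F392559) F392558
theorem F392613 : act 4 n194275 = n125946 := d10_1 D194275 F377772 F377769
theorem F392614 : act 5 n194275 = n144230 := d12_1 D194275 (iv6 D144230) (iv5 F350471) F294016 D103117
def n194276 : Q := act 6 n103120
theorem D194276 : act 6 n103120 = n194276 := rfl
theorem F392615 : act 3 n194276 = n109365 := d7_1 D194276 (iv6 F174004) F356019
theorem F392616 : act 4 n194276 = n188437 := d10_1 D194276 (iv6 F373470) F356017
def n194277 : Q := act 0 n103121
theorem D194277 : act 0 n103121 = n194277 := rfl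
theorem F392617 : act 5 n194277 = n176530 := d17_1 D194277 F361382 F361715 F361713 (iv5 F370035) F370037 F288027 (iv0 D103119) D103121
theorem F392618 : act 4 n194277 = n189825 := d18_3 (iv1 D103120) D103121 D194277 F377890 (iv4 F369459) (iv0 F290836) (iv4 F291300) D97358 F283805
theorem E103576 : n190786 = n128851 := (c18_10 (iv1 D128851) (iv4 F95250) (iv1 F363268) F362292 F362281 (iv4 F355928) F377891 (iv4 F392618) (iv0 D194277) (iv5 F381075))
theorem F392619 : act 2 n128851 = n96673 := (sb E103576 (iv2 D190786))
theorem F392620 : act 3 n128851 = n169899 := (sb E103576 F381069)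
theorem F392621 : act 5 n128851 = n103121 := (sb E103576 F381075)
theorem F392622 : act 6 n128851 = n96678 := (sb E103576 F381070)
theorem F392623 : act 2 n189837 = n194277 := d1_3 F392618 (iv2 F377892) D189837
theorem F392624 : act 7 n189840 = n194277 := d11_0 F392618 (iv7 F377893) D189840
theorem F392625 : act 3 n194277 = n167772 := d19_3 (iv1 F369725) (iv5 F377890) (iv4 F392618) F303742 F249487 F249470 D158427 F350690 (iv5 D127990) (iv4 F205931) F205930 (iv1 F305305) D127966 F322436 (iv3 F221210) F325117 D166232 (iv4 F331218) (iv3 F369720)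
def n194278 : Q := act 1 n103121
theorem D194278 : act 1 n103121 = n194278 := rfl
theorem F392626 : act 7 n194278 = n189837 := d15_2 (iv0 D194277) D194278 F392623
theorem F392627 : act 4 n194278 = n189826 := d17_9 (iv1 D189826) (iv5 D95309) (iv1 F146954) F347473 F347471 (iv5 D128852) D128851 F392621 D194278
theorem F392628 : act 2 n189840 = n194278 := d1_3 F392627 (iv2 F377897) D189840
def n194279 : Q := act 3 n103121
theorem D194279 : act 3 n103121 = n194279 := rfl
theorem F392629 : act 2 n194279 = n169900 := d0_1 D194279 F267326 (iv2 F148991) (iv3 F381071) (iv2 F381074)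
theorem F392630 : act 4 n194279 = n103124 := d5_2 D103121 D194279 (iv3 D103124) (iv4 D47807) (iv3 F75102)
theorem F392631 : act 5 n194279 = n169899 := d6_2 F392621 D194279 (iv3 F392620)
theorem F392632 : act 0 n194279 = n125670 := d20_4 F356017 (iv1 D103120) D103121 D194279 F345717 (iv4 D79713) (iv1 F118518) (iv4 F297293) D180024 (iv1 F356016)
def n194280 : Q := act 4 n103122
theorem D194280 : act 4 n103122 = n194280 := rfl
theorem F392633 : act 3 n194280 = n162827 := d5_1 D194280 (iv4 F369668) F369667 F137917 D103122
theorem F392634 : act 6 n194280 = n163350 := d10_2 F369680 D194280 F302179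
theorem F392635 : act 5 n194280 = n175336 := d16_1 D194280 F274386 D175343 (iv4 F343027) (iv5 F343024) F343022 F343024 (iv7 F159121) F159119
theorem F392636 : act 0 n194280 = n172371 := d17_0 (iv5 D172371) (iv1 F264239) (iv5 F378088) (iv4 D189883) (iv5 D95371) F289626 D103582 F363048 D194280
theorem F392637 : act 1 n194280 = n110660 := d18_8 F304306 (iv4 F239274) F267524 (iv4 D82536) (iv5 F320694) (iv4 F331193) F363048 D194280 F344919
def n194281 : Q := act 7 n103123
theorem D194281 : act 7 n103123 = n194281 := rfl
theorem F392638 : act 2 n194281 = n187374 := d4_1 D194281 (iv7 D187374) (iv2 F158406)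
theorem F392639 : act 3 n194281 = n188483 := d8_1 D194281 F373647 (iv3 F369679)
theorem F392640 : act 4 n194281 = n190323 := d11_1 D194281 F379392 F369676
theorem F392641 : act 5 n194281 = n190910 := d13_1 D194281 (iv7 D190910) (iv5 F158407)
theorem F392642 : act 6 n194281 = n189935 := d14_1 D194281 F378301 (iv6 D103662) F75426 D103123
theorem F392643 : act 1 n187373 = n194281 := d15_1 D187373 (iv7 D194281) F158406
theorem F392644 : act 1 n194281 = n187372 := d15_1 F392643 (iv7 F370041) (iv2 F370049)
def n194282 : Q := act 1 n103124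
theorem D194282 : act 1 n103124 = n194282 := rfl
theorem F392645 : act 3 n188492 = n194282 := d20_3 (iv4 D121722) (iv1 F336469) (iv4 F373679) (iv1 D194282) (iv3 D103124) (iv4 D47807) (iv1 F64768) D89866 D187286 F369707
theorem F392646 : act 6 n194282 = n188490 := d7_2 D188492 F392645 (iv3 D188490)
def n194283 : Q := act 2 n103124
theorem D194283 : act 2 n103124 = n194283 := rfl
theorem F392647 : act 4 n194283 = n169900 := d1_2 F392630 D194283 (iv2 F392629)
def n194284 : Q := act 4 n103131
theorem D194284 : act 4 n103131 = n194284 := rfl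
theorem F392648 : act 6 n194284 = n170543 := d10_2 F199148 D194284 F354306
theorem F392649 : act 7 n194284 = n147984 := d11_2 F317778 D194284 (iv4 F231814)
theorem F392650 : act 5 n194284 = n146575 := d17_5 (iv1 F243112) (iv5 D105758) F317658 D103131 D194284 (iv0 D146575) (iv5 D68701) D68700 (iv4 F104982)
theorem F392651 : act 1 n194284 = n117875 := d18_6 (iv1 F247807) D68715 F319869 F75488 D103131 D194284 F184847 D117880 F250242
theorem F392652 : act 7 n146575 = n151707 := d13_2 (iv7 F392649) F392650 (iv5 F355811)
def n194285 : Q := act 3 n103143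
theorem D194285 : act 3 n103143 = n194285 := rfl
theorem F392653 : act 4 n194285 = n109679 := d5_2 (iv4 F315760) D194285 F169663 (iv4 F324826) (iv3 F334577)
theorem F392654 : act 5 n194285 = n127669 := d6_2 (iv5 F315761) D194285 F205275
theorem F392655 : act 6 n194285 = n150406 := d7_2 (iv6 F315762) D194285 F236762
theorem F392656 : act 2 n190329 = n194285 := d3_3 F392655 F337011 D190329
theorem F392657 : act 0 n149300 = n194285 := d21_4 (iv5 F306066) (iv1 F162696) (iv5 F318803) F338207 F392655 (iv5 D150406) (iv1 F205924) (iv5 F227796) (iv6 F307925) F307922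
def n194286 : Q := act 5 n103145
theorem D194286 : act 5 n103145 = n194286 := rfl
theorem F392658 : act 2 n194286 = n147189 := d2_1 D194286 (iv5 F313329) F199194
theorem F392659 : act 3 n194286 = n148541 := d6_1 D194286 F233305 F356286
theorem F392660 : act 7 n194286 = n147190 := d13_2 (iv7 F356287) D194286 F356292
theorem F392661 : act 4 n194286 = n158326 := d16_2 D103145 D194286 (iv5 F346784) (iv4 F346782) F158280 F317107 D117172 F313334 F91926
theorem F392662 : act 0 n194286 = n147192 := d17_2 (iv1 F315764) D194286 F230764 F105213 F315413 (iv0 F315411) (iv5 F105540) (iv0 D69279) (iv4 F105539)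
theorem F392663 : act 1 n194286 = n131672 := d17_6 F243304 F94306 F317061 D47813 D103145 D194286 F333685 D147076 (iv4 F243144)
theorem F392664 : act 6 n194286 = n152305 := d21_3 (iv5 F315405) (iv1 F315764) D194286 F344412 (iv6 D82718) (iv5 D38022) (iv1 D18201) D18203 D38028 D82731
def n194287 : Q := act 4 n103155
theorem D194287 : act 4 n103155 = n194287 := rfl
theorem F392665 : act 2 n194287 = n103156 := d1_1 D194287 (iv4 D103156) D103155
theorem F392666 : act 3 n194287 = n192364 := d5_1 D194287 F386580 F336467 D164468 (iv3 F259127)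
theorem F392667 : act 7 n194287 = n112591 := d11_2 (iv7 F319849) D194287 F175182
theorem F392668 : act 5 n194287 = n167351 := d18_4 F361280 (iv4 F335525) F339745 D194287 F357082 (iv0 D144474) D144476 (iv0 F363124) (iv5 F361281)
theorem F392669 : act 0 n194287 = n147169 := d20_1 D194287 (iv4 F368991) (iv3 D187063) F137215 D102046 (iv4 F357125) (iv1 D121355) (iv4 F120173) (iv3 F147436) F339745
theorem F392670 : act 0 n119132 = n194287 := d20_7 F314186 (iv1 F235294) F278216 (iv3 F190336) (iv1 F346804) (iv3 F134847) (iv4 F304284) (iv4 D194287) F259127 (iv1 F314185)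
theorem F392671 : act 6 n194287 = n120618 := d21_5 F298856 (iv1 D54823) D54824 (iv6 F187456) F392670 F347939 (iv1 F347855) (iv5 F347850) (iv6 F347849) (iv1 D97187)
def n194288 : Q := act 6 n103155
theorem D194288 : act 6 n103155 = n194288 := rfl
theorem F392672 : act 2 n194288 = n103158 := d3_1 D194288 (iv6 D103158) D103155
theorem F392673 : act 4 n194288 = n120618 := d10_1 D194288 (iv6 F392671) (iv4 D194287)
theorem F392674 : act 7 n194288 = n109517 := d14_2 (iv7 F319849) D194288 (iv6 D109517) F79899 D74186
def n194289 : Q := act 0 n103156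
theorem D194289 : act 0 n103156 = n194289 := rfl
theorem F392675 : act 5 n194289 = n119133 := d17_1 D194289 F343977 D161630 (iv4 F379438) (iv5 F379439) (iv0 F379440) F335529 (iv0 D103153) D103156
theorem F392676 : act 4 n194289 = n184198 := d20_2 D103156 D194289 F286126 (iv1 F147267) D190055 (iv4 F378672) (iv1 F367315) (iv4 F368387) F368386 F335522
theorem F392677 : act 3 n194289 = n121400 := d20_5 (iv4 D117280) (iv1 F242989) (iv4 F105213) (iv3 F319850) D194289 F320934 F318277 (iv4 F322180) (iv3 F348647) F243105
theorem F392678 : act 2 n147169 = n194289 := d15_3 (iv0 D194289) (iv0 F381782) (iv7 F381784)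
theorem F392679 : act 1 n112591 = n194289 := d15_0 (iv0 D194289) F319851 (iv2 F175181)
theorem F392680 : act 7 n194289 = n119132 := d15_2 (iv0 F381783) F392679 (iv2 F381778)
theorem F392681 : act 6 n146143 = n194289 := d21_3 F342274 F346928 (iv5 F318783) (iv1 F392679) (iv6 D112591) F82044 F45490 (iv5 F81645) F322542 (iv1 F342273)
def n194290 : Q := act 5 n103156
theorem D194290 : act 5 n103156 = n194290 := rfl
theorem F392682 : act 2 n194290 = n167351 := d2_1 D194290 (iv5 F392668) F392665
theorem F392683 : act 3 n194290 = n147192 := d6_1 D194290 F230764 (iv3 F319850)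
theorem F392684 : act 6 n194290 = n121989 := d12_2 (iv6 F347959) D194290 (iv5 F357062) (iv6 F351343) F351342
theorem F392685 : act 7 n194290 = n147170 := d13_2 (iv7 F319851) D194290 (iv5 D147170)
theorem F392686 : act 0 n194290 = n167354 := d17_2 F381782 D194290 F263489 (iv4 F380541) (iv5 F391450) F391452 (iv5 F390456) (iv0 D191416) (iv4 F381780)
theorem F392687 : act 4 n194290 = n131601 := d17_4 (iv1 F343986) (iv5 F381781) F381782 D194290 F228113 F244949 (iv5 F307725) F307723 (iv4 F307995)
theorem F392688 : act 0 n167343 = n194290 := d21_10 (iv5 D194290) D194289 F392675 F187459 (iv1 F312917) D131352 F350895 F350897 (iv5 D167342) D167343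
def n194291 : Q := act 4 n103157
theorem D194291 : act 4 n103157 = n194291 := rfl
theorem F392689 : act 6 n194291 = n105646 := d10_2 (iv6 F347198) D194291 (iv4 F361837)
theorem F392690 : act 7 n194291 = n105647 := d11_2 (iv7 F319855) D194291 F162242
theorem F392691 : act 1 n194291 = n193615 := d18_6 F361279 (iv4 F381780) F381782 (iv4 D103156) D103157 D194291 (iv4 D193615) (iv0 F391447) (iv5 F173702)
def n194292 : Q := act 0 n103158
theorem D194292 : act 0 n103158 = n194292 := rfl
theorem F392692 : act 4 n194292 = n156197 := d18_1 D194292 F354570 (iv4 F173667) (iv5 F336225) (iv4 D112993) D112992 (iv4 F379089) (iv0 F381015) F381013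
theorem F392693 : act 1 n109517 = n194292 := d15_0 (iv0 D194292) (iv7 F347960) F173485
theorem F392694 : act 3 n190269 = n194292 := d5_5 F392692 F245469 F162125 (iv3 F179286) (iv4 F379251)
theorem F392695 : act 5 n191085 = n194292 := d19_1 D191085 F392692 F245469 (iv1 F166244) (iv5 D107635) F78589 (iv3 F47486) (iv1 F23692) (iv5 D6923) (iv4 F11009) (iv3 F11008) F10237 D5220 D11305 D24081 D49342 (iv5 F358362) (iv4 D97272) (iv3 F150017)
theorem F392696 : act 4 n191085 = n112988 := d16_4 D74302 D156197 (iv4 F392692) (iv5 F392695) (iv5 D112988) D112987 F245083 F245080 (iv2 D74301)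
theorem F392697 : act 3 n190357 = n191085 := d6_3 F392695 (iv3 F392694) (iv5 F379540)
theorem F392698 : act 6 n194292 = n190214 := d21_3 D97261 D191085 F392695 (iv1 D190214) (iv6 D95738) (iv5 D44714) (iv1 F34082) D45385 D97092 F350630
theorem F392699 : act 2 n190224 = n194292 := d3_3 F392698 F379099 D190224
def n194293 : Q := act 1 n103158
theorem D194293 : act 1 n103158 = n194293 := rfl
theorem F392700 : act 1 n194293 = n109517 := d15_1 D194293 (iv7 F392674) F392672
theorem F392701 : act 7 n194293 = n190224 := d15_2 (iv0 D194292) D194293 F392699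
theorem F392702 : act 5 n194293 = n186424 := d18_9 F382165 D191087 F382166 F378990 (iv5 D179313) (iv4 D85556) D85555 (iv4 F347958) D194293
theorem F392703 : act 6 n190777 = n144123 := d21_9 (iv5 D67523) D67519 D144108 F362555 (iv1 D186422) D186424 (iv5 F392702) (iv1 D194293) (iv5 F381013) (iv1 D144123)
theorem F392704 : act 3 n144123 = n190778 := d7_1 F392703 (iv6 D190778) D190777
theorem F392705 : act 5 n144123 = n113098 := d12_1 F392703 (iv6 F347198) (iv5 D103157) D103158 (iv5 F381013)
theorem F392706 : act 3 n186427 = n194293 := d6_3 F392702 F289218 D186427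
def n194294 : Q := act 6 n103166
theorem D194294 : act 6 n103166 = n194294 := rfl
theorem F392707 : act 4 n194294 = n172787 := d10_1 D194294 F271055 (iv4 F339825)
theorem F392708 : act 5 n194294 = n104816 := d12_1 D194294 F160652 (iv5 D95867) D95868 (iv5 F158434)
def n194295 : Q := act 0 n103168
theorem D194295 : act 0 n103168 = n194295 := rfl
theorem F392709 : act 4 n194295 = n190630 := d18_3 (iv1 D103167) D103168 D194295 (iv5 D190630) F360232 (iv0 F312755) F147570 D95923 F366334
theorem F392710 : act 5 n194295 = n128110 := d21_2 (iv5 F358085) D194295 F362757 F188142 D173413 F358469 (iv1 D155707) D155708 (iv6 F320268) F354053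
theorem F392711 : act 1 n103184 = n194295 := d15_0 (iv0 D194295) (iv7 F392471) F392468
theorem F392712 : act 0 n103179 = n189162 := d20_4 (iv4 F392709) (iv1 F392711) (iv4 D103184) (iv3 F158440) (iv3 D189162) (iv4 D93314) (iv1 F294825) D46605 D99780 (iv1 F380381)
theorem F392713 : act 2 n193626 = n194295 := d2_3 F392710 (iv2 F362758) (iv5 F390487)
theorem F392714 : act 3 n126892 = n194295 := d6_3 F392710 (iv3 D128110) (iv5 F333393)
theorem F392715 : act 7 n194295 = n193624 := d8_2 F339305 F392714 F390478
def n194296 : Q := act 1 n103168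
theorem D194296 : act 1 n103168 = n194296 := rfl
theorem F392716 : act 1 n194296 = n103184 := d15_1 D194296 F358087 (iv2 F358084)
theorem F392717 : act 7 n194296 = n193626 := d15_2 (iv0 D194295) D194296 F392713
theorem F392718 : act 4 n194296 = n192142 := d18_7 (iv1 D95588) F312494 F315411 (iv4 D47817) D47818 D103168 D194296 F385730 F339832
theorem F392719 : act 3 n127219 = n194296 := d19_19 (iv1 D194296) F358085 (iv4 F211028) (iv3 F362983) F273377 F270640 (iv4 F273884) (iv3 F326543) D187210 F369519 F208633 (iv3 F347084) (iv1 F389774) (iv5 D193412) F344074 F199917 (iv1 F189107) (iv5 F110416) (iv4 F321577)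
theorem F392720 : act 2 n194296 = n193624 := d0_1 F392719 F390478 F339303 (iv3 F333396) (iv2 F323280)
theorem F392721 : act 6 n194296 = n148656 := d7_2 (iv6 F321578) F392719 (iv3 D148656)
def n194297 : Q := act 6 n103168
theorem D194297 : act 6 n103168 = n194297 := rfl
theorem F392722 : act 2 n194297 = n179129 := d3_1 D194297 F337780 (iv2 F358084)
theorem F392723 : act 4 n194297 = n103169 := d10_1 D194297 (iv6 D103169) D103168
theorem F392724 : act 5 n194297 = n129192 := d12_1 D194297 (iv6 D129192) (iv5 F211043) D61787 (iv5 F358085)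
theorem F392725 : act 0 n194297 = n126881 := d21_4 (iv5 F320267) F354053 (iv5 F358085) D194297 F322874 (iv5 F250340) F355158 (iv5 D178936) (iv6 F355163) F343380
theorem F392726 : act 1 n194297 = n127151 := d15_1 (iv0 F392725) F321551 (iv2 F322873)
theorem F392727 : act 7 n179128 = n194297 := d13_0 F392724 (iv7 F217729) (iv5 F364107)
def n194298 : Q := act 0 n103169
theorem D194298 : act 0 n103169 = n194298 := rfl
theorem F392728 : act 4 n194298 = n126650 := d20_2 F392723 D194298 F359994 (iv1 D126006) (iv3 F325379) (iv4 D53716) (iv1 F319061) (iv4 F319584) D127151 (iv1 F392726)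
theorem F392729 : act 5 n194298 = n187415 := d21_0 (iv1 D187415) F291961 (iv6 D47853) (iv1 D23023) (iv6 F36072) (iv5 D23014) D23012 D47818 D103169 D194298
theorem F392730 : act 2 n126926 = n194298 := d2_3 F392729 (iv2 F379937) (iv5 F372119)
theorem F392731 : act 7 n126921 = n194298 := d13_0 F392729 F379938 F382338
theorem F392732 : act 6 n103225 = n194298 := d21_5 (iv5 D10862) D10860 D23017 D47837 D103225 F392729 (iv1 D187415) F291961 (iv6 D47853) (iv1 D23023)
def n194299 : Q := act 1 n103169
theorem D194299 : act 1 n103169 = n194299 := rfl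
theorem F392733 : act 7 n194299 = n126926 := d15_2 (iv0 D194298) D194299 F392730
theorem F392734 : act 5 n194299 = n187414 := d18_9 (iv1 F370262) (iv4 F382462) (iv1 F382463) (iv4 F373556) (iv5 F355416) (iv4 F204188) (iv0 F392725) F392723 D194299
theorem F392735 : act 2 n126921 = n194299 := d2_3 F392734 F379936 F382338
theorem F392736 : act 3 n111003 = n194299 := d6_3 F392734 F379934 F226680
theorem F392737 : act 4 n194299 = n126651 := d20_6 (iv4 D13689) (iv1 F19554) D24905 D51186 D111003 F392736 (iv1 D126651) (iv4 F95004) (iv3 D60456) (iv1 D28714)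
def n194300 : Q := act 7 n103169
theorem D194300 : act 7 n103169 = n194300 := rfl
theorem F392738 : act 3 n194300 = n105643 := d8_1 D194300 F347192 F347199
theorem F392739 : act 4 n194300 = n179128 := d11_1 D194300 F392727 F392723
theorem F392740 : act 6 n194300 = n105642 := d14_1 D194300 F162240 (iv6 F319387) F319860 D103169
theorem F392741 : act 1 n126921 = n194300 := d15_1 (iv0 F382337) (iv7 D194300) (iv2 F382330)
theorem F392742 : act 1 n194300 = n126926 := d15_1 F392741 (iv7 F392733) (iv2 F392735)
def n194301 : Q := act 4 n103179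
theorem D194301 : act 4 n103179 = n194301 := rfl
theorem F392743 : act 2 n194301 = n141960 := d1_1 D194301 (iv4 F382002) F366003
theorem F392744 : act 6 n194301 = n127086 := d10_2 (iv6 F366004) D194301 (iv4 F347202)
theorem F392745 : act 7 n194301 = n141858 := d11_2 F390432 D194301 F390438
theorem F392746 : act 0 n141833 = n194301 := d20_10 (iv4 D194301) F392712 (iv4 F377069) (iv3 D189599) (iv1 F293848) F328555 (iv4 F94995) F166200 F102386 D141833
theorem F392747 : act 0 n128547 = n127123 := d18_0 (iv4 F224861) F392746 (iv4 D194301) (iv5 D103179) (iv4 F190344) F120162 (iv4 F163151) (iv0 F259115) F355727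
theorem F392748 : act 1 n141961 = n194301 := d15_0 (iv0 F392746) F224862 D141961
def n194302 : Q := act 3 n103184
theorem D194302 : act 3 n103184 = n194302 := rfl
theorem F392749 : act 0 n194302 = n126903 := d19_4 (iv1 F75032) D47823 D103184 D194302 (iv5 F364930) F189768 F87496 F52383 (iv5 F60343) (iv4 F130594) (iv3 F278784) F348495 (iv5 D119337) (iv4 F188769) F188768 (iv1 F51550) (iv5 F51577) (iv4 F106432) F106431
def n194303 : Q := act 6 n103184
theorem D194303 : act 6 n103184 = n194303 := rfl
theorem F392750 : act 2 n194303 = n136282 := d3_1 D194303 (iv6 F392470) F392468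
theorem F392751 : act 4 n194303 = n103185 := d10_1 D194303 (iv6 D103185) D103184
theorem F392752 : act 5 n194303 = n136272 := d12_1 D194303 F351978 (iv5 F336544) (iv6 F217746) (iv5 F358086)
theorem F392753 : act 0 n155755 = n194303 := d21_4 (iv5 F294116) F329031 (iv5 F110832) D155755 (iv6 D194303) F358086 (iv1 F354054) F320267 (iv6 D74051) (iv1 F329904)
theorem F392754 : act 7 n155757 = n194303 := d13_0 F392752 F351979 F345785
theorem F392755 : act 0 n194303 = n155759 := d21_1 (iv5 F392752) F318533 (iv6 F131981) (iv1 F333980) (iv6 D144818) (iv5 D67868) D67866 (iv5 F105391) D147382 (iv1 F351976)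
def n194304 : Q := act 4 n103191
theorem D194304 : act 4 n103191 = n194304 := rfl
theorem F392756 : act 5 n194304 = n144468 := d16_1 D194304 (iv4 D144468) (iv5 F317339) (iv4 F307995) D161630 (iv4 F379438) (iv5 F379439) D193714 F390762
theorem F392757 : act 0 n193654 = n194304 := d20_7 F346782 (iv1 D176622) (iv4 F328704) (iv3 D47436) D47434 D102165 D193654 (iv4 D194304) (iv3 D103191) (iv1 F158283)
def n194305 : Q := act 6 n103191
theorem D194305 : act 6 n103191 = n194305 := rfl
theorem F392758 : act 3 n194305 = n103194 := d7_1 D194305 (iv6 D103194) D103191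
def n194306 : Q := act 0 n103192
theorem D194306 : act 0 n103192 = n194306 := rfl
theorem F392759 : act 5 n194306 = n131679 := d17_1 D194306 (iv1 F217718) (iv5 F358086) (iv4 D103184) (iv5 D47823) F75032 (iv5 F158280) F158283 D103192
theorem F392760 : act 4 n194306 = n130577 := d18_3 D47825 D103192 D194306 F346794 F317104 F314948 (iv4 D47817) (iv0 D23012) D23014
theorem F392761 : act 2 n155662 = n194306 := d15_3 (iv0 D194306) F346796 D155662
theorem F392762 : act 1 n103197 = n194306 := d15_0 (iv0 D194306) (iv7 F379524) F379522
theorem F392763 : act 7 n194306 = n155658 := d15_2 (iv0 F343380) F392762 F244681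
theorem F392764 : act 6 n177682 = n194306 := d21_3 (iv5 D162950) (iv1 F193010) (iv5 F277118) (iv1 F392762) F355163 D178936 F355166 F192172 F316255 (iv1 F345641)
def n194307 : Q := act 3 n103192
theorem D194307 : act 3 n103192 = n194307 := rfl
theorem F392765 : act 5 n194307 = n119281 := d6_2 (iv5 F334507) D194307 (iv3 F271061)
theorem F392766 : act 7 n194307 = n172026 := d8_2 F379524 D194307 F379528
theorem F392767 : act 0 n194307 = n176117 := d20_4 (iv4 D47827) D47825 D103192 D194307 (iv3 D176117) F328302 (iv1 F289605) (iv4 F327918) (iv3 F129279) F346765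
theorem F392768 : act 2 n172021 = n194307 := d2_3 F392765 F313119 D172021
def n194308 : Q := act 6 n103192
theorem D194308 : act 6 n103192 = n194308 := rfl
theorem F392769 : act 4 n194308 = n103194 := d10_1 D194308 (iv6 D103194) D103192
theorem F392770 : act 5 n194308 = n127656 := d12_1 D194308 F309699 D130383 (iv6 F340219) (iv5 F334507)
theorem F392771 : act 7 n194308 = n178932 := d14_2 F379524 D194308 (iv6 D178932) (iv7 F355442) (iv6 F379523)
theorem F392772 : act 0 n194308 = n128282 := d21_4 F390487 F340217 (iv5 F334507) D194308 F354109 F354110 F212111 F337779 F337780 F390489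
theorem F392773 : act 1 n194308 = n128096 := d15_1 (iv0 F392772) F354112 (iv2 F354137)
theorem F392774 : act 0 n194305 = n116994 := d20_4 (iv4 F354111) (iv1 F392773) F392769 (iv3 F392758) F182908 F85041 (iv1 D29600) (iv4 F47523) (iv3 F97610) D133370
def n194309 : Q := act 0 n103194
theorem D194309 : act 0 n103194 = n194309 := rfl
theorem F392775 : act 5 n194309 = n127633 := d17_1 D194309 (iv1 F340394) F340393 (iv4 D128325) (iv5 D60329) F94855 D128282 (iv0 F392772) F392769
theorem F392776 : act 4 n194309 = n128068 := d18_1 D194309 (iv1 F206083) D128255 (iv5 F379559) (iv4 D190365) (iv0 F147585) (iv4 F358005) D187312 (iv5 F369797)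
theorem F392777 : act 2 n128262 = n194309 := d15_3 (iv0 D194309) F369798 D128262
theorem F392778 : act 1 n128259 = n194309 := d15_0 (iv0 D194309) (iv7 F369942) F369941
theorem F392779 : act 7 n194309 = n128067 := d15_2 D128259 F392778 F206079
theorem F392780 : act 6 n194309 = n103270 := d3_2 F362964 F392777 F367018
theorem E103577 : n191199 = n191127 := (c21_7 (iv5 D191067) (iv1 F334501) F334503 D103194 D194309 F392780 (iv5 F382558) (iv1 D191127) D191128 F382332 (iv1 F382085))
theorem F392781 : act 5 n191127 = n103270 := (sb E103577 F382558)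
theorem F392782 : act 6 n191127 = n97375 := (sb E103577 (iv6 D191199))
def n194310 : Q := act 3 n103197
theorem D194310 : act 3 n103197 = n194310 := rfl
theorem F392783 : act 6 n194310 = n178934 := d7_2 (iv6 F355163) D194310 (iv3 D178934)
def n194311 : Q := act 7 n103198
theorem D194311 : act 7 n103198 = n194311 := rfl
theorem F392784 : act 2 n194311 = n178930 := d4_1 D194311 F379499 F379495
theorem F392785 : act 4 n194311 = n125004 := d11_1 D194311 F355440 (iv4 F355516)
theorem F392786 : act 6 n194311 = n128259 := d14_1 D194311 (iv7 F369953) (iv6 F378405) F378406 D103198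
def n194312 : Q := act 2 n103201
theorem D194312 : act 2 n103201 = n194312 := rfl
theorem F392787 : act 3 n194312 = n155842 := d0_2 D103201 D194312 (iv2 F359351) F359352 F158277
theorem F392788 : act 6 n194312 = n103280 := d3_2 (iv6 F158447) D194312 (iv2 D103280)
theorem F392789 : act 0 n194312 = n174516 := d21_4 F376006 (iv1 D155827) (iv5 F349917) (iv6 F392788) (iv6 D174516) (iv5 F151526) F151527 F127810 D173303 F376009
theorem F392790 : act 1 n194312 = n153910 := d15_1 (iv0 F392789) (iv7 F343425) F343423
def n194313 : Q := act 5 n103201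
theorem D194313 : act 5 n103201 = n194313 := rfl
theorem F392791 : act 3 n194313 = n103202 := d6_1 D194313 (iv5 D103202) D103201
def n194314 : Q := act 7 n103201
theorem D194314 : act 7 n103201 = n194314 := rfl
theorem F392792 : act 3 n194314 = n103203 := d8_1 D194314 (iv7 D103203) D103201
theorem F392793 : act 1 n153910 = n194314 := d15_1 F392790 (iv7 D194314) D194312
theorem F392794 : act 1 n194314 = n174516 := d15_1 F392793 (iv7 F389510) F389509
def n194315 : Q := act 0 n103202
theorem D194315 : act 0 n103202 = n194315 := rfl
theorem F392795 : act 5 n194315 = n126654 := d17_3 F346765 D103202 D194315 (iv4 F206745) (iv5 F339720) (iv0 D95291) D95293 F339715 F328704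
theorem F392796 : act 6 n194315 = n118628 := d21_5 D38412 D83383 D174449 F358745 D194315 F209326 F212538 F320105 (iv6 D83382) (iv1 D38411)
theorem F392797 : act 2 n158209 = n194315 := d15_3 (iv0 D194315) (iv0 F339826) (iv7 F365700)
theorem F392798 : act 3 n194315 = n118631 := d0_2 (iv3 F249223) F392797 F327813 (iv3 F327815) F113064
theorem F392799 : act 4 n194315 = n133067 := d1_2 F314727 F392797 (iv2 F216680)
theorem F392800 : act 0 n194315 = n158326 := d21_4 F216510 (iv1 F212539) (iv5 F209326) (iv6 F392796) (iv6 D158326) D158325 (iv1 F303729) F303730 F129197 (iv1 F317945)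
def n194316 : Q := act 4 n103202
theorem D194316 : act 4 n103202 = n194316 := rfl
theorem F392801 : act 2 n194316 = n147190 := d1_1 D194316 (iv4 F392478) F392474
theorem F392802 : act 5 n194316 = n147461 := d9_2 D103202 D194316 F243361 (iv5 D117172) (iv4 F317107) (iv5 F158280) F346782 F346784 (iv4 F392661) (iv5 D194286) (iv4 D103145) (iv5 D47813) F36071 D23014 D47827
theorem F392803 : act 0 n194316 = n131672 := d17_0 F333685 D147075 F310746 F110304 D83359 (iv0 F346798) (iv5 F392795) (iv0 D194315) D194316
theorem F392804 : act 1 n194316 = n147192 := d18_6 (iv1 F392762) (iv4 D103197) (iv1 D47826) D47827 D103202 D194316 (iv4 F358073) F217718 (iv5 F392759)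
theorem F392805 : act 3 n194316 = n192641 := d19_3 F346765 D103202 D194316 (iv1 D192641) (iv5 F298231) F298230 F332153 F156199 (iv5 F344675) (iv4 D95352) (iv3 F146975) D189864 F378822 F378820 (iv3 D176702) F327384 (iv5 D47432) (iv4 F327918) (iv3 F129279)
theorem F392806 : act 7 n147189 = n194316 := d8_0 F392805 F387324 (iv3 F362637)
def n194317 : Q := act 7 n103202
theorem D194317 : act 7 n103202 = n194317 := rfl
theorem F392807 : act 2 n194317 = n158326 := d4_1 D194317 (iv7 F392477) F392474
theorem F392808 : act 4 n194317 = n147189 := d11_1 D194317 F392806 (iv4 D194316)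
theorem F392809 : act 5 n194317 = n103203 := d13_1 D194317 (iv7 D103203) D103202
theorem F392810 : act 6 n194317 = n158315 := d14_1 D194317 F249435 D158324 (iv7 F273330) F358745
theorem F392811 : act 0 n158209 = n194317 := d17_2 F365701 F365699 F392809 F158448 F75112 F75031 D103035 F391488 F391485
def n194318 : Q := act 6 n103203
theorem D194318 : act 6 n103203 = n194318 := rfl
theorem F392812 : act 4 n194318 = n103204 := d10_1 D194318 (iv6 D103204) (iv4 F158448)
theorem F392813 : act 7 n194318 = n103286 := d14_2 D103203 D194318 (iv6 D103286) (iv7 D47858) (iv6 F75111)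
def n194319 : Q := act 4 n103206
theorem D194319 : act 4 n103206 = n194319 := rfl
theorem F392814 : act 3 n194319 = n105548 := d5_1 D194319 (iv4 F162081) (iv3 F111281) (iv4 F111278) (iv3 F296435)
theorem F392815 : act 7 n194319 = n144243 := d11_2 (iv7 F296436) D194319 (iv4 D144243)
theorem F392816 : act 0 n194319 = n118265 := d20_1 D194319 (iv4 F187731) (iv3 D119266) (iv1 D54889) F329939 F329906 (iv1 F329904) (iv4 D47849) D47848 (iv1 F331237)
def n194320 : Q := act 6 n103206
theorem D194320 : act 6 n103206 = n194320 := rfl
theorem F392817 : act 3 n194320 = n144025 := d7_1 D194320 (iv6 D144025) (iv3 F296435)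
theorem F392818 : act 5 n194320 = n144198 := d12_1 D194320 (iv6 D144198) (iv5 F313129) (iv6 F177395) D103206
theorem F392819 : act 0 n194320 = n111983 := d21_4 (iv5 D47832) D47829 D103206 D194320 (iv6 D111983) (iv5 D51646) (iv1 F81527) (iv5 F99668) (iv6 F355198) (iv1 D103210)
def n194321 : Q := act 4 n103207
theorem D194321 : act 4 n103207 = n194321 := rfl
theorem F392820 : act 2 n194321 = n103211 := d1_1 D194321 (iv4 D103211) (iv2 F158456)
theorem F392821 : act 1 n194321 = n105639 := d18_6 (iv1 D87858) F62126 D41003 (iv4 F75113) D103207 D194321 (iv4 F173995) (iv0 F358498) F358499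
def n194322 : Q := act 4 n103209
theorem D194322 : act 4 n103209 = n194322 := rfl
theorem F392822 : act 2 n194322 = n150042 := d1_1 D194322 F383081 F379147
theorem F392823 : act 3 n194322 = n108113 := d5_1 D194322 F175796 (iv3 F164928) (iv4 F295854) F349230
theorem F392824 : act 7 n194322 = n105546 := d11_2 F360498 D194322 (iv4 F202139)
theorem F392825 : act 0 n194322 = n118252 := d18_2 D103209 D194322 (iv4 F244736) F358499 (iv4 F157789) F158454 (iv4 D103205) (iv0 D47829) D47832
theorem F392826 : act 1 n194322 = n150044 := d18_6 F381202 F381201 (iv1 F375508) (iv4 F349216) (iv5 F349217) D194322 F358512 F358511 F358496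
def n194323 : Q := act 6 n103209
theorem D194323 : act 6 n103209 = n194323 := rfl
theorem F392827 : act 7 n194323 = n136285 := d14_2 F360498 D194323 (iv6 D136285) (iv7 F99666) D125663
def n194324 : Q := act 4 n103210
theorem D194324 : act 4 n103210 = n194324 := rfl
theorem F392828 : act 2 n194324 = n105546 := d1_1 D194324 (iv4 F202139) (iv2 F355197)
theorem F392829 : act 6 n194324 = n105497 := d10_2 (iv6 F355198) D194324 F161954
theorem F392830 : act 7 n194324 = n150042 := d11_2 F379149 D194324 F383081
theorem F392831 : act 0 n194324 = n150044 := d18_2 F386680 D194324 F358512 (iv5 D184199) (iv4 F157793) (iv0 D99515) (iv4 F75090) F157769 D192414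
theorem F392832 : act 0 n118252 = n194324 := d20_10 (iv4 D194324) (iv1 D103210) D103211 (iv3 F365605) (iv1 D155790) (iv3 F110884) (iv4 D74164) F53349 D54465 D118252
def n194325 : Q := act 0 n103211
theorem D194325 : act 0 n103211 = n194325 := rfl
theorem F392833 : act 4 n194325 = n103872 := d18_3 (iv1 D103210) D103211 D194325 F159290 F147375 (iv0 F139759) F72957 D97327 (iv5 F367031)
theorem F392834 : act 7 n105639 = n194325 := d11_0 F392833 (iv7 F358497) F173995
def n194326 : Q := act 5 n103211
theorem D194326 : act 5 n103211 = n194326 := rfl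
def n194327 : Q := act 4 n103215
theorem D194327 : act 4 n103215 = n194327 := rfl
theorem F392835 : act 3 n194327 = n155873 := d5_1 D194327 (iv4 D155873) (iv3 F347885) (iv4 D103216) D103215
def n194328 : Q := act 6 n103215
theorem D194328 : act 6 n103215 = n194328 := rfl
theorem F392836 : act 3 n194328 = n103217 := d7_1 D194328 (iv6 D103217) D103215
theorem F392837 : act 5 n194328 = n187308 := d12_1 D194328 (iv6 D187308) (iv5 D89889) D89890 (iv5 F158460)
def n194329 : Q := act 0 n103217
theorem D194329 : act 0 n103217 = n194329 := rfl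
theorem F392838 : act 5 n194329 = n190938 := d17_1 D194329 (iv1 F381613) (iv5 F378794) F206383 F94836 (iv0 F52963) D73242 D154539 (iv4 F340387)
theorem F392839 : act 4 n194329 = n128073 := d18_3 (iv1 F242578) (iv4 F340387) D194329 (iv5 D128073) (iv4 D60185) (iv0 D28609) (iv4 F46175) D60180 D128063
theorem F392840 : act 2 n128290 = n194329 := d15_3 (iv0 D194329) (iv0 F378798) (iv7 F378800)
theorem F392841 : act 7 n194329 = n128325 := d4_2 (iv7 F378800) F392840 (iv2 F378796)
theorem F392842 : act 1 n174569 = n194329 := d15_1 F378799 F392841 (iv2 F378796)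
def n194330 : Q := act 7 n103217
theorem D194330 : act 7 n103217 = n194330 := rfl
theorem F392843 : act 2 n194330 = n174569 := d4_1 D194330 (iv7 F340389) (iv2 F158464)
theorem F392844 : act 4 n194330 = n128229 := d11_1 D194330 (iv7 F242579) (iv4 F340387)
theorem F392845 : act 5 n194330 = n187313 := d13_1 D194330 (iv7 D187313) (iv5 F158465)
theorem F392846 : act 6 n194330 = n136280 := d14_1 D194330 (iv7 F353517) (iv6 D184381) F291900 D103217
theorem F392847 : act 1 n128325 = n194330 := d15_1 (iv0 F340392) (iv7 D194330) F158464
theorem F392848 : act 1 n194330 = n128290 := d15_1 F392847 F378800 F378796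
def n194331 : Q := act 6 n103220
theorem D194331 : act 6 n103220 = n194331 := rfl
theorem F392849 : act 2 n194331 = n120022 := d3_1 D194331 (iv6 D120022) (iv2 F328601)
theorem F392850 : act 3 n194331 = n155705 := d7_1 D194331 (iv6 D155705) (iv3 F328602)
theorem F392851 : act 4 n194331 = n184388 := d10_1 D194331 (iv6 D184388) (iv4 F294885)
theorem F392852 : act 0 n194331 = n128073 := d21_4 F329041 (iv1 F329035) (iv5 F294886) D194331 F348420 (iv5 D162955) (iv1 D78350) D78352 (iv6 F316262) (iv1 F329848)
theorem F392853 : act 0 n128079 = n194331 := d21_4 F325016 F130973 D152598 (iv6 F364915) (iv6 D194331) F294886 F134918 D101219 D193136 F388873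
theorem F392854 : act 7 n194331 = n128288 := d15_2 F366392 (iv0 F392852) (iv2 F366388)
def n194332 : Q := act 2 n103222
theorem D194332 : act 2 n103222 = n194332 := rfl
theorem F392855 : act 1 n194332 = n126754 := d15_0 F203976 F354579 D194332
theorem F392856 : act 1 n126752 = n194332 := d15_0 F392855 (iv7 F219976) F219975
def n194333 : Q := act 6 n103222
theorem D194333 : act 6 n103222 = n194333 := rfl
theorem F392857 : act 3 n194333 = n103224 := d7_1 D194333 (iv6 D103224) D103222
theorem F392858 : act 7 n179118 = n194333 := d8_0 F392857 F350205 D179118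
def n194334 : Q := act 3 n103225
theorem D194334 : act 3 n103225 = n194334 := rfl
theorem F392859 : act 4 n194334 = n156200 := d5_2 (iv4 F355172) D194334 F351398 F351396 D179247
theorem F392860 : act 0 n194334 = n113066 := d20_10 F320583 (iv1 F320579) F111143 F82440 (iv1 F40001) (iv3 F331329) (iv4 F158561) (iv1 F354252) (iv4 F355172) D194334
def n194335 : Q := act 5 n103225
theorem D194335 : act 5 n103225 = n194335 := rfl
theorem F392861 : act 2 n194335 = n190349 := d2_1 D194335 (iv5 F379498) (iv2 F372113)
theorem F392862 : act 7 n194335 = n190348 := d13_2 F355179 D194335 F379494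
theorem F392863 : act 0 n194335 = n189980 := d17_2 D103225 D194335 F378420 F355516 D178936 (iv0 F355158) F250340 (iv0 F355167) F158474
theorem F392864 : act 1 n194335 = n190351 := d17_8 (iv1 F377125) (iv5 F376557) (iv1 F339810) (iv5 F379780) F379779 (iv5 F372124) F372127 D194335 F379519
def n194336 : Q := act 5 n103226
theorem D194336 : act 5 n103226 = n194336 := rfl
theorem F392865 : act 2 n194336 = n190348 := d2_1 D194336 F379494 F354260
theorem F392866 : act 7 n194336 = n190349 := d13_2 F372114 D194336 (iv5 F379498)
theorem F392867 : act 0 n194336 = n190351 := d17_2 (iv1 F372126) D194336 F379520 (iv4 D178930) D178931 F355428 F192172 D125051 (iv4 F372123)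
theorem F392868 : act 1 n194336 = n189980 := d17_6 (iv1 F214331) F335862 F354259 F354255 (iv4 F354257) D194336 F378420 (iv0 F379784) F379782
theorem F392869 : act 6 n194336 = n144011 := d21_9 F306976 (iv1 F165820) D144007 (iv6 F366864) (iv1 F378521) F378518 (iv5 F372124) (iv1 F372126) D194336 (iv1 F306972)
def n194337 : Q := act 6 n103226
theorem D194337 : act 6 n103226 = n194337 := rfl
def n194338 : Q := act 4 n103233
theorem D194338 : act 4 n103233 = n194338 := rfl
theorem F392870 : act 2 n194338 = n103237 := d1_1 D194338 (iv4 D103237) (iv2 F158478)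
theorem F392871 : act 7 n194338 = n134856 := d11_2 F372079 D194338 F372082
theorem F392872 : act 0 n194338 = n138772 := d18_2 (iv1 F372087) D194338 (iv4 F375087) F375086 F373234 F372405 (iv4 F376050) F376053 (iv5 F372086)
def n194339 : Q := act 6 n103233
theorem D194339 : act 6 n103233 = n194339 := rfl
theorem F392873 : act 2 n194339 = n103238 := d3_1 D194339 (iv6 D103238) (iv2 F158478)
def n194340 : Q := act 4 n103235
theorem D194340 : act 4 n103235 = n194340 := rfl
theorem F392874 : act 2 n194340 = n147922 := d1_1 D194340 (iv4 F372097) (iv2 F372098)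
theorem F392875 : act 3 n194340 = n154753 := d5_1 D194340 (iv4 F389305) F389304 (iv4 F390513) F390512
theorem F392876 : act 7 n194340 = n154743 := d11_2 (iv7 F372090) D194340 (iv4 F372089)
theorem F392877 : act 0 n194340 = n154742 := d17_0 F365331 F363683 (iv5 F365241) F365237 (iv5 D103231) F139639 D188010 F372085 D194340
theorem F392878 : act 1 n194340 = n154741 := d18_6 F367119 (iv4 F154234) (iv1 F375108) (iv4 F376038) F376037 D194340 F365603 D188871 F375095
def n194341 : Q := act 6 n103236
theorem D194341 : act 6 n103236 = n194341 := rfl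
theorem F392879 : act 3 n194341 = n151267 := d7_1 D194341 (iv6 D151267) (iv3 F365600)
theorem F392880 : act 4 n194341 = n154745 := d10_1 D194341 (iv6 D154745) (iv4 F365601)
theorem F392881 : act 5 n194341 = n191037 := d12_1 D194341 (iv6 D191037) (iv5 D97163) D97164 (iv5 F365602)
def n194342 : Q := act 0 n103237
theorem D194342 : act 0 n103237 = n194342 := rfl
theorem F392882 : act 4 n194342 = n103866 := d18_3 (iv1 D103236) D103237 D194342 (iv5 F370150) (iv4 F372395) (iv0 D188129) F292051 (iv0 F367217) (iv5 F365602)
theorem F392883 : act 1 n134856 = n194342 := d15_0 (iv0 D194342) (iv7 F372100) F372099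
theorem F392884 : act 2 n138772 = n194342 := d1_3 F392882 (iv2 F375092) F375087
def n194343 : Q := act 1 n103237
theorem D194343 : act 1 n103237 = n194343 := rfl
theorem F392885 : act 1 n194343 = n134856 := d15_1 D194343 (iv7 F392871) F392870
theorem F392886 : act 7 n194343 = n138772 := d15_2 (iv0 D194342) D194343 F392884
theorem F392887 : act 4 n194343 = n103865 := d18_7 D48082 (iv4 F176033) F176031 F65227 D47841 D103237 D194343 (iv0 D103865) (iv5 D48085)
theorem F392888 : act 3 n108540 = n194343 := d20_9 (iv4 D103237) D103235 D194340 F392875 F389307 F167699 F79279 D63372 F167835 (iv1 D194343)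
def n194344 : Q := act 5 n103237
theorem D194344 : act 5 n103237 = n194344 := rfl
def n194345 : Q := act 6 n103237
theorem D194345 : act 6 n103237 = n194345 := rfl
theorem F392889 : act 4 n194345 = n103238 := d10_1 D194345 (iv6 D103238) D103237
theorem F392890 : act 7 n194345 = n134851 := d14_2 F372100 D194345 (iv6 D134851) D134852 F372101
def n194346 : Q := act 0 n103238
theorem D194346 : act 0 n103238 = n194346 := rfl
def n194347 : Q := act 1 n103238
theorem D194347 : act 1 n103238 = n194347 := rfl
def n194348 : Q := act 5 n103238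
theorem D194348 : act 5 n103238 = n194348 := rfl
theorem F392891 : act 3 n194348 = n103248 := d6_1 D194348 (iv5 D103248) (iv3 F158480)
theorem F392892 : act 6 n194348 = n103241 := d12_2 D103238 D194348 (iv5 D103241) (iv6 D47842) D47841
def n194349 : Q := act 7 n103238
theorem D194349 : act 7 n103238 = n194349 := rfl
theorem F392893 : act 3 n194349 = n103249 := d8_1 D194349 (iv7 D103249) (iv3 F158480)
theorem F392894 : act 4 n194349 = n134851 := d11_1 D194349 (iv7 F392890) F392889
theorem F392895 : act 6 n194349 = n134849 := d14_1 D194349 F372107 (iv6 D188014) F139644 D103238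
def n194350 : Q := act 4 n103241
theorem D194350 : act 4 n103241 = n194350 := rfl
theorem F392896 : act 0 n194350 = n164425 := d17_0 (iv5 D164425) F149566 (iv5 F379237) (iv4 D190264) (iv5 D95789) (iv0 F136440) D159808 F251840 D194350
theorem F392897 : act 1 n194350 = n164402 := d18_6 (iv1 F161614) F161612 (iv1 F290555) (iv4 F290572) D103241 D194350 F290521 (iv0 F251424) (iv5 D104704)
def n194351 : Q := act 0 n103243
theorem D194351 : act 0 n103243 = n194351 := rfl
theorem F392898 : act 3 n194351 = n107695 := d20_5 (iv4 D103216) (iv1 F75117) D47843 D103243 D194351 F167749 F111139 F323325 F336636 (iv1 F158463)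
theorem F392899 : act 4 n194351 = n138780 := d20_8 F79279 D63372 F167835 F392888 (iv1 D194343) (iv3 F365594) (iv4 F328605) D194351 (iv3 D138780) F101951
theorem F392900 : act 2 n154768 = n194351 := d15_3 (iv0 D194351) (iv0 F359964) F346492
theorem F392901 : act 7 n194351 = n154763 := d4_2 F346492 F392900 (iv2 F359337)
theorem F392902 : act 6 n126854 = n194351 := d14_5 F392901 F359335 (iv7 F243746) D175120 (iv7 F344432)
theorem F392903 : act 5 n126742 = n194351 := d18_4 F357004 F189404 D152792 F366267 F392899 F359343 F105578 D69676 (iv5 F353039)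
def n194352 : Q := act 2 n103243
theorem D194352 : act 2 n103243 = n194352 := rfl
theorem F392904 : act 4 n194352 = n192513 := d1_2 (iv4 F328605) D194352 (iv2 F386920)
theorem F392905 : act 5 n194352 = n156198 := d2_2 (iv5 F359963) D194352 (iv2 F359966)
theorem F392906 : act 1 n194352 = n154763 := d15_0 (iv0 F372110) F372109 D194352
theorem F392907 : act 1 n154768 = n194352 := d15_0 F392906 (iv7 F392901) (iv2 F392900)
theorem F392908 : act 3 n192513 = n154729 := d20_3 D154763 (iv1 F392906) F392904 (iv1 D154729) (iv3 D73378) (iv4 D33753) (iv1 D16307) D16308 D33758 D73390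
theorem F392909 : act 0 n154767 = n108479 := d20_4 (iv4 F392904) (iv1 F392907) (iv4 D154768) D154767 (iv3 F364766) (iv4 D89420) (iv1 F73321) D46786 D100262 D192513
theorem F392910 : act 5 n114280 = n154767 := d17_1 (iv1 F178126) F392909 F371566 (iv4 D187806) F139460 F76727 F143179 F143178 D92820
theorem F392911 : act 3 n154769 = n114280 := d6_3 F392910 (iv3 D154767) D154769
def n194353 : Q := act 6 n103243
theorem D194353 : act 6 n103243 = n194353 := rfl
theorem F392912 : act 3 n194353 = n103245 := d7_1 D194353 (iv6 D103245) D103243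
def n194354 : Q := act 0 n103245
theorem D194354 : act 0 n103245 = n194354 := rfl
theorem F392913 : act 6 n194354 = n161177 := d21_5 F293906 (iv1 F329795) (iv5 F329903) D103245 D194354 F303249 (iv1 F334218) (iv5 F331981) (iv6 D103258) D103255
theorem F392914 : act 3 n117911 = n194354 := d7_3 F392913 (iv3 D161177) (iv6 F324873)
theorem F392915 : act 7 n148656 = n194354 := d14_0 F392913 (iv7 F324976) F390488 (iv7 F392717) F392721
theorem F392916 : act 4 n194354 = n194258 := d11_1 F392915 F392535 F331349
def n194355 : Q := act 1 n103245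
theorem D194355 : act 1 n103245 = n194355 := rfl
theorem F392917 : act 1 n194355 = n179121 := d15_1 D194355 (iv7 F392487) F392484
def n194356 : Q := act 5 n103245
theorem D194356 : act 5 n103245 = n194356 := rfl
theorem F392918 : act 2 n194356 = n123722 := d2_1 D194356 (iv5 F392486) F392484
theorem F392919 : act 6 n194356 = n178959 := d12_2 D103245 D194356 F336296 F336297 (iv5 F329903)
theorem F392920 : act 7 n123717 = n194356 := d14_0 F392919 (iv7 F336344) (iv6 F356772) (iv7 F355148) (iv6 F355149)
theorem F392921 : act 0 n194356 = n127901 := d21_4 F345969 (iv1 F336301) (iv5 F336296) (iv6 F392919) (iv6 D127901) F94638 (iv1 D28614) D28616 D60204 D128106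
theorem F392922 : act 4 n123682 = n194356 := d20_0 F392921 F205817 (iv3 F338172) (iv1 F338169) F341507 (iv4 D123899) (iv1 F90902) F90890 (iv3 F90864) (iv1 F198116)
theorem F392923 : act 1 n194356 = n184836 := d15_1 (iv0 F392921) (iv7 F354073) F240700
theorem F392924 : act 3 n194356 = n190222 := d20_5 F310599 (iv1 D88123) D88124 D184836 (iv1 F392923) (iv4 D190222) (iv1 D95747) F310752 (iv3 D73289) D73287
theorem F392925 : act 5 n190222 = n194353 := d6_2 D194356 F392924 F392912
def n194357 : Q := act 7 n103245
theorem D194357 : act 7 n103245 = n194357 := rfl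
theorem F392926 : act 2 n194357 = n179121 := d4_1 D194357 (iv7 F392487) F392484
theorem F392927 : act 4 n194357 = n103249 := d11_1 D194357 (iv7 D103249) (iv4 F158493)
theorem F392928 : act 5 n194357 = n123717 := d13_1 D194357 F392920 (iv5 D194356)
theorem F392929 : act 6 n194357 = n125051 := d14_1 D194357 F355156 (iv6 F350207) F139650 D103245
theorem F392930 : act 1 n179121 = n194354 := d15_0 (iv0 D194354) D194357 F392926
theorem F392931 : act 1 n148656 = n194357 := d15_1 (iv0 F392488) (iv7 D194357) (iv2 F392484)
theorem E103578 : n194355 = n147737 := ((c15_4 F392917 F392930 (iv7 F392915) F361781)).symm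
theorem F392932 : act 0 n147737 = n103245 := (sb E103578 (iv1 D194355))
theorem F392933 : act 1 n147737 = n179121 := (sb E103578 F392917)
theorem E103579 : n147734 = n147594 := ((c21_10 D147737 F392932 D194356 F392919 (iv1 D178959) (iv6 F278837) (iv5 F350802) F202946 F231073 D147594 (iv1 D147734))).symm
theorem F392934 : act 0 n147594 = n69223 := (sb E103579 (iv1 D147734))
def n194358 : Q := act 3 n103246
theorem D194358 : act 3 n103246 = n194358 := rfl
def n194359 : Q := act 4 n103246
theorem D194359 : act 4 n103246 = n194359 := rfl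
def n194360 : Q := act 5 n103246
theorem D194360 : act 5 n103246 = n194360 := rfl
theorem F392935 : act 7 n194360 = n190293 := d13_2 (iv7 F392500) D194360 F392491
def n194361 : Q := act 6 n103246
theorem D194361 : act 6 n103246 = n194361 := rfl
theorem F392936 : act 5 n194361 = n104817 := d21_6 F75040 (iv1 F36042) D23020 D47844 D103246 D194361 (iv1 D104817) F76221 (iv6 D47850) (iv1 F75047)
theorem F392937 : act 4 n174496 = n194361 := d17_4 (iv1 D193459) (iv5 D101756) D101753 (iv5 F350942) F392936 F160653 (iv5 F392516) F392519 F389916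
theorem F392938 : act 6 n194359 = n174496 := d10_0 F392937 (iv6 D194361) D194359
theorem F392939 : act 3 n174498 = n194359 := d7_3 F392938 (iv3 D174496) D174498
theorem F392940 : act 0 n103360 = n194359 := d21_4 (iv5 D93351) D93348 F294127 D103360 F392938 F350942 F350945 F332037 (iv6 D103274) F293110
theorem F392941 : act 0 n194359 = n107705 := d21_4 (iv5 D101756) D101753 (iv5 F350942) (iv6 F392938) (iv6 D107705) F339808 (iv1 F230410) (iv5 F335857) (iv6 F389915) (iv1 D193459)
theorem E103580 : n194358 = n103809 := ((c20_5 (iv4 D108223) (iv1 F82356) (iv4 F295867) F159233 D103809 (iv3 D194358) D194359 F392941 (iv4 F175937) F175936 F171778)).symm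
theorem F392942 : act 3 n103809 = n103246 := (sb E103580 (iv3 D194358))
theorem F392943 : act 0 n174498 = n162577 := d20_4 F158493 D103246 D194359 (iv3 F392939) (iv3 F363178) (iv4 F337996) (iv1 F337998) (iv4 D147747) (iv3 F231470) F392932
def n194362 : Q := act 4 n103247
theorem D194362 : act 4 n103247 = n194362 := rfl
theorem F392944 : act 6 n194362 = n174387 := d10_2 (iv6 F391489) D194362 (iv4 F391485)
theorem F392945 : act 1 n194362 = n107705 := d18_8 (iv1 F198204) F198200 (iv1 F198116) F392922 (iv5 D194356) F158493 D103247 D194362 F354086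
theorem F392946 : act 3 n194362 = n155881 := d20_3 (iv4 F392494) (iv1 F392497) D194362 (iv1 D155881) F110857 F53335 D54314 D117911 F392914 (iv1 F392930)
theorem F392947 : act 1 n103360 = n194362 := d15_0 F392945 (iv7 F392530) F392527
theorem F392948 : act 5 n194362 = n176474 := d21_2 (iv5 F354086) (iv1 F392945) (iv6 D176474) F319548 (iv6 D60264) (iv5 D28636) (iv1 D13654) D13655 D28640 D60273
def n194363 : Q := act 0 n103248
theorem D194363 : act 0 n103248 = n194363 := rfl
theorem F392949 : act 5 n194363 = n128218 := d17_3 (iv1 D103247) D103248 D194363 (iv4 D128218) (iv5 D60275) D60274 (iv5 F347138) F392947 (iv4 D194362)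
def n194364 : Q := act 1 n103248
theorem D194364 : act 1 n103248 = n194364 := rfl
def n194365 : Q := act 7 n103248
theorem D194365 : act 7 n103248 = n194365 := rfl
theorem F392950 : act 5 n194365 = n103249 := d13_1 D194365 (iv7 D103249) D103248
def n194366 : Q := act 4 n103252
theorem D194366 : act 4 n103252 = n194366 := rfl
theorem F392951 : act 2 n194366 = n103253 := d1_1 D194366 (iv4 D103253) D103252
theorem F392952 : act 1 n194366 = n184205 := d18_6 (iv1 D190178) F147375 (iv1 F286182) (iv4 F369964) F369965 D194366 (iv4 D184205) (iv0 F365408) F379042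
def n194367 : Q := act 6 n103252
theorem D194367 : act 6 n103252 = n194367 := rfl
theorem F392953 : act 2 n194367 = n103254 := d3_1 D194367 (iv6 D103254) D103252
theorem F392954 : act 7 n194367 = n144109 := d14_2 F382405 D194367 (iv6 D144109) (iv7 F340489) (iv6 F382404)
theorem F392955 : act 0 n117023 = n194367 := d21_4 (iv5 D30200) D30197 D64062 (iv6 F361844) (iv6 D194367) (iv5 F369965) (iv1 F369969) (iv5 F367031) F355198 (iv1 D64072)
def n194368 : Q := act 0 n103253
theorem D194368 : act 0 n103253 = n194368 := rfl
theorem F392956 : act 4 n194368 = n103853 := d18_3 F158370 D103253 D194368 (iv5 D103853) F75549 (iv0 F73298) F73296 (iv0 F157768) D103083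
theorem F392957 : act 7 n184205 = n194368 := d11_0 F392956 F159268 D184205
def n194369 : Q := act 1 n103253
theorem D194369 : act 1 n103253 = n194369 := rfl
theorem F392958 : act 4 n184192 = n194369 := d20_6 (iv4 F291976) (iv1 F293111) (iv4 F293877) (iv3 F134941) (iv1 F352886) (iv3 F286120) (iv1 D194369) (iv4 D103253) (iv3 D47848) (iv1 F75047)
theorem F392959 : act 2 n194369 = n184205 := d1_1 F392958 (iv4 D184205) (iv2 F286119)
theorem F392960 : act 6 n194369 = n193654 := d10_2 (iv6 F359405) F392958 (iv4 D193654)
def n194370 : Q := act 5 n103253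
theorem D194370 : act 5 n103253 = n194370 := rfl
def n194371 : Q := act 6 n103253
theorem D194371 : act 6 n103253 = n194371 := rfl
theorem F392961 : act 3 n194371 = n193413 := d7_1 D194371 F389777 F365262
theorem F392962 : act 4 n194371 = n103254 := d10_1 D194371 (iv6 D103254) D103253
theorem F392963 : act 0 n105622 = n194371 := d20_7 F389916 (iv1 D193459) D193460 F389918 (iv1 F390602) F169710 (iv4 F162223) F392962 F158497 D103259
def n194372 : Q := act 0 n103254
theorem D194372 : act 0 n103254 = n194372 := rfl
def n194373 : Q := act 7 n103254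
theorem D194373 : act 7 n103254 = n194373 := rfl
theorem F392964 : act 2 n194373 = n144109 := d4_1 D194373 (iv7 F392954) F392953
theorem F392965 : act 3 n194373 = n103261 := d8_1 D194373 (iv7 D103261) (iv3 F158497)
theorem F392966 : act 5 n194373 = n176823 := d13_1 D194373 F362549 F160648
theorem F392967 : act 6 n194373 = n116991 := d14_1 D194373 F340509 (iv6 F367030) F150069 D103254
theorem E103581 : n194372 = n130545 := ((c15_1 (iv0 F340486) (iv0 D194372) D194373 F392964)).symm
theorem F392968 : act 1 n130545 = n103254 := (sb E103581 (iv0 D194372))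
theorem F392969 : act 1 n117023 = n194373 := d15_1 (iv0 F392955) (iv7 D194373) (iv2 F392953)
def n194374 : Q := act 0 n103258
theorem D194374 : act 0 n103258 = n194374 := rfl
theorem F392970 : act 4 n194374 = n130569 := d18_1 D194374 F380015 F220248 F321763 (iv4 F188055) (iv0 F271474) (iv4 F271473) (iv0 F334217) (iv5 F331981)
theorem F392971 : act 3 n194374 = n124695 := d20_5 (iv4 F360160) (iv1 F389779) (iv4 D193413) (iv3 F358427) D194374 (iv4 D124695) F306637 (iv4 F307395) (iv3 F350969) (iv1 F259339)
theorem F392972 : act 6 n194374 = n125005 := d21_5 F87398 (iv1 F329032) F294116 D103258 D194374 (iv5 F355165) (iv1 F230434) (iv5 F350202) (iv6 F350207) F328597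
theorem F392973 : act 5 n194374 = n161166 := d21_0 (iv1 F254847) (iv5 F364918) (iv6 D128326) (iv1 F355177) (iv6 D120022) F87398 (iv1 F329032) F294116 D103258 D194374
theorem F392974 : act 2 n125006 = n194374 := d15_3 (iv0 D194374) F359866 (iv7 F325017)
def n194375 : Q := act 7 n103258
theorem D194375 : act 7 n103258 = n194375 := rfl
theorem F392975 : act 3 n194375 = n193404 := d8_1 D194375 F389735 (iv3 F358427)
theorem F392976 : act 4 n194375 = n103261 := d11_1 D194375 (iv7 D103261) (iv4 F158502)
theorem F392977 : act 5 n194375 = n173200 := d13_1 D194375 (iv7 F334221) (iv5 F331981)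
theorem F392978 : act 0 n125006 = n194375 := d17_2 (iv1 D161165) (iv5 F325016) F392977 (iv4 F334246) (iv5 D160959) (iv0 F336546) F336548 (iv0 F351479) F351481
def n194376 : Q := act 3 n103259
theorem D194376 : act 3 n103259 = n194376 := rfl
theorem F392979 : act 4 n194376 = n115666 := d5_2 (iv4 F389916) D194376 F180034 (iv4 F180040) F389912
theorem F392980 : act 7 n194376 = n115662 := d8_2 F392509 D194376 (iv3 F392511)
theorem F392981 : act 0 n194376 = n158861 := d19_4 (iv1 F386463) (iv5 F389914) (iv4 F389916) D194376 (iv5 D158861) F113667 (iv3 D34806) D34804 F313453 F46479 (iv3 F46929) D61770 (iv5 F305903) (iv4 D106004) F77338 D83601 D175063 F274025 (iv3 F386461)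
def n194377 : Q := act 5 n103259
theorem D194377 : act 5 n103259 = n194377 := rfl
theorem F392982 : act 4 n194377 = n104631 := d16_2 (iv4 F389916) D194377 (iv5 F364241) (iv4 D160949) F336539 (iv4 F358076) D192335 F386470 (iv2 F389913)
theorem F392983 : act 1 n104594 = n194377 := d18_6 (iv1 F392603) F392604 (iv1 F345799) (iv4 F358102) F147000 (iv4 F160251) F392982 F160613 (iv5 F340601)
def n194378 : Q := act 5 n103260
theorem D194378 : act 5 n103260 = n194378 := rfl
theorem F392984 : act 4 n194378 = n104630 := d9_1 D194378 (iv5 F340607) F349862 (iv5 F336544) F358071 (iv5 F389914) (iv4 F389916) D194377 F392982 (iv5 F364241) (iv4 D160949) F336539 (iv4 F358076) D192335 (iv4 F386473)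
theorem F392985 : act 1 n194378 = n104594 := d17_8 D104595 F362532 (iv1 D160832) (iv5 F343699) F160651 F76221 D103260 D194378 F160251
theorem F392986 : act 6 n194378 = n104797 := d21_3 (iv5 F392516) (iv1 F392518) D194378 (iv1 F160612) F160333 F149956 (iv1 F71674) D95867 (iv6 F160652) (iv1 F160657)
theorem F392987 : act 3 n162813 = n194378 := d5_5 F392984 (iv3 F358140) (iv4 F272998) (iv3 D162812) D162813
theorem F392988 : act 5 n103822 = n162813 := d6_0 F392987 (iv5 D194378) (iv3 F386474)
def n194379 : Q := act 6 n103260
theorem D194379 : act 6 n103260 = n194379 := rfl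
theorem F392989 : act 2 n194379 = n115660 := d3_1 D194379 F392510 (iv2 F392513)
theorem F392990 : act 4 n194379 = n115691 := d10_1 D194379 (iv6 F386469) (iv4 F386473)
theorem F392991 : act 5 n194379 = n109245 := d21_6 (iv5 F382338) (iv1 F370264) F370260 (iv6 F392517) (iv1 F392518) D194379 (iv1 D109245) (iv5 F162239) (iv6 F392740) (iv1 F392741)
theorem F392992 : act 7 n136277 = n194379 := d13_0 F392991 F351988 D136277
theorem F392993 : act 1 n111973 = n194379 := d17_6 (iv1 F202693) (iv5 F354126) F344622 (iv5 D110405) (iv4 F81531) D111973 F392991 F169202 (iv4 F105266)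
def n194380 : Q := act 5 n103264
theorem D194380 : act 5 n103264 = n194380 := rfl
def n194381 : Q := act 0 n103265
theorem D194381 : act 0 n103265 = n194381 := rfl
theorem F392994 : act 5 n194381 = n115006 := d17_3 (iv1 F178452) (iv5 F367004) D194381 (iv4 D115006) (iv5 D53065) F161767 D76453 (iv0 F114604) (iv4 F178450)
theorem F392995 : act 3 n194381 = n135958 := d20_5 (iv4 F219894) F355178 F158505 (iv3 F158503) D194381 (iv4 D135958) (iv1 F99440) (iv4 F100361) (iv3 F220238) (iv1 F220246)
theorem F392996 : act 2 n117007 = n194381 := d15_3 (iv0 D194381) F367001 (iv7 F182941)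
theorem F392997 : act 1 n144106 = n194381 := d15_0 (iv0 D194381) F367005 (iv2 F340474)
theorem F392998 : act 7 n194381 = n137132 := d15_2 (iv0 F340473) F392997 F220324
def n194382 : Q := act 1 n103266
theorem D194382 : act 1 n103266 = n194382 := rfl
theorem F392999 : act 5 n112732 = n194382 := d21_6 F220098 (iv1 D126839) (iv5 D59520) F330507 (iv1 F82231) D112732 (iv1 D194382) F364581 (iv6 D126736) (iv1 F203717)
theorem F393000 : act 2 n194382 = n136773 := d2_1 F392999 (iv5 F349887) (iv2 F175488)
theorem F393001 : act 3 n194382 = n155617 := d6_1 F392999 (iv5 F349919) F346464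
theorem F393002 : act 6 n194382 = n112735 := d12_2 D112732 F392999 (iv5 D112735) (iv6 D52034) D52033
theorem F393003 : act 1 n155701 = n112732 := d18_8 (iv1 D194382) F375615 (iv1 D189056) F357084 F357016 D155873 F359962 F359960 F392999
def n194383 : Q := act 5 n103268
theorem D194383 : act 5 n103268 = n194383 := rfl
theorem F393004 : act 0 n194383 = n132743 := d17_2 F355178 D194383 (iv5 F322389) F204410 (iv5 F355424) (iv0 D97438) F331259 D136733 (iv4 F219894)
def n194384 : Q := act 7 n103268
theorem D194384 : act 7 n103268 = n194384 := rfl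
theorem F393005 : act 3 n194384 = n136746 := d8_1 D194384 F367022 F367015
theorem F393006 : act 4 n194384 = n103271 := d11_1 D194384 (iv7 D103271) (iv4 F158505)
theorem F393007 : act 1 n129239 = n194384 := d15_1 F382472 (iv7 D194384) (iv2 F382470)
theorem F393008 : act 5 n133093 = n194384 := d21_6 (iv5 F208883) (iv1 F47845) F47843 D61115 (iv1 F97317) D133093 (iv1 F393007) (iv5 D129239) (iv6 D60751) D60747
theorem F393009 : act 7 n194383 = n133093 := d13_0 F393008 (iv7 D194384) D194383
theorem F393010 : act 1 n130394 = n132743 := d15_0 (iv0 F393004) F393009 F361873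
def n194385 : Q := act 6 n103269
theorem D194385 : act 6 n103269 = n194385 := rfl
theorem F393011 : act 3 n194385 = n144005 := d7_1 D194385 (iv6 D144005) (iv3 F367012)
theorem F393012 : act 4 n194385 = n128219 := d10_1 D194385 (iv6 F347140) (iv4 F367013)
theorem F393013 : act 7 n194385 = n128218 := d14_2 (iv7 F367014) D194385 F206345 D128262 (iv6 F362964)
def n194386 : Q := act 3 n103270
theorem D194386 : act 3 n103270 = n194386 := rfl
theorem F393014 : act 2 n194386 = n144006 := d0_1 D194386 (iv3 D144006) F182547 F219956 (iv2 F367018)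
theorem F393015 : act 0 n194386 = n144138 := d20_10 F226852 (iv1 D115321) (iv4 F85021) (iv3 D53912) (iv1 F48766) D64434 F100356 D135992 F367017 D194386
def n194387 : Q := act 0 n103278
theorem D194387 : act 0 n103278 = n194387 := rfl
theorem F393016 : act 4 n194387 = n153753 := d18_3 F388421 F388418 D194387 (iv5 F353007) (iv4 F345218) (iv0 F373177) (iv4 F387608) (iv0 D192728) (iv5 F363665)
theorem F393017 : act 5 n194387 = n148669 := d21_0 F353024 (iv5 F353015) (iv6 F353017) F383691 (iv6 D174498) (iv5 F184678) (iv1 F184680) D192109 F385594 D194387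
theorem F393018 : act 2 n103282 = n194387 := d15_3 (iv0 D194387) (iv0 D103278) D103282
theorem F393019 : act 1 n103279 = n194387 := d15_0 (iv0 D194387) (iv7 F375904) F375901
theorem F393020 : act 7 n194387 = n103280 := d15_2 D103279 F393019 (iv2 D103280)
theorem F393021 : act 3 n148671 = n194387 := d8_3 F393020 F349916 (iv7 F353030)
def n194388 : Q := act 6 n103282
theorem D194388 : act 6 n103282 = n194388 := rfl
theorem F393022 : act 3 n194388 = n103286 := d7_1 D194388 (iv6 D103286) (iv3 F158509)
theorem F393023 : act 4 n194388 = n177283 := d10_1 D194388 F353010 F159252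
theorem F393024 : act 5 n174159 = n194388 := d21_8 F375903 F353019 (iv5 D174564) (iv6 D83422) (iv1 F127813) D173311 F271732 D174159 (iv6 D194388) F375906
theorem F393025 : act 4 n174159 = n177286 := d16_2 (iv4 F393023) (iv5 F393024) (iv5 D177286) (iv4 F199128) F199129 (iv4 F321447) F351546 F351544 F351541
def n194389 : Q := act 1 n103286
theorem D194389 : act 1 n103286 = n194389 := rfl
def n194390 : Q := act 5 n103286
theorem D194390 : act 5 n103286 = n194390 := rfl
theorem F393026 : act 3 n194390 = n174159 := d6_1 D194390 F393024 F393022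
def n194391 : Q := act 5 n103287
theorem D194391 : act 5 n103287 = n194391 := rfl
def n194392 : Q := act 6 n103288
theorem D194392 : act 6 n103288 = n194392 := rfl
def n194393 : Q := act 1 n103295
theorem D194393 : act 1 n103295 = n194393 := rfl
def n194394 : Q := act 6 n103305
theorem D194394 : act 6 n103305 = n194394 := rfl
theorem F393027 : act 4 n194394 = n107471 := d10_1 D194394 (iv6 D107471) (iv4 F331320)
theorem F393028 : act 0 n194394 = n143993 := d21_4 (iv5 F331252) D97427 F350541 D194394 (iv6 D143993) D143992 (iv1 F226993) (iv5 D144296) (iv6 D67600) (iv1 F111243)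
def n194395 : Q := act 3 n103306
theorem D194395 : act 3 n103306 = n194395 := rfl
theorem F393029 : act 4 n194395 = n156157 := d5_2 (iv4 F331324) D194395 (iv3 D156157) (iv4 F165797) (iv3 D107472)
theorem F393030 : act 5 n194395 = n191228 := d6_2 (iv5 F345183) D194395 (iv3 D191228)
theorem F393031 : act 0 n194395 = n194229 := d19_4 (iv1 F92833) F82353 (iv4 F331324) D194395 (iv5 D194229) (iv4 D103022) (iv3 F154877) F386691 F386687 (iv4 F365273) (iv3 F365060) (iv1 F365066) F349994 (iv4 D103205) F138904 (iv1 D48057) D48059 (iv4 F295863) (iv3 F92830)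
theorem F393032 : act 0 n194232 = n194395 := d20_4 F186073 (iv1 F178717) (iv4 F189492) (iv3 F392433) (iv3 D194395) F331324 (iv1 D49646) D49647 F319606 D118413
def n194396 : Q := act 3 n103310
theorem D194396 : act 3 n103310 = n194396 := rfl
theorem F393033 : act 2 n194396 = n181893 := d0_1 D194396 (iv3 D181893) (iv2 F288954) F138302 (iv2 F292567)
theorem F393034 : act 4 n194396 = n181893 := d5_2 (iv4 F292568) D194396 (iv3 D181893) F293510 F292479
theorem F393035 : act 5 n194396 = n190495 := d6_2 F251775 D194396 (iv3 D190495)
theorem F393036 : act 7 n194396 = n186185 := d8_2 (iv7 F292569) D194396 (iv3 D186185)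
theorem F393037 : act 0 n194396 = n187386 := d20_4 (iv4 F63860) (iv1 F288944) (iv4 F292568) D194396 F370108 D190641 F392272 F392269 F293464 (iv1 D88435)
theorem F393038 : act 0 n187384 = n194396 := d20_4 (iv4 F139102) (iv1 F370941) F370936 (iv3 F370096) (iv3 D194396) F292568 F288943 (iv4 F135858) F135857 (iv1 F138332)
theorem F393039 : act 0 n190495 = n189960 := d17_2 F393038 F393035 (iv5 D189960) (iv4 D95504) D95505 (iv0 F343061) F343064 F138240 D187384
theorem F393040 : act 1 n190495 = n189964 := d15_1 (iv0 F393039) (iv7 F380903) F380902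
def n194397 : Q := act 7 n103314
theorem D194397 : act 7 n103314 = n194397 := rfl
theorem F393041 : act 3 n194397 = n142587 := d8_1 D194397 F366260 F365670
theorem F393042 : act 4 n194397 = n174968 := d11_1 D194397 F366386 (iv4 F365669)
theorem F393043 : act 5 n194397 = n190069 := d13_1 D194397 F378769 (iv5 F158554)
theorem F393044 : act 6 n194397 = n142585 := d14_1 D194397 (iv7 F361853) (iv6 D155733) (iv7 F327751) D103314
theorem F393045 : act 1 n128242 = n194397 := d15_1 F364593 (iv7 D194397) F364596
theorem F393046 : act 1 n194397 = n128231 := d15_1 F393045 (iv7 F379199) F379197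
def n194398 : Q := act 6 n103315
theorem D194398 : act 6 n103315 = n194398 := rfl
theorem F393047 : act 2 n194398 = n142565 := d3_1 D194398 F354456 (iv2 F159336)
theorem F393048 : act 3 n194398 = n103317 := d7_1 D194398 (iv6 D103317) D103315
theorem F393049 : act 5 n194398 = n190692 := d12_1 D194398 (iv6 D190692) F148367 (iv6 F150188) (iv5 F158555)
def n194399 : Q := act 3 n103321
theorem D194399 : act 3 n103321 = n194399 := rfl
theorem F393050 : act 2 n194399 = n138897 := d0_1 D194399 (iv3 D138897) F314310 (iv3 F316044) (iv2 F331332)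
theorem F393051 : act 6 n194399 = n193469 := d7_2 F389960 D194399 (iv3 F389967)
theorem F393052 : act 0 n194399 = n192847 := d20_10 F388003 F357627 (iv4 F82516) (iv3 F82549) (iv1 F360552) F355246 F360550 (iv1 F200890) (iv4 F354246) D194399
theorem F393053 : act 1 n194399 = n112878 := d15_1 (iv0 F393052) (iv7 F357667) (iv2 F388001)
def n194400 : Q := act 3 n103333
theorem D194400 : act 3 n103333 = n194400 := rfl
theorem F393054 : act 2 n194400 = n139557 := d0_1 D194400 F222709 F329218 F136489 (iv2 F343897)
theorem F393055 : act 4 n194400 = n139557 := d5_2 (iv4 F343898) D194400 F222709 (iv4 F329516) (iv3 F151840)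
theorem F393056 : act 5 n194400 = n139556 := d6_2 (iv5 F343899) D194400 (iv3 F365565)
theorem F393057 : act 6 n194400 = n183001 := d7_2 (iv6 F343900) D194400 (iv3 D183001)
theorem F393058 : act 0 n194400 = n186500 := d20_10 F289386 (iv1 F292706) F142781 F142780 (iv1 F68050) D43551 D93077 F343905 (iv4 F343898) D194400
def n194401 : Q := act 4 n103335
theorem D194401 : act 4 n103335 = n194401 := rfl
def n194402 : Q := act 0 n103338
theorem D194402 : act 0 n103338 = n194402 := rfl
theorem F393059 : act 4 n194402 = n107688 := d18_1 D194402 F321601 (iv4 F340258) F336361 (iv4 F353929) F241900 F241897 F199461 (iv5 F361444)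
theorem F393060 : act 6 n194402 = n126882 := d21_5 F294143 (iv1 D47878) D47880 D103338 D194402 F373282 (iv1 D188395) F140436 (iv6 D87929) (iv1 F75745)
theorem F393061 : act 2 n125019 = n194402 := d15_3 (iv0 D194402) F361443 (iv7 F200834)
theorem F393062 : act 7 n194402 = n179157 := d4_2 (iv7 F200834) F393061 (iv2 D179157)
theorem F393063 : act 1 n154103 = n194402 := d15_1 (iv0 F353932) F393062 (iv2 D179157)
def n194403 : Q := act 7 n103338
theorem D194403 : act 7 n103338 = n194403 := rfl
theorem F393064 : act 2 n194403 = n154103 := d4_1 D194403 (iv7 F369479) F369477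
theorem F393065 : act 3 n194403 = n156688 := d8_1 D194403 (iv7 F361442) F343903
theorem F393066 : act 5 n194403 = n124685 := d13_1 D194403 F342702 (iv5 F361444)
theorem F393067 : act 6 n194403 = n184980 := d14_1 D194403 F392541 (iv6 D194259) F158333 D103338
theorem F393068 : act 1 n179157 = n194403 := d15_1 F369480 (iv7 D194403) (iv2 F369477)
theorem F393069 : act 1 n194403 = n125019 := d15_1 F393068 F200834 D179157
def n194404 : Q := act 4 n103341
theorem D194404 : act 4 n103341 = n194404 := rfl
theorem F393070 : act 7 n194404 = n184068 := d11_2 (iv7 F158597) D194404 (iv4 D184068)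
theorem F393071 : act 1 n194404 = n188142 := d18_6 (iv1 D90872) F293986 (iv1 D47892) (iv4 F75165) D103341 D194404 (iv4 D188142) (iv0 F372427) (iv5 D188134)
def n194405 : Q := act 6 n103341
theorem D194405 : act 6 n103341 = n194405 := rfl
theorem F393072 : act 3 n194405 = n103344 := d7_1 D194405 (iv6 D103344) (iv3 F158596)
def n194406 : Q := act 3 n103343
theorem D194406 : act 3 n103343 = n194406 := rfl
theorem F393073 : act 7 n194406 = n184074 := d8_2 (iv7 F158602) D194406 (iv3 D184074)
def n194407 : Q := act 6 n103343
theorem D194407 : act 6 n103343 = n194407 := rfl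
theorem F393074 : act 2 n194407 = n184082 := d3_1 D194407 (iv6 D184082) (iv2 F158601)
theorem F393075 : act 4 n194407 = n103344 := d10_1 D194407 (iv6 D103344) D103343
def n194408 : Q := act 0 n103344
theorem D194408 : act 0 n103344 = n194408 := rfl
theorem F393076 : act 5 n194408 = n153368 := d21_2 F369434 D194408 F392158 (iv1 F392156) (iv6 F380692) F380685 F355010 (iv5 F347345) D153992 F380688
theorem F393077 : act 3 n188107 = n194408 := d6_3 F393076 (iv3 F357702) F372337
theorem F393078 : act 7 n153367 = n194408 := d13_0 F393076 (iv7 D153368) D153367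
theorem F393079 : act 4 n194408 = n141901 := d11_1 F393078 F387643 (iv4 F373430)
theorem F393080 : act 2 n194408 = n184083 := d15_3 (iv0 D184083) (iv0 F366803) F393078
theorem F393081 : act 4 n184083 = n188422 := d1_2 (iv4 F393079) F393080 (iv2 F387640)
theorem F393082 : act 6 n188105 = n194408 := d10_0 F393079 F387642 (iv4 F372334)
theorem F393083 : act 5 n188105 = n185387 := d21_6 F62009 (iv1 F66120) D47883 D103344 D194408 (iv6 F393082) (iv1 D185387) (iv5 F159725) (iv6 D104191) (iv1 F75775)
theorem F393084 : act 3 n185387 = n188106 := d6_1 F393083 (iv5 D188106) D188105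
theorem F393085 : act 0 n194408 = n184086 := d20_4 (iv4 F355576) F177559 (iv4 F372336) F393077 (iv3 F387234) F387235 F386510 F384386 (iv3 F366588) (iv1 F355581)
def n194409 : Q := act 1 n103344
theorem D194409 : act 1 n103344 = n194409 := rfl
theorem F393086 : act 1 n194409 = n184086 := d15_1 D194409 (iv7 D184086) (iv2 F158605)
theorem F393087 : act 7 n194409 = n184083 := d15_2 (iv0 D194408) D194409 (iv2 F393080)
theorem F393088 : act 6 n124676 = n194409 := d21_3 (iv5 D58360) F199719 D124676 (iv1 D194409) (iv6 D103344) (iv5 D47883) F66119 D23348 (iv6 F75767) (iv1 F307400)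
theorem F393089 : act 5 n124673 = n194409 := d21_6 (iv5 D41909) F63711 D40602 F307547 (iv1 F92109) D124673 (iv1 D194409) (iv5 F369434) (iv6 D187193) (iv1 F137679)
theorem F393090 : act 2 n194409 = n153367 := d2_1 F393089 (iv5 D153367) (iv2 F199439)
theorem F393091 : act 4 n194409 = n141900 := d18_5 (iv1 F198116) F392922 F392921 F205817 F393089 (iv0 D141900) (iv4 F331070) F366880 F198209
def n194410 : Q := act 7 n103344
theorem D194410 : act 7 n103344 = n194410 := rfl
theorem F393092 : act 2 n194410 = n184086 := d4_1 D194410 (iv7 D184086) (iv2 F158605)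
theorem F393093 : act 6 n194410 = n184079 := d14_1 D194410 (iv7 D184079) (iv6 D87804) (iv7 F75168) D103344
theorem F393094 : act 1 n153367 = n194410 := d15_1 (iv0 F366803) (iv7 D194410) F158605
theorem F393095 : act 1 n194410 = n184083 := d15_1 F393094 (iv7 F393087) F393090
def n194411 : Q := act 1 n103345
theorem D194411 : act 1 n103345 = n194411 := rfl
theorem F393096 : act 1 n194411 = n184399 := d15_1 D194411 F340552 F340554
theorem F393097 : act 7 n194411 = n190178 := d15_2 (iv0 F381202) D194411 (iv2 F381199)
theorem F393098 : act 4 n139604 = n194411 := d20_0 (iv1 D194411) F158606 (iv3 D47901) (iv1 F75161) (iv3 F293199) (iv4 F137316) D93907 F349214 (iv3 F238098) F357139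
theorem F393099 : act 6 n190091 = n194411 := d21_3 D190684 (iv1 F380582) F381219 (iv1 D194411) F358521 (iv5 D111966) F171263 (iv5 F340581) (iv6 F289685) (iv1 F148354)
theorem F393100 : act 3 n194411 = n155735 := d7_1 F393099 (iv6 F358517) F381218
theorem F393101 : act 2 n190177 = n194411 := d4_3 F393097 (iv2 F381199) (iv7 F381206)
def n194412 : Q := act 4 n103353
theorem D194412 : act 4 n103353 = n194412 := rfl
theorem F393102 : act 2 n194412 = n193971 := d1_1 D194412 F391553 (iv2 F340543)
theorem F393103 : act 6 n194412 = n193965 := d10_2 (iv6 F389987) D194412 F391542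
theorem F393104 : act 7 n194412 = n192197 := d11_2 F159297 D194412 F385957
theorem F393105 : act 1 n193969 = n194412 := d15_1 D193969 F393104 F385956
theorem F393106 : act 1 n194412 = n193968 := d15_0 (iv0 D193968) D193971 (iv2 F393102)
def n194413 : Q := act 3 n103354
theorem D194413 : act 3 n103354 = n194413 := rfl
theorem F393107 : act 4 n194413 = n103359 := d5_2 D103354 D194413 (iv3 D103359) (iv4 D47896) (iv3 F75214)
def n194414 : Q := act 5 n103355
theorem D194414 : act 5 n103355 = n194414 := rfl
theorem F393108 : act 3 n194414 = n103363 := d6_1 D194414 (iv5 D103363) (iv3 F158632)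
theorem F393109 : act 6 n194414 = n103357 := d12_2 D103355 D194414 (iv5 D103357) (iv6 D47895) D47894
def n194415 : Q := act 3 n103356
theorem D194415 : act 3 n103356 = n194415 := rfl
theorem F393110 : act 2 n194415 = n104715 := d0_1 D194415 (iv3 D104715) (iv2 F76128) (iv3 F156946) F158633
theorem F393111 : act 4 n194415 = n183905 := d5_2 (iv4 F158634) D194415 F285750 (iv4 F287566) F287565
theorem F393112 : act 5 n194415 = n190102 := d6_2 (iv5 F158635) D194415 F378858
theorem F393113 : act 6 n194415 = n185593 := d7_2 (iv6 F356258) D194415 (iv3 D185593)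
theorem F393114 : act 7 n194415 = n185471 := d8_2 (iv7 F158636) D194415 F287731
theorem F393115 : act 0 n194415 = n185470 := d20_4 (iv4 D101996) (iv1 F156944) (iv4 F158634) D194415 (iv3 F381185) (iv4 F385452) (iv1 D192078) (iv4 F160318) (iv3 F387928) (iv1 F387931)
theorem F393116 : act 0 n185469 = n194415 := d21_4 (iv5 F159290) (iv1 F358520) (iv5 F358515) F363038 F393113 (iv5 F382739) (iv1 F382744) (iv5 D190483) F379044 (iv1 D190178)
def n194416 : Q := act 4 n103357
theorem D194416 : act 4 n103357 = n194416 := rfl
theorem F393117 : act 0 n194416 = n188114 := d18_2 F158641 D194416 (iv4 F379141) (iv5 D190231) F367604 F367601 F137664 (iv0 F70257) D89363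
theorem E103582 : n188112 = n187921 := ((c17_6 (iv1 F378837) (iv5 D190094) (iv1 F147293) D95645 D190119 F378919 (iv0 D188112) D188114 (iv0 F393117) (iv4 D194416))).symm
theorem F393118 : act 1 n187921 = n90817 := (sb E103582 (iv0 D188112))
theorem E103583 : n188113 = n187924 := (c15_2 F393118 D188113 (iv7 F378950) F378948)
theorem F393119 : act 0 n187924 = n90817 := (sb E103583 (iv1 D188113))
def n194417 : Q := act 7 n103360
theorem D194417 : act 7 n103360 = n194417 := rfl
theorem F393120 : act 2 n194417 = n107705 := d4_1 D194417 (iv7 F392530) F392527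
theorem F393121 : act 4 n194417 = n103364 := d11_1 D194417 (iv7 D103364) (iv4 F158647)
theorem F393122 : act 5 n194417 = n123711 := d13_1 D194417 F354961 (iv5 F347138)
theorem F393123 : act 6 n194417 = n107703 := d14_1 D194417 F350214 F353851 F158313 D103360
def n194418 : Q := act 4 n103361
theorem D194418 : act 4 n103361 = n194418 := rfl
theorem F393124 : act 2 n194418 = n194354 := d1_1 D194418 F392916 (iv2 F392533)
theorem F393125 : act 7 n194418 = n147737 := d11_2 (iv7 F390485) D194418 (iv4 F390481)
theorem F393126 : act 1 n194418 = n194247 := d18_8 F355764 F240701 (iv1 F354082) (iv4 D128208) (iv5 F354086) (iv4 F175937) F331351 D194418 F392486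
theorem F393127 : act 3 n194418 = n147394 := d20_9 (iv4 F352347) (iv1 F375957) F375960 F340234 D166234 (iv3 F347875) F158647 D103361 D194418 (iv1 F242679)
theorem F393128 : act 5 n147392 = n194418 := d6_0 F393127 (iv5 D147394) D147392
theorem F393129 : act 1 n194357 = n194418 := d15_0 F393126 F392487 (iv2 F392926)
def n194419 : Q := act 5 n103361
theorem D194419 : act 5 n103361 = n194419 := rfl
theorem F393130 : act 3 n194419 = n158028 := d6_1 D194419 (iv5 F272500) F370070
theorem F393131 : act 6 n194419 = n158027 := d12_2 (iv6 F370069) D194419 (iv5 D158027) (iv6 F128171) D173854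
theorem F393132 : act 7 n194419 = n190153 := d13_2 (iv7 F390485) D194419 (iv5 F390482)
def n194420 : Q := act 0 n103363
theorem D194420 : act 0 n103363 = n194420 := rfl
def n194421 : Q := act 1 n103363
theorem D194421 : act 1 n103363 = n194421 := rfl
def n194422 : Q := act 7 n103363
theorem D194422 : act 7 n103363 = n194422 := rfl
theorem F393133 : act 5 n194422 = n103364 := d13_1 D194422 (iv7 D103364) D103363
def n194423 : Q := act 7 n103372
theorem D194423 : act 7 n103372 = n194423 := rfl
theorem F393134 : act 2 n194423 = n184980 := d4_1 D194423 F392541 F392536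
theorem F393135 : act 4 n194423 = n147815 := d11_1 D194423 (iv7 F242703) (iv4 F353758)
theorem F393136 : act 5 n194423 = n154445 := d13_1 D194423 F310890 (iv5 F353759)
theorem F393137 : act 6 n194423 = n154103 := d14_1 D194423 (iv7 F369479) F369478 (iv7 F293854) D103372
theorem F393138 : act 0 n184287 = n194423 := d21_4 F306635 (iv1 F75733) D87898 D184287 F393137 (iv5 D154103) (iv1 D72967) D72968 F109474 D72980
def n194424 : Q := act 6 n103451
theorem D194424 : act 6 n103451 = n194424 := rfl
theorem F393139 : act 2 n194424 = n188850 := d3_1 D194424 (iv6 D188850) F292033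
theorem F393140 : act 4 n194424 = n188634 := d10_1 D194424 (iv6 D188634) F292122
def n194425 : Q := act 0 n103452
theorem D194425 : act 0 n103452 = n194425 := rfl
theorem F393141 : act 5 n194425 = n175026 := d19_1 D194425 (iv4 F328394) F175521 (iv1 F93211) (iv5 D59010) (iv4 D28043) (iv3 F22334) (iv1 F22340) (iv5 D11459) (iv4 F18639) F18638 F19386 D11718 D24749 D50888 D110352 F350824 (iv4 F244843) F365243
theorem F393142 : act 4 n194425 = n141141 := d20_2 (iv4 F158760) D194425 F224110 (iv1 F101810) D66255 (iv4 F165219) F386818 (iv4 F172261) F380083 (iv1 D103454)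
theorem F393143 : act 3 n194425 = n106880 := d20_5 (iv4 F350842) F354213 (iv4 F244843) F365243 D194425 F164725 (iv1 F78104) D53521 D116122 F360185
theorem F393144 : act 2 n192411 = n194425 := d0_5 F393143 F164724 (iv3 F180892) F330609 (iv3 F386662)
theorem F393145 : act 6 n141828 = n194425 := d7_0 F393143 F164726 (iv3 F224853)
theorem F393146 : act 7 n106875 = n194425 := d8_0 F393143 (iv7 D106880) (iv3 F164715)
theorem F393147 : act 0 n194425 = n192505 := d20_4 (iv4 D53517) (iv1 F78105) (iv4 F164725) (iv3 F393143) F386870 (iv4 D137715) (iv1 D64731) (iv4 F100598) F100597 F102040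
def n194426 : Q := act 1 n103452
theorem D194426 : act 1 n103452 = n194426 := rfl
theorem F393148 : act 1 n194426 = n192505 := d15_1 D194426 (iv7 D192505) (iv2 F158759)
theorem F393149 : act 7 n194426 = n192411 := d15_2 (iv0 D194425) D194426 F393144
theorem F393150 : act 4 n194426 = n141134 := d18_7 (iv1 D113519) (iv4 D52397) D52395 (iv4 F352456) (iv5 F295239) (iv4 F158760) D194426 F357512 (iv5 F383744)
theorem F393151 : act 2 n106875 = n194426 := d1_3 F393150 F224106 (iv4 F164716)
theorem F393152 : act 3 n116093 = n194426 := d5_5 F393150 F224107 F101826 (iv3 F84447) (iv4 F180886)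
theorem F393153 : act 6 n106873 = n194426 := d10_0 F393150 (iv6 D141134) (iv4 F164708)
def n194427 : Q := act 5 n103452
theorem D194427 : act 5 n103452 = n194427 := rfl
theorem F393154 : act 2 n194427 = n192504 := d2_1 D194427 (iv5 D192504) (iv2 F158759)
def n194428 : Q := act 7 n103452
theorem D194428 : act 7 n103452 = n194428 := rfl
theorem F393155 : act 2 n194428 = n192505 := d4_1 D194428 (iv7 D192505) (iv2 F158759)
theorem F393156 : act 4 n194428 = n103455 := d11_1 D194428 (iv7 D103455) (iv4 F158760)
theorem F393157 : act 6 n194428 = n192516 := d14_1 D194428 (iv7 D192516) (iv6 D100263) (iv7 F75260) D103452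
theorem F393158 : act 1 n106875 = n194428 := d15_1 (iv0 F350423) (iv7 D194428) F158759
theorem F393159 : act 1 n194428 = n192411 := d15_1 F393158 (iv7 F393149) (iv2 F393151)
theorem F393160 : act 0 n127080 = n111077 := d20_7 (iv4 F393156) (iv1 F393158) F164716 F101803 D66203 D141146 F224118 F386874 (iv3 D192506) (iv1 F158767)
def n194429 : Q := act 3 n103453
theorem D194429 : act 3 n103453 = n194429 := rfl
theorem F393161 : act 7 n194429 = n139286 := d8_2 F380078 D194429 (iv3 F380082)
theorem F393162 : act 0 n194429 = n141157 := d20_4 (iv4 F154092) D192407 F386879 D194429 (iv3 D141157) (iv4 D66213) (iv1 D30945) (iv4 F49376) (iv3 F101803) F360355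
theorem F393163 : act 1 n133976 = n141157 := d15_0 (iv0 F393162) F393161 F222484
theorem F393164 : act 1 n141290 = n133976 := d15_0 F393163 F224144 D141290
theorem E103584 : n139367 = n133975 := (c21_2 D65413 D139367 (iv5 D133975) D133976 (iv1 F393164) (iv6 F365249) (iv5 D100781) (iv1 F74210) (iv5 F74258) (iv6 F357497) (iv1 D65411))
theorem F393165 : act 1 n133975 = n65413 := (sb E103584 (iv0 D139367))
theorem E103585 : n139368 = n133979 := (c15_2 F393165 D139368 (iv7 F222483) F222482)
theorem F393166 : act 0 n133979 = n65413 := (sb E103585 (iv1 D139368))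
theorem F393167 : act 1 n188363 = n146941 := d18_6 D65410 D139357 F222580 F183001 D139498 (iv4 F373185) (iv4 F230338) F393165 (iv5 D65413)
theorem F393168 : act 1 n117000 = n194055 := d17_6 (iv1 F101074) D133979 F393166 (iv5 D65413) (iv4 F85043) D117000 (iv5 D194055) F333132 F204355
theorem F393169 : act 6 n139371 = n193442 := d21_5 D133979 F393166 (iv5 D65413) D65414 D139371 F389837 (iv1 F389800) (iv5 F389801) (iv6 D139288) (iv1 F101074)
theorem F393170 : act 4 n193475 = n139371 := d10_3 F393169 (iv4 F389840) D193475
theorem F393171 : act 0 n117001 = n193544 := d21_4 D194055 (iv1 F393168) (iv5 D117000) D117001 (iv6 D193544) (iv5 F383643) F383644 D193467 F389953 (iv1 F333132)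
theorem F393172 : act 2 n194429 = n141288 := d15_3 (iv0 D141288) (iv0 F386891) (iv7 F393161)
theorem F393173 : act 7 n141288 = n133976 := d4_2 (iv7 F393161) F393172 (iv2 F222484)
theorem F393174 : act 1 n194429 = n141290 := d15_0 F393164 (iv7 F393173) (iv2 F393172)
def n194430 : Q := act 3 n103464
theorem D194430 : act 3 n103464 = n194430 := rfl
theorem F393175 : act 4 n194430 = n192747 := d5_2 D103464 D194430 F387637 F154652 (iv3 F294207)
theorem F393176 : act 5 n194430 = n191929 := d6_2 (iv5 F158788) D194430 (iv3 D191929)
theorem F393177 : act 7 n194430 = n188849 := d8_2 F292035 D194430 (iv3 D188849)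
theorem F393178 : act 6 n194430 = n111657 := d21_9 (iv5 D51492) D51488 D111642 (iv6 F363305) F375243 (iv6 D188951) D188950 (iv1 F386859) (iv5 F393176) (iv1 D111657)
def n194431 : Q := act 6 n103464
theorem D194431 : act 6 n103464 = n194431 := rfl
theorem F393179 : act 2 n194431 = n188845 := d3_1 D194431 (iv6 D188845) F292036
theorem F393180 : act 3 n194431 = n111657 := d7_1 D194431 (iv6 F393178) (iv3 D194430)
theorem F393181 : act 4 n194431 = n103465 := d10_1 D194431 (iv6 D103465) D103464
def n194432 : Q := act 0 n103465
theorem D194432 : act 0 n103465 = n194432 := rfl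
theorem F393182 : act 5 n194432 = n146485 := d17_3 F235980 (iv5 F367115) D194432 (iv4 F328479) F220587 F220566 F349939 (iv0 F349944) (iv4 F235978)
theorem F393183 : act 2 n188846 = n194432 := d2_3 F393182 (iv2 F390375) F390377
theorem F393184 : act 3 n146339 = n194432 := d6_3 F393182 (iv3 D146485) (iv5 F229678)
theorem F393185 : act 7 n188847 = n194432 := d13_0 F393182 (iv7 F356504) F377186
def n194433 : Q := act 1 n103465
theorem D194433 : act 1 n103465 = n194433 := rfl
theorem F393186 : act 1 n194433 = n188848 := d15_1 D194433 (iv7 D188848) F292121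
theorem F393187 : act 7 n194433 = n188846 := d15_2 (iv0 D194432) D194433 F393183
theorem F393188 : act 2 n188847 = n194433 := d4_3 F393187 F393183 (iv7 F393185)
theorem F393189 : act 1 n188848 = n194432 := d15_1 F393186 (iv7 F393185) F393188
def n194434 : Q := act 7 n103465
theorem D194434 : act 7 n103465 = n194434 := rfl
theorem F393190 : act 2 n194434 = n188848 := d4_1 D194434 (iv7 D188848) F292121
theorem F393191 : act 3 n194434 = n192780 := d8_1 D194434 (iv7 D192780) F367114
theorem F393192 : act 5 n194434 = n187214 := d13_1 D194434 (iv7 D187214) (iv5 F367115)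
theorem F393193 : act 6 n194434 = n188821 := d14_1 D194434 (iv7 F375002) (iv6 D92852) F292970 D103465
theorem F393194 : act 1 n188847 = n194434 := d15_1 D188847 (iv7 D194434) (iv2 F292121)
theorem F393195 : act 1 n194434 = n188846 := d15_1 F393194 (iv7 F393187) (iv2 F393188)
def n194435 : Q := act 5 n103579
theorem D194435 : act 5 n103579 = n194435 := rfl
theorem F393196 : act 2 n194435 = n111829 := d2_1 D194435 F348563 (iv2 F158890)
theorem F393197 : act 3 n194435 = n190579 := d6_1 D194435 (iv5 D190579) (iv3 F158891)
theorem F393198 : act 6 n194435 = n111828 := d12_2 D103579 D194435 F173628 (iv6 F321611) F106361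
theorem F393199 : act 4 n194435 = n172371 := d16_2 (iv4 F158892) D194435 (iv5 D172371) (iv4 D82541) D82542 (iv4 F343034) (iv5 D104771) F289651 (iv2 F75347)
theorem F393200 : act 1 n194435 = n190605 := d17_8 (iv1 F305505) F322457 (iv1 D82446) F323209 D86113 D180282 F348571 D194435 (iv4 F380273)
def n194436 : Q := act 6 n103584
theorem D194436 : act 6 n103584 = n194436 := rfl
theorem F393201 : act 2 n194436 = n149232 := d3_1 D194436 (iv6 D149232) (iv2 F199522)
theorem F393202 : act 3 n194436 = n186581 := d7_1 D194436 (iv6 D186581) F353225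
theorem F393203 : act 4 n194436 = n143046 := d10_1 D194436 F316978 F158912
theorem F393204 : act 7 n194436 = n143042 := d14_2 F199521 D194436 (iv6 D143042) (iv7 F223039) F353155
theorem F393205 : act 5 n194436 = n190745 := d21_6 F70963 (iv1 F36217) D23148 D47980 D103584 D194436 (iv1 D190745) (iv5 D96533) (iv6 D45077) D45076
theorem F393206 : act 0 n194436 = n146271 := d21_10 (iv5 F382189) (iv1 F382192) (iv5 D189951) D189952 F378359 F353139 (iv5 F385999) (iv1 D192207) (iv5 F353166) D194436
theorem F393207 : act 0 n139836 = n194436 := d21_4 (iv5 F182588) (iv1 F223045) (iv5 D139835) D139836 (iv6 D194436) F353166 D192206 F385992 (iv6 F290461) (iv1 F319625)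
theorem F393208 : act 2 n190745 = n189954 := d2_1 F393205 F378361 (iv2 F393201)
theorem F393209 : act 7 n190745 = n189953 := d13_2 (iv7 F393204) F393205 F378360
theorem F393210 : act 2 n189953 = n190744 := d15_3 (iv0 D190744) D190745 F393209
theorem F393211 : act 7 n189954 = n190744 := d4_2 (iv7 F393209) F393208 (iv2 F393210)
def n194437 : Q := act 4 n103586
theorem D194437 : act 4 n103586 = n194437 := rfl
theorem F393212 : act 2 n194437 = n149238 := d1_1 D194437 (iv4 D149238) (iv2 F158903)
theorem F393213 : act 6 n194437 = n103597 := d10_2 (iv6 F158905) D194437 (iv4 D103597)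
theorem F393214 : act 7 n194437 = n149148 := d11_2 F337138 D194437 (iv4 F337146)
theorem F393215 : act 5 n194437 = n149149 := d16_1 D194437 F234525 F106395 F51571 (iv5 F51577) (iv4 F106432) (iv5 F234625) (iv7 D149239) (iv2 F158903)
def n194438 : Q := act 5 n103588
theorem D194438 : act 5 n103588 = n194438 := rfl
theorem F393216 : act 2 n194438 = n191990 := d2_1 D194438 (iv5 D191990) (iv2 F158914)
theorem F393217 : act 3 n194438 = n103590 := d6_1 D194438 (iv5 D103590) D103588
theorem F393218 : act 7 n194438 = n191994 := d13_2 (iv7 F158915) D194438 (iv5 D191994)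
theorem F393219 : act 1 n194438 = n193632 := d17_8 F352862 F352863 (iv1 F274883) F274880 (iv4 F368762) F368763 (iv0 F286012) D194438 F390513
theorem F393220 : act 4 n194438 = n193968 := d18_5 (iv1 F75213) (iv4 F73484) (iv1 F294864) F294866 D194438 (iv0 D193968) F363549 (iv0 D103352) (iv5 D47894)
def n194439 : Q := act 4 n103590
theorem D194439 : act 4 n103590 = n194439 := rfl
theorem F393221 : act 2 n194439 = n194230 := d1_1 D194439 (iv4 D194230) (iv2 F158926)
theorem F393222 : act 7 n194439 = n194234 := d11_2 (iv7 F158927) D194439 (iv4 D194234)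
theorem F393223 : act 1 n194439 = n156157 := d18_6 (iv1 F176027) (iv4 F147980) F176036 (iv4 D103589) D103590 D194439 (iv4 F393029) (iv0 F393032) (iv5 D194232)
theorem F393224 : act 6 n156112 = n194439 := d3_0 F393221 (iv6 F392427) F247035
def n194440 : Q := act 6 n103590
theorem D194440 : act 6 n103590 = n194440 := rfl
theorem F393225 : act 2 n194440 = n194231 := d3_1 D194440 (iv6 D194231) (iv2 F158926)
theorem F393226 : act 4 n194440 = n156112 := d10_1 D194440 F393224 (iv4 D194439)
theorem F393227 : act 5 n194440 = n189969 := d12_1 D194440 (iv6 D189969) F343046 (iv6 F343047) D103590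
theorem F393228 : act 0 n194440 = n194334 := d20_1 (iv4 F393226) F392859 F351398 (iv1 D155999) (iv3 D74200) F53402 (iv1 F45709) (iv4 F53477) D74259 D156112
def n194441 : Q := act 5 n103592
theorem D194441 : act 5 n103592 = n194441 := rfl
theorem F393229 : act 2 n194441 = n194232 := d2_1 D194441 (iv5 D194232) (iv2 F158934)
theorem F393230 : act 3 n194441 = n112023 := d6_1 D194441 (iv5 F358515) (iv3 F158935)
theorem F393231 : act 7 n194441 = n194229 := d13_2 (iv7 F158936) D194441 (iv5 D194229)
def n194442 : Q := act 6 n103592
theorem D194442 : act 6 n103592 = n194442 := rfl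
theorem F393232 : act 2 n194442 = n194233 := d3_1 D194442 (iv6 D194233) (iv2 F158934)
theorem F393233 : act 3 n194442 = n185469 := d7_1 D194442 (iv6 F363038) (iv3 F158935)
theorem F393234 : act 4 n194442 = n103594 := d10_1 D194442 (iv6 D103594) D103592
def n194443 : Q := act 4 n103593
theorem D194443 : act 4 n103593 = n194443 := rfl
theorem F393235 : act 2 n194443 = n194234 := d1_1 D194443 (iv4 D194234) (iv2 F158937)
theorem F393236 : act 3 n194443 = n192396 := d5_1 D194443 (iv4 D192396) D192395 (iv4 F386636) (iv3 F158938)
theorem F393237 : act 7 n194443 = n194230 := d11_2 (iv7 F158939) D194443 (iv4 D194230)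
theorem F393238 : act 0 n194443 = n156157 := d20_1 D194443 (iv4 F393029) (iv3 D194395) (iv1 D103306) F75140 D47871 (iv1 F158463) (iv4 D103216) D103215 F350174
def n194444 : Q := act 6 n103593
theorem D194444 : act 6 n103593 = n194444 := rfl
theorem F393239 : act 2 n194444 = n194235 := d3_1 D194444 (iv6 D194235) (iv2 F158937)
theorem F393240 : act 3 n194444 = n192869 := d7_1 D194444 (iv6 D192869) (iv3 F158938)
theorem F393241 : act 0 n193949 = n194444 := d21_4 F353149 F261597 (iv5 F353168) D193949 (iv6 D194444) (iv5 D103593) (iv1 D47982) D47983 (iv6 F158905) F353152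
def n194445 : Q := act 4 n103595
theorem D194445 : act 4 n103595 = n194445 := rfl
theorem F393242 : act 2 n194445 = n194237 := d1_1 D194445 (iv4 D194237) (iv2 F270492)
theorem F393243 : act 7 n194445 = n194239 := d11_2 (iv7 F270490) D194445 (iv4 D194239)
theorem F393244 : act 0 n115364 = n194445 := d20_10 (iv4 D194445) (iv1 F158948) F360759 F360758 F365113 F203870 F93825 D59439 F111431 D115364
def n194446 : Q := act 6 n103595
theorem D194446 : act 6 n103595 = n194446 := rfl
theorem F393245 : act 2 n194446 = n194238 := d3_1 D194446 (iv6 D194238) (iv2 F270492)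
theorem F393246 : act 3 n194446 = n193738 := d7_1 D194446 (iv6 D193738) (iv3 F385845)
def n194447 : Q := act 4 n103596
theorem D194447 : act 4 n103596 = n194447 := rfl
theorem F393247 : act 2 n194447 = n194239 := d1_1 D194447 (iv4 D194239) F270489
theorem F393248 : act 6 n194447 = n115321 := d10_2 (iv6 F368784) D194447 (iv4 F226852)
theorem F393249 : act 7 n194447 = n194237 := d11_2 F270491 D194447 (iv4 D194237)
theorem F393250 : act 0 n194447 = n115364 := d18_2 (iv1 F158942) D194447 (iv4 F226726) (iv5 F365050) (iv4 F147980) F176037 (iv4 D103592) F75352 (iv5 F158274)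
def n194448 : Q := act 1 n103597
theorem D194448 : act 1 n103597 = n194448 := rfl
theorem F393251 : act 1 n194448 = n152826 := d15_1 D194448 F360760 (iv2 F158944)
theorem F393252 : act 7 n194448 = n152828 := d15_2 (iv0 F366191) D194448 (iv2 D152828)
theorem F393253 : act 4 n194448 = n144080 := d18_7 F365047 (iv4 D103592) (iv1 D47982) F36224 D47983 D103597 D194448 F380208 D144290
theorem F393254 : act 6 n144078 = n194448 := d10_0 F393253 (iv6 D144080) D144078
theorem F393255 : act 2 n152341 = n194448 := d4_3 F393252 (iv2 D152828) (iv7 F239533)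
theorem F393256 : act 3 n194448 = n152841 := d0_2 D152341 F393255 (iv2 D152841) (iv3 D72119) F108352
def n194449 : Q := act 3 n103597
theorem D194449 : act 3 n103597 = n194449 := rfl
theorem F393257 : act 4 n194449 = n103621 := d5_2 D103597 D194449 (iv3 D103621) (iv4 D47992) (iv3 F75355)
def n194450 : Q := act 5 n103597
theorem D194450 : act 5 n103597 = n194450 := rfl
theorem F393258 : act 2 n194450 = n194242 := d2_1 D194450 (iv5 D194242) (iv2 F158944)
def n194451 : Q := act 7 n103597
theorem D194451 : act 7 n103597 = n194451 := rfl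
theorem F393259 : act 2 n194451 = n152826 := d4_1 D194451 F360760 (iv2 F158944)
theorem F393260 : act 4 n194451 = n103598 := d11_1 D194451 (iv7 D103598) D103597
theorem F393261 : act 1 n152341 = n194451 := d15_1 (iv0 F392446) (iv7 D194451) F158944
theorem F393262 : act 1 n194451 = n152828 := d15_1 F393261 (iv7 F393252) (iv2 F393255)
def n194452 : Q := act 6 n103598
theorem D194452 : act 6 n103598 = n194452 := rfl
theorem F393263 : act 2 n194452 = n194243 := d3_1 D194452 (iv6 D194243) (iv2 F158945)
theorem F393264 : act 3 n194452 = n103624 := d7_1 D194452 (iv6 D103624) (iv3 F158946)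
theorem F393265 : act 5 n194452 = n194243 := d12_1 D194452 (iv6 D194243) F158274 (iv6 F75359) (iv5 F158947)
theorem F393266 : act 7 n194452 = n193688 := d14_2 D103598 D194452 (iv6 D193688) F337138 F158905
def n194453 : Q := act 3 n103601
theorem D194453 : act 3 n103601 = n194453 := rfl
theorem F393267 : act 2 n194453 = n114753 := d0_1 D194453 (iv3 F357841) (iv2 F308698) (iv3 D103727) (iv2 F335086)
theorem F393268 : act 4 n194453 = n119046 := d5_2 D103601 D194453 F390817 F190337 (iv3 D103600)
theorem F393269 : act 5 n194453 = n139087 := d6_2 (iv5 F342454) D194453 F363425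
theorem F393270 : act 6 n194453 = n159893 := d7_2 F335116 D194453 F252132
theorem F393271 : act 7 n194453 = n103746 := d8_2 (iv7 F335087) D194453 (iv3 D103746)
theorem F393272 : act 0 n194453 = n114752 := d20_4 (iv4 F36226) D47985 D103601 D194453 F178853 F161837 (iv1 F161817) F235253 (iv3 D84419) (iv1 D38925)
theorem F393273 : act 0 n114538 = n194453 := d20_4 F183902 D117415 F314937 (iv3 F178601) (iv3 D194453) (iv4 D103601) (iv1 F75369) (iv4 F75493) (iv3 F159148) F319861
def n194454 : Q := act 1 n103602
theorem D194454 : act 1 n103602 = n194454 := rfl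
theorem F393274 : act 1 n194454 = n103606 := d15_1 D194454 F335080 (iv2 F335088)
theorem F393275 : act 7 n194454 = n103731 := d15_2 F379357 D194454 (iv2 F379353)
theorem F393276 : act 5 n194454 = n127635 := d17_7 (iv1 F323816) F323819 F322382 (iv5 F342454) (iv4 D103601) D103602 D194454 (iv0 F334489) F334491
theorem F393277 : act 2 n103732 = n194454 := d2_3 F393276 F334497 (iv5 F334498)
theorem F393278 : act 3 n192207 = n194454 := d6_3 F393276 F353138 (iv5 F385999)
theorem F393279 : act 6 n103810 = n194454 := d12_0 F393276 (iv6 D127635) (iv5 F317111) D190247 F379183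
def n194455 : Q := act 6 n103605
theorem D194455 : act 6 n103605 = n194455 := rfl
theorem F393280 : act 2 n194455 = n103748 := d3_1 D194455 (iv6 D103748) (iv2 F335075)
theorem F393281 : act 3 n194455 = n145576 := d7_1 D194455 F335071 (iv3 F335070)
theorem F393282 : act 4 n194455 = n103607 := d10_1 D194455 (iv6 D103607) D103605
theorem F393283 : act 5 n194455 = n124800 := d12_1 D194455 F322224 (iv5 F342443) (iv6 F342446) F335074
theorem F393284 : act 7 n194455 = n124799 := d14_2 (iv7 F335076) D194455 F200464 F190703 F313064
theorem F393285 : act 0 n194455 = n147262 := d21_4 F105162 D118431 F335074 D194455 (iv6 D147262) (iv5 F335130) (iv1 D145522) (iv5 F334479) F334480 (iv1 F324918)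
theorem F393286 : act 0 n154739 = n194455 := d21_4 (iv5 F240750) (iv1 F240752) (iv5 F334072) F334073 (iv6 D194455) (iv5 F335074) (iv1 F186235) (iv5 F323819) F323820 F229475
def n194456 : Q := act 4 n103608
theorem D194456 : act 4 n103608 = n194456 := rfl
theorem F393287 : act 2 n194456 = n103757 := d1_1 D194456 (iv4 D103757) (iv2 F288199)
theorem F393288 : act 3 n194456 = n110931 := d5_1 D194456 F171956 (iv3 F82334) (iv4 F175716) F361619
theorem F393289 : act 7 n194456 = n103762 := d11_2 (iv7 F288200) D194456 (iv4 D103762)
theorem F393290 : act 1 n194456 = n190060 := d18_6 F346814 F318904 (iv1 F324926) F324928 F334492 D194456 (iv4 D190060) D190059 F378733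
def n194457 : Q := act 0 n103609
theorem D194457 : act 0 n103609 = n194457 := rfl
theorem F393291 : act 4 n194457 = n184216 := d18_3 F150032 D103609 D194457 (iv5 F361888) (iv4 D127680) (iv0 D59944) (iv4 F94414) F334488 D97277
theorem F393292 : act 2 n103764 = n194457 := d1_3 F393291 F378728 (iv4 F378730)
theorem F393293 : act 7 n103765 = n194457 := d11_0 F393291 (iv7 F378732) (iv4 F378735)
theorem F393294 : act 1 n103768 = n194457 := d18_6 (iv1 F346807) (iv4 D84415) (iv1 F75497) F75493 (iv5 F75502) (iv4 F159196) F393291 (iv0 D184216) (iv5 D87862)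
theorem F393295 : act 3 n192843 = n184216 := d20_5 D190352 F379526 F346787 (iv3 F154891) D192843 (iv4 F393291) (iv1 F393294) F159196 F75501 (iv1 F147580)
def n194458 : Q := act 1 n103609
theorem D194458 : act 1 n103609 = n194458 := rfl
theorem F393296 : act 1 n194458 = n103768 := d15_1 D194458 (iv7 D103768) (iv2 F158953)
theorem F393297 : act 7 n194458 = n103764 := d15_2 (iv0 D194457) D194458 F393292
theorem F393298 : act 4 n194458 = n184217 := d18_7 F346805 (iv4 D84420) (iv1 D38925) (iv4 F36226) D47987 D103609 D194458 (iv0 F353236) (iv5 F353228)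
theorem F393299 : act 2 n103765 = n194458 := d1_3 F393298 F378734 (iv4 F378735)
def n194459 : Q := act 3 n103609
theorem D194459 : act 3 n103609 = n194459 := rfl
theorem F393300 : act 6 n194459 = n103621 := d7_2 (iv6 F158954) D194459 (iv3 D103621)
theorem F393301 : act 0 n106947 = n194459 := d20_4 (iv4 F112143) (iv1 D49411) (iv4 F78138) (iv3 F164831) (iv3 D194459) (iv4 D103609) D103608 D194456 F393288 (iv1 F171958)
def n194460 : Q := act 5 n103609
theorem D194460 : act 5 n103609 = n194460 := rfl
theorem F393302 : act 2 n194460 = n103767 := d2_1 D194460 (iv5 D103767) (iv2 F158953)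
def n194461 : Q := act 7 n103609
theorem D194461 : act 7 n103609 = n194461 := rfl
theorem F393303 : act 2 n194461 = n103768 := d4_1 D194461 (iv7 D103768) (iv2 F158953)
theorem F393304 : act 4 n194461 = n103610 := d11_1 D194461 (iv7 D103610) D103609
theorem F393305 : act 1 n103765 = n194461 := d15_1 D103765 (iv7 D194461) F158953
theorem F393306 : act 1 n194461 = n103764 := d15_1 F393305 (iv7 F393297) (iv2 F393299)
def n194462 : Q := act 6 n103610
theorem D194462 : act 6 n103610 = n194462 := rfl
theorem F393307 : act 2 n194462 = n103769 := d3_1 D194462 (iv6 D103769) (iv2 F158955)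
theorem F393308 : act 3 n194462 = n193688 := d7_1 D194462 (iv6 D193688) F337144
theorem F393309 : act 5 n194462 = n194246 := d12_1 D194462 (iv6 D194246) F158280 (iv6 F75368) (iv5 F158956)
theorem F393310 : act 7 n194462 = n103624 := d14_2 D103610 D194462 (iv6 D103624) (iv7 D47993) (iv6 F75365)
theorem F393311 : act 1 n103850 = n194462 := d15_1 D103850 F393310 F158996
theorem F393312 : act 1 n194462 = n103849 := d15_0 (iv0 D103849) (iv7 F159199) (iv2 F393307)
def n194463 : Q := act 0 n103616
theorem D194463 : act 0 n103616 = n194463 := rfl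
def n194464 : Q := act 1 n103616
theorem D194464 : act 1 n103616 = n194464 := rfl
theorem F393313 : act 1 n194464 = n103811 := d15_1 D194464 (iv7 D103811) (iv2 F158976)
theorem F393314 : act 6 n103732 = n194464 := d21_3 (iv5 F334492) (iv1 F334496) (iv5 F334498) (iv1 D194464) (iv6 D103616) (iv5 D47990) (iv1 D23151) D23152 (iv6 F75365) D103608
theorem F393315 : act 5 n191045 = n194464 := d21_6 (iv5 D42001) F35863 D21673 (iv6 F71650) D97178 D191045 (iv1 D194464) F158977 (iv6 D89845) (iv1 F64810)
theorem F393316 : act 2 n194464 = n103810 := d2_1 F393315 (iv5 F379183) (iv2 F381968)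
theorem F393317 : act 3 n194464 = n194249 := d6_1 F393315 (iv5 F392491) (iv3 F381969)
theorem F393318 : act 7 n103809 = n194464 := d8_0 F393317 (iv7 F392500) (iv3 F392942)
theorem F393319 : act 2 n103809 = n194463 := d15_3 (iv0 D194463) D194464 (iv7 F393318)
theorem F393320 : act 7 n194463 = n103810 := d4_2 (iv7 F393318) F393319 (iv2 F393316)
theorem F393321 : act 1 n103811 = n194463 := d15_1 F393313 F393320 (iv2 F393316)
def n194465 : Q := act 7 n103616
theorem D194465 : act 7 n103616 = n194465 := rfl
theorem F393322 : act 2 n194465 = n103811 := d4_1 D194465 (iv7 D103811) (iv2 F158976)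
theorem F393323 : act 3 n194465 = n138924 := d8_1 D194465 F366530 (iv3 F362353)
theorem F393324 : act 5 n194465 = n187261 := d13_1 D194465 (iv7 D187261) (iv5 F158977)
theorem F393325 : act 6 n194465 = n103796 := d14_1 D194465 (iv7 D103796) (iv6 D48054) (iv7 F75375) D103616
theorem F393326 : act 1 n103810 = n194465 := d15_1 D103810 (iv7 D194465) F158976
theorem F393327 : act 1 n194465 = n103809 := d15_1 F393326 F393318 F393316
def n194466 : Q := act 0 n103619
theorem D194466 : act 0 n103619 = n194466 := rfl
theorem F393328 : act 3 n194466 = n194252 := d20_5 (iv4 D53935) (iv1 F78433) (iv4 F165838) F359498 D194466 F392505 F363236 (iv4 F220248) F220247 (iv1 F100368)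
theorem F393329 : act 6 n194466 = n112968 := d21_5 F291406 (iv1 F67026) (iv5 F292223) D103619 D194466 F358248 (iv1 D185644) (iv5 F293296) (iv6 D48054) D48051
theorem F393330 : act 1 n103824 = n194466 := d15_0 (iv0 D194466) F359495 F359490
theorem F393331 : act 2 n103821 = n194466 := d3_3 F393329 F358267 (iv6 F358272)
theorem F393332 : act 7 n103822 = n194466 := d15_2 (iv0 D103821) D103822 (iv2 F393331)
def n194467 : Q := act 1 n103619
theorem D194467 : act 1 n103619 = n194467 := rfl
theorem F393333 : act 1 n194467 = n103824 := d15_1 D194467 (iv7 D103824) (iv2 F158982)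
theorem F393334 : act 7 n194467 = n103821 := d15_2 (iv0 D194466) D194467 F393331
theorem F393335 : act 2 n103822 = n194467 := d4_3 F393334 F393331 (iv7 F393332)
def n194468 : Q := act 6 n103620
theorem D194468 : act 6 n103620 = n194468 := rfl
theorem F393336 : act 2 n194468 = n103836 := d3_1 D194468 (iv6 D103836) F158984
theorem F393337 : act 3 n194468 = n149019 := d7_1 D194468 (iv6 F385027) F385026
theorem F393338 : act 4 n194468 = n162985 := d10_1 D194468 F357426 (iv4 F158983)
def n194469 : Q := act 2 n103621
theorem D194469 : act 2 n103621 = n194469 := rfl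
theorem F393339 : act 3 n194469 = n103842 := d0_2 D103621 D194469 (iv2 D103842) (iv3 D48071) (iv2 F75376)
theorem F393340 : act 5 n194469 = n180794 := d2_2 F351133 D194469 (iv2 F345420)
theorem F393341 : act 7 n107089 = n194469 := d15_2 F351316 D107089 (iv2 D194469)
theorem F393342 : act 0 n107087 = n194469 := d21_10 F393340 (iv1 F345205) F362343 (iv6 D125494) (iv1 F330478) (iv6 F363566) F172093 (iv1 F102877) F78311 D107087
theorem F393343 : act 1 n107091 = n194469 := d15_0 (iv0 F393342) F365889 F365888
def n194470 : Q := act 7 n103621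
theorem D194470 : act 7 n103621 = n194470 := rfl
theorem F393344 : act 2 n194470 = n107089 := d4_1 D194470 F393341 (iv2 D194469)
theorem F393345 : act 3 n194470 = n103623 := d8_1 D194470 (iv7 D103623) D103621
theorem F393346 : act 5 n194470 = n103984 := d13_1 D194470 (iv7 F345414) F351133
theorem F393347 : act 1 n107087 = n194470 := d15_1 (iv0 F393342) (iv7 D194470) D194469
theorem F393348 : act 1 n194470 = n107091 := d15_1 F393347 (iv7 D107091) (iv2 F165063)
theorem F393349 : act 6 n124334 = n194470 := d21_3 F351079 F324498 D124334 (iv1 F393347) (iv6 D107087) (iv5 F78311) (iv1 F163631) (iv5 F172122) (iv6 F345397) (iv1 F351091)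
def n194471 : Q := act 6 n103623
theorem D194471 : act 6 n103623 = n194471 := rfl
theorem F393350 : act 2 n194471 = n103848 := d3_1 D194471 (iv6 D103848) (iv2 F158991)
theorem F393351 : act 3 n194471 = n124334 := d7_1 D194471 F393349 F393345
theorem F393352 : act 4 n194471 = n103624 := d10_1 D194471 (iv6 D103624) (iv4 F158992)
theorem F393353 : act 5 n194471 = n124333 := d12_1 D194471 F198850 (iv5 F332729) (iv6 D103985) (iv5 F158993)
def n194472 : Q := act 0 n103624
theorem D194472 : act 0 n103624 = n194472 := rfl
theorem F393354 : act 1 n103769 = n194472 := d15_0 (iv0 D194472) (iv7 F393310) F393307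
def n194473 : Q := act 1 n103624
theorem D194473 : act 1 n103624 = n194473 := rfl
theorem F393355 : act 1 n194473 = n103769 := d15_1 D194473 F159199 (iv2 F158996)
theorem F393356 : act 3 n192131 = n194473 := d19_19 (iv1 D194473) F158997 (iv4 F375970) F375969 (iv1 D110432) (iv5 F323132) (iv4 F88203) (iv3 D55773) (iv1 F299690) (iv5 F112489) (iv4 D74968) (iv3 F112479) (iv1 F314058) (iv5 F307793) (iv4 F308737) (iv3 F311961) (iv1 D123529) (iv5 F311807) (iv4 F385685)
def n194474 : Q := act 0 n103627
theorem D194474 : act 0 n103627 = n194474 := rfl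
theorem F393357 : act 4 n194474 = n110934 := d18_1 D194474 (iv1 D110934) (iv4 F82341) (iv5 F295479) F295478 F358315 (iv4 F370080) (iv0 D187380) (iv5 F294901)
theorem F393358 : act 6 n194474 = n111020 := d21_5 (iv5 D40982) (iv1 F63076) D47994 D103627 D194474 F340514 (iv1 D96083) D96084 F147695 F70413
theorem F393359 : act 2 n103880 = n194474 := d3_3 F393358 F172175 F366088
theorem F393360 : act 3 n107115 = n194474 := d7_3 F393358 (iv3 F172177) (iv6 F352891)
theorem F393361 : act 7 n103881 = n194474 := d15_2 (iv0 D103880) D103881 (iv2 F393359)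
theorem F393362 : act 3 n112862 = n103881 := d8_3 F393361 (iv3 F393360) (iv7 F352951)
theorem F393363 : act 4 n107007 = n103881 := d11_3 F393361 F393357 F366908
def n194475 : Q := act 1 n103627
theorem D194475 : act 1 n103627 = n194475 := rfl
theorem F393364 : act 1 n194475 = n103883 := d15_1 D194475 (iv7 D103883) (iv2 F159004)
theorem F393365 : act 7 n194475 = n103880 := d15_2 (iv0 D194474) D194475 F393359
theorem F393366 : act 4 n110933 = n194475 := d20_0 (iv1 D194475) F368599 (iv3 D110951) (iv1 D51159) (iv3 D24894) (iv4 D11815) D11813 D24892 D51152 D110933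
theorem F393367 : act 5 n191243 = n194475 := d21_6 (iv5 D45327) F62910 D21713 D45500 D97438 D191243 (iv1 D194475) F294901 (iv6 D89992) (iv1 F294079)
theorem F393368 : act 2 n194475 = n103881 := d1_1 F393366 (iv4 F393363) F366909
theorem F393369 : act 1 n103883 = n194474 := d15_1 F393364 (iv7 F393361) (iv2 F393368)
def n194476 : Q := act 7 n103627
theorem D194476 : act 7 n103627 = n194476 := rfl
theorem F393370 : act 2 n194476 = n103883 := d4_1 D194476 (iv7 D103883) (iv2 F159004)
theorem F393371 : act 3 n194476 = n111170 := d8_1 D194476 F388005 F388002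
theorem F393372 : act 5 n194476 = n187382 := d13_1 D194476 (iv7 D187382) (iv5 F294901)
theorem F393373 : act 6 n194476 = n103914 := d14_1 D194476 (iv7 D103914) (iv6 D48107) (iv7 F75388) D103627
theorem F393374 : act 1 n103881 = n194476 := d15_1 D103881 (iv7 D194476) F159004
theorem F393375 : act 1 n194476 = n103880 := d15_1 F393374 (iv7 F393365) F393368
def n194477 : Q := act 6 n103630
theorem D194477 : act 6 n103630 = n194477 := rfl
theorem F393376 : act 2 n194477 = n103910 := d3_1 D194477 (iv6 D103910) (iv2 F159009)
theorem F393377 : act 4 n194477 = n103631 := d10_1 D194477 (iv6 D103631) D103630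
def n194478 : Q := act 0 n103631
theorem D194478 : act 0 n103631 = n194478 := rfl
def n194479 : Q := act 7 n103631
theorem D194479 : act 7 n103631 = n194479 := rfl
theorem F393378 : act 2 n194479 = n103914 := d4_1 D194479 (iv7 D103914) (iv2 F159011)
theorem F393379 : act 6 n194479 = n103883 := d14_1 D194479 (iv7 D103883) (iv6 D48090) (iv7 F75392) D103631
theorem F393380 : act 1 n103914 = n194478 := d15_0 (iv0 D194478) D194479 F393378
theorem F393381 : act 1 n103912 = n194479 := d15_1 D103912 (iv7 D194479) F159011
theorem F393382 : act 7 n194478 = n103912 := d15_2 F391376 F393380 (iv2 F391372)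
theorem F393383 : act 2 n194478 = n103911 := d15_3 (iv0 D103911) D103912 (iv7 F393382)
theorem F393384 : act 7 n103911 = n193912 := d4_2 (iv7 F393382) F393383 F391372
theorem F393385 : act 3 n193914 = n103911 := d8_3 F393384 F391373 D193914
theorem F393386 : act 1 n194479 = n103911 := d15_1 F393381 F393384 F391372
def n194480 : Q := act 1 n103635
theorem D194480 : act 1 n103635 = n194480 := rfl
theorem F393387 : act 7 n194480 = n103946 := d15_2 F349305 D194480 F361033
theorem F393388 : act 5 n194480 = n152569 := d17_7 (iv1 D152562) F108453 (iv1 F142708) (iv5 F373338) (iv4 D188406) (iv5 F340060) D194480 F361039 (iv4 F345121)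
theorem F393389 : act 6 n185034 = n194480 := d21_3 D183850 (iv1 F285658) D185034 (iv1 D194480) (iv6 F349307) F145059 (iv1 F364411) (iv5 D101369) F290200 (iv1 F134610)
theorem F393390 : act 2 n194480 = n103945 := d3_1 F393389 (iv6 F361025) (iv2 F344329)
theorem F393391 : act 1 n194480 = n103947 := d15_0 (iv0 F349304) (iv7 F361026) (iv2 F393390)
def n194481 : Q := act 2 n103635
theorem D194481 : act 2 n103635 = n194481 := rfl
theorem F393392 : act 3 n194481 = n103957 := d0_2 D103635 D194481 (iv2 D103957) (iv3 D48127) F75403
theorem F393393 : act 4 n194481 = n187132 := d1_2 F292094 D194481 (iv2 F369195)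
theorem F393394 : act 5 n194481 = n188405 := d2_2 (iv5 F340060) D194481 (iv2 D188405)
theorem F393395 : act 6 n194481 = n189598 := d3_2 F349307 D194481 (iv2 D189598)
theorem F393396 : act 7 n194481 = n103947 := d4_2 (iv7 F159019) D194481 (iv2 D103947)
theorem F393397 : act 1 n194481 = n103945 := d15_0 (iv0 D103945) (iv7 F159019) D194481
theorem F393398 : act 1 n103946 = n194481 := d15_0 F393397 F361026 (iv2 F361033)
def n194482 : Q := act 4 n103638
theorem D194482 : act 4 n103638 = n194482 := rfl
theorem F393399 : act 2 n194482 = n191688 := d1_1 D194482 (iv4 D191688) F364432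
theorem F393400 : act 6 n194482 = n191888 := d10_2 F364433 D194482 (iv4 D191888)
theorem F393401 : act 7 n194482 = n191687 := d11_2 (iv7 F364431) D194482 (iv4 D191687)
def n194483 : Q := act 4 n103651
theorem D194483 : act 4 n103651 = n194483 := rfl
theorem F393402 : act 2 n194483 = n103660 := d1_1 D194483 (iv4 D103660) (iv2 F159053)
theorem F393403 : act 3 n194483 = n190788 := d5_1 D194483 (iv4 D190788) (iv3 F381071) F381072 (iv3 F159054)
theorem F393404 : act 1 n194483 = n190697 := d18_6 (iv1 D96386) F70778 (iv1 F73783) (iv4 F75421) D103651 D194483 (iv4 D190697) (iv0 F366492) (iv5 F354565)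
def n194484 : Q := act 4 n103653
theorem D194484 : act 4 n103653 = n194484 := rfl
def n194485 : Q := act 6 n103653
theorem D194485 : act 6 n103653 = n194485 := rfl
theorem F393405 : act 0 n104667 = n194485 := d21_4 (iv5 D136292) (iv1 F169743) D109752 F354535 (iv6 D194485) (iv5 D103653) (iv1 F76051) D104623 F340585 (iv1 F220410)
def n194486 : Q := act 3 n103658
theorem D194486 : act 3 n103658 = n194486 := rfl
theorem F393406 : act 2 n194486 = n103677 := d0_1 D194486 F353189 (iv2 F194107) F331239 F353173
theorem F393407 : act 5 n194486 = n187281 := d6_2 F370012 D194486 (iv3 F370010)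
theorem F393408 : act 7 n194486 = n103678 := d8_2 F353174 D194486 F350457
theorem F393409 : act 6 n111978 = n194486 := d14_5 F393408 F353177 (iv7 F257539) F362621 (iv7 F175604)
theorem F393410 : act 1 n103680 = n194486 := d15_1 F353181 F393408 (iv2 F353175)
theorem F393411 : act 0 n103671 = n194486 := d17_2 (iv1 D103670) D103671 F393407 (iv4 F377336) F377335 (iv0 D148749) F106078 F135558 F159097
def n194487 : Q := act 4 n103658
theorem D194487 : act 4 n103658 = n194487 := rfl
theorem F393412 : act 2 n194487 = n178238 := d1_1 D194487 (iv4 F331240) F353173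
theorem F393413 : act 0 n194487 = n108878 := d18_2 D103658 D194487 (iv4 F174131) (iv5 F354565) D190683 (iv0 F380576) (iv4 F153409) (iv0 D48007) D48009
theorem F393414 : act 6 n108749 = n194487 := d3_0 F393412 (iv6 F362624) F223547
def n194488 : Q := act 6 n103658
theorem D194488 : act 6 n103658 = n194488 := rfl
theorem F393415 : act 2 n194488 = n142497 := d3_1 D194488 F344500 F353173
theorem F393416 : act 3 n194488 = n111978 := d7_1 D194488 F393409 (iv3 D194486)
theorem F393417 : act 4 n194488 = n108749 := d10_1 D194488 F393414 (iv4 D194487)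
theorem F393418 : act 5 n194488 = n142438 := d12_1 D194488 (iv6 F344496) (iv5 F323199) F370008 F370012
theorem F393419 : act 7 n194488 = n142502 := d14_2 F353174 D194488 F362620 F254004 (iv6 F331244)
def n194489 : Q := act 4 n103659
theorem D194489 : act 4 n103659 = n194489 := rfl
theorem F393420 : act 3 n194489 = n120284 := d5_1 D194489 (iv4 D120284) F87604 D77013 (iv3 F353170)
theorem F393421 : act 6 n194489 = n120286 := d10_2 (iv6 F353171) D194489 F191540
theorem F393422 : act 7 n194489 = n178238 := d11_2 (iv7 F353172) D194489 (iv4 F331240)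
theorem F393423 : act 0 n108878 = n194489 := d20_1 F174131 (iv4 D194489) F353170 (iv1 F325349) (iv3 F359239) (iv4 F359241) (iv1 F378273) (iv4 D189926) (iv3 F378067) (iv1 F380198)
def n194490 : Q := act 1 n103660
theorem D194490 : act 1 n103660 = n194490 := rfl
theorem F393424 : act 4 n194490 = n190696 := d18_7 (iv1 F148354) (iv4 F148358) (iv1 D46683) (iv4 F36255) D48009 D103660 D194490 F380640 (iv5 D189861)
theorem F393425 : act 2 n190697 = n194490 := d1_3 F393424 (iv2 D190696) D190697
def n194491 : Q := act 3 n103660
theorem D194491 : act 3 n103660 = n194491 := rfl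
theorem F393426 : act 4 n194491 = n103663 := d5_2 D103660 D194491 (iv3 D103663) (iv4 D48011) (iv3 F75422)
theorem F393427 : act 0 n194491 = n140351 := d20_4 (iv4 D194489) (iv1 D103659) D103660 D194491 F223459 F101533 D65879 (iv4 F101603) D108878 F393423
def n194492 : Q := act 5 n103660
theorem D194492 : act 5 n103660 = n194492 := rfl
def n194493 : Q := act 4 n103661
theorem D194493 : act 4 n103661 = n194493 := rfl
theorem F393428 : act 2 n194493 = n175343 := d1_1 D194493 (iv4 F343027) (iv2 F159069)
theorem F393429 : act 3 n194493 = n144818 := d5_1 D194493 (iv4 F369924) F369921 F138080 D103661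
theorem F393430 : act 7 n194493 = n194280 := d11_2 (iv7 F159071) D194493 (iv4 D194280)
theorem F393431 : act 0 n194493 = n180111 := d17_0 F342100 (iv1 D158442) D158443 F335292 (iv5 F335303) F76038 D104599 F350170 D194493
theorem F393432 : act 5 n194493 = n175334 := d18_4 (iv1 F305505) F343036 (iv1 F350169) D194493 F348582 F348586 (iv4 D180290) (iv0 F330232) (iv5 F340137)
theorem F393433 : act 1 n194493 = n112721 := d18_8 (iv1 F305569) F205813 D158441 F270322 (iv5 F318548) (iv4 F331198) F350170 D194493 (iv5 F344922)
theorem F393434 : act 6 n112553 = n194493 := d12_0 F393432 (iv6 D175334) (iv5 F346380) (iv6 D139686) (iv5 F175069)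
def n194494 : Q := act 6 n103661
theorem D194494 : act 6 n103661 = n194494 := rfl
theorem F393435 : act 2 n194494 = n194270 := d3_1 D194494 (iv6 D194270) (iv2 F159069)
theorem F393436 : act 3 n194494 = n103662 := d7_1 D194494 (iv6 D103662) D103661
theorem F393437 : act 4 n194494 = n112553 := d10_1 D194494 F393434 (iv4 D194493)
theorem F393438 : act 5 n194494 = n193953 := d12_1 D194494 (iv6 F391500) (iv5 D188401) F343025 (iv5 F159070)
theorem F393439 : act 0 n194494 = n112039 := d21_4 (iv5 F335313) (iv1 F360565) (iv5 F159070) D194494 F321851 D166413 F379327 F379326 F352050 (iv1 F343037)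
theorem F393440 : act 0 n148243 = n194494 := d17_0 F393438 (iv1 D193953) F344567 F324000 (iv5 F322657) D116594 (iv5 F232050) F232049 D148243
def n194495 : Q := act 0 n103663
theorem D194495 : act 0 n103663 = n194495 := rfl
def n194496 : Q := act 1 n103663
theorem D194496 : act 1 n103663 = n194496 := rfl
theorem F393441 : act 3 n174678 = n194496 := d20_3 (iv4 F344634) F264109 (iv4 F364236) (iv1 D194496) (iv3 D103663) (iv4 D48011) D48010 (iv4 F138080) (iv3 F369921) (iv1 F369926)
def n194497 : Q := act 2 n103663
theorem D194497 : act 2 n103663 = n194497 := rfl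
theorem F393442 : act 3 n194497 = n194283 := d0_2 D103663 D194497 (iv2 D194283) (iv3 D103124) (iv2 F75427)
def n194498 : Q := act 7 n103671
theorem D194498 : act 7 n103671 = n194498 := rfl
theorem F393443 : act 2 n194498 = n103680 := d4_1 D194498 (iv7 D103680) (iv2 F159100)
theorem F393444 : act 3 n194498 = n111819 := d8_1 D194498 (iv7 D111819) (iv3 F321135)
theorem F393445 : act 4 n194498 = n127372 := d11_1 D194498 F204681 (iv4 F321136)
theorem F393446 : act 5 n194498 = n103672 := d13_1 D194498 (iv7 D103672) D103671
theorem F393447 : act 6 n194498 = n137264 := d14_1 D194498 (iv7 D137264) F100440 (iv7 F81369) (iv6 F321137)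
theorem F393448 : act 1 n103678 = n194498 := d15_1 D103678 (iv7 D194498) F159100
theorem F393449 : act 1 n194498 = n103677 := d15_1 F393448 F353192 F353175
def n194499 : Q := act 4 n103675
theorem D194499 : act 4 n103675 = n194499 := rfl
theorem F393450 : act 2 n194499 = n163632 := d1_1 D194499 (iv4 F302348) F331170
def n194500 : Q := act 6 n103675
theorem D194500 : act 6 n103675 = n194500 := rfl
theorem F393451 : act 5 n194500 = n191177 := d12_1 D194500 (iv6 D191177) F293468 (iv6 F293469) D103675
theorem F393452 : act 0 n109516 = n194500 := d21_4 D137287 F359232 (iv5 D109515) D109516 (iv6 D194500) (iv5 D103675) (iv1 D48017) D48018 (iv6 F149964) F318862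
def n194501 : Q := act 0 n103679
theorem D194501 : act 0 n103679 = n194501 := rfl
theorem F393453 : act 4 n194501 = n104590 := d18_3 (iv1 D103678) D103679 D194501 F369999 (iv4 F371089) (iv0 F371091) F144649 D96005 F350456
theorem F393454 : act 2 n190603 = n194501 := d1_3 F393453 (iv2 F369990) D190603
theorem F393455 : act 7 n190606 = n194501 := d11_0 F393453 F369991 D190606
theorem F393456 : act 1 n127372 = n194501 := d18_6 (iv1 F76032) (iv4 F76028) (iv1 F139167) (iv4 F159104) (iv5 F393446) F393445 F393453 F160246 (iv5 D96222)
theorem F393457 : act 6 n194501 = n127352 := d3_2 (iv6 F380271) F393454 F362279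
def n194502 : Q := act 1 n103679
theorem D194502 : act 1 n103679 = n194502 := rfl
theorem F393458 : act 1 n194502 = n127372 := d15_1 D194502 F204681 F359833
theorem F393459 : act 7 n194502 = n190603 := d15_2 (iv0 D194501) D194502 F393454
theorem F393460 : act 4 n194502 = n104589 := d18_7 D48368 F76026 (iv1 D42279) (iv4 F36276) D48018 D103679 D194502 (iv0 D104589) (iv5 D48371)
theorem F393461 : act 2 n190606 = n194502 := d1_3 F393460 F369989 D190606
def n194503 : Q := act 7 n103679
theorem D194503 : act 7 n103679 = n194503 := rfl
theorem F393462 : act 2 n194503 = n127372 := d4_1 D194503 F204681 F359833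
theorem F393463 : act 3 n194503 = n193365 := d8_1 D194503 F389590 (iv3 F352209)
theorem F393464 : act 4 n194503 = n103680 := d11_1 D194503 (iv7 D103680) D103679
theorem F393465 : act 5 n194503 = n193364 := d13_1 D194503 F389587 F383805
theorem F393466 : act 1 n190606 = n194503 := d15_1 (iv0 F380275) (iv7 D194503) (iv2 F359833)
theorem F393467 : act 1 n194503 = n190603 := d15_1 F393466 (iv7 F393459) (iv2 F393461)
def n194504 : Q := act 6 n103680
theorem D194504 : act 6 n103680 = n194504 := rfl
theorem F393468 : act 2 n194504 = n137264 := d3_1 D194504 (iv6 F393447) F393443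
theorem F393469 : act 3 n194504 = n103687 := d7_1 D194504 (iv6 D103687) (iv3 F159114)
theorem F393470 : act 5 n194504 = n104794 := d12_1 D194504 (iv6 D104794) (iv5 D48450) (iv6 F75445) (iv5 F159115)
theorem F393471 : act 7 n194504 = n137262 := d14_2 D103680 D194504 F220403 (iv7 F318865) F149964
theorem F393472 : act 1 n137261 = n194504 := d15_1 D137261 F393471 (iv2 D137262)
theorem F393473 : act 1 n194504 = n137260 := d15_0 (iv0 D137260) D137264 (iv2 F393468)
def n194505 : Q := act 4 n103682
theorem D194505 : act 4 n103682 = n194505 := rfl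
theorem F393474 : act 2 n194505 = n194280 := d1_1 D194505 (iv4 D194280) (iv2 F159119)
theorem F393475 : act 3 n194505 = n175357 := d5_1 D194505 (iv4 F360226) (iv3 D178250) (iv4 F324802) D103682
theorem F393476 : act 6 n194505 = n138182 := d10_2 F373641 D194505 (iv4 F373639)
theorem F393477 : act 7 n194505 = n175343 := d11_2 (iv7 F159121) D194505 (iv4 F343027)
theorem F393478 : act 5 n194505 = n175344 := d16_1 D194505 (iv4 F348582) (iv5 F393432) (iv4 D194493) F159070 F137879 (iv5 F159070) F159071 (iv2 F159119)
theorem F393479 : act 0 n194505 = n112721 := d17_0 (iv5 F344922) (iv1 F305569) (iv5 F335311) (iv4 D104606) (iv5 D48376) F289646 D103020 (iv0 F350167) D194505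
theorem F393480 : act 1 n194505 = n180111 := d18_8 (iv1 D158442) (iv4 F205813) (iv1 F307597) F307599 (iv5 F322457) F343036 (iv0 F350167) D194505 F342100
def n194506 : Q := act 0 n103683
theorem D194506 : act 0 n103683 = n194506 := rfl
theorem F393481 : act 4 n194506 = n180623 := d18_1 D194506 (iv1 D180623) F254085 D163276 (iv4 F378772) (iv0 F378773) (iv4 F369569) (iv0 D187229) (iv5 F159123)
theorem F393482 : act 6 n194506 = n187423 := d21_5 (iv5 F137872) (iv1 D89828) F75453 D103683 D194506 (iv5 D187423) (iv1 D90059) F293049 (iv6 D48455) D48453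
theorem F393483 : act 2 n163324 = n194506 := d15_3 (iv0 D194506) (iv0 F363499) F363503
theorem F393484 : act 1 n121158 = n194506 := d15_0 (iv0 D194506) F340620 (iv2 F257939)
theorem F393485 : act 7 n194506 = n163325 := d15_2 F363500 F393484 (iv2 F363501)
theorem F393486 : act 3 n163247 = n194506 := d8_3 F393485 F281152 (iv7 F365839)
def n194507 : Q := act 0 n103684
theorem D194507 : act 0 n103684 = n194507 := rfl
theorem F393487 : act 6 n194507 = n112740 := d21_5 (iv5 F232038) (iv1 D147321) F171210 (iv6 F352211) D194507 (iv5 F352468) (iv1 D113187) (iv5 D52243) (iv6 F82572) D113140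
theorem F393488 : act 1 n112770 = n194507 := d15_0 (iv0 D194507) (iv7 F353942) F353941
def n194508 : Q := act 0 n103687
theorem D194508 : act 0 n103687 = n194508 := rfl
theorem F393489 : act 4 n194508 = n162815 := d18_3 (iv1 F353937) F340605 D194508 (iv5 F336620) (iv4 F345802) (iv0 D101753) F325423 (iv0 D82888) D82890
theorem F393490 : act 6 n194508 = n162813 := d21_5 (iv5 D44545) F66714 (iv5 F75457) D103687 D194508 (iv5 F392988) (iv1 D103822) D103823 F159243 (iv1 F76208)
theorem F393491 : act 1 n111800 = n194508 := d15_0 (iv0 D194508) F340603 F205070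
theorem F393492 : act 3 n104797 = n194508 := d7_3 F393490 F392987 F392986
theorem F393493 : act 7 n194508 = n194273 := d8_2 (iv7 F358143) F393492 F392606
theorem F393494 : act 2 n194508 = n194272 := d15_3 (iv0 D194272) D194273 (iv7 F393493)
def n194509 : Q := act 1 n103687
theorem D194509 : act 1 n103687 = n194509 := rfl
theorem F393495 : act 1 n194509 = n111800 := d15_1 D194509 F340602 (iv2 F159129)
theorem F393496 : act 7 n194509 = n194272 := d15_2 (iv0 D194508) D194509 (iv2 F393494)
theorem F393497 : act 4 n194509 = n131541 := d18_7 F341900 (iv4 F211054) (iv1 F358079) (iv4 F363234) F353938 F340605 D194509 F341908 (iv5 F341901)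
theorem F393498 : act 6 n131540 = n194509 := d21_3 (iv5 F382305) (iv1 F382306) F211639 (iv1 D194509) (iv6 D103687) F75457 (iv1 F66535) D23617 D48455 D104806
theorem F393499 : act 2 n194509 = n194273 := d3_1 F393498 (iv6 F392605) F211644
theorem F393500 : act 3 n174209 = n194509 := d0_0 F393499 F392606 (iv2 F358141) (iv3 F358125) F353244
def n194510 : Q := act 6 n103688
theorem D194510 : act 6 n103688 = n194510 := rfl
theorem F393501 : act 2 n194510 = n154434 := d3_1 D194510 F354079 F240931
theorem F393502 : act 3 n194510 = n103689 := d7_1 D194510 (iv6 D103689) D103688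
theorem F393503 : act 4 n194510 = n155488 := d10_1 D194510 F357701 F196842
theorem F393504 : act 5 n194510 = n105949 := d12_1 D194510 (iv6 F257303) F257302 F351927 (iv5 F159131)
theorem F393505 : act 7 n194510 = n106052 := d14_2 (iv7 F159132) D194510 (iv6 F230222) F230224 F337022
theorem F393506 : act 1 n123845 = n194510 := d15_1 (iv0 F361112) F393505 F307809
theorem F393507 : act 1 n194510 = n128452 := d15_1 F393506 (iv7 F244513) (iv2 F331654)
def n194511 : Q := act 3 n103694
theorem D194511 : act 3 n103694 = n194511 := rfl
theorem F393508 : act 2 n194511 = n190703 := d0_1 D194511 F380678 (iv2 F322978) F322979 (iv2 F319870)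
theorem F393509 : act 4 n194511 = n158959 := d5_2 (iv4 F319867) D194511 F347306 F183951 (iv3 F183907)
theorem F393510 : act 6 n194511 = n145912 := d7_2 (iv6 F319872) D194511 (iv3 F230318)
def n194512 : Q := act 0 n103696
theorem D194512 : act 0 n103696 = n194512 := rfl
theorem F393511 : act 6 n194512 = n193681 := d21_5 (iv5 F339106) (iv1 D84345) D84346 (iv6 F159147) D194512 (iv5 F390671) F334084 (iv5 F222356) F333280 F333285
theorem F393512 : act 2 n140772 = n194512 := d15_3 (iv0 D194512) F334899 D140772
theorem F393513 : act 7 n194512 = n140763 := d4_2 D140772 F393512 F223842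
theorem F393514 : act 4 n193521 = n194512 := d11_3 F393513 F223843 (iv7 F390154)
theorem F393515 : act 1 n140770 = n194512 := d15_1 D140770 F393513 F223842
def n194513 : Q := act 4 n103696
theorem D194513 : act 4 n103696 = n194513 := rfl
theorem F393516 : act 6 n194513 = n152061 := d10_2 (iv6 F159147) D194513 F348201
theorem F393517 : act 5 n194513 = n152058 := d16_1 D194513 F355810 (iv5 F231751) (iv4 D146108) (iv5 D68510) D68509 (iv5 F334905) F334907 F364507
theorem F393518 : act 1 n194513 = n109589 := d18_6 F353427 F162412 F317658 (iv4 F75488) D103696 D194513 F169560 D109677 (iv5 F334948)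
def n194514 : Q := act 7 n103696
theorem D194514 : act 7 n103696 = n194514 := rfl
theorem F393519 : act 2 n194514 = n140770 := d4_1 D194514 F334907 F364507
theorem F393520 : act 3 n194514 = n103711 := d8_1 D194514 (iv7 D103711) (iv3 F159146)
theorem F393521 : act 5 n194514 = n103697 := d13_1 D194514 (iv7 D103697) D103696
theorem F393522 : act 1 n140763 = n194514 := d15_1 (iv0 F352562) (iv7 D194514) (iv2 F364507)
theorem F393523 : act 1 n194514 = n140772 := d15_1 F393522 (iv7 D140772) (iv2 F223842)
def n194515 : Q := act 0 n103699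
theorem D194515 : act 0 n103699 = n194515 := rfl
theorem F393524 : act 5 n194515 = n116021 := d17_1 D194515 (iv1 D116021) D116022 (iv4 F339442) (iv5 F339446) (iv0 F339448) (iv5 F355708) F161822 (iv4 F192430)
theorem F393525 : act 2 n139745 = n194515 := d15_3 (iv0 D194515) (iv0 F353424) F227161
theorem F393526 : act 1 n105446 = n194515 := d15_0 (iv0 D194515) F311191 (iv2 F355714)
theorem F393527 : act 7 n194515 = n139958 := d15_2 F355713 F393526 F335037
theorem F393528 : act 6 n146135 = n194515 := d14_5 F393527 F335039 F129519 (iv6 F338197) F229871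
theorem F393529 : act 3 n194515 = n140796 := d7_1 F393528 (iv6 F355140) F243150
def n194516 : Q := act 2 n103699
theorem D194516 : act 2 n103699 = n194516 := rfl
theorem F393530 : act 3 n194516 = n177139 := d0_2 D103699 D194516 (iv2 D177139) (iv3 D84414) F311190
theorem F393531 : act 4 n194516 = n105425 := d1_2 (iv4 F192430) D194516 F355719
theorem F393532 : act 5 n194516 = n116337 := d2_2 (iv5 F353416) D194516 F319536
theorem F393533 : act 6 n194516 = n150279 := d3_2 (iv6 F353417) D194516 (iv2 F236498)
theorem F393534 : act 7 n194516 = n105446 := d4_2 (iv7 F311191) D194516 F355714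
theorem F393535 : act 1 n194516 = n139958 := d15_0 F359175 (iv7 F311191) D194516
theorem F393536 : act 1 n139745 = n194516 := d15_0 F393535 (iv7 F393527) (iv2 F393525)
def n194517 : Q := act 1 n103701
theorem D194517 : act 1 n103701 = n194517 := rfl
theorem F393537 : act 1 n194517 = n103706 := d15_1 D194517 F315975 (iv2 F311194)
theorem F393538 : act 7 n194517 = n127417 := d15_2 (iv0 F350188) D194517 F204794
theorem F393539 : act 5 n194517 = n127418 := d17_7 (iv1 F368500) F368496 (iv1 F378704) (iv5 D190053) F340929 D103701 D194517 F204800 D127680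
theorem F393540 : act 3 n136615 = n194517 := d20_9 (iv4 F353401) F353414 F186230 F86175 F316090 D65149 (iv4 F219617) F359419 (iv4 F219739) (iv1 D194517)
theorem F393541 : act 6 n125158 = n194517 := d21_3 (iv5 D60340) (iv1 F92456) D125158 (iv1 D194517) F330088 (iv5 F381163) F381165 F185581 F107516 (iv1 F201230)
theorem F393542 : act 2 n194517 = n125164 := d3_1 F393541 (iv6 D125164) (iv2 F201159)
def n194518 : Q := act 1 n103704
theorem D194518 : act 1 n103704 = n194518 := rfl
theorem F393543 : act 7 n194518 = n177031 := d15_2 (iv0 F348684) D194518 F276449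
theorem F393544 : act 2 n146014 = n194518 := d4_3 F393543 F276449 (iv7 F333629)
theorem F393545 : act 6 n127431 = n194518 := d14_5 F393543 (iv6 D177031) F129498 D122849 (iv7 F356978)
theorem E103586 : n177137 = n146014 := ((c15_4 (iv0 D177137) (iv0 F348721) (iv7 F393543) (iv2 F393544))).symm
theorem F393546 : act 1 n146014 = n84414 := (sb E103586 (iv0 D177137))
theorem F393547 : act 1 n194518 = n177139 := d15_0 F348685 (iv7 F333629) F393544
def n194519 : Q := act 2 n103704
theorem D194519 : act 2 n103704 = n194519 := rfl
theorem F393548 : act 3 n194519 = n105446 := d0_2 D103704 D194519 F355714 (iv3 D84419) (iv2 F313508)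
theorem F393549 : act 7 n194519 = n177139 := d4_2 (iv7 F315971) D194519 (iv2 D177139)
theorem F393550 : act 1 n194519 = n146014 := d15_0 F393546 (iv7 F315971) D194519
theorem F393551 : act 1 n177031 = n194519 := d15_0 F393550 F333629 (iv2 F276449)
theorem F393552 : act 5 n138692 = n194519 := d6_0 F393548 F355715 D138692
def n194520 : Q := act 4 n103704
theorem D194520 : act 4 n103704 = n194520 := rfl
theorem F393553 : act 3 n194520 = n186582 := d5_1 D194520 F378672 (iv3 D190055) F340933 D103704
theorem F393554 : act 7 n194520 = n177140 := d11_2 (iv7 F315971) D194520 (iv4 D177140)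
theorem F393555 : act 0 n194520 = n160107 := d20_7 F312709 (iv1 F85759) (iv4 F311061) (iv3 F313313) (iv1 F75489) D103704 D194520 F252704 F115117 (iv1 F312708)
theorem F393556 : act 0 n186935 = n194520 := d20_1 (iv4 F368570) (iv4 D194520) (iv3 D103704) (iv1 D48029) (iv3 F75487) F75488 (iv1 F317657) (iv4 F332528) F319252 F349375
def n194521 : Q := act 5 n103704
theorem D194521 : act 5 n103704 = n194521 := rfl
theorem F393557 : act 2 n194521 = n138692 := d2_1 D194521 F393552 (iv2 D194519)
theorem F393558 : act 3 n194521 = n103706 := d6_1 D194521 (iv5 D103706) D103704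
theorem F393559 : act 7 n194521 = n177141 := d13_2 (iv7 F315971) D194521 (iv5 D177141)
theorem F393560 : act 4 n194521 = n152784 := d18_5 F349375 (iv4 F368570) F393556 (iv4 D194520) D194521 (iv0 D152784) F108550 D72096 (iv5 F229957)
theorem F393561 : act 0 n194521 = n108239 := d18_0 (iv4 F245492) F366573 F221880 (iv5 F318400) (iv4 F348676) (iv0 F348674) (iv4 F267780) (iv0 F348684) D194521
theorem F393562 : act 6 n140879 = n194521 := d10_0 F393560 F359509 (iv4 F359947)
theorem F393563 : act 1 n138692 = n152539 := d15_0 (iv0 F348722) (iv7 F393559) F393557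
theorem F393564 : act 1 n156220 = n138692 := d15_0 F393563 (iv7 F315148) (iv2 F245523)
def n194522 : Q := act 6 n103704
theorem D194522 : act 6 n103704 = n194522 := rfl
theorem F393565 : act 3 n194522 = n103707 := d7_1 D194522 (iv6 D103707) D103704
theorem F393566 : act 5 n194522 = n140880 := d12_1 D194522 (iv6 D140880) D140879 F393562 (iv5 D194521)
theorem F393567 : act 4 n194522 = n142605 := d20_6 F319589 D59704 (iv4 F318142) (iv3 F180986) (iv1 F341060) (iv3 F393565) (iv1 D142605) (iv4 D66841) F49497 D31158
theorem F393568 : act 6 n142605 = n194520 := d10_2 D194522 F393567 (iv4 D194520)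
theorem F393569 : act 3 n188368 = n142605 := d7_3 F393568 F393553 (iv6 F373191)
theorem F393570 : act 5 n142605 = n188367 := d6_2 D188368 F393569 (iv3 D188367)
theorem F393571 : act 0 n188367 = n148051 := d21_7 (iv5 D186542) (iv1 F136226) D89397 D186935 F393556 (iv6 F393568) F393570 (iv5 D148051) (iv6 F356786) (iv1 F289466)
def n194523 : Q := act 4 n103706
theorem D194523 : act 4 n103706 = n194523 := rfl
theorem F393572 : act 2 n194523 = n153714 := d1_1 D194523 F353405 (iv2 F315974)
theorem F393573 : act 6 n194523 = n140890 := d10_2 (iv6 F341027) D194523 (iv4 D140890)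
theorem F393574 : act 7 n194523 = n153715 := d11_2 (iv7 F315975) D194523 F346813
theorem F393575 : act 0 n194523 = n153717 := d18_2 (iv1 F350187) D194523 F241581 (iv5 F323819) (iv4 F368495) F368500 (iv4 D127680) (iv0 D59944) D59946
theorem F393576 : act 1 n194523 = n118430 := d18_6 F342449 F314955 (iv1 F147267) F340933 D103706 D194523 F186230 F322381 (iv5 F342454)
def n194524 : Q := act 3 n103709
theorem D194524 : act 3 n103709 = n194524 := rfl
theorem F393577 : act 2 n194524 = n116014 := d0_1 D194524 F180755 (iv2 F180661) (iv3 F101418) (iv2 F336841)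
theorem F393578 : act 5 n194524 = n170405 := d6_2 F159155 D194524 F267878
theorem F393579 : act 6 n194524 = n116011 := d7_2 (iv6 F336843) D194524 F180699
theorem F393580 : act 7 n194524 = n177173 := d8_2 (iv7 F336844) D194524 (iv3 D177173)
theorem F393581 : act 0 n194524 = n139842 := d21_4 (iv5 F223201) (iv1 F224516) F224514 (iv6 F393579) F364629 F351493 F333721 (iv5 F351497) (iv6 D116295) (iv1 F179983)
def n194525 : Q := act 0 n103710
theorem D194525 : act 0 n103710 = n194525 := rfl
theorem F393582 : act 4 n194525 = n116863 := d18_3 (iv1 D103709) D103710 D194525 F324913 (iv4 F334491) F341047 F317119 F341039 F159155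
theorem F393583 : act 6 n194525 = n145480 := d21_5 F351101 F360013 (iv5 D176988) (iv6 F159157) D194525 (iv5 F382284) F382285 F378978 (iv6 F360017) (iv1 F360014)
theorem F393584 : act 2 n145517 = n194525 := d15_3 (iv0 D194525) F363401 D145517
theorem F393585 : act 7 n194525 = n116858 := d4_2 D145517 F393584 (iv2 F182568)
theorem F393586 : act 1 n145515 = n194525 := d15_1 D145515 F393585 (iv2 F182568)
def n194526 : Q := act 3 n103710
theorem D194526 : act 3 n103710 = n194526 := rfl
theorem F393587 : act 6 n194526 = n176987 := d7_2 (iv6 F159157) D194526 (iv3 D176987)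
theorem F393588 : act 0 n145313 = n194526 := d21_4 (iv5 F177271) (iv1 F165706) F165704 D145313 F393587 (iv5 F348197) (iv1 D173984) (iv5 F333001) (iv6 D51241) D51239
def n194527 : Q := act 5 n103710
theorem D194527 : act 5 n103710 = n194527 := rfl
theorem F393589 : act 2 n194527 = n177184 := d2_1 D194527 (iv5 D177184) (iv2 F159156)
def n194528 : Q := act 7 n103710
theorem D194528 : act 7 n103710 = n194528 := rfl
theorem F393590 : act 2 n194528 = n145515 := d4_1 D194528 F341056 (iv2 F159156)
theorem F393591 : act 4 n194528 = n103711 := d11_1 D194528 (iv7 D103711) D103710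
theorem F393592 : act 1 n116858 = n194528 := d15_1 (iv0 F342463) (iv7 D194528) F159156
theorem F393593 : act 1 n194528 = n145517 := d15_1 F393592 (iv7 D145517) F182568
theorem E103587 : n144523 = n144164 := ((c20_8 (iv4 F228572) (iv1 F393593) F393591 (iv3 F393520) (iv1 F393522) (iv3 F226864) F226865 D144164 (iv4 D144523) (iv3 F342456) (iv1 F182574))).symm
theorem F393594 : act 4 n144164 = n67733 := (sb E103587 (iv4 D144523))
theorem F393595 : act 6 n144164 = n192131 := (sb E103587 F385688)
theorem F393596 : act 3 n194528 = n145315 := d20_3 (iv4 D177174) (iv1 F159162) (iv4 F393591) (iv1 D145315) F104290 F50030 (iv1 F100152) D67664 (iv3 F222889) F361889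
theorem F393597 : act 7 n145315 = n194526 := d8_2 D194528 F393596 (iv3 D194526)
theorem F393598 : act 2 n194526 = n145314 := d15_3 (iv0 D145314) D145315 F393597
def n194529 : Q := act 4 n103718
theorem D194529 : act 4 n103718 = n194529 := rfl
theorem F393599 : act 2 n194529 = n186851 := d1_1 D194529 F368266 (iv2 F352736)
theorem F393600 : act 3 n194529 = n152192 := d5_1 D194529 F239275 (iv3 F235291) (iv4 F314186) (iv3 F352737)
theorem F393601 : act 5 n194529 = n145264 := d9_2 F352735 D194529 F346957 (iv5 D120196) (iv4 F106299) D148996 (iv4 F335758) (iv5 D89450) (iv4 F136968) D186850 F368261 (iv5 D152923) (iv4 F123800) D167806 (iv4 F352734)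
theorem F393602 : act 6 n194529 = n145267 := d10_2 F357200 D194529 (iv4 F335518)
theorem F393603 : act 7 n194529 = n152187 := d11_2 (iv7 F357202) D194529 (iv4 F312635)
theorem F393604 : act 0 n194529 = n186849 := d17_0 F368256 F362445 (iv5 F373443) F382175 F382173 F356237 (iv5 F352748) F352744 D194529
theorem F393605 : act 0 n186848 = n194529 := d20_10 (iv4 D194529) (iv1 F352744) F352747 (iv3 F262025) F358937 (iv3 F206158) (iv4 D128090) D128088 F206151 F368254
def n194530 : Q := act 0 n103723
theorem D194530 : act 0 n103723 = n194530 := rfl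
theorem F393606 : act 5 n194530 = n131355 := d17_1 D194530 F210561 F378445 F378441 F312214 F309976 (iv5 F327269) F330756 (iv4 F346912)
theorem F393607 : act 4 n194530 = n173491 := d18_3 (iv1 F330753) (iv4 F346912) D194530 (iv5 D173491) F131225 F311863 F309683 F128218 D85129
theorem F393608 : act 2 n190979 = n194530 := d15_3 (iv0 D194530) (iv0 F346911) (iv7 F381794)
theorem F393609 : act 6 n194530 = n164446 := d3_2 D190979 F393608 F357959
theorem F393610 : act 7 n194530 = n137280 := d4_2 (iv7 F381794) F393608 (iv2 F245016)
theorem F393611 : act 3 n164448 = n194530 := d7_3 F393609 (iv3 D164446) D164448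
def n194531 : Q := act 4 n103731
theorem D194531 : act 4 n103731 = n194531 := rfl
def n194532 : Q := act 6 n103731
theorem D194532 : act 6 n103731 = n194532 := rfl
theorem F393612 : act 2 n194532 = n147707 := d3_1 D194532 (iv6 F379354) F379353
theorem F393613 : act 3 n194532 = n193951 := d7_1 D194532 (iv6 D193951) F353158
theorem F393614 : act 5 n194532 = n127625 := d12_1 D194532 (iv6 D127625) F94411 D59932 (iv5 F320990)
def n194533 : Q := act 4 n103732
theorem D194533 : act 4 n103732 = n194533 := rfl
def n194534 : Q := act 1 n103733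
theorem D194534 : act 1 n103733 = n194534 := rfl
theorem F393615 : act 1 n194534 = n103749 := d15_1 D194534 F356934 (iv2 F356920)
theorem F393616 : act 7 n194534 = n107309 := d15_2 F390470 D194534 (iv2 F390466)
theorem F393617 : act 4 n194534 = n193911 := d18_7 (iv1 F346804) (iv4 F125484) F321383 (iv4 D48034) D48035 D103733 D194534 F391369 (iv5 D177164)
theorem F393618 : act 2 n107310 = n194534 := d1_3 F393617 (iv2 D193911) F356929
theorem E103588 : n111088 = n107257 := (c20_5 F393617 (iv1 F391370) F346808 F172285 D111088 (iv3 D107257) F163694 (iv1 F78481) F78477 (iv3 F356932) (iv1 F393615))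
theorem F393619 : act 1 n107257 = n51235 := (sb E103588 (iv0 D111088))
def n194535 : Q := act 6 n103742
theorem D194535 : act 6 n103742 = n194535 := rfl
theorem F393620 : act 2 n194535 = n103745 := d3_1 D194535 (iv6 D103745) D103742
theorem F393621 : act 3 n194535 = n186983 := d7_1 D194535 (iv6 D186983) F352746
theorem F393622 : act 4 n194535 = n159457 := d10_1 D194535 (iv6 D159457) (iv4 F350565)
theorem F393623 : act 5 n194535 = n155949 := d12_1 D194535 (iv6 F355937) F349586 F162259 (iv5 F350566)
theorem F393624 : act 1 n137278 = n194535 := d17_6 (iv1 F161163) (iv5 F204921) (iv1 D127387) F94247 (iv4 F100449) D137278 F393623 (iv0 F244964) (iv4 D113450)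
theorem F393625 : act 0 n164445 = n194535 := d21_7 (iv5 F344601) (iv1 F209112) (iv5 F349594) (iv6 F363493) D190635 (iv6 F380406) (iv5 F357960) F393623 (iv6 F355937) (iv1 D136258)
theorem F393626 : act 0 n127475 = n121346 := d20_10 (iv4 F259086) F393625 F393622 (iv3 F358942) (iv1 D159881) (iv3 D76540) (iv4 D34975) F54351 D59874 D127475
def n194536 : Q := act 3 n103743
theorem D194536 : act 3 n103743 = n194536 := rfl
theorem F393627 : act 4 n194536 = n103746 := d5_2 D103743 D194536 (iv3 D103746) (iv4 D48039) D48038
theorem F393628 : act 7 n194536 = n119046 := d8_2 (iv7 F350580) D194536 F390817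
theorem F393629 : act 0 n194536 = n114120 := d20_4 (iv4 F350572) (iv1 D103741) D103743 D194536 F177734 (iv4 F303373) F289945 D89424 F355677 F335530
theorem F393630 : act 0 n119049 = n194536 := d20_4 D115012 F356465 F238052 (iv3 F187305) (iv3 D194536) (iv4 D103743) (iv1 F343523) (iv4 F163338) F163337 F343521
def n194537 : Q := act 6 n103743
theorem D194537 : act 6 n103743 = n194537 := rfl
theorem F393631 : act 2 n194537 = n159457 := d3_1 D194537 (iv6 D159457) (iv2 F350579)
theorem F393632 : act 4 n194537 = n103745 := d10_1 D194537 (iv6 D103745) D103743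
theorem F393633 : act 0 n114151 = n194537 := d21_4 F120132 (iv1 F290506) (iv5 D114150) D114151 (iv6 D194537) F350576 F350577 F178302 (iv6 D78948) D78945
theorem F393634 : act 0 n194537 = n142097 := d20_1 (iv4 F393632) F225134 (iv3 F225902) F225904 F162316 (iv4 F79918) D108014 F166919 (iv3 F176825) F340727
theorem F393635 : act 7 n164428 = n194537 := d15_2 F353127 D164428 F393631
def n194538 : Q := act 0 n103745
theorem D194538 : act 0 n103745 = n194538 := rfl
theorem F393636 : act 5 n194538 = n137277 := d17_1 D194538 (iv1 F220422) (iv5 F357978) F357975 (iv5 F179203) F206694 (iv5 F366043) (iv0 F393634) F393632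
theorem F393637 : act 2 n137278 = n194538 := d15_3 (iv0 D194538) (iv0 F340727) (iv7 F220424)
theorem F393638 : act 7 n194538 = n164445 := d4_2 (iv7 F220424) F393637 (iv2 F354598)
def n194539 : Q := act 7 n103745
theorem D194539 : act 7 n103745 = n194539 := rfl
theorem F393639 : act 3 n194539 = n103754 := d8_1 D194539 (iv7 D103754) (iv3 F159187)
theorem F393640 : act 4 n194539 = n164428 := d11_1 D194539 F393635 F393632
theorem F393641 : act 5 n194539 = n155948 := d13_1 D194539 F355949 F347820
theorem F393642 : act 1 n164445 = n194539 := d15_1 (iv0 F393625) (iv7 D194539) (iv2 F393620)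
theorem F393643 : act 1 n194539 = n137278 := d15_1 F393642 F220424 F354598
def n194540 : Q := act 1 n103746
theorem D194540 : act 1 n103746 = n194540 := rfl
theorem F393644 : act 7 n194540 = n114538 := d15_2 (iv0 F192428) D194540 F178600
theorem F393645 : act 4 n114542 = n194540 := d20_0 (iv1 D194540) (iv4 F393627) (iv3 D194536) F234602 (iv3 F163341) F163342 (iv1 F192434) (iv4 F192426) (iv3 D114790) (iv1 F178610)
theorem F393646 : act 3 n146610 = n194540 := d20_3 F319867 F247808 D146610 (iv1 D194540) (iv3 D103746) (iv4 D48039) (iv1 D23180) (iv4 F36289) (iv3 F75487) D103694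
theorem F393647 : act 6 n114666 = n194540 := d21_9 (iv5 F340737) F360664 F334983 F232260 (iv1 D69270) D69274 (iv5 F317670) F317667 (iv5 F317646) (iv1 D194540)
theorem F393648 : act 2 n194540 = n114752 := d3_1 F393647 (iv6 D114752) (iv2 F178777)
theorem F393649 : act 5 n194540 = n145510 := d12_1 F393647 (iv6 F364528) (iv5 D148003) (iv6 F252128) (iv5 F317646)
theorem F393650 : act 0 n114753 = n194540 := d21_4 F347611 F357839 F357838 (iv6 F357840) (iv6 F393647) F317646 (iv1 D147840) (iv5 F317670) F317671 F347610
def n194541 : Q := act 2 n103746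
theorem D194541 : act 2 n103746 = n194541 := rfl
theorem F393651 : act 5 n194541 = n139088 := d2_2 F340737 D194541 F363421
theorem F393652 : act 7 n194541 = n114753 := d4_2 F393271 D194541 (iv2 F393267)
theorem F393653 : act 1 n194541 = n114752 := d15_0 (iv0 F393272) F393271 D194541
theorem F393654 : act 1 n114538 = n194541 := d15_0 F393653 F178855 (iv2 F178600)
theorem F393655 : act 4 n194541 = n119047 := d20_0 (iv1 D119047) (iv4 F187301) (iv3 F267779) (iv1 F348685) (iv3 F393530) F393531 (iv1 F161820) (iv4 F161837) (iv3 F178853) (iv1 F393653)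
theorem F393656 : act 2 n119047 = n194536 := d1_1 F393655 F393627 D194541
def n194542 : Q := act 5 n103748
theorem D194542 : act 5 n103748 = n194542 := rfl
theorem F393657 : act 2 n194542 = n124800 := d2_1 D194542 (iv5 F393283) F393280
theorem F393658 : act 6 n194542 = n124832 := d12_2 D103748 D194542 (iv5 F241584) (iv6 D153721) F317722
theorem F393659 : act 7 n194542 = n124740 := d13_2 (iv7 F335113) D194542 F199619
theorem F393660 : act 0 n194542 = n124798 := d17_2 (iv1 F335118) D194542 (iv5 F337317) (iv4 D95474) (iv5 F337310) D112088 (iv5 F346803) (iv0 F361115) (iv4 F361114)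
theorem F393661 : act 1 n194542 = n124797 := d17_6 D45421 D97197 F159191 (iv5 D103753) (iv4 F159188) D194542 (iv5 F337298) F337295 F71136
theorem F393662 : act 4 n140590 = n194542 := d11_3 F393659 (iv4 F366688) (iv7 F363147)
def n194543 : Q := act 5 n103749
theorem D194543 : act 5 n103749 = n194543 := rfl
theorem F393663 : act 3 n194543 = n107316 := d6_1 D194543 F165376 (iv3 F356932)
theorem F393664 : act 6 n194543 = n124880 := d12_2 (iv6 F356933) D194543 F350069 D156365 (iv5 F363389)
theorem F393665 : act 7 n194543 = n107311 := d13_2 (iv7 F356934) D194543 (iv5 D107311)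
def n194544 : Q := act 5 n103750
theorem D194544 : act 5 n103750 = n194544 := rfl
theorem F393666 : act 3 n194544 = n125751 := d6_1 D194544 F349592 (iv3 F356937)
theorem F393667 : act 6 n194544 = n103753 := d12_2 D103750 D194544 (iv5 D103753) (iv6 D48041) D48040
theorem F393668 : act 4 n194544 = n112088 := d16_4 (iv4 F245730) (iv5 F363389) F356936 D194544 (iv5 F346803) F276574 F341029 (iv7 D138535) (iv2 F245755)
theorem F393669 : act 1 n194544 = n176888 := d17_8 D190320 F379374 (iv1 F358021) F358011 (iv4 F369713) (iv5 F373464) F373467 D194544 F358424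
theorem F393670 : act 1 n190322 = n194544 := d15_0 F393669 (iv7 F358430) (iv2 F379386)
def n194545 : Q := act 5 n103757
theorem D194545 : act 5 n103757 = n194545 := rfl
theorem F393671 : act 4 n194545 = n145516 := d16_2 D103757 D194545 (iv5 D145516) F104396 D68240 (iv4 F334494) F148717 (iv7 F288200) F288199
def n194546 : Q := act 6 n103757
theorem D194546 : act 6 n103757 = n194546 := rfl
theorem F393672 : act 4 n194546 = n103759 := d10_1 D194546 (iv6 D103759) D103757
theorem F393673 : act 0 n194546 = n110976 := d20_1 (iv4 F393672) F390650 (iv3 D193673) (iv1 F385775) F385771 (iv4 D128255) (iv1 D60288) D60289 D128260 F361617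
def n194547 : Q := act 7 n103759
theorem D194547 : act 7 n103759 = n194547 := rfl
theorem F393674 : act 2 n194547 = n112971 := d4_1 D194547 (iv7 F226821) F361616
theorem F393675 : act 3 n194547 = n157230 := d8_1 D194547 (iv7 F340801) (iv3 F361615)
theorem F393676 : act 5 n194547 = n187331 := d13_1 D194547 (iv7 F379075) (iv5 F379076)
theorem F393677 : act 6 n194547 = n112970 := d14_1 D194547 F175920 F337159 F288197 D103759
def n194548 : Q := act 5 n103762
theorem D194548 : act 5 n103762 = n194548 := rfl
theorem F393678 : act 3 n194548 = n110930 := d6_1 D194548 (iv5 D110930) (iv3 F337154)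
def n194549 : Q := act 3 n103764
theorem D194549 : act 3 n103764 = n194549 := rfl
theorem F393679 : act 4 n194549 = n193313 := d5_2 (iv4 F378730) D194549 (iv3 D193313) D193314 (iv3 F389446)
def n194550 : Q := act 5 n103764
theorem D194550 : act 5 n103764 = n194550 := rfl
def n194551 : Q := act 6 n103764
theorem D194551 : act 6 n103764 = n194551 := rfl
def n194552 : Q := act 3 n103765
theorem D194552 : act 3 n103765 = n194552 := rfl
def n194553 : Q := act 5 n103765
theorem D194553 : act 5 n103765 = n194553 := rfl
def n194554 : Q := act 6 n103765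
theorem D194554 : act 6 n103765 = n194554 := rfl
def n194555 : Q := act 2 n103766
theorem D194555 : act 2 n103766 = n194555 := rfl
theorem F393680 : act 4 n194555 = n194312 := d1_2 (iv4 F159194) D194555 (iv2 D194312)
theorem F393681 : act 5 n194555 = n192745 := d2_2 F371752 D194555 F387629
theorem F393682 : act 6 n194555 = n103842 := d3_2 (iv6 F159195) D194555 (iv2 D103842)
def n194556 : Q := act 7 n103766
theorem D194556 : act 7 n103766 = n194556 := rfl
theorem F393683 : act 3 n194556 = n103768 := d8_1 D194556 (iv7 D103768) D103766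
theorem F393684 : act 4 n194556 = n194314 := d11_1 D194556 (iv7 D194314) (iv4 F159194)
def n194557 : Q := act 1 n103767
theorem D194557 : act 1 n103767 = n194557 := rfl
theorem F393685 : act 6 n138754 = n194557 := d21_3 (iv5 D74355) D74352 (iv5 F245795) (iv1 D194557) F371749 F371748 F370782 F370780 (iv6 F333016) F316132
def n194558 : Q := act 4 n103767
theorem D194558 : act 4 n103767 = n194558 := rfl
theorem F393686 : act 3 n194558 = n188850 := d5_1 D194558 F375056 F143222 (iv4 F371751) F371750
theorem F393687 : act 6 n194558 = n188849 := d10_2 (iv6 F371749) D194558 F375054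
theorem F393688 : act 5 n194558 = n145515 := d16_3 D48044 D103767 D194558 F341055 F129568 (iv4 F75367) (iv5 F158956) (iv7 D103610) F75364
theorem F393689 : act 7 n177184 = n194558 := d13_0 F393688 F341056 D177184
def n194559 : Q := act 7 n103767
theorem D194559 : act 7 n103767 = n194559 := rfl
theorem F393690 : act 4 n194559 = n177184 := d11_1 D194559 F393689 (iv4 D194558)
theorem F393691 : act 5 n194559 = n103768 := d13_1 D194559 (iv7 D103768) D103767
def n194560 : Q := act 6 n103768
theorem D194560 : act 6 n103768 = n194560 := rfl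
theorem F393692 : act 4 n194560 = n103769 := d10_1 D194560 (iv6 D103769) (iv4 F159196)
theorem F393693 : act 7 n194560 = n103848 := d14_2 D103768 D194560 (iv6 D103848) (iv7 D48073) (iv6 F75500)
def n194561 : Q := act 4 n103784
theorem D194561 : act 4 n103784 = n194561 := rfl
theorem F393694 : act 2 n194561 = n194327 := d1_1 D194561 (iv4 D194327) (iv2 F159211)
def n194562 : Q := act 6 n103784
theorem D194562 : act 6 n103784 = n194562 := rfl
theorem F393695 : act 2 n194562 = n194328 := d3_1 D194562 (iv6 D194328) (iv2 F159211)
theorem F393696 : act 3 n194562 = n103786 := d7_1 D194562 (iv6 D103786) D103784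
theorem F393697 : act 5 n194562 = n190202 := d12_1 D194562 (iv6 D190202) (iv5 D95697) (iv6 F291395) (iv5 F292221)
def n194563 : Q := act 0 n103786
theorem D194563 : act 0 n103786 = n194563 := rfl
theorem F393698 : act 6 n194563 = n143999 := d21_5 (iv5 D44794) F291401 (iv5 F291406) D103786 D194563 (iv5 F390203) (iv1 D103288) (iv5 F75524) (iv6 D48074) F70375
theorem F393699 : act 3 n144001 = n194563 := d7_3 F393698 (iv3 D143999) D144001
theorem F393700 : act 0 n194563 = n188393 := d21_10 F373272 (iv1 F379074) (iv5 F379076) (iv6 D103759) (iv1 F158959) D194462 F393309 (iv1 F392483) F390203 (iv6 F393698)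
def n194564 : Q := act 1 n103786
theorem D194564 : act 1 n103786 = n194564 := rfl
theorem F393701 : act 1 n194564 = n188393 := d15_1 D194564 (iv7 D188393) (iv2 F292228)
def n194565 : Q := act 7 n103786
theorem D194565 : act 7 n103786 = n194565 := rfl
theorem F393702 : act 2 n194565 = n188393 := d4_1 D194565 (iv7 D188393) (iv2 F292228)
theorem F393703 : act 5 n194565 = n190207 := d13_1 D194565 (iv7 D190207) (iv5 F159215)
theorem F393704 : act 1 n188392 = n194565 := d15_1 D188392 (iv7 D194565) F292228
theorem F393705 : act 1 n194565 = n188391 := d15_0 (iv0 D188391) D188393 (iv2 F393702)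
def n194566 : Q := act 3 n103789
theorem D194566 : act 3 n103789 = n194566 := rfl
theorem F393706 : act 5 n194566 = n194406 := d6_2 (iv5 F294252) D194566 (iv3 D194406)
def n194567 : Q := act 6 n103789
theorem D194567 : act 6 n103789 = n194567 := rfl
theorem F393707 : act 4 n194567 = n190880 := d10_1 D194567 F381429 (iv4 F159220)
def n194568 : Q := act 3 n103790
theorem D194568 : act 3 n103790 = n194568 := rfl
def n194569 : Q := act 5 n103793
theorem D194569 : act 5 n103793 = n194569 := rfl
theorem F393708 : act 2 n194569 = n107009 := d2_1 D194569 (iv5 D107009) (iv2 F295621)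
theorem F393709 : act 3 n194569 = n108925 := d6_1 D194569 F348814 (iv3 F295622)
theorem F393710 : act 6 n194569 = n108922 := d12_2 D103793 D194569 F373316 (iv6 D188403) F294314
theorem F393711 : act 4 n194569 = n128675 := d16_2 (iv4 F159227) D194569 (iv5 D128675) (iv4 F96402) D131799 (iv4 F295478) F295479 F82342 (iv2 F295523)
def n194570 : Q := act 3 n103794
theorem D194570 : act 3 n103794 = n194570 := rfl
theorem F393712 : act 2 n194570 = n194334 := d0_1 D194570 (iv3 D194334) F372113 (iv3 F372115) F363574
theorem F393713 : act 4 n194570 = n156215 := d20_6 (iv4 D65214) (iv1 F314304) D71833 (iv3 F319042) D103794 D194570 (iv1 D156215) (iv4 F175950) F319047 F316686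
theorem F393714 : act 5 n191115 = n194570 := d18_4 D112942 (iv4 F381725) F381726 D191115 F393713 F245494 (iv4 F245088) F175957 F82441
def n194571 : Q := act 5 n103794
theorem D194571 : act 5 n103794 = n194571 := rfl
theorem F393715 : act 2 n194571 = n191098 := d2_1 D194571 (iv5 F382213) F363574
theorem F393716 : act 3 n194571 = n191115 := d6_1 D194571 F393714 (iv3 D194570)
theorem F393717 : act 7 n194571 = n191097 := d13_2 F363576 D194571 F382210
theorem F393718 : act 1 n194571 = n191099 := d17_8 (iv1 F164258) F349617 (iv1 D131797) D131799 (iv4 F295478) F295479 (iv0 F295616) D194571 F382217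
theorem F393719 : act 0 n194571 = n106515 := d18_0 F163776 D106530 (iv4 F382726) F393367 (iv4 F393366) (iv0 D110933) (iv4 F82341) (iv0 F295616) D194571
theorem F393720 : act 4 n194571 = n191116 := d19_2 D103794 D194571 (iv3 D191116) F340397 F171462 (iv4 F179409) F179408 (iv1 F179296) F338624 F114773 F114771 D76578 F306225 (iv4 D39439) (iv3 F44902) (iv1 F199857) D33198 D71833 (iv3 F319042)
def n194572 : Q := act 4 n103795
theorem D194572 : act 4 n103795 = n194572 := rfl
theorem F393721 : act 0 n194572 = n103879 := d18_2 (iv1 F295617) D194572 F159305 F294255 (iv4 F257754) (iv0 F357664) F348084 (iv0 F293088) F295479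
def n194573 : Q := act 5 n103795
theorem D194573 : act 5 n103795 = n194573 := rfl
theorem F393722 : act 2 n194573 = n191097 := d2_1 D194573 F382210 (iv2 F363577)
theorem F393723 : act 3 n194573 = n194336 := d6_1 D194573 (iv5 D194336) F354258
theorem F393724 : act 7 n194573 = n191098 := d13_2 (iv7 F363575) D194573 (iv5 F382213)
theorem F393725 : act 1 n194573 = n106515 := d17_8 D106530 F349606 (iv1 F349605) (iv5 F349603) F257695 (iv5 F293296) D103795 D194573 F163776
theorem F393726 : act 6 n194573 = n187414 := d21_3 F295479 (iv1 F295617) D194573 (iv1 F370262) (iv6 F370254) F370253 F362518 D176887 (iv6 F362561) (iv1 F293089)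
theorem F393727 : act 1 n191099 = n194573 := d15_0 F393725 (iv7 F164263) (iv2 F382215)
def n194574 : Q := act 6 n103795
theorem D194574 : act 6 n103795 = n194574 := rfl
theorem F393728 : act 3 n194574 = n194337 := d7_1 D194574 (iv6 D194337) F354258
theorem F393729 : act 0 n194574 = n194391 := d21_10 (iv5 D194391) F392482 (iv5 F393309) (iv6 D194462) (iv1 F158958) (iv6 F337156) (iv5 F163777) (iv1 F393725) (iv5 D194573) D194574
def n194575 : Q := act 6 n103801
theorem D194575 : act 6 n103801 = n194575 := rfl
theorem F393730 : act 3 n194575 = n194323 := d7_1 D194575 (iv6 D194323) (iv3 F349230)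
theorem F393731 : act 4 n194575 = n107108 := d10_1 D194575 (iv6 D107108) (iv4 F295854)
theorem F393732 : act 5 n194575 = n190278 := d12_1 D194575 (iv6 D190278) (iv5 D95801) F340050 (iv5 F295855)
theorem F393733 : act 0 n194575 = n144001 := d21_4 D31390 D67570 (iv5 F295855) D194575 (iv6 D144001) D144000 (iv1 F357169) F357170 (iv6 D67569) (iv1 D31389)
theorem F393734 : act 1 n194575 = n132640 := d15_1 (iv0 F393733) F212920 (iv2 F226655)
def n194576 : Q := act 3 n103804
theorem D194576 : act 3 n103804 = n194576 := rfl
theorem F393735 : act 2 n194576 = n192870 := d0_1 D194576 (iv3 F388067) F370217 F370213 F251671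
theorem F393736 : act 4 n194576 = n185420 := d5_2 (iv4 F251680) D194576 F372519 (iv4 F371830) (iv3 D187912)
theorem F393737 : act 5 n194576 = n191038 := d6_2 F251681 D194576 (iv3 D191038)
theorem F393738 : act 6 n194576 = n188207 := d7_2 (iv6 F350499) D194576 (iv3 F372674)
theorem F393739 : act 7 n194576 = n192810 := d8_2 F251672 D194576 F387866
theorem F393740 : act 0 n194576 = n192872 := d20_10 F388074 F357142 (iv4 F148343) F148342 (iv1 F75225) (iv3 F139575) F139576 D90664 (iv4 F251680) D194576
theorem F393741 : act 0 n192835 = n194576 := d20_4 F74565 D47376 D101996 (iv3 F387972) (iv3 D194576) F251680 (iv1 F371816) F371812 (iv3 F367239) (iv1 D101973)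
theorem F393742 : act 0 n186746 = n191038 := d21_7 D188212 (iv1 F381718) (iv5 D190960) (iv6 D97090) F71578 D89085 D186746 (iv5 F393737) F393738 (iv1 F372672)
def n194577 : Q := act 0 n103808
theorem D194577 : act 0 n103808 = n194577 := rfl
def n194578 : Q := act 1 n103808
theorem D194578 : act 1 n103808 = n194578 := rfl
theorem F393743 : act 4 n193912 = n194578 := d20_6 (iv4 F167332) (iv1 D52183) (iv4 F82358) (iv3 F175777) F352921 (iv3 F391373) (iv1 D194578) F159235 (iv3 F159233) F295864
theorem F393744 : act 3 n194578 = n193907 := d5_1 F393743 F391361 F157419 (iv4 F157423) (iv3 F391373)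
theorem F393745 : act 6 n194578 = n107310 := d10_2 D193912 F393743 (iv4 F356929)
def n194579 : Q := act 5 n103808
theorem D194579 : act 5 n103808 = n194579 := rfl
theorem F393746 : act 6 n194579 = n184568 := d12_2 D103808 D194579 (iv5 D184568) F135018 F294313
def n194580 : Q := act 4 n103809
theorem D194580 : act 4 n103809 = n194580 := rfl
def n194581 : Q := act 5 n103809
theorem D194581 : act 5 n103809 = n194581 := rfl
theorem F393747 : act 3 n194581 = n194360 := d6_1 D194581 (iv5 D194360) (iv3 F392942)
theorem F393748 : act 7 n194581 = n191045 := d13_2 (iv7 F393318) D194581 F393315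
theorem F393749 : act 0 n187298 = n194581 := d21_10 (iv5 D194581) (iv1 F393327) F393324 (iv6 F369880) (iv1 F369881) (iv6 D187228) (iv5 F138109) F138111 (iv5 F137986) D187298
theorem F393750 : act 6 n194581 = n166719 := d21_5 (iv5 F138109) F138111 (iv5 F137986) D187298 F393749 (iv5 D166719) (iv1 F334001) (iv5 F358127) (iv6 F358128) (iv1 F138069)
theorem F393751 : act 4 n187325 = n194581 := d10_3 F393750 (iv4 F382561) F382562
theorem F393752 : act 1 n194580 = n103910 := d18_6 F378777 F369840 D187325 F393751 (iv5 D194581) D194580 F159344 D103912 (iv5 F378778)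
def n194582 : Q := act 6 n103809
theorem D194582 : act 6 n103809 = n194582 := rfl
theorem F393753 : act 3 n194582 = n194361 := d7_1 D194582 (iv6 D194361) (iv3 F392942)
theorem F393754 : act 5 n194582 = n147708 := d12_1 D194582 F334024 D166719 (iv6 F393750) (iv5 D194581)
theorem F393755 : act 7 n194582 = n147707 := d14_2 (iv7 F393318) D194582 (iv6 F379354) F379355 F393314
def n194583 : Q := act 3 n103810
theorem D194583 : act 3 n103810 = n194583 := rfl
theorem F393756 : act 2 n194583 = n193949 := d0_1 D194583 F391492 (iv2 F392492) (iv3 F393317) F393316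
theorem F393757 : act 6 n194583 = n192207 := d7_2 (iv6 F393279) D194583 F393278
theorem F393758 : act 0 n194583 = n194235 := d21_4 (iv5 F346268) F346231 (iv5 F385999) (iv6 F393757) (iv6 D194235) (iv5 D103026) (iv1 D47765) D47766 (iv6 F106430) D149236
def n194584 : Q := act 4 n103810
theorem D194584 : act 4 n103810 = n194584 := rfl
theorem F393759 : act 3 n123893 = n194584 := d20_5 (iv4 D106985) (iv1 D49426) (iv4 F78158) (iv3 F164890) F365204 (iv4 D194584) (iv1 D103810) (iv4 F159235) (iv3 F362346) (iv1 F171990)
theorem F393760 : act 5 n194584 = n123892 := d6_2 D123893 F393759 (iv3 D123892)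
def n194585 : Q := act 3 n103817
theorem D194585 : act 3 n103817 = n194585 := rfl
theorem F393761 : act 4 n194585 = n193860 := d5_2 (iv4 F159238) D194585 F391222 F359406 F158625
theorem F393762 : act 5 n194585 = n184582 := d6_2 (iv5 F294758) D194585 (iv3 D184582)
theorem F393763 : act 7 n194585 = n190581 := d8_2 (iv7 F159240) D194585 (iv3 D190581)
def n194586 : Q := act 6 n103817
theorem D194586 : act 6 n103817 = n194586 := rfl
theorem F393764 : act 4 n194586 = n190506 := d10_1 D194586 (iv6 D190506) (iv4 F159238)
def n194587 : Q := act 3 n103821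
theorem D194587 : act 3 n103821 = n194587 := rfl
theorem F393765 : act 2 n194587 = n194376 := d0_1 D194587 (iv3 D194376) F392506 (iv3 F393328) (iv2 F393331)
theorem F393766 : act 5 n194587 = n173410 := d6_2 F359598 D194587 (iv3 F354795)
theorem F393767 : act 1 n194587 = n194238 := d15_0 (iv0 F392450) (iv7 F392980) (iv2 F393765)
def n194588 : Q := act 4 n103821
theorem D194588 : act 4 n103821 = n194588 := rfl
theorem F393768 : act 0 n103836 = n194588 := d20_10 (iv4 D194588) (iv1 F359496) F165822 F78439 (iv1 F78263) D107154 F165127 D140664 (iv4 F386615) (iv3 F386616)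
def n194589 : Q := act 4 n103822
theorem D194589 : act 4 n103822 = n194589 := rfl
theorem F393769 : act 3 n194589 = n192337 := d5_1 D194589 (iv4 D192337) (iv3 F386468) (iv4 F386473) (iv3 F386474)
theorem F393770 : act 0 n194589 = n103836 := d20_1 D194589 (iv4 F373255) F373254 F362761 (iv3 D126179) (iv4 D59147) F45399 (iv4 F78422) (iv3 F165821) (iv1 F359500)
def n194590 : Q := act 6 n103822
theorem D194590 : act 6 n103822 = n194590 := rfl
theorem F393771 : act 3 n194590 = n194379 := d7_1 D194590 (iv6 D194379) (iv3 F386474)
theorem F393772 : act 5 n194590 = n190322 := d21_6 (iv5 F306960) F306958 F103448 D107485 (iv1 F359500) D194590 F379389 F356889 (iv6 D142435) (iv1 F165367)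
theorem F393773 : act 1 n189937 = n194590 := d17_6 (iv1 D112088) F337310 (iv1 D44600) D44601 D95479 D189937 F393772 F393670 F393668
def n194591 : Q := act 7 n103836
theorem D194591 : act 7 n103836 = n194591 := rfl
theorem F393774 : act 6 n194591 = n142697 := d14_1 D194591 F225590 F340512 F147709 D103836
def n194592 : Q := act 5 n103840
theorem D194592 : act 5 n103840 = n194592 := rfl
theorem F393775 : act 1 n194592 = n188399 := d17_6 D60439 D128503 F339207 F326898 (iv4 F346521) D194592 F373295 (iv0 D128388) F94883
def n194593 : Q := act 0 n103843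
theorem D194593 : act 0 n103843 = n194593 := rfl
theorem F393776 : act 5 n194593 = n128390 := d17_3 F353004 D103843 D194593 F206508 D128510 F206672 (iv5 F346535) (iv0 D150589) (iv4 F109224)
theorem F393777 : act 4 n194593 = n191959 := d18_1 D194593 (iv1 F385002) (iv4 F387611) F387612 (iv4 F203975) F346525 (iv4 F346521) (iv0 D103840) D103843
theorem F393778 : act 2 n128391 = n194593 := d15_3 (iv0 D194593) F353014 F241640
theorem F393779 : act 1 n180791 = n194593 := d15_0 (iv0 D194593) (iv7 F386106) F386103
theorem F393780 : act 7 n194593 = n192734 := d15_2 F353013 F393779 F387614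
def n194594 : Q := act 0 n103848
theorem D194594 : act 0 n103848 = n194594 := rfl
def n194595 : Q := act 1 n103848
theorem D194595 : act 1 n103848 = n194595 := rfl
def n194596 : Q := act 5 n103848
theorem D194596 : act 5 n103848 = n194596 := rfl
theorem F393781 : act 2 n194596 = n124333 := d2_1 D194596 (iv5 F393353) F393350
theorem F393782 : act 3 n194596 = n124452 := d6_1 D194596 (iv5 F351540) (iv3 F353011)
theorem F393783 : act 6 n194596 = n180779 := d12_2 D103848 D194596 F386112 (iv6 D192229) F294719
theorem F393784 : act 4 n177015 = n194596 := d10_3 F393783 F281397 (iv6 F276420)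
def n194597 : Q := act 2 n103849
theorem D194597 : act 2 n103849 = n194597 := rfl
theorem F393785 : act 7 n103850 = n194597 := d15_2 (iv0 D103849) D103850 (iv2 D194597)
def n194598 : Q := act 3 n103849
theorem D194598 : act 3 n103849 = n194598 := rfl
def n194599 : Q := act 4 n103849
theorem D194599 : act 4 n103849 = n194599 := rfl
theorem F393786 : act 3 n194599 = n167688 := d20_9 (iv4 D80473) (iv1 F297846) D38940 D84461 D177283 (iv3 F353011) F159259 D103849 D194599 (iv1 D167688)
def n194600 : Q := act 5 n103849
theorem D194600 : act 5 n103849 = n194600 := rfl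
theorem F393787 : act 4 n194600 = n162950 := d17_4 (iv1 D103288) (iv5 F75524) D103849 D194600 (iv5 D162950) (iv0 D78349) D78352 D162960 F390202
theorem F393788 : act 0 n194337 = n194600 := d21_10 (iv5 D194600) (iv1 F393312) F393309 (iv6 D194246) (iv1 F158282) D103198 (iv5 F378420) (iv1 F392868) (iv5 D194336) D194337
def n194601 : Q := act 6 n103849
theorem D194601 : act 6 n103849 = n194601 := rfl
theorem F393789 : act 5 n194601 = n189938 := d21_6 (iv5 D43478) F32654 (iv5 F36295) D48074 D103849 D194601 (iv1 F378312) (iv5 F373310) (iv6 D188402) F292229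
theorem F393790 : act 7 n189937 = n194601 := d13_0 F393789 (iv7 D189938) D189937
def n194602 : Q := act 7 n103849
theorem D194602 : act 7 n103849 = n194602 := rfl
theorem F393791 : act 2 n194602 = n103850 := d4_1 D194602 F393785 (iv2 D194597)
def n194603 : Q := act 3 n103850
theorem D194603 : act 3 n103850 = n194603 := rfl
def n194604 : Q := act 4 n103850
theorem D194604 : act 4 n103850 = n194604 := rfl
def n194605 : Q := act 5 n103850
theorem D194605 : act 5 n103850 = n194605 := rfl
theorem F393792 : act 4 n194605 = n162955 := d17_4 F392482 (iv5 F393309) (iv1 F393311) D194605 (iv5 D162955) F193012 (iv5 F277118) F277120 F352018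
theorem F393793 : act 6 n194605 = n194329 := d21_3 (iv5 F393309) (iv1 F393311) D194605 (iv1 F392842) (iv6 F376077) F376076 (iv1 D109284) D109286 (iv6 F352016) F392482
theorem F393794 : act 0 n194605 = n194337 := d21_4 (iv5 F378782) (iv1 F381614) (iv5 F392838) (iv6 F393793) (iv6 D194337) D194336 F392867 F379520 F369944 (iv1 F369946)
def n194606 : Q := act 6 n103850
theorem D194606 : act 6 n103850 = n194606 := rfl
def n194607 : Q := act 0 n103853
theorem D194607 : act 0 n103853 = n194607 := rfl
theorem F393795 : act 5 n194607 = n190812 := d17_3 (iv1 D103852) D103853 D194607 F381201 F375506 (iv0 F365347) F349987 F157780 F159264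
theorem F393796 : act 3 n194607 = n144080 := d20_5 D103618 (iv1 F159272) (iv4 D103854) (iv3 F159267) D194607 (iv4 F393253) (iv1 D194448) (iv4 D103597) F75355 D47991
theorem F393797 : act 1 n184192 = n194607 := d15_0 (iv0 D194607) F159268 (iv2 F286119)
theorem F393798 : act 6 n144077 = n194607 := d7_0 F393796 (iv6 D144080) D144077
theorem F393799 : act 2 n119266 = n194607 := d2_3 F393795 F381199 (iv5 F379042)
theorem F393800 : act 7 n184203 = n194607 := d13_0 F393795 (iv7 F381206) (iv5 F379040)
def n194608 : Q := act 1 n103853
theorem D194608 : act 1 n103853 = n194608 := rfl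
theorem F393801 : act 1 n194608 = n184192 := d15_1 D194608 (iv7 F386668) F386666
theorem F393802 : act 7 n194608 = n119266 := d15_2 (iv0 D194607) D194608 F393799
theorem F393803 : act 5 n194608 = n194411 := d17_7 F367460 (iv5 F152925) F152927 F134897 (iv4 F75549) D103853 D194608 F393096 (iv4 F367458)
theorem F393804 : act 3 n119189 = n194608 := d19_19 (iv1 D194608) (iv5 D103853) F75549 F62139 (iv1 F36439) D48194 (iv4 F329672) (iv3 D33990) (iv1 F46274) (iv5 D28704) (iv4 D13681) (iv3 F22816) D28669 F55769 (iv4 F55767) F104136 (iv1 D68017) D68020 (iv4 F187540)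
theorem F393805 : act 4 n194608 = n145109 := d5_2 (iv4 F187540) F393804 (iv3 D145109) (iv4 D68021) (iv3 F104141)
theorem F393806 : act 2 n184203 = n194608 := d2_3 F393803 (iv2 F393101) (iv5 F379040)
theorem F393807 : act 6 n109730 = n194608 := d21_5 F79829 (iv1 D24648) D24650 D50609 D109730 F393803 (iv1 D194411) (iv5 F358496) (iv6 D111965) F81518
def n194609 : Q := act 6 n103853
theorem D194609 : act 6 n103853 = n194609 := rfl
theorem F393808 : act 2 n194609 = n193509 := d3_1 D194609 F390126 F386666
theorem F393809 : act 3 n194609 = n103855 := d7_1 D194609 (iv6 D103855) (iv3 F159267)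
theorem F393810 : act 5 n194609 = n119279 := d12_1 D194609 (iv6 D119279) (iv5 F329945) (iv6 F75550) D103853
theorem F393811 : act 0 n194609 = n109729 := d21_4 F358508 (iv1 D103852) D103853 D194609 (iv6 D109729) F79990 (iv1 D25093) D25095 D51663 D112022
def n194610 : Q := act 3 n103854
theorem D194610 : act 3 n103854 = n194610 := rfl
theorem F393812 : act 5 n194610 = n184099 := d6_2 (iv5 F294998) D194610 (iv3 D184099)
theorem F393813 : act 7 n194610 = n184221 := d8_2 (iv7 F159270) D194610 (iv3 D184221)
theorem F393814 : act 0 n140679 = n194610 := d20_4 (iv4 F222526) F328891 D192962 (iv3 F388354) (iv3 D194610) (iv4 D103854) F294331 F293319 D103837 F366905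
theorem F393815 : act 6 n108961 = n194610 := d12_0 F393812 (iv6 F376090) F376089 F168550 (iv5 F168961)
def n194611 : Q := act 6 n103854
theorem D194611 : act 6 n103854 = n194611 := rfl
theorem F393816 : act 2 n194611 = n194586 := d3_1 D194611 (iv6 D194586) (iv2 F159269)
theorem F393817 : act 3 n194611 = n108961 := d7_1 D194611 F393815 (iv3 D194610)
theorem F393818 : act 4 n194611 = n103855 := d10_1 D194611 (iv6 D103855) D103854
theorem F393819 : act 0 n194604 = n194611 := d18_2 (iv1 F393311) D194604 F393818 F159273 F361898 D162960 F390202 F392483 (iv5 F393309)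
theorem F393820 : act 5 n194611 = n108940 := d16_7 F365215 (iv5 D162909) F119523 D78352 (iv4 F361898) (iv5 F159273) (iv4 F393818) (iv7 D108940) (iv2 F168942)
theorem F393821 : act 7 n108939 = n194611 := d13_0 F393820 (iv7 D108940) D108939
def n194612 : Q := act 0 n103855
theorem D194612 : act 0 n103855 = n194612 := rfl
def n194613 : Q := act 1 n103855
theorem D194613 : act 1 n103855 = n194613 := rfl
theorem F393822 : act 1 n194613 = n193510 := d15_1 D194613 F390130 F379946
theorem F393823 : act 5 n193471 = n194613 := d21_6 (iv5 D41063) D41060 D87940 D184388 (iv1 F364594) (iv6 F389970) (iv1 D194613) F159273 (iv6 D103295) (iv1 F293876)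
theorem F393824 : act 2 n194613 = n193472 := d2_1 F393823 (iv5 D193472) D193471
theorem F393825 : act 0 n194611 = n194599 := d18_2 (iv1 D194613) (iv4 F393818) (iv4 D194599) D194600 F393787 F345641 D177563 F389972 F393823
def n194614 : Q := act 7 n103855
theorem D194614 : act 7 n103855 = n194614 := rfl
theorem F393826 : act 2 n194614 = n193510 := d4_1 D194614 F390130 F379946
theorem F393827 : act 4 n194614 = n108939 := d11_1 D194614 F393821 F393818
theorem F393828 : act 5 n194614 = n177683 := d13_1 D194614 (iv7 F361899) (iv5 F159273)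
theorem F393829 : act 6 n194614 = n184219 := d14_1 D194614 (iv7 D184219) F134849 (iv7 F75552) D103855
theorem F393830 : act 1 n193510 = n194612 := d15_0 (iv0 D194612) D194614 F393826
theorem F393831 : act 1 n193472 = n194614 := d15_1 (iv0 F389974) (iv7 D194614) (iv2 F379946)
theorem F393832 : act 7 n194612 = n193472 := d15_2 F393822 F393830 (iv2 F393824)
theorem F393833 : act 3 n192111 = n194612 := d20_3 (iv4 F335335) F357161 (iv4 F385605) (iv1 F393830) (iv3 D193510) (iv4 F156808) D186628 F367489 D192126 F385671
theorem F393834 : act 5 n194612 = n192110 := d6_2 D192111 F393833 (iv3 D192110)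
def n194615 : Q := act 6 n103857
theorem D194615 : act 6 n103857 = n194615 := rfl
theorem F393835 : act 2 n194615 = n144296 := d3_1 D194615 (iv6 F372162) F372160
theorem F393836 : act 3 n194615 = n144034 := d7_1 D194615 (iv6 D144034) (iv3 F331286)
theorem F393837 : act 5 n194615 = n144034 := d12_1 D194615 (iv6 D144034) (iv5 F331289) F176035 D103857
theorem F393838 : act 0 n194615 = n138260 := d21_10 (iv5 D138260) (iv1 F168127) D116967 (iv6 F362324) (iv1 F175800) (iv6 F357657) (iv5 D48085) D48082 D103857 D194615
def n194616 : Q := act 6 n103865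
theorem D194616 : act 6 n103865 = n194616 := rfl
theorem F393839 : act 3 n194616 = n194394 := d7_1 D194616 (iv6 D194394) F360295
def n194617 : Q := act 3 n103866
theorem D194617 : act 3 n103866 = n194617 := rfl
theorem F393840 : act 2 n194617 = n194395 := d0_1 D194617 (iv3 D194395) F331323 (iv3 F375088) F375092
theorem F393841 : act 5 n194617 = n190496 := d6_2 F370150 D194617 (iv3 D190496)
theorem F393842 : act 0 n194617 = n112989 := d20_4 D103237 D194342 F392882 D194617 F366636 F110824 (iv1 F185785) F185790 (iv3 F365600) (iv1 D103236)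
theorem F393843 : act 1 n194617 = n194441 := d15_1 (iv0 F393842) F393231 F392423
def n194618 : Q := act 6 n103866
theorem D194618 : act 6 n103866 = n194618 := rfl
theorem F393844 : act 0 n128542 = n194618 := d21_4 D67491 (iv1 F331565) F331511 D128542 (iv6 D194618) (iv5 F370150) (iv1 D96071) D96072 F340463 (iv1 D67489)
def n194619 : Q := act 6 n103872
theorem D194619 : act 6 n103872 = n194619 := rfl
theorem F393845 : act 2 n194619 = n109349 := d3_1 D194619 (iv6 F174130) F340549
theorem F393846 : act 3 n194619 = n103874 := d7_1 D194619 (iv6 D103874) D103872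
theorem F393847 : act 5 n194619 = n190176 := d12_1 D194619 (iv6 D190176) (iv5 D95681) D95682 (iv5 F159290)
theorem F393848 : act 7 n194619 = n109259 := d14_2 F358497 D194619 (iv6 D109259) (iv7 F81517) D111965
theorem F393849 : act 1 n109347 = n194619 := d15_1 D109347 F393848 F169222
theorem F393850 : act 1 n194619 = n109346 := d15_0 (iv0 D109346) D109349 (iv2 F393845)
def n194620 : Q := act 3 n103873
theorem D194620 : act 3 n103873 = n194620 := rfl
theorem F393851 : act 5 n194620 = n184080 := d6_2 (iv5 F293231) D194620 (iv3 D184080)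
theorem F393852 : act 7 n194620 = n194568 := d8_2 (iv7 F159292) D194620 (iv3 D194568)
def n194621 : Q := act 6 n103873
theorem D194621 : act 6 n103873 = n194621 := rfl
theorem F393853 : act 2 n194621 = n194567 := d3_1 D194621 (iv6 D194567) (iv2 F159291)
theorem F393854 : act 4 n194621 = n103874 := d10_1 D194621 (iv6 D103874) D103873
def n194622 : Q := act 0 n103874
theorem D194622 : act 0 n103874 = n194622 := rfl
theorem F393855 : act 6 n194622 = n193512 := d21_5 (iv5 D44834) F70266 (iv5 F75555) D103874 D194622 (iv5 D193512) (iv1 F390103) (iv5 F379947) (iv6 D190506) (iv1 D96087)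
theorem F393856 : act 3 n193516 = n194622 := d7_3 F393855 F390131 D193516
def n194623 : Q := act 1 n103874
theorem D194623 : act 1 n103874 = n194623 := rfl
def n194624 : Q := act 7 n103874
theorem D194624 : act 7 n103874 = n194624 := rfl
theorem F393857 : act 3 n194624 = n109259 := d8_1 D194624 (iv7 F393848) F393846
theorem F393858 : act 5 n194624 = n190183 := d13_1 D194624 (iv7 D190183) (iv5 F159295)
theorem F393859 : act 6 n194624 = n109257 := d14_1 D194624 (iv7 F173991) F358493 F293232 D103874
def n194625 : Q := act 3 n103876
theorem D194625 : act 3 n103876 = n194625 := rfl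
theorem F393860 : act 5 n194625 = n184074 := d6_2 (iv5 F293322) D194625 (iv3 D184074)
theorem F393861 : act 7 n194625 = n194566 := d8_2 (iv7 F159300) D194625 (iv3 D194566)
def n194626 : Q := act 6 n103876
theorem D194626 : act 6 n103876 = n194626 := rfl
theorem F393862 : act 2 n194626 = n111023 := d3_1 D194626 F345149 (iv2 F159299)
theorem F393863 : act 4 n194626 = n103877 := d10_1 D194626 (iv6 D103877) D103876
theorem F393864 : act 0 n111022 = n194626 := d21_4 F180711 (iv1 F78396) (iv5 F80767) D111022 (iv6 D194626) F293322 (iv1 F140498) F294724 (iv6 F302686) D51165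
theorem F393865 : act 7 n111024 = n194626 := d11_0 F393863 (iv7 F391520) F391521
theorem F393866 : act 0 n194626 = n111026 := d20_7 (iv4 F162252) (iv1 D63960) (iv4 F95003) (iv3 F328446) (iv1 F344538) F352906 (iv4 F393863) F356936 F356937 (iv1 F172136)
def n194627 : Q := act 0 n103877
theorem D194627 : act 0 n103877 = n194627 := rfl
theorem F393867 : act 5 n194627 = n109691 := d17_3 (iv1 F326728) (iv5 F159304) D194627 (iv4 F321387) (iv5 D103753) (iv0 F340730) F147542 F149958 F357998
theorem F393868 : act 6 n194627 = n177164 := d21_5 F293229 (iv1 F292366) F75558 D103877 D194627 (iv5 D177164) (iv1 F346804) D87862 F134849 D87864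
theorem F393869 : act 1 n109257 = n194627 := d15_0 (iv0 D194627) (iv7 F391520) F391518
def n194628 : Q := act 1 n103877
theorem D194628 : act 1 n103877 = n194628 := rfl
theorem F393870 : act 1 n194628 = n109257 := d15_1 D194628 (iv7 F173991) (iv2 F358494)
theorem F393871 : act 5 n194628 = n109690 := d17_7 D112087 (iv5 F381579) (iv1 D190929) F149722 F340724 (iv5 F159304) D194628 (iv0 D109690) (iv4 F81610)
def n194629 : Q := act 1 n103878
theorem D194629 : act 1 n103878 = n194629 := rfl
def n194630 : Q := act 6 n103878
theorem D194630 : act 6 n103878 = n194630 := rfl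
theorem F393872 : act 2 n194630 = n108477 := d3_1 D194630 F371684 F371680
theorem F393873 : act 3 n194630 = n103879 := d7_1 D194630 (iv6 D103879) D103878
theorem F393874 : act 4 n194630 = n108475 := d10_1 D194630 (iv6 F375028) F375027
theorem F393875 : act 5 n174039 = n194630 := d9_0 F393874 (iv5 F384950) (iv4 D191947) (iv5 D99368) F195696 D83211 D174050 (iv5 F333021) (iv4 F357644) (iv5 F384943) (iv4 D191945) (iv5 D99363) F195692 D83206 D174039
theorem F393876 : act 7 n108472 = n194630 := d11_0 F393874 (iv7 D108475) D108472
theorem F393877 : act 1 n138994 = n194630 := d18_6 (iv1 F333008) F195698 F152496 D99371 (iv5 F333015) F316130 F393874 F357647 (iv5 F167714)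
def n194631 : Q := act 7 n103879
theorem D194631 : act 7 n103879 = n194631 := rfl
theorem F393878 : act 3 n194631 = n108472 := d8_1 D194631 F393876 F393873
theorem F393879 : act 4 n194631 = n103883 := d11_1 D194631 (iv7 D103883) (iv4 F159305)
theorem F393880 : act 5 n194631 = n111648 := d13_1 D194631 F363311 F352255
def n194632 : Q := act 3 n103880
theorem D194632 : act 3 n103880 = n194632 := rfl
theorem F393881 : act 0 n194632 = n112982 := d20_10 F175954 (iv1 F176191) F176189 F82551 (iv1 F40083) D51184 F80745 D107006 (iv4 F357666) D194632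
theorem F393882 : act 0 n179093 = n194632 := d20_4 (iv4 F112015) F221948 (iv4 F315162) D179093 (iv3 D194632) F357666 (iv1 F171968) (iv4 F295628) F295627 (iv1 F112014)
def n194633 : Q := act 5 n103880
theorem D194633 : act 5 n103880 = n194633 := rfl
theorem F393883 : act 7 n194633 = n191243 := d13_2 F393365 D194633 F393367
theorem F393884 : act 4 n194633 = n106642 := d18_5 (iv1 D110999) F80745 D107006 (iv4 F357666) D194633 (iv0 D106642) D106644 F382220 F382210
theorem F393885 : act 7 n106642 = n106530 := d11_2 (iv7 F393883) F393884 (iv4 F382726)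
theorem F393886 : act 2 n106530 = n106643 := d15_3 F164261 F164260 F393885
theorem F393887 : act 2 n106642 = n106531 := d15_3 F164258 F164259 (iv7 F393885)
theorem F393888 : act 7 n106531 = n106643 := d4_2 (iv7 F393885) F393887 (iv2 F393886)
theorem F393889 : act 3 n106643 = n191134 := d8_1 F393888 F382351 F343660
theorem F393890 : act 6 n106643 = n191165 := d14_1 F393888 (iv7 F382456) (iv6 D132136) (iv7 F164268) (iv6 F343661)
def n194634 : Q := act 5 n103881
theorem D194634 : act 5 n103881 = n194634 := rfl
theorem F393891 : act 2 n194634 = n191243 := d2_1 D194634 F393367 F393368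
theorem F393892 : act 3 n194634 = n133415 := d6_1 D194634 (iv5 F352959) F393362
theorem F393893 : act 4 n194634 = n106643 := d18_5 (iv1 F295625) F295628 (iv1 F171970) F393363 D194634 F164261 (iv4 F340426) D191098 (iv5 F382213)
theorem F393894 : act 6 n194634 = n181933 := d21_3 (iv5 F393372) (iv1 F393374) D194634 (iv1 F294707) F358112 (iv5 D158050) (iv1 F326840) (iv5 F377482) (iv6 F377486) (iv1 F370087)
def n194635 : Q := act 6 n103881
theorem D194635 : act 6 n103881 = n194635 := rfl
theorem F393895 : act 3 n194635 = n192099 := d7_1 D194635 (iv6 F385540) F393362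
theorem F393896 : act 7 n194635 = n193468 := d14_2 (iv7 F393361) D194635 F389954 (iv7 F172176) (iv6 F393358)
theorem F393897 : act 0 n193512 = n194635 := d20_4 F204361 D139293 (iv4 F357631) (iv3 F390131) F393895 F385535 (iv1 F275131) D191519 F385536 (iv1 F357632)
def n194636 : Q := act 6 n103904
theorem D194636 : act 6 n103904 = n194636 := rfl
theorem F393898 : act 3 n194636 = n184388 := d7_1 D194636 (iv6 D184388) (iv3 F294883)
theorem F393899 : act 4 n194636 = n184322 := d10_1 D194636 (iv6 D184322) (iv4 F349159)
theorem F393900 : act 5 n194636 = n190098 := d12_1 D194636 (iv6 D190098) (iv5 D95620) (iv6 F294156) (iv5 F294884)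
theorem F393901 : act 0 n194636 = n193516 := d21_4 F357432 (iv1 D184384) (iv5 F294884) D194636 (iv6 D193516) (iv5 D101847) D101844 (iv5 F389975) (iv6 F389978) (iv1 F380509)
def n194637 : Q := act 6 n103905
theorem D194637 : act 6 n103905 = n194637 := rfl
theorem F393902 : act 2 n194637 = n192495 := d3_1 D194637 (iv6 D192495) (iv2 F349161)
theorem F393903 : act 4 n194637 = n103906 := d10_1 D194637 (iv6 D103906) D103905
theorem F393904 : act 5 n194637 = n192820 := d12_1 D194637 (iv6 D192820) (iv5 F368446) (iv6 F374420) F374419
theorem F393905 : act 7 n194637 = n111172 := d14_2 (iv7 F349154) D194637 (iv6 D111172) D111173 F347692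
theorem F393906 : act 0 n194637 = n192854 := d21_4 (iv5 F345035) (iv1 F374422) F374419 D194637 (iv6 D192854) (iv5 D100827) (iv1 D47008) D47009 F74253 D47021
theorem F393907 : act 0 n139373 = n192820 := d21_7 (iv5 D100781) (iv1 F74210) (iv5 F74258) (iv6 F357497) (iv1 D65411) D65414 D139373 (iv5 F393904) (iv6 D194637) (iv1 F354455)
theorem F393908 : act 1 n139373 = n186933 := d15_1 (iv0 F393907) (iv7 F368555) (iv2 F387898)
def n194638 : Q := act 0 n103906
theorem D194638 : act 0 n103906 = n194638 := rfl
theorem F393909 : act 6 n194638 = n166695 := d21_5 F154899 F74219 D48104 D103906 D194638 (iv5 D166695) (iv1 F122810) (iv5 F356143) F154928 (iv1 F329992)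
theorem F393910 : act 2 n173858 = n194638 := d3_3 F393909 F262369 D173858
theorem F393911 : act 3 n151281 = n194638 := d7_3 F393909 (iv3 F363693) F363692
theorem F393912 : act 5 n166694 = n194638 := d12_5 F393909 (iv5 D166695) (iv6 D80006) D80005 D166694
theorem F393913 : act 0 n194584 = n103910 := d20_1 D194584 F159344 (iv3 F159337) D194638 (iv3 F393911) (iv4 D151281) F318259 (iv4 F222110) (iv3 F393323) (iv1 F393326)
def n194639 : Q := act 1 n103906
theorem D194639 : act 1 n103906 = n194639 := rfl
theorem F393914 : act 7 n194639 = n173858 := d15_2 (iv0 D194638) D194639 F393910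
theorem F393915 : act 3 n193625 = n194639 := d20_3 F392494 (iv1 F392933) (iv4 F390481) (iv1 D194639) F159337 (iv4 F159344) (iv1 F393752) (iv4 D194580) F392942 (iv1 F392501)
theorem F393916 : act 6 n194639 = n193623 := d7_2 D193625 F393915 (iv3 D193623)
def n194640 : Q := act 5 n103906
theorem D194640 : act 5 n103906 = n194640 := rfl
theorem F393917 : act 3 n194640 = n103913 := d6_1 D194640 (iv5 D103913) (iv3 F159337)
theorem F393918 : act 6 n194640 = n103908 := d12_2 D103906 D194640 (iv5 D103908) (iv6 D48105) D48104
theorem F393919 : act 4 n194640 = n186924 := d16_4 (iv4 F387899) (iv5 F393904) F393903 D194640 (iv5 D186924) F137069 D89386 D186934 F368556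
def n194641 : Q := act 7 n103906
theorem D194641 : act 7 n103906 = n194641 := rfl
theorem F393920 : act 3 n194641 = n103914 := d8_1 D194641 (iv7 D103914) (iv3 F159337)
theorem F393921 : act 4 n194641 = n111172 := d11_1 D194641 (iv7 F393905) F393903
theorem F393922 : act 6 n194641 = n111170 := d14_1 D194641 F388005 (iv6 D192847) F154895 D103906
def n194642 : Q := act 6 n103909
theorem D194642 : act 6 n103909 = n194642 := rfl
theorem F393923 : act 3 n194642 = n103910 := d7_1 D194642 (iv6 D103910) D103909
def n194643 : Q := act 5 n103910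
theorem D194643 : act 5 n103910 = n194643 := rfl
theorem F393924 : act 6 n194643 = n156324 := d12_2 D103910 D194643 F350384 F134770 F294321
theorem F393925 : act 4 n156325 = n194643 := d10_3 F393924 (iv4 D156324) D156325
def n194644 : Q := act 7 n103910
theorem D194644 : act 7 n103910 = n194644 := rfl
theorem F393926 : act 4 n194644 = n103914 := d11_1 D194644 (iv7 D103914) (iv4 F159344)
def n194645 : Q := act 4 n103911
theorem D194645 : act 4 n103911 = n194645 := rfl
theorem F393927 : act 7 n194645 = n194578 := d11_2 (iv7 F393384) D194645 (iv4 F393743)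
theorem F393928 : act 0 n194645 = n110937 := d20_7 F175743 (iv1 F82546) (iv4 F175778) (iv3 F390415) (iv1 F391384) F393385 D194645 (iv4 F362350) F362349 D112855
theorem F393929 : act 0 n153712 = n194645 := d20_7 (iv4 D193604) (iv1 D102015) (iv4 F156968) F366599 (iv1 F366532) (iv3 F362353) (iv4 F362352) (iv4 D194645) (iv3 F393385) (iv1 F391383)
theorem F393930 : act 2 n194645 = n194577 := d15_3 (iv0 D194577) D194578 (iv7 F393927)
theorem F393931 : act 4 n194577 = n194478 := d1_2 D194645 F393930 F393383
def n194646 : Q := act 5 n103911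
theorem D194646 : act 5 n103911 = n194646 := rfl
theorem F393932 : act 7 n194646 = n190935 := d13_2 (iv7 F393384) D194646 (iv5 F391374)
theorem F393933 : act 4 n194646 = n187218 := d18_5 (iv1 D194464) (iv4 F362352) F393929 (iv4 D194645) D194646 (iv0 D187218) (iv4 F369545) (iv0 F381971) F393315
theorem F393934 : act 6 n194646 = n166705 := d21_9 (iv5 D163278) (iv1 F344652) F148381 (iv6 D95617) (iv1 F75586) (iv6 F159345) (iv5 D103913) D103911 D194646 F262400
theorem F393935 : act 0 n187324 = n194646 := d21_4 F149735 F147119 (iv5 F138039) D187324 F393934 (iv5 D166705) (iv1 F122820) D160902 (iv6 F348738) (iv1 F149737)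
theorem F393936 : act 7 n187218 = n187300 := d11_2 (iv7 F393932) F393933 (iv4 F381606)
theorem F393937 : act 2 n187300 = n187219 := d15_3 F369755 F369756 F393936
theorem F393938 : act 2 n187218 = n187299 := d15_3 (iv0 D187299) D187300 (iv7 F393936)
theorem F393939 : act 7 n187299 = n187219 := d4_2 (iv7 F393936) F393938 (iv2 F393937)
theorem F393940 : act 4 n187219 = n190074 := d1_2 F381606 F393937 (iv2 F381605)
theorem F393941 : act 6 n187219 = n190073 := d3_2 F379188 F393937 F379185
def n194647 : Q := act 6 n103911
theorem D194647 : act 6 n103911 = n194647 := rfl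
theorem F393942 : act 3 n194647 = n193489 := d7_1 D194647 (iv6 F391382) F393385
theorem F393943 : act 5 n194647 = n166706 := d12_1 D194647 (iv6 D166706) D166705 (iv6 F393934) (iv5 D194646)
theorem F393944 : act 7 n194647 = n193620 := d14_2 (iv7 F393384) D194647 (iv6 D193620) (iv7 F157421) D193912
def n194648 : Q := act 3 n103912
theorem D194648 : act 3 n103912 = n194648 := rfl
theorem F393945 : act 2 n194648 = n193616 := d0_1 D194648 F390460 (iv2 F157422) (iv3 F391373) F391372
theorem F393946 : act 6 n194648 = n193614 := d7_2 (iv6 F391371) D194648 (iv3 F391366)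
def n194649 : Q := act 4 n103912
theorem D194649 : act 4 n103912 = n194649 := rfl
theorem F393947 : act 2 n194649 = n194578 := d1_1 D194649 (iv4 F393743) F391372
theorem F393948 : act 6 n194649 = n194534 := d10_2 (iv6 F391371) D194649 F393617
theorem F393949 : act 7 n194649 = n194577 := d11_2 F393382 D194649 F393931
theorem F393950 : act 1 n153712 = n194649 := d15_1 (iv0 F393929) F393949 (iv2 F393930)
theorem F393951 : act 1 n194649 = n110937 := d15_1 F393950 (iv7 F362348) F362347
def n194650 : Q := act 0 n103913
theorem D194650 : act 0 n103913 = n194650 := rfl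
def n194651 : Q := act 1 n103913
theorem D194651 : act 1 n103913 = n194651 := rfl
theorem F393952 : act 6 n191320 = n194651 := d21_3 (iv5 F383031) (iv1 D191319) D191320 (iv1 D194651) F159345 (iv5 D48109) D48108 F75581 D97079 D190949
def n194652 : Q := act 7 n103913
theorem D194652 : act 7 n103913 = n194652 := rfl
theorem F393953 : act 4 n194652 = n187279 := d11_1 D194652 (iv7 F369910) F369909
theorem F393954 : act 5 n194652 = n103914 := d13_1 D194652 (iv7 D103914) D103913
theorem F393955 : act 6 n194652 = n187278 := d14_1 D194652 F369688 (iv6 D104724) F76141 (iv6 F159345)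
def n194653 : Q := act 0 n103921
theorem D194653 : act 0 n103921 = n194653 := rfl
theorem F393956 : act 5 n194653 = n192595 := d17_1 D194653 (iv1 D192595) (iv5 D100437) (iv4 F147090) (iv5 F352881) F352883 F340546 F340534 (iv4 F159353)
theorem F393957 : act 4 n194653 = n176699 := d18_3 F295205 (iv4 F159353) D194653 F362617 (iv4 F352873) F352871 (iv4 D103354) D103353 F159223
theorem F393958 : act 3 n194653 = n194482 := d20_5 F291818 (iv1 F75595) (iv4 F75593) D103921 D194653 (iv4 D194482) (iv1 D103638) F75404 (iv3 D48000) F292827
theorem F393959 : act 6 n194653 = n176153 := d21_5 D189911 F378209 F285732 (iv6 F293842) D194653 (iv5 D176153) (iv1 F275376) (iv5 F331217) F153674 (iv1 F147054)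
theorem F393960 : act 2 n184229 = n194653 := d15_3 (iv0 D194653) F387244 (iv7 F381820)
theorem F393961 : act 1 n184230 = n194653 := d15_0 (iv0 D194653) F159354 D184230
theorem F393962 : act 7 n194653 = n184228 := d15_2 (iv0 F367650) F393961 F381819
def n194654 : Q := act 3 n103925
theorem D194654 : act 3 n103925 = n194654 := rfl
theorem F393963 : act 2 n194654 = n188075 := d0_1 D194654 (iv3 D188075) F343884 (iv3 F151840) (iv2 F343878)
theorem F393964 : act 4 n194654 = n188075 := d5_2 (iv4 F343879) D194654 (iv3 D188075) F343885 F136489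
theorem F393965 : act 5 n194654 = n183995 := d6_2 (iv5 F343880) D194654 (iv3 D183995)
theorem F393966 : act 6 n194654 = n182632 := d7_2 (iv6 F343881) D194654 (iv3 D182632)
theorem F393967 : act 0 n194654 = n191472 := d20_10 F383535 F335411 F139700 (iv3 D90771) (iv1 F291836) D96154 (iv4 F294029) F343882 (iv4 F343879) D194654
theorem F393968 : act 0 n194482 = n194654 := d20_4 (iv4 F390848) F390849 (iv4 F393957) F393958 (iv3 D194654) F343879 (iv1 F343890) (iv4 F368028) F368027 (iv1 F372446)
def n194655 : Q := act 4 n103927
theorem D194655 : act 4 n103927 = n194655 := rfl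
theorem F393969 : act 2 n194655 = n159362 := d1_1 D194655 (iv4 F343919) (iv2 F343912)
theorem F393970 : act 3 n194655 = n184000 := d5_1 D194655 (iv4 F375606) (iv3 D188378) F294498 (iv3 F159362)
theorem F393971 : act 5 n194655 = n183999 := d9_2 D103927 D194655 F285885 (iv5 F294318) (iv4 F375562) (iv5 D189043) D189042 F375552 (iv4 F343920) (iv5 F179200) (iv4 F371675) F371678 (iv4 D186950) (iv5 D89412) (iv4 F293940)
theorem F393972 : act 7 n194655 = n134160 := d11_2 (iv7 F343913) D194655 F216191
theorem F393973 : act 0 n194655 = n192965 := d18_2 (iv1 F345094) D194655 (iv4 D192965) (iv5 D101041) F153148 F153147 F73442 F134733 D183966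
theorem F393974 : act 1 n194655 = n192963 := d18_6 F338485 F349306 (iv1 D89411) (iv4 F293940) D103927 D194655 (iv4 D192963) F344194 D136406
def n194656 : Q := act 6 n103927
theorem D194656 : act 6 n103927 = n194656 := rfl
theorem F393975 : act 2 n194656 = n136680 := d3_1 D194656 F338295 (iv2 F343912)
theorem F393976 : act 3 n194656 = n103931 := d7_1 D194656 (iv6 D103931) (iv3 F159362)
theorem F393977 : act 5 n194656 = n186942 := d12_1 D194656 (iv6 D186942) (iv5 D89404) F294173 D103927
theorem F393978 : act 7 n194656 = n135932 := d14_2 (iv7 F343913) D194656 (iv6 D135932) F99410 D64234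
theorem F393979 : act 0 n194656 = n136678 := d21_4 (iv5 F343880) (iv1 D103925) D103927 D194656 F364002 (iv5 D65454) D65451 F222654 F338286 F335361
theorem F393980 : act 1 n194656 = n136677 := d15_0 (iv0 D136677) D136680 (iv2 F393975)
def n194657 : Q := act 0 n103931
theorem D194657 : act 0 n103931 = n194657 := rfl
def n194658 : Q := act 1 n103931
theorem D194658 : act 1 n103931 = n194658 := rfl
theorem F393981 : act 5 n194658 = n181962 := d17_7 F308337 (iv5 D87342) (iv1 F306517) D72665 D153667 (iv5 F338040) D194658 F351882 (iv4 D153670)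
theorem F393982 : act 2 n182139 = n194658 := d2_3 F393981 F283249 D182139
theorem F393983 : act 6 n185292 = n194658 := d12_0 F393981 F283250 F133347 D88283 D185292
theorem F393984 : act 5 n184096 = n185291 := d21_0 (iv1 D185291) D185292 F393983 (iv1 D194658) (iv6 D103931) (iv5 D48116) D48113 (iv5 F293843) D87812 D184096
def n194659 : Q := act 7 n103931
theorem D194659 : act 7 n103931 = n194659 := rfl
theorem F393985 : act 3 n194659 = n135932 := d8_1 D194659 (iv7 F393978) F393976
theorem F393986 : act 6 n194659 = n135931 := d14_1 D194659 F218650 F343909 (iv7 F293567) D103931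
theorem F393987 : act 1 n182139 = n194659 := d15_1 F338045 (iv7 D194659) (iv2 F338041)
def n194660 : Q := act 6 n103940
theorem D194660 : act 6 n103940 = n194660 := rfl
theorem F393988 : act 2 n194660 = n135929 := d3_1 D194660 (iv6 F362779) F352759
theorem F393989 : act 3 n194660 = n103942 := d7_1 D194660 (iv6 D103942) (iv3 F159386)
theorem F393990 : act 5 n194660 = n192268 := d12_1 D194660 (iv6 D192268) (iv5 F361849) (iv6 D103941) D103940
theorem F393991 : act 0 n194660 = n136579 := d21_4 D100563 F294888 D103940 D194660 (iv6 F362507) (iv5 D119174) (iv1 D54842) D54844 (iv6 F364670) F283730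
theorem F393992 : act 0 n136574 = n194660 := d21_7 (iv5 D192166) (iv1 F153668) (iv5 F328548) (iv6 D30464) D30459 F352948 D136574 F393990 (iv6 D192268) (iv1 F385832)
theorem E103589 : n136672 = n136574 := ((c15_1 (iv0 F393992) (iv0 D136672) (iv7 F218647) (iv2 F393988))).symm
theorem F393993 : act 1 n136574 = n64235 := (sb E103589 (iv0 D136672))
theorem F393994 : act 7 n136674 = n194660 := d4_0 F393988 F218647 D136674
theorem E103590 : n136673 = n136579 := (c15_1 D136673 (iv0 F393991) (iv7 F393994) (iv2 D136674))
theorem F393995 : act 0 n136579 = n64235 := (sb E103590 (iv1 D136673))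
def n194661 : Q := act 1 n103942
theorem D194661 : act 1 n103942 = n194661 := rfl
theorem F393996 : act 1 n194661 = n135931 := d15_1 D194661 F218650 (iv2 F359640)
theorem F393997 : act 7 n194661 = n136545 := d15_2 (iv0 F359642) D194661 F338907
theorem F393998 : act 5 n135901 = n194661 := d21_0 (iv1 D194661) F359641 (iv6 D183929) F293043 D190912 F381532 F359646 (iv5 F338918) (iv6 D135905) D135901
theorem F393999 : act 2 n194661 = n136550 := d2_1 F393998 (iv5 D136550) (iv2 F338916)
theorem F394000 : act 1 n135931 = n184048 := d15_1 F393996 (iv7 F338902) (iv2 F393999)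
def n194662 : Q := act 7 n103942
theorem D194662 : act 7 n103942 = n194662 := rfl
theorem F394001 : act 2 n194662 = n135931 := d4_1 D194662 F218650 (iv2 F359640)
theorem F394002 : act 3 n194662 = n136674 := d8_1 D194662 F393994 F393989
theorem F394003 : act 1 n136550 = n194662 := d15_1 (iv0 F343911) (iv7 D194662) F359640
theorem F394004 : act 1 n194662 = n136545 := d15_1 F394003 (iv7 F393997) F393999
def n194663 : Q := act 4 n103945
theorem D194663 : act 4 n103945 = n194663 := rfl
theorem F394005 : act 0 n194663 = n191591 := d17_0 F383911 F383918 (iv5 D187501) F138868 D184466 F373334 (iv5 F393394) F393397 D194663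
theorem F394006 : act 1 n194663 = n189284 := d18_6 (iv1 F157639) D192234 F386140 F361036 (iv5 F349152) D194663 F376328 (iv0 D98576) (iv5 F74127)
def n194664 : Q := act 3 n103946
theorem D194664 : act 3 n103946 = n194664 := rfl
theorem F394007 : act 2 n194664 = n186797 := d0_1 D194664 F368044 F344251 (iv3 F283460) (iv2 F361033)
theorem F394008 : act 4 n194664 = n186660 := d5_2 F377081 D194664 (iv3 F377092) F377093 (iv3 F377080)
theorem F394009 : act 5 n194664 = n184520 := d6_2 (iv5 F361034) D194664 (iv3 D184520)
theorem F394010 : act 6 n194664 = n182694 := d7_2 (iv6 F361035) D194664 (iv3 D182694)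
theorem F394011 : act 0 n194664 = n189664 := d20_4 D191591 F383910 F377081 D194664 (iv3 F379626) (iv4 D190384) F324607 (iv4 F352755) (iv3 F372245) (iv1 F372250)
theorem F394012 : act 1 n194664 = n189666 := d15_1 (iv0 F394011) F377303 (iv2 F377298)
def n194665 : Q := act 3 n103955
theorem D194665 : act 3 n103955 = n194665 := rfl
theorem F394013 : act 4 n194665 = n119267 := d5_2 F343851 D194665 (iv3 F379043) (iv4 F383077) F383076
theorem F394014 : act 5 n194665 = n119215 := d6_2 (iv5 F343848) D194665 F349166
theorem F394015 : act 6 n194665 = n182716 := d7_2 (iv6 F343849) D194665 (iv3 D182716)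
theorem F394016 : act 0 n194665 = n190992 := d19_4 (iv1 F111411) (iv5 F329764) F343851 D194665 (iv5 F381827) F239591 (iv3 F178396) (iv1 D52977) (iv5 D25715) F20209 F9347 D6026 D12745 D26681 D55215 (iv1 F329848) F329041 (iv4 F329039) (iv3 F329371)
def n194666 : Q := act 6 n103957
theorem D194666 : act 6 n103957 = n194666 := rfl
theorem F394017 : act 2 n194666 = n103959 := d3_1 D194666 (iv6 D103959) D103957
theorem F394018 : act 3 n194666 = n189598 := d7_1 D194666 (iv6 F393395) F393392
theorem F394019 : act 4 n194666 = n171184 := d10_1 D194666 F343241 F357137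
theorem F394020 : act 7 n194666 = n171174 := d14_2 (iv7 F357140) D194666 (iv6 D171174) F335623 (iv6 F340075)
theorem F394021 : act 0 n194666 = n176191 := d21_4 (iv5 F355605) (iv1 F373196) F373195 D194666 F345040 (iv5 D139349) F111408 (iv5 F329612) (iv6 F66992) (iv1 F126426)
theorem F394022 : act 5 n194666 = n192213 := d21_6 D41176 D88230 D185119 (iv6 F356398) (iv1 F357135) D194666 (iv1 F386036) (iv5 D101402) F289636 (iv1 D41174)
theorem F394023 : act 0 n187050 = n194666 := d21_4 D88236 D185144 (iv5 F362817) (iv6 F368925) (iv6 D194666) (iv5 F373195) (iv1 F373197) (iv5 D171101) F289942 (iv1 D88235)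
def n194667 : Q := act 0 n103985
theorem D194667 : act 0 n103985 = n194667 := rfl
theorem F394024 : act 1 n192748 = n194667 := d15_0 (iv0 D194667) F332730 (iv2 F387646)
theorem F394025 : act 4 n184102 = n194667 := d20_0 (iv1 F394024) F387648 (iv3 F388670) (iv1 F388674) (iv3 F388675) (iv4 D188167) F294358 F351153 F154511 D184102
theorem F394026 : act 4 n182770 = n183475 := d18_7 D184102 F394025 (iv1 F394024) F387648 F386131 (iv4 F367847) F367853 (iv0 D183475) (iv5 F134786)
def n194668 : Q := act 1 n103985
theorem D194668 : act 1 n103985 = n194668 := rfl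
theorem F394027 : act 1 n194668 = n192748 := d15_1 D194668 F387649 F386109
theorem F394028 : act 4 n194668 = n184103 := d20_0 (iv1 D184103) (iv4 F286050) (iv3 F376088) F376092 (iv3 F362335) F362334 (iv1 D101164) (iv4 F154653) (iv3 F387647) (iv1 F394027)
def n194669 : Q := act 2 n103986
theorem D194669 : act 2 n103986 = n194669 := rfl
theorem F394029 : act 7 n103987 = n194669 := d15_2 (iv0 D103986) D103987 (iv2 D194669)
def n194670 : Q := act 3 n103986
theorem D194670 : act 3 n103986 = n194670 := rfl
theorem F394030 : act 4 n194670 = n152554 := d20_6 F385014 (iv1 F256341) (iv4 F345214) F294745 D103986 D194670 (iv1 D152554) (iv4 F239740) F361021 (iv1 F385012)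
def n194671 : Q := act 4 n103986
theorem D194671 : act 4 n103986 = n194671 := rfl
def n194672 : Q := act 5 n103986
theorem D194672 : act 5 n103986 = n194672 := rfl
theorem F394031 : act 6 n194672 = n108816 := d21_3 (iv5 F75625) D103986 D194672 (iv1 F168770) (iv6 F354998) (iv5 F332732) (iv1 D134909) (iv5 D63399) D63400 F332721
theorem F394032 : act 0 n193176 = n194672 := d21_10 (iv5 D194672) (iv1 F386134) F386131 (iv6 F332727) (iv1 F285261) (iv6 F306922) (iv5 F240123) F307578 F156033 D193176
theorem F394033 : act 2 n108808 = n194672 := d3_3 F394031 (iv2 D108816) (iv6 F168741)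
theorem F394034 : act 3 n134276 = n194672 := d7_3 F394031 F168765 D134276
theorem F394035 : act 4 n128957 = n194672 := d10_3 F394031 F168766 D128957
theorem F394036 : act 5 n194670 = n134276 := d6_0 F394034 (iv5 D194672) D194670
theorem F394037 : act 2 n134283 = n194670 := d2_3 F394036 F216307 D134283
theorem E103591 : n194669 = n192230 := (c0_4 (iv3 F216309) F394037 (iv3 D194670) D194669 (iv3 F386127) F168742)
theorem F394038 : act 2 n192230 = n103986 := (sb E103591 (iv2 D194669))
theorem F394039 : act 7 n192230 = n103987 := (sb E103591 (iv7 F394029))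
theorem F394040 : act 2 n103987 = n192231 := d15_3 F386129 (iv0 F386128) F394039
theorem F394041 : act 7 n103986 = n192231 := d4_2 (iv7 F394039) F394038 (iv2 F394040)
def n194673 : Q := act 6 n103986
theorem D194673 : act 6 n103986 = n194673 := rfl
theorem F394042 : act 0 n194673 = n123723 := d21_10 (iv5 D123723) (iv1 D57673) D57674 F90863 D57686 D123763 (iv5 F389063) F394032 (iv5 D194672) D194673
def n194674 : Q := act 3 n103987
theorem D194674 : act 3 n103987 = n194674 := rfl
theorem F394043 : act 7 n194674 = n108809 := d8_2 F394039 D194674 F386127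
theorem F394044 : act 2 n134297 = n194674 := d4_3 F394043 F168742 D134297
theorem F394045 : act 5 n108810 = n194674 := d13_3 F394043 (iv5 D108809) D108810
theorem F394046 : act 1 n134295 = n194674 := d15_1 D134295 F394043 F168742
theorem F394047 : act 1 n194674 = n134294 := d15_1 F394046 F386062 F386058
theorem F394048 : act 6 n123978 = n194674 := d21_5 F90388 (iv1 F44358) D27573 D57757 D123978 (iv5 F394045) (iv1 F168747) (iv5 F328519) (iv6 D57766) (iv1 F90391)
def n194675 : Q := act 4 n103987
theorem D194675 : act 4 n103987 = n194675 := rfl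
theorem F394049 : act 0 n194675 = n184584 := d18_2 (iv1 F386133) D194675 F286573 (iv5 F294759) (iv4 F377811) (iv0 F377813) F164300 D134913 (iv5 F386131)
theorem F394050 : act 6 n153689 = n194675 := d21_3 F330096 (iv1 F240174) D153689 F394049 (iv6 D184584) (iv5 F294758) (iv1 F159239) (iv5 F294724) F302685 D142818
def n194676 : Q := act 5 n103987
theorem D194676 : act 5 n103987 = n194676 := rfl
theorem F394051 : act 3 n194676 = n108810 := d6_1 D194676 F394045 (iv3 D194674)
theorem F394052 : act 7 n194676 = n108808 := d13_2 F394039 D194676 (iv5 F386126)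
theorem F394053 : act 6 n194676 = n134237 := d21_3 (iv5 F386131) (iv1 F386133) D194676 (iv1 F336404) F160976 (iv5 F295240) (iv1 F375936) (iv5 F375938) (iv6 D182778) (iv1 F332722)
theorem F394054 : act 4 n128965 = n194676 := d11_3 F394052 F168740 D128965
theorem F394055 : act 1 n193176 = n194676 := d15_1 (iv0 F394032) F394052 F394033
theorem F394056 : act 5 n194668 = n170827 := d17_1 (iv1 F394027) (iv1 D170827) (iv5 F248832) (iv4 F362330) (iv5 F389063) F394055 (iv5 D194676) F386133 (iv4 F387648)
theorem F394057 : act 6 n140583 = n194668 := d12_0 F394056 (iv6 F365758) (iv5 D179610) F205963 (iv5 F363137)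
def n194677 : Q := act 6 n103987
theorem D194677 : act 6 n103987 = n194677 := rfl
theorem F394058 : act 3 n194677 = n123978 := d7_1 D194677 F394048 (iv3 D194674)
theorem F394059 : act 4 n194677 = n153689 := d10_1 D194677 F394050 (iv4 D194675)
theorem F394060 : act 5 n153675 = n194677 := d21_2 (iv5 D153678) D153675 (iv6 D194677) (iv1 D103987) (iv6 D48138) (iv5 D23245) D23242 (iv5 F293840) D91272 (iv1 F373369)
theorem F394061 : act 0 n123755 = n194677 := d21_4 F198157 (iv1 F90837) D57684 D123755 (iv6 D194677) D194676 (iv1 F394055) F389063 (iv6 D123763) (iv1 F198160)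
def n194678 : Q := act 4 n104006
theorem D194678 : act 4 n104006 = n194678 := rfl
theorem F394062 : act 6 n194678 = n186765 := d10_2 (iv6 F159455) D194678 F367932
theorem F394063 : act 7 n194678 = n188142 := d11_2 F293918 D194678 (iv4 D188142)
theorem F394064 : act 0 n194678 = n184068 := d17_0 (iv5 F390903) F390904 F386236 (iv4 F372744) (iv5 D188135) F294869 D99481 (iv0 F357540) D194678
def n194679 : Q := act 4 n104007
theorem D194679 : act 4 n104007 = n194679 := rfl
theorem F394065 : act 2 n194679 = n129481 := d1_1 D194679 (iv4 F362667) F362666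
theorem F394066 : act 3 n194679 = n159492 := d5_1 D194679 (iv4 F387516) (iv3 D192697) F154596 D104007
theorem F394067 : act 7 n194679 = n129422 := d11_2 F293910 D194679 (iv4 F344184)
theorem F394068 : act 0 n194679 = n129479 := d18_2 F344193 D194679 F383482 (iv5 D87768) D87767 (iv0 F134740) F68581 F74326 D101038
theorem F394069 : act 1 n194679 = n129478 := d18_6 F343905 (iv4 F343898) (iv1 D103333) F293855 (iv5 F159457) D194679 F362693 (iv0 F338289) (iv5 F343906)
def n194680 : Q := act 0 n104008
theorem D194680 : act 0 n104008 = n194680 := rfl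
theorem F394070 : act 6 n194680 = n141823 := d21_5 (iv5 F66312) (iv1 F72703) (iv5 F75650) D104008 D194680 F357505 (iv1 D100993) (iv5 F294249) (iv6 D90879) F293224
theorem F394071 : act 1 n188146 = n194680 := d15_0 (iv0 D194680) (iv7 F344188) (iv2 F372474)
theorem F394072 : act 4 n141824 = n194680 := d10_3 F394070 (iv4 D141823) D141824
theorem F394073 : act 3 n194680 = n188412 := d5_1 F394072 (iv4 F373367) (iv3 F331092) F168579 (iv3 F224851)
def n194681 : Q := act 1 n104008
theorem D194681 : act 1 n104008 = n194681 := rfl
theorem F394074 : act 1 n194681 = n188146 := d15_1 D194681 (iv7 D188146) F293923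
def n194682 : Q := act 3 n104009
theorem D194682 : act 3 n104009 = n194682 := rfl
theorem F394075 : act 5 n194682 = n187562 := d6_2 (iv5 F362669) D194682 (iv3 D187562)
theorem F394076 : act 7 n194682 = n187990 := d8_2 F293926 D194682 (iv3 D187990)
theorem F394077 : act 0 n187877 = n194682 := d20_4 (iv4 D42446) (iv1 F65553) D90633 D187877 (iv3 D194682) F159461 F137273 D99377 (iv3 F345135) (iv1 F139549)
def n194683 : Q := act 6 n104009
theorem D194683 : act 6 n104009 = n194683 := rfl
theorem F394078 : act 2 n194683 = n187989 := d3_1 D194683 (iv6 D187989) F293359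
theorem F394079 : act 4 n194683 = n187109 := d10_1 D194683 F369113 (iv4 F159461)
theorem F394080 : act 0 n194683 = n193054 := d21_4 D100584 (iv1 F362671) (iv5 F362669) D194683 (iv6 D193054) (iv5 F387493) (iv1 D192689) (iv5 D100514) F74095 D46919
theorem F394081 : act 0 n180412 = n194683 := d21_4 (iv5 D166737) F122841 D86163 D180412 (iv6 D194683) F362669 (iv1 F293425) (iv5 D100587) D100588 F345209
def n194684 : Q := act 3 n104010
theorem D194684 : act 3 n104010 = n194684 := rfl
theorem F394082 : act 5 n194684 = n187570 := d6_2 (iv5 F362670) D194684 (iv3 D187570)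
theorem F394083 : act 7 n194684 = n187988 := d8_2 F293360 D194684 (iv3 D187988)
theorem F394084 : act 0 n114341 = n194684 := d20_4 (iv4 D106706) F77951 D52768 D114341 (iv3 D194684) F159467 F137398 D99379 F327163 (iv1 F164451)
def n194685 : Q := act 6 n104010
theorem D194685 : act 6 n104010 = n194685 := rfl
theorem F394085 : act 2 n194685 = n187991 := d3_1 D194685 (iv6 D187991) F293925
theorem F394086 : act 4 n194685 = n187158 := d10_1 D194685 F369258 (iv4 F159467)
theorem F394087 : act 0 n194685 = n141824 := d21_4 D100587 F293424 (iv5 F362670) D194685 (iv6 D141824) (iv5 D66492) D66489 F222515 F350370 F293365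
def n194686 : Q := act 0 n104013
theorem D194686 : act 0 n104013 = n194686 := rfl
theorem F394088 : act 6 n194686 = n153755 := d21_5 (iv5 F291892) (iv1 D90320) (iv5 F293969) D104013 D194686 (iv5 D153755) F353004 D103843 F351158 (iv1 F153059)
theorem F394089 : act 1 n187994 = n194686 := d15_0 (iv0 D194686) (iv7 F331082) (iv2 F372046)
theorem F394090 : act 3 n153757 = n194686 := d7_3 F394088 F241616 D153757
def n194687 : Q := act 1 n104013
theorem D194687 : act 1 n104013 = n194687 := rfl
theorem F394091 : act 1 n194687 = n187994 := d15_1 D194687 (iv7 D187994) F295004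
def n194688 : Q := act 5 n104013
theorem D194688 : act 5 n104013 = n194688 := rfl
theorem F394092 : act 2 n194688 = n153457 := d2_1 D194688 (iv5 F241045) F295004
theorem F394093 : act 3 n194688 = n153699 := d6_1 D194688 F331089 (iv3 F331080)
theorem F394094 : act 6 n194688 = n153520 := d12_2 D104013 D194688 F241278 F138889 (iv5 F293969)
theorem F394095 : act 4 n193264 = n194688 := d10_3 F394094 (iv4 F241515) (iv6 F389345)
theorem F394096 : act 0 n194688 = n194549 := d20_1 F394095 F393679 (iv3 D193313) (iv1 D101447) (iv3 D47209) (iv4 D22709) D22707 D47202 D101423 D193264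
def n194689 : Q := act 3 n104014
theorem D194689 : act 3 n104014 = n194689 := rfl
theorem F394097 : act 5 n194689 = n123866 := d6_2 F368352 D194689 (iv3 F368351)
theorem F394098 : act 7 n194689 = n192776 := d8_2 (iv7 F289427) D194689 (iv3 D192776)
theorem F394099 : act 0 n191997 = n194689 := d19_0 F394097 (iv4 F352389) F144691 (iv1 F88590) (iv5 F161740) F161739 (iv3 F316820) (iv1 F392149) (iv5 D194133) (iv4 F293391) (iv3 F374163) (iv1 F380670) F380672 (iv4 F355679) F355675 (iv1 D71891) D71892 (iv4 F353537) (iv3 F385147)
def n194690 : Q := act 6 n104014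
theorem D194690 : act 6 n104014 = n194690 := rfl
theorem F394100 : act 2 n194690 = n192775 := d3_1 D194690 (iv6 D192775) F289428
theorem F394101 : act 7 n194690 = n193050 := d14_2 (iv7 F289427) D194690 (iv6 D193050) (iv7 F357948) F357954
def n194691 : Q := act 3 n104015
theorem D194691 : act 3 n104015 = n194691 := rfl
theorem F394102 : act 5 n194691 = n144802 := d6_2 F307497 D194691 F338491
theorem F394103 : act 6 n194691 = n192987 := d7_2 F274859 D194691 (iv3 F388441)
theorem F394104 : act 7 n194691 = n192773 := d8_2 F289426 D194691 (iv3 D192773)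
theorem F394105 : act 2 n193015 = n194691 := d3_3 F394103 (iv2 F388440) F388521
theorem F394106 : act 0 n194691 = n192966 := d21_4 (iv5 F357835) F357832 (iv5 F388439) (iv6 F394103) (iv6 D192966) (iv5 D101041) (iv1 D47074) D47075 (iv6 F107114) D150115
theorem F394107 : act 1 n194691 = n193016 := d15_1 (iv0 F394106) (iv7 D193016) (iv2 F388367)
def n194692 : Q := act 4 n104118
theorem D194692 : act 4 n104118 = n194692 := rfl
theorem F394108 : act 2 n194692 = n157613 := d1_1 D194692 F310133 (iv2 F159591)
theorem F394109 : act 3 n194692 = n188959 := d5_1 D194692 F375258 (iv3 F388248) F388249 F277322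
theorem F394110 : act 5 n194692 = n154693 := d9_2 D104118 D194692 F242860 (iv5 F185293) (iv4 D73299) (iv5 D33725) (iv4 F52968) D73278 D154596 F242670 F231684 F105555 (iv4 F185279) (iv5 F110017) (iv4 F306384)
theorem F394111 : act 6 n194692 = n104120 := d10_2 (iv6 F159592) D194692 (iv4 D104120)
theorem F394112 : act 7 n194692 = n154692 := d11_2 (iv7 F308295) D194692 F242858
theorem F394113 : act 0 n194692 = n157616 := d17_0 (iv5 F359318) F344026 (iv5 F338941) F220831 (iv5 F338929) F240483 (iv5 F242668) (iv0 F308293) D194692
theorem F394114 : act 1 n194692 = n153292 := d18_6 (iv1 F74391) (iv4 F306902) (iv1 F110015) (iv4 F306384) D104118 D194692 (iv4 D153292) (iv0 F306612) F74466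
def n194693 : Q := act 3 n104120
theorem D194693 : act 3 n104120 = n194693 := rfl
theorem F394115 : act 4 n194693 = n188687 := d5_2 D104120 D194693 F374458 (iv4 D187739) F139327
theorem F394116 : act 5 n194693 = n190194 := d6_2 F367197 D194693 (iv3 D190194)
theorem F394117 : act 6 n194693 = n188959 := d7_2 F394111 D194693 (iv3 F394109)
theorem F394118 : act 7 n194693 = n188684 := d8_2 (iv7 F159599) D194693 (iv3 F374445)
theorem F394119 : act 0 n194693 = n189060 := d20_4 F145072 F145070 D104120 D194693 F375620 (iv4 D128010) (iv1 D60152) D60153 (iv3 F352712) (iv1 F156007)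
theorem F394120 : act 0 n189059 = n194693 := d20_4 (iv4 D74362) (iv1 F79267) (iv4 F167659) (iv3 F384865) (iv3 D194693) (iv4 D104120) (iv1 F145065) F145066 D101440 F352677
theorem F394121 : act 2 n189062 = n194693 := d15_3 (iv0 F394120) (iv0 D189059) D189062
theorem F394122 : act 1 n190194 = n141827 := d17_6 (iv1 D189142) (iv5 D93297) (iv1 F142807) (iv5 F374459) (iv4 F394115) F394116 (iv5 D141827) D141826 F375861
def n194694 : Q := act 5 n104126
theorem D194694 : act 5 n104126 = n194694 := rfl
theorem F394123 : act 2 n194694 = n173813 := d2_1 D194694 (iv5 D173813) (iv2 F310297)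
theorem F394124 : act 3 n194694 = n104128 := d6_1 D194694 (iv5 D104128) D104126
theorem F394125 : act 7 n194694 = n173857 := d13_2 (iv7 F307375) D194694 F312378
theorem F394126 : act 4 n194694 = n173859 := d16_2 (iv4 F310298) D194694 F272502 F128174 F59144 (iv4 F59138) (iv5 F128126) (iv7 D83115) (iv2 F128087)
def n194695 : Q := act 4 n104128
theorem D194695 : act 4 n104128 = n194695 := rfl
theorem F394127 : act 2 n194695 = n161173 := d1_1 D194695 F332007 (iv2 F307376)
theorem F394128 : act 5 n194695 = n152239 := d9_2 D104128 D194695 (iv4 F317078) (iv5 F300770) F300769 F306270 F281642 D104133 (iv4 F336289) F224068 F325793 F312373 (iv4 F303573) F306265 F232862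
theorem F394129 : act 7 n194695 = n184286 := d11_2 (iv7 F307377) D194695 (iv4 D184286)
theorem F394130 : act 0 n194695 = n133074 := d17_0 (iv5 D133074) (iv1 F334204) (iv5 F315035) (iv4 D72982) (iv5 D33636) D33635 D72978 (iv0 F307356) D194695
theorem F394131 : act 1 n194695 = n154140 := d18_6 (iv1 D41110) (iv4 F60972) D86486 F232862 D104128 D194695 (iv4 D154140) F306443 (iv5 D88059)
theorem F394132 : act 6 n126892 = n194695 := d21_3 (iv5 D60207) D60205 (iv5 F333393) F394130 F334213 (iv5 D162819) (iv1 D78266) D78268 (iv6 F336613) (iv1 D128117)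
def n194696 : Q := act 6 n104128
theorem D194696 : act 6 n104128 = n194696 := rfl
theorem F394133 : act 2 n194696 = n184272 := d3_1 D194696 (iv6 D184272) (iv2 F307376)
theorem F394134 : act 4 n194696 = n126892 := d10_1 D194696 F394132 (iv4 D194695)
def n194697 : Q := act 5 n104139
theorem D194697 : act 5 n104139 = n194697 := rfl
theorem F394135 : act 2 n194697 = n184316 := d2_1 D194697 (iv5 D184316) F159625
theorem F394136 : act 3 n194697 = n192020 := d6_1 D194697 F385229 (iv3 F159624)
theorem F394137 : act 4 n194697 = n193739 := d9_1 D194697 (iv5 F390857) F367955 F329814 (iv4 F222718) F357204 F159075 D189907 (iv4 F392440) F392438 F374413 F374412 F365273 (iv5 F386687) F386686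
theorem F394138 : act 7 n194697 = n183920 := d13_2 (iv7 F159627) D194697 (iv5 D183920)
theorem F394139 : act 0 n194697 = n150897 := d17_2 D104139 D194697 F328507 (iv4 F357433) (iv5 F357432) F380509 F380508 F148299 (iv4 F75735)
theorem F394140 : act 1 n194697 = n104147 := d17_8 (iv1 F373262) (iv5 D188389) (iv1 F367117) (iv5 F387995) F387996 F354449 F159626 D194697 (iv4 F329993)
def n194698 : Q := act 6 n104140
theorem D194698 : act 6 n104140 = n194698 := rfl
theorem F394141 : act 3 n194698 = n104144 := d7_1 D194698 (iv6 D104144) (iv3 F159628)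
theorem F394142 : act 4 n194698 = n194398 := d10_1 D194698 (iv6 D194398) (iv4 F349155)
theorem F394143 : act 5 n194698 = n183505 := d12_1 D194698 (iv6 D183505) F294500 (iv6 F293905) D104140
def n194699 : Q := act 6 n104143
theorem D194699 : act 6 n104143 = n194699 := rfl
theorem F394144 : act 2 n194699 = n120044 := d3_1 D194699 (iv6 D120044) (iv2 F329731)
theorem F394145 : act 3 n194699 = n155755 := d7_1 D194699 (iv6 D155755) (iv3 F329732)
theorem F394146 : act 4 n194699 = n104144 := d10_1 D194699 (iv6 D104144) D104143
theorem F394147 : act 5 n194699 = n162958 := d12_1 D194699 (iv6 D162958) D162957 (iv6 F355173) F293906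
theorem F394148 : act 0 n194699 = n113156 := d21_4 F294116 D103255 F293906 D194699 (iv6 F360177) (iv5 F360171) (iv1 F333392) (iv5 F339295) (iv6 D120005) (iv1 F329032)
theorem F394149 : act 0 n126640 = n194699 := d21_4 (iv5 F324039) (iv1 F325312) (iv5 D126639) D126640 (iv6 D194699) (iv5 F293906) (iv1 F158499) (iv5 F294744) F334194 (iv1 F203703)
def n194700 : Q := act 0 n104144
theorem D194700 : act 0 n104144 = n194700 := rfl
def n194701 : Q := act 1 n104144
theorem D194701 : act 1 n104144 = n194701 := rfl
theorem F394150 : act 1 n194701 = n184315 := d15_1 D194701 (iv7 D184315) (iv2 F159642)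
def n194702 : Q := act 7 n104144
theorem D194702 : act 7 n104144 = n194702 := rfl
theorem F394151 : act 2 n194702 = n184315 := d4_1 D194702 (iv7 D184315) (iv2 F159642)
theorem F394152 : act 5 n194702 = n183511 := d13_1 D194702 (iv7 D183511) (iv5 F159643)
theorem F394153 : act 6 n194702 = n184330 := d14_1 D194702 (iv7 D184330) (iv6 D87916) (iv7 F75738) D104144
theorem F394154 : act 1 n184315 = n194700 := d15_0 (iv0 D194700) D194702 F394151
theorem F394155 : act 1 n184314 = n194702 := d15_1 D184314 (iv7 D194702) F159642
theorem F394156 : act 1 n194702 = n184313 := d15_0 (iv0 D184313) D184315 (iv2 F394151)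
def n194703 : Q := act 6 n104147
theorem D194703 : act 6 n104147 = n194703 := rfl
theorem F394157 : act 3 n194703 = n104148 := d7_1 D194703 (iv6 D104148) D104147
theorem F394158 : act 4 n194703 = n192849 := d10_1 D194703 (iv6 D192849) F329993
theorem F394159 : act 5 n194703 = n191352 := d12_1 D194703 F383166 (iv5 F331230) F357430 F292850
theorem F394160 : act 0 n193429 = n194703 := d17_0 F394159 F383167 D193432 F389817 (iv5 D101874) F153538 (iv5 F385716) F385719 (iv4 F389811)
theorem F394161 : act 1 n193426 = n194703 := d17_6 (iv1 D47281) (iv5 D22732) D22730 D47273 D101645 D193426 F394159 F383168 (iv4 D101674)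
def n194704 : Q := act 0 n104148
theorem D194704 : act 0 n104148 = n194704 := rfl
def n194705 : Q := act 1 n104148
theorem D194705 : act 1 n104148 = n194705 := rfl
theorem F394162 : act 1 n194705 = n162825 := d15_1 D194705 F329244 (iv2 F159651)
def n194706 : Q := act 7 n104148
theorem D194706 : act 7 n104148 = n194706 := rfl
theorem F394163 : act 2 n194706 = n162825 := d4_1 D194706 F329244 (iv2 F159651)
theorem F394164 : act 4 n194706 = n162821 := d11_1 D194706 (iv7 F336610) F336607
theorem F394165 : act 6 n194706 = n184349 := d14_1 D194706 (iv7 D184349) (iv6 D87923) (iv7 F133445) D104148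
theorem F394166 : act 1 n162825 = n194704 := d15_0 (iv0 D194704) D194706 F394163
theorem F394167 : act 1 n184338 = n194706 := d15_1 D184338 (iv7 D194706) F159651
theorem F394168 : act 1 n194706 = n184337 := d15_0 (iv0 D184337) (iv7 F329244) (iv2 F394163)
def n194707 : Q := act 0 n104149
theorem D194707 : act 0 n104149 = n194707 := rfl
theorem F394169 : act 4 n194707 = n153922 := d18_3 F339299 F329044 D194707 F241921 F109334 F109306 (iv4 F307124) (iv0 F308983) D128050
theorem F394170 : act 2 n184347 = n194707 := d15_3 (iv0 D194707) (iv0 F339294) F364281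
theorem F394171 : act 7 n194707 = n153921 := d4_2 F364281 F394170 F241919
theorem F394172 : act 1 n184349 = n194707 := d15_1 F339296 F394171 F241919
def n194708 : Q := act 7 n104149
theorem D194708 : act 7 n104149 = n194708 := rfl
theorem F394173 : act 2 n194708 = n184349 := d4_1 D194708 (iv7 D184349) (iv2 F159652)
theorem F394174 : act 3 n194708 = n150687 := d8_1 D194708 (iv7 F237235) F362975
theorem F394175 : act 4 n194708 = n128117 := d11_1 D194708 F339298 F329044
theorem F394176 : act 6 n194708 = n162825 := d14_1 D194708 F329244 (iv6 D87920) F133444 D104149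
theorem F394177 : act 1 n153921 = n194708 := d15_1 (iv0 F358554) (iv7 D194708) F159652
theorem F394178 : act 1 n194708 = n184347 := d15_1 F394177 (iv7 F364281) (iv2 F241919)
def n194709 : Q := act 4 n104167
theorem D194709 : act 4 n104167 = n194709 := rfl
theorem F394179 : act 2 n194709 = n115074 := d1_1 D194709 F333554 (iv2 F307758)
theorem F394180 : act 6 n194709 = n104169 := d10_2 (iv6 F159693) D194709 (iv4 D104169)
theorem F394181 : act 7 n194709 = n119105 := d11_2 (iv7 F307759) D194709 F187375
theorem F394182 : act 5 n194709 = n119106 := d16_1 D194709 F187377 F86722 F42436 (iv5 F42476) (iv4 F86786) (iv5 F187535) (iv7 D119185) (iv2 F307758)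
theorem F394183 : act 0 n194709 = n131160 := d17_0 (iv5 F215037) F215038 D157393 F247870 (iv5 D131149) F112355 D157401 (iv0 F307756) D194709
theorem F394184 : act 1 n194709 = n123929 := d18_6 (iv1 F95897) (iv4 D55616) F43275 (iv4 F305754) D104167 D194709 (iv4 D123929) D123928 F314904
theorem F394185 : act 0 n108136 = n136573 := d19_12 F187378 (iv5 F394182) (iv4 D194709) F159692 (iv1 F307400) (iv5 D58360) (iv4 D27784) D27783 (iv1 F232423) (iv5 F312279) F210265 D108136 F352946 F174599 (iv3 F352908) F329288 (iv5 F95778) (iv4 F209195) (iv3 D130617)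
def n194710 : Q := act 0 n104178
theorem D194710 : act 0 n104178 = n194710 := rfl
theorem F394186 : act 5 n194710 = n124140 := d17_3 D48206 D104178 D194710 F313360 (iv5 D74477) F53643 F222374 (iv0 D65062) (iv4 F307751)
theorem F394187 : act 2 n124777 = n194710 := d15_3 (iv0 D194710) F366781 (iv7 F200447)
theorem F394188 : act 1 n104183 = n194710 := d15_0 (iv0 D194710) F308566 (iv2 F308569)
theorem F394189 : act 7 n194710 = n124676 := d15_2 (iv0 F307398) F394188 F199441
theorem F394190 : act 3 n124142 = n194710 := d8_3 F394189 F366497 F318992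
def n194711 : Q := act 5 n104181
theorem D194711 : act 5 n104181 = n194711 := rfl
theorem F394191 : act 3 n194711 = n104183 := d6_1 D194711 (iv5 D104183) D104181
theorem F394192 : act 7 n194711 = n184035 := d13_2 (iv7 F308568) D194711 (iv5 D184035)
theorem F394193 : act 0 n194711 = n153944 := d17_2 F316607 D194711 (iv5 D153944) (iv4 F312103) F208664 (iv0 D29554) (iv5 F47337) (iv0 F98859) D132770
def n194712 : Q := act 4 n104183
theorem D194712 : act 4 n104183 = n194712 := rfl
theorem F394194 : act 2 n194712 = n123770 := d1_1 D194712 F338865 (iv2 F308569)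
theorem F394195 : act 7 n194712 = n123769 := d11_2 (iv7 F308570) D194712 F338874
theorem F394196 : act 0 n194712 = n123694 := d18_2 (iv1 F394188) D194712 (iv4 D123694) (iv5 D57662) F44444 D27774 D58317 F198599 (iv5 F394186)
theorem F394197 : act 1 n194712 = n123773 := d18_6 (iv1 F73707) (iv4 F302081) F190594 (iv4 F305364) D104183 D194712 F198251 F306665 (iv5 D88006)
def n194713 : Q := act 5 n104187
theorem D194713 : act 5 n104187 = n194713 := rfl
theorem F394198 : act 2 n194713 = n156324 := d2_1 D194713 F350384 (iv2 F159711)
theorem F394199 : act 3 n194713 = n188943 := d6_1 D194713 F375231 F371690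
theorem F394200 : act 4 n194713 = n156320 := d9_1 D194713 (iv5 D156320) F111566 D74379 (iv4 F309285) (iv5 F134771) (iv4 F286008) (iv5 F350383) (iv4 D138476) (iv5 D65043) F48969 D30558 (iv4 F307751) D48208 D104187
theorem F394201 : act 0 n194713 = n111753 := d17_2 F386071 D194713 F362328 (iv4 D123761) F302082 (iv0 D46645) D46647 D99889 D192222
theorem F394202 : act 0 n188951 = n194713 := d21_7 F294722 D103620 (iv5 F345147) F362783 F388605 (iv6 F388604) F375242 (iv5 D194713) F159712 (iv1 F153804)
theorem E103592 : n188943 = n188930 := ((c5_5 F394200 (iv3 F371963) (iv4 D187967) F376566 D188930 (iv3 F394199))).symm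
theorem F394203 : act 1 n188930 = n92921 := (sb E103592 (iv0 D188943))
theorem F394204 : act 3 n188930 = n194713 := (sb E103592 (iv3 F394199))
theorem F394205 : act 5 n188930 = n187848 := (sb E103592 F375231)
theorem F394206 : act 3 n133973 = n188925 := d20_9 F143282 D92912 D188930 F394204 F394201 (iv3 D111753) D111754 (iv1 F345275) (iv4 F215902) (iv1 D188925)
theorem F394207 : act 6 n188925 = n133972 := d7_2 D133973 F394206 F215899
theorem F394208 : act 0 n152053 = n188709 := d20_10 F374509 (iv1 F394203) (iv4 D188930) (iv3 F376566) (iv1 F370779) F370774 F238545 (iv1 D71685) D71686 D152053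
theorem F394209 : act 1 n152053 = n189550 := d15_1 (iv0 F394208) (iv7 D189550) (iv2 F374507)
def n194714 : Q := act 7 n104187
theorem D194714 : act 7 n104187 = n194714 := rfl
theorem F394210 : act 2 n194714 = n184062 := d4_1 D194714 (iv7 D184062) (iv2 F159711)
theorem F394211 : act 4 n194714 = n104188 := d11_1 D194714 (iv7 D104188) D104187
theorem F394212 : act 1 n115773 = n194714 := d15_1 (iv0 F331046) (iv7 D194714) F159711
theorem F394213 : act 1 n194714 = n123754 := d15_1 F394212 (iv7 F386069) F386067
def n194715 : Q := act 3 n104189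
theorem D194715 : act 3 n104189 = n194715 := rfl
theorem F394214 : act 5 n194715 = n194568 := d6_2 F294257 D194715 (iv3 D194568)
theorem F394215 : act 7 n194715 = n184080 := d8_2 (iv7 F159719) D194715 (iv3 D184080)
def n194716 : Q := act 7 n104190
theorem D194716 : act 7 n104190 = n194716 := rfl
theorem F394216 : act 2 n194716 = n184079 := d4_1 D194716 (iv7 D184079) (iv2 F159722)
theorem F394217 : act 4 n194716 = n116624 := d11_1 D194716 (iv7 F225039) F358476
theorem F394218 : act 5 n194716 = n183153 := d13_1 D194716 (iv7 D183153) (iv5 F159723)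
theorem F394219 : act 6 n194716 = n184086 := d14_1 D194716 (iv7 D184086) (iv6 D87806) (iv7 F75774) D104190
theorem F394220 : act 1 n141891 = n194716 := d15_1 (iv0 F358552) (iv7 D194716) F159722
theorem F394221 : act 1 n194716 = n141894 := d15_1 F394220 F224940 (iv2 F224934)
def n194717 : Q := act 0 n104191
theorem D194717 : act 0 n104191 = n194717 := rfl
theorem F394222 : act 4 n194717 = n140574 := d18_3 (iv1 F358550) F286567 D194717 (iv5 F345109) D187984 (iv0 F372031) (iv4 F206038) (iv0 D114364) D114367
theorem F394223 : act 6 n140573 = n194717 := d10_0 F394222 (iv6 D140574) D140573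
theorem F394224 : act 7 n184097 = n194717 := d11_0 F394222 (iv7 F372006) F372014
theorem F394225 : act 2 n194717 = n184096 := d15_3 (iv0 D184096) D184097 F394224
theorem F394226 : act 4 n184096 = n187552 := d16_0 F370780 (iv4 F384914) F384915 (iv4 F218621) F338918 F384919 (iv5 F358625) F394224 F394225
theorem F394227 : act 7 n187980 = n184096 := d4_2 (iv7 F394224) F372013 (iv2 F394225)
theorem F394228 : act 1 n184098 = n194717 := d15_1 F372012 (iv7 F394224) F372013
theorem F394229 : act 3 n184096 = n192725 := d8_1 F394227 (iv7 F387602) (iv3 F372010)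
theorem F394230 : act 4 n154588 = n185291 := d18_3 (iv1 F364099) F242658 D154588 (iv5 F393984) F394226 (iv0 F370782) F294749 (iv0 F351162) F351163
def n194718 : Q := act 7 n104191
theorem D194718 : act 7 n104191 = n194718 := rfl
theorem F394231 : act 2 n194718 = n184098 := d4_1 D194718 (iv7 D184098) (iv2 F159724)
theorem F394232 : act 4 n194718 = n127823 := d11_1 D194718 (iv7 F370510) F286567
theorem F394233 : act 5 n194718 = n185388 := d13_1 D194718 (iv7 D185388) (iv5 F159725)
theorem F394234 : act 6 n194718 = n184104 := d14_1 D194718 (iv7 D184104) (iv6 D87815) (iv7 F133395) D104191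
theorem F394235 : act 1 n184097 = n194718 := d15_1 D184097 (iv7 D194718) F159724
theorem F394236 : act 1 n194718 = n184096 := d15_1 F394235 (iv7 F394227) (iv2 F372013)
theorem F394237 : act 0 n154559 = n185388 := d21_10 (iv5 F394233) (iv1 F394235) F358625 F359645 (iv1 D154589) (iv6 D73274) (iv5 D33715) D33712 D73258 D154559
def n194719 : Q := act 0 n104193
theorem D194719 : act 0 n104193 = n194719 := rfl
theorem F394238 : act 2 n184102 = n194719 := d15_3 (iv0 D194719) (iv0 F380785) F339699
theorem F394239 : act 7 n194719 = n184103 := d4_2 F339699 F394238 F380790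
theorem F394240 : act 1 n184104 = n194719 := d15_1 F380787 F394239 F380790
def n194720 : Q := act 7 n104193
theorem D194720 : act 7 n104193 = n194720 := rfl
theorem F394241 : act 2 n194720 = n184104 := d4_1 D194720 (iv7 D184104) (iv2 F159727)
theorem F394242 : act 5 n194720 = n189897 := d13_1 D194720 (iv7 D189897) F294759
theorem F394243 : act 6 n194720 = n184098 := d14_1 D194720 (iv7 D184098) (iv6 D87812) F133394 D104193
theorem F394244 : act 1 n184103 = n194720 := d15_1 D184103 (iv7 D194720) F159727
theorem F394245 : act 1 n194720 = n184102 := d15_1 F394244 (iv7 F339699) (iv2 F380790)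
theorem F394246 : act 4 n183476 = n182771 := d18_1 (iv1 F378151) (iv1 D182771) F133890 (iv5 F75625) (iv4 F159434) D194668 F394028 F394244 F394242
def n194721 : Q := act 4 n104220
theorem D194721 : act 4 n104220 = n194721 := rfl
theorem F394247 : act 6 n194721 = n182853 := d10_2 (iv6 F343048) D194721 (iv4 D182853)
theorem F394248 : act 7 n194721 = n194442 := d11_2 (iv7 F343075) D194721 F393234
def n194722 : Q := act 6 n104229
theorem D194722 : act 6 n104229 = n194722 := rfl
theorem F394249 : act 3 n194722 = n104231 := d7_1 D194722 (iv6 D104231) (iv3 F159813)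
theorem F394250 : act 4 n194722 = n174564 := d10_1 D194722 F273427 (iv4 F328699)
theorem F394251 : act 5 n194722 = n185313 := d12_1 D194722 (iv6 D185313) (iv5 D88291) (iv6 F75825) D104229
theorem F394252 : act 1 n150576 = n194722 := d18_6 F375905 (iv4 F159249) (iv1 F349907) F241258 F110778 (iv4 F237091) F394250 (iv0 F353019) (iv5 F375903)
def n194723 : Q := act 3 n104230
theorem D194723 : act 3 n104230 = n194723 := rfl
theorem F394253 : act 2 n194723 = n189058 := d0_1 D194723 F375617 (iv2 F374443) (iv3 F374445) (iv2 F159821)
theorem F394254 : act 4 n194723 = n176587 := d5_2 D104230 D194723 (iv3 D176587) (iv4 F328699) F159813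
theorem F394255 : act 5 n194723 = n190186 := d6_2 F367196 D194723 (iv3 D190186)
theorem F394256 : act 7 n194723 = n183930 := d8_2 (iv7 F159822) D194723 (iv3 D183930)
theorem F394257 : act 0 n194723 = n193726 := d20_4 (iv4 F145066) F145064 D104230 D194723 (iv3 D193726) (iv4 D102261) (iv1 D47461) (iv4 F74482) (iv3 D47209) D47207
theorem F394258 : act 6 n189057 = n194723 := d10_0 F394254 (iv6 F347863) (iv4 F375616)
def n194724 : Q := act 6 n104230
theorem D194724 : act 6 n104230 = n194724 := rfl
theorem F394259 : act 2 n194724 = n188683 := d3_1 D194724 F374446 (iv2 F159821)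
theorem F394260 : act 3 n194724 = n189057 := d7_1 D194724 F394258 (iv3 D194723)
theorem F394261 : act 4 n194724 = n104231 := d10_1 D194724 (iv6 D104231) D104230
theorem F394262 : act 7 n194724 = n188952 := d14_2 (iv7 F159822) D194724 F375245 F248366 F310134
theorem F394263 : act 5 n188945 = n194724 := d13_3 F394262 (iv5 D188952) (iv7 F375234)
theorem F394264 : act 1 n188954 = n194724 := d15_1 D188954 F394262 F375244
theorem F394265 : act 0 n193328 = n135982 := d20_4 (iv4 F394261) (iv1 F394264) F375248 D193328 (iv3 D135982) (iv4 F111190) F111429 (iv4 F93834) (iv3 F203889) F365464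
theorem F394266 : act 1 n194724 = n188953 := d17_8 (iv1 D101458) F74485 D88284 D185296 (iv4 F375240) (iv5 D188950) F375235 F394263 F375247
def n194725 : Q := act 0 n104231
theorem D194725 : act 0 n104231 = n194725 := rfl
theorem F394267 : act 4 n194725 = n128036 := d20_0 (iv1 F389231) F389226 F156128 (iv1 F153653) F346662 (iv4 F331264) F353019 (iv4 F394250) F394249 D194725
theorem F394268 : act 1 n188955 = n194725 := d15_0 (iv0 D194725) F359652 (iv2 F375250)
def n194726 : Q := act 6 n104241
theorem D194726 : act 6 n104241 = n194726 := rfl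
theorem F394269 : act 2 n194726 = n166233 := d3_1 D194726 (iv6 D166233) (iv2 F328709)
theorem F394270 : act 3 n194726 = n104243 := d7_1 D194726 (iv6 D104243) D104241
theorem F394271 : act 4 n194726 = n166205 := d10_1 D194726 (iv6 D166205) (iv4 F328710)
theorem F394272 : act 5 n194726 = n190514 := d12_1 D194726 (iv6 D190514) (iv5 D96105) D96106 (iv5 F159834)
def n194727 : Q := act 3 n104242
theorem D194727 : act 3 n104242 = n194727 := rfl
theorem F394273 : act 4 n194727 = n166202 := d5_2 D104242 D194727 F261680 (iv4 F328710) (iv3 D104241)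
theorem F394274 : act 5 n194727 = n190166 := d6_2 F360813 D194727 (iv3 D190166)
theorem F394275 : act 7 n194727 = n191350 := d8_2 (iv7 F159838) D194727 F383156
def n194728 : Q := act 6 n104242
theorem D194728 : act 6 n104242 = n194728 := rfl
theorem F394276 : act 2 n194728 = n193237 := d3_1 D194728 (iv6 D193237) (iv2 F159837)
theorem F394277 : act 4 n194728 = n104243 := d10_1 D194728 (iv6 D104243) D104242
def n194729 : Q := act 0 n104243
theorem D194729 : act 0 n104243 = n194729 := rfl
theorem F394278 : act 2 n136561 = n194729 := d15_3 (iv0 D194729) F358540 D136561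
theorem F394279 : act 7 n194729 = n136553 := d4_2 D136561 F394278 F219647
theorem F394280 : act 1 n136559 = n194729 := d15_1 D136559 F394279 F219647
def n194730 : Q := act 7 n104243
theorem D194730 : act 7 n104243 = n194730 := rfl
theorem F394281 : act 2 n194730 = n136559 := d4_1 D194730 F358541 F284744
theorem F394282 : act 5 n194730 = n190519 := d13_1 D194730 (iv7 D190519) (iv5 F159841)
def n194731 : Q := act 0 n104245
theorem D194731 : act 0 n104245 = n194731 := rfl
theorem F394283 : act 6 n194731 = n136242 := d21_5 F293044 F291920 F134175 D104245 D194731 F351799 F286203 D87387 F134156 D87745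
theorem F394284 : act 3 n136244 = n194731 := d7_3 F394283 (iv3 D136242) D136244
def n194732 : Q := act 1 n104245
theorem D194732 : act 1 n104245 = n194732 := rfl
def n194733 : Q := act 7 n104245
theorem D194733 : act 7 n104245 = n194733 := rfl
theorem F394285 : act 5 n194733 = n162825 := d13_1 D194733 F329244 (iv5 F159846)
theorem F394286 : act 6 n194733 = n136559 := d14_1 D194733 F358541 F284746 (iv7 F134174) D104245
def n194734 : Q := act 5 n104247
theorem D194734 : act 5 n104247 = n194734 := rfl
theorem F394287 : act 2 n194734 = n107286 := d2_1 D194734 (iv5 F381491) F381489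
theorem F394288 : act 6 n194734 = n190160 := d12_2 D104247 D194734 (iv5 D190160) F147358 (iv5 F293013)
theorem F394289 : act 7 n194734 = n107285 := d13_2 (iv7 F329319) D194734 F350036
theorem F394290 : act 0 n107288 = n194734 := d19_0 (iv5 D194734) F159847 F328972 (iv1 F101959) (iv5 F329156) F184021 F177056 (iv1 F162485) F162483 (iv4 F85115) F82793 (iv1 D52444) D52445 (iv4 F327576) F46387 D28765 F80788 (iv4 F78325) (iv3 F165352)
theorem F394291 : act 1 n107284 = n194734 := d15_0 (iv0 F394290) (iv7 D107288) (iv2 F165349)
def n194735 : Q := act 3 n104248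
theorem D194735 : act 3 n104248 = n194735 := rfl
theorem F394292 : act 5 n194735 = n114267 := d6_2 (iv5 F350768) D194735 (iv3 F355542)
theorem F394293 : act 7 n194735 = n137709 := d8_2 (iv7 F355537) D194735 (iv3 D137709)
theorem F394294 : act 4 n194735 = n137305 := d20_6 (iv4 F102076) (iv1 F103595) F100607 (iv3 F328972) D104248 D194735 (iv1 D137305) F100481 F48824 D30396
theorem F394295 : act 0 n194735 = n137873 := d20_1 (iv4 F394294) F221095 F204417 (iv1 F321559) (iv3 F110833) (iv4 F244742) F362588 (iv4 F390365) F390364 (iv1 F365457)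
theorem F394296 : act 3 n178520 = n137305 := d20_5 F53330 D33999 D74100 D155768 F350839 (iv4 F394294) F394295 F221095 F204417 (iv1 F321559)
theorem F394297 : act 6 n137305 = n178517 := d7_2 D178520 F394296 (iv3 D178517)
theorem F394298 : act 0 n176167 = n194735 := d20_1 (iv4 F275409) F394294 (iv3 F394296) F342291 F202674 F93208 (iv1 F84054) F84052 (iv3 F175484) F349922
def n194736 : Q := act 4 n104248
theorem D194736 : act 4 n104248 = n194736 := rfl
theorem F394299 : act 2 n194736 = n137715 := d1_1 D194736 (iv4 D137715) (iv2 F355536)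
theorem F394300 : act 7 n194736 = n137710 := d11_2 (iv7 F355537) D194736 (iv4 D137710)
theorem F394301 : act 1 n194736 = n191030 := d18_6 F353680 (iv4 F248339) (iv1 F355124) (iv4 F355535) (iv5 F350768) D194736 F381935 (iv0 F357253) F357254
theorem F394302 : act 0 n194736 = n147516 := d20_1 D194736 (iv4 F357295) F357299 F360688 (iv3 D64589) (iv4 F102076) (iv1 F103595) F100607 (iv3 F328972) D104248
def n194737 : Q := act 6 n104248
theorem D194737 : act 6 n104248 = n194737 := rfl
theorem F394303 : act 2 n194737 = n137717 := d3_1 D194737 (iv6 D137717) (iv2 F355536)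
theorem F394304 : act 0 n138209 = n194737 := d21_4 (iv5 D104118) (iv1 F308291) F351598 D138209 (iv6 D194737) F350768 (iv1 D153307) D153308 F240869 (iv1 F308294)
def n194738 : Q := act 0 n104250
theorem D194738 : act 0 n104250 = n194738 := rfl
theorem F394305 : act 4 n194738 = n147467 := d18_3 (iv1 D117300) (iv4 F329321) D194738 F242695 F280373 (iv0 F355131) F324052 F230100 F355127
theorem F394306 : act 1 n117463 = n194738 := d15_0 (iv0 D194738) F329322 D117463
def n194739 : Q := act 1 n104250
theorem D194739 : act 1 n104250 = n194739 := rfl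
theorem F394307 : act 1 n194739 = n117463 := d15_1 D194739 F350044 F350037
theorem F394308 : act 4 n194739 = n128210 := d17_9 F354104 (iv5 D69124) D69122 D147460 (iv4 F355535) (iv5 F350768) (iv0 D104248) D104250 D194739
theorem F394309 : act 3 n143000 = n194739 := d20_3 (iv4 D137899) D137898 (iv4 F225864) (iv1 D194739) F329320 (iv4 D54048) F41452 D31975 (iv3 F102709) (iv1 F221144)
theorem F394310 : act 6 n194739 = n128208 := d7_2 F350259 F394309 (iv3 F350265)
theorem F394311 : act 7 n194739 = n117462 := d8_2 (iv7 F225867) F394309 (iv3 F222935)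
theorem F394312 : act 2 n117462 = n194738 := d15_3 (iv0 D194738) D194739 F394311
theorem F394313 : act 2 n194739 = n117461 := d15_3 (iv0 D117461) D117462 (iv7 F394311)
theorem F394314 : act 7 n117461 = n194738 := d4_2 (iv7 F394311) F394313 (iv2 F394312)
def n194740 : Q := act 1 n104276
theorem D194740 : act 1 n104276 = n194740 := rfl
theorem F394315 : act 1 n194740 = n137811 := d15_1 D194740 (iv7 D137811) (iv2 F329326)
theorem F394316 : act 7 n194740 = n137808 := d15_2 (iv0 F390345) D194740 (iv2 F390340)
theorem F394317 : act 2 n137809 = n194740 := d4_3 F394316 (iv2 F390340) F390343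
def n194741 : Q := act 3 n104276
theorem D194741 : act 3 n104276 = n194741 := rfl
theorem F394318 : act 2 n194741 = n105595 := d0_1 D194741 F162206 (iv2 F161986) F161987 (iv2 F329326)
theorem F394319 : act 4 n194741 = n104279 := d5_2 D104276 D194741 (iv3 D104279) (iv4 D48259) (iv3 F75864)
theorem F394320 : act 6 n194741 = n105593 := d7_2 (iv6 F329327) D194741 F162204
def n194742 : Q := act 5 n104276
theorem D194742 : act 5 n104276 = n194742 := rfl
theorem F394321 : act 2 n194742 = n137810 := d2_1 D194742 (iv5 D137810) (iv2 F329326)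
def n194743 : Q := act 0 n104279
theorem D194743 : act 0 n104279 = n194743 := rfl
theorem F394322 : act 1 n141979 = n194743 := d15_0 (iv0 D194743) F381486 F381484
def n194744 : Q := act 1 n104279
theorem D194744 : act 1 n104279 = n194744 := rfl
theorem F394323 : act 1 n194744 = n141979 := d15_1 D194744 F225010 (iv2 F365463)
def n194745 : Q := act 5 n104280
theorem D194745 : act 5 n104280 = n194745 := rfl
theorem F394324 : act 2 n194745 = n106896 := d2_1 D194745 (iv5 D106896) (iv2 F329346)
theorem F394325 : act 4 n194745 = n111514 := d9_1 D194745 (iv5 F219128) (iv4 F176740) F176743 (iv4 D64728) (iv5 D30448) D30447 D64724 (iv4 F219132) F219137 (iv4 F377790) F377791 F146938 F294517 (iv4 F159902)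
theorem F394326 : act 7 n194745 = n137677 := d13_2 (iv7 F329348) D194745 (iv5 D137677)
theorem F394327 : act 1 n194745 = n137690 := d17_6 F220872 (iv5 D137697) F329588 F294517 (iv4 F159902) D194745 (iv5 F220864) (iv0 D108842) (iv4 F168835)
theorem F394328 : act 1 n111699 = n154714 := d18_8 F380724 (iv4 F380720) (iv1 F380723) F176740 F219128 (iv4 F394325) F394327 F220863 F350079
theorem F394329 : act 1 n137691 = n194745 := d15_1 D137691 F394326 F220840
theorem F394330 : act 2 n140773 = n137691 := d15_3 F394329 F394327 (iv7 F223865)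
theorem F394331 : act 5 n108843 = n137691 := d17_5 (iv1 F345469) (iv5 F294262) (iv1 F349666) (iv5 F220885) F218715 F394329 (iv5 D194745) F329345 (iv4 F103032)
theorem F394332 : act 6 n137691 = n108764 := d3_2 F355984 F394330 (iv2 F219106)
def n194746 : Q := act 3 n104297
theorem D194746 : act 3 n104297 = n194746 := rfl
theorem F394333 : act 6 n194746 = n181893 := d7_2 (iv6 F367171) D194746 (iv3 D181893)
theorem F394334 : act 0 n194746 = n194721 := d20_10 (iv4 D194721) F290791 F76042 F76041 (iv1 F62975) (iv3 F75520) (iv4 F135505) D185832 (iv4 F367170) D194746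
theorem F394335 : act 0 n194233 = n194746 := d20_4 F160318 F385138 F385135 (iv3 F392435) (iv3 D194746) F367170 (iv1 F288169) F288133 (iv3 F160390) (iv1 F161650)
def n194747 : Q := act 5 n104298
theorem D194747 : act 5 n104298 = n194747 := rfl
theorem F394336 : act 2 n194747 = n104299 := d2_1 D194747 (iv5 D104299) D104298
theorem F394337 : act 3 n194747 = n186896 := d6_1 D194747 F368449 F367239
theorem F394338 : act 7 n194747 = n190824 := d13_2 F371801 D194747 F381254
theorem F394339 : act 0 n194747 = n188536 := d17_2 F370167 D194747 (iv5 D188536) (iv4 D92431) D92432 (iv0 F288137) (iv5 D185824) F288037 (iv4 F370165)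
theorem F394340 : act 1 n194747 = n188542 := d17_6 (iv1 F114672) D159842 (iv1 F369499) (iv5 F371813) F371812 D194747 (iv5 D188542) (iv0 F142184) F71434
def n194748 : Q := act 4 n104299
theorem D194748 : act 4 n104299 = n194748 := rfl
theorem F394341 : act 0 n194748 = n191035 := d18_2 F367232 D194748 (iv4 D191035) (iv5 D97160) (iv4 F142174) (iv0 D43871) (iv4 F34026) D45335 D96975
theorem F394342 : act 1 n194748 = n191036 := d18_6 (iv1 F160381) (iv4 F369335) F369337 (iv4 F291491) D104299 D194748 (iv4 D191036) F369887 F369884
def n194749 : Q := act 6 n104299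
theorem D194749 : act 6 n104299 = n194749 := rfl
theorem F394343 : act 3 n194749 = n104303 := d7_1 D194749 (iv6 D104303) (iv3 F159919)
theorem F394344 : act 5 n194749 = n190507 := d12_1 D194749 (iv6 D190507) (iv5 D96096) F292374 D104299
def n194750 : Q := act 1 n104303
theorem D194750 : act 1 n104303 = n194750 := rfl
theorem F394345 : act 7 n194750 = n190853 := d15_2 (iv0 F378980) D194750 F381334
theorem F394346 : act 5 n190528 = n194750 := d21_6 (iv5 D44823) (iv1 F33552) D21374 D44856 D96121 D190528 (iv1 D194750) F367256 (iv6 D96098) F70428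
def n194751 : Q := act 7 n104303
theorem D194751 : act 7 n104303 = n194751 := rfl
theorem F394347 : act 5 n194751 = n190510 := d13_1 D194751 (iv7 D190510) (iv5 F367256)
def n194752 : Q := act 4 n104315
theorem D194752 : act 4 n104315 = n194752 := rfl
theorem F394348 : act 2 n194752 = n192865 := d1_1 D194752 F388059 (iv2 F370217)
theorem F394349 : act 3 n194752 = n185416 := d5_1 D194752 (iv4 F386323) F386325 (iv4 F388064) (iv3 F388067)
theorem F394350 : act 6 n194752 = n185631 := d10_2 (iv6 F370218) D194752 (iv4 D185631)
theorem F394351 : act 7 n194752 = n191270 := d11_2 F381834 D194752 F382841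
theorem F394352 : act 0 n192016 = n194752 := d20_10 (iv4 D194752) (iv1 D104315) (iv4 F290797) (iv3 F291057) F291056 (iv3 F74874) (iv4 F140522) (iv1 F352771) (iv4 F352769) (iv3 F385216)
theorem F394353 : act 1 n192868 = n194752 := d15_0 (iv0 F394352) (iv7 F391181) F391178
def n194753 : Q := act 5 n104316
theorem D194753 : act 5 n104316 = n194753 := rfl
theorem F394354 : act 2 n194753 = n104317 := d2_1 D194753 (iv5 D104317) D104316
theorem F394355 : act 7 n194753 = n190986 := d13_2 (iv7 F366988) D194753 F381804
theorem F394356 : act 1 n194753 = n190968 := d17_6 F72597 D87026 D182265 (iv5 F294479) F366986 D194753 (iv5 D190968) F149813 (iv4 F72596)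
theorem F394357 : act 0 n194753 = n190966 := d21_1 D194753 (iv5 D190966) (iv6 F370017) (iv1 D187368) (iv6 F293100) (iv5 F138378) F370211 (iv5 D187405) D187406 (iv1 F370220)
def n194754 : Q := act 4 n104317
theorem D194754 : act 4 n104317 = n194754 := rfl
theorem F394358 : act 0 n194754 = n190088 := d18_2 F365315 D194754 (iv4 D190088) (iv5 D95614) (iv4 F72592) (iv0 D46012) F34493 D45394 D97121
def n194755 : Q := act 6 n104350
theorem D194755 : act 6 n104350 = n194755 := rfl
theorem F394359 : act 3 n194755 = n104351 := d7_1 D194755 (iv6 D104351) D104350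
theorem F394360 : act 4 n194755 = n104354 := d10_1 D194755 (iv6 F363593) (iv4 F352715)
theorem F394361 : act 5 n194755 = n128043 := d12_1 D194755 (iv6 D128043) (iv5 D60162) (iv6 F94701) (iv5 F352716)
theorem F394362 : act 7 n194755 = n104351 := d14_2 F381479 D194755 (iv6 D104351) F291219 F381481
def n194756 : Q := act 0 n104351
theorem D194756 : act 0 n104351 = n194756 := rfl
def n194757 : Q := act 1 n104351
theorem D194757 : act 1 n104351 = n194757 := rfl
theorem F394363 : act 4 n194757 = n190189 := d18_7 (iv1 F382694) (iv4 F382696) (iv1 D185728) F135435 (iv5 F75899) (iv4 F159970) D194757 F381451 F381448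
def n194758 : Q := act 5 n104351
theorem D194758 : act 5 n104351 = n194758 := rfl
theorem F394364 : act 3 n194758 = n128043 := d6_1 D194758 (iv5 F394361) F394359
theorem F394365 : act 6 n194758 = n128039 := d12_2 D104351 D194758 (iv5 D128039) (iv6 F352713) F156006
theorem F394366 : act 7 n194758 = n128043 := d13_2 F394362 D194758 (iv5 F394361)
theorem F394367 : act 4 n194758 = n170860 := d16_2 (iv4 F159970) D194758 (iv5 D170860) F126257 D163413 F327190 (iv5 F381902) (iv7 D191022) (iv2 F291220)
theorem F394368 : act 3 n160437 = n194757 := d19_19 (iv1 D194757) D194758 F394367 F268469 (iv1 F132107) (iv5 D86153) (iv4 D39876) F59867 F326966 F326093 (iv4 D17098) (iv3 F21982) F27387 (iv5 F28191) D35571 F326021 (iv1 F172783) F343773 (iv4 F253431)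
theorem F394369 : act 6 n194757 = n160435 := d7_2 D160437 F394368 F253427
def n194759 : Q := act 2 n104352
theorem D194759 : act 2 n104352 = n194759 := rfl
theorem F394370 : act 7 n104353 = n194759 := d15_2 (iv0 D104352) D104353 (iv2 D194759)
def n194760 : Q := act 3 n104352
theorem D194760 : act 3 n104352 = n194760 := rfl
theorem F394371 : act 4 n124294 = n194760 := d19_2 D57943 D124294 (iv3 D194760) (iv1 F381906) F381902 (iv4 F327190) F257693 (iv1 F294044) F294045 F116030 F325943 (iv1 D24604) F325361 F28486 (iv3 D13198) (iv1 D6274) D6275 D13202 D27649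
def n194761 : Q := act 4 n104352
theorem D194761 : act 4 n104352 = n194761 := rfl
theorem F394372 : act 3 n194761 = n160420 := d5_1 D194761 (iv4 F343783) F353993 F394371 (iv3 D194760)
theorem F394373 : act 6 n160418 = n194761 := d7_0 F394372 (iv6 D160420) (iv3 F253405)
theorem F394374 : act 0 n190306 = n194761 := d21_4 (iv5 D101424) D101422 F367195 D190306 (iv6 F394373) (iv5 D160418) D160415 F379022 (iv6 D190167) (iv1 F290801)
def n194762 : Q := act 5 n104352
theorem D194762 : act 5 n104352 = n194762 := rfl
def n194763 : Q := act 6 n104352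
theorem D194763 : act 6 n104352 = n194763 := rfl
theorem F394375 : act 4 n194763 = n160418 := d10_1 D194763 F394373 (iv4 D194761)
theorem F394376 : act 5 n194763 = n176730 := d21_6 (iv5 D47846) (iv1 F290649) D23432 D48291 D104352 D194763 (iv1 F370055) F158407 (iv6 D97019) F75124
theorem F394377 : act 0 n194763 = n190295 := d21_1 (iv5 F394376) (iv5 F382078) (iv6 D191066) F159191 (iv6 F393667) (iv5 D194544) (iv1 F373467) F373464 (iv6 F370052) F370053
def n194764 : Q := act 7 n104352
theorem D194764 : act 7 n104352 = n194764 := rfl
theorem F394378 : act 2 n194764 = n104353 := d4_1 D194764 F394370 (iv2 D194759)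
def n194765 : Q := act 3 n104353
theorem D194765 : act 3 n104353 = n194765 := rfl
def n194766 : Q := act 4 n104353
theorem D194766 : act 4 n104353 = n194766 := rfl
theorem F394379 : act 0 n194766 = n190306 := d18_2 (iv1 F381905) D194766 F379339 (iv5 F367205) (iv4 F380443) (iv0 F380445) F358276 F284411 (iv5 F381902)
def n194767 : Q := act 5 n104353
theorem D194767 : act 5 n104353 = n194767 := rfl
theorem F394380 : act 6 n194767 = n188447 := d21_3 (iv5 F381902) (iv1 F381905) D194767 (iv1 F373512) (iv6 F294093) F71708 (iv1 F70982) D96557 F358279 (iv1 F284412)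
theorem F394381 : act 2 n188459 = n194767 := d3_3 F394380 F373560 D188459
theorem E103593 : n194764 = n191021 := (c2_4 (iv5 F381900) F394381 (iv5 D194767) (iv2 F394378))
theorem F394382 : act 2 n191021 = n104353 := (sb E103593 F394378)
theorem F394383 : act 7 n191021 = n104352 := (sb E103593 (iv7 D194764))
theorem F394384 : act 7 n194762 = n188459 := d13_2 F394383 D194762 F381900
theorem E103594 : n194759 = n191020 := (c15_4 (iv0 D191020) D191021 F394383 D194759)
theorem F394385 : act 2 n191020 = n104352 := (sb E103594 (iv2 D194759))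
theorem F394386 : act 7 n191020 = n104353 := (sb E103594 (iv7 F394370))
def n194768 : Q := act 6 n104353
theorem D194768 : act 6 n104353 = n194768 := rfl
def n194769 : Q := act 6 n104356
theorem D194769 : act 6 n104356 = n194769 := rfl
theorem F394387 : act 3 n194769 = n104358 := d7_1 D194769 (iv6 D104358) D104356
theorem F394388 : act 5 n194769 = n151692 := d12_1 D194769 F238571 (iv5 D93807) D93808 (iv5 F159972)
def n194770 : Q := act 1 n104358
theorem D194770 : act 1 n104358 = n194770 := rfl
theorem F394389 : act 1 n194770 = n183504 := d15_1 D194770 (iv7 F364704) (iv2 F159979)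
theorem F394390 : act 7 n194770 = n189404 := d15_2 F375733 D194770 (iv2 F376541)
theorem F394391 : act 4 n194770 = n172217 := d17_9 (iv1 F375725) (iv5 F380107) (iv1 D190550) (iv5 F147836) D190552 (iv5 F380123) (iv0 D189247) (iv5 F159980) D194770
theorem F394392 : act 3 n185784 = n194770 := d20_9 (iv4 F367665) (iv1 F367662) (iv4 F366183) F214053 D133215 (iv3 F377694) F377695 (iv1 F366376) F351700 (iv1 D194770)
theorem F394393 : act 5 n189439 = n194770 := d21_6 (iv5 D47748) (iv1 F292716) F63684 D43920 D93969 D189439 (iv1 D194770) F159980 (iv6 D93810) F293754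
theorem F394394 : act 2 n172228 = n194770 := d1_3 F394391 F270424 D172228
theorem F394395 : act 6 n193336 = n194770 := d10_0 F394391 F270426 D193336
def n194771 : Q := act 7 n104358
theorem D194771 : act 7 n104358 = n194771 := rfl
theorem F394396 : act 2 n194771 = n183504 := d4_1 D194771 (iv7 F364704) (iv2 F159979)
theorem F394397 : act 4 n194771 = n183503 := d11_1 D194771 (iv7 F367661) F367665
theorem F394398 : act 5 n194771 = n189249 := d13_1 D194771 (iv7 D189249) (iv5 F159980)
theorem F394399 : act 6 n194771 = n188913 := d14_1 D194771 (iv7 D188913) F143276 F75934 D104358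
theorem F394400 : act 1 n172228 = n194771 := d15_1 F364705 (iv7 D194771) F159979
theorem F394401 : act 1 n194771 = n189404 := d15_1 F394400 (iv7 F394390) (iv2 F394394)
def n194772 : Q := act 2 n104359
theorem D194772 : act 2 n104359 = n194772 := rfl
theorem F394402 : act 5 n194772 = n159804 := d2_2 (iv5 F159981) D194772 (iv2 F251947)
theorem F394403 : act 6 n194772 = n105369 := d3_2 (iv6 F251769) D194772 F209208
theorem F394404 : act 7 n194772 = n188791 := d4_2 (iv7 F159982) D194772 (iv2 F374903)
theorem F394405 : act 1 n194772 = n113927 := d15_0 (iv0 F283807) (iv7 F159982) D194772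
theorem F394406 : act 1 n188772 = n194772 := d15_0 F394405 (iv7 F177289) (iv2 F374830)
def n194773 : Q := act 6 n104360
theorem D194773 : act 6 n104360 = n194773 := rfl
theorem F394407 : act 2 n194773 = n188912 := d3_1 D194773 F375184 F160056
theorem F394408 : act 3 n194773 = n183511 := d7_1 D194773 (iv6 F380794) F380793
theorem F394409 : act 4 n194773 = n104361 := d10_1 D194773 (iv6 D104361) D104360
theorem F394410 : act 7 n194773 = n183505 := d14_2 (iv7 F159983) D194773 (iv6 D183505) F294501 (iv6 F364703)
theorem F394411 : act 0 n194773 = n138001 := d21_4 (iv5 F369218) F369219 F365790 D194773 (iv6 D138001) (iv5 F220028) (iv1 F220272) F220271 F139357 D90545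
def n194774 : Q := act 1 n104361
theorem D194774 : act 1 n104361 = n194774 := rfl
theorem F394412 : act 1 n194774 = n188913 := d15_1 D194774 (iv7 D188913) (iv2 F159986)
theorem F394413 : act 7 n194774 = n113774 := d15_2 (iv0 F371420) D194774 (iv2 F371417)
theorem F394414 : act 6 n113989 = n194774 := d21_3 F371433 (iv1 F161845) (iv5 F251208) (iv1 D194774) (iv6 D104361) (iv5 F75908) (iv1 F75904) F65457 D90544 D187765
theorem F394415 : act 2 n194774 = n188911 := d3_1 F394414 (iv6 F375180) (iv2 F354889)
def n194775 : Q := act 7 n104361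
theorem D194775 : act 7 n104361 = n194775 := rfl
theorem F394416 : act 2 n194775 = n188913 := d4_1 D194775 (iv7 D188913) (iv2 F159986)
theorem F394417 : act 3 n194775 = n105368 := d8_1 D194775 F209207 (iv3 F251770)
theorem F394418 : act 4 n194775 = n183505 := d11_1 D194775 (iv7 F394410) F394409
theorem F394419 : act 5 n194775 = n188649 := d13_1 D194775 (iv7 D188649) (iv5 F159987)
theorem F394420 : act 6 n194775 = n183504 := d14_1 D194775 (iv7 F364704) F144770 (iv7 F75907) D104361
theorem F394421 : act 1 n188911 = n194775 := d15_1 D188911 (iv7 D194775) F159986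
theorem F394422 : act 1 n194775 = n113774 := d15_1 F394421 (iv7 F394413) F394415
def n194776 : Q := act 3 n104362
theorem D194776 : act 3 n104362 = n194776 := rfl
theorem F394423 : act 2 n194776 = n134246 := d0_1 D194776 (iv3 D134246) F216030 F359592 F159990
def n194777 : Q := act 6 n104363
theorem D194777 : act 6 n104363 = n194777 := rfl
theorem F394424 : act 3 n194777 = n134250 := d7_1 D194777 (iv6 D134250) (iv3 F349135)
theorem F394425 : act 4 n194777 = n188739 := d10_1 D194777 (iv6 D188739) (iv4 F159993)
theorem F394426 : act 7 n194777 = n141291 := d14_2 (iv7 F159992) D194777 F361233 (iv7 F361753) F361757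
theorem F394427 : act 0 n194777 = n136005 := d21_4 (iv5 F292380) (iv1 F288594) F365793 D194777 (iv6 D136005) (iv5 D63950) D63947 F100515 (iv6 F100514) D90450
theorem F394428 : act 5 n141157 = n194777 := d13_3 F394426 (iv5 D141291) (iv7 F224144)
def n194778 : Q := act 0 n104364
theorem D194778 : act 0 n104364 = n194778 := rfl
theorem F394429 : act 6 n194778 = n186795 := d21_5 D137414 (iv1 F352590) (iv5 D134515) (iv6 F328609) D194778 F368036 F344358 (iv5 F329583) (iv6 F327497) F327494
theorem F394430 : act 1 n134551 = n194778 := d15_0 (iv0 D194778) (iv7 F160065) F365519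
theorem F394431 : act 2 n134548 = n194778 := d3_3 F394429 (iv2 F368037) (iv6 F338478)
theorem F394432 : act 7 n137199 = n194778 := d14_0 F394429 F368039 (iv6 F350296) F350297 D137199
theorem E103595 : n137199 = n134549 := ((c15_2 (iv0 D134548) D134549 F394432 (iv2 F394431))).symm
theorem F394433 : act 6 n134549 = n64487 := (sb E103595 (iv6 D137199))
theorem F394434 : act 7 n134549 = n194778 := (sb E103595 F394432)
theorem F394435 : act 6 n137197 = n130222 := d10_2 F394433 D137197 (iv4 F380791)
theorem F394436 : act 2 n130222 = n132805 := d3_1 F394435 (iv6 F362706) F362711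
def n194779 : Q := act 1 n104364
theorem D194779 : act 1 n104364 = n194779 := rfl
theorem F394437 : act 1 n194779 = n134551 := d15_1 D194779 (iv7 D134551) (iv2 F328607)
theorem F394438 : act 7 n194779 = n134548 := d15_2 (iv0 D194778) D194779 F394431
theorem F394439 : act 4 n132805 = n194779 := d20_6 F135468 (iv1 D47575) D47576 D102576 F321693 D132805 (iv1 D194779) F328608 F328223 D88488
theorem F394440 : act 2 n194779 = n134549 := d1_1 F394439 F380791 F394436
theorem F394441 : act 6 n194779 = n136011 := d10_2 F362706 F394439 (iv4 F362705)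
theorem F394442 : act 0 n130224 = n132805 := d20_10 F394439 (iv1 D194779) F328608 F328223 D88488 D185796 F348862 F348869 F208759 (iv3 F208745)
theorem F394443 : act 1 n130212 = n132805 := d15_0 (iv0 F394442) (iv7 D130224) (iv2 F208733)
def n194780 : Q := act 0 n104366
theorem D194780 : act 0 n104366 = n194780 := rfl
theorem F394444 : act 5 n194780 = n187445 := d17_1 D194780 F370357 F368709 F364336 (iv5 F251178) (iv0 F355335) (iv5 F355334) (iv0 D104367) (iv4 F159998)
theorem F394445 : act 4 n194780 = n134463 := d18_3 (iv1 D104368) (iv4 F159998) D194780 (iv5 F332616) D159543 F251275 (iv4 F364186) (iv0 F364185) F364191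
theorem F394446 : act 3 n194780 = n134215 := d20_5 F48002 F211575 D63213 (iv3 F364201) D194780 F216254 (iv1 F203633) D126599 (iv3 F208366) F208364
theorem F394447 : act 6 n194780 = n136929 := d21_5 D92753 (iv1 F293256) F293257 D104366 D194780 F368482 F338093 F374771 (iv6 D188763) (iv1 D92751)
theorem F394448 : act 2 n108811 = n194780 := d15_3 (iv0 D194780) F364200 (iv7 F168752)
theorem F394449 : act 1 n110806 = n194780 := d15_0 (iv0 D194780) F364203 (iv2 F368898)
theorem F394450 : act 7 n194780 = n110807 := d15_2 D110806 F394449 (iv2 D110807)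
def n194781 : Q := act 4 n104368
theorem D194781 : act 4 n104368 = n194781 := rfl
theorem F394451 : act 2 n194781 = n134307 := d1_1 D194781 F371214 F371217
theorem F394452 : act 3 n194781 = n128948 := d5_1 D194781 (iv4 D128948) D128947 F207170 (iv3 F364192)
theorem F394453 : act 5 n194781 = n176490 := d16_1 D194781 F275806 (iv5 F326537) F326536 D134597 (iv4 F355306) (iv5 F355334) (iv7 F371213) F371217
theorem F394454 : act 0 n194781 = n134055 := d18_2 (iv1 F371224) D194781 (iv4 F336945) (iv5 F142438) F368694 (iv0 D186966) (iv4 F368690) F368699 (iv5 F371222)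
def n194782 : Q := act 2 n104407
theorem D194782 : act 2 n104407 = n194782 := rfl
theorem F394455 : act 3 n194782 = n194772 := d0_2 D104407 D194782 (iv2 D194772) (iv3 D104359) F75932
theorem F394456 : act 4 n194782 = n135554 := d1_2 F335959 D194782 F349102
theorem F394457 : act 5 n194782 = n194017 := d2_2 F369181 D194782 F391785
theorem F394458 : act 6 n194782 = n146321 := d3_2 (iv6 F335958) D194782 F229756
theorem F394459 : act 7 n194782 = n187740 := d4_2 (iv7 F160055) D194782 (iv2 F371383)
theorem F394460 : act 1 n194782 = n187738 := d15_0 (iv0 F371379) (iv7 F160055) D194782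
theorem F394461 : act 1 n187737 = n194782 := d15_0 F394460 F371378 (iv2 F371373)
def n194783 : Q := act 3 n104409
theorem D194783 : act 3 n104409 = n194783 := rfl
theorem F394462 : act 5 n194783 = n187154 := d6_2 (iv5 F365794) D194783 (iv3 D187154)
theorem F394463 : act 7 n194783 = n194776 := d8_2 (iv7 F160063) D194783 (iv3 D194776)
def n194784 : Q := act 6 n104409
theorem D194784 : act 6 n104409 = n194784 := rfl
theorem F394464 : act 2 n194784 = n194777 := d3_1 D194784 (iv6 D194777) F160061
theorem F394465 : act 4 n194784 = n187149 := d10_1 D194784 (iv6 D187149) F290705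
def n194785 : Q := act 5 n104410
theorem D194785 : act 5 n104410 = n194785 := rfl
theorem F394466 : act 3 n194785 = n104411 := d6_1 D194785 (iv5 D104411) D104410
theorem F394467 : act 7 n194785 = n186003 := d13_2 (iv7 F160065) D194785 (iv5 F367184)
theorem F394468 : act 0 n194785 = n137395 := d21_1 D194785 (iv5 D137395) (iv6 D64581) (iv1 F48826) D30425 F329339 D47417 (iv5 F338449) (iv6 F338478) (iv1 F365520)
def n194786 : Q := act 6 n104411
theorem D194786 : act 6 n104411 = n194786 := rfl
theorem F394469 : act 2 n194786 = n186998 := d3_1 D194786 F368791 F293261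
theorem F394470 : act 4 n194786 = n186006 := d10_1 D194786 (iv6 D186006) (iv4 F292346)
def n194787 : Q := act 3 n104413
theorem D194787 : act 3 n104413 = n194787 := rfl
theorem F394471 : act 4 n194787 = n193995 := d5_2 (iv4 F375702) D194787 F391681 (iv4 D191795) (iv3 F375700)
theorem F394472 : act 5 n194787 = n151691 := d6_2 F377250 D194787 (iv3 F377248)
theorem F394473 : act 7 n194787 = n146418 := d8_2 (iv7 F177281) D194787 F229747
theorem F394474 : act 6 n193994 = n194787 := d14_5 F394473 (iv6 D146418) F104858 D113894 (iv7 F391674)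
theorem F394475 : act 6 n104413 = n193350 := d7_2 F394474 (iv3 D194787) (iv3 F391677)
theorem F394476 : act 5 n193350 = n192783 := d12_1 F394475 (iv6 F387750) F371613 (iv6 F377251) F377250
def n194788 : Q := act 3 n104445
theorem D194788 : act 3 n104445 = n194788 := rfl
theorem F394477 : act 5 n194788 = n188762 := d6_2 (iv5 F160121) D194788 (iv3 D188762)
theorem F394478 : act 7 n194788 = n192527 := d8_2 F292381 D194788 (iv3 D192527)
theorem F394479 : act 0 n194788 = n187699 := d19_4 F63434 D48326 D104445 D194788 F371232 F152106 F336402 (iv1 D183460) (iv5 F347555) (iv4 F349025) (iv3 F336820) F349044 F183655 (iv4 F186611) (iv3 F306470) (iv1 F293415) (iv5 D95389) F70069 F66895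
def n194789 : Q := act 6 n104445
theorem D194789 : act 6 n104445 = n194789 := rfl
theorem F394480 : act 4 n194789 = n104446 := d10_1 D194789 (iv6 D104446) D104445
theorem F394481 : act 5 n194789 = n193564 := d12_1 D194789 (iv6 D193564) F374771 (iv6 D188763) (iv5 F160121)
def n194790 : Q := act 1 n104446
theorem D194790 : act 1 n104446 = n194790 := rfl
theorem F394482 : act 7 n194790 = n186879 := d15_2 (iv0 F386954) D194790 F386953
theorem F394483 : act 2 n194788 = n194790 := d4_3 F394482 F386953 (iv7 F394478)
def n194791 : Q := act 7 n104446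
theorem D194791 : act 7 n104446 = n194791 := rfl
theorem F394484 : act 5 n194791 = n186809 := d13_1 D194791 (iv7 D186809) (iv5 F367111)
theorem F394485 : act 6 n194791 = n192526 := d14_1 D194791 (iv7 D192526) F154253 (iv7 F292190) D104446
theorem F394486 : act 1 n194788 = n194791 := d15_1 (iv0 F394479) (iv7 D194791) (iv2 F371231)
theorem F394487 : act 1 n194791 = n186879 := d15_1 F394486 (iv7 F394482) (iv2 F394483)
def n194792 : Q := act 0 n104582
theorem D194792 : act 0 n104582 = n194792 := rfl
theorem F394488 : act 5 n194792 = n187283 := d17_3 D48368 D104582 D194792 (iv4 F377343) F377344 F288318 (iv5 D185866) (iv0 D88524) F63673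
theorem F394489 : act 2 n187284 = n194792 := d15_3 (iv0 D194792) F287726 (iv7 F369701)
theorem F394490 : act 1 n104586 = n194792 := d15_0 (iv0 D194792) (iv7 F160273) F160277
theorem F394491 : act 7 n194792 = n190598 := d15_2 (iv0 F287725) F394490 (iv2 F380258)
theorem F394492 : act 3 n190679 = n194792 := d8_3 F394491 F380260 (iv7 F380554)
theorem F394493 : act 6 n137101 = n194792 := d14_5 F394491 (iv6 F380261) F358389 F220257 D137101
def n194793 : Q := act 4 n104582
theorem D194793 : act 4 n104582 = n194793 := rfl
theorem F394494 : act 2 n194793 = n190601 := d1_1 D194793 (iv4 D190601) F160274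
theorem F394495 : act 3 n194793 = n128622 := d5_1 D194793 F206906 F362268 F374554 F374550
theorem F394496 : act 7 n194793 = n190599 := d11_2 F160273 D194793 (iv4 D190599)
theorem F394497 : act 6 n128620 = n194793 := d7_0 F394495 (iv6 D128622) (iv3 F206902)
def n194794 : Q := act 6 n104582
theorem D194794 : act 6 n104582 = n194794 := rfl
theorem F394498 : act 2 n194794 = n190602 := d3_1 D194794 (iv6 D190602) F160274
theorem F394499 : act 4 n194794 = n128620 := d10_1 D194794 F394497 (iv4 D194793)
theorem F394500 : act 5 n194794 = n189738 := d12_1 D194794 (iv6 D189738) F292631 F251866 D104582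
theorem F394501 : act 7 n128928 = n194794 := d11_0 F394499 F206903 D128928
def n194795 : Q := act 6 n104585
theorem D194795 : act 6 n104585 = n194795 := rfl
theorem F394502 : act 3 n194795 = n104587 := d7_1 D194795 (iv6 D104587) D104585
theorem F394503 : act 5 n190045 = n194795 := d6_0 F394502 F160239 D190045
theorem F394504 : act 0 n194795 = n194233 := d20_10 F392436 F343080 F75810 (iv3 D48225) F74930 D102717 F157980 F290535 (iv4 F160238) (iv3 F394502)
theorem F394505 : act 1 n194795 = n194721 := d15_1 (iv0 F394504) F394248 F393232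
theorem F394506 : act 1 n189941 = n190045 := d17_6 F290791 (iv5 F149926) F289703 (iv5 D95494) (iv4 F147122) D189941 F394503 F394505 (iv4 D194721)
def n194796 : Q := act 4 n104586
theorem D194796 : act 4 n104586 = n194796 := rfl
theorem F394507 : act 2 n194796 = n190599 := d1_1 D194796 (iv4 D190599) F160277
theorem F394508 : act 3 n194796 = n163611 := d5_1 D194796 (iv4 F280376) (iv3 D179996) D179997 (iv3 F348568)
theorem F394509 : act 7 n194796 = n190601 := d11_2 (iv7 F160276) D194796 (iv4 D190601)
def n194797 : Q := act 6 n104586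
theorem D194797 : act 6 n104586 = n194797 := rfl
theorem F394510 : act 2 n194797 = n190600 := d3_1 D194797 (iv6 D190600) F160277
theorem F394511 : act 5 n194797 = n190046 := d12_1 D194797 (iv6 D190046) (iv5 F160239) (iv6 D104587) D104586
def n194798 : Q := act 4 n104588
theorem D194798 : act 4 n104588 = n194798 := rfl
theorem F394512 : act 2 n194798 = n104591 := d1_1 D194798 (iv4 D104591) (iv2 F160240)
theorem F394513 : act 7 n194798 = n190587 := d11_2 (iv7 F160241) D194798 (iv4 D190587)
theorem F394514 : act 0 n194798 = n190608 := d18_2 (iv1 F160243) D194798 (iv4 F380277) (iv5 F350456) (iv4 F350448) F377346 F377343 F369982 F369979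
theorem F394515 : act 1 n194798 = n181680 := d18_6 D48016 F135565 (iv1 F135562) F135560 D104588 D194798 (iv4 F353190) (iv0 D103677) (iv5 D48018)
def n194799 : Q := act 6 n104588
theorem D194799 : act 6 n104588 = n194799 := rfl
theorem F394516 : act 2 n194799 = n104592 := d3_1 D194799 (iv6 D104592) (iv2 F160240)
theorem F394517 : act 3 n194799 = n173264 := d7_1 D194799 F358399 F160468
theorem F394518 : act 5 n194799 = n186087 := d12_1 D194799 (iv6 F366940) (iv5 F356000) F146953 D104588
theorem F394519 : act 7 n174270 = n194799 := d8_0 F394517 (iv7 F271622) D174270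
def n194800 : Q := act 6 n104589
theorem D194800 : act 6 n104589 = n194800 := rfl
theorem F394520 : act 2 n194800 = n190607 := d3_1 D194800 (iv6 D190607) (iv2 F369989)
theorem F394521 : act 5 n194800 = n190826 := d12_1 D194800 (iv6 D190826) (iv5 D96971) D96972 F160245
def n194801 : Q := act 3 n104590
theorem D194801 : act 3 n104590 = n194801 := rfl
theorem F394522 : act 7 n194801 = n190605 := d8_2 (iv7 F369991) D194801 (iv3 D190605)
theorem F394523 : act 4 n165633 = n194801 := d19_2 D86117 (iv5 F330242) (iv3 D194801) (iv1 D104590) (iv5 D48371) (iv4 F63673) (iv3 D41325) (iv1 D19460) D19461 D41329 D88538 (iv1 F341748) (iv5 F320874) (iv4 D117821) (iv3 D54268) (iv1 F41658) (iv5 F312560) (iv4 F315014) (iv3 F60653)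
theorem F394524 : act 0 n111829 = n194801 := d20_4 F319036 (iv1 D112716) F82210 (iv3 F173633) (iv3 D194801) (iv4 F393453) (iv1 F393456) (iv4 F393445) F393444 (iv1 F319034)
theorem F394525 : act 6 n111995 = n194801 := d14_5 F394522 F380274 F373730 F357451 F373743
def n194802 : Q := act 6 n104590
theorem D194802 : act 6 n104590 = n194802 := rfl
theorem F394526 : act 2 n194802 = n190604 := d3_1 D194802 (iv6 D190604) F369990
theorem F394527 : act 3 n194802 = n111995 := d7_1 D194802 F394525 (iv3 D194801)
theorem F394528 : act 4 n194802 = n127352 := d10_1 D194802 (iv6 F393457) F393453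
theorem F394529 : act 5 n194802 = n194618 := d12_1 D194802 (iv6 D194618) (iv5 F370150) F370000 (iv5 F369999)
def n194803 : Q := act 1 n104591
theorem D194803 : act 1 n104591 = n194803 := rfl
theorem F394530 : act 1 n194803 = n190587 := d15_1 D194803 (iv7 F394513) F394512
theorem F394531 : act 7 n194803 = n190608 := d15_2 (iv0 F380158) D194803 F380278
theorem F394532 : act 4 n194803 = n194486 := d18_7 F159060 F159055 (iv1 D88525) F63673 D48371 D104591 D194803 (iv0 F393411) (iv5 D103671)
theorem F394533 : act 2 n181680 = n194803 := d1_3 F394532 F393406 F353190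
def n194804 : Q := act 3 n104591
theorem D194804 : act 3 n104591 = n194804 := rfl
theorem F394534 : act 4 n194804 = n104593 := d5_2 D104591 D194804 (iv3 D104593) (iv4 D48372) (iv3 F76034)
theorem F394535 : act 7 n194804 = n128857 := d8_2 (iv7 F160247) D194804 (iv3 F362289)
theorem F394536 : act 5 n128603 = n194804 := d13_3 F394535 (iv5 D128857) F206855
theorem F394537 : act 2 n194804 = n128855 := d2_1 F394536 (iv5 D128855) F206853
def n194805 : Q := act 5 n104591
theorem D194805 : act 5 n104591 = n194805 := rfl
theorem F394538 : act 3 n194805 = n128603 := d6_1 D194805 F394536 (iv3 D194804)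
theorem F394539 : act 7 n194805 = n128856 := d13_2 (iv7 F160247) D194805 F362290
theorem F394540 : act 4 n194805 = n129666 := d16_2 D104591 D194805 F374828 F233524 F106078 (iv4 F70615) D96222 (iv7 F160241) F160240
theorem F394541 : act 6 n183517 = n194805 := d7_0 F394538 (iv6 F206854) F359006
def n194806 : Q := act 6 n104591
theorem D194806 : act 6 n104591 = n194806 := rfl
theorem F394542 : act 4 n194806 = n104592 := d10_1 D194806 (iv6 D104592) D104591
theorem F394543 : act 5 n194806 = n189815 := d12_1 D194806 (iv6 D189815) (iv5 F359007) F394541 (iv5 D194805)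
def n194807 : Q := act 0 n104592
theorem D194807 : act 0 n104592 = n194807 := rfl
theorem F394544 : act 6 n194807 = n117031 := d21_5 (iv5 D104586) (iv1 D48369) D48371 D104592 D194807 (iv5 D117031) (iv1 F100371) (iv5 F220262) F394493 (iv1 F394490)
def n194808 : Q := act 1 n104592
theorem D194808 : act 1 n104592 = n194808 := rfl
theorem F394545 : act 1 n194808 = n174270 := d15_1 D194808 F394519 F394516
theorem F394546 : act 3 n177526 = n194808 := d20_3 F128344 D84570 D177526 (iv1 D194808) F160248 (iv4 F160251) (iv1 F392985) F392984 (iv3 F358140) (iv1 D174210)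
theorem F394547 : act 5 n174238 = n194808 := d21_6 F377896 (iv1 F369724) (iv5 F369726) F151325 D98132 F364249 (iv1 D194808) (iv5 F377951) (iv6 D189842) (iv1 F377894)
def n194809 : Q := act 7 n104592
theorem D194809 : act 7 n104592 = n194809 := rfl
theorem F394548 : act 2 n194809 = n174270 := d4_1 D194809 F394519 F394516
theorem F394549 : act 3 n194809 = n104597 := d8_1 D194809 (iv7 D104597) (iv3 F160248)
theorem F394550 : act 6 n194809 = n190597 := d14_1 D194809 (iv7 D190597) F148006 (iv7 F76035) D104592
theorem F394551 : act 1 n174270 = n194807 := d15_0 (iv0 D194807) D194809 F394548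
def n194810 : Q := act 0 n104593
theorem D194810 : act 0 n104593 = n194810 := rfl
theorem F394552 : act 2 n190636 = n194810 := d15_3 (iv0 D194810) (iv0 F365881) (iv7 F380407)
theorem F394553 : act 1 n190637 = n194810 := d15_0 (iv0 D194810) F160250 D190637
theorem F394554 : act 7 n194810 = n190635 := d4_2 (iv7 F380407) F394552 (iv2 F380405)
theorem F394555 : act 1 n113647 = n190637 := d15_0 F394553 F394554 (iv2 F380405)
def n194811 : Q := act 2 n104593
theorem D194811 : act 2 n104593 = n194811 := rfl
theorem F394556 : act 3 n194811 = n194158 := d0_2 D104593 D194811 (iv2 F392208) (iv3 D104761) F76178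
theorem F394557 : act 4 n194811 = n128855 := d1_2 F394534 D194811 (iv2 F394537)
theorem F394558 : act 5 n194811 = n190955 := d2_2 (iv5 F160249) D194811 (iv2 D190955)
theorem F394559 : act 7 n194811 = n190637 := d4_2 (iv7 F160250) D194811 (iv2 D190637)
theorem F394560 : act 1 n194811 = n190635 := d15_0 (iv0 D190635) (iv7 F160250) D194811
theorem F394561 : act 1 n190636 = n194811 := d15_0 F394560 (iv7 F394554) (iv2 F394552)
def n194812 : Q := act 6 n104593
theorem D194812 : act 6 n104593 = n194812 := rfl
theorem F394562 : act 3 n194812 = n104594 := d7_1 D194812 (iv6 D104594) D104593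
def n194813 : Q := act 5 n104594
theorem D194813 : act 5 n104594 = n194813 := rfl
theorem F394563 : act 6 n194813 = n128325 := d12_2 D104594 D194813 (iv5 F340393) F149727 (iv5 F76037)
theorem F394564 : act 4 n194813 = n128326 := d16_2 (iv4 F160251) D194813 F364918 F351968 F336537 (iv4 F205013) (iv5 F358116) (iv7 D104765) F76181
def n194814 : Q := act 7 n104594
theorem D194814 : act 7 n104594 = n194814 := rfl
theorem F394565 : act 4 n194814 = n104597 := d11_1 D194814 (iv7 D104597) (iv4 F160251)
theorem F394566 : act 6 n194814 = n187287 := d14_1 D194814 F369710 F148061 (iv7 F76036) D104594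
def n194815 : Q := act 4 n104595
theorem D194815 : act 4 n104595 = n194815 := rfl
theorem F394567 : act 2 n194815 = n158829 := d1_1 D194815 F358404 (iv2 F358403)
theorem F394568 : act 3 n194815 = n111988 := d5_1 D194815 (iv4 D111988) F161372 D64510 (iv3 F358393)
theorem F394569 : act 0 n104796 = n194815 := d20_1 (iv4 F160608) (iv4 D194815) F358393 F100439 (iv3 F169499) (iv4 F170726) F349874 F349870 F358125 (iv1 D104798)
theorem F394570 : act 6 n194815 = n104595 := d21_5 (iv5 F328310) F328307 (iv5 F76205) D104796 F394569 F362532 (iv1 D160832) (iv5 F343699) (iv6 D104815) (iv1 F147116)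
def n194816 : Q := act 6 n104596
theorem D194816 : act 6 n104596 = n194816 := rfl
theorem F394571 : act 3 n194816 = n164082 := d7_1 D194816 F258595 (iv3 F358396)
theorem F394572 : act 4 n194816 = n164120 := d10_1 D194816 F366942 (iv4 F358397)
theorem F394573 : act 7 n194816 = n164120 := d14_2 (iv7 F358406) D194816 F366942 (iv7 F358408) F358405
theorem F394574 : act 0 n194816 = n176727 := d21_4 F343699 D160831 F358415 D194816 (iv6 D176727) D176726 (iv1 F343694) (iv5 D158059) (iv6 F128369) (iv1 F343696)
def n194817 : Q := act 5 n104598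
theorem D194817 : act 5 n104598 = n194817 := rfl
theorem F394575 : act 3 n194817 = n189861 := d6_1 D194817 (iv5 D189861) (iv3 F160253)
theorem F394576 : act 4 n194817 = n180111 := d9_1 D194817 F342100 F307599 (iv5 F322457) F343036 (iv5 D103020) (iv4 F158269) (iv5 F348563) (iv4 F175450) (iv5 F344922) F270322 (iv5 F318548) (iv4 F331198) (iv5 D104599) D104598
theorem F394577 : act 7 n194817 = n194435 := d13_2 F289625 D194817 (iv5 D194435)
theorem F394578 : act 1 n194817 = n194801 := d17_8 F322452 (iv5 D82542) (iv1 D37893) D37894 D82546 (iv5 F347485) (iv0 F160254) D194817 (iv4 F394523)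
theorem F394579 : act 0 n194817 = n189839 := d18_0 F377937 F340177 (iv4 F331193) (iv5 D103582) (iv4 F158892) F289624 F148015 (iv0 F160254) D194817
def n194818 : Q := act 3 n104605
theorem D194818 : act 3 n104605 = n194818 := rfl
theorem F394580 : act 2 n194818 = n172089 := d0_1 D194818 F270228 F126978 D84174 (iv2 F335298)
theorem F394581 : act 5 n194818 = n186907 := d6_2 F369806 D194818 F369807
theorem F394582 : act 7 n194818 = n172087 := d8_2 (iv7 F335300) D194818 F270225
theorem F394583 : act 1 n172086 = n194818 := d15_1 D172086 F394582 (iv2 D172087)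
theorem F394584 : act 1 n194818 = n172085 := d15_1 F394583 F387875 F387862
theorem F394585 : act 4 n178086 = n194818 := d1_0 F394580 F302359 D178086
theorem F394586 : act 5 n178086 = n192368 := d16_1 (iv4 F394585) F386589 D192369 F386591 F356204 (iv4 F356199) (iv5 D172088) D172089 (iv2 F394580)
theorem F394587 : act 2 n192368 = n178087 := d2_1 F394586 (iv5 D178087) D178086
theorem F394588 : act 4 n178087 = n191910 := d1_2 (iv4 F386589) F394587 F384796
theorem F394589 : act 6 n178087 = n191909 := d3_2 D192368 F394587 F384792
theorem F394590 : act 3 n191909 = n178089 := d7_1 F394589 (iv6 D178089) (iv3 F277620)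
theorem F394591 : act 5 n107389 = n178088 := d12_3 F394589 (iv5 F388210) F390081 (iv6 D178088) D178087
theorem F394592 : act 0 n188898 = n178087 := d21_4 F293155 F74025 D92897 D188898 F394589 (iv5 F388210) (iv1 D192916) (iv5 D100962) F74292 D47053
theorem F394593 : act 3 n178090 = n107389 := d6_3 F394591 F277621 D178090
theorem F394594 : act 7 n178089 = n192344 := d8_2 (iv7 F384793) F394590 (iv3 D192344)
theorem F394595 : act 1 n190680 = n178086 := d18_6 (iv1 F289648) F153224 (iv1 F289673) (iv4 F70771) D96381 D190680 F394585 F394584 F387874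
def n194819 : Q := act 6 n104605
theorem D194819 : act 6 n104605 = n194819 := rfl
theorem F394596 : act 2 n194819 = n158811 := d3_1 D194819 F250037 (iv2 F335298)
theorem F394597 : act 4 n194819 = n159207 := d10_1 D194819 F250699 (iv4 F335299)
theorem F394598 : act 5 n194819 = n194446 := d12_1 D194819 (iv6 D194446) (iv5 F367108) F369808 F369806
theorem F394599 : act 7 n194819 = n158860 := d14_2 (iv7 F335300) D194819 F250113 F113711 (iv6 F129302)
theorem F394600 : act 0 n194819 = n158859 := d21_4 (iv5 F343024) (iv1 F369804) F369806 D194819 (iv6 F379384) (iv5 D190321) (iv1 F319625) (iv5 F182588) (iv6 F353242) (iv1 F343032)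
theorem F394601 : act 0 n158858 = n194819 := d18_2 D174173 (iv4 F386453) F394597 F319513 D173962 (iv0 F322815) F271874 F321093 D83256
def n194820 : Q := act 4 n104615
theorem D194820 : act 4 n104615 = n194820 := rfl
theorem F394602 : act 2 n194820 = n194721 := d1_1 D194820 (iv4 D194721) F343067
theorem F394603 : act 3 n194820 = n190638 := d5_1 D194820 F380411 (iv3 D102000) D102001 (iv3 F160292)
theorem F394604 : act 6 n194820 = n187384 := d10_2 F343078 D194820 (iv4 D187384)
theorem F394605 : act 7 n194820 = n194233 := d11_2 F343068 D194820 F392436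
def n194821 : Q := act 5 n104618
theorem D194821 : act 5 n104618 = n194821 := rfl
theorem F394606 : act 2 n194821 = n143092 := d2_1 D194821 F364509 (iv2 F160301)
theorem F394607 : act 3 n194821 = n137343 := d6_1 D194821 (iv5 F362224) (iv3 F160302)
theorem F394608 : act 7 n194821 = n192073 := d13_2 (iv7 F160303) D194821 (iv5 D192073)
theorem F394609 : act 0 n194821 = n192076 := d18_0 (iv4 F385447) F386242 (iv4 D192265) (iv5 D99947) F73785 F289637 (iv4 F153280) F289589 D194821
theorem F394610 : act 6 n137340 = n194821 := d21_5 F385420 (iv1 F239825) F358056 (iv6 D137345) (iv1 F220530) (iv5 D194821) (iv1 F289589) D192014 F385207 F385421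
theorem F394611 : act 0 n192075 = n194821 := d21_7 F370276 F384109 (iv5 D191677) (iv6 F294799) F294796 F335331 (iv5 F385442) (iv5 D194821) (iv6 F392270) F392271
def n194822 : Q := act 4 n104619
theorem D194822 : act 4 n104619 = n194822 := rfl
theorem F394612 : act 2 n194822 = n170811 := d1_1 D194822 F268401 (iv2 F331202)
theorem F394613 : act 7 n194822 = n194484 := d11_2 (iv7 F160308) D194822 (iv4 D194484)
def n194823 : Q := act 6 n104619
theorem D194823 : act 6 n104619 = n194823 := rfl
theorem F394614 : act 2 n194823 = n176672 := d3_1 D194823 (iv6 D176672) (iv2 F331202)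
theorem F394615 : act 3 n194823 = n194500 := d7_1 D194823 (iv6 D194500) (iv3 F160307)
theorem F394616 : act 5 n194823 = n190379 := d12_1 D194823 (iv6 D190379) (iv5 F251253) F251254 D104619
theorem F394617 : act 0 n194823 = n142492 := d21_4 (iv5 D48384) D48381 D104619 D194823 F225401 (iv5 D66809) D66807 D142497 F344500 (iv1 D104625)
def n194824 : Q := act 4 n104621
theorem D194824 : act 4 n104621 = n194824 := rfl
theorem F394618 : act 2 n194824 = n194484 := d1_1 D194824 (iv4 D194484) (iv2 F160312)
theorem F394619 : act 3 n194824 = n122315 := d5_1 D194824 F195580 (iv3 F298253) D79820 (iv3 F331203)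
theorem F394620 : act 7 n194824 = n170811 := d11_2 (iv7 F331204) D194824 F268401
theorem F394621 : act 6 n124219 = n194824 := d7_0 F394619 (iv6 F300878) D124219
def n194825 : Q := act 6 n104621
theorem D194825 : act 6 n104621 = n194825 := rfl
theorem F394622 : act 2 n194825 = n194485 := d3_1 D194825 (iv6 D194485) (iv2 F160312)
theorem F394623 : act 3 n194825 = n124639 := d7_1 D194825 (iv6 F299454) (iv3 F331203)
theorem F394624 : act 4 n194825 = n124219 := d10_1 D194825 F394621 (iv4 D194824)
theorem F394625 : act 5 n194825 = n190110 := d12_1 D194825 F385460 (iv5 F160319) (iv6 D104622) D104621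
theorem F394626 : act 7 n162652 = n194825 := d8_0 F394623 (iv7 F300459) D162652
theorem F394627 : act 0 n194825 = n104680 := d20_4 F119316 (iv1 F119248) (iv4 F298311) (iv3 F394623) (iv3 D104680) (iv4 F340363) F71803 D96279 F327395 (iv1 F300453)
def n194826 : Q := act 4 n104623
theorem D194826 : act 4 n104623 = n194826 := rfl
theorem F394628 : act 2 n194826 = n104626 := d1_1 D194826 (iv4 D104626) (iv2 F160320)
theorem F394629 : act 7 n194826 = n194483 := d11_2 (iv7 F160321) D194826 (iv4 D194483)
theorem F394630 : act 5 n194826 = n169875 := d16_1 D194826 F386263 (iv5 D192273) (iv4 D99953) (iv5 D46684) (iv4 F36255) D48009 (iv7 F76054) (iv2 F160320)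
theorem F394631 : act 0 n194826 = n194490 := d18_2 (iv1 F160323) D194826 F393424 F380638 F378814 F391410 F391407 F370007 F370012
theorem F394632 : act 1 n194826 = n189879 := d18_6 (iv1 F289637) (iv4 F73785) (iv1 F153667) F153664 D104623 D194826 (iv4 D189879) (iv0 F361848) F354564
theorem F394633 : act 3 n169876 = n194826 := d20_5 (iv4 D57545) (iv1 F299425) F341388 (iv3 F221672) F350025 (iv4 D194826) (iv1 F160322) D194489 F393420 F191533
def n194827 : Q := act 4 n104624
theorem D194827 : act 4 n104624 = n194827 := rfl
theorem F394634 : act 2 n194827 = n194489 := d1_1 D194827 (iv4 D194489) F353169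
theorem F394635 : act 3 n194827 = n193305 := d5_1 D194827 (iv4 F389427) F380279 (iv4 F380277) F350457
theorem F394636 : act 7 n194827 = n194487 := d11_2 (iv7 F353174) D194827 (iv4 D194487)
theorem F394637 : act 0 n194827 = n111387 := d18_2 D104624 D194827 F172877 F354564 (iv4 F153280) F289589 (iv4 D104618) (iv0 D48381) D48384
theorem F394638 : act 5 n193302 = n194827 := d6_0 F394635 (iv5 D193305) (iv3 F389421)
def n194828 : Q := act 1 n104626
theorem D194828 : act 1 n104626 = n194828 := rfl
theorem F394639 : act 1 n194828 = n194483 := d15_1 D194828 (iv7 F394629) F394628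
theorem F394640 : act 7 n194828 = n194490 := d15_2 F380644 D194828 (iv2 F393425)
theorem F394641 : act 4 n194828 = n189878 := d18_7 F289590 F153660 (iv1 D99816) F73633 D48384 D104626 D194828 F380197 (iv5 D190579)
theorem F394642 : act 2 n189879 = n194828 := d1_3 F394641 (iv2 D189878) D189879
def n194829 : Q := act 3 n104626
theorem D194829 : act 3 n104626 = n194829 := rfl
theorem F394643 : act 4 n194829 = n104628 := d5_2 D104626 D194829 (iv3 D104628) (iv4 D48385) (iv3 F76053)
theorem F394644 : act 7 n194829 = n194491 := d8_2 (iv7 F160328) D194829 (iv3 D194491)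
def n194830 : Q := act 5 n104626
theorem D194830 : act 5 n104626 = n194830 := rfl
theorem F394645 : act 2 n194830 = n169875 := d2_1 D194830 (iv5 F394630) F394628
theorem F394646 : act 7 n194830 = n194492 := d13_2 (iv7 F160328) D194830 (iv5 D194492)
theorem F394647 : act 0 n194830 = n175123 := d17_2 (iv1 D194828) D194830 F380596 (iv4 D190687) (iv5 D96388) D96386 F354565 F380198 (iv4 F394641)
def n194831 : Q := act 0 n104628
theorem D194831 : act 0 n104628 = n194831 := rfl
theorem F394648 : act 1 n194497 = n194831 := d15_0 (iv0 D194831) F160331 D194497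
def n194832 : Q := act 1 n104628
theorem D194832 : act 1 n104628 = n194832 := rfl
theorem F394649 : act 3 n189859 = n194832 := d20_3 F174018 (iv1 F344684) (iv4 F378017) (iv1 D194832) (iv3 D104628) (iv4 D48385) (iv1 F75103) (iv4 F137917) (iv3 F369667) (iv1 F369670)
theorem F394650 : act 5 n194832 = n160914 := d6_2 F378965 F394649 (iv3 F378969)
theorem F394651 : act 6 n194832 = n189858 := d7_2 D189859 F394649 (iv3 D189858)
theorem F394652 : act 7 n194832 = n194496 := d8_2 F378018 F394649 (iv3 F393441)
theorem F394653 : act 0 n194497 = n194832 := d20_4 (iv4 F281846) (iv1 F345720) (iv4 F392647) (iv3 F393442) (iv3 F394649) F378017 F344683 D167764 F345723 (iv1 D186299)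
theorem F394654 : act 2 n194496 = n194831 := d15_3 (iv0 D194831) D194832 F394652
theorem F394655 : act 2 n194832 = n194495 := d15_3 (iv0 D194495) D194496 (iv7 F394652)
theorem F394656 : act 7 n194495 = n194831 := d4_2 (iv7 F394652) F394655 (iv2 F394654)
theorem F394657 : act 0 n186924 = n190139 := d21_4 F381566 (iv1 D102218) D102219 (iv6 F368523) (iv6 F378970) (iv5 F394650) (iv1 D194832) F160330 (iv6 F381973) (iv1 F381976)
def n194833 : Q := act 2 n104628
theorem D194833 : act 2 n104628 = n194833 := rfl
theorem F394658 : act 5 n194833 = n191050 := d2_2 (iv5 F160330) D194833 (iv2 D191050)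
theorem F394659 : act 7 n194833 = n194497 := d4_2 (iv7 F160331) D194833 (iv2 D194497)
theorem F394660 : act 1 n194833 = n194495 := d15_0 (iv0 D194495) (iv7 F160331) D194833
theorem F394661 : act 1 n194496 = n194833 := d15_0 F394660 F394656 (iv2 F394654)
def n194834 : Q := act 6 n104628
theorem D194834 : act 6 n104628 = n194834 := rfl
theorem F394662 : act 3 n194834 = n104629 := d7_1 D194834 (iv6 D104629) D104628
theorem F394663 : act 5 n194834 = n193938 := d12_1 D194834 (iv6 F391458) F389991 F381973 (iv5 F160330)
def n194835 : Q := act 1 n104629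
theorem D194835 : act 1 n104629 = n194835 := rfl
theorem F394664 : act 7 n194835 = n194815 := d15_2 (iv0 F358407) D194835 F394567
theorem F394665 : act 4 n194835 = n104764 := d18_7 F378026 (iv4 F354480) F392600 F392597 F158392 (iv4 F160332) D194835 F160484 (iv5 F378024)
theorem F394666 : act 5 n194835 = n133358 := d18_9 (iv1 F389921) (iv4 D193460) (iv1 F386472) (iv4 F386473) D194378 F392984 (iv0 D104630) (iv4 F160332) D194835
theorem F394667 : act 3 n109293 = n194835 := d20_9 F160332 D104630 (iv4 F392984) (iv3 F392987) (iv1 F354192) F169306 F79810 D50435 D109293 (iv1 D194835)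
theorem F394668 : act 2 n194835 = n162753 := d0_1 F394667 (iv3 D162753) F300447 (iv3 F348119) F173812
def n194836 : Q := act 5 n104629
theorem D194836 : act 5 n104629 = n194836 := rfl
theorem F394669 : act 3 n194836 = n193938 := d6_1 D194836 (iv5 F394663) F394662
theorem F394670 : act 6 n194836 = n128242 := d12_2 D104629 D194836 (iv5 F364595) F149918 (iv5 F76056)
theorem F394671 : act 4 n194836 = n128243 := d16_2 (iv4 F160332) D194836 (iv5 F366931) F298845 (iv5 F306845) (iv4 F205071) F340601 (iv7 D104799) F76206
def n194837 : Q := act 7 n104629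
theorem D194837 : act 7 n104629 = n194837 := rfl
theorem F394672 : act 4 n194837 = n104632 := d11_1 D194837 (iv7 D104632) (iv4 F160332)
theorem F394673 : act 6 n194837 = n109254 := d14_1 D194837 F357996 F149954 (iv7 F76055) D104629
theorem F394674 : act 1 n162753 = n194837 := d15_1 (iv0 F358398) (iv7 D194837) (iv2 F160607)
theorem F394675 : act 1 n194837 = n194815 := d15_1 F394674 (iv7 F394664) F394668
def n194838 : Q := act 6 n104630
theorem D194838 : act 6 n104630 = n194838 := rfl
theorem F394676 : act 2 n194838 = n194378 := d3_1 D194838 F392986 (iv2 F358142)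
theorem F394677 : act 4 n194838 = n104797 := d10_1 D194838 (iv6 F392986) F392984
theorem F394678 : act 5 n194838 = n194253 := d12_1 D194838 (iv6 F392510) (iv5 F180027) D136273 F340607
theorem F394679 : act 7 n194377 = n194838 := d13_0 F394678 F392509 D194377
theorem F394680 : act 0 n104762 = n194838 := d17_0 F394678 (iv1 D194253) F158292 F343702 (iv5 F337359) F362540 F362536 (iv0 D104763) (iv4 F160483)
theorem F394681 : act 1 n194814 = n194838 := d18_8 (iv1 D194253) (iv4 F388871) F388873 (iv4 F366413) (iv5 F394666) F394665 F160484 (iv4 F394565) F394678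
def n194839 : Q := act 6 n104631
theorem D194839 : act 6 n104631 = n194839 := rfl
theorem F394682 : act 3 n194839 = n132116 := d7_1 D194839 F392605 F392606
theorem F394683 : act 5 n194839 = n106733 := d21_6 (iv5 D97197) (iv1 F71673) (iv5 F147544) (iv6 F160611) (iv1 F160613) D194839 F340313 F160520 (iv6 F358439) F359865
theorem F394684 : act 7 n106731 = n194839 := d13_0 F394683 (iv7 D106733) D106731
def n194840 : Q := act 6 n104634
theorem D194840 : act 6 n104634 = n194840 := rfl
theorem F394685 : act 2 n194840 = n190406 := d3_1 D194840 F379688 (iv2 F160335)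
theorem F394686 : act 3 n194840 = n112264 := d7_1 D194840 F332143 F361885
theorem F394687 : act 4 n194840 = n104635 := d10_1 D194840 (iv6 D104635) D104634
theorem F394688 : act 7 n194840 = n126011 := d14_2 F160617 D194840 F327219 (iv7 F327220) F359599
theorem F394689 : act 5 n129911 = n194840 := d21_8 (iv5 F348700) (iv1 F348703) F292332 F320991 F105304 D147163 (iv5 F368054) F368057 (iv6 D194840) F160336
theorem F394690 : act 6 n134530 = n129911 := d12_0 F394689 (iv6 D194840) (iv5 F368155) F368153 (iv5 F359718)
theorem F394691 : act 3 n129705 = n134530 := d7_3 F394690 (iv3 D129911) (iv6 F361186)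
theorem F394692 : act 7 n134530 = n129729 := d8_2 (iv7 F364573) F394691 (iv3 D129729)
theorem F394693 : act 4 n132948 = n134530 := d20_2 (iv4 F97277) D132948 (iv3 F394691) (iv1 F207893) F95481 F46548 (iv1 F23350) D29455 D62247 (iv1 F338384)
theorem F394694 : act 6 n130306 = n132948 := d10_0 F394693 F394690 F364577
theorem F394695 : act 5 n189785 = n132948 := d16_1 D189785 F394693 F359718 (iv4 D185248) (iv5 D88269) (iv4 F135185) (iv5 F337939) (iv7 F358610) F358608
theorem F394696 : act 2 n129729 = n134531 := d15_3 F362094 F346115 F394692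
def n194841 : Q := act 7 n104635
theorem D194841 : act 7 n104635 = n194841 := rfl
theorem F394697 : act 2 n194841 = n176851 := d4_1 D194841 F346847 (iv2 F160338)
theorem F394698 : act 3 n194841 = n112139 := d8_1 D194841 (iv7 F174351) (iv3 F346837)
theorem F394699 : act 4 n194841 = n126011 := d11_1 D194841 (iv7 F394688) F394687
theorem F394700 : act 5 n194841 = n189995 := d13_1 D194841 (iv7 D189995) (iv5 F160339)
theorem F394701 : act 6 n194841 = n112137 := d14_1 D194841 F359494 F159243 F76209 D104635
theorem F394702 : act 1 n158894 = n194841 := d15_1 F364243 (iv7 D194841) F160338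
theorem F394703 : act 1 n194841 = n165769 := d15_1 F394702 (iv7 F359860) F359857
theorem F394704 : act 0 n126017 = n165768 := d20_4 F45320 D28048 D59024 D126017 (iv3 D165768) D165769 (iv1 F394703) F394699 (iv3 D126011) (iv1 D59019)
def n194842 : Q := act 2 n104636
theorem D194842 : act 2 n104636 = n194842 := rfl
theorem F394705 : act 3 n194842 = n112145 := d0_2 D104636 D194842 (iv2 F346831) (iv3 D104800) (iv2 F76207)
theorem F394706 : act 5 n194842 = n144271 := d2_2 (iv5 F160340) D194842 (iv2 F350460)
theorem F394707 : act 7 n194842 = n176677 := d4_2 (iv7 F160341) D194842 F360313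
theorem F394708 : act 1 n194842 = n166248 := d15_0 (iv0 F350447) (iv7 F160341) D194842
theorem F394709 : act 1 n176679 = n194842 := d15_0 F394708 F302349 D176679
theorem F394710 : act 6 n112143 = n194842 := d14_5 F394707 F360316 (iv7 F346868) F346867 (iv7 F350493)
def n194843 : Q := act 4 n104636
theorem D194843 : act 4 n104636 = n194843 := rfl
theorem F394711 : act 7 n194843 = n190396 := d11_2 (iv7 F160341) D194843 (iv4 D190396)
theorem F394712 : act 0 n194843 = n194796 := d18_2 F350465 D194843 (iv4 D194796) (iv5 D104586) (iv4 F76028) (iv0 D42278) (iv4 F36276) D48017 D103675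
theorem F394713 : act 1 n194843 = n194793 := d18_6 D187364 F369981 (iv1 D187146) (iv4 F350464) (iv5 F160340) D194843 (iv4 D194793) F287726 F287724
theorem F394714 : act 3 n177443 = n194843 := d20_5 (iv4 D96650) (iv1 F296490) (iv4 F297779) D163622 (iv1 F383327) (iv4 D194843) F360317 D176680 F276055 F254667
theorem F394715 : act 5 n194843 = n191541 := d6_2 F383328 F394714 (iv3 D191541)
theorem F394716 : act 6 n194843 = n177440 := d7_2 D177443 F394714 (iv3 D177440)
def n194844 : Q := act 6 n104636
theorem D194844 : act 6 n104636 = n194844 := rfl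
theorem F394717 : act 2 n194844 = n112143 := d3_1 D194844 F394710 (iv2 D194842)
theorem F394718 : act 3 n194844 = n104638 := d7_1 D194844 (iv6 D104638) D104636
theorem F394719 : act 4 n194844 = n177440 := d10_1 D194844 (iv6 F394716) (iv4 D194843)
theorem F394720 : act 5 n194844 = n107488 := d12_1 D194844 F165839 (iv5 F299851) F350461 (iv5 F160340)
theorem F394721 : act 7 n194844 = n107487 := d14_2 (iv7 F160341) D194844 F346855 (iv7 F360306) (iv6 F360307)
theorem F394722 : act 0 n194844 = n117027 := d21_4 F393407 (iv1 D187281) (iv5 F160340) D194844 F346884 (iv5 F347764) (iv1 F316659) F316661 (iv6 F321137) F393411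
theorem F394723 : act 0 n125852 = n137100 := d18_2 F394722 (iv4 F346882) (iv4 D137100) (iv5 D64445) F48774 (iv0 F40194) D52332 F165840 (iv5 F394720)
theorem F394724 : act 1 n194844 = n117026 := d15_1 (iv0 F394722) F346889 F346888
def n194845 : Q := act 3 n104637
theorem D194845 : act 3 n104637 = n194845 := rfl
theorem F394725 : act 2 n194845 = n163127 := d0_1 D194845 F257445 (iv2 F327223) (iv3 F332159) F160616
theorem F394726 : act 4 n194845 = n177443 := d5_2 D104637 D194845 F394714 (iv4 D194843) (iv3 D104636)
theorem F394727 : act 5 n194845 = n191553 := d6_2 F368163 D194845 F383784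
theorem F394728 : act 7 n194845 = n172170 := d8_2 (iv7 F160342) D194845 (iv3 F366901)
theorem F394729 : act 0 n194845 = n158342 := d19_4 F292798 F76066 D104637 D194845 F298396 F296814 F59419 D77557 F301950 (iv4 F120437) F297976 (iv1 F113078) F59847 D84193 (iv3 F331192) (iv1 F343032) (iv5 F343024) F343022 F343021
theorem F394730 : act 1 n194845 = n172173 := d15_1 (iv0 F394729) (iv7 D172173) F300663
theorem F394731 : act 6 n163124 = n194845 := d10_0 F394726 (iv6 D177443) (iv4 F341721)
def n194846 : Q := act 6 n104637
theorem D194846 : act 6 n104637 = n194846 := rfl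
theorem F394732 : act 2 n194846 = n125974 := d3_1 D194846 F359599 F160616
theorem F394733 : act 3 n194846 = n163124 := d7_1 D194846 F394731 (iv3 D194845)
theorem F394734 : act 4 n194846 = n104638 := d10_1 D194846 (iv6 D104638) D104637
theorem F394735 : act 0 n194846 = n147175 := d21_4 (iv5 F369430) F369431 F368163 D194846 (iv6 D147175) F105211 (iv1 D32154) D32156 (iv6 F319398) (iv1 F148372)
theorem F394736 : act 0 n163145 = n194846 := d21_4 F325700 F258182 F257740 (iv6 F353264) (iv6 D194846) (iv5 F368163) (iv1 F369441) F369437 F330288 (iv1 F325697)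
theorem F394737 : act 7 n194846 = n163147 := d15_2 (iv0 F353265) (iv0 F394735) (iv2 D163147)
theorem F394738 : act 1 n125426 = n163147 := d15_1 (iv0 F368205) (iv7 F394737) F394732
def n194847 : Q := act 7 n104638
theorem D194847 : act 7 n104638 = n194847 := rfl
theorem F394739 : act 2 n194847 = n112137 := d4_1 D194847 F359494 (iv2 F160345)
theorem F394740 : act 3 n194847 = n107487 := d8_1 D194847 (iv7 F394721) F394718
theorem F394741 : act 4 n194847 = n163147 := d11_1 D194847 (iv7 F394737) F394734
theorem F394742 : act 5 n194847 = n107485 := d13_1 D194847 (iv7 F359495) (iv5 F160346)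
theorem F394743 : act 6 n194847 = n176851 := d14_1 D194847 F346847 F147638 (iv7 F76065) D104638
theorem F394744 : act 1 n147708 = n194847 := d15_1 F359597 (iv7 D194847) F160345
theorem F394745 : act 1 n194847 = n127625 := d15_1 F394744 (iv7 F364598) (iv2 F334023)
def n194848 : Q := act 0 n104641
theorem D194848 : act 0 n104641 = n194848 := rfl
theorem F394746 : act 1 n178819 = n194848 := d15_0 (iv0 D194848) (iv7 F160625) (iv2 F352027)
def n194849 : Q := act 1 n104641
theorem D194849 : act 1 n104641 = n194849 := rfl
theorem F394747 : act 1 n194849 = n178819 := d15_1 D194849 (iv7 F352039) (iv2 F352037)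
theorem F394748 : act 6 n147674 = n194849 := d21_9 (iv5 F352036) F258993 F334714 (iv6 F334707) (iv1 F340653) F353247 (iv5 D127071) F166298 F346277 (iv1 D194849)
def n194850 : Q := act 3 n104645
theorem D194850 : act 3 n104645 = n194850 := rfl
theorem F394749 : act 4 n194850 = n125693 := d5_2 (iv4 F348566) D194850 F329145 (iv4 D82593) D82592
theorem F394750 : act 0 n194850 = n162657 := d20_4 F358730 F304293 (iv4 F348566) D194850 (iv3 D162657) (iv4 D78137) (iv1 D35625) D35626 D78142 D162664
def n194851 : Q := act 6 n104645
theorem D194851 : act 6 n104645 = n194851 := rfl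
theorem F394751 : act 4 n194851 = n172517 := d10_1 D194851 (iv6 D172517) (iv4 F348566)
theorem F394752 : act 0 n176876 = n194851 := d20_1 F336541 F394751 F270708 (iv1 F334387) (iv3 F345738) (iv4 F330166) (iv1 D181145) F321016 F122762 (iv1 F334241)
def n194852 : Q := act 4 n104647
theorem D194852 : act 4 n104647 = n194852 := rfl
theorem F394753 : act 2 n194852 = n104648 := d1_1 D194852 (iv4 D104648) D104647
theorem F394754 : act 6 n194852 = n176826 := d10_2 (iv6 F362558) D194852 (iv4 D176826)
theorem F394755 : act 5 n194852 = n140546 := d16_1 D194852 (iv4 F391426) (iv5 D193929) (iv4 D102485) D102486 (iv4 F157428) F137942 F76217 D104647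
theorem F394756 : act 1 n194852 = n189866 := d18_6 (iv1 D190091) F147283 (iv1 F365471) (iv4 F370020) F370021 D194852 (iv4 D189866) D189865 F381219
theorem F394757 : act 3 n140553 = n194852 := d20_5 (iv4 D39240) (iv1 F298745) D81890 D170808 F359322 (iv4 D194852) F331201 (iv4 F268401) (iv3 D170811) F301415
def n194853 : Q := act 1 n104648
theorem D194853 : act 1 n104648 = n194853 := rfl
theorem F394758 : act 4 n189862 = n194853 := d20_0 (iv1 D194853) (iv4 D104648) (iv3 D48391) (iv1 F36736) (iv3 F76185) D104775 F362436 (iv4 F280583) (iv3 F380583) (iv1 F380584)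
theorem F394759 : act 2 n194853 = n189866 := d1_1 F394758 (iv4 D189866) (iv2 F378031)
def n194854 : Q := act 3 n104648
theorem D194854 : act 3 n104648 = n194854 := rfl
theorem F394760 : act 4 n194854 = n104650 := d5_2 D104648 D194854 (iv3 D104650) (iv4 D48392) D48391
def n194855 : Q := act 5 n104648
theorem D194855 : act 5 n104648 = n194855 := rfl
theorem F394761 : act 2 n194855 = n140546 := d2_1 D194855 (iv5 F394755) F394753
theorem F394762 : act 6 n140543 = n194855 := d3_0 F394761 (iv6 D140546) D140543
def n194856 : Q := act 6 n104648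
theorem D194856 : act 6 n104648 = n194856 := rfl
theorem F394763 : act 2 n194856 = n176826 := d3_1 D194856 (iv6 F394754) F394753
theorem F394764 : act 4 n194856 = n104649 := d10_1 D194856 (iv6 D104649) D104648
theorem F394765 : act 7 n176821 = n194856 := d11_0 F394764 F362547 D176821
def n194857 : Q := act 0 n104650
theorem D194857 : act 0 n104650 = n194857 := rfl
theorem F394766 : act 1 n174245 = n194857 := d15_0 (iv0 D194857) (iv7 F160649) (iv2 F348746)
theorem F394767 : act 7 n194857 = n189925 := d15_2 (iv0 F380564) F394766 (iv2 F380562)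
theorem F394768 : act 5 n191049 = n194857 := d21_0 (iv1 F394766) (iv5 F348747) (iv6 D160679) (iv1 F119672) D163269 (iv5 F391525) (iv1 F391529) F389991 F381973 D191049
theorem F394769 : act 6 n163288 = n191049 := d21_5 (iv5 D78469) (iv1 D35756) D35758 D78477 D163288 F394768 (iv1 F394766) (iv5 F348747) (iv6 D160679) (iv1 F119672)
def n194858 : Q := act 2 n104650
theorem D194858 : act 2 n104650 = n194858 := rfl
theorem F394770 : act 7 n194858 = n174245 := d4_2 F160649 D194858 F348746
theorem F394771 : act 1 n194858 = n189925 := d15_0 (iv0 F378270) F160649 D194858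
def n194859 : Q := act 6 n104650
theorem D194859 : act 6 n104650 = n194859 := rfl
theorem F394772 : act 3 n194859 = n104651 := d7_1 D194859 (iv6 D104651) D104650
theorem F394773 : act 7 n194859 = n174237 := d14_2 F160649 D194859 (iv6 D174237) F300953 (iv6 F348743)
theorem F394774 : act 0 n160894 = n194859 := d20_4 F334003 (iv1 F344723) F344726 D160894 F394772 F160362 D104652 F361135 (iv3 D166718) (iv1 F334001)
theorem F394775 : act 1 n170866 = n194859 := d15_0 (iv0 F394774) (iv7 F262392) (iv2 F268476)
def n194860 : Q := act 5 n104652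
theorem D194860 : act 5 n104652 = n194860 := rfl
theorem F394776 : act 2 n194860 = n132117 := d2_1 D194860 (iv5 F363590) F362543
theorem F394777 : act 3 n194860 = n158900 := d6_1 D194860 (iv5 D158900) (iv3 F361134)
theorem F394778 : act 7 n194860 = n176887 := d13_2 (iv7 F361136) D194860 (iv5 D176887)
theorem F394779 : act 4 n194860 = n132104 := d18_5 (iv1 F358090) F358091 F358442 (iv4 F361135) D194860 F354469 (iv4 F276105) (iv0 F343693) F293604
theorem F394780 : act 6 n194860 = n132103 := d21_3 F291965 D104652 D194860 F381012 (iv6 D190776) F340407 (iv1 F340412) (iv5 F340414) F370248 (iv1 D187412)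
def n194861 : Q := act 6 n104652
theorem D194861 : act 6 n104652 = n194861 := rfl
theorem F394781 : act 3 n194861 = n158901 := d7_1 D194861 (iv6 D158901) (iv3 F361134)
theorem F394782 : act 4 n194861 = n104817 := d10_1 D194861 (iv6 F358425) (iv4 F361135)
theorem F394783 : act 5 n194861 = n194509 := d12_1 D194861 (iv6 F393498) (iv5 F211639) (iv6 F394780) (iv5 D194860)
theorem F394784 : act 1 n104688 = n194861 := d18_6 (iv1 F392518) F386473 F386471 (iv4 F370065) F370066 (iv4 F340359) F394782 F160653 (iv5 F392516)
def n194862 : Q := act 6 n104657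
theorem D194862 : act 6 n104657 = n194862 := rfl
theorem F394785 : act 2 n194862 = n104659 := d3_1 D194862 (iv6 D104659) D104657
theorem F394786 : act 0 n194862 = n155952 := d21_4 (iv5 F288027) (iv1 F370037) F370035 D194862 (iv6 D155952) (iv5 F354588) (iv1 D95856) D95857 F147538 D103119
def n194863 : Q := act 3 n104658
theorem D194863 : act 3 n104658 = n194863 := rfl
theorem F394787 : act 2 n194863 = n112840 := d0_1 D194863 F365967 F276733 (iv3 F361716) (iv2 F361714)
theorem F394788 : act 4 n194863 = n104660 := d5_2 D104658 D194863 (iv3 D104660) (iv4 D48395) D48394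
theorem F394789 : act 7 n194863 = n113249 := d8_2 F160668 D194863 (iv3 F356066)
theorem F394790 : act 0 n194863 = n189790 := d20_4 F377769 F160666 D104658 D194863 (iv3 D189790) (iv4 D95264) (iv1 D44502) D44503 D95266 D189792
theorem F394791 : act 5 n112838 = n194863 := d17_1 F175700 F394790 (iv5 F377762) F176712 F82763 F82547 F82619 (iv0 D52253) (iv4 F82616)
def n194864 : Q := act 5 n104658
theorem D194864 : act 5 n104658 = n194864 := rfl
theorem F394792 : act 2 n194864 = n170641 := d2_1 D194864 F361715 (iv2 F361714)
theorem F394793 : act 3 n194864 = n112838 := d6_1 D194864 F394791 (iv3 D194863)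
theorem F394794 : act 7 n194864 = n113247 := d13_2 F160668 D194864 F356067
theorem F394795 : act 4 n113319 = n194864 := d11_3 F394794 (iv4 F176856) F176858
def n194865 : Q := act 0 n104659
theorem D194865 : act 0 n104659 = n194865 := rfl
theorem F394796 : act 4 n194865 = n125747 := d18_3 (iv1 F228472) F376047 D194865 (iv5 D125747) (iv4 D58883) F78452 D107515 F165880 D125737
theorem F394797 : act 5 n194865 = n193608 := d21_2 (iv5 F376046) D194865 (iv6 D193608) F382004 (iv6 D136303) (iv5 D64079) D64076 (iv5 F342889) F172202 D145413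
theorem F394798 : act 6 n194865 = n155950 := d21_5 (iv5 F370032) (iv1 D187370) F138106 D104659 D194865 (iv5 F379361) (iv1 D190316) (iv5 F357961) (iv6 F357986) (iv1 F160602)
theorem F394799 : act 2 n155952 = n194865 := d3_3 F394798 (iv2 D155950) D155952
theorem F394800 : act 3 n193611 = n194865 := d7_3 F394798 F244965 (iv6 F390451)
theorem F394801 : act 0 n173837 = n193611 := d20_4 (iv4 D38271) D38269 D83133 D173837 F394800 F394796 (iv1 F228478) F332890 (iv3 D173848) (iv1 D83139)
def n194866 : Q := act 1 n104659
theorem D194866 : act 1 n104659 = n194866 := rfl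
theorem F394802 : act 7 n194866 = n155952 := d15_2 (iv0 D194865) D194866 F394799
theorem F394803 : act 4 n194866 = n125745 := d18_7 (iv1 F165900) F165898 (iv1 F78469) D68188 D145440 F376047 D194866 (iv0 F228477) (iv5 D145443)
theorem F394804 : act 3 n112136 = n194866 := d20_3 (iv4 F174268) (iv1 F202182) (iv4 F174345) (iv1 D194866) F160363 F343702 (iv1 F337341) (iv4 F174257) F174256 D112093
def n194867 : Q := act 7 n104659
theorem D194867 : act 7 n104659 = n194867 := rfl
theorem F394805 : act 3 n194867 = n104664 := d8_1 D194867 (iv7 D104664) (iv3 F160363)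
theorem F394806 : act 0 n155952 = n194867 := d20_4 (iv4 F169335) (iv1 D106194) (iv4 F110928) (iv3 F244972) F394805 F361143 F343704 (iv4 F272489) (iv3 F337351) (iv1 F174267)
def n194868 : Q := act 1 n104660
theorem D194868 : act 1 n104660 = n194868 := rfl
theorem F394807 : act 7 n194868 = n194797 := d15_2 (iv0 F380264) D194868 F394510
theorem F394808 : act 3 n178181 = n194868 := d19_19 (iv1 D194868) (iv5 F369870) F369869 (iv3 F222132) F366204 (iv5 D144166) (iv4 F226865) F226864 F352562 F322412 F315422 (iv3 D53997) (iv1 F41316) (iv5 F50185) (iv4 F317770) (iv3 F194285) (iv1 F352064) (iv5 D178182) D178181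
def n194869 : Q := act 2 n104660
theorem D194869 : act 2 n104660 = n194869 := rfl
theorem F394809 : act 3 n194869 = n174245 := d0_2 D104660 D194869 F348746 (iv3 D104814) F76218
theorem F394810 : act 4 n194869 = n112840 := d1_2 F394788 D194869 (iv2 F394787)
theorem F394811 : act 6 n194869 = n174242 := d3_2 F362849 D194869 (iv2 F337358)
def n194870 : Q := act 4 n104662
theorem D194870 : act 4 n104662 = n194870 := rfl
theorem F394812 : act 3 n194870 = n147672 := d5_1 D194870 F231437 F105500 (iv4 F105504) (iv3 F321389)
theorem F394813 : act 6 n194870 = n147671 := d10_2 (iv6 F321390) D194870 F231436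
theorem F394814 : act 7 n194870 = n194861 := d11_2 F290450 D194870 F394782
theorem F394815 : act 5 n194870 = n194272 := d18_4 D83290 (iv4 F343702) D104662 D194870 F392601 F341905 (iv4 F358102) F358101 (iv5 D83293)
theorem F394816 : act 1 n194870 = n104668 := d18_8 F353281 (iv4 F336541) F334240 F302610 (iv5 F337353) (iv4 F361144) F160659 D194870 F354536
def n194871 : Q := act 5 n104662
theorem D194871 : act 5 n104662 = n194871 := rfl
theorem F394817 : act 2 n194871 = n194294 := d2_1 D194871 F392708 (iv2 F290447)
theorem F394818 : act 3 n194871 = n147707 := d6_1 D194871 (iv5 D147707) (iv3 F321389)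
theorem F394819 : act 6 n194871 = n191067 := d12_2 (iv6 F321390) D194871 (iv5 D191067) (iv6 D97203) (iv5 F319395)
theorem F394820 : act 7 n194871 = n194361 := d13_2 F290450 D194871 F392936
theorem F394821 : act 1 n194871 = n194813 := d17_6 (iv1 D104631) (iv5 F158392) D194272 (iv5 F394815) (iv4 D194870) D194871 (iv5 D194813) F392983 F392982
def n194872 : Q := act 3 n104663
theorem D194872 : act 3 n104663 = n194872 := rfl
theorem F394822 : act 2 n194872 = n158858 := d0_1 D194872 F364270 (iv2 F334023) (iv3 F358426) F290452
theorem F394823 : act 7 n194872 = n158859 := d8_2 (iv7 F290451) D194872 F379385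
theorem F394824 : act 4 n160948 = n194872 := d11_3 F394823 (iv4 F359281) (iv7 F359280)
theorem F394825 : act 0 n194872 = n158811 := d17_0 (iv5 F392449) (iv1 F393767) F393766 (iv4 D173410) (iv5 D82980) (iv0 F333738) D173245 (iv0 F389008) F394824
theorem F394826 : act 1 n194872 = n158860 := d18_6 (iv1 F239251) F357446 F357452 D100090 F364245 F394824 F250112 F250698 F345829
def n194873 : Q := act 4 n104663
theorem D194873 : act 4 n104663 = n194873 := rfl
theorem F394827 : act 2 n194873 = n194861 := d1_1 D194873 F394782 F290452
theorem F394828 : act 3 n194873 = n160949 := d5_1 D194873 (iv4 D160949) D160948 F394824 (iv3 D194872)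
theorem F394829 : act 0 n194873 = n104668 := d18_2 (iv1 F160658) D194873 (iv4 F287723) (iv5 F358417) (iv4 F385576) F385577 (iv4 F392512) F392508 (iv5 F160655)
theorem F394830 : act 5 n194873 = n194273 := d18_4 F337340 (iv4 F361144) (iv1 F160658) D194873 F392604 (iv0 D147643) (iv4 F205013) F378081 F378079
theorem F394831 : act 6 n104824 = n194873 := d12_0 F394830 (iv6 F392605) (iv5 D132116) D132117 (iv5 F363590)
def n194874 : Q := act 5 n104663
theorem D194874 : act 5 n104663 = n194874 := rfl
theorem F394832 : act 2 n194874 = n194361 := d2_1 D194874 F392936 F290452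
theorem F394833 : act 7 n194874 = n194294 := d13_2 (iv7 F290451) D194874 F392708
theorem F394834 : act 0 n194874 = n194813 := d17_2 (iv1 F160658) D194874 (iv5 D194813) F160251 (iv5 F147000) F358101 (iv5 D83293) D83291 (iv4 F361144)
theorem F394835 : act 6 n194248 = n194874 := d21_5 F36073 (iv1 F36036) D47772 D103045 D194248 (iv5 D194874) (iv1 D104663) (iv5 F158292) (iv6 D103048) (iv1 F75041)
def n194875 : Q := act 6 n104663
theorem D194875 : act 6 n104663 = n194875 := rfl
theorem F394836 : act 2 n194875 = n166718 := d3_1 D194875 F358425 F290452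
theorem F394837 : act 4 n194875 = n104824 := d10_1 D194875 F394831 (iv4 D194873)
theorem F394838 : act 7 n194875 = n191066 := d14_2 (iv7 F290451) D194875 (iv6 D191066) (iv7 F290430) (iv6 F160652)
theorem F394839 : act 0 n104683 = n194875 := d21_4 (iv5 D89852) D89849 F340364 D104683 (iv6 D194875) D194874 F394834 (iv5 D194813) (iv6 D104594) (iv1 F137919)
theorem F394840 : act 1 n158049 = n194875 := d15_1 (iv0 F254194) F394838 F382076
def n194876 : Q := act 0 n104665
theorem D194876 : act 0 n104665 = n194876 := rfl
def n194877 : Q := act 2 n104665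
theorem D194877 : act 2 n104665 = n194877 := rfl
theorem F394841 : act 4 n194877 = n128859 := d1_2 F363901 D194877 (iv2 F214449)
theorem F394842 : act 1 n194877 = n194274 := d15_0 (iv0 F392609) F340355 D194877
def n194878 : Q := act 6 n104665
theorem D194878 : act 6 n104665 = n194878 := rfl
theorem F394843 : act 3 n194878 = n104666 := d7_1 D194878 (iv6 D104666) D104665
theorem F394844 : act 0 n113456 = n194878 := d20_4 (iv4 F170706) (iv1 D59152) (iv4 F93337) (iv3 F176641) F394843 (iv4 F358091) F358089 (iv4 F248969) (iv3 F326915) (iv1 F169864)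
def n194879 : Q := act 2 n104667
theorem D194879 : act 2 n104667 = n194879 := rfl
def n194880 : Q := act 4 n104667
theorem D194880 : act 4 n104667 = n194880 := rfl
def n194881 : Q := act 7 n104668
theorem D194881 : act 7 n104668 = n194881 := rfl
theorem F394845 : act 4 n194881 = n173852 := d11_1 D194881 F337350 F287723
theorem F394846 : act 1 n194861 = n194881 := d15_1 F394784 (iv7 D194881) (iv2 F340358)
def n194882 : Q := act 5 n104670
theorem D194882 : act 5 n104670 = n194882 := rfl
theorem F394847 : act 0 n194882 = n187227 := d21_7 D78835 (iv1 F254241) (iv5 D84320) D84321 (iv1 F353251) F352060 D194882 F369559 (iv6 D164093) (iv1 D78833)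
def n194883 : Q := act 0 n104672
theorem D194883 : act 0 n104672 = n194883 := rfl
theorem F394848 : act 5 n194883 = n121722 := d17_3 (iv1 D104670) D104672 D194883 (iv4 D121722) D121723 F336450 (iv5 F335987) F199394 (iv4 F352059)
theorem F394849 : act 3 n124646 = n194883 := d6_3 F394848 F194283 D124646
theorem F394850 : act 7 n166413 = n194883 := d13_0 F394848 F194284 D166413
def n194884 : Q := act 1 n104672
theorem D194884 : act 1 n104672 = n194884 := rfl
theorem F394851 : act 5 n166408 = n194884 := d21_0 (iv1 D194884) (iv5 D104672) (iv6 F340372) F335305 F59862 D38883 D84327 (iv5 F250808) D188476 (iv1 F373616)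
theorem F394852 : act 2 n194884 = n166413 := d2_1 F394851 (iv5 D166413) (iv2 F261979)
def n194885 : Q := act 4 n104672
theorem D194885 : act 4 n104672 = n194885 := rfl
theorem F394853 : act 3 n194885 = n191048 := d5_1 D194885 (iv4 D191048) (iv3 D97182) (iv4 F76068) (iv3 F160366)
theorem F394854 : act 6 n194885 = n191048 := d10_2 (iv6 F363599) D194885 (iv4 D191048)
theorem F394855 : act 5 n194885 = n135860 := d16_3 F160353 D104672 D194885 (iv4 D135860) (iv5 F336464) (iv4 F239275) (iv5 F352041) (iv7 F352039) (iv2 F352037)
def n194886 : Q := act 0 n104680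
theorem D194886 : act 0 n104680 = n194886 := rfl
theorem F394856 : act 5 n194886 = n190109 := d19_1 D194886 (iv4 F381615) F365914 F381541 (iv5 D190915) F149703 (iv3 D93865) (iv1 F139587) (iv5 F347705) F157148 (iv3 F137253) (iv1 F340568) F340570 (iv4 F149598) F149597 (iv1 F71452) D45525 F340363 D104680
theorem F394857 : act 2 n162652 = n194886 := d15_3 (iv0 D194886) (iv0 F394627) (iv7 F394626)
theorem F394858 : act 1 n194879 = n194886 := d15_0 (iv0 D194886) F340362 D194879
theorem F394859 : act 7 n194886 = n194485 := d4_2 (iv7 F394626) F394857 (iv2 F394622)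
theorem F394860 : act 1 n194825 = n194879 := d15_0 F394858 F394859 (iv2 F394622)
def n194887 : Q := act 2 n104680
theorem D194887 : act 2 n104680 = n194887 := rfl
theorem F394861 : act 3 n194887 = n194877 := d0_2 D104680 D194887 (iv2 D194877) (iv3 D104665) F340360
theorem F394862 : act 7 n194887 = n194879 := d4_2 (iv7 F340362) D194887 (iv2 D194879)
theorem F394863 : act 1 n194887 = n194485 := d15_0 (iv0 F393405) (iv7 F340362) D194887
theorem F394864 : act 1 n162652 = n194887 := d15_0 F394863 (iv7 F394859) (iv2 F394857)
def n194888 : Q := act 4 n104680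
theorem D194888 : act 4 n104680 = n194888 := rfl
theorem F394865 : act 3 n194888 = n191257 := d5_1 D194888 (iv4 D191257) F150261 F340363 D104680
theorem F394866 : act 7 n194888 = n194880 := d11_2 (iv7 F340362) D194888 (iv4 D194880)
def n194889 : Q := act 7 n104683
theorem D194889 : act 7 n104683 = n194889 := rfl
theorem F394867 : act 2 n194889 = n158049 := d4_1 D194889 F358422 (iv2 F340365)
theorem F394868 : act 4 n194889 = n158047 := d11_1 D194889 (iv7 F249002) (iv4 F358096)
theorem F394869 : act 5 n194889 = n187252 := d13_1 D194889 (iv7 F381516) F381517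
theorem F394870 : act 6 n194889 = n194881 := d14_1 D194889 (iv7 D194881) (iv6 D104668) F340354 D104683
theorem F394871 : act 1 n191066 = n194889 := d15_1 (iv0 F382079) (iv7 D194889) F340365
theorem F394872 : act 1 n194889 = n166718 := d15_1 F394871 F262428 (iv2 F382076)
theorem F394873 : act 1 n124236 = n190869 := d18_6 F362515 F248969 (iv1 F358444) (iv4 F394868) F394869 F381513 F381395 D190871 F381404
theorem F394874 : act 3 n166671 = n194889 := d20_5 (iv4 D17596) D17594 D36437 D79995 D166671 F394868 F358443 (iv4 F122811) (iv3 D80007) (iv1 D36442)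
theorem F394875 : act 7 n160864 = n166671 := d8_0 F394874 (iv7 D194889) F358095
theorem F394876 : act 2 n166671 = n160865 := d15_3 F262314 F262312 F394875
theorem F394877 : act 2 n160864 = n166672 := d15_3 F262313 F262308 (iv7 F394875)
theorem F394878 : act 6 n166672 = n194887 := d3_2 (iv6 F358421) F394877 (iv2 D194887)
theorem F394879 : act 7 n166672 = n160865 := d4_2 (iv7 F394875) F394877 (iv2 F394876)
def n194890 : Q := act 1 n104685
theorem D194890 : act 1 n104685 = n194890 := rfl
theorem F394880 : act 7 n194890 = n128944 := d15_2 (iv0 F392609) D194890 (iv2 F392607)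
theorem F394881 : act 4 n194890 = n128945 := d18_7 (iv1 F358163) F358165 (iv1 F164289) (iv4 F207041) F207114 (iv4 F363902) D194890 (iv0 F207414) (iv5 D129183)
theorem F394882 : act 5 n144160 = n194890 := d16_1 D144160 F394881 F207168 (iv4 F99159) F99160 (iv4 F112212) D157242 F247458 F182911
theorem F394883 : act 0 n190955 = n144160 := d17_2 (iv1 F394560) F394558 F394882 F394881 F207168 (iv0 F168412) D132639 (iv0 F358174) (iv4 F380404)
theorem F394884 : act 0 n194877 = n194890 := d18_2 D128859 (iv4 F394841) F394881 F207168 (iv4 F99159) F99164 (iv4 F168195) (iv0 D60595) D60597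
theorem F394885 : act 0 n144160 = n187297 := d17_2 F394884 (iv5 F394882) F369747 (iv4 F362288) (iv5 D128857) F206865 F362270 F362272 (iv4 F394841)
theorem F394886 : act 2 n194890 = n194876 := d15_3 (iv0 D194876) F363903 (iv7 F394880)
theorem F394887 : act 5 n194876 = n190953 := d2_2 F394882 F394886 (iv2 F381681)
theorem F394888 : act 7 n194876 = n194274 := d4_2 (iv7 F394880) F394886 F392607
def n194891 : Q := act 2 n104685
theorem D194891 : act 2 n104685 = n194891 := rfl
theorem F394889 : act 3 n194891 = n194879 := d0_2 D104685 D194891 (iv2 D194879) (iv3 D104667) F340353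
theorem F394890 : act 5 n194891 = n133382 := d2_2 F369662 D194891 (iv2 F369664)
theorem F394891 : act 7 n194891 = n194877 := d4_2 (iv7 F340355) D194891 (iv2 D194877)
theorem F394892 : act 1 n194891 = n194876 := d15_0 (iv0 D194876) (iv7 F340355) D194891
theorem F394893 : act 1 n128944 = n194891 := d15_0 F394892 F394888 F392607
def n194892 : Q := act 6 n104685
theorem D194892 : act 6 n104685 = n194892 := rfl
theorem F394894 : act 3 n194892 = n104688 := d7_1 D194892 (iv6 D104688) D104685
def n194893 : Q := act 0 n104688
theorem D194893 : act 0 n104688 = n194893 := rfl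
theorem F394895 : act 4 n194893 = n104816 := d20_2 (iv4 F340359) D194893 (iv3 F379385) (iv1 D158859) (iv3 D75801) (iv4 D34663) F296296 D38271 D83140 D173851
theorem F394896 : act 6 n194893 = n190322 := d21_5 (iv5 F137999) F138001 F340357 D104688 D194893 (iv5 F393772) (iv1 F393773) (iv5 D189937) F147113 (iv1 F137944)
theorem F394897 : act 5 n194893 = n194508 := d21_0 (iv1 F393491) (iv5 F340600) F160333 (iv1 F149958) (iv6 F358002) (iv5 F137999) F138001 F340357 D104688 D194893
theorem F394898 : act 2 n194870 = n194893 := d15_3 (iv0 D194893) F394784 (iv7 F394814)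
theorem F394899 : act 7 n194893 = n194873 := d4_2 (iv7 F394814) F394898 F394827
theorem F394900 : act 1 n194881 = n194893 := d15_1 F394846 F394899 F394827
def n194894 : Q := act 5 n104688
theorem D194894 : act 5 n104688 = n194894 := rfl
theorem F394901 : act 2 n194894 = n109751 := d2_1 D194894 (iv5 F354536) (iv2 F340358)
theorem F394902 : act 6 n194894 = n160975 := d12_2 D104688 D194894 (iv5 F369564) F369565 F340357
theorem F394903 : act 4 n194894 = n173213 := d16_2 (iv4 F340359) D194894 (iv5 D173213) (iv4 F325423) D101756 D193460 F389922 F337350 (iv2 F337348)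
theorem F394904 : act 0 n194894 = n160949 := d17_2 (iv1 F394784) D194894 F364241 (iv4 F392982) (iv5 D194377) (iv0 D103259) (iv5 F76221) D104817 (iv4 F394782)
theorem F394905 : act 1 n194894 = n136273 := d17_8 (iv1 D77243) D77245 D160960 F336620 (iv4 F393489) (iv5 F394897) (iv0 D194893) D194894 F349862
theorem F394906 : act 7 n194851 = n194894 := d11_0 F394903 F345767 (iv4 F394751)
def n194895 : Q := act 7 n104688
theorem D194895 : act 7 n104688 = n194895 := rfl
theorem F394907 : act 2 n194895 = n194881 := d4_1 D194895 (iv7 D194881) (iv2 F340358)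
theorem F394908 : act 4 n194895 = n158051 := d11_1 D194895 F358121 (iv4 F340359)
theorem F394909 : act 5 n194895 = n194851 := d13_1 D194895 F394906 (iv5 D194894)
theorem F394910 : act 6 n194895 = n158049 := d14_1 D194895 F358422 (iv6 D104666) F340361 D104688
theorem F394911 : act 1 n194873 = n194895 := d15_1 (iv0 F394829) (iv7 D194895) F340358
theorem F394912 : act 1 n194895 = n194870 := d15_1 F394911 F394814 (iv2 F394827)
def n194896 : Q := act 4 n104693
theorem D194896 : act 4 n104693 = n194896 := rfl
theorem F394913 : act 2 n194896 = n192080 := d1_1 D194896 F385463 (iv2 F161648)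
theorem F394914 : act 3 n194896 = n159764 := d5_1 D194896 (iv4 D159764) F114590 D76448 (iv3 F161646)
theorem F394915 : act 7 n194896 = n192074 := d11_2 F161647 D194896 F385439
theorem F394916 : act 0 n194896 = n192078 := d17_0 F385448 (iv1 F356806) (iv5 D186484) F137892 D187231 F369866 F369863 F160393 D194896
theorem F394917 : act 1 n194896 = n191993 := d18_8 F356574 (iv4 D69655) F237514 (iv4 F183426) F346302 F293552 F160393 D194896 F385136
def n194897 : Q := act 3 n104702
theorem D194897 : act 3 n104702 = n194897 := rfl
theorem F394918 : act 2 n194897 = n194746 := d0_1 D194897 (iv3 D194746) (iv2 F370163) F370164 (iv2 F161696)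
theorem F394919 : act 4 n194897 = n194746 := d5_2 (iv4 F161623) D194897 (iv3 D194746) F367170 F288166
theorem F394920 : act 6 n194897 = n194396 := d7_2 (iv6 F251860) D194897 (iv3 D194396)
theorem F394921 : act 7 n194897 = n194795 := d8_2 (iv7 F161659) D194897 F394502
theorem F394922 : act 0 n194897 = n194820 := d20_4 F290572 F290554 (iv4 F161623) D194897 F394603 F380411 F385441 F385439 F159062 (iv1 D103240)
theorem F394923 : act 0 n194442 = n194897 := d20_4 (iv4 F382841) F388065 (iv4 F343085) (iv3 F393233) (iv3 D194897) F161623 (iv1 F290539) (iv4 F392139) F392138 (iv1 F381835)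
def n194898 : Q := act 5 n104703
theorem D194898 : act 5 n104703 = n194898 := rfl
theorem F394924 : act 2 n194898 = n104704 := d2_1 D194898 (iv5 D104704) D104703
theorem F394925 : act 3 n194898 = n190163 := d6_1 D194898 F379014 F160418
theorem F394926 : act 7 n194898 = n190039 := d13_2 F160410 D194898 F378629
theorem F394927 : act 4 n194898 = n190360 := d16_2 F293795 D194898 (iv5 D190360) F346176 F178020 F178018 (iv5 D92880) F292995 (iv2 F158225)
theorem F394928 : act 0 n194898 = n159814 := d17_2 (iv1 F160406) D194898 (iv5 D159814) (iv4 F114625) D90118 (iv0 F290547) (iv5 D102726) (iv0 F290537) (iv4 F161630)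
theorem F394929 : act 1 n194898 = n159816 := d17_6 (iv1 F69391) (iv5 F83499) (iv1 F177469) (iv5 F293796) F293795 D194898 (iv5 D159816) F114617 (iv4 F69387)
def n194899 : Q := act 4 n104704
theorem D194899 : act 4 n104704 = n194899 := rfl
theorem F394930 : act 2 n194899 = n190360 := d1_1 D194899 (iv4 F394927) F394924
theorem F394931 : act 5 n194899 = n190355 := d16_1 D194899 F379536 (iv5 F251283) F251282 F248569 F161621 (iv5 F378629) (iv7 F394926) F394924
theorem F394932 : act 0 n194899 = n164447 := d17_0 (iv5 D164447) (iv1 D78977) D78978 (iv4 F251893) F251894 (iv0 F114634) D95575 (iv0 F251424) D194899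
theorem F394933 : act 1 n194899 = n164444 := d18_6 (iv1 F161628) (iv4 D76448) F293791 (iv4 F293775) D104704 D194899 F259085 F379262 F379260
def n194900 : Q := act 6 n104704
theorem D194900 : act 6 n104704 = n194900 := rfl
theorem F394934 : act 3 n194900 = n104705 := d7_1 D194900 (iv6 D104705) (iv3 F160388)
theorem F394935 : act 5 n194900 = n187400 := d12_1 D194900 (iv6 D187400) (iv5 D90017) (iv6 F293776) D104704
def n194901 : Q := act 7 n104705
theorem D194901 : act 7 n104705 = n194901 := rfl
theorem F394936 : act 2 n194901 = n187278 := d4_1 D194901 F369688 F160427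
theorem F394937 : act 4 n194901 = n163753 := d11_1 D194901 F358129 F358139
theorem F394938 : act 5 n194901 = n187403 := d13_1 D194901 (iv7 D187403) (iv5 F358962)
theorem F394939 : act 1 n190939 = n194901 := d15_1 (iv0 F381620) (iv7 D194901) (iv2 F160427)
theorem F394940 : act 1 n194901 = n190070 := d15_1 F394939 (iv7 F378827) (iv2 F381617)
def n194902 : Q := act 3 n104707
theorem D194902 : act 3 n104707 = n194902 := rfl
theorem F394941 : act 2 n194902 = n193590 := d0_1 D194902 F390380 (iv2 F158484) (iv3 F161646) F161648
theorem F394942 : act 4 n194902 = n190701 := d5_2 F385463 D194902 F380664 (iv4 F356335) (iv3 F385462)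
theorem F394943 : act 6 n194902 = n190716 := d7_2 (iv6 F251256) D194902 F380765
theorem F394944 : act 7 n194902 = n192829 := d8_2 (iv7 F161637) D194902 F387928
theorem F394945 : act 1 n188210 = n194902 := d15_1 (iv0 F380676) F394944 F387927
theorem F394946 : act 1 n194902 = n191995 := d15_1 F394945 F385144 (iv2 F372681)
def n194903 : Q := act 3 n104712
theorem D194903 : act 3 n104712 = n194903 := rfl
def n194904 : Q := act 6 n104712
theorem D194904 : act 6 n104712 = n194904 := rfl
theorem F394947 : act 5 n194904 = n109366 := d21_6 F64851 F62974 D23550 D48417 D104712 D194904 F363499 F159123 (iv6 D89827) (iv1 F64849)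
theorem F394948 : act 3 n109367 = n194904 := d6_3 F394947 (iv3 D109366) D109367
theorem F394949 : act 0 n166719 = n194904 := d17_2 F333996 D166719 F394947 F363502 F194341 (iv0 F254427) F254071 (iv0 F254415) (iv4 F333999)
theorem F394950 : act 1 n127623 = n194904 := d17_6 (iv1 F88447) (iv5 F88404) (iv1 F88408) (iv5 F250818) (iv4 F333992) D127623 F394947 F363500 (iv4 D121158)
theorem F394951 : act 6 n194903 = n109367 := d7_0 F394948 (iv6 D194904) D194903
def n194905 : Q := act 3 n104713
theorem D194905 : act 3 n104713 = n194905 := rfl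
theorem F394952 : act 5 n194905 = n144130 := d6_2 F379210 D194905 F376144
theorem F394953 : act 0 n194905 = n191039 := d21_1 (iv5 F394952) F381950 (iv6 D144235) (iv1 D67561) (iv6 D31387) (iv5 D14794) D14791 D31374 D67525 D144130
def n194906 : Q := act 0 n104715
theorem D194906 : act 0 n104715 = n194906 := rfl
theorem F394954 : act 5 n194906 = n190943 := d17_1 D194906 (iv1 F381639) (iv5 D190084) (iv4 F151744) D191418 (iv0 F383434) (iv5 F294479) F294478 (iv4 F160402)
theorem F394955 : act 4 n194906 = n192868 := d20_2 (iv4 F160402) D194906 F388062 F357142 F74651 (iv4 F68132) (iv1 F134005) F66071 (iv3 F73872) F134655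
theorem F394956 : act 3 n194906 = n194721 := d20_5 (iv4 F62971) F64839 (iv4 F76127) D104715 D194906 (iv4 D194721) F290791 F76042 F76041 (iv1 F62975)
theorem F394957 : act 6 n194906 = n181879 := d21_5 D190813 F381210 (iv5 D188471) F294096 D194906 F365942 (iv1 F382620) (iv5 D191217) F150145 (iv1 F149510)
theorem F394958 : act 2 n185470 = n194906 := d15_3 (iv0 D194906) (iv0 F381204) (iv7 F363040)
theorem F394959 : act 1 n185471 = n194906 := d15_0 (iv0 D194906) F160405 D185471
theorem F394960 : act 7 n194906 = n185469 := d15_2 (iv0 F381645) F394959 F363039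
theorem F394961 : act 6 n189765 = n190943 := d12_4 F394957 F365942 (iv6 F363174) D189765 (iv5 F394954)
def n194907 : Q := act 4 n104719
theorem D194907 : act 4 n104719 = n194907 := rfl
theorem F394962 : act 5 n194907 = n164374 := d9_2 D104719 D194907 (iv4 D164374) F120132 (iv4 F177664) (iv5 F293796) F293795 D194898 F394927 (iv5 D190360) F346176 F178020 F178018 (iv5 D92880) (iv4 F76132)
theorem F394963 : act 7 n194907 = n194899 := d11_2 (iv7 F160415) D194907 (iv4 D194899)
def n194908 : Q := act 6 n104719
theorem D194908 : act 6 n104719 = n194908 := rfl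
theorem F394964 : act 3 n194908 = n104720 := d7_1 D194908 (iv6 D104720) (iv3 F160414)
theorem F394965 : act 5 n194908 = n188872 := d12_1 D194908 (iv6 D188872) (iv5 D92873) (iv6 F76133) D104719
def n194909 : Q := act 0 n104720
theorem D194909 : act 0 n104720 = n194909 := rfl
def n194910 : Q := act 1 n104720
theorem D194910 : act 1 n104720 = n194910 := rfl
theorem F394966 : act 1 n194910 = n194652 := d15_1 D194910 (iv7 D194652) (iv2 F160416)
def n194911 : Q := act 7 n104720
theorem D194911 : act 7 n104720 = n194911 := rfl
theorem F394967 : act 2 n194911 = n194652 := d4_1 D194911 (iv7 D194652) (iv2 F160416)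
theorem F394968 : act 5 n194911 = n194479 := d13_1 D194911 (iv7 D194479) (iv5 F160417)
theorem F394969 : act 6 n194911 = n194901 := d14_1 D194911 (iv7 D194901) (iv6 D104705) (iv7 F76136) D104720
theorem F394970 : act 1 n194652 = n194909 := d15_0 (iv0 D194909) D194911 F394967
theorem F394971 : act 1 n194651 = n194911 := d15_1 D194651 (iv7 D194911) F160416
theorem F394972 : act 1 n194911 = n194650 := d15_0 (iv0 D194650) D194652 (iv2 F394967)
def n194912 : Q := act 6 n104722
theorem D194912 : act 6 n104722 = n194912 := rfl
theorem F394973 : act 3 n194912 = n104724 := d7_1 D194912 (iv6 D104724) (iv3 F160422)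
theorem F394974 : act 5 n194912 = n185604 := d12_1 D194912 (iv6 D185604) (iv5 D88411) (iv6 F293832) D104722
def n194913 : Q := act 4 n104756
theorem D194913 : act 4 n104756 = n194913 := rfl
theorem F394975 : act 2 n194913 = n178085 := d1_1 D194913 (iv4 F365763) (iv2 F160464)
theorem F394976 : act 7 n194913 = n178084 := d11_2 (iv7 F160465) D194913 F380561
theorem F394977 : act 0 n194913 = n178086 := d18_2 (iv1 F160466) D194913 F394585 F394581 (iv4 D186907) F368447 F368445 (iv0 D97476) D97477
theorem F394978 : act 1 n194913 = n122584 := d18_6 F378199 F154827 (iv1 F292391) F292393 D104756 D194913 F196324 D172086 (iv5 F378201)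
def n194914 : Q := act 6 n104756
theorem D194914 : act 6 n104756 = n194914 := rfl
theorem F394979 : act 2 n194914 = n189873 := d3_1 D194914 (iv6 D189873) (iv2 F160464)
def n194915 : Q := act 4 n104757
theorem D194915 : act 4 n104757 = n194915 := rfl
theorem F394980 : act 2 n194915 = n104759 := d1_1 D194915 (iv4 D104759) (iv2 F160467)
theorem F394981 : act 6 n194915 = n174907 := d10_2 F358399 D194915 F273809
theorem F394982 : act 7 n194915 = n189916 := d11_2 (iv7 F160469) D194915 (iv4 D189916)
theorem F394983 : act 3 n194915 = n177797 := d20_3 (iv4 D189926) F160470 D194915 (iv1 D177797) (iv3 D84658) (iv4 D39101) D39099 D84652 D177786 (iv1 F378273)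
theorem F394984 : act 0 n140701 = n194915 := d20_10 (iv4 D194915) (iv1 F160471) D189881 F378072 (iv1 D178318) (iv3 F328591) F81186 F93897 (iv4 F101700) (iv3 F223790)
theorem F394985 : act 6 n177797 = n174901 := d7_2 (iv6 F394981) F394983 F362034
theorem F394986 : act 1 n189929 = n194915 := d15_1 D189929 F394982 F378234
def n194916 : Q := act 6 n104758
theorem D194916 : act 6 n104758 = n194916 := rfl
theorem F394987 : act 2 n194916 = n163272 := d3_1 D194916 F344664 F160474
theorem F394988 : act 4 n194916 = n157888 := d10_1 D194916 (iv6 F378078) F378077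
theorem F394989 : act 5 n194916 = n190129 := d12_1 D194916 (iv6 D190129) (iv5 D95653) D95654 F160477
def n194917 : Q := act 0 n104759
theorem D194917 : act 0 n104759 = n194917 := rfl
theorem F394990 : act 4 n194917 = n192813 := d20_2 D104759 D194917 (iv3 F387879) (iv1 D103097) F75093 D47798 (iv1 F148372) (iv4 D96393) D96392 F148373
theorem F394991 : act 1 n189916 = n194917 := d15_0 (iv0 D194917) F160478 (iv2 F378234)
theorem F394992 : act 3 n108449 = n194917 := d5_5 F394990 (iv3 F387879) F319036 F176721 (iv4 F336684)
theorem F394993 : act 5 n194917 = n108446 := d6_2 D108449 F394992 F167677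
theorem F394994 : act 7 n194917 = n140701 := d8_2 (iv7 F336686) F394992 F223790
theorem F394995 : act 2 n194917 = n189929 := d15_3 F394986 (iv0 F394984) (iv7 F394994)
def n194918 : Q := act 1 n104759
theorem D194918 : act 1 n104759 = n194918 := rfl
theorem F394996 : act 1 n194918 = n189916 := d15_1 D194918 (iv7 F394982) F394980
theorem F394997 : act 7 n194918 = n189929 := d15_2 (iv0 D194917) D194918 (iv2 F394995)
theorem F394998 : act 4 n194918 = n192812 := d18_7 D100723 F289691 (iv1 D88289) F62408 D48438 D104759 D194918 (iv0 D192812) (iv5 D100725)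
theorem F394999 : act 6 n140700 = n194918 := d21_3 D111605 F387849 (iv5 F354409) (iv1 D194918) (iv6 F358400) (iv5 D174115) (iv1 F343720) (iv5 D111625) (iv6 D51479) D51474
theorem F395000 : act 2 n194918 = n140701 := d3_1 F394999 (iv6 D140701) D140700
theorem F395001 : act 5 n194918 = n188942 := d12_1 F394999 (iv6 D188942) (iv5 D92917) D92918 (iv5 F354409)
theorem E103596 : n111723 = n111610 := (c21_8 D50349 D109051 (iv5 F378262) (iv6 F378235) (iv1 F394996) (iv6 F394999) F354409 (iv1 F354413) (iv5 D111610) (iv6 F378714) (iv1 D50346))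
theorem F395002 : act 0 n111610 = n51515 := (sb E103596 (iv1 D111723))
theorem F395003 : act 1 n111610 = n92918 := (sb E103596 F354413)
theorem F395004 : act 4 n111610 = n92899 := (sb E103596 (iv4 F354332))
theorem F395005 : act 0 n111622 = n194431 := d21_4 (iv5 D111610) (iv1 D51475) D51478 D111622 (iv6 D194431) F158788 (iv1 F292695) (iv5 D92917) D92918 (iv1 F395003)
def n194919 : Q := act 3 n104759
theorem D194919 : act 3 n104759 = n194919 := rfl
theorem F395006 : act 4 n194919 = n104761 := d5_2 D104759 D194919 (iv3 D104761) (iv4 D48439) (iv3 F76176)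
theorem F395007 : act 7 n194919 = n189930 := d8_2 (iv7 F160478) D194919 (iv3 D189930)
def n194920 : Q := act 5 n104759
theorem D194920 : act 5 n104759 = n194920 := rfl
theorem F395008 : act 7 n194920 = n140363 := d13_2 (iv7 F160478) D194920 (iv5 F378263)
def n194921 : Q := act 6 n104761
theorem D194921 : act 6 n104761 = n194921 := rfl
theorem F395009 : act 3 n194921 = n104762 := d7_1 D194921 (iv6 D104762) D104761
def n194922 : Q := act 1 n104762
theorem D194922 : act 1 n104762 = n194922 := rfl
theorem F395010 : act 1 n194922 = n194814 := d15_1 D194922 (iv7 D194814) (iv2 F160482)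
theorem F395011 : act 7 n194922 = n194378 := d15_2 (iv0 F394680) D194922 (iv2 F394676)
theorem F395012 : act 4 n194922 = n104798 := d18_7 (iv1 F393495) F393497 F341907 (iv4 F325886) F148400 (iv4 F160483) D194922 F160609 F340600
theorem F395013 : act 6 n106731 = n194922 := d21_3 D104849 F356895 D106731 (iv1 D194922) (iv6 D104762) F76180 F76235 (iv5 D48466) D48467 (iv1 F340333)
theorem F395014 : act 2 n194377 = n194922 := d1_3 F395012 F358141 (iv4 F392982)
theorem F395015 : act 5 n194252 = n194922 := d16_1 (iv4 F392505) F395012 F358124 (iv4 F336541) (iv5 D131694) (iv4 F211054) (iv5 F359936) (iv7 F389911) F389913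
def n194923 : Q := act 5 n104762
theorem D194923 : act 5 n104762 = n194923 := rfl
theorem F395016 : act 2 n194923 = n194813 := d2_1 D194923 (iv5 D194813) (iv2 F160482)
theorem F395017 : act 6 n194923 = n190080 := d12_2 D104762 D194923 (iv5 D190080) F147278 (iv5 F76180)
theorem F395018 : act 4 n194923 = n152598 := d16_2 (iv4 F160483) D194923 (iv5 D152598) (iv4 F205798) F341901 (iv4 F378023) F378024 (iv7 D104597) (iv2 F76181)
theorem F395019 : act 0 n194923 = n194294 := d17_2 (iv1 D194922) D194923 F392708 (iv4 F394895) F394897 (iv0 D194508) F159130 D104798 (iv4 F395012)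
theorem F395020 : act 1 n194923 = n194361 := d17_6 F343704 D174261 F354477 F148400 (iv4 F160483) D194923 F392936 F160653 F361143
def n194924 : Q := act 7 n104762
theorem D194924 : act 7 n104762 = n194924 := rfl
theorem F395021 : act 2 n194924 = n194814 := d4_1 D194924 (iv7 D194814) (iv2 F160482)
theorem F395022 : act 4 n194924 = n104765 := d11_1 D194924 (iv7 D104765) (iv4 F160483)
theorem F395023 : act 6 n194924 = n189938 := d14_1 D194924 (iv7 D189938) F147113 (iv7 F76179) D104762
theorem F395024 : act 1 n194377 = n194924 := d15_1 F392983 (iv7 D194924) F160482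
theorem F395025 : act 1 n194924 = n194378 := d15_1 F395024 (iv7 F395011) (iv2 F395014)
def n194925 : Q := act 6 n104764
theorem D194925 : act 6 n104764 = n194925 := rfl
theorem F395026 : act 2 n194925 = n194816 := d3_1 D194925 (iv6 D194816) F358409
def n194926 : Q := act 5 n104769
theorem D194926 : act 5 n104769 = n194926 := rfl
theorem F395027 : act 2 n194926 = n174197 := d2_1 D194926 F359242 F289678
theorem F395028 : act 3 n194926 = n104771 := d6_1 D194926 (iv5 D104771) D104769
theorem F395029 : act 6 n194926 = n124470 := d12_2 (iv6 F289688) D194926 (iv5 D124470) (iv6 F125772) (iv5 F331183)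
theorem F395030 : act 7 n194926 = n191986 := d13_2 F289649 D194926 (iv5 D191986)
theorem F395031 : act 1 n194926 = n192812 := d17_6 (iv1 F368448) F368446 (iv1 F368474) F368476 F292387 D194926 F387878 (iv0 F382497) F356199
theorem F395032 : act 4 n194926 = n178116 := d18_5 D44597 F289667 (iv1 F292385) F292387 D194926 F378274 (iv4 D189926) (iv0 D95465) (iv5 D44598)
theorem F395033 : act 0 n194926 = n192813 := d18_0 (iv4 F394990) (iv1 F394991) (iv4 D189916) (iv5 D95454) (iv4 F147048) (iv0 F147050) (iv4 F289700) F289697 D194926
def n194927 : Q := act 5 n104770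
theorem D194927 : act 5 n104770 = n194927 := rfl
theorem F395034 : act 2 n194927 = n194817 := d2_1 D194927 (iv5 D194817) (iv2 F160504)
theorem F395035 : act 3 n194927 = n110659 := d6_1 D194927 (iv5 F340581) (iv3 F160507)
theorem F395036 : act 4 n194927 = n110660 := d9_1 D194927 F344919 (iv4 D82536) (iv5 F320694) (iv4 F331193) (iv5 D103582) (iv4 F158892) D194435 F393199 (iv5 D172371) (iv4 D82541) D82542 (iv4 F343034) (iv5 D104771) D104770
theorem F395037 : act 7 n194927 = n111829 := d13_2 F289645 D194927 F348563
theorem F395038 : act 0 n194927 = n190605 := d18_0 (iv4 F380273) (iv1 F305505) F343036 (iv5 D103020) (iv4 F158269) F289644 (iv4 F148015) (iv0 F160506) D194927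
def n194928 : Q := act 6 n104771
theorem D194928 : act 6 n104771 = n194928 := rfl
theorem F395039 : act 2 n194928 = n124469 := d3_1 D194928 (iv6 F331199) (iv2 F160508)
theorem F395040 : act 3 n194928 = n124470 := d7_1 D194928 (iv6 F395029) F395028
theorem F395041 : act 4 n194928 = n124473 := d10_1 D194928 F322456 (iv4 F343034)
theorem F395042 : act 5 n194928 = n124469 := d12_1 D194928 (iv6 F331199) (iv5 D104599) F289681 D104771
theorem F395043 : act 7 n194928 = n174211 := d14_2 F289650 D194928 F346325 (iv7 F378335) F378334
theorem F395044 : act 0 n194928 = n174210 := d21_10 F338789 (iv1 F336524) F353268 (iv6 F352054) (iv1 F160686) F352050 (iv5 D95371) (iv1 F76184) D104771 D194928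
theorem F395045 : act 0 n174209 = n194928 := d17_2 F336522 (iv5 F353243) F395042 F199090 (iv5 F193134) F323019 F336486 (iv0 F336480) D163095
def n194929 : Q := act 1 n104775
theorem D194929 : act 1 n104775 = n194929 := rfl
theorem F395046 : act 1 n194929 = n189883 := d15_1 D194929 F378087 (iv2 F335306)
theorem F395047 : act 7 n194929 = n180303 := d15_2 (iv0 F362436) D194929 (iv2 F348556)
theorem F395048 : act 5 n194929 = n148333 := d17_7 (iv1 F348587) (iv5 F344927) (iv1 F378089) F378088 F239274 (iv5 F335307) D194929 (iv0 F348585) (iv4 F348582)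
theorem F395049 : act 4 n194929 = n180260 := d17_9 (iv1 D180260) (iv5 F348569) (iv1 F289624) D194435 F393199 (iv5 D172371) F304307 (iv5 F335307) D194929
theorem F395050 : act 3 n126367 = n194929 := d19_19 (iv1 D194929) F335307 (iv4 F239274) F303428 (iv1 D72178) D72179 F326272 D79919 (iv1 F339607) (iv5 D147439) F105414 F104529 F237423 F315675 F49709 (iv3 F49689) (iv1 F93847) (iv5 F93848) (iv4 F203195)
theorem F395051 : act 6 n126365 = n194929 := d21_3 F258618 (iv1 F262230) (iv5 F326801) (iv1 D194929) F335308 (iv5 D71819) D71817 D152247 F330880 (iv1 F258619)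
theorem F395052 : act 2 n194929 = n180804 := d3_1 F395051 (iv6 D180804) (iv2 F326799)
def n194930 : Q := act 0 n104776
theorem D194930 : act 0 n104776 = n194930 := rfl
theorem F395053 : act 4 n194930 = n155084 := d18_3 F348546 (iv4 F340346) D194930 F303131 (iv4 F301199) (iv0 F131025) (iv4 F304845) (iv0 F309288) (iv5 F348548)
theorem F395054 : act 3 n194930 = n109773 := d20_5 (iv4 F363525) (iv1 F160523) (iv4 F340341) (iv3 F160514) D194930 F169768 (iv1 F324516) D164123 (iv3 F380397) F380401
theorem F395055 : act 1 n178818 = n194930 := d15_0 (iv0 D194930) F352046 (iv2 F352045)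
theorem F395056 : act 6 n109771 = n194930 := d7_0 F395054 (iv6 D109773) D109771
def n194931 : Q := act 1 n104776
theorem D194931 : act 1 n104776 = n194931 := rfl
theorem F395057 : act 1 n194931 = n178818 := d15_1 D194931 (iv7 F352049) (iv2 F352048)
theorem F395058 : act 4 n194931 = n155085 := d17_9 (iv1 D155085) (iv5 D73614) (iv1 F155141) F321959 (iv4 F120006) D164100 F348068 (iv5 F348069) D194931
theorem F395059 : act 5 n179101 = n194931 := d16_1 D179101 F395058 (iv5 F311899) (iv4 D138903) (iv5 D65215) D65214 D138898 (iv7 F246816) (iv2 F316689)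
theorem F395060 : act 6 n190744 = n179101 := d21_5 (iv5 D96543) (iv1 D45079) D45080 (iv6 F148696) D190744 F395059 (iv1 D194931) F348069 F348070 (iv1 F343053)
theorem F395061 : act 4 n179102 = n190744 := d10_3 F395060 (iv4 D179101) D179102
def n194932 : Q := act 3 n104781
theorem D194932 : act 3 n104781 = n194932 := rfl
theorem F395062 : act 7 n194932 = n104847 := d8_2 (iv7 F356901) D194932 (iv3 D104847)
theorem F395063 : act 4 n128769 = n194932 := d19_2 D60562 D128769 (iv3 D194932) (iv1 F160523) (iv5 F160702) (iv4 F340332) F163357 F77684 (iv5 D24065) F18437 (iv3 F10183) (iv1 F7777) F7774 (iv4 F7758) (iv3 F10593) (iv1 F10597) D6530 D13716 D28762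
theorem F395064 : act 0 n194275 = n194932 := d20_4 (iv4 F80268) (iv1 F166192) (iv4 F173487) (iv3 F392612) (iv3 D194932) F363525 (iv1 D185467) (iv4 F287730) (iv3 F363511) (iv1 F169210)
theorem F395065 : act 6 n194932 = n111009 := d21_5 (iv5 D104790) (iv1 F76200) D103117 D194275 F395064 (iv5 D111009) F101857 (iv5 F355934) F355935 (iv1 F160599)
theorem F395066 : act 5 n194932 = n111007 := d21_8 (iv5 D31377) (iv1 D14792) D14794 D31387 D67560 D144230 (iv5 F392614) F395064 (iv6 D111007) F80753
def n194933 : Q := act 5 n104781
theorem D194933 : act 5 n104781 = n194933 := rfl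
theorem F395067 : act 2 n194933 = n104844 := d2_1 D194933 (iv5 D104844) (iv2 F356900)
theorem F395068 : act 3 n194933 = n111007 := d6_1 D194933 (iv5 F395066) (iv3 D194932)
theorem F395069 : act 7 n194933 = n104849 := d13_2 (iv7 F356901) D194933 (iv5 D104849)
theorem F395070 : act 4 n194933 = n106287 := d16_2 (iv4 F363525) D194933 (iv5 D106287) F77570 D49126 D106293 (iv5 F363521) (iv7 F363527) (iv2 F363526)
theorem F395071 : act 1 n194933 = n106722 := d17_8 F77976 (iv5 D49126) D49125 D106292 F340332 F160702 F160523 D194933 (iv4 D106722)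
theorem F395072 : act 0 n194933 = n106733 := d21_1 D194933 (iv5 F394683) (iv6 D194839) (iv1 D104631) (iv6 D48386) (iv5 D23524) (iv1 F17928) D23610 D48446 D104781
theorem F395073 : act 6 n194933 = n111005 := d21_5 F379520 (iv1 F379783) (iv5 D190445) (iv6 F356826) (iv1 F395071) (iv5 D111005) D111003 (iv5 F226680) (iv6 F392869) F392867
def n194934 : Q := act 6 n104781
theorem D194934 : act 6 n104781 = n194934 := rfl
theorem F395074 : act 2 n194934 = n104845 := d3_1 D194934 (iv6 D104845) (iv2 F356900)
theorem F395075 : act 3 n194934 = n111009 := d7_1 D194934 (iv6 F395065) (iv3 D194932)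
theorem F395076 : act 4 n194934 = n109861 := d10_1 D194934 F378723 (iv4 F363525)
theorem F395077 : act 5 n194934 = n111006 := d12_1 D194934 (iv6 D111006) D111005 (iv6 F395073) (iv5 D194933)
theorem F395078 : act 7 n194934 = n194544 := d14_2 (iv7 F356901) D194934 F393667 F358435 (iv6 D104850)
theorem F395079 : act 0 n147671 = n194934 := d21_4 (iv5 F158392) D194272 (iv5 F394815) F394813 (iv6 D194934) D194933 F395072 (iv5 F394683) (iv6 D194839) (iv1 D104631)
theorem F395080 : act 1 n136275 = n194934 := d15_0 (iv0 F395079) F358430 (iv2 F359862)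
def n194935 : Q := act 3 n104782
theorem D194935 : act 3 n104782 = n194935 := rfl
theorem F395081 : act 5 n194935 = n190368 := d6_2 F160520 D194935 F379572
theorem F395082 : act 7 n194935 = n104842 := d8_2 (iv7 F356899) D194935 (iv3 D104842)
theorem F395083 : act 4 n125502 = n194935 := d19_2 D58754 D125502 (iv3 D194935) (iv1 D104782) (iv5 F147611) F340316 F82476 (iv1 F47539) (iv5 D29606) (iv4 D14061) (iv3 F18418) F18419 (iv5 D6386) F10076 (iv3 F19460) (iv1 D6318) D6319 D13324 D27936
theorem F395084 : act 1 n194823 = n194935 := d15_1 (iv0 F394617) F395082 (iv2 F356968)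
def n194936 : Q := act 4 n104786
theorem D194936 : act 4 n104786 = n194936 := rfl
theorem F395085 : act 2 n194936 = n189792 := d1_1 D194936 F377769 (iv2 F160582)
theorem F395086 : act 7 n194936 = n189793 := d11_2 (iv7 F160583) D194936 F377774
theorem F395087 : act 0 n194936 = n180123 := d18_2 (iv1 F160589) D194936 F299705 F369464 F369462 (iv0 F251940) (iv4 F288024) (iv0 D97357) (iv5 F76222)
theorem F395088 : act 1 n194936 = n189794 := d18_6 F142871 F70047 (iv1 F143142) (iv4 F143143) D104786 D194936 F377779 (iv0 F369731) (iv5 F347473)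
def n194937 : Q := act 6 n104786
theorem D194937 : act 6 n104786 = n194937 := rfl
theorem F395089 : act 2 n194937 = n194275 := d3_1 D194937 (iv6 D194275) (iv2 F160582)
theorem F395090 : act 0 n104847 = n194937 := d21_4 D137278 (iv1 F393643) F393641 F358434 (iv6 D194937) (iv5 D104786) (iv1 F76195) D103111 F357986 (iv1 D137276)
def n194938 : Q := act 4 n104790
theorem D194938 : act 4 n104790 = n194938 := rfl
theorem F395091 : act 2 n194938 = n104793 := d1_1 D194938 (iv4 D104793) (iv2 F160595)
theorem F395092 : act 3 n194938 = n181233 := d5_1 D194938 (iv4 F350059) F394633 (iv4 D194826) (iv3 F160596)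
theorem F395093 : act 7 n194938 = n190787 := d11_2 (iv7 F160597) D194938 F381072
theorem F395094 : act 5 n194938 = n128850 := d16_1 D194938 F341624 (iv5 D113437) F82738 F40314 (iv4 F36070) D47805 (iv7 F76202) (iv2 F160595)
theorem F395095 : act 1 n194938 = n194277 := d18_6 (iv1 F146954) (iv4 D92695) (iv1 F135443) F135440 D104790 D194938 F392618 (iv0 D189825) (iv5 D95309)
theorem F395096 : act 0 n194938 = n194278 := d20_1 D194938 F392627 (iv3 F377898) (iv1 F160244) F147993 D189916 (iv1 F394996) F394998 F387877 (iv1 F160599)
def n194939 : Q := act 6 n104790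
theorem D194939 : act 6 n104790 = n194939 := rfl
theorem F395097 : act 2 n194939 = n104794 := d3_1 D194939 (iv6 D104794) (iv2 F160595)
theorem F395098 : act 3 n194939 = n137268 := d7_1 D194939 (iv6 F340585) (iv3 F160596)
theorem F395099 : act 5 n194939 = n137264 := d12_1 D194939 (iv6 F393447) F393446 F159105 D104790
theorem F395100 : act 7 n194939 = n137263 := d14_2 (iv7 F160597) D194939 (iv6 F357981) F357982 (iv6 F357986)
theorem F395101 : act 0 n194939 = n137258 := d21_4 (iv5 D103114) (iv1 F76198) D104790 D194939 F349715 (iv5 D145416) D145413 (iv5 F376046) (iv6 D104659) (iv1 F160665)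
def n194940 : Q := act 3 n104791
theorem D194940 : act 3 n104791 = n194940 := rfl
theorem F395102 : act 2 n194940 = n192813 := d0_1 D194940 (iv3 F387879) F319035 F356019 F251821
theorem F395103 : act 5 n194940 = n190275 := d6_2 F160601 D194940 F379258
theorem F395104 : act 7 n194940 = n192812 := d8_2 F251823 D194940 F387877
theorem F395105 : act 4 n194940 = n189929 := d20_6 D95484 F147117 (iv4 D48451) (iv3 F76201) D104791 D194940 (iv1 D189929) (iv4 D95466) F70124 D44605
theorem F395106 : act 0 n174197 = n194940 := d18_0 F395105 (iv1 D189929) (iv4 D95466) (iv5 D44598) (iv4 F70107) D95436 (iv4 F160529) (iv0 F289677) (iv5 F359242)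
theorem F395107 : act 1 n191986 = n194940 := d15_0 (iv0 F395106) (iv7 F359240) (iv2 F385101)
def n194941 : Q := act 4 n104791
theorem D194941 : act 4 n104791 = n194941 := rfl
theorem F395108 : act 2 n194941 = n125687 := d1_1 D194941 F356017 F251821
theorem F395109 : act 7 n194941 = n125679 := d11_2 F251823 D194941 (iv4 F355936)
theorem F395110 : act 0 n194941 = n125685 := d17_0 F358176 (iv1 D128939) D128940 F362282 (iv5 D104788) F76199 D103111 F160600 D194941
theorem F395111 : act 1 n194941 = n125684 := d18_6 (iv1 D187199) F367176 (iv1 F251768) (iv4 F147495) F160601 D194941 (iv4 F355928) F377891 F377890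
theorem F395112 : act 5 n129078 = n194941 := d17_7 (iv1 F377894) F377896 (iv1 F369724) (iv5 F369726) F151324 D189795 (iv0 F377784) F395111 (iv4 F355928)
theorem F395113 : act 6 n194941 = n163423 := d12_2 D129078 F395112 (iv5 F358378) (iv6 F358222) (iv5 D129077)
def n194942 : Q := act 6 n104791
theorem D194942 : act 6 n104791 = n194942 := rfl
theorem F395114 : act 2 n194942 = n194276 := d3_1 D194942 (iv6 D194276) F251821
theorem F395115 : act 4 n194942 = n163423 := d10_1 D194942 (iv6 F395113) (iv4 D194941)
theorem F395116 : act 5 n194942 = n190277 := d12_1 D194942 (iv6 D190277) (iv5 D95799) D95800 F160601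
def n194943 : Q := act 3 n104793
theorem D194943 : act 3 n104793 = n194943 := rfl
theorem F395117 : act 4 n194943 = n104795 := d5_2 D104793 D194943 (iv3 D104795) (iv4 D48451) (iv3 F76201)
theorem F395118 : act 7 n194943 = n194279 := d8_2 (iv7 F160603) D194943 (iv3 D194279)
theorem F395119 : act 0 n194943 = n181007 := d19_4 (iv1 D48448) D48450 D104793 D194943 F345715 F170994 F93063 (iv1 F79469) (iv5 F39078) (iv4 F80870) (iv3 F172370) (iv1 F375496) (iv5 F390933) (iv4 D193761) D193760 F392568 (iv5 D194264) (iv4 D103089) F143099
theorem F395120 : act 5 n113358 = n194943 := d17_1 (iv1 F203080) F395119 F345715 F170994 (iv5 F97621) F176373 F176370 (iv0 F176155) (iv4 F203078)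
theorem F395121 : act 1 n194943 = n113205 := d17_6 F45158 F45157 D31363 D67500 (iv4 F176552) F395120 (iv5 D113205) (iv0 F82617) F80394
def n194944 : Q := act 5 n104793
theorem D194944 : act 5 n104793 = n194944 := rfl
theorem F395122 : act 2 n194944 = n128850 := d2_1 D194944 (iv5 F395094) F395091
theorem F395123 : act 3 n194944 = n113358 := d6_1 D194944 F395120 (iv3 D194943)
theorem F395124 : act 4 n194944 = n127407 := d9_1 D194944 (iv5 D127407) F94261 (iv5 F68107) (iv4 F75101) D103111 (iv4 F381072) (iv5 D190787) F362300 F362287 F176625 F82937 F63613 D48450 D104793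
theorem F395125 : act 7 n194944 = n128851 := d13_2 (iv7 F160603) D194944 F392621
theorem F395126 : act 0 n194944 = n128853 := d17_2 F377934 D194944 F325918 (iv4 F347479) (iv5 D95320) F146955 F356000 F356065 D189837
theorem F395127 : act 1 n194944 = n128602 := d17_6 (iv1 F160591) (iv5 D104788) (iv1 D48448) D48450 D104793 D194944 (iv5 F377919) F377918 F361713
theorem F395128 : act 6 n113356 = n194944 := d14_5 F395125 F392622 (iv7 F327443) (iv6 F202897) F202898
def n194945 : Q := act 6 n104793
theorem D194945 : act 6 n104793 = n194945 := rfl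
theorem F395129 : act 4 n194945 = n104794 := d10_1 D194945 (iv6 D104794) D104793
def n194946 : Q := act 0 n104794
theorem D194946 : act 0 n104794 = n194946 := rfl
theorem F395130 : act 3 n194946 = n160820 := d20_5 F358397 F358398 F160608 (iv3 F160604) D194946 F300942 D174906 F273804 F358391 (iv1 F160488)
theorem F395131 : act 2 n137258 = n194946 := d0_5 F395130 F300941 F354546 (iv2 F173561) D137258
theorem F395132 : act 5 n160819 = n194946 := d6_0 F395130 (iv5 D160820) D160819
theorem F395133 : act 0 n194946 = n137263 := d20_4 (iv4 F273809) (iv1 D174907) (iv4 F300942) (iv3 F395130) F220404 D137266 (iv1 F361571) (iv4 F361567) F326921 D173264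
def n194947 : Q := act 1 n104794
theorem D194947 : act 1 n104794 = n194947 := rfl
theorem F395134 : act 1 n194947 = n137263 := d15_1 D194947 (iv7 F395100) F395097
theorem F395135 : act 7 n194947 = n137258 := d15_2 (iv0 D194946) D194947 F395131
theorem F395136 : act 3 n111802 = n194947 := d20_3 (iv4 F80295) (iv1 F170729) (iv4 F173549) (iv1 D194947) F160604 (iv4 F160608) F394569 (iv4 D194815) F358393 F100439
def n194948 : Q := act 7 n104794
theorem D194948 : act 7 n104794 = n194948 := rfl
theorem F395137 : act 2 n194948 = n137263 := d4_1 D194948 (iv7 F395100) F395097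
theorem F395138 : act 3 n194948 = n104799 := d8_1 D194948 (iv7 D104799) (iv3 F160604)
theorem F395139 : act 5 n194948 = n137262 := d13_1 D194948 (iv7 F393471) F393470
theorem F395140 : act 6 n194948 = n137275 := d14_1 D194948 F357964 F147538 (iv7 F76202) D104794
theorem F395141 : act 0 n137258 = n194948 := d21_7 (iv5 F364562) (iv1 D155973) (iv5 D74184) F53385 D64076 D136296 F349714 F395139 F220403 (iv1 F173589)
def n194949 : Q := act 0 n104795
theorem D194949 : act 0 n104795 = n194949 := rfl
theorem F395142 : act 4 n194949 = n125699 := d18_3 (iv1 F395121) F395117 D194949 F202176 F93074 F82313 D112838 (iv0 F175700) D113205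
theorem F395143 : act 1 n194283 = n194949 := d15_0 (iv0 D194949) F160606 D194283
theorem F395144 : act 7 n125698 = n194949 := d11_0 F395142 (iv7 D125699) D125698
theorem F395145 : act 5 n144064 = n194949 := d16_3 (iv4 F49631) D67496 D144064 F395142 F202176 F93074 (iv5 F85030) (iv7 D53917) F41237
def n194950 : Q := act 1 n104795
theorem D194950 : act 1 n104795 = n194950 := rfl
theorem F395146 : act 4 n194950 = n125537 := d18_7 (iv1 F202298) F176709 F103360 (iv4 F176552) F395120 F395117 D194950 (iv0 F345730) (iv5 F345727)
theorem F395147 : act 3 n166400 = n194950 := d20_3 (iv4 D79896) D79893 D166400 (iv1 D194950) (iv3 D104795) (iv4 D48451) (iv1 F64883) D89930 F340637 F340634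
theorem F395148 : act 6 n194950 = n190595 := d7_2 F360149 F395147 (iv3 F380251)
theorem F395149 : act 7 n194950 = n194282 := d8_2 F373680 F395147 (iv3 F392645)
theorem F395150 : act 2 n194282 = n194949 := d15_3 (iv0 D194949) D194950 F395149
theorem F395151 : act 2 n194950 = n125698 := d4_1 (iv7 F395149) F395144 (iv2 F395150)
theorem F395152 : act 1 n194950 = n194283 := d15_0 F395143 (iv7 F395144) (iv2 F395151)
def n194951 : Q := act 2 n104795
theorem D194951 : act 2 n104795 = n194951 := rfl
theorem F395153 : act 3 n194951 = n194833 := d0_2 D104795 D194951 (iv2 D194833) (iv3 D104628) (iv2 F76203)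
theorem F395154 : act 5 n194951 = n190260 := d2_2 (iv5 F160605) D194951 (iv2 D190260)
theorem F395155 : act 7 n194951 = n194283 := d4_2 (iv7 F160606) D194951 (iv2 D194283)
theorem F395156 : act 1 n194951 = n125698 := d15_0 (iv0 F369671) (iv7 F160606) D194951
theorem F395157 : act 1 n194282 = n194951 := d15_0 F395156 F395144 (iv2 F395150)
def n194952 : Q := act 6 n104795
theorem D194952 : act 6 n104795 = n194952 := rfl
theorem F395158 : act 3 n194952 = n104796 := d7_1 D194952 (iv6 D104796) D104795
def n194953 : Q := act 5 n104796
theorem D194953 : act 5 n104796 = n194953 := rfl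
theorem F395159 : act 2 n194953 = n194836 := d2_1 D194953 (iv5 D194836) (iv2 F160607)
theorem F395160 : act 6 n194953 = n190251 := d12_2 D104796 D194953 (iv5 D190251) F147457 (iv5 F76205)
theorem F395161 : act 0 n194953 = n193627 := d17_2 F358398 D194953 F390492 F174257 (iv5 F378079) (iv0 D189882) F147000 D104596 F358397
theorem F395162 : act 1 n194953 = n173854 := d17_6 (iv1 F394846) F394783 (iv1 D194509) F159130 (iv4 F160608) D194953 (iv5 D173854) D173852 (iv4 F394845)
def n194954 : Q := act 7 n104796
theorem D194954 : act 7 n104796 = n194954 := rfl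
theorem F395163 : act 2 n194954 = n194837 := d4_1 D194954 (iv7 D194837) (iv2 F160607)
theorem F395164 : act 4 n194954 = n104799 := d11_1 D194954 (iv7 D104799) (iv4 F160608)
theorem F395165 : act 6 n194954 = n111961 := d14_1 D194954 F340705 F147543 (iv7 F76204) D104796
theorem F395166 : act 1 n194835 = n194954 := d15_1 D194835 (iv7 D194954) F160607
theorem F395167 : act 1 n194954 = n158829 := d15_1 F395166 F358408 (iv2 F394668)
def n194955 : Q := act 5 n104797
theorem D194955 : act 5 n104797 = n194955 := rfl
theorem F395168 : act 2 n194955 = n136273 := d2_1 D194955 F340607 F358142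
theorem F395169 : act 3 n194955 = n194893 := d6_1 D194955 F394897 (iv3 F393492)
theorem F395170 : act 4 n194955 = n160952 := d9_1 D194955 F336548 F341903 D174485 (iv4 F392505) F395015 F395012 F358124 (iv4 F336541) (iv5 D131694) (iv4 F211054) (iv5 F359936) (iv4 F392512) (iv5 F394678) F394677
theorem F395171 : act 6 n194955 = n109245 := d12_2 F392986 D194955 (iv5 F392991) (iv6 D194379) D194378
theorem F395172 : act 7 n194955 = n160949 := d13_2 (iv7 F358143) D194955 F364241
theorem F395173 : act 1 n194955 = n194851 := d17_6 (iv1 F160659) F160655 (iv1 F392508) (iv5 F394678) F394677 D194955 (iv5 F394909) F394912 (iv4 D194870)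
theorem F395174 : act 0 n194955 = n109751 := d18_0 F358122 F344721 F358419 F358415 F358397 F394674 F394672 F160612 D194955
def n194956 : Q := act 6 n104798
theorem D194956 : act 6 n104798 = n194956 := rfl
theorem F395175 : act 2 n194956 = n194839 := d3_1 D194956 (iv6 D194839) (iv2 F358141)
theorem F395176 : act 3 n194956 = n164099 := d7_1 D194956 (iv6 F353276) F358125
theorem F395177 : act 4 n194956 = n106731 := d10_1 D194956 F395013 F395012
theorem F395178 : act 5 n194956 = n112937 := d12_1 D194956 F356891 (iv5 D176875) D176876 (iv5 F358124)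
def n194957 : Q := act 0 n104803
theorem D194957 : act 0 n104803 = n194957 := rfl
theorem F395179 : act 5 n194957 = n178368 := d21_8 (iv5 D107599) (iv1 F95701) (iv5 F166301) F339217 (iv1 F239288) D155443 F352028 D194957 F335996 (iv1 F176270)
theorem F395180 : act 1 n152191 = n194957 := d15_0 (iv0 D194957) F160625 F352037
theorem F395181 : act 3 n178177 = n194957 := d6_3 F395179 (iv3 D178368) (iv5 F336002)
def n194958 : Q := act 1 n104803
theorem D194958 : act 1 n104803 = n194958 := rfl
theorem F395182 : act 1 n194958 = n152191 := d15_1 D194958 F352039 F352027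
theorem F395183 : act 3 n126019 = n194958 := d20_3 (iv4 F326028) F166517 (iv4 F202715) (iv1 D194958) (iv3 D104803) (iv4 D48454) D48453 D104801 F332159 F332158
theorem F395184 : act 6 n194958 = n126017 := d7_2 D126019 F395183 (iv3 D126017)
def n194959 : Q := act 3 n104807
theorem D194959 : act 3 n104807 = n194959 := rfl
theorem F395185 : act 2 n194959 = n109516 := d0_1 D194959 F169476 (iv2 F81317) (iv3 F173482) (iv2 F366590)
theorem F395186 : act 4 n194959 = n128926 := d5_2 (iv4 F366591) D194959 F362945 (iv4 D172452) (iv3 F362984)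
theorem F395187 : act 6 n194959 = n109514 := d7_2 F366589 D194959 (iv3 F173476)
def n194960 : Q := act 4 n104811
theorem D194960 : act 4 n104811 = n194960 := rfl
theorem F395188 : act 2 n194960 = n104812 := d1_1 D194960 (iv4 D104812) D104811
theorem F395189 : act 7 n194960 = n194852 := d11_2 (iv7 F160643) D194960 (iv4 D194852)
theorem F395190 : act 0 n194960 = n194853 := d18_2 (iv1 F160644) D194960 (iv4 F394758) (iv5 D189862) F153660 (iv0 F153662) (iv4 F75421) F76047 D104619
theorem F395191 : act 1 n194960 = n190687 := d18_6 F381214 F326524 F391409 F391407 F369704 D194960 (iv4 D190687) D190686 F381215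
def n194961 : Q := act 6 n104811
theorem D194961 : act 6 n104811 = n194961 := rfl
theorem F395192 : act 2 n194961 = n104813 := d3_1 D194961 (iv6 D104813) D104811
theorem F395193 : act 3 n194961 = n194862 := d7_1 D194961 (iv6 D194862) (iv3 F160642)
theorem F395194 : act 5 n194961 = n194367 := d12_1 D194961 (iv6 D194367) (iv5 F369965) F369966 F369704
theorem F395195 : act 0 n194961 = n162703 := d21_4 (iv5 F370012) (iv1 F370007) F369704 D194961 F382044 (iv5 D191060) (iv1 D97191) D97192 F149945 D103658
def n194962 : Q := act 1 n104812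
theorem D194962 : act 1 n104812 = n194962 := rfl
theorem F395196 : act 1 n194962 = n194852 := d15_1 D194962 (iv7 F395189) F395188
theorem F395197 : act 7 n194962 = n194853 := d15_2 F378038 D194962 F394759
theorem F395198 : act 4 n194962 = n190684 := d18_7 F382774 (iv4 F391432) (iv1 D193931) (iv4 F157428) F137942 D104812 D194962 F380580 F378822
theorem F395199 : act 2 n190687 = n194962 := d1_3 F395198 F380577 D190687
def n194963 : Q := act 3 n104812
theorem D194963 : act 3 n104812 = n194963 := rfl
theorem F395200 : act 4 n194963 = n104814 := d5_2 D104812 D194963 (iv3 D104814) (iv4 D48458) D48457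
theorem F395201 : act 7 n194963 = n194854 := d8_2 (iv7 F160646) D194963 (iv3 D194854)
theorem F395202 : act 6 n111624 = n194963 := d10_0 F395200 F348743 (iv4 F343707)
def n194964 : Q := act 5 n104812
theorem D194964 : act 5 n104812 = n194964 := rfl
theorem F395203 : act 7 n194964 = n194855 := d13_2 (iv7 F160646) D194964 (iv5 D194855)
def n194965 : Q := act 6 n104812
theorem D194965 : act 6 n104812 = n194965 := rfl
theorem F395204 : act 3 n194965 = n111624 := d7_1 D194965 F395202 (iv3 D194963)
theorem F395205 : act 4 n194965 = n104813 := d10_1 D194965 (iv6 D104813) D104812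
theorem F395206 : act 5 n174895 = n194965 := d6_0 F395204 F343708 D174895
def n194966 : Q := act 0 n104813
theorem D194966 : act 0 n104813 = n194966 := rfl
theorem F395207 : act 6 n194966 = n155967 := d21_5 F331238 F331233 F137942 D104813 D194966 (iv5 F382005) (iv1 D191052) D191053 F382009 (iv1 F160327)
theorem F395208 : act 2 n162703 = n194966 := d15_3 (iv0 D194966) (iv0 F362850) F298040
theorem F395209 : act 3 n194966 = n155969 := d0_2 D162703 F395208 F346888 F346883 (iv2 F298045)
def n194967 : Q := act 1 n104814
theorem D194967 : act 1 n104814 = n194967 := rfl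
theorem F395210 : act 1 n194967 = n194858 := d15_1 D194967 F394770 F348746
theorem F395211 : act 7 n194967 = n190681 := d15_2 (iv0 F378270) D194967 F380562
theorem F395212 : act 3 n162664 = n194967 := d20_3 F340615 (iv1 F344691) (iv4 F358730) (iv1 D194967) (iv3 D104814) (iv4 D48458) (iv1 F36753) F340367 (iv3 F76067) D104644
theorem F395213 : act 2 n194857 = n194967 := d4_3 F395211 F380562 (iv7 F394767)
def n194968 : Q := act 4 n104819
theorem D194968 : act 4 n104819 = n194968 := rfl
theorem F395214 : act 2 n194968 = n104820 := d1_1 D194968 (iv4 D104820) D104819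
theorem F395215 : act 3 n194968 = n180023 := d5_1 D194968 (iv4 F359328) F394757 (iv4 D194852) (iv3 F160660)
theorem F395216 : act 7 n194968 = n172540 := d11_2 (iv7 F160662) D194968 F361713
theorem F395217 : act 0 n194968 = n172542 := d18_2 F160664 D194968 F374554 (iv5 D188719) (iv4 D92700) F135445 F135440 F76198 D103114
theorem F395218 : act 1 n194968 = n128852 := d18_6 (iv1 F369463) F251851 F369267 F369265 (iv5 F160661) D194968 (iv4 F347471) (iv0 F347475) F369464
theorem F395219 : act 5 n180022 = n194968 := d13_3 F395216 (iv5 F361715) (iv7 F280404)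
theorem F395220 : act 5 n107529 = n106107 := d21_0 (iv1 D106107) (iv5 F77469) F343588 (iv1 D60593) D60594 D128852 (iv1 F395218) (iv5 F395219) (iv6 F361371) (iv1 F176442)
theorem F395221 : act 6 n129071 = n107529 := d21_5 (iv5 D28773) D28771 (iv5 F95154) F330390 (iv1 F343671) F395220 (iv1 D106107) (iv5 F77469) F343588 (iv1 D60593)
theorem F395222 : act 2 n107529 = n113243 := d3_1 F395221 (iv6 F377923) (iv2 F358314)
theorem F395223 : act 4 n107529 = n129073 := d10_1 F395221 (iv6 D129073) D129071
theorem F395224 : act 2 n106220 = n106107 := d2_3 (iv5 F395220) F395222 F377922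
theorem F395225 : act 7 n113244 = n107529 := d15_2 (iv0 D113243) D113244 F395222
theorem F395226 : act 7 n107528 = n113243 := d15_2 F176442 F176440 (iv2 F395222)
theorem F395227 : act 2 n113244 = n107528 := d4_3 F395226 (iv2 F395222) (iv7 F395225)
theorem F395228 : act 7 n106220 = n106106 := d13_2 F395226 F377922 (iv5 F361380)
theorem F395229 : act 2 n106106 = n106221 := d15_3 F163226 F163225 F395228
theorem F395230 : act 7 n106107 = n106221 := d4_2 (iv7 F395228) F395224 (iv2 F395229)
def n194969 : Q := act 6 n104820
theorem D194969 : act 6 n104820 = n194969 := rfl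
theorem F395231 : act 3 n194969 = n169911 := d7_1 D194969 (iv6 F364824) (iv3 F356066)
theorem F395232 : act 4 n194969 = n104821 := d10_1 D194969 (iv6 D104821) D104820
theorem F395233 : act 0 n191356 = n194969 := d20_1 D191356 F395232 F160669 D104824 (iv3 F362542) (iv4 D165769) (iv1 F122324) (iv4 F248995) (iv3 F288741) (iv1 F288745)
theorem F395234 : act 0 n194969 = n191353 := d20_1 (iv4 F395232) (iv4 D191353) F151333 (iv1 F326844) (iv3 D112259) (iv4 F174543) (iv1 D58890) (iv4 F93111) (iv3 F202255) F362514
def n194970 : Q := act 7 n104821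
theorem D194970 : act 7 n104821 = n194970 := rfl
theorem F395235 : act 3 n194970 = n104826 := d8_1 D194970 (iv7 D104826) (iv3 F160669)
theorem F395236 : act 5 n194970 = n191180 := d13_1 D194970 (iv7 D191180) (iv5 F160670)
theorem F395237 : act 6 n194970 = n194867 := d14_1 D194970 (iv7 D194867) (iv6 D104659) (iv7 F76223) D104821
theorem F395238 : act 1 n189817 = n194970 := d15_1 (iv0 F377870) (iv7 D194970) (iv2 F362557)
theorem F395239 : act 1 n194970 = n189814 := d15_1 F395238 F377855 (iv2 F377865)
def n194971 : Q := act 0 n104822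
theorem D194971 : act 0 n104822 = n194971 := rfl
theorem F395240 : act 4 n194971 = n128929 := d20_0 F362304 (iv4 F394749) (iv3 D194850) (iv1 D104645) F76067 (iv4 F340367) (iv1 F36754) D48461 D104822 D194971
theorem F395241 : act 1 n194869 = n194971 := d15_0 (iv0 D194971) F160671 D194869
theorem F395242 : act 1 n128929 = n125695 := d18_8 (iv1 D58857) F45252 (iv1 F50047) D52081 D112840 (iv4 F394810) F395241 F395240 (iv5 D125695)
theorem F395243 : act 6 n128928 = n194971 := d10_0 F395240 (iv6 D128929) D128928
theorem F395244 : act 5 n190258 = n194971 := d19_1 D190258 F395240 F207154 D128938 F362281 (iv4 F355928) F146962 (iv1 F70786) (iv5 F70787) F70202 F67683 (iv1 D20889) F290895 (iv4 F31576) (iv3 D19805) (iv1 F35816) D21304 D44728 D95778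
theorem F395245 : act 7 n194971 = n190600 := d14_2 (iv7 F394501) F395243 (iv6 D190600) F160273 D194794
theorem F395246 : act 2 n194868 = n194971 := d4_3 F395245 (iv2 F394510) (iv7 F394807)
theorem F395247 : act 1 n194797 = n194869 := d15_0 F395241 F395245 (iv2 F394510)
theorem F395248 : act 5 n194807 = n174239 := d21_0 (iv1 D174239) D174242 (iv6 F394811) (iv1 F395247) (iv6 D194797) (iv5 D104586) (iv1 D48369) D48371 D104592 D194807
theorem F395249 : act 1 n104822 = n194797 := d15_1 (iv0 D194971) (iv7 F394807) F395246
def n194972 : Q := act 2 n104822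
theorem D194972 : act 2 n104822 = n194972 := rfl
theorem F395250 : act 3 n194972 = n194858 := d0_2 D104822 D194972 (iv2 D194858) (iv3 D104650) (iv2 F76224)
theorem F395251 : act 4 n194972 = n110501 := d1_2 F355925 D194972 (iv2 F176448)
theorem F395252 : act 7 n194972 = n194869 := d4_2 (iv7 F160671) D194972 (iv2 D194869)
theorem F395253 : act 1 n194972 = n190600 := d15_0 (iv0 F380264) (iv7 F160671) D194972
theorem F395254 : act 1 n194868 = n194972 := d15_0 F395253 (iv7 F395245) (iv2 F395246)
def n194973 : Q := act 6 n104822
theorem D194973 : act 6 n104822 = n194973 := rfl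
theorem F395255 : act 3 n194973 = n104823 := d7_1 D194973 (iv6 D104823) D104822
theorem F395256 : act 4 n194973 = n169911 := d10_1 D194973 (iv6 F364824) F355925
def n194974 : Q := act 5 n104831
theorem D194974 : act 5 n104831 = n194974 := rfl
theorem F395257 : act 2 n194974 = n194882 := d2_1 D194974 (iv5 D194882) (iv2 F352058)
theorem F395258 : act 3 n194974 = n124642 := d6_1 D194974 (iv5 D124642) (iv3 F352052)
theorem F395259 : act 7 n194974 = n174617 := d13_2 (iv7 F352055) D194974 (iv5 D174617)
theorem F395260 : act 0 n187310 = n194974 := d19_0 (iv5 D194974) F352053 (iv3 D58237) (iv1 F88907) F318788 F183266 (iv3 F183264) (iv1 F183462) F183458 (iv4 F183951) (iv3 F347306) F347303 F157444 F136295 (iv3 D41967) (iv1 F31565) D42001 D89891 D187310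
def n194975 : Q := act 3 n104832
theorem D194975 : act 3 n104832 = n194975 := rfl
theorem F395261 : act 2 n194975 = n170743 := d0_1 D194975 (iv3 D170743) (iv2 F298025) D83443 (iv2 F352056)
theorem F395262 : act 7 n194975 = n174227 := d8_2 (iv7 F352061) D194975 (iv3 F353296)
theorem F395263 : act 1 n174647 = n194975 := d15_1 D174647 F395262 F353295
theorem F395264 : act 4 n170818 = n194975 := d1_0 F395261 F268325 D170818
theorem F395265 : act 6 n170747 = n194975 := d3_0 F395261 F268326 D170747
theorem F395266 : act 1 n194975 = n174646 := d15_0 (iv0 D174646) (iv7 F298770) (iv2 F395261)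
def n194976 : Q := act 5 n104832
theorem D194976 : act 5 n104832 = n194976 := rfl
theorem F395267 : act 2 n194976 = n174617 := d2_1 D194976 (iv5 D174617) (iv2 F352056)
theorem F395268 : act 7 n194976 = n194882 := d13_2 (iv7 F352061) D194976 (iv5 D194882)
theorem F395269 : act 4 n194976 = n135654 := d16_2 (iv4 F352057) D194976 (iv5 D135654) F99141 (iv5 F83861) (iv4 F166379) F335977 F92046 D84814
theorem F395270 : act 0 n194976 = n187310 := d21_1 D194976 F369788 (iv6 F379396) F379398 (iv6 F353242) (iv5 D103582) (iv1 F289626) D95371 (iv6 F352050) (iv1 F160689)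
def n194977 : Q := act 6 n104832
theorem D194977 : act 6 n104832 = n194977 := rfl
theorem F395271 : act 2 n194977 = n158019 := d3_1 D194977 F298024 (iv2 F352056)
theorem F395272 : act 3 n194977 = n170747 := d7_1 D194977 F395265 (iv3 D194975)
theorem F395273 : act 4 n194977 = n134620 := d10_1 D194977 F333840 (iv4 F352057)
theorem F395274 : act 7 n194977 = n138144 := d14_2 (iv7 F352061) D194977 (iv6 F366245) (iv7 F353253) F352060
theorem F395275 : act 0 n127614 = n194977 := d21_4 F182588 (iv1 D59920) D59922 D127614 (iv6 D194977) D194976 F395270 F369788 (iv6 F379396) F379398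
def n194978 : Q := act 5 n104833
theorem D194978 : act 5 n104833 = n194978 := rfl
theorem F395276 : act 2 n194978 = n104834 := d2_1 D194978 (iv5 D104834) D104833
theorem F395277 : act 3 n194978 = n190304 := d6_1 D194978 F379332 F378107
theorem F395278 : act 7 n194978 = n190302 := d13_2 (iv7 F160687) D194978 F379326
theorem F395279 : act 0 n194978 = n194884 := d17_2 (iv1 F329775) D194978 (iv5 F394851) (iv4 D166408) (iv5 F321799) (iv0 F352062) (iv5 D178182) (iv0 D84812) (iv4 F128548)
theorem F395280 : act 1 n194978 = n194883 := d17_6 F353480 (iv5 F334714) F278215 (iv5 F352041) F352040 D194978 F394848 (iv0 F369707) F369705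
def n194979 : Q := act 1 n104834
theorem D194979 : act 1 n104834 = n194979 := rfl
theorem F395281 : act 1 n194979 = n190302 := d15_1 D194979 (iv7 F395278) F395276
theorem F395282 : act 7 n194979 = n194884 := d15_2 (iv0 F356782) D194979 F394852
theorem F395283 : act 2 n194883 = n194979 := d4_3 F395282 F394852 F394850
def n194980 : Q := act 4 n104834
theorem D194980 : act 4 n104834 = n194980 := rfl
theorem F395284 : act 3 n194980 = n190253 := d5_1 D194980 (iv4 D190253) (iv3 D95774) (iv4 F76233) (iv3 F160691)
theorem F395285 : act 7 n194980 = n194885 := d11_2 (iv7 F160692) D194980 (iv4 D194885)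
theorem F395286 : act 5 n194980 = n135657 := d16_1 D194980 (iv4 D135657) (iv5 F329785) (iv4 F108250) D152191 F352038 (iv5 F379326) (iv7 F395278) F395276
theorem F395287 : act 6 n191867 = n194980 := d12_0 F395286 F329784 D146770 F346315 D191867
def n194981 : Q := act 6 n104834
theorem D194981 : act 6 n104834 = n194981 := rfl
theorem F395288 : act 3 n194981 = n104836 := d7_1 D194981 (iv6 D104836) (iv3 F160691)
theorem F395289 : act 4 n194981 = n191867 := d10_1 D194981 F395287 (iv4 D194980)
theorem F395290 : act 7 n194981 = n190254 := d14_2 (iv7 F160692) D194981 (iv6 D190254) (iv7 F149927) (iv6 F363599)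
def n194982 : Q := act 0 n104835
theorem D194982 : act 0 n104835 = n194982 := rfl
theorem F395291 : act 4 n194982 = n161333 := d18_3 (iv1 F345390) (iv4 F352025) D194982 (iv5 D161333) (iv4 F302908) (iv0 F309709) (iv4 F213671) F213674 (iv5 F345391)
theorem F395292 : act 3 n194982 = n112151 := d20_5 (iv4 D104848) (iv1 D48469) (iv4 F76236) (iv3 F160693) D194982 F174384 (iv1 F325272) (iv4 F129300) (iv3 F327396) F356903
theorem F395293 : act 1 n176687 = n194982 := d15_0 (iv0 D194982) (iv7 F352046) F352048
theorem F395294 : act 6 n112149 = n194982 := d21_3 (iv5 F373626) F223013 F174377 (iv1 F395293) (iv6 D176687) (iv5 F335303) F289647 D103020 (iv6 F378334) F378336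
theorem F395295 : act 7 n194982 = n194930 := d14_2 (iv7 F174375) F395294 (iv6 F395056) (iv7 F174628) F353156
theorem F395296 : act 2 n194982 = n194931 := d15_3 F395057 F395055 (iv7 F395295)
def n194983 : Q := act 1 n104835
theorem D194983 : act 1 n104835 = n194983 := rfl
theorem F395297 : act 1 n194983 = n176687 := d15_1 D194983 F352049 F352045
theorem F395298 : act 7 n194983 = n194931 := d15_2 (iv0 D194982) D194983 (iv2 F395296)
theorem F395299 : act 4 n194983 = n180270 := d18_7 F155138 (iv4 D39398) (iv1 F44905) D58425 D124975 (iv4 F352025) D194983 (iv0 D180270) (iv5 F324181)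
theorem F395300 : act 2 n194930 = n194983 := d1_3 F395299 F345369 (iv4 F395053)
theorem F395301 : act 6 n176892 = n194983 := d10_0 F395299 F345361 (iv4 F349834)
def n194984 : Q := act 5 n104836
theorem D194984 : act 5 n104836 = n194984 := rfl
theorem F395302 : act 2 n194984 = n185705 := d2_1 D194984 (iv5 F363595) (iv2 F160694)
theorem F395303 : act 4 n194984 = n112915 := d9_1 D194984 F175847 (iv4 F142153) D188529 F373816 (iv5 F363595) F160400 (iv5 F293032) (iv4 F287996) (iv5 F373821) F373820 F369259 (iv4 F348102) (iv5 F367203) (iv4 F160695)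
theorem F395304 : act 6 n194984 = n104839 := d12_2 D104836 D194984 (iv5 D104839) (iv6 D48467) D48466
theorem F395305 : act 7 n194984 = n185692 := d13_2 (iv7 F363600) D194984 (iv5 F367203)
theorem F395306 : act 1 n194984 = n185703 := d17_8 (iv1 D93793) (iv5 D43841) D43839 D93785 D189222 F379210 F363601 D194984 F367200
theorem F395307 : act 0 n194984 = n185704 := d18_0 (iv4 F367202) (iv1 F293601) (iv4 F373604) F373605 (iv4 F376175) (iv0 F376177) F381667 F363601 D194984
def n194985 : Q := act 0 n104842
theorem D194985 : act 0 n104842 = n194985 := rfl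
def n194986 : Q := act 4 n104842
theorem D194986 : act 4 n104842 = n194986 := rfl
theorem F395308 : act 7 n194986 = n125502 := d11_2 F395082 D194986 F395083
theorem F395309 : act 5 n125504 = n194986 := d19_1 (iv1 F219725) (iv4 D194986) (iv3 D104842) F340334 D104839 F340339 F82385 (iv1 F46642) (iv5 D29009) (iv4 D13807) D13806 (iv1 F23061) (iv5 D11201) (iv4 F10074) F19506 (iv1 F9849) (iv5 F22156) (iv4 F45133) (iv3 F92852)
theorem F395310 : act 2 n194986 = n125507 := d2_1 F395309 (iv5 D125507) (iv2 F201854)
theorem F395311 : act 4 n125507 = n142492 := d1_2 D194986 F395310 F356968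
theorem F395312 : act 6 n142506 = n125507 := d10_0 F395311 F225401 D142506
def n194987 : Q := act 3 n104843
theorem D194987 : act 3 n104843 = n194987 := rfl
theorem F395313 : act 5 n194987 = n158070 := d6_2 F363530 D194987 (iv3 F355121)
def n194988 : Q := act 7 n104845
theorem D194988 : act 7 n104845 = n194988 := rfl
theorem F395314 : act 2 n194988 = n194544 := d4_1 D194988 (iv7 F395078) F395074
theorem F395315 : act 4 n194988 = n109860 := d11_1 D194988 (iv7 F378720) F378724
theorem F395316 : act 5 n194988 = n188435 := d13_1 D194988 F373463 (iv5 F356889)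
theorem F395317 : act 6 n194988 = n190320 := d14_1 D194988 F379377 F358439 F356899 D104845
theorem F395318 : act 1 n147671 = n194988 := d15_1 (iv0 F395079) (iv7 D194988) (iv2 F395074)
theorem F395319 : act 1 n194988 = n136275 := d15_1 F395318 (iv7 F379388) F379386
def n194989 : Q := act 1 n104847
theorem D194989 : act 1 n104847 = n194989 := rfl
theorem F395320 : act 7 n194989 = n194275 := d15_2 (iv0 F395090) D194989 (iv2 F395089)
theorem F395321 : act 3 n109248 = n194989 := d20_3 (iv4 F81955) (iv1 F172683) (iv4 F169205) (iv1 D194989) (iv3 D104847) D104848 F363516 F287730 (iv3 F363512) F173499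
theorem F395322 : act 6 n194890 = n194989 := d21_3 F394558 F394883 F394882 (iv1 D194989) (iv6 F358434) (iv5 F393641) (iv1 F393642) F357960 F380406 (iv1 F394560)
theorem F395323 : act 4 n194989 = n113558 := d10_1 F395322 F352202 (iv4 F394881)
def n194990 : Q := act 2 n104847
theorem D194990 : act 2 n104847 = n194990 := rfl
theorem F395324 : act 4 n194990 = n128774 := d1_2 F362266 D194990 F362261
theorem F395325 : act 6 n194990 = n113454 := d3_2 F358434 D194990 F355950
theorem F395326 : act 0 n194990 = n194275 := d20_1 (iv4 F395324) F392613 (iv3 D125946) F161342 (iv3 F176419) (iv4 F202638) F327355 (iv4 F270671) (iv3 F362247) F362250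
def n194991 : Q := act 5 n104847
theorem D194991 : act 5 n104847 = n194991 := rfl
theorem F395327 : act 3 n194991 = n104849 := d6_1 D194991 (iv5 D104849) D104847
theorem F395328 : act 7 n194991 = n111007 := d13_2 F395062 D194991 (iv5 F395066)
theorem F395329 : act 4 n127112 = n194991 := d16_0 (iv5 D194991) (iv4 F362266) F362262 (iv4 F347576) (iv5 F251089) (iv4 F379594) (iv5 D190371) (iv7 F378453) (iv2 F378454)
theorem F395330 : act 6 n189986 = n194991 := d14_5 F395328 (iv6 D111007) (iv7 F94048) (iv6 F356963) (iv7 F378453)
def n194992 : Q := act 3 n104848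
theorem D194992 : act 3 n104848 = n194992 := rfl
theorem F395331 : act 0 n194992 = n128928 := d20_4 (iv4 F76236) (iv1 F340333) D104848 D194992 F207153 (iv4 D128885) D128883 F362266 (iv3 D104847) (iv1 D48469)
theorem F395332 : act 0 n190602 = n194992 := d20_4 F395291 F345373 (iv4 F280585) (iv3 F380267) (iv3 D194992) (iv4 D104848) (iv1 D48469) (iv4 F76236) (iv3 F160693) D194982
def n194993 : Q := act 3 n104851
theorem D194993 : act 3 n104851 = n194993 := rfl
def n194994 : Q := act 5 n104851
theorem D194994 : act 5 n104851 = n194994 := rfl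
theorem F395333 : act 6 n194994 = n194148 := d21_3 D48470 D104851 D194994 (iv1 F392196) (iv6 F373621) (iv5 F358011) (iv1 F358013) F335107 (iv6 D104850) (iv1 D48469)
theorem F395334 : act 0 n194839 = n194994 := d19_0 (iv5 D194994) F363604 F209188 F95769 (iv5 D52895) F54280 F53984 F53963 (iv5 F53967) (iv4 F310151) (iv3 F296584) F116621 F297348 D34640 F312343 (iv1 F97307) (iv5 F334252) F334251 (iv3 F394682)
theorem F395335 : act 3 n194151 = n194994 := d7_3 F395333 (iv3 D194148) D194151
theorem F395336 : act 5 n194993 = n194151 := d6_0 F395335 (iv5 D194994) D194993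
def n194995 : Q := act 6 n104851
theorem D194995 : act 6 n104851 = n194995 := rfl
theorem F395337 : act 2 n194995 = n188462 := d3_1 D194995 (iv6 F379631) (iv2 F379633)
theorem F395338 : act 5 n194995 = n188448 := d21_6 (iv5 F36760) (iv1 D23624) D23625 (iv6 F76237) D104851 D194995 (iv1 D188448) F293081 (iv6 D95544) (iv1 F70168)
theorem F395339 : act 7 n188458 = n194995 := d13_0 F395338 (iv7 F373558) D188458
def n194996 : Q := act 3 n104852
theorem D194996 : act 3 n104852 = n194996 := rfl
theorem F395340 : act 4 n194996 = n190354 := d5_2 F340321 D194996 F379534 (iv4 D110747) (iv3 F171424)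
theorem F395341 : act 2 n190358 = n194996 := d1_3 F395340 F379533 D190358
def n194997 : Q := act 5 n104852
theorem D194997 : act 5 n104852 = n194997 := rfl
theorem F395342 : act 0 n194997 = n194839 := d17_2 F340336 D194997 F394683 F164515 F77984 F77965 D106707 (iv0 F164456) (iv4 F340339)
theorem F395343 : act 6 n194997 = n176725 := d21_3 D104839 F340336 D194997 (iv1 F370054) F370052 (iv5 F373464) (iv1 F373466) (iv5 F356889) (iv6 D104845) F340334
theorem F395344 : act 4 n176727 = n194997 := d10_3 F395343 (iv4 D176725) D176727
def n194998 : Q := act 6 n104852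
theorem D194998 : act 6 n104852 = n194998 := rfl
def n194999 : Q := act 4 n104855
theorem D194999 : act 4 n104855 = n194999 := rfl
theorem F395345 : act 2 n194999 = n182316 := d1_1 D194999 (iv4 F294012) (iv2 F251761)
theorem F395346 : act 3 n194999 = n187165 := d5_1 D194999 (iv4 D187165) (iv3 F292585) F292586 (iv3 F292584)
theorem F395347 : act 6 n194999 = n194896 := d10_2 F251759 D194999 (iv4 D194896)
theorem F395348 : act 7 n194999 = n194178 := d11_2 F251760 D194999 F392269
theorem F395349 : act 0 n194999 = n182434 := d20_1 D194999 F283981 F370984 (iv1 D185459) F135289 F62465 D41243 F66251 D48472 D104855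
def n195000 : Q := act 0 n104861
theorem D195000 : act 0 n104861 = n195000 := rfl
theorem F395350 : act 5 n195000 = n190010 := d17_1 D195000 (iv1 F379835) (iv5 D190466) (iv4 F150122) F367036 F373469 (iv5 F373472) (iv0 D187417) (iv4 F348090)
theorem F395351 : act 1 n189504 = n195000 := d15_0 (iv0 D195000) (iv7 F348093) (iv2 F376730)
def n195001 : Q := act 1 n104861
theorem D195001 : act 1 n104861 = n195001 := rfl
theorem F395352 : act 1 n195001 = n189504 := d15_1 D195001 F376734 (iv2 F348089)
theorem F395353 : act 5 n190011 = n195001 := d17_7 (iv1 F370266) F373480 (iv1 D188438) (iv5 F141242) F294889 F147656 D190011 F395352 F376732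
theorem F395354 : act 6 n190011 = n106517 := d21_9 F176099 (iv1 F177524) F331422 (iv6 D186230) (iv1 F292445) F178350 (iv5 F376733) (iv1 F395352) (iv5 F395353) (iv1 F176103)
theorem E103597 : n190470 = n189515 := (c21_4 (iv5 F395353) (iv1 D190011) (iv5 F147656) D190470 (iv1 D189515) (iv6 D94014) (iv5 D43940) D43937 D94002 D189504 (iv1 F395352))
theorem F395355 : act 3 n189515 = n96047 := (sb E103597 F379840)
theorem F395356 : act 4 n189515 = n106841 := (sb E103597 F379841)
theorem F395357 : act 6 n189515 = n96045 := (sb E103597 (iv6 D190470))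
theorem E103598 : n189534 = n189378 := (c20_8 (iv4 D190479) (iv1 D96049) (iv4 F147659) (iv3 F395355) (iv1 D189515) F144842 (iv4 F144859) D189534 (iv4 D189378) D189377 (iv1 F379897))
theorem F395358 : act 1 n189378 = n94025 := (sb E103598 (iv0 D189534))
theorem F395359 : act 5 n189438 = n189330 := d21_2 F376924 (iv1 F379477) (iv6 D189330) (iv1 D93885) F69009 D43924 (iv1 F69045) (iv5 F69128) D94025 (iv1 F395358)
def n195002 : Q := act 3 n104965
theorem D195002 : act 3 n104965 = n195002 := rfl
theorem F395360 : act 2 n195002 = n113281 := d0_1 D195002 (iv3 D113281) F165639 F334354 F258240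
theorem F395361 : act 4 n195002 = n160854 := d5_2 F373682 D195002 (iv3 F281152) F258254 (iv3 F373683)
theorem F395362 : act 5 n195002 = n131981 := d6_2 F280673 D195002 F354708
theorem F395363 : act 6 n195002 = n186313 := d7_2 (iv6 F334344) D195002 (iv3 F289084)
theorem F395364 : act 7 n195002 = n180350 := d8_2 (iv7 F258239) D195002 (iv3 D180350)
def n195003 : Q := act 0 n104973
theorem D195003 : act 0 n104973 = n195003 := rfl
theorem F395365 : act 5 n195003 = n113447 := d17_3 (iv1 F301036) D104973 D195003 F323930 (iv5 F323935) F323934 F70027 (iv0 F296830) (iv4 F122616)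
theorem F395366 : act 2 n126378 = n195003 := d15_3 (iv0 D195003) (iv0 F360453) F360452
theorem F395367 : act 7 n195003 = n126380 := d4_2 F360452 F395366 (iv2 F360451)
theorem F395368 : act 3 n113448 = n195003 := d8_3 F395367 F204923 F204922
theorem F395369 : act 1 n126055 = n195003 := d15_1 F360454 F395367 (iv2 F360451)
def n195004 : Q := act 7 n104973
theorem D195004 : act 7 n104973 = n195004 := rfl
theorem F395370 : act 2 n195004 = n126055 := d4_1 D195004 (iv7 F380730) F380727
theorem F395371 : act 3 n195004 = n105350 := d8_1 D195004 F352460 (iv3 F352455)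
theorem F395372 : act 4 n195004 = n126271 := d11_1 D195004 F380737 F359710
theorem F395373 : act 5 n195004 = n104974 := d13_1 D195004 (iv7 D104974) D104973
theorem F395374 : act 1 n126380 = n195004 := d15_1 F380732 (iv7 D195004) (iv2 F380727)
theorem F395375 : act 1 n195004 = n126378 := d15_1 F395374 (iv7 F360452) F360451
def n195005 : Q := act 0 n105052
theorem D195005 : act 0 n105052 = n195005 := rfl
theorem F395376 : act 4 n195005 = n128635 := d20_8 F93399 D105347 F342966 (iv3 D89076) D89074 D186735 F367832 D195005 F342946 F288401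
theorem F395377 : act 5 n195005 = n190706 := d21_2 (iv5 F160971) D195005 F380696 (iv1 F341822) F358446 (iv5 D125305) (iv1 F297615) D166314 (iv6 F380706) (iv1 D157753)
theorem F395378 : act 1 n182511 = n195005 := d15_0 (iv0 D195005) F160972 D182511
theorem F395379 : act 5 n170826 = n194667 := d17_1 D170826 (iv1 F394024) F387650 (iv4 F380474) F380475 F395378 F395377 (iv0 D190706) F148453
theorem F395380 : act 7 n182509 = n195005 := d13_0 F395377 F380697 F364793
theorem F395381 : act 6 n128633 = n195005 := d10_0 F395376 (iv6 D128635) D128633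
def n195006 : Q := act 1 n105052
theorem D195006 : act 1 n105052 = n195006 := rfl
theorem F395382 : act 5 n195006 = n129039 := d17_7 (iv1 F268412) (iv5 F394056) (iv1 D194668) F332729 F132332 (iv5 F160971) D195006 F380698 F267334
theorem F395383 : act 2 n182509 = n195006 := d2_3 F395382 F362852 F364793
theorem F395384 : act 3 n129082 = n195006 := d6_3 F395382 F207284 D129082
theorem F395385 : act 6 n129042 = n195006 := d12_0 F395382 (iv6 D129039) F95264 D60670 D129042
theorem F395386 : act 0 n182511 = n195006 := d21_7 F211922 (iv1 F211912) F208789 F348808 (iv1 F202206) (iv6 F380476) F380475 F395382 (iv6 D129039) (iv1 F207268)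
theorem F395387 : act 7 n182510 = n195006 := d15_2 (iv0 D182509) D182510 (iv2 F395383)
theorem F395388 : act 2 n195005 = n182510 := d4_3 F395387 (iv2 F395383) F395380
theorem F395389 : act 5 n169908 = n182510 := d13_3 F395387 F395382 (iv7 F343675)
def n195007 : Q := act 2 n105052
theorem D195007 : act 2 n105052 = n195007 := rfl
theorem F395390 : act 3 n195007 = n157800 := d0_2 D105052 D195007 F248689 F112728 (iv2 F76411)
theorem F395391 : act 5 n195007 = n157754 := d2_2 (iv5 F160971) D195007 (iv2 D157754)
theorem F395392 : act 7 n195007 = n182511 := d4_2 (iv7 F160972) D195007 (iv2 D182511)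
theorem F395393 : act 1 n195007 = n182509 := d15_0 (iv0 D182509) (iv7 F160972) D195007
theorem F395394 : act 1 n182510 = n195007 := d15_0 F395393 F395380 F395388
theorem F395395 : act 6 n191571 = n195007 := d7_0 F395390 (iv6 F345252) D191571
def n195008 : Q := act 6 n105052
theorem D195008 : act 6 n105052 = n195008 := rfl
theorem F395396 : act 2 n195008 = n191571 := d3_1 D195008 F395395 (iv2 D195007)
theorem F395397 : act 3 n195008 = n105053 := d7_1 D195008 (iv6 D105053) D105052
theorem F395398 : act 5 n195008 = n113311 := d12_1 D195008 F365984 (iv5 D177016) F129470 (iv5 F160971)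
def n195009 : Q := act 0 n105053
theorem D195009 : act 0 n105053 = n195009 := rfl
theorem F395399 : act 4 n195009 = n138157 := d20_2 (iv4 F160974) D195009 F221345 (iv1 F363248) F212882 (iv4 D63072) (iv1 D29832) (iv4 F47997) (iv3 F98371) (iv1 F361738)
theorem F395400 : act 6 n195009 = n191673 := d21_5 (iv5 D44513) (iv1 F54616) (iv5 F76413) D105053 D195009 (iv5 F384104) (iv1 D191676) (iv5 F152083) F332740 F76348
theorem E103599 : n191673 = n138155 := (c10_1 F395400 (iv4 D138155) D138157 (iv4 F395399))
theorem F395401 : act 0 n138155 = n98625 := (sb E103599 (iv1 D191673))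
theorem F395402 : act 5 n138155 = n191676 := (sb E103599 (iv5 F384104))
theorem F395403 : act 6 n138155 = n195009 := (sb E103599 (iv6 F395400))
theorem F395404 : act 3 n130244 = n195009 := d5_5 F395399 F221345 (iv4 F333890) F208745 (iv4 F208759)
theorem F395405 : act 7 n130234 = n195009 := d11_0 F395399 (iv7 F380780) F380779
theorem F395406 : act 3 n193368 = n183498 := d20_5 F354299 (iv1 F354301) F207238 (iv3 F207201) (iv1 F389602) F285244 (iv1 F380783) (iv4 F395399) (iv3 F395404) (iv1 F354303)
theorem F395407 : act 6 n183496 = n193368 := d7_0 F395406 (iv6 D183498) D183496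
theorem F395408 : act 2 n195009 = n157809 := d15_3 (iv0 D157809) (iv0 F358873) F395405
theorem F395409 : act 4 n157809 = n190718 := d1_2 (iv4 F395399) F395408 (iv2 F380781)
theorem F395410 : act 0 n195009 = n157811 := d20_4 F212913 F341752 (iv4 F208759) F395404 (iv3 F361733) F249715 (iv1 F136889) (iv4 F368077) F368076 F337859
def n195010 : Q := act 1 n105053
theorem D195010 : act 1 n105053 = n195010 := rfl
theorem F395411 : act 1 n195010 = n157811 := d15_1 D195010 (iv7 D157811) (iv2 F160973)
theorem F395412 : act 7 n195010 = n157809 := d15_2 (iv0 D195009) D195010 (iv2 F395408)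
theorem F395413 : act 4 n183500 = n195010 := d20_0 (iv1 D195010) F160974 (iv3 F294448) D186808 F384004 (iv4 D92758) (iv1 F75906) D104360 (iv3 F380793) (iv1 F380795)
theorem F395414 : act 6 n130232 = n195010 := d21_3 (iv5 F359779) F359780 F349815 (iv1 D195010) (iv6 D105053) F76413 (iv1 F56943) (iv5 F70086) D95427 (iv1 F347356)
theorem F395415 : act 2 n195010 = n130234 := d3_1 F395414 (iv6 D130234) D130232
def n195011 : Q := act 7 n105053
theorem D195011 : act 7 n105053 = n195011 := rfl
theorem F395416 : act 2 n195011 = n157811 := d4_1 D195011 (iv7 D157811) (iv2 F160973)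
theorem F395417 : act 4 n195011 = n105057 := d11_1 D195011 (iv7 D105057) (iv4 F160974)
theorem F395418 : act 6 n195011 = n182516 := d14_1 D195011 (iv7 D182516) (iv6 D87130) (iv7 F76412) D105053
theorem F395419 : act 1 n130234 = n195011 := d15_1 (iv0 F358873) (iv7 D195011) F160973
theorem F395420 : act 1 n195011 = n157809 := d15_1 F395419 (iv7 F395412) F395415
def n195012 : Q := act 3 n105054
theorem D195012 : act 3 n105054 = n195012 := rfl
def n195013 : Q := act 4 n105054
theorem D195013 : act 4 n105054 = n195013 := rfl
def n195014 : Q := act 5 n105054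
theorem D195014 : act 5 n105054 = n195014 := rfl
theorem F395421 : act 4 n195014 = n193192 := d17_4 F368934 (iv5 D105056) D105054 D195014 (iv5 D193192) D193191 (iv5 F389130) (iv0 D187053) (iv4 F368932)
theorem F395422 : act 6 n195014 = n193194 := d21_3 (iv5 D105056) D105054 D195014 F389134 F306629 F283293 F135206 (iv5 F137172) D187052 F368934
def n195015 : Q := act 6 n105054
theorem D195015 : act 6 n105054 = n195015 := rfl
theorem F395423 : act 2 n195015 = n194676 := d3_1 D195015 F394053 F361740
theorem F395424 : act 7 n195015 = n194672 := d14_2 (iv7 F361741) D195015 F394031 F168767 D134229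
theorem F395425 : act 5 n195015 = n192231 := d21_6 (iv5 D42110) F31694 D23684 D48551 D105054 D195015 (iv1 D192231) F294454 (iv6 D87184) (iv1 F65033)
theorem F395426 : act 0 n195015 = n184749 := d21_1 (iv5 F395425) F287226 (iv6 D184552) (iv1 F306665) D123774 F198253 D154530 (iv5 F386099) F386100 (iv1 F386129)
def n195016 : Q := act 0 n105056
theorem D195016 : act 0 n105056 = n195016 := rfl
theorem F395427 : act 6 n195016 = n152889 := d21_5 (iv5 D47510) F293439 D48554 (iv6 F160975) D195016 (iv5 D152889) F302075 D86906 F133335 (iv1 F74707)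
theorem F395428 : act 2 n152898 = n195016 := d15_3 (iv0 D195016) (iv0 F368934) F368933
theorem F395429 : act 4 n195016 = n182170 := d1_2 F368946 F395428 (iv2 F368945)
theorem F395430 : act 7 n195016 = n182167 := d4_2 F368933 F395428 (iv2 F368930)
def n195017 : Q := act 7 n105056
theorem D195017 : act 7 n105056 = n195017 := rfl
theorem F395431 : act 3 n195017 = n194791 := d8_1 D195017 (iv7 D194791) (iv3 F367110)
theorem F395432 : act 5 n195017 = n105057 := d13_1 D195017 (iv7 D105057) D105056
theorem F395433 : act 6 n195017 = n189198 := d14_1 D195017 (iv7 D189198) F144145 F294178 (iv6 F160975)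
theorem F395434 : act 1 n182167 = n195017 := d15_1 (iv0 F364081) (iv7 D195017) F294290
theorem F395435 : act 1 n195017 = n152898 := d15_1 F395434 (iv7 F368933) F368930
def n195018 : Q := act 3 n105066
theorem D195018 : act 3 n105066 = n195018 := rfl
theorem F395436 : act 4 n195018 = n194788 := d5_2 D105066 D195018 (iv3 D194788) (iv4 D104445) F294284
theorem F395437 : act 5 n195018 = n193839 := d6_2 (iv5 F294288) D195018 (iv3 D193839)
theorem F395438 : act 7 n195018 = n189199 := d8_2 (iv7 F294289) D195018 (iv3 D189199)
def n195019 : Q := act 4 n105147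
theorem D195019 : act 4 n105147 = n195019 := rfl
theorem F395439 : act 3 n195019 = n194006 := d5_1 D195019 F391736 (iv3 D189256) F293541 (iv3 F161066)
theorem F395440 : act 7 n195019 = n133581 := d11_2 F291013 D195019 F345020
theorem F395441 : act 5 n195019 = n194005 := d16_7 (iv4 F204708) (iv5 F344984) (iv4 D98606) D98607 F291559 D105147 D195019 F391731 F204701
theorem F395442 : act 0 n195019 = n135760 := d17_0 (iv5 D135760) D135758 F376871 (iv4 D189554) (iv5 D94041) (iv0 F293186) (iv5 F289005) F289006 D195019
theorem F395443 : act 0 n131120 = n195019 := d20_7 (iv4 F291089) (iv1 F144776) (iv4 D43919) D43918 F157805 (iv3 F96030) (iv4 F210010) (iv4 D195019) F161066 (iv1 F293533)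
def n195020 : Q := act 0 n105150
theorem D195020 : act 0 n105150 = n195020 := rfl
def n195021 : Q := act 1 n105150
theorem D195021 : act 1 n105150 = n195021 := rfl
theorem F395444 : act 1 n195021 = n159596 := d15_1 D195021 F251384 F362429
theorem F395445 : act 5 n111183 = n195021 := d21_6 (iv5 D43278) (iv1 F32473) (iv5 F65053) (iv6 F83263) (iv1 F177720) F352395 (iv1 D195021) (iv5 F362430) (iv6 F178100) (iv1 F139803)
theorem F395446 : act 2 n195021 = n189553 := d2_1 F395445 (iv5 F376868) (iv2 F352393)
theorem F395447 : act 0 n106357 = n111183 := d21_10 F395445 (iv1 D195021) (iv5 F362430) (iv6 F178100) (iv1 F139803) D92497 (iv5 F142936) F357306 (iv5 D106356) D106357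
theorem F395448 : act 4 n189410 = n195021 := d18_7 F193481 F336380 (iv1 F352981) F352982 (iv5 D93960) (iv4 F144779) D189410 F395444 (iv5 D159596)
def n195022 : Q := act 7 n105150
theorem D195022 : act 7 n105150 = n195022 := rfl
theorem F395449 : act 2 n195022 = n159596 := d4_1 D195022 F251384 F362429
theorem F395450 : act 3 n195022 = n164219 := d8_1 D195022 F258956 (iv3 F362428)
theorem F395451 : act 5 n195022 = n114099 := d13_1 D195022 F178111 F362430
theorem F395452 : act 6 n195022 = n189570 := d14_1 D195022 (iv7 D189570) (iv6 D94061) (iv7 F292494) D105150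
theorem F395453 : act 1 n159596 = n195020 := d15_0 (iv0 D195020) D195022 F395449
theorem F395454 : act 1 n189553 = n195022 := d15_1 D189553 (iv7 D195022) (iv2 F362429)
theorem F395455 : act 7 n195020 = n189553 := d15_2 F395444 F395453 (iv2 F395446)
theorem F395456 : act 2 n195020 = n189552 := d15_3 (iv0 D189552) D189553 (iv7 F395455)
theorem F395457 : act 7 n189552 = n195021 := d4_2 (iv7 F395455) F395456 F395446
theorem F395458 : act 4 n195020 = n189409 := d16_0 F376551 (iv4 D113080) (iv5 D52191) F40058 D51280 D111183 F395445 (iv7 F395457) (iv2 F395456)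
theorem F395459 : act 1 n195022 = n189552 := d15_1 F395454 F395457 F395446
def n195023 : Q := act 6 n105171
theorem D195023 : act 6 n105171 = n195023 := rfl
theorem F395460 : act 2 n195023 = n113216 := d3_1 D195023 (iv6 D113216) (iv2 F168357)
theorem F395461 : act 3 n195023 = n109586 := d7_1 D195023 F169555 F168358
theorem F395462 : act 5 n195023 = n109584 := d12_1 D195023 F169543 (iv5 F164582) (iv6 D106778) (iv5 F161077)
theorem F395463 : act 7 n195023 = n105219 := d14_2 (iv7 F168355) D195023 (iv6 D105219) (iv7 F168344) (iv6 F168188)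
theorem F395464 : act 0 n195023 = n105273 := d21_4 (iv5 F37705) D49339 (iv5 F161077) D195023 (iv6 D105273) D105272 (iv1 F168647) F168644 (iv6 D52293) (iv1 D25397)
theorem F395465 : act 0 n113102 = n195023 := d21_4 (iv5 F77634) F163597 D156597 F246274 (iv6 D195023) F161077 (iv1 F78052) F78048 F76506 (iv1 F76513)
def n195024 : Q := act 2 n105174
theorem D195024 : act 2 n105174 = n195024 := rfl
theorem F395466 : act 7 n105175 = n195024 := d15_2 (iv0 D105174) D105175 (iv2 D195024)
def n195025 : Q := act 3 n105174
theorem D195025 : act 3 n105174 = n195025 := rfl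
theorem F395467 : act 4 n195025 = n106207 := d20_6 (iv4 F36860) (iv1 D23709) D23710 D48633 D105174 D195025 F381058 (iv4 F92937) F92936 (iv1 F45178)
theorem F395468 : act 2 n106209 = n195025 := d1_3 F395467 (iv2 D106207) D106209
theorem F395469 : act 7 n106214 = n195025 := d11_0 F395467 (iv7 F163216) D106214
theorem F395470 : act 0 n195025 = n128935 := d20_1 (iv4 F395467) (iv4 F207163) (iv3 F343537) F173419 F173417 (iv4 D59097) (iv1 F45338) (iv4 F45418) (iv3 F77465) (iv1 F381059)
theorem F395471 : act 7 n105174 = n125703 := d8_2 F395469 (iv3 D195025) F202187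
theorem F395472 : act 1 n125714 = n106214 := d15_1 (iv0 F202213) F395469 (iv2 F395468)
theorem F395473 : act 2 n125703 = n105175 := d4_1 F395471 F395466 (iv2 D195024)
theorem E103600 : n195024 = n125704 := (c15_4 F202193 F202188 (iv7 F395471) D195024)
theorem F395474 : act 2 n125704 = n105174 := (sb E103600 (iv2 D195024))
theorem F395475 : act 7 n125704 = n105175 := (sb E103600 (iv7 F395466))
theorem F395476 : act 5 n195025 = n125591 := d2_2 F355902 F395468 F202022
theorem F395477 : act 6 n195025 = n125594 := d3_2 (iv6 F355901) F395468 F202034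
def n195026 : Q := act 4 n105174
theorem D195026 : act 4 n105174 = n195026 := rfl
theorem F395478 : act 2 n195026 = n190593 := d1_1 D195026 F380250 F395474
theorem F395479 : act 7 n195026 = n190592 := d11_2 (iv7 F395471) D195026 F380248
theorem F395480 : act 5 n195026 = n114234 := d18_4 (iv1 D74182) (iv4 F76483) D105174 D195026 (iv4 D114234) D114232 F321241 (iv0 F318860) F338519
theorem F395481 : act 6 n137099 = n195026 := d12_0 F395480 (iv6 F353122) (iv5 D127124) D127125 F220261
def n195027 : Q := act 5 n105174
theorem D195027 : act 5 n105174 = n195027 := rfl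
theorem F395482 : act 3 n195027 = n125591 := d6_1 D195027 (iv5 F395476) (iv3 D195025)
theorem F395483 : act 6 n125589 = n195027 := d7_0 F395482 (iv6 D125591) (iv3 F202019)
theorem F395484 : act 0 n125535 = n105177 := d21_10 (iv5 D105177) D105174 D195027 (iv6 F395483) (iv1 F361387) F361385 F93096 (iv1 F92878) D58772 D125535
def n195028 : Q := act 6 n105174
theorem D195028 : act 6 n105174 = n195028 := rfl
theorem F395485 : act 3 n195028 = n125594 := d7_1 D195028 (iv6 F395477) (iv3 D195025)
theorem F395486 : act 4 n195028 = n137099 := d10_1 D195028 F395481 (iv4 D195026)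
theorem F395487 : act 5 n195028 = n125590 := d12_1 D195028 (iv6 D125590) D125589 F395483 (iv5 D195027)
def n195029 : Q := act 3 n105175
theorem D195029 : act 3 n105175 = n195029 := rfl
def n195030 : Q := act 4 n105175
theorem D195030 : act 4 n105175 = n195030 := rfl
theorem F395488 : act 2 n195030 = n190592 := d1_1 D195030 F380248 F395473
theorem F395489 : act 7 n195030 = n190593 := d11_2 F395475 D195030 F380250
theorem F395490 : act 5 n195030 = n190584 := d18_4 (iv1 F169472) (iv4 F202190) (iv1 F202194) D195030 F380211 (iv0 D106127) F77435 D97210 F338517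
theorem F395491 : act 3 n195030 = n109874 := d20_9 F174301 (iv1 F170593) (iv4 F170588) F162366 (iv1 F173480) F173476 (iv4 F202190) (iv1 F202194) D195030 (iv1 F174305)
def n195031 : Q := act 5 n105175
theorem D195031 : act 5 n105175 = n195031 := rfl
theorem F395492 : act 0 n195031 = n125600 := d17_2 (iv1 F202194) D195031 (iv5 D125600) F92981 D64525 (iv0 F318860) F338519 F169473 (iv4 F202190)
theorem F395493 : act 6 n113548 = n195031 := d21_9 (iv5 D125600) D125597 F366352 (iv6 D58855) F45251 D52268 F82642 D52404 D113548 F395492
def n195032 : Q := act 6 n105175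
theorem D195032 : act 6 n105175 = n195032 := rfl
theorem F395494 : act 5 n195032 = n113549 := d12_1 D195032 (iv6 D113549) D113548 F395493 (iv5 D195031)
theorem F395495 : act 1 n144780 = n195032 := d17_6 F364710 (iv5 D130635) (iv1 D61295) (iv5 F49860) (iv4 F103897) D144780 F395494 (iv0 F365771) (iv4 F218407)
def n195033 : Q := act 0 n105177
theorem D195033 : act 0 n105177 = n195033 := rfl
def n195034 : Q := act 6 n105177
theorem D195034 : act 6 n105177 = n195034 := rfl
theorem F395496 : act 3 n195034 = n105178 := d7_1 D195034 (iv6 D105178) (iv3 F161093)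
theorem F395497 : act 5 n195034 = n105261 := d12_1 D195034 (iv6 D105261) (iv5 D48665) (iv6 F76484) D105177
theorem F395498 : act 0 n131901 = n195034 := d21_4 (iv5 D125555) D125551 (iv5 F202398) (iv6 F362925) (iv6 D195034) (iv5 D105177) D105174 D195027 (iv6 F395483) (iv1 F361387)
theorem F395499 : act 1 n131898 = n195034 := d18_8 F342877 F332794 F164636 (iv4 F211676) (iv5 F360473) (iv4 D125682) D125681 F362565 F395497
theorem F395500 : act 0 n125899 = n125927 := d20_4 (iv4 F362565) (iv1 D125681) D125682 (iv3 F202388) (iv3 D125927) D125928 F377847 F202078 (iv3 F395496) (iv1 F395499)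
def n195035 : Q := act 0 n105178
theorem D195035 : act 0 n105178 = n195035 := rfl
def n195036 : Q := act 1 n105178
theorem D195036 : act 1 n105178 = n195036 := rfl
theorem F395501 : act 1 n195036 = n113236 := d15_1 D195036 (iv7 D113236) (iv2 F161094)
theorem F395502 : act 5 n131890 = n195036 := d21_0 (iv1 D195036) F161095 (iv6 D48667) (iv1 F45904) D59833 (iv5 F332796) F165620 (iv5 F365693) (iv6 F391966) F391968
theorem F395503 : act 2 n195036 = n113235 := d2_1 F395502 (iv5 F365649) (iv2 F362257)
theorem F395504 : act 4 n125933 = n195036 := d18_7 (iv1 F161216) F374585 (iv1 D106126) (iv4 F77471) (iv5 F92939) (iv4 F93163) D125933 F395501 F176422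
def n195037 : Q := act 7 n105178
theorem D195037 : act 7 n105178 = n195037 := rfl
theorem F395505 : act 2 n195037 = n113236 := d4_1 D195037 (iv7 D113236) (iv2 F161094)
theorem F395506 : act 5 n195037 = n105265 := d13_1 D195037 (iv7 D105265) (iv5 F161095)
theorem F395507 : act 1 n113236 = n195035 := d15_0 (iv0 D195035) D195037 F395505
theorem F395508 : act 1 n113235 = n195037 := d15_1 D113235 (iv7 D195037) F161094
theorem F395509 : act 4 n125918 = n113235 := d18_7 (iv1 F161221) (iv4 F360472) (iv1 D106278) F77535 F45431 (iv4 F93161) D125918 F395508 F395506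
theorem F395510 : act 2 n125933 = n125918 := d1_3 F395509 (iv2 F395503) (iv4 F395504)
theorem F395511 : act 7 n125917 = n125933 := d15_2 F202412 F202413 F395510
theorem F395512 : act 7 n125932 = n125918 := d15_2 F202415 F202414 (iv2 F395510)
theorem F395513 : act 2 n125917 = n125932 := d4_3 F395512 (iv2 F395510) (iv7 F395511)
theorem F395514 : act 7 n195035 = n113235 := d15_2 F395501 F395507 (iv2 F395503)
theorem F395515 : act 5 n131889 = n195035 := d21_0 (iv1 F395507) F176422 (iv6 F161572) (iv1 F161574) F332621 (iv5 F349623) F349622 (iv5 D61886) D61887 D131889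
theorem F395516 : act 4 n125932 = n195035 := d11_3 F395514 (iv4 F395509) (iv7 F395512)
theorem F395517 : act 2 n195035 = n113234 := d15_3 (iv0 D113234) D113235 (iv7 F395514)
theorem F395518 : act 4 n113234 = n125917 := d1_2 F395516 F395517 F395513
theorem F395519 : act 7 n113234 = n195036 := d4_2 (iv7 F395514) F395517 F395503
theorem F395520 : act 1 n195037 = n113234 := d15_1 F395508 F395519 F395503
theorem E103601 : n113547 = n106277 := ((c18_7 D113234 F395518 (iv1 F202413) F202410 F201985 F163233 F163319 (iv4 D113547) (iv0 D52404) (iv5 F82642))).symm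
theorem F395521 : act 4 n106277 = n52404 := (sb E103601 (iv4 D113547))
theorem F395522 : act 4 n105263 = n106125 := d18_1 D105263 (iv1 F163318) F163315 F93404 (iv4 F202405) F202414 F395516 (iv0 D195035) F161095
def n195038 : Q := act 6 n105183
theorem D195038 : act 6 n105183 = n195038 := rfl
theorem F395523 : act 3 n195038 = n108704 := d7_1 D195038 (iv6 D108704) (iv3 F165663)
theorem F395524 : act 4 n195038 = n121777 := d10_1 D195038 F350923 (iv4 F327265)
theorem F395525 : act 5 n195038 = n113152 := d12_1 D195038 (iv6 D113152) (iv5 F99026) F165659 F165661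
theorem F395526 : act 7 n195038 = n113152 := d14_2 (iv7 F172574) D195038 (iv6 D113152) F165607 (iv6 F172570)
theorem F395527 : act 0 n111774 = n195038 := d21_4 (iv5 F219291) F220305 (iv5 D137122) (iv6 F173464) (iv6 D195038) (iv5 F165661) (iv1 F168992) (iv5 F168971) F168972 (iv1 F168499)
def n195039 : Q := act 3 n105186
theorem D195039 : act 3 n105186 = n195039 := rfl
theorem F395528 : act 2 n195039 = n172569 := d0_1 D195039 (iv3 F352238) F358912 (iv3 D113296) (iv2 F358944)
theorem F395529 : act 7 n195039 = n113301 := d8_2 (iv7 F358945) D195039 (iv3 D113301)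
theorem F395530 : act 4 n122468 = n195039 := d20_2 (iv4 F344706) (iv1 F339191) (iv3 D195039) (iv1 D105186) (iv3 D48639) (iv4 D23715) (iv1 F18534) D24168 D49513 D107168
theorem F395531 : act 6 n195039 = n122467 := d10_2 D122468 F395530 (iv4 D122467)
theorem F395532 : act 0 n195039 = n191668 := d20_1 F395530 F384094 (iv3 F360146) F338779 (iv3 D78717) (iv4 F56506) F44800 (iv4 F92083) (iv3 F199414) (iv1 F339191)
def n195040 : Q := act 4 n105186
theorem D195040 : act 4 n105186 = n195040 := rfl
theorem F395533 : act 2 n195040 = n113297 := d1_1 D195040 (iv4 D113297) (iv2 F358944)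
theorem F395534 : act 7 n195040 = n113302 := d11_2 (iv7 F358945) D195040 (iv4 D113302)
theorem F395535 : act 3 n195040 = n110587 := d20_3 F176501 (iv1 F161112) D195040 F325155 F119853 F57028 F321413 D51035 D110694 (iv1 F176502)
theorem F395536 : act 6 n166460 = n195040 := d7_0 F395535 F350687 D166460
def n195041 : Q := act 6 n105186
theorem D195041 : act 6 n105186 = n195041 := rfl
theorem F395537 : act 2 n195041 = n113299 := d3_1 D195041 (iv6 D113299) (iv2 F358944)
theorem F395538 : act 3 n195041 = n122467 := d7_1 D195041 (iv6 F395531) (iv3 D195039)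
theorem F395539 : act 4 n195041 = n166460 := d10_1 D195041 F395536 (iv4 D195040)
theorem F395540 : act 7 n195041 = n166490 := d14_2 (iv7 F358945) D195041 F355919 (iv7 F358954) (iv6 D113304)
theorem F395541 : act 1 n113299 = n163515 := d15_0 (iv0 F355920) (iv7 F395540) F395537
theorem F395542 : act 1 n166335 = n113299 := d15_0 F395541 (iv7 F355924) (iv2 F356022)
theorem F395543 : act 0 n147797 = n195041 := d20_1 D147797 F395539 (iv3 D166460) F350684 F57150 F28558 (iv1 F21577) (iv4 F41782) D39258 F335062
theorem F395544 : act 0 n188489 = n166460 := d20_1 (iv4 F373662) (iv4 F395539) F395538 (iv1 F303743) (iv3 F392625) F392618 (iv1 F377891) F355928 F355926 (iv1 F373666)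
theorem F395545 : act 0 n195041 = n113203 := d20_7 (iv4 D52054) F82015 F326669 F88976 (iv1 F350685) D166460 (iv4 F395539) F356018 (iv3 F356023) F168779
theorem F395546 : act 0 n174692 = n188492 := d20_7 (iv4 F395539) F395545 F356018 (iv3 F356023) F168779 D112776 (iv4 F340639) F373679 (iv3 F373661) F395544
def n195042 : Q := act 0 n105188
theorem D195042 : act 0 n105188 = n195042 := rfl
theorem F395547 : act 5 n195042 = n132088 := d21_8 D61982 (iv1 F164547) F211217 (iv6 F380022) F380018 (iv6 F212370) (iv5 F334353) D195042 (iv6 D132088) F211585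
theorem F395548 : act 2 n132101 = n195042 := d15_3 (iv0 D195042) (iv0 F334352) (iv7 F358975)
theorem F395549 : act 3 n195042 = n189799 := d0_2 (iv3 F358972) F395548 (iv2 F380470) (iv3 D180375) (iv2 F261367)
theorem F395550 : act 4 n195042 = n165950 := d1_2 (iv4 F358973) F395548 (iv2 D165950)
theorem F395551 : act 6 n195042 = n166776 := d3_2 (iv6 F358974) F395548 F262503
def n195043 : Q := act 3 n105198
theorem D195043 : act 3 n105198 = n195043 := rfl
theorem F395552 : act 2 n195043 = n180350 := d0_1 D195043 (iv3 D180350) (iv2 F258238) F334361 F165650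
theorem F395553 : act 4 n195043 = n109368 := d5_2 D105198 D195043 (iv3 D109368) (iv4 D50466) F165583
theorem F395554 : act 5 n195043 = n131989 := d6_2 (iv5 F332803) D195043 F211481
theorem F395555 : act 7 n195043 = n113281 := d8_2 F165640 D195043 (iv3 D113281)
def n195044 : Q := act 6 n105198
theorem D195044 : act 6 n105198 = n195044 := rfl
theorem F395556 : act 2 n195044 = n113287 := d3_1 D195044 (iv6 D113287) F165650
theorem F395557 : act 4 n195044 = n105199 := d10_1 D195044 (iv6 D105199) D105198
theorem F395558 : act 0 n195044 = n125949 := d21_4 (iv5 F332764) (iv1 F164192) (iv5 F332803) D195044 F202449 (iv5 F348397) F348399 (iv5 F332761) F332762 (iv1 F332757)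
theorem F395559 : act 0 n125943 = n195044 := d21_4 D125739 (iv1 F228460) (iv5 D145437) (iv6 F202437) (iv6 D195044) F332803 (iv1 F164187) F332766 (iv6 F165878) (iv1 F165881)
def n195045 : Q := act 3 n105200
theorem D195045 : act 3 n105200 = n195045 := rfl
theorem F395560 : act 5 n195045 = n190796 := d6_2 F345925 D195045 F381099
theorem F395561 : act 6 n195045 = n190787 := d7_2 (iv6 F345927) D195045 F381071
theorem F395562 : act 7 n195045 = n113251 := d8_2 (iv7 F349672) D195045 (iv3 D113251)
theorem F395563 : act 4 n195045 = n137276 := d20_6 (iv4 D24168) F18533 D23718 D48644 D105200 D195045 (iv1 D137276) F100449 (iv3 D48676) (iv1 F37880)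
theorem F395564 : act 2 n190319 = n195045 := d1_3 F395563 F357985 D190319
def n195046 : Q := act 4 n105200
theorem D195046 : act 4 n105200 = n195046 := rfl
theorem F395565 : act 2 n195046 = n113257 := d1_1 D195046 (iv4 D113257) (iv2 F349671)
theorem F395566 : act 6 n195046 = n190788 := d10_2 (iv6 F345927) D195046 (iv4 D190788)
theorem F395567 : act 7 n195046 = n113252 := d11_2 (iv7 F349672) D195046 (iv4 D113252)
def n195047 : Q := act 4 n105201
theorem D195047 : act 4 n105201 = n195047 := rfl
theorem F395568 : act 2 n195047 = n113252 := d1_1 D195047 (iv4 D113252) (iv2 F349674)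
theorem F395569 : act 7 n195047 = n113257 := d11_2 (iv7 F349675) D195047 (iv4 D113257)
def n195048 : Q := act 6 n105201
theorem D195048 : act 6 n105201 = n195048 := rfl
theorem F395570 : act 2 n195048 = n113254 := d3_1 D195048 (iv6 D113254) (iv2 F349674)
theorem F395571 : act 3 n195048 = n129059 := d7_1 D195048 F207294 F360825
theorem F395572 : act 5 n195048 = n129056 := d12_1 D195048 (iv6 D129056) F95269 (iv6 F345919) F219127
theorem E103602 : n162906 = n129056 := (c21_8 (iv5 F93400) (iv1 F219116) (iv5 D126219) (iv6 F355940) (iv1 F168914) (iv6 F365213) (iv5 D162909) D162906 (iv5 F395572) (iv6 D195048) (iv1 D105201))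
theorem F395573 : act 1 n129056 = n78313 := (sb E103602 (iv0 D162906))
theorem F395574 : act 0 n177560 = n195048 := d21_1 D177560 F395572 (iv6 D129056) (iv1 F339684) F339687 D163460 (iv1 F262196) (iv5 D166600) D166601 F338777
def n195049 : Q := act 6 n105202
theorem D195049 : act 6 n105202 = n195049 := rfl
theorem F395575 : act 2 n195049 = n105203 := d3_1 D195049 (iv6 D105203) D105202
theorem F395576 : act 3 n195049 = n113306 := d7_1 D195049 (iv6 D113306) (iv3 F161126)
def n195050 : Q := act 0 n105203
theorem D195050 : act 0 n105203 = n195050 := rfl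
theorem F395577 : act 3 n195050 = n128855 := d20_5 F92989 (iv1 D48647) (iv4 F76512) (iv3 F161131) D195050 (iv4 F394557) (iv1 F394561) F380408 F176854 (iv1 F92991)
theorem F395578 : act 5 n128854 = n195050 := d6_0 F395577 (iv5 D128855) D128854
def n195051 : Q := act 1 n105203
theorem D195051 : act 1 n105203 = n195051 := rfl
theorem F395579 : act 3 n190587 = n195051 := d20_3 F393460 (iv1 F160244) D190587 (iv1 D195051) F161131 F76512 D48646 (iv4 F94225) D127372 (iv1 F393458)
def n195052 : Q := act 5 n105203
theorem D195052 : act 5 n105203 = n195052 := rfl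
theorem F395580 : act 3 n195052 = n105204 := d6_1 D195052 (iv5 D105204) (iv3 F161131)
def n195053 : Q := act 7 n105203
theorem D195053 : act 7 n105203 = n195053 := rfl
theorem F395581 : act 3 n195053 = n105205 := d8_1 D195053 (iv7 D105205) (iv3 F161131)
theorem F395582 : act 6 n195053 = n113269 := d14_1 D195053 (iv7 D113269) (iv6 D52279) (iv7 F76510) D105203
def n195054 : Q := act 0 n105204
theorem D195054 : act 0 n105204 = n195054 := rfl
theorem F395583 : act 5 n195054 = n125748 := d17_3 (iv1 F82856) D105204 D195054 F202242 F100156 F100152 F24585 D25470 D52482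
theorem F395584 : act 3 n177400 = n195054 := d6_3 F395583 F326941 D177400
theorem F395585 : act 6 n127403 = n195054 := d12_0 F395583 (iv6 D125748) D125747 F331157 (iv5 F204748)
theorem F395586 : act 7 n113323 = n195054 := d13_0 F395583 F326942 F326810
theorem F395587 : act 1 n113325 = n195054 := d17_6 F174362 F174359 (iv1 F82129) F78210 (iv4 F82685) (iv5 F176526) F395583 F203088 F203086
theorem F395588 : act 2 n195054 = n113322 := d15_3 (iv0 D113322) D113323 F395586
theorem E103603 : n127404 = n113322 := ((c0_2 F395584 F395588 F204753 F94260 (iv3 F176619) F331163)).symm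
theorem F395589 : act 3 n113322 = n59839 := (sb E103603 F204753)
theorem F395590 : act 4 n113322 = n146882 := (sb E103603 (iv4 F230270))
theorem F395591 : act 6 n113322 = n59838 := (sb E103603 (iv6 D127404))
def n195055 : Q := act 1 n105204
theorem D195055 : act 1 n105204 = n195055 := rfl
theorem F395592 : act 1 n195055 = n113325 := d15_1 D195055 (iv7 D113325) (iv2 F161132)
theorem F395593 : act 7 n195055 = n113322 := d15_2 (iv0 D195054) D195055 (iv2 F395588)
theorem F395594 : act 5 n113405 = n195055 := d21_6 (iv5 F78484) F78486 (iv5 D25418) D25419 D52346 D113405 (iv1 D195055) (iv5 D105204) (iv6 D48645) (iv1 F38787)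
theorem F395595 : act 2 n195055 = n113323 := d2_1 F395594 (iv5 F326810) F326808
theorem F395596 : act 3 n127408 = n195055 := d0_0 F395595 F365868 (iv2 F381026) F381027 (iv2 F204770)
def n195056 : Q := act 4 n105204
theorem D195056 : act 4 n105204 = n195056 := rfl
theorem F395597 : act 2 n195056 = n113324 := d1_1 D195056 (iv4 D113324) (iv2 F161132)
def n195057 : Q := act 7 n105204
theorem D195057 : act 7 n105204 = n195057 := rfl
theorem F395598 : act 2 n195057 = n113325 := d4_1 D195057 (iv7 D113325) (iv2 F161132)
theorem F395599 : act 5 n195057 = n105205 := d13_1 D195057 (iv7 D105205) D105204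
theorem F395600 : act 1 n113323 = n195057 := d15_1 D113323 (iv7 D195057) F161132
theorem F395601 : act 1 n195057 = n113322 := d15_1 F395600 (iv7 F395593) F395595
def n195058 : Q := act 6 n105206
theorem D195058 : act 6 n105206 = n195058 := rfl
theorem F395602 : act 4 n195058 = n155959 := d10_1 D195058 (iv6 D155959) (iv4 F161140)
def n195059 : Q := act 5 n105207
theorem D195059 : act 5 n105207 = n195059 := rfl
theorem F395603 : act 3 n195059 = n162960 := d6_1 D195059 F341867 F328213
theorem F395604 : act 0 n195059 = n110377 := d17_2 F167069 D195059 (iv5 D110377) F80298 (iv5 F76808) (iv0 F76809) F41276 D28032 D58993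
def n195060 : Q := act 4 n105214
theorem D195060 : act 4 n105214 = n195060 := rfl
theorem F395605 : act 2 n195060 = n113364 := d1_1 D195060 (iv4 D113364) (iv2 F168350)
theorem F395606 : act 7 n195060 = n113369 := d11_2 F168349 D195060 (iv4 D113369)
theorem F395607 : act 0 n195060 = n127125 := d17_0 F220261 (iv1 D137099) (iv5 D64445) F48774 D30347 D64450 (iv5 F165323) (iv0 F165325) D195060
theorem F395608 : act 3 n194953 = n195060 := d0_0 F395605 (iv3 F390033) F391459 (iv3 F394669) (iv2 F395159)
theorem F395609 : act 5 n195060 = n194952 := d6_2 D194953 F395608 F395158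
theorem F395610 : act 1 n194952 = n117034 := d17_6 (iv1 F48778) F46629 D48651 D105214 D195060 F395609 (iv5 D117034) F100370 F100369
theorem F395611 : act 1 n117031 = n194952 := d15_0 F395610 (iv7 F220260) F220259
theorem E103604 : n190259 = n190046 := ((c21_1 F394511 (iv1 D190259) (iv5 F160605) D194952 (iv1 F395611) (iv6 F394544) F395248 (iv1 D174239) D174242 (iv6 F394811) (iv1 F395247))).symm
theorem F395612 : act 0 n190046 = n95778 := (sb E103604 (iv1 D190259))
def n195061 : Q := act 3 n105217
theorem D195061 : act 3 n105217 = n195061 := rfl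
theorem F395613 : act 4 n195061 = n109755 := d5_2 D105217 D195061 (iv3 D109755) (iv4 D50621) F168343
theorem F395614 : act 7 n195061 = n113362 := d8_2 (iv7 F168359) D195061 (iv3 D113362)
def n195062 : Q := act 5 n105217
theorem D195062 : act 5 n105217 = n195062 := rfl
theorem F395615 : act 2 n195062 = n113367 := d2_1 D195062 (iv5 D113367) F168351
theorem F395616 : act 7 n195062 = n113363 := d13_2 (iv7 F168359) D195062 (iv5 D113363)
theorem F395617 : act 0 n195062 = n107525 := d17_2 (iv1 F161153) D195062 F348397 (iv4 D125595) (iv5 F167346) (iv0 F167347) (iv5 D106201) F77449 (iv4 F82739)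
theorem F395618 : act 1 n195062 = n128731 := d17_6 (iv1 F100374) (iv5 F165323) (iv1 F168340) (iv5 F168341) D105217 D195062 F361368 (iv0 F202046) F176528
theorem F395619 : act 6 n195062 = n128789 := d21_3 (iv5 F331155) (iv1 F161153) D195062 (iv1 F348405) (iv6 D125590) D125589 (iv1 F361387) (iv5 D125555) D125556 F361374
def n195063 : Q := act 6 n105217
theorem D195063 : act 6 n105217 = n195063 := rfl
theorem F395620 : act 2 n195063 = n113368 := d3_1 D195063 (iv6 D113368) F168351
theorem F395621 : act 4 n195063 = n105219 := d10_1 D195063 (iv6 D105219) D105217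
theorem F395622 : act 0 n113557 = n195063 := d18_2 F93414 (iv4 F176709) F395621 (iv5 F168366) (iv4 F168415) (iv0 D67494) F49631 D31364 (iv5 F93120)
def n195064 : Q := act 6 n105222
theorem D195064 : act 6 n105222 = n195064 := rfl
theorem F395623 : act 2 n195064 = n113412 := d3_1 D195064 (iv6 D113412) F165507
theorem F395624 : act 4 n195064 = n105223 := d10_1 D195064 (iv6 D105223) D105222
theorem F395625 : act 5 n195064 = n113665 := d12_1 D195064 F363270 (iv5 F322877) F332816 F202083
theorem F395626 : act 0 n195064 = n113560 := d21_10 F352192 F352191 (iv5 D125610) (iv6 D58814) (iv1 D27966) D27969 D58824 D125640 F202083 D195064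
def n195065 : Q := act 6 n105227
theorem D195065 : act 6 n105227 = n195065 := rfl
theorem F395627 : act 2 n195065 = n113449 := d3_1 D195065 (iv6 D113449) F174312
theorem F395628 : act 3 n195065 = n128958 := d7_1 D195065 (iv6 F349820) F231447
theorem F395629 : act 5 n195065 = n145461 := d21_6 F202330 (iv1 F168922) (iv5 F332903) (iv6 D105230) D105227 D195065 (iv1 D145461) (iv5 F228487) (iv6 D145452) F202331
theorem F395630 : act 0 n113558 = n195065 := d21_4 (iv5 D132639) F168412 (iv5 F207168) (iv6 F352202) (iv6 D195065) (iv5 F204917) (iv1 F204713) F176701 D113659 F358174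
def n195066 : Q := act 0 n105230
theorem D195066 : act 0 n105230 = n195066 := rfl
theorem F395631 : act 5 n195066 = n107160 := d17_3 (iv1 F168922) (iv5 F332903) D195066 (iv4 D107160) (iv5 F164904) (iv0 F164906) F79670 (iv0 F82159) (iv4 F93138)
theorem F395632 : act 3 n195066 = n163020 := d20_5 F165833 (iv1 D49074) (iv4 F76542) (iv3 F161165) D195066 F257377 F338322 (iv4 F327957) F202971 (iv1 F93370)
theorem F395633 : act 6 n195066 = n157787 := d21_5 D113657 F357983 F94258 D105230 D195066 (iv5 F380848) (iv1 F380852) (iv5 F377947) (iv6 F359016) (iv1 F161407)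
theorem F395634 : act 2 n145443 = n195066 := d15_3 (iv0 D195066) (iv0 F332905) (iv7 F332892)
theorem F395635 : act 1 n126344 = n195066 := d15_0 (iv0 D195066) (iv7 F332901) (iv2 F203156)
theorem F395636 : act 7 n195066 = n145445 := d15_2 F332906 F395635 (iv2 F332894)
def n195067 : Q := act 5 n105236
theorem D195067 : act 5 n105236 = n195067 := rfl
theorem F395637 : act 2 n195067 = n105237 := d2_1 D195067 (iv5 D105237) D105236
theorem F395638 : act 3 n195067 = n113451 := d6_1 D195067 (iv5 D113451) (iv3 F161175)
theorem F395639 : act 7 n195067 = n113425 := d13_2 (iv7 F161177) D195067 (iv5 D113425)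
theorem F395640 : act 1 n195067 = n113427 := d17_6 D65904 D140405 (iv1 F358908) (iv5 D109083) (iv4 F161176) D195067 (iv5 F203742) (iv0 D59820) (iv4 F49300)
theorem F395641 : act 0 n195067 = n113428 := d18_0 F204141 F325314 (iv4 F207044) (iv5 F341763) F358843 F176614 (iv4 D113422) F161180 D195067
theorem F395642 : act 6 n129312 = n195067 := d21_9 (iv5 F203754) (iv1 D59821) D59823 D127363 F362097 (iv6 D62386) D62385 D132943 F213573 F395641
theorem F395643 : act 4 n195067 = n129314 := d10_1 F395642 (iv6 D129314) D129312
def n195068 : Q := act 6 n105236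
theorem D195068 : act 6 n105236 = n195068 := rfl
theorem F395644 : act 2 n195068 = n105238 := d3_1 D195068 (iv6 D105238) D105236
theorem F395645 : act 3 n195068 = n113452 := d7_1 D195068 (iv6 D113452) (iv3 F161175)
theorem F395646 : act 4 n195068 = n109084 := d10_1 D195068 (iv6 D109084) (iv4 F161176)
theorem F395647 : act 5 n195068 = n191214 := d12_1 D195068 F382605 F213573 F395642 (iv5 D195067)
theorem F395648 : act 0 n109084 = n180483 := d20_7 (iv4 D78625) (iv1 F57198) (iv4 F122742) (iv3 F262065) (iv1 F358161) (iv3 F395645) F395646 F280908 (iv3 F328087) F328085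
def n195069 : Q := act 4 n105237
theorem D195069 : act 4 n105237 = n195069 := rfl
theorem F395649 : act 2 n195069 = n129314 := d1_1 D195069 (iv4 F395643) F395637
theorem F395650 : act 3 n195069 = n105307 := d5_1 D195069 (iv4 D105307) F76620 (iv4 F76546) (iv3 F161181)
theorem F395651 : act 7 n195069 = n113429 := d11_2 (iv7 F161182) D195069 (iv4 D113429)
theorem F395652 : act 5 n195069 = n137102 := d18_4 F325317 F345627 (iv1 F203750) D195069 F220264 F204025 F204021 F203692 F204657
theorem F395653 : act 6 n129311 = n195069 := d12_0 F395652 F354163 (iv5 D174395) F275857 (iv5 F319326)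
theorem F395654 : act 0 n195069 = n141791 := d21_7 (iv5 D128121) (iv1 F190375) (iv5 F241921) F343426 (iv1 F343433) (iv6 F354163) (iv5 F395652) F359167 F359168 (iv1 F261705)
def n195070 : Q := act 6 n105237
theorem D195070 : act 6 n105237 = n195070 := rfl
theorem F395655 : act 2 n195070 = n129312 := d3_1 D195070 F395642 F395637
theorem F395656 : act 3 n195070 = n105239 := d7_1 D195070 (iv6 D105239) (iv3 F161181)
theorem F395657 : act 4 n195070 = n129311 := d10_1 D195070 F395653 (iv4 D195069)
theorem F395658 : act 7 n195070 = n131879 := d14_2 (iv7 F161182) D195070 (iv6 F381029) F381030 (iv6 D113430)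
theorem F395659 : act 0 n195070 = n132294 := d21_10 (iv5 F382294) F382295 (iv5 D132934) D132935 (iv1 F347124) (iv6 F347123) (iv5 F204629) (iv1 D105235) D105237 D195070
theorem F395660 : act 1 n195070 = n132298 := d15_1 (iv0 F395659) (iv7 F217722) (iv2 F217721)
def n195071 : Q := act 0 n105238
theorem D195071 : act 0 n105238 = n195071 := rfl
def n195072 : Q := act 1 n105238
theorem D195072 : act 1 n105238 = n195072 := rfl
def n195073 : Q := act 5 n105238
theorem D195073 : act 5 n105238 = n195073 := rfl
theorem F395661 : act 2 n195073 = n191214 := d2_1 D195073 (iv5 F395647) F395644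
theorem F395662 : act 3 n195073 = n105242 := d6_1 D195073 (iv5 D105242) (iv3 F161183)
theorem F395663 : act 7 n195073 = n190647 := d13_2 (iv7 F365124) D195073 F380444
theorem F395664 : act 4 n195073 = n190650 := d18_5 (iv1 F262136) (iv4 F346872) (iv1 D109090) (iv4 F161184) D195073 F382699 F382704 (iv0 D185727) (iv5 F326384)
theorem F395665 : act 1 n191214 = n185733 := d15_0 (iv0 F380446) (iv7 F395663) F395661
theorem F395666 : act 0 n191111 = n195073 := d20_4 F365956 (iv1 F164574) (iv4 F164277) (iv3 F382277) F395662 F362871 (iv1 F164402) (iv4 F343619) F164647 D106850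
def n195074 : Q := act 6 n105244
theorem D195074 : act 6 n105244 = n195074 := rfl
theorem F395667 : act 2 n195074 = n105262 := d3_1 D195074 (iv6 D105262) F161196
theorem F395668 : act 3 n195074 = n113473 := d7_1 D195074 (iv6 D113473) (iv3 F161197)
theorem F395669 : act 5 n195074 = n128666 := d12_1 D195074 F381086 (iv5 D132162) F329386 (iv5 F161198)
theorem F395670 : act 7 n195074 = n128926 := d14_2 (iv7 F161199) D195074 F362946 F202191 F161092
theorem F395671 : act 0 n195074 = n128920 := d21_1 (iv5 F395669) (iv5 D128920) D128921 (iv1 F352195) (iv6 F381083) (iv5 D190790) (iv1 F327441) F362766 (iv6 D128669) D128666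
theorem F395672 : act 1 n195074 = n128620 := d15_1 (iv0 F395671) F206903 (iv2 F207146)
theorem F395673 : act 1 n125706 = n128920 := d15_0 (iv0 F395671) F395670 (iv2 F362944)
def n195075 : Q := act 3 n105245
theorem D195075 : act 3 n105245 = n195075 := rfl
theorem F395674 : act 7 n195075 = n105251 := d8_2 F161201 D195075 (iv3 D105251)
theorem F395675 : act 6 n163019 = n195075 := d14_5 F395674 F353616 F254297 D166601 (iv7 F357785)
def n195076 : Q := act 4 n105245
theorem D195076 : act 4 n105245 = n195076 := rfl
theorem F395676 : act 2 n195076 = n105247 := d1_1 D195076 (iv4 D105247) D105245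
theorem F395677 : act 7 n195076 = n105252 := d11_2 F161201 D195076 (iv4 D105252)
theorem F395678 : act 3 n195076 = n109707 := d20_9 F174568 (iv1 F166910) (iv4 F340643) (iv3 F351983) (iv1 F169199) (iv3 F99676) F99677 (iv1 F342910) D195076 (iv1 F174570)
def n195077 : Q := act 6 n105245
theorem D195077 : act 6 n105245 = n195077 := rfl
theorem F395679 : act 2 n195077 = n105249 := d3_1 D195077 (iv6 D105249) D105245
theorem F395680 : act 3 n195077 = n163019 := d7_1 D195077 F395675 (iv3 D195075)
def n195078 : Q := act 1 n105246
theorem D195078 : act 1 n105246 = n195078 := rfl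
theorem F395681 : act 7 n195078 = n128937 := d15_2 (iv0 F362951) D195078 F207162
theorem F395682 : act 3 n113495 = n195078 := d20_9 (iv4 F342903) F342901 F92937 F77468 (iv1 F37379) D28106 (iv4 F81021) D111307 (iv4 F176684) (iv1 D195078)
theorem F395683 : act 2 n195078 = n113421 := d0_1 F395682 (iv3 D113421) (iv2 F204617) (iv3 F173040) F204652
theorem F395684 : act 4 n195078 = n125714 := d5_2 (iv4 F176684) F395682 (iv3 D125714) D125715 F202211
theorem F395685 : act 0 n106208 = n113386 := d20_10 (iv4 F176670) (iv1 F176676) (iv4 D52389) D52388 D113495 F395682 F395684 F202213 (iv4 D106209) D106208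
def n195079 : Q := act 6 n105246
theorem D195079 : act 6 n105246 = n195079 := rfl
theorem F395686 : act 3 n195079 = n105249 := d7_1 D195079 (iv6 D105249) D105246
theorem F395687 : act 4 n195079 = n113439 := d10_1 D195079 F361373 F342903
theorem F395688 : act 0 n113360 = n195079 := d18_2 (iv1 D113359) D113360 F395687 F176626 F92984 D64450 (iv4 F170872) F176524 (iv5 F176553)
theorem F395689 : act 0 n195061 = n105249 := d20_4 F82698 (iv1 F76528) D105217 D195061 (iv3 F395686) F395687 (iv1 F361393) (iv4 F202896) (iv3 D126173) F163191
def n195080 : Q := act 0 n105247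
theorem D195080 : act 0 n105247 = n195080 := rfl
theorem F395690 : act 5 n195080 = n128542 := d17_1 D195080 F393844 (iv5 F394529) F394528 F342864 F161211 (iv5 F161198) (iv0 D105244) D105247
theorem F395691 : act 4 n195080 = n126222 := d18_3 D48662 D105247 D195080 F355991 (iv4 D107222) F165231 (iv4 F329140) (iv0 D105258) (iv5 D48665)
theorem F395692 : act 3 n111604 = n195080 := d5_5 F395691 (iv3 D126222) (iv4 F173158) (iv3 D111603) D111604
theorem F395693 : act 1 n105252 = n195080 := d18_6 (iv1 F172216) (iv4 D107224) (iv1 D49540) D49541 F342867 D105252 F395691 F355990 (iv5 F342893)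
def n195081 : Q := act 1 n105247
theorem D195081 : act 1 n105247 = n195081 := rfl
theorem F395694 : act 1 n195081 = n105252 := d15_1 D195081 (iv7 F395677) F395676
theorem F395695 : act 4 n195081 = n126242 := d18_7 F164605 F164604 (iv1 F163668) (iv4 F163669) F342865 D105247 D195081 F342887 (iv5 D127090)
theorem F395696 : act 3 n109691 = n195081 := d20_9 (iv4 D105247) D105244 (iv4 F173970) F173969 (iv1 F169203) D136275 (iv4 F359863) F159191 F321387 (iv1 D195081)
def n195082 : Q := act 3 n105247
theorem D195082 : act 3 n105247 = n195082 := rfl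
theorem F395697 : act 5 n195082 = n117032 := d6_2 (iv5 F342871) D195082 (iv3 F331829)
theorem F395698 : act 0 n195082 = n109710 := d19_4 D60568 F342865 D105247 D195082 F344591 F95003 F48519 F101955 D53562 (iv4 F325995) (iv3 D113678) (iv1 D52489) (iv5 D25475) (iv4 F37384) (iv3 D23948) (iv1 F20017) D25452 (iv4 F82176) (iv3 F328465)
theorem F395699 : act 1 n195082 = n125763 := d15_1 (iv0 F395698) F349582 (iv2 F344590)
theorem F395700 : act 7 n195082 = n130554 := d15_2 (iv0 F344589) (iv0 F395698) (iv2 F211363)
theorem F395701 : act 6 n174667 = n189831 := d21_5 F395697 (iv1 F211353) F349529 F326390 D174667 (iv5 F377908) (iv1 F377909) F204811 F358196 (iv1 F395699)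
theorem F395702 : act 6 n174239 = n195082 := d12_0 F395697 (iv6 D117032) D117031 (iv6 F394544) F395248
def n195083 : Q := act 6 n105247
theorem D195083 : act 6 n105247 = n195083 := rfl
theorem F395703 : act 3 n195083 = n174239 := d7_1 D195083 F395702 (iv3 D195082)
theorem F395704 : act 4 n195083 = n105249 := d10_1 D195083 (iv6 D105249) D105247
def n195084 : Q := act 7 n105247
theorem D195084 : act 7 n105247 = n195084 := rfl
theorem F395705 : act 2 n195084 = n105252 := d4_1 D195084 (iv7 F395677) F395676
theorem F395706 : act 3 n195084 = n130554 := d8_1 D195084 (iv7 F395700) (iv3 D195082)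
theorem F395707 : act 4 n195084 = n105250 := d11_1 D195084 (iv7 D105250) D105247
theorem F395708 : act 5 n195084 = n130552 := d13_1 D195084 F331828 (iv5 F342871)
theorem F395709 : act 6 n191355 = n195084 := d7_0 F395706 (iv6 F364791) D191355
def n195085 : Q := act 0 n105249
theorem D195085 : act 0 n105249 = n195085 := rfl
theorem F395710 : act 2 n113362 = n195085 := d15_3 (iv0 D195085) (iv0 F395689) F395614
theorem F395711 : act 3 n195085 = n113490 := d0_2 D113362 F395710 F355857 (iv3 F345736) (iv2 F168353)
theorem F395712 : act 6 n195085 = n157792 := d3_2 F202300 F395710 F358383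
def n195086 : Q := act 5 n105249
theorem D195086 : act 5 n105249 = n195086 := rfl
theorem F395713 : act 6 n195086 = n128860 := d12_2 D105249 D195086 (iv5 F207114) (iv6 D128792) F342865
theorem F395714 : act 4 n194892 = n195086 := d10_3 F395713 (iv4 F363902) D194892
def n195087 : Q := act 7 n105249
theorem D195087 : act 7 n105249 = n195087 := rfl
def n195088 : Q := act 6 n105250
theorem D195088 : act 6 n105250 = n195088 := rfl
theorem F395715 : act 2 n195088 = n105254 := d3_1 D195088 (iv6 D105254) (iv2 F161202)
theorem F395716 : act 4 n195088 = n191355 := d10_1 D195088 F395709 F395707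
theorem F395717 : act 5 n195088 = n131826 := d12_1 D195088 (iv6 D131826) (iv5 D61857) D61858 (iv5 F342866)
theorem F395718 : act 0 n113413 = n195088 := d17_0 F395717 (iv1 F376866) (iv5 F392225) (iv4 D194161) F377512 (iv0 F377513) (iv5 D176855) (iv0 F360322) (iv4 F176601)
theorem F395719 : act 1 n189512 = n195088 := d17_6 F372178 (iv5 D92425) F178338 D43940 D94013 D189512 F395717 (iv0 F349624) (iv4 F372180)
def n195089 : Q := act 0 n105251
theorem D195089 : act 0 n105251 = n195089 := rfl
theorem F395720 : act 4 n195089 = n112341 := d20_2 (iv4 F353615) D195089 (iv3 D112341) F317191 (iv3 F132175) (iv4 F319460) (iv1 F358832) (iv4 F358828) (iv3 F358634) (iv1 F353612)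
theorem F395721 : act 3 n195089 = n112339 := d20_5 (iv4 F395691) (iv1 F395693) (iv4 D105252) D105251 D195089 (iv4 D112339) (iv1 F170118) F170120 D59183 (iv1 F355990)
theorem F395722 : act 2 n113443 = n195089 := d15_3 (iv0 D195089) F353613 F231448
theorem F395723 : act 7 n195089 = n126377 := d4_2 F231448 F395722 (iv2 F231446)
def n195090 : Q := act 5 n105252
theorem D195090 : act 5 n105252 = n195090 := rfl
theorem F395724 : act 2 n195090 = n130552 := d2_1 D195090 (iv5 F395708) F395705
theorem F395725 : act 6 n195090 = n130550 := d21_9 F364954 (iv1 D112891) (iv5 D52104) (iv6 F46314) D60459 D128542 (iv5 F395690) (iv1 F395693) D195090 (iv1 F214410)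
def n195091 : Q := act 6 n105257
theorem D195091 : act 6 n105257 = n195091 := rfl
theorem F395726 : act 2 n195091 = n105261 := d3_1 D195091 (iv6 D105261) (iv2 F161205)
theorem F395727 : act 3 n195091 = n113507 := d7_1 D195091 (iv6 D113507) (iv3 F161206)
theorem F395728 : act 4 n195091 = n105665 := d10_1 D195091 F162261 (iv4 F329142)
theorem F395729 : act 7 n195091 = n129095 := d14_2 (iv7 F161207) D195091 (iv6 D129095) F103557 F329386
theorem F395730 : act 0 n128858 = n195091 := d18_2 F214405 F214402 F395728 (iv5 D105665) D105664 F172141 F95035 D113096 (iv5 F176205)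
def n195092 : Q := act 3 n105258
theorem D195092 : act 3 n105258 = n195092 := rfl
theorem F395731 : act 6 n195092 = n128895 := d7_2 (iv6 F329141) D195092 (iv3 D128895)
theorem F395732 : act 7 n195092 = n113933 := d8_2 (iv7 F329453) D195092 (iv3 D113933)
def n195093 : Q := act 3 n105259
theorem D195093 : act 3 n105259 = n195093 := rfl
theorem F395733 : act 7 n195093 = n113938 := d8_2 (iv7 F342855) D195093 (iv3 D113938)
def n195094 : Q := act 1 n105261
theorem D195094 : act 1 n105261 = n195094 := rfl
theorem F395734 : act 1 n195094 = n129095 := d15_1 D195094 (iv7 F395729) F395726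
theorem F395735 : act 4 n195094 = n113836 := d17_9 F326881 F165235 F164376 (iv5 D106680) (iv4 F163726) D131898 F395499 F395497 D195094
theorem F395736 : act 2 n128858 = n195094 := d1_3 F395735 F326883 F214402
theorem F395737 : act 3 n113832 = n195094 := d5_5 F395735 (iv3 D113836) (iv4 D52566) D52565 D113832
theorem F395738 : act 6 n128604 = n195094 := d10_0 F395735 F326885 (iv4 F206859)
def n195095 : Q := act 1 n105262
theorem D195095 : act 1 n105262 = n195095 := rfl
theorem F395739 : act 1 n195095 = n128926 := d15_1 D195095 (iv7 F395670) F395667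
theorem F395740 : act 7 n195095 = n128920 := d15_2 (iv0 F362943) D195095 F207146
theorem F395741 : act 3 n128956 = n195095 := d20_3 (iv4 F387394) F387396 (iv4 F355013) (iv1 D195095) F161215 F76558 D48669 (iv4 F161241) D126303 F378172
theorem F395742 : act 4 n190602 = n195095 := d20_6 (iv4 F173493) (iv1 D110338) F80268 (iv3 F169880) F355021 (iv3 F380267) (iv1 D195095) (iv4 F173977) F173976 (iv1 F173491)
theorem F395743 : act 2 n195095 = n128620 := d1_1 F395742 (iv4 F394499) F394498
theorem F395744 : act 6 n195095 = n190601 := d10_2 D190602 F395742 (iv4 D190601)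
theorem F395745 : act 5 n128619 = n195095 := d2_0 F395743 (iv5 D128620) D128619
theorem F395746 : act 6 n128917 = n186308 := d21_9 (iv5 F376767) (iv1 D189510) D189512 (iv6 F379665) (iv1 F380266) (iv6 F395744) (iv5 F395745) (iv1 F206901) D128917 (iv1 F364568)
theorem F395747 : act 4 n186310 = n128917 := d10_3 F395746 (iv4 D186308) D186310
def n195096 : Q := act 5 n105262
theorem D195096 : act 5 n105262 = n195096 := rfl
theorem F395748 : act 2 n195096 = n128666 := d2_1 D195096 (iv5 F395669) F395667
theorem F395749 : act 3 n195096 = n105268 := d6_1 D195096 (iv5 D105268) (iv3 F161215)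
theorem F395750 : act 6 n195096 = n113945 := d12_2 D105262 D195096 (iv5 D113945) (iv6 D52601) (iv5 F76554)
theorem F395751 : act 7 n128667 = n195096 := d15_2 (iv0 D128666) D128667 F395748
theorem F395752 : act 3 n125707 = n128667 := d8_3 F395751 F395749 (iv7 F202199)
theorem F395753 : act 5 n125706 = n128667 := d13_3 F395751 (iv5 D195096) (iv7 F202197)
def n195097 : Q := act 2 n105263
theorem D195097 : act 2 n105263 = n195097 := rfl
theorem F395754 : act 7 n105264 = n195097 := d15_2 (iv0 D105263) D105264 (iv2 D195097)
def n195098 : Q := act 3 n105263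
theorem D195098 : act 3 n105263 = n195098 := rfl
def n195099 : Q := act 5 n105263
theorem D195099 : act 5 n105263 = n195099 := rfl
def n195100 : Q := act 6 n105263
theorem D195100 : act 6 n105263 = n195100 := rfl
def n195101 : Q := act 7 n105263
theorem D195101 : act 7 n105263 = n195101 := rfl
theorem F395755 : act 2 n195101 = n105264 := d4_1 D195101 F395754 (iv2 D195097)
def n195102 : Q := act 3 n105264
theorem D195102 : act 3 n105264 = n195102 := rfl
theorem F395756 : act 4 n195102 = n126927 := d5_2 (iv4 F374585) D195102 F355500 (iv4 F374582) F374581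
theorem F395757 : act 6 n130242 = n195102 := d10_0 F395756 (iv6 F355501) (iv4 F354349)
def n195103 : Q := act 5 n105264
theorem D195103 : act 5 n105264 = n195103 := rfl
def n195104 : Q := act 6 n105264
theorem D195104 : act 6 n105264 = n195104 := rfl
theorem F395758 : act 3 n195104 = n130242 := d7_1 D195104 F395757 (iv3 D195102)
theorem F395759 : act 4 n195104 = n188714 := d10_1 D195104 (iv6 F374533) (iv4 F374585)
theorem F395760 : act 7 n194003 = n195104 := d11_0 F395759 F374530 D194003
theorem F395761 : act 0 n186698 = n195104 := d18_2 (iv1 F374904) (iv4 F367716) F395759 F374531 F283790 D187370 F370028 F251830 (iv5 F374902)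
theorem F395762 : act 1 n128601 = n195104 := d18_6 (iv1 D43362) (iv4 F36070) D47803 (iv4 F135534) D92801 F333515 F395759 F374529 (iv5 D92701)
theorem F395763 : act 2 n195104 = n113554 := d15_3 (iv0 F377921) (iv0 F391725) F395760
theorem E103605 : n113550 = n105264 := (c3_4 D195104 F395763 (iv6 D113554) (iv2 F176707))
theorem E103606 : n195101 = n52405 := (((iv2 F395755)).symm.trans (sb E103605 F176707))
theorem E103607 : n195097 = n52404 := ((F395754).symm.trans (sb E103605 (iv7 D113550)))
theorem F395764 : act 2 n52405 = n105264 := (sb E103606 F395755)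
theorem E103608 : n113545 = n105263 := ((F176706).symm.trans (sb E103606 (iv7 D195101)))
theorem F395765 : act 7 n52404 = n105264 := (sb E103607 (iv7 F395754))
theorem F395766 : act 2 n105263 = n52404 := (sb E103608 (iv2 D113545))
theorem F395767 : act 7 n105263 = n52405 := (sb E103608 (iv7 F176706))
theorem F395768 : act 7 n113551 = n195098 := d8_2 F395767 D113551 (iv3 D195098)
theorem F395769 : act 7 n106278 = n106125 := d11_2 F395767 (iv4 F360472) (iv4 F395522)
theorem F395770 : act 7 n113553 = n195099 := d13_2 F395767 D113553 (iv5 D195099)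
theorem F395771 : act 2 n106125 = n106277 := d15_3 (iv0 D106277) D106278 F395769
theorem F395772 : act 2 n106278 = n106126 := d15_3 F163317 F163318 (iv7 F395769)
theorem F395773 : act 7 n106126 = n106277 := d4_2 (iv7 F395769) F395772 (iv2 F395771)
theorem F395774 : act 2 n113548 = n195099 := d2_3 (iv5 D195099) F395766 D113548
theorem F395775 : act 2 n113549 = n195100 := d3_3 (iv6 D195100) F395766 D113549
theorem F395776 : act 7 n195102 = n113546 := d8_2 F395765 D195102 (iv3 D113546)
theorem F395777 : act 7 n195103 = n113548 := d13_2 F395765 D195103 (iv5 D113548)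
theorem F395778 : act 7 n131987 = n113549 := d14_4 F395765 D195104 (iv7 F395760) (iv6 F391729) (iv6 D113549)
theorem E103609 : n195100 = n131986 := (c15_4 (iv0 D131986) D131987 F395778 F395775)
theorem F395779 : act 2 n131986 = n113549 := (sb E103609 (iv2 F395775))
theorem F395780 : act 6 n131986 = n105263 := (sb E103609 (iv6 D195100))
theorem F395781 : act 2 n113553 = n195103 := d4_3 F395777 F395774 (iv7 F395770)
theorem F395782 : act 1 n113553 = n131891 := d15_0 (iv0 F365770) (iv7 F395777) (iv2 F395781)
def n195105 : Q := act 0 n105268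
theorem D195105 : act 0 n105268 = n195105 := rfl
theorem F395783 : act 5 n195105 = n125949 := d17_3 F161314 D105268 D195105 (iv4 D125949) (iv5 D58971) F45292 F37383 F45291 D58965
theorem F395784 : act 4 n195105 = n129123 := d18_1 D195105 (iv1 F343591) (iv4 D125937) (iv5 D58962) F45290 D28024 D58970 F161343 D105268
theorem F395785 : act 1 n113237 = n195105 := d15_0 (iv0 D195105) (iv7 F202199) F202198
theorem F395786 : act 2 n113561 = n195105 := d1_3 F395784 F358346 (iv4 F349611)
theorem F395787 : act 3 n107532 = n195105 := d5_5 F395784 F362910 (iv4 D76334) (iv3 F82801) (iv4 F165905)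
theorem F395788 : act 6 n107531 = n195105 := d10_0 F395784 F362911 F165903
theorem F395789 : act 7 n113562 = n195105 := d11_0 F395784 F358344 F358342
def n195106 : Q := act 1 n105268
theorem D195106 : act 1 n105268 = n195106 := rfl
theorem F395790 : act 1 n195106 = n113237 := d15_1 D195106 F176423 (iv2 F161225)
theorem F395791 : act 7 n195106 = n113561 := d15_2 (iv0 D195105) D195106 F395786
theorem F395792 : act 5 n195106 = n125943 := d17_7 F168646 (iv5 D105277) (iv1 D48670) F36930 (iv4 F76558) D105268 D195106 F202438 F202081
theorem F395793 : act 4 n195106 = n129124 := d17_9 (iv1 D129124) (iv5 F343594) F343590 F358348 (iv4 F358337) (iv5 D125947) F161343 D105268 D195106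
theorem F395794 : act 2 n113562 = n195106 := d1_3 F395793 (iv2 F358345) F358342
def n195107 : Q := act 4 n105268
theorem D195107 : act 4 n105268 = n195107 := rfl
theorem F395795 : act 2 n195107 = n113563 := d1_1 D195107 (iv4 D113563) (iv2 F161225)
theorem F395796 : act 6 n195107 = n113959 := d10_2 (iv6 F161226) D195107 (iv4 D113959)
def n195108 : Q := act 5 n105270
theorem D195108 : act 5 n105270 = n195108 := rfl
theorem F395797 : act 2 n195108 = n109238 := d2_1 D195108 (iv5 D109238) (iv2 F161240)
theorem F395798 : act 3 n195108 = n105272 := d6_1 D195108 (iv5 D105272) D105270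
theorem F395799 : act 4 n195108 = n163530 := d9_1 D195108 F361361 (iv4 F311433) (iv5 D131421) D131420 F333436 F170603 D111774 (iv4 F361363) (iv5 D119449) (iv4 F107042) (iv5 F311166) D131340 F333437 (iv4 F170607)
theorem F395800 : act 6 n195108 = n107133 := d12_2 F245299 D195108 (iv5 F245305) (iv6 D156111) D156110
theorem F395801 : act 7 n195108 = n113197 := d13_2 (iv7 F161336) D195108 (iv5 D113197)
theorem F395802 : act 0 n195038 = n195108 := d21_10 (iv5 D195108) F161246 F79608 (iv6 D50244) (iv1 F38460) D24541 D50321 F165662 F165661 D195038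
def n195109 : Q := act 4 n105272
theorem D195109 : act 4 n105272 = n195109 := rfl
theorem F395803 : act 2 n195109 = n113567 := d1_1 D195109 (iv4 D113567) (iv2 F161354)
theorem F395804 : act 3 n195109 = n163531 := d5_1 D195109 (iv4 D163531) D163530 (iv4 F395799) F395798
theorem F395805 : act 6 n195109 = n110467 := d10_2 (iv6 F161228) D195109 F174040
theorem F395806 : act 7 n195109 = n113571 := d11_2 (iv7 F161344) D195109 (iv4 D113571)
theorem F395807 : act 5 n195109 = n126309 := d17_5 (iv1 D48670) F36930 D48669 D105272 D195109 (iv0 D126309) (iv5 D59205) D59204 F161237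
theorem F395808 : act 0 n195109 = n106814 := d17_0 (iv5 D106814) D106811 F343570 (iv4 D52412) D52413 (iv0 F82762) (iv5 F168644) F168647 D195109
theorem F395809 : act 1 n195109 = n110576 := d18_6 (iv1 D28118) (iv4 F45432) D59203 F161241 D105272 D195109 F171132 F164081 (iv5 D59214)
def n195110 : Q := act 4 n105277
theorem D195110 : act 4 n105277 = n195110 := rfl
theorem F395810 : act 2 n195110 = n113571 := d1_1 D195110 (iv4 D113571) (iv2 F161345)
theorem F395811 : act 6 n195110 = n107160 := d10_2 (iv6 F161232) D195110 (iv4 D107160)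
theorem F395812 : act 7 n195110 = n113567 := d11_2 F161353 D195110 (iv4 D113567)
theorem F395813 : act 5 n195110 = n126310 := d17_5 (iv1 F76559) F40155 (iv1 F76560) D105277 D195110 F343573 F343558 F93405 F161241
theorem F395814 : act 0 n195110 = n110576 := d17_0 F330396 (iv1 F218488) F343567 (iv4 D52417) D52418 (iv0 F173739) F173737 F161356 D195110
theorem F395815 : act 1 n195110 = n106814 := d18_6 (iv1 F45434) (iv4 F92941) (iv1 F93406) F161237 D105277 D195110 (iv4 F343610) (iv0 F175329) (iv5 D59209)
def n195111 : Q := act 7 n105279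
theorem D195111 : act 7 n105279 = n195111 := rfl
theorem F395816 : act 2 n195111 = n105283 := d4_1 D195111 (iv7 D105283) (iv2 F161392)
theorem F395817 : act 3 n195111 = n106861 := d8_1 D195111 (iv7 D106861) (iv3 F161393)
theorem F395818 : act 5 n195111 = n126546 := d13_1 D195111 (iv7 D126546) (iv5 F161394)
theorem F395819 : act 6 n195111 = n110594 := d14_1 D195111 F171164 (iv6 D51399) (iv7 F76563) D105279
theorem F395820 : act 1 n105282 = n195111 := d15_1 D105282 (iv7 D195111) F161392
theorem F395821 : act 1 n195111 = n105281 := d15_1 F395820 (iv7 F201997) F201996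
def n195112 : Q := act 6 n105282
theorem D195112 : act 6 n105282 = n195112 := rfl
theorem F395822 : act 3 n195112 = n110365 := d7_1 D195112 (iv6 D110365) (iv3 F169873)
theorem F395823 : act 4 n195112 = n111856 := d10_1 D195112 (iv6 D111856) (iv4 F169874)
theorem F395824 : act 0 n195112 = n125944 := d21_10 (iv5 D125944) F166191 F101566 (iv6 D65891) F49275 D58885 F93106 (iv1 F169869) F169870 D195112
def n195113 : Q := act 3 n105284
theorem D195113 : act 3 n105284 = n195113 := rfl
theorem F395825 : act 4 n195113 = n113289 := d5_2 F377912 D195113 (iv3 F176497) (iv4 F318910) (iv3 F377911)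
theorem F395826 : act 7 n195113 = n113652 := d8_2 (iv7 F173640) D195113 (iv3 D113652)
theorem F395827 : act 6 n162895 = n195113 := d14_5 F395826 F356013 (iv7 F277834) (iv6 F381122) F381123
def n195114 : Q := act 6 n105284
theorem D195114 : act 6 n105284 = n195114 := rfl
theorem F395828 : act 2 n195114 = n113658 := d3_1 D195114 (iv6 D113658) F173639
theorem F395829 : act 3 n195114 = n162895 := d7_1 D195114 F395827 (iv3 D195113)
theorem F395830 : act 5 n162894 = n195114 := d6_0 F395829 (iv5 D162895) D162894
theorem F395831 : act 0 n145439 = n195114 := d20_4 F165898 (iv1 F78469) D68188 D145439 F395829 F341684 F340247 (iv4 F357900) (iv3 D145442) (iv1 F165900)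
def n195115 : Q := act 6 n105300
theorem D195115 : act 6 n105300 = n195115 := rfl
theorem F395832 : act 3 n195115 = n134531 := d7_1 D195115 F362099 F204612
theorem F395833 : act 4 n195115 = n105301 := d10_1 D195115 (iv6 D105301) D105300
theorem F395834 : act 0 n127051 = n195115 := d21_4 (iv5 D165939) (iv1 F348610) F363808 (iv6 F355105) (iv6 D195115) (iv5 F161455) (iv1 F100475) (iv5 F176993) (iv6 F365896) (iv1 F377381)
def n195116 : Q := act 2 n105302
theorem D195116 : act 2 n105302 = n195116 := rfl
theorem F395835 : act 7 n105303 = n195116 := d15_2 (iv0 D105302) D105303 (iv2 D195116)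
def n195117 : Q := act 3 n105302
theorem D195117 : act 3 n105302 = n195117 := rfl
def n195118 : Q := act 4 n105302
theorem D195118 : act 4 n105302 = n195118 := rfl
def n195119 : Q := act 5 n105302
theorem D195119 : act 5 n105302 = n195119 := rfl
def n195120 : Q := act 6 n105302
theorem D195120 : act 6 n105302 = n195120 := rfl
theorem F395836 : act 5 n195120 = n113722 := d21_6 F40285 F22677 D23736 D48686 D105302 D195120 F343655 (iv5 D52508) (iv6 D25484) D25482
theorem F395837 : act 2 n113631 = n195120 := d2_3 F395836 F343653 F326586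
theorem F395838 : act 3 n113724 = n195120 := d6_3 F395836 (iv3 D113722) D113724
theorem F395839 : act 0 n130132 = n195120 := d17_0 F395836 F343655 (iv5 D52508) (iv4 F82743) D113467 F327332 (iv5 D106585) D106583 (iv4 F208646)
theorem F395840 : act 1 n106275 = n195120 := d17_6 (iv1 F211789) F372198 F372190 (iv5 D105486) (iv4 F93655) (iv5 F332601) F395836 F343656 (iv4 F211786)
theorem E103610 : n195117 = n159855 := (c7_4 F252007 F395838 (iv6 D195120) D195117)
theorem F395841 : act 3 n159855 = n105302 := (sb E103610 (iv3 D195117))
theorem E103611 : n195118 = n113315 := ((c20_2 (iv4 F82682) D113315 (iv4 D195118) (iv3 F395841) (iv1 F328382) (iv3 D135561) (iv4 F99107) F203327 F163862 F327706 (iv1 D52587))).symm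
theorem F395842 : act 4 n113315 = n105302 := (sb E103611 (iv4 D195118))
theorem E103612 : n195116 = n52460 := (c3_4 D113631 F395837 (iv6 D195120) D195116)
theorem E103613 : n113627 = n105302 := ((D113627).symm.trans (sb E103612 (iv2 D195116)))
theorem E103614 : n113632 = n105303 := ((D113632).symm.trans (sb E103612 (iv7 F395835)))
theorem F395843 : act 2 n105302 = n52460 := (sb E103613 (iv2 D113627))
theorem F395844 : act 7 n105302 = n52461 := (sb E103613 (iv7 F176812))
theorem F395845 : act 2 n105303 = n52461 := (sb E103614 F176813)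
theorem F395846 : act 7 n105303 = n52460 := (sb E103614 (iv7 D113632))
theorem F395847 : act 7 n113629 = n113316 := d11_2 F395846 D113629 F362902
theorem F395848 : act 2 n113629 = n113315 := d15_3 (iv0 D113315) D113316 (iv7 F395847)
theorem F395849 : act 2 n113634 = n113316 := d1_3 F362902 F395845 D113634
theorem F395850 : act 7 n113315 = n113634 := d4_0 F395849 (iv7 F395847) F395848
theorem E103615 : n148774 = n113633 := ((c8_2 F395844 D113633 F364679 F395841)).symm
theorem F395851 : act 0 n113633 = n69725 := (sb E103615 (iv1 D148774))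
theorem F395852 : act 1 n113633 = n159857 := (sb E103615 F252013)
theorem F395853 : act 2 n113633 = n159856 := (sb E103615 F364681)
theorem F395854 : act 7 n113633 = n159855 := (sb E103615 F364679)
theorem F395855 : act 7 n113635 = n195119 := d13_2 F395844 D113635 (iv5 D195119)
theorem E103616 : n126290 = n113634 := (c20_2 (iv4 F176519) (iv1 F203063) (iv4 D113634) D113633 F395851 F327998 (iv4 F202589) (iv1 D106580) F77813 (iv3 F99131) (iv1 F362883))
theorem F395856 : act 0 n113634 = n59199 := (sb E103616 (iv1 D126290))
theorem F395857 : act 1 n113634 = n113318 := (sb E103616 F203063)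
theorem E103617 : n126289 = n113629 := (c15_2 F395857 F203069 F395847 (iv2 F395849))
theorem F395858 : act 0 n113629 = n113318 := (sb E103617 (iv1 F203069))
theorem F395859 : act 1 n113629 = n59199 := (sb E103617 (iv0 D126289))
theorem F395860 : act 2 n113630 = n195119 := d2_3 (iv5 D195119) F395843 D113630
def n195121 : Q := act 3 n105303
theorem D195121 : act 3 n105303 = n195121 := rfl
theorem F395861 : act 7 n195121 = n113628 := d8_2 (iv7 F395846) D195121 (iv3 D113628)
def n195122 : Q := act 5 n105303
theorem D195122 : act 5 n105303 = n195122 := rfl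
theorem F395862 : act 2 n195122 = n113635 := d2_1 D195122 (iv5 D113635) (iv2 F395845)
theorem F395863 : act 7 n195122 = n113630 := d13_2 (iv7 F395846) D195122 (iv5 D113630)
theorem F395864 : act 6 n195122 = n127826 := d21_3 F176816 (iv1 F161461) D195122 (iv1 F205647) (iv6 D114333) F83355 (iv1 F46012) D60007 D127784 (iv1 F375321)
theorem F395865 : act 2 n127826 = n114371 := d3_1 F395864 F178383 (iv2 F395862)
theorem F395866 : act 7 n114372 = n127826 := d15_2 (iv0 D114371) D114372 F395865
theorem F395867 : act 7 n127827 = n114371 := d15_2 (iv0 D127826) D127827 (iv2 F395865)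
theorem F395868 : act 2 n114372 = n127827 := d4_3 F395867 (iv2 F395865) (iv7 F395866)
def n195123 : Q := act 6 n105303
theorem D195123 : act 6 n105303 = n195123 := rfl
theorem F395869 : act 2 n195123 = n113636 := d3_1 D195123 (iv6 D113636) (iv2 F395845)
def n195124 : Q := act 4 n105304
theorem D195124 : act 4 n105304 = n195124 := rfl
theorem F395870 : act 2 n195124 = n113639 := d1_1 D195124 (iv4 D113639) (iv2 F161462)
theorem F395871 : act 6 n195124 = n105306 := d10_2 (iv6 F161463) D195124 (iv4 D105306)
def n195125 : Q := act 7 n105304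
theorem D195125 : act 7 n105304 = n195125 := rfl
theorem F395872 : act 2 n195125 = n113640 := d4_1 D195125 (iv7 D113640) (iv2 F161462)
theorem F395873 : act 5 n195125 = n105305 := d13_1 D195125 (iv7 D105305) D105304
theorem F395874 : act 1 n113638 = n195125 := d15_1 D113638 (iv7 D195125) F161462
theorem F395875 : act 1 n195125 = n113637 := d15_1 F395874 (iv7 F375318) F375316
def n195126 : Q := act 3 n105306
theorem D195126 : act 3 n105306 = n195126 := rfl
theorem F395876 : act 5 n195126 = n113641 := d6_2 (iv5 F161471) D195126 (iv3 D113641)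
theorem F395877 : act 7 n195126 = n151241 := d8_2 (iv7 F161470) D195126 (iv3 D151241)
def n195127 : Q := act 6 n105309
theorem D195127 : act 6 n105309 = n195127 := rfl
theorem F395878 : act 2 n195127 = n113720 := d3_1 D195127 (iv6 D113720) (iv2 F343645)
theorem F395879 : act 4 n195127 = n106459 := d10_1 D195127 (iv6 F341620) F343647
theorem F395880 : act 5 n195127 = n106503 := d21_6 (iv5 D11224) (iv1 F18035) D23739 D48689 D105309 D195127 (iv1 D106503) F77730 (iv6 D28389) F22708
theorem F395881 : act 0 n106368 = n195127 := d21_4 F37410 D23982 D49149 D106368 (iv6 D195127) (iv5 F364683) (iv1 D126548) (iv5 F332601) (iv6 D106275) (iv1 D49108)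
theorem F395882 : act 3 n106459 = n191594 := d20_3 F332819 F395881 F395879 (iv1 D191594) (iv3 D98581) (iv4 D46084) (iv1 F35582) D47600 D102635 F365691
theorem F395883 : act 5 n191594 = n106456 := d6_2 D106459 F395882 F163710
def n195128 : Q := act 3 n105310
theorem D195128 : act 3 n105310 = n195128 := rfl
theorem F395884 : act 7 n195128 = n113717 := d8_2 (iv7 F343644) D195128 (iv3 D113717)
theorem F395885 : act 0 n195128 = n106234 := d20_4 (iv4 F203012) (iv1 F203015) (iv4 F343643) D195128 (iv3 F335891) (iv4 F378175) F391877 F391874 (iv3 D113757) (iv1 F161495)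
theorem F395886 : act 4 n195128 = n128693 := d20_6 (iv4 F93710) (iv1 F96813) F96811 (iv3 F324646) (iv1 F161479) D195128 (iv1 F360027) (iv4 F360025) F214010 F97436
theorem F395887 : act 0 n135704 = n195128 := d20_4 D135611 (iv1 F355831) (iv4 D135705) D135704 (iv3 D195128) F343643 (iv1 D113400) F82729 (iv3 F50290) F323478
def n195129 : Q := act 6 n105310
theorem D195129 : act 6 n105310 = n195129 := rfl
theorem F395888 : act 2 n195129 = n113725 := d3_1 D195129 (iv6 D113725) (iv2 F343642)
def n195130 : Q := act 6 n105312
theorem D195130 : act 6 n105312 = n195130 := rfl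
theorem F395889 : act 4 n195130 = n105313 := d10_1 D195130 (iv6 D105313) D105312
theorem F395890 : act 7 n195130 = n188803 := d14_2 (iv7 F161486) D195130 (iv6 D188803) (iv7 D92811) (iv6 F83014)
theorem F395891 : act 0 n132785 = n195130 := d18_2 F97441 D132785 F395889 F321200 (iv4 D61448) (iv0 D29086) (iv4 F46722) D61430 (iv5 F97448)
def n195131 : Q := act 6 n105314
theorem D195131 : act 6 n105314 = n195131 := rfl
theorem F395892 : act 2 n195131 = n113760 := d3_1 D195131 (iv6 D113760) (iv2 F333524)
theorem F395893 : act 3 n195131 = n106549 := d7_1 D195131 (iv6 D106549) (iv3 F333525)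
theorem F395894 : act 4 n195131 = n106558 := d10_1 D195131 (iv6 D106558) (iv4 F333526)
theorem F395895 : act 5 n195131 = n106689 := d21_6 (iv5 D11123) D11120 D23742 D48691 D105314 D195131 (iv1 D106689) F77920 (iv6 D48703) (iv1 D23751)
theorem F395896 : act 0 n105463 = n195131 := d21_4 F36996 D23781 D48762 D105463 (iv6 D195131) F333527 (iv1 F218042) (iv5 D135582) (iv6 F327167) (iv1 D48707)
theorem F395897 : act 1 n114965 = n195131 := d15_0 (iv0 F395896) (iv7 F227670) F227669
theorem F395898 : act 7 n195131 = n114964 := d15_2 F391863 F395897 (iv2 F391864)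
def n195132 : Q := act 6 n105315
theorem D195132 : act 6 n105315 = n195132 := rfl
theorem F395899 : act 2 n195132 = n113765 := d3_1 D195132 (iv6 D113765) (iv2 F333519)
theorem F395900 : act 4 n195132 = n131884 := d10_1 D195132 (iv6 D131884) (iv4 F333520)
def n195133 : Q := act 6 n105317
theorem D195133 : act 6 n105317 = n195133 := rfl
theorem F395901 : act 2 n195133 = n113783 := d3_1 D195133 (iv6 D113783) (iv2 F161505)
theorem F395902 : act 3 n195133 = n188776 := d7_1 D195133 (iv6 D188776) F204766
theorem F395903 : act 7 n195133 = n114955 := d14_2 (iv7 F161504) D195133 (iv6 D114955) (iv7 F161871) F177326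
def n195134 : Q := act 3 n105320
theorem D195134 : act 3 n105320 = n195134 := rfl
theorem F395904 : act 4 n195134 = n188780 := d5_2 D105320 D195134 (iv3 D188780) (iv4 D92790) (iv3 F76628)
theorem F395905 : act 5 n195134 = n137200 := d6_2 F229944 D195134 (iv3 F390013)
theorem F395906 : act 6 n195134 = n153868 := d7_2 (iv6 F161508) D195134 (iv3 F349317)
theorem F395907 : act 0 n195134 = n141797 := d20_10 (iv4 D141797) (iv1 D66482) (iv4 F102208) (iv3 D66297) F328802 F322909 (iv4 D76393) (iv1 F76630) D105320 D195134
theorem F395908 : act 0 n141792 = n195134 := d20_1 D141792 F395904 (iv3 D188780) F324034 F97764 F47601 (iv1 F23511) D14684 D31038 D66481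
def n195135 : Q := act 0 n105321
theorem D195135 : act 0 n105321 = n195135 := rfl
theorem F395909 : act 5 n195135 = n141193 := d17_1 D195135 (iv1 D141193) (iv5 F324064) (iv4 D112696) (iv5 D52017) F55235 D76391 F114516 D105321
theorem F395910 : act 4 n195135 = n106243 := d18_3 F106126 D105321 D195135 F163279 (iv4 D52085) F39937 (iv4 F27758) (iv0 F51408) D69737
theorem F395911 : act 1 n105333 = n195135 := d15_0 (iv0 D195135) (iv7 F229803) F229802
theorem F395912 : act 2 n105328 = n195135 := d1_3 F395910 F163278 (iv4 F161519)
theorem F395913 : act 7 n105329 = n195135 := d11_0 F395910 F163280 F162400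
theorem F395914 : act 3 n195135 = n190715 := d20_3 (iv4 D146362) F163281 (iv4 F395910) (iv1 F380762) F219257 (iv4 F203709) F360533 (iv4 D137192) (iv3 F350285) (iv1 F229693)
def n195136 : Q := act 1 n105321
theorem D195136 : act 1 n105321 = n195136 := rfl
theorem F395915 : act 1 n195136 = n105333 := d15_1 D195136 (iv7 D105333) (iv2 F161510)
theorem F395916 : act 7 n195136 = n105328 := d15_2 (iv0 D195135) D195136 F395912
theorem F395917 : act 4 n195136 = n107900 := d18_7 (iv1 F77066) F77064 F54294 (iv4 F36979) D48694 D105321 D195136 F166736 (iv5 D68717)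
theorem F395918 : act 5 n195136 = n141192 := d18_9 (iv1 F224214) F101830 (iv1 F102265) D141450 F350015 (iv4 D159673) F114516 D105321 D195136
theorem F395919 : act 2 n105329 = n195136 := d2_3 F395918 F321271 (iv5 F340840)
theorem F395920 : act 6 n186674 = n195136 := d12_0 F395918 F320815 F329202 (iv6 F293581) F367626
def n195137 : Q := act 5 n105321
theorem D195137 : act 5 n105321 = n195137 := rfl
theorem F395921 : act 2 n195137 = n105331 := d2_1 D195137 (iv5 D105331) (iv2 F161510)
theorem F395922 : act 3 n195137 = n131040 := d6_1 D195137 F350272 F350301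
theorem F395923 : act 7 n195137 = n105814 := d13_2 F229803 D195137 (iv5 F229804)
theorem F395924 : act 4 n195137 = n105816 := d16_2 D105321 D195137 F162521 F77133 F37188 (iv4 F36983) (iv5 F76637) (iv7 D48699) (iv2 F76631)
theorem F395925 : act 0 n195137 = n124942 := d17_2 (iv1 D195136) D195137 F363453 F324057 F114802 (iv0 F77032) D68629 (iv0 F166735) (iv4 F395917)
theorem F395926 : act 6 n195137 = n139392 := d21_3 (iv5 F395918) (iv1 D195136) D195137 F349408 (iv6 D65463) D65462 F181593 (iv5 D66231) D66232 D141192
def n195138 : Q := act 0 n105322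
theorem D195138 : act 0 n105322 = n195138 := rfl
theorem F395927 : act 4 n195138 = n136969 := d20_2 (iv4 F327837) D195138 (iv3 D136969) (iv1 D64375) (iv3 F100309) (iv4 F177018) (iv1 F354895) F275060 (iv3 F390325) F390326
theorem F395928 : act 3 n195138 = n132845 := d20_5 F98862 (iv1 F327840) F177113 (iv3 F161512) D195138 F213386 (iv1 F317545) D130492 F209051 (iv1 F101909)
theorem F395929 : act 6 n195138 = n115184 := d21_5 F103977 (iv1 F50300) D48694 D105322 D195138 F332647 (iv1 D71455) (iv5 F103982) (iv6 D67904) D67902
theorem F395930 : act 2 n105334 = n195138 := d15_3 (iv0 D195138) (iv0 F333242) (iv7 F336804)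
theorem F395931 : act 1 n105336 = n195138 := d15_0 (iv0 D195138) F327838 F355709
theorem F395932 : act 7 n195138 = n105335 := d15_2 F333244 F395931 F339444
def n195139 : Q := act 3 n105323
theorem D195139 : act 3 n105323 = n195139 := rfl
theorem F395933 : act 2 n195139 = n137196 := d0_1 D195139 (iv3 D137196) (iv2 F350298) F350299 F251537
theorem F395934 : act 4 n195139 = n148736 := d5_2 D105323 D195139 (iv3 D148736) (iv4 D69707) F85307
theorem F395935 : act 5 n195139 = n141538 := d6_2 (iv5 F330621) D195139 (iv3 D141538)
theorem F395936 : act 0 n141318 = n195139 := d20_4 (iv4 F329880) F102091 D66292 D141318 (iv3 D195139) (iv4 D105323) (iv1 F104884) D146481 F342847 (iv1 D141258)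
def n195140 : Q := act 6 n105323
theorem D195140 : act 6 n105323 = n195140 := rfl
theorem F395937 : act 4 n195140 = n105324 := d10_1 D195140 (iv6 D105324) D105323
def n195141 : Q := act 1 n105324
theorem D195141 : act 1 n105324 = n195141 := rfl
theorem F395938 : act 1 n195141 = n135782 := d15_1 D195141 F342159 F251540
theorem F395939 : act 7 n195141 = n113902 := d15_2 (iv0 F363820) D195141 F326359
theorem F395940 : act 2 n135785 = n195141 := d4_3 F395939 F326359 D135785
theorem F395941 : act 3 n105342 = n195141 := d8_3 F395939 (iv3 D113902) (iv7 F362907)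
theorem F395942 : act 4 n191648 = n195141 := d11_3 F395939 F326360 (iv7 F384046)
def n195142 : Q := act 7 n105324
theorem D195142 : act 7 n105324 = n195142 := rfl
theorem F395943 : act 2 n195142 = n135782 := d4_1 D195142 F342159 F251540
theorem F395944 : act 3 n195142 = n148740 := d8_1 D195142 (iv7 D148740) (iv3 F161514)
theorem F395945 : act 6 n195142 = n186686 := d14_1 D195142 F367676 (iv6 D148799) F106125 D105324
theorem F395946 : act 1 n135785 = n195142 := d15_1 (iv0 F342163) (iv7 D195142) (iv2 F251540)
theorem F395947 : act 1 n195142 = n113902 := d15_1 F395946 (iv7 F395939) (iv2 F395940)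
def n195143 : Q := act 6 n105326
theorem D195143 : act 6 n105326 = n195143 := rfl
theorem F395948 : act 3 n195143 = n137194 := d7_1 D195143 (iv6 D137194) (iv3 F350285)
theorem F395949 : act 4 n195143 = n105327 := d10_1 D195143 (iv6 D105327) D105326
theorem F395950 : act 5 n195143 = n188245 := d12_1 D195143 F372812 F335911 F321266 (iv5 F330620)
theorem F395951 : act 0 n195143 = n186449 := d21_4 F330619 F330612 (iv5 F330620) D195143 (iv6 F374691) (iv5 F374689) F332404 (iv5 F374822) F374821 (iv1 F252194)
theorem F395952 : act 6 n136875 = n146635 := d21_3 F220606 (iv1 F218694) D136875 F229930 D195143 F395950 F372814 F364508 (iv6 D143276) F220982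
theorem F395953 : act 4 n146636 = n136875 := d10_3 F395952 (iv4 D146635) D146636
theorem F395954 : act 1 n195143 = n189661 := d15_1 (iv0 F395951) F377291 F376316
theorem F395955 : act 7 n186800 = n195143 := d13_0 F395950 F372813 (iv5 F368048)
theorem F395956 : act 4 n190454 = n151674 := d16_2 (iv4 F379790) (iv5 F379804) F238536 (iv4 F395949) F395950 F372811 (iv5 F367588) (iv7 F376709) (iv2 F376711)
theorem F395957 : act 6 n151673 = n190454 := d10_0 F395956 (iv6 D151674) D151673
def n195144 : Q := act 5 n105330
theorem D195144 : act 5 n105330 = n195144 := rfl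
theorem F395958 : act 2 n195144 = n191670 := d2_1 D195144 (iv5 D191670) F383738
theorem F395959 : act 3 n195144 = n105331 := d6_1 D195144 (iv5 D105331) D105330
theorem F395960 : act 7 n195144 = n113520 := d13_2 F161521 D195144 (iv5 D113520)
theorem F395961 : act 1 n195144 = n191545 := d17_6 (iv1 F345759) (iv5 D113476) F173409 (iv5 F76644) (iv4 F161520) D195144 (iv5 D191545) D191544 F383750
def n195145 : Q := act 6 n105330
theorem D195145 : act 6 n105330 = n195145 := rfl
theorem F395962 : act 2 n195145 = n135205 := d3_1 D195145 (iv6 F383740) F383738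
theorem F395963 : act 3 n195145 = n105332 := d7_1 D195145 (iv6 D105332) D105330
theorem F395964 : act 4 n195145 = n105353 := d10_1 D195145 (iv6 D105353) (iv4 F161520)
theorem F395965 : act 0 n195145 = n135093 := d21_4 D191545 (iv1 F395961) (iv5 D195144) D195145 (iv6 D135093) D135092 F352563 (iv5 F167604) F383751 (iv1 D191544)
theorem F395966 : act 5 n195145 = n191629 := d21_6 F72650 (iv1 F64197) F64198 D89073 F367826 D195145 (iv1 D191629) (iv5 D98600) (iv6 D46092) (iv1 F72649)
def n195146 : Q := act 1 n105331
theorem D195146 : act 1 n105331 = n195146 := rfl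
theorem F395967 : act 1 n195146 = n105814 := d15_1 D195146 (iv7 F395923) F395921
theorem F395968 : act 7 n195146 = n124942 := d15_2 (iv0 F363452) D195146 F363450
theorem F395969 : act 5 n195146 = n105763 := d17_7 (iv1 F76630) (iv5 D48693) (iv1 D23746) D23748 D48697 D105331 D195146 F162425 (iv4 D76393)
theorem F395970 : act 4 n195146 = n105754 := d18_7 F317203 (iv4 D48911) F77015 D105746 (iv5 F229939) F229943 D195146 F321488 (iv5 D148025)
theorem F395971 : act 6 n115959 = n195146 := d10_0 F395970 F322237 (iv4 F322236)
theorem F395972 : act 3 n195146 = n154137 := d7_1 F395971 (iv6 D154137) (iv3 F327049)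
def n195147 : Q := act 6 n105331
theorem D195147 : act 6 n105331 = n195147 := rfl
theorem F395973 : act 2 n195147 = n139392 := d3_1 D195147 (iv6 F395926) F395921
theorem F395974 : act 4 n195147 = n116021 := d10_1 D195147 F341085 F229943
theorem F395975 : act 0 n195147 = n115952 := d21_4 (iv5 F340840) (iv1 D105329) D105331 D195147 (iv6 D115952) (iv5 F181556) (iv1 D66234) (iv5 D30952) D30953 D66237
theorem F395976 : act 1 n195147 = n139494 := d15_1 (iv0 F395975) (iv7 D139494) (iv2 F183040)
theorem F395977 : act 7 n195147 = n139491 := d15_2 (iv0 F366325) (iv0 F395975) (iv2 F349410)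
def n195148 : Q := act 7 n105331
theorem D195148 : act 7 n105331 = n195148 := rfl
theorem F395978 : act 2 n195148 = n105814 := d4_1 D195148 (iv7 F395923) F395921
theorem F395979 : act 3 n195148 = n113520 := d8_1 D195148 (iv7 F395960) F395959
theorem F395980 : act 4 n195148 = n105777 := d11_1 D195148 (iv7 F229942) F229943
theorem F395981 : act 5 n195148 = n105333 := d13_1 D195148 (iv7 D105333) D105331
theorem F395982 : act 0 n124942 = n195148 := d17_0 F395981 (iv1 F395915) F395918 (iv4 F224216) (iv5 F322320) F317200 (iv5 F317208) (iv0 D124943) (iv4 F200674)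
theorem F395983 : act 6 n155603 = n195148 := d21_5 D71093 (iv1 F110767) (iv5 D74024) D74025 D155603 F395981 (iv1 F395915) F395918 F320815 (iv1 D71091)
def n195149 : Q := act 0 n105332
theorem D195149 : act 0 n105332 = n195149 := rfl
def n195150 : Q := act 1 n105332
theorem D195150 : act 1 n105332 = n195150 := rfl
theorem F395984 : act 1 n195150 = n135202 := d15_1 D195150 F217374 F360485
def n195151 : Q := act 5 n105332
theorem D195151 : act 5 n105332 = n195151 := rfl
theorem F395985 : act 3 n195151 = n191629 := d6_1 D195151 (iv5 F395966) F395963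
def n195152 : Q := act 7 n105332
theorem D195152 : act 7 n105332 = n195152 := rfl
theorem F395986 : act 2 n195152 = n135202 := d4_1 D195152 F217374 F360485
theorem F395987 : act 4 n195152 = n105336 := d11_1 D195152 (iv7 D105336) (iv4 F161522)
theorem F395988 : act 1 n135202 = n195149 := d15_0 (iv0 D195149) D195152 F395986
theorem F395989 : act 1 n193579 = n195152 := d15_1 (iv0 F390326) (iv7 D195152) (iv2 F360485)
theorem F395990 : act 1 n195152 = n135061 := d15_1 F395989 F363969 F390338
def n195153 : Q := act 6 n105333
theorem D195153 : act 6 n105333 = n195153 := rfl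
theorem F395991 : act 3 n195153 = n113521 := d7_1 D195153 (iv6 D113521) (iv3 F161523)
theorem F395992 : act 4 n195153 = n105337 := d10_1 D195153 (iv6 D105337) (iv4 F161524)
theorem F395993 : act 0 n195153 = n194035 := d21_4 (iv5 F363453) F395982 F395981 D195153 (iv6 F391825) (iv5 D188177) F338882 D141208 F224236 D141220
theorem E103618 : n137165 = n113523 := (c20_1 D137165 (iv1 D113523) (iv4 F176693) (iv3 F395991) F395993 F391823 (iv4 D113915) F139345 F139344 (iv3 F218730) (iv1 F218732))
theorem F395994 : act 4 n113523 = n64479 := (sb E103618 (iv4 D137165))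
theorem F395995 : act 6 n113523 = n98558 := (sb E103618 F365272)
theorem F395996 : act 1 n195153 = n194038 := d15_1 (iv0 F395993) F391836 (iv2 F391822)
theorem F395997 : act 5 n195153 = n139434 := d19_1 (iv1 F395996) (iv4 D139434) D139433 F390839 D139498 (iv4 F373185) (iv3 D188363) (iv1 F140269) (iv5 F373098) (iv4 F379369) (iv3 D190317) F357976 F357978 (iv4 F176823) (iv3 D113251) (iv1 F161128) (iv5 F203057) (iv4 F219098) (iv3 F391834)
theorem E103619 : n139435 = n111739 := (c17_6 (iv1 F333118) D194038 (iv1 F395996) F395997 (iv4 D139434) D139435 (iv0 D111739) F81284 D66216 (iv4 F101819))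
theorem F395998 : act 5 n111739 = n65441 := (sb E103619 (iv5 D139435))
def n195154 : Q := act 4 n105334
theorem D195154 : act 4 n105334 = n195154 := rfl
theorem F395999 : act 2 n195154 = n136969 := d1_1 D195154 (iv4 F395927) (iv2 F395930)
def n195155 : Q := act 4 n105335
theorem D195155 : act 4 n105335 = n195155 := rfl
theorem F396000 : act 3 n195155 = n134536 := d5_1 D195155 (iv4 F347085) F347084 (iv4 F208633) (iv3 F339445)
theorem F396001 : act 6 n195155 = n134534 := d10_2 (iv6 F339447) D195155 F216516
theorem F396002 : act 7 n195155 = n136969 := d11_2 F395932 D195155 (iv4 F395927)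
theorem F396003 : act 3 n175681 = n195149 := d20_9 (iv4 F218156) F339448 D195155 F396000 F347089 (iv3 F220114) (iv4 F354877) (iv1 D175680) D175681 (iv1 F395988)
theorem F396004 : act 5 n195149 = n193547 := d6_2 (iv5 F275057) F396003 (iv3 D193547)
theorem F396005 : act 7 n195149 = n193579 := d8_2 F275058 F396003 F390325
theorem F396006 : act 2 n135061 = n195149 := d4_3 F396005 (iv2 F390338) (iv7 F363969)
theorem F396007 : act 6 n134781 = n195149 := d14_5 F396005 F390337 F336858 (iv6 F335887) (iv7 F363967)
theorem E103620 : n195150 = n134305 := ((c15_4 F395984 F395988 F396005 (iv2 F390338))).symm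
theorem F396008 : act 0 n134305 = n105332 := (sb E103620 (iv1 D195150))
theorem F396009 : act 1 n134305 = n135202 := (sb E103620 F395984)
def n195156 : Q := act 6 n105336
theorem D195156 : act 6 n105336 = n195156 := rfl
theorem F396010 : act 3 n195156 = n105367 := d7_1 D195156 (iv6 D105367) (iv3 F161525)
theorem F396011 : act 7 n195156 = n105337 := d14_2 D105336 D195156 (iv6 D105337) (iv7 D48699) D48698
theorem F396012 : act 0 n136958 = n195156 := d20_4 F371334 (iv1 F361998) F336033 (iv3 F363977) F396010 F161580 (iv1 F161216) F374585 (iv3 F374581) F374584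
def n195157 : Q := act 0 n105337
theorem D195157 : act 0 n105337 = n195157 := rfl
theorem F396013 : act 4 n195157 = n136957 := d18_3 (iv1 F395996) F395992 D195157 F220122 (iv4 F171618) F171620 F333125 D102603 D194038
theorem F396014 : act 2 n136958 = n195157 := d15_3 (iv0 D195157) (iv0 F288340) F363976
def n195158 : Q := act 4 n105338
theorem D195158 : act 4 n105338 = n195158 := rfl
theorem F396015 : act 2 n195158 = n105339 := d1_1 D195158 (iv4 D105339) D105338
theorem F396016 : act 5 n195158 = n137298 := d9_2 (iv5 F161529) D195158 (iv4 D137298) F100470 (iv4 D52490) (iv5 D25475) (iv4 F37384) (iv5 F40358) D52593 D113919 F177268 (iv5 F219862) F219863 (iv5 D105299) (iv4 F77411)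
theorem F396017 : act 7 n195158 = n113915 := d11_2 (iv7 F161530) D195158 (iv4 D113915)
theorem F396018 : act 0 n195158 = n113918 := d18_2 (iv1 F161531) D195158 (iv4 F177263) (iv5 D90428) F65306 F65427 F65425 F50265 D52530
theorem F396019 : act 1 n195158 = n113917 := d18_6 F76659 F76658 (iv1 F76611) (iv4 F77411) (iv5 F161529) D195158 F177215 F139179 (iv5 D69726)
def n195159 : Q := act 6 n105338
theorem D195159 : act 6 n105338 = n195159 := rfl
theorem F396020 : act 2 n195159 = n105340 := d3_1 D195159 (iv6 D105340) D105338
theorem F396021 : act 3 n195159 = n113894 := d7_1 D195159 (iv6 D113894) (iv3 F161528)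
theorem F396022 : act 5 n195159 = n187518 := d12_1 D195159 (iv6 D187518) (iv5 D90295) F82973 (iv5 F161529)
theorem F396023 : act 7 n195159 = n193350 := d14_2 (iv7 F161530) D195159 (iv6 F394475) F177281 (iv6 D113916)
theorem F396024 : act 0 n195159 = n135814 := d21_4 (iv5 F100510) (iv1 F77474) (iv5 F161529) D195159 (iv6 D135814) F212512 (iv1 D130976) (iv5 F321200) (iv6 D105313) F100512
theorem E103621 : n193349 = n105340 := ((c15_4 (iv0 D193349) D193350 (iv7 F396023) F396020)).symm
theorem F396025 : act 1 n105340 = n101483 := (sb E103621 (iv0 D193349))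
def n195160 : Q := act 6 n105339
theorem D195160 : act 6 n105339 = n195160 := rfl
theorem F396026 : act 3 n195160 = n137660 := d7_1 D195160 (iv6 D137660) (iv3 F161533)
theorem F396027 : act 4 n195160 = n105340 := d10_1 D195160 (iv6 D105340) D105339
theorem F396028 : act 0 n174722 = n195160 := d21_4 (iv5 D183480) (iv1 F157612) D190113 F378881 (iv6 D195160) (iv5 F161536) F177276 D64830 D137944 F356272
theorem F396029 : act 7 n183456 = n195160 := d8_0 F396026 F345932 D183456
def n195161 : Q := act 0 n105340
theorem D195161 : act 0 n105340 = n195161 := rfl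
theorem F396030 : act 4 n195161 = n193337 := d18_3 F396028 F396027 D195161 F389502 (iv4 F188538) F188543 (iv4 F308241) F331917 D174722
theorem F396031 : act 5 n195161 = n187951 := d21_2 (iv5 F161539) D195161 (iv6 D187951) (iv1 D90690) (iv6 D42456) D42455 (iv1 F292198) D46951 D100669 F367158
theorem F396032 : act 6 n195161 = n135812 := d21_5 F82955 (iv1 D49039) (iv5 F76638) D105340 D195161 F218432 (iv1 F214104) D133260 F319941 F104837
theorem F396033 : act 2 n135814 = n195161 := d15_3 (iv0 D195161) F396025 (iv7 F361250)
theorem F396034 : act 7 n195161 = n193336 := d4_2 (iv7 F361250) F396033 F389499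
theorem F396035 : act 1 n195159 = n193336 := d15_1 (iv0 F396024) (iv7 F396034) (iv2 F396033)
theorem F396036 : act 1 n193350 = n195161 := d15_1 D193350 F396034 F389499
def n195162 : Q := act 7 n105340
theorem D195162 : act 7 n105340 = n195162 := rfl
theorem F396037 : act 2 n195162 = n193350 := d4_1 D195162 (iv7 F396023) F396020
theorem F396038 : act 3 n195162 = n105344 := d8_1 D195162 (iv7 D105344) (iv3 F161538)
theorem F396039 : act 4 n195162 = n183456 := d11_1 D195162 F396029 F396027
theorem F396040 : act 5 n195162 = n187830 := d13_1 D195162 (iv7 D187830) (iv5 F161539)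
theorem F396041 : act 6 n195162 = n113922 := d14_1 D195162 (iv7 D113922) (iv6 D52594) (iv7 F76639) D105340
theorem F396042 : act 1 n193336 = n195162 := d15_1 F396035 (iv7 D195162) (iv2 F396020)
theorem F396043 : act 1 n195162 = n135814 := d15_1 F396042 F361250 (iv2 F389499)
def n195163 : Q := act 5 n105342
theorem D195163 : act 5 n105342 = n195163 := rfl
theorem F396044 : act 2 n195163 = n113909 := d2_1 D195163 (iv5 D113909) (iv2 F362905)
theorem F396045 : act 7 n195163 = n113904 := d13_2 (iv7 F362907) D195163 (iv5 D113904)
theorem F396046 : act 6 n157745 = n195163 := d21_5 (iv5 D25621) (iv1 F27331) (iv5 F54611) D75160 D157745 (iv5 D195163) (iv1 D105342) D105343 F161543 F77416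
theorem F396047 : act 0 n157729 = n113914 := d21_10 F177207 (iv1 F161540) D195163 (iv6 F396046) (iv1 F248622) (iv6 D114514) F83502 (iv1 F54597) D75152 D157729
def n195164 : Q := act 6 n105342
theorem D195164 : act 6 n105342 = n195164 := rfl
theorem F396048 : act 2 n195164 = n113910 := d3_1 D195164 (iv6 D113910) (iv2 F362905)
theorem F396049 : act 7 n195164 = n135798 := d14_2 (iv7 F362907) D195164 (iv6 D135798) F99313 (iv6 F325502)
theorem F396050 : act 1 n135802 = n195164 := d15_1 D135802 F396049 F218405
theorem F396051 : act 1 n195164 = n114007 := d15_1 F396050 (iv7 F209203) (iv2 F364697)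
def n195165 : Q := act 1 n105343
theorem D195165 : act 1 n105343 = n195165 := rfl
theorem F396052 : act 1 n195165 = n113914 := d15_1 D195165 (iv7 D113914) (iv2 F161541)
theorem F396053 : act 7 n195165 = n113911 := d15_2 (iv0 F248587) D195165 (iv2 F248586)
theorem F396054 : act 6 n187524 = n195165 := d21_3 (iv5 F251843) (iv1 F371940) F371942 (iv1 D195165) F161543 (iv5 D49042) F37341 D31687 D68094 D145258
theorem F396055 : act 5 n195133 = n195165 := d21_6 F20064 (iv1 F18042) D23744 D48692 D105317 D195133 (iv1 D195165) (iv5 D105343) (iv6 D48701) (iv1 F36987)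
theorem F396056 : act 2 n195165 = n113912 := d2_1 F396055 (iv5 F177205) (iv2 F395901)
def n195166 : Q := act 7 n105343
theorem D195166 : act 7 n105343 = n195166 := rfl
theorem F396057 : act 2 n195166 = n113914 := d4_1 D195166 (iv7 D113914) (iv2 F161541)
theorem F396058 : act 3 n195166 = n187830 := d8_1 D195166 (iv7 D187830) (iv3 F161542)
theorem F396059 : act 5 n195166 = n105344 := d13_1 D195166 (iv7 D105344) D105343
theorem F396060 : act 6 n195166 = n151240 := d14_1 D195166 (iv7 D151240) (iv6 D71280) (iv7 F77415) (iv6 F161543)
theorem F396061 : act 1 n113912 = n195166 := d15_1 D113912 (iv7 D195166) F161541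
theorem F396062 : act 1 n195166 = n113911 := d15_1 F396061 (iv7 F396053) F396056
def n195167 : Q := act 6 n105345
theorem D195167 : act 6 n105345 = n195167 := rfl
theorem F396063 : act 2 n195167 = n135754 := d3_1 D195167 F359587 (iv2 F229661)
theorem F396064 : act 4 n195167 = n105346 := d10_1 D195167 (iv6 D105346) D105345
theorem F396065 : act 7 n195167 = n135755 := d14_2 (iv7 F161549) D195167 (iv6 F374571) (iv7 F374572) F349121
theorem F396066 : act 0 n135749 = n195167 := d21_4 (iv5 F349097) F349090 (iv5 D135748) D135749 (iv6 D195167) (iv5 F231743) (iv1 F327877) (iv5 D135715) (iv6 D63812) D63808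
theorem F396067 : act 1 n135757 = n195167 := d15_0 (iv0 F396066) (iv7 F391709) F391706
def n195168 : Q := act 1 n105346
theorem D195168 : act 1 n105346 = n195168 := rfl
theorem F396068 : act 1 n195168 = n194787 := d15_1 D195168 F394473 F229746
theorem F396069 : act 4 n195168 = n135634 := d20_2 (iv4 F394471) (iv1 F396068) F218120 (iv1 F378532) (iv3 D134506) (iv4 D63195) (iv1 F48413) (iv4 F99236) (iv3 F218292) (iv1 F391685)
theorem F396070 : act 6 n135633 = n195168 := d10_0 F396069 (iv6 D135634) D135633
theorem F396071 : act 3 n195168 = n148745 := d7_1 F396070 (iv6 F251476) F349084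
def n195169 : Q := act 7 n105346
theorem D195169 : act 7 n105346 = n195169 := rfl
theorem F396072 : act 2 n195169 = n194787 := d4_1 D195169 F394473 F229746
theorem F396073 : act 3 n195169 = n105349 := d8_1 D195169 (iv7 D105349) (iv3 F161550)
theorem F396074 : act 4 n195169 = n135755 := d11_1 D195169 (iv7 F396065) F396064
theorem F396075 : act 5 n195169 = n157364 := d13_1 D195169 (iv7 D157364) (iv5 F161551)
theorem F396076 : act 6 n195169 = n113900 := d14_1 D195169 (iv7 D113900) (iv6 D52585) (iv7 F76642) D105346
theorem F396077 : act 1 n194787 = n187743 := d15_0 (iv0 F371386) D195169 F396072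
def n195170 : Q := act 3 n105351
theorem D195170 : act 3 n105351 = n195170 := rfl
theorem F396078 : act 2 n195170 = n138063 := d0_1 D195170 (iv3 F380728) F380727 F352455 (iv2 F352453)
theorem F396079 : act 6 n195170 = n186737 := d7_2 (iv6 F345754) D195170 (iv3 D186737)
theorem F396080 : act 7 n195170 = n113514 := d8_2 (iv7 F352454) D195170 (iv3 D113514)
theorem F396081 : act 0 n195170 = n138060 := d20_10 (iv4 D138060) (iv1 F219117) F219098 F203056 (iv1 F359804) F384089 (iv4 F384090) (iv1 F352448) (iv4 F352451) D195170
theorem F396082 : act 1 n195170 = n136223 := d15_1 (iv0 F396081) F219254 (iv2 F221303)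
def n195171 : Q := act 0 n105353
theorem D195171 : act 0 n105353 = n195171 := rfl
theorem F396083 : act 5 n195171 = n191644 := d19_1 D195171 (iv4 F384005) F384004 (iv1 F159991) (iv5 F365793) (iv4 D186015) (iv3 F335608) (iv1 F371251) (iv5 D187703) F292664 D102466 (iv1 F290048) (iv5 F356337) (iv4 D105470) (iv3 D48765) (iv1 D23782) (iv5 F36996) (iv4 F76647) (iv3 F161566)
theorem F396084 : act 6 n195171 = n125654 := d21_5 (iv5 D113476) F173409 (iv5 F76644) D105353 D195171 (iv5 F332711) F352478 (iv5 D128593) D128594 (iv1 F345759)
theorem F396085 : act 2 n128830 = n195171 := d15_3 (iv0 D195171) (iv0 F367309) (iv7 F354707)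
def n195172 : Q := act 5 n105353
theorem D195172 : act 5 n105353 = n195172 := rfl
theorem F396086 : act 3 n195172 = n105356 := d6_1 D195172 (iv5 D105356) (iv3 F161566)
theorem F396087 : act 6 n195172 = n113527 := d12_2 D105353 D195172 (iv5 D113527) (iv6 D52399) (iv5 F76644)
theorem F396088 : act 0 n195172 = n190560 := d21_1 D195172 (iv5 D190560) (iv6 D96163) F327926 (iv6 D61863) D61862 D131840 F367308 D131936 F367309
def n195173 : Q := act 7 n105353
theorem D195173 : act 7 n105353 = n195173 := rfl
theorem F396089 : act 2 n195173 = n129093 := d4_1 D195173 (iv7 F211684) F365453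
theorem F396090 : act 3 n195173 = n105357 := d8_1 D195173 (iv7 D105357) (iv3 F161566)
theorem F396091 : act 6 n195173 = n113524 := d14_1 D195173 (iv7 D113524) (iv6 D52398) (iv7 F76645) D105353
theorem F396092 : act 1 n129093 = n195171 := d15_0 (iv0 D195171) D195173 F396089
def n195174 : Q := act 3 n105354
theorem D195174 : act 3 n105354 = n195174 := rfl
theorem F396093 : act 4 n195174 = n172245 := d5_2 (iv4 F177662) D195174 F270506 (iv4 F339452) (iv3 D106268)
theorem F396094 : act 6 n195174 = n128877 := d7_2 (iv6 F342950) D195174 (iv3 D128877)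
theorem F396095 : act 7 n195174 = n113953 := d8_2 (iv7 F177869) D195174 (iv3 D113953)
theorem F396096 : act 2 n130228 = n195174 := d4_3 F396095 (iv2 F359270) (iv7 F354046)
theorem F396097 : act 1 n130392 = n195174 := d15_1 (iv0 F337579) F396095 (iv2 F359270)
theorem F396098 : act 1 n195174 = n130397 := d15_1 F396097 (iv7 F359267) (iv2 F359268)
def n195175 : Q := act 5 n105354
theorem D195175 : act 5 n105354 = n195175 := rfl
theorem F396099 : act 2 n195175 = n113950 := d2_1 D195175 (iv5 D113950) (iv2 F177868)
theorem F396100 : act 7 n195175 = n113955 := d13_2 (iv7 F177869) D195175 (iv5 D113955)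
theorem F396101 : act 1 n195175 = n191643 := d17_6 D106168 F163170 F178183 (iv5 D106270) (iv4 F177662) D195175 (iv5 F384035) F179040 (iv4 D106170)
def n195176 : Q := act 3 n105355
theorem D195176 : act 3 n105355 = n195176 := rfl
theorem F396102 : act 7 n195176 = n113948 := d8_2 (iv7 F177864) D195176 (iv3 D113948)
def n195177 : Q := act 5 n105355
theorem D195177 : act 5 n105355 = n195177 := rfl
theorem F396103 : act 2 n195177 = n113955 := d2_1 D195177 (iv5 D113955) (iv2 F177863)
theorem F396104 : act 7 n195177 = n113950 := d13_2 (iv7 F177864) D195177 (iv5 D113950)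
theorem F396105 : act 4 n195177 = n136333 := d16_2 (iv4 F177661) D195177 F360965 (iv4 D115029) (iv5 F178436) (iv4 F178439) (iv5 D106270) F177867 F177862
theorem F396106 : act 0 n195177 = n191643 := d17_2 (iv1 F161567) D195177 (iv5 F384035) (iv4 D114954) F83756 F178440 F106066 F76648 (iv4 F83106)
theorem F396107 : act 3 n113315 = n195177 := d20_3 F94224 D105302 (iv4 F395842) F396106 F383997 F152004 D98611 D191649 (iv3 F384054) (iv1 D127369)
theorem F396108 : act 5 n195176 = n113315 := d6_0 F396107 (iv5 D195177) D195176
theorem F396109 : act 3 n113950 = n113634 := d8_3 (iv7 F395850) F396107 F396104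
theorem F396110 : act 5 n113634 = n113948 := d6_2 D113950 F396109 (iv3 D113948)
theorem F396111 : act 6 n136331 = n195177 := d10_0 F396105 (iv6 D136333) D136331
theorem F396112 : act 6 n113955 = n106630 := d3_2 F396111 F396103 (iv2 F330454)
theorem F396113 : act 3 n106633 = n113955 := d7_3 F396112 (iv3 D106630) D106633
theorem F396114 : act 5 n113953 = n106633 := d6_0 F396113 (iv5 D113955) D113953
def n195178 : Q := act 0 n105356
theorem D195178 : act 0 n105356 = n195178 := rfl
theorem F396115 : act 5 n195178 = n106367 := d17_3 (iv1 D105355) D105356 D195178 (iv4 D106367) (iv5 D49149) (iv0 D23982) (iv5 F37410) D49108 (iv4 F177661)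
theorem F396116 : act 2 n113957 = n195178 := d2_3 F396115 F163484 F177854
theorem F396117 : act 6 n131961 = n195178 := d12_0 F396115 (iv6 F349626) (iv5 D128899) F173730 D131961
theorem F396118 : act 7 n113958 = n195178 := d13_0 F396115 (iv7 F163496) (iv5 F179039)
def n195179 : Q := act 1 n105356
theorem D195179 : act 1 n105356 = n195179 := rfl
theorem F396119 : act 1 n195179 = n113960 := d15_1 D195179 (iv7 D113960) (iv2 F161568)
theorem F396120 : act 7 n195179 = n113957 := d15_2 (iv0 D195178) D195179 F396116
theorem F396121 : act 2 n113958 = n195179 := d4_3 F396120 F396116 (iv7 F396118)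
theorem F396122 : act 5 n106383 = n195179 := d13_3 F396120 (iv5 F177854) (iv7 F163483)
theorem F396123 : act 6 n144778 = n106383 := d21_5 (iv5 D28380) D28378 (iv5 F49857) D67850 D144778 F396122 (iv1 D195179) (iv5 D105356) (iv6 D48705) (iv1 F45879)
theorem F396124 : act 4 n106384 = n144778 := d10_3 F396123 (iv4 D106383) D106384
theorem F396125 : act 1 n113960 = n195178 := d15_1 F396119 (iv7 F396118) F396121
theorem F396126 : act 0 n136331 = n131958 := d21_4 F177302 (iv1 F161567) D195177 (iv6 F396111) F211432 (iv5 D61917) D61915 D131961 F396117 (iv1 F396125)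
def n195180 : Q := act 4 n105356
theorem D195180 : act 4 n105356 = n195180 := rfl
theorem F396127 : act 2 n195180 = n113959 := d1_1 D195180 (iv4 D113959) (iv2 F161568)
theorem F396128 : act 5 n195180 = n114916 := d9_2 D105356 D195180 F179007 F83739 F40656 (iv5 F40360) (iv4 F83106) (iv5 F177302) (iv4 F179143) (iv5 D115035) (iv4 D53080) (iv5 D25746) F20216 (iv5 F36996) (iv4 F76647)
theorem F396129 : act 6 n195180 = n113563 := d10_2 (iv6 F161569) D195180 (iv4 D113563)
theorem F396130 : act 7 n114915 = n195180 := d13_0 F396128 (iv7 D114916) D114915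
def n195181 : Q := act 7 n105356
theorem D195181 : act 7 n105356 = n195181 := rfl
theorem F396131 : act 2 n195181 = n113960 := d4_1 D195181 (iv7 D113960) (iv2 F161568)
theorem F396132 : act 4 n195181 = n114915 := d11_1 D195181 F396130 (iv4 D195180)
theorem F396133 : act 5 n195181 = n105357 := d13_1 D195181 (iv7 D105357) D105356
theorem F396134 : act 1 n113958 = n195181 := d15_1 D113958 (iv7 D195181) F161568
theorem F396135 : act 1 n195181 = n113957 := d15_1 F396134 (iv7 F396120) (iv2 F396121)
def n195182 : Q := act 3 n105360
theorem D195182 : act 3 n105360 = n195182 := rfl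
theorem F396136 : act 4 n195182 = n138065 := d5_2 D105360 D195182 F354898 (iv4 F354894) (iv3 D105359)
theorem F396137 : act 7 n195182 = n113994 := d8_2 (iv7 F193495) D195182 (iv3 D113994)
theorem F396138 : act 0 n129086 = n195182 := d20_4 F78058 D49371 F102053 D129086 (iv3 D195182) (iv4 D105360) (iv1 F76651) (iv4 F83106) (iv3 F328647) F102066
theorem F396139 : act 2 n128955 = n195182 := d15_3 (iv0 F396138) F362096 F347516
theorem F396140 : act 6 n195182 = n128609 := d3_2 D128955 F396139 F355008
def n195183 : Q := act 5 n105360
theorem D195183 : act 5 n105360 = n195183 := rfl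
theorem F396141 : act 2 n195183 = n113977 := d2_1 D195183 (iv5 D113977) (iv2 F193494)
theorem F396142 : act 7 n195183 = n106837 := d13_2 (iv7 F193495) D195183 F365928
theorem F396143 : act 6 n183519 = n195183 := d14_5 F396142 (iv6 D106837) (iv7 F213171) D132996 (iv7 F359004)
def n195184 : Q := act 6 n105360
theorem D195184 : act 6 n105360 = n195184 := rfl
theorem F396144 : act 2 n195184 = n113978 := d3_1 D195184 (iv6 D113978) (iv2 F193494)
theorem F396145 : act 3 n195184 = n128609 := d7_1 D195184 (iv6 F396140) (iv3 D195182)
theorem F396146 : act 4 n195184 = n105362 := d10_1 D195184 (iv6 D105362) D105360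
theorem F396147 : act 7 n195184 = n128947 := d14_2 (iv7 F193495) D195184 F339690 (iv7 F326356) (iv6 D113996)
def n195185 : Q := act 3 n105365
theorem D195185 : act 3 n105365 = n195185 := rfl
theorem F396148 : act 6 n195185 = n191139 := d7_2 F365812 D195185 F382382
theorem F396149 : act 7 n195185 = n113976 := d8_2 (iv7 F193488) D195185 (iv3 D113976)
theorem F396150 : act 0 n195185 = n154235 := d19_4 (iv1 F179048) F106066 D105365 D195185 (iv5 D154235) (iv4 D73076) F306913 (iv1 F156316) (iv5 F385182) (iv4 F387326) (iv3 F392805) F392803 F333685 F105146 (iv3 F105137) F317664 D114665 F338651 F339578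
theorem F396151 : act 5 n183463 = n195185 := d17_1 F389051 F396150 (iv5 D154235) (iv4 D73076) (iv5 D33663) F190753 F328265 (iv0 F328260) D193174
def n195186 : Q := act 5 n105365
theorem D195186 : act 5 n105365 = n195186 := rfl
theorem F396152 : act 2 n195186 = n106837 := d2_1 D195186 F365928 (iv2 F193487)
theorem F396153 : act 3 n195186 = n183463 := d6_1 D195186 F396151 (iv3 D195185)
theorem F396154 : act 7 n195186 = n113977 := d13_2 (iv7 F193488) D195186 (iv5 D113977)
theorem F396155 : act 6 n106834 = n195186 := d21_5 F202421 F176714 (iv5 F343605) F164614 (iv1 F213173) (iv5 D195186) F177807 D106112 (iv6 F163239) (iv1 F202420)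
def n195187 : Q := act 5 n105368
theorem D195187 : act 5 n105368 = n195187 := rfl
theorem F396156 : act 2 n195187 = n114006 := d2_1 D195187 (iv5 D114006) (iv2 F209206)
theorem F396157 : act 3 n195187 = n188649 := d6_1 D195187 (iv5 F394419) F394417
theorem F396158 : act 6 n195187 = n188920 := d12_2 F209205 D195187 F375208 (iv6 D130636) D130635
theorem F396159 : act 7 n195187 = n114011 := d13_2 (iv7 F209207) D195187 (iv5 D114011)
def n195188 : Q := act 5 n105369
theorem D195188 : act 5 n105369 = n195188 := rfl
theorem F396160 : act 2 n195188 = n114011 := d2_1 D195188 (iv5 D114011) (iv2 F209208)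
theorem F396161 : act 3 n195188 = n188893 := d6_1 D195188 F375147 (iv3 F335957)
theorem F396162 : act 6 n195188 = n159827 := d12_2 F394403 D195188 (iv5 F386901) F386902 (iv5 F394402)
theorem F396163 : act 7 n195188 = n114006 := d13_2 (iv7 F209209) D195188 (iv5 D114006)
def n195189 : Q := act 6 n105372
theorem D195189 : act 6 n105372 = n195189 := rfl
theorem F396164 : act 2 n195189 = n114116 := d3_1 D195189 (iv6 D114116) (iv2 F161594)
theorem F396165 : act 3 n195189 = n123775 := d7_1 D195189 (iv6 D123775) F161599
theorem F396166 : act 4 n195189 = n105373 := d10_1 D195189 (iv6 D105373) D105372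
theorem F396167 : act 5 n195189 = n192316 := d12_1 D195189 F389898 F389895 (iv6 D120412) (iv5 F161595)
theorem F396168 : act 7 n195189 = n193594 := d14_2 (iv7 F161596) D195189 (iv6 D193594) (iv7 F335753) F303374
theorem F396169 : act 1 n186990 = n193594 := d15_1 (iv0 F369000) (iv7 F396168) F396164
def n195190 : Q := act 1 n105378
theorem D195190 : act 1 n105378 = n195190 := rfl
theorem F396170 : act 1 n195190 = n106308 := d15_1 D195190 (iv7 F373891) F373890
theorem F396171 : act 7 n195190 = n106304 := d15_2 (iv0 F342993) D195190 F163378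
theorem F396172 : act 4 n195190 = n119972 := d18_7 (iv1 F317807) F317809 (iv1 D81786) F299181 (iv5 F322655) (iv4 F342994) D195190 F189384 (iv5 F343017)
theorem F396173 : act 5 n195190 = n187428 := d18_9 (iv1 D187428) (iv4 F142183) F364730 F144545 D93777 (iv4 F144549) (iv0 F322650) (iv4 F342994) D195190
theorem F396174 : act 3 n151327 = n195190 := d20_3 D76414 D159724 (iv4 F355774) (iv1 D195190) (iv3 D105378) F114619 (iv1 D25577) F20109 (iv3 F27768) D34915
theorem F396175 : act 2 n195190 = n106310 := d0_1 F396174 F317600 (iv2 F189338) (iv3 F374068) F374067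
theorem F396176 : act 6 n106314 = n195190 := d3_0 F396175 F290277 (iv2 F290273)
def n195191 : Q := act 5 n105378
theorem D195191 : act 5 n105378 = n195191 := rfl
theorem F396177 : act 3 n195191 = n105379 := d6_1 D195191 (iv5 D105379) D105378
theorem F396178 : act 7 n195191 = n114080 := d13_2 (iv7 F161687) D195191 (iv5 D114080)
theorem F396179 : act 0 n195191 = n188622 := d17_2 (iv1 D195190) D195191 F374226 F184844 (iv5 F317819) D133950 F343016 F189386 (iv4 F396172)
theorem F396180 : act 6 n187635 = n195191 := d21_5 F82388 (iv1 F138856) F138854 D92572 F371069 (iv5 D195191) F342993 (iv5 F145081) (iv6 D94126) F69251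
def n195192 : Q := act 6 n105378
theorem D195192 : act 6 n105378 = n195192 := rfl
theorem F396181 : act 2 n195192 = n191110 := d3_1 D195192 F382272 F373890
theorem F396182 : act 3 n195192 = n105380 := d7_1 D195192 (iv6 D105380) D105378
theorem F396183 : act 4 n195192 = n142831 := d10_1 D195192 (iv6 F228544) (iv4 F342994)
theorem F396184 : act 7 n195192 = n142827 := d14_2 (iv7 F161687) D195192 (iv6 D142827) F182562 F324169
theorem F396185 : act 1 n116164 = n195192 := d15_1 (iv0 F339792) F396184 (iv2 F228576)
def n195193 : Q := act 6 n105383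
theorem D195193 : act 6 n105383 = n195193 := rfl
theorem F396186 : act 2 n195193 = n114265 := d3_1 D195193 (iv6 D114265) F161713
theorem F396187 : act 3 n195193 = n138306 := d7_1 D195193 F328074 (iv3 F161712)
theorem F396188 : act 4 n195193 = n188805 := d10_1 D195193 (iv6 D188805) (iv4 F161711)
theorem F396189 : act 0 n195193 = n175167 := d21_4 (iv5 F52889) (iv1 F92121) (iv5 F161710) D195193 F378908 (iv5 D190116) (iv1 D95635) F306631 (iv6 D72450) F52733
theorem F396190 : act 0 n193813 = n195193 := d21_4 (iv5 F151046) (iv1 F151047) D102361 D193813 (iv6 D195193) F161710 (iv1 F92122) (iv5 F108974) F108976 F290701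
theorem F396191 : act 5 n138305 = n195193 := d6_0 F396187 (iv5 D138306) D138305
def n195194 : Q := act 1 n105384
theorem D195194 : act 1 n105384 = n195194 := rfl
theorem F396192 : act 4 n195194 = n194227 := d18_7 (iv1 D47760) (iv4 F75019) F355624 F331472 F82485 (iv4 F161717) D195194 F392415 (iv5 D103015)
theorem F396193 : act 3 n153976 = n195194 := d5_5 F396192 (iv3 F392416) F343316 F347993 F347996
theorem F396194 : act 5 n195194 = n183142 := d6_2 (iv5 F359696) F396193 F284748
theorem F396195 : act 6 n195194 = n189889 := d7_2 (iv6 F359698) F396193 F378118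
def n195195 : Q := act 5 n105384
theorem D195195 : act 5 n105384 = n195195 := rfl
theorem F396196 : act 2 n195195 = n139291 := d2_1 D195195 (iv5 F355662) F240902
theorem F396197 : act 3 n195195 = n118748 := d6_1 D195195 (iv5 D118748) (iv3 F161716)
theorem F396198 : act 6 n195195 = n151508 := d12_2 D105384 D195195 (iv5 D151508) F309266 F90057
theorem F396199 : act 4 n195195 = n139287 := d16_2 (iv4 F161717) D195195 (iv5 D139287) (iv4 F204355) F355628 (iv4 F355661) (iv5 F343305) F343304 F161708
theorem F396200 : act 0 n139369 = n183142 := d17_0 (iv5 F396194) (iv1 D195194) D195195 F396199 (iv5 D139287) F101072 D133975 F393165 D139369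
theorem F396201 : act 1 n195195 = n194139 := d17_6 (iv1 D144917) (iv5 F322607) (iv1 F291034) F82485 (iv4 F161717) D195195 (iv5 D194139) D194138 F392174
theorem F396202 : act 1 n194139 = n133984 := d15_1 F396201 (iv7 F222492) (iv2 F396196)
def n195196 : Q := act 7 n105384
theorem D195196 : act 7 n105384 = n195196 := rfl
theorem F396203 : act 3 n195196 = n118749 := d8_1 D195196 (iv7 D118749) (iv3 F161716)
theorem F396204 : act 4 n195196 = n105387 := d11_1 D195196 (iv7 D105387) (iv4 F161717)
theorem F396205 : act 6 n195196 = n114269 := d14_1 D195196 (iv7 D114269) (iv6 D52740) (iv7 F76713) D105384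
def n195197 : Q := act 4 n105385
theorem D195197 : act 4 n105385 = n195197 := rfl
theorem F396206 : act 2 n195197 = n117694 := d1_1 D195197 F184316 (iv2 F343298)
theorem F396207 : act 3 n195197 = n120306 := d5_1 D195197 F350756 (iv3 F350753) (iv4 F343297) F343296
theorem F396208 : act 7 n195197 = n120465 := d11_2 F343299 D195197 F355822
theorem F396209 : act 0 n195197 = n117586 := d18_2 D105385 D195197 (iv4 F383045) (iv5 D191323) F355655 (iv0 F378567) F378564 (iv0 D113032) F82485
theorem F396210 : act 0 n148120 = n195197 := d20_7 F343311 F341183 (iv4 D71470) D71469 (iv1 F338508) (iv3 F259535) (iv4 F347741) (iv4 D195197) (iv3 F343296) F343294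
def n195198 : Q := act 6 n105385
theorem D195198 : act 6 n105385 = n195198 := rfl
theorem F396211 : act 5 n195198 = n188558 := d12_1 D195198 (iv6 F392258) (iv5 D194175) D194176 (iv5 F392260)
def n195199 : Q := act 1 n105390
theorem D195199 : act 1 n105390 = n195199 := rfl
theorem F396212 : act 1 n195199 = n105393 := d15_1 D195199 F178229 (iv2 F178233)
theorem F396213 : act 7 n195199 = n106190 := d15_2 (iv0 F163453) D195199 F163515
theorem F396214 : act 5 n195199 = n106191 := d17_7 (iv1 F177891) (iv5 F178426) (iv1 D114306) (iv5 D52754) (iv4 F94481) D105390 D195199 F163514 (iv4 F163450)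
theorem F396215 : act 4 n195199 = n116971 := d17_9 (iv1 F331463) (iv5 D143973) (iv1 F103307) (iv5 F331481) F175891 F82415 F76720 D105390 D195199
theorem F396216 : act 6 n107480 = n195199 := d21_3 (iv5 F147656) (iv1 F359020) F165812 (iv1 D195199) (iv6 F290530) (iv5 D164410) D164408 F290526 (iv6 F395354) (iv1 D190011)
theorem F396217 : act 2 n195199 = n114224 := d3_1 F396216 F178009 F176048
def n195200 : Q := act 4 n105393
theorem D195200 : act 4 n105393 = n195200 := rfl
theorem F396218 : act 2 n195200 = n114237 := d1_1 D195200 (iv4 D114237) (iv2 F178228)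
theorem F396219 : act 5 n195200 = n141861 := d9_2 D105393 D195200 (iv4 D141861) (iv5 F331546) (iv4 D114307) (iv5 D52754) (iv4 F94481) D105390 (iv4 F382316) (iv5 F382317) (iv4 D141856) (iv5 F331551) (iv4 D114320) (iv5 D52759) (iv4 F161722)
theorem F396220 : act 7 n195200 = n114225 := d11_2 (iv7 F178229) D195200 (iv4 D114225)
theorem F396221 : act 0 n195200 = n144170 := d17_0 (iv5 D144170) (iv1 F367001) F367004 (iv4 D112954) (iv5 F161606) (iv0 F163513) (iv5 F396214) F396212 D195200
theorem F396222 : act 1 n195200 = n115006 := d18_6 (iv1 F76745) F76741 (iv1 F46018) (iv4 F161722) D105393 D195200 (iv4 D115006) (iv0 F83766) (iv5 D52792)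
theorem F396223 : act 3 n144122 = n195200 := d20_5 (iv4 F94999) F95000 (iv4 F49639) (iv3 F103417) D144122 (iv4 D195200) (iv1 F396212) F396215 F182842 F85014
def n195201 : Q := act 5 n105395
theorem D195201 : act 5 n105395 = n195201 := rfl
theorem F396224 : act 2 n195201 = n114456 := d2_1 D195201 (iv5 D114456) (iv2 F161726)
theorem F396225 : act 6 n195201 = n106280 := d12_2 D105395 D195201 (iv5 D106280) (iv6 D49113) (iv5 F76733)
theorem F396226 : act 7 n195201 = n189681 := d13_2 F258796 D195201 F377384
theorem F396227 : act 0 n110781 = n195201 := d21_1 (iv5 F171486) (iv5 D195201) (iv6 D105395) (iv1 F76732) D52819 (iv5 F139493) D187835 (iv5 F371663) (iv6 F377441) F377442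
def n195202 : Q := act 3 n105398
theorem D195202 : act 3 n105398 = n195202 := rfl
theorem F396228 : act 2 n195202 = n143657 := d0_1 D195202 (iv3 D143657) (iv2 F318191) (iv3 F343313) (iv2 F347786)
theorem F396229 : act 5 n195202 = n189701 := d6_2 F376571 D195202 F377455
theorem F396230 : act 7 n195202 = n194227 := d8_2 (iv7 F347788) D195202 (iv3 F392416)
theorem F396231 : act 0 n195202 = n191323 := d19_4 F202630 F351027 (iv4 F347787) D195202 (iv5 D191323) F355655 F225285 D142365 F225287 F103764 (iv3 D67695) (iv1 D31439) (iv5 F49420) D66400 F102290 (iv1 F51024) (iv5 F94400) F94402 (iv3 F105260)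
theorem F396232 : act 1 n195202 = n164614 := d15_1 (iv0 F396231) (iv7 F356105) (iv2 F383041)
def n195203 : Q := act 5 n105399
theorem D195203 : act 5 n105399 = n195203 := rfl
theorem F396233 : act 3 n195203 = n142848 := d6_1 D195203 F225742 (iv3 F347782)
def n195204 : Q := act 6 n105402
theorem D195204 : act 6 n105402 = n195204 := rfl
theorem F396234 : act 2 n195204 = n114398 := d3_1 D195204 (iv6 D114398) (iv2 F161736)
theorem F396235 : act 3 n195204 = n145017 := d7_1 D195204 (iv6 D145017) (iv3 F321213)
theorem F396236 : act 5 n195204 = n121348 := d12_1 D195204 (iv6 D121348) (iv5 F161740) (iv6 D105403) D105402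
theorem F396237 : act 0 n195204 = n131147 := d21_4 (iv5 D48736) D48734 D105402 D195204 (iv6 D131147) (iv5 F293645) F293643 (iv5 F331384) F331385 F114603
theorem F396238 : act 0 n133431 = n121348 := d21_1 D133431 (iv5 F396236) (iv6 D195204) F161905 (iv6 F227662) (iv5 D144784) (iv1 F175397) (iv5 F175841) (iv6 F176002) (iv1 F176004)
theorem F396239 : act 0 n114414 = n133432 := d21_4 (iv5 D105476) F161859 (iv5 F161795) D114414 (iv6 D133432) D133431 F396238 (iv5 F396236) (iv6 D195204) F161905
theorem F396240 : act 1 n191359 = n133432 := d15_0 (iv0 F396239) (iv7 F376510) (iv2 F383187)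
theorem F396241 : act 4 n133432 = n194215 := d18_7 (iv1 F395238) (iv4 D189817) (iv1 D95287) (iv4 F72388) D98135 D191359 F396240 (iv0 F392395) (iv5 F395236)
theorem F396242 : act 6 n194215 = n133430 := d10_2 D133432 F396241 (iv4 D133430)
theorem F396243 : act 3 n133430 = n194218 := d7_1 F396242 (iv6 D194218) D194215
theorem F396244 : act 1 n195204 = n164492 := d15_1 (iv0 F396237) F376229 F376224
def n195205 : Q := act 6 n105407
theorem D195205 : act 6 n105407 = n195205 := rfl
theorem F396245 : act 2 n195205 = n114414 := d3_1 D195205 (iv6 D114414) (iv2 F161794)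
theorem F396246 : act 3 n195205 = n145025 := d7_1 D195205 (iv6 D145025) (iv3 F324700)
theorem F396247 : act 4 n195205 = n158121 := d10_1 D195205 (iv6 F332882) F176123
theorem F396248 : act 5 n195205 = n159584 := d12_1 D195205 (iv6 F327787) F327786 (iv6 F161762) F161758
theorem F396249 : act 7 n195205 = n191359 := d14_2 (iv7 F161757) D195205 F383189 F376199 F251939
def n195206 : Q := act 3 n105408
theorem D195206 : act 3 n105408 = n195206 := rfl
theorem F396250 : act 2 n195206 = n137530 := d0_1 D195206 F220727 (iv2 F355187) (iv3 D114417) (iv2 F161751)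
theorem F396251 : act 6 n195206 = n105410 := d7_2 (iv6 F161752) D195206 (iv3 D105410)
theorem F396252 : act 0 n194225 = n195206 := d20_4 F377237 F355652 (iv4 F158265) (iv3 F392406) (iv3 D195206) (iv4 D105408) D105407 (iv4 F176123) (iv3 F332883) F377239
theorem F396253 : act 5 n195206 = n136031 := d21_8 F383643 (iv1 F385719) F385716 (iv6 F368764) (iv1 F368766) D193741 (iv5 F392407) F396252 F365322 (iv1 F383645)
theorem F396254 : act 1 n194223 = n195206 := d15_0 (iv0 F396252) (iv7 D194225) (iv2 F392405)
theorem F396255 : act 1 n193741 = n117005 := d17_8 (iv1 D63927) D63929 D135966 F225343 D136031 (iv5 F396253) (iv0 F396252) F392407 F182933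
theorem F396256 : act 1 n135958 = n193741 := d15_0 F396255 F182932 (iv2 F218716)
theorem F396257 : act 7 n137518 = n195206 := d13_0 F396253 F218895 D137518
def n195207 : Q := act 5 n105408
theorem D195207 : act 5 n105408 = n195207 := rfl
theorem F396258 : act 2 n195207 = n114418 := d2_1 D195207 (iv5 D114418) (iv2 F161751)
theorem F396259 : act 3 n195207 = n136031 := d6_1 D195207 (iv5 F396253) (iv3 D195206)
theorem F396260 : act 6 n195207 = n113086 := d12_2 (iv6 F161752) D195207 (iv5 D113086) (iv6 D52194) (iv5 F76747)
theorem F396261 : act 7 n195207 = n137517 := d16_8 F102661 (iv5 F340006) (iv4 D60011) (iv5 D28491) (iv4 F37044) D48736 D105408 D195207 F220718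
theorem F396262 : act 0 n195207 = n142470 := d17_2 F175893 D195207 (iv5 F340496) (iv4 D114225) (iv5 D52721) (iv0 D25590) (iv5 F39978) D52136 D112954
theorem F396263 : act 1 n195207 = n142469 := d17_6 (iv1 F161906) (iv5 D105405) (iv1 D48735) D48736 D105408 D195207 F331558 F340491 F340493
def n195208 : Q := act 7 n105408
theorem D195208 : act 7 n105408 = n195208 := rfl
theorem F396264 : act 2 n195208 = n114419 := d4_1 D195208 (iv7 D114419) (iv2 F161751)
theorem F396265 : act 3 n195208 = n137518 := d8_1 D195208 F396257 (iv3 D195206)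
theorem F396266 : act 4 n195208 = n105409 := d11_1 D195208 (iv7 D105409) D105408
theorem F396267 : act 5 n195208 = n137517 := d13_1 D195208 (iv7 F396261) (iv5 D195207)
theorem F396268 : act 6 n195208 = n113085 := d14_1 D195208 (iv7 D113085) (iv6 D52193) (iv7 F76748) (iv6 F161752)
theorem F396269 : act 1 n113053 = n195208 := d15_1 (iv0 F176135) (iv7 D195208) F161751
theorem F396270 : act 1 n195208 = n113050 := d15_1 F396269 F176130 (iv2 F176133)
def n195209 : Q := act 0 n105410
theorem D195209 : act 0 n105410 = n195209 := rfl
theorem F396271 : act 1 n113077 = n195209 := d15_0 (iv0 D195209) F161799 (iv2 F176167)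
theorem F396272 : act 5 n130527 = n195209 := d21_6 F386896 (iv1 D144148) (iv5 D67532) D67533 D144151 (iv6 F390729) (iv1 F396271) (iv5 D113077) (iv6 F176146) (iv1 F204358)
theorem F396273 : act 7 n195209 = n113078 := d13_2 F390596 F396272 F377579
def n195210 : Q := act 1 n105410
theorem D195210 : act 1 n105410 = n195210 := rfl
theorem F396274 : act 3 n192158 = n195210 := d20_3 F349635 (iv1 F375073) (iv4 F385806) (iv1 D195210) (iv3 D105410) (iv4 D48738) F37046 D29018 D61292 D130623
theorem F396275 : act 5 n130528 = n195210 := d21_6 (iv5 D192130) (iv1 D99734) D99736 (iv6 F368771) (iv1 F368778) (iv6 F390593) (iv1 D195210) F161798 D113082 (iv1 F385684)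
theorem F396276 : act 2 n195210 = n113078 := d2_1 F396275 F377579 (iv2 F390591)
theorem F396277 : act 0 n113077 = n195210 := d21_10 (iv5 F396275) (iv1 D130528) D130530 (iv6 F390831) (iv1 F373773) (iv6 F377281) F377280 F251188 (iv5 F377288) (iv6 F377290)
theorem F396278 : act 7 n113079 = n195210 := d15_2 (iv0 D113078) D113079 F396276
theorem F396279 : act 2 n113079 = n195209 := d4_3 F396273 (iv2 F396276) (iv7 F396278)
theorem F396280 : act 5 n133340 = n113079 := d2_0 F396279 (iv5 F396272) (iv2 F390595)
theorem F396281 : act 5 n111182 = n156454 := d17_7 (iv1 F214376) F396280 (iv1 D113079) (iv5 D52191) F40058 D51280 D111182 F245967 F221476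
def n195211 : Q := act 2 n105410
theorem D195211 : act 2 n105410 = n195211 := rfl
theorem F396282 : act 3 n195211 = n114423 := d0_2 D105410 D195211 (iv2 D114423) (iv3 D52803) (iv2 F76746)
theorem F396283 : act 5 n195211 = n113064 := d2_2 (iv5 F161798) D195211 (iv2 F176159)
theorem F396284 : act 6 n195211 = n137530 := d3_2 F396251 D195211 (iv2 F396250)
theorem F396285 : act 7 n195211 = n113077 := d4_2 (iv7 F161799) D195211 F176167
theorem F396286 : act 1 n195211 = n113078 := d15_0 (iv0 D113078) (iv7 F161799) D195211
theorem F396287 : act 1 n113079 = n195211 := d15_0 F396286 (iv7 F396273) (iv2 F396279)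
theorem E103622 : n194224 = n137530 := ((c21_4 (iv5 D113068) D113064 (iv5 F396283) F396284 (iv1 D194224) (iv6 D103002) (iv5 F112838) D158003 (iv5 F390830) F390831 F366395)).symm
theorem F396288 : act 0 n137530 = n103002 := (sb E103622 (iv1 D194224))
def n195212 : Q := act 1 n105424
theorem D195212 : act 1 n105424 = n195212 := rfl
theorem F396289 : act 1 n195212 = n105438 := d15_1 D195212 (iv7 D105438) (iv2 F161815)
theorem F396290 : act 7 n195212 = n105435 := d15_2 F313056 D195212 F314151
theorem F396291 : act 4 n195212 = n151386 := d17_9 (iv1 D151386) (iv5 F229694) F360953 (iv5 D148594) (iv4 D69640) D69641 (iv0 F333245) F333246 D195212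
theorem F396292 : act 5 n146356 = n195212 := d21_0 (iv1 D195212) (iv5 F333246) F333247 (iv1 D74027) (iv6 D33973) (iv5 D16425) (iv1 F43610) D31932 (iv6 F104826) D146356
theorem F396293 : act 6 n142670 = n195212 := d21_3 (iv5 F314619) (iv1 F224050) (iv5 F225556) (iv1 D195212) (iv6 D105424) F76766 F61044 (iv5 F55771) (iv6 F312360) (iv1 F105585)
theorem F396294 : act 2 n195212 = n105436 := d3_1 F396293 F317429 D142670
theorem F396295 : act 3 n195212 = n151282 := d7_1 F396293 (iv6 F278484) (iv3 F314490)
def n195213 : Q := act 3 n105425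
theorem D195213 : act 3 n105425 = n195213 := rfl
theorem F396296 : act 7 n195213 = n105445 := d8_2 (iv7 F355720) D195213 (iv3 D105445)
theorem F396297 : act 0 n114426 = n195213 := d20_4 (iv4 F343359) F343357 F346733 (iv3 F178462) (iv3 D195213) (iv4 F393531) (iv1 F393536) F319649 F359174 (iv1 F314192)
theorem F396298 : act 5 n195213 = n188785 := d17_3 F371491 F371488 F396297 F374881 F334629 F274615 (iv5 F321104) (iv0 D132761) (iv4 F213209)
def n195214 : Q := act 5 n105425
theorem D195214 : act 5 n105425 = n195214 := rfl
theorem F396299 : act 2 n195214 = n105442 := d2_1 D195214 (iv5 D105442) (iv2 F355719)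
theorem F396300 : act 3 n195214 = n188785 := d6_1 D195214 (iv5 F396298) (iv3 D195213)
theorem F396301 : act 7 n195214 = n105447 := d13_2 (iv7 F355720) D195214 (iv5 D105447)
theorem F396302 : act 0 n195214 = n114953 := d17_2 D105425 D195214 F318943 F104825 D68626 (iv0 F233151) F227744 F313056 F161816
def n195215 : Q := act 6 n105425
theorem D195215 : act 6 n105425 = n195215 := rfl
theorem F396303 : act 2 n195215 = n105443 := d3_1 D195215 (iv6 D105443) (iv2 F355719)
theorem F396304 : act 4 n195215 = n150279 := d10_1 D195215 (iv6 F393533) F393531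
theorem F396305 : act 7 n195215 = n146496 := d14_2 (iv7 F355720) D195215 (iv6 F355701) (iv7 F361631) (iv6 D105448)
theorem F396306 : act 5 n195215 = n107559 := d21_6 F51468 (iv1 F27603) D23776 D48748 D105425 D195215 (iv1 D107559) F78515 (iv6 D32417) D32415
theorem F396307 : act 0 n117351 = n195215 := d21_4 (iv5 F314417) F314415 (iv5 D117350) D117351 (iv6 D195215) D195214 F396302 F318943 (iv6 D68623) (iv1 F94387)
theorem F396308 : act 1 n114854 = n195215 := d17_6 (iv1 D61619) (iv5 D29196) F37052 D48740 D105415 (iv5 F340677) F396306 F319144 (iv4 D131300)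
def n195216 : Q := act 5 n105426
theorem D195216 : act 5 n105426 = n195216 := rfl
theorem F396309 : act 2 n195216 = n105447 := d2_1 D195216 (iv5 D105447) (iv2 F355716)
theorem F396310 : act 7 n195216 = n105442 := d13_2 (iv7 F355717) D195216 (iv5 D105442)
theorem F396311 : act 1 n195216 = n114953 := d17_6 F341088 F182660 D118333 F348034 (iv4 F235253) D195216 F318943 D146343 F339442
def n195217 : Q := act 7 n105429
theorem D195217 : act 7 n105429 = n195217 := rfl
theorem F396312 : act 2 n195217 = n128316 := d4_1 D195217 F317068 (iv2 F161827)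
theorem F396313 : act 3 n195217 = n145933 := d8_1 D195217 F359380 F267776
theorem F396314 : act 4 n195217 = n105432 := d11_1 D195217 (iv7 D105432) (iv4 F161828)
theorem F396315 : act 5 n195217 = n123178 := d13_1 D195217 (iv7 F348250) F348242
theorem F396316 : act 6 n195217 = n128308 := d14_1 D195217 (iv7 F333318) F145310 F83729 D105429
theorem F396317 : act 1 n146156 = n195217 := d15_1 (iv0 F317066) (iv7 D195217) F161827
theorem F396318 : act 1 n195217 = n127474 := d15_1 F396317 (iv7 F337882) F337879
def n195218 : Q := act 6 n105431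
theorem D195218 : act 6 n105431 = n195218 := rfl
theorem F396319 : act 2 n195218 = n114854 := d3_1 D195218 (iv6 D114854) (iv2 F335465)
theorem F396320 : act 3 n195218 = n114717 := d7_1 D195218 (iv6 D114717) (iv3 F335466)
theorem F396321 : act 4 n195218 = n107863 := d10_1 D195218 F309950 (iv4 F335467)
theorem F396322 : act 5 n195218 = n119026 := d12_1 D195218 F334844 (iv5 D71466) D71467 F161829
theorem F396323 : act 7 n195218 = n117351 := d14_2 (iv7 F335468) D195218 (iv6 D117351) F85353 D68684
theorem F396324 : act 1 n146496 = n195218 := d15_1 D146496 F396323 F183778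
theorem F396325 : act 1 n195218 = n105443 := d15_1 F396324 F353423 F282918
def n195219 : Q := act 4 n105435
theorem D195219 : act 4 n105435 = n195219 := rfl
theorem F396326 : act 2 n195219 = n106316 := d1_1 D195219 (iv4 F313057) (iv2 F314151)
theorem F396327 : act 3 n195219 = n118648 := d5_1 D195219 F349057 (iv3 F347296) F250288 (iv3 F314152)
theorem F396328 : act 6 n195219 = n133735 := d10_2 (iv6 F315499) D195219 (iv4 D133735)
theorem F396329 : act 7 n195219 = n151386 := d11_2 F396290 D195219 (iv4 F396291)
theorem F396330 : act 0 n195219 = n146574 := d20_1 D195219 (iv4 F319649) F222922 (iv1 F111825) (iv3 F333646) (iv4 D114796) (iv1 D52971) (iv4 F83690) F83689 D105435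
theorem F396331 : act 0 n105865 = n195219 := d20_10 (iv4 D195219) F314150 (iv4 F319422) F161819 (iv1 F83639) D52965 F323418 (iv1 F340169) F177570 (iv3 F162586)
def n195220 : Q := act 4 n105436
theorem D195220 : act 4 n105436 = n195220 := rfl
theorem F396332 : act 2 n195220 = n151386 := d1_1 D195220 (iv4 F396291) F396294
theorem F396333 : act 3 n195220 = n106306 := d5_1 D195220 F190358 (iv3 D117974) F318135 (iv3 F317428)
theorem F396334 : act 6 n195220 = n142671 := d10_2 (iv6 F317429) D195220 (iv4 D142671)
theorem F396335 : act 7 n195220 = n106316 := d11_2 (iv7 F315200) D195220 (iv4 F313057)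
theorem F396336 : act 0 n195220 = n105865 := d18_2 (iv1 F315198) D195220 (iv4 F335038) (iv5 D139958) (iv4 F349411) (iv0 D139491) (iv4 F320790) F324379 (iv5 D146619)
theorem F396337 : act 1 n195220 = n146574 := d18_6 F319705 (iv4 F185940) F233408 (iv4 D148650) (iv5 F315199) D195220 (iv4 F319649) F393536 F393532
def n195221 : Q := act 4 n105437
theorem D195221 : act 4 n105437 = n195221 := rfl
theorem F396338 : act 2 n195221 = n139942 := d1_1 D195221 (iv4 F359173) (iv2 F333249)
theorem F396339 : act 7 n195221 = n139943 := d11_2 (iv7 F333260) D195221 (iv4 F334971)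
theorem F396340 : act 0 n195221 = n139945 := d18_2 (iv1 F333262) D195221 F223177 (iv5 F223188) (iv4 F341044) (iv0 D146342) F104825 F326376 D117906
theorem F396341 : act 1 n195221 = n116017 := d18_6 (iv1 F393526) (iv4 D105446) (iv1 D48757) (iv4 F76782) D105437 D195221 F180762 D116021 (iv5 F393524)
def n195222 : Q := act 5 n105440
theorem D195222 : act 5 n105440 = n195222 := rfl
theorem F396342 : act 3 n195222 = n105442 := d6_1 D195222 (iv5 D105442) D105440
def n195223 : Q := act 6 n105440
theorem D195223 : act 6 n105440 = n195223 := rfl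
theorem F396343 : act 2 n195223 = n133431 := d3_1 D195223 (iv6 F214546) (iv2 F355722)
theorem F396344 : act 3 n195223 = n105443 := d7_1 D195223 (iv6 D105443) D105440
theorem F396345 : act 5 n195223 = n113007 := d21_6 F51819 (iv1 F40671) D32622 D70289 (iv1 F340924) D195223 (iv1 D113007) F82469 (iv6 D35955) (iv1 F51818)
theorem E103623 : n133428 = n113007 := ((c2_1 F396345 F214545 D133431 (iv2 F396343))).symm
theorem F396346 : act 2 n113007 = n62625 := (sb E103623 F214545)
theorem F396347 : act 3 n113007 = n157357 := (sb E103623 F360264)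
theorem F396348 : act 7 n113007 = n62624 := (sb E103623 (iv7 D133428))
theorem F396349 : act 7 n133426 = n195223 := d13_0 F396345 F396348 D133426
theorem F396350 : act 0 n195223 = n114862 := d21_1 (iv5 F396345) F178930 (iv6 D114398) F83766 (iv6 F179077) (iv5 D115004) (iv1 F175394) F103899 (iv6 F97673) (iv1 F175999)
theorem E103624 : n133423 = n113006 := (c15_4 (iv0 D113006) D113007 F396348 D133423)
theorem F396351 : act 2 n113006 = n62624 := (sb E103624 (iv2 D133423))
theorem F396352 : act 7 n113006 = n62625 := (sb E103624 (iv7 F214544))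
def n195224 : Q := act 0 n105442
theorem D195224 : act 0 n105442 = n195224 := rfl
theorem F396353 : act 5 n195224 = n117315 := d17_3 D48756 D105442 D195224 F183682 D117318 (iv0 F361406) F361403 (iv0 D105435) F76782
theorem F396354 : act 1 n105447 = n195224 := d15_0 (iv0 D195224) (iv7 F396310) F396309
theorem F396355 : act 2 n114953 = n195224 := d2_3 F396353 F183681 (iv5 F318943)
theorem F396356 : act 3 n114765 = n195224 := d6_3 F396353 (iv3 F338669) (iv5 F178862)
theorem F396357 : act 7 n195224 = n188777 := d8_2 F338666 F396356 F374845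
theorem F396358 : act 1 n195214 = n188777 := d15_1 (iv0 F396302) (iv7 F396357) (iv2 F396355)
theorem F396359 : act 1 n188777 = n195216 := d15_1 F396358 F396310 (iv2 F396299)
def n195225 : Q := act 1 n105442
theorem D195225 : act 1 n105442 = n195225 := rfl
theorem F396360 : act 1 n195225 = n105447 := d15_1 D195225 (iv7 F396301) F396299
theorem F396361 : act 7 n195225 = n114953 := d15_2 (iv0 D195224) D195225 F396355
theorem F396362 : act 5 n146345 = n195225 := d21_6 F396322 F334843 F157311 (iv6 F291714) F314437 (iv6 F232266) (iv1 D195225) (iv5 D105442) D105443 (iv1 F396325)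
theorem F396363 : act 3 n195225 = n105461 := d6_1 F396362 F177325 (iv3 F356669)
theorem F396364 : act 6 n195225 = n113784 := d12_2 (iv6 F232266) F396362 F177036 (iv6 D94234) F321217
theorem F396365 : act 2 n188777 = n195225 := d3_3 F396364 F288087 D188777
def n195226 : Q := act 4 n105442
theorem D195226 : act 4 n105442 = n195226 := rfl
def n195227 : Q := act 6 n105442
theorem D195227 : act 6 n105442 = n195227 := rfl
def n195228 : Q := act 1 n105445
theorem D195228 : act 1 n105445 = n195228 := rfl
theorem F396366 : act 7 n195228 = n114426 := d15_2 (iv0 F371522) D195228 (iv2 F178463)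
theorem F396367 : act 5 n195228 = n158546 := d17_7 D75624 D158540 (iv1 F249725) (iv5 F331833) (iv4 F371518) (iv5 F371519) D195228 (iv0 D158546) (iv4 D75626)
theorem F396368 : act 6 n186962 = n195228 := d21_9 F371519 (iv1 D187795) F139405 (iv6 D90156) F65565 (iv6 F347697) F347696 D90673 F368679 (iv1 D195228)
theorem F396369 : act 3 n195228 = n105449 := d7_1 F396368 F234966 F368680
theorem F396370 : act 4 n195228 = n193481 := d10_1 F396368 F389997 (iv4 F368676)
def n195229 : Q := act 2 n105445
theorem D195229 : act 2 n105445 = n195229 := rfl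
theorem F396371 : act 3 n195229 = n149662 := d0_2 D105445 D195229 (iv2 F355721) (iv3 F278217) F355716
theorem F396372 : act 5 n195229 = n188786 := d2_2 (iv5 F371519) D195229 (iv2 F374872)
theorem F396373 : act 6 n195229 = n189625 := d3_2 F365210 D195229 (iv2 F377169)
theorem F396374 : act 4 n186990 = n195229 := d18_3 (iv1 F163506) (iv4 F390393) (iv1 F396169) F396372 F374871 F249704 D158531 F371358 F371354
theorem F396375 : act 1 n114426 = n195229 := d18_8 (iv1 D188786) F339468 (iv1 F384530) F384529 (iv5 D106356) D106355 (iv0 F240922) F240921 F396372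
def n195230 : Q := act 4 n105445
theorem D195230 : act 4 n105445 = n195230 := rfl
theorem F396376 : act 2 n195230 = n186990 := d1_1 D195230 F396374 (iv2 D195229)
theorem F396377 : act 6 n195230 = n146932 := d10_2 F365210 D195230 (iv4 F365208)
theorem F396378 : act 5 n195230 = n193395 := d16_3 (iv4 F371518) (iv5 F371519) D195230 (iv4 D193395) (iv5 D101575) F155181 (iv5 F308593) F308594 F331834
theorem F396379 : act 0 n195230 = n195189 := d18_2 (iv1 D195228) D195230 F396166 (iv5 F363408) (iv4 D133160) F322818 (iv4 F208633) (iv0 F362739) (iv5 F396367)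
theorem F396380 : act 1 n195230 = n186890 := d18_6 F371364 F371362 F331836 (iv4 F371518) (iv5 F371519) D195230 F368421 (iv0 D106352) D106356
def n195231 : Q := act 6 n105446
theorem D195231 : act 6 n105446 = n195231 := rfl
theorem F396381 : act 2 n195231 = n177163 := d3_1 D195231 (iv6 D177163) (iv2 F355714)
theorem F396382 : act 4 n195231 = n105448 := d10_1 D195231 (iv6 D105448) D105446
theorem F396383 : act 7 n195231 = n150314 := d14_2 F393534 D195231 (iv6 D150314) (iv7 F236499) (iv6 F393533)
theorem F396384 : act 0 n195231 = n127149 := d21_4 F359201 F319262 (iv5 F355715) D195231 F321281 (iv5 F321568) F334136 (iv5 F333162) F333163 D139965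
def n195232 : Q := act 4 n105447
theorem D195232 : act 4 n105447 = n195232 := rfl
def n195233 : Q := act 6 n105447
theorem D195233 : act 6 n105447 = n195233 := rfl
theorem F396385 : act 3 n195233 = n130819 := d7_1 D195233 F371521 F371520
theorem F396386 : act 5 n189347 = n195233 := d21_2 D135615 (iv1 F376449) (iv6 D195233) (iv1 F396360) F396364 F177036 F373764 F373763 F373765 (iv1 D135614)
theorem F396387 : act 0 n159677 = n195233 := d21_4 F85306 (iv1 F55243) (iv5 F114527) D159677 (iv6 D195233) (iv5 D105447) (iv1 D48757) (iv5 F76635) (iv6 D48698) D48695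
def n195234 : Q := act 5 n105448
theorem D195234 : act 5 n105448 = n195234 := rfl
theorem F396388 : act 2 n195234 = n151662 := d2_1 D195234 (iv5 F361626) (iv2 F361629)
theorem F396389 : act 3 n195234 = n194141 := d6_1 D195234 (iv5 D194141) (iv3 F365209)
theorem F396390 : act 6 n195234 = n189347 := d12_2 D105448 D195234 F396386 (iv6 D195233) (iv5 D105447)
theorem F396391 : act 7 n195234 = n151657 := d13_2 (iv7 F361631) D195234 F355700
theorem F396392 : act 4 n195234 = n151445 := d16_2 F396382 D195234 (iv5 F238182) (iv4 F355735) F355736 F282906 D181743 (iv7 F348031) (iv2 F396381)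
theorem F396393 : act 0 n195234 = n148009 := d17_2 (iv1 F361632) D195234 (iv5 D148009) (iv4 D69328) D69329 (iv0 F314625) (iv5 F102727) (iv0 F314488) F323334
theorem F396394 : act 0 n148028 = n195234 := d21_1 D148028 (iv5 D195234) (iv6 D105448) (iv1 D48757) (iv6 D23780) (iv5 D11136) D11133 D23771 D48739 (iv1 F314501)
def n195235 : Q := act 6 n105451
theorem D195235 : act 6 n105451 = n195235 := rfl
theorem F396395 : act 2 n195235 = n105454 := d3_1 D195235 (iv6 D105454) D105451
theorem F396396 : act 3 n195235 = n114930 := d7_1 D195235 (iv6 D114930) (iv3 F161841)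
theorem F396397 : act 4 n195235 = n150319 := d10_1 D195235 (iv6 F361993) F334803
theorem F396398 : act 0 n195235 = n114834 := d21_10 F367181 (iv1 D102938) (iv5 F293283) F293284 F292195 F326546 (iv5 F326545) D187765 F371433 D195235
theorem F396399 : act 1 n195235 = n194195 := d15_1 (iv0 F396398) F392342 F377451
def n195236 : Q := act 4 n105453
theorem D195236 : act 4 n105453 = n195236 := rfl
theorem F396400 : act 7 n195236 = n114988 := d11_2 (iv7 F161848) D195236 (iv4 D114988)
theorem F396401 : act 0 n195236 = n193574 := d17_0 (iv5 D193574) (iv1 D101938) D101940 (iv4 F275060) F275061 F272039 (iv5 F371439) F371441 D195236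
theorem F396402 : act 1 n195236 = n187683 := d18_6 (iv1 D152354) F311750 D83832 (iv4 F334802) D105453 D195236 F371181 D187685 F371183
theorem F396403 : act 3 n195236 = n183493 := d20_9 (iv4 F377721) (iv1 D189779) F146158 (iv3 F70513) D96164 (iv3 F374930) F374770 F334805 D195236 (iv1 F345940)
def n195237 : Q := act 7 n105454
theorem D195237 : act 7 n105454 = n195237 := rfl
theorem F396404 : act 3 n195237 = n105466 := d8_1 D195237 (iv7 D105466) (iv3 F161849)
theorem F396405 : act 4 n195237 = n150320 := d11_1 D195237 F345566 F334804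
theorem F396406 : act 5 n195237 = n107570 := d13_1 D195237 (iv7 F171487) F171486
theorem F396407 : act 6 n195237 = n114993 := d14_1 D195237 (iv7 D114993) (iv6 D53057) (iv7 F161774) D105454
theorem F396408 : act 1 n194195 = n195237 := d15_1 F396399 (iv7 D195237) (iv2 F396395)
theorem F396409 : act 1 n195237 = n114834 := d15_1 F396408 F377443 (iv2 F392341)
theorem F396410 : act 0 n114456 = n107570 := d21_10 (iv5 F396406) (iv1 F396408) (iv5 D194195) D194196 F392348 F371609 (iv5 D90594) (iv1 F114355) D76302 (iv6 F178509)
theorem F396411 : act 1 n189681 = n107570 := d15_0 (iv0 F396410) (iv7 F365894) (iv2 F377382)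
def n195238 : Q := act 4 n105460
theorem D195238 : act 4 n105460 = n195238 := rfl
theorem F396412 : act 2 n195238 = n114954 := d1_1 D195238 (iv4 D114954) F161868
theorem F396413 : act 3 n195238 = n129100 := d5_1 D195238 (iv4 D129100) (iv3 F328644) (iv4 F338631) (iv3 F338636)
theorem F396414 : act 7 n195238 = n114957 := d11_2 F161869 D195238 (iv4 D114957)
theorem F396415 : act 0 n195238 = n106383 := d17_0 F396122 (iv1 D195179) (iv5 D105356) F76647 F36996 D23782 D48767 F161858 D195238
theorem F396416 : act 1 n195238 = n106367 := d18_6 F178208 F177782 (iv1 F178447) F161750 (iv5 F161857) D195238 (iv4 D106367) D106366 F178205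
def n195239 : Q := act 6 n105460
theorem D195239 : act 6 n105460 = n195239 := rfl
theorem F396417 : act 2 n195239 = n114955 := d3_1 D195239 (iv6 D114955) F161868
theorem F396418 : act 3 n195239 = n130646 := d7_1 D195239 (iv6 F338635) (iv3 F338636)
theorem F396419 : act 5 n195239 = n157729 := d12_1 D195239 (iv6 D157729) (iv5 D75152) D75153 (iv5 F161857)
theorem F396420 : act 7 n195239 = n113783 := d14_2 F161869 D195239 (iv6 D113783) F161506 F177327
def n195240 : Q := act 4 n105461
theorem D195240 : act 4 n105461 = n195240 := rfl
theorem F396421 : act 2 n195240 = n114957 := d1_1 D195240 (iv4 D114957) F161872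
theorem F396422 : act 6 n195240 = n113436 := d10_2 (iv6 F177326) D195240 F176623
theorem F396423 : act 7 n195240 = n114954 := d11_2 (iv7 F161871) D195240 (iv4 D114954)
theorem F396424 : act 0 n195240 = n106367 := d17_0 (iv5 F396115) (iv1 F396125) F177302 F83106 F40360 F37058 D48762 D105461 D195240
theorem F396425 : act 1 n195240 = n106383 := d18_6 F178033 (iv4 F178999) (iv1 F179002) F178445 (iv5 F177325) D195240 (iv4 D106383) F163434 F163430
theorem F396426 : act 3 n195240 = n190559 := d19_3 D113980 (iv5 F177325) D195240 (iv1 D190559) D190560 (iv4 F380140) (iv3 D188762) (iv1 D92751) D92753 F292182 (iv3 F157902) F289787 (iv5 D56723) (iv4 F58396) (iv3 F126266) (iv1 F335615) D186487 (iv4 F336819) F177311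
theorem F396427 : act 4 n195225 = n191626 := d5_2 (iv4 D195240) (iv3 F396363) (iv3 D191626) (iv4 F384033) (iv3 F396426)
def n195241 : Q := act 0 n105462
theorem D195241 : act 0 n105462 = n195241 := rfl
theorem F396428 : act 4 n195241 = n106168 := d18_3 (iv1 D105461) D105462 D195241 F163170 (iv4 F161725) F178230 (iv4 D113997) (iv0 F177322) (iv5 F177325)
theorem F396429 : act 1 n105475 = n195241 := d15_0 (iv0 D195241) F161874 (iv2 F161902)
theorem F396430 : act 2 n114959 = n195241 := d1_3 F396428 F178294 (iv4 F179049)
theorem F396431 : act 7 n114960 = n195241 := d11_0 F396428 (iv7 F178295) (iv4 F179052)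
def n195242 : Q := act 1 n105462
theorem D195242 : act 1 n105462 = n195242 := rfl
theorem F396432 : act 1 n195242 = n105475 := d15_1 D195242 F161903 (iv2 F161873)
theorem F396433 : act 7 n195242 = n114959 := d15_2 (iv0 D195241) D195242 F396430
theorem F396434 : act 4 n195242 = n106169 := d18_7 (iv1 D23938) (iv4 F27674) D34842 (iv4 F177788) D48762 D105462 D195242 F163171 (iv5 D49069)
theorem F396435 : act 2 n114960 = n195242 := d1_3 F396434 (iv2 F178297) (iv4 F179052)
theorem F396436 : act 6 n113352 = n195242 := d10_0 F396434 F178298 (iv4 F176549)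
theorem F396437 : act 5 n131962 = n195242 := d17_3 (iv1 F177633) D113977 F347558 F396434 (iv5 F205539) F205542 (iv5 D106270) (iv0 D49107) (iv4 F77527)
theorem F396438 : act 3 n195242 = n131963 := d6_1 F396437 (iv5 D131963) D131962
def n195243 : Q := act 3 n105462
theorem D195243 : act 3 n105462 = n195243 := rfl
theorem F396439 : act 4 n195243 = n183493 := d5_2 D105462 D195243 (iv3 F396403) (iv4 D195236) F161847
theorem F396440 : act 7 n195243 = n115001 := d8_2 (iv7 F161874) D195243 (iv3 D115001)
def n195244 : Q := act 5 n105462
theorem D195244 : act 5 n105462 = n195244 := rfl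
theorem F396441 : act 2 n195244 = n114962 := d2_1 D195244 (iv5 D114962) (iv2 F161873)
theorem F396442 : act 6 n195244 = n131969 := d12_2 (iv6 F361702) D195244 (iv5 D131969) F96525 D128908
theorem F396443 : act 7 n195244 = n115002 := d13_2 (iv7 F161874) D195244 (iv5 D115002)
theorem F396444 : act 1 n195244 = n106112 := d17_6 (iv1 D48707) F36996 D23781 D48762 D105462 D195244 (iv5 D106112) (iv0 F177807) (iv4 D105365)
def n195245 : Q := act 6 n105470
theorem D195245 : act 6 n105470 = n195245 := rfl
theorem F396445 : act 2 n195245 = n137933 := d3_1 D195245 F353553 F336781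
theorem F396446 : act 4 n195245 = n105472 := d10_1 D195245 (iv6 D105472) D105470
theorem F396447 : act 5 n195245 = n137465 := d12_1 D195245 F343281 F331211 D99640 (iv5 F356337)
theorem F396448 : act 7 n137878 = n195245 := d13_0 F396447 F343282 D137878
theorem F396449 : act 1 n117431 = n195245 := d17_6 F318370 (iv5 F318372) F314488 F102727 (iv4 F220380) (iv5 F329161) F396447 (iv0 F343283) (iv4 F343287)
theorem F396450 : act 0 n137930 = n195245 := d20_1 (iv4 F354832) F396446 F161898 F161859 F324995 (iv4 D67099) D67097 D143212 F361806 F341544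
def n195246 : Q := act 1 n105471
theorem D195246 : act 1 n105471 = n195246 := rfl
theorem F396451 : act 1 n195246 = n114929 := d15_1 D195246 (iv7 F259188) (iv2 F259187)
theorem F396452 : act 7 n195246 = n114937 := d15_2 (iv0 F371394) D195246 (iv2 F371392)
theorem F396453 : act 5 n195246 = n118758 := d17_7 (iv1 F383375) F369021 (iv1 F290048) (iv5 F356337) (iv4 D105470) D105471 D195246 F361658 (iv4 F274290)
theorem F396454 : act 4 n195246 = n187749 := d17_9 (iv1 F371395) (iv5 D114929) F258990 (iv5 F229771) F335971 F183723 F258992 D105471 D195246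
theorem F396455 : act 2 n114936 = n195246 := d1_3 F396454 F371392 (iv4 F357316)
theorem F396456 : act 6 n187748 = n195246 := d10_0 F396454 (iv6 D187749) D187748
def n195247 : Q := act 5 n105472
theorem D195247 : act 5 n105472 = n195247 := rfl
theorem F396457 : act 2 n195247 = n151631 := d2_1 D195247 F238501 F259143
theorem F396458 : act 3 n195247 = n105476 := d6_1 D195247 (iv5 D105476) (iv3 F161898)
theorem F396459 : act 7 n195247 = n151632 := d13_2 F258983 D195247 (iv5 F355730)
theorem F396460 : act 0 n195247 = n151442 := d17_2 (iv1 F354841) D195247 (iv5 D151442) (iv4 F330357) F335447 F225856 (iv5 F225964) F368745 (iv4 F368738)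

end Cfsg.Agent.Helper17.ONTC
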